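import Mathlib
import Cfsg.Agent.Lib.CentFour75Count
import Cfsg.Agent.Lib.CentFour75Arith
import Cfsg.Agent.Lib.CentFour75Perm
import Cfsg.Agent.Lib.SimpleOrder

/-!
The index of the normaliser of `uPart`: both parts cannot be non-trivial.
-/

set_option autoImplicit false
set_option linter.style.haveILetI false
set_option linter.unusedSectionVars false

namespace Cfsg.Agent.CentFour75

open Subgroup

universe u

variable {G : Type u} [Group G] [Finite G] {w τ : G}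

/-- The normaliser of `uPart`. -/
def nSub (w τ : G) : Subgroup G := normalizer ((uPart w τ : Subgroup G) : Set G)

theorem Hyp.w_tau_conj (h : Hyp w τ) : w * τ * w⁻¹ = w ^ 2 * τ := by
  rw [mul_assoc, h.tau_w_inv, pow_two, mul_assoc]

theorem Hyp.tau_core (h : Hyp w τ) {k : G} (hk : k ∈ uPart w τ) : τ * k * τ⁻¹ = k := by
  rw [← (mem_uPart.1 hk).2.eq, mul_inv_cancel_right]

theorem Hyp.mem_nSub_of (h : Hyp w τ) {c : G} (hc : Commute c (w ^ 2)) : c ∈ nSub w τ := by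
  have fwd : ∀ c : G, Commute c (w ^ 2) → ∀ k ∈ uPart w τ, c * k * c⁻¹ ∈ uPart w τ := by
    intro c hc k hk
    obtain ⟨a, ha, l, hl⟩ := h.decomp hc
    have key : ∀ z : G, (z = k ∨ z = k⁻¹) → a * z * a⁻¹ ∈ uPart w τ := by
      intro z hz
      have hzu : z ∈ uPart w τ := by rcases hz with rfl | rfl; exacts [hk, inv_mem hk]
      rw [(h.core_comm ha (mem_uPart.1 hzu).1).eq, mul_inv_cancel_right]
      exact hzu
    have hl' : w ^ l * k * (w ^ l)⁻¹ = k ∨ w ^ l * k * (w ^ l)⁻¹ = k⁻¹ := by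
      by_cases he : Even l
      · left
        rw [((h.w_zpow_core l (mem_uPart.1 hk).1).1 he).eq, mul_inv_cancel_right]
      · exact Or.inr ((h.w_zpow_core l (mem_uPart.1 hk).1).2 he)
    rcases hl with e | e
    · rw [e, show a * w ^ l * k * (a * w ^ l)⁻¹ = a * (w ^ l * k * (w ^ l)⁻¹) * a⁻¹ by group]
      exact key _ hl'
    · rw [e, show a * (w ^ l * τ) * k * (a * (w ^ l * τ))⁻¹ =
          a * (w ^ l * (τ * k * τ⁻¹) * (w ^ l)⁻¹) * a⁻¹ by group, h.tau_core hk]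
      exact key _ hl'
  rw [nSub, mem_normalizer_iff]
  refine fun k => ⟨fwd c hc k, fun hk => ?_⟩
  have := fwd c⁻¹ hc.inv_left _ hk
  rwa [show c⁻¹ * (c * k * c⁻¹) * c⁻¹⁻¹ = k by group] at this

theorem Hyp.hSub_le_nSub (h : Hyp w τ) : hSub w τ ≤ nSub w τ := fun x hx =>
  Subgroup.centralizer_le_normalizer _ hx

theorem Hyp.conj_mem_hSub (h : Hyp w τ) {n x : G} (hn : n ∈ nSub w τ) (hx : x ∈ hSub w τ) :
    n * x * n⁻¹ ∈ hSub w τ := by
  refine mem_hSub.2 fun k hk => ?_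
  have hk' : n⁻¹ * k * n ∈ uPart w τ := by
    have := (mem_normalizer_iff.1 (inv_mem hn) k).1 hk
    rwa [inv_inv] at this
  have := mem_hSub.1 hx _ hk'
  show n * x * n⁻¹ * k = k * (n * x * n⁻¹)
  calc n * x * n⁻¹ * k = n * (x * (n⁻¹ * k * n)) * n⁻¹ := by group
    _ = n * (n⁻¹ * k * n * x) * n⁻¹ := by rw [this.eq]
    _ = k * (n * x * n⁻¹) := by group

theorem Hyp.card_nSub (h : Hyp w τ) (hU : uPart w τ ≠ ⊥) :
    2 * Nat.card (hSub w τ) ≤ Nat.card (nSub w τ) := by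
  obtain ⟨d, hd⟩ := card_dvd_of_le h.hSub_le_nSub
  have hw : w ∈ nSub w τ := h.mem_nSub_of (Commute.self_pow w 2)
  have hne : d ≠ 1 := fun e => h.four_notMem_hSub hU h.ord (by
    rw [e, mul_one] at hd
    rwa [Subgroup.eq_of_le_of_card_ge h.hSub_le_nSub hd.le])
  have hd0 : d ≠ 0 := fun e => by rw [e, mul_zero] at hd; exact Nat.card_pos.ne' hd
  rw [hd, mul_comm 2]
  exact Nat.mul_le_mul_left _ (by omega)

theorem Hyp.hSub_bound (h : Hyp w τ) (hU : uPart w τ ≠ ⊥) :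
    12 * ((Nat.card (uPart w τ) : ℤ) * (Nat.card (uPart w (w * τ)) : ℤ) ^ 3) ≤
      (Nat.card (hSub w τ) : ℤ) := by
  obtain ⟨a, b, c, ε, ha, hb, hc, hε, hrel, heq⟩ := h.hSub_equation hU
  have hb' := mul_le_mul_of_nonneg_left (four_bound ha hb hc hε hrel)
    (Nat.cast_nonneg (Nat.card (hSub w τ)) : (0 : ℤ) ≤ _)
  have habc : 0 < 8 * (a * b * c) := by positivity
  refine le_of_mul_le_mul_right (a := 8 * (a * b * c)) ?_ habc
  linarith

/-- Conjugation into the Sylow subgroup inside the normaliser. -/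
theorem Hyp.conj_into (h : Hyp w τ) {y : G} (hy : y ∈ nSub w τ) {k : ℕ} (hyo : orderOf y = 2 ^ k) :
    ∃ n ∈ nSub w τ, ∃ z ∈ zpowers w, n * y * n⁻¹ = z ∨ n * y * n⁻¹ = z * τ := by
  haveI : Fact (Nat.Prime 2) := ⟨Nat.prime_two⟩
  obtain ⟨P, h8, hw, hτ, hc, -⟩ := h.setting
  have hPN : (P : Subgroup G) ≤ nSub w τ := by
    rw [← hc, closure_le]
    rintro x (rfl | rfl)
    exacts [h.mem_nSub_of (Commute.self_pow x 2), h.mem_nSub_of h.tau_comm]
  obtain ⟨Q, hQ⟩ := (IsPGroup.of_card (p := 2) (n := k)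
    (by rw [Nat.card_zpowers, Subgroup.orderOf_mk, hyo] :
      Nat.card (zpowers (⟨y, hy⟩ : nSub w τ)) = 2 ^ k)).exists_le_sylow
  obtain ⟨n, hn⟩ := MulAction.exists_smul_eq (nSub w τ) Q (P.subtype hPN)
  have hmem : n * ⟨y, hy⟩ * n⁻¹ ∈ ((P.subtype hPN : Sylow 2 (nSub w τ)) : Subgroup (nSub w τ)) := by
    rw [← hn, Sylow.coe_subgroup_smul]
    exact (Subgroup.mem_map_iff_mem (MulAut.conj n).injective).2 (hQ (mem_zpowers _))
  rw [Sylow.coe_subtype, mem_subgroupOf] at hmem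
  rcases h.mem_syl hc h8 hmem with hm | hm
  · exact ⟨n, n.2, _, hm, Or.inl rfl⟩
  · refine ⟨n, n.2, _, hm, Or.inr ?_⟩
    rw [mul_assoc (_ : G) τ τ, h.tau_mul_self, mul_one]
    rfl

theorem Hyp.fix_w (h : Hyp w τ) (hU : uPart w τ ≠ ⊥) {g : G} (hg : g⁻¹ * w * g ∈ nSub w τ) :
    g ∈ nSub w τ := by
  have ho : orderOf (g⁻¹ * w * g) = 2 ^ 2 := by
    rw [show g⁻¹ * w * g = MulAut.conj g⁻¹ w by simp, MulEquiv.orderOf_eq, h.ord]; rfl
  obtain ⟨n, hn, z, hz, e⟩ := h.conj_into hg ho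
  have hzo : orderOf (n * (g⁻¹ * w * g) * n⁻¹) = 4 := by
    rw [show n * (g⁻¹ * w * g) * n⁻¹ = MulAut.conj n (g⁻¹ * w * g) by simp, MulEquiv.orderOf_eq, ho]
    rfl
  have hwN : w ∈ nSub w τ := h.mem_nSub_of (Commute.self_pow w 2)
  obtain ⟨n', hn', e'⟩ : ∃ n' ∈ nSub w τ, n' * (g⁻¹ * w * g) * n'⁻¹ = w := by
    rcases e with e | e
    · rcases h.pow_cases hz with hzc | hzc | hzc | hzc <;> rw [hzc] at e
      · rw [e, orderOf_one] at hzo; omega
      · exact ⟨n, hn, e⟩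
      · rw [e, h.t_order] at hzo; omega
      · refine ⟨τ * n, mul_mem (h.mem_nSub_of h.tau_comm) hn, ?_⟩
        rw [show τ * n * (g⁻¹ * w * g) * (τ * n)⁻¹ = τ * (n * (g⁻¹ * w * g) * n⁻¹) * τ⁻¹ by group, e,
          ← conj_inv, h.rel, inv_inv]
    · rw [e, h.zpow_tau_order hz] at hzo; omega
  have hcw : Commute (n' * g⁻¹) w := by
    show _ = _
    nth_rewrite 2 [← e']
    group
  have := zpowers_le.2 hwN (h.cent_w hcw)
  have h2 := mul_mem (inv_mem hn') this
  rw [inv_mul_cancel_left] at h2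
  exact inv_mem_iff.1 h2

theorem Hyp.wtau_notMem (h : Hyp w τ) (hU : uPart w τ ≠ ⊥) : w * τ ∉ hSub w τ := by
  refine h.not_mem_of_inverts hU fun k hk => ?_
  rw [show w * τ * k * (w * τ)⁻¹ = w * (τ * k * τ⁻¹) * w⁻¹ by group, h.tau_core hk,
    h.w_core k (mem_uPart.1 hk).1]

/-- A conjugate of `w ^ 2` in the normaliser is the conjugate either in `hSub` or of `w * τ`. -/
theorem Hyp.fix_t (h : Hyp w τ) (hU : uPart w τ ≠ ⊥) {g : G} (hg : g⁻¹ * w ^ 2 * g ∈ nSub w τ)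
    (hgN : g ∉ nSub w τ) : ∃ n ∈ nSub w τ, (g * n)⁻¹ * w ^ 2 * (g * n) = w * τ := by
  have ho : orderOf (g⁻¹ * w ^ 2 * g) = 2 ^ 1 := by
    rw [show g⁻¹ * w ^ 2 * g = MulAut.conj g⁻¹ (w ^ 2) by simp, MulEquiv.orderOf_eq, h.t_order, pow_one]
  obtain ⟨n, hn, z, hz, e⟩ := h.conj_into hg ho
  have hzo : orderOf (n * (g⁻¹ * w ^ 2 * g) * n⁻¹) = 2 := by
    rw [show n * (g⁻¹ * w ^ 2 * g) * n⁻¹ = MulAut.conj n (g⁻¹ * w ^ 2 * g) by simp, MulEquiv.orderOf_eq,
      ho, pow_one]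
  have key : ∀ n' ∈ nSub w τ, n' * (g⁻¹ * w ^ 2 * g) * n'⁻¹ = w ^ 2 → False := by
    intro n' hn' e'
    have hct : Commute (n' * g⁻¹) (w ^ 2) := by
      show _ = _
      nth_rewrite 2 [← e']
      group
    have h2 := mul_mem (inv_mem hn') (h.mem_nSub_of hct)
    rw [inv_mul_cancel_left] at h2
    exact hgN (inv_mem_iff.1 h2)
  have key' : n * (g⁻¹ * w ^ 2 * g) * n⁻¹ ∈ hSub w τ → False := by
    intro hm
    obtain ⟨m, hm'⟩ := isConj_iff.1 (h.one_class hU ⟨_, hm⟩ ⟨w ^ 2, h.fourFun_mem_hSub 1⟩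
      (by rw [← Subgroup.orderOf_coe]; exact hzo) (by rw [← Subgroup.orderOf_coe]; exact h.t_order))
    have hm'' := congrArg Subtype.val hm'
    refine key ((m : G) * n) (mul_mem (h.hSub_le_nSub m.2) hn) ?_
    rw [show (m : G) * n * (g⁻¹ * w ^ 2 * g) * ((m : G) * n)⁻¹ =
      m * (n * (g⁻¹ * w ^ 2 * g) * n⁻¹) * (m : G)⁻¹ by group]
    exact hm''
  rcases e with e | e
  · exfalso
    rcases h.pow_cases hz with hzc | hzc | hzc | hzc <;> rw [hzc] at e
    · rw [e, orderOf_one] at hzo; omega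
    · rw [e, h.ord] at hzo; omega
    · exact key n hn e
    · rw [e, orderOf_inv, h.ord] at hzo; omega
  · rcases h.pow_cases hz with hzc | hzc | hzc | hzc <;> rw [hzc] at e
    · exact (key' (by rw [e, one_mul]; exact h.fourFun_mem_hSub 2)).elim
    · refine ⟨n⁻¹, inv_mem hn, ?_⟩
      rw [show (g * n⁻¹)⁻¹ * w ^ 2 * (g * n⁻¹) = n * (g⁻¹ * w ^ 2 * g) * n⁻¹ by group, e]
    · exact (key' (by rw [e]; exact h.fourFun_mem_hSub 3)).elim
    · refine ⟨n⁻¹ * w⁻¹, mul_mem (inv_mem hn) (inv_mem (h.mem_nSub_of (Commute.self_pow w 2))), ?_⟩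
      rw [show (g * (n⁻¹ * w⁻¹))⁻¹ * w ^ 2 * (g * (n⁻¹ * w⁻¹)) =
        w * (n * (g⁻¹ * w ^ 2 * g) * n⁻¹) * w⁻¹ by group, e,
        show w * (w⁻¹ * τ) * w⁻¹ = τ * w⁻¹ by group, h.tau_w_inv]

theorem Hyp.odd_uPart (h : Hyp w τ) : Odd (Nat.card (uPart w τ)) :=
  h.odd_core.of_dvd_nat (card_dvd_of_le inf_le_left)

/-- The centraliser of `w ^ 2` in a conjugate of the normaliser has two-part four. -/
theorem Hyp.orbit_mod (h : Hyp w τ) (hU : uPart w τ ≠ ⊥) {g : G} (hg : g⁻¹ * w ^ 2 * g = w * τ) :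
    Nat.card (MulAction.orbit (centralizer ({w ^ 2} : Set G)) (g : G ⧸ nSub w τ)) % 4 = 2 := by
  haveI : Fact (Nat.Prime 2) := ⟨Nat.prime_two⟩
  set C := centralizer ({w ^ 2} : Set G) with hC
  set N := nSub w τ with hN
  set D := (centralizer ({w * τ} : Set G) ⊓ N : Subgroup G) with hD
  have hdiv : 4 ∣ Nat.card D := by
    have hle : fourSub h.swap ≤ D := by
      intro x hx
      exact ⟨mem_centralizer_singleton_iff.2 hx.2.1.eq, h.mem_nSub_of hx.1⟩
    exact h.swap.card_fourSub ▸ card_dvd_of_le hle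
  have hndiv : ¬ 8 ∣ Nat.card D := by
    intro hd
    obtain ⟨R, hR⟩ := Sylow.exists_subgroup_card_pow_prime 2 (n := 3) (show 2 ^ 3 ∣ _ from hd)
    have hwtD : w * τ ∈ D := ⟨mem_centralizer_singleton_iff.2 rfl,
      h.mem_nSub_of (((Commute.refl w).pow_right 2).mul_left h.tau_comm)⟩
    set R' := R.map D.subtype with hR'
    have hR'c : Nat.card R' = 2 ^ 3 := by
      rw [Nat.card_congr (equivMapOfInjective _ _ (subtype_injective _)).toEquiv.symm, hR]
    obtain ⟨Q, hQ⟩ := (IsPGroup.of_card hR'c).exists_le_sylow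
    obtain ⟨P, h8, hw, hτ, hc, -⟩ := h.setting
    obtain ⟨d, hd'⟩ := MulAction.exists_smul_eq G P Q
    have hQR : R' = (Q : Subgroup G) := Subgroup.eq_of_le_of_card_ge hQ (by
      rw [hR'c, ← hd', Sylow.card_eq_multiplicity, ← Sylow.card_eq_multiplicity P]
      exact le_of_eq h8)
    have hRD : ∀ x ∈ R', x ∈ D := fun x hx => Subgroup.map_subtype_le R hx
    -- `w * τ` is a central element of this Sylow subgroup
    have hiQ : w * τ ∈ (Q : Subgroup G) := by
      have hnorm : zpowers (w * τ) ≤ normalizer ((Q : Subgroup G) : Set G) := by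
        rw [zpowers_le]
        refine Subgroup.centralizer_le_normalizer _ ?_
        rw [mem_centralizer_iff]
        intro x hx
        rw [SetLike.mem_coe, ← hQR] at hx
        exact mem_centralizer_singleton_iff.1 (hRD x hx).1
      have hp : IsPGroup 2 (zpowers (w * τ)) :=
        IsPGroup.of_card (n := 1) (by rw [Nat.card_zpowers, h.swap.tau, pow_one])
      exact (Q.3 (hp.to_sup_of_normal_right' Q.isPGroup' hnorm) le_sup_right).le
        (le_sup_left (a := zpowers (w * τ)) (mem_zpowers _))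
    have hR8 : ∀ x ∈ R', x ∈ N := fun x hx => (hRD x hx).2
    have hdN : ∀ x ∈ (P : Subgroup G), d * x * d⁻¹ ∈ N ∧ Commute (d * x * d⁻¹) (w * τ) := by
      intro x hx
      have : d * x * d⁻¹ ∈ R' := by
        rw [hQR, ← hd', Sylow.coe_subgroup_smul]
        exact (Subgroup.mem_map_iff_mem (MulAut.conj d).injective).2 hx
      exact ⟨(hRD _ this).2, mem_centralizer_singleton_iff.1 (hRD _ this).1⟩
    set i := d⁻¹ * (w * τ) * d with hi
    have hiP : i ∈ (P : Subgroup G) := by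
      rw [← hd', Sylow.coe_subgroup_smul] at hiQ
      obtain ⟨x, hx, e⟩ := hiQ
      have e' : d * x * d⁻¹ = w * τ := e
      rw [hi, ← e']
      rw [show d⁻¹ * (d * x * d⁻¹) * d = x by group]
      exact hx
    have hicw : Commute i w := by
      have := (hdN w hw).2
      show _ = _
      calc i * w = d⁻¹ * (w * τ * (d * w * d⁻¹)) * d := by rw [hi]; group
        _ = d⁻¹ * (d * w * d⁻¹ * (w * τ)) * d := by rw [this.eq]
        _ = w * i := by rw [hi]; group
    have hio : orderOf i = 2 := by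
      rw [hi, show d⁻¹ * (w * τ) * d = MulAut.conj d⁻¹ (w * τ) by simp, MulEquiv.orderOf_eq, h.swap.tau]
    have hit : i = w ^ 2 := by
      rcases h.pow_cases (h.cent_w hicw) with e | e | e | e <;> rw [e] at hio
      · rw [orderOf_one] at hio; omega
      · rw [h.ord] at hio; omega
      · exact e
      · rw [orderOf_inv, h.ord] at hio; omega
    -- so `w * τ` is conjugate to `w ^ 2` inside the normaliser
    have hzo : orderOf (d * w * d⁻¹) = 2 ^ 2 := by
      rw [show d * w * d⁻¹ = MulAut.conj d w by simp, MulEquiv.orderOf_eq, h.ord]; rfl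
    obtain ⟨n, hn, z, hz, e⟩ := h.conj_into (hdN w hw).1 hzo
    have h4 : orderOf (n * (d * w * d⁻¹) * n⁻¹) = 4 := by
      rw [show n * (d * w * d⁻¹) * n⁻¹ = MulAut.conj n (d * w * d⁻¹) by simp, MulEquiv.orderOf_eq,
        hzo]; rfl
    have hwt2 : w * τ = d * w ^ 2 * d⁻¹ := by rw [← hit, hi]; group
    have hsq : n * (w * τ) * n⁻¹ = w ^ 2 := by
      rw [hwt2, show n * (d * w ^ 2 * d⁻¹) * n⁻¹ = (n * (d * w * d⁻¹) * n⁻¹) ^ 2 by
        rw [pow_two w, pow_two (n * (d * w * d⁻¹) * n⁻¹)]; group]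
      rcases e with e | e
      · rcases h.pow_cases hz with hzc | hzc | hzc | hzc <;> rw [hzc] at e
        · rw [e, orderOf_one] at h4; omega
        · rw [e]
        · rw [e, h.t_order] at h4; omega
        · rw [e, inv_pow]; exact inv_eq_of_mul_eq_one_right h.t_mul_self
      · rw [e, h.zpow_tau_order hz] at h4; omega
    have := h.conj_mem_hSub (inv_mem hn) (h.fourFun_mem_hSub 1)
    refine h.wtau_notMem hU ?_
    rwa [show fourFun w τ 1 = w ^ 2 from rfl, ← hsq, show n⁻¹ * (n * (w * τ) * n⁻¹) * n⁻¹⁻¹ = w * τ by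
      group] at this
  have hst : Nat.card (MulAction.stabilizer C (g : G ⧸ N)) = Nat.card D := by
    refine Nat.card_congr (Equiv.ofBijective (fun c => (⟨g⁻¹ * (c : C) * g, ?_⟩ : D)) ⟨?_, ?_⟩)
    · refine ⟨mem_centralizer_singleton_iff.2 ?_, ?_⟩
      · rw [← hg]
        have hc := mem_centralizer_singleton_iff.1 (c : C).2
        calc g⁻¹ * ((c : C) : G) * g * (g⁻¹ * w ^ 2 * g) = g⁻¹ * (((c : C) : G) * w ^ 2) * g := by group
          _ = _ := by rw [hc]; group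
      · have := c.2
        rw [MulAction.mem_stabilizer_iff] at this
        have h2 : ((((c : C) : G) * g : G) : G ⧸ N) = (g : G ⧸ N) := this
        rw [mul_assoc]
        exact QuotientGroup.eq.1 h2.symm
    · intro a b e
      have e' : g⁻¹ * ((a : C) : G) * g = g⁻¹ * ((b : C) : G) * g := congrArg Subtype.val e
      exact Subtype.ext (Subtype.ext (mul_left_cancel (mul_right_cancel e')))
    · rintro ⟨x, hx1, hx2⟩
      refine ⟨⟨⟨g * x * g⁻¹, mem_centralizer_singleton_iff.2 ?_⟩, ?_⟩, Subtype.ext (by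
        show g⁻¹ * (g * x * g⁻¹) * g = x
        group)⟩
      · have hx := mem_centralizer_singleton_iff.1 hx1
        rw [← hg] at hx
        calc g * x * g⁻¹ * w ^ 2 = g * (x * (g⁻¹ * w ^ 2 * g)) * g⁻¹ := by group
          _ = w ^ 2 * (g * x * g⁻¹) := by rw [hx]; group
      · rw [MulAction.mem_stabilizer_iff]
        show (((g * x * g⁻¹) * g : G) : G ⧸ N) = (g : G ⧸ N)
        rw [inv_mul_cancel_right]
        exact QuotientGroup.eq.2 (by
          rw [mul_inv_rev, mul_assoc, inv_mul_cancel, mul_one]; exact inv_mem hx2)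
  have horb := Nat.card_congr (MulAction.orbitProdStabilizerEquivGroup C (g : G ⧸ N))
  rw [Nat.card_prod, hst, hC, h.card_cent] at horb
  rw [← hC] at horb
  obtain ⟨j, hj⟩ := hdiv
  have hjo : Odd j := by
    rw [← Nat.not_even_iff_odd, even_iff_two_dvd]
    rintro ⟨i, rfl⟩
    exact hndiv ⟨i, by rw [hj]; ring⟩
  rw [hj] at horb
  have h2 : Nat.card (MulAction.orbit C (g : G ⧸ N)) * j = 2 * Nat.card (core w) := by
    rw [← mul_assoc, mul_comm (Nat.card (MulAction.orbit C (g : G ⧸ N))), mul_assoc] at horb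
    omega
  obtain ⟨i, hi⟩ : 2 ∣ Nat.card (MulAction.orbit C (g : G ⧸ N)) :=
    (Nat.prime_two.dvd_mul.1 (Dvd.intro _ h2.symm)).resolve_right
      (fun hd => Nat.not_even_iff_odd.2 hjo (even_iff_two_dvd.2 hd))
  have hio : Odd (i * j) := by
    have : i * j = Nat.card (core w) := by rw [hi, mul_assoc] at h2; omega
    rw [this]; exact h.odd_core
  have := Nat.Odd.of_mul_left hio
  rw [hi]
  obtain ⟨k, rfl⟩ := this
  omega

/-- The index of the normaliser is at least fifteen. -/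
theorem Hyp.fifteen_le_index [IsSimpleGroup G] (h : Hyp w τ) (hU : uPart w τ ≠ ⊥)
    (hW : uPart w (w * τ) ≠ ⊥) : 15 ≤ (nSub w τ).index := by
  classical
  set N := nSub w τ with hN
  haveI : Fintype (G ⧸ N) := Fintype.ofFinite _
  set φ := MulAction.toPermHom G (G ⧸ N) with hφ
  have hna : ∀ a b : G, ¬ (∀ x y : G, x * y = y * x) := fun _ _ hcomm => by
    have := h.rel
    rw [hcomm τ w, mul_inv_cancel_right] at this
    exact h.w_sq_ne (by rw [pow_two]; nth_rewrite 1 [this]; exact inv_mul_cancel w)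
  have hsign : ∀ g, Equiv.Perm.sign (φ g) = 1 := by
    intro g
    rcases IsSimpleGroup.eq_bot_or_eq_top_of_normal (Equiv.Perm.sign.comp φ).ker inferInstance with hk | hk
    · refine (hna g g fun x y => ?_).elim
      exact (MonoidHom.ker_eq_bot_iff _).1 hk (by rw [map_mul, map_mul, mul_comm])
    · exact MonoidHom.mem_ker.1 (hk ▸ Subgroup.mem_top g : g ∈ (Equiv.Perm.sign.comp φ).ker)
  -- a point fixed by `w ^ 2` other than `N`
  obtain ⟨g, hgW, hg1, -⟩ := h.swap.exists_cycle hW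
  set g₀ := g⁻¹ with hg₀
  have hg₀t : g₀⁻¹ * w ^ 2 * g₀ = w * τ := by rw [hg₀, inv_inv, hg1]
  have hg₀N : g₀ ∉ N := fun hm => by
    have := h.conj_mem_hSub (inv_mem hm) (h.fourFun_mem_hSub 1)
    rw [show fourFun w τ 1 = w ^ 2 from rfl, show g₀⁻¹ * w ^ 2 * g₀⁻¹⁻¹ = w * τ by rw [inv_inv g₀]; exact hg₀t] at this
    exact h.wtau_notMem hU this
  set q₀ : G ⧸ N := (g₀ : G ⧸ N) with hq₀
  set base : G ⧸ N := ((1 : G) : G ⧸ N) with hbase
  have hsmul : ∀ a b : G, φ a (b : G ⧸ N) = ((a * b : G) : G ⧸ N) := fun a b => rfl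
  have hfix : ∀ a b : G, φ a (b : G ⧸ N) = (b : G ⧸ N) ↔ b⁻¹ * a * b ∈ N := by
    intro a b
    rw [hsmul, QuotientGroup.eq]
    constructor <;> intro hm <;> have := inv_mem hm <;> simpa [mul_assoc] using this
  have hNbase : ∀ b : G, (b : G ⧸ N) = base ↔ b ∈ N := by
    intro b
    rw [hbase, QuotientGroup.eq, mul_one, inv_mem_iff]
  have hww : ∀ q, φ w (φ w q) = φ (w ^ 2) q := fun q => by
    rw [pow_two, map_mul, Equiv.Perm.mul_apply]
  -- the fixed points other than `N` form one orbit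
  have horb : {q : G ⧸ N | φ w (φ w q) = q ∧ q ≠ base} =
      MulAction.orbit (centralizer ({w ^ 2} : Set G)) q₀ := by
    ext q
    obtain ⟨b, rfl⟩ := QuotientGroup.mk_surjective q
    rw [Set.mem_setOf_eq, hww, hfix, Ne, hNbase]
    constructor
    · rintro ⟨hb, hbN⟩
      obtain ⟨n, hn, e⟩ := h.fix_t hU hb hbN
      refine ⟨⟨b * n * g₀⁻¹, mem_centralizer_singleton_iff.2 ?_⟩, ?_⟩
      · calc b * n * g₀⁻¹ * w ^ 2 = b * n * (g₀⁻¹ * w ^ 2 * g₀) * g₀⁻¹ := by group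
          _ = w ^ 2 * (b * n * g₀⁻¹) := by rw [hg₀t, ← e]; group
      · show ((b * n * g₀⁻¹ * g₀ : G) : G ⧸ N) = (b : G ⧸ N)
        rw [inv_mul_cancel_right, QuotientGroup.eq]
        simpa using inv_mem hn
    · rintro ⟨⟨c, hc⟩, e⟩
      have e' : ((c * g₀ : G) : G ⧸ N) = (b : G ⧸ N) := e
      have hct := mem_centralizer_singleton_iff.1 hc
      rw [QuotientGroup.eq] at e'
      refine ⟨?_, fun hbN => hg₀N ?_⟩
      · have hwt : w * τ ∈ N := h.mem_nSub_of (((Commute.refl w).pow_right 2).mul_left h.tau_comm)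
        have := mul_mem (mul_mem (inv_mem e') hwt) e'
        rwa [← hg₀t, show ((c * g₀)⁻¹ * b)⁻¹ * (g₀⁻¹ * w ^ 2 * g₀) * ((c * g₀)⁻¹ * b) =
          b⁻¹ * (c * w ^ 2) * c⁻¹ * b by group, hct,
          show b⁻¹ * (w ^ 2 * c) * c⁻¹ * b = b⁻¹ * w ^ 2 * b by group] at this
      · have := mul_mem (mul_mem (inv_mem (h.mem_nSub_of hct)) hbN) (inv_mem e')
        rwa [show c⁻¹ * b * ((c * g₀)⁻¹ * b)⁻¹ = g₀ by group] at this
  have hF : Nat.card {q : G ⧸ N // φ w (φ w q) = q ∧ q ≠ base} % 4 = 2 := by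
    have hcard := h.orbit_mod hU hg₀t
    rw [← hN, ← hq₀, ← horb] at hcard
    exact hcard
  obtain ⟨k, hk, hk1⟩ := (Subgroup.bot_or_exists_ne_one _).resolve_left hW
  have hinj : Function.Injective φ := by
    rw [← MonoidHom.ker_eq_bot_iff]
    refine (IsSimpleGroup.eq_bot_or_eq_top_of_normal φ.ker inferInstance).resolve_right fun hk => ?_
    have : φ g₀ = 1 := MonoidHom.mem_ker.1 (hk ▸ Subgroup.mem_top g₀)
    have h2 := (hsmul g₀ 1).symm
    rw [this, Equiv.Perm.one_apply, mul_one] at h2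
    exact hg₀N ((hNbase g₀).1 h2)
  have hkc : k ∈ core w := (mem_uPart.1 hk).1
  have hkt : Commute k (w ^ 2) := (h.mem_core.1 hkc).1
  have hWnorm : ∀ c : G, Commute c (w ^ 2) → c⁻¹ * k * c ∈ uPart w (w * τ) := by
    intro c hc
    have h1 : c ∈ nSub w (w * τ) := h.swap.mem_nSub_of hc
    have := (mem_normalizer_iff.1 (inv_mem h1) k).1 hk
    rwa [inv_inv] at this
  have key := fifteen_le (φ w) (φ k) base ?_ ?_ (hsign w) hF ?_ ?_ ?_ ?_
  · rwa [← Nat.card_eq_fintype_card] at key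
  · intro q
    obtain ⟨b, rfl⟩ := QuotientGroup.mk_surjective q
    rw [hfix, hNbase]
    refine ⟨h.fix_w hU, fun hb => ?_⟩
    exact mul_mem (mul_mem (inv_mem hb) (h.mem_nSub_of (Commute.self_pow w 2))) hb
  · rw [← map_pow, h.w_pow_four, map_one]
  · intro q
    rw [hww, hww, ← Equiv.Perm.mul_apply, ← map_mul, hkt.eq, map_mul, Equiv.Perm.mul_apply]
  · exact ((h.mem_core.1 hkc).2).of_dvd_nat (orderOf_map_dvd φ k)
  · intro q hq
    obtain ⟨b, rfl⟩ := QuotientGroup.mk_surjective q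
    by_cases hb : b ∈ N
    · rw [hfix]
      exact mul_mem (mul_mem (inv_mem hb) (h.mem_nSub_of hkt)) hb
    · have hmem : (b : G ⧸ N) ∈ {q : G ⧸ N | φ w (φ w q) = q ∧ q ≠ base} :=
        ⟨hq, fun e => hb ((hNbase b).1 e)⟩
      rw [horb] at hmem
      obtain ⟨⟨c, hc⟩, e⟩ := hmem
      have hct := mem_centralizer_singleton_iff.1 hc
      have e' : ((c * g₀ : G) : G ⧸ N) = (b : G ⧸ N) := e
      rw [← e', hfix]
      have hck := hWnorm c hct
      have hgk : g * (c⁻¹ * k * c) * g⁻¹ = c⁻¹ * k * c := by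
        rw [(mem_hSub.1 hgW _ hck).eq, mul_inv_cancel_right]
      rw [show (c * g₀)⁻¹ * k * (c * g₀) = g * (c⁻¹ * k * c) * g⁻¹ by rw [hg₀]; group, hgk]
      exact h.mem_nSub_of (h.mem_core.1 (mem_uPart.1 hck).1).1
  · exact fun e => hk1 (hinj (e.trans (map_one φ).symm))

end Cfsg.Agent.CentFour75
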