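import Mathlib
import Cfsg.Agent.Lib.CentFour75Index

/-!
The orders of simple groups with dihedral Sylow subgroups of order eight and a self-centralising element of
order four.
-/

set_option autoImplicit false
set_option linter.style.haveILetI false
set_option linter.unusedSectionVars false

namespace Cfsg.Agent.CentFour75

open Subgroup

universe u

variable {G : Type u} [Group G] [Finite G] {w τ : G}

theorem Hyp.swap_swap (h : Hyp w τ) : uPart w (w * (w * τ)) = uPart w τ := by
  ext x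
  rw [mem_uPart, mem_uPart]
  refine and_congr_right fun hx => ?_
  have hxt : Commute x (w ^ 2) := (h.mem_core.1 hx).1
  rw [← mul_assoc, ← pow_two]
  refine ⟨fun hc => ?_, fun hc => hxt.mul_right hc⟩
  have := hxt.mul_right hc
  rwa [← mul_assoc, h.t_mul_self, one_mul] at this

theorem Hyp.exists_factor (h : Hyp w τ) :
    ∃ m : ℕ, Odd m ∧ Nat.card G = 8 * (Nat.card (uPart w τ) * Nat.card (uPart w (w * τ))) * m := by
  haveI : Fact (Nat.Prime 2) := ⟨Nat.prime_two⟩
  obtain ⟨P, h8, -, -, -, -⟩ := h.setting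
  obtain ⟨m, hm⟩ := Subgroup.card_subgroup_dvd_card (centralizer ({w ^ 2} : Set G))
  rw [h.card_cent, h.card_core] at hm
  refine ⟨m, ?_, hm⟩
  have hi := (P : Subgroup G).index_mul_card
  rw [show Nat.card (P : Subgroup G) = 8 from h8, hm] at hi
  have hodd : Odd (P : Subgroup G).index :=
    Nat.not_even_iff_odd.1 fun he => P.not_dvd_index (even_iff_two_dvd.1 he)
  have : (P : Subgroup G).index = Nat.card (uPart w τ) * Nat.card (uPart w (w * τ)) * m := by
    refine Nat.eq_of_mul_eq_mul_right (show 0 < 8 by norm_num) ?_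
    rw [hi]; ring
  rw [this] at hodd
  exact Nat.Odd.of_mul_right hodd

theorem Hyp.parameters (h : Hyp w τ) :
    ∃ (s r m : ℕ) (δ Y Z : ℤ), 0 < s ∧ 0 < r ∧ (δ = 1 ∨ δ = -1) ∧
      Nat.card (uPart w τ) + Nat.card (uPart w (w * τ)) = 2 * (s * r) ∧
      Nat.card G = 8 * (Nat.card (uPart w τ) * Nat.card (uPart w (w * τ))) * m ∧
      (m : ℤ) = (r : ℤ) ^ 2 * ((8 * (s : ℤ) + δ) * (4 * (s : ℤ) + δ)) ∧ Y ≠ 0 ∧ Z ≠ 0 ∧
      Y + Z = -1 - δ * (8 * (s : ℤ) + δ) ∧
      (m : ℤ) * ((δ * (8 * (s : ℤ) + δ) + 1) * (Y + 1) * (Z + 1)) =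
        32 * ((Nat.card (uPart w τ) : ℤ) * (Nat.card (uPart w (w * τ)) : ℤ)) *
          (δ * (8 * (s : ℤ) + δ) * Y * Z) := by
  obtain ⟨m, hmo, hm⟩ := h.exists_factor
  obtain ⟨x, δ, Y, Z, hx, hδ, hne, hY, hZ, hrel, hord, hcnt⟩ := h.block_equations
  have hu : 0 < Nat.card (uPart w τ) := Nat.card_pos
  have hv : 0 < Nat.card (uPart w (w * τ)) := Nat.card_pos
  have hm0 : 0 < m := hmo.pos
  rw [hm] at hord hcnt
  push_cast at hord hcnt
  set u : ℤ := (Nat.card (uPart w τ) : ℤ) with hu'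
  set v : ℤ := (Nat.card (uPart w (w * τ)) : ℤ) with hv'
  have huv : 8 * (u * v) ≠ 0 := by
    have : 0 < u := by rw [hu']; exact_mod_cast hu
    have : 0 < v := by rw [hv']; exact_mod_cast hv
    positivity
  have h1 : ((x : ℤ) - δ) ^ 2 * (m : ℤ) = 8 * (u + v) ^ 2 * ((x : ℤ) * ((x : ℤ) + δ)) :=
    mul_left_cancel₀ huv (by linear_combination hord)
  obtain ⟨s, r, hs, hr, hxs, hsr, hmr⟩ := core_params (u := u) (v := v) (by rw [hu']; exact_mod_cast hu)
    (by rw [hv']; exact_mod_cast hv) (by exact_mod_cast hx) (by exact_mod_cast hm0) hδ hne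
    (Int.odd_coe_nat m |>.2 hmo) (Int.odd_coe_nat _ |>.2 h.odd_uPart)
    (Int.odd_coe_nat _ |>.2 h.swap.odd_uPart) h1
  obtain ⟨s', rfl⟩ := Int.eq_ofNat_of_zero_le hs.le
  obtain ⟨r', rfl⟩ := Int.eq_ofNat_of_zero_le hr.le
  refine ⟨s', r', m, δ, Y, Z, by exact_mod_cast hs, by exact_mod_cast hr, hδ,
    by rw [hu', hv'] at hsr; exact_mod_cast hsr, hm,
    hmr, hY, hZ, by rw [← hxs]; linarith, ?_⟩
  rw [← hxs]
  exact mul_left_cancel₀ huv (by linear_combination hcnt)

/-- Both parts cannot be non-trivial. -/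
theorem Hyp.false_large [IsSimpleGroup G] (hna : ¬ IsMulCommutative G) (h : Hyp w τ)
    (hu : 1 < Nat.card (uPart w τ)) (huv : Nat.card (uPart w τ) ≤ Nat.card (uPart w (w * τ))) :
    False := by
  have hU : uPart w τ ≠ ⊥ := fun e => by rw [e, Subgroup.card_bot] at hu; omega
  have hW : uPart w (w * τ) ≠ ⊥ := fun e => by rw [e, Subgroup.card_bot] at huv; omega
  obtain ⟨s, r, m, δ, Y, Z, hs, hr, hδ, hsr, hG, hm, -, -, -, -⟩ := h.parameters
  set u := Nat.card (uPart w τ) with hu'
  set v := Nat.card (uPart w (w * τ)) with hv'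
  set N := nSub w τ with hN
  have h15 := h.fifteen_le_index hU hW
  have hbound : 24 * ((u : ℤ) * (v : ℤ) ^ 3) ≤ (Nat.card N : ℤ) := by
    have h1 := h.hSub_bound hU
    have h2 : (2 : ℤ) * (Nat.card (hSub w τ) : ℤ) ≤ (Nat.card N : ℤ) := by exact_mod_cast h.card_nSub hU
    linarith
  have hcard : (N.index : ℤ) * (Nat.card N : ℤ) = 8 * ((u : ℤ) * v) * m := by
    exact_mod_cast (N.index_mul_card.trans hG)
  have hk : (0 : ℤ) < N.index := by exact_mod_cast (lt_of_lt_of_le (by norm_num) h15)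
  obtain ⟨hle, heq⟩ := index_bound (by exact_mod_cast (show 0 < u by omega))
    (by exact_mod_cast (show 0 < v by omega)) (by exact_mod_cast huv) (by exact_mod_cast hs)
    (by exact_mod_cast hr) hδ hk (by exact_mod_cast hsr) hm hbound hcard
  have hk15 : N.index = 15 := le_antisymm (by exact_mod_cast hle) h15
  obtain ⟨huv', hGc⟩ := heq (by exact_mod_cast hk15)
  have hG360 : Nat.card G = 360 * v ^ 4 := by
    have : (N.index * Nat.card N : ℕ) = 360 * v ^ 4 := by exact_mod_cast hGc
    rwa [N.index_mul_card] at this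
  have hNt : N ≠ ⊤ := fun e => by rw [e, Subgroup.index_top] at hk15; omega
  have hdvd := SimpleOrder.two_mul_card_dvd_factorial_index hna N hNt
  rw [hk15, hG360] at hdvd
  have hv1 : 1 < v := lt_of_lt_of_le hu huv
  have hvo : Odd v := h.swap.odd_uPart
  have hv246 : v < 246 := by
    by_contra hc
    have h2 := Nat.le_of_dvd (Nat.factorial_pos 15) hdvd
    have h3 : 246 ^ 4 ≤ v ^ 4 := Nat.pow_le_pow_left (not_lt.1 hc) 4
    norm_num [Nat.factorial] at h2 h3
    omega
  have key : ∀ j ∈ List.range 246, 2 * (360 * j ^ 4) ∣ 1307674368000 → j % 2 = 1 → 1 < j → j = 3 := by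
    decide +kernel
  have hv3 : v = 3 := key v (List.mem_range.2 hv246)
    (by rwa [show (1307674368000 : ℕ) = Nat.factorial 15 by norm_num [Nat.factorial]])
    (Nat.odd_iff.1 hvo) hv1
  -- a subgroup of order 29160 of the symmetric group of degree fifteen contains a three-cycle
  rw [hv3] at hG360
  norm_num at hG360
  classical
  haveI : Fintype (G ⧸ N) := Fintype.ofFinite _
  set φ := MulAction.toPermHom G (G ⧸ N) with hφ
  have hΩ : Nat.card (G ⧸ N) = 15 := hk15
  have hinj : Function.Injective φ := by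
    rw [← MonoidHom.ker_eq_bot_iff]
    refine (IsSimpleGroup.eq_bot_or_eq_top_of_normal φ.ker inferInstance).resolve_right fun hk => hNt ?_
    rw [eq_top_iff]
    intro g _
    have : φ g = 1 := MonoidHom.mem_ker.1 (hk ▸ Subgroup.mem_top g)
    have h2 : ((g * 1 : G) : G ⧸ N) = ((1 : G) : G ⧸ N) := by
      show φ g ((1 : G) : G ⧸ N) = _
      rw [this, Equiv.Perm.one_apply]
    rw [mul_one, QuotientGroup.eq, mul_one, inv_mem_iff] at h2
    exact h2
  haveI : Fact (Nat.Prime 3) := ⟨by norm_num⟩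
  obtain ⟨R, hR⟩ := Sylow.exists_subgroup_card_pow_prime 3 (n := 6) (show 3 ^ 6 ∣ Nat.card G by rw [hG360]; norm_num)
  set R' := R.map φ with hR'
  have hR'c : Nat.card R' = 3 ^ 6 := by
    rw [Nat.card_congr (equivMapOfInjective _ _ hinj).toEquiv.symm, hR]
  have hperm : Nat.card (Equiv.Perm (G ⧸ N)) = 1307674368000 := by
    rw [Nat.card_perm, hΩ]; norm_num [Nat.factorial]
  have hnd : ¬ 3 ∣ R'.index := by
    intro hd
    have h7 : 3 ^ 7 ∣ Nat.card (Equiv.Perm (G ⧸ N)) := by
      rw [← R'.index_mul_card, hR'c]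
      obtain ⟨i, hi⟩ := hd
      exact ⟨i, by rw [hi]; ring⟩
    rw [hperm] at h7
    norm_num at h7
  obtain ⟨a, b, c, hab, hac, hbc⟩ : ∃ a b c : G ⧸ N, a ≠ b ∧ a ≠ c ∧ b ≠ c :=
    Fintype.two_lt_card_iff.1 (by rw [← Nat.card_eq_fintype_card, hΩ]; norm_num)
  set z := Equiv.swap a b * Equiv.swap a c with hz
  have hz3 : z.IsThreeCycle := Equiv.Perm.isThreeCycle_swap_mul_swap_same hab hac hbc
  obtain ⟨Q, hQ⟩ := (IsPGroup.of_card (p := 3) (n := 1)
    (by rw [Nat.card_zpowers, hz3.orderOf, pow_one] : Nat.card (zpowers z) = 3 ^ 1)).exists_le_sylow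
  obtain ⟨d, hd⟩ := MulAction.exists_smul_eq (Equiv.Perm (G ⧸ N)) Q ((IsPGroup.of_card hR'c).toSylow hnd)
  have hmem : d * z * d⁻¹ ∈ R' := by
    have h1 : d * z * d⁻¹ ∈ ((d • Q : Sylow 3 (Equiv.Perm (G ⧸ N))) : Subgroup (Equiv.Perm (G ⧸ N))) := by
      rw [Sylow.coe_subgroup_smul]
      exact (Subgroup.mem_map_iff_mem (MulAut.conj d).injective).2 (hQ (mem_zpowers z))
    rw [hd, IsPGroup.toSylow_coe] at h1
    exact h1
  have hz3' : (d * z * d⁻¹).IsThreeCycle := by
    rw [Equiv.Perm.IsThreeCycle, Equiv.Perm.cycleType_conj]; exact hz3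
  -- the action is primitive
  have hcoatom : IsCoatom N := by
    refine ⟨hNt, fun K hK => by_contra fun hKt => ?_⟩
    have h1 := relIndex_mul_index hK.le
    rw [hk15] at h1
    have h2 : K.index ∣ 15 := ⟨_, (mul_comm _ _).trans h1 |>.symm⟩
    have h3 := SimpleOrder.two_mul_card_dvd_factorial_index hna K hKt
    rw [hG360] at h3
    have h4 : K.index ∈ Nat.divisors 15 := Nat.mem_divisors.2 ⟨h2, by norm_num⟩
    rw [show Nat.divisors 15 = {1, 3, 5, 15} by decide] at h4
    simp only [Finset.mem_insert, Finset.mem_singleton] at h4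
    rcases h4 with e | e | e | e
    · exact hKt (Subgroup.index_eq_one.1 e)
    · rw [e] at h3; norm_num [Nat.factorial] at h3
    · rw [e] at h3; norm_num [Nat.factorial] at h3
    · rw [e] at h1
      have : N.relIndex K = 1 := by omega
      exact hK.not_ge (Subgroup.relIndex_eq_one.1 this)
  haveI : Nontrivial (G ⧸ N) := Fintype.one_lt_card_iff_nontrivial.1
    (by rw [← Nat.card_eq_fintype_card, hΩ]; norm_num)
  have hprim : MulAction.IsPreprimitive φ.range (G ⧸ N) := by
    have hG' : MulAction.IsPreprimitive G (G ⧸ N) := by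
      rw [← MulAction.isCoatom_stabilizer_iff_preprimitive G ((1 : G) : G ⧸ N)]
      rwa [MulAction.stabilizer_quotient]
    let f : (G ⧸ N) →ₑ[φ.rangeRestrict] (G ⧸ N) :=
      { toFun := id, map_smul' := fun g x => rfl }
    exact MulAction.IsPreprimitive.of_surjective (f := f) Function.surjective_id
  have halt := Equiv.Perm.alternatingGroup_le_of_isPreprimitive_of_isThreeCycle_mem hprim hz3'
    (Subgroup.map_le_range φ R hmem)
  have h5 := card_dvd_of_le halt
  rw [← MonoidHom.ofInjective hinj |>.toEquiv |> Nat.card_congr, hG360] at h5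
  have h6 := two_mul_nat_card_alternatingGroup (α := G ⧸ N)
  rw [hperm] at h6
  have h7 := Nat.le_of_dvd (by norm_num) h5
  omega

/-- One trivial part: the order is 2520. -/
theorem Hyp.order_small [IsSimpleGroup G] (h : Hyp w τ) (hu : 1 < Nat.card (uPart w τ))
    (hv : Nat.card (uPart w (w * τ)) = 1) : Nat.card G = 2520 := by
  have hU : uPart w τ ≠ ⊥ := fun e => by rw [e, Subgroup.card_bot] at hu; omega
  obtain ⟨s, r, m, δ, Y, Z, hs, hr, hδ, hsr, hG, hm, hY, hZ, hsum, hcnt⟩ := h.parameters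
  obtain ⟨j, hj⟩ := h.odd_uPart
  obtain ⟨a, b, c, ε, ha, hb, hc, hε, hrel, heqH⟩ := h.hSub_equation hU
  set u := Nat.card (uPart w τ) with hu'
  rw [hv] at hG hcnt heqH hsr
  have hδ2 : δ * δ = 1 := by rcases hδ with rfl | rfl <;> rfl
  have hne : 2 * δ * (8 * (s : ℤ) + δ) ≠ 0 := by
    rcases hδ with rfl | rfl <;> omega
  have heq : ((r : ℤ) * (4 * (s : ℤ) + δ)) ^ 2 * (Y * Z - δ * (8 * (s : ℤ) + δ)) =
      16 * (u : ℤ) * (Y * Z) := by
    refine mul_left_cancel₀ hne ?_
    have e1 : δ * (8 * (s : ℤ) + δ) + 1 = 2 * δ * (4 * (s : ℤ) + δ) := by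
      linear_combination (-1 : ℤ) * hδ2
    have e2 : (Y + 1) * (Z + 1) = Y * Z - δ * (8 * (s : ℤ) + δ) := by linear_combination hsum
    rw [mul_assoc (δ * (8 * (s : ℤ) + δ) + 1), e2, e1, hm] at hcnt
    push_cast at hcnt
    linear_combination hcnt
  have hu3 : (3 : ℤ) ≤ (u : ℤ) := by omega
  have hsr' : (u : ℤ) + 1 = 2 * ((s : ℤ) * (r : ℤ)) := by exact_mod_cast hsr
  have hs' : (0 : ℤ) < (s : ℤ) := by exact_mod_cast hs
  have hr' : (0 : ℤ) < (r : ℤ) := by exact_mod_cast hr
  obtain ⟨q, hq, hq2, hYZ⟩ := small_square hs' hr' hu3 hδ hsr' hsum heq hY hZ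
  obtain ⟨rfl, hcase⟩ := small_cases hs' hr' hu3 hδ hsr' hq hq2
  rcases hcase with ⟨e1, e2⟩ | ⟨e1, e2⟩ | ⟨e1, e2⟩ <;> rw [e1, e2] at hm hsr' hq2 hYZ <;> norm_num at hm hsr' hq2 hYZ
  · have hu' : u = 3 := by omega
    have hm' : m = 105 := by omega
    rw [hG, hu', hm']
  · exfalso
    have hfive : u = 5 := by omega
    have hm' : m = 189 := by omega
    rw [hfive, hm'] at hG
    norm_num at hG
    haveI : Fact (Nat.Prime 5) := ⟨by norm_num⟩
    haveI : Fact (Nat.Prime 2) := ⟨Nat.prime_two⟩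
    set U := uPart w τ with hUdef
    have hU5 : Nat.card U = 5 ^ 1 := by rw [pow_one]; exact hfive
    have hnd : ¬ 5 ∣ U.index := by
      intro hd
      have h1 := U.index_mul_card
      rw [hU5, hG] at h1
      omega
    set Q := (IsPGroup.of_card hU5).toSylow hnd with hQ
    have hQc : (Q : Subgroup G) = U := IsPGroup.toSylow_coe _ hnd
    have hmod := card_sylow_modEq_one 5 G
    rw [Q.card_eq_index_normalizer, show normalizer (Q : Set G) = nSub w τ by
      show normalizer ((Q : Subgroup G) : Set G) = nSub w τ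
      rw [hQc]; rfl] at hmod
    have hcent : Nat.card (centralizer ({w ^ 2} : Set G)) ∣ Nat.card (nSub w τ) :=
      card_dvd_of_le fun x hx => h.mem_nSub_of (mem_centralizer_singleton_iff.1 hx)
    rw [h.card_cent, h.card_core, ← hUdef, hv, show Nat.card U = 5 from hfive] at hcent
    have hidx := (nSub w τ).index_mul_card
    rw [hG] at hidx
    obtain ⟨d, hd⟩ := hcent
    rw [hd] at hidx
    have hdvd : (nSub w τ).index ∣ 189 := ⟨d, by
      refine Nat.eq_of_mul_eq_mul_left (show 0 < 40 by norm_num) ?_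
      linarith⟩
    have h4 : (nSub w τ).index ∈ Nat.divisors 189 := Nat.mem_divisors.2 ⟨hdvd, by norm_num⟩
    rw [show Nat.divisors 189 = {1, 3, 7, 9, 21, 27, 63, 189} by decide +kernel] at h4
    simp only [Finset.mem_insert, Finset.mem_singleton] at h4
    rw [Nat.ModEq] at hmod
    have hidx21 : (nSub w τ).index = 21 := by
      rcases h4 with e | e | e | e | e | e | e | e <;> rw [e] at hmod <;> try norm_num at hmod
      · exfalso
        have hnorm : (uPart w τ).Normal := normalizer_eq_top_iff.1 (Subgroup.index_eq_one.1 e)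
        rcases hnorm.eq_bot_or_eq_top with hb | ht
        · exact hU hb
        · rw [hUdef, ht, Subgroup.card_top, hG] at hU5
          norm_num at hU5
      · exact e
    have hNc : Nat.card (nSub w τ) = 360 := by rw [hd]; rw [hidx21] at hidx; omega
    -- the index of the centraliser in the normaliser
    have hA : Nat.card (MulAut U) = 4 := by
      haveI : IsCyclic U := isCyclic_of_prime_card (p := 5) (by rw [hU5, pow_one])
      rw [IsCyclic.card_mulAut, hU5, pow_one]; decide +kernel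
    have hker := U.normalizerMonoidHom_ker
    have hrange := card_subgroup_dvd_card U.normalizerMonoidHom.range
    rw [hA, ← Subgroup.index_ker, hker] at hrange
    have hH := ((centralizer (U : Set G)).subgroupOf (normalizer (U : Set G))).index_mul_card
    rw [Nat.card_congr (subgroupOfEquivOfLe (Subgroup.centralizer_le_normalizer (U : Set G))).toEquiv] at hH
    have hN' : Nat.card (normalizer (U : Set G) : Subgroup G) = 360 := hNc
    rw [hN'] at hH
    set i := ((centralizer (U : Set G)).subgroupOf (normalizer (U : Set G))).index with hi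
    have h8 : ¬ 8 ∣ Nat.card (hSub w τ) := h.eight_not_dvd hU
    have h4H : 4 ∣ Nat.card (hSub w τ) := h.card_fourSub ▸ card_dvd_of_le h.fourSub_le
    have hHc : Nat.card (hSub w τ) = 180 := by
      have hH' : i * Nat.card (hSub w τ) = 360 := hH
      obtain ⟨k, hk⟩ := hrange
      rcases Nat.eq_zero_or_pos k with rfl | hk0
      · omega
      have hi4 : i ≤ 4 := Nat.le_of_dvd (by norm_num) ⟨k, hk⟩
      interval_cases i <;> omega
    rw [hHc, hfive] at heqH
    norm_num at heqH
    exact no_degrees ha hb hc hε hrel (by linarith)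
  · exfalso
    have hq9 : q ^ 2 = 81 := by omega
    rw [hq9] at hYZ
    omega

/-- The order is 168 or 360, or 2520. -/
theorem Hyp.order_cases [IsSimpleGroup G] (hna : ¬ IsMulCommutative G) (h : Hyp w τ) :
    (Nat.card (uPart w τ) = 1 ∧ Nat.card (uPart w (w * τ)) = 1) ∨ Nat.card G = 2520 := by
  have hu : 0 < Nat.card (uPart w τ) := Nat.card_pos
  have hv : 0 < Nat.card (uPart w (w * τ)) := Nat.card_pos
  rcases eq_or_lt_of_le (Nat.succ_le_of_lt hu) with hu1 | hu1 <;>
    rcases eq_or_lt_of_le (Nat.succ_le_of_lt hv) with hv1 | hv1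
  · exact Or.inl ⟨hu1.symm, hv1.symm⟩
  · refine Or.inr (h.swap.order_small hv1 ?_)
    rw [h.swap_swap]; exact hu1.symm
  · exact Or.inr (h.order_small hu1 hv1.symm)
  · exfalso
    rcases le_total (Nat.card (uPart w τ)) (Nat.card (uPart w (w * τ))) with hle | hle
    · exact h.false_large hna hu1 hle
    · exact h.swap.false_large hna hv1 (by rw [h.swap_swap]; exact hle)

end Cfsg.Agent.CentFour75
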