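import Cfsg.Prelude.Def_SporadicB
import Cfsg.Agent.Lib.TransferThompson
import Cfsg.Agent.Lib.ZStarTheorem
import Cfsg.Agent.Lib.ZStarBasic
import Cfsg.Agent.Lib.SimpleOrder

/-!
A simple group of order `175560`: a Sylow 2-subgroup has order 8, so there is one class of involutions
and the centralizer of an involution contains a Sylow 2-subgroup.
-/

set_option autoImplicit false
set_option linter.style.haveILetI false
set_option linter.unusedSectionVars false

namespace Cfsg.Agent.Ord175560Classes91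

open Cfsg

attribute [local instance] Classical.propDecidable

variable {G : Type*} [Group G] [Finite G] [IsSimpleGroup G]

theorem not_central (hG : ¬ IsMulCommutative G) {z : G} (hz : z ≠ 1) : z ∉ Subgroup.center G := by
  intro h
  rcases SimpleOrder.eq_bot_or_top (H := Subgroup.center G) inferInstance with e | e
  · exact hz (Subgroup.mem_bot.1 (e ▸ h))
  · exact hG ⟨⟨fun a b => (Subgroup.mem_center_iff.1 (e ▸ Subgroup.mem_top a) b).symm⟩⟩

/-- An involution of a Sylow subgroup has a second conjugate in it. -/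
theorem exists_other (hG : ¬ IsMulCommutative G) (S : Sylow 2 G) {u : G} (hu : orderOf u = 2)
    (huS : u ∈ S) : ∃ g : G, g * u * g⁻¹ ∈ S ∧ g * u * g⁻¹ ≠ u := by
  by_contra h
  push Not at h
  have hiso : IsIsolatedInvolution u := ZStarBasic.isolated_of_sylow S u hu huS h
  have hu1 : u ≠ 1 := fun e => by rw [e, orderOf_one] at hu; omega
  have hcore : pPrimeCore 2 G = ⊥ := (SimpleOrder.eq_bot_or_top inferInstance).resolve_right
    fun e => ZStarTheorem.notMem_pPrimeCore hu (by rw [e]; exact Subgroup.mem_top _)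
  exact not_central hG hu1 (ZStarTheorem.mem_center_of_isolated hiso hcore)

theorem card_sylow_two (hcard : Nat.card G = 175560) (S : Sylow 2 G) :
    Nat.card ↥(S : Subgroup G) = 8 := by
  rw [S.card_eq_multiplicity, hcard, show (175560 : ℕ) = 2 ^ 3 * 21945 by norm_num,
    Nat.factorization_mul (by norm_num) (by norm_num), Nat.factorization_pow]
  simp [Nat.factorization_eq_zero_of_not_dvd (show ¬ 2 ∣ 21945 by norm_num),
    Nat.prime_two.factorization_self]

/-- In an abelian Sylow subgroup of order 8 the conjugates of an involution are odd in number. -/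
theorem card_conjugates_odd (S : Sylow 2 G) (hab : IsMulCommutative ↥(S : Subgroup G)) {u : G}
    (huS : u ∈ S) : ¬ 2 ∣ {v : G | v ∈ S ∧ IsConj u v}.ncard := by
  haveI : Fact (Nat.Prime 2) := ⟨Nat.prime_two⟩
  set N := Subgroup.normalizer ((S : Subgroup G) : Set G) with hN
  letI : MulAction ↥N G := MulAction.compHom G (MulAut.conj.comp N.subtype)
  have hsm : ∀ (n : ↥N) (g : G), n • g = (n : G) * g * (n : G)⁻¹ := fun n g => rfl
  have horb : MulAction.orbit ↥N u = {v : G | v ∈ S ∧ IsConj u v} := by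
    ext v
    simp only [MulAction.mem_orbit_iff, hsm, Set.mem_setOf_eq]
    constructor
    · rintro ⟨n, rfl⟩
      exact ⟨(Subgroup.mem_normalizer_iff.1 n.2 u).1 huS, isConj_iff.2 ⟨n, rfl⟩⟩
    · rintro ⟨hv, hc⟩
      obtain ⟨g, rfl⟩ := isConj_iff.1 hc
      haveI := hab
      obtain ⟨n, hn, hne⟩ := Sylow.conj_eq_normalizer_conj_of_mem S u g⁻¹ huS (by rwa [inv_inv])
      refine ⟨⟨n⁻¹, N.inv_mem hn⟩, ?_⟩
      rw [inv_inv] at hne
      simp [hne]
  rw [← horb, ← MulAction.index_stabilizer]
  intro h2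
  have hle : (S : Subgroup G).subgroupOf N ≤ MulAction.stabilizer ↥N u := by
    intro s hs
    rw [MulAction.mem_stabilizer_iff, hsm]
    have := congrArg Subtype.val (hab.is_comm.comm ⟨_, hs⟩ ⟨u, huS⟩)
    show (s : G) * u * (s : G)⁻¹ = u
    rw [show (s : G) * u = u * s from this, mul_inv_cancel_right]
  have h3 := h2.trans (Subgroup.index_dvd_of_le hle)
  exact (S.subtype (Subgroup.le_normalizer)).not_dvd_index h3

theorem conj_all_abelian (hG : ¬ IsMulCommutative G) (S : Sylow 2 G) (h8 : Nat.card ↥(S : Subgroup G) = 8)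
    (hab : IsMulCommutative ↥(S : Subgroup G)) {u v : G} (hu : orderOf u = 2) (hv : orderOf v = 2)
    (huS : u ∈ S) (hvS : v ∈ S) : IsConj u v := by
  haveI : Fintype G := Fintype.ofFinite G
  set Inv : Finset G := Finset.univ.filter fun w => w ∈ S ∧ orderOf w = 2 with hInv
  let O : G → Finset G := fun u => Finset.univ.filter fun w => w ∈ S ∧ IsConj u w
  have hO : ∀ {w : G}, orderOf w = 2 → w ∈ S → ¬ 2 ∣ (O w).card ∧ 2 ≤ (O w).card ∧ O w ⊆ Inv := by
    intro w hw hwS
    refine ⟨?_, ?_, ?_⟩
    · have h := card_conjugates_odd S hab hwS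
      rwa [Set.ncard_eq_toFinset_card', Set.toFinset_setOf] at h
    · obtain ⟨g, hg, hne⟩ := exists_other hG S hw hwS
      refine Finset.one_lt_card.2 ⟨g * w * g⁻¹, ?_, w, ?_, hne⟩ <;>
        simp only [O, Finset.mem_filter, Finset.mem_univ, true_and]
      · exact ⟨hg, isConj_iff.2 ⟨g, rfl⟩⟩
      · exact ⟨hwS, IsConj.refl w⟩
    · intro x hx
      simp only [O, Finset.mem_filter, Finset.mem_univ, true_and] at hx
      obtain ⟨g, rfl⟩ := isConj_iff.1 hx.2
      simp only [hInv, Finset.mem_filter, Finset.mem_univ, true_and]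
      refine ⟨hx.1, ?_⟩
      have := orderOf_injective (MulAut.conj g).toMonoidHom (MulAut.conj g).injective w
      simpa [hw] using this
  have h7 : Inv.card ≤ 7 := by
    have hsub : Inv ⊆ (Finset.univ.filter fun w => w ∈ S).erase 1 := fun x hx => by
      simp only [hInv, Finset.mem_filter, Finset.mem_univ, true_and] at hx
      simp only [Finset.mem_erase, Finset.mem_filter, Finset.mem_univ, true_and]
      exact ⟨fun e => by rw [e, orderOf_one] at hx; omega, hx.1⟩
    refine (Finset.card_le_card hsub).trans ?_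
    rw [Finset.card_erase_of_mem (by simp [one_mem]), ← Fintype.card_subtype, ← Nat.card_eq_fintype_card]
    exact le_of_eq (by rw [show Nat.card {w // w ∈ S} = 8 from h8])
  have hdisj : ∀ {a b : G}, ¬ IsConj a b → Disjoint (O a) (O b) := fun {a b} hab' => by
    rw [Finset.disjoint_left]
    intro x hx hx'
    simp only [O, Finset.mem_filter, Finset.mem_univ, true_and] at hx hx'
    exact hab' (hx.2.trans hx'.2.symm)
  by_contra hne
  obtain ⟨o1, g1, s1⟩ := hO hu huS
  obtain ⟨o2, g2, s2⟩ := hO hv hvS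
  have hcard := Finset.card_union_of_disjoint (hdisj hne)
  have hle : (O u ∪ O v).card ≤ Inv.card := Finset.card_le_card (Finset.union_subset s1 s2)
  by_cases hall : ∀ w ∈ Inv, w ∈ O u ∪ O v
  · have heq : O u ∪ O v = Inv := Finset.Subset.antisymm (Finset.union_subset s1 s2) hall
    have : Inv.card = 7 ∨ Inv.card ≠ 7 := em _
    have he : 2 ∣ Inv.card := by
      rw [← heq, hcard]; omega
    have hsix : 6 ≤ Inv.card := by rw [← heq, hcard]; omega
    -- the involutions and the identity form a subgroup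
    haveI := hab
    let E : Subgroup G :=
      { carrier := {w | w ∈ S ∧ w * w = 1}
        one_mem' := ⟨one_mem _, one_mul 1⟩
        inv_mem' := fun {a} ha => ⟨inv_mem ha.1, by rw [← mul_inv_rev, ha.2, inv_one]⟩
        mul_mem' := fun {a b} ha hb => ⟨mul_mem ha.1 hb.1, by
          have hc : b * a = a * b := congrArg Subtype.val (hab.is_comm.comm ⟨b, hb.1⟩ ⟨a, ha.1⟩)
          calc a * b * (a * b) = a * (b * a) * b := by group
            _ = a * (a * b) * b := by rw [hc]
            _ = (a * a) * (b * b) := by group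
            _ = 1 := by rw [ha.2, hb.2, one_mul]⟩ }
    have hE : Nat.card ↥E = Inv.card + 1 := by
      rw [show Nat.card ↥E = Nat.card {w : G // w ∈ S ∧ w * w = 1} from rfl, Nat.card_eq_fintype_card,
        Fintype.card_subtype, ← Finset.card_insert_of_notMem (show (1 : G) ∉ Inv by simp [hInv])]
      congr 1
      ext w
      simp only [Finset.mem_filter, Finset.mem_univ, true_and, Finset.mem_insert, hInv]
      constructor
      · rintro ⟨h1, h2⟩
        by_cases hw : w = 1
        · exact Or.inl hw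
        · exact Or.inr ⟨h1, orderOf_eq_prime (by rw [pow_two]; exact h2) hw⟩
      · rintro (rfl | ⟨h1, h2⟩)
        · exact ⟨one_mem _, one_mul 1⟩
        · exact ⟨h1, by rw [← pow_two, ← h2]; exact pow_orderOf_eq_one w⟩
    have hd : Nat.card ↥E ∣ 8 := h8 ▸ Subgroup.card_dvd_of_le (fun w hw => hw.1)
    rw [hE] at hd
    have h6 : Inv.card = 6 := by omega
    rw [h6] at hd
    norm_num at hd
  · push Not at hall
    obtain ⟨w, hw, hwn⟩ := hall
    simp only [hInv, Finset.mem_filter, Finset.mem_univ, true_and] at hw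
    obtain ⟨o3, g3, s3⟩ := hO hw.2 hw.1
    have hd3 : Disjoint (O u ∪ O v) (O w) := by
      rw [Finset.disjoint_union_left]
      refine ⟨hdisj fun h => hwn (Finset.mem_union_left _ ?_), hdisj fun h => hwn (Finset.mem_union_right _ ?_)⟩ <;>
        simp only [O, Finset.mem_filter, Finset.mem_univ, true_and] <;> exact ⟨hw.1, h⟩
    have h3 : (O u ∪ O v ∪ O w).card ≤ Inv.card :=
      Finset.card_le_card (Finset.union_subset (Finset.union_subset s1 s2) s3)
    rw [Finset.card_union_of_disjoint hd3, hcard] at h3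
    omega

theorem exists_center (S : Sylow 2 G) (h8 : Nat.card ↥(S : Subgroup G) = 8) :
    ∃ z ∈ S, orderOf z = 2 ∧ ∀ x ∈ S, x * z = z * x := by
  haveI : Fact (Nat.Prime 2) := ⟨Nat.prime_two⟩
  haveI : Nontrivial ↥(S : Subgroup G) := Finite.one_lt_card_iff_nontrivial.1 (by omega)
  have hc := S.2.center_nontrivial
  have h2 : 2 ∣ Nat.card ↥(Subgroup.center ↥(S : Subgroup G)) := by
    obtain ⟨k, hk⟩ := IsPGroup.iff_card.1 (S.2.to_subgroup (Subgroup.center ↥(S : Subgroup G)))
    have h1 : 1 < Nat.card ↥(Subgroup.center ↥(S : Subgroup G)) := Finite.one_lt_card_iff_nontrivial.2 hc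
    rw [hk] at h1 ⊢
    exact dvd_pow_self 2 fun e => by simp [e] at h1
  obtain ⟨z, hz⟩ := exists_prime_orderOf_dvd_card' 2 h2
  refine ⟨((z : ↥(S : Subgroup G)) : G), (z : ↥(S : Subgroup G)).2, ?_, fun x hx => ?_⟩
  · rw [Subgroup.orderOf_coe, Subgroup.orderOf_coe, hz]
  · exact congrArg Subtype.val (Subgroup.mem_center_iff.1 z.2 ⟨x, hx⟩)

theorem conj_all_nonabelian (hG : ¬ IsMulCommutative G) (hcard : Nat.card G = 175560) (S : Sylow 2 G)
    (hab : ¬ IsMulCommutative ↥(S : Subgroup G)) {z u : G} (hz : orderOf z = 2) (hzS : z ∈ S)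
    (hzc : ∀ x ∈ S, x * z = z * x) (hu : orderOf u = 2) (huS : u ∈ S) : IsConj z u := by
  haveI : Fact (Nat.Prime 2) := ⟨Nat.prime_two⟩
  have h8 := card_sylow_two hcard S
  set Z := Subgroup.center ↥(S : Subgroup G) with hZ
  have hz1 : z ≠ 1 := fun e => by rw [e, orderOf_one] at hz; omega
  have hzZ : (⟨z, hzS⟩ : ↥(S : Subgroup G)) ∈ Z :=
    Subgroup.mem_center_iff.2 fun x => Subtype.ext (hzc x x.2)
  have hZ2 : Nat.card ↥Z = 2 := by
    have hd : Nat.card ↥Z ∣ 8 := h8 ▸ Subgroup.card_subgroup_dvd_card Z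
    have h2 : 2 ∣ Nat.card ↥Z := by
      have h := orderOf_dvd_natCard (⟨⟨z, hzS⟩, hzZ⟩ : ↥Z)
      rwa [← Subgroup.orderOf_coe, ← Subgroup.orderOf_coe, hz] at h
    by_contra hne
    apply hab
    have hq : Z.index ≤ 2 := by
      have h := Z.index_mul_card
      have := Nat.le_of_dvd (by norm_num) hd
      rw [h8] at h
      have hz4 : 4 ≤ Nat.card ↥Z := by
        obtain ⟨c, hc⟩ := h2
        rcases Nat.lt_or_ge (Nat.card ↥Z) 4 with h' | h'
        · have := Nat.card_pos (α := ↥Z); omega
        · exact h'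
      nlinarith
    haveI : IsCyclic (↥(S : Subgroup G) ⧸ Z) := by
      rcases Nat.lt_or_ge Z.index 2 with h | h
      · haveI : Subsingleton (↥(S : Subgroup G) ⧸ Z) := Finite.card_le_one_iff_subsingleton.1
          (by rw [← Subgroup.index_eq_card]; omega)
        exact isCyclic_of_subsingleton
      · exact isCyclic_of_prime_card (p := 2) (by rw [← Subgroup.index_eq_card]; omega)
    exact ⟨⟨fun a b => commutative_of_cyclic_center_quotient (QuotientGroup.mk' Z)
      (by rw [QuotientGroup.ker_mk']) a b⟩⟩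
  have hcen : ∀ x ∈ S, (∀ y ∈ S, y * x = x * y) → x = 1 ∨ x = z := by
    intro x hx hc
    have hxZ : (⟨x, hx⟩ : ↥(S : Subgroup G)) ∈ Z :=
      Subgroup.mem_center_iff.2 fun y => Subtype.ext (hc y y.2)
    by_cases h : x = 1
    · exact Or.inl h
    · right
      obtain ⟨y, -, huniq⟩ := (Nat.card_eq_two_iff' (1 : ↥Z)).1 hZ2
      have e1 := huniq ⟨_, hxZ⟩ fun e => h (congrArg (fun q : ↥Z => ((q : ↥(S : Subgroup G)) : G)) e)
      have e2 := huniq ⟨_, hzZ⟩ fun e => hz1 (congrArg (fun q : ↥Z => ((q : ↥(S : Subgroup G)) : G)) e)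
      exact congrArg (fun q : ↥Z => ((q : ↥(S : Subgroup G)) : G)) (e1.trans e2.symm)
  obtain ⟨g, ha, hne⟩ := exists_other hG S hz hzS
  set a := g * z * g⁻¹ with hadef
  have hconja : IsConj z a := isConj_iff.2 ⟨g, rfl⟩
  have hao : orderOf a = 2 := by
    have := orderOf_injective (MulAut.conj g).toMonoidHom (MulAut.conj g).injective z
    simpa [hz] using this
  have haa : a * a = 1 := by rw [← pow_two, ← hao]; exact pow_orderOf_eq_one a
  have hzz : z * z = 1 := by rw [← pow_two, ← hz]; exact pow_orderOf_eq_one z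
  have haz : z * a = a * z := (hzc a ha).symm
  have ha1 : a ≠ 1 := fun e => by rw [e, orderOf_one] at hao; omega
  let Q : Subgroup G :=
    { carrier := {1, z, a, z * a}
      one_mem' := by simp
      inv_mem' := by
        intro x hx
        simp only [Set.mem_insert_iff, Set.mem_singleton_iff] at hx ⊢
        have e1 : z⁻¹ = z := inv_eq_of_mul_eq_one_right hzz
        have e2 : a⁻¹ = a := inv_eq_of_mul_eq_one_right haa
        rcases hx with rfl | rfl | rfl | rfl
        · simp
        · simp [e1]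
        · simp [e2]
        · simp [e1, e2, haz]
      mul_mem' := by
        intro x y hx hy
        simp only [Set.mem_insert_iff, Set.mem_singleton_iff] at hx hy ⊢
        have k1 : a * (z * a) = z := by rw [← mul_assoc, ← haz, mul_assoc, haa, mul_one]
        have k2 : z * a * z = a := by rw [haz, mul_assoc, hzz, mul_one]
        have k3 : z * (z * a) = a := by rw [← mul_assoc, hzz, one_mul]
        have k4 : z * a * a = z := by rw [mul_assoc, haa, mul_one]
        have k5 : z * a * (z * a) = 1 := by rw [mul_assoc, k1, hzz]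
        rcases hx with rfl | rfl | rfl | rfl <;> rcases hy with rfl | rfl | rfl | rfl <;>
          simp [hzz, haa, k1, k2, k3, k4, k5, ← haz] }
  have hQS : Q ≤ (S : Subgroup G) := by
    intro x hx
    change x ∈ ({1, z, a, z * a} : Set G) at hx
    simp only [Set.mem_insert_iff, Set.mem_singleton_iff] at hx
    rcases hx with rfl | rfl | rfl | rfl
    exacts [one_mem _, hzS, ha, mul_mem hzS ha]
  -- the product of `z` and `a` is conjugate to `a` inside `S`
  have hza : IsConj a (z * a) := by
    obtain ⟨s, hs, hsa⟩ : ∃ s ∈ S, s * a ≠ a * s := by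
      by_contra h
      push Not at h
      rcases hcen a ha (fun y hy => h y hy) with e | e
      · exact ha1 e
      · exact hne e
    refine isConj_iff.2 ⟨s, ?_⟩
    have hcomm : s * a * s⁻¹ * a⁻¹ ∈ S :=
      mul_mem (mul_mem (mul_mem hs ha) (inv_mem hs)) (inv_mem ha)
    have hcz : (⟨_, hcomm⟩ : ↥(S : Subgroup G)) ∈ Z := by
      let s' : ↥(S : Subgroup G) := ⟨s, hs⟩
      let a' : ↥(S : Subgroup G) := ⟨a, ha⟩
      have hq : Nat.card (↥(S : Subgroup G) ⧸ Z) = 2 ^ 2 := by
        have h := Z.index_mul_card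
        rw [h8, hZ2, Subgroup.index_eq_card] at h
        norm_num; omega
      have hm := IsPGroup.commutative_of_card_eq_prime_sq hq (↑s' : ↥(S : Subgroup G) ⧸ Z) ↑a'
      rw [← QuotientGroup.eq_one_iff]
      change ((s' * a' * s'⁻¹ * a'⁻¹ : ↥(S : Subgroup G)) : ↥(S : Subgroup G) ⧸ Z) = 1
      simp only [QuotientGroup.mk_mul, QuotientGroup.mk_inv, hm]
      group
    rcases hcen _ hcomm (fun y hy => congrArg Subtype.val (Subgroup.mem_center_iff.1 hcz ⟨y, hy⟩)) with e | e
    · rw [mul_inv_eq_one, mul_inv_eq_iff_eq_mul] at e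
      exact absurd e hsa
    · exact mul_inv_eq_iff_eq_mul.1 e
  have hQcard : Nat.card ↥Q = 4 := by
    rw [show Nat.card ↥Q = Nat.card ↥({1, z, a, z * a} : Set G) from rfl, Nat.card_coe_set_eq]
    have h1 : z * a ≠ 1 := fun e => hne ((inv_eq_of_mul_eq_one_right e).symm.trans
      (inv_eq_of_mul_eq_one_right hzz))
    rw [Set.ncard_insert_of_notMem, Set.ncard_insert_of_notMem, Set.ncard_pair]
    · exact fun e => hz1 (mul_eq_right.1 e.symm)
    · simp only [Set.mem_insert_iff, Set.mem_singleton_iff, not_or]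
      exact ⟨fun e => hne e.symm, fun e => ha1 (mul_eq_left.1 e.symm)⟩
    · simp only [Set.mem_insert_iff, Set.mem_singleton_iff, not_or]
      exact ⟨fun e => hz1 e.symm, fun e => ha1 e.symm, fun e => h1 e.symm⟩
  have hQin : ∀ x ∈ Q, x ≠ 1 → IsConj z x := by
    intro x hx hx1
    change x ∈ ({1, z, a, z * a} : Set G) at hx
    simp only [Set.mem_insert_iff, Set.mem_singleton_iff] at hx
    rcases hx with rfl | rfl | rfl | rfl
    exacts [absurd rfl hx1, IsConj.refl _, hconja, hconja.trans hza]
  by_contra hno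
  obtain ⟨M, hM, hMi, -⟩ := TransferThompson.thompson_transfer S Q hQS (by
    rw [Subgroup.relIndex]
    have h := (Q.subgroupOf (S : Subgroup G)).index_mul_card
    rw [Nat.card_congr (Subgroup.subgroupOfEquivOfLe hQS).toEquiv, hQcard, h8] at h
    omega) hu huS (fun c hc => hno (by
      have hc1 : c * u * c⁻¹ ≠ 1 := fun e => by
        rw [conj_eq_one_iff] at e
        rw [e, orderOf_one] at hu; omega
      exact (hQin _ hc hc1).trans (isConj_iff.2 ⟨c⁻¹, by group⟩)))
  rcases SimpleOrder.eq_bot_or_top hM with e | e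
  · rw [e, Subgroup.index_bot, hcard] at hMi; omega
  · rw [e, Subgroup.index_top] at hMi; omega

/-- One class of involutions, centralized by a Sylow 2-subgroup. -/
theorem exists_involution (hcard : Nat.card G = 175560) :
    ∃ t : G, IsTwoCentralInvolution t ∧ ∀ i : G, orderOf i = 2 → IsConj t i := by
  haveI : Fact (Nat.Prime 2) := ⟨Nat.prime_two⟩
  have hG : ¬ IsMulCommutative G := SimpleOrder.not_comm_of_not_prime (by rw [hcard]; norm_num)
  obtain ⟨S⟩ := (inferInstance : Nonempty (Sylow 2 G))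
  have h8 := card_sylow_two hcard S
  obtain ⟨z, hzS, hz, hzc⟩ := exists_center S h8
  refine ⟨z, ⟨hz, S, hzS, hzc⟩, fun i hi => ?_⟩
  have hp : IsPGroup 2 ↥(Subgroup.zpowers i) :=
    IsPGroup.of_card (n := 1) (by rw [Nat.card_zpowers, hi, pow_one])
  obtain ⟨Q, hQ⟩ := hp.exists_le_sylow
  obtain ⟨g, hg⟩ := MulAction.exists_smul_eq G S Q
  have hmem := hQ (Subgroup.mem_zpowers i)
  rw [← hg, Sylow.coe_subgroup_smul, Subgroup.mem_pointwise_smul_iff_inv_smul_mem, ← map_inv,
    MulAut.smul_def, MulAut.conj_apply, inv_inv] at hmem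
  have ho : orderOf (g⁻¹ * i * g) = 2 := by
    have := orderOf_injective (MulAut.conj g⁻¹).toMonoidHom (MulAut.conj g⁻¹).injective i
    simpa [hi] using this
  have hcj : IsConj (g⁻¹ * i * g) i := isConj_iff.2 ⟨g, by group⟩
  by_cases hab : IsMulCommutative ↥(S : Subgroup G)
  · exact (conj_all_abelian hG S h8 hab hz ho hzS hmem).trans hcj
  · exact (conj_all_nonabelian hG hcard S hab hz hzS hzc ho hmem).trans hcj

end Cfsg.Agent.Ord175560Classes91
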