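import Mathlib
import Cfsg.Agent.Lib.CentFour75Local
import Cfsg.Agent.Lib.TransferThompson
import Cfsg.Agent.Lib.Ord175560Classes91
import Cfsg.Agent.Lib.PGroupsBasic

/-!
The Sylow 2-subgroup of a simple group with an element whose centraliser has order four.
-/

set_option autoImplicit false
set_option linter.style.haveILetI false
set_option linter.unusedSectionVars false

namespace Cfsg.Agent.CentFour75

open Subgroup
open scoped commutatorElement

universe u

/-- In a 2-group an element with centraliser of order at most four fills a coset of the derived group,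
which has index four. -/
theorem coset_eq {T : Type u} [Group T] [Finite T] (hT : IsPGroup 2 T) (hnc : ¬ IsCyclic T) {y : T} (hy1 : y ≠ 1)
    (hy : Nat.card (centralizer ({y} : Set T)) ≤ 4) :
    (commutator T).index = 4 ∧ y ∉ commutator T ∧ ∀ z : T, y⁻¹ * z ∈ commutator T → IsConj y z := by
  haveI : Fact (Nat.Prime 2) := ⟨Nat.prime_two⟩
  set K := commutator T with hK
  have hcl : Nat.card {z : T // IsConj y z} * Nat.card (centralizer ({y} : Set T)) = Nat.card T := by
    have h2 : {z : T | IsConj y z} = MulAction.orbit (ConjAct T) y := by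
      ext z; rw [ConjAct.mem_orbit_conjAct]; exact ⟨IsConj.symm, IsConj.symm⟩
    have h1 : Nat.card {z : T // IsConj y z} = (centralizer ({y} : Set T)).index := by
      rw [show Nat.card {z : T // IsConj y z} = ({z : T | IsConj y z}).ncard from
        Nat.card_coe_set_eq _, h2, ← MulAction.index_stabilizer, ConjAct.stabilizer_eq_centralizer]
      rfl
    rw [h1, Subgroup.index_mul_card]
  have hsub : ∀ z : T, IsConj y z → y⁻¹ * z ∈ K := by
    intro z hz
    obtain ⟨g, rfl⟩ := isConj_iff.1 hz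
    refine (QuotientGroup.eq_one_iff (y⁻¹ * (g * y * g⁻¹))).1 ?_
    show Abelianization.of (y⁻¹ * (g * y * g⁻¹)) = 1
    rw [map_mul, map_mul, map_mul, map_inv, map_inv, mul_comm (Abelianization.of g), mul_inv_cancel_right,
      inv_mul_cancel]
  let f : {z : T // IsConj y z} → K := fun z => ⟨y⁻¹ * z.1, hsub z.1 z.2⟩
  have hf : Function.Injective f := fun a b e =>
    Subtype.ext (mul_left_cancel (congrArg Subtype.val e))
  have hle := Nat.card_le_card_of_injective f hf
  have hpos : 0 < Nat.card K := Nat.card_pos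
  have hidx : K.index ≤ 4 := by
    refine Nat.le_of_mul_le_mul_right ?_ hpos
    rw [K.index_mul_card, ← hcl, mul_comm 4]
    exact Nat.mul_le_mul hle hy
  have hΦ : K ≤ frattini T := PGroupsBasic.commutator_le_frattini hT
  have hnot2 : ∀ x : T, zpowers x ⊔ K ≠ ⊤ := fun x hx => hnc (by
    have htop : zpowers x = ⊤ := frattini_nongenerating (eq_top_iff.2 (hx ▸ sup_le_sup_left hΦ _))
    exact ⟨⟨x, fun z => mem_zpowers_iff.1 ((eq_top_iff' _).1 htop z)⟩⟩)
  have hidx4 : K.index = 4 := by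
    obtain ⟨k, hk⟩ := hT.index K
    have hk2 : k ≤ 2 := by
      by_contra hc
      have : 2 ^ 3 ≤ 2 ^ k := Nat.pow_le_pow_right two_pos (by omega)
      omega
    interval_cases k
    · exfalso
      refine hnot2 1 (eq_top_iff.2 fun z _ => mem_sup_right ?_)
      rw [(Subgroup.index_eq_one.1 (by simpa using hk) : K = ⊤)]
      exact mem_top z
    · exfalso
      have hne : K ≠ ⊤ := fun e => by rw [e, Subgroup.index_top] at hk; norm_num at hk
      obtain ⟨x, -, hx⟩ := SetLike.exists_of_lt (lt_top_iff_ne_top.2 hne)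
      refine hnot2 x (eq_top_iff.2 fun z _ => ?_)
      by_cases hz : z ∈ K
      · exact mem_sup_right hz
      · have h1 : x⁻¹ * z ∈ K := by
          rw [Subgroup.mul_mem_iff_of_index_two (by simpa using hk), inv_mem_iff]
          exact iff_of_false hx hz
        have := mul_mem (mem_sup_left (T := K) (mem_zpowers x)) (mem_sup_right (S := zpowers x) h1)
        rwa [mul_inv_cancel_left] at this
    · simpa using hk
  have heq : Nat.card {z : T // IsConj y z} = Nat.card K := by
    refine le_antisymm hle (Nat.le_of_mul_le_mul_right ?_ (show 0 < 4 by norm_num))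
    rw [mul_comm (Nat.card K), ← hidx4, K.index_mul_card, hidx4, ← hcl]
    exact Nat.mul_le_mul_left _ hy
  have hbij := (Nat.bijective_iff_injective_and_card f).2 ⟨hf, heq⟩
  have hall : ∀ z : T, y⁻¹ * z ∈ K → IsConj y z := by
    intro z hz
    obtain ⟨a, ha⟩ := hbij.2 ⟨_, hz⟩
    rw [← mul_left_cancel (congrArg Subtype.val ha : y⁻¹ * a.1 = y⁻¹ * z)]
    exact a.2
  refine ⟨hidx4, fun hyK => ?_, hall⟩
  obtain ⟨g, hg⟩ := isConj_iff.1 (hall 1 (by simpa using inv_mem hyK))
  exact hy1 (conj_eq_one_iff.1 hg)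

theorem commutator_le_of_sq {T : Type u} [Group T] [Finite T] (hT : IsPGroup 2 T) {a b : T}
    (hgen : commutator T ⊔ closure ({a, b} : Set T) = ⊤) (Z : Subgroup T) [Z.Normal]
    (ha : a * a ∈ Z) (hb : b * b ∈ Z) (hab : a * b * (a * b) ∈ Z) : commutator T ≤ Z := by
  haveI : Fact (Nat.Prime 2) := ⟨Nat.prime_two⟩
  have htop : closure ({a, b} : Set T) = ⊤ :=
    frattini_nongenerating (eq_top_iff.2 (hgen ▸ (sup_comm (closure ({a, b} : Set T)) (frattini T)).symm ▸
      sup_le_sup_right (PGroupsBasic.commutator_le_frattini hT) _))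
  set φ := QuotientGroup.mk' Z
  have h1 : ∀ x, x * x ∈ Z → (φ x)⁻¹ = φ x := fun x hx => inv_eq_of_mul_eq_one_right (by
    rw [← map_mul]; exact (QuotientGroup.eq_one_iff _).2 hx)
  have hc : Commute (φ a) (φ b) := by
    have e := h1 _ hab
    rw [map_mul, mul_inv_rev, h1 a ha, h1 b hb] at e
    exact e.symm
  have hle : closure ({a, b} : Set T) ≤ (centralizer ({φ a, φ b} : Set (T ⧸ Z))).comap φ := by
    rw [closure_le]
    rintro x (rfl | rfl) <;> intro y hy <;> rcases hy with rfl | rfl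
    exacts [rfl, hc.symm.eq, hc.eq, rfl]
  rw [htop] at hle
  have hcen : ∀ g : T, Commute (φ g) (φ a) ∧ Commute (φ g) (φ b) := fun g =>
    ⟨((hle (mem_top g)) _ (Or.inl rfl)).symm, ((hle (mem_top g)) _ (Or.inr rfl)).symm⟩
  rw [commutator_def, Subgroup.commutator_le]
  intro g _ k _
  rw [← QuotientGroup.eq_one_iff]
  show φ ⁅g, k⁆ = 1
  rw [map_commutatorElement, commutatorElement_eq_one_iff_mul_comm]
  have hk : closure ({a, b} : Set T) ≤ (centralizer ({φ g} : Set (T ⧸ Z))).comap φ := by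
    rw [closure_le]
    rintro x (rfl | rfl)
    exacts [mem_centralizer_singleton_iff.2 (hcen g).1.symm.eq,
      mem_centralizer_singleton_iff.2 (hcen g).2.symm.eq]
  rw [htop] at hk
  exact (mem_centralizer_singleton_iff.1 (hk (mem_top k))).symm

/-- An index two subgroup avoiding a class `W` of elements with small centraliser. -/
theorem exists_avoiding {T : Type u} [Group T] [Finite T] (hT : IsPGroup 2 T) (hnc : ¬ IsCyclic T)
    (Z : Subgroup T) [Z.Normal] (hZ : ¬ commutator T ≤ Z) (W : T → Prop)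
    (hW : ∀ y z, W y → IsConj y z → W z) (hW1 : ∀ y, W y → y ≠ 1)
    (hcard : ∀ y, W y → Nat.card (centralizer ({y} : Set T)) ≤ 4)
    (hsq : ∀ y, W y → y * y ∈ Z) {w : T} (hw : W w) :
    ∃ Q : Subgroup T, Q.index = 2 ∧ (∀ z, W z → z ∉ Q) ∧ ∀ z, z ∉ Q → ¬ W z → z * z ∉ Z := by
  haveI : Fact (Nat.Prime 2) := ⟨Nat.prime_two⟩
  obtain ⟨hi4, hwK, hwc⟩ := coset_eq hT hnc (hW1 w hw) (hcard w hw)
  set K := commutator T with hK
  have hfull : ∀ x z, W x → x⁻¹ * z ∈ K → W z := fun x z hx h =>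
    hW x z hx ((coset_eq hT hnc (hW1 x hx) (hcard x hx)).2.2 z h)
  have hnK : ∀ x, W x → x ∉ K := fun x hx => (coset_eq hT hnc (hW1 x hx) (hcard x hx)).2.1
  have hQ : ∀ x ∉ K, (K ⊔ zpowers x).index = 2 ∧
      ∀ z ∈ K ⊔ zpowers x, z ∈ K ∨ x⁻¹ * z ∈ K := by
    intro x hx
    set Q := K ⊔ zpowers x with hQdef
    have hxQ : x ∈ Q := mem_sup_right (mem_zpowers x)
    have hne : Q.index ≠ 1 := by
      rw [Ne, Subgroup.index_eq_one]
      intro e
      have := frattini_nongenerating (K := zpowers x) (eq_top_iff.2 (e ▸ sup_le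
        ((PGroupsBasic.commutator_le_frattini hT).trans le_sup_right) le_sup_left))
      exact hnc ⟨⟨x, fun z => mem_zpowers_iff.1 ((eq_top_iff' _).1 this z)⟩⟩
    have hmul := Subgroup.relIndex_mul_index (show K ≤ Q from le_sup_left)
    have hr1 : K.relIndex Q ≠ 1 := fun e => hx (relIndex_eq_one.1 e hxQ)
    rw [hi4] at hmul
    have hd : Q.index ∣ 4 := ⟨_, by rw [← hmul, mul_comm]⟩
    have hle : Q.index ≤ 4 := Nat.le_of_dvd (by norm_num) hd
    have h2 : Q.index = 2 := by
      interval_cases Q.index <;> omega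
    refine ⟨h2, fun z hz => ?_⟩
    have hr : (K.subgroupOf Q).index = 2 := by
      show K.relIndex Q = 2
      rw [h2] at hmul
      omega
    by_cases hzK : z ∈ K
    · exact Or.inl hzK
    · refine Or.inr ?_
      have := (Subgroup.mul_mem_iff_of_index_two hr (a := (⟨x, hxQ⟩ : Q)⁻¹) (b := ⟨z, hz⟩)).2
        (iff_of_false (fun h => hx (inv_mem_iff.1 h)) hzK)
      exact this
  obtain ⟨hAi, hA⟩ := hQ w hwK
  obtain ⟨b, -, hb⟩ := SetLike.exists_of_lt (lt_top_iff_ne_top.2 fun e : K ⊔ zpowers w = ⊤ => by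
    rw [e, Subgroup.index_top] at hAi; omega)
  have hbK : b ∉ K := fun h => hb (mem_sup_left h)
  set c := b * w with hc
  have hcA : c ∉ K ⊔ zpowers w := fun h => hb (by
    simpa [hc] using mul_mem h (inv_mem (mem_sup_right (S := K) (mem_zpowers w))))
  have hcK : c ∉ K := fun h => hcA (mem_sup_left h)
  have hcover : ∀ z, z ∈ K ∨ w⁻¹ * z ∈ K ∨ b⁻¹ * z ∈ K ∨ c⁻¹ * z ∈ K := by
    intro z
    by_cases hz : z ∈ K ⊔ zpowers w
    · exact (hA z hz).imp id Or.inl
    · have hbz : b⁻¹ * z ∈ K ⊔ zpowers w := by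
        rw [Subgroup.mul_mem_iff_of_index_two hAi, inv_mem_iff]
        exact iff_of_false hb hz
      rcases hA _ hbz with h | h
      · exact Or.inr (Or.inr (Or.inl h))
      · exact Or.inr (Or.inr (Or.inr (by rwa [hc, mul_inv_rev, mul_assoc])))
  have key : ∀ x y, x ∉ K → y ∉ K → (∀ z, z ∈ K ∨ w⁻¹ * z ∈ K ∨ x⁻¹ * z ∈ K ∨ y⁻¹ * z ∈ K) →
      x⁻¹ * w ∉ K → (∀ z, x⁻¹ * z ∈ K → ¬ W z) → (∀ z, y⁻¹ * z ∈ K → W z ∨ z * z ∉ Z) →
      ∃ Q : Subgroup T, Q.index = 2 ∧ (∀ z, W z → z ∉ Q) ∧ ∀ z, z ∉ Q → ¬ W z → z * z ∉ Z := by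
    intro x y hx hy hcov hxw hxW hyS
    obtain ⟨hi, hmem⟩ := hQ x hx
    refine ⟨_, hi, fun z hz hzQ => ?_, fun z hzQ hzW => ?_⟩
    · rcases hmem z hzQ with h | h
      exacts [hnK z hz h, hxW z h hz]
    · rcases hcov z with h | h | h | h
      · exact absurd (mem_sup_left h) hzQ
      · exact absurd (hfull w z hw h) hzW
      · exact absurd (by
          simpa using mul_mem (mem_sup_right (S := K) (mem_zpowers x)) (mem_sup_left (T := zpowers x) h)) hzQ
      · exact (hyS z h).resolve_left hzW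
  have hbw : b⁻¹ * w ∉ K := fun h => hb (by
    simpa using mul_mem (mem_sup_right (S := K) (mem_zpowers w)) (mem_sup_left (T := zpowers w) (inv_mem h)))
  have hcw : c⁻¹ * w ∉ K := fun h => hcA (by
    simpa using mul_mem (mem_sup_right (S := K) (mem_zpowers w)) (mem_sup_left (T := zpowers w) (inv_mem h)))
  by_cases h1 : (∀ z, b⁻¹ * z ∈ K → ¬ W z) ∧ ∀ z, c⁻¹ * z ∈ K → W z ∨ z * z ∉ Z
  · exact key b c hbK hcK hcover hbw h1.1 h1.2
  by_cases h2 : (∀ z, c⁻¹ * z ∈ K → ¬ W z) ∧ ∀ z, b⁻¹ * z ∈ K → W z ∨ z * z ∉ Z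
  · exact key c b hcK hbK (fun z => (hcover z).imp id (Or.imp id Or.symm)) hcw h2.1 h2.2
  exfalso
  push Not at h1 h2
  -- representatives of the two cosets with squares in `Z`
  obtain ⟨b', hb', hbZ, c', hc', hcZ⟩ : ∃ b', b⁻¹ * b' ∈ K ∧ b' * b' ∈ Z ∧
      ∃ c', c⁻¹ * c' ∈ K ∧ c' * c' ∈ Z := by
    by_cases hb : ∀ z, b⁻¹ * z ∈ K → ¬ W z
    · obtain ⟨c', hc', hnW, hcZ⟩ := h1 hb
      have hc2 : ∀ z, c⁻¹ * z ∈ K → ¬ W z := fun z hz hWz => hnW (hfull z c' hWz (by
        simpa [mul_assoc] using mul_mem (inv_mem hz) hc'))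
      obtain ⟨b', hb', -, hbZ⟩ := h2 hc2
      exact ⟨b', hb', hbZ, c', hc', hcZ⟩
    · push Not at hb
      obtain ⟨b', hb', hWb⟩ := hb
      by_cases hc : ∀ z, c⁻¹ * z ∈ K → ¬ W z
      · obtain ⟨z, hz, hnW, -⟩ := h2 hc
        exact absurd (hfull b' z hWb (by simpa [mul_assoc] using mul_mem (inv_mem hb') hz)) hnW
      · push Not at hc
        obtain ⟨c', hc', hWc⟩ := hc
        exact ⟨b', hb', hsq b' hWb, c', hc', hsq c' hWc⟩
  have hmk : ∀ x z, x⁻¹ * z ∈ K → Abelianization.of z = Abelianization.of x := fun x z h =>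
    (QuotientGroup.eq.2 h).symm
  have hprod : w⁻¹ * (b' * c') ∈ K := by
    have hww : Abelianization.of b * Abelianization.of b = 1 := by
      rw [← map_mul]
      refine (QuotientGroup.eq_one_iff _).2 ?_
      obtain ⟨hi, hm⟩ := hQ b hbK
      rcases hm (b * b) (mul_mem (mem_sup_right (mem_zpowers b)) (mem_sup_right (mem_zpowers b))) with h | h
      · exact h
      · exact absurd (by simpa using h) hbK
    refine QuotientGroup.eq.1 (?_ : Abelianization.of w = Abelianization.of (b' * c'))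
    rw [map_mul, hmk b b' hb', hmk c c' hc', hc, map_mul, ← mul_assoc, hww, one_mul]
  have hgen : commutator T ⊔ closure ({b', c'} : Set T) = ⊤ := by
    refine eq_top_iff.2 fun z _ => ?_
    have hm : ∀ {x z : T}, x ∈ K ⊔ closure ({b', c'} : Set T) → x⁻¹ * z ∈ K →
        z ∈ K ⊔ closure ({b', c'} : Set T) := fun hx h => by
      simpa using mul_mem hx (mem_sup_left (T := closure ({b', c'} : Set T)) h)
    have hbm : b ∈ K ⊔ closure ({b', c'} : Set T) :=
      hm (mem_sup_right (subset_closure (by simp) : b' ∈ _)) (by simpa using inv_mem hb')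
    have hcm : c ∈ K ⊔ closure ({b', c'} : Set T) :=
      hm (mem_sup_right (subset_closure (by simp) : c' ∈ _)) (by simpa using inv_mem hc')
    rcases hcover z with h | h | h | h
    · exact mem_sup_left h
    · exact hm (by simpa [hc] using mul_mem (inv_mem hbm) hcm) h
    · exact hm hbm h
    · exact hm hcm h
  exact hZ (commutator_le_of_sq hT hgen Z hbZ hcZ (hsq _ (hfull w _ hw hprod)))

end Cfsg.Agent.CentFour75
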