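import Mathlib
import Cfsg.Agent.Lib.CentFour75Sylow
import Cfsg.Agent.Lib.KleinFourOrder79
import Cfsg.Agent.Lib.KleinSelfCent
import Cfsg.Agent.Lib.Simple360
import Cfsg.Agent.Lib.SimpleOrder

/-!
Reduction of a centraliser of order four to the dihedral setting or to the alternating group of degree five.
-/

set_option autoImplicit false
set_option linter.style.haveILetI false
set_option linter.unusedSectionVars false

namespace Cfsg.Agent.CentFour75

open Subgroup

universe u

theorem card_centralizer_conj {G : Type u} [Group G] {x y : G} (h : IsConj x y) :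
    Nat.card (centralizer ({y} : Set G)) = Nat.card (centralizer ({x} : Set G)) := by
  obtain ⟨c, rfl⟩ := isConj_iff.1 h
  rw [show centralizer ({c * x * c⁻¹} : Set G) =
      (centralizer ({x} : Set G)).map (MulAut.conj c).toMonoidHom from ?_,
    Nat.card_congr (equivMapOfInjective _ _ (MulAut.conj c).injective).toEquiv.symm]
  ext z
  rw [mem_centralizer_singleton_iff, Subgroup.mem_map_equiv, mem_centralizer_singleton_iff,
    MulAut.conj_symm_apply]
  constructor
  · intro e
    calc c⁻¹ * z * c * x = c⁻¹ * (z * (c * x * c⁻¹)) * c := by group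
      _ = x * (c⁻¹ * z * c) := by rw [e]; group
  · intro e
    calc z * (c * x * c⁻¹) = c * (c⁻¹ * z * c * x) * c⁻¹ := by group
      _ = c * x * c⁻¹ * z := by rw [e]; group

theorem orderOf_of_isConj {G : Type u} [Group G] {x y : G} (h : IsConj x y) : orderOf y = orderOf x := by
  obtain ⟨c, rfl⟩ := isConj_iff.1 h
  rw [show c * x * c⁻¹ = MulAut.conj c x by simp, MulEquiv.orderOf_eq]

theorem pow_cases4 {G : Type u} [Group G] [Finite G] {w x : G} (ho : orderOf w = 4) (hx : x ∈ zpowers w) :
    x = 1 ∨ x = w ∨ x = w ^ 2 ∨ x = w⁻¹ := by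
  obtain ⟨l, rfl⟩ := (Submonoid.mem_powers_iff _ _).1 ((mem_powers_iff_mem_zpowers).2 hx)
  have e : w ^ l = w ^ (l % 4) := by rw [← ho, pow_mod_orderOf]
  have h4 : w ^ 4 = 1 := ho ▸ pow_orderOf_eq_one w
  have h3 : w ^ 3 = w⁻¹ := eq_inv_of_mul_eq_one_left (by rw [← pow_succ]; exact h4)
  have : l % 4 = 0 ∨ l % 4 = 1 ∨ l % 4 = 2 ∨ l % 4 = 3 := by omega
  rcases this with r | r | r | r <;> rw [r] at e <;> simp [e, h3]

variable {G : Type u} [Group G] [Finite G] [IsSimpleGroup G]

theorem no_index_two (hna : ¬ IsMulCommutative G) {M : Subgroup G} (hM : M.Normal) (h2 : M.index = 2) :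
    False := by
  rcases hM.eq_bot_or_eq_top with e | e
  · rw [e, Subgroup.index_bot] at h2
    haveI : Fact (Nat.Prime 2) := ⟨Nat.prime_two⟩
    exact SimpleOrder.not_isPGroup hna 2 (IsPGroup.of_card (n := 1) (by rw [h2, pow_one]))
  · rw [e, Subgroup.index_top] at h2
    omega

theorem not_isCyclic_sylow (hna : ¬ IsMulCommutative G) (P : Sylow 2 G) (hd : 2 ∣ Nat.card G) :
    ¬ IsCyclic P := by
  haveI : Fact (Nat.Prime 2) := ⟨Nat.prime_two⟩
  intro hc
  have hcompl : ∀ N : Subgroup G, N.Normal → IsComplement' N (P : Subgroup G) → False := by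
    intro N hN h
    rcases hN.eq_bot_or_eq_top with e | e
    · have hP : (P : Subgroup G) = ⊤ := isComplement'_bot_left.1 (e ▸ h)
      exact SimpleOrder.not_isPGroup hna 2 (IsPGroup.iff_card.2
        ((IsPGroup.iff_card.1 P.isPGroup').imp fun n hn => by rwa [hP, Subgroup.card_top] at hn))
    · have hP : (P : Subgroup G) = ⊥ := isComplement'_top_left.1 (e ▸ h)
      have h2 := P.dvd_card_of_dvd_card hd
      rw [hP, Subgroup.card_bot] at h2
      omega
  exact hcompl _ inferInstance (IsCyclic.isComplement' ((Nat.minFac_eq_two_iff _).2 hd) hc)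

/-- The data inside a Sylow subgroup. -/
theorem sylow_data (hna : ¬ IsMulCommutative G) {w : G} (hC : Nat.card (centralizer ({w} : Set G)) = 4)
    (P : Sylow 2 G) (hd : 2 ∣ Nat.card G) (hw1 : w ≠ 1) :
    ¬ IsCyclic (P : Subgroup G) ∧
      (∀ y z : (P : Subgroup G), IsConj w (y : G) → IsConj y z → IsConj w (z : G)) ∧
      (∀ y : (P : Subgroup G), IsConj w (y : G) → y ≠ 1) ∧
      ∀ y : (P : Subgroup G), IsConj w (y : G) →
        Nat.card (centralizer ({y} : Set (P : Subgroup G))) ≤ 4 := by
  refine ⟨not_isCyclic_sylow hna P hd, fun y z hy hyz => hy.trans ?_, fun y hy e => ?_, fun y hy => ?_⟩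
  · obtain ⟨c, rfl⟩ := isConj_iff.1 hyz
    exact isConj_iff.2 ⟨(c : G), rfl⟩
  · obtain ⟨c, hc⟩ := isConj_iff.1 hy
    rw [e, OneMemClass.coe_one, conj_eq_one_iff] at hc
    exact hw1 hc
  · rw [← hC, ← card_centralizer_conj hy]
    let f : centralizer ({y} : Set (P : Subgroup G)) → centralizer ({(y : G)} : Set G) := fun c =>
      ⟨((c : (P : Subgroup G)) : G), mem_centralizer_singleton_iff.2
        (congrArg Subtype.val (mem_centralizer_singleton_iff.1 c.2))⟩
    exact Nat.card_le_card_of_injective f fun a b e =>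
      Subtype.ext (Subtype.ext (congrArg (fun z : centralizer ({(y : G)} : Set G) => (z : G)) e))

/-- An involution with centraliser of order four. -/
theorem alternating_five (hna : ¬ IsMulCommutative G) {w : G} (hw : orderOf w = 2)
    (hC : Nat.card (centralizer ({w} : Set G)) = 4) :
    Nonempty (G ≃* ↥(alternatingGroup (Fin 5))) := by
  haveI : Fact (Nat.Prime 2) := ⟨Nat.prime_two⟩
  have hd : 2 ∣ Nat.card G := hw ▸ orderOf_dvd_natCard w
  have hw1 : w ≠ 1 := fun e => by rw [e, orderOf_one] at hw; omega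
  obtain ⟨P, hP⟩ := (IsPGroup.of_card (p := 2) (n := 2) hC).exists_le_sylow
  have hwC : w ∈ centralizer ({w} : Set G) := mem_centralizer_singleton_iff.2 rfl
  by_cases h4 : Nat.card P = 4
  · have hCP : centralizer ({w} : Set G) = (P : Subgroup G) :=
      eq_of_le_of_card_ge hP (by rw [hC]; exact h4.le)
    have hi : Nat.card G = 4 * (P : Subgroup G).index := by
      rw [← h4]; exact (Subgroup.card_mul_index _).symm
    have hg₀ : Odd (P : Subgroup G).index := Nat.odd_iff.2 (by have := P.not_dvd_index; omega)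
    haveI := Fintype.ofFinite G
    obtain ⟨-, hexp, hall⟩ := KleinFourOrder79.setup _ hg₀ hi (fun ⟨N, hN, hc⟩ => by
      rcases hN.eq_bot_or_eq_top with e | e <;> subst e
      · rw [Subgroup.card_bot] at hc
        exact SimpleOrder.not_isPGroup hna 2 (IsPGroup.of_card (n := 2) (by rw [hi, ← hc]; norm_num))
      · rw [Subgroup.card_top] at hc
        have := Nat.card_pos (α := G)
        omega) P
    have hlt : zpowers w < centralizer ({w} : Set G) := lt_of_le_of_ne (zpowers_le.2 hwC) fun e => by
      have := congrArg (fun H : Subgroup G => Nat.card H) e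
      simp only [Nat.card_zpowers, hw, hC] at this
      omega
    obtain ⟨a, haC, haw⟩ := SetLike.exists_of_lt hlt
    have ha2 : a * a = 1 := congrArg Subtype.val (hexp ⟨a, hP haC⟩)
    have hat : Commute w a := (mem_centralizer_singleton_iff.1 haC).symm
    have hw2 : ∀ c ∈ zpowers w, c = 1 ∨ c = w := fun c hc => by
      obtain ⟨l, rfl⟩ := mem_zpowers_iff.1 hc
      rw [← zpow_mod_orderOf, hw]
      rcases Int.emod_two_eq_zero_or_one l with e | e <;> simp [e]
    have hidx : (zpowers w).relIndex (centralizer ({w} : Set G)) = 2 := by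
      have := relIndex_mul_relIndex ⊥ (zpowers w) (centralizer ({w} : Set G)) bot_le hlt.le
      rw [relIndex_bot_left, relIndex_bot_left, Nat.card_zpowers, hw, hC] at this
      omega
    rcases KleinSelfCent.card_twelve_or_alternating hw
      (orderOf_eq_prime (by rw [pow_two]; exact ha2) fun e => haw (by rw [e]; exact one_mem _)) hat
      (fun e => haw (by rw [e]; exact mem_zpowers w)) (fun c hc => by
        have hcC : c ∈ centralizer ({w} : Set G) := mem_centralizer_singleton_iff.2 hc.eq
        by_cases hcw : c ∈ zpowers w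
        · exact (hw2 c hcw).imp id Or.inl
        · have := (Subgroup.mul_mem_iff_of_index_two hidx (a := ⟨a, haC⟩) (b := ⟨c, hcC⟩)).2
            (iff_of_false haw hcw)
          rcases hw2 _ this with e | e
          · refine Or.inr (Or.inr (Or.inl ?_))
            change a * c = 1 at e
            rw [eq_inv_of_mul_eq_one_right e, inv_eq_of_mul_eq_one_right ha2]
          · refine Or.inr (Or.inr (Or.inr ?_))
            change a * c = w at e
            rw [hat.eq, ← e, ← mul_assoc, ha2, one_mul])
      hall (fun h8 => by rw [hi] at h8; have := Nat.odd_iff.1 hg₀; omega) with h12 | ⟨-, he⟩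
    · have h5 := SimpleOrder.five_le_index hna (P : Subgroup G) (fun e => by
        have := Subgroup.card_top (G := G); rw [← e] at this; rw [h4] at this; omega)
      omega
    · exact he
  · exfalso
    obtain ⟨hnc, hW, hW1, hcard⟩ := sylow_data hna hC P hd hw1
    obtain ⟨hi4, -, -⟩ := coset_eq P.isPGroup' hnc (hW1 ⟨w, hP hwC⟩ (IsConj.refl w))
      (hcard ⟨w, hP hwC⟩ (IsConj.refl w))
    obtain ⟨Q, hQ, hQW, -⟩ := exists_avoiding P.isPGroup' hnc ⊥ (fun hle => h4 (by
      rw [le_bot_iff.1 hle, Subgroup.index_bot] at hi4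
      exact hi4)) (fun y => IsConj w (y : G)) hW hW1 hcard
      (fun y hy => Subgroup.mem_bot.2 (Subtype.ext (by
        have := orderOf_of_isConj hy
        rw [hw] at this
        show (y : G) * y = 1
        rw [← pow_two]; exact orderOf_dvd_iff_pow_eq_one.1 this.dvd))) (w := ⟨w, hP hwC⟩) (IsConj.refl w)
    obtain ⟨M, hM, hM2, -⟩ := TransferThompson.thompson_transfer P (Q.map (P : Subgroup G).subtype)
      (map_subtype_le Q) (by rw [relIndex, subgroupOf, comap_map_eq_self_of_injective (subtype_injective _)]; exact hQ)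
      hw (hP hwC) (fun g hg => by
        obtain ⟨z, hz, e⟩ := hg
        exact hQW z (isConj_iff.2 ⟨g, e.symm⟩) hz)
    exact no_index_two hna hM hM2

/-- An element of order four with centraliser of order four gives the dihedral setting. -/
theorem exists_hyp (hna : ¬ IsMulCommutative G) {w : G} (hw : orderOf w = 4)
    (hC : Nat.card (centralizer ({w} : Set G)) = 4) : ∃ τ, Hyp w τ := by
  haveI : Fact (Nat.Prime 2) := ⟨Nat.prime_two⟩
  have hd : 2 ∣ Nat.card G := (show 2 ∣ orderOf w by rw [hw]; norm_num).trans (orderOf_dvd_natCard w)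
  have hw1 : w ≠ 1 := fun e => by rw [e, orderOf_one] at hw; omega
  have hwC : zpowers w = centralizer ({w} : Set G) := by
    refine eq_of_le_of_card_ge (zpowers_le.2 (mem_centralizer_singleton_iff.2 rfl)) ?_
    rw [hC, Nat.card_zpowers, hw]
  obtain ⟨P, hP⟩ := (IsPGroup.of_card (p := 2) (n := 2)
    (by rw [Nat.card_zpowers, hw]; rfl : Nat.card (zpowers w) = 2 ^ 2)).exists_le_sylow
  have hwP : w ∈ (P : Subgroup G) := hP (mem_zpowers w)
  obtain ⟨hnc, hW, hW1, hcard⟩ := sylow_data hna hC P hd hw1
  obtain ⟨k, hk⟩ := IsPGroup.iff_card.1 P.isPGroup'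
  have h4 : 4 ≤ Nat.card (P : Subgroup G) := by
    have := Nat.le_of_dvd Nat.card_pos (card_dvd_of_le hP)
    rwa [Nat.card_zpowers, hw] at this
  have hk3 : 3 ≤ k := by
    by_contra hlt
    have hk2 : k = 2 := by
      by_contra hne
      have : 2 ^ k ≤ 2 ^ 1 := Nat.pow_le_pow_right two_pos (by omega)
      omega
    have e : zpowers w = (P : Subgroup G) := eq_of_le_of_card_ge hP
      (by rw [Nat.card_zpowers, hw, hk, hk2]; norm_num)
    exact hnc (e ▸ inferInstanceAs (IsCyclic (zpowers w)))
  rcases eq_or_lt_of_le hk3 with hk3 | hk4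
  · -- order eight
    have h8 : Nat.card (P : Subgroup G) = 8 := by rw [hk, ← hk3]; norm_num
    have ht : orderOf (w ^ 2) = 2 := by rw [orderOf_pow' w two_ne_zero, hw]; norm_num
    obtain ⟨g, hg, hne⟩ := Ord175560Classes91.exists_other hna P ht (pow_mem hwP 2)
    set τ := g * w ^ 2 * g⁻¹ with hτ
    have hτc : IsConj (w ^ 2) τ := isConj_iff.2 ⟨g, rfl⟩
    have hτo : orderOf τ = 2 := by rw [orderOf_of_isConj hτc, ht]
    have hτw : τ ∉ zpowers w := fun h => by
      rcases pow_cases4 hw h with e | e | e | e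
      · rw [e, orderOf_one] at hτo; omega
      · rw [e, hw] at hτo; omega
      · exact hne e
      · rw [e, orderOf_inv, hw] at hτo; omega
    have hidx : (zpowers w).relIndex (P : Subgroup G) = 2 := by
      have := relIndex_mul_relIndex ⊥ (zpowers w) (P : Subgroup G) bot_le hP
      rw [relIndex_bot_left, relIndex_bot_left, Nat.card_zpowers, hw, h8] at this
      omega
    haveI : ((zpowers w).subgroupOf (P : Subgroup G)).Normal := normal_of_index_eq_two hidx
    have hrel : τ * w * τ⁻¹ = w⁻¹ := by
      have hm : τ * w * τ⁻¹ ∈ zpowers w :=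
        Normal.conj_mem (H := (zpowers w).subgroupOf (P : Subgroup G)) inferInstance ⟨w, hwP⟩
          (mem_zpowers w) ⟨τ, hg⟩
      have ho : orderOf (τ * w * τ⁻¹) = 4 := by
        rw [orderOf_of_isConj (isConj_iff.2 ⟨τ, rfl⟩ : IsConj w _), hw]
      rcases pow_cases4 hw hm with e | e | e | e
      · rw [e, orderOf_one] at ho; omega
      · exact absurd (hwC ▸ mem_centralizer_singleton_iff.2 (mul_inv_eq_iff_eq_mul.1 e)) hτw
      · rw [e, ht] at ho; omega
      · exact e
    have hgen : closure ({w, τ} : Set G) = (P : Subgroup G) := by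
      have hle : closure ({w, τ} : Set G) ≤ (P : Subgroup G) := by
        rw [closure_le]; rintro x (rfl | rfl)
        exacts [hwP, hg]
      refine eq_of_le_of_card_ge hle ?_
      have hzl : zpowers w ≤ closure ({w, τ} : Set G) := zpowers_le.2 (subset_closure (by simp))
      have h1 := card_dvd_of_le hzl
      have h2 := card_dvd_of_le hle
      rw [Nat.card_zpowers, hw] at h1
      rw [h8] at h2 ⊢
      have hne4 : Nat.card (closure ({w, τ} : Set G)) ≠ 4 := fun e => hτw (by
        rw [eq_of_le_of_card_ge hzl (by rw [e, Nat.card_zpowers, hw])]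
        exact subset_closure (by simp))
      have := Nat.le_of_dvd (by norm_num) h2
      interval_cases Nat.card (closure ({w, τ} : Set G)) <;> omega
    haveI := Fintype.ofFinite G
    have hset : DihedralRotations79.Setting 3 P w :=
      DihedralClassSums79.setting_of_gen le_rfl hwP (by rw [hw]; rfl) hτo hrel hgen
    have hwτ : IsConj (w ^ 2) (w * τ) := by
      by_contra hncj
      have ho : orderOf (w * τ) = 2 := by
        refine orderOf_eq_prime ?_ fun e => hτw (by
          rw [eq_inv_of_mul_eq_one_right e]; exact inv_mem (mem_zpowers w))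
        have hττ : τ * τ = 1 := by rw [← pow_two, ← hτo, pow_orderOf_eq_one]
        calc (w * τ) ^ 2 = w * (τ * w * τ⁻¹) * (τ * τ) := by rw [pow_two]; group
          _ = 1 := by rw [hrel, hττ, mul_one, mul_inv_cancel]
      obtain ⟨M, hM, hM2, -⟩ := TransferThompson.thompson_transfer P (zpowers w) hP hidx ho
        (mul_mem hwP hg) (fun c hc => by
          have ho' : orderOf (c * (w * τ) * c⁻¹) = 2 := by
            rw [orderOf_of_isConj (isConj_iff.2 ⟨c, rfl⟩ : IsConj (w * τ) _), ho]
          rcases pow_cases4 hw hc with e | e | e | e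
          · rw [e, orderOf_one] at ho'; omega
          · rw [e, hw] at ho'; omega
          · exact hncj (isConj_iff.2 ⟨c, e⟩).symm
          · rw [e, orderOf_inv, hw] at ho'; omega)
      exact no_index_two hna hM hM2
    exact ⟨τ, hw, hC, hτo, hrel, ⟨P, h8, hwP, hg, hgen⟩, fun x hx =>
      (DihedralClassSums79.isConj_of_order_two hset hg hτo hrel ⟨hτc, hwτ⟩).2 hx⟩
  · exfalso
    obtain ⟨hi4, hwK, -⟩ := coset_eq P.isPGroup' hnc (hW1 ⟨w, hwP⟩ (IsConj.refl w))
      (hcard ⟨w, hwP⟩ (IsConj.refl w))
    set K := commutator (P : Subgroup G) with hK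
    have hK4 : 4 ≤ Nat.card K := by
      have h16 : 2 ^ 4 ≤ 2 ^ k := Nat.pow_le_pow_right two_pos hk4
      have := K.index_mul_card
      rw [hi4, hk] at this
      omega
    have hKne : K ≠ ⊥ := fun e => by rw [e, Subgroup.card_bot] at hK4; omega
    obtain ⟨⟨z, hz⟩, hz0⟩ := Subgroup.ne_bot_iff_exists_ne_one.1
      (PGroupsBasic.inf_center_ne_bot P.isPGroup' hKne)
    have hz1 : z ≠ 1 := fun e => hz0 (Subtype.ext e)
    set t : (P : Subgroup G) := ⟨w, hwP⟩ ^ 2 with ht
    have hzt : z = t := by
      have hm : (z : G) ∈ zpowers w := by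
        rw [hwC, mem_centralizer_singleton_iff]
        exact (congrArg Subtype.val (mem_center_iff.1 hz.2 ⟨w, hwP⟩)).symm
      rcases pow_cases4 hw hm with e | e | e | e
      · exact absurd (Subtype.ext e) hz1
      · exact absurd ((show z = ⟨w, hwP⟩ from Subtype.ext e) ▸ hz.1) hwK
      · exact Subtype.ext (by simpa [ht] using e)
      · refine absurd ?_ hwK
        have := Subgroup.inv_mem K hz.1
        rwa [show z⁻¹ = (⟨w, hwP⟩ : (P : Subgroup G)) from Subtype.ext (by simp [e])] at this
    rw [hzt] at hz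
    haveI : (zpowers t).Normal := PGroupsBasic.normal_of_le_center (zpowers_le.2 hz.2)
    have hto : orderOf t = 2 := by
      rw [← Subgroup.orderOf_coe, ht, SubmonoidClass.coe_pow, orderOf_pow' w two_ne_zero, hw]; norm_num
    have hsq : ∀ y : (P : Subgroup G), IsConj w (y : G) → y * y ∈ zpowers t := by
      intro y hy
      have hy4 : orderOf y = 4 := by rw [← Subgroup.orderOf_coe, orderOf_of_isConj hy, hw]
      have e : zpowers y = centralizer ({y} : Set (P : Subgroup G)) :=
        eq_of_le_of_card_ge (zpowers_le.2 (mem_centralizer_singleton_iff.2 rfl))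
          (by rw [Nat.card_zpowers, hy4]; exact hcard y hy)
      have hty : t ∈ zpowers y := by
        rw [e, mem_centralizer_singleton_iff]
        exact (mem_center_iff.1 hz.2 y).symm
      rcases pow_cases4 hy4 hty with e' | e' | e' | e'
      · rw [e', orderOf_one] at hto; omega
      · rw [e', hy4] at hto; omega
      · rw [← pow_two, ← e']; exact mem_zpowers t
      · rw [e', orderOf_inv, hy4] at hto; omega
    obtain ⟨Q, hQ, hQW, hQZ⟩ := exists_avoiding P.isPGroup' hnc (zpowers t) (fun hle => by
      have := Nat.le_of_dvd Nat.card_pos (card_dvd_of_le hle)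
      rw [Nat.card_zpowers, hto] at this
      change Nat.card K ≤ 2 at this
      omega) (fun y => IsConj w (y : G)) hW hW1 hcard hsq (w := ⟨w, hwP⟩) (IsConj.refl w)
    haveI : Q.Normal := normal_of_index_eq_two hQ
    haveI : IsCyclic ((P : Subgroup G) ⧸ Q) := isCyclic_of_prime_card (p := 2) hQ
    letI : CommGroup ((P : Subgroup G) ⧸ Q) := IsCyclic.commGroup
    refine TransferThompson.transfer_ne_one P (P.isPGroup'.to_quotient Q) (QuotientGroup.mk' Q) hwP
      (fun h => hQW _ (IsConj.refl w) ((QuotientGroup.eq_one_iff _).1 h)) ?_ ?_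
      (Simple360.hom_comm_eq_one hna _ w)
    · intro g j hj h
      refine (QuotientGroup.eq_one_iff _).2 ?_
      set x : (P : Subgroup G) := ⟨g⁻¹ * w ^ j * g, h⟩ with hx
      obtain ⟨i, rfl⟩ := hj
      have hx2 : x * x = 1 := Subtype.ext (by
        show g⁻¹ * w ^ (2 * i) * g * (g⁻¹ * w ^ (2 * i) * g) = 1
        have h4 : w ^ (2 * i) * w ^ (2 * i) = 1 := by
          rw [← pow_add, show 2 * i + 2 * i = orderOf w * i by rw [hw]; ring, pow_mul,
            pow_orderOf_eq_one, one_pow]
        calc g⁻¹ * w ^ (2 * i) * g * (g⁻¹ * w ^ (2 * i) * g) = g⁻¹ * (w ^ (2 * i) * w ^ (2 * i)) * g := by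
              group
          _ = 1 := by rw [h4]; group)
      by_contra hxQ
      by_cases hxW : IsConj w (x : G)
      · have h4 : orderOf x = 4 := by rw [← Subgroup.orderOf_coe, orderOf_of_isConj hxW, hw]
        have := orderOf_le_of_pow_eq_one two_pos (by rw [pow_two]; exact hx2 : x ^ 2 = 1)
        omega
      · exact hQZ x hxQ hxW (by rw [hx2]; exact one_mem _)
    · intro g h
      refine QuotientGroup.eq.2 ?_
      rw [Subgroup.mul_mem_iff_of_index_two hQ, inv_mem_iff]
      exact iff_of_false (hQW ⟨_, h⟩ (isConj_iff.2 ⟨g⁻¹, by simp⟩)) (hQW ⟨w, hwP⟩ (IsConj.refl w))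

end Cfsg.Agent.CentFour75
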