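import Cfsg.Agent.Lib.CentTwoA4Local91

/-!
A simple group with an involution centralizer `⟨J⟩ × A₄` would have order 1512.
-/

set_option autoImplicit false
set_option linter.style.haveILetI false
set_option linter.unusedSectionVars false

namespace Cfsg.Agent.CentTwoA4

open Cfsg

variable {G : Type*} [Group G] [Finite G] {J : G} {T : Subgroup G}

/-- The inverted elements of an odd-order subgroup. -/
theorem card_inverted {A : Subgroup G} {u : G} (hu : u * u = 1) (hodd : Odd (Nat.card ↥A))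
    (hn : ∀ a ∈ A, u * a * u ∈ A) :
    Nat.card ↥A = Nat.card {a : G // a ∈ A ∧ u * a * u = a⁻¹} *
      Nat.card ↥(A ⊓ Subgroup.centralizer ({u} : Set G) : Subgroup G) := by
  set B := A ⊓ Subgroup.centralizer ({u} : Set G) with hB
  have hui : u⁻¹ = u := inv_eq_of_mul_eq_one_right hu
  obtain ⟨k, hk⟩ := hodd
  have hidx : (B.subgroupOf A).index = Nat.card {a : G // a ∈ A ∧ u * a * u = a⁻¹} := by
    rw [Subgroup.index_eq_card]
    refine Nat.card_eq_of_bijective (fun q => Quotient.liftOn' q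
      (fun a : ↥A => (⟨(a : G) * (u * (a : G)⁻¹ * u), A.mul_mem a.2 (hn _ (A.inv_mem a.2)), by
        calc u * ((a : G) * (u * (a : G)⁻¹ * u)) * u = (u * a * u) * (a : G)⁻¹ * (u * u) := by group
          _ = ((a : G) * (u⁻¹ * (a : G)⁻¹ * u⁻¹))⁻¹ := by rw [hu, mul_one]; group
          _ = _ := by rw [hui]⟩ : {a : G // a ∈ A ∧ u * a * u = a⁻¹})) ?_) ⟨?_, ?_⟩
    · intro a b hab
      rw [QuotientGroup.leftRel_apply, Subgroup.mem_subgroupOf, hB, Subgroup.mem_inf,
        Subgroup.mem_centralizer_singleton_iff] at hab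
      obtain ⟨-, hab⟩ := hab
      push_cast at hab
      apply Subtype.ext
      show (a : G) * (u * (a : G)⁻¹ * u) = (b : G) * (u * (b : G)⁻¹ * u)
      calc (a : G) * (u * (a : G)⁻¹ * u) = a * (u * ((a : G)⁻¹ * b)) * (b : G)⁻¹ * u := by group
        _ = a * (((a : G)⁻¹ * b) * u) * (b : G)⁻¹ * u := by rw [hab]
        _ = _ := by group
    · intro q r
      induction q using QuotientGroup.induction_on with
      | H a =>
        induction r using QuotientGroup.induction_on with
        | H b =>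
          intro e
          have e' : (a : G) * (u * (a : G)⁻¹ * u) = (b : G) * (u * (b : G)⁻¹ * u) := congrArg Subtype.val e
          rw [QuotientGroup.eq, Subgroup.mem_subgroupOf, hB, Subgroup.mem_inf, Subgroup.mem_centralizer_singleton_iff]
          push_cast
          refine ⟨A.mul_mem (A.inv_mem a.2) b.2, ?_⟩
          calc (a : G)⁻¹ * b * u = (a : G)⁻¹ * ((b : G) * (u * (b : G)⁻¹ * u)) * (u⁻¹ * b) := by group
            _ = (a : G)⁻¹ * ((a : G) * (u * (a : G)⁻¹ * u)) * (u⁻¹ * b) := by rw [e']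
            _ = _ := by group
    · rintro ⟨w, hw, hwi⟩
      refine ⟨((⟨w ^ (k + 1), A.pow_mem hw _⟩ : ↥A) : ↥A ⧸ B.subgroupOf A), ?_⟩
      apply Subtype.ext
      show w ^ (k + 1) * (u * (w ^ (k + 1))⁻¹ * u) = w
      have h1 : u * (w ^ (k + 1))⁻¹ * u = w ^ (k + 1) := by
        have hc := conj_pow (a := u) (b := w) (i := k + 1)
        rw [hui, hwi, inv_pow] at hc
        calc u * (w ^ (k + 1))⁻¹ * u = u * (u * w ^ (k + 1) * u) * u := by rw [hc]
          _ = (u * u) * w ^ (k + 1) * (u * u) := by group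
          _ = _ := by rw [hu, one_mul, mul_one]
      rw [h1, ← pow_add]
      have h2 : w ^ (2 * k + 1) = 1 :=
        orderOf_dvd_iff_pow_eq_one.1 (hk ▸ Subgroup.orderOf_dvd_natCard A hw)
      rw [show k + 1 + (k + 1) = (2 * k + 1) + 1 by omega, pow_succ, h2, one_mul]
  have h := (B.subgroupOf A).index_mul_card
  rw [hidx, Nat.card_congr (Subgroup.subgroupOfEquivOfLe (inf_le_left : B ≤ A)).toEquiv] at h
  exact h.symm

namespace Hyp

variable {S : Sylow 2 G} (h : Hyp J T S)
include h

theorem card_involutions : Nat.card {i : G // orderOf i = 2} = (Subgroup.centralizer ({J} : Set G)).index := by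
  haveI : Fintype G := Fintype.ofFinite G
  rw [← SmallGroupBasic.card_isConj_eq_index J]
  exact Nat.card_congr (Equiv.subtypeEquivRight fun i =>
    ⟨fun hi => h.conj i hi, fun hc => (SmallGroupBasic.IsConj.orderOf_eq' hc).trans h.mid.toBase.ord⟩)

theorem seven_ne_commute {i d : G} (hi : orderOf i = 2) (hd : orderOf d = 7) : ¬ Commute i d := by
  intro hc
  obtain ⟨g, rfl⟩ := isConj_iff.1 (h.conj i hi)
  have hmem : g⁻¹ * d * g ∈ Subgroup.centralizer ({J} : Set G) := by
    rw [Subgroup.mem_centralizer_singleton_iff]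
    calc g⁻¹ * d * g * J = g⁻¹ * (d * (g * J * g⁻¹)) * g := by group
      _ = g⁻¹ * ((g * J * g⁻¹) * d) * g := by rw [hc.eq]
      _ = _ := by group
  have := Subgroup.orderOf_dvd_natCard _ hmem
  rw [show g⁻¹ * d * g = g⁻¹ * d * g⁻¹⁻¹ by rw [inv_inv], SmallGroupBasic.orderOf_conj, hd, h.card_C] at this
  omega

theorem not_centralize_seven {c d : G} (hc : c ∈ Subgroup.normalizer ((S : Subgroup G) : Set G))
    (hd : d ∈ Subgroup.normalizer ((S : Subgroup G) : Set G)) (hc3 : orderOf c = 3) (hd7 : orderOf d = 7) :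
    ¬ Commute c d := by
  intro hcd
  set H := Subgroup.normalizer ((S : Subgroup G) : Set G) with hH
  classical
  haveI : Fintype {i : G // orderOf i = 2 ∧ i ∈ H} := Fintype.ofFinite _
  -- some involution of `S` is fixed by `c`
  let f : Equiv.Perm {i : G // orderOf i = 2 ∧ i ∈ H} :=
    { toFun := fun i => ⟨c * i.1 * c⁻¹, by rw [SmallGroupBasic.orderOf_conj]; exact i.2.1,
        H.mul_mem (H.mul_mem hc i.2.2) (H.inv_mem hc)⟩
      invFun := fun i => ⟨c⁻¹ * i.1 * c⁻¹⁻¹, by rw [SmallGroupBasic.orderOf_conj]; exact i.2.1,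
        H.mul_mem (H.mul_mem (H.inv_mem hc) i.2.2) (H.inv_mem (H.inv_mem hc))⟩
      left_inv := fun i => Subtype.ext (by show c⁻¹ * (c * i.1 * c⁻¹) * c⁻¹⁻¹ = i.1; group)
      right_inv := fun i => Subtype.ext (by show c * (c⁻¹ * i.1 * c⁻¹⁻¹) * c⁻¹ = i.1; group) }
  have hf : f ^ 3 ^ 1 = 1 := by
    ext i
    show c * (c * (c * i.1 * c⁻¹) * c⁻¹) * c⁻¹ = i.1
    have h3 : c * c * c = 1 := by rw [← pow_orderOf_eq_one c, hc3, pow_succ, pow_succ, pow_one]
    calc c * (c * (c * i.1 * c⁻¹) * c⁻¹) * c⁻¹ = (c * c * c) * i.1 * (c * c * c)⁻¹ := by group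
      _ = i.1 := by rw [h3]; group
  haveI : Fact (Nat.Prime 3) := ⟨Nat.prime_three⟩
  obtain ⟨v, hv⟩ := Equiv.Perm.exists_fixed_point_of_prime (p := 3) (n := 1)
    (by rw [← Nat.card_eq_fintype_card, h.card_inv_S]; norm_num) hf
  have hv' : c * v.1 * c⁻¹ = v.1 := congrArg Subtype.val hv
  -- then `c` fixes all seven
  have hvS : v.1 ∈ S := h.involution_mem_S v.2.1 v.2.2
  have horb : Function.Injective fun j : Fin 7 => d ^ (j : ℕ) * v.1 * (d ^ (j : ℕ))⁻¹ := by
    intro a b e
    by_contra hne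
    have key : ∀ m : ℕ, ¬ 7 ∣ m → ¬ Commute (d ^ m) v.1 := by
      intro m hm hcm
      refine h.seven_ne_commute v.2.1 (d := d ^ m) ?_ hcm.symm
      rw [orderOf_pow, hd7, (Nat.Prime.coprime_iff_not_dvd (by norm_num)).2 hm, Nat.div_one]
    rcases Nat.lt_or_gt_of_ne (fun e' : (a : ℕ) = b => hne (Fin.ext e')) with hlt | hlt
    · refine key ((b : ℕ) - a) (by omega) ?_
      have hb : d ^ (b : ℕ) = d ^ (a : ℕ) * d ^ ((b : ℕ) - a) := by rw [← pow_add]; congr 1; omega
      simp only [hb] at e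
      show d ^ ((b : ℕ) - a) * v.1 = v.1 * d ^ ((b : ℕ) - a)
      calc d ^ ((b : ℕ) - a) * v.1
          = (d ^ (a : ℕ))⁻¹ * (d ^ (a : ℕ) * d ^ ((b : ℕ) - a) * v.1 * (d ^ (a : ℕ) * d ^ ((b : ℕ) - a))⁻¹) *
              d ^ (a : ℕ) * d ^ ((b : ℕ) - a) := by group
        _ = _ := by rw [← e]; group
    · refine key ((a : ℕ) - b) (by omega) ?_
      have hb : d ^ (a : ℕ) = d ^ (b : ℕ) * d ^ ((a : ℕ) - b) := by rw [← pow_add]; congr 1; omega
      simp only [hb] at e
      show d ^ ((a : ℕ) - b) * v.1 = v.1 * d ^ ((a : ℕ) - b)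
      calc d ^ ((a : ℕ) - b) * v.1
          = (d ^ (b : ℕ))⁻¹ * (d ^ (b : ℕ) * d ^ ((a : ℕ) - b) * v.1 * (d ^ (b : ℕ) * d ^ ((a : ℕ) - b))⁻¹) *
              d ^ (b : ℕ) * d ^ ((a : ℕ) - b) := by group
        _ = _ := by rw [e]; group
  let g : Fin 7 → {i : G // orderOf i = 2 ∧ i ∈ H} := fun j =>
    ⟨d ^ (j : ℕ) * v.1 * (d ^ (j : ℕ))⁻¹, by rw [SmallGroupBasic.orderOf_conj]; exact v.2.1,
      H.mul_mem (H.mul_mem (H.pow_mem hd _) v.2.2) (H.inv_mem (H.pow_mem hd _))⟩
  have hg : Function.Bijective g := (Nat.bijective_iff_injective_and_card g).2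
    ⟨fun a b e => horb (congrArg Subtype.val e), by rw [h.card_inv_S, Nat.card_fin]⟩
  have hcS : ∀ s ∈ S, c * s = s * c := by
    intro s hs
    by_cases hs1 : s = 1
    · rw [hs1, mul_one, one_mul]
    obtain ⟨j, hj⟩ := hg.2 ⟨s, SignalizerStrongEmb.orderOf_eq_two_of_mul_self (h.mid.sylow_sq h.cent hs) hs1,
      Subgroup.le_normalizer hs⟩
    have hj' : d ^ (j : ℕ) * v.1 * (d ^ (j : ℕ))⁻¹ = s := congrArg Subtype.val hj
    rw [← hj']
    have hcv : Commute c v.1 := mul_inv_eq_iff_eq_mul.1 hv'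
    exact ((hcd.pow_right _).mul_right hcv).mul_right (hcd.pow_right _).inv_right
  obtain ⟨s, hs, hne⟩ := h.three_not_central (hcS J h.mem) hc3
  exact hne (hcS s hs)

theorem card_seven_H :
    Nat.card {e : G // orderOf e = 7 ∧ e ∈ Subgroup.normalizer ((S : Subgroup G) : Set G)} = 48 ∧
      ∀ e e' : G, orderOf e = 7 → orderOf e' = 7 → e ∈ Subgroup.normalizer ((S : Subgroup G) : Set G) →
        e' ∈ Subgroup.normalizer ((S : Subgroup G) : Set G) →
        ∃ g ∈ Subgroup.normalizer ((S : Subgroup G) : Set G), ∃ m : ℕ, e' = g * e ^ m * g⁻¹ ∧ ¬ 7 ∣ m := by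
  classical
  set H := Subgroup.normalizer ((S : Subgroup G) : Set G) with hH
  haveI : Fact (Nat.Prime 7) := ⟨by norm_num⟩
  have hS7 : ∀ Q : Sylow 7 ↥H, Nat.card ↥(Q : Subgroup ↥H) = 7 := fun Q => by
    rw [Q.card_eq_multiplicity, h.card_H, show (168 : ℕ) = 7 ^ 1 * 24 by norm_num,
      Nat.factorization_mul (by norm_num) (by norm_num), Nat.factorization_pow]
    simp [Nat.factorization_eq_zero_of_not_dvd (show ¬ 7 ∣ 24 by norm_num),
      (by norm_num : Nat.Prime 7).factorization_self]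
  have hn : Nat.card (Sylow 7 ↥H) = 8 := by
    obtain ⟨Q⟩ := (inferInstance : Nonempty (Sylow 7 ↥H))
    have hd : Nat.card (Sylow 7 ↥H) ∣ 24 := by
      refine Q.card_dvd_index.trans (dvd_of_eq ?_)
      have := (Q : Subgroup ↥H).index_mul_card
      rw [hS7, h.card_H] at this
      omega
    have hm := card_sylow_modEq_one 7 ↥H
    rcases (show Nat.card (Sylow 7 ↥H) = 1 ∨ Nat.card (Sylow 7 ↥H) = 8 by
      have hle := Nat.le_of_dvd (by norm_num) hd
      rw [Nat.ModEq] at hm
      interval_cases (Nat.card (Sylow 7 ↥H)) <;> omega) with h1 | h8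
    · exfalso
      haveI : Subsingleton (Sylow 7 ↥H) := Finite.card_le_one_iff_subsingleton.1 h1.le
      have hQn : (Q : Subgroup ↥H).Normal := Sylow.normal_of_subsingleton Q
      have hSn : ((S : Subgroup G).subgroupOf H).Normal := Subgroup.normal_in_normalizer
      obtain ⟨d, hd7⟩ := exists_prime_orderOf_dvd_card' (G := ↥(Q : Subgroup ↥H)) 7 (dvd_of_eq (hS7 Q).symm)
      have hdis : Disjoint (Q : Subgroup ↥H) ((S : Subgroup G).subgroupOf H) := by
        rw [disjoint_iff, Subgroup.eq_bot_iff_forall]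
        intro x hx
        obtain ⟨hx1, hx2⟩ := Subgroup.mem_inf.1 hx
        rw [← orderOf_eq_one_iff]
        have h7 := Subgroup.orderOf_dvd_natCard _ hx1
        have h8' : orderOf x ∣ 8 := by
          rw [← Subgroup.orderOf_coe, ← h.card_S]
          exact Subgroup.orderOf_dvd_natCard _ hx2
        rw [hS7] at h7
        exact Nat.eq_one_of_dvd_coprimes (show Nat.Coprime 7 8 by norm_num) h7 h8'
      have hcomm : Commute (d : ↥H) (⟨J, Subgroup.le_normalizer h.mem⟩ : ↥H) :=
        Subgroup.commute_of_normal_of_disjoint _ _ hQn hSn hdis _ _ d.2 h.mem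
      refine h.seven_ne_commute h.mid.toBase.ord (d := ((d : ↥H) : G)) ?_
        (show Commute J ((d : ↥H) : G) from (congrArg Subtype.val hcomm.eq).symm)
      rw [Subgroup.orderOf_coe, Subgroup.orderOf_coe, hd7]
    · exact h8
  refine ⟨?_, ?_⟩
  · rw [← Nat.card_congr (show {e : ↥H // orderOf e = 7} ≃ {e : G // orderOf e = 7 ∧ e ∈ H} from
      { toFun := fun e => ⟨e.1, by rw [Subgroup.orderOf_coe]; exact e.2, e.1.2⟩
        invFun := fun e => ⟨⟨e.1, e.2.2⟩, by rw [← Subgroup.orderOf_coe]; exact e.2.1⟩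
        left_inv := fun e => rfl
        right_inv := fun e => rfl }), SmallGroupBasic.card_orderOf_eq hS7, hn]
  · intro e e' he he' heH he'H
    obtain ⟨Q, hQ⟩ := SmallGroupBasic.exists_sylow_of_orderOf hS7 (x := (⟨e, heH⟩ : ↥H))
      (by rw [← Subgroup.orderOf_coe]; exact he)
    obtain ⟨R, hR⟩ := SmallGroupBasic.exists_sylow_of_orderOf hS7 (x := (⟨e', he'H⟩ : ↥H))
      (by rw [← Subgroup.orderOf_coe]; exact he')
    obtain ⟨g, hg⟩ := MulAction.exists_smul_eq ↥H Q R
    have hmem : (⟨e', he'H⟩ : ↥H) ∈ ((g • Q : Sylow 7 ↥H) : Subgroup ↥H) := by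
      rw [hg, hR]; exact Subgroup.mem_zpowers _
    rw [Sylow.coe_subgroup_smul, Subgroup.mem_pointwise_smul_iff_inv_smul_mem, ← map_inv, MulAut.smul_def,
      MulAut.conj_apply, inv_inv, hQ, mem_zpowers_iff_mem_range_orderOf, Finset.mem_image] at hmem
    obtain ⟨m, -, hm⟩ := hmem
    have hm' : e ^ m = (g : G)⁻¹ * e' * g := congrArg Subtype.val hm
    refine ⟨g, g.2, m, by rw [hm']; group, ?_⟩
    rintro ⟨r, rfl⟩
    rw [pow_mul, ← he, pow_orderOf_eq_one, one_pow] at hm'
    have : e' = 1 := by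
      calc e' = (g : G) * ((g : G)⁻¹ * e' * g) * (g : G)⁻¹ := by group
        _ = 1 := by rw [← hm']; group
    rw [this, orderOf_one] at he'
    omega

variable [IsSimpleGroup G]

/-- An involution outside `H` inverts exactly six elements of order seven of `H`. -/
theorem card_inverted_seven {i : G} (hi : orderOf i = 2) (hiH : i ∉ Subgroup.normalizer ((S : Subgroup G) : Set G)) :
    Nat.card {e : G // (orderOf e = 7 ∧ e ∈ Subgroup.normalizer ((S : Subgroup G) : Set G)) ∧ i * e * i = e⁻¹} = 6 := by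
  classical
  set H := Subgroup.normalizer ((S : Subgroup G) : Set G) with hH
  have hSE := h.isStronglyEmbedded
  set D := H ⊓ H.map (MulAut.conj i).toMonoidHom with hD
  have hii : i * i = 1 := SignalizerStrongEmb.involution_mul_self hi
  have hinv : i⁻¹ = i := inv_eq_of_mul_eq_one_right hii
  have hmemD : ∀ e : G, e ∈ H → i * e * i ∈ H → e ∈ D := fun e he hie => by
    refine Subgroup.mem_inf.2 ⟨he, SignalizerStrongEmb.mem_conj_iff.2 ?_⟩
    rwa [hinv]
  have hne : ((1 : G) : G ⧸ H) ≠ (i : G ⧸ H) := fun e => hiH (by simpa [QuotientGroup.eq] using e)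
  have h7 : 7 ≤ Nat.card ↥D := by
    refine le_of_eq_of_le (h.card_inv_S.symm.trans (SignalizerStrongEmb.card_swap hSE _ _ hne).symm) ?_
    refine Nat.card_le_card_of_injective (fun x => ⟨i * x.1, ?_⟩) fun a b e => by
      exact Subtype.ext (mul_left_cancel (congrArg Subtype.val e : i * a.1 = i * b.1))
    obtain ⟨x, hx, hxi⟩ := x
    have hxi' : ((x * 1 : G) : G ⧸ H) = (i : G ⧸ H) := hxi
    rw [QuotientGroup.eq, mul_one, SignalizerStrongEmb.involution_inv hx] at hxi'
    have hix : i * x ∈ H := by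
      have := H.inv_mem hxi'
      rwa [mul_inv_rev, hinv, SignalizerStrongEmb.involution_inv hx] at this
    exact hmemD _ hix (by rwa [← mul_assoc i i, hii, one_mul])
  have hodd : Odd (Nat.card ↥D) := hSE.2.2 i hiH
  have hdvd : Nat.card ↥D ∣ 21 := by
    have h1 := Subgroup.card_dvd_of_le (inf_le_left : D ≤ H)
    rw [h.card_H] at h1
    have hco : Nat.Coprime (Nat.card ↥D) 8 := by
      rw [show (8 : ℕ) = 2 ^ 3 by norm_num]
      exact Nat.Coprime.pow_right _ (Nat.coprime_two_right.2 hodd)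
    exact hco.dvd_of_dvd_mul_left (show Nat.card ↥D ∣ 8 * 21 by norm_num; exact h1)
  haveI : Fact (Nat.Prime 7) := ⟨by norm_num⟩
  have hD' : Nat.card ↥D = 7 ∨ Nat.card ↥D = 21 := by
    have hmem : Nat.card ↥D ∈ Nat.divisors 21 := Nat.mem_divisors.2 ⟨hdvd, by norm_num⟩
    rw [show Nat.divisors 21 = {1, 3, 7, 21} by decide +kernel] at hmem
    simp only [Finset.mem_insert, Finset.mem_singleton] at hmem
    omega
  have hS7 : ∀ Q : Sylow 7 ↥D, Nat.card ↥(Q : Subgroup ↥D) = 7 := fun Q => by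
    rcases hD' with e | e
    · have := Q.card_eq_multiplicity
      rw [e] at this
      rw [this, (by norm_num : Nat.Prime 7).factorization_self, pow_one]
    · rw [Q.card_eq_multiplicity, e, show (21 : ℕ) = 7 ^ 1 * 3 by norm_num,
        Nat.factorization_mul (by norm_num) (by norm_num), Nat.factorization_pow]
      simp [Nat.factorization_eq_zero_of_not_dvd (show ¬ 7 ∣ 3 by norm_num),
        (by norm_num : Nat.Prime 7).factorization_self]
  have hn : Nat.card (Sylow 7 ↥D) = 1 := by
    obtain ⟨Q⟩ := (inferInstance : Nonempty (Sylow 7 ↥D))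
    have hd := Q.card_dvd_index
    have hi' := (Q : Subgroup ↥D).index_mul_card
    rw [hS7] at hi'
    have hm := card_sylow_modEq_one 7 ↥D
    rw [Nat.ModEq] at hm
    have hle := Nat.le_of_dvd (Nat.pos_of_ne_zero (Subgroup.index_ne_zero_of_finite)) hd
    omega
  obtain ⟨d, hd⟩ := exists_prime_orderOf_dvd_card' (G := ↥D) 7 (by
    rcases hD' with e | e <;> rw [e] <;> norm_num)
  rw [← Subgroup.orderOf_coe] at hd
  have hpow : ∀ e : G, orderOf e = 7 → e ∈ D → ∃ m < 7, e = (d : G) ^ m := by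
    intro e he heD
    haveI : Subsingleton (Sylow 7 ↥D) := Finite.card_le_one_iff_subsingleton.1 hn.le
    obtain ⟨Q, hQ⟩ := SmallGroupBasic.exists_sylow_of_orderOf hS7 (x := d) (by rw [← Subgroup.orderOf_coe]; exact hd)
    obtain ⟨R, hR⟩ := SmallGroupBasic.exists_sylow_of_orderOf hS7 (x := (⟨e, heD⟩ : ↥D))
      (by rw [← Subgroup.orderOf_coe]; exact he)
    have hmem : (⟨e, heD⟩ : ↥D) ∈ Subgroup.zpowers d := by
      rw [← hQ, Subsingleton.elim Q R, hR]; exact Subgroup.mem_zpowers _
    rw [mem_zpowers_iff_mem_range_orderOf, Finset.mem_image] at hmem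
    obtain ⟨m, hm, hme⟩ := hmem
    rw [Finset.mem_range, ← Subgroup.orderOf_coe, hd] at hm
    exact ⟨m, hm, (congrArg Subtype.val hme).symm⟩
  -- `i` inverts `d`
  have hdinv : i * (d : G) * i = (d : G)⁻¹ := by
    have hidD : i * (d : G) * i ∈ D := by
      obtain ⟨h1, h2⟩ := Subgroup.mem_inf.1 d.2
      rw [SignalizerStrongEmb.mem_conj_iff, hinv] at h2
      refine hmemD _ h2 ?_
      rwa [show i * (i * (d : G) * i) * i = (i * i) * d * (i * i) by group, hii, one_mul, mul_one]
    obtain ⟨m, hm, hme⟩ := hpow _ (by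
      nth_rewrite 2 [← hinv]; rw [SmallGroupBasic.orderOf_conj]; exact hd) hidD
    have htwice : (d : G) ^ (m * m) = d := by
      have hc := conj_pow (a := i) (b := (d : G)) (i := m)
      rw [hinv] at hc
      rw [pow_mul, ← hme, hc, ← hme]
      rw [show i * (i * (d : G) * i) * i = (i * i) * d * (i * i) by group, hii, one_mul, mul_one]
    have hmod : m * m % 7 = 1 := by
      have h' : (d : G) ^ (m * m) = (d : G) ^ 1 := by rw [pow_one]; exact htwice
      have := pow_eq_pow_iff_modEq.1 h'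
      rwa [hd, Nat.ModEq, Nat.one_mod] at this
    rcases (show m = 1 ∨ m = 6 by interval_cases m <;> omega) with rfl | rfl
    · exfalso
      rw [pow_one] at hme
      refine h.seven_ne_commute hi hd ?_
      show i * (d : G) = d * i
      calc i * (d : G) = i * d * (i * i) := by rw [hii, mul_one]
        _ = (i * d * i) * i := by group
        _ = _ := by rw [hme]
    · have h7d := pow_orderOf_eq_one (d : G)
      rw [hd] at h7d
      rw [hme, eq_inv_iff_mul_eq_one, ← pow_succ]
      exact h7d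
  rw [← Nat.card_congr (show {m : Fin 7 // m ≠ 0} ≃ {e : G // (orderOf e = 7 ∧ e ∈ H) ∧ i * e * i = e⁻¹} from
    Equiv.ofBijective (fun m => ⟨(d : G) ^ (m.1 : ℕ), ⟨by
        rw [orderOf_pow, hd, (Nat.Prime.coprime_iff_not_dvd (by norm_num)).2 (by
          have := m.1.isLt
          have : (m.1 : ℕ) ≠ 0 := fun e => m.2 (Fin.ext e)
          omega), Nat.div_one],
      H.pow_mem (Subgroup.mem_inf.1 d.2).1 _⟩, by
        have hc := conj_pow (a := i) (b := (d : G)) (i := (m.1 : ℕ))
        rw [hinv, hdinv, inv_pow] at hc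
        exact hc.symm⟩) ⟨fun a b e => by
      have e' : (d : G) ^ (a.1 : ℕ) = (d : G) ^ (b.1 : ℕ) := congrArg Subtype.val e
      have := pow_injOn_Iio_orderOf (by rw [Set.mem_Iio, hd]; exact a.1.isLt) (by rw [Set.mem_Iio, hd]; exact b.1.isLt) e'
      exact Subtype.ext (Fin.ext this), fun e => by
      obtain ⟨e, ⟨he, heH⟩, hei⟩ := e
      obtain ⟨m, hm, rfl⟩ := hpow e he (hmemD e heH (hei ▸ H.inv_mem heH))
      refine ⟨⟨⟨m, hm⟩, fun e0 => ?_⟩, rfl⟩
      have : m = 0 := congrArg Fin.val e0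
      rw [this, pow_zero, orderOf_one] at he
      omega⟩)]
  rw [Nat.card_eq_fintype_card]
  rfl

/-- The order of the group. -/
theorem card_G : Nat.card G = 1512 := by
  set H := Subgroup.normalizer ((S : Subgroup G) : Set G) with hH
  set n := H.index with hn
  have hGn : Nat.card G = n * 168 := by rw [← h.card_H]; exact H.index_mul_card.symm
  have hinvol : Nat.card {i : G // orderOf i = 2} = 7 * n := by
    have h1 := (Subgroup.centralizer ({J} : Set G)).index_mul_card
    rw [h.card_C, hGn] at h1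
    rw [h.card_involutions]
    omega
  obtain ⟨u, huH, hu⟩ := SignalizerStrongEmb.exists_involution_not_mem h.isStronglyEmbedded
  have hui : u * u = 1 := SignalizerStrongEmb.involution_mul_self hu
  have huinv : u⁻¹ = u := inv_eq_of_mul_eq_one_right hui
  obtain ⟨⟨d, ⟨hd, hdH⟩, hdu⟩⟩ := (Nat.card_pos_iff.1 (by rw [h.card_inverted_seven hu huH]; norm_num :
    0 < Nat.card {e : G // (orderOf e = 7 ∧ e ∈ H) ∧ u * e * u = e⁻¹})).1
  set j := Nat.card {i : G // orderOf i = 2 ∧ i * d * i = d⁻¹} with hj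
  have hconst : ∀ e : G, orderOf e = 7 → e ∈ H → Nat.card {i : G // orderOf i = 2 ∧ i * e * i = e⁻¹} = j := by
    intro e he heH
    obtain ⟨g, -, m, rfl, hm⟩ := h.card_seven_H.2 d e hd he hdH heH
    refine Nat.card_congr ((MulAut.conj g⁻¹).toEquiv.subtypeEquiv fun i => ?_)
    show (orderOf i = 2 ∧ _) ↔ orderOf (g⁻¹ * i * g⁻¹⁻¹) = 2 ∧ _
    rw [SmallGroupBasic.orderOf_conj]
    refine and_congr_right fun hi => ?_
    simp only [MulEquiv.toEquiv_eq_coe, EquivLike.coe_coe, MulAut.conj_apply, inv_inv]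
    set i' := g⁻¹ * i * g with hi'
    have hi2 : i' * i' = 1 := by
      rw [hi']
      calc g⁻¹ * i * g * (g⁻¹ * i * g) = g⁻¹ * (i * i) * g := by group
        _ = 1 := by rw [SignalizerStrongEmb.involution_mul_self hi]; group
    have hi'i : i'⁻¹ = i' := inv_eq_of_mul_eq_one_right hi2
    have hiff : i * (g * d ^ m * g⁻¹) * i = (g * d ^ m * g⁻¹)⁻¹ ↔ i' * d ^ m * i' = (d ^ m)⁻¹ := by
      constructor
      · intro e1
        calc i' * d ^ m * i' = g⁻¹ * (i * (g * d ^ m * g⁻¹) * i) * g := by rw [hi']; group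
          _ = _ := by rw [e1]; group
      · intro e1
        calc i * (g * d ^ m * g⁻¹) * i = g * (i' * d ^ m * i') * g⁻¹ := by rw [hi']; group
          _ = _ := by rw [e1]; group
    rw [hiff]
    obtain ⟨r, hr⟩ := exists_pow_eq_self_of_coprime (x := d) (n := m)
      (by rw [hd, Nat.coprime_comm]; exact (Nat.Prime.coprime_iff_not_dvd (by norm_num)).2 hm)
    constructor
    · intro e1
      have hc := conj_pow (a := i') (b := d ^ m) (i := r)
      rw [hi'i, e1, inv_pow, hr] at hc
      exact hc.symm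
    · intro e1
      have hc := conj_pow (a := i') (b := d) (i := m)
      rw [hi'i, e1, inv_pow] at hc
      exact hc.symm
  have hdouble : 6 * (7 * n - 7) = 48 * j := by
    haveI : Fintype G := Fintype.ofFinite G
    classical
    have e1 : (Σ i : {i : G // orderOf i = 2 ∧ i ∉ H},
        {e : G // (orderOf e = 7 ∧ e ∈ H) ∧ i.1 * e * i.1 = e⁻¹}) ≃
      (Σ e : {e : G // orderOf e = 7 ∧ e ∈ H}, {i : G // orderOf i = 2 ∧ i * e.1 * i = e.1⁻¹}) :=
      { toFun := fun p => ⟨⟨p.2.1, p.2.2.1⟩, p.1.1, p.1.2.1, p.2.2.2⟩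
        invFun := fun p => ⟨⟨p.2.1, p.2.2.1, fun hiH => by
            have hiS := h.involution_mem_S p.2.2.1 hiH
            have hie : p.2.1 * p.1.1 ∈ H := H.mul_mem hiH p.1.2.2
            have hsq : p.2.1 * p.1.1 * (p.2.1 * p.1.1) = 1 := by
              rw [← mul_assoc, p.2.2.2, inv_mul_cancel]
            have hieS : p.2.1 * p.1.1 ∈ (S : Subgroup G) := by
              by_cases h1 : p.2.1 * p.1.1 = 1
              · rw [h1]; exact one_mem _
              · exact h.involution_mem_S (SignalizerStrongEmb.orderOf_eq_two_of_mul_self hsq h1) hie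
            have := (S : Subgroup G).mul_mem ((S : Subgroup G).inv_mem hiS) hieS
            rw [inv_mul_cancel_left] at this
            have h7 := Subgroup.orderOf_dvd_natCard _ this
            rw [p.1.2.1, h.card_S] at h7
            omega⟩, p.1.1, p.1.2, p.2.2.2⟩
        left_inv := fun p => rfl
        right_inv := fun p => rfl }
    have hcard := Nat.card_congr e1
    rw [Nat.card_sigma, Nat.card_sigma, Finset.sum_congr rfl (fun (i : {i : G // orderOf i = 2 ∧ i ∉ H}) _ =>
      h.card_inverted_seven i.2.1 i.2.2), Finset.sum_congr rfl (fun (e : {e : G // orderOf e = 7 ∧ e ∈ H}) _ =>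
      hconst e.1 e.2.1 e.2.2), Finset.sum_const, Finset.sum_const, smul_eq_mul, smul_eq_mul, Finset.card_univ,
      Finset.card_univ, ← Nat.card_eq_fintype_card, ← Nat.card_eq_fintype_card, h.card_seven_H.1] at hcard
    have hout : Nat.card {i : G // orderOf i = 2 ∧ i ∉ H} + 7 = 7 * n := by
      rw [← hinvol, ← h.card_inv_S, Nat.card_eq_fintype_card, Nat.card_eq_fintype_card, Nat.card_eq_fintype_card,
        Fintype.card_subtype, Fintype.card_subtype, Fintype.card_subtype, ← Finset.card_union_of_disjoint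
          (Finset.disjoint_left.2 fun a ha hb => (Finset.mem_filter.1 ha).2.2 (Finset.mem_filter.1 hb).2.2)]
      congr 1
      ext a
      simp only [Finset.mem_union, Finset.mem_filter, Finset.mem_univ, true_and]
      show orderOf a = 2 ∧ a ∉ H ∨ orderOf a = 2 ∧ a ∈ H ↔ orderOf a = 2
      by_cases hh : a ∈ H <;> simp [hh]
    omega
  -- the centralizer of `d`
  set A := Subgroup.centralizer ({d} : Set G) with hA
  have hAodd : Odd (Nat.card ↥A) := by
    rw [← Nat.not_even_iff_odd]
    intro hev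
    obtain ⟨i, hiA, hi⟩ := SignalizerStrongEmb.exists_involution_of_even hev
    exact h.seven_ne_commute hi hd (Subgroup.mem_centralizer_singleton_iff.1 hiA)
  have hnA : ∀ a ∈ A, u * a * u ∈ A := by
    intro a ha
    rw [hA, Subgroup.mem_centralizer_singleton_iff] at ha ⊢
    have hud : u * d⁻¹ * u = d := by
      calc u * d⁻¹ * u = u * (u * d * u) * u := by rw [hdu]
        _ = (u * u) * d * (u * u) := by group
        _ = d := by rw [hui, one_mul, mul_one]
    have hai : a * d⁻¹ = d⁻¹ * a := ((show Commute a d from ha).inv_right).eq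
    calc u * a * u * d = u * a * (u * d * u) * u⁻¹ := by group
      _ = u * (a * d⁻¹) * u := by rw [hdu, huinv, mul_assoc u a d⁻¹]
      _ = u * d⁻¹ * a * u := by rw [hai, mul_assoc u d⁻¹ a]
      _ = (u * d⁻¹ * u) * (u⁻¹ * a * u) := by group
      _ = _ := by rw [hud, huinv]
  have hAeq := card_inverted hui hAodd hnA
  have hinvcard : Nat.card {a : G // a ∈ A ∧ u * a * u = a⁻¹} = j := by
    rw [hj]
    refine (Nat.card_congr
      { toFun := fun i => ⟨u * i.1, ?_, ?_⟩
        invFun := fun a => ⟨u * a.1, ?_, ?_⟩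
        left_inv := ?_
        right_inv := ?_ }).symm
    rotate_left 2
    · obtain ⟨i, hi, hid⟩ := i
      have hii := SignalizerStrongEmb.involution_mul_self hi
      show u * i ∈ A
      rw [hA, Subgroup.mem_centralizer_singleton_iff]
      calc u * i * d = u * (i * d * i) * i⁻¹ := by group
        _ = u * d⁻¹ * (u * u) * i := by
          rw [hid, hui, mul_one, inv_eq_of_mul_eq_one_right hii]
        _ = (u * d⁻¹ * u) * (u * i) := by group
        _ = d * (u * i) := by
          rw [show u * d⁻¹ * u = u * (u * d * u) * u by rw [hdu],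
            show u * (u * d * u) * u = (u * u) * d * (u * u) by group, hui, one_mul, mul_one]
    · obtain ⟨i, hi, hid⟩ := i
      show u * (u * i) * u = (u * i)⁻¹
      rw [← mul_assoc, hui, one_mul, mul_inv_rev, SignalizerStrongEmb.involution_inv hi, huinv]
    · obtain ⟨a, ha, hau⟩ := a
      show orderOf (u * a) = 2
      refine SignalizerStrongEmb.orderOf_eq_two_of_mul_self ?_ ?_
      · rw [← mul_assoc, hau, inv_mul_cancel]
      · intro e
        have hu2 : u⁻¹ ∈ A := by rw [inv_eq_of_mul_eq_one_right e]; exact ha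
        rw [huinv, hA, Subgroup.mem_centralizer_singleton_iff] at hu2
        exact h.seven_ne_commute hu hd hu2
    · obtain ⟨a, ha, hau⟩ := a
      rw [hA, Subgroup.mem_centralizer_singleton_iff] at ha
      show u * a * d * (u * a) = d⁻¹
      calc u * a * d * (u * a) = u * (a * d) * u * a := by group
        _ = u * (d * a) * u * a := by rw [ha]
        _ = (u * d * u⁻¹) * (u * a * u) * a := by group
        _ = _ := by rw [huinv, hdu, hau, inv_mul_cancel_right]
    · intro i
      apply Subtype.ext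
      show u * (u * i.1) = i.1
      rw [← mul_assoc, hui, one_mul]
    · intro a
      apply Subtype.ext
      show u * (u * a.1) = a.1
      rw [← mul_assoc, hui, one_mul]
  rw [hinvcard] at hAeq
  -- an element of order three normalizing `⟨d⟩`
  obtain ⟨x, hxN, hxA⟩ : ∃ x ∈ Subgroup.normalizer (Subgroup.zpowers d : Set G), orderOf x = 3 ∧ x ∉ A := by
    haveI : Fact (Nat.Prime 3) := ⟨Nat.prime_three⟩
    haveI : Fact (Nat.Prime 7) := ⟨by norm_num⟩
    set d' : ↥H := ⟨d, hdH⟩
    have hd' : orderOf d' = 7 := by rw [← Subgroup.orderOf_coe]; exact hd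
    have hS7 : ∀ Q : Sylow 7 ↥H, Nat.card ↥(Q : Subgroup ↥H) = 7 := fun Q => by
      rw [Q.card_eq_multiplicity, h.card_H, show (168 : ℕ) = 7 ^ 1 * 24 by norm_num,
        Nat.factorization_mul (by norm_num) (by norm_num), Nat.factorization_pow]
      simp [Nat.factorization_eq_zero_of_not_dvd (show ¬ 7 ∣ 24 by norm_num),
        (by norm_num : Nat.Prime 7).factorization_self]
    obtain ⟨Q, hQ⟩ := SmallGroupBasic.exists_sylow_of_orderOf hS7 hd'
    have hnum : Nat.card (Sylow 7 ↥H) = 8 := by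
      have h1 := SmallGroupBasic.card_orderOf_eq hS7
      have h2 := h.card_seven_H.1
      rw [← Nat.card_congr (show {e : ↥H // orderOf e = 7} ≃ {e : G // orderOf e = 7 ∧ e ∈ H} from
        { toFun := fun e => ⟨e.1, by rw [Subgroup.orderOf_coe]; exact e.2, e.1.2⟩
          invFun := fun e => ⟨⟨e.1, e.2.2⟩, by rw [← Subgroup.orderOf_coe]; exact e.2.1⟩
          left_inv := fun e => rfl
          right_inv := fun e => rfl }), h1] at h2
      omega
    set N' := Subgroup.normalizer (Q : Set ↥H) with hN'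
    have h21 : Nat.card ↥N' = 21 := by
      have := N'.index_mul_card
      rw [hN', ← Q.card_eq_index_normalizer, hnum, h.card_H] at this
      rw [hN']
      omega
    obtain ⟨y, hy⟩ := exists_prime_orderOf_dvd_card' (G := ↥N') 3 (by rw [h21]; norm_num)
    refine ⟨((y : ↥H) : G), ?_, by rw [Subgroup.orderOf_coe, Subgroup.orderOf_coe, hy], fun hyA => ?_⟩
    · apply Subgroup.mem_normalizer_fintype
      intro z hz
      have hyn := Subgroup.mem_normalizer_iff.1 y.2
      obtain ⟨k, rfl⟩ := Subgroup.mem_zpowers_iff.1 hz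
      have := (hyn (d' ^ k)).1 (by rw [hQ]; exact Subgroup.mem_zpowers_iff.2 ⟨k, rfl⟩)
      rw [hQ, Subgroup.mem_zpowers_iff] at this
      obtain ⟨l, hl⟩ := this
      exact Subgroup.mem_zpowers_iff.2 ⟨l, congrArg Subtype.val hl⟩
    · exact h.not_centralize_seven (y : ↥H).2 hdH (by rw [Subgroup.orderOf_coe, Subgroup.orderOf_coe, hy]) hd
        (Subgroup.mem_centralizer_singleton_iff.1 hyA)
  obtain ⟨hx3, hxA⟩ := hxA
  set N := Subgroup.normalizer (Subgroup.zpowers d : Set G) with hN
  have hAN : A ≤ N := by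
    rw [hA, ← SmallGroupBasic.centralizer_zpowers]
    exact Subgroup.centralizer_le_normalizer _
  haveI hAnorm : (A.subgroupOf N).Normal := by
    rw [hA, ← SmallGroupBasic.centralizer_zpowers, ← Subgroup.normalizerMonoidHom_ker]
    infer_instance
  have h3A : 3 * Nat.card ↥A ∣ Nat.card G := by
    refine dvd_trans ?_ N.card_subgroup_dvd_card
    rw [← (A.subgroupOf N).index_mul_card, Nat.card_congr (Subgroup.subgroupOfEquivOfLe hAN).toEquiv]
    refine Nat.mul_dvd_mul_right ?_ _
    rw [Subgroup.index_eq_card]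
    have ho : orderOf ((⟨x, hxN⟩ : ↥N) : ↥N ⧸ A.subgroupOf N) = 3 := by
      haveI : Fact (Nat.Prime 3) := ⟨Nat.prime_three⟩
      refine orderOf_eq_prime ?_ fun e => hxA ((QuotientGroup.eq_one_iff (N := A.subgroupOf N) (⟨x, hxN⟩ : ↥N)).1 e)
      rw [← QuotientGroup.mk_pow, show (⟨x, hxN⟩ : ↥N) ^ 3 = 1 from Subtype.ext (hx3 ▸ pow_orderOf_eq_one x),
        QuotientGroup.mk_one]
    exact ho ▸ orderOf_dvd_natCard _
  -- arithmetic
  obtain ⟨k, hk⟩ : 7 ∣ j := (Nat.Coprime.dvd_of_dvd_mul_left (show Nat.Coprime 7 48 by norm_num)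
    (show 7 ∣ 48 * j from hdouble ▸ (by omega : 7 ∣ 6 * (7 * n - 7))))
  have hkodd : Odd k := by
    have h' := hAodd
    rw [hAeq, hk] at h'
    exact (Nat.odd_mul.1 (Nat.odd_mul.1 h').1).2
  have hn8 : n = 8 * k + 1 := by
    have hn0 : 0 < n := Nat.pos_of_ne_zero Subgroup.index_ne_zero_of_finite
    omega
  rw [hAeq, hk, hGn, hn8] at h3A
  have hk8 : k ∣ 8 := by
    have h1 : k ∣ 8 * (8 * k + 1) := by
      have h2 : 21 * k ∣ 21 * (8 * (8 * k + 1)) := by
        have hb : 21 * k ∣ 3 * (7 * k * Nat.card ↥(A ⊓ Subgroup.centralizer ({u} : Set G) : Subgroup G)) :=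
          ⟨Nat.card ↥(A ⊓ Subgroup.centralizer ({u} : Set G) : Subgroup G), by ring⟩
        rw [show 21 * (8 * (8 * k + 1)) = (8 * k + 1) * 168 by ring]
        exact hb.trans h3A
      exact Nat.dvd_of_mul_dvd_mul_left (by norm_num) h2
    have h3 : k ∣ 64 * k := dvd_mul_left k 64
    have h4 := Nat.dvd_sub h1 h3
    rwa [show 8 * (8 * k + 1) - 64 * k = 8 by omega] at h4
  obtain ⟨m, -, hm⟩ := (Nat.dvd_prime_pow Nat.prime_two).1 (show k ∣ 2 ^ 3 from hk8)
  have : k = 1 := by
    rcases m with _ | m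
    · simpa using hm
    · exfalso
      rw [hm, Nat.odd_pow_iff (by omega)] at hkodd
      exact absurd hkodd (by decide)
  omega

end Hyp

end Cfsg.Agent.CentTwoA4
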