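import Cfsg.Agent.Lib.CentTwoA4Count91

/-!
No simple group has an involution centralizer `⟨J⟩ × A₄` with `J` 2-central.
-/

set_option autoImplicit false
set_option linter.style.haveILetI false
set_option linter.unusedSectionVars false

namespace Cfsg.Agent.CentTwoA4

open Cfsg
open scoped commutatorElement

variable {G : Type*} [Group G] [Finite G] [IsSimpleGroup G] {J : G} {T : Subgroup G} {S : Sylow 2 G}

theorem Hyp.false (h : Hyp J T S) : False := by
  classical
  haveI : Fact (Nat.Prime 3) := ⟨Nat.prime_three⟩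
  set H := Subgroup.normalizer ((S : Subgroup G) : Set G) with hH
  have hG := h.card_G
  have hidx : H.index = 9 := by
    have := H.index_mul_card
    rw [h.card_H, hG] at this
    omega
  have hcore : H.normalCore = ⊥ := by
    rcases SimpleOrder.eq_bot_or_top (H := H.normalCore) inferInstance with e | e
    · exact e
    · exfalso
      have : (H : Subgroup G) = ⊤ := top_le_iff.1 (e ▸ H.normalCore_le)
      rw [this, Subgroup.index_top] at hidx
      omega
  obtain ⟨x, hxJ, hx3⟩ := h.exists_three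
  have hx1 : x ≠ 1 := fun e => by rw [e, orderOf_one] at hx3; omega
  have hxH : x ∈ H := h.C_le (Subgroup.mem_centralizer_singleton_iff.2 hxJ)
  obtain ⟨P, hP⟩ := (IsPGroup.of_card (p := 3) (n := 1)
    (by rw [Nat.card_zpowers, hx3, pow_one]) : IsPGroup 3 ↥(Subgroup.zpowers x)).exists_le_sylow
  have hxP : x ∈ P := hP (Subgroup.mem_zpowers x)
  have hP27 : Nat.card ↥(P : Subgroup G) = 27 := by
    rw [P.card_eq_multiplicity, hG, show (1512 : ℕ) = 3 ^ 3 * 56 by norm_num,
      Nat.factorization_mul (by norm_num) (by norm_num), Nat.factorization_pow]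
    simp [Nat.factorization_eq_zero_of_not_dvd (show ¬ 3 ∣ 56 by norm_num), Nat.prime_three.factorization_self]
  -- the point stabilizer in `P`
  have hPH : ∀ y ∈ P, y ∈ H → y = 1 ∨ y = x ∨ y = x ^ 2 := by
    intro y hy hyH
    have hcard : Nat.card ↥((P : Subgroup G) ⊓ H : Subgroup G) ∣ 3 := by
      have h1 := Subgroup.card_dvd_of_le (inf_le_left : (P : Subgroup G) ⊓ H ≤ P)
      have h2 := Subgroup.card_dvd_of_le (inf_le_right : (P : Subgroup G) ⊓ H ≤ H)
      rw [hP27] at h1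
      rw [h.card_H] at h2
      exact (Nat.dvd_gcd h1 h2).trans (dvd_of_eq (by decide +kernel))
    have hle : Subgroup.zpowers x ≤ (P : Subgroup G) ⊓ H := Subgroup.zpowers_le.2 ⟨hxP, hxH⟩
    have heq : Subgroup.zpowers x = (P : Subgroup G) ⊓ H := Subgroup.eq_of_le_of_card_ge hle
      (by rw [Nat.card_zpowers, hx3]; exact Nat.le_of_dvd (by norm_num) hcard)
    have hyx : y ∈ Subgroup.zpowers x := heq ▸ ⟨hy, hyH⟩
    rw [mem_zpowers_iff_mem_range_orderOf, hx3] at hyx
    simp only [Finset.mem_image, Finset.mem_range] at hyx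
    obtain ⟨n, hn, rfl⟩ := hyx
    interval_cases n <;> simp
  -- transitivity
  have htrans : ∀ g : G, ∃ p ∈ P, g⁻¹ * p ∈ H := by
    intro g
    set f : ↥(P : Subgroup G) ⧸ H.subgroupOf (P : Subgroup G) → G ⧸ H :=
      Quotient.map' Subtype.val fun a b hab => by
        rw [QuotientGroup.leftRel_apply] at hab ⊢
        exact hab with hf
    have hinj : Function.Injective f := by
      intro q r e
      induction q using QuotientGroup.induction_on with
      | H a =>
        induction r using QuotientGroup.induction_on with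
        | H b =>
          have e' : ((a : G) : G ⧸ H) = ((b : G) : G ⧸ H) := e
          rw [QuotientGroup.eq] at e' ⊢
          exact e'
    have hsub : H.subgroupOf (P : Subgroup G) ≤ Subgroup.zpowers ⟨x, hxP⟩ := by
      intro y hy
      rcases hPH y y.2 hy with e | e | e
      · exact (show y = 1 from Subtype.ext e) ▸ one_mem _
      · exact (show y = ⟨x, hxP⟩ from Subtype.ext e) ▸ Subgroup.mem_zpowers _
      · exact (show y = (⟨x, hxP⟩ : ↥(P : Subgroup G)) ^ 2 from Subtype.ext e) ▸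
          Subgroup.pow_mem _ (Subgroup.mem_zpowers _) 2
    have hc3 : Nat.card ↥(H.subgroupOf (P : Subgroup G)) ≤ 3 := by
      refine (Nat.le_of_dvd Nat.card_pos (Subgroup.card_dvd_of_le hsub)).trans ?_
      rw [Nat.card_zpowers, ← Subgroup.orderOf_coe, hx3]
    have hbij : Function.Bijective f := hinj.bijective_of_nat_card_le (by
      rw [← Subgroup.index_eq_card, hidx, ← Subgroup.index_eq_card]
      have := (H.subgroupOf (P : Subgroup G)).index_mul_card
      rw [hP27] at this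
      nlinarith)
    obtain ⟨q, hq⟩ := hbij.2 (g : G ⧸ H)
    induction q using QuotientGroup.induction_on with
    | H p => exact ⟨p, p.2, QuotientGroup.eq.1 hq.symm⟩
  have hxcore : ¬ ∀ p ∈ P, p⁻¹ * x * p ∈ H := by
    intro hall
    refine hx1 (Subgroup.mem_bot.1 (hcore ▸ fun g => ?_))
    obtain ⟨p, hp, hgp⟩ := htrans g⁻¹
    rw [inv_inv] at hgp
    have := H.mul_mem (H.mul_mem hgp (hall p hp)) (H.inv_mem hgp)
    rwa [show g * p * (p⁻¹ * x * p) * (g * p)⁻¹ = g * x * g⁻¹ by group] at this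
  have hxnotc : (⟨x, hxP⟩ : ↥(P : Subgroup G)) ∉ Subgroup.center ↥(P : Subgroup G) := by
    intro hc
    refine hxcore fun p hp => ?_
    have := congrArg Subtype.val (Subgroup.mem_center_iff.1 hc ⟨p, hp⟩)
    have e : p⁻¹ * x * p = x := by
      rw [mul_assoc, ← (show p * x = x * p from this), inv_mul_cancel_left]
    rw [e]; exact hxH
  set Z := Subgroup.center ↥(P : Subgroup G) with hZ
  have hncomm : ¬ ∀ a b : ↥(P : Subgroup G), a * b = b * a :=
    fun hc => hxnotc (Subgroup.mem_center_iff.2 fun y => hc y _)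
  have hZd : Nat.card ↥Z ∣ 3 ^ 3 := by
    have := Z.card_subgroup_dvd_card
    rwa [hP27] at this
  obtain ⟨i, hi, hZc⟩ := (Nat.dvd_prime_pow Nat.prime_three).1 hZd
  have hZ1 : i ≠ 0 := by
    intro e
    haveI : Nontrivial ↥(P : Subgroup G) := Finite.one_lt_card_iff_nontrivial.1 (by rw [hP27]; norm_num)
    have := P.2.center_nontrivial
    have h2 := Finite.one_lt_card_iff_nontrivial.2 this
    rw [hZc, e] at h2
    simp at h2
  have hQcard : Nat.card (↥(P : Subgroup G) ⧸ Z) * 3 ^ i = 27 := by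
    rw [← Subgroup.index_eq_card, ← hZc, Subgroup.index_mul_card, hP27]
  have hcyc : ¬ IsCyclic (↥(P : Subgroup G) ⧸ Z) := by
    intro hcy
    haveI := (MonoidHom.isMulCommutative_of_isCyclic_of_ker_le_center (QuotientGroup.mk' Z)
      (by rw [QuotientGroup.ker_mk']))
    exact hncomm fun a b => mul_comm' a b
  have hi1 : i = 1 := by
    rcases (show i = 1 ∨ i = 2 ∨ i = 3 by omega) with e | e | e
    · exact e
    · exfalso
      rw [e] at hQcard
      exact hcyc (isCyclic_of_prime_card (p := 3) (by omega))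
    · exfalso
      rw [e] at hQcard
      haveI : Subsingleton (↥(P : Subgroup G) ⧸ Z) := Finite.card_le_one_iff_subsingleton.1 (by omega)
      exact hcyc isCyclic_of_subsingleton
  subst hi1
  have h9 : Nat.card (↥(P : Subgroup G) ⧸ Z) = 3 ^ 2 := by omega
  haveI hab : IsMulCommutative (↥(P : Subgroup G) ⧸ Z) := IsPGroup.isMulCommutative_of_card_eq_prime_sq h9
  set xb : ↥(P : Subgroup G) ⧸ Z := ((⟨x, hxP⟩ : ↥(P : Subgroup G)) : ↥(P : Subgroup G) ⧸ Z) with hxb
  have hxb3 : orderOf xb = 3 := by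
    refine orderOf_eq_prime ?_ fun e => hxnotc ((QuotientGroup.eq_one_iff _).1 e)
    rw [hxb, ← QuotientGroup.mk_pow, show (⟨x, hxP⟩ : ↥(P : Subgroup G)) ^ 3 = 1 from
      Subtype.ext (show x ^ 3 = 1 by rw [← hx3]; exact pow_orderOf_eq_one x), QuotientGroup.mk_one]
  obtain ⟨a, ha⟩ : ∃ a, a ∉ Subgroup.zpowers xb := by
    by_contra hall
    push Not at hall
    exact hcyc ⟨⟨xb, fun a => hall a⟩⟩
  have ha3 : orderOf a = 3 := by
    have hd : orderOf a ∣ 3 ^ 2 := h9 ▸ orderOf_dvd_natCard a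
    obtain ⟨k, hk, hka⟩ := (Nat.dvd_prime_pow Nat.prime_three).1 hd
    interval_cases k
    · have ha1 : a = 1 := orderOf_eq_one_iff.1 (by simpa using hka)
      rw [ha1] at ha
      exact absurd (one_mem _) ha
    · simpa using hka
    · exfalso
      exact hcyc (isCyclic_of_orderOf_eq_card a (by rw [hka, h9]))
  haveI : (Subgroup.zpowers a).Normal := ⟨fun z hz g => by
    rwa [mul_comm' g z, mul_inv_cancel_right]⟩
  set Q := (Subgroup.zpowers a).comap (QuotientGroup.mk' Z) with hQ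
  haveI : Q.Normal := Subgroup.Normal.comap inferInstance _
  have hQi : Q.index = 3 := by
    rw [hQ, Subgroup.index_comap_of_surjective _ (QuotientGroup.mk'_surjective Z)]
    have := (Subgroup.zpowers a).index_mul_card
    rw [Nat.card_zpowers, ha3, h9] at this
    omega
  have hxQ : (⟨x, hxP⟩ : ↥(P : Subgroup G)) ∉ Q := by
    intro hx
    rw [hQ, Subgroup.mem_comap] at hx
    refine ha ?_
    have hle : Subgroup.zpowers xb ≤ Subgroup.zpowers a := Subgroup.zpowers_le.2 hx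
    rw [Subgroup.eq_of_le_of_card_ge hle (by rw [Nat.card_zpowers, Nat.card_zpowers, ha3, hxb3])]
    exact Subgroup.mem_zpowers a
  -- `x` is not inverted in `H`
  have hreal : ∀ k ∈ H, k⁻¹ * x * k ≠ x ^ 2 := by
    intro k hk hinv
    set K := (S : Subgroup G).subgroupOf H with hK
    haveI : K.Normal := Subgroup.normal_in_normalizer
    set xq : ↥H ⧸ K := ((⟨x, hxH⟩ : ↥H) : ↥H ⧸ K)
    set kq : ↥H ⧸ K := ((⟨k, hk⟩ : ↥H) : ↥H ⧸ K)
    have hc21 : Nat.card (↥H ⧸ K) = 21 := by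
      have := K.index_mul_card
      rw [h.card_H, Nat.card_congr (Subgroup.subgroupOfEquivOfLe Subgroup.le_normalizer).toEquiv, h.card_S,
        Subgroup.index_eq_card] at this
      omega
    have hx3' : xq ^ 3 = 1 := by
      show ((⟨x, hxH⟩ : ↥H) : ↥H ⧸ K) ^ 3 = 1
      rw [← QuotientGroup.mk_pow, show (⟨x, hxH⟩ : ↥H) ^ 3 = 1 from Subtype.ext (show x ^ 3 = 1 by rw [← hx3]; exact pow_orderOf_eq_one x),
        QuotientGroup.mk_one]
    have hrel : kq⁻¹ * xq * kq = xq⁻¹ := by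
      have h2 : (⟨k, hk⟩ : ↥H)⁻¹ * ⟨x, hxH⟩ * ⟨k, hk⟩ = ⟨x, hxH⟩ ^ 2 := Subtype.ext hinv
      show ((⟨k, hk⟩ : ↥H) : ↥H ⧸ K)⁻¹ * _ * _ = _
      rw [← QuotientGroup.mk_inv, ← QuotientGroup.mk_mul, ← QuotientGroup.mk_mul, h2, QuotientGroup.mk_pow]
      show xq ^ 2 = xq⁻¹
      rw [eq_inv_iff_mul_eq_one, ← pow_succ, hx3']
    have hpow : ∀ n : ℕ, kq⁻¹ ^ (2 * n + 1) * xq * (kq⁻¹ ^ (2 * n + 1))⁻¹ = xq⁻¹ := by
      intro n
      induction n with
      | zero => simpa using hrel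
      | succ n ih =>
        rw [show 2 * (n + 1) + 1 = 2 + (2 * n + 1) by ring, pow_add, mul_inv_rev]
        calc kq⁻¹ ^ 2 * kq⁻¹ ^ (2 * n + 1) * xq * ((kq⁻¹ ^ (2 * n + 1))⁻¹ * (kq⁻¹ ^ 2)⁻¹)
            = kq⁻¹ ^ 2 * (kq⁻¹ ^ (2 * n + 1) * xq * (kq⁻¹ ^ (2 * n + 1))⁻¹) * (kq⁻¹ ^ 2)⁻¹ := by group
          _ = kq⁻¹ ^ 2 * xq⁻¹ * (kq⁻¹ ^ 2)⁻¹ := by rw [ih]
          _ = kq⁻¹ * (kq⁻¹ * xq⁻¹ * kq) * kq := by simp [pow_two, mul_assoc]
          _ = kq⁻¹ * (kq⁻¹ * xq * kq)⁻¹ * kq := by group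
          _ = _ := by rw [hrel, inv_inv, hrel]
    have h21 : kq⁻¹ ^ (2 * 10 + 1) = 1 := by
      rw [show 2 * 10 + 1 = Nat.card (↥H ⧸ K) by rw [hc21]]
      exact pow_card_eq_one'
    have hxx := hpow 10
    rw [h21, one_mul, inv_one, mul_one] at hxx
    have hx1' : xq = 1 := by
      have hsq : xq * xq = 1 := by
        nth_rewrite 2 [hxx]
        rw [mul_inv_cancel]
      calc xq = xq ^ 3 * (xq * xq)⁻¹ := by group
        _ = 1 := by rw [hx3', hsq, inv_one, one_mul]
    have hxS : x ∈ (S : Subgroup G) := (QuotientGroup.eq_one_iff (N := K) (⟨x, hxH⟩ : ↥H)).1 hx1'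
    have := Subgroup.orderOf_dvd_natCard _ hxS
    rw [hx3, h.card_S] at this
    omega
  obtain ⟨M, hM, hMi, hxM⟩ := TransferThompson.exists_normal_index P Q hQi hx3 hxP hxQ (by
    intro g hg
    obtain ⟨p, hp, hgp⟩ := htrans g⁻¹
    rw [inv_inv] at hgp
    set k := g * p with hk
    have hw : p⁻¹ * (g⁻¹ * x * g) * p = k⁻¹ * x * k := by rw [hk]; group
    have hmem : k⁻¹ * x * k ∈ P :=
      hw ▸ mul_mem (mul_mem (inv_mem hp) hg) hp
    have hmemH : k⁻¹ * x * k ∈ H := H.mul_mem (H.mul_mem (H.inv_mem hgp) hxH) hgp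
    rcases hPH _ hmem hmemH with e | e | e
    · exact absurd (by
        calc x = k * (k⁻¹ * x * k) * k⁻¹ := by group
          _ = 1 := by rw [e]; group) hx1
    · rw [hQ, Subgroup.mem_comap]
      have e1 : (⟨g⁻¹ * x * g, hg⟩ : ↥(P : Subgroup G)) = ⟨p, hp⟩ * ⟨x, hxP⟩ * (⟨p, hp⟩)⁻¹ := Subtype.ext (by
        show g⁻¹ * x * g = p * x * p⁻¹
        calc g⁻¹ * x * g = p * (k⁻¹ * x * k) * p⁻¹ := by rw [hk]; group
          _ = _ := by rw [e])
      have e2 : QuotientGroup.mk' Z ((⟨x, hxP⟩ : ↥(P : Subgroup G))⁻¹ * ⟨g⁻¹ * x * g, hg⟩) = 1 := by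
        rw [e1]
        simp only [map_mul, map_inv]
        rw [mul_comm' (QuotientGroup.mk' Z ⟨p, hp⟩), mul_inv_cancel_right, inv_mul_cancel]
      rw [e2]; exact one_mem _
    · exact absurd e (hreal k hgp))
  rcases SimpleOrder.eq_bot_or_top hM with e | e
  · rw [e, Subgroup.index_bot, hG] at hMi
    omega
  · exact hxM (e ▸ Subgroup.mem_top x)

end Cfsg.Agent.CentTwoA4
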