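import Cfsg.Agent.Lib.CentTwoAltCore91
import Cfsg.Agent.Lib.SimpleOrder
import Cfsg.Agent.Lib.SmallGroupBasic

/-!
An involution centralizer `⟨J⟩ × A₄`: the Sylow 2-subgroup and its normalizer.
-/

set_option autoImplicit false
set_option linter.style.haveILetI false
set_option linter.unusedSectionVars false

namespace Cfsg.Agent.CentTwoA4

open Cfsg Cfsg.Agent.CentTwoAlt91 Cfsg.Agent.AltCommCent91

variable {G : Type*} [Group G] [Finite G] {J : G} {T : Subgroup G}

/-- The hypotheses. -/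
structure Hyp (J : G) (T : Subgroup G) (S : Sylow 2 G) : Prop where
  mid : Mid J T (alternatingGroup (Fin 4))
  mem : J ∈ S
  cent : ∀ x ∈ S, x * J = J * x
  conj : ∀ i : G, orderOf i = 2 → IsConj J i

namespace Hyp

variable {S : Sylow 2 G} (h : Hyp J T S)
include h

theorem card_S : Nat.card ↥(S : Subgroup G) = 8 := h.mid.card_sylow h.cent

theorem card_C : Nat.card ↥(Subgroup.centralizer ({J} : Set G)) = 24 := by
  obtain ⟨e⟩ := h.mid.equiv
  rw [h.mid.card_centralizer, Nat.card_congr e.toEquiv, card_four]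

theorem T_sq_comm {a b : G} (ha : a ∈ T) (hb : b ∈ T) (ha2 : a * a = 1) (hb2 : b * b = 1) : a * b = b * a := by
  obtain ⟨e⟩ := h.mid.equiv
  have h1 := four_comm (e ⟨a, ha⟩) (e ⟨b, hb⟩)
    (by rw [← map_mul, show (⟨a, ha⟩ : ↥T) * ⟨a, ha⟩ = 1 from Subtype.ext ha2, map_one])
    (by rw [← map_mul, show (⟨b, hb⟩ : ↥T) * ⟨b, hb⟩ = 1 from Subtype.ext hb2, map_one])
  rw [← map_mul, ← map_mul] at h1
  exact congrArg Subtype.val (e.injective h1)

theorem sq_split {c : G} (hc : c * J = J * c) (hcc : c * c = 1) :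
    ∃ s ∈ T, s * s = 1 ∧ (c = s ∨ c = J * s) := by
  obtain ⟨s, hs, e | e⟩ := h.mid.toBase.mem_C_iff.1 hc
  · exact ⟨s, hs, e ▸ hcc, Or.inl e⟩
  · refine ⟨s, hs, ?_, Or.inr e⟩
    rw [e] at hcc
    calc s * s = (J * J) * (s * s) := by rw [h.mid.toBase.sq, one_mul]
      _ = J * (J * s) * s := by group
      _ = J * (s * J) * s := by rw [h.mid.toBase.comm hs]
      _ = 1 := by rw [← hcc]; group

theorem sq_comm {c d : G} (hc : c * J = J * c) (hd : d * J = J * d) (hcc : c * c = 1) (hdd : d * d = 1) :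
    c * d = d * c := by
  obtain ⟨s, hs, hss, e⟩ := h.sq_split hc hcc
  obtain ⟨u, hu, huu, e'⟩ := h.sq_split hd hdd
  have hsu : Commute s u := h.T_sq_comm hs hu hss huu
  have h1 : Commute J s := h.mid.toBase.comm hs
  have h2 : Commute J u := h.mid.toBase.comm hu
  rcases e with rfl | rfl <;> rcases e' with rfl | rfl
  · exact hsu.eq
  · exact (h1.symm.mul_right hsu).eq
  · exact (h2.mul_left hsu).eq
  · exact ((Commute.refl J).mul_left h1.symm).mul_right (h2.mul_left hsu) |>.eq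

theorem mem_S_iff {c : G} : c ∈ S ↔ c * J = J * c ∧ c * c = 1 := by
  refine ⟨fun hc => ⟨h.cent c hc, h.mid.sylow_sq h.cent hc⟩, fun hc => ?_⟩
  let E : Subgroup G :=
    { carrier := {c | c * J = J * c ∧ c * c = 1}
      one_mem' := ⟨by simp, one_mul 1⟩
      mul_mem' := by
        rintro a b ⟨ha, ha2⟩ ⟨hb, hb2⟩
        refine ⟨by rw [mul_assoc, hb, ← mul_assoc, ha, mul_assoc], ?_⟩
        calc a * b * (a * b) = a * (b * a) * b := by group
          _ = a * (a * b) * b := by rw [h.sq_comm hb ha hb2 ha2]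
          _ = (a * a) * (b * b) := by group
          _ = 1 := by rw [ha2, hb2, one_mul]
      inv_mem' := by
        rintro a ⟨ha, ha2⟩
        rw [Set.mem_setOf_eq, inv_eq_of_mul_eq_one_right ha2]
        exact ⟨ha, ha2⟩ }
  have hp : IsPGroup 2 ↥E := fun x => ⟨1, Subtype.ext (by
    show ((x : G)) ^ 2 ^ 1 = 1
    rw [pow_one, pow_two]; exact x.2.2)⟩
  have hle : (S : Subgroup G) ≤ E := fun x hx => ⟨h.cent x hx, h.mid.sylow_sq h.cent hx⟩
  have : E = (S : Subgroup G) := S.3 hp hle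
  show c ∈ (S : Subgroup G)
  rw [← this]
  exact hc

theorem S_comm {x y : G} (hx : x ∈ S) (hy : y ∈ S) : x * y = y * x :=
  h.sq_comm (h.cent x hx) (h.cent y hy) (h.mid.sylow_sq h.cent hx) (h.mid.sylow_sq h.cent hy)

theorem C_le : Subgroup.centralizer ({J} : Set G) ≤ Subgroup.normalizer ((S : Subgroup G) : Set G) := by
  intro c hc
  rw [Subgroup.mem_centralizer_singleton_iff] at hc
  apply Subgroup.mem_normalizer_fintype
  intro x hx
  obtain ⟨hxJ, hxx⟩ := h.mem_S_iff.1 hx
  refine h.mem_S_iff.2 ⟨?_, ?_⟩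
  · have hci : c⁻¹ * J = J * c⁻¹ := (show Commute c J from hc).inv_left.eq
    calc c * x * c⁻¹ * J = c * x * (c⁻¹ * J) := by group
      _ = c * (x * J) * c⁻¹ := by rw [hci]; group
      _ = (c * J) * x * c⁻¹ := by rw [hxJ]; group
      _ = _ := by rw [hc]; group
  · calc c * x * c⁻¹ * (c * x * c⁻¹) = c * (x * x) * c⁻¹ := by group
      _ = 1 := by rw [hxx]; group

theorem exists_normalizer_conj {v : G} (hv : orderOf v = 2) (hvS : v ∈ S) :
    ∃ n ∈ Subgroup.normalizer ((S : Subgroup G) : Set G), n * J * n⁻¹ = v := by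
  haveI : Fact (Nat.Prime 2) := ⟨Nat.prime_two⟩
  haveI : IsMulCommutative ↥(S : Subgroup G) := ⟨⟨fun a b => Subtype.ext (h.S_comm a.2 b.2)⟩⟩
  obtain ⟨g, rfl⟩ := isConj_iff.1 (h.conj v hv)
  obtain ⟨n, hn, hne⟩ := Sylow.conj_eq_normalizer_conj_of_mem S J g⁻¹ h.mem (by rwa [inv_inv])
  refine ⟨n⁻¹, Subgroup.inv_mem _ hn, ?_⟩
  rw [inv_inv] at hne ⊢
  exact hne.symm

theorem centralizer_le {v : G} (hv : orderOf v = 2) (hvS : v ∈ S) :
    Subgroup.centralizer ({v} : Set G) ≤ Subgroup.normalizer ((S : Subgroup G) : Set G) := by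
  obtain ⟨n, hn, rfl⟩ := h.exists_normalizer_conj hv hvS
  intro c hc
  rw [Subgroup.mem_centralizer_singleton_iff] at hc
  have hc' : n⁻¹ * c * n ∈ Subgroup.centralizer ({J} : Set G) := by
    rw [Subgroup.mem_centralizer_singleton_iff]
    calc n⁻¹ * c * n * J = n⁻¹ * (c * (n * J * n⁻¹)) * n := by group
      _ = n⁻¹ * ((n * J * n⁻¹) * c) * n := by rw [hc]
      _ = _ := by group
  have := Subgroup.mul_mem _ (Subgroup.mul_mem _ hn (h.C_le hc')) (Subgroup.inv_mem _ hn)
  rwa [show n * (n⁻¹ * c * n) * n⁻¹ = c by group] at this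

theorem involution_mem_S {i : G} (hi : orderOf i = 2)
    (hiH : i ∈ Subgroup.normalizer ((S : Subgroup G) : Set G)) : i ∈ S := by
  haveI : Fact (Nat.Prime 2) := ⟨Nat.prime_two⟩
  have hp : IsPGroup 2 ↥(Subgroup.zpowers i) :=
    IsPGroup.of_card (n := 1) (by rw [Nat.card_zpowers, hi, pow_one])
  have hsup : IsPGroup 2 ↥(Subgroup.zpowers i ⊔ (S : Subgroup G)) :=
    hp.to_sup_of_normal_right' S.2 (Subgroup.zpowers_le.2 hiH)
  have := S.3 hsup le_sup_right
  show i ∈ (S : Subgroup G)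
  rw [← this]
  exact Subgroup.mem_sup_left (Subgroup.mem_zpowers i)

theorem card_inv_S : Nat.card {i : G // orderOf i = 2 ∧ i ∈ Subgroup.normalizer ((S : Subgroup G) : Set G)} = 7 := by
  haveI : Fintype ↥(S : Subgroup G) := Fintype.ofFinite _
  classical
  rw [Nat.card_congr (show {i : G // orderOf i = 2 ∧ i ∈ Subgroup.normalizer ((S : Subgroup G) : Set G)} ≃
      {x : ↥(S : Subgroup G) // x ≠ 1} from
    { toFun := fun i => ⟨⟨i, h.involution_mem_S i.2.1 i.2.2⟩, fun e =>
        SignalizerStrongEmb.involution_ne_one i.2.1 (congrArg Subtype.val e)⟩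
      invFun := fun x => ⟨x.1, SignalizerStrongEmb.orderOf_eq_two_of_mul_self (h.mid.sylow_sq h.cent x.1.2)
        (fun e => x.2 (Subtype.ext e)), Subgroup.le_normalizer x.1.2⟩
      left_inv := fun i => rfl
      right_inv := fun x => rfl }),
    Nat.card_eq_fintype_card, Fintype.card_subtype_compl, Fintype.card_subtype_eq, ← Nat.card_eq_fintype_card,
    h.card_S]

theorem card_H : Nat.card ↥(Subgroup.normalizer ((S : Subgroup G) : Set G)) = 168 := by
  set H := Subgroup.normalizer ((S : Subgroup G) : Set G) with hH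
  have hidx : ((Subgroup.centralizer ({J} : Set G)).subgroupOf H).index = 7 := by
    rw [Subgroup.index_eq_card, ← h.card_inv_S]
    refine Nat.card_eq_of_bijective (fun q => Quotient.liftOn' q
      (fun n : ↥H => (⟨(n : G) * J * (n : G)⁻¹, by rw [SignalizerStrongEmb.orderOf_conj]; exact h.mid.toBase.ord,
        H.mul_mem (H.mul_mem n.2 (Subgroup.le_normalizer h.mem)) (H.inv_mem n.2)⟩ :
          {i : G // orderOf i = 2 ∧ i ∈ H})) ?_) ⟨?_, ?_⟩
    · intro a b hab
      rw [QuotientGroup.leftRel_apply, Subgroup.mem_subgroupOf, Subgroup.mem_centralizer_singleton_iff] at hab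
      apply Subtype.ext
      push_cast at hab
      calc (a : G) * J * (a : G)⁻¹ = a * (J * ((a : G)⁻¹ * b)) * (b : G)⁻¹ := by group
        _ = a * (((a : G)⁻¹ * b) * J) * (b : G)⁻¹ := by rw [hab]
        _ = _ := by group
    · intro q r
      induction q using QuotientGroup.induction_on with
      | H a =>
        induction r using QuotientGroup.induction_on with
        | H b =>
          intro e
          have e' : (a : G) * J * (a : G)⁻¹ = (b : G) * J * (b : G)⁻¹ := congrArg Subtype.val e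
          rw [QuotientGroup.eq, Subgroup.mem_subgroupOf, Subgroup.mem_centralizer_singleton_iff]
          push_cast
          calc (a : G)⁻¹ * b * J = (a : G)⁻¹ * ((b : G) * J * (b : G)⁻¹) * b := by group
            _ = (a : G)⁻¹ * ((a : G) * J * (a : G)⁻¹) * b := by rw [e']
            _ = _ := by group
    · rintro ⟨i, hi, hiH⟩
      obtain ⟨n, hn, hne⟩ := h.exists_normalizer_conj hi (h.involution_mem_S hi hiH)
      refine ⟨((⟨n, hn⟩ : ↥H) : ↥H ⧸ (Subgroup.centralizer ({J} : Set G)).subgroupOf H), ?_⟩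
      exact Subtype.ext hne
  have hmul := ((Subgroup.centralizer ({J} : Set G)).subgroupOf H).index_mul_card
  rw [hidx, Nat.card_congr (Subgroup.subgroupOfEquivOfLe h.C_le).toEquiv, h.card_C] at hmul
  omega

/-- An element of order three of the centralizer does not centralize `S`. -/
theorem three_not_central {c : G} (hc : c * J = J * c) (h3 : orderOf c = 3) :
    ∃ s ∈ S, c * s ≠ s * c := by
  obtain ⟨e⟩ := h.mid.equiv
  have hc3 : c ^ 3 = 1 := h3 ▸ pow_orderOf_eq_one c
  obtain ⟨s, hs, rfl | rfl⟩ := h.mid.toBase.mem_C_iff.1 hc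
  · have h1 : e ⟨c, hs⟩ ≠ 1 := fun e1 => by
      have := congrArg Subtype.val ((EmbeddingLike.map_eq_one_iff (f := e)).1 e1)
      rw [show c = 1 from this, orderOf_one] at h3
      omega
    obtain ⟨a, ha, hne⟩ := four_noncentral (e ⟨c, hs⟩)
      (by rw [← map_pow, show (⟨c, hs⟩ : ↥T) ^ 3 = 1 from Subtype.ext hc3, map_one]) h1
    refine ⟨(e.symm a : ↥T), h.mem_S_iff.2 ⟨h.mid.toBase.T_le (e.symm a).2, ?_⟩, fun hcs => hne ?_⟩
    · rw [← Subgroup.coe_mul, ← map_mul, ha, map_one, Subgroup.coe_one]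
    · have hsub : (⟨c, hs⟩ : ↥T) * e.symm a = e.symm a * ⟨c, hs⟩ := Subtype.ext hcs
      simpa using congrArg e hsub
  · exfalso
    have hJs : Commute J s := h.mid.toBase.comm hs
    rw [hJs.mul_pow, pow_succ J, pow_two J, h.mid.toBase.sq, one_mul] at hc3
    exact h.mid.toBase.not_mem (eq_inv_of_mul_eq_one_left hc3 ▸ T.inv_mem (T.pow_mem hs 3))

theorem exists_three : ∃ x : G, x * J = J * x ∧ orderOf x = 3 := by
  obtain ⟨e⟩ := h.mid.equiv
  haveI : Fact (Nat.Prime 3) := ⟨Nat.prime_three⟩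
  obtain ⟨a, ha, ha1⟩ := four_exists_three
  refine ⟨(e.symm a : ↥T), h.mid.toBase.T_le (e.symm a).2, ?_⟩
  rw [Subgroup.orderOf_coe, MulEquiv.orderOf_eq]
  exact orderOf_eq_prime ha ha1

theorem isStronglyEmbedded [IsSimpleGroup G] :
    Cfsg.IsStronglyEmbedded (Subgroup.normalizer ((S : Subgroup G) : Set G)) := by
  refine SignalizerStrongEmb.isStronglyEmbedded_of_centralizer ?_ ?_ ?_ ?_
  · intro htop
    have hn : (S : Subgroup G).Normal := Subgroup.normalizer_eq_top_iff.1 htop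
    rcases SimpleOrder.eq_bot_or_top hn with e | e
    · have := h.card_S
      rw [e, Subgroup.card_bot] at this
      omega
    · have h24 : Nat.card ↥(Subgroup.centralizer ({J} : Set G)) ∣ Nat.card G := Subgroup.card_subgroup_dvd_card _
      have h8 := h.card_S
      rw [e, Subgroup.card_top] at h8
      rw [h.card_C, h8] at h24
      omega
  · rw [h.card_H]; decide
  · exact fun t ht hto => h.centralizer_le hto (h.involution_mem_S hto ht)
  · intro t ht s hs hto hso _
    obtain ⟨n, hn, hne⟩ := h.exists_normalizer_conj hto (h.involution_mem_S hto ht)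
    obtain ⟨m, hm, hme⟩ := h.exists_normalizer_conj hso (h.involution_mem_S hso hs)
    exact ⟨m * n⁻¹, Subgroup.mul_mem _ hm (Subgroup.inv_mem _ hn), by rw [← hne, ← hme]; group⟩

end Hyp

end Cfsg.Agent.CentTwoA4
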