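import Cfsg.Prelude.Def_SporadicB
import Cfsg.Prelude.Def_TwoFusion
import Cfsg.Agent.Lib.TransferThompson
import Cfsg.Agent.Lib.SignalizerStrongEmb
import Cfsg.Agent.Lib.AltCommCent91

/-!
Groups with a 2-central involution whose centralizer is the product of its span and an alternating group.
-/

set_option autoImplicit false
set_option linter.style.haveILetI false
set_option linter.unusedSectionVars false

namespace Cfsg.Agent.CentTwoAlt91

open Cfsg Cfsg.Agent.AltCommCent91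
open scoped commutatorElement

variable {G : Type*} [Group G] [Finite G] {J : G} {T : Subgroup G}

/-- The hypothesis on the involution. -/
structure Base (J : G) (T : Subgroup G) : Prop where
  central : Cfsg.IsTwoCentralInvolution J
  direct : Cfsg.IsInternalDirectProduct (Subgroup.zpowers J) T (Subgroup.centralizer ({J} : Set G))

/-- The elements of order two up to `N`-conjugation. -/
def Fused (N : Subgroup G) (J i : G) : Prop := ∃ n ∈ N, n * J * n⁻¹ = i

namespace Base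

variable (h : Base J T)
include h

theorem ord : orderOf J = 2 := h.central.1

theorem sq : J * J = 1 := SignalizerStrongEmb.involution_mul_self h.ord

theorem ne_one : J ≠ 1 := SignalizerStrongEmb.involution_ne_one h.ord

theorem comm {s : G} (hs : s ∈ T) : J * s = s * J :=
  h.direct.2.2.1 J (Subgroup.mem_zpowers J) s hs

theorem not_mem : J ∉ T := fun hT => h.ne_one <| Subgroup.mem_bot.1 <| by
  rw [← h.direct.2.2.2.1]; exact ⟨Subgroup.mem_zpowers J, hT⟩

theorem mem_C_iff {c : G} : c * J = J * c ↔ ∃ s ∈ T, c = s ∨ c = J * s := by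
  constructor
  · intro hc
    have hcC : c ∈ Subgroup.centralizer ({J} : Set G) := Subgroup.mem_centralizer_singleton_iff.2 hc
    rw [← h.direct.2.2.2.2] at hcC
    let K : Subgroup G :=
      { carrier := {c | ∃ s ∈ T, c = s ∨ c = J * s}
        one_mem' := ⟨1, T.one_mem, Or.inl rfl⟩
        mul_mem' := by
          rintro a b ⟨s, hs, ha⟩ ⟨s', hs', hb⟩
          refine ⟨s * s', T.mul_mem hs hs', ?_⟩
          rcases ha with rfl | rfl <;> rcases hb with rfl | rfl
          · exact Or.inl rfl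
          · exact Or.inr (by rw [← mul_assoc, ← h.comm hs, mul_assoc])
          · exact Or.inr (mul_assoc _ _ _)
          · exact Or.inl (by rw [mul_assoc, ← mul_assoc s J, ← h.comm hs, mul_assoc, ← mul_assoc, h.sq, one_mul])
        inv_mem' := by
          rintro a ⟨s, hs, rfl | rfl⟩
          · exact ⟨a⁻¹, T.inv_mem hs, Or.inl rfl⟩
          · refine ⟨s⁻¹, T.inv_mem hs, Or.inr ?_⟩
            rw [mul_inv_rev, inv_eq_of_mul_eq_one_right h.sq, h.comm (T.inv_mem hs)] }
    exact (sup_le (Subgroup.zpowers_le.2 ⟨1, T.one_mem, Or.inr (mul_one J).symm⟩)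
      (fun s hs => ⟨s, hs, Or.inl rfl⟩) : _ ≤ K) hcC
  · rintro ⟨s, hs, rfl | rfl⟩
    · exact (h.comm hs).symm
    · rw [mul_assoc, ← h.comm hs]

theorem T_le {s : G} (hs : s ∈ T) : s * J = J * s := (h.comm hs).symm

/-- The derived subgroup of the centralizer lies in `T`. -/
theorem commutator_le : ⁅Subgroup.centralizer ({J} : Set G), Subgroup.centralizer ({J} : Set G)⁆ ≤ T := by
  rw [Subgroup.commutator_le]
  intro c hc d hd
  rw [Subgroup.mem_centralizer_singleton_iff] at hc hd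
  obtain ⟨s, hs, hcs⟩ := h.mem_C_iff.1 hc
  obtain ⟨s', hs', hds⟩ := h.mem_C_iff.1 hd
  have hss : ⁅s, s'⁆ ∈ T := by
    rw [commutatorElement_def]
    exact T.mul_mem (T.mul_mem (T.mul_mem hs hs') (T.inv_mem hs)) (T.inv_mem hs')
  have key : ⁅c, d⁆ = ⁅s, s'⁆ := by
    have hs1 : Commute J s := h.comm hs
    have hs2 : Commute J s' := h.comm hs'
    have hd' : Commute J d := hd.symm
    rcases hcs with rfl | rfl <;> rcases hds with rfl | rfl
    · rfl
    · rw [commutatorElement_def, commutatorElement_def, mul_inv_rev, ← mul_assoc c J, ← hs1.eq]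
      calc J * c * s' * c⁻¹ * (s'⁻¹ * J⁻¹) = J * (c * s' * c⁻¹ * s'⁻¹) * J⁻¹ := by group
        _ = c * s' * c⁻¹ * s'⁻¹ := by
          rw [(((hs1.mul_right hs2).mul_right hs1.inv_right).mul_right hs2.inv_right).eq, mul_inv_cancel_right]
    · rw [commutatorElement_def, commutatorElement_def, mul_inv_rev, mul_assoc J s d]
      calc J * (s * d) * (s⁻¹ * J⁻¹) * d⁻¹ = J * (s * d * s⁻¹) * (J⁻¹ * d⁻¹) := by group
        _ = (s * d * s⁻¹) * J * (J⁻¹ * d⁻¹) := by rw [((hs1.mul_right hd').mul_right hs1.inv_right).eq]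
        _ = _ := by group
    · rw [commutatorElement_def, commutatorElement_def, mul_inv_rev, mul_inv_rev]
      calc J * s * (J * s') * (s⁻¹ * J⁻¹) * (s'⁻¹ * J⁻¹) = J * (s * J) * s' * s⁻¹ * (J⁻¹ * s'⁻¹) * J⁻¹ := by group
        _ = J * (J * s) * s' * s⁻¹ * (s'⁻¹ * J⁻¹) * J⁻¹ := by rw [← hs1.eq, (hs2.inv_right.inv_left).eq]
        _ = (J * J) * (s * s' * s⁻¹ * s'⁻¹) * (J * J)⁻¹ := by group
        _ = _ := by rw [h.sq, one_mul, inv_one, mul_one]
  rw [key]
  exact hss

/-- Thompson transfer inside a normal subgroup containing a Sylow 2-subgroup. -/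
theorem fused_mem_T {N : Subgroup G} {S : Sylow 2 G} (hJS : J ∈ S) (hSc : ∀ x ∈ S, x * J = J * x)
    (hSN : (S : Subgroup G) ≤ N) (hN2 : ∀ M : Subgroup ↥N, M.Normal → M.index ≠ 2) :
    ∃ n ∈ N, n * J * n⁻¹ ∈ T := by
  by_contra hno
  push Not at hno
  have hJN : J ∈ N := hSN hJS
  obtain ⟨M, hM, hMi, -⟩ := TransferThompson.thompson_transfer (S.subtype hSN)
    (((S : Subgroup G) ⊓ T).subgroupOf N) (by
      rw [Sylow.coe_subtype]
      intro x hx
      exact (Subgroup.mem_inf.1 hx).1) (by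
      rw [Sylow.coe_subtype, Subgroup.relIndex_eq_two_iff]
      refine ⟨⟨J, hJN⟩, hJS, fun b hb => ?_⟩
      rw [Subgroup.mem_subgroupOf] at hb
      obtain ⟨s, hs, hbs⟩ := h.mem_C_iff.1 (hSc _ hb)
      simp only [Subgroup.mem_subgroupOf, Subgroup.coe_mul, Subgroup.mem_inf]
      rcases hbs with e | e
      · refine Or.inr ⟨⟨hb, e ▸ hs⟩, fun hx => h.not_mem ?_⟩
        have := T.mul_mem (T.inv_mem hs) (e ▸ hx.2)
        rwa [inv_mul_cancel_left] at this
      · refine Or.inl ⟨⟨mul_mem hb hJS, ?_⟩, fun hx => h.not_mem ?_⟩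
        · rw [e, mul_assoc, ← h.comm hs, ← mul_assoc, h.sq, one_mul]
          exact hs
        · have := T.mul_mem (e ▸ hx.2) (T.inv_mem hs)
          rwa [mul_inv_cancel_right] at this)
    (u := ⟨J, hJN⟩) (by rw [← Subgroup.orderOf_coe]; exact h.ord) hJS
    (fun g hg => hno g g.2 (Subgroup.mem_inf.1 hg).2)
  exact hN2 M hM hMi

end Base

/-- Degree at least six is impossible. -/
theorem not_large (h : Base J T) {m : ℕ} (hm : 6 ≤ m) (e : ↥T ≃* alternatingGroup (Fin m)) {g : G}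
    (hg : g * J * g⁻¹ ∈ T) : False := by
  set a' := e ⟨_, hg⟩ with ha'
  have ha2 : a' * a' = 1 := by
    rw [ha', ← map_mul, show (⟨_, hg⟩ : ↥T) * ⟨_, hg⟩ = 1 from Subtype.ext (by
      show g * J * g⁻¹ * (g * J * g⁻¹) = 1
      calc g * J * g⁻¹ * (g * J * g⁻¹) = g * (J * J) * g⁻¹ := by group
        _ = 1 := by rw [h.sq]; group), map_one]
  have hmem := mem_commutator_centralizer (by simpa using hm) a' ha2
  let f : alternatingGroup (Fin m) →* G :=
    ((MulAut.conj g⁻¹).toMonoidHom.comp T.subtype).comp e.symm.toMonoidHom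
  have hfa : f a' = J := by
    show g⁻¹ * ((e.symm (e ⟨_, hg⟩) : ↥T) : G) * g⁻¹⁻¹ = J
    rw [MulEquiv.symm_apply_apply]
    group
  have hmap : (Subgroup.centralizer ({a'} : Set (alternatingGroup (Fin m)))).map f ≤
      Subgroup.centralizer ({J} : Set G) := by
    rintro _ ⟨x, hx, rfl⟩
    rw [Subgroup.mem_centralizer_singleton_iff, ← hfa, ← map_mul, ← map_mul,
      Subgroup.mem_centralizer_singleton_iff.1 hx]
  have hJ : J ∈ T := by
    have h1 := Subgroup.mem_map_of_mem f hmem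
    rw [Subgroup.map_commutator, hfa] at h1
    exact h.commutator_le (Subgroup.commutator_mono hmap hmap h1)
  exact h.not_mem hJ

/-- Degree at most three is impossible. -/
theorem not_small (h : Base J T) {m : ℕ} (hm : m ≤ 3) (e : ↥T ≃* alternatingGroup (Fin m)) {g : G}
    (hg : g * J * g⁻¹ ∈ T) : False := by
  have h1 : (⟨_, hg⟩ : ↥T) = 1 := e.injective (by
    rw [map_one]
    refine no_involution hm _ ?_
    rw [← map_mul, show (⟨_, hg⟩ : ↥T) * ⟨_, hg⟩ = 1 from Subtype.ext (by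
      show g * J * g⁻¹ * (g * J * g⁻¹) = 1
      calc g * J * g⁻¹ * (g * J * g⁻¹) = g * (J * J) * g⁻¹ := by group
        _ = 1 := by rw [h.sq]; group), map_one])
  exact h.ne_one (conj_eq_one_iff.1 (congrArg Subtype.val h1))

/-- The situation of degree four or five. -/
structure Mid (J : G) (T : Subgroup G) (A : Type*) [Group A] extends Base J T where
  small : AltCommCent91.Small A
  equiv : Nonempty (↥T ≃* A)

namespace Mid

variable {A : Type*} [Group A] (h : Mid J T A)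
include h

theorem T_sq {s : G} (hs : s ∈ T) (k : ℕ) (hk : s ^ 2 ^ k = 1) : s * s = 1 := by
  obtain ⟨e⟩ := h.equiv
  haveI : Finite A := Finite.of_equiv _ e.toEquiv
  have hx : (e ⟨s, hs⟩) ^ 2 ^ k = 1 := by
    rw [← map_pow, show (⟨s, hs⟩ : ↥T) ^ 2 ^ k = 1 from Subtype.ext hk, map_one]
  obtain ⟨i, -, hi⟩ := (Nat.dvd_prime_pow Nat.prime_two).1 (orderOf_dvd_of_pow_eq_one hx)
  have hi3 : i ≤ 3 := by
    by_contra hlt
    exact h.small.ndvd ((Nat.pow_dvd_pow 2 (show 3 ≤ i by omega)).trans (hi ▸ orderOf_dvd_natCard _))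
  have h8 : (e ⟨s, hs⟩) ^ 8 = 1 :=
    orderOf_dvd_iff_pow_eq_one.1 (hi ▸ Nat.pow_dvd_pow 2 hi3)
  have h2 := h.small.pow8 _ h8
  rw [← map_mul, EmbeddingLike.map_eq_one_iff] at h2
  exact congrArg Subtype.val h2

theorem T_conj {a b : G} (ha : a ∈ T) (hb : b ∈ T) (hao : orderOf a = 2) (hbo : orderOf b = 2) :
    ∃ c ∈ T, c * a * c⁻¹ = b := by
  obtain ⟨e⟩ := h.equiv
  have hsq : ∀ {x : G} (hx : x ∈ T), orderOf x = 2 → e ⟨x, hx⟩ * e ⟨x, hx⟩ = 1 ∧ e ⟨x, hx⟩ ≠ 1 :=
    fun {x} hx ho => ⟨by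
      rw [← map_mul, show (⟨x, hx⟩ : ↥T) * ⟨x, hx⟩ = 1 from
        Subtype.ext (SignalizerStrongEmb.involution_mul_self ho), map_one],
      fun e1 => SignalizerStrongEmb.involution_ne_one ho
        (congrArg Subtype.val ((EmbeddingLike.map_eq_one_iff (f := e)).1 e1))⟩
  obtain ⟨c, hc⟩ := h.small.conj _ _ (hsq ha hao).1 (hsq hb hbo).1 (hsq ha hao).2 (hsq hb hbo).2
  refine ⟨(e.symm c : ↥T), (e.symm c).2, ?_⟩
  have h' := congrArg (fun q => ((e.symm q : ↥T) : G)) hc
  simpa using h'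

theorem T_partner {a : G} (ha : a ∈ T) (hao : orderOf a = 2) :
    ∃ b ∈ T, orderOf b = 2 ∧ b ≠ a ∧ a * b = b * a := by
  obtain ⟨e⟩ := h.equiv
  obtain ⟨b, hb, hb1, hba, hab⟩ := h.small.four (e ⟨a, ha⟩)
    (by rw [← map_mul, show (⟨a, ha⟩ : ↥T) * ⟨a, ha⟩ = 1 from
      Subtype.ext (SignalizerStrongEmb.involution_mul_self hao), map_one])
    (fun e1 => SignalizerStrongEmb.involution_ne_one hao
      (congrArg Subtype.val ((EmbeddingLike.map_eq_one_iff (f := e)).1 e1)))
  refine ⟨(e.symm b : ↥T), (e.symm b).2, ?_, ?_, ?_⟩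
  · refine SignalizerStrongEmb.orderOf_eq_two_of_mul_self ?_ ?_
    · rw [← Subgroup.coe_mul, ← map_mul, hb, map_one, Subgroup.coe_one]
    · intro e1
      exact hb1 ((EmbeddingLike.map_eq_one_iff (f := e.symm)).1 (Subtype.ext e1))
  · intro e1
    apply hba
    rw [← e.apply_symm_apply b]
    exact congrArg e (Subtype.ext e1)
  · have h' := congrArg (fun q => ((e.symm q : ↥T) : G)) hab
    simpa using h'

/-- Squares in the 2-elements of the centralizer are trivial. -/
theorem C_sq {c : G} (hc : c * J = J * c) (k : ℕ) (hk : c ^ 2 ^ k = 1) : c * c = 1 := by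
  obtain ⟨s, hs, rfl | rfl⟩ := h.toBase.mem_C_iff.1 hc
  · exact h.T_sq hs k hk
  · have hJs : Commute J s := h.toBase.comm hs
    have hs2 : s * s = 1 := by
      refine h.T_sq hs (k + 1) ?_
      have h1 : ((J * s) ^ 2) ^ 2 ^ k = 1 := by rw [← pow_mul, mul_comm, pow_mul, hk, one_pow]
      rw [hJs.mul_pow, pow_two J, h.toBase.sq, one_mul, ← pow_mul, ← pow_succ'] at h1
      exact h1
    calc J * s * (J * s) = J * (s * J) * s := by group
      _ = J * (J * s) * s := by rw [← hJs.eq]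
      _ = (J * J) * (s * s) := by group
      _ = 1 := by rw [h.toBase.sq, hs2, one_mul]

theorem sylow_sq {S : Sylow 2 G} (hSc : ∀ x ∈ S, x * J = J * x) {x : G} (hx : x ∈ S) : x * x = 1 := by
  obtain ⟨k, hk⟩ := S.2 ⟨x, hx⟩
  exact h.C_sq (hSc x hx) k (congrArg Subtype.val hk)

theorem card_centralizer : Nat.card ↥(Subgroup.centralizer ({J} : Set G)) = 2 * Nat.card ↥T := by
  rw [← Fintype.card_bool, ← Nat.card_eq_fintype_card, ← Nat.card_prod]
  symm
  refine Nat.card_eq_of_bijective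
    (fun p : Bool × ↥T => (⟨(if p.1 then J else 1) * p.2, Subgroup.mem_centralizer_singleton_iff.2
      (h.toBase.mem_C_iff.2 ⟨p.2, p.2.2, by cases p.1 <;> simp⟩)⟩ : ↥(Subgroup.centralizer ({J} : Set G))))
    ⟨?_, ?_⟩
  · rintro ⟨b, s⟩ ⟨b', s'⟩ e
    have e' := congrArg Subtype.val e
    cases b <;> cases b' <;> simp at e'
    · rw [e']
    · exact absurd (eq_mul_inv_of_mul_eq e'.symm ▸ T.mul_mem s.2 (T.inv_mem s'.2)) h.toBase.not_mem
    · exact absurd (eq_mul_inv_of_mul_eq e' ▸ T.mul_mem s'.2 (T.inv_mem s.2)) h.toBase.not_mem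
    · rw [e']
  · rintro ⟨c, hc⟩
    obtain ⟨s, hs, hcs⟩ := h.toBase.mem_C_iff.1 (Subgroup.mem_centralizer_singleton_iff.1 hc)
    rcases hcs with rfl | rfl
    · exact ⟨(false, ⟨c, hs⟩), Subtype.ext (one_mul c)⟩
    · exact ⟨(true, ⟨s, hs⟩), rfl⟩

theorem card_sylow {S : Sylow 2 G} (hSc : ∀ x ∈ S, x * J = J * x) : Nat.card ↥(S : Subgroup G) = 8 := by
  haveI : Fact (Nat.Prime 2) := ⟨Nat.prime_two⟩
  obtain ⟨e⟩ := h.equiv
  have hT : Nat.card ↥T = Nat.card A := Nat.card_congr e.toEquiv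
  have hle : (S : Subgroup G) ≤ Subgroup.centralizer ({J} : Set G) :=
    fun x hx => Subgroup.mem_centralizer_singleton_iff.2 (hSc x hx)
  have h1 := Subgroup.card_dvd_of_le hle
  rw [h.card_centralizer, hT] at h1
  have h2 : 2 ^ 3 ∣ Nat.card ↥(S : Subgroup G) := by
    rw [S.card_eq_multiplicity]
    refine Nat.pow_dvd_pow 2 ((Nat.prime_two.pow_dvd_iff_le_factorization Nat.card_pos.ne').1 ?_)
    refine dvd_trans ?_ (Subgroup.centralizer ({J} : Set G)).card_subgroup_dvd_card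
    rw [h.card_centralizer, hT]
    exact Nat.mul_dvd_mul_left 2 h.small.dvd
  obtain ⟨k, hk⟩ := IsPGroup.iff_card.1 S.2
  rw [hk] at h1 h2 ⊢
  have hk3 : 3 ≤ k := (Nat.pow_dvd_pow_iff_le_right (by norm_num)).1 h2
  rcases Nat.eq_or_lt_of_le hk3 with e3 | e3
  · rw [← e3]; norm_num
  · exfalso
    apply h.small.ndvd
    have h16 : 2 * 8 ∣ 2 * Nat.card A := (Nat.pow_dvd_pow 2 (show 4 ≤ k by omega)).trans h1
    exact Nat.dvd_of_mul_dvd_mul_left (by norm_num) h16

/-- A normal subgroup containing a Sylow 2-subgroup, without index two, fuses all involutions. -/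
theorem fused_all {N : Subgroup G} [hN : N.Normal] {S : Sylow 2 G} (hJS : J ∈ S)
    (hSc : ∀ x ∈ S, x * J = J * x) (hSN : (S : Subgroup G) ≤ N)
    (hN2 : ∀ M : Subgroup ↥N, M.Normal → M.index ≠ 2) {i : G} (hi : orderOf i = 2) : Fused N J i := by
  haveI : Fact (Nat.Prime 2) := ⟨Nat.prime_two⟩
  have hC : ∀ {c x : G}, c * J = J * c → Fused N J x → Fused N J (c * x * c⁻¹) := by
    rintro c x hc ⟨n, hn, rfl⟩
    refine ⟨c * n * c⁻¹, hN.conj_mem n hn c, ?_⟩
    have : c⁻¹ * J * c = J := by rw [mul_assoc, ← hc, inv_mul_cancel_left]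
    calc c * n * c⁻¹ * J * (c * n * c⁻¹)⁻¹ = c * n * (c⁻¹ * J * c) * n⁻¹ * c⁻¹ := by group
      _ = _ := by rw [this]; group
  obtain ⟨n, hn, ha⟩ := h.toBase.fused_mem_T hJS hSc hSN hN2
  set a := n * J * n⁻¹ with hadef
  have hao : orderOf a = 2 := by rw [hadef, SignalizerStrongEmb.orderOf_conj]; exact h.toBase.ord
  have hTall : ∀ b ∈ T, orderOf b = 2 → Fused N J b := by
    intro b hb hbo
    obtain ⟨c, hc, rfl⟩ := h.T_conj ha hb hao hbo
    exact hC (h.toBase.T_le hc) ⟨n, hn, rfl⟩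
  obtain ⟨b, hb, hbo, hba, hab⟩ := h.T_partner ha hao
  have hbb := SignalizerStrongEmb.involution_mul_self hbo
  obtain ⟨d, hd, hdo, hJd⟩ : ∃ d ∈ T, orderOf d = 2 ∧ Fused N J (J * d) := by
    set c1 := n⁻¹ * J * n with hc1
    set c2 := n⁻¹ * b * n with hc2
    have hc1o : orderOf c1 = 2 := by
      rw [hc1, show n⁻¹ * J * n = n⁻¹ * J * n⁻¹⁻¹ by rw [inv_inv], SignalizerStrongEmb.orderOf_conj]
      exact h.toBase.ord
    have hc2o : orderOf c2 = 2 := by
      rw [hc2, show n⁻¹ * b * n = n⁻¹ * b * n⁻¹⁻¹ by rw [inv_inv], SignalizerStrongEmb.orderOf_conj]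
      exact hbo
    have hc1C : c1 * J = J * c1 := by
      have := h.toBase.T_le ha
      rw [hadef] at this
      calc c1 * J = n⁻¹ * (J * (n * J * n⁻¹)) * n := by rw [hc1]; group
        _ = n⁻¹ * ((n * J * n⁻¹) * J) * n := by rw [this]
        _ = _ := by rw [hc1]; group
    have hc2C : c2 * J = J * c2 := by
      rw [hadef] at hab
      calc c2 * J = n⁻¹ * (b * (n * J * n⁻¹)) * n := by rw [hc2]; group
        _ = n⁻¹ * ((n * J * n⁻¹) * b) * n := by rw [hab]
        _ = _ := by rw [hc2]; group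
    have hmain : ∀ c : G, orderOf c = 2 → c * J = J * c → Fused N J c → c ≠ J → c ∉ T →
        ∃ d ∈ T, orderOf d = 2 ∧ Fused N J (J * d) := by
      intro c hco hcC hcF hcJ hcT
      obtain ⟨d, hd, e | e⟩ := h.toBase.mem_C_iff.1 hcC
      · exact absurd (e ▸ hd) hcT
      · refine ⟨d, hd, SignalizerStrongEmb.orderOf_eq_two_of_mul_self ?_ ?_, e ▸ hcF⟩
        · have hcc := SignalizerStrongEmb.involution_mul_self hco
          rw [e] at hcc
          calc d * d = (J * J) * (d * d) := by rw [h.toBase.sq, one_mul]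
            _ = J * (J * d) * d := by group
            _ = J * (d * J) * d := by rw [h.toBase.comm hd]
            _ = 1 := by rw [← hcc]; group
        · intro d1
          exact hcJ (by rw [e, d1, mul_one])
    have hc1J : c1 ≠ J := fun e => h.toBase.not_mem (by
      have h2 : a = n * c1 * n⁻¹ := by rw [hadef, e]
      have h3 : n * c1 * n⁻¹ = J := by rw [hc1]; group
      rw [← h3, ← h2]; exact ha)
    have hc2J : c2 ≠ J := fun e => hba (by rw [hadef, ← e, hc2]; group)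
    by_cases h1 : c1 ∈ T
    · by_cases h2 : c2 ∈ T
      · refine ⟨b, hb, hbo, ?_⟩
        have hne : c1 * c2 ≠ 1 := by
          intro e
          have e' : J * b = 1 := by
            calc J * b = n * (c1 * c2) * n⁻¹ := by rw [hc1, hc2]; group
              _ = 1 := by rw [e]; group
          exact h.toBase.not_mem (eq_inv_of_mul_eq_one_left e' ▸ T.inv_mem hb)
        have hJb : Commute J b := h.toBase.comm hb
        have hsq : c1 * c2 * (c1 * c2) = 1 := by
          calc c1 * c2 * (c1 * c2) = n⁻¹ * ((J * b) * (J * b)) * n := by rw [hc1, hc2]; group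
            _ = n⁻¹ * (J * (b * J) * b) * n := by group
            _ = n⁻¹ * (J * (J * b) * b) * n := by rw [hJb.eq]
            _ = n⁻¹ * ((J * J) * (b * b)) * n := by group
            _ = 1 := by rw [h.toBase.sq, hbb]; group
        obtain ⟨m, hm, hmJ⟩ := hTall _ (T.mul_mem h1 h2) (SignalizerStrongEmb.orderOf_eq_two_of_mul_self hsq hne)
        exact ⟨n * m, N.mul_mem hn hm, by
          calc n * m * J * (n * m)⁻¹ = n * (m * J * m⁻¹) * n⁻¹ := by group
            _ = J * b := by rw [hmJ, hc1, hc2]; group⟩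
      · obtain ⟨k, hk, hkb⟩ := hTall b hb hbo
        exact hmain c2 hc2o hc2C ⟨n⁻¹ * k, N.mul_mem (N.inv_mem hn) hk, by rw [hc2, ← hkb]; group⟩ hc2J h2
    · exact hmain c1 hc1o hc1C ⟨n⁻¹, N.inv_mem hn, by rw [hc1, inv_inv]⟩ hc1J h1
  have hCall : ∀ x : G, orderOf x = 2 → x * J = J * x → Fused N J x := by
    intro x hx hxC
    obtain ⟨s, hs, rfl | rfl⟩ := h.toBase.mem_C_iff.1 hxC
    · exact hTall x hs hx
    · by_cases hs1 : s = 1
      · rw [hs1, mul_one]; exact ⟨1, N.one_mem, by group⟩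
      have hss : s * s = 1 := by
        have hJJ := SignalizerStrongEmb.involution_mul_self hx
        calc s * s = (J * J) * (s * s) := by rw [h.toBase.sq, one_mul]
          _ = J * (J * s) * s := by group
          _ = J * (s * J) * s := by rw [h.toBase.comm hs]
          _ = 1 := by rw [← hJJ]; group
      obtain ⟨c, hc, rfl⟩ := h.T_conj hd hs hdo (SignalizerStrongEmb.orderOf_eq_two_of_mul_self hss hs1)
      have := hC (h.toBase.T_le hc) hJd
      rwa [show c * (J * d) * c⁻¹ = (c * J) * d * c⁻¹ by group, h.toBase.T_le hc,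
        show J * c * d * c⁻¹ = J * (c * d * c⁻¹) by group] at this
  -- an arbitrary involution is conjugate into the Sylow subgroup
  have hiN : i ∈ N := by
    have hp : IsPGroup 2 ↥(Subgroup.zpowers i) :=
      IsPGroup.of_card (n := 1) (by rw [Nat.card_zpowers, hi, pow_one])
    obtain ⟨Q, hQ⟩ := hp.exists_le_sylow
    obtain ⟨g, hg⟩ := MulAction.exists_smul_eq G S Q
    have hmem := hQ (Subgroup.mem_zpowers i)
    rw [← hg, Sylow.coe_subgroup_smul, Subgroup.mem_pointwise_smul_iff_inv_smul_mem, ← map_inv,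
      MulAut.smul_def, MulAut.conj_apply, inv_inv] at hmem
    have := hN.conj_mem _ (hSN hmem) g
    rwa [show g * (g⁻¹ * i * g) * g⁻¹ = i by group] at this
  have hp : IsPGroup 2 ↥(Subgroup.zpowers (⟨i, hiN⟩ : ↥N)) :=
    IsPGroup.of_card (n := 1) (by rw [Nat.card_zpowers, ← Subgroup.orderOf_coe, hi, pow_one])
  obtain ⟨Q, hQ⟩ := hp.exists_le_sylow
  obtain ⟨k, hk⟩ := MulAction.exists_smul_eq ↥N (S.subtype hSN) Q
  have hmem := hQ (Subgroup.mem_zpowers _)
  rw [← hk, Sylow.coe_subgroup_smul, Subgroup.mem_pointwise_smul_iff_inv_smul_mem, ← map_inv,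
    MulAut.smul_def, MulAut.conj_apply, inv_inv, Sylow.coe_subtype, Subgroup.mem_subgroupOf] at hmem
  have hmem' : (k : G)⁻¹ * i * k ∈ S := hmem
  obtain ⟨m, hm, hmJ⟩ := hCall _ (by
    rw [show (k : G)⁻¹ * i * k = (k : G)⁻¹ * i * (k : G)⁻¹⁻¹ by rw [inv_inv], SignalizerStrongEmb.orderOf_conj]
    exact hi) (hSc _ hmem')
  exact ⟨k * m, N.mul_mem k.2 hm, by
    calc (k : G) * m * J * ((k : G) * m)⁻¹ = k * (m * J * m⁻¹) * (k : G)⁻¹ := by group
      _ = i := by rw [hmJ]; group⟩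

/-- The group has no nontrivial normal subgroup of odd order. -/
theorem odd_normal_eq_bot (hconj : ∀ i : G, orderOf i = 2 → IsConj J i) {M : Subgroup G} (hM : M.Normal)
    (hodd : Odd (Nat.card ↥M)) : M = ⊥ := by
  have hnot : ∀ x ∈ M, orderOf x ≠ 2 := by
    intro x hx hx2
    have := hx2 ▸ Subgroup.orderOf_dvd_natCard M hx
    exact Nat.not_even_iff_odd.2 hodd (even_iff_two_dvd.2 this)
  have hsq0 : ∀ x ∈ M, x * x = 1 → x = 1 := fun x hx hxx => by
    by_contra hx1
    exact hnot x hx (SignalizerStrongEmb.orderOf_eq_two_of_mul_self hxx hx1)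
  have hCT : ∀ x ∈ M, x * J = J * x → x = 1 := by
    intro x hx hxC
    by_contra hx1
    obtain ⟨s, hs, rfl | rfl⟩ := h.toBase.mem_C_iff.1 hxC
    · obtain ⟨e⟩ := h.equiv
      have h1 : e ⟨x, hs⟩ ≠ 1 := fun e1 =>
        hx1 (congrArg Subtype.val ((EmbeddingLike.map_eq_one_iff (f := e)).1 e1))
      have h2 : e ⟨x, hs⟩ * e ⟨x, hs⟩ ≠ 1 := fun e1 => by
        rw [← map_mul, EmbeddingLike.map_eq_one_iff] at e1
        exact hx1 (hsq0 x hx (congrArg Subtype.val e1))
      obtain ⟨c, y, hy, hw1, hw2⟩ := h.small.prod _ h1 h2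
      obtain ⟨y', hy', rfl⟩ : ∃ y' : ↥T, (y' : G) ∈ M ∧ e y' = y := by
        simp only [List.mem_cons, List.not_mem_nil, or_false] at hy
        rcases hy with rfl | rfl | rfl
        · exact ⟨⟨x, hs⟩, hx, rfl⟩
        · exact ⟨⟨x, hs⟩ * ⟨x, hs⟩, M.mul_mem hx hx, map_mul _ _ _⟩
        · exact ⟨(⟨x, hs⟩)⁻¹, M.inv_mem hx, map_inv _ _⟩
      set w : ↥T := ⟨x, hs⟩ * (e.symm c * y' * (e.symm c)⁻¹) with hw
      have hew : e w = e ⟨x, hs⟩ * (c * e y' * c⁻¹) := by simp [hw]
      have hwM : (w : G) ∈ M := M.mul_mem hx (hM.conj_mem _ hy' _)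
      refine hw1 ?_
      rw [← hew, EmbeddingLike.map_eq_one_iff]
      apply Subtype.ext
      refine hsq0 _ hwM ?_
      rw [← hew, ← map_mul, EmbeddingLike.map_eq_one_iff] at hw2
      exact congrArg Subtype.val hw2
    · have hJs : Commute J s := h.toBase.comm hs
      obtain ⟨k, hk⟩ := hodd
      have hp : (J * s) ^ (2 * k + 1) = 1 :=
        orderOf_dvd_iff_pow_eq_one.1 (hk ▸ Subgroup.orderOf_dvd_natCard M hx)
      rw [hJs.mul_pow, pow_succ, pow_mul, pow_two, h.toBase.sq, one_pow, one_mul] at hp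
      exact h.toBase.not_mem (eq_inv_of_mul_eq_one_left hp ▸ T.inv_mem (T.pow_mem hs _))
  have hfpf : ∀ v : G, orderOf v = 2 → ∀ x ∈ M, v * x * v⁻¹ = x⁻¹ := by
    intro v hv
    obtain ⟨g, rfl⟩ := isConj_iff.1 (hconj v hv)
    have hin : ∀ x ∈ M, J * x * J⁻¹ = x⁻¹ := by
      let f : ↥M → ↥M := fun x => ⟨(x : G)⁻¹ * (J * x * J⁻¹), M.mul_mem (M.inv_mem x.2) (hM.conj_mem _ x.2 _)⟩
      have hinj : Function.Injective f := by
        intro x y e
        have e' : (x : G)⁻¹ * (J * x * J⁻¹) = (y : G)⁻¹ * (J * y * J⁻¹) := congrArg Subtype.val e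
        have h1 : (y : G) * (x : G)⁻¹ * J = J * ((y : G) * (x : G)⁻¹) := by
          calc (y : G) * (x : G)⁻¹ * J = y * ((x : G)⁻¹ * (J * x * J⁻¹)) * (J * (x : G)⁻¹) := by group
            _ = y * ((y : G)⁻¹ * (J * y * J⁻¹)) * (J * (x : G)⁻¹) := by rw [e']
            _ = _ := by group
        exact Subtype.ext (mul_inv_eq_one.1 (hCT _ (M.mul_mem y.2 (M.inv_mem x.2)) h1)).symm
      intro z hz
      obtain ⟨x, hx⟩ := (Finite.injective_iff_surjective.1 hinj) ⟨z, hz⟩
      have hxe : (x : G)⁻¹ * (J * x * J⁻¹) = z := congrArg Subtype.val hx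
      have hJi : J⁻¹ = J := inv_eq_of_mul_eq_one_right h.toBase.sq
      rw [← hxe]
      calc J * ((x : G)⁻¹ * (J * x * J⁻¹)) * J⁻¹ = (J * x * J⁻¹)⁻¹ * ((J * J) * x * (J⁻¹ * J⁻¹)) := by group
        _ = _ := by rw [hJi, h.toBase.sq]; group
    intro x hx
    calc g * J * g⁻¹ * x * (g * J * g⁻¹)⁻¹ = g * (J * (g⁻¹ * x * g) * J⁻¹) * g⁻¹ := by group
      _ = g * (g⁻¹ * x * g)⁻¹ * g⁻¹ := by
        rw [hin]
        have := hM.conj_mem x hx g⁻¹
        rwa [inv_inv] at this
      _ = _ := by group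
  rw [Subgroup.eq_bot_iff_forall]
  intro x hx
  obtain ⟨g, hg⟩ : ∃ g : G, orderOf g = 2 ∧ g ∈ T := by
    obtain ⟨e⟩ := h.equiv
    haveI : Finite A := Finite.of_equiv _ e.toEquiv
    haveI : Fact (Nat.Prime 2) := ⟨Nat.prime_two⟩
    obtain ⟨g, hg⟩ := exists_prime_orderOf_dvd_card' (G := ↥T) 2 (by
      rw [Nat.card_congr e.toEquiv]; exact (show (2 : ℕ) ∣ 4 by norm_num).trans h.small.dvd)
    exact ⟨g, by rw [Subgroup.orderOf_coe, hg], g.2⟩
  have hJg : orderOf (J * g) = 2 := by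
    refine SignalizerStrongEmb.orderOf_eq_two_of_mul_self ?_ ?_
    · calc J * g * (J * g) = J * (g * J) * g := by group
        _ = J * (J * g) * g := by rw [← h.toBase.comm hg.2]
        _ = (J * J) * (g * g) := by group
        _ = 1 := by rw [h.toBase.sq, SignalizerStrongEmb.involution_mul_self hg.1, one_mul]
    · intro e
      exact h.toBase.not_mem (eq_inv_of_mul_eq_one_left e ▸ T.inv_mem hg.2)
  have h1 := hfpf _ hJg x hx
  have h2 : J * g * x * (J * g)⁻¹ = x := by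
    rw [show J * g * x * (J * g)⁻¹ = J * (g * x * g⁻¹) * J⁻¹ by group, hfpf g hg.1 x hx,
      hfpf J h.toBase.ord _ (M.inv_mem hx), inv_inv]
  rw [h2] at h1
  exact hsq0 x hx (eq_inv_iff_mul_eq_one.1 h1)

end Mid

end Cfsg.Agent.CentTwoAlt91
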