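import Cfsg.Agent.Lib.CentTwoAlt91
import Cfsg.Agent.Lib.HallCore

/-!
The minimal normal subgroup of a group with a 2-central involution centralized by `⟨J⟩ × A`, `A` of degree four or five.
-/

set_option autoImplicit false
set_option linter.style.haveILetI false
set_option linter.unusedSectionVars false

namespace Cfsg.Agent.CentTwoAlt91

open Cfsg
open scoped commutatorElement

variable {G : Type*} [Group G] [Finite G] {J : G} {T : Subgroup G}

theorem no_index_two_top (h2 : ∀ N : Subgroup G, N.Normal → N.index ≠ 2) :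
    ∀ M : Subgroup ↥(⊤ : Subgroup G), M.Normal → M.index ≠ 2 := by
  intro M hM he
  refine h2 (M.map (⊤ : Subgroup G).subtype) ⟨?_⟩ ?_
  · rintro _ ⟨x, hx, rfl⟩ g
    exact ⟨⟨g, Subgroup.mem_top g⟩ * x * (⟨g, Subgroup.mem_top g⟩)⁻¹, hM.conj_mem x hx _, rfl⟩
  · rw [Subgroup.index_map_subtype, he, Subgroup.index_top, mul_one]

namespace Mid

variable {A : Type*} [Group A] (h : Mid J T A)
include h

theorem isConj_involutions (h2 : ∀ N : Subgroup G, N.Normal → N.index ≠ 2) {i : G} (hi : orderOf i = 2) :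
    IsConj J i := by
  obtain ⟨-, S, hJS, hSc⟩ := h.toBase.central
  obtain ⟨n, -, hn⟩ := h.fused_all (N := ⊤) hJS hSc le_top (no_index_two_top h2) hi
  exact isConj_iff.2 ⟨n, hn⟩

/-- A minimal normal subgroup: it contains every involution, and is abelian or simple. -/
theorem exists_core (h2 : ∀ N : Subgroup G, N.Normal → N.index ≠ 2) :
    ∃ N : Subgroup G, N.Normal ∧ (∀ i : G, orderOf i = 2 → i ∈ N) ∧
      ((∀ a ∈ N, ∀ b ∈ N, a * b = b * a) ∨ (IsSimpleGroup ↥N ∧ ∀ i : G, orderOf i = 2 → Fused N J i)) := by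
  haveI : Fact (Nat.Prime 2) := ⟨Nat.prime_two⟩
  have hconj : ∀ i : G, orderOf i = 2 → IsConj J i := fun i hi => h.isConj_involutions h2 hi
  have htop : (⊤ : Subgroup G).Normal ∧ (⊤ : Subgroup G) ≠ ⊥ := ⟨inferInstance, fun e =>
    h.toBase.ne_one (Subgroup.mem_bot.1 (e ▸ Subgroup.mem_top J))⟩
  obtain ⟨N, -, ⟨hN, hN1⟩, hmin⟩ :=
    exists_minimal_le_of_wellFoundedLT (fun K : Subgroup G => K.Normal ∧ K ≠ ⊥) ⊤ htop
  haveI := hN
  have hmin' : ∀ K : Subgroup G, K.Normal → K ≠ ⊥ → K ≤ N → K = N :=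
    fun K hK hK1 hle => le_antisymm hle (hmin ⟨hK, hK1⟩ hle)
  have hJN : J ∈ N := by
    obtain ⟨i, hiN, hi⟩ := SignalizerStrongEmb.exists_involution_of_even (H := N) (by
      by_contra hev
      exact hN1 (h.odd_normal_eq_bot hconj hN (Nat.not_even_iff_odd.1 hev)))
    obtain ⟨g, hg⟩ := isConj_iff.1 (hconj i hi)
    have := hN.conj_mem i hiN g⁻¹
    rwa [← hg, show g⁻¹ * (g * J * g⁻¹) * g⁻¹⁻¹ = J by group] at this
  have hall : ∀ i : G, orderOf i = 2 → i ∈ N := fun i hi => by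
    obtain ⟨g, rfl⟩ := isConj_iff.1 (hconj i hi)
    exact hN.conj_mem J hJN g
  refine ⟨N, hN, hall, ?_⟩
  by_cases hab : ∀ a ∈ N, ∀ b ∈ N, a * b = b * a
  · exact Or.inl hab
  right
  obtain ⟨-, S, hJS, hSc⟩ := h.toBase.central
  have hSN : (S : Subgroup G) ≤ N := fun x hx => by
    by_cases hx1 : x = 1
    · rw [hx1]; exact N.one_mem
    · exact hall x (SignalizerStrongEmb.orderOf_eq_two_of_mul_self (h.sylow_sq hSc hx) hx1)
  have hperf : ⁅N, N⁆ = N := by
    refine hmin' _ inferInstance (fun e => hab fun a ha b hb => ?_) (Subgroup.commutator_le_left N N)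
    have : ⁅a, b⁆ ∈ (⊥ : Subgroup G) := e ▸ Subgroup.commutator_mem_commutator ha hb
    exact commutatorElement_eq_one_iff_mul_comm.1 (Subgroup.mem_bot.1 this)
  have hN2 : ∀ M : Subgroup ↥N, M.Normal → M.index ≠ 2 := by
    intro M _ he
    have hle : ⁅N, N⁆ ≤ M.map N.subtype := by
      rw [Subgroup.commutator_le]
      intro a ha b hb
      refine ⟨⁅(⟨a, ha⟩ : ↥N), ⟨b, hb⟩⁆, ?_, rfl⟩
      show ⁅(⟨a, ha⟩ : ↥N), ⟨b, hb⟩⁆ ∈ M
      rw [commutatorElement_def, Subgroup.mul_mem_iff_of_index_two he, Subgroup.mul_mem_iff_of_index_two he,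
        Subgroup.mul_mem_iff_of_index_two he, inv_mem_iff, inv_mem_iff]
      tauto
    rw [hperf] at hle
    have : M = ⊤ := eq_top_iff.2 fun x _ => by
      obtain ⟨y, hy, hyx⟩ := hle x.2
      rwa [← Subtype.ext (a1 := y) (a2 := x) hyx]
    rw [this, Subgroup.index_top] at he
    omega
  have hfus : ∀ i : G, orderOf i = 2 → Fused N J i :=
    fun i hi => h.fused_all hJS hSc hSN hN2 hi
  refine ⟨?_, hfus⟩
  haveI : Nontrivial ↥N := (Subgroup.nontrivial_iff_ne_bot N).2 hN1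
  refine ⟨fun R hR => ?_⟩
  by_cases hR1 : R = ⊥
  · exact Or.inl hR1
  right
  haveI := hR
  obtain ⟨r, hrR, hr⟩ := SignalizerStrongEmb.exists_involution_of_even (H := R) (by
    by_contra hev
    apply hR1
    have hle : R ≤ pPrimeCore 2 ↥N :=
      HallCore.le_pPrimeCore (Nat.Prime.coprime_iff_not_dvd Nat.prime_two |>.2
        (fun hd => hev (even_iff_two_dvd.2 hd))).symm
    haveI : (pPrimeCore 2 ↥N).Characteristic := HallCore.pPrimeCore_characteristic 2 ↥N
    have hbot := h.odd_normal_eq_bot hconj (M := (pPrimeCore 2 ↥N).map N.subtype) inferInstance (by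
      rw [Subgroup.card_map_of_injective N.subtype_injective, ← Nat.not_even_iff_odd, even_iff_two_dvd]
      exact HallCore.not_dvd_card_pPrimeCore 2 ↥N)
    rw [Subgroup.map_eq_bot_iff_of_injective _ N.subtype_injective] at hbot
    exact le_bot_iff.1 (hbot ▸ hle))
  have hinv : ∀ i : G, orderOf i = 2 → i ∈ R.map N.subtype := by
    intro i hi
    rw [← Subgroup.orderOf_coe] at hr
    obtain ⟨n, hn, hnr⟩ := hfus _ hr
    obtain ⟨m, hm, hmi⟩ := hfus i hi
    refine ⟨⟨m * n⁻¹, N.mul_mem hm (N.inv_mem hn)⟩ * r * (⟨m * n⁻¹, N.mul_mem hm (N.inv_mem hn)⟩ : ↥N)⁻¹,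
      hR.conj_mem r hrR _, ?_⟩
    show m * n⁻¹ * (r : G) * (m * n⁻¹)⁻¹ = i
    rw [← hnr, ← hmi]
    group
  set I := Subgroup.closure {i : G | orderOf i = 2} with hI
  haveI : I.Normal := ⟨fun x hx g => by
    have : I ≤ I.comap (MulAut.conj g).toMonoidHom := by
      rw [hI, Subgroup.closure_le]
      intro i (hi : orderOf i = 2)
      exact Subgroup.subset_closure (show orderOf (g * i * g⁻¹) = 2 by
        rw [SignalizerStrongEmb.orderOf_conj]; exact hi)
    exact this hx⟩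
  have hIN : I = N := hmin' I inferInstance
    (fun e => h.toBase.ne_one (Subgroup.mem_bot.1 (e ▸ Subgroup.subset_closure h.toBase.ord)))
    ((Subgroup.closure_le _).2 hall)
  have hle : I ≤ R.map N.subtype := (Subgroup.closure_le _).2 hinv
  rw [hIN] at hle
  rw [eq_top_iff]
  intro x _
  obtain ⟨y, hy, hyx⟩ := hle x.2
  rwa [← Subtype.ext (a1 := y) (a2 := x) hyx]

end Mid

end Cfsg.Agent.CentTwoAlt91
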