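import Cfsg.Agent.Lib.PcQuad14
import Cfsg.Agent.Lib.StemBasic

/-!
Characters of the kernel of a central extension which extend to the preimage of a subgroup with a
polycyclic chain, and the shape of a kernel all whose characters are determined by one element.
-/

set_option autoImplicit false

namespace Cfsg.Agent.CentralClass14

open Subgroup Cfsg.Agent.PcQuad14
open Cfsg.Agent.CenSplitStable50 (P P_nil P_cons card_chain)

variable {G : Type*} [Group G] {Γ : Type*} [Group Γ]

/-- Lifts satisfying the relations up to a coboundary extend the character to the preimage. -/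
theorem extend_of_relations [Finite G] [Finite Γ] {σ : Γ →* G} (hc : σ.ker ≤ center Γ)
    (χ : σ.ker →* Multiplicative (ZMod 4)) (C : CenSplitStable50.Cert) (hS : C.shapeOK = true)
    (y : ℕ → G) (hcard : 2 ^ C.n ≤ Nat.card (closure (y '' Set.Iio C.n)))
    (L : ℕ → Γ) (hL : ∀ i, σ (L i) = y i) (lam : ℕ → ZMod 4)
    (hrel : ∀ r < C.rels.length,
      E χ (P L (C.rels.getD r ([], [])).1) (P L (C.rels.getD r ([], [])).2)
        (((C.rels.getD r ([], [])).1.map lam).sum - ((C.rels.getD r ([], [])).2.map lam).sum)) :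
    ∃ φ : (closure (y '' Set.Iio C.n)).comap σ →* Multiplicative (ZMod 4),
      ∀ z : σ.ker, ∀ hz : (z : Γ) ∈ (closure (y '' Set.Iio C.n)).comap σ, φ ⟨z, hz⟩ = χ z := by
  classical
  set S := closure (y '' Set.Iio C.n) with hSdef
  let g : σ.ker →* Γ × Multiplicative (ZMod 4) := σ.ker.subtype.prod χ
  set N := g.range with hN
  have : N.Normal := by
    constructor
    rintro _ ⟨z, rfl⟩ ⟨a, m⟩
    refine ⟨z, Prod.ext ?_ ?_⟩
    · show (z : Γ) = a * z * a⁻¹
      rw [mem_center_iff.1 (hc z.2) a, mul_inv_cancel_right]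
    · show χ z = m * χ z * m⁻¹
      rw [mul_comm m, mul_inv_cancel_right]
  let π := QuotientGroup.mk' N
  let σ' := σ.comp (MonoidHom.fst Γ (Multiplicative (ZMod 4)))
  have hNk : N ≤ σ'.ker := by rintro _ ⟨z, rfl⟩; exact z.2
  let σb := QuotientGroup.lift N σ' hNk
  let L' : ℕ → (Γ × Multiplicative (ZMod 4)) ⧸ N := fun i => π (L i, Multiplicative.ofAdd (lam i))
  have hP : ∀ w : List ℕ, P L' w = π (P L w, Multiplicative.ofAdd (w.map lam).sum) := by
    intro w
    induction w with
    | nil => simp only [P_nil, List.map_nil, List.sum_nil, ofAdd_zero]; exact (map_one π).symm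
    | cons a w ih =>
      rw [P_cons, ih, ← map_mul, P_cons, List.map_cons, List.sum_cons, ofAdd_add]
      rfl
  have hUcard : Nat.card (closure (L' '' Set.Iio C.n)) ≤ 2 ^ C.n := card_chain C hS _ fun r hr => by
    obtain ⟨z, hz, hzm⟩ := hrel r hr
    rw [hP, hP, eq_comm]
    refine (QuotientGroup.eq).2 ⟨z, Prod.ext ?_ ?_⟩
    · show (z : Γ) = (P L (C.rels.getD r ([], [])).2)⁻¹ * P L (C.rels.getD r ([], [])).1
      rw [hz, inv_mul_cancel_left]
    · show χ z = (Multiplicative.ofAdd _)⁻¹ * Multiplicative.ofAdd _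
      apply Multiplicative.toAdd.injective
      rw [hzm, toAdd_mul, toAdd_inv, toAdd_ofAdd, toAdd_ofAdd]
      abel
  set U := closure (L' '' Set.Iio C.n) with hU
  have hUmap : U.map σb = S := by
    rw [hU, MonoidHom.map_closure, Set.image_image, hSdef]
    congr 1
    exact Set.image_congr fun a _ => hL a
  have hsur := σb.subgroupMap_surjective U
  have hinj : Function.Injective (σb.subgroupMap U) :=
    ((Nat.bijective_iff_surjective_and_card _).2 ⟨hsur, le_antisymm (by
      rw [hUmap]; exact hUcard.trans hcard) (Nat.card_le_card_of_surjective _ hsur)⟩).1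
  have hker : ∀ u ∈ U, σb u = 1 → u = 1 := by
    intro u hu h1
    have := @hinj ⟨u, hu⟩ 1 (Subtype.ext (h1.trans (map_one σb).symm))
    exact congrArg Subtype.val this
  have hex : ∀ x : S.comap σ, ∃ m, π ((x : Γ), m) ∈ U := by
    rintro ⟨x, hx⟩
    obtain ⟨u, hu, hux⟩ : σ x ∈ U.map σb := by rw [hUmap]; exact hx
    obtain ⟨⟨a, m⟩, rfl⟩ := QuotientGroup.mk'_surjective N u
    obtain ⟨z, hz, rfl⟩ := StemBasic.exists_ker_mul (σ := σ) (show σ x = σ a from hux.symm)
    refine ⟨m * χ ⟨z, hz⟩, ?_⟩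
    have e : π (a * z, m * χ ⟨z, hz⟩) = π (a, m) := by
      refine QuotientGroup.eq.2 ⟨⟨z⁻¹, inv_mem (MonoidHom.mem_ker.2 hz)⟩, Prod.ext ?_ ?_⟩
      · show z⁻¹ = (a * z)⁻¹ * a
        rw [mul_inv_rev, inv_mul_cancel_right]
      · show χ (⟨z, hz⟩⁻¹) = (m * χ ⟨z, hz⟩)⁻¹ * m
        rw [map_inv, mul_inv_rev, inv_mul_cancel_right]
    show π (a * z, m * χ ⟨z, hz⟩) ∈ U
    rw [e]; exact hu
  have huni : ∀ (x : Γ) m n, π (x, m) ∈ U → π (x, n) ∈ U → m = n := by
    intro x m n h1 h2
    have h3 := U.mul_mem (U.inv_mem h1) h2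
    rw [← map_inv, ← map_mul, Prod.inv_mk, Prod.mk_mul_mk, inv_mul_cancel] at h3
    have h4 := hker _ h3 (show σ 1 = 1 from map_one σ)
    obtain ⟨z, hz⟩ := (QuotientGroup.eq_one_iff _).1 h4
    have hz1 : z = 1 := Subtype.ext (congrArg Prod.fst hz)
    have := congrArg Prod.snd hz
    rw [hz1] at this
    exact inv_mul_eq_one.1 ((map_one χ).symm.trans this).symm
  choose φ hφ using hex
  refine ⟨MonoidHom.mk' φ fun a b => huni _ _ _ (hφ (a * b)) ?_, fun z hz => huni _ _ _ (hφ ⟨z, hz⟩) ?_⟩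
  · show π ((a : Γ) * b, φ a * φ b) ∈ U
    rw [← Prod.mk_mul_mk, map_mul]; exact U.mul_mem (hφ a) (hφ b)
  · have : π ((z : Γ), χ z) = 1 := (QuotientGroup.eq_one_iff _).2 ⟨z, rfl⟩
    rw [this]; exact U.one_mem

/-- A character of a stem kernel extending to the preimage of a subgroup of odd index is trivial. -/
theorem trivial_of_extend [Finite Γ] {σ : Γ →* G} (hσ : Cfsg.IsStemExtension σ) (S : Subgroup G)
    (hodd : Odd S.index) (χ : σ.ker →* Multiplicative (ZMod 4))
    (φ : S.comap σ →* Multiplicative (ZMod 4))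
    (hφ : ∀ z : σ.ker, ∀ hz : (z : Γ) ∈ S.comap σ, φ ⟨z, hz⟩ = χ z) : χ = 1 := by
  have hc := hσ.2.1
  refine MonoidHom.ext fun z => ?_
  have key : ∀ (k : ℕ) (g : Γ), g⁻¹ * (z : Γ) ^ k * g = (z : Γ) ^ k := fun k g => by
    rw [mul_assoc, ← Subgroup.mem_center_iff.1 (pow_mem (hc z.2) k) g, inv_mul_cancel_left]
  have hmem : (z : Γ) ∈ S.comap σ := by
    show σ (z : Γ) ∈ S
    rw [MonoidHom.mem_ker.1 z.2]; exact S.one_mem
  have hV : MonoidHom.transfer φ (z : Γ) = χ z ^ (S.comap σ).index := by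
    rw [MonoidHom.transfer_eq_pow φ (z : Γ) (fun k g hk => by rw [key] at hk; exact key k g),
      ← hφ z hmem, ← map_pow]
    exact congrArg φ (Subtype.ext rfl)
  rw [MonoidHom.mem_ker.1 (Abelianization.commutator_subset_ker _ (hσ.2.2 z.2)),
    Subgroup.index_comap_of_surjective S hσ.1] at hV
  obtain ⟨k, hk⟩ := hodd
  have h4 : ∀ a : ZMod 4, (2 * k + 1) • a = 0 → a = 0 := by
    intro a ha
    rw [nsmul_eq_mul] at ha
    have : ((2 * k + 1 : ℕ) : ZMod 4) * ((2 * k + 1 : ℕ) : ZMod 4) = 1 := by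
      push_cast
      have h4' : ∀ b : ZMod 4, (2 * b + 1) * (2 * b + 1) = 1 := by decide
      exact h4' _
    calc a = ((2 * k + 1 : ℕ) : ZMod 4) * (((2 * k + 1 : ℕ) : ZMod 4) * a) := by
          rw [← mul_assoc, this, one_mul]
      _ = 0 := by rw [ha, mul_zero]
  apply Multiplicative.toAdd.injective
  rw [MonoidHom.one_apply, toAdd_one]
  refine h4 _ ?_
  rw [← toAdd_pow, ← hk, ← hV, toAdd_one]

/-- An abelian two-group whose characters are determined by their value at one element, that value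
being of order two, has order at most two. -/
theorem card_le_two {A : Type*} [CommGroup A] [Finite A] (hA : IsPGroup 2 A) (a : A)
    (h2 : ∀ χ : A →* Multiplicative (ZMod 4), χ a * χ a = 1)
    (h1 : ∀ χ : A →* Multiplicative (ZMod 4), χ a = 1 → χ = 1) : Nat.card A ≤ 2 := by
  classical
  have hf : Fact (Nat.Prime 2) := ⟨Nat.prime_two⟩
  have htop : ∀ x, x ∈ zpowers a := by
    by_contra hcon
    push Not at hcon
    obtain ⟨x, hx⟩ := hcon
    obtain ⟨M, hM, hle⟩ := (eq_top_or_exists_le_coatom (zpowers a)).resolve_left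
      (fun e => hx (e ▸ mem_top x))
    obtain ⟨n, hn⟩ := (hA.to_quotient M).exists_card_eq
    have hne : M ≠ ⊤ := hM.1
    have hn0 : n ≠ 0 := by
      rintro rfl
      exact hne (index_eq_one.1 (by rw [index_eq_card, hn, pow_zero]))
    obtain ⟨b, hb⟩ := exists_prime_orderOf_dvd_card' (G := A ⧸ M) 2 (hn ▸ dvd_pow_self 2 hn0)
    obtain ⟨y, rfl⟩ := QuotientGroup.mk_surjective b
    have hy : y ∉ M := fun h => by
      rw [(QuotientGroup.eq_one_iff y).2 h, orderOf_one] at hb
      exact absurd hb (by decide)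
    have hall : ∀ q : A ⧸ M, q ∈ zpowers (y : A ⧸ M) := by
      intro q
      obtain ⟨w, rfl⟩ := QuotientGroup.mk_surjective q
      have h := hM.2 (M ⊔ zpowers y) (lt_of_le_of_ne le_sup_left fun e =>
        hy (e ▸ mem_sup_right (mem_zpowers y)))
      have hw : w ∈ M ⊔ zpowers y := h ▸ mem_top w
      obtain ⟨m, hm, p, hp, rfl⟩ := mem_sup.1 hw
      obtain ⟨k, rfl⟩ := mem_zpowers_iff.1 hp
      exact mem_zpowers_iff.2 ⟨k, by
        rw [QuotientGroup.mk_mul, (QuotientGroup.eq_one_iff m).2 hm, one_mul]; rfl⟩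
    let e := monoidHomOfForallMemZpowers hall (g' := Multiplicative.ofAdd (2 : ZMod 4))
      (by rw [hb]; exact orderOf_dvd_of_pow_eq_one (by decide))
    have h := h1 (e.comp (QuotientGroup.mk' M)) (by
      rw [MonoidHom.comp_apply, QuotientGroup.mk'_apply,
        (QuotientGroup.eq_one_iff a).2 (hle (mem_zpowers a)), map_one])
    have := DFunLike.congr_fun h y
    rw [MonoidHom.comp_apply, QuotientGroup.mk'_apply, MonoidHom.one_apply,
      monoidHomOfForallMemZpowers_apply_gen] at this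
    exact absurd this (by decide)
  have hcard : Nat.card A = orderOf a := (orderOf_eq_card_of_forall_mem_zpowers htop).symm
  rw [hcard]
  by_contra hcon
  obtain ⟨n, hn⟩ := hA.exists_card_eq
  rw [hcard] at hn
  have hn2 : 2 ≤ n := by
    by_contra hlt
    interval_cases n <;> simp only [pow_zero, pow_one] at hn <;> omega
  let e := monoidHomOfForallMemZpowers htop (g' := Multiplicative.ofAdd (1 : ZMod 4))
    ((show orderOf (Multiplicative.ofAdd (1 : ZMod 4)) ∣ 4 from
      orderOf_dvd_of_pow_eq_one (by decide)).trans (hn ▸ pow_dvd_pow 2 hn2))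
  have h := h2 e
  rw [monoidHomOfForallMemZpowers_apply_gen] at h
  exact absurd h (by decide)

end Cfsg.Agent.CentralClass14
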