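import Cfsg.Agent.Lib.CosetCertCore

/-!
Certificates for linear relations among the central values of relators in a central extension,
found by coset enumeration with central weights.

A fact `(p, c, q, d)` says `v p = s d • v q` (for `c = 0`) or `x (c - 1)⁻¹ • v p = s d • v q`, where
`v` labels points of a coset space and `s d` is the action of the inverse of a central value coded by
`d` (residues modulo two). A fact from a node to itself with `c = 0` puts the central value
into the subgroup.
-/

set_option autoImplicit false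

namespace Cfsg.Agent.CentralCosetTwo60

open Cfsg.Agent.CosetCertCore (Tbl force force_eq entry)

/-- Inverse letter. -/
def flp (y : Nat) : Nat :=
  cond (Nat.blt y 6) y (cond (Nat.beq y 6) 7 (cond (Nat.beq y 7) 6 y))

/-- Sum of coded residues modulo two. -/
def addc (a b : Nat) : Nat := Nat.xor a b

/-- Negative of coded residues modulo two. -/
def negc (a : Nat) : Nat := a

/-- Letter code. -/
def fc (e : Nat) : Nat := Nat.land e 15
/-- First node. -/
def fp (e : Nat) : Nat := Nat.land (Nat.shiftRight e 4) 1048575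
/-- Second node. -/
def fq (e : Nat) : Nat := Nat.land (Nat.shiftRight e 24) 1048575
/-- Weight. -/
def fd (e : Nat) : Nat := Nat.shiftRight e 44

/-- The static data. -/
structure Cert where
  F : Tbl
  D : Tbl
  rels : List (List Nat × Nat)

/-- Fact number `i`. -/
noncomputable def Cert.fact (C : Cert) (i : Nat) : Nat := entry C.F 64 i

/-- Follow facts spelling `W`, accumulating weights, and compare with the goal. -/
noncomputable def walk (F : Nat → Nat) (bound tgt tacc : Nat) :
    Nat → Nat → Nat → Nat → List Nat → Bool := fun fuel =>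
  Nat.rec (motive := fun _ => Nat → Nat → Nat → List Nat → Bool)
    (fun _ cur acc W => List.rec (motive := fun _ => Bool) (Nat.beq cur tgt && Nat.beq acc tacc)
      (fun _ _ _ => false) W)
    (fun _ ih pk cur acc W =>
      force (Nat.land pk 524287) fun f =>
      force (Nat.land (Nat.shiftRight pk 19) 1) fun dir =>
      force (F f) fun e =>
      force (Nat.shiftRight pk 20) fun pk' =>
      cond (Nat.blt f bound)
        (cond (Nat.beq (fc e) 0)
          (cond (Nat.beq dir 0 && Nat.beq cur (fp e)) (force (addc acc (fd e)) fun a => force (fq e) fun n => ih pk' n a W)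
            (cond (Nat.beq cur (fq e))
              (force (addc acc (negc (fd e))) fun a => force (fp e) fun n => ih pk' n a W) false))
          (List.rec (motive := fun _ => Bool) false (fun y r _ =>
            cond (Nat.beq dir 0 && (Nat.beq (y + 1) (fc e) && Nat.beq cur (fp e)))
              (force (addc acc (fd e)) fun a => force (fq e) fun n => ih pk' n a r)
              (cond (Nat.beq (flp y + 1) (fc e) && Nat.beq cur (fq e))
                (force (addc acc (negc (fd e))) fun a => force (fp e) fun n => ih pk' n a r) false)) W))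
        false) fuel

/-- The rotation of a list. -/
def rotw (w : List Nat) (r : Nat) : List Nat := w.drop r ++ w.take r

/-- Check a relator justification. -/
noncomputable def relCheck (C : Cert) (i e r rot len pk : Nat) : Bool :=
  force (addc ((C.rels.getD r ([], 0)).2) (negc (fd e))) fun t =>
  cond (Nat.beq (fc e) 0)
    (walk C.fact i (fp e) t len pk (fq e) 0 (rotw (C.rels.getD r ([], 0)).1 rot))
    (match rotw (C.rels.getD r ([], 0)).1 rot with
      | [] => false
      | y :: t' => Nat.beq (y + 1) (fc e) && walk C.fact i (fp e) t len pk (fq e) 0 t')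

/-- Check a justification `j` of fact `i` with packed value `e`. -/
noncomputable def justOk (C : Cert) (i e j : Nat) : Bool :=
  force (Nat.land j 255) fun code =>
  force (Nat.land (Nat.shiftRight j 8) 255) fun rot =>
  force (Nat.land (Nat.shiftRight j 16) 65535) fun len =>
  force (Nat.shiftRight j 32) fun pk =>
  cond (Nat.beq code 0)
    (Nat.blt 0 (fc e) && Nat.blt (fp e) (fq e) && Nat.beq (fd e) 0 && Nat.beq (entry C.D 32 (fq e)) i)
    (cond (Nat.beq code 1)
      (walk C.fact i (fq e) (fd e) len pk (fp e) 0 (cond (Nat.beq (fc e) 0) [] [fc e - 1]))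
      (cond (Nat.beq code 2)
        (Nat.beq (fc e) 0 && walk C.fact i (fq e) (fd e) len pk (fp e) 0 [rot, flp rot])
        (cond (Nat.beq code 3)
          (Nat.beq (fp e) 0 && Nat.beq (fq e) 0 && Nat.beq (fd e) 0 && Nat.blt 0 (fc e) &&
            Nat.ble (fc e) 6)
          (Nat.blt (code - 4) C.rels.length && relCheck C i e (code - 4) rot len pk))))

/-- Check the justifications `L` of the facts from `lo` on. -/
noncomputable def checkList (C : Cert) (L : List Nat) : Nat → Bool :=
  List.rec (motive := fun _ => Nat → Bool) (fun _ => true)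
    (fun j _ ih i => force (C.fact i) (fun e => justOk C i e j) && force (i + 1) ih) L

theorem walk_zero (F : Nat → Nat) (bound tgt tacc pk cur acc : Nat) (W : List Nat) :
    walk F bound tgt tacc 0 pk cur acc W = true ↔ W = [] ∧ cur = tgt ∧ acc = tacc := by
  cases W <;> simp [walk]

theorem walk_succ (F : Nat → Nat) (bound tgt tacc n pk cur acc : Nat) (W : List Nat)
    (h : walk F bound tgt tacc (n + 1) pk cur acc W = true) :
    ∃ f < bound,
      (fc (F f) = 0 ∧ cur = fp (F f) ∧ walk F bound tgt tacc n (Nat.shiftRight pk 20) (fq (F f)) (addc acc (fd (F f))) W = true) ∨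
      (fc (F f) = 0 ∧ cur = fq (F f) ∧ walk F bound tgt tacc n (Nat.shiftRight pk 20) (fp (F f)) (addc acc (negc (fd (F f)))) W = true) ∨
      ∃ y r, W = y :: r ∧
        ((y + 1 = fc (F f) ∧ cur = fp (F f) ∧ walk F bound tgt tacc n (Nat.shiftRight pk 20) (fq (F f)) (addc acc (fd (F f))) r = true) ∨
         (flp y + 1 = fc (F f) ∧ cur = fq (F f) ∧ walk F bound tgt tacc n (Nat.shiftRight pk 20) (fp (F f)) (addc acc (negc (fd (F f)))) r = true)) := by
  simp only [walk, force_eq] at h
  refine ⟨Nat.land pk 524287, ?_⟩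
  generalize hf : Nat.land pk 524287 = f at h ⊢
  generalize Nat.land (Nat.shiftRight pk 19) 1 = dir at h
  simp only [Bool.cond_eq_ite] at h
  split at h
  · rename_i hb
    refine ⟨Nat.blt_eq.mp hb, ?_⟩
    simp only [walk, force_eq, Bool.cond_eq_ite]
    split at h
    · rename_i h0
      have h0' := Nat.beq_eq.mp h0
      split at h
      · rename_i h1
        rw [Bool.and_eq_true] at h1
        exact Or.inl ⟨h0', Nat.beq_eq.mp h1.2, h⟩
      · split at h
        · rename_i h2
          exact Or.inr (Or.inl ⟨h0', Nat.beq_eq.mp h2, h⟩)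
        · simp at h
    · cases W with
      | nil => simp at h
      | cons y r =>
        simp only at h
        split at h
        · rename_i h1
          rw [Bool.and_eq_true, Bool.and_eq_true, Nat.beq_eq (x := y + 1), Nat.beq_eq (x := cur)] at h1
          exact Or.inr (Or.inr ⟨y, r, rfl, Or.inl ⟨h1.2.1, h1.2.2, h⟩⟩)
        · split at h
          · rename_i h2
            rw [Bool.and_eq_true, Nat.beq_eq, Nat.beq_eq] at h2
            exact Or.inr (Or.inr ⟨y, r, rfl, Or.inr ⟨h2.1, h2.2, h⟩⟩)
          · simp at h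
  · simp at h

theorem checkList_cons (C : Cert) (j : Nat) (t : List Nat) (i : Nat) :
    checkList C (j :: t) i = (justOk C i (C.fact i) j && checkList C t (i + 1)) := by
  simp only [checkList, force_eq]

/-- A group with lifted generators and central relator values. -/
structure Sys (E : Type*) [Group E] (C : Cert) where
  x : Nat → E
  ζ : Nat → E
  H : Subgroup E
  x_flp : ∀ y, x (flp y) = (x y)⁻¹
  central : ∀ d g, ζ d * g = g * ζ d
  ζ_zero : ζ 0 = 1
  ζ_add : ∀ a b, ζ (addc a b) = ζ a * ζ b
  ζ_neg : ∀ a, ζ (negc a) = (ζ a)⁻¹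
  gen_mem : ∀ y < 6, x y ∈ H
  rels : ∀ r ∈ C.rels, (r.1.map x).prod = ζ r.2

section Semantics

variable {E : Type*} [Group E] {C : Cert} (S : Sys E C)

/-- The action of a weight. -/
noncomputable def Sys.sh (d : Nat) (a : E ⧸ S.H) : E ⧸ S.H := (S.ζ d)⁻¹ • a

/-- Act successively by the inverses of the letters. -/
noncomputable def Sys.act (w : List Nat) (a : E ⧸ S.H) : E ⧸ S.H :=
  w.foldl (fun a y => (S.x y)⁻¹ • a) a

theorem Sys.sh_add (a b : Nat) (q : E ⧸ S.H) : S.sh (addc a b) q = S.sh a (S.sh b q) := by
  unfold Sys.sh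
  rw [S.ζ_add, S.central a, mul_inv_rev, mul_smul]

theorem Sys.sh_zero (q : E ⧸ S.H) : S.sh 0 q = q := by
  rw [Sys.sh, S.ζ_zero, inv_one, one_smul]

theorem Sys.smul_sh (g : E) (d : Nat) (q : E ⧸ S.H) : g • S.sh d q = S.sh d (g • q) := by
  rw [Sys.sh, Sys.sh, smul_smul, smul_smul]
  exact congrArg (· • q) ((Commute.inv_left (show Commute (S.ζ d) g from S.central d g)).eq).symm

theorem Sys.sh_neg_sh (d : Nat) (q : E ⧸ S.H) : S.sh (negc d) (S.sh d q) = q := by
  rw [Sys.sh, Sys.sh, S.ζ_neg, inv_inv, smul_inv_smul]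

theorem Sys.sh_inj (d : Nat) {a b : E ⧸ S.H} (h : S.sh d a = S.sh d b) : a = b :=
  MulAction.injective _ h

theorem Sys.sh_comm (a b : Nat) (q : E ⧸ S.H) : S.sh a (S.sh b q) = S.sh b (S.sh a q) :=
  S.smul_sh _ _ _

theorem Sys.act_sh (w : List Nat) (d : Nat) (q : E ⧸ S.H) : S.act w (S.sh d q) = S.sh d (S.act w q) := by
  induction w generalizing q with
  | nil => rfl
  | cons y r ih => simp only [Sys.act, List.foldl_cons]; rw [S.smul_sh]; exact ih _

theorem Sys.act_cons (y : Nat) (r : List Nat) (q : E ⧸ S.H) :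
    S.act (y :: r) q = S.act r ((S.x y)⁻¹ • q) := rfl

theorem Sys.act_eq (w : List Nat) (q : E ⧸ S.H) : S.act w q = ((w.map S.x).prod)⁻¹ • q := by
  induction w generalizing q with
  | nil => simp [Sys.act]
  | cons y r ih => rw [S.act_cons, ih, List.map_cons, List.prod_cons, mul_inv_rev, mul_smul]

theorem Sys.act_inj (w : List Nat) {a b : E ⧸ S.H} (h : S.act w a = S.act w b) : a = b := by
  rw [S.act_eq, S.act_eq] at h
  exact MulAction.injective _ h

theorem Sys.act_rot (r : List Nat × Nat) (hr : r ∈ C.rels) (k : Nat) (q : E ⧸ S.H) :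
    S.act (rotw r.1 k) q = S.sh r.2 q := by
  rw [S.act_eq, Sys.sh]
  congr 2
  have h := S.rels r hr
  rw [← List.take_append_drop k r.1, List.map_append, List.prod_append] at h
  rw [rotw, List.map_append, List.prod_append]
  have : ((r.1.drop k).map S.x).prod = ((r.1.take k).map S.x).prod⁻¹ * S.ζ r.2 := by
    rw [← h, inv_mul_cancel_left]
  rw [this, mul_assoc, S.central, inv_mul_cancel_left]

/-- The map from nodes to points. -/
noncomputable def Sys.node : Nat → E ⧸ S.H :=
  Nat.strongRec fun n ih =>
    if h : fp (C.fact (entry C.D 32 n)) < n then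
      (S.x (fc (C.fact (entry C.D 32 n)) - 1))⁻¹ • ih _ h
    else QuotientGroup.mk 1

theorem Sys.node_eq (n : Nat) : S.node n =
    if fp (C.fact (entry C.D 32 n)) < n then
      (S.x (fc (C.fact (entry C.D 32 n)) - 1))⁻¹ • S.node (fp (C.fact (entry C.D 32 n)))
    else QuotientGroup.mk 1 := by
  conv_lhs => unfold Sys.node; rw [Nat.strongRec_eq]
  split <;> rfl

theorem Sys.node_zero : S.node 0 = QuotientGroup.mk 1 := by
  rw [S.node_eq, if_neg (Nat.not_lt_zero _)]

/-- Meaning of a fact. -/
def Sys.Sem (e : Nat) : Prop :=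
  if fc e = 0 then S.node (fp e) = S.sh (fd e) (S.node (fq e))
  else (S.x (fc e - 1))⁻¹ • S.node (fp e) = S.sh (fd e) (S.node (fq e))

/-- All facts below `n` hold. -/
def Sys.AllValid (n : Nat) : Prop := ∀ i < n, S.Sem (C.fact i)

theorem Sys.walk_sound {bound tgt tacc : Nat} (hF : S.AllValid bound) :
    ∀ (fuel pk cur acc : Nat) (W : List Nat), walk C.fact bound tgt tacc fuel pk cur acc W = true →
      S.sh acc (S.act W (S.node cur)) = S.sh tacc (S.node tgt) := by
  intro fuel
  induction fuel with
  | zero =>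
    intro pk cur acc W h
    obtain ⟨rfl, rfl, rfl⟩ := (walk_zero _ _ _ _ _ _ _ _).mp h
    rfl
  | succ n ih =>
    intro pk cur acc W h
    obtain ⟨f, hf, h⟩ := walk_succ _ _ _ _ _ _ _ _ _ h
    have hs := hF f hf
    unfold Sys.Sem at hs
    rcases h with ⟨h0, hc, hw⟩ | ⟨h0, hc, hw⟩ | ⟨y, r, rfl, ⟨hy, hc, hw⟩ | ⟨hy, hc, hw⟩⟩
    · rw [if_pos h0] at hs
      rw [← ih _ _ _ _ hw, hc, hs, S.act_sh, S.sh_add]
    · rw [if_pos h0] at hs
      rw [← ih _ _ _ _ hw, hc, S.sh_add, hs, S.act_sh, S.sh_neg_sh]
    · rw [if_neg (by omega), show fc (C.fact f) - 1 = y by omega] at hs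
      rw [← ih _ _ _ _ hw, hc, S.act_cons, hs, S.act_sh, S.sh_add]
    · rw [if_neg (by omega), show fc (C.fact f) - 1 = flp y by omega, S.x_flp, inv_inv] at hs
      have : (S.x y)⁻¹ • S.node cur = S.sh (negc (fd (C.fact f))) (S.node (fp (C.fact f))) := by
        rw [hc, eq_comm, ← S.sh_neg_sh (fd (C.fact f)) (S.node (fq (C.fact f))), ← hs, S.smul_sh,
          inv_smul_smul]
      rw [← ih _ _ _ _ hw, S.act_cons, this, S.act_sh, S.sh_add]

theorem Sys.justOk_sound {i j : Nat} (hv : S.AllValid i)
    (h : justOk C i (C.fact i) j = true) : S.Sem (C.fact i) := by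
  simp only [justOk, force_eq] at h
  generalize Nat.land j 255 = code at h
  generalize Nat.land (Nat.shiftRight j 8) 255 = rot at h
  generalize Nat.land (Nat.shiftRight j 16) 65535 = len at h
  generalize Nat.shiftRight j 32 = pk at h
  generalize he : C.fact i = e at h ⊢
  unfold Sys.Sem
  simp only [Bool.cond_eq_ite] at h
  split at h
  · simp only [Bool.and_eq_true, Nat.blt_eq, Nat.beq_eq] at h
    obtain ⟨⟨⟨h1, h2⟩, h3⟩, h4⟩ := h
    rw [if_neg (by omega), h3, S.sh_zero, S.node_eq (fq e), h4, he, if_pos h2]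
  split at h
  · have hw := S.walk_sound hv _ _ _ _ _ h
    rw [S.sh_zero] at hw
    split at hw
    · rename_i h0
      rw [if_pos (Nat.beq_eq.mp h0)]
      exact hw
    · rename_i h0
      rw [if_neg (fun h' => h0 (Nat.beq_eq.mpr h'))]
      exact hw
  split at h
  · simp only [Bool.and_eq_true, Nat.beq_eq] at h
    have hw := S.walk_sound hv _ _ _ _ _ h.2
    rw [S.sh_zero, S.act_cons, S.act_cons, S.x_flp, inv_inv, smul_inv_smul] at hw
    rw [if_pos h.1]
    exact hw
  split at h
  · simp only [Bool.and_eq_true, Nat.blt_eq, Nat.ble_eq, Nat.beq_eq] at h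
    obtain ⟨⟨⟨⟨h1, h2⟩, h3⟩, h4⟩, h5⟩ := h
    rw [if_neg (by omega), h1, h2, h3, S.sh_zero, S.node_zero]
    show QuotientGroup.mk ((S.x (fc e - 1))⁻¹ * 1) = QuotientGroup.mk (1 : E)
    rw [mul_one, QuotientGroup.eq, inv_inv, mul_one]
    exact S.gen_mem _ (by omega)
  · simp only [Bool.and_eq_true, Nat.blt_eq] at h
    obtain ⟨hr, h⟩ := h
    generalize code - 4 = r at hr h
    have hmem : C.rels.getD r ([], 0) ∈ C.rels := by
      rw [List.getD_eq_getElem _ _ hr]; exact List.getElem_mem hr
    have hact := S.act_rot _ hmem rot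
    simp only [relCheck, force_eq, Bool.cond_eq_ite] at h
    generalize C.rels.getD r ([], 0) = R at hmem hact h
    have hrel : ∀ q : E ⧸ S.H, S.sh (addc R.2 (negc (fd e))) (S.sh (fd e) q) = S.sh R.2 q := by
      intro q; rw [S.sh_add, S.sh_neg_sh]
    split at h
    · rename_i h0
      rw [if_pos (Nat.beq_eq.mp h0)]
      have hw := S.walk_sound hv _ _ _ _ _ h
      rw [S.sh_zero, hact] at hw
      refine S.sh_inj (addc R.2 (negc (fd e))) ?_
      rw [hrel, hw]
    · rename_i h0
      rw [if_neg (fun h' => h0 (Nat.beq_eq.mpr h'))]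
      cases hc : rotw R.1 rot with
      | nil => simp [hc] at h
      | cons y t' =>
        simp only [hc, Bool.and_eq_true, Nat.beq_eq] at h
        have hw := S.walk_sound hv _ _ _ _ _ h.2
        rw [S.sh_zero] at hw
        have ha := hact (S.node (fp e))
        rw [hc, S.act_cons, show y = fc e - 1 by omega] at ha
        refine S.act_inj t' ?_
        rw [ha, S.act_sh, hw, S.sh_comm, hrel]

theorem Sys.checkList_sound :
    ∀ (L : List Nat) (lo : Nat), S.AllValid lo → checkList C L lo = true →
      S.AllValid (lo + L.length) := by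
  intro L
  induction L with
  | nil => intro lo h _; simpa using h
  | cons j t ih =>
    intro lo hv h
    rw [checkList_cons, Bool.and_eq_true] at h
    have hs := S.justOk_sound hv h.1
    have hv' : S.AllValid (lo + 1) := by
      intro k hk
      rcases Nat.lt_succ_iff_lt_or_eq.mp hk with hk | hk
      · exact hv k hk
      · rw [hk]; exact hs
    have := ih (lo + 1) hv' h.2
    rw [List.length_cons, show lo + (t.length + 1) = lo + 1 + t.length by omega]
    exact this

/-- A loop fact puts its weight into the subgroup. -/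
theorem Sys.loop_mem {i : Nat} {n : Nat} (hv : S.AllValid n) (hi : i < n)
    (h : (Nat.beq (fc (C.fact i)) 0 && Nat.beq (fp (C.fact i)) (fq (C.fact i))) = true) :
    S.ζ (fd (C.fact i)) ∈ S.H := by
  simp only [Bool.and_eq_true, Nat.beq_eq] at h
  have hs := hv i hi
  unfold Sys.Sem at hs
  rw [if_pos h.1, h.2] at hs
  generalize S.node (fq (C.fact i)) = q at hs
  induction q using QuotientGroup.induction_on with
  | H g =>
    have hs' : (QuotientGroup.mk g : E ⧸ S.H) = QuotientGroup.mk ((S.ζ (fd (C.fact i)))⁻¹ * g) := hs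
    rw [QuotientGroup.eq, ← mul_assoc] at hs'
    have : g⁻¹ * (S.ζ (fd (C.fact i)))⁻¹ * g = (S.ζ (fd (C.fact i)))⁻¹ := by
      rw [mul_assoc, (Commute.inv_left (show Commute (S.ζ (fd (C.fact i))) g from S.central _ g)).eq,
        inv_mul_cancel_left]
    rw [this] at hs'
    exact inv_mem_iff.mp hs'

end Semantics

end Cfsg.Agent.CentralCosetTwo60
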