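import Mathlib

/-!
No finite perfect group has all centralizers of non-identity elements self-normalizing and
unchanged under taking (non-identity) powers.
-/

set_option autoImplicit false

namespace Cfsg.Agent.CentralizerCount

open Subgroup

variable {M : Type*} [Group M]

theorem mem_cent {x y : M} : y ∈ centralizer ({x} : Set M) ↔ x * y = y * x := by
  rw [mem_centralizer_iff]
  simp

theorem self_mem (x : M) : x ∈ centralizer ({x} : Set M) := mem_cent.mpr rfl

theorem abelian_sylow_false [Finite M] [Nontrivial M] (hperf : commutator M = ⊤) {p : ℕ} [Fact p.Prime]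
    (P : Sylow p M) (hP : (P : Subgroup M) ≠ ⊥) (hPab : IsMulCommutative (P : Subgroup M))
    (hN : normalizer (P : Set M) ≤ centralizer (P : Set M)) : False := by
  set f := MonoidHom.transferSylow P hN
  have hc : IsComplement' f.ker P := MonoidHom.ker_transferSylow_isComplement' P hN
  have hle : commutator M ≤ f.ker := by
    rw [_root_.commutator_def, commutator_le]
    intro a _ b _
    rw [MonoidHom.mem_ker, map_commutatorElement, commutatorElement_eq_one_iff_mul_comm]
    exact (hPab.is_comm.comm (f a) (f b))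
  rw [hperf, top_le_iff] at hle
  rw [hle, isComplement'_top_left] at hc
  exact hP hc

/-- telescoping bound for sums of inverse squares -/
theorem sum_inv_sq (n : ℕ) : ∑ k ∈ Finset.Icc 2 n, (1 : ℚ) / (k : ℚ) ^ 2 ≤ 3 / 4 := by
  have h : ∀ n : ℕ, 2 ≤ n → ∑ k ∈ Finset.Icc 2 n, (1 : ℚ) / (k : ℚ) ^ 2 ≤ 3 / 4 - 1 / (n : ℚ) := by
    intro n hn
    induction n, hn using Nat.le_induction with
    | base => norm_num
    | succ m hm ih =>
      rw [Finset.sum_Icc_succ_top (by omega)]
      have h1 : (0 : ℚ) < m := by exact_mod_cast (show 0 < m by omega)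
      have h2 : (1 : ℚ) / ((m : ℚ) + 1) ^ 2 ≤ 1 / (m : ℚ) - 1 / ((m : ℚ) + 1) := by
        rw [div_sub_div _ _ h1.ne' (by positivity), div_le_div_iff₀ (by positivity) (by positivity)]
        nlinarith
      push_cast
      linarith
  by_cases hn : 2 ≤ n
  · have := h n hn
    have : (0 : ℚ) ≤ 1 / (n : ℚ) := by positivity
    linarith [h n hn]
  · rw [Finset.Icc_eq_empty hn, Finset.sum_empty]; norm_num

theorem false_of_conditions [Finite M] [Nontrivial M] (hperf : commutator M = ⊤)
    (hnorm : ∀ x : M, x ≠ 1 → normalizer ((centralizer ({x} : Set M) : Subgroup M) : Set M) = centralizer {x})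
    (hpow : ∀ (x : M) (k : ℕ), x ^ k ≠ 1 → centralizer ({x ^ k} : Set M) = centralizer {x}) : False := by
  classical
  haveI := Fintype.ofFinite M
  -- commuting elements of coprime order have the same centralizer
  have hcop : ∀ x y : M, x ≠ 1 → y ≠ 1 → Commute x y → (orderOf x).Coprime (orderOf y) →
      centralizer ({x} : Set M) = centralizer {y} := by
    intro x y hx hy hxy hco
    have h1 : ∀ u v : M, u ≠ 1 → Commute u v → (orderOf u).Coprime (orderOf v) →
        centralizer ({u} : Set M) = centralizer {u * v} := by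
      intro u v hu huv hc
      obtain ⟨k, hk1, hk2⟩ := Nat.chineseRemainder hc 1 0
      have hkk : (u * v) ^ k = u := by
        rw [huv.mul_pow]
        rw [pow_eq_pow_iff_modEq.mpr hk1, pow_one, pow_eq_pow_iff_modEq.mpr hk2, pow_zero, mul_one]
      rw [← hpow (u * v) k (by rw [hkk]; exact hu), hkk]
    rw [h1 x y hx hxy hco, hxy.eq, ← h1 y x hy hxy.symm hco.symm]
  -- every centralizer is a p-group
  have hpg : ∀ (x : M) (p : ℕ), p.Prime → orderOf x = p → IsPGroup p (centralizer ({x} : Set M)) := by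
    intro x p hp hxp
    haveI := Fact.mk hp
    have hx1 : x ≠ 1 := fun e => hp.ne_one (by rw [← hxp, e, orderOf_one])
    set C := centralizer ({x} : Set M) with hC
    by_contra hnp
    obtain ⟨q, hq, hqp, hqd⟩ : ∃ q, q.Prime ∧ q ≠ p ∧ q ∣ Nat.card C := by
      by_contra hcon
      push Not at hcon
      refine hnp (IsPGroup.of_card (n := (Nat.card C).primeFactorsList.length) ?_)
      exact Nat.eq_prime_pow_of_unique_prime_dvd Nat.card_pos.ne'
        (fun {d} hd hdd => by_contra fun hne => hcon d hd hne hdd)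
    haveI := Fact.mk hq
    obtain ⟨y, hy⟩ := exists_prime_orderOf_dvd_card' q hqd
    have hyo : orderOf (y : M) = q := by rw [Subgroup.orderOf_coe]; exact hy
    have hy1 : (y : M) ≠ 1 := fun e => hq.ne_one (by rw [← hyo, e, orderOf_one])
    have hxy : Commute x y := mem_cent.mp y.2
    have hCy : centralizer ({(y : M)} : Set M) = C :=
      (hcop x y hx1 hy1 hxy (by rw [hxp, hyo]; exact (Nat.coprime_primes hp hq).mpr hqp.symm)).symm
    -- `C` is abelian
    have hcent : ∀ z ∈ C, z ≠ 1 → ∀ s : ℕ, s.Prime → (∃ k, orderOf z = s ^ k) → centralizer ({z} : Set M) = C := by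
      intro z hz hz1 s hs ⟨k, hk⟩
      by_cases hsp : s = p
      · rw [← hCy]
        refine hcop z y hz1 hy1 ?_ ?_
        · have : (y : M) * z = z * y := by rw [← mem_cent, hCy]; exact hz
          exact this.symm
        · rw [hk, hyo, hsp]
          exact Nat.Coprime.pow_left _ ((Nat.coprime_primes hp hq).mpr hqp.symm)
      · refine hcop z x hz1 hx1 (mem_cent.mp hz).symm ?_
        rw [hk, hxp]
        exact Nat.Coprime.pow_left _ ((Nat.coprime_primes hs hp).mpr hsp)
    -- a Sylow p-subgroup of `C` is an abelian Sylow subgroup of `M`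
    obtain ⟨P, hxP⟩ : ∃ P : Sylow p C, (⟨x, self_mem x⟩ : C) ∈ (P : Subgroup C) := by
      have : IsPGroup p (zpowers (⟨x, self_mem x⟩ : C)) := IsPGroup.of_card (n := 1) (by
        rw [Nat.card_zpowers, ← Subgroup.orderOf_coe, hxp, pow_one])
      obtain ⟨P, hP⟩ := this.exists_le_sylow
      exact ⟨P, hP (mem_zpowers _)⟩
    set Q : Subgroup M := (P : Subgroup C).map C.subtype with hQ
    have hQC : Q ≤ C := map_subtype_le _
    have hQp : IsPGroup p Q := P.isPGroup'.map _
    have hxQ : x ∈ Q := ⟨_, hxP, rfl⟩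
    have hQcent : ∀ z ∈ Q, z ≠ 1 → centralizer ({z} : Set M) = C := by
      intro z hz hz1
      obtain ⟨k, hk⟩ := (IsPGroup.iff_orderOf.mp hQp) ⟨z, hz⟩
      exact hcent z (hQC hz) hz1 p hp ⟨k, by rw [← Subgroup.orderOf_mk z hz]; exact hk⟩
    have hQab : IsMulCommutative Q := ⟨⟨fun a b => Subtype.ext (by
      show (a : M) * b = b * a
      by_cases hb : (b : M) = 1
      · rw [hb, mul_one, one_mul]
      · have : (a : M) ∈ centralizer ({(b : M)} : Set M) := by rw [hQcent b b.2 hb]; exact hQC a.2
        exact (mem_cent.mp this).symm)⟩⟩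
    have hNQ : normalizer (Q : Set M) ≤ C := by
      intro g hg
      show g ∈ centralizer ({x} : Set M)
      rw [← hnorm x hx1, mem_normalizer_iff]
      have key : ∀ g ∈ normalizer (Q : Set M), ∀ z ∈ C, g * z * g⁻¹ ∈ C := by
        intro g hg z hz
        have hgx : g⁻¹ * x * g ∈ Q := (mem_normalizer_iff''.mp hg x).mp hxQ
        have hne : g⁻¹ * x * g ≠ 1 := fun e => hx1 (by
          calc x = g * (g⁻¹ * x * g) * g⁻¹ := by group
            _ = 1 := by rw [e]; group)
        have h1 := mem_cent.mp (show z ∈ centralizer ({g⁻¹ * x * g} : Set M) by rw [hQcent _ hgx hne]; exact hz)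
        rw [hC, mem_cent]
        calc x * (g * z * g⁻¹) = g * ((g⁻¹ * x * g) * z) * g⁻¹ := by group
          _ = g * (z * (g⁻¹ * x * g)) * g⁻¹ := by rw [h1]
          _ = g * z * g⁻¹ * x := by group
      intro z
      exact ⟨key g hg z, fun hz => by simpa [mul_assoc] using key g⁻¹ (inv_mem hg) _ hz⟩
    have hQs : ∀ R : Subgroup M, IsPGroup p R → Q ≤ R → R = Q := by
      intro R hR hQR
      by_contra hne
      have hlt : Q.subgroupOf R ≠ ⊤ := fun e => hne (le_antisymm (subgroupOf_eq_top.mp e) hQR)
      haveI := hR.isNilpotent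
      obtain ⟨r, hr, hrQ⟩ := SetLike.exists_of_lt
        (Group.normalizerCondition_of_isNilpotent (G := R) _ (lt_top_iff_ne_top.mpr hlt))
      have hrN : (r : M) ∈ normalizer (Q : Set M) := by
        rw [mem_normalizer_iff]
        intro z
        constructor
        · intro hz; exact (mem_normalizer_iff.mp hr ⟨z, hQR hz⟩).mp hz
        · intro hz
          have h0 : z ∈ R := by
            have := R.mul_mem (R.mul_mem (R.inv_mem r.2) (hQR hz)) r.2
            simpa [mul_assoc] using this
          exact (mem_normalizer_iff.mp hr ⟨z, h0⟩).mpr hz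
      have hsubR : IsPGroup p (((R ⊓ C).subgroupOf C : Subgroup C)) :=
        (hR.to_le inf_le_left).of_equiv (subgroupOfEquivOfLe (inf_le_right : R ⊓ C ≤ C)).symm
      have hPle : (P : Subgroup C) ≤ (R ⊓ C).subgroupOf C := fun z hz => ⟨hQR ⟨z, hz, rfl⟩, z.2⟩
      have := P.is_maximal' hsubR hPle
      exact hrQ ⟨⟨r, hNQ hrN⟩, this ▸ ⟨r.2, hNQ hrN⟩, rfl⟩
    let PM : Sylow p M := ⟨Q, hQp, fun {R} hR hQR => hQs R hR hQR⟩
    refine abelian_sylow_false hperf PM ?_ hQab ?_
    · intro e
      have : x ∈ (⊥ : Subgroup M) := e ▸ hxQ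
      exact hx1 (mem_bot.mp this)
    · intro g hg
      rw [mem_centralizer_iff]
      intro z hz
      by_cases hz1 : z = 1
      · simp [hz1]
      · exact mem_cent.mp (by rw [hQcent z hz hz1]; exact hNQ hg)
  -- all elements have prime power order, and centralizers are Sylow subgroups
  have hprim : ∀ x : M, x ≠ 1 → ∃ p : ℕ, p.Prime ∧ IsPGroup p (centralizer ({x} : Set M)) := by
    intro x hx
    obtain ⟨p, hp, hpd⟩ := Nat.exists_prime_and_dvd (fun e => hx (orderOf_eq_one_iff.mp e))
    have ho := orderOf_pow_orderOf_div (orderOf_pos x).ne' hpd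
    refine ⟨p, hp, ?_⟩
    rw [← hpow x (orderOf x / p) (fun e => hp.ne_one (by rw [← ho, e, orderOf_one]))]
    exact hpg _ p hp ho
  have hsylow : ∀ (x : M) (p : ℕ) [Fact p.Prime], x ≠ 1 → IsPGroup p (centralizer ({x} : Set M)) →
      ∀ S : Sylow p M, centralizer ({x} : Set M) ≤ S → centralizer ({x} : Set M) = S := by
    intro x p _ hx hxp S hle
    by_contra hne
    have hlt : (centralizer ({x} : Set M)).subgroupOf S ≠ ⊤ := fun e => hne (le_antisymm hle (subgroupOf_eq_top.mp e))
    haveI := S.isPGroup'.isNilpotent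
    obtain ⟨r, hr, hrQ⟩ := SetLike.exists_of_lt
      (Group.normalizerCondition_of_isNilpotent (G := (S : Subgroup M)) _ (lt_top_iff_ne_top.mpr hlt))
    refine hrQ ?_
    show (r : M) ∈ centralizer ({x} : Set M)
    rw [← hnorm x hx, mem_normalizer_iff]
    intro z
    constructor
    · intro hz; exact (mem_normalizer_iff.mp hr ⟨z, hle hz⟩).mp hz
    · intro hz
      have h0 : z ∈ (S : Subgroup M) := by
        have := (S : Subgroup M).mul_mem ((S : Subgroup M).mul_mem ((S : Subgroup M).inv_mem r.2) (hle hz)) r.2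
        simpa [mul_assoc] using this
      exact (mem_normalizer_iff.mp hr ⟨z, h0⟩).mpr hz
  -- count the elements of each prime
  set n := Fintype.card M with hn
  have hcount : ∀ p ∈ n.primeFactors,
      (((Finset.univ.filter fun x : M => x ≠ 1 ∧ p ∣ orderOf x).card : ℚ)) ≤ (n : ℚ) * (1 / (p : ℚ) ^ 2) := by
    intro p hp
    have hpp := Nat.prime_of_mem_primeFactors hp
    haveI := Fact.mk hpp
    obtain ⟨S⟩ : Nonempty (Sylow p M) := inferInstance
    have hSne : (S : Subgroup M) ≠ ⊥ :=
      S.ne_bot_of_dvd_card (by rw [Nat.card_eq_fintype_card]; exact Nat.dvd_of_mem_primeFactors hp)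
    haveI : Nontrivial (S : Subgroup M) := (Subgroup.nontrivial_iff_ne_bot _).mpr hSne
    set Z := center (S : Subgroup M) with hZ
    -- `S` is self-normalizing, so not abelian
    have hZS : Z ≠ ⊥ := (Subgroup.nontrivial_iff_ne_bot _).mp S.isPGroup'.center_nontrivial
    have hzc : ∀ z ∈ Z, z ≠ 1 → centralizer ({(z : M)} : Set M) = S := by
      intro z hz hz1
      have hz1' : (z : M) ≠ 1 := fun e => hz1 (Subtype.ext e)
      have hSle : (S : Subgroup M) ≤ centralizer ({(z : M)} : Set M) := fun s hs =>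
        mem_cent.mpr (congrArg Subtype.val (mem_center_iff.mp hz ⟨s, hs⟩) :).symm
      obtain ⟨q, hq, hqg⟩ := hprim z hz1'
      haveI := Fact.mk hq
      have hpq : p = q := by
        by_contra hne
        obtain ⟨k, hk⟩ := IsPGroup.iff_card.mp (hqg.to_le hSle)
        obtain ⟨l, hl⟩ := IsPGroup.iff_card.mp S.isPGroup'
        have hl0 : l ≠ 0 := by
          rintro rfl
          exact hSne (Subgroup.eq_bot_of_card_eq _ (by rw [hl, pow_zero]))
        have hd : p ∣ q ^ k := by rw [← hk, hl]; exact dvd_pow_self p hl0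
        exact hne ((Nat.prime_dvd_prime_iff_eq hpp hq).mp (hpp.dvd_of_dvd_pow hd))
      subst hpq
      exact (S.is_maximal' hqg hSle)
    have hSN : normalizer (S : Set M) = S := by
      obtain ⟨⟨z, hz⟩, hz0⟩ := Subgroup.ne_bot_iff_exists_ne_one.mp hZS
      have hz1 : z ≠ 1 := fun e => hz0 (Subtype.ext e)
      have := hnorm (z : M) (fun e => hz1 (Subtype.ext e))
      rw [hzc _ hz hz1] at this
      exact this
    have hZtop : Z ≠ ⊤ := by
      intro e
      have hab : IsMulCommutative (S : Subgroup M) := ⟨⟨fun a b => (mem_center_iff.mp (e ▸ mem_top b : b ∈ Z) a)⟩⟩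
      refine abelian_sylow_false hperf S hSne hab ?_
      rw [hSN]
      exact le_centralizer_iff_isMulCommutative.mpr hab
    -- each element of the class lies in a conjugate of the centre
    have hbound : (Finset.univ.filter fun x : M => x ≠ 1 ∧ p ∣ orderOf x).card ≤
        (S : Subgroup M).index * Nat.card Z := by
      have hex : ∀ x ∈ (Finset.univ.filter fun x : M => x ≠ 1 ∧ p ∣ orderOf x),
          ∃ (q : M ⧸ (S : Subgroup M)) (z : Z), x = q.out * ((z : (S : Subgroup M)) : M) * q.out⁻¹ := by
        intro x hx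
        obtain ⟨hx1, hpx⟩ := (Finset.mem_filter.mp hx).2
        obtain ⟨q, hq, hqg⟩ := hprim x hx1
        haveI := Fact.mk hq
        have hpq : p = q := by
          obtain ⟨k, hk⟩ := IsPGroup.iff_orderOf.mp hqg ⟨x, self_mem x⟩
          rw [Subgroup.orderOf_mk] at hk
          exact (Nat.prime_dvd_prime_iff_eq hpp hq).mp (hpp.dvd_of_dvd_pow (hk ▸ hpx))
        subst hpq
        obtain ⟨R, hR⟩ := hqg.exists_le_sylow
        have hxR := hsylow x p hx1 hqg R hR
        obtain ⟨g, hg⟩ := MulAction.exists_smul_eq M S R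
        set c : M ⧸ (S : Subgroup M) := QuotientGroup.mk g
        obtain ⟨s, hs⟩ := QuotientGroup.mk_out_eq_mul (S : Subgroup M) g
        have hmem : ∀ y : M, y ∈ (R : Subgroup M) ↔ c.out⁻¹ * y * c.out ∈ (S : Subgroup M) := by
          intro y
          rw [← hg, Sylow.coe_subgroup_smul, Subgroup.mem_pointwise_smul_iff_inv_smul_mem, MulAut.smul_def,
            ← map_inv, MulAut.conj_apply]
          rw [hs, inv_inv]
          have e : (g * (s : M))⁻¹ * y * (g * s) = (s : M)⁻¹ * (g⁻¹ * y * g) * s := by group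
          rw [e, Subgroup.mul_mem_cancel_right _ s.2, Subgroup.mul_mem_cancel_left _ (inv_mem s.2)]
        have hmemx : c.out⁻¹ * x * c.out ∈ (S : Subgroup M) := (hmem x).mp (hR (self_mem x))
        refine ⟨c, ⟨⟨_, hmemx⟩, mem_center_iff.mpr fun t => Subtype.ext ?_⟩, by simp [mul_assoc]⟩
        have ht : c.out * (t : M) * c.out⁻¹ ∈ (R : Subgroup M) := (hmem _).mpr (by simp [mul_assoc])
        rw [← hxR] at ht
        have h1 := mem_cent.mp ht
        show (t : M) * (c.out⁻¹ * x * c.out) = c.out⁻¹ * x * c.out * t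
        calc (t : M) * (c.out⁻¹ * x * c.out) = c.out⁻¹ * ((c.out * t * c.out⁻¹) * x) * c.out := by group
          _ = c.out⁻¹ * (x * (c.out * t * c.out⁻¹)) * c.out := by rw [h1]
          _ = c.out⁻¹ * x * c.out * t := by group
      choose q z hqz using hex
      rw [Subgroup.index, ← Nat.card_prod, ← Fintype.card_coe, ← Nat.card_eq_fintype_card]
      refine Nat.card_le_card_of_injective (fun x => (q x.1 x.2, z x.1 x.2)) ?_
      intro x y h
      have h1 := hqz x.1 x.2
      have h2 := hqz y.1 y.2
      simp only [Prod.mk.injEq] at h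
      exact Subtype.ext (by rw [h1, h2, h.1, h.2])
    have hidx : p ^ 2 ≤ Z.index := by
      obtain ⟨k, hk⟩ := S.isPGroup'.index Z
      have hk0 : k ≠ 0 := by
        rintro rfl
        exact hZtop (Subgroup.index_eq_one.mp (by rw [hk, pow_zero]))
      have hk1 : k ≠ 1 := by
        rintro rfl
        rw [pow_one] at hk
        haveI : IsCyclic ((S : Subgroup M) ⧸ Z) := isCyclic_of_prime_card hk
        refine hZtop ((Subgroup.eq_top_iff' _).mpr fun a => mem_center_iff.mpr fun b => ?_)
        exact (MonoidHom.isMulCommutative_of_isCyclic_of_ker_le_center (QuotientGroup.mk' Z) (by rw [QuotientGroup.ker_mk'])).is_comm.comm b a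
      rw [hk]
      exact Nat.pow_le_pow_right hpp.pos (by omega)
    have htot : (S : Subgroup M).index * (Nat.card Z * Z.index) = n := by
      rw [Z.card_mul_index, mul_comm, Subgroup.card_mul_index, Nat.card_eq_fintype_card]
    have hfin : (Finset.univ.filter fun x : M => x ≠ 1 ∧ p ∣ orderOf x).card * p ^ 2 ≤ n := by
      calc _ ≤ ((S : Subgroup M).index * Nat.card Z) * Z.index := Nat.mul_le_mul hbound hidx
        _ = n := by rw [mul_assoc, htot]
    rw [mul_one_div, le_div_iff₀ (by have := hpp.pos; positivity)]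
    exact_mod_cast hfin
  have hcover : (Finset.univ.filter fun x : M => x ≠ 1) ⊆
      n.primeFactors.biUnion (fun p => Finset.univ.filter fun x : M => x ≠ 1 ∧ p ∣ orderOf x) := by
    intro x hx
    have hx1 : x ≠ 1 := (Finset.mem_filter.mp hx).2
    obtain ⟨p, hp, hpd⟩ := Nat.exists_prime_and_dvd (fun e => hx1 (orderOf_eq_one_iff.mp e))
    simp only [Finset.mem_biUnion, Finset.mem_filter, Finset.mem_univ, true_and]
    exact ⟨p, Nat.mem_primeFactors.mpr ⟨hp, hpd.trans (orderOf_dvd_card), Fintype.card_ne_zero⟩, hx1, hpd⟩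
  have h1 : ((n : ℚ) - 1) ≤ (n : ℚ) * (3 / 4) := by
    have hsub : n.primeFactors ⊆ Finset.Icc 2 n := fun p hp => Finset.mem_Icc.mpr
      ⟨(Nat.prime_of_mem_primeFactors hp).two_le, Nat.le_of_mem_primeFactors hp⟩
    have h2 : ((Finset.univ.filter fun x : M => x ≠ 1).card : ℚ) = (n : ℚ) - 1 := by
      rw [Finset.filter_ne' Finset.univ (1 : M), Finset.card_erase_of_mem (Finset.mem_univ _), Finset.card_univ,
        Nat.cast_sub Fintype.card_pos]
      simp [hn]
    rw [← h2]
    calc ((Finset.univ.filter fun x : M => x ≠ 1).card : ℚ)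
        ≤ ∑ p ∈ n.primeFactors, ((Finset.univ.filter fun x : M => x ≠ 1 ∧ p ∣ orderOf x).card : ℚ) := by
          exact_mod_cast (Finset.card_le_card hcover).trans Finset.card_biUnion_le
      _ ≤ ∑ p ∈ n.primeFactors, (n : ℚ) * (1 / (p : ℚ) ^ 2) := Finset.sum_le_sum hcount
      _ = (n : ℚ) * ∑ p ∈ n.primeFactors, (1 / (p : ℚ) ^ 2) := by rw [Finset.mul_sum]
      _ ≤ (n : ℚ) * (3 / 4) := by
          refine mul_le_mul_of_nonneg_left ?_ (by positivity)
          exact (Finset.sum_le_sum_of_subset_of_nonneg hsub (fun k _ _ => by positivity)).trans (sum_inv_sq n)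
  -- small groups are not perfect
  have hn4 : n ≤ 4 := by
    have : (n : ℚ) ≤ 4 := by linarith
    exact_mod_cast this
  have hab : ∀ a b : M, a * b = b * a := by
    by_contra hcon
    push Not at hcon
    obtain ⟨a, b, hne⟩ := hcon
    have e1 : a ≠ 1 := fun e => hne (by rw [e, one_mul, mul_one])
    have e2 : b ≠ 1 := fun e => hne (by rw [e, one_mul, mul_one])
    have e3 : a ≠ b := fun e => hne (by rw [e])
    have e4 : a * b ≠ 1 := fun e => hne (by rw [e, eq_comm, mul_eq_one_comm]; exact e)
    have e5 : b * a ≠ 1 := fun e => hne (by rw [e, mul_eq_one_comm]; exact e)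
    have e6 : a * b ≠ a := fun e => e2 (mul_eq_left.mp e)
    have e7 : a * b ≠ b := fun e => e1 (mul_eq_right.mp e)
    have e8 : b * a ≠ a := fun e => e2 (mul_eq_right.mp e)
    have e9 : b * a ≠ b := fun e => e1 (mul_eq_left.mp e)
    have h5 : ({1, a, b, a * b, b * a} : Finset M).card = 5 := by
      rw [Finset.card_insert_of_notMem (by simp [e1.symm, e2.symm, e4.symm, e5.symm]),
        Finset.card_insert_of_notMem (by simp [e3, e6.symm, e8.symm]),
        Finset.card_insert_of_notMem (by simp [e7.symm, e9.symm]),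
        Finset.card_insert_of_notMem (by simp [hne]), Finset.card_singleton]
    have := Finset.card_le_univ ({1, a, b, a * b, b * a} : Finset M)
    omega
  have hbot : commutator M = ⊥ := by
    rw [_root_.commutator_def, eq_bot_iff, commutator_le]
    intro a _ b _
    rw [mem_bot, commutatorElement_eq_one_iff_mul_comm]
    exact hab a b
  rw [hperf] at hbot
  exact not_subsingleton M (Subgroup.subsingleton_iff.mp ⟨fun A B => by
    rw [eq_bot_iff.mpr (le_top.trans hbot.le : A ≤ ⊥), eq_bot_iff.mpr (le_top.trans hbot.le : B ≤ ⊥)]⟩)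

end Cfsg.Agent.CentralizerCount
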