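import Cfsg.Agent.Lib.PGroupsBasic
import Cfsg.Agent.Lib.ComponentsFitting
import Cfsg.Agent.Lib.CoprimeAction
import Cfsg.Agent.Lib.HallNilpotentConj

/-!
Normal subgroups `N` all whose non-central elements have maximal centralisers in `G`.
-/

set_option autoImplicit false

namespace Cfsg.Agent.CentralizerMax69

open scoped Pointwise commutatorElement

variable {G : Type*} [Group G] [Finite G] {N : Subgroup G}

set_option quotPrecheck false in
local notation "Z" => Subgroup.center ↥N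

/-- centraliser in `G` -/
abbrev Cen (x : ↥N) : Subgroup G := Subgroup.centralizer ({(x : G)} : Set G)

/-- centraliser in `N` -/
abbrev A (x : ↥N) : Subgroup ↥N := Subgroup.centralizer ({x} : Set ↥N)

/-- image of the centraliser in `N / Z(N)` -/
abbrev Ab (x : ↥N) : Subgroup (↥N ⧸ Subgroup.center ↥N) := (A x).map (QuotientGroup.mk' Z)

/-- the hypothesis -/
def Hyp (N : Subgroup G) : Prop := ∀ x : ↥N, x ∉ Subgroup.center ↥N → IsCoatom (Cen x)

/-- invariance under `G` -/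
def GInv [N.Normal] (L : Subgroup ↥N) : Prop := ∀ g : G, ∀ l ∈ L, MulAut.conjNormal g l ∈ L

omit [Finite G] in
theorem mem_A {x g : ↥N} : g ∈ A x ↔ (g : G) ∈ Cen x := by
  simp only [Subgroup.mem_centralizer_singleton_iff, ← Subtype.coe_inj, Subgroup.coe_mul]

omit [Finite G] in
theorem self_mem_A (x : ↥N) : x ∈ A x := Subgroup.mem_centralizer_singleton_iff.2 rfl

omit [Finite G] in
theorem center_le_A (x : ↥N) : Z ≤ A x := fun g hg =>
  Subgroup.mem_centralizer_singleton_iff.2 (Subgroup.mem_center_iff.1 hg x).symm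

omit [Finite G] in
theorem comap_Ab (x : ↥N) : (Ab x).comap (QuotientGroup.mk' Z) = A x := by
  rw [Subgroup.comap_map_eq, QuotientGroup.ker_mk', sup_eq_left.2 (center_le_A x)]

omit [Finite G] in
theorem mk_mem_Ab {x g : ↥N} : QuotientGroup.mk' Z g ∈ Ab x ↔ g ∈ A x := by
  rw [← Subgroup.mem_comap, comap_Ab]

theorem eq_of_le (h : Hyp N) {x y : ↥N} (hx : x ∉ Z) (hy : y ∉ Z) (hle : Cen x ≤ Cen y) :
    Cen x = Cen y := by
  rcases eq_or_lt_of_le hle with e | e
  · exact e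
  · exact absurd ((h x hx).2 _ e) (h y hy).1

theorem cen_pow_eq (h : Hyp N) (x : ↥N) (j : ℕ) (hj : x ^ j ∉ Z) : Cen x = Cen (x ^ j) := by
  refine eq_of_le h (fun hx => hj (Subgroup.pow_mem _ hx j)) hj fun g hg => ?_
  rw [Subgroup.mem_centralizer_singleton_iff] at hg ⊢
  rw [SubmonoidClass.coe_pow]
  exact (Commute.pow_right hg j).eq

theorem cen_eq_of_coprime (h : Hyp N) {x y : ↥N} (hx : x ∉ Z) (hy : y ∉ Z)
    (hc : x * y = y * x) (hcop : (orderOf x).Coprime (orderOf y)) : Cen x = Cen y := by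
  have key : ∀ a b : ↥N, a ∉ Z → a * b = b * a → (orderOf a).Coprime (orderOf b) →
      Cen (a * b) = Cen a := by
    intro a b ha hab hcop
    have h1 : (a * b) ^ orderOf b = a ^ orderOf b := by
      rw [(show Commute a b from hab).mul_pow, pow_orderOf_eq_one, mul_one]
    obtain ⟨j, hj⟩ : ∃ j : ℕ, (a ^ orderOf b) ^ j = a := exists_pow_eq_self_of_coprime hcop.symm
    rw [← h1, ← pow_mul] at hj
    have := cen_pow_eq h (a * b) (orderOf b * j) (hj.symm ▸ ha)
    rwa [hj] at this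
  rw [← key x y hx hc hcop, hc, key y x hy hc.symm hcop.symm]

theorem exists_part (x : ↥N) {r : ℕ} (hr : r.Prime)
    (hrx : r ∣ orderOf (QuotientGroup.mk' Z x)) :
    ∃ j k : ℕ, x ^ j ∉ Z ∧ orderOf (x ^ j) = r ^ k := by
  have hdvd : orderOf (QuotientGroup.mk' Z x) ∣ orderOf x := orderOf_map_dvd _ x
  set n := orderOf x with hn
  have hn0 : n ≠ 0 := (orderOf_pos x).ne'
  refine ⟨n / r ^ n.factorization r, n.factorization r, fun hmem => ?_, ?_⟩
  · have h1 : (QuotientGroup.mk' Z x) ^ (n / r ^ n.factorization r) = 1 := by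
      rw [← map_pow]; exact (QuotientGroup.eq_one_iff _).2 hmem
    exact Nat.not_dvd_ordCompl hr hn0 (hrx.trans (orderOf_dvd_of_pow_eq_one h1))
  · rw [orderOf_pow_of_dvd ?_ (Nat.ordCompl_dvd n r)]
    · exact Nat.div_div_self (Nat.ordProj_dvd n r) hn0
    · exact (Nat.ordCompl_pos r hn0).ne'

theorem exists_prime_part (x : ↥N) (hx : x ∉ Z) :
    ∃ r j k : ℕ, r.Prime ∧ x ^ j ∉ Z ∧ orderOf (x ^ j) = r ^ k := by
  obtain ⟨r, hr, hrx⟩ := Nat.exists_prime_and_dvd (fun e => hx ((QuotientGroup.eq_one_iff x).1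
    (orderOf_eq_one_iff.1 e)) : orderOf (QuotientGroup.mk' Z x) ≠ 1)
  obtain ⟨j, k, h1, h2⟩ := exists_part x hr hrx
  exact ⟨r, j, k, hr, h1, h2⟩

theorem exists_other_part (x : ↥N) {r : ℕ} (hr : r.Prime)
    (hx : ¬ ∃ k : ℕ, orderOf (QuotientGroup.mk' Z x) = r ^ k) :
    ∃ q j k : ℕ, q.Prime ∧ q ≠ r ∧ x ^ j ∉ Z ∧ orderOf (x ^ j) = q ^ k := by
  obtain ⟨q, hq, hqx, hqr⟩ : ∃ q, q.Prime ∧ q ∣ orderOf (QuotientGroup.mk' Z x) ∧ q ≠ r := by
    by_contra hcon
    push Not at hcon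
    exact hx ⟨_, Nat.eq_prime_pow_of_unique_prime_dvd (orderOf_pos _).ne' fun {d} hd hdd => hcon d hd hdd⟩
  obtain ⟨j, k, h1, h2⟩ := exists_part x hq hqx
  exact ⟨q, j, k, hq, hqr, h1, h2⟩

/-- The two kinds of centralisers of an `r`-element. -/
theorem cases_A (h : Hyp N) {x : ↥N} (hx : x ∉ Z) {r : ℕ} (hr : r.Prime)
    (hxr : ∃ k, orderOf x = r ^ k) :
    (∀ g ∈ A x, g ∉ Z → Cen g = Cen x) ∨ IsPGroup r (Ab x) := by
  obtain ⟨kx, hkx⟩ := hxr
  by_cases hp : ∀ g ∈ A x, ∃ k : ℕ, orderOf (QuotientGroup.mk' Z g) = r ^ k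
  · right
    rintro ⟨_, g, hg, rfl⟩
    obtain ⟨k, hk⟩ := hp g hg
    exact ⟨k, Subtype.ext (by
      show (QuotientGroup.mk' Z g) ^ r ^ k = 1
      rw [← hk]; exact pow_orderOf_eq_one _)⟩
  · left
    push Not at hp
    obtain ⟨g₀, hg₀, hg₀'⟩ := hp
    obtain ⟨q, j, k, hq, hqr, hw, hwk⟩ := exists_other_part g₀ hr (fun ⟨k, hk⟩ => hg₀' k hk)
    have hcomm : ∀ u ∈ A x, x * u = u * x := fun u hu =>
      (Subgroup.mem_centralizer_singleton_iff.1 hu).symm
    have hwA : g₀ ^ j ∈ A x := Subgroup.pow_mem _ hg₀ j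
    have hw' : Cen (g₀ ^ j) = Cen x := (cen_eq_of_coprime h hx hw (hcomm _ hwA) (by
      rw [hkx, hwk]
      exact Nat.Coprime.pow _ _ ((Nat.coprime_primes hr hq).2 hqr.symm))).symm
    intro g hg hgZ
    obtain ⟨s, i, l, hs, hu, hul⟩ := exists_prime_part g hgZ
    have huA : g ^ i ∈ A x := Subgroup.pow_mem _ hg i
    rw [cen_pow_eq h g i hu]
    rcases eq_or_ne s r with hsr | hsr
    · have hc : g ^ i * (g₀ ^ j) = g₀ ^ j * g ^ i := by
        have h1 : ((g ^ i : ↥N) : G) ∈ Cen x := mem_A.1 huA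
        rw [← hw', Subgroup.mem_centralizer_singleton_iff] at h1
        exact Subtype.ext h1
      rw [cen_eq_of_coprime h hu hw hc (by
        rw [hul, hwk]
        exact Nat.Coprime.pow _ _ ((Nat.coprime_primes hs hq).2 (hsr ▸ hqr.symm))), hw']
    · exact (cen_eq_of_coprime h hx hu (hcomm _ huA) (by
        rw [hkx, hul]
        exact Nat.Coprime.pow _ _ ((Nat.coprime_primes hr hs).2 hsr.symm))).symm

theorem comm_of_all (h : Hyp N) {x : ↥N} (hx : ∀ g ∈ A x, g ∉ Z → Cen g = Cen x) {a b : ↥N}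
    (ha : a ∈ A x) (hb : b ∈ A x) : a * b = b * a := by
  by_cases hbZ : b ∈ Z
  · exact Subgroup.mem_center_iff.1 hbZ a
  have h1 : ((a : ↥N) : G) ∈ Cen x := mem_A.1 ha
  rw [← hx b hb hbZ, Subgroup.mem_centralizer_singleton_iff] at h1
  exact Subtype.ext h1

theorem Ab_nilpotent (h : Hyp N) {x : ↥N} (hx : x ∉ Z) : Group.IsNilpotent (Ab x) := by
  obtain ⟨r, j, k, hr, hy, hyk⟩ := exists_prime_part x hx
  haveI := Fact.mk hr
  have hA : A x = A (x ^ j) := by
    ext g
    rw [mem_A, mem_A, cen_pow_eq h x j hy]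
  rw [show Ab x = Ab (x ^ j) from by rw [Ab, hA]]
  rcases cases_A h hy hr ⟨k, hyk⟩ with hc | hc
  · letI : CommGroup (Ab (x ^ j)) :=
      { (inferInstance : Group (Ab (x ^ j))) with
        mul_comm := by
          rintro ⟨_, a, ha, rfl⟩ ⟨_, b, hb, rfl⟩
          refine Subtype.ext ?_
          show QuotientGroup.mk' Z a * QuotientGroup.mk' Z b = QuotientGroup.mk' Z b * QuotientGroup.mk' Z a
          rw [← map_mul, ← map_mul, comm_of_all h hc ha hb] }
    exact CommGroup.isNilpotent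
  · exact hc.isNilpotent

variable [N.Normal]

omit [Finite G] in
theorem conj_notMem_center {x : ↥N} (hx : x ∉ Z) (g : G) : MulAut.conjNormal g x ∉ Z := by
  intro hmem
  refine hx (Subgroup.mem_center_iff.2 fun n => ?_)
  have h1 := Subgroup.mem_center_iff.1 hmem (MulAut.conjNormal g n)
  rw [← map_mul, ← map_mul] at h1
  exact (MulEquiv.injective _) h1

omit [Finite G] in
theorem GInv.normal {L : Subgroup ↥N} (hL : GInv L) : L.Normal := ⟨fun l hl n => by
  have := hL n l hl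
  convert this using 1
  exact Subtype.ext (by simp [MulAut.conjNormal_apply])⟩

omit [Finite G] in
theorem GInv.map_normal {L : Subgroup ↥N} (hL : GInv L) : (L.map N.subtype).Normal := ⟨by
  rintro _ ⟨l, hl, rfl⟩ g
  exact ⟨_, hL g l hl, MulAut.conjNormal_apply g l⟩⟩

/-- An automorphism of `N/Z(N)` from conjugation. -/
noncomputable def quotConj (g : G) : (↥N ⧸ Subgroup.center ↥N) ≃* (↥N ⧸ Subgroup.center ↥N) :=
  QuotientGroup.congr Z Z (MulAut.conjNormal g) (Subgroup.characteristic_iff_map_eq.1 inferInstance _)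

omit [Finite G] in
theorem quotConj_mk (g : G) (x : ↥N) :
    quotConj g (QuotientGroup.mk' Z x) = QuotientGroup.mk' Z (MulAut.conjNormal g x) := rfl

omit [Finite G] in
theorem ginv_comap (K : Subgroup (↥N ⧸ Subgroup.center ↥N)) [K.Characteristic] :
    GInv (K.comap (QuotientGroup.mk' Z)) := by
  intro g l hl
  rw [Subgroup.mem_comap, ← quotConj_mk]
  have := Subgroup.characteristic_iff_map_le.1 (inferInstance : K.Characteristic) (quotConj g)
  exact this ⟨_, hl, rfl⟩

/-- A centraliser in `N` is normal in `G` or self-normalising in `N`. -/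
theorem mem_A_of_normalizes (h : Hyp N) {x : ↥N} (hx : x ∉ Z) (hA : ¬ GInv (A x)) {n : ↥N}
    (hn : ∀ a ∈ A x, n * a * n⁻¹ ∈ A x) : n ∈ A x := by
  set W := (A x).map N.subtype with hW
  have hle : Cen x ≤ Subgroup.normalizer (W : Set G) := by
    refine CoprimeAction.le_normalizer_of_conj_mem fun c hc w hw => ?_
    obtain ⟨a, ha, rfl⟩ := hw
    refine ⟨MulAut.conjNormal c a, mem_A.2 ?_, MulAut.conjNormal_apply c a⟩
    rw [MulAut.conjNormal_apply]
    exact Subgroup.mul_mem _ (Subgroup.mul_mem _ hc (mem_A.1 ha)) (Subgroup.inv_mem _ hc)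
  have hne : Subgroup.normalizer (W : Set G) = Cen x := by
    rcases eq_or_lt_of_le hle with e | e
    · exact e.symm
    · exfalso
      refine hA fun g l hl => ?_
      have htop := (h x hx).2 _ e
      have h1 := CoprimeAction.conj_mem (K := W) (htop.symm ▸ Subgroup.mem_top g)
        (Subgroup.mem_map_of_mem N.subtype hl)
      obtain ⟨a, ha, he⟩ := h1
      rw [show MulAut.conjNormal g l = a from Subtype.ext ((MulAut.conjNormal_apply g l).trans he.symm)]
      exact ha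
  have hnW : (n : G) ∈ Subgroup.normalizer (W : Set G) := by
    refine CoprimeAction.mem_normalizer_of_conj_smul_eq
      (Subgroup.eq_of_le_of_card_ge ?_ (CoprimeSZ.card_conj_smul _ _).ge)
    rintro _ ⟨_, ⟨a, ha, rfl⟩, rfl⟩
    exact ⟨n * a * n⁻¹, hn a ha, rfl⟩
  rw [hne] at hnW
  exact mem_A.2 hnW

/-- A `G`-invariant subgroup not inside a centraliser supplements it. -/
theorem exists_mul (h : Hyp N) {x : ↥N} (hx : x ∉ Z) {L : Subgroup ↥N} (hL : GInv L)
    (hle : ¬ L ≤ A x) (n : ↥N) : ∃ a ∈ A x, ∃ l ∈ L, n = a * l := by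
  haveI := hL.map_normal
  have htop : Cen x ⊔ L.map N.subtype = ⊤ := (h x hx).2 _ (lt_of_le_of_ne le_sup_left fun e =>
    hle fun l hl => mem_A.2 (e ▸ Subgroup.mem_sup_right (Subgroup.mem_map_of_mem N.subtype hl)))
  obtain ⟨c, hc, _, ⟨l, hl, rfl⟩, he⟩ :=
    Subgroup.mem_sup_of_normal_right.1 (htop ▸ Subgroup.mem_top (n : G))
  refine ⟨n * l⁻¹, mem_A.2 ?_, l, hl, by simp⟩
  have : ((n * l⁻¹ : ↥N) : G) = c := by
    rw [Subgroup.coe_mul, InvMemClass.coe_inv, ← he]
    simp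
  rw [this]; exact hc

omit [Finite G] [N.Normal] in
theorem commute_of_comm_center {x y : ↥N} (hc : x * y * x⁻¹ * y⁻¹ ∈ Z)
    (hcop : (orderOf x).Coprime (orderOf y)) : x * y = y * x := by
  set z := x * y * x⁻¹ * y⁻¹ with hz
  have hcz : ∀ u : ↥N, Commute z u := fun u => (Subgroup.mem_center_iff.1 hc u).symm
  have e : x * y * x⁻¹ = z * y := by rw [hz]; group
  have e' : y * x * y⁻¹ = z⁻¹ * x := by rw [hz]; group
  have h1 : z ^ orderOf y = 1 := by
    have := congrArg (fun u => u ^ orderOf y) e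
    simpa [conj_pow, (hcz y).mul_pow, pow_orderOf_eq_one] using this.symm
  have h2 : z ^ orderOf x = 1 := by
    have := congrArg (fun u => u ^ orderOf x) e'
    simpa [conj_pow, ((hcz x).inv_left).mul_pow, pow_orderOf_eq_one] using this.symm
  have h3 : z = 1 := by
    have := (pow_gcd_eq_one (a := z) (m := orderOf x) (n := orderOf y)).2 ⟨h2, h1⟩
    rwa [hcop.gcd_eq_one, pow_one] at this
  rw [hz, mul_inv_eq_one, mul_inv_eq_iff_eq_mul] at h3
  exact h3

theorem center_of_forall_A {w : ↥N} (hw : ∀ z : ↥N, z ∉ Z → w ∈ A z) : w ∈ Z :=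
  Subgroup.mem_center_iff.2 fun n => by
    by_cases hn : n ∈ Z
    · exact (Subgroup.mem_center_iff.1 hn w).symm
    · exact (Subgroup.mem_centralizer_singleton_iff.1 (hw n hn)).symm

/-- All centralisers normal: `N/Z(N)` is elementary abelian. -/
theorem elementary_case (h : Hyp N) (hnc : ∃ x : ↥N, x ∉ Z)
    (hall : ∀ x : ↥N, x ∉ Z → GInv (A x)) :
    ∃ p : ℕ, p.Prime ∧ Cfsg.IsElementaryAbelian p (⊤ : Subgroup (↥N ⧸ Subgroup.center ↥N)) := by
  haveI hnil : Group.IsNilpotent (↥N ⧸ Subgroup.center ↥N) := by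
    refine ComponentsFitting.fittingSubgroup_eq_top_iff.1 (top_le_iff.1 fun v _ => ?_)
    obtain ⟨u, rfl⟩ := QuotientGroup.mk'_surjective Z v
    by_cases hu : u ∈ Z
    · rw [QuotientGroup.mk'_apply, (QuotientGroup.eq_one_iff u).2 hu]; exact Subgroup.one_mem _
    · haveI := (hall u hu).normal
      have hmem : Ab u ∈ {M : Subgroup (↥N ⧸ Subgroup.center ↥N) | M.Normal ∧ Group.IsNilpotent M} :=
        ⟨Subgroup.Normal.map inferInstance _ (QuotientGroup.mk'_surjective Z), Ab_nilpotent h hu⟩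
      exact (le_sSup hmem : Ab u ≤ _) (mk_mem_Ab.2 (self_mem_A u))
  have hcomm : ∀ a b : ↥N, ∀ p q k l : ℕ, p.Prime → q.Prime → p ≠ q → orderOf a = p ^ k →
      orderOf b = q ^ l → a * b = b * a := by
    intro a b p q k l hp hq hpq ha hb
    have hcop : (orderOf a).Coprime (orderOf b) := by
      rw [ha, hb]; exact Nat.Coprime.pow _ _ ((Nat.coprime_primes hp hq).2 hpq)
    refine commute_of_comm_center ?_ hcop
    rw [← QuotientGroup.eq_one_iff, ← QuotientGroup.mk'_apply, map_mul, map_mul, map_mul, map_inv,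
      map_inv, mul_inv_eq_one, mul_inv_eq_iff_eq_mul]
    have hc' : (orderOf (QuotientGroup.mk' Z a)).Coprime (orderOf (QuotientGroup.mk' Z b)) :=
      (hcop.coprime_dvd_left (orderOf_map_dvd _ a)).coprime_dvd_right (orderOf_map_dvd _ b)
    exact (HallNilpotentConj.commute_of_coprime_orderOf _ _ _ hc').eq
  obtain ⟨x₀, hx₀⟩ := hnc
  obtain ⟨p, j, k, hp, hx, hxk⟩ := exists_prime_part x₀ hx₀
  haveI := Fact.mk hp
  have hP : IsPGroup p (↥N ⧸ Subgroup.center ↥N) := by
    intro v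
    obtain ⟨g, rfl⟩ := QuotientGroup.mk'_surjective Z v
    by_contra hg
    push Not at hg
    obtain ⟨q, i, l, hq, hqp, hy, hyl⟩ := exists_other_part g hp fun ⟨n, hn⟩ =>
      hg n (by rw [← hn]; exact pow_orderOf_eq_one _)
    have hxy := hcomm _ _ p q k l hp hq hqp.symm hxk hyl
    have hcx : Cen (x₀ ^ j) = Cen (g ^ i) := cen_eq_of_coprime h hx hy hxy (by
      rw [hxk, hyl]; exact Nat.Coprime.pow _ _ ((Nat.coprime_primes hp hq).2 hqp.symm))
    apply hx
    refine Subgroup.mem_center_iff.2 fun u => ?_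
    by_cases hu : u ∈ Z
    · exact (Subgroup.mem_center_iff.1 hu _).symm
    obtain ⟨s, t, m, hs, hut, hutm⟩ := exists_prime_part u hu
    have huC : Cen u = Cen (x₀ ^ j) := by
      rw [cen_pow_eq h u t hut]
      rcases eq_or_ne s p with hsp | hsp
      · rw [hcx]
        exact cen_eq_of_coprime h hut hy (hcomm _ _ s q m l hs hq (hsp ▸ hqp.symm) hutm hyl) (by
          rw [hutm, hyl]; exact Nat.Coprime.pow _ _ ((Nat.coprime_primes hs hq).2 (hsp ▸ hqp.symm)))
      · exact cen_eq_of_coprime h hut hx (hcomm _ _ s p m k hs hp hsp hutm hxk) (by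
          rw [hutm, hxk]; exact Nat.Coprime.pow _ _ ((Nat.coprime_primes hs hp).2 hsp))
    have h1 : ((u : ↥N) : G) ∈ Cen u := Subgroup.mem_centralizer_singleton_iff.2 rfl
    rw [huC, Subgroup.mem_centralizer_singleton_iff] at h1
    exact Subtype.ext h1
  refine ⟨p, hp, ?_⟩
  have hfr : frattini (↥N ⧸ Subgroup.center ↥N) = ⊥ := by
    rw [eq_bot_iff]
    intro v hv
    obtain ⟨w, rfl⟩ := QuotientGroup.mk'_surjective Z v
    refine Subgroup.mem_bot.2 ((QuotientGroup.eq_one_iff w).2 (center_of_forall_A fun z hz => ?_))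
    by_contra hwz
    have hle : ¬ (frattini (↥N ⧸ Subgroup.center ↥N)).comap (QuotientGroup.mk' Z) ≤ A z :=
      fun hle => hwz (hle hv)
    have htop : Ab z ⊔ frattini (↥N ⧸ Subgroup.center ↥N) = ⊤ := by
      rw [eq_top_iff]
      intro u _
      obtain ⟨n, rfl⟩ := QuotientGroup.mk'_surjective Z u
      obtain ⟨a, ha, l, hl, rfl⟩ := exists_mul h hz (ginv_comap _) hle n
      rw [map_mul]
      exact Subgroup.mul_mem _ (Subgroup.mem_sup_left (mk_mem_Ab.2 ha)) (Subgroup.mem_sup_right hl)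
    have h1 := frattini_nongenerating htop
    exact hwz (mk_mem_Ab.1 (h1 ▸ Subgroup.mem_top _))
  exact ⟨⟨⟨fun a b => Subtype.ext (PGroupsBasic.commute_of_frattini_eq_bot hP hfr (a : _) b)⟩⟩,
    fun a _ => PGroupsBasic.pow_eq_one_of_frattini_eq_bot hP hfr a⟩

end Cfsg.Agent.CentralizerMax69
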