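import Cfsg.Agent.Lib.CentralizerMax69
import Cfsg.Agent.Lib.FrobeniusThompson
import Cfsg.Agent.Lib.FrobeniusBasic
import Cfsg.Agent.Lib.FrobeniusNilpotent
import Cfsg.Agent.Lib.CharInducedTI
import Cfsg.Agent.Lib.CoprimeExtra
import Cfsg.Agent.Lib.TransferPResidual
import Cfsg.Agent.Lib.HallCore

/-!
Normal subgroups `N` all whose non-central elements have maximal centralisers in `G`:
the case of a self-normalising centraliser.
-/

set_option autoImplicit false

namespace Cfsg.Agent.CentralizerMax69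

open scoped Pointwise commutatorElement

variable {G : Type*} [Group G] [Finite G] {N : Subgroup G}

set_option quotPrecheck false in
local notation "Z" => Subgroup.center ↥N
set_option quotPrecheck false in
local notation "Q" => (↥N ⧸ Subgroup.center ↥N)
set_option quotPrecheck false in
local notation "π" => QuotientGroup.mk' (Subgroup.center ↥N)

theorem lift_part {s : ℕ} (hs : s.Prime) {v : Q} {a : ℕ} (hv : orderOf v = s ^ a) (hv1 : v ≠ 1) :
    ∃ u : ↥N, u ∉ Z ∧ (∃ k, orderOf u = s ^ k) ∧ ∀ H : Subgroup Q, π u ∈ H ↔ v ∈ H := by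
  obtain ⟨w, rfl⟩ := QuotientGroup.mk'_surjective Z v
  have hsd : s ∣ orderOf (π w) := by
    rw [hv]
    exact dvd_pow_self s fun h0 => hv1 (orderOf_eq_one_iff.1 (by rw [hv, h0, pow_zero]))
  set n := orderOf w with hn
  have hn0 : n ≠ 0 := (orderOf_pos w).ne'
  set j := n / s ^ n.factorization s with hj
  have hord : orderOf (w ^ j) = s ^ n.factorization s := by
    rw [orderOf_pow_of_dvd (Nat.ordCompl_pos s hn0).ne' (Nat.ordCompl_dvd n s)]
    exact Nat.div_div_self (Nat.ordProj_dvd n s) hn0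
  have hcop : (orderOf (π w)).Coprime j := by
    rw [hv]; exact (Nat.coprime_ordCompl hs hn0).pow_left a
  obtain ⟨i, hi⟩ : ∃ i : ℕ, ((π w) ^ j) ^ i = π w := exists_pow_eq_self_of_coprime hcop.symm
  have hiff : ∀ H : Subgroup Q, π (w ^ j) ∈ H ↔ π w ∈ H := fun H => by
    rw [map_pow]
    exact ⟨fun h => hi ▸ H.pow_mem h i, fun h => H.pow_mem h j⟩
  refine ⟨w ^ j, fun hZ => hv1 ?_, ⟨_, hord⟩, hiff⟩
  have h1 := (hiff ⊥).1 (by rw [Subgroup.mem_bot]; exact (QuotientGroup.eq_one_iff _).2 hZ)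
  exact Subgroup.mem_bot.1 h1

theorem cen_eq_of_mk_commute (h : Hyp N) {u w : ↥N} (hu : u ∉ Z) (hw : w ∉ Z) {s t : ℕ}
    (hs : s.Prime) (ht : t.Prime) (hst : s ≠ t) (hus : ∃ k, orderOf u = s ^ k)
    (hwt : ∃ k, orderOf w = t ^ k) (hc : π u * π w = π w * π u) :
    Cen u = Cen w ∧ u * w = w * u := by
  obtain ⟨k, hk⟩ := hus
  obtain ⟨l, hl⟩ := hwt
  have hcop : (orderOf u).Coprime (orderOf w) := by
    rw [hk, hl]; exact Nat.Coprime.pow _ _ ((Nat.coprime_primes hs ht).2 hst)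
  have hcm : u * w = w * u := by
    refine commute_of_comm_center ?_ hcop
    rw [← QuotientGroup.eq_one_iff, ← QuotientGroup.mk'_apply, map_mul, map_mul, map_mul, map_inv,
      map_inv, mul_inv_eq_one, mul_inv_eq_iff_eq_mul]
    exact hc
  exact ⟨cen_eq_of_coprime h hu hw hcm hcop, hcm⟩

/-- `x` is central in its own centraliser in a way that transports to `Cen`. -/
theorem mem_A_of_cen_eq {x y g : ↥N} (he : Cen x = Cen y) : g ∈ A x ↔ g ∈ A y := by
  rw [mem_A, mem_A, he]

theorem isPGroup_orderOf {H : Subgroup Q} {p : ℕ} [Fact p.Prime] (hH : IsPGroup p H) {v : Q}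
    (hv : v ∈ H) : ∃ a, orderOf v = p ^ a := by
  obtain ⟨a, ha⟩ := hH.exists_orderOf_eq_pow ⟨v, hv⟩
  exact ⟨a, by rw [← Subgroup.orderOf_mk v hv]; exact ha⟩

theorem mem_pCore_of_nilpotent {s : ℕ} [Fact s.Prime] (F : Subgroup Q) [hFn : F.Normal]
    (hF : Group.IsNilpotent F) {v : Q} (hv : v ∈ F) {a : ℕ} (hva : orderOf v = s ^ a) :
    v ∈ Cfsg.pCore s Q := by
  haveI := hF
  have R : Sylow s F := default
  have hRn : (R : Subgroup F).Normal := R.normal_of_normalizerCondition Group.normalizerCondition_of_isNilpotent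
  haveI hRc : (R : Subgroup F).Characteristic := Sylow.characteristic_of_normal R hRn
  haveI : ((R : Subgroup F).map F.subtype).Normal := inferInstance
  have hle : (R : Subgroup F).map F.subtype ≤ Cfsg.pCore s Q := HallCore.le_pCore (R.isPGroup'.map F.subtype)
  have hvp : IsPGroup s (Subgroup.zpowers (⟨v, hv⟩ : F)) :=
    IsPGroup.of_card (n := a) (by rw [Nat.card_zpowers, Subgroup.orderOf_mk, hva])
  obtain ⟨R', hR'⟩ := hvp.exists_le_sylow
  haveI := Sylow.unique_of_normal R hRn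
  rw [Subsingleton.elim R' R] at hR'
  exact hle ⟨_, hR' (Subgroup.mem_zpowers _), rfl⟩

variable [N.Normal]

theorem mem_Ab_of_normalizes (h : Hyp N) {x : ↥N} (hx : x ∉ Z) (hA : ¬ GInv (A x)) {v : Q}
    (hv : ∀ a ∈ Ab x, v * a * v⁻¹ ∈ Ab x) : v ∈ Ab x := by
  obtain ⟨n, rfl⟩ := QuotientGroup.mk'_surjective Z v
  refine mk_mem_Ab.2 (mem_A_of_normalizes h hx hA fun a ha => mk_mem_Ab.1 ?_)
  rw [map_mul, map_mul, map_inv]
  exact hv _ (mk_mem_Ab.2 ha)

omit [Finite G] in
theorem normalizes_A_of_mk_commute {x n : ↥N} (hc : π n * π x = π x * π n) :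
    ∀ a ∈ A x, n * a * n⁻¹ ∈ A x := by
  intro a ha
  have hz : n⁻¹ * x * n * x⁻¹ ∈ Z := by
    rw [← QuotientGroup.eq_one_iff, ← QuotientGroup.mk'_apply, map_mul, map_mul, map_mul, map_inv,
      map_inv, mul_assoc (π n)⁻¹, ← hc, inv_mul_cancel_left, mul_inv_cancel]
  rw [Subgroup.mem_centralizer_singleton_iff] at ha ⊢
  set z := n⁻¹ * x * n * x⁻¹ with hzd
  have hzc := Subgroup.mem_center_iff.1 hz a
  have hx' : n⁻¹ * x * n = z * x := by rw [hzd]; group
  calc n * a * n⁻¹ * x = n * (a * (n⁻¹ * x * n)) * n⁻¹ := by group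
    _ = n * ((a * z) * x) * n⁻¹ := by rw [hx']; group
    _ = n * (z * (a * x)) * n⁻¹ := by rw [hzc]; group
    _ = n * ((z * x) * a) * n⁻¹ := by rw [ha]; group
    _ = x * (n * a * n⁻¹) := by rw [← hx']; group

theorem mem_A_of_mk_commute (h : Hyp N) {x n : ↥N} (hx : x ∉ Z) (hA : ¬ GInv (A x))
    (hc : π n * π x = π x * π n) : n ∈ A x :=
  mem_A_of_normalizes h hx hA (normalizes_A_of_mk_commute hc)

theorem Ab_ne_top {x : ↥N} (hx : x ∉ Z) : Ab x ≠ ⊤ := fun e =>
  hx (Subgroup.mem_center_iff.2 fun g => Subgroup.mem_centralizer_singleton_iff.1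
    (mk_mem_Ab.1 (e ▸ Subgroup.mem_top (π g)) : g ∈ A x))

theorem mk_x_ne_one {x : ↥N} (hx : x ∉ Z) : π x ≠ 1 := fun e => hx ((QuotientGroup.eq_one_iff x).1 e)

/-- the `p`-case: the centraliser is a Sylow subgroup -/
theorem exists_sylow_eq (h : Hyp N) {x : ↥N} (hx : x ∉ Z) (hA : ¬ GInv (A x)) {p : ℕ} [Fact p.Prime]
    (hp : IsPGroup p (Ab x)) : ∃ P : Sylow p Q, (P : Subgroup Q) = Ab x := by
  obtain ⟨P, hP⟩ := hp.exists_le_sylow
  refine ⟨P, le_antisymm (fun v hv => ?_) hP⟩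
  by_contra hne
  have hlt : (Ab x).subgroupOf (P : Subgroup Q) <
      Subgroup.normalizer (((Ab x).subgroupOf (P : Subgroup Q) : Subgroup (P : Subgroup Q)) : Set (P : Subgroup Q)) := by
    haveI := P.isPGroup'.isNilpotent
    exact Group.normalizerCondition_of_isNilpotent _ (lt_top_iff_ne_top.2 fun e => hne
      ((Subgroup.mem_subgroupOf (h := (⟨v, hv⟩ : (P : Subgroup Q)))).1 (e ▸ Subgroup.mem_top _)))
  obtain ⟨w, hw, hw'⟩ := SetLike.exists_of_lt hlt
  refine hw' (Subgroup.mem_subgroupOf.2 (mem_Ab_of_normalizes h hx hA fun a ha => ?_))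
  have := (Subgroup.mem_normalizer_iff.1 hw ⟨a, hP ha⟩).1 (Subgroup.mem_subgroupOf.2 ha)
  simpa [Subgroup.mem_subgroupOf] using this

/-- Case of an abelian centraliser: Frobenius complement. -/
theorem complement_of_all (h : Hyp N) {x : ↥N} (hx : x ∉ Z) (hA : ¬ GInv (A x))
    (hall : ∀ g ∈ A x, g ∉ Z → Cen g = Cen x) :
    ∃ K : Subgroup Q, K.Normal ∧ K.IsComplement' (Ab x) ∧ (Nat.card K).Coprime (Nat.card (Ab x)) := by
  have hFC : Cfsg.IsFrobeniusComplement (Ab x) := by
    refine FrobeniusBasic.isFrobeniusComplement_of_ti (fun e => mk_x_ne_one hx ?_) (Ab_ne_top hx) ?_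
    · have := mk_mem_Ab.2 (self_mem_A x)
      rwa [e, Subgroup.mem_bot] at this
    intro g' u' hu' hu1 hgu
    obtain ⟨u, hu, rfl⟩ := hu'
    obtain ⟨g, rfl⟩ := QuotientGroup.mk'_surjective Z g'
    have huZ : u ∉ Z := fun e => hu1 ((QuotientGroup.eq_one_iff u).2 e)
    rw [← map_inv, ← map_mul, ← map_mul, mk_mem_Ab] at hgu
    refine mk_mem_Ab.2 (mem_A_of_normalizes h hx hA fun a ha => ?_)
    rw [← mem_A_of_cen_eq (hall u hu huZ), Subgroup.mem_centralizer_singleton_iff]
    have h1 := comm_of_all h hall hgu ha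
    calc g * a * g⁻¹ * u = g * (a * (g⁻¹ * u * g)) * g⁻¹ := by group
      _ = g * ((g⁻¹ * u * g) * a) * g⁻¹ := by rw [h1]
      _ = u * (g * a * g⁻¹) := by group
  haveI : Fintype Q := Fintype.ofFinite _
  obtain ⟨K, hKset, hKn, hKc⟩ := CharInduced.frobenius_kernel_subgroup hFC
  refine ⟨K, hKn, hKc, ?_⟩
  have := FrobeniusBasic.coprime_card_index hFC
  rw [hKc.index_eq_card] at this
  exact this.symm

/-- Case of an odd prime with trivial core: Thompson. -/
theorem complement_of_odd (h : Hyp N) {x : ↥N} (hx : x ∉ Z) (hA : ¬ GInv (A x)) {p : ℕ} [Fact p.Prime]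
    (hp2 : p ≠ 2) (hp : IsPGroup p (Ab x)) (hO : Cfsg.pCore p Q = ⊥) :
    ∃ K : Subgroup Q, K.Normal ∧ K.IsComplement' (Ab x) ∧ (Nat.card K).Coprime (Nat.card (Ab x)) := by
  obtain ⟨P, hP⟩ := exists_sylow_eq h hx hA hp
  have hxP : π x ∈ (P : Subgroup Q) := hP ▸ mk_mem_Ab.2 (self_mem_A x)
  have hxz : π x ∈ FrobeniusThompson.zOf (P : Subgroup Q) := by
    refine ⟨hxP, Subgroup.mem_centralizer_iff.2 fun v hv => ?_⟩
    rw [hP] at hv
    obtain ⟨a, ha, rfl⟩ := hv
    rw [← map_mul, ← map_mul, Subgroup.mem_centralizer_singleton_iff.1 ha]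
  have hZ : Subgroup.centralizer (FrobeniusThompson.zOf (P : Subgroup Q) : Set Q) ≤ Ab x := by
    intro v hv
    obtain ⟨n, rfl⟩ := QuotientGroup.mk'_surjective Z v
    exact mk_mem_Ab.2 (mem_A_of_mk_commute h hx hA (Subgroup.mem_centralizer_iff.1 hv _ hxz).symm)
  have hJ : Subgroup.normalizer (Cfsg.thompsonSubgroupOf p (P : Subgroup Q) : Set Q) ≤ Ab x := by
    set J := Cfsg.thompsonSubgroupOf p (P : Subgroup Q) with hJd
    have hJne : J ≠ ⊥ := by
      refine FrobeniusThompson.thompsonOf_ne_bot P.isPGroup' fun e => mk_x_ne_one hx ?_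
      rw [e, Subgroup.mem_bot] at hxP
      exact hxP
    let S : Subgroup G :=
      { carrier := {g | ∀ v : Q, quotConj g v ∈ J ↔ v ∈ J}
        one_mem' := fun v => by
          obtain ⟨n, rfl⟩ := QuotientGroup.mk'_surjective Z v
          rw [quotConj_mk]; simp
        mul_mem' := fun {a b} ha hb v => by
          obtain ⟨n, rfl⟩ := QuotientGroup.mk'_surjective Z v
          rw [quotConj_mk, map_mul, MulAut.mul_apply, ← quotConj_mk, ha, ← quotConj_mk, hb]
        inv_mem' := fun {a} ha v => by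
          obtain ⟨n, rfl⟩ := QuotientGroup.mk'_surjective Z v
          rw [← ha, quotConj_mk, quotConj_mk, ← MulAut.mul_apply, ← map_mul, mul_inv_cancel, map_one,
            MulAut.one_apply] }
    have hcS : Cen x ≤ S := by
      intro c hc v
      have hPc : (Ab x).map (quotConj c).toMonoidHom = Ab x := by
        refine Subgroup.eq_of_le_of_card_ge ?_
          (Subgroup.card_map_of_injective (K := Ab x) (quotConj c).injective).ge
        rintro _ ⟨_, ⟨a, ha, rfl⟩, rfl⟩
        refine mk_mem_Ab.2 (mem_A.2 ?_)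
        show ((MulAut.conjNormal c a : ↥N) : G) ∈ Cen x
        rw [MulAut.conjNormal_apply]
        exact Subgroup.mul_mem _ (Subgroup.mul_mem _ hc (mem_A.1 ha)) (Subgroup.inv_mem _ hc)
      have hJc : J.map (quotConj c).toMonoidHom = J := by
        rw [hJd, FrobeniusThompson.map_thompsonOf (quotConj c).toMonoidHom (P : Subgroup Q)
          ((quotConj c).injective.comp (P : Subgroup Q).subtype_injective)]
        rw [hP, hPc]
      constructor
      · intro hv
        rw [← hJc] at hv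
        obtain ⟨w, hw, he⟩ := hv
        exact (quotConj c).injective he ▸ hw
      · intro hv
        rw [← hJc]
        exact ⟨v, hv, rfl⟩
    intro v hv
    obtain ⟨n, rfl⟩ := QuotientGroup.mk'_surjective Z v
    refine mk_mem_Ab.2 (mem_A.2 ?_)
    have hnS : (n : G) ∈ S := by
      intro w
      obtain ⟨m, rfl⟩ := QuotientGroup.mk'_surjective Z w
      rw [quotConj_mk, show MulAut.conjNormal (n : G) m = n * m * n⁻¹ from
        Subtype.ext (MulAut.conjNormal_apply _ _), map_mul, map_mul, map_inv]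
      exact (Subgroup.mem_normalizer_iff.1 hv _).symm
    rcases eq_or_lt_of_le hcS with e | e
    · exact e ▸ hnS
    · exfalso
      have htop := (h x hx).2 _ e
      have hJn : J.Normal := ⟨fun w hw v => by
        obtain ⟨m, rfl⟩ := QuotientGroup.mk'_surjective Z v
        obtain ⟨u, rfl⟩ := QuotientGroup.mk'_surjective Z w
        have := ((htop.symm ▸ Subgroup.mem_top (m : G) : (m : G) ∈ S) (π u)).2 hw
        rw [quotConj_mk, show MulAut.conjNormal (m : G) u = m * u * m⁻¹ from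
          Subtype.ext (MulAut.conjNormal_apply _ _), map_mul, map_mul, map_inv] at this
        exact this⟩
      have hJp : IsPGroup p J := P.isPGroup'.to_le (Subgroup.map_subtype_le _)
      exact hJne (le_bot_iff.1 (hO ▸ HallCore.le_pCore hJp))
  obtain ⟨P', K, hKn, hKc⟩ := FrobeniusThompson.hasNormalPComplement_of_thompson hp2 P
    (TransferPResidual.hasNormalPComplement_of_isPGroup (hp.to_le hJ))
    (TransferPResidual.hasNormalPComplement_of_isPGroup (hp.to_le hZ))
  have hcK : (Nat.card K).Coprime (Nat.card (P : Subgroup Q)) := by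
    obtain ⟨a, ha⟩ := IsPGroup.iff_card.1 P.isPGroup'
    rw [ha, ← hKc.index_eq_card]
    exact ((Fact.out : p.Prime).coprime_iff_not_dvd.2 P'.not_dvd_index).symm.pow_right a
  haveI := hKn
  refine ⟨K, hKn, ?_, hP ▸ hcK⟩
  rw [← hP]
  refine Subgroup.isComplement'_of_coprime ?_ hcK
  rw [Sylow.card_eq_multiplicity P, ← Sylow.card_eq_multiplicity P', hKc.card_mul]

/-- Some self-normalising centraliser has a normal complement. -/
theorem exists_complement (h : Hyp N) (hex : ∃ x : ↥N, x ∉ Z ∧ ¬ GInv (A x)) :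
    ∃ (x : ↥N) (p : ℕ), p.Prime ∧ x ∉ Z ∧ (∃ k, orderOf x = p ^ k) ∧ ¬ GInv (A x) ∧
      ∃ K : Subgroup Q, K.Normal ∧ K.IsComplement' (Ab x) ∧ (Nat.card K).Coprime (Nat.card (Ab x)) := by
  obtain ⟨x₀, hx₀, hA₀⟩ := hex
  obtain ⟨p, j, k, hp, hx, hxk⟩ := exists_prime_part x₀ hx₀
  have hA : ¬ GInv (A (x₀ ^ j)) := fun hG => hA₀ fun g l hl => by
    rw [mem_A_of_cen_eq (cen_pow_eq h x₀ j hx)] at hl ⊢
    exact hG g l hl
  by_contra hnone
  push Not at hnone
  -- every self-normalising centraliser is an `s`-group, `s = 2` or `O_s ≠ 1`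
  have htype : ∀ (y : ↥N) (s : ℕ), s.Prime → y ∉ Z → (∃ k, orderOf y = s ^ k) → ¬ GInv (A y) →
      IsPGroup s (Ab y) ∧ (s = 2 ∨ Cfsg.pCore s Q ≠ ⊥) := by
    intro y s hs hy hys hAy
    haveI := Fact.mk hs
    rcases cases_A h hy hs hys with hc | hc
    · obtain ⟨K, hKn, hKc, hK⟩ := complement_of_all h hy hAy hc
      exact absurd hK (hnone y s hs hy hys hAy K hKn hKc)
    · refine ⟨hc, or_iff_not_imp_left.2 fun hs2 hO => ?_⟩
      obtain ⟨K, hKn, hKc, hK⟩ := complement_of_odd h hy hAy hs2 hc hO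
      exact absurd hK (hnone y s hs hy hys hAy K hKn hKc)
  -- two cores are impossible
  have hcross : ∀ (y : ↥N) (s q : ℕ), s.Prime → q.Prime → q ≠ s → y ∉ Z → (∃ k, orderOf y = s ^ k) →
      ¬ GInv (A y) → Cfsg.pCore s Q ≠ ⊥ → Cfsg.pCore q Q = ⊥ := by
    intro y s q hs hq hqs hy hys hAy hOs
    by_contra hOq
    haveI := Fact.mk hs
    haveI := Fact.mk hq
    have hys' := (htype y s hs hy hys hAy).1
    obtain ⟨P, hP⟩ := exists_sylow_eq h hy hAy hys'
    obtain ⟨r', hr', hr1⟩ := (Subgroup.bot_or_exists_ne_one _).resolve_left hOs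
    obtain ⟨k', hk', hk1⟩ := (Subgroup.bot_or_exists_ne_one _).resolve_left hOq
    obtain ⟨a, ha⟩ := isPGroup_orderOf (HallCore.isPGroup_pCore s Q) hr'
    obtain ⟨b, hb⟩ := isPGroup_orderOf (HallCore.isPGroup_pCore q Q) hk'
    obtain ⟨r, hr, hrs, hriff⟩ := lift_part hs ha hr1
    obtain ⟨w, hw, hwq, hwiff⟩ := lift_part hq hb hk1
    have hrA : r ∈ A y := mk_mem_Ab.1 (hP ▸ (HallCore.pCore_le_sylow P) ((hriff _).2 hr'))
    have hcomm : π r * π w = π w * π r :=
      (Subgroup.commute_of_normal_of_disjoint _ _ inferInstance inferInstance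
        (IsPGroup.disjoint_of_ne s q hqs.symm _ _ (HallCore.isPGroup_pCore s Q) (HallCore.isPGroup_pCore q Q))
        _ _ ((hriff _).2 hr') ((hwiff _).2 hk')).eq
    have hc := (cen_eq_of_mk_commute h hr hw hs hq hqs.symm hrs hwq hcomm).1
    have hyw : w ∈ A y := by
      have h1 : y ∈ A r := Subgroup.mem_centralizer_singleton_iff.2
        (Subgroup.mem_centralizer_singleton_iff.1 hrA).symm
      rw [mem_A_of_cen_eq hc] at h1
      exact Subgroup.mem_centralizer_singleton_iff.2 (Subgroup.mem_centralizer_singleton_iff.1 h1).symm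
    obtain ⟨c, hc'⟩ := isPGroup_orderOf hys' (mk_mem_Ab.2 hyw)
    obtain ⟨l, hl⟩ := hwq
    refine mk_x_ne_one hw (orderOf_eq_one_iff.1 (Nat.eq_one_of_dvd_coprimes
      (Nat.Coprime.pow c l ((Nat.coprime_primes hs hq).2 hqs.symm)) hc'.dvd ?_))
    rw [← hl]; exact orderOf_map_dvd _ w
  -- elements with normal centraliser lie in cores
  have hnorm : ∀ (y : ↥N) (s : ℕ), s.Prime → y ∉ Z → (∃ k, orderOf y = s ^ k) → GInv (A y) →
      π y ∈ Cfsg.pCore s Q := by
    intro y s hs hy hys hG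
    haveI := Fact.mk hs
    haveI := hG.normal
    haveI : (Ab y).Normal := Subgroup.Normal.map inferInstance _ (QuotientGroup.mk'_surjective Z)
    obtain ⟨l, hl⟩ := hys
    obtain ⟨a, -, ha⟩ := (Nat.dvd_prime_pow hs).1 (hl ▸ orderOf_map_dvd π y)
    exact mem_pCore_of_nilpotent (Ab y) (Ab_nilpotent h hy) (mk_mem_Ab.2 (self_mem_A y)) ha
  haveI := Fact.mk hp
  obtain ⟨htp, -⟩ := htype _ p hp hx ⟨k, hxk⟩ hA
  by_cases hodd : ∃ (y : ↥N) (s : ℕ), s.Prime ∧ s ≠ 2 ∧ y ∉ Z ∧ (∃ k, orderOf y = s ^ k) ∧ ¬ GInv (A y)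
  · obtain ⟨y, s, hs, hs2, hy, hys, hAy⟩ := hodd
    haveI := Fact.mk hs
    obtain ⟨hys', hO⟩ := htype y s hs hy hys hAy
    have hOs : Cfsg.pCore s Q ≠ ⊥ := hO.resolve_left hs2
    obtain ⟨P, hP⟩ := exists_sylow_eq h hy hAy hys'
    set R := Cfsg.pCore s Q with hR
    have hRp : IsPGroup s R := HallCore.isPGroup_pCore s Q
    -- another prime, necessarily `2`
    have hnsg : ¬ IsPGroup s Q := by
      intro hs'
      refine Ab_ne_top hy (hP ▸ top_le_iff.1 ?_)
      exact (P.is_maximal' (hs'.to_subgroup ⊤) le_top).le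
    obtain ⟨q, hq, hqd, hqs⟩ : ∃ q, q.Prime ∧ q ∣ Nat.card Q ∧ q ≠ s := by
      by_contra hcon
      push Not at hcon
      exact hnsg (IsPGroup.of_card (Nat.eq_prime_pow_of_unique_prime_dvd Nat.card_pos.ne'
        fun {d} hd hdd => hcon d hd hdd))
    haveI := Fact.mk hq
    obtain ⟨v, hv⟩ := exists_prime_orderOf_dvd_card' q hqd
    have hv1 : v ≠ 1 := fun e => by rw [e, orderOf_one] at hv; exact hq.ne_one hv.symm
    obtain ⟨w, hw, hwq, hwiff⟩ := lift_part hq (a := 1) (by rw [hv, pow_one]) hv1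
    have hAw : ¬ GInv (A w) := fun hG => by
      have := hnorm w q hq hw hwq hG
      rw [hcross y s q hs hq hqs hy hys hAy hOs, Subgroup.mem_bot] at this
      exact mk_x_ne_one hw this
    obtain ⟨hw', hOq⟩ := htype w q hq hw hwq hAw
    obtain rfl : q = 2 := hOq.resolve_right fun hne => hne (hcross y s q hs hq hqs hy hys hAy hOs)
    -- the involution
    obtain ⟨m, hm⟩ : ∃ m, orderOf (π w) = 2 ^ (m + 1) := by
      obtain ⟨l, hl⟩ := hwq
      obtain ⟨a, -, ha⟩ := (Nat.dvd_prime_pow hq).1 (hl ▸ orderOf_map_dvd π w)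
      rcases a with _ | a
      · exact absurd (orderOf_eq_one_iff.1 (ha.trans (pow_zero 2))) (mk_x_ne_one hw)
      · exact ⟨a, ha⟩
    set i := w ^ 2 ^ m with hi
    have hi2 : orderOf (π i) = 2 := by
      rw [hi, map_pow, orderOf_pow_of_dvd (by positivity) (hm ▸ pow_dvd_pow 2 (Nat.le_succ m)), hm,
        pow_succ, Nat.mul_div_cancel_left _ (by positivity)]
    have hiZ : i ∉ Z := fun e => by
      rw [QuotientGroup.mk'_apply, (QuotientGroup.eq_one_iff i).2 e, orderOf_one] at hi2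
      omega
    have hci := cen_pow_eq h w (2 ^ m) hiZ
    have hAi : ∀ g : ↥N, g ∈ A i ↔ g ∈ A w := fun g => (mem_A_of_cen_eq hci).symm
    have hii : π i * π i = 1 := by
      have := pow_orderOf_eq_one (π i); rwa [hi2, pow_two] at this
    have hiinv : (π i)⁻¹ = π i := inv_eq_of_mul_eq_one_right hii
    have hi2' : ∃ k, orderOf i = 2 ^ k := by
      obtain ⟨l, hl⟩ := hwq
      obtain ⟨a, -, ha⟩ := (Nat.dvd_prime_pow Nat.prime_two).1 (hl ▸ orderOf_pow_dvd (x := w) (2 ^ m))
      exact ⟨a, ha⟩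
    -- `i` is fixed point free on `R`
    have hfpf : ∀ r ∈ R, r * π i = π i * r → r = 1 := by
      intro r hr hc
      by_contra hr1
      obtain ⟨a, ha⟩ := isPGroup_orderOf hRp hr
      obtain ⟨u, hu, hus, huiff⟩ := lift_part hs ha hr1
      have hcu : π u * π i = π i * π u := by
        have := (huiff (Subgroup.centralizer {π i})).2 (Subgroup.mem_centralizer_singleton_iff.2 hc)
        exact Subgroup.mem_centralizer_singleton_iff.1 this
      have huA : u ∈ A w := (hAi u).1 (Subgroup.mem_centralizer_singleton_iff.2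
        (cen_eq_of_mk_commute h hu hiZ hs Nat.prime_two hs2 hus hi2' hcu).2)
      obtain ⟨c, hc'⟩ := isPGroup_orderOf hw' (mk_mem_Ab.2 huA)
      obtain ⟨l, hl⟩ := hus
      refine mk_x_ne_one hu (orderOf_eq_one_iff.1 (Nat.eq_one_of_dvd_coprimes
        (Nat.Coprime.pow c l ((Nat.coprime_primes Nat.prime_two hs).2 hs2.symm)) hc'.dvd ?_))
      rw [← hl]; exact orderOf_map_dvd _ u
    have hRn : R.Normal := HallCore.pCore_normal s Q
    have hinv : ∀ r ∈ R, π i * r * π i = r⁻¹ := by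
      let f : R → R := fun r => ⟨(r : Q)⁻¹ * (π i * r * (π i)⁻¹),
        R.mul_mem (R.inv_mem r.2) (hRn.conj_mem _ r.2 _)⟩
      have hf : Function.Injective f := by
        intro a b hab
        have e : (a : Q)⁻¹ * (π i * a * (π i)⁻¹) = (b : Q)⁻¹ * (π i * b * (π i)⁻¹) := congrArg Subtype.val hab
        have h2 : (b : Q) * (a : Q)⁻¹ * π i = π i * ((b : Q) * (a : Q)⁻¹) := by
          calc (b : Q) * (a : Q)⁻¹ * π i
              = (b : Q) * ((a : Q)⁻¹ * (π i * a * (π i)⁻¹)) * π i * (a : Q)⁻¹ := by group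
            _ = (b : Q) * ((b : Q)⁻¹ * (π i * b * (π i)⁻¹)) * π i * (a : Q)⁻¹ := by rw [e]
            _ = π i * ((b : Q) * (a : Q)⁻¹) := by group
        exact Subtype.ext (mul_inv_eq_one.1 (hfpf _ (R.mul_mem b.2 (R.inv_mem a.2)) h2)).symm
      intro r hr
      obtain ⟨t, ht⟩ := (Finite.injective_iff_surjective.1 hf) ⟨r, hr⟩
      have e : (t : Q)⁻¹ * (π i * t * (π i)⁻¹) = r := congrArg Subtype.val ht
      rw [← e, hiinv]
      calc π i * ((t : Q)⁻¹ * (π i * t * π i)) * π i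
          = π i * (t : Q)⁻¹ * π i * t * (π i * π i) := by group
        _ = π i * (t : Q)⁻¹ * π i * t := by rw [hii, mul_one]
        _ = _ := by simp only [mul_inv_rev, inv_inv, hiinv]; group
    -- `R` is self-centralising
    have hCR : Subgroup.centralizer (R : Set Q) ≤ R := by
      haveI : (Subgroup.centralizer (R : Set Q)).Normal := Subgroup.normal_centralizer
      refine HallCore.le_pCore ?_
      refine IsPGroup.of_card (Nat.eq_prime_pow_of_unique_prime_dvd Nat.card_pos.ne' fun {d} hd hdd => ?_)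
      by_contra hds
      haveI := Fact.mk hd
      obtain ⟨c, hc⟩ := exists_prime_orderOf_dvd_card' d hdd
      have hc0 : orderOf (c : Q) = d ^ 1 := by rw [Subgroup.orderOf_coe, hc, pow_one]
      have hc1 : (c : Q) ≠ 1 := fun e => by
        rw [e, orderOf_one, pow_one] at hc0; exact hd.ne_one hc0.symm
      obtain ⟨u, hu, hud, huiff⟩ := lift_part hd hc0 hc1
      obtain ⟨r', hr', hr1⟩ := (Subgroup.bot_or_exists_ne_one _).resolve_left hOs
      obtain ⟨a, ha⟩ := isPGroup_orderOf hRp hr'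
      obtain ⟨r, hr, hrs, hriff⟩ := lift_part hs ha hr1
      have hc2 := cen_eq_of_mk_commute h hr hu hs hd (Ne.symm hds) hrs hud
        (Subgroup.mem_centralizer_iff.1 ((huiff _).2 c.2) _ ((hriff _).2 hr'))
      by_cases hG : GInv (A r)
      · have hG' : GInv (A u) := fun g l hl => by
          rw [← mem_A_of_cen_eq hc2.1] at hl ⊢; exact hG g l hl
        have := hnorm u d hd hu hud hG'
        rw [hcross y s d hs hd hds hy hys hAy hOs, Subgroup.mem_bot] at this
        exact mk_x_ne_one hu this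
      · obtain ⟨hr'', -⟩ := htype r s hs hr hrs hG
        obtain ⟨e, he⟩ := isPGroup_orderOf hr'' (mk_mem_Ab.2
          (Subgroup.mem_centralizer_singleton_iff.2 hc2.2.symm : u ∈ A r))
        obtain ⟨l, hl⟩ := hud
        refine mk_x_ne_one hu (orderOf_eq_one_iff.1 (Nat.eq_one_of_dvd_coprimes
          (Nat.Coprime.pow e l ((Nat.coprime_primes hs hd).2 (Ne.symm hds))) he.dvd ?_))
        rw [← hl]; exact orderOf_map_dvd _ u
    -- Frattini
    have hsup : ∀ v : Q, ∃ r ∈ R, r⁻¹ * v ∈ Ab w := by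
      intro v
      set ρ := v * π i * v⁻¹ * (π i)⁻¹ with hρ
      have hρR : ρ ∈ R := by
        refine hCR (Subgroup.mem_centralizer_iff.2 fun r hr => ?_)
        have h1 : v⁻¹ * r * v ∈ R := by simpa using hRn.conj_mem r hr v⁻¹
        have h2 := hinv r hr
        have h3 := hinv _ h1
        have h4 : v * π i * v⁻¹ * r * (v * π i * v⁻¹) = r⁻¹ := by
          calc v * π i * v⁻¹ * r * (v * π i * v⁻¹) = v * (π i * (v⁻¹ * r * v) * π i) * v⁻¹ := by group
            _ = r⁻¹ := by rw [h3]; group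
        have hvv : (v * π i * v⁻¹) * (v * π i * v⁻¹) = 1 := by
          calc (v * π i * v⁻¹) * (v * π i * v⁻¹) = v * (π i * π i) * v⁻¹ := by group
            _ = 1 := by rw [hii]; group
        have h5 : π i * r = r⁻¹ * π i := by
          rw [← h2, mul_assoc (π i * r), hii, mul_one]
        have h6 : v * π i * v⁻¹ * r⁻¹ = r * (v * π i * v⁻¹) := by
          calc v * π i * v⁻¹ * r⁻¹
              = (v * π i * v⁻¹) * (v * π i * v⁻¹ * r * (v * π i * v⁻¹)) := by rw [h4]
            _ = (v * π i * v⁻¹ * (v * π i * v⁻¹)) * (r * (v * π i * v⁻¹)) := by group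
            _ = r * (v * π i * v⁻¹) := by rw [hvv, one_mul]
        rw [hρ, hiinv]
        calc r * (v * π i * v⁻¹ * π i) = r * (v * π i * v⁻¹) * π i := by group
          _ = v * π i * v⁻¹ * (r⁻¹ * π i) := by rw [← h6]; group
          _ = v * π i * v⁻¹ * π i * r := by rw [← h5]; group
      obtain ⟨a, ha⟩ := isPGroup_orderOf hRp hρR
      obtain ⟨e, he⟩ : ∃ e : ℕ, (ρ ^ e) ^ 2 = ρ := by
        obtain ⟨t, ht⟩ := Odd.pow (n := a) (hs.odd_of_ne_two hs2)
        refine ⟨t + 1, ?_⟩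
        rw [← pow_mul, show (t + 1) * 2 = (2 * t + 1) + 1 by ring, ← ht, ← ha, pow_succ,
          pow_orderOf_eq_one, one_mul]
      refine ⟨ρ ^ e, R.pow_mem hρR e, ?_⟩
      set r := ρ ^ e with hr
      have hr' : π i * r * π i = r⁻¹ := hinv r (R.pow_mem hρR e)
      have hcom : r⁻¹ * v * π i = π i * (r⁻¹ * v) := by
        have h1 : v * π i * v⁻¹ = r * r * π i := by
          rw [← pow_two, he, hρ, hiinv, mul_assoc (v * π i * v⁻¹), hii, mul_one]
        have h2 : π i * r⁻¹ = r * π i := by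
          calc π i * r⁻¹ = π i * (π i * r * π i) := by rw [hr']
            _ = (π i * π i) * (r * π i) := by group
            _ = r * π i := by rw [hii, one_mul]
        calc r⁻¹ * v * π i = r⁻¹ * (v * π i * v⁻¹) * v := by group
          _ = r * π i * v := by rw [h1]; group
          _ = π i * (r⁻¹ * v) := by rw [← h2, mul_assoc]
      obtain ⟨n, hn⟩ := QuotientGroup.mk'_surjective Z (r⁻¹ * v)
      rw [← hn] at hcom ⊢
      have hAi' : ¬ GInv (A i) := fun hG => hAw fun g l hl => (hAi _).1 (hG g l ((hAi l).2 hl))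
      exact mk_mem_Ab.2 ((hAi n).1 (mem_A_of_mk_commute h hiZ hAi' hcom))
    -- `R` is the Sylow subgroup
    have hPR : (P : Subgroup Q) = R := by
      refine le_antisymm (fun v hv => ?_) (HallCore.pCore_le_sylow P)
      obtain ⟨r, hr, hrv⟩ := hsup v
      have hrv' : r⁻¹ * v ∈ (P : Subgroup Q) := mul_mem (inv_mem (HallCore.pCore_le_sylow P hr)) hv
      have h1 : r⁻¹ * v = 1 := Subgroup.disjoint_def.1
        (IsPGroup.disjoint_of_ne s 2 hs2 _ _ P.isPGroup' hw') hrv' hrv
      rw [inv_mul_eq_one] at h1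
      exact h1 ▸ hr
    refine Ab_ne_top hy (top_le_iff.1 fun v _ => mem_Ab_of_normalizes h hy hAy fun a ha => ?_)
    rw [← hP, hPR] at ha ⊢
    exact hRn.conj_mem a ha v
  · push Not at hodd
    obtain rfl : p = 2 := by
      by_contra hne
      exact hA (hodd _ p hp hne hx ⟨k, hxk⟩)
    obtain ⟨P, hP⟩ := exists_sylow_eq h hx hA htp
    set K := Cfsg.pPrimeCore 2 Q with hK
    have hKcop : (Nat.card K).Coprime 2 := HallCore.coprime_card_pPrimeCore 2 Q
    have hKp : (Nat.card K).Coprime (Nat.card (Ab (x₀ ^ j))) := by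
      obtain ⟨a, ha⟩ := IsPGroup.iff_card.1 htp
      rw [ha]; exact hKcop.pow_right a
    refine hnone _ 2 hp hx ⟨k, hxk⟩ hA K (HallCore.pPrimeCore_normal 2 Q) ?_ hKp
    refine Subgroup.isComplement'_of_coprime ?_ hKp
    refine Nat.dvd_antisymm (Nat.Coprime.mul_dvd_of_dvd_of_dvd hKp (Subgroup.card_subgroup_dvd_card _)
      (Subgroup.card_subgroup_dvd_card _)) ?_
    refine Nat.dvd_iff_prime_pow_dvd_dvd _ _ |>.2 fun q e hq hqe => ?_
    haveI := Fact.mk hq
    rcases eq_or_ne q 2 with rfl | hq2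
    · refine Dvd.dvd.mul_left ?_ _
      rw [← hP]
      exact Sylow.pow_dvd_card_of_pow_dvd_card P hqe
    · refine Dvd.dvd.mul_right ?_ _
      have S : Sylow q Q := default
      have hSK : (S : Subgroup Q) ≤ K := by
        intro v hv
        rcases eq_or_ne v 1 with rfl | hv1
        · exact K.one_mem
        obtain ⟨a, ha⟩ := isPGroup_orderOf S.isPGroup' hv
        obtain ⟨u, hu, ⟨l, hl⟩, huiff⟩ := lift_part hq ha hv1
        refine (huiff K).1 ?_
        have h1 := hnorm u q hq hu ⟨l, hl⟩ (hodd u q hq hq2 hu ⟨l, hl⟩)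
        refine HallCore.le_pPrimeCore ?_ h1
        obtain ⟨c, hc⟩ := IsPGroup.iff_card.1 (HallCore.isPGroup_pCore q Q)
        rw [hc]
        exact ((Nat.coprime_primes hq Nat.prime_two).2 hq2).pow_left c
      exact (Sylow.pow_dvd_card_of_pow_dvd_card S hqe).trans (Subgroup.card_dvd_of_le hSK)

end Cfsg.Agent.CentralizerMax69
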