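import Mathlib
import Cfsg.Prelude.Def_BaumannBlocks

set_option autoImplicit false

/-!
The Chermak–Delgado measure `|R| · |C(R)|` and centrally large subgroups.
-/

namespace Cfsg.Agent.ChermakDelgado

open Subgroup Pointwise

variable {G : Type*} [Group G]

/-! ### Products of two subgroups -/

theorem card_mul_card_eq [Finite G] (A B : Subgroup G) :
    Nat.card ↥A * Nat.card ↥B
      = Nat.card ↥(A ⊓ B : Subgroup G) * Nat.card ↥((A : Set G) * (B : Set G)) := by
  classical
  have hch : ∀ y : ↥((A : Set G) * (B : Set G)), ∃ ab : ↥A × ↥B, (ab.1 : G) * (ab.2 : G) = y := by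
    rintro ⟨y, hy⟩
    obtain ⟨a, ha, b, hb, rfl⟩ := Set.mem_mul.1 hy
    exact ⟨(⟨a, ha⟩, ⟨b, hb⟩), rfl⟩
  choose f hf using hch
  rw [← Nat.card_prod, ← Nat.card_prod]
  refine (Nat.card_eq_of_bijective (fun z : ↥(A ⊓ B : Subgroup G) × ↥((A : Set G) * (B : Set G)) =>
    ((⟨((f z.2).1 : G) * z.1, mul_mem (f z.2).1.2 z.1.2.1⟩ : ↥A),
      (⟨(z.1 : G)⁻¹ * ((f z.2).2 : G), mul_mem (B.inv_mem z.1.2.2) (f z.2).2.2⟩ : ↥B))) ⟨?_, ?_⟩).symm
  · rintro ⟨d, y⟩ ⟨d', y'⟩ h
    have h1 : ((f y).1 : G) * d = ((f y').1 : G) * d' := congrArg (fun w => (w.1 : G)) h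
    have h2 : (d : G)⁻¹ * ((f y).2 : G) = (d' : G)⁻¹ * ((f y').2 : G) :=
      congrArg (fun w => (w.2 : G)) h
    have hy : y = y' := by
      apply Subtype.ext
      calc (y : G) = (((f y).1 : G) * d) * ((d : G)⁻¹ * ((f y).2 : G)) := by rw [← hf y]; group
        _ = (((f y').1 : G) * d') * ((d' : G)⁻¹ * ((f y').2 : G)) := by rw [h1, h2]
        _ = y' := by rw [← hf y']; group
    subst hy
    obtain rfl : d = d' := Subtype.ext (mul_left_cancel h1)
    rfl
  · rintro ⟨a, b⟩
    set y : ↥((A : Set G) * (B : Set G)) :=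
      ⟨(a : G) * b, Set.mem_mul.2 ⟨a, a.2, b, b.2, rfl⟩⟩ with hy
    have hfy : ((f y).1 : G) * (f y).2 = (a : G) * b := hf y
    refine ⟨(⟨((f y).1 : G)⁻¹ * a, ?_⟩, y), ?_⟩
    · refine ⟨mul_mem (A.inv_mem (f y).1.2) a.2, ?_⟩
      have : ((f y).1 : G)⁻¹ * a = ((f y).2 : G) * (b : G)⁻¹ := by
        rw [inv_mul_eq_iff_eq_mul, ← mul_assoc, hfy, mul_inv_cancel_right]
      rw [this]
      exact B.mul_mem (f y).2.2 (B.inv_mem b.2)
    · apply Prod.ext
      · apply Subtype.ext; simp
      · apply Subtype.ext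
        simp [mul_assoc, hfy]

theorem mul_subset_sup (A B : Subgroup G) : (A : Set G) * (B : Set G) ⊆ ((A ⊔ B : Subgroup G) : Set G) := by
  rintro _ ⟨a, ha, b, hb, rfl⟩
  exact mul_mem_sup ha hb

theorem card_mul_le_card_sup [Finite G] (A B : Subgroup G) :
    Nat.card ↥((A : Set G) * (B : Set G)) ≤ Nat.card ↥(A ⊔ B : Subgroup G) :=
  Nat.card_mono (Set.toFinite _) (mul_subset_sup A B)

theorem coe_sup_eq_mul_of_card_le [Finite G] {A B : Subgroup G}
    (h : Nat.card ↥(A ⊔ B : Subgroup G) ≤ Nat.card ↥((A : Set G) * (B : Set G))) :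
    ((A ⊔ B : Subgroup G) : Set G) = (A : Set G) * (B : Set G) := by
  refine (Set.eq_of_subset_of_ncard_le (mul_subset_sup A B) ?_).symm
  rwa [← Nat.card_coe_set_eq, ← Nat.card_coe_set_eq]

theorem centralizer_sup_eq (A B : Subgroup G) :
    centralizer ((A ⊔ B : Subgroup G) : Set G) = centralizer (A : Set G) ⊓ centralizer (B : Set G) := by
  refine le_antisymm (le_inf (centralizer_le (SetLike.coe_subset_coe.2 le_sup_left))
    (centralizer_le (SetLike.coe_subset_coe.2 le_sup_right))) ?_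
  rw [sup_eq_closure, centralizer_closure]
  intro g hg x hx
  rcases hx with h | h
  · exact hg.1 x h
  · exact hg.2 x h

theorem le_centralizer_centralizer (A : Subgroup G) :
    A ≤ centralizer ((centralizer (A : Set G) : Subgroup G) : Set G) := fun _ ha _ hg =>
  (hg _ ha).symm

theorem map_centralizer_conj (A : Subgroup G) (g : G) :
    (centralizer (A : Set G)).map (MulAut.conj g).toMonoidHom
      = centralizer ((A.map (MulAut.conj g).toMonoidHom : Subgroup G) : Set G) := by
  ext y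
  constructor
  · rintro ⟨c, hc, rfl⟩ _ ⟨a, ha, rfl⟩
    exact (congrArg (MulAut.conj g).toMonoidHom (hc a ha) : _) |> fun e => by simpa [map_mul] using e
  · intro hy
    refine ⟨g⁻¹ * y * g, fun a ha => ?_, by simp [mul_assoc]⟩
    have := congrArg (MulAut.conj g⁻¹).toMonoidHom (hy _ ⟨a, ha, rfl⟩)
    simpa [mul_assoc] using this

/-! ### The measure `|R| |C(R)|` -/

/-- `|R| * |C(R)|` -/
noncomputable def cdm (R : Subgroup G) : ℕ :=
  Nat.card ↥R * Nat.card ↥(centralizer (R : Set G))

variable [Finite G]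

theorem cdm_pos (R : Subgroup G) : 0 < cdm R := Nat.mul_pos Nat.card_pos Nat.card_pos

theorem cdm_le_max (R : Subgroup G) : cdm R ≤ Cfsg.maxCentralizerProduct G :=
  le_csSup (Set.finite_range cdm).bddAbove ⟨R, rfl⟩

theorem exists_large (G : Type*) [Group G] [Finite G] :
    ∃ R : Subgroup G, Cfsg.IsCentralizerLarge R := by
  have h : Cfsg.maxCentralizerProduct G ∈ Set.range (cdm (G := G)) :=
    Nat.sSup_mem (Set.range_nonempty _) (Set.finite_range cdm).bddAbove
  obtain ⟨R, hR⟩ := h
  exact ⟨R, hR⟩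

theorem large_iff {R : Subgroup G} :
    Cfsg.IsCentralizerLarge R ↔ Cfsg.maxCentralizerProduct G ≤ cdm R :=
  ⟨fun h => h.ge, fun h => le_antisymm (cdm_le_max R) h⟩

theorem cdm_le_cdm_centralizer (R : Subgroup G) : cdm R ≤ cdm (centralizer (R : Set G)) := by
  unfold cdm
  rw [mul_comm]
  exact Nat.mul_le_mul_left _ (card_le_of_le (le_centralizer_centralizer R))

theorem large_centralizer {R : Subgroup G} (h : Cfsg.IsCentralizerLarge R) :
    Cfsg.IsCentralizerLarge (centralizer (R : Set G)) :=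
  large_iff.2 ((large_iff.1 h).trans (cdm_le_cdm_centralizer R))

theorem centralizer_centralizer_eq {R : Subgroup G} (h : Cfsg.IsCentralizerLarge R) :
    centralizer ((centralizer (R : Set G) : Subgroup G) : Set G) = R := by
  refine (eq_of_le_of_card_ge (le_centralizer_centralizer R) ?_).symm
  have h1 : cdm (centralizer (R : Set G)) = cdm R := (large_centralizer h).trans h.symm
  unfold cdm at h1
  rw [mul_comm] at h1
  exact (Nat.eq_of_mul_eq_mul_right Nat.card_pos h1).le

theorem cdm_mul_cdm_le (A B : Subgroup G) :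
    cdm A * cdm B ≤ cdm (A ⊔ B) * cdm (A ⊓ B) := by
  have h1 := card_mul_card_eq A B
  have h2 := card_mul_card_eq (centralizer (A : Set G)) (centralizer (B : Set G))
  have h3 := card_mul_le_card_sup A B
  have h4 := (card_mul_le_card_sup (centralizer (A : Set G)) (centralizer (B : Set G))).trans
    (card_le_of_le (K := centralizer ((A ⊓ B : Subgroup G) : Set G))
      (sup_le (centralizer_le (SetLike.coe_subset_coe.2 inf_le_left))
      (centralizer_le (SetLike.coe_subset_coe.2 inf_le_right))))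
  rw [← centralizer_sup_eq] at h2
  unfold cdm
  calc _ = (Nat.card ↥A * Nat.card ↥B) *
        (Nat.card ↥(centralizer (A : Set G)) * Nat.card ↥(centralizer (B : Set G))) := by ring
    _ ≤ (Nat.card ↥(A ⊓ B : Subgroup G) * Nat.card ↥(A ⊔ B : Subgroup G)) *
        (Nat.card ↥(centralizer ((A ⊔ B : Subgroup G) : Set G)) *
          Nat.card ↥(centralizer ((A ⊓ B : Subgroup G) : Set G))) := by
        rw [h1, h2]; gcongr
    _ = _ := by ring

section lattice

variable {A B : Subgroup G} (hA : Cfsg.IsCentralizerLarge A) (hB : Cfsg.IsCentralizerLarge B)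
include hA hB

theorem large_sup_inf : Cfsg.IsCentralizerLarge (A ⊔ B) ∧ Cfsg.IsCentralizerLarge (A ⊓ B) := by
  have h := cdm_mul_cdm_le A B
  rw [show cdm A = _ from hA, show cdm B = _ from hB] at h
  have hs := cdm_le_max (A ⊔ B)
  have hi := cdm_le_max (A ⊓ B)
  have h0 : 0 < Cfsg.maxCentralizerProduct G := (cdm_pos A).trans_le (cdm_le_max A)
  constructor <;> apply large_iff.2 <;> nlinarith

theorem large_card_eqs : ((A ⊔ B : Subgroup G) : Set G) = (A : Set G) * (B : Set G) ∧
    centralizer ((A ⊓ B : Subgroup G) : Set G)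
      = centralizer (A : Set G) ⊔ centralizer (B : Set G) ∧
    ((centralizer (A : Set G) ⊔ centralizer (B : Set G) : Subgroup G) : Set G)
      = (centralizer (A : Set G) : Set G) * (centralizer (B : Set G) : Set G) := by
  obtain ⟨hs, hi⟩ := large_sup_inf hA hB
  have h1 := card_mul_card_eq A B
  have h2 := card_mul_card_eq (centralizer (A : Set G)) (centralizer (B : Set G))
  have h3 := card_mul_le_card_sup A B
  have h4 := card_mul_le_card_sup (centralizer (A : Set G)) (centralizer (B : Set G))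
  have hle : centralizer (A : Set G) ⊔ centralizer (B : Set G)
      ≤ centralizer ((A ⊓ B : Subgroup G) : Set G) :=
    sup_le (centralizer_le (SetLike.coe_subset_coe.2 inf_le_left))
      (centralizer_le (SetLike.coe_subset_coe.2 inf_le_right))
  have h5 := card_le_of_le hle
  rw [← centralizer_sup_eq] at h2
  have heq : cdm A * cdm B = cdm (A ⊔ B) * cdm (A ⊓ B) := by
    rw [show cdm A = _ from hA, show cdm B = _ from hB, show cdm (A ⊔ B) = _ from hs,
      show cdm (A ⊓ B) = _ from hi]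
  unfold cdm at heq
  set s := Nat.card ↥((A : Set G) * (B : Set G))
  set t := Nat.card ↥((centralizer (A : Set G) : Set G) * (centralizer (B : Set G) : Set G))
  set S := Nat.card ↥(A ⊔ B : Subgroup G)
  set T := Nat.card ↥(centralizer ((A ⊓ B : Subgroup G) : Set G))
  set i := Nat.card ↥(A ⊓ B : Subgroup G)
  set j := Nat.card ↥(centralizer ((A ⊔ B : Subgroup G) : Set G))
  have hst : s * t = S * T := by
    have h6 : (i * j) * (s * t) = (i * j) * (S * T) := by
      calc (i * j) * (s * t) = (i * s) * (j * t) := by ring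
        _ = _ := by rw [← h1, ← h2]
        _ = (S * j) * (i * T) := by rw [← heq]; ring
        _ = _ := by ring
    exact Nat.eq_of_mul_eq_mul_left (Nat.mul_pos Nat.card_pos Nat.card_pos) h6
  have htT : t ≤ T := h4.trans h5
  have hS0 : 0 < S := Nat.card_pos
  have hT0 : 0 < T := Nat.card_pos
  have hsS : S ≤ s := by nlinarith
  have hTt : T ≤ t := by nlinarith
  refine ⟨coe_sup_eq_mul_of_card_le hsS, (eq_of_le_of_card_ge hle (hTt.trans h4)).symm,
    coe_sup_eq_mul_of_card_le (h5.trans hTt)⟩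

end lattice

/-- The join of all members of largest measure is normal and of largest measure. -/
theorem exists_top_large (G : Type*) [Group G] [Finite G] :
    ∃ T : Subgroup G, Cfsg.IsCentralizerLarge T ∧ T.Normal ∧
      ∀ R : Subgroup G, Cfsg.IsCentralizerLarge R → R ≤ T := by
  obtain ⟨R₀, hR₀⟩ := exists_large G
  obtain ⟨T, hT⟩ := Set.Finite.exists_maximal
    (Set.toFinite {R : Subgroup G | Cfsg.IsCentralizerLarge R}) ⟨R₀, hR₀⟩
  have hle : ∀ R : Subgroup G, Cfsg.IsCentralizerLarge R → R ≤ T := fun R hR =>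
    le_sup_right.trans (hT.2 (large_sup_inf hT.1 hR).1 le_sup_left)
  refine ⟨T, hT.1, ⟨fun n hn g => ?_⟩, hle⟩
  refine hle (T.map (MulAut.conj g).toMonoidHom) ?_ ⟨n, hn, by simp⟩
  show cdm _ = _
  unfold cdm
  rw [← map_centralizer_conj, card_map_of_injective (MulAut.conj g).injective,
    card_map_of_injective (MulAut.conj g).injective]
  exact hT.1

theorem large_map_conj {R : Subgroup G} (h : Cfsg.IsCentralizerLarge R) (g : G) :
    Cfsg.IsCentralizerLarge (R.map (MulAut.conj g).toMonoidHom) := by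
  show cdm _ = _
  unfold cdm
  rw [← map_centralizer_conj, card_map_of_injective (MulAut.conj g).injective,
    card_map_of_injective (MulAut.conj g).injective]
  exact h

/-! ### Centrally large subgroups -/

/-- `|R| * |Z(R)|`, with `Z(R) = R ⊓ C(R)`. -/
noncomputable def cem (R : Subgroup G) : ℕ :=
  Nat.card ↥R * Nat.card ↥(R ⊓ centralizer (R : Set G) : Subgroup G)

omit [Finite G] in
theorem map_center_eq (R : Subgroup G) :
    (center ↥R).map R.subtype = R ⊓ centralizer (R : Set G) := by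
  ext y
  constructor
  · rintro ⟨z, hz, rfl⟩
    exact ⟨z.2, fun x hx => congrArg Subtype.val (mem_center_iff.1 hz ⟨x, hx⟩)⟩
  · rintro ⟨hy, hc⟩
    exact ⟨⟨y, hy⟩, mem_center_iff.2 fun x => Subtype.ext (hc x x.2), rfl⟩

omit [Finite G] in
theorem card_center_eq (R : Subgroup G) :
    Nat.card ↥(center ↥R) = Nat.card ↥(R ⊓ centralizer (R : Set G) : Subgroup G) := by
  rw [← map_center_eq, card_map_of_injective R.subtype_injective]

theorem cem_le_cdm (R : Subgroup G) : cem R ≤ cdm R :=
  Nat.mul_le_mul_left _ (card_le_of_le inf_le_right)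

theorem maxCentralProduct_eq (G : Type*) [Group G] [Finite G] :
    Cfsg.maxCentralProduct G = Cfsg.maxCentralizerProduct G := by
  have hset : {k : ℕ | ∃ R : Subgroup G, Nat.card ↥R * Nat.card ↥(center ↥R) = k}
      = Set.range (cem (G := G)) := by
    ext k
    simp [cem, card_center_eq]
  unfold Cfsg.maxCentralProduct
  rw [hset]
  refine le_antisymm (csSup_le (Set.range_nonempty _) ?_) ?_
  · rintro _ ⟨R, rfl⟩
    exact (cem_le_cdm R).trans (cdm_le_max R)
  · obtain ⟨R, hR⟩ := exists_large G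
    have hs := (large_sup_inf hR (large_centralizer hR)).1
    refine le_trans ?_ (le_csSup (Set.finite_range cem).bddAbove
      ⟨R ⊔ centralizer (R : Set G), rfl⟩)
    rw [← show cdm _ = _ from hs]
    refine Nat.mul_le_mul_left _ (card_le_of_le (le_inf ?_ le_rfl))
    exact (centralizer_le (SetLike.coe_subset_coe.2 le_sup_left)).trans le_sup_right

theorem centrallyLarge_iff {R : Subgroup G} :
    Cfsg.IsCentrallyLarge R ↔ Cfsg.IsCentralizerLarge R ∧ centralizer (R : Set G) ≤ R := by
  unfold Cfsg.IsCentrallyLarge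
  rw [card_center_eq, maxCentralProduct_eq]
  constructor
  · intro h
    have hl : Cfsg.IsCentralizerLarge R := large_iff.2 (h.ge.trans (cem_le_cdm R))
    refine ⟨hl, ?_⟩
    have h1 : cem R = cdm R := h.trans hl.symm
    exact inf_eq_right.1 (eq_of_le_of_card_ge inf_le_right
      (Nat.eq_of_mul_eq_mul_left Nat.card_pos h1).ge)
  · rintro ⟨hl, hc⟩
    rw [inf_eq_right.2 hc]
    exact hl

theorem centrallyLarge_of_le {R : Subgroup G}
    (h : Cfsg.maxCentralizerProduct G ≤ cem R) : Cfsg.IsCentrallyLarge R := by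
  unfold Cfsg.IsCentrallyLarge
  rw [card_center_eq, maxCentralProduct_eq]
  exact le_antisymm ((cem_le_cdm R).trans (cdm_le_max R)) h

theorem centrallyLarge_sup {Q R : Subgroup G} (hQ : Cfsg.IsCentrallyLarge Q)
    (hR : Cfsg.IsCentrallyLarge R) : Cfsg.IsCentrallyLarge (Q ⊔ R) := by
  rw [centrallyLarge_iff] at *
  refine ⟨(large_sup_inf hQ.1 hR.1).1, ?_⟩
  exact (centralizer_le (SetLike.coe_subset_coe.2 le_sup_left)).trans (hQ.2.trans le_sup_left)

theorem centrallyLarge_sSup {S : Set (Subgroup G)} (hne : S.Nonempty)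
    (hS : ∀ R ∈ S, Cfsg.IsCentrallyLarge R) : Cfsg.IsCentrallyLarge (sSup S) := by
  refine Set.Finite.induction_on_subset
    (motive := fun T _ => T.Nonempty → Cfsg.IsCentrallyLarge (sSup T)) S (Set.toFinite S)
    (fun h => absurd h Set.not_nonempty_empty) ?_ hne
  intro a T haS _ _ ih _
  rw [sSup_insert]
  rcases T.eq_empty_or_nonempty with h | h
  · rw [h, sSup_empty, sup_bot_eq]
    exact hS a haS
  · exact centrallyLarge_sup (hS a haS) (ih h)

theorem exists_centrallyLarge (G : Type*) [Group G] [Finite G] :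
    ∃ R : Subgroup G, Cfsg.IsCentrallyLarge R := by
  obtain ⟨R, hR⟩ := exists_large G
  refine ⟨R ⊔ centralizer (R : Set G), centrallyLarge_iff.2
    ⟨(large_sup_inf hR (large_centralizer hR)).1, ?_⟩⟩
  exact (centralizer_le (SetLike.coe_subset_coe.2 le_sup_left)).trans le_sup_right

theorem exists_minimalCentrallyLarge_le {R : Subgroup G} (hR : Cfsg.IsCentrallyLarge R) :
    ∃ Q : Subgroup G, Q ≤ R ∧ Cfsg.IsMinimalCentrallyLarge Q := by
  obtain ⟨Q, hQ⟩ := Set.Finite.exists_minimal
    (Set.toFinite {Q : Subgroup G | Q ≤ R ∧ Cfsg.IsCentrallyLarge Q}) ⟨R, le_rfl, hR⟩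
  refine ⟨Q, hQ.1.1, hQ.1.2, fun Q' hle hQ' => ?_⟩
  exact le_antisymm hle (hQ.2 ⟨hle.trans hQ.1.1, hQ'⟩ hle)

theorem centrallyLargeJoin_cl (G : Type*) [Group G] [Finite G] :
    Cfsg.IsCentrallyLarge (Cfsg.centrallyLargeJoin G) := by
  obtain ⟨R, hR⟩ := exists_centrallyLarge G
  exact centrallyLarge_sSup ⟨R, hR⟩ fun _ h => h

theorem minimalCentrallyLargeJoin_cl (G : Type*) [Group G] [Finite G] :
    Cfsg.IsCentrallyLarge (Cfsg.minimalCentrallyLargeJoin G) := by
  obtain ⟨R, hR⟩ := exists_centrallyLarge G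
  obtain ⟨Q, _, hQ⟩ := exists_minimalCentrallyLarge_le hR
  exact centrallyLarge_sSup ⟨Q, hQ⟩ fun _ h => h.1

end Cfsg.Agent.ChermakDelgado
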