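import Mathlib
import Cfsg.Agent.Lib.ChermakDelgado

set_option autoImplicit false

/-!
Minimal centrally large subgroups, their interaction with abelian subgroups of largest order,
and a replacement theorem for them.
-/

namespace Cfsg.Agent.CentrallyLarge

open Subgroup Pointwise commutatorElement Cfsg.Agent.ChermakDelgado

variable {G : Type*} [Group G]

theorem comm_of_isMulCommutative {A : Subgroup G} (h : IsMulCommutative ↥A) {a b : G} (ha : a ∈ A)
    (hb : b ∈ A) : a * b = b * a :=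
  congrArg Subtype.val (mul_comm' (⟨a, ha⟩ : ↥A) ⟨b, hb⟩)

theorem isMulCommutative_of_le_centralizer {A : Subgroup G} (h : A ≤ centralizer (A : Set G)) :
    IsMulCommutative ↥A :=
  ⟨⟨fun a b => Subtype.ext (h b.2 a a.2)⟩⟩

theorem le_centralizer_of_isMulCommutative {A : Subgroup G} (h : IsMulCommutative ↥A) :
    A ≤ centralizer (A : Set G) := fun _ ha _ hb => comm_of_isMulCommutative h hb ha

theorem mem_mul_comm {A B : Subgroup G}
    (h : ((A ⊔ B : Subgroup G) : Set G) = (A : Set G) * (B : Set G)) {y : G} (hy : y ∈ A ⊔ B) :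
    y ∈ (B : Set G) * (A : Set G) := by
  have h1 : y⁻¹ ∈ ((A ⊔ B : Subgroup G) : Set G) := inv_mem hy
  rw [h] at h1
  obtain ⟨a, ha, b, hb, he⟩ := Set.mem_mul.1 h1
  refine Set.mem_mul.2 ⟨b⁻¹, inv_mem hb, a⁻¹, inv_mem ha, ?_⟩
  rw [← mul_inv_rev, he, inv_inv]

/-! ### Itô's lemma -/

theorem conj_commutator_comm {A B : Subgroup G} (hA : IsMulCommutative ↥A)
    (hB : IsMulCommutative ↥B)
    (hAB : ((A ⊔ B : Subgroup G) : Set G) = (A : Set G) * (B : Set G))
    {a a₁ b b₁ : G} (ha : a ∈ A) (ha₁ : a₁ ∈ A) (hb : b ∈ B) (hb₁ : b₁ ∈ B) :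
    a₁ * (b₁ * (a * b * a⁻¹ * b⁻¹) * b₁⁻¹) * a₁⁻¹
      = b₁ * (a₁ * (a * b * a⁻¹ * b⁻¹) * a₁⁻¹) * b₁⁻¹ := by
  have h1 : b₁ * a * b₁⁻¹ ∈ ((A ⊔ B : Subgroup G) : Set G) :=
    mul_mem (mul_mem (mem_sup_right hb₁) (mem_sup_left ha)) (inv_mem (mem_sup_right hb₁))
  rw [hAB] at h1
  obtain ⟨a₂, ha₂, b₂, hb₂, e2⟩ := Set.mem_mul.1 h1
  obtain ⟨b₃, hb₃, a₃, ha₃, e3⟩ := Set.mem_mul.1 (mem_mul_comm hAB
    (show a₁ * b * a₁⁻¹ ∈ A ⊔ B from
      mul_mem (mul_mem (mem_sup_left ha₁) (mem_sup_right hb)) (inv_mem (mem_sup_left ha₁))))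
  have cA : ∀ x ∈ A, ∀ y ∈ A, Commute x y := fun x hx y hy => comm_of_isMulCommutative hA hx hy
  have cB : ∀ x ∈ B, ∀ y ∈ B, Commute x y := fun x hx y hy => comm_of_isMulCommutative hB hx hy
  have keyA : ∀ x ∈ A, a₁ * (x * b * x⁻¹ * b⁻¹) * a₁⁻¹ = x * b₃ * x⁻¹ * b₃⁻¹ := by
    intro x hx
    have h : a₁ * x * a₁⁻¹ = x := by
      rw [(cA a₁ ha₁ x hx).eq, mul_inv_cancel_right]
    calc a₁ * (x * b * x⁻¹ * b⁻¹) * a₁⁻¹
        = (a₁ * x * a₁⁻¹) * (a₁ * b * a₁⁻¹) * (a₁ * x * a₁⁻¹)⁻¹ * (a₁ * b * a₁⁻¹)⁻¹ := by group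
      _ = x * (b₃ * a₃) * x⁻¹ * (b₃ * a₃)⁻¹ := by rw [h, ← e3]
      _ = x * b₃ * (a₃ * x⁻¹) * a₃⁻¹ * b₃⁻¹ := by group
      _ = x * b₃ * (x⁻¹ * a₃) * a₃⁻¹ * b₃⁻¹ := by rw [((cA a₃ ha₃ x hx).inv_right).eq]
      _ = x * b₃ * x⁻¹ * b₃⁻¹ := by group
  have keyB : ∀ y ∈ B, b₁ * (a * y * a⁻¹ * y⁻¹) * b₁⁻¹ = a₂ * y * a₂⁻¹ * y⁻¹ := by
    intro y hy
    have h : b₁ * y * b₁⁻¹ = y := by
      rw [(cB b₁ hb₁ y hy).eq, mul_inv_cancel_right]
    calc b₁ * (a * y * a⁻¹ * y⁻¹) * b₁⁻¹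
        = (b₁ * a * b₁⁻¹) * (b₁ * y * b₁⁻¹) * (b₁ * a * b₁⁻¹)⁻¹ * (b₁ * y * b₁⁻¹)⁻¹ := by group
      _ = (a₂ * b₂) * y * (a₂ * b₂)⁻¹ * y⁻¹ := by rw [h, ← e2]
      _ = a₂ * (b₂ * y) * b₂⁻¹ * a₂⁻¹ * y⁻¹ := by group
      _ = a₂ * (y * b₂) * b₂⁻¹ * a₂⁻¹ * y⁻¹ := by rw [(cB b₂ hb₂ y hy).eq]
      _ = a₂ * y * a₂⁻¹ * y⁻¹ := by group
  rw [keyB b hb, keyA a₂ ha₂, keyA a ha, keyB b₃ hb₃]

/-- For commutative `A`, `B` whose product is a subgroup, the commutators `[a, b]` commute. -/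
theorem commute_commutators {A B : Subgroup G} (hA : IsMulCommutative ↥A) (hB : IsMulCommutative ↥B)
    (hAB : ((A ⊔ B : Subgroup G) : Set G) = (A : Set G) * (B : Set G))
    {a a₁ b b₁ : G} (ha : a ∈ A) (ha₁ : a₁ ∈ A) (hb : b ∈ B) (hb₁ : b₁ ∈ B) :
    Commute (a₁ * b₁ * a₁⁻¹ * b₁⁻¹) (a * b * a⁻¹ * b⁻¹) := by
  have h := conj_commutator_comm hA hB hAB ha (inv_mem ha₁) hb (inv_mem hb₁)
  show _ = _
  generalize a * b * a⁻¹ * b⁻¹ = u at h ⊢
  calc a₁ * b₁ * a₁⁻¹ * b₁⁻¹ * u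
      = a₁ * b₁ * (a₁⁻¹ * (b₁⁻¹ * u * b₁⁻¹⁻¹) * a₁⁻¹⁻¹) * a₁⁻¹ * b₁⁻¹ := by group
    _ = a₁ * b₁ * (b₁⁻¹ * (a₁⁻¹ * u * a₁⁻¹⁻¹) * b₁⁻¹⁻¹) * a₁⁻¹ * b₁⁻¹ := by rw [h]
    _ = u * (a₁ * b₁ * a₁⁻¹ * b₁⁻¹) := by group

/-! ### Abelian subgroups of largest order -/

variable [Finite G]

theorem exists_maxAbelian (G : Type*) [Group G] [Finite G] :
    (Cfsg.maxAbelianSubgroups G).Nonempty := by
  obtain ⟨A, hA, hmax⟩ := Set.exists_max_image {A : Subgroup G | IsMulCommutative ↥A}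
    (fun A => Nat.card ↥A) (Set.toFinite _)
    ⟨⊥, isMulCommutative_of_le_centralizer bot_le⟩
  exact ⟨A, hA, hmax⟩

theorem centralizer_maxAbelian {A : Subgroup G} (hA : A ∈ Cfsg.maxAbelianSubgroups G) :
    centralizer (A : Set G) = A := by
  have hle := le_centralizer_of_isMulCommutative hA.1
  refine le_antisymm (fun y hy => ?_) hle
  have hcomm : IsMulCommutative ↥(closure ((A : Set G) ∪ {y})) := by
    refine isMulCommutative_closure ?_
    rintro u (hu | rfl) v (hv | rfl)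
    · exact comm_of_isMulCommutative hA.1 hu hv
    · exact hy u hu
    · exact (hy v hv).symm
    · rfl
  have hle' : A ≤ closure ((A : Set G) ∪ {y}) := fun u hu => subset_closure (Or.inl hu)
  have := eq_of_le_of_card_ge hle' (hA.2 _ hcomm)
  exact this ▸ subset_closure (Or.inr rfl)

/-- A centrally large subgroup times an abelian subgroup of largest order. -/
theorem sup_maxAbelian {Q A : Subgroup G} (hQ : Cfsg.IsCentrallyLarge Q)
    (hA : A ∈ Cfsg.maxAbelianSubgroups G) :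
    Cfsg.IsCentrallyLarge (Q ⊔ A) ∧ ((Q ⊔ A : Subgroup G) : Set G) = (Q : Set G) * (A : Set G) ∧
      (Q ⊔ A) ⊓ centralizer ((Q ⊓ A : Subgroup G) : Set G) = centralizer (Q : Set G) ⊔ A ∧
      ((centralizer (Q : Set G) ⊔ A : Subgroup G) : Set G)
        = (centralizer (Q : Set G) : Set G) * (A : Set G) := by
  obtain ⟨hQl, hQc⟩ := centrallyLarge_iff.1 hQ
  have hCA := centralizer_maxAbelian hA
  set Z := centralizer (Q : Set G) with hZ
  have hZc : IsMulCommutative ↥Z := isMulCommutative_of_le_centralizer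
    (centralizer_le (SetLike.coe_subset_coe.2 hQc))
  have hDA : Q ⊓ A ≤ A := inf_le_right
  have hZD : IsMulCommutative ↥(Z ⊔ Q ⊓ A : Subgroup G) := by
    rw [sup_eq_closure]
    refine isMulCommutative_closure ?_
    rintro u (hu | hu) v (hv | hv)
    · exact comm_of_isMulCommutative hZc hu hv
    · exact (hu v hv.1).symm
    · exact hv u hu.1
    · exact comm_of_isMulCommutative hA.1 hu.2 hv.2
  have hZinf : Z ⊓ (Q ⊓ A) = Z ⊓ A := by
    rw [← inf_assoc, inf_eq_left.2 hQc]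
  have hCX : centralizer ((Q ⊔ A : Subgroup G) : Set G) = Z ⊓ A := by
    rw [centralizer_sup_eq, hCA]
  have h1 := card_mul_card_eq Q A
  have h2 := card_mul_card_eq Z (Q ⊓ A)
  rw [hZinf] at h2
  have h3 := card_mul_le_card_sup Q A
  have h4 := card_mul_le_card_sup Z (Q ⊓ A)
  have h5 := hA.2 _ hZD
  have hmax := cdm_le_max (Q ⊔ A)
  have hQmax : Nat.card ↥Q * Nat.card ↥Z = Cfsg.maxCentralizerProduct G := hQl
  unfold cdm at hmax
  rw [hCX] at hmax
  set d := Nat.card ↥(Q ⊓ A : Subgroup G)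
  set w := Nat.card ↥(Z ⊓ A : Subgroup G)
  set X := Nat.card ↥(Q ⊔ A : Subgroup G)
  set s := Nat.card ↥((Q : Set G) * (A : Set G))
  set t := Nat.card ↥((Z : Set G) * ((Q ⊓ A : Subgroup G) : Set G))
  set T := Nat.card ↥(Z ⊔ Q ⊓ A : Subgroup G)
  set a := Nat.card ↥A
  set q := Nat.card ↥Q
  set z := Nat.card ↥Z
  set M := Cfsg.maxCentralizerProduct G
  have hd : 0 < d := Nat.card_pos
  have hw : 0 < w := Nat.card_pos
  have hq : 0 < q := Nat.card_pos
  -- X w d ≥ s w d = q a w ≥ q t w = q z d = M d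
  have c1 : d * (s * w) ≤ d * (X * w) := by gcongr
  have c2 : q * (T * w) ≤ q * (a * w) := by gcongr
  have c3 : q * (t * w) ≤ q * (T * w) := by gcongr
  have c4 : d * (s * w) = q * (a * w) := by rw [← mul_assoc, ← h1, mul_assoc]
  have c5 : q * (t * w) = d * M := by
    rw [← hQmax, mul_comm t w, ← h2]; ring
  have c6 : d * (X * w) ≤ d * M := Nat.mul_le_mul_left _ hmax
  have hXs : X ≤ s := Nat.le_of_mul_le_mul_right
    (Nat.le_of_mul_le_mul_left (by omega : d * (X * w) ≤ d * (s * w)) hd) hw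
  have haT : a ≤ T := Nat.le_of_mul_le_mul_right
    (Nat.le_of_mul_le_mul_left (by omega : q * (a * w) ≤ q * (T * w)) hq) hw
  have hTt : T ≤ t := Nat.le_of_mul_le_mul_right
    (Nat.le_of_mul_le_mul_left (by omega : q * (T * w) ≤ q * (t * w)) hq) hw
  have hXM : M ≤ X * w := Nat.le_of_mul_le_mul_left (by omega : d * M ≤ d * (X * w)) hd
  have hset := coe_sup_eq_mul_of_card_le hXs
  have hset' := coe_sup_eq_mul_of_card_le hTt
  have hmaxZD : (Z ⊔ Q ⊓ A : Subgroup G) ∈ Cfsg.maxAbelianSubgroups G :=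
    ⟨hZD, fun B hB => (hA.2 B hB).trans haT⟩
  have hCZD := centralizer_maxAbelian hmaxZD
  have hCL : Cfsg.IsCentrallyLarge (Q ⊔ A) := by
    refine centrallyLarge_iff.2 ⟨large_iff.2 ?_, ?_⟩
    · unfold cdm; rw [hCX]; exact hXM
    · rw [hCX]; exact inf_le_right.trans le_sup_right
  have hsub : ((Q ⊔ A) ⊓ centralizer ((Q ⊓ A : Subgroup G) : Set G) : Subgroup G)
      ≤ Z ⊔ A ∧ ∀ y ∈ (Q ⊔ A) ⊓ centralizer ((Q ⊓ A : Subgroup G) : Set G),
        y ∈ (Z : Set G) * (A : Set G) := by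
    suffices h : ∀ y ∈ (Q ⊔ A) ⊓ centralizer ((Q ⊓ A : Subgroup G) : Set G),
        y ∈ (Z : Set G) * (A : Set G) from ⟨fun y hy => mul_subset_sup Z A (h y hy), h⟩
    rintro y ⟨hy, hyc⟩
    have hy : y ∈ ((Q ⊔ A : Subgroup G) : Set G) := hy
    rw [hset] at hy
    obtain ⟨q', hq', a', ha', rfl⟩ := Set.mem_mul.1 hy
    have hq'c : q' ∈ centralizer ((Z ⊔ Q ⊓ A : Subgroup G) : Set G) := by
      rw [centralizer_sup_eq]
      refine ⟨fun v hv => (hv q' hq').symm, ?_⟩
      have ha'c : a' ∈ centralizer ((Q ⊓ A : Subgroup G) : Set G) := fun v hv =>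
        comm_of_isMulCommutative hA.1 hv.2 ha'
      have := Subgroup.mul_mem _ hyc (Subgroup.inv_mem _ ha'c)
      rwa [mul_inv_cancel_right] at this
    rw [hCZD] at hq'c
    have hq'm : q' ∈ ((Z ⊔ Q ⊓ A : Subgroup G) : Set G) := hq'c
    rw [hset'] at hq'm
    obtain ⟨z', hz', d', hd', rfl⟩ := Set.mem_mul.1 hq'm
    exact Set.mem_mul.2 ⟨z', hz', d' * a', mul_mem hd'.2 ha', (mul_assoc _ _ _).symm⟩
  have hZA : (Z ⊔ A : Subgroup G) ≤ (Q ⊔ A) ⊓ centralizer ((Q ⊓ A : Subgroup G) : Set G) :=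
    sup_le (le_inf (hQc.trans le_sup_left) (centralizer_le (SetLike.coe_subset_coe.2 inf_le_left)))
      (le_inf le_sup_right fun a' ha' v hv => comm_of_isMulCommutative hA.1 hv.2 ha')
  refine ⟨hCL, hset, le_antisymm hsub.1 hZA, ?_⟩
  exact Set.Subset.antisymm (fun y hy => hsub.2 y (hZA hy)) (mul_subset_sup Z A)

theorem thompsonSubgroupA_le_sup {Q : Subgroup G} (hQ : Cfsg.IsCentrallyLarge Q) :
    centralizer ((Cfsg.thompsonSubgroupA G ⊓ centralizer (Cfsg.thompsonSubgroupA G : Set G) :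
      Subgroup G) : Set G) ≤ Q ⊔ Cfsg.thompsonSubgroupA G := by
  obtain ⟨A, hA⟩ := exists_maxAbelian G
  set J := Cfsg.thompsonSubgroupA G with hJ
  set S := (fun B => Q ⊔ B) '' Cfsg.maxAbelianSubgroups G with hS
  have hL : Cfsg.IsCentrallyLarge (sSup S) := by
    refine centrallyLarge_sSup ⟨_, A, hA, rfl⟩ ?_
    rintro _ ⟨B, hB, rfl⟩
    exact (sup_maxAbelian hQ hB).1
  have hSJ : sSup S ≤ Q ⊔ J := by
    refine sSup_le ?_
    rintro _ ⟨B, hB, rfl⟩
    exact sup_le_sup_left (le_sSup hB) _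
  have hJS : J ≤ sSup S := sSup_le fun B hB => le_sup_right.trans (le_sSup ⟨B, hB, rfl⟩)
  refine le_trans ?_ hSJ
  obtain ⟨hLl, hLc⟩ := centrallyLarge_iff.1 hL
  conv_rhs => rw [← centralizer_centralizer_eq hLl]
  refine centralizer_le (SetLike.coe_subset_coe.2 ?_)
  have h1 : centralizer ((sSup S : Subgroup G) : Set G) ≤ centralizer (J : Set G) :=
    centralizer_le (SetLike.coe_subset_coe.2 hJS)
  refine le_inf (h1.trans ?_) h1
  have hAJ : A ≤ J := le_sSup hA
  calc centralizer (J : Set G) ≤ centralizer (A : Set G) :=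
        centralizer_le (SetLike.coe_subset_coe.2 hAJ)
    _ = A := centralizer_maxAbelian hA
    _ ≤ J := hAJ

/-! ### Minimal centrally large subgroups -/

section minimal

variable {Q R : Subgroup G} (hQ : Cfsg.IsMinimalCentrallyLarge Q)
  (hR : Cfsg.IsMinimalCentrallyLarge R)
include hQ hR

/-- `Q = (Q ∩ R) Z(Q)` as sets. -/
theorem minimal_eq_mul : (Q ⊓ R) ⊔ centralizer (Q : Set G) = Q ∧
    (Q : Set G) = ((Q ⊓ R : Subgroup G) : Set G) * (centralizer (Q : Set G) : Set G) := by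
  obtain ⟨hQl, hQc⟩ := centrallyLarge_iff.1 hQ.1
  obtain ⟨hRl, hRc⟩ := centrallyLarge_iff.1 hR.1
  have hW := (large_sup_inf hQl hRl).2
  obtain ⟨-, hCW, hCWset⟩ := large_card_eqs hQl hRl
  have hK := (large_sup_inf hW (large_centralizer hQl)).1
  have hKQ : (Q ⊓ R) ⊔ centralizer (Q : Set G) ≤ Q := sup_le inf_le_left hQc
  have hKc : centralizer (((Q ⊓ R) ⊔ centralizer (Q : Set G) : Subgroup G) : Set G)
      ≤ (Q ⊓ R) ⊔ centralizer (Q : Set G) := by
    rw [centralizer_sup_eq, centralizer_centralizer_eq hQl, hCW]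
    rintro y ⟨hy, hyQ⟩
    have hy' : y ∈ ((centralizer (Q : Set G) ⊔ centralizer (R : Set G) : Subgroup G) : Set G) := hy
    rw [hCWset] at hy'
    obtain ⟨c, hc, c', hc', rfl⟩ := Set.mem_mul.1 hy'
    have hc'Q : c' ∈ Q := by
      have := mul_mem (inv_mem (hQc hc)) hyQ
      rwa [inv_mul_cancel_left] at this
    exact mul_mem (mem_sup_right hc) (mem_sup_left (show c' ∈ Q ⊓ R from ⟨hc'Q, hRc hc'⟩))
  have heq := hQ.2 _ hKQ (centrallyLarge_iff.2 ⟨hK, hKc⟩)
  refine ⟨heq, ?_⟩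
  conv_lhs => rw [← heq]
  exact (large_card_eqs hW (large_centralizer hQl)).1

theorem minimal_commutator_eq : ⁅Q, Q⁆ = ⁅Q ⊓ R, Q ⊓ R⁆ := by
  obtain ⟨-, hQset⟩ := minimal_eq_mul hQ hR
  refine le_antisymm (commutator_le.2 fun u hu v hv => ?_)
    (commutator_mono inf_le_left inf_le_left)
  have hu' : u ∈ (Q : Set G) := hu
  have hv' : v ∈ (Q : Set G) := hv
  rw [hQset] at hu' hv'
  obtain ⟨w, hw, z, hz, rfl⟩ := Set.mem_mul.1 hu'
  obtain ⟨w', hw', z', hz', rfl⟩ := Set.mem_mul.1 hv'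
  have hQc := (centrallyLarge_iff.1 hQ.1).2
  have hzv : Commute z (w' * z') := (hz _ hv).symm
  have hz'w : Commute z' w := (hz' w hw.1).symm
  have e : ⁅w * z, w' * z'⁆ = ⁅w, w'⁆ := by
    rw [commutatorElement_def, commutatorElement_def]
    calc w * z * (w' * z') * (w * z)⁻¹ * (w' * z')⁻¹
        = w * (z * (w' * z')) * z⁻¹ * w⁻¹ * (w' * z')⁻¹ := by group
      _ = w * ((w' * z') * z) * z⁻¹ * w⁻¹ * (w' * z')⁻¹ := by rw [hzv.eq]
      _ = w * w' * (z' * w⁻¹) * z'⁻¹ * w'⁻¹ := by group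
      _ = w * w' * (w⁻¹ * z') * z'⁻¹ * w'⁻¹ := by rw [hz'w.inv_right.eq]
      _ = w * w' * w⁻¹ * w'⁻¹ := by group
  rw [e]
  exact commutator_mem_commutator hw hw'

theorem minimal_card_eq : Nat.card ↥Q = Nat.card ↥R ∧
    Nat.card ↥(centralizer (Q : Set G)) = Nat.card ↥(centralizer (R : Set G)) := by
  obtain ⟨-, hQset⟩ := minimal_eq_mul hQ hR
  obtain ⟨-, hRset⟩ := minimal_eq_mul hR hQ
  rw [inf_comm] at hRset
  have hinf : ∀ S : Subgroup G, Q ⊓ R ≤ S →
      (S : Set G) = ((Q ⊓ R : Subgroup G) : Set G) * (centralizer (S : Set G) : Set G) →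
      (Q ⊓ R) ⊓ centralizer (S : Set G)
        = (Q ⊓ R) ⊓ centralizer ((Q ⊓ R : Subgroup G) : Set G) := by
    intro S hS hset
    refine le_antisymm (inf_le_inf_left _ (centralizer_le (SetLike.coe_subset_coe.2 hS))) ?_
    rintro y ⟨hy, hyc⟩
    refine ⟨hy, fun v hv => ?_⟩
    rw [hset] at hv
    obtain ⟨w, hw, z, hz, rfl⟩ := Set.mem_mul.1 hv
    have h1 : Commute w y := hyc w hw
    have h2 : Commute z y := (hz y (hS hy)).symm
    exact (h1.mul_left h2).eq
  have hQ' := card_mul_card_eq (Q ⊓ R) (centralizer (Q : Set G))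
  have hR' := card_mul_card_eq (Q ⊓ R) (centralizer (R : Set G))
  rw [hinf Q inf_le_left hQset, ← hQset] at hQ'
  rw [hinf R inf_le_right hRset, ← hRset] at hR'
  have hmQ : Nat.card ↥Q * Nat.card ↥(centralizer (Q : Set G))
      = Nat.card ↥R * Nat.card ↥(centralizer (R : Set G)) :=
    (centrallyLarge_iff.1 hQ.1).1.trans (centrallyLarge_iff.1 hR.1).1.symm
  simp only [SetLike.coe_sort_coe] at hQ' hR'
  set w := Nat.card ↥(Q ⊓ R : Subgroup G)
  set i := Nat.card ↥((Q ⊓ R) ⊓ centralizer ((Q ⊓ R : Subgroup G) : Set G) : Subgroup G)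
  set q := Nat.card ↥Q
  set r := Nat.card ↥R
  set a := Nat.card ↥(centralizer (Q : Set G))
  set b := Nat.card ↥(centralizer (R : Set G))
  have hi : 0 < i := Nat.card_pos
  have hw : 0 < w := Nat.card_pos
  have ha : 0 < a := Nat.card_pos
  have hb : 0 < b := Nat.card_pos
  -- w a = i q, w b = i r
  have h1 : i * (w * a * a) = i * (w * b * b) := by
    calc i * (w * a * a) = i * (i * q * a) := by rw [hQ']
      _ = i * (i * (q * a)) := by ring
      _ = i * (i * (r * b)) := by rw [hmQ]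
      _ = i * (i * r * b) := by ring
      _ = _ := by rw [hR']
  have h2 : a * a = b * b := by
    have := Nat.eq_of_mul_eq_mul_left hi h1
    rw [mul_assoc, mul_assoc] at this
    exact Nat.eq_of_mul_eq_mul_left hw this
  have hab : a = b := Nat.mul_self_inj.1 h2
  exact ⟨Nat.eq_of_mul_eq_mul_right ha (by rw [hmQ, hab]), hab⟩

end minimal

theorem minimal_iff_maxAbelian {Q : Subgroup G} (hQ : Cfsg.IsMinimalCentrallyLarge Q)
    (hab : IsMulCommutative ↥Q) (X : Subgroup G) :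
    Cfsg.IsMinimalCentrallyLarge X ↔ X ∈ Cfsg.maxAbelianSubgroups G := by
  obtain ⟨hQl, hQc⟩ := centrallyLarge_iff.1 hQ.1
  have hCQ : centralizer (Q : Set G) = Q :=
    le_antisymm hQc (le_centralizer_of_isMulCommutative hab)
  have hmax : Nat.card ↥Q * Nat.card ↥Q = Cfsg.maxCentralizerProduct G := by
    have h : Nat.card ↥Q * Nat.card ↥(centralizer (Q : Set G)) = _ := hQl
    rwa [hCQ] at h
  have hbound : ∀ B : Subgroup G, IsMulCommutative ↥B → Nat.card ↥B ≤ Nat.card ↥Q := by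
    intro B hB
    have := cdm_le_max B
    rw [← hmax] at this
    refine Nat.mul_self_le_mul_self_iff.1 (le_trans ?_ this)
    exact Nat.mul_le_mul_left _ (card_le_of_le (le_centralizer_of_isMulCommutative hB))
  constructor
  · intro hX
    have hXab : IsMulCommutative ↥X := by
      apply isMulCommutative_of_le_centralizer
      intro u hu v hv
      have h : ⁅v, u⁆ ∈ ⁅X, X⁆ := commutator_mem_commutator hv hu
      rw [minimal_commutator_eq hX hQ, inf_comm, ← minimal_commutator_eq hQ hX] at h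
      have hz : ⁅Q, Q⁆ = ⊥ :=
        (commutator_eq_bot_iff_le_centralizer).2 (le_centralizer_of_isMulCommutative hab)
      rw [hz, mem_bot] at h
      exact commutatorElement_eq_one_iff_mul_comm.1 h
    refine ⟨hXab, fun B hB => ?_⟩
    rw [(minimal_card_eq hX hQ).1]
    exact hbound B hB
  · intro hX
    have hcard : Nat.card ↥X = Nat.card ↥Q := le_antisymm (hbound X hX.1) (hX.2 Q hab)
    have hcl : Cfsg.IsCentrallyLarge X := by
      refine centrallyLarge_iff.2 ⟨large_iff.2 ?_, (centralizer_maxAbelian hX).le⟩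
      unfold cdm
      rw [centralizer_maxAbelian hX, hcard, hmax]
    refine ⟨hcl, fun X' hle hX' => eq_of_le_of_card_ge hle ?_⟩
    obtain ⟨hX'l, hX'c⟩ := centrallyLarge_iff.1 hX'
    have h1 : centralizer (X' : Set G) ≤ X' := hX'c
    have h2 : Nat.card ↥Q * Nat.card ↥Q ≤ Nat.card ↥X' * Nat.card ↥X' := by
      rw [hmax, ← show cdm X' = _ from hX'l]
      exact Nat.mul_le_mul_left _ (card_le_of_le h1)
    exact hcard.le.trans (Nat.mul_self_le_mul_self_iff.1 h2)

/-! ### The replacement theorem -/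

/-- `x * b * x⁻¹ * b⁻¹` -/
def ucomm (x b : G) : G := x * b * x⁻¹ * b⁻¹

omit [Finite G] in
theorem ucomm_mul (x b d : G) : ucomm x (b * d) = ucomm x b * (b * ucomm x d * b⁻¹) := by
  unfold ucomm; group

/-- The replacement of `B` by `x`. -/
def repl (x : G) (B : Subgroup G) : Subgroup G :=
  closure (ucomm x '' (B : Set G)) ⊔
    (B ⊓ centralizer ((closure (ucomm x '' (B : Set G)) : Subgroup G) : Set G))

/-- Weight along the upper central series. -/
noncomputable def weight (n : ℕ) (B : Subgroup G) : ℕ :=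
  ∑ i ∈ Finset.range (n + 1), Nat.card ↥(B ⊓ Subgroup.upperCentralSeries G i : Subgroup G)

theorem replacement {B : Subgroup G} (hB : IsMulCommutative ↥B) {x : G}
    (hM : ∀ b ∈ B, ∀ b' ∈ B, Commute (ucomm x b) (ucomm x b'))
    (hx : x ∉ normalizer (B : Set G)) {n : ℕ} (hn : Subgroup.upperCentralSeries G n = ⊤) :
    IsMulCommutative ↥(repl x B) ∧ Nat.card ↥B ≤ Nat.card ↥(repl x B) ∧
      weight n B < weight n (repl x B) := by
  classical
  set M := closure (ucomm x '' (B : Set G)) with hMdef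
  set C := B ⊓ centralizer (M : Set G) with hC
  have hrepl : repl x B = M ⊔ C := rfl
  rw [hrepl]
  have hMab : IsMulCommutative ↥M := by
    refine isMulCommutative_closure ?_
    rintro _ ⟨b, hb, rfl⟩ _ ⟨b', hb', rfl⟩
    exact hM b hb b' hb'
  have hMC : IsMulCommutative ↥(M ⊔ C : Subgroup G) := by
    rw [sup_eq_closure]
    refine isMulCommutative_closure ?_
    rintro u (hu | hu) v (hv | hv)
    · exact comm_of_isMulCommutative hMab hu hv
    · exact hv.2 u hu
    · exact (hu.2 v hv).symm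
    · exact comm_of_isMulCommutative hB hu.1 hv.1
  have hMBC : M ⊓ B ≤ C :=
    le_inf inf_le_right (inf_le_left.trans (le_centralizer_of_isMulCommutative hMab))
  set Z := Subgroup.upperCentralSeries G with hZdef
  have hmono : ∀ i, Z i ≤ Z (i + 1) := fun i => Subgroup.upperCentralSeries_mono G (Nat.le_succ i)
  have hu : ∀ i, ∀ b ∈ B, b ∈ Z (i + 1) → ucomm x b ∈ M ⊓ Z i := by
    intro i b hb hbi
    refine ⟨subset_closure ⟨b, hb, rfl⟩, ?_⟩
    have := inv_mem (Subgroup.mem_upperCentralSeries_succ_iff.1 hbi x)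
    have e : ucomm x b = ⁅b, x⁆⁻¹ := by
      rw [ucomm, commutatorElement_def]; group
    rw [e]; exact this
  have hd : ∀ b ∈ B, ∀ d ∈ B, (ucomm x b)⁻¹ * ucomm x (b * d) ∈ B → d ∈ C := by
    intro b hb d hd hmem
    have hud : ucomm x d ∈ B := by
      rw [ucomm_mul, inv_mul_cancel_left] at hmem
      have := mul_mem (mul_mem (inv_mem hb) hmem) hb
      simpa [mul_assoc] using this
    refine ⟨hd, ?_⟩
    show d ∈ centralizer (M : Set G)
    rw [hMdef, centralizer_closure]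
    rintro _ ⟨a, ha, rfl⟩
    have h1 : ucomm x (a * d) = ucomm x a * ucomm x d := by
      rw [ucomm_mul]
      congr 1
      rw [comm_of_isMulCommutative hB ha hud, mul_inv_cancel_right]
    have h2 : ucomm x (d * a) = ucomm x d * (d * ucomm x a * d⁻¹) := ucomm_mul x d a
    rw [comm_of_isMulCommutative hB hd ha, h1, (hM a ha d hd).eq] at h2
    have h3 : ucomm x a = d * ucomm x a * d⁻¹ := mul_left_cancel h2
    rw [eq_mul_inv_iff_mul_eq] at h3
    exact h3
  let q : ℕ → ℕ := fun i => Nat.card ↥(M ⊓ B ⊓ Z i : Subgroup G)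
  let m : ℕ → ℕ := fun i => Nat.card ↥(M ⊓ Z i : Subgroup G)
  let c : ℕ → ℕ := fun i => Nat.card ↥(C ⊓ Z i : Subgroup G)
  let b : ℕ → ℕ := fun i => Nat.card ↥(B ⊓ Z i : Subgroup G)
  let s : ℕ → ℕ := fun i => Nat.card ↥((M ⊔ C) ⊓ Z i : Subgroup G)
  -- B ∩ Z (i+1) modulo C embeds in M ∩ Z i modulo B
  have hinj : ∀ i, b (i + 1) * q i ≤ m i * c (i + 1) := by
    intro i
    set Bi := B ⊓ Z (i + 1) with hBi
    set Ci := C ⊓ Z (i + 1) with hCi
    set Mi := M ⊓ Z i with hMi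
    set Qi := M ⊓ B ⊓ Z i with hQi
    have hCB : Ci ≤ Bi := inf_le_inf_right _ inf_le_left
    have hQM : Qi ≤ Mi := inf_le_inf_right _ inf_le_left
    let f : ↥Bi ⧸ Ci.subgroupOf Bi → ↥Mi ⧸ Qi.subgroupOf Mi := fun t =>
      QuotientGroup.mk ⟨ucomm x (t.out : G), hu i _ t.out.2.1 t.out.2.2⟩
    have hf : Function.Injective f := by
      intro t t' h
      rw [← QuotientGroup.out_eq' t, ← QuotientGroup.out_eq' t', QuotientGroup.eq]
      have h' := QuotientGroup.eq.1 h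
      set a := (t.out : G) with ha
      set a' := (t'.out : G) with ha'
      show a⁻¹ * a' ∈ C ⊓ Z (i + 1)
      refine ⟨hd a t.out.2.1 _ (B.mul_mem (B.inv_mem t.out.2.1) t'.out.2.1) ?_,
        (Z (i + 1)).mul_mem ((Z (i + 1)).inv_mem t.out.2.2) t'.out.2.2⟩
      rw [mul_inv_cancel_left]
      exact h'.1.2
    have h1 := Nat.card_le_card_of_injective f hf
    have e1 := card_eq_card_quotient_mul_card_subgroup (Ci.subgroupOf Bi)
    have e2 := card_eq_card_quotient_mul_card_subgroup (Qi.subgroupOf Mi)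
    rw [Nat.card_congr (subgroupOfEquivOfLe hCB).toEquiv] at e1
    rw [Nat.card_congr (subgroupOfEquivOfLe hQM).toEquiv] at e2
    show Nat.card ↥Bi * Nat.card ↥Qi ≤ Nat.card ↥Mi * Nat.card ↥Ci
    rw [e1, e2]
    calc _ = Nat.card (↥Bi ⧸ Ci.subgroupOf Bi) * (Nat.card ↥Ci * Nat.card ↥Qi) := by ring
      _ ≤ Nat.card (↥Mi ⧸ Qi.subgroupOf Mi) * (Nat.card ↥Ci * Nat.card ↥Qi) :=
          Nat.mul_le_mul_right _ h1
      _ = _ := by ring
  -- monotonicity of [M ∩ Z i : M ∩ B ∩ Z i]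
  have hratio : ∀ i, m i * q (i + 1) ≤ m (i + 1) * q i := by
    intro i
    have h1 := card_mul_card_eq (M ⊓ Z i) (M ⊓ B ⊓ Z (i + 1))
    have hinf : (M ⊓ Z i) ⊓ (M ⊓ B ⊓ Z (i + 1)) = M ⊓ B ⊓ Z i :=
      le_antisymm (fun y hy => ⟨⟨hy.1.1, hy.2.1.2⟩, hy.1.2⟩)
        (fun y hy => ⟨⟨hy.1.1, hy.2⟩, ⟨hy.1, hmono i hy.2⟩⟩)
    rw [hinf] at h1
    have h2 := (card_mul_le_card_sup (M ⊓ Z i) (M ⊓ B ⊓ Z (i + 1))).trans
      (card_le_of_le (K := M ⊓ Z (i + 1))
        (sup_le (inf_le_inf_left _ (hmono i)) (inf_le_inf_right _ inf_le_left)))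
    show Nat.card _ * Nat.card _ ≤ Nat.card _ * Nat.card _
    rw [h1, mul_comm (Nat.card ↥(M ⊓ Z (i + 1) : Subgroup G))]
    exact Nat.mul_le_mul_left _ h2
  have hprod : ∀ i, m i * c i ≤ q i * s i := by
    intro i
    have h1 := card_mul_card_eq (M ⊓ Z i) (C ⊓ Z i)
    have hinf : (M ⊓ Z i) ⊓ (C ⊓ Z i) = M ⊓ B ⊓ Z i :=
      le_antisymm (fun y hy => ⟨⟨hy.1.1, hy.2.1.1⟩, hy.1.2⟩)
        (fun y hy => ⟨⟨hy.1.1, hy.2⟩, ⟨hMBC hy.1, hy.2⟩⟩)
    rw [hinf] at h1
    have h2 := (card_mul_le_card_sup (M ⊓ Z i) (C ⊓ Z i)).trans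
      (card_le_of_le (K := (M ⊔ C) ⊓ Z i)
        (sup_le (inf_le_inf_right _ le_sup_left) (inf_le_inf_right _ le_sup_right)))
    show Nat.card _ * Nat.card _ ≤ Nat.card _ * Nat.card _
    rw [h1]
    exact Nat.mul_le_mul_left _ h2
  have hqpos : ∀ i, 0 < q i := fun i => Nat.card_pos
  have hZn : Z n = ⊤ := hn
  have hle : ∀ i, b i ≤ s i := by
    intro i
    rcases i with _ | i
    · have h0 : b 0 ≤ 1 := by
        refine (card_le_of_le (K := (⊥ : Subgroup G)) ?_).trans (card_bot).le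
        rw [hZdef, Subgroup.upperCentralSeries_zero]; exact inf_le_right
      exact h0.trans Nat.card_pos
    · refine Nat.le_of_mul_le_mul_left ?_ (Nat.mul_pos (hqpos i) (hqpos (i + 1)))
      calc q i * q (i + 1) * b (i + 1) = (b (i + 1) * q i) * q (i + 1) := by ring
        _ ≤ (m i * c (i + 1)) * q (i + 1) := Nat.mul_le_mul_right _ (hinj i)
        _ = (m i * q (i + 1)) * c (i + 1) := by ring
        _ ≤ (m (i + 1) * q i) * c (i + 1) := Nat.mul_le_mul_right _ (hratio i)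
        _ = q i * (m (i + 1) * c (i + 1)) := by ring
        _ ≤ q i * (q (i + 1) * s (i + 1)) := Nat.mul_le_mul_left _ (hprod (i + 1))
        _ = _ := by ring
  refine ⟨hMC, ?_, ?_⟩
  · have h : Nat.card ↥(B ⊓ Z n : Subgroup G) ≤ Nat.card ↥((M ⊔ C) ⊓ Z n : Subgroup G) := hle n
    rwa [hZn, inf_top_eq, inf_top_eq] at h
  · have hsum : weight n B = ∑ i ∈ Finset.range (n + 1), b i := rfl
    have hsum' : weight n (M ⊔ C) = ∑ i ∈ Finset.range (n + 1), s i := rfl
    rw [hsum, hsum']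
    refine Finset.sum_lt_sum (fun i _ => hle i) ?_
    by_contra hno
    push Not at hno
    have heq : ∀ i ≤ n, b i = s i := fun i hi =>
      le_antisymm (hle i) (hno i (Finset.mem_range.2 (Nat.lt_succ_of_le hi)))
    have hmq : ∀ i ≤ n, m i ≤ q i := by
      intro i hi
      induction i with
      | zero =>
        refine card_le_of_le ?_
        rw [hZdef, Subgroup.upperCentralSeries_zero]
        simp
      | succ i ih =>
        have hmi : m i = q i := le_antisymm (ih (by omega))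
          (card_le_of_le (inf_le_inf_right _ inf_le_left))
        refine Nat.le_of_mul_le_mul_left ?_ (Nat.mul_pos (hqpos i) (Nat.card_pos : 0 < c (i + 1)))
        calc q i * c (i + 1) * m (i + 1) = q i * (m (i + 1) * c (i + 1)) := by ring
          _ ≤ q i * (q (i + 1) * s (i + 1)) := Nat.mul_le_mul_left _ (hprod (i + 1))
          _ = (b (i + 1) * q i) * q (i + 1) := by rw [heq (i + 1) hi]; ring
          _ ≤ (m i * c (i + 1)) * q (i + 1) := Nat.mul_le_mul_right _ (hinj i)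
          _ = q i * c (i + 1) * q (i + 1) := by rw [hmi]
    have hMB : M ≤ B := by
      have h : Nat.card ↥(M ⊓ Z n : Subgroup G) ≤ Nat.card ↥(M ⊓ B ⊓ Z n : Subgroup G) := hmq n le_rfl
      rw [hZn, inf_top_eq, inf_top_eq] at h
      exact inf_eq_left.1 (eq_of_le_of_card_ge inf_le_left h)
    refine hx (mem_normalizer_iff_map_conj_eq.2 (eq_of_le_of_card_ge ?_
      (card_map_of_injective (MulAut.conj x).injective).ge))
    rintro _ ⟨a, ha, rfl⟩
    have : ucomm x a * a ∈ B := mul_mem (hMB (subset_closure ⟨a, ha, rfl⟩)) ha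
    simpa [ucomm] using this

/-- Some minimal centrally large subgroup is normalized by `J(P)` and by all the others. -/
theorem exists_normalized [Group.IsNilpotent G] : ∃ Q : Subgroup G, Cfsg.IsMinimalCentrallyLarge Q ∧
    Cfsg.thompsonSubgroupA G ≤ normalizer (Q : Set G) ∧
    Cfsg.minimalCentrallyLargeJoin G ≤ normalizer (Q : Set G) := by
  obtain ⟨n, hn⟩ := Group.IsNilpotent.nilpotent (G := G)
  obtain ⟨R₀, hR₀⟩ := exists_centrallyLarge G
  obtain ⟨Q₀, _, hQ₀⟩ := exists_minimalCentrallyLarge_le hR₀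
  obtain ⟨Q, hQ, hmaxw⟩ := Set.exists_max_image
    {Q : Subgroup G | Cfsg.IsMinimalCentrallyLarge Q}
    (fun Q => weight n (centralizer (Q : Set G))) (Set.toFinite _) ⟨Q₀, hQ₀⟩
  obtain ⟨hQl, hQc⟩ := centrallyLarge_iff.1 hQ.1
  set B := centralizer (Q : Set G) with hBdef
  have hB : IsMulCommutative ↥B := isMulCommutative_of_le_centralizer
    (centralizer_le (SetLike.coe_subset_coe.2 hQc))
  have key : ∀ x, (∀ b ∈ B, ∀ b' ∈ B, Commute (ucomm x b) (ucomm x b')) →
      x ∈ normalizer (Q : Set G) := by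
    intro x hM
    set R := Q.map (MulAut.conj x).toMonoidHom with hRdef
    have hRc : centralizer (R : Set G) = B.map (MulAut.conj x).toMonoidHom :=
      (map_centralizer_conj Q x).symm
    have hxB : x ∈ normalizer (B : Set G) := by
      by_contra hx
      have hRl : Cfsg.IsCentralizerLarge R := large_map_conj hQl x
      have hRcl : Cfsg.IsMinimalCentrallyLarge R := by
        refine ⟨centrallyLarge_iff.2 ⟨hRl, ?_⟩, fun R' hle hR' => ?_⟩
        · rw [hRc]; exact map_mono hQc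
        · obtain ⟨Q', hQ'le, hQ'⟩ := exists_minimalCentrallyLarge_le hR'
          refine eq_of_le_of_card_ge hle ?_
          rw [hRdef, card_map_of_injective (MulAut.conj x).injective, (minimal_card_eq hQ hQ').1]
          exact card_le_of_le hQ'le
      obtain ⟨hQW, hQWset⟩ := minimal_eq_mul hQ hRcl
      obtain ⟨-, hCW, -⟩ := large_card_eqs hQl hRl
      obtain ⟨hBs, hBscard, hBsw⟩ := replacement hB hM hx hn
      set W := Q ⊓ R with hWdef
      set M := closure (ucomm x '' (B : Set G)) with hMdef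
      have hMW : M ≤ centralizer (W : Set G) := by
        rw [hMdef, closure_le]
        rintro _ ⟨b, hb, rfl⟩
        rw [hCW, SetLike.mem_coe]
        refine mul_mem (mem_sup_right ?_) (mem_sup_left (inv_mem hb))
        rw [hRc]
        exact ⟨b, hb, by simp⟩
      set Bs := repl x B with hBsdef
      have hBsW : Bs ≤ centralizer (W : Set G) :=
        sup_le hMW (inf_le_left.trans (centralizer_le (SetLike.coe_subset_coe.2 inf_le_left)))
      set Qs := W ⊔ Bs with hQsdef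
      have hBsZ : Bs ≤ Qs ⊓ centralizer (Qs : Set G) := by
        refine le_inf le_sup_right ?_
        rw [centralizer_sup_eq]
        exact le_inf hBsW (le_centralizer_of_isMulCommutative hBs)
      have hWB : W ⊓ Bs ≤ W ⊓ B := by
        rintro y ⟨hyW, hyB⟩
        refine ⟨hyW, fun v hv => ?_⟩
        rw [hQWset] at hv
        obtain ⟨w, hw, z, hz, rfl⟩ := Set.mem_mul.1 hv
        have h1 : Commute w y := hBsW hyB w hw
        have h2 : Commute z y := (hz y hyW.1).symm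
        exact (h1.mul_left h2).eq
      have h1 := card_mul_card_eq W B
      have h2 := card_mul_card_eq W Bs
      rw [← hQWset] at h1
      simp only [SetLike.coe_sort_coe] at h1
      have h3 := card_mul_le_card_sup W Bs
      have h4 := card_le_of_le hWB
      have hQs_le : Nat.card ↥Q ≤ Nat.card ↥Qs := by
        refine Nat.le_of_mul_le_mul_left ?_
          (Nat.card_pos (α := ↥(W ⊓ B : Subgroup G)))
        calc _ = Nat.card ↥W * Nat.card ↥B := h1.symm
          _ ≤ Nat.card ↥W * Nat.card ↥Bs := Nat.mul_le_mul_left _ hBscard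
          _ = _ := h2
          _ ≤ _ := Nat.mul_le_mul h4 h3
      have hmaxQ : Nat.card ↥Q * Nat.card ↥B = Cfsg.maxCentralizerProduct G := hQl
      have h5 := card_le_of_le hBsZ
      have hQsl : Cfsg.IsCentrallyLarge Qs := by
        refine centrallyLarge_of_le ?_
        rw [← hmaxQ]
        exact Nat.mul_le_mul hQs_le (hBscard.trans h5)
      obtain ⟨hQsll, hQsc⟩ := centrallyLarge_iff.1 hQsl
      rw [inf_eq_right.2 hQsc] at h5 hBsZ
      have h6 : Nat.card ↥Qs * Nat.card ↥(centralizer (Qs : Set G))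
          = Nat.card ↥Q * Nat.card ↥B := hQsll.trans hQl.symm
      have h7 : Nat.card ↥Qs ≤ Nat.card ↥Q := by
        refine Nat.le_of_mul_le_mul_right ?_ (Nat.card_pos : 0 < Nat.card ↥B)
        rw [← h6]
        exact Nat.mul_le_mul_left _ (hBscard.trans h5)
      have hQsmin : Cfsg.IsMinimalCentrallyLarge Qs := by
        refine ⟨hQsl, fun R' hle hR' => ?_⟩
        obtain ⟨Q', hQ'le, hQ'⟩ := exists_minimalCentrallyLarge_le hR'
        exact eq_of_le_of_card_ge hle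
          (h7.trans ((minimal_card_eq hQ hQ').1.le.trans (card_le_of_le hQ'le)))
      have heqB : Bs = centralizer (Qs : Set G) := by
        refine eq_of_le_of_card_ge hBsZ ?_
        rw [← (minimal_card_eq hQ hQsmin).2]
        exact hBscard
      have hlt := hmaxw Qs hQsmin
      simp only [← heqB] at hlt
      exact absurd hBsw (not_lt.2 hlt)
    rw [mem_normalizer_iff_map_conj_eq]
    show Q.map (MulAut.conj x).toMonoidHom = Q
    conv_lhs => rw [← centralizer_centralizer_eq hQl]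
    rw [map_centralizer_conj,
      show B.map (MulAut.conj x).toMonoidHom = B from mem_normalizer_iff_map_conj_eq.1 hxB,
      centralizer_centralizer_eq hQl]
  have itoKey : ∀ (A : Subgroup G), IsMulCommutative ↥A →
      ((B ⊔ A : Subgroup G) : Set G) = (B : Set G) * (A : Set G) →
      A ≤ normalizer (Q : Set G) := by
    intro A hA hset x hx
    refine key x fun b hb b' hb' => ?_
    have hset' : ((A ⊔ B : Subgroup G) : Set G) = (A : Set G) * (B : Set G) := by
      refine Set.Subset.antisymm (fun y hy => ?_) (mul_subset_sup A B)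
      exact mem_mul_comm hset (by rwa [SetLike.mem_coe, sup_comm] at hy)
    exact commute_commutators hA hB hset' hx hx hb' hb
  refine ⟨Q, hQ, sSup_le fun A hA => ?_, sSup_le fun R hR => ?_⟩
  · exact itoKey A hA.1 (sup_maxAbelian hQ.1 hA).2.2.2
  · obtain ⟨hRl, hRc⟩ := centrallyLarge_iff.1 hR.1
    obtain ⟨hRW, -⟩ := minimal_eq_mul hR hQ
    rw [← hRW]
    refine sup_le (inf_le_right.trans le_normalizer) ?_
    exact itoKey _ (isMulCommutative_of_le_centralizer (centralizer_le (SetLike.coe_subset_coe.2 hRc)))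
      (large_card_eqs hQl hRl).2.2

end Cfsg.Agent.CentrallyLarge
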