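import Mathlib
import Cfsg.Prelude.Def_CharExt
import Cfsg.Agent.Lib.CharExtension
import Cfsg.Agent.Lib.CharInducedClifford

/-!
Determinantal characters: sums, pullbacks, twists, and restriction to a normal subgroup inside
the derived subgroup.
-/

set_option autoImplicit false

namespace Cfsg.Agent.CharDet73

open Cfsg Cfsg.Agent.CharBasic Cfsg.Agent.CharBasicDecomp Cfsg.Agent.CharInduced

universe u

variable {G : Type u} [Group G] [Finite G]

theorem detChar_rep {V : Type*} [AddCommGroup V] [Module ℂ V] [FiniteDimensional ℂ V]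
    (ρ : Representation ℂ G V) (g : G) : detChar ρ.character g = LinearMap.det (ρ g) := by
  rw [← character_repConj (coordEquiv V) ρ,
    ← CharExtension.toRep_toHomUnits (repConj (coordEquiv V) ρ)]
  change detChar (CharExtension.chr (MonoidHom.toHomUnits (repConj (coordEquiv V) ρ))) g = _
  rw [CharExtension.detChar_chr]
  show LinearMap.det (repConj (coordEquiv V) ρ g) = _
  exact LinearMap.det_conj (ρ g) (coordEquiv V)

theorem detChar_zero (g : G) : detChar (0 : G → ℂ) g = 1 := by
  have h : (0 : G → ℂ) = (1 : Representation ℂ G (Fin 0 → ℂ)).character := by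
    funext x; simp [Representation.character]
  rw [h, detChar_rep]
  exact map_one _

theorem detChar_add {a b : G → ℂ} (ha : IsCharacter G a) (hb : IsCharacter G b) (g : G) :
    detChar (a + b) g = detChar a g * detChar b g := by
  obtain ⟨n, ρ, rfl⟩ := ha
  obtain ⟨m, σ, rfl⟩ := hb
  rw [← character_prod ρ σ, detChar_rep, detChar_rep, detChar_rep]
  exact LinearMap.det_prodMap (ρ g) (σ g)

theorem detChar_sum {ι : Type*} (s : Finset ι) (f : ι → G → ℂ) (hf : ∀ i ∈ s, IsCharacter G (f i))
    (g : G) : detChar (∑ i ∈ s, f i) g = ∏ i ∈ s, detChar (f i) g := by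
  classical
  induction s using Finset.induction with
  | empty => simpa using detChar_zero g
  | insert i s hi ih =>
    rw [Finset.sum_insert hi, Finset.prod_insert hi,
      detChar_add (hf i (Finset.mem_insert_self i s))
        (isCharacter_sum _ _ fun j hj => hf j (Finset.mem_insert_of_mem hj)),
      ih fun j hj => hf j (Finset.mem_insert_of_mem hj)]

theorem detChar_comap {H : Type*} [Group H] [Finite H] (f : H →* G) {a : G → ℂ}
    (ha : IsCharacter G a) (h : H) : detChar (fun x => a (f x)) h = detChar a (f h) := by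
  obtain ⟨n, ρ, rfl⟩ := ha
  have e : (fun x => ρ.character (f x)) = (repComap f ρ).character :=
    funext fun x => (congrFun (character_repComap f ρ) x).symm
  rw [e, detChar_rep, detChar_rep]
  rfl

/-- The determinant of a character as a homomorphism. -/
theorem exists_det {a : G → ℂ} (ha : IsCharacter G a) :
    ∃ δ : G →* ℂˣ, ∀ g, (δ g : ℂ) = detChar a g := by
  obtain ⟨n, ρ, rfl⟩ := ha
  refine ⟨(CharExtension.detU n).comp (MonoidHom.toHomUnits ρ), fun g => ?_⟩
  rw [detChar_rep]
  rfl

theorem detChar_linear (lam : G →* ℂˣ) (g : G) : detChar (fun x => (lam x : ℂ)) g = lam g := by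
  have hd := character_linRep (G := G) lam
  rw [← hd, detChar_rep]
  have h1 : LinearMap.det (linRep lam g) = (linRep lam).character g := by
    rw [Representation.character, LinearMap.trace_eq_matrix_trace ℂ (Pi.basisFun ℂ (Fin 1)),
      ← LinearMap.det_toMatrix (Pi.basisFun ℂ (Fin 1)), Matrix.trace_fin_one, Matrix.det_fin_one]
  rw [h1, hd]

theorem detChar_mul_linear {a : G → ℂ} (ha : IsCharacter G a) {d : ℕ} (hd : a 1 = d)
    (lam : G →* ℂˣ) (g : G) :
    detChar (fun x => a x * (lam x : ℂ)) g = detChar a g * (lam g : ℂ) ^ d := by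
  obtain ⟨n, ρ, rfl⟩ := ha
  have hn : d = n := by
    rw [Representation.char_one, Module.finrank_fin_fun] at hd
    exact_mod_cast hd.symm
  let σ : Representation ℂ G (Fin n → ℂ) :=
    { toFun := fun x => (lam x : ℂ) • ρ x
      map_one' := by simp
      map_mul' := fun x y => by
        rw [map_mul, map_mul, Units.val_mul, smul_mul_smul_comm] }
  have e : (fun x => ρ.character x * (lam x : ℂ)) = σ.character := funext fun x => by
    show _ = LinearMap.trace ℂ _ ((lam x : ℂ) • ρ x)
    rw [map_smul, smul_eq_mul, mul_comm]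
    rfl
  rw [e, detChar_rep, detChar_rep]
  show LinearMap.det ((lam g : ℂ) • ρ g) = _
  rw [LinearMap.det_smul, Module.finrank_fin_fun, mul_comm, hn]

/-- If `N ≤ G'` and the `k`-th powers of the determinants of all conjugates of a constituent `θ`
of `χ` are equal to `lam`, then `lam ^ (χ 1 / θ 1) = 1`. -/
theorem pow_eq_one_of_invariant [Fintype G] (N : Subgroup G) [hN : N.Normal] [Fintype N]
    (hNG : N ≤ commutator G) {χ : G → ℂ} (hχ : IsIrrCharacter G χ) {θ : N → ℂ}
    (hθ : IsIrrCharacter N θ) (hc : classInner (fun n : N => χ n) θ ≠ 0) (k : ℕ) (lam : N →* ℂˣ)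
    (hlam : ∀ n, detChar θ n ^ k = (lam n : ℂ))
    (hinv : ∀ (g : G) (n : N), lam (MulAut.conjNormal g n) = lam n) :
    ∃ e : ℕ, χ 1 = (e : ℂ) * θ 1 ∧ lam ^ e = 1 := by
  classical
  obtain ⟨a, ha⟩ := CharBasicOrth.classInner_isCharacter
    (isCharacter_res N (isCharacter_of_isIrrCharacter hχ)) (isCharacter_of_isIrrCharacter hθ)
  have hcl := clifford N hχ hθ hc
  rw [ha] at hcl
  have hsum : (fun n : N => χ n) = ∑ _i ∈ Finset.range a, ∑ ψ ∈ orbitFin N θ, ψ := by
    rw [hcl, Finset.sum_const, Finset.card_range, Nat.cast_smul_eq_nsmul]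
  have horb : ∀ ψ ∈ orbitFin N θ, IsCharacter N ψ ∧ ψ 1 = θ 1 ∧
      ∀ n, detChar ψ n ^ k = (lam n : ℂ) := by
    intro ψ hψ
    obtain ⟨g, rfl⟩ := (mem_orbitFin N).1 hψ
    refine ⟨isCharacter_conjFun N (isCharacter_of_isIrrCharacter hθ) g,
      congrArg θ (Subtype.ext (by simp)), fun n => ?_⟩
    rw [← hinv g n, ← hlam]
    congr 1
    exact detChar_comap (MulAut.conjNormal (H := N) g).toMonoidHom
      (isCharacter_of_isIrrCharacter hθ) n
  refine ⟨a * (orbitFin N θ).card, ?_, MonoidHom.ext fun n => Units.ext ?_⟩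
  · have h1 := congrFun hsum 1
    simp only [Finset.sum_apply, OneMemClass.coe_one] at h1
    rw [h1, Finset.sum_congr rfl fun i _ => Finset.sum_congr rfl fun ψ hψ => (horb ψ hψ).2.1]
    simp [mul_assoc]
  · have h1 : detChar (fun x : N => χ x) n = 1 := by
      obtain ⟨δ, hδ⟩ := exists_det (isCharacter_of_isIrrCharacter hχ)
      rw [show detChar (fun x : N => χ x) n = detChar χ n from
        detChar_comap N.subtype (isCharacter_of_isIrrCharacter hχ) n, ← hδ]
      have : δ (n : G) = 1 := MonoidHom.mem_ker.1 (Abelianization.commutator_subset_ker δ (hNG n.2))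
      rw [this, Units.val_one]
    rw [hsum, detChar_sum _ _ (fun i _ => isCharacter_sum _ _ fun ψ hψ => (horb ψ hψ).1),
      Finset.prod_const, Finset.card_range,
      detChar_sum _ _ (fun ψ hψ => (horb ψ hψ).1)] at h1
    have h2 := congrArg (· ^ k) h1
    simp only [one_pow] at h2
    rw [← pow_mul, mul_comm, pow_mul, ← Finset.prod_pow,
      Finset.prod_congr rfl fun ψ hψ => (horb ψ hψ).2.2 n, Finset.prod_const, ← pow_mul,
      mul_comm] at h2
    rw [MonoidHom.one_apply, Units.val_one, MonoidHom.pow_apply, Units.val_pow_eq_pow_val]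
    exact h2

end Cfsg.Agent.CharDet73
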