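import Cfsg.Agent.S4574
import Cfsg.Agent.Lib.CharBasicDecomp

/-!
Galois arithmetic-geometric mean bounds for character values, and averages of characters over
normal subgroups.
-/

set_option autoImplicit false

namespace Cfsg.Agent.CharGaloisMean

open Cfsg Cfsg.Agent.CharBasic Cfsg.Agent.CharBasicOrth Cfsg.Agent.CharBasicCyclic
open scoped ComplexConjugate

universe u

variable {G : Type u} [Group G]

/-- Norm version of the mean bound: a fibre of generators without zero has norm sum at least its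
cardinality. -/
theorem sum_gens_norm_ge [Fintype G] (g : G) {χ : G → ℂ} (hχ : Cfsg.IsCharacter G χ)
    (hne : ∀ x, χ x ≠ 0) :
    ((gens (Subgroup.zpowers g)).card : ℝ) ≤ ∑ a ∈ gens (Subgroup.zpowers g), ‖χ a‖ := by
  set s := gens (Subgroup.zpowers g) with hs
  have hc : 0 < s.card := Finset.card_pos.2 ⟨g, mem_gens.2 rfl⟩
  have hw : ∑ _a ∈ s, (1 / (s.card : ℝ)) = 1 := by
    rw [Finset.sum_const, nsmul_eq_mul, mul_one_div, div_self]
    exact_mod_cast hc.ne'
  have h1 := Cfsg.Agent.S4574.prod_norm_sq_ge_one g hχ (fun x _ => hne x)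
  have h2 := Real.geom_mean_le_arith_mean_weighted s (fun _ => 1 / (s.card : ℝ))
    (fun a => ‖χ a‖) (fun _ _ => by positivity) hw (fun _ _ => norm_nonneg _)
  have h3 : (1 : ℝ) ≤ ∏ a ∈ s, ‖χ a‖ ^ (1 / (s.card : ℝ)) := by
    rw [Real.finsetProd_rpow _ _ (fun _ _ => norm_nonneg _)]
    refine Real.one_le_rpow ?_ (by positivity)
    have h5 : (∏ a ∈ s, ‖χ a‖) ^ 2 = ∏ a ∈ s, ‖χ a‖ ^ 2 := (Finset.prod_pow _ _ _).symm
    have h6 : (0 : ℝ) ≤ ∏ a ∈ s, ‖χ a‖ := Finset.prod_nonneg fun _ _ => norm_nonneg _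
    nlinarith
  have h4 := h3.trans h2
  rw [← Finset.mul_sum, one_div, inv_mul_eq_div, le_div_iff₀ (by exact_mod_cast hc), one_mul] at h4
  exact h4

theorem card_gens_sum [Fintype G] (f : G → ℝ) :
    ∑ B : Subgroup G, ∑ a ∈ gens B, f a = ∑ a, f a := by
  classical
  exact Finset.sum_fiberwise_of_maps_to (fun a _ => Finset.mem_univ (Subgroup.zpowers a)) f

/-- Averaging a character over a normal subgroup gives a character. -/
theorem isCharacter_average [Finite G] (N : Subgroup G) [N.Normal] [Fintype N] {ψ : G → ℂ}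
    (hψ : Cfsg.IsCharacter G ψ) :
    Cfsg.IsCharacter G (fun x => (Nat.card N : ℂ)⁻¹ * ∑ n : N, ψ ((n : G) * x)) := by
  obtain ⟨d, σ, rfl⟩ := hψ
  let W : Submodule ℂ (Fin d → ℂ) := ⨅ n : N, LinearMap.ker (σ (n : G) - 1)
  have hW : ∀ v, v ∈ W ↔ ∀ n : N, σ (n : G) v = v := fun v => by
    simp [W, Submodule.mem_iInf, sub_eq_zero]
  have hinv : ∀ (x : G), ∀ v ∈ W, σ x v ∈ W := by
    intro x v hv
    rw [hW] at hv ⊢
    intro n
    have hn : x⁻¹ * (n : G) * x ∈ N := by
      simpa using (inferInstance : N.Normal).conj_mem _ n.2 x⁻¹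
    calc σ (n : G) (σ x v) = σ (x * (x⁻¹ * (n : G) * x)) v := by
          rw [← Module.End.mul_apply, ← map_mul]; congr 2; group
      _ = σ x (σ (x⁻¹ * (n : G) * x) v) := by rw [map_mul]; rfl
      _ = σ x v := by rw [hv ⟨_, hn⟩]
  let τ : Representation ℂ G W :=
    { toFun := fun x => (σ x).restrict (hinv x)
      map_one' := by ext v; simp
      map_mul' := fun x y => by ext v; simp }
  suffices he : (fun x => (Nat.card N : ℂ)⁻¹ * ∑ n : N, σ.character ((n : G) * x)) = τ.character by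
    rw [he]; exact isCharacter_of_rep τ
  funext x
  let P : Module.End ℂ (Fin d → ℂ) := (Nat.card N : ℂ)⁻¹ • ∑ n : N, σ (n : G)
  have hN : (Nat.card N : ℂ) ≠ 0 := Nat.cast_ne_zero.2 Nat.card_pos.ne'
  have hPW : ∀ v, P v ∈ W := by
    intro v
    rw [hW]
    intro m
    simp only [P, LinearMap.smul_apply, map_smul, LinearMap.sum_apply, map_sum]
    congr 1
    refine Fintype.sum_equiv (Equiv.mulLeft m) _ _ fun n => ?_
    rw [Equiv.coe_mulLeft, Subgroup.coe_mul, map_mul]
    rfl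
  have hPfix : ∀ v ∈ W, P v = v := by
    intro v hv
    rw [hW] at hv
    simp only [P, LinearMap.smul_apply, LinearMap.sum_apply, hv, Finset.sum_const,
      Finset.card_univ, ← Nat.cast_smul_eq_nsmul ℂ, smul_smul]
    rw [← Nat.card_eq_fintype_card, inv_mul_cancel₀ hN, one_smul]
  have hT : ∀ v, (σ x * P) v ∈ W := fun v => hinv x _ (hPW v)
  have h1 : LinearMap.trace ℂ _ (P * σ x) = LinearMap.trace ℂ _ (σ x * P) :=
    LinearMap.trace_mul_comm ℂ _ _
  have h2 : LinearMap.trace ℂ _ (σ x * P) = τ.character x := by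
    rw [← LinearMap.trace_restrict_eq_of_forall_mem W _ hT]
    show _ = LinearMap.trace ℂ W (τ x)
    congr 1
    ext v
    simp [τ, hPfix _ v.2]
  rw [← h2, ← h1]
  simp [P, Finset.sum_mul, Representation.character]

end Cfsg.Agent.CharGaloisMean
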