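/-
Exceptional characters of a coherent set attached to a trivial-intersection subgroup with
Frobenius normalizer.
-/
import Mathlib
import Cfsg.Agent.Lib.CharInducedTIFrob

set_option autoImplicit false

open scoped ComplexConjugate
open Finset

namespace Cfsg.Agent.CharInducedTIExc

open CharBasic CharBasicOrth CharBasicDecomp CharInduced CharInducedTIFrob

universe u

variable {G : Type u} [Group G] [Fintype G]

/-- The hypotheses: a coherent set of relevant characters with its isometry. -/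
structure Data (K N : Subgroup G) [Fintype N] (S : Set (N → ℂ))
    (star : (N → ℂ) → (G → ℂ)) : Prop where
  normal : (K.subgroupOf N).Normal
  le : K ≤ N
  ti : ∀ g : G, g ∉ N → ∀ t ∈ K, g * t * g⁻¹ ∈ K → t = 1
  cent : ∀ k ∈ K, k ≠ 1 → Subgroup.centralizer ({k} : Set G) ≤ K
  eq : S = {χ : N → ℂ | IsIrrCharacter N χ ∧ Rel K N χ}
  iso : Cfsg.IsLinearIsometryOn (Cfsg.zspan S) star
  ext_ind : ∀ α ∈ Cfsg.zspanOn S ({1}ᶜ : Set N), star α = indFun N α

variable {K N : Subgroup G} [Fintype N] {S : Set (N → ℂ)} {star : (N → ℂ) → (G → ℂ)}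

theorem mem_iff (h : Data K N S star) {χ : N → ℂ} :
    χ ∈ S ↔ IsIrrCharacter N χ ∧ Rel K N χ := by
  rw [h.eq]
  exact Iff.rfl

theorem gen_mem (h : Data K N S star) {χ ξ : N → ℂ} (hχ : χ ∈ S) (hξ : ξ ∈ S) :
    gen χ ξ ∈ Cfsg.zspanOn S ({1}ᶜ : Set N) := by
  obtain ⟨a, -, ha⟩ := isIrrCharacter_apply_one ((mem_iff h).1 hχ).1
  obtain ⟨b, -, hb⟩ := isIrrCharacter_apply_one ((mem_iff h).1 hξ).1
  refine ⟨?_, fun x hx => ?_⟩
  · show gen χ ξ ∈ Submodule.span ℤ S
    rw [gen, ha, hb, Nat.cast_smul_eq_nsmul, Nat.cast_smul_eq_nsmul]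
    exact Submodule.sub_mem _ (nsmul_mem (Submodule.subset_span hχ) b)
      (nsmul_mem (Submodule.subset_span hξ) a)
  · have : x = 1 := by simpa using hx
    rw [this, gen_one]

theorem star_gen (h : Data K N S star) {χ ξ : N → ℂ} (hχ : χ ∈ S) (hξ : ξ ∈ S) :
    ξ 1 • star χ - χ 1 • star ξ = indFun N (gen χ ξ) := by
  obtain ⟨a, -, ha⟩ := isIrrCharacter_apply_one ((mem_iff h).1 hχ).1
  obtain ⟨b, -, hb⟩ := isIrrCharacter_apply_one ((mem_iff h).1 hξ).1
  rw [← h.ext_ind _ (gen_mem h hχ hξ), gen, ha, hb]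
  have h1 : χ ∈ Cfsg.zspan S := Submodule.subset_span hχ
  have h2 : ξ ∈ Cfsg.zspan S := Submodule.subset_span hξ
  have e : ((b : ℂ) • χ - (a : ℂ) • ξ) = (b : ℤ) • χ + (-(a : ℤ)) • ξ := by
    funext x; simp [sub_eq_add_neg]
  have hb' : (b : ℤ) • χ ∈ Cfsg.zspan S := Submodule.smul_mem _ _ h1
  have ha' : (-(a : ℤ)) • ξ ∈ Cfsg.zspan S := Submodule.smul_mem _ _ h2
  rw [e, h.iso.1 _ hb' _ ha', h.iso.2.1 _ h1, h.iso.2.1 _ h2]
  funext x
  simp [sub_eq_add_neg]

theorem star_irr (h : Data K N S star) {χ : N → ℂ} (hχ : χ ∈ S) :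
    IsGeneralizedCharacter G (star χ) ∧
      ∃ φ : G → ℂ, IsIrrCharacter G φ ∧ (star χ = φ ∨ star χ = -φ) := by
  have hm : χ ∈ Cfsg.zspan S := Submodule.subset_span hχ
  have hg := h.iso.2.2.2 _ hm
  refine ⟨hg, eq_or_neg_irr_of_norm_one hg ?_⟩
  rw [h.iso.2.2.1 _ hm _ hm, classInner_irr_self ((mem_iff h).1 hχ).1]

theorem inner_star (h : Data K N S star) {χ ξ : N → ℂ} (hχ : χ ∈ S) (hξ : ξ ∈ S) :
    classInner (star χ) (star ξ) = classInner χ ξ :=
  h.iso.2.2.1 _ (Submodule.subset_span hχ) _ (Submodule.subset_span hξ)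

/-- An irreducible character which is not a signed exceptional character is constant on `K`
away from the identity; so is the difference of an exceptional character and its original. -/
theorem const_of_inner (h : Data K N S star) {φ : G → ℂ} (hφ : IsClassFunction G φ) {β : N → ℂ}
    (hβ : IsClassFunction N β)
    (hor : ∀ χ ∈ S, classInner (star χ) φ = classInner χ β)
    {k l : N} (hk : (k : G) ∈ K) (hk1 : k ≠ 1) (hl : (l : G) ∈ K) (hl1 : l ≠ 1) :
    φ k - β k = φ l - β l := by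
  have := h.normal
  refine const_on (f := fun x : N => φ x - β x) (fun a b => ?_) ?_ hk hk1 hl hl1
  · have := hφ (a : G) (b : G)
    simp only [Subgroup.coe_mul, Subgroup.coe_inv, this, hβ a b]
  intro χ ξ hχr hξr
  have hχ : (χ : N → ℂ) ∈ S := (mem_iff h).2 ⟨χ.2, hχr⟩
  have hξ : (ξ : N → ℂ) ∈ S := (mem_iff h).2 ⟨ξ.2, hξr⟩
  have h1 := inner_ind_left N (gen (χ : N → ℂ) ξ) hφ
  rw [← star_gen h hχ hξ, CharInduced.inner_sub_left, CharInduced.inner_smul_left,
    CharInduced.inner_smul_left, hor _ hχ, hor _ hξ, gen, CharInduced.inner_sub_left,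
    CharInduced.inner_smul_left, CharInduced.inner_smul_left] at h1
  have h2 : ∀ η : N → ℂ, classInner (fun x : N => φ x - β x) η =
      conj (classInner η (fun x : N => φ x)) - conj (classInner η β) := by
    intro η
    rw [CharInduced.inner_conj_symm, CharInduced.inner_conj_symm, ← CharInduced.inner_sub_left]
    rfl
  obtain ⟨a, -, ha⟩ := isIrrCharacter_apply_one χ.2
  obtain ⟨b, -, hb⟩ := isIrrCharacter_apply_one ξ.2
  rw [h2, h2, ha, hb]
  rw [ha, hb] at h1
  have h3 := congrArg (starRingEnd ℂ) h1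
  simp only [map_sub, map_mul, Complex.conj_natCast] at h3
  linear_combination -h3

end Cfsg.Agent.CharInducedTIExc
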