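/-
The Itô–Michler theorem for p-solvable groups.
-/
import Mathlib
import Cfsg.Prelude.Def_Local
import Cfsg.Prelude.Def_Blocks
import Cfsg.Agent.Lib.DegreeDvd
import Cfsg.Agent.Lib.CharInducedClifford
import Cfsg.Agent.Lib.CharBasicPerm
import Cfsg.Agent.Lib.CharBasicLinear
import Cfsg.Agent.Lib.CharBasicInt
import Cfsg.Agent.Lib.HallSolvable

set_option autoImplicit false

open scoped Pointwise

namespace Cfsg.Agent.CharItoMichler

universe u

open CharBasic CharBasicOrth CharBasicDecomp CharBasicLinear CharInduced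

theorem charDegree_eq {G : Type u} [Group G] {χ : G → ℂ} {n : ℕ} (h : χ 1 = n) :
    Cfsg.charDegree χ = n := by
  rw [Cfsg.charDegree, h]; simp

/-- A finite group is not the union of the conjugates of a proper subgroup. -/
theorem eq_top_of_conj_meets {N : Type u} [Group N] [Finite N] (C : Subgroup N)
    (h : ∀ n : N, ∃ g : N, g⁻¹ * n * g ∈ C) : C = ⊤ := by
  classical
  have := Fintype.ofFinite N
  have := Fintype.ofFinite (MulAction.orbitRel.Quotient N (N ⧸ C))
  have hsum := MulAction.sum_card_fixedBy_eq_card_orbits_mul_card_group N (N ⧸ C)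
  have horb : Fintype.card (MulAction.orbitRel.Quotient N (N ⧸ C)) = 1 :=
    Fintype.card_eq_one_iff.2 ⟨Quotient.mk'' (QuotientGroup.mk 1), fun q => by
      induction q using Quotient.inductionOn' with
      | h x => exact Quotient.eq''.2 (MulAction.mem_orbit_iff.2 (MulAction.exists_smul_eq N _ _))⟩
  rw [horb, one_mul] at hsum
  have hone : ∀ n : N, 1 ≤ Fintype.card (MulAction.fixedBy (N ⧸ C) n) := fun n => by
    obtain ⟨g, hg⟩ := h n
    refine Fintype.card_pos_iff.2 ⟨⟨QuotientGroup.mk g, ?_⟩⟩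
    rw [MulAction.mem_fixedBy]
    change QuotientGroup.mk (n * g) = QuotientGroup.mk g
    rw [QuotientGroup.eq]
    have := C.inv_mem hg
    simpa [mul_assoc] using this
  have h1 : Fintype.card (MulAction.fixedBy (N ⧸ C) (1 : N)) = C.index := by
    rw [Subgroup.index_eq_card, ← Nat.card_eq_fintype_card]
    exact Nat.card_congr (Equiv.subtypeUnivEquiv fun q => by simp [MulAction.mem_fixedBy])
  have hle : ∀ n ∈ (Finset.univ : Finset N), 1 ≤ Fintype.card (MulAction.fixedBy (N ⧸ C) n) :=
    fun n _ => hone n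
  have heq : ∑ _n : N, 1 = ∑ n : N, Fintype.card (MulAction.fixedBy (N ⧸ C) n) := by
    rw [hsum, Finset.sum_const, Finset.card_univ, smul_eq_mul, mul_one]
  have := (Finset.sum_eq_sum_iff_of_le hle).1 heq 1 (Finset.mem_univ 1)
  rw [h1] at this
  exact Subgroup.index_eq_one.1 this.symm

variable {G : Type u} [Group G] [Finite G]

/-- The degree of a constituent of the restriction and the orbit length divide the degree. -/
theorem constituent_dvd [Fintype G] (N : Subgroup G) [N.Normal] [Fintype N] {θ : N → ℂ}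
    (hθ : Cfsg.IsIrrCharacter N θ) :
    ∃ χ : Cfsg.IrrCharacter G, ∃ d : ℕ, θ 1 = d ∧
      (orbitFin N θ).card * d ∣ Cfsg.charDegree (χ : G → ℂ) := by
  classical
  obtain ⟨χ, hχ⟩ : ∃ χ : Cfsg.IrrCharacter G,
      Cfsg.classInner (fun n : N => (χ : G → ℂ) n) θ ≠ 0 := by
    by_contra hno
    push Not at hno
    obtain ⟨M, hM, hMsum⟩ := exists_mult (isCharacter_ind N (isCharacter_of_isIrrCharacter hθ))
    have h1 := congrFun hMsum 1
    have hz : ∀ ψ : Cfsg.IrrCharacter G, (M ψ : ℂ) = 0 := fun ψ => by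
      rw [← hM ψ, ← CharBasicOrth.conj_classInner,
        inner_ind_right N θ (isClassFunction_irr ψ.2), hno ψ, map_zero]
    simp only [Finset.sum_apply, Pi.smul_apply, smul_eq_mul, hz, zero_mul, Finset.sum_const_zero,
      ind_one_apply, mul_eq_zero, Nat.cast_eq_zero] at h1
    rcases h1 with h1 | h1
    exacts [Subgroup.index_ne_zero_of_finite h1, isIrrCharacter_apply_one_ne_zero hθ h1]
  obtain ⟨d, -, hd⟩ := isIrrCharacter_apply_one hθ
  obtain ⟨m, hm⟩ := classInner_isCharacter
    (isCharacter_comap N.subtype (isCharacter_of_isIrrCharacter χ.2))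
    (isCharacter_of_isIrrCharacter hθ)
  obtain ⟨x, -, hx⟩ := isIrrCharacter_apply_one χ.2
  refine ⟨χ, d, hd, m, ?_⟩
  rw [charDegree_eq hx]
  have h1 := congrFun (clifford N χ.2 hθ hχ) 1
  simp only [OneMemClass.coe_one, hx, Pi.smul_apply, Finset.sum_apply, smul_eq_mul] at h1
  have hm' : Cfsg.classInner (fun n : N => (χ : G → ℂ) n) θ = (m : ℂ) := hm
  rw [hm', Finset.sum_congr rfl (g := fun _ => (d : ℂ)) (fun ψ hψ => by
    obtain ⟨g, rfl⟩ := (mem_orbitFin N).1 hψ
    rw [conjFun]
    simp only [OneMemClass.coe_one, mul_one, mul_inv_cancel, ← hd]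
    rfl), Finset.sum_const, nsmul_eq_mul] at h1
  have : (x : ℂ) = (((orbitFin N θ).card * d * m : ℕ) : ℂ) := by rw [h1]; push_cast; ring
  exact_mod_cast this

theorem comm_of_normal_sylow {p : ℕ} [hp : Fact p.Prime] (P : Sylow p G)
    [(P : Subgroup G).Normal]
    (hdeg : ∀ χ : Cfsg.IrrCharacter G, ¬ p ∣ Cfsg.charDegree (χ : G → ℂ)) :
    IsMulCommutative P := by
  have := Fintype.ofFinite G
  have := Fintype.ofFinite (P : Subgroup G)
  refine ⟨⟨comm_of_forall_apply_one fun θ => ?_⟩⟩
  obtain ⟨χ, d, hd, hdvd⟩ := constituent_dvd (P : Subgroup G) θ.2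
  obtain ⟨n, -, hn, hnd⟩ := CharBasicInt.exists_apply_one_dvd_card θ.2
  have hdn : d = n := by exact_mod_cast hd.symm.trans hn
  subst hdn
  obtain ⟨k, hk⟩ := IsPGroup.iff_card.1 P.isPGroup'
  rw [hk] at hnd
  obtain ⟨i, -, hi⟩ := (Nat.dvd_prime_pow hp.out).1 hnd
  rcases Nat.eq_zero_or_pos i with rfl | hi0
  · rw [hd, hi, pow_zero, Nat.cast_one]
  · exact absurd (((hi ▸ dvd_pow_self p hi0.ne' : p ∣ d).trans (dvd_mul_left _ _)).trans hdvd)
      (hdeg χ)

theorem le_normalizer_of_coprime {p : ℕ} [hp : Fact p.Prime] (N : Subgroup G) [N.Normal]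
    (hN : ¬ p ∣ Nat.card N) (P : Sylow p G) [((P : Subgroup G) ⊔ N).Normal]
    (hdeg : ∀ χ : Cfsg.IrrCharacter G, ¬ p ∣ Cfsg.charDegree (χ : G → ℂ)) :
    N ≤ Subgroup.centralizer ((P : Subgroup G) : Set G) := by
  classical
  have := Fintype.ofFinite G
  have hfix : ∀ (θ : Cfsg.IrrCharacter N), ∀ y ∈ (P : Subgroup G),
      conjFun N (θ : N → ℂ) y = θ := by
    intro θ
    set I := inertia N (θ : N → ℂ) with hI
    obtain ⟨χ, d, -, hdvd⟩ := constituent_dvd N θ.2
    have hidx : ¬ p ∣ I.index := fun h => hdeg χ (by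
      have h1 := card_inertia_mul_card_orbit N (θ : N → ℂ)
      rw [← Subgroup.card_mul_index I] at h1
      have h2 := Nat.eq_of_mul_eq_mul_left Nat.card_pos h1
      rw [← h2] at h
      exact (h.trans (dvd_mul_right _ _)).trans hdvd)
    obtain ⟨S⟩ : Nonempty (Sylow p I) := inferInstance
    have hSidx : ¬ p ∣ ((S : Subgroup I).map I.subtype).index := by
      rw [Subgroup.index_map_subtype, hp.out.dvd_mul]
      exact fun h => h.elim S.not_dvd_index hidx
    set S' : Sylow p G := (S.isPGroup'.map I.subtype).toSylow hSidx with hS'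
    have hS'I : (S' : Subgroup G) ≤ I := Subgroup.map_subtype_le _
    have hNI : N ≤ I := le_inertia N (isClassFunction_irr θ.2)
    obtain ⟨g, hg⟩ := MulAction.exists_smul_eq G P S'
    intro y hy
    refine (mem_inertia N).1 ?_
    have hsup : (S' : Subgroup G) ⊔ N ≤ I := sup_le hS'I hNI
    refine hsup ?_
    have heq : (S' : Subgroup G) ⊔ N = (P : Subgroup G) ⊔ N := by
      have h1 : (MulAut.conj g • ((P : Subgroup G) ⊔ N)) = (P : Subgroup G) ⊔ N :=
        Subgroup.Normal.conj_smul_eq_self g _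
      rw [← h1, Subgroup.smul_sup, Subgroup.Normal.conj_smul_eq_self g N]
      congr 1
      rw [← hg, Sylow.smul_def, Sylow.pointwise_smul_def]
    rw [heq]
    exact Subgroup.mem_sup_left hy
  set C := (Subgroup.centralizer ((P : Subgroup G) : Set G)).subgroupOf N with hC
  suffices h : C = ⊤ from Subgroup.subgroupOf_eq_top.1 h
  refine eq_top_of_conj_meets C fun n => ?_
  have hnorm : ∀ (y : (P : Subgroup G)) (m : N), (y : G) * m * (y : G)⁻¹ ∈ N := fun y m =>
    Subgroup.Normal.conj_mem inferInstance _ m.2 _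
  have hconj : ∀ (y : (P : Subgroup G)) (m : N), IsConj (⟨_, hnorm y m⟩ : N) m := by
    intro y
    set t : N → N := fun m => ⟨_, hnorm y m⟩ with ht
    let p' : ConjClasses N → Prop := fun c =>
      ∃ m, ConjClasses.mk m = c ∧ IsConj (t m) m
    have hiso : ∀ a b : N, IsConj a b → IsConj (t a) (t b) := by
      intro a b hab
      obtain ⟨c, hc⟩ := isConj_iff.1 hab
      refine isConj_iff.2 ⟨t c, Subtype.ext ?_⟩
      rw [← hc]
      simp only [ht, Subgroup.coe_mul, InvMemClass.coe_inv]
      group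
    have hp' : ∀ m, p' (ConjClasses.mk m) ↔ IsConj (t m) m := fun m => by
      constructor
      · rintro ⟨m', hm', h⟩
        have hc := ConjClasses.mk_eq_mk_iff_isConj.1 hm'
        exact ((hiso _ _ hc).symm.trans h).trans hc
      · exact fun h => ⟨m, rfl, h⟩
    have h := CharBasicPerm.card_fixed t p' hp' (fun θ => θ) (fun θ m => by
      exact (congrFun (hfix θ y y.2) m).symm)
    have hall : ∀ c, p' c := by
      rw [Nat.card_congr (Equiv.subtypeUnivEquiv fun θ => rfl), card_irrCharacter,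
        Nat.card_eq_fintype_card, Nat.card_eq_fintype_card,
        Fintype.card_subtype, ← Finset.card_univ] at h
      intro c
      have := Finset.eq_univ_of_card _ (by simpa using h)
      exact (Finset.mem_filter.1 (this ▸ Finset.mem_univ c)).2
    exact fun m => (hp' m).1 (hall _)
  let X := {m : N // IsConj m n}
  let act : MulAction (P : Subgroup G) X :=
    { smul := fun y m => ⟨⟨_, hnorm y m.1⟩, (hconj y m.1).trans m.2⟩
      one_smul := fun m => by
        change (⟨⟨_, hnorm 1 m.1⟩, _⟩ : X) = m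
        exact Subtype.ext (Subtype.ext (by simp))
      mul_smul := fun y z m => by
        change (⟨⟨_, hnorm (y * z) m.1⟩, _⟩ : X) = ⟨⟨_, hnorm y ⟨_, hnorm z m.1⟩⟩, _⟩
        exact Subtype.ext (Subtype.ext (by simp [mul_assoc])) }
  have hXcard : ¬ p ∣ Nat.card X := by
    intro h
    refine hN (h.trans ?_)
    have h2 := card_conj_mul_card_centralizer n
    have e : Nat.card {g : N // IsConj n g} = Nat.card X :=
      Nat.card_congr (Equiv.subtypeEquivRight fun _ => isConj_comm)
    rw [e] at h2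
    exact Dvd.intro _ h2
  obtain ⟨m, hm⟩ := P.isPGroup'.nonempty_fixed_point_of_prime_not_dvd_card X hXcard
  obtain ⟨g, hg⟩ := isConj_iff.1 m.2.symm
  refine ⟨g⁻¹, ?_⟩
  rw [inv_inv, hg, hC, Subgroup.mem_subgroupOf, Subgroup.mem_centralizer_iff]
  intro y hy
  have h1 : y * (m.1 : G) * y⁻¹ = m.1 :=
    congrArg (fun z : X => (z.1 : G)) (MulAction.mem_fixedPoints.1 hm ⟨y, hy⟩)
  exact mul_inv_eq_iff_eq_mul.1 h1

theorem normal_of_degrees (k : ℕ) : ∀ (G : Type u) [Group G] [Finite G], Nat.card G = k →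
    ∀ (p : ℕ) [Fact p.Prime], Cfsg.IsPSolvable p G →
    (∀ χ : Cfsg.IrrCharacter G, ¬ p ∣ Cfsg.charDegree (χ : G → ℂ)) →
    ∀ P : Sylow p G, (P : Subgroup G).Normal := by
  induction k using Nat.strong_induction_on with
  | _ k ih =>
    intro G _ _ hk p hp hsolv hdeg P
    classical
    by_cases hG : Nat.card G = 1
    · have : Subsingleton G := (Nat.card_eq_one_iff_unique.1 hG).1
      exact ⟨fun y hy g => by rwa [Subsingleton.elim (g * y * g⁻¹) y]⟩
    obtain ⟨n, H, h0, hl, hmono, hHn, hstep⟩ := hsolv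
    obtain ⟨N, hN, hNne, hNcase⟩ : ∃ N : Subgroup G, N.Normal ∧ N ≠ ⊥ ∧
        ((∃ m, Nat.card N = p ^ m) ∨ (Nat.card N).Coprime p) := by
      by_contra hno
      have hall : ∀ i : ℕ, ∀ hi : i < n + 1, H ⟨i, hi⟩ = ⊥ := by
        intro i
        induction i with
        | zero => intro hi; exact h0
        | succ j ihj =>
          intro hi
          by_contra hne
          refine hno ⟨_, hHn ⟨j + 1, hi⟩, hne, ?_⟩
          have hs := hstep ⟨j, by omega⟩
          have e1 : H (⟨j, by omega⟩ : Fin n).castSucc = ⊥ := ihj (by omega)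
          rw [e1, Subgroup.relIndex_bot_left] at hs
          exact hs
      have htop := hall n (Nat.lt_succ_self n)
      rw [show (⟨n, Nat.lt_succ_self n⟩ : Fin (n + 1)) = Fin.last n from rfl, hl] at htop
      exact hG (by rw [← Subgroup.card_top (G := G), htop, Subgroup.card_bot])
    have := hN
    have hlt : Nat.card (G ⧸ N) < k := by
      rw [← hk, Subgroup.card_eq_card_quotient_mul_card_subgroup N]
      exact lt_mul_of_one_lt_right Nat.card_pos (N.one_lt_card_iff_ne_bot.2 hNne)
    have hsurj := QuotientGroup.mk'_surjective N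
    have hPbar := ih _ hlt (G ⧸ N) rfl p
      (HallSolvable.isPSolvable_quotient ⟨n, H, h0, hl, hmono, hHn, hstep⟩ N)
      (fun χ h => hdeg ⟨_, isIrrCharacter_comap _ hsurj χ.2⟩ (by
        simpa [Cfsg.charDegree] using h))
      (P.mapSurjective hsurj)
    have hM : ((P : Subgroup G) ⊔ N).Normal := by
      have h1 := hPbar.comap (QuotientGroup.mk' N)
      rwa [Sylow.coe_mapSurjective, Subgroup.comap_map_eq, QuotientGroup.ker_mk'] at h1
    rcases hNcase with ⟨m, hm⟩ | hcop
    · obtain ⟨Q, hQ⟩ := (IsPGroup.of_card hm).exists_le_sylow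
      obtain ⟨g, hg⟩ := MulAction.exists_smul_eq G Q P
      have hNP : N ≤ (P : Subgroup G) := by
        rw [← hg, Sylow.smul_def, Sylow.pointwise_smul_def, ← Subgroup.Normal.conj_smul_eq_self g N]
        exact Subgroup.pointwise_smul_le_pointwise_smul_iff.2 hQ
      rwa [sup_eq_left.2 hNP] at hM
    · have hNp : ¬ p ∣ Nat.card N := fun h =>
        (hp.out.coprime_iff_not_dvd.1 hcop.symm) h
      have hcent := le_normalizer_of_coprime N hNp P hdeg
      set M := (P : Subgroup G) ⊔ N with hMdef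
      have hMn : M ≤ Subgroup.normalizer ((P : Subgroup G) : Set G) :=
        sup_le Subgroup.le_normalizer (hcent.trans (Subgroup.centralizer_le_normalizer _))
      set Q : Sylow p M := P.subtype le_sup_left
      have hQn : (Q : Subgroup M).Normal :=
        (Subgroup.normal_subgroupOf_iff_le_normalizer le_sup_left).2 hMn
      have hchar : (Q : Subgroup M).Characteristic := Sylow.characteristic_of_normal Q hQn
      have hmap : ((Q : Subgroup M).map M.subtype).Normal :=
        ConjAct.normal_of_characteristic_of_normal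
      rwa [show (Q : Subgroup M) = (P : Subgroup G).subgroupOf M from rfl,
        Subgroup.map_subgroupOf_eq_of_le le_sup_left] at hmap

/-- The Itô–Michler theorem for p-solvable groups. -/
theorem iff_degrees {p : ℕ} [hp : Fact p.Prime] (hsolv : Cfsg.IsPSolvable p G) (P : Sylow p G) :
    ((P : Subgroup G).Normal ∧ IsMulCommutative P) ↔
      ∀ χ : Cfsg.IrrCharacter G, ¬ p ∣ Cfsg.charDegree (χ : G → ℂ) := by
  refine ⟨fun ⟨hn, hc⟩ χ h => ?_, fun h => ?_⟩
  · have := hn
    obtain ⟨n, -, hn1, hdvd⟩ :=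
      DegreeDvd.degree_dvd_index_abelian χ.2 (P : Subgroup G) (fun a b => hc.is_comm.comm a b)
    rw [charDegree_eq hn1] at h
    exact P.not_dvd_index (h.trans hdvd)
  · have := normal_of_degrees _ G rfl p hsolv h P
    exact ⟨this, comm_of_normal_sylow P h⟩

end Cfsg.Agent.CharItoMichler
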