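import Mathlib
import Cfsg.Agent.Lib.GlaubermanPComplement
import Cfsg.Agent.Lib.BenderMaxUniqueness
import Cfsg.Agent.Lib.LocalBasics

/-!
A characteristic subgroup `K` of a `p`-group, containing its centralizer, whose
`N(K)/C(K)` decides the existence of a normal `p`-complement: iterate `Z(J(·))`.
-/

set_option autoImplicit false

open scoped commutatorElement

namespace Cfsg.Agent.CharPComplementControl

open Cfsg.Agent.TransferPResidual Cfsg.Agent.GlaubermanZJ

universe u

variable {p : ℕ} [hp : Fact p.Prime]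

/-- In `G ⧸ N` a `p'`-element lifts to a `p'`-part of any preimage. -/
theorem mk_part_eq {G : Type*} [Group G] [Finite G] (N : Subgroup G) [N.Normal] (c : G)
    (hc : (orderOf (c : G ⧸ N)).Coprime p) :
    ∃ g ∈ Subgroup.zpowers c, (orderOf g).Coprime p ∧ (g : G ⧸ N) = (c : G ⧸ N) := by
  obtain ⟨c₁, c₂, h12, h1, h2, ⟨k, hk⟩, hcop⟩ := BenderMaxUniqueness.exists_prime_parts c p
  refine ⟨c₂, h2, hcop, ?_⟩
  have hcomm : Commute c₁ c₂ := by
    obtain ⟨i, rfl⟩ := h1
    obtain ⟨j, rfl⟩ := h2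
    exact Commute.zpow_zpow_self c i j
  set f := QuotientGroup.mk' N
  have hf1 : f c₁ = 1 := by
    rw [← orderOf_eq_one_iff]
    have hd1 : orderOf (f c₁) ∣ p ^ k := orderOf_dvd_of_pow_eq_one (by rw [← map_pow, hk, map_one])
    have he : f c₁ = f c * (f c₂)⁻¹ := by rw [h12, map_mul, mul_inv_cancel_right]
    have hcf : Commute (f c) (f c₂)⁻¹ := by
      rw [h12]
      exact (((hcomm.mul_left (Commute.refl c₂)).map f).inv_right)
    have hd2 : orderOf (f c₁) ∣ Nat.lcm (orderOf (f c)) (orderOf (f c₂)) := by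
      rw [he, ← orderOf_inv (f c₂)]
      exact hcf.orderOf_mul_dvd_lcm
    have hco : (orderOf (f c) * orderOf (f c₂)).Coprime (p ^ k) :=
      (Nat.Coprime.mul_left hc (hcop.coprime_dvd_left (orderOf_map_dvd f c₂))).pow_right k
    exact Nat.eq_one_of_dvd_coprimes hco (hd2.trans (Nat.lcm_dvd_mul _ _)) hd1
  change f c₂ = f c
  rw [h12, map_mul, hf1, one_mul]

/-- A central `p`-subgroup does not affect normal `p`-complements. -/
theorem hnpc_of_central {C : Type u} [Group C] [Finite C] (Z : Subgroup C) [Z.Normal]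
    (hZc : Z ≤ Subgroup.center C) (hZp : IsPGroup p Z)
    (h : Cfsg.HasNormalPComplement p (C ⧸ Z)) : Cfsg.HasNormalPComplement p C := by
  set E := Cfsg.pResidual p (C ⧸ Z) with hE
  set M := E.comap (QuotientGroup.mk' Z) with hM
  have hZM : Z ≤ M := QuotientGroup.le_comap_mk' Z E
  have hEp : ¬ p ∣ Nat.card E := hasNormalPComplement_iff_not_dvd.mp h
  set Z' := Z.subgroupOf M with hZ'
  have hcard : Nat.card Z' = Nat.card Z := Nat.card_congr (Subgroup.subgroupOfEquivOfLe hZM).toEquiv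
  have hidx : Z'.index = Nat.card E := by
    refine Nat.eq_of_mul_eq_mul_left (Nat.card_pos (α := Z')) ?_
    rw [Z'.card_mul_index, hcard, hM, ← HallCore.card_comap_mk', mul_comm]
  have hcop : (Nat.card Z').Coprime Z'.index := by
    obtain ⟨k, hk⟩ := IsPGroup.iff_card.1 hZp
    rw [hidx, hcard, hk]
    exact (((Nat.Prime.coprime_iff_not_dvd hp.out).2 hEp)).pow_left k
  obtain ⟨K0, hK0⟩ := Subgroup.exists_right_complement'_of_coprime hcop
  have hK0n : K0.Normal := by
    refine ⟨fun k hk g => ?_⟩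
    obtain ⟨⟨z, k'⟩, hzk⟩ := hK0.2 g
    have hzk' : (z : M) * k' = g := hzk
    have hzc : ∀ y : M, y * (z : M) = (z : M) * y := fun y =>
      Subtype.ext (Subgroup.mem_center_iff.1 (hZc z.2) (y : C))
    rw [← hzk']
    have : (z : M) * k' * k * (z * k' : M)⁻¹ = k' * k * (k' : M)⁻¹ := by
      rw [show (z : M) * k' * k * (z * k' : M)⁻¹ = z * (k' * k * (k' : M)⁻¹) * (z : M)⁻¹ by group,
        ← hzc, mul_inv_cancel_right]
    rw [this]
    exact K0.mul_mem (K0.mul_mem k'.2 hk) (K0.inv_mem k'.2)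
  have hK0card : Nat.card K0 = Nat.card E := by rw [← hK0.symm.index_eq_card, hidx]
  rw [hasNormalPComplement_iff_not_dvd]
  intro hd
  have hle : Cfsg.pResidual p C ≤ K0.map M.subtype := by
    rw [pResidual_le_iff_coprime]
    intro x hx
    have hxM : x ∈ M := mem_pResidual_of_coprime
      (Nat.Coprime.coprime_dvd_left (orderOf_map_dvd (QuotientGroup.mk' Z) x) hx)
    refine ⟨⟨x, hxM⟩, ?_, rfl⟩
    haveI := hK0n
    refine (QuotientGroup.eq_one_iff _).1 (orderOf_eq_one_iff.1 ?_)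
    have hd1 : orderOf ((⟨x, hxM⟩ : M) : M ⧸ K0) ∣ orderOf x := by
      rw [← Subgroup.orderOf_mk x hxM]
      exact orderOf_map_dvd (QuotientGroup.mk' K0) ⟨x, hxM⟩
    have hd2 : orderOf ((⟨x, hxM⟩ : M) : M ⧸ K0) ∣ Nat.card Z' := by
      rw [← hK0.index_eq_card, Subgroup.index]
      exact orderOf_dvd_natCard _
    obtain ⟨k, hk⟩ := IsPGroup.iff_card.1 hZp
    rw [hcard, hk] at hd2
    exact Nat.eq_one_of_dvd_coprimes (hx.pow_right k) hd1 hd2
  have := hd.trans (Subgroup.card_dvd_of_le hle)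
  rw [Subgroup.card_map_of_injective M.subtype_injective, hK0card] at this
  exact hEp this

/-- The property sought of a characteristic subgroup `K` of `S`. -/
def Good (p : ℕ) (S : Type u) [Group S] (K : Subgroup S) : Prop :=
  ∀ (G : Type u) [Group G] [Finite G] (P : Sylow p G) (f : S →* G),
    Function.Injective f → f.range = (P : Subgroup G) →
      (∀ g ∈ Subgroup.normalizer ((K.map f : Subgroup G) : Set G), (orderOf g).Coprime p →
        g ∈ Subgroup.centralizer ((K.map f : Subgroup G) : Set G)) →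
      Cfsg.HasNormalPComplement p G

theorem map_thomY_aut {S : Type u} [Group S] (φ : S ≃* S) :
    (thomY 0 (⊤ : Subgroup S)).map φ.toMonoidHom = thomY 0 (⊤ : Subgroup S) := by
  have := thomY_map (n := 0) (f := φ.toMonoidHom) φ.injective (⊤ : Subgroup S)
  rw [Subgroup.map_top_of_surjective (f := φ.toMonoidHom) φ.surjective] at this
  exact this.symm

theorem exists_good (hp2 : p ≠ 2) : ∀ (n : ℕ) (S : Type u) [Group S] [Finite S],
    Nat.card S = n → IsPGroup p S →
      ∃ K : Subgroup S, K.Characteristic ∧ Subgroup.centralizer (K : Set S) ≤ K ∧ Good p S K := by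
  intro n
  induction n using Nat.strong_induction_on with
  | _ n ih =>
  intro S _ _ hn hS
  rcases subsingleton_or_nontrivial S with hs | hnt
  · refine ⟨⊤, inferInstance, le_top, fun G _ _ P f hf hP _ => hasNormalPComplement_of_not_dvd ?_⟩
    intro hd
    have h1 : (P : Subgroup G) = ⊥ := by
      rw [← hP, eq_bot_iff]
      rintro _ ⟨s, rfl⟩
      rw [Subsingleton.elim s 1, map_one]
      exact Subgroup.one_mem _
    have h2 := P.dvd_card_of_dvd_card hd
    rw [h1, Subgroup.card_bot] at h2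
    exact hp.out.ne_one (Nat.dvd_one.1 h2)
  set Z := thomY 0 (⊤ : Subgroup S) with hZ
  have hZne : Z ≠ ⊥ := thomY_ne_bot (Or.inl rfl) (hS.of_equiv Subgroup.topEquiv.symm) top_ne_bot
  set S0 := Subgroup.centralizer (Z : Set S) with hS0
  have hZS0 : Z ≤ S0 := fun z hz y hy => thomY_isComm hy hz
  set Z0 := Z.subgroupOf S0 with hZ0
  have hZ0n : Z0.Normal := by
    refine ⟨fun z hz g => ?_⟩
    have hzg : (g : S) * z * (g : S)⁻¹ = z := by
      rw [← g.2 (z : S) hz, mul_inv_cancel_right]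
    show ((g * z * g⁻¹ : S0) : S) ∈ Z
    simpa [hzg] using Subgroup.mem_subgroupOf.1 hz
  set q := QuotientGroup.mk' Z0 with hq
  have hlt : Nat.card (S0 ⧸ Z0) < n := by
    rw [← hn]
    refine lt_of_lt_of_le ?_ (Subgroup.card_le_card_group S0)
    rw [Subgroup.card_eq_card_quotient_mul_card_subgroup Z0]
    refine lt_mul_of_one_lt_right Nat.card_pos ?_
    rw [Nat.card_congr (Subgroup.subgroupOfEquivOfLe hZS0).toEquiv]
    exact Subgroup.one_lt_card_iff_ne_bot Z |>.2 hZne
  obtain ⟨K', hK'char, hK'C, hK'⟩ :=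
    ih _ hlt (S0 ⧸ Z0) rfl ((hS.to_subgroup S0).to_quotient Z0)
  set K0 := K'.comap q with hK0
  set K := K0.map S0.subtype with hK
  have hZK : Z ≤ K := fun z hz => ⟨⟨z, hZS0 hz⟩,
    QuotientGroup.le_comap_mk' Z0 K' (Subgroup.mem_subgroupOf.2 hz), rfl⟩
  -- invariance of `K0` under automorphisms of `S0` preserving `Z0`
  have haut : ∀ ψ : S0 ≃* S0, Z0.map ψ.toMonoidHom = Z0 → ∀ x ∈ K0, ψ x ∈ K0 := by
    intro ψ hψ x hx
    exact Subgroup.characteristic_iff_map_le.1 hK'char
      (QuotientGroup.congr Z0 Z0 ψ hψ) ⟨q x, hx, rfl⟩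
  refine ⟨K, ?_, ?_, ?_⟩
  · rw [Subgroup.characteristic_iff_map_le]
    intro φ
    have hS0' : ∀ x ∈ S0, φ x ∈ S0 := by
      intro x hx y hy
      rw [SetLike.mem_coe, hZ, ← map_thomY_aut φ] at hy
      obtain ⟨y', hy', rfl⟩ := hy
      show φ y' * φ x = φ x * φ y'
      rw [← map_mul, ← map_mul, hx y' hy']
    have hS0'' : ∀ x ∈ S0, φ.symm x ∈ S0 := by
      intro x hx y hy
      rw [SetLike.mem_coe, hZ, ← map_thomY_aut φ.symm] at hy
      obtain ⟨y', hy', rfl⟩ := hy
      show φ.symm y' * φ.symm x = φ.symm x * φ.symm y'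
      rw [← map_mul, ← map_mul, hx y' hy']
    let ψ : S0 ≃* S0 :=
      { toFun := fun x => ⟨φ x, hS0' x x.2⟩
        invFun := fun x => ⟨φ.symm x, hS0'' x x.2⟩
        left_inv := fun x => Subtype.ext (φ.symm_apply_apply x)
        right_inv := fun x => Subtype.ext (φ.apply_symm_apply x)
        map_mul' := fun x y => Subtype.ext (map_mul φ (x : S) (y : S)) }
    have hψ : Z0.map ψ.toMonoidHom = Z0 := by
      ext x
      constructor
      · rintro ⟨y, hy, rfl⟩
        show φ (y : S) ∈ Z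
        rw [hZ, ← map_thomY_aut φ]
        exact ⟨y, hy, rfl⟩
      · intro hx
        have hx' : (x : S) ∈ (thomY 0 (⊤ : Subgroup S)).map φ.toMonoidHom := by
          rw [map_thomY_aut]; exact hx
        obtain ⟨y, hy, hyx⟩ := hx'
        exact ⟨⟨y, hZS0 hy⟩, hy, Subtype.ext hyx⟩
    rintro _ ⟨_, ⟨x, hx, rfl⟩, rfl⟩
    exact ⟨ψ x, haut ψ hψ x hx, rfl⟩
  · intro x hx
    have hxS0 : x ∈ S0 := fun z hz => hx z (hZK hz)
    refine ⟨⟨x, hxS0⟩, hK'C fun y hy => ?_, rfl⟩
    obtain ⟨y, rfl⟩ := QuotientGroup.mk'_surjective Z0 y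
    show q y * q ⟨x, hxS0⟩ = q ⟨x, hxS0⟩ * q y
    rw [← map_mul, ← map_mul]
    exact congrArg q (Subtype.ext (hx (y : S) ⟨y, hy, rfl⟩))
  -- the decision property
  intro G _ _ P₀ f₀ hf₀ hP₀ hcond₀
  have hZmap : Z.map f₀ = thomY 0 (P₀ : Subgroup G) := by
    rw [hZ, ← thomY_map hf₀, ← MonoidHom.range_eq_map, hP₀]
  refine GlaubermanPComplement.hnpc_thomY_zero hp2 P₀ P₀ ⟨le_rfl, fun x _ g h => h⟩ ?_
  rw [← hZmap]
  set X := Subgroup.normalizer ((Z.map f₀ : Subgroup G) : Set G) with hX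
  have hPX : (P₀ : Subgroup G) ≤ X := by
    rw [hX, hZmap]
    exact Subgroup.le_normalizer.trans (normalizer_le_thomY _)
  set f : S →* X := f₀.codRestrict X (fun s => hPX (hP₀ ▸ ⟨s, rfl⟩)) with hfd
  have hf : Function.Injective f := fun a b h => hf₀ (congrArg Subtype.val h)
  set P : Sylow p X := P₀.subtype hPX with hPd
  have hP : f.range = (P : Subgroup X) := by
    ext x
    rw [hPd, Sylow.coe_subtype, Subgroup.mem_subgroupOf, ← hP₀]
    exact ⟨fun ⟨s, hs⟩ => ⟨s, congrArg Subtype.val hs⟩, fun ⟨s, hs⟩ => ⟨s, Subtype.ext hs⟩⟩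
  have hmapX : ∀ T : Subgroup S, (T.map f).map X.subtype = T.map f₀ := fun T => by
    rw [Subgroup.map_map]; rfl
  have hcond : ∀ g ∈ Subgroup.normalizer ((K.map f : Subgroup X) : Set X), (orderOf g).Coprime p →
      g ∈ Subgroup.centralizer ((K.map f : Subgroup X) : Set X) := by
    intro g hg hgp y hy
    have h1 : (g : G) ∈ Subgroup.normalizer ((K.map f₀ : Subgroup G) : Set G) := by
      rw [← hmapX]
      exact Subgroup.le_normalizer_map (H := K.map f) X.subtype ⟨g, hg, rfl⟩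
    refine Subtype.ext (hcond₀ g h1 (by rwa [Subgroup.orderOf_coe]) (y : G) ?_)
    rw [← hmapX]
    exact ⟨y, hy, rfl⟩
  set Z' := Z.map f with hZ'
  have hZ'n : Z'.Normal := by
    have h1 : Z' = (Z.map f₀).subgroupOf X := by
      rw [Subgroup.subgroupOf, ← hmapX, hZ',
        Subgroup.comap_map_eq_self_of_injective X.subtype_injective]
    rw [h1]
    exact Subgroup.normal_subgroupOf_of_le_normalizer le_rfl
  set C := Subgroup.centralizer (Z' : Set X) with hC
  haveI : Z'.Normal := hZ'n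
  haveI : C.Normal := inferInstance
  have hfS0 : S0.map f = (P : Subgroup X) ⊓ C := by
    ext x
    constructor
    · rintro ⟨s, hs, rfl⟩
      refine ⟨hP ▸ ⟨s, rfl⟩, ?_⟩
      rintro _ ⟨z, hz, rfl⟩
      rw [← map_mul, ← map_mul, hs z hz]
    · rintro ⟨hxP, hxC⟩
      rw [← hP] at hxP
      obtain ⟨s, rfl⟩ := hxP
      refine ⟨s, fun z hz => hf ?_, rfl⟩
      rw [map_mul, map_mul]
      exact hxC (f z) ⟨z, hz, rfl⟩
  have hZ'C : Z' ≤ C := by
    rintro _ ⟨z, hz, rfl⟩ _ ⟨y, hy, rfl⟩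
    rw [← map_mul, ← map_mul, thomY_isComm hy hz]
  set Zc := Z'.subgroupOf C with hZc
  have hZccen : Zc ≤ Subgroup.center C := fun z hz => Subgroup.mem_center_iff.2 fun y =>
    Subtype.ext ((y.2 (z : X) hz).symm)
  haveI : Zc.Normal := inferInstance
  -- the recursive step gives a normal `p`-complement of `C`
  have hHC : Cfsg.HasNormalPComplement p C := by
    refine hnpc_of_central Zc hZccen ?_ ?_
    · exact ((hS.to_subgroup Z).map f).of_equiv (Subgroup.subgroupOfEquivOfLe hZ'C).symm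
    obtain ⟨Q, hQ⟩ := LocalBasics.exists_sylow_inf P C
    let f0 : S0 →* C := (f.comp S0.subtype).codRestrict C fun s =>
      ((hfS0.le ⟨s, s.2, rfl⟩ : f s ∈ (P : Subgroup X) ⊓ C)).2
    have hle : Z0 ≤ Zc.comap f0 := fun z hz => ⟨z, hz, rfl⟩
    let fb : S0 ⧸ Z0 →* C ⧸ Zc := QuotientGroup.map Z0 Zc f0 hle
    refine hK' (C ⧸ Zc) (Q.mapSurjective (QuotientGroup.mk'_surjective Zc)) fb ?_ ?_ ?_
    · rw [← MonoidHom.ker_eq_bot_iff, eq_bot_iff]
      intro x hx
      obtain ⟨s, rfl⟩ := QuotientGroup.mk'_surjective Z0 x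
      have : f0 s ∈ Zc := (QuotientGroup.eq_one_iff _).1 hx
      obtain ⟨z, hz, hzs⟩ := this
      rw [Subgroup.mem_bot]
      refine (QuotientGroup.eq_one_iff _).2 ?_
      show (s : S) ∈ Z
      have : z = (s : S) := hf hzs
      exact this ▸ hz
    · rw [Sylow.coe_mapSurjective]
      ext x
      constructor
      · rintro ⟨y, rfl⟩
        obtain ⟨s, rfl⟩ := QuotientGroup.mk'_surjective Z0 y
        refine ⟨f0 s, ?_, rfl⟩
        rw [SetLike.mem_coe, hQ, Subgroup.mem_subgroupOf]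
        exact (hfS0.le ⟨(s : S), s.2, rfl⟩).1
      · rintro ⟨c, hc, rfl⟩
        rw [SetLike.mem_coe, hQ, Subgroup.mem_subgroupOf] at hc
        obtain ⟨s, hs, hsc⟩ := hfS0.ge (⟨hc, c.2⟩ : (c : X) ∈ (P : Subgroup X) ⊓ C)
        exact ⟨q ⟨s, hs⟩, congrArg (QuotientGroup.mk' Zc) (Subtype.ext hsc)⟩
    · intro gb hgb hgp
      obtain ⟨c, rfl⟩ := QuotientGroup.mk'_surjective Zc gb
      obtain ⟨g, -, hgcop, hgc⟩ := mk_part_eq Zc c hgp
      have hgc' : QuotientGroup.mk' Zc g = QuotientGroup.mk' Zc c := hgc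
      rw [← hgc'] at hgb ⊢
      have key : ∀ b : C, QuotientGroup.mk' Zc b ∈
          Subgroup.normalizer ((K'.map fb : Subgroup (C ⧸ Zc)) : Set (C ⧸ Zc)) →
          ∀ y ∈ K.map f, (b : X) * y * (b : X)⁻¹ ∈ K.map f := by
        intro b hb y hy
        obtain ⟨_, ⟨x, hx, rfl⟩, rfl⟩ := hy
        have h1 : QuotientGroup.mk' Zc (f0 x) ∈ K'.map fb := ⟨q x, hx, rfl⟩
        obtain ⟨w, hw, hwe⟩ := (Subgroup.mem_normalizer_iff.1 hb _).1 h1
        obtain ⟨x', rfl⟩ := QuotientGroup.mk'_surjective Z0 w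
        have h2 : (f0 x')⁻¹ * (b * f0 x * b⁻¹) ∈ Zc := by
          rw [← QuotientGroup.eq]
          exact hwe
        have h3 : (f (x' : S))⁻¹ * ((b : X) * f (x : S) * (b : X)⁻¹) ∈ K.map f :=
          Subgroup.map_mono hZK h2
        have h4 : f (x' : S) ∈ K.map f := ⟨_, ⟨x', hw, rfl⟩, rfl⟩
        have := mul_mem h4 h3
        rwa [mul_inv_cancel_left] at this
      have hgN : (g : X) ∈ Subgroup.normalizer ((K.map f : Subgroup X) : Set X) := by
        rw [Subgroup.mem_normalizer_iff]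
        refine fun y => ⟨key g hgb y, fun hy => ?_⟩
        have hinv : QuotientGroup.mk' Zc g⁻¹ ∈
            Subgroup.normalizer ((K'.map fb : Subgroup (C ⧸ Zc)) : Set (C ⧸ Zc)) := by
          rw [map_inv]; exact Subgroup.inv_mem _ hgb
        have := key g⁻¹ hinv _ hy
        simpa [mul_assoc] using this
      have hgC := hcond g hgN (by rwa [Subgroup.orderOf_coe])
      rintro _ ⟨w, hw, rfl⟩
      obtain ⟨x, rfl⟩ := QuotientGroup.mk'_surjective Z0 w
      show QuotientGroup.mk' Zc (f0 x) * QuotientGroup.mk' Zc g =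
        QuotientGroup.mk' Zc g * QuotientGroup.mk' Zc (f0 x)
      rw [← map_mul, ← map_mul]
      exact congrArg (QuotientGroup.mk' Zc) (Subtype.ext (hgC _ ⟨_, ⟨x, hw, rfl⟩, rfl⟩))
  -- every `p'`-element of `X` centralizes `Z'`
  have hpC : ∀ x : X, (orderOf x).Coprime p → x ∈ C := by
    intro x hx
    obtain ⟨Q, hQ⟩ := LocalBasics.exists_sylow_inf P C
    have hfr := Sylow.normalizer_sup_eq_top Q
    rw [hQ, Subgroup.subgroupOf_map_subtype] at hfr
    have hxm : x ∈ (↑(Subgroup.normalizer (((P : Subgroup X) ⊓ C : Subgroup X) : Set X) ⊔ C)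
        : Set X) := by rw [hfr]; exact Subgroup.mem_top x
    rw [Subgroup.mul_normal] at hxm
    obtain ⟨h, hh, c, hc, rfl⟩ := Set.mem_mul.1 hxm
    have hmk : ((h * c : X) : X ⧸ C) = (h : X ⧸ C) := by
      rw [QuotientGroup.eq]
      simpa using C.inv_mem hc
    obtain ⟨g, hgz, hgcop, hgh⟩ := mk_part_eq C h
      (hx.coprime_dvd_left (hmk ▸ orderOf_map_dvd (QuotientGroup.mk' C) (h * c)))
    have hgN : g ∈ Subgroup.normalizer ((S0.map f : Subgroup X) : Set X) := by
      rw [hfS0]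
      have := (Subgroup.zpowers_le.2 hh) hgz
      exact this
    let e := S0.equivMapOfInjective f hf
    have hconj : ∀ b ∈ Subgroup.normalizer ((S0.map f : Subgroup X) : Set X),
        ∀ y : S0.map f, b * (y : X) * b⁻¹ ∈ S0.map f := fun b hb y =>
      (Subgroup.mem_normalizer_iff.1 hb y).1 y.2
    let ψ : S0 ≃* S0 :=
      e.trans (({
        toFun := fun y => ⟨g * y * g⁻¹, hconj g hgN y⟩
        invFun := fun y => ⟨g⁻¹ * y * g, by simpa using hconj g⁻¹ (inv_mem hgN) y⟩
        left_inv := fun y => Subtype.ext (show g⁻¹ * (g * y * g⁻¹) * g = (y : X) by group)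
        right_inv := fun y => Subtype.ext (show g * (g⁻¹ * y * g) * g⁻¹ = (y : X) by group)
        map_mul' := fun y z => Subtype.ext
          (show g * (y * z : X) * g⁻¹ = g * y * g⁻¹ * (g * z * g⁻¹) by group) } :
          S0.map f ≃* S0.map f).trans e.symm)
    have hψf : ∀ s : S0, f (ψ s : S) = g * f (s : S) * g⁻¹ := by
      intro s
      have h := congrArg Subtype.val (e.apply_symm_apply ⟨g * (e s : X) * g⁻¹, hconj g hgN (e s)⟩)
      exact h
    have hψZ : Z0.map ψ.toMonoidHom = Z0 := by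
      ext s
      constructor
      · rintro ⟨y, hy, rfl⟩
        show (ψ y : S) ∈ Z
        have h1 : f (ψ y : S) ∈ Z' := by
          rw [hψf]; exact hZ'n.conj_mem _ ⟨y, hy, rfl⟩ g
        obtain ⟨z, hz, hze⟩ := h1
        exact hf hze ▸ hz
      · intro hs
        refine ⟨ψ.symm s, ?_, ψ.apply_symm_apply s⟩
        show ((ψ.symm s : S0) : S) ∈ Z
        have h1 : f (s : S) = g * f ((ψ.symm s : S0) : S) * g⁻¹ := by
          rw [← hψf, MulEquiv.apply_symm_apply]
        have h2 : f ((ψ.symm s : S0) : S) ∈ Z' := by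
          have := hZ'n.conj_mem _ (⟨s, hs, rfl⟩ : f (s : S) ∈ Z') g⁻¹
          rw [h1] at this
          simpa [mul_assoc] using this
        obtain ⟨z, hz, hze⟩ := h2
        exact hf hze ▸ hz
    have hgK : g ∈ Subgroup.normalizer ((K.map f : Subgroup X) : Set X) := by
      have hmap : (K.map f).map (MulAut.conj g).toMonoidHom ≤ K.map f := by
        rintro _ ⟨_, ⟨_, ⟨s, hs, rfl⟩, rfl⟩, rfl⟩
        exact ⟨_, ⟨ψ s, haut ψ hψZ s hs, rfl⟩, (hψf s)⟩
      have heq := Subgroup.eq_of_le_of_card_ge hmap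
        (Subgroup.card_map_of_injective (MulAut.conj g).injective).ge
      exact CoprimeAction.mem_normalizer_of_conj_smul_eq heq
    have hgC : g ∈ C := fun z hz => hcond g hgK hgcop z (Subgroup.map_mono hZK hz)
    have hhC : h ∈ C := by
      rw [← QuotientGroup.eq_one_iff, ← hgh, QuotientGroup.eq_one_iff]
      exact hgC
    exact C.mul_mem hhC hc
  rw [hasNormalPComplement_iff_not_dvd] at hHC ⊢
  intro hd
  have hle : Cfsg.pResidual p X ≤ (Cfsg.pResidual p C).map C.subtype := by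
    rw [pResidual_le_iff_coprime]
    intro x hx
    exact ⟨⟨x, hpC x hx⟩, mem_pResidual_of_coprime (by rwa [Subgroup.orderOf_mk]), rfl⟩
  have := hd.trans (Subgroup.card_dvd_of_le hle)
  rw [Subgroup.card_map_of_injective C.subtype_injective] at this
  exact hHC this

theorem main (hp2 : p ≠ 2) (S : Type u) [Group S] [Finite S] (hS : IsPGroup p S) :
    ∃ K : Subgroup S, K.Characteristic ∧ Subgroup.centralizer (K : Set S) ≤ K ∧
      ∀ (G : Type u) [Group G] [Finite G] (P : Sylow p G) (e : ↥(P : Subgroup G) ≃* S),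
        Cfsg.HasNormalPComplement p G ↔
          ∀ g ∈ Subgroup.normalizer (((K.comap (e : ↥(P : Subgroup G) →* S)).map
              (P : Subgroup G).subtype : Subgroup G) : Set G),
            (orderOf g).Coprime p →
              g ∈ Subgroup.centralizer (((K.comap (e : ↥(P : Subgroup G) →* S)).map
                (P : Subgroup G).subtype : Subgroup G) : Set G) := by
  obtain ⟨K, hKc, hKC, hKg⟩ := exists_good hp2 _ S rfl hS
  refine ⟨K, hKc, hKC, fun G _ _ P e => ?_⟩
  set T := (K.comap (e : ↥(P : Subgroup G) →* S)).map (P : Subgroup G).subtype with hT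
  constructor
  · intro h g hg hgp y hy
    have hyP : y ∈ (P : Subgroup G) := Subgroup.map_subtype_le _ hy
    have hm : ⁅g, y⁆ ∈ Cfsg.pResidual p G := by
      haveI : (Cfsg.pResidual p G).Normal := inferInstance
      rw [commutatorElement_def, mul_assoc, mul_assoc]
      refine mul_mem (mem_pResidual_of_coprime hgp) ?_
      rw [← mul_assoc]
      exact Subgroup.Normal.conj_mem inferInstance _
        (inv_mem (mem_pResidual_of_coprime hgp)) y
    have hmT : ⁅g, y⁆ ∈ T := by
      rw [commutatorElement_def]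
      exact T.mul_mem ((Subgroup.mem_normalizer_iff.1 hg y).1 hy) (T.inv_mem hy)
    obtain ⟨k, hk⟩ := IsPGroup.iff_orderOf.mp P.isPGroup' ⟨_, Subgroup.map_subtype_le _ hmT⟩
    rw [Subgroup.orderOf_mk] at hk
    have hcop := (mem_pResidual_iff_coprime h _).1 hm
    have h1 : ⁅g, y⁆ = 1 := orderOf_eq_one_iff.1
      (Nat.eq_one_of_dvd_coprimes (hcop.pow_right k) dvd_rfl hk.dvd)
    exact (commutatorElement_eq_one_iff_mul_comm.1 h1).symm
  · intro h
    have hmap : K.map ((P : Subgroup G).subtype.comp (e.symm : S →* ↥(P : Subgroup G))) = T := by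
      rw [hT, ← Subgroup.map_map]
      congr 1
      exact (Subgroup.comap_equiv_eq_map_symm e K).symm
    refine hKg G P ((P : Subgroup G).subtype.comp (e.symm : S →* ↥(P : Subgroup G)))
      ((P : Subgroup G).subtype_injective.comp e.symm.injective) ?_ (by rw [hmap]; exact h)
    rw [MonoidHom.range_comp, MonoidHom.range_eq_top.2 (e.symm.surjective :
      Function.Surjective (e.symm : S →* ↥(P : Subgroup G))), ← MonoidHom.range_eq_map,
      Subgroup.range_subtype]

end Cfsg.Agent.CharPComplementControl
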