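import Mathlib
import Cfsg.Agent.Lib.CharPBasic
import Cfsg.Agent.Lib.ComponentsFitting

/-!
# Local subgroups and characteristic `p`
-/

set_option autoImplicit false

namespace Cfsg.Agent.CharPLocal

open Subgroup
open scoped Pointwise
open Cfsg.Agent.CharPBasic
open Cfsg.Agent.HallCore (le_pCore isPGroup_pCore)

variable {G : Type*} [Group G] {p : ℕ}

/-- `F*(G) = O_p(G)` iff `C_G(O_p(G)) ≤ O_p(G)`. -/
theorem gen_eq_pCore_iff [Finite G] [hp : Fact p.Prime] :
    Cfsg.generalizedFittingSubgroup G = Cfsg.pCore p G ↔ HasCharP p G := by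
  constructor
  · intro h
    have := Cfsg.Agent.ComponentsFitting.centralizer_gen_le (G := G)
    rwa [h] at this
  · intro h
    refine le_antisymm (sup_le ?_ ?_)
      ((Cfsg.Agent.ComponentsFitting.pCore_le_fitting hp.out).trans le_sup_right)
    · exact (Cfsg.Agent.ComponentsFitting.layer_le_centralizer_fitting.trans
        (centralizer_le (Cfsg.Agent.ComponentsFitting.pCore_le_fitting hp.out))).trans h
    · rw [Cfsg.Agent.ComponentsFitting.fittingSubgroup_eq_iSup]
      refine iSup_le fun q => ?_
      by_cases hq : (q : ℕ) = p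
      · exact le_of_eq (by rw [hq])
      · refine le_trans ?_ h
        intro x hx
        exact mem_centralizer_iff.mpr fun y hy =>
          (Cfsg.Agent.ComponentsFitting.commute_pCore hp.out
            (Nat.prime_of_mem_primeFactors q.2) (Ne.symm hq) y x hy hx).eq

/-- In a group of characteristic `p` centralizers of `p`-subgroups have characteristic `p`. -/
theorem hasCharP_centralizer [Finite G] [hp : Fact p.Prime] (hG : HasCharP p G) (X : Subgroup G)
    (hX : IsPGroup p X) : HasCharP p (Subgroup.centralizer (X : Set G)) := by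
  set M := Subgroup.centralizer (X : Set G)
  have hP := isPGroup_pCore p G
  have hPn := Cfsg.Agent.HallCore.pCore_normal p G
  refine le_pCore (N := Subgroup.centralizer (Cfsg.pCore p M : Set M))
    (isPGroup_of_coprime_eq_one fun x hx hxo => ?_)
  have hxo' : (orderOf (x : G)).Coprime p := by simpa using hxo
  have hxP : (x : G) ∈ Cfsg.pCore p G := by
    refine hG (mem_centralizer_iff.mpr fun y hy => ?_)
    refine (commute_of_centralizes_fixed hP hX
      (le_top.trans (le_of_eq (Subgroup.normalizer_eq_top_iff.mpr hPn).symm))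
      hxo' (by simp [Subgroup.normalizer_eq_top_iff.mpr hPn])
      (fun q hq => (mem_centralizer_iff.mp x.2 q hq).symm) ?_ y hy).eq.symm
    intro z hz hzX
    have hzM : z ∈ M := mem_centralizer_iff.mpr fun q hq => (hzX q hq).eq
    have := mem_centralizer_iff.mp hx ⟨z, hzM⟩
      (Cfsg.Agent.HallCore.pCore_subgroupOf_le M (by simpa [mem_subgroupOf] using hz))
    exact (congrArg Subtype.val this).symm
  exact Subtype.ext (eq_one_of_coprime_of_mem hP hxP hxo')

/-- A group with a normal `p`-subgroup whose centralizer has characteristic `p` has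
characteristic `p`. -/
theorem hasCharP_of_normal_centralizer [Finite G] [hp : Fact p.Prime] (X : Subgroup G) [X.Normal]
    (hX : IsPGroup p X) (h : HasCharP p (Subgroup.centralizer (X : Set G))) : HasCharP p G := by
  set D := Subgroup.centralizer (Cfsg.pCore p G : Set G)
  have hDn : D.Normal := inferInstance
  have hDX : D ≤ Subgroup.centralizer (X : Set G) := centralizer_le (le_pCore hX)
  have hD : HasCharP p D := hasCharP_of_le hDX (Subgroup.normal_subgroupOf) h
  refine le_pCore (N := D) (isPGroup_of_coprime_eq_one fun x hx hxo => ?_)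
  have hxD : (⟨x, hx⟩ : D) ∈ Cfsg.pCore p D := by
    refine hD (mem_centralizer_iff.mpr fun y hy => Subtype.ext ?_)
    have : (y : G) ∈ (Cfsg.pCore p D).map D.subtype := ⟨y, hy, rfl⟩
    rw [Cfsg.Agent.HallCore.map_subtype_pCore] at this
    exact mem_centralizer_iff.mp hx _ this.1
  exact eq_one_of_coprime_of_mem ((isPGroup_pCore p D).map D.subtype) ⟨_, hxD, rfl⟩ hxo

theorem centralizer_subgroupOf {X H : Subgroup G} (hXH : X ≤ H) :
    Subgroup.centralizer (X.subgroupOf H : Set H) =
      (Subgroup.centralizer (X : Set G)).subgroupOf H := by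
  ext x
  simp only [mem_centralizer_iff, mem_subgroupOf, SetLike.mem_coe]
  exact ⟨fun h y hy => congrArg Subtype.val (h ⟨y, hXH hy⟩ hy),
    fun h y hy => Subtype.ext (h y hy)⟩

/-- If `C_G(X) ≤ H` with `X ≤ H` a `p`-group and `H` of characteristic `p`, then so is `C_G(X)`. -/
theorem hasCharP_centralizer_of_le [Finite G] [hp : Fact p.Prime] (X H : Subgroup G)
    (hX : IsPGroup p X) (hXH : X ≤ H) (hCH : Subgroup.centralizer (X : Set G) ≤ H)
    (hH : HasCharP p H) : HasCharP p (Subgroup.centralizer (X : Set G)) := by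
  have h := hasCharP_centralizer hH (X.subgroupOf H)
    (hX.of_equiv (Subgroup.subgroupOfEquivOfLe hXH).symm)
  rw [centralizer_subgroupOf hXH] at h
  exact hasCharP_of_equiv (Subgroup.subgroupOfEquivOfLe hCH) h

/-- If `C_G(X)` has characteristic `p` for a `p`-subgroup `X`, then so has `N_G(X)`. -/
theorem hasCharP_normalizer_of_centralizer [Finite G] [hp : Fact p.Prime] (X : Subgroup G)
    (hX : IsPGroup p X) (h : HasCharP p (Subgroup.centralizer (X : Set G))) :
    HasCharP p (Subgroup.normalizer (X : Set G)) := by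
  have hXN : X ≤ Subgroup.normalizer (X : Set G) := Subgroup.le_normalizer
  haveI : (X.subgroupOf (Subgroup.normalizer (X : Set G))).Normal :=
    Subgroup.normal_in_normalizer
  refine hasCharP_of_normal_centralizer (X.subgroupOf _)
    (hX.of_equiv (Subgroup.subgroupOfEquivOfLe hXN).symm) ?_
  rw [centralizer_subgroupOf hXN]
  exact hasCharP_of_equiv
    (Subgroup.subgroupOfEquivOfLe
      (fun x hx => Subgroup.centralizer_le_normalizer _ hx)).symm h

theorem centralizer_zpowers (z : G) :
    Subgroup.centralizer (Subgroup.zpowers z : Set G) = Subgroup.centralizer ({z} : Set G) := by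
  rw [Subgroup.zpowers_eq_closure, Subgroup.centralizer_closure]

/-- Conjugation of subgroups as isomorphisms of normalizers. -/
theorem hasCharP_normalizer_conj (g : G) (X : Subgroup G)
    (h : HasCharP p (Subgroup.normalizer (X : Set G))) :
    HasCharP p (Subgroup.normalizer
      ((X.map (MulAut.conj g).toMonoidHom : Subgroup G) : Set G)) := by
  rw [← Subgroup.map_normalizer_eq_of_bijective X (f := (MulAut.conj g).toMonoidHom)
    (MulAut.conj g).bijective]
  exact hasCharP_of_equiv
    (Subgroup.equivMapOfInjective _ (MulAut.conj g).toMonoidHom (MulAut.conj g).injective) h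

/-- A `p`-subgroup normalized by a Sylow subgroup lies in it. -/
theorem le_sylow_of_normalized {R : Subgroup G} (hR : IsPGroup p R) (T : Sylow p G)
    (hn : (T : Subgroup G) ≤ Subgroup.normalizer (R : Set G)) : R ≤ (T : Subgroup G) :=
  le_sup_left.trans (T.3 (hR.to_sup_of_normal_left' T.2 hn) le_sup_right).le

/-- A nontrivial subgroup normalized by a `p`-group containing it contains an element of order
`p` centralized by that `p`-group. -/
theorem exists_orderOf_eq_centralized [Finite G] [hp : Fact p.Prime] {T R : Subgroup G}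
    (hT : IsPGroup p T) (hRT : R ≤ T) (hn : T ≤ Subgroup.normalizer (R : Set G)) (hR : R ≠ ⊥) :
    ∃ z ∈ R, orderOf z = p ∧ ∀ t ∈ T, t * z = z * t := by
  set N := R.subgroupOf T
  haveI : N.Normal := Subgroup.normal_subgroupOf_iff_le_normalizer hRT |>.mpr hn
  have hN : IsPGroup p N := hT.to_subgroup N
  have hNne : N ≠ ⊥ := fun h => hR ((Subgroup.subgroupOf_eq_bot.mp h).eq_bot_of_le hRT)
  have hdvd : p ∣ Nat.card N := by
    obtain ⟨k, hk⟩ := IsPGroup.iff_card.mp hN
    have hk0 : k ≠ 0 := by
      rintro rfl; exact hNne (Subgroup.card_eq_one.mp (by simpa using hk))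
    exact hk ▸ dvd_pow_self p hk0
  have hA : IsPGroup p (ConjAct T) := hT.of_equiv ConjAct.toConjAct
  have h1 : (1 : N) ∈ MulAction.fixedPoints (ConjAct T) N := fun g => smul_one g
  obtain ⟨z, hz, hz1⟩ := hA.exists_fixed_point_of_prime_dvd_card_of_fixed_point N hdvd h1
  obtain ⟨k, hk⟩ := (IsPGroup.iff_orderOf.mp hN) z
  have hk0 : k ≠ 0 := by
    rintro rfl
    exact hz1 (orderOf_eq_one_iff.mp (by simpa using hk)).symm
  have hord : orderOf (((z : T) : G)) = p ^ k := by simpa using hk
  refine ⟨((z : T) : G) ^ p ^ (k - 1), R.pow_mem z.2 _, ?_, fun t ht => ?_⟩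
  · rw [orderOf_pow_of_dvd (pow_ne_zero _ hp.out.ne_zero)
      (hord ▸ pow_dvd_pow p (Nat.sub_le k 1)), hord, Nat.pow_div (Nat.sub_le k 1) hp.out.pos]
    rw [show k - (k - 1) = 1 by omega, pow_one]
  · have h := congrArg (fun w : N => ((w : T) : G)) (hz (ConjAct.toConjAct ⟨t, ht⟩))
    have h' : t * ((z : T) : G) * t⁻¹ = ((z : T) : G) := h
    have hcomm : Commute t ((z : T) : G) := mul_inv_eq_iff_eq_mul.mp h'
    exact (hcomm.pow_right _).eq

/-- Every nontrivial `p`-subgroup is conjugate into a given Sylow subgroup. -/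
theorem exists_conj_le_sylow [Finite G] [Fact p.Prime] {R : Subgroup G} (hR : IsPGroup p R)
    (S : Sylow p G) : ∃ g : G, R.map (MulAut.conj g).toMonoidHom ≤ (S : Subgroup G) := by
  obtain ⟨U, hU⟩ := hR.exists_le_sylow
  obtain ⟨g, hg⟩ := MulAction.exists_smul_eq G U S
  refine ⟨g, ?_⟩
  rw [← hg, Sylow.coe_subgroup_smul]
  rintro _ ⟨x, hx, rfl⟩
  exact ⟨x, hU hx, rfl⟩

end Cfsg.Agent.CharPLocal
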