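/-
Characters of small degree for an abelian trivial intersection Sylow subgroup whose non-identity
elements all have the same centralizer.
-/
import Mathlib
import Cfsg.Agent.Lib.CharBasicLinear

set_option autoImplicit false

open scoped ComplexConjugate

namespace Cfsg.Agent.CharTIAbelianSylow

open CharBasic CharBasicOrth CharBasicDecomp CharBasicLinear

universe u

section Generic

variable {A B : Type u} [Group A] [Group B]

/-- The outer product of two functions. -/
def prodFun (a : A → ℂ) (b : B → ℂ) : A × B → ℂ := fun x => a x.1 * b x.2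

theorem isCharacter_prodFun {a : A → ℂ} {b : B → ℂ} (ha : Cfsg.IsCharacter A a)
    (hb : Cfsg.IsCharacter B b) : Cfsg.IsCharacter (A × B) (prodFun a b) :=
  isCharacter_mul (isCharacter_comap (MonoidHom.fst A B) ha)
    (isCharacter_comap (MonoidHom.snd A B) hb)

variable [Fintype A] [Fintype B]

theorem classInner_prodFun (a c : A → ℂ) (b d : B → ℂ) :
    Cfsg.classInner (prodFun a b) (prodFun c d) =
      Cfsg.classInner a c * Cfsg.classInner b d := by
  simp only [Cfsg.classInner, prodFun, Fintype.sum_prod_type, map_mul, Nat.card_prod,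
    Nat.cast_mul, mul_inv]
  rw [mul_mul_mul_comm _ (∑ g, a g * conj (c g)), Finset.sum_mul_sum]
  congr 1
  exact Finset.sum_congr rfl fun x _ => Finset.sum_congr rfl fun y _ => by ring

theorem expand_prod (hA : ∀ x y : A, x * y = y * x) {f : A × B → ℂ}
    (hf : Cfsg.IsClassFunction (A × B) f) (x : A) (z : B) :
    f (x, z) = ∑ a : Cfsg.IrrCharacter A, ∑ b : Cfsg.IrrCharacter B,
      Cfsg.classInner f (prodFun (a : A → ℂ) b) * ((a : A → ℂ) x * (b : B → ℂ) z) := by
  have h1 : ∀ z, Cfsg.IsClassFunction A fun x => f (x, z) := fun z g h => by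
    rw [hA h g, mul_inv_cancel_right]
  have h2 : ∀ a : Cfsg.IrrCharacter A,
      Cfsg.IsClassFunction B fun z => Cfsg.classInner (fun x => f (x, z)) a := by
    intro a g h
    simp only [Cfsg.classInner]
    congr 1
    refine Finset.sum_congr rfl fun x _ => ?_
    have := hf (x, g) (1, h)
    simp only [Prod.inv_mk, Prod.mk_mul_mk, inv_one, one_mul, mul_one] at this
    rw [this]
  have h3 : ∀ (a : Cfsg.IrrCharacter A) (b : Cfsg.IrrCharacter B),
      Cfsg.classInner (fun z => Cfsg.classInner (fun x => f (x, z)) a) b =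
        Cfsg.classInner f (prodFun (a : A → ℂ) b) := by
    intro a b
    simp only [Cfsg.classInner, prodFun, Fintype.sum_prod_type, map_mul, Nat.card_prod,
      Nat.cast_mul, mul_inv, Finset.mul_sum, Finset.sum_mul]
    rw [Finset.sum_comm]
    exact Finset.sum_congr rfl fun x _ => Finset.sum_congr rfl fun y _ => by ring
  have e1 := congrFun (eq_sum_classInner (h1 z)) x
  simp only [Finset.sum_apply, Pi.smul_apply, smul_eq_mul] at e1
  rw [e1]
  refine Finset.sum_congr rfl fun a _ => ?_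
  have e2 := congrFun (eq_sum_classInner (h2 a)) z
  simp only [Finset.sum_apply, Pi.smul_apply, smul_eq_mul, h3] at e2
  rw [e2, Finset.sum_mul]
  exact Finset.sum_congr rfl fun b _ => by ring

theorem card_irr_of_comm (hA : ∀ x y : A, x * y = y * x) :
    Fintype.card (Cfsg.IrrCharacter A) = Nat.card A := by
  have h := sum_sq_apply_one (G := A)
  simp only [fun a : Cfsg.IrrCharacter A => apply_one_eq_one_of_comm hA a.2, one_pow,
    Finset.sum_const, Finset.card_univ, nsmul_eq_mul, mul_one] at h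
  exact_mod_cast h

end Generic

/-- A trivial intersection abelian Sylow subgroup `P`, its centralizer `C = P × U` and its
normalizer `N`. -/
structure TIData (G : Type u) [Group G] where
  p : ℕ
  P : Subgroup G
  U : Subgroup G
  C : Subgroup G
  N : Subgroup G
  commP : ∀ x y : P, x * y = y * x
  hCN : C ≤ N
  hPC : P ≤ C
  hUC : U ≤ C
  comm : ∀ y ∈ P, ∀ c ∈ C, y * c = c * y
  decomp : ∀ c ∈ C, ∃ y ∈ P, ∃ u ∈ U, c = y * u
  disj : P ⊓ U = ⊥
  sing_iff : ∀ y ∈ P, ∀ u ∈ U, (p ∣ orderOf (y * u) ↔ y ≠ 1)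
  cover : ∀ g : G, p ∣ orderOf g → ∃ t : G, t⁻¹ * g * t ∈ C
  ti : ∀ h : G, ∀ c ∈ C, p ∣ orderOf c → h⁻¹ * c * h ∈ C → h ∈ N
  normC : ∀ h ∈ N, ∀ c ∈ C, h⁻¹ * c * h ∈ C
  normP : ∀ h ∈ N, ∀ y ∈ P, h⁻¹ * y * h ∈ P
  free : ∀ h ∈ N, ∀ y ∈ P, h⁻¹ * y * h = y → y ≠ 1 → h ∈ C

variable {G : Type u} [Group G] (D : TIData G)

/-- Multiplication on `P × U`. -/
def mulHom : D.P × D.U →* G where
  toFun x := (x.1 : G) * (x.2 : G)
  map_one' := by simp
  map_mul' x y := by
    simp only [Prod.fst_mul, Prod.snd_mul, Subgroup.coe_mul]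
    have h := D.comm y.1 y.1.2 x.2 (D.hUC x.2.2)
    calc (x.1 : G) * y.1 * ((x.2 : G) * y.2) = x.1 * ((y.1 : G) * x.2) * y.2 := by group
      _ = x.1 * ((x.2 : G) * y.1) * y.2 := by rw [h]
      _ = x.1 * x.2 * (y.1 * y.2) := by group

theorem mulHom_injective : Function.Injective (mulHom D) := by
  rw [injective_iff_map_eq_one]
  rintro ⟨⟨y, hy⟩, ⟨u, hu⟩⟩ h
  change y * u = 1 at h
  have hy1 : y = 1 := by
    have : y ∈ D.P ⊓ D.U := ⟨hy, by rw [eq_inv_of_mul_eq_one_left h]; exact D.U.inv_mem hu⟩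
    rwa [D.disj, Subgroup.mem_bot] at this
  subst hy1
  rw [one_mul] at h
  subst h
  rfl

/-- The index of the centralizer in the normalizer. -/
noncomputable def relE : ℕ := (D.C.subgroupOf D.N).index

/-- The restriction of a function to `P × U`. -/
def resPU (f : G → ℂ) : D.P × D.U → ℂ := fun x => f (mulHom D x)

theorem isCharacter_resPU {η : G → ℂ} (hη : Cfsg.IsCharacter G η) :
    Cfsg.IsCharacter (D.P × D.U) (resPU D η) := isCharacter_comap (mulHom D) hη

theorem card_C : Nat.card D.C = Nat.card D.P * Nat.card D.U := by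
  rw [← Nat.card_prod]
  refine (Nat.card_congr (Equiv.ofBijective
    (fun x => (⟨mulHom D x, D.C.mul_mem (D.hPC x.1.2) (D.hUC x.2.2)⟩ : D.C)) ⟨?_, ?_⟩)).symm
  · exact fun a b h => mulHom_injective D (congrArg Subtype.val h)
  · rintro ⟨c, hc⟩
    obtain ⟨y, hy, u, hu, rfl⟩ := D.decomp c hc
    exact ⟨(⟨y, hy⟩, ⟨u, hu⟩), rfl⟩

theorem card_N : Nat.card D.N = relE D * (Nat.card D.P * Nat.card D.U) := by
  rw [← card_C, relE, mul_comm, ← Subgroup.card_mul_index (D.C.subgroupOf D.N),
    Nat.card_congr (Subgroup.subgroupOfEquivOfLe D.hCN).toEquiv]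

variable [Fintype G] [Fintype D.P] [Fintype D.U]

/-- The multiplicity matrix of a character on `P × U`. -/
noncomputable def pc (η : G → ℂ) (a : Cfsg.IrrCharacter D.P) (b : Cfsg.IrrCharacter D.U) : ℂ :=
  Cfsg.classInner (resPU D η) (prodFun (a : D.P → ℂ) (b : D.U → ℂ))

/-- The multiplicities on `P × U`, as natural numbers. -/
noncomputable def mult (η : G → ℂ) (a : Cfsg.IrrCharacter D.P) (b : Cfsg.IrrCharacter D.U) : ℕ :=
  ⌊(pc D η a b).re⌋₊

theorem pc_eq_mult {η : G → ℂ} (hη : Cfsg.IsCharacter G η) (a : Cfsg.IrrCharacter D.P)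
    (b : Cfsg.IrrCharacter D.U) : pc D η a b = (mult D η a b : ℂ) := by
  obtain ⟨n, hn⟩ := classInner_isCharacter (isCharacter_resPU D hη)
    (isCharacter_prodFun (isCharacter_of_isIrrCharacter a.2) (isCharacter_of_isIrrCharacter b.2))
  rw [mult, show pc D η a b = n from hn]
  simp

theorem resPU_eq {η : G → ℂ} (hη : Cfsg.IsCharacter G η) (y : D.P) (u : D.U) :
    η ((y : G) * u) = ∑ a : Cfsg.IrrCharacter D.P, ∑ b : Cfsg.IrrCharacter D.U,
      (mult D η a b : ℂ) * ((a : D.P → ℂ) y * (b : D.U → ℂ) u) := by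
  simp only [← pc_eq_mult D hη]
  exact expand_prod D.commP (isClassFunction_of_isCharacter (isCharacter_resPU D hη)) y u

/-- The multiplicity of a character of `P`. -/
noncomputable def rmult (η : G → ℂ) (a : Cfsg.IrrCharacter D.P) : ℕ :=
  ⌊(Cfsg.classInner (fun y : D.P => η y) (a : D.P → ℂ)).re⌋₊

theorem rmult_eq {η : G → ℂ} (hη : Cfsg.IsCharacter G η) (a : Cfsg.IrrCharacter D.P) :
    Cfsg.classInner (fun y : D.P => η y) (a : D.P → ℂ) = (rmult D η a : ℂ) := by
  obtain ⟨n, hn⟩ := classInner_isCharacter (isCharacter_comap D.P.subtype hη)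
    (isCharacter_of_isIrrCharacter a.2)
  have hn' : Cfsg.classInner (fun y : D.P => η y) (a : D.P → ℂ) = n := hn
  rw [rmult, hn']
  simp

theorem res_P_eq {η : G → ℂ} (hη : Cfsg.IsCharacter G η) (y : D.P) :
    η y = ∑ a : Cfsg.IrrCharacter D.P, (rmult D η a : ℂ) * (a : D.P → ℂ) y := by
  have h := congrFun (eq_sum_classInner
    (isClassFunction_of_isCharacter (isCharacter_comap D.P.subtype hη))) y
  simp only [Finset.sum_apply, Pi.smul_apply, smul_eq_mul] at h
  have h' : ∀ a : Cfsg.IrrCharacter D.P,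
      Cfsg.classInner (fun x : D.P => η (D.P.subtype x)) (a : D.P → ℂ) = (rmult D η a : ℂ) :=
    rmult_eq D hη
  exact h.trans (Finset.sum_congr rfl fun a _ => congrArg (· * (a : D.P → ℂ) y) (h' a))

theorem rmult_eq_sum {η : G → ℂ} (hη : Cfsg.IsCharacter G η) (a : Cfsg.IrrCharacter D.P) :
    (rmult D η a : ℂ) =
      ∑ b : Cfsg.IrrCharacter D.U, (mult D η a b : ℂ) * (b : D.U → ℂ) 1 := by
  classical
  rw [← rmult_eq D hη]
  have h : (fun y : D.P => η y) = ∑ c : Cfsg.IrrCharacter D.P,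
      (∑ b : Cfsg.IrrCharacter D.U, (mult D η c b : ℂ) * (b : D.U → ℂ) 1) • (c : D.P → ℂ) := by
    funext y
    have h := resPU_eq D hη y 1
    rw [OneMemClass.coe_one, mul_one] at h
    simp only [h, Finset.sum_apply, Pi.smul_apply, smul_eq_mul, Finset.sum_mul]
    exact Finset.sum_congr rfl fun c _ => Finset.sum_congr rfl fun b _ => by ring
  rw [h, classInner_sum_smul_irr]

/-- The sum of the squared multiplicities in a row. -/
noncomputable def rowSq (η : G → ℂ) (a : Cfsg.IrrCharacter D.P) : ℕ :=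
  ∑ b : Cfsg.IrrCharacter D.U, mult D η a b ^ 2

/-- The norm on `P × U`. -/
noncomputable def totSq (η : G → ℂ) : ℕ := ∑ a : Cfsg.IrrCharacter D.P, rowSq D η a

/-- The column sums. -/
noncomputable def colSum (η : G → ℂ) (b : Cfsg.IrrCharacter D.U) : ℕ :=
  ∑ a : Cfsg.IrrCharacter D.P, mult D η a b

/-- The norm on `U`. -/
noncomputable def colSq (η : G → ℂ) : ℕ := ∑ b : Cfsg.IrrCharacter D.U, colSum D η b ^ 2

theorem mult_eq_zero_of_rmult {η : G → ℂ} (hη : Cfsg.IsCharacter G η)
    {a : Cfsg.IrrCharacter D.P} (h : rmult D η a = 0) (b : Cfsg.IrrCharacter D.U) :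
    mult D η a b = 0 := by
  have h1 := rmult_eq_sum D hη a
  choose d hd hd1 using fun b : Cfsg.IrrCharacter D.U => isIrrCharacter_apply_one b.2
  simp only [hd1] at h1
  have h2 : rmult D η a = ∑ b : Cfsg.IrrCharacter D.U, mult D η a b * d b := by exact_mod_cast h1
  rw [h] at h2
  have h3 := (Finset.sum_eq_zero_iff.1 h2.symm) b (Finset.mem_univ b)
  rcases mul_eq_zero.1 h3 with h | h
  · exact h
  · exact absurd h (hd b).ne'

theorem rowSq_pos {η : G → ℂ} (hη : Cfsg.IsCharacter G η) {a : Cfsg.IrrCharacter D.P}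
    (h : rmult D η a ≠ 0) : 0 < rowSq D η a := by
  refine Nat.pos_of_ne_zero fun h0 => h ?_
  have h1 := rmult_eq_sum D hη a
  have h2 : ∀ b, mult D η a b = 0 := fun b => by
    have h3 : mult D η a b ^ 2 = 0 := (Finset.sum_eq_zero_iff.1 h0) b (Finset.mem_univ b)
    exact pow_eq_zero_iff (two_ne_zero) |>.1 h3
  simp only [h2, Nat.cast_zero, zero_mul, Finset.sum_const_zero, Nat.cast_eq_zero] at h1
  exact h1

open Classical in
theorem card_filter_mem (H : Subgroup G) :
    (Finset.univ.filter fun g : G => g ∈ H).card = Nat.card H := by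
  rw [← Fintype.card_subtype, ← Nat.card_eq_fintype_card]

open Classical in
theorem sum_sing {f : G → ℂ} (hf : Cfsg.IsClassFunction G f) :
    (Nat.card D.N : ℂ) * ∑ g ∈ Finset.univ.filter (fun g : G => D.p ∣ orderOf g), f g =
      (Nat.card G : ℂ) *
        ∑ x ∈ Finset.univ.filter (fun x : D.P × D.U => x.1 ≠ 1), f (mulHom D x) := by
  set T := Finset.univ.filter fun c : G => c ∈ D.C ∧ D.p ∣ orderOf c with hT
  have hord : ∀ t g : G, orderOf (t⁻¹ * g * t) = orderOf g := fun t g => by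
    conv_rhs => rw [← MulEquiv.orderOf_eq (MulAut.conj t⁻¹) g]
    simp
  have hTsum : ∑ x ∈ Finset.univ.filter (fun x : D.P × D.U => x.1 ≠ 1), f (mulHom D x) =
      ∑ c ∈ T, f c := by
    refine Finset.sum_bij (fun x _ => mulHom D x) ?_
      (fun a _ b _ h => mulHom_injective D h) ?_ (fun _ _ => rfl)
    · intro x hx
      simp only [Finset.mem_filter, Finset.mem_univ, true_and] at hx
      simp only [hT, Finset.mem_filter, Finset.mem_univ, true_and]
      refine ⟨D.C.mul_mem (D.hPC x.1.2) (D.hUC x.2.2), (D.sing_iff _ x.1.2 _ x.2.2).2 ?_⟩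
      exact fun h => hx (Subtype.ext h)
    · intro c hc
      simp only [hT, Finset.mem_filter, Finset.mem_univ, true_and] at hc
      obtain ⟨y, hy, u, hu, rfl⟩ := D.decomp c hc.1
      refine ⟨(⟨y, hy⟩, ⟨u, hu⟩), ?_, rfl⟩
      simp only [Finset.mem_filter, Finset.mem_univ, true_and]
      exact fun h => (D.sing_iff y hy u hu).1 hc.2 (congrArg Subtype.val h)
  have step : ∀ g ∈ Finset.univ.filter (fun g : G => D.p ∣ orderOf g),
      (Nat.card D.N : ℂ) * f g = ∑ t : G, if t⁻¹ * g * t ∈ T then f (t⁻¹ * g * t) else 0 := by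
    intro g hg
    simp only [Finset.mem_filter, Finset.mem_univ, true_and] at hg
    obtain ⟨t0, ht0⟩ := D.cover g hg
    have hmem : ∀ t : G, t⁻¹ * g * t ∈ T ↔ t0⁻¹ * t ∈ D.N := by
      intro t
      simp only [hT, Finset.mem_filter, Finset.mem_univ, true_and, hord, hg, and_true]
      constructor
      · intro ht
        refine D.ti _ _ ht0 (by rw [hord]; exact hg) ?_
        have : (t0⁻¹ * t)⁻¹ * (t0⁻¹ * g * t0) * (t0⁻¹ * t) = t⁻¹ * g * t := by group
        rw [this]; exact ht
      · intro ht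
        have h := D.normC _ ht _ ht0
        have : (t0⁻¹ * t)⁻¹ * (t0⁻¹ * g * t0) * (t0⁻¹ * t) = t⁻¹ * g * t := by group
        rwa [this] at h
    have hcard : (Finset.univ.filter fun t : G => t⁻¹ * g * t ∈ T).card = Nat.card D.N := by
      rw [← card_filter_mem]
      refine Finset.card_nbij' (fun t => t0⁻¹ * t) (fun h => t0 * h) ?_ ?_
        (fun t _ => mul_inv_cancel_left t0 t) (fun h _ => inv_mul_cancel_left t0 h)
      · intro t ht
        simp only [Finset.coe_filter, Finset.mem_univ, true_and, Set.mem_ofPred_eq, hmem] at ht ⊢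
        exact ht
      · intro h hh
        simp only [Finset.coe_filter, Finset.mem_univ, true_and, Set.mem_ofPred_eq, hmem,
          inv_mul_cancel_left] at hh ⊢
        exact hh
    rw [← Finset.sum_filter, Finset.sum_congr rfl (g := fun _ => f g) (fun t _ => by
        simpa using hf g t⁻¹), Finset.sum_const, hcard, nsmul_eq_mul]
  rw [hTsum, Finset.mul_sum, Finset.sum_congr rfl step, Finset.sum_comm,
    Finset.sum_congr rfl (g := fun _ => ∑ c ∈ T, f c) ?_, Finset.sum_const, Finset.card_univ,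
    ← Nat.card_eq_fintype_card, nsmul_eq_mul]
  intro t _
  rw [← Finset.sum_filter]
  refine Finset.sum_nbij' (fun g => t⁻¹ * g * t) (fun c => t * c * t⁻¹) ?_ ?_
    (fun g _ => by simp [mul_assoc]) (fun c _ => by simp [mul_assoc]) (fun _ _ => rfl)
  · intro g hg
    simp only [Finset.mem_coe, Finset.mem_filter] at hg ⊢
    exact hg.2
  · intro c hc
    simp only [Finset.mem_coe, Finset.mem_filter, Finset.mem_univ, true_and] at hc ⊢
    have hcp : D.p ∣ orderOf c := (Finset.mem_filter.1 hc).2.2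
    have h1 : t⁻¹ * (t * c * t⁻¹) * t = c := by group
    exact ⟨by rw [← hord t, h1]; exact hcp, by rw [h1]; exact hc⟩

open Classical in
theorem sum_PU_sq {η : G → ℂ} (hη : Cfsg.IsCharacter G η) :
    ∑ x ∈ Finset.univ.filter (fun x : D.P × D.U => x.1 ≠ 1),
        η (mulHom D x) * conj (η (mulHom D x)) =
      (Nat.card D.U : ℂ) * ((Nat.card D.P : ℂ) * (totSq D η : ℂ) - (colSq D η : ℂ)) := by
  have hU : (fun u : D.U => η (mulHom D ((1 : D.P), u))) = ∑ b : Cfsg.IrrCharacter D.U,
      (colSum D η b : ℂ) • (b : D.U → ℂ) := by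
    funext u
    change η (((1 : D.P) : G) * u) = _
    rw [resPU_eq D hη, Finset.sum_comm]
    simp only [Finset.sum_apply, Pi.smul_apply, smul_eq_mul, colSum, Nat.cast_sum, Finset.sum_mul]
    refine Finset.sum_congr rfl fun b _ => Finset.sum_congr rfl fun a _ => ?_
    rw [apply_one_eq_one_of_comm D.commP a.2, one_mul]
  have h1 : ∑ u : D.U, η (mulHom D ((1 : D.P), u)) * conj (η (mulHom D ((1 : D.P), u))) =
      (Nat.card D.U : ℂ) * (colSq D η : ℂ) := by
    rw [← card_mul_classInner (fun u : D.U => η (mulHom D ((1 : D.P), u)))]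
    congr 1
    rw [hU]
    simp only [classInner_sum_right, classInner_smul_right, classInner_sum_smul_irr,
      Complex.conj_natCast, colSq, Nat.cast_sum, Nat.cast_pow]
    exact Finset.sum_congr rfl fun b _ => by ring
  have hF : resPU D η = ∑ a : Cfsg.IrrCharacter D.P, ∑ b : Cfsg.IrrCharacter D.U,
      (mult D η a b : ℂ) • prodFun (a : D.P → ℂ) (b : D.U → ℂ) := by
    funext x
    simp only [resPU, Finset.sum_apply, Pi.smul_apply, smul_eq_mul, prodFun]
    exact resPU_eq D hη x.1 x.2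
  have h2 : ∑ x : D.P × D.U, η (mulHom D x) * conj (η (mulHom D x)) =
      (Nat.card D.P : ℂ) * (Nat.card D.U : ℂ) * (totSq D η : ℂ) := by
    rw [← Nat.cast_mul, ← Nat.card_prod]
    rw [← card_mul_classInner (fun x => η (mulHom D x))]
    congr 1
    conv_lhs => arg 2; rw [show (fun x => η (mulHom D x)) = resPU D η from rfl, hF]
    simp only [classInner_sum_right, classInner_smul_right, Complex.conj_natCast, totSq, rowSq,
      Nat.cast_sum, Nat.cast_pow]
    refine Finset.sum_congr rfl fun a _ => Finset.sum_congr rfl fun b _ => ?_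
    rw [show Cfsg.classInner (fun x => η (mulHom D x)) (prodFun (a : D.P → ℂ) (b : D.U → ℂ)) =
      (mult D η a b : ℂ) from pc_eq_mult D hη a b, sq]
  have h3 := Finset.sum_filter_add_sum_filter_not Finset.univ (fun x : D.P × D.U => x.1 ≠ 1)
    (fun x => η (mulHom D x) * conj (η (mulHom D x)))
  have h4 : ∑ x ∈ Finset.univ.filter (fun x : D.P × D.U => ¬ x.1 ≠ 1),
      η (mulHom D x) * conj (η (mulHom D x)) =
      ∑ u : D.U, η (mulHom D ((1 : D.P), u)) * conj (η (mulHom D ((1 : D.P), u))) := by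
    refine Finset.sum_nbij' (fun x => x.2) (fun u => (1, u)) (by simp) (by simp) ?_ (by simp) ?_
    · rintro ⟨y, u⟩ hx; simp at hx; simp [hx]
    · rintro ⟨y, u⟩ hx; simp at hx; simp [hx]
  rw [h4, h1, h2] at h3
  linear_combination h3

open Classical in
theorem sum_PU_val {η : G → ℂ} (hη : Cfsg.IsCharacter G η) :
    ∑ x ∈ Finset.univ.filter (fun x : D.P × D.U => x.1 ≠ 1), η (mulHom D x) =
      (Nat.card D.U : ℂ) * ((Nat.card D.P : ℂ) * (mult D η (trivIrr D.P) (trivIrr D.U) : ℂ) -
        (colSum D η (trivIrr D.U) : ℂ)) := by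
  have h2 : ∑ x : D.P × D.U, η (mulHom D x) = (Nat.card D.P : ℂ) * (Nat.card D.U : ℂ) *
      (mult D η (trivIrr D.P) (trivIrr D.U) : ℂ) := by
    rw [← pc_eq_mult D hη, pc, ← Nat.cast_mul, ← Nat.card_prod, card_mul_classInner]
    simp [resPU, prodFun, trivIrr]
  have h1 : ∑ u : D.U, η (mulHom D ((1 : D.P), u)) =
      (Nat.card D.U : ℂ) * (colSum D η (trivIrr D.U) : ℂ) := by
    have hc : Cfsg.classInner (fun u : D.U => η (mulHom D ((1 : D.P), u)))
        (trivIrr D.U : D.U → ℂ) = (colSum D η (trivIrr D.U) : ℂ) := by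
      rw [show (fun u : D.U => η (mulHom D ((1 : D.P), u))) = ∑ b : Cfsg.IrrCharacter D.U,
          (colSum D η b : ℂ) • (b : D.U → ℂ) from ?_, classInner_sum_smul_irr]
      funext u
      change η (((1 : D.P) : G) * u) = _
      rw [resPU_eq D hη, Finset.sum_comm]
      simp only [Finset.sum_apply, Pi.smul_apply, smul_eq_mul, colSum, Nat.cast_sum, Finset.sum_mul]
      refine Finset.sum_congr rfl fun b _ => Finset.sum_congr rfl fun a _ => ?_
      rw [apply_one_eq_one_of_comm D.commP a.2, one_mul]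
    rw [← hc, card_mul_classInner]
    simp [trivIrr]
  have h3 := Finset.sum_filter_add_sum_filter_not Finset.univ (fun x : D.P × D.U => x.1 ≠ 1)
    (fun x => η (mulHom D x))
  have h4 : ∑ x ∈ Finset.univ.filter (fun x : D.P × D.U => ¬ x.1 ≠ 1), η (mulHom D x) =
      ∑ u : D.U, η (mulHom D ((1 : D.P), u)) := by
    refine Finset.sum_nbij' (fun x => x.2) (fun u => (1, u)) (by simp) (by simp) ?_ (by simp) ?_
    · rintro ⟨y, u⟩ hx; simp at hx; simp [hx]
    · rintro ⟨y, u⟩ hx; simp at hx; simp [hx]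
  rw [h4, h1, h2] at h3
  linear_combination h3

open Classical in
/-- The basic inequality. -/
theorem norm_ineq {η : Cfsg.IrrCharacter G} (hη : (η : G → ℂ) ≠ fun _ => 1) {t : ℝ} (ht : 0 ≤ t) :
    ((Nat.card D.P : ℝ) * totSq D (η : G → ℂ) - colSq D (η : G → ℂ)) +
        2 * t * ((Nat.card D.P : ℝ) * mult D (η : G → ℂ) (trivIrr D.P) (trivIrr D.U)
          - colSum D (η : G → ℂ) (trivIrr D.U)) +
        t ^ 2 * ((Nat.card D.P : ℝ) - 1) <
      (relE D : ℝ) * Nat.card D.P * (1 + t ^ 2) := by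
  have hη' := isCharacter_of_isIrrCharacter η.2
  have hcf := isClassFunction_of_isCharacter hη'
  set one : G → ℂ := fun _ => 1 with hone
  let F : G → ℂ := fun g => (η : G → ℂ) g + (t : ℂ)
  have hFc : Cfsg.IsClassFunction G fun g => F g * conj (F g) := fun g h => by
    simp only [F, hcf g h]
  have hGne : (Nat.card G : ℂ) ≠ 0 := Nat.cast_ne_zero.2 Nat.card_pos.ne'
  have hηone : Cfsg.classInner (η : G → ℂ) one = 0 :=
    classInner_irr_ne η.2 isIrrCharacter_one hη
  have hsum1 : ∑ g, (η : G → ℂ) g = 0 := by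
    have h := card_mul_classInner (η : G → ℂ) one
    rw [hηone, mul_zero] at h
    simpa [one] using h.symm
  have hsum2 : ∑ g, conj ((η : G → ℂ) g) = 0 := by rw [← map_sum, hsum1, map_zero]
  have htot : ∑ g, F g * conj (F g) = (Nat.card G : ℂ) * (1 + (t : ℂ) ^ 2) := by
    have h := card_mul_classInner (η : G → ℂ) (η : G → ℂ)
    rw [classInner_irr_self η.2, mul_one] at h
    have e1 : ∀ g, F g * conj (F g) = (η : G → ℂ) g * conj ((η : G → ℂ) g) +
        (t : ℂ) * (η : G → ℂ) g + (t : ℂ) * conj ((η : G → ℂ) g) + (t : ℂ) ^ 2 := fun g => by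
      simp only [F, map_add, Complex.conj_ofReal]; ring
    simp only [e1, Finset.sum_add_distrib, ← Finset.mul_sum, hsum1, hsum2, ← h, Finset.sum_const,
      Finset.card_univ, ← Nat.card_eq_fintype_card, nsmul_eq_mul]
    ring
  have hTsum : ∑ x ∈ Finset.univ.filter (fun x : D.P × D.U => x.1 ≠ 1),
      F (mulHom D x) * conj (F (mulHom D x)) = (Nat.card D.U : ℂ) *
        (((Nat.card D.P : ℂ) * totSq D (η : G → ℂ) - colSq D (η : G → ℂ)) +
        2 * t * ((Nat.card D.P : ℂ) * mult D (η : G → ℂ) (trivIrr D.P) (trivIrr D.U)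
          - colSum D (η : G → ℂ) (trivIrr D.U)) +
        (t : ℂ) ^ 2 * ((Nat.card D.P : ℂ) - 1)) := by
    have hc : ((Finset.univ.filter fun x : D.P × D.U => x.1 ≠ 1).card : ℂ) =
        (Nat.card D.U : ℂ) * ((Nat.card D.P : ℂ) - 1) := by
      have e : (Finset.univ.filter fun x : D.P × D.U => x.1 ≠ 1) =
          (Finset.univ.filter fun y : D.P => y ≠ 1) ×ˢ (Finset.univ : Finset D.U) := by
        ext x; simp
      rw [e, Finset.card_product, Finset.filter_ne', Finset.card_erase_of_mem (Finset.mem_univ _),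
        Finset.card_univ, Finset.card_univ, ← Nat.card_eq_fintype_card, ← Nat.card_eq_fintype_card,
        Nat.cast_mul, Nat.cast_sub Nat.card_pos, Nat.cast_one, mul_comm]
    have h2 := sum_PU_val D hη'
    have h2' : ∑ x ∈ Finset.univ.filter (fun x : D.P × D.U => x.1 ≠ 1),
        conj ((η : G → ℂ) (mulHom D x)) = (Nat.card D.U : ℂ) *
        ((Nat.card D.P : ℂ) * (mult D (η : G → ℂ) (trivIrr D.P) (trivIrr D.U) : ℂ) -
          (colSum D (η : G → ℂ) (trivIrr D.U) : ℂ)) := by
      rw [← map_sum, h2]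
      simp [map_mul, map_sub, Complex.conj_natCast]
    have e1 : ∀ g, F g * conj (F g) = (η : G → ℂ) g * conj ((η : G → ℂ) g) +
        (t : ℂ) * (η : G → ℂ) g + (t : ℂ) * conj ((η : G → ℂ) g) + (t : ℂ) ^ 2 := fun g => by
      simp only [F, map_add, Complex.conj_ofReal]; ring
    simp only [e1, Finset.sum_add_distrib, ← Finset.mul_sum, sum_PU_sq D hη', h2, h2',
      Finset.sum_const, nsmul_eq_mul, hc]
    ring
  have hs := sum_sing D hFc
  rw [hTsum, card_N] at hs
  have hsplit := Finset.sum_filter_add_sum_filter_not Finset.univ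
    (fun g : G => D.p ∣ orderOf g) (fun g => F g * conj (F g))
  rw [htot] at hsplit
  set X := ∑ g ∈ Finset.univ.filter (fun g : G => ¬ D.p ∣ orderOf g), Complex.normSq (F g) with hX
  have hXc : ∑ g ∈ Finset.univ.filter (fun g : G => ¬ D.p ∣ orderOf g), F g * conj (F g) =
      (X : ℂ) := by
    rw [hX, Complex.ofReal_sum]
    exact Finset.sum_congr rfl fun g _ => Complex.mul_conj (F g)
  rw [hXc] at hsplit
  have hXpos : 0 < X := by
    by_cases hp : D.p ∣ orderOf (1 : G)
    · exfalso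
      have h := (D.sing_iff 1 D.P.one_mem 1 D.U.one_mem).1 (by rwa [one_mul])
      exact h rfl
    refine lt_of_lt_of_le ?_ (Finset.single_le_sum (f := fun g => Complex.normSq (F g))
      (fun g _ => Complex.normSq_nonneg _) (Finset.mem_filter.2 ⟨Finset.mem_univ 1, hp⟩))
    obtain ⟨d, hd, hd1⟩ := isIrrCharacter_apply_one η.2
    simp only [F, hd1]
    rw [Complex.normSq_pos, ← Complex.ofReal_natCast, ← Complex.ofReal_add, Complex.ofReal_ne_zero]
    have : (0 : ℝ) < d := by exact_mod_cast hd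
    linarith
  set W : ℝ := ((Nat.card D.P : ℝ) * totSq D (η : G → ℂ) - colSq D (η : G → ℂ)) +
        2 * t * ((Nat.card D.P : ℝ) * mult D (η : G → ℂ) (trivIrr D.P) (trivIrr D.U)
          - colSum D (η : G → ℂ) (trivIrr D.U)) +
        t ^ 2 * ((Nat.card D.P : ℝ) - 1) with hW
  have hkey : ((relE D : ℝ) * ((Nat.card D.P : ℝ) * Nat.card D.U)) * ((Nat.card G : ℝ) *
      (1 + t ^ 2) - X) = (Nat.card G : ℝ) * (Nat.card D.U * W) := by
    have h' : (((relE D : ℝ) * ((Nat.card D.P : ℝ) * Nat.card D.U)) * ((Nat.card G : ℝ) *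
      (1 + t ^ 2) - X) : ℝ) = (((Nat.card G : ℝ) * (Nat.card D.U * W) : ℝ) : ℂ) := by
      rw [hW]
      push_cast at hs ⊢
      rw [← hs]
      linear_combination -((relE D : ℂ) * ((Nat.card D.P : ℂ) * Nat.card D.U)) * hsplit
    exact_mod_cast h'
  have hGpos : (0 : ℝ) < Nat.card G := by exact_mod_cast Nat.card_pos
  have hUpos : (0 : ℝ) < Nat.card D.U := by exact_mod_cast Nat.card_pos
  have hepos : (0 : ℝ) < relE D := by
    exact_mod_cast Nat.pos_of_ne_zero Subgroup.index_ne_zero_of_finite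
  have hPpos : (0 : ℝ) < Nat.card D.P := by exact_mod_cast Nat.card_pos
  by_contra hle
  rw [not_lt] at hle
  have h1 : (relE D : ℝ) * (Nat.card D.P : ℝ) * (1 + t ^ 2) * ((Nat.card G : ℝ) * Nat.card D.U) ≤
      W * ((Nat.card G : ℝ) * Nat.card D.U) := mul_le_mul_of_nonneg_right hle (by positivity)
  have h2 : 0 < (relE D : ℝ) * ((Nat.card D.P : ℝ) * Nat.card D.U) * X := by positivity
  nlinarith [hkey]

theorem basic_ineq {η : Cfsg.IrrCharacter G} (hη : (η : G → ℂ) ≠ fun _ => 1) :
    Nat.card D.P * totSq D (η : G → ℂ) <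
      relE D * Nat.card D.P + colSq D (η : G → ℂ) := by
  have h := norm_ineq D hη (le_refl (0 : ℝ))
  simp only [mul_zero, zero_mul, add_zero, ne_eq, OfNat.ofNat_ne_zero, not_false_eq_true,
    zero_pow, mul_one] at h
  have h' : ((Nat.card D.P * totSq D (η : G → ℂ) : ℕ) : ℝ) <
      ((relE D * Nat.card D.P + colSq D (η : G → ℂ) : ℕ) : ℝ) := by push_cast; linarith
  exact_mod_cast h'

/-! ### The action of the normalizer on the characters of `P` -/

/-- Conjugation by an element of the normalizer. -/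
def conjP (h : D.N) : D.P →* D.P where
  toFun y := ⟨(h : G)⁻¹ * y * h, D.normP h h.2 y y.2⟩
  map_one' := by ext; simp
  map_mul' x y := by ext; simp [mul_assoc]

theorem conjP_surjective (h : D.N) : Function.Surjective (conjP D h) :=
  Finite.surjective_of_injective fun x y hxy => by
    have := congrArg Subtype.val hxy
    simpa [conjP] using this

/-- The conjugate character. -/
def conjIrr (h : D.N) (a : Cfsg.IrrCharacter D.P) : Cfsg.IrrCharacter D.P :=
  ⟨_, isIrrCharacter_comap (conjP D h) (conjP_surjective D h) a.2⟩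

theorem conjIrr_apply (h : D.N) (a : Cfsg.IrrCharacter D.P) (y : D.P) :
    (conjIrr D h a : D.P → ℂ) y = (a : D.P → ℂ) (conjP D h y) := rfl

theorem conjIrr_conjIrr (h k : D.N) (a : Cfsg.IrrCharacter D.P) :
    conjIrr D h (conjIrr D k a) = conjIrr D (h * k) a := by
  refine Subtype.ext (funext fun y => ?_)
  refine congrArg (a : D.P → ℂ) (Subtype.ext ?_)
  simp [conjP, mul_assoc]

theorem conjIrr_of_mem (h : D.N) (hh : (h : G) ∈ D.C) (a : Cfsg.IrrCharacter D.P) :
    conjIrr D h a = a := by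
  refine Subtype.ext (funext fun y => ?_)
  refine congrArg (a : D.P → ℂ) (Subtype.ext ?_)
  change (h : G)⁻¹ * y * h = y
  rw [mul_assoc, D.comm y y.2 h hh, inv_mul_cancel_left]

theorem rmult_conjIrr {η : G → ℂ} (hη : Cfsg.IsCharacter G η) (h : D.N)
    (a : Cfsg.IrrCharacter D.P) : rmult D η (conjIrr D h a) = rmult D η a := by
  have hinj : Function.Injective (conjP D h) := fun x y hxy => by
    simpa [conjP] using congrArg Subtype.val hxy
  have h1 : (rmult D η (conjIrr D h a) : ℂ) = rmult D η a := by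
    rw [← rmult_eq D hη, ← rmult_eq D hη, Cfsg.classInner, Cfsg.classInner]
    congr 1
    refine Fintype.sum_equiv (Equiv.ofBijective _ ⟨hinj, conjP_surjective D h⟩) _ _ fun y => ?_
    simp only [conjIrr_apply, Equiv.ofBijective_apply]
    congr 1
    have := (isClassFunction_of_isCharacter hη) (y : G) (h : G)⁻¹
    rw [inv_inv] at this
    exact this.symm
  exact_mod_cast h1

theorem free_action {a : Cfsg.IrrCharacter D.P} (ha : a ≠ trivIrr D.P) {h : D.N}
    (hh : conjIrr D h a = a) : (h : G) ∈ D.C := by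
  by_contra hC
  obtain ⟨lam, hlam⟩ := exists_hom_of_comm D.commP a.2
  let ψ : D.P → D.P := fun y => conjP D h y * y⁻¹
  have hinj : Function.Injective ψ := by
    intro x y hxy
    have h1 : conjP D h (x * y⁻¹) = x * y⁻¹ := by
      have hxy' : conjP D h x * x⁻¹ = conjP D h y * y⁻¹ := hxy
      rw [map_mul, map_inv]
      calc conjP D h x * (conjP D h y)⁻¹ = conjP D h x * x⁻¹ * x * (conjP D h y)⁻¹ := by
            rw [inv_mul_cancel_right]
        _ = conjP D h y * y⁻¹ * x * (conjP D h y)⁻¹ := by rw [hxy']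
        _ = conjP D h y * (y⁻¹ * x) * (conjP D h y)⁻¹ := by group
        _ = y⁻¹ * x := by rw [D.commP (conjP D h y), mul_inv_cancel_right]
        _ = x * y⁻¹ := D.commP _ _
    by_contra hne
    refine hC (D.free h h.2 _ (x * y⁻¹).2 (congrArg Subtype.val h1) fun he => hne ?_)
    exact mul_inv_eq_one.1 (Subtype.ext he)
  refine ha (Subtype.ext ?_)
  rw [hlam]
  funext y
  obtain ⟨z, rfl⟩ := Finite.surjective_of_injective hinj y
  have hz : (a : D.P → ℂ) (conjP D h z) = (a : D.P → ℂ) z :=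
    congrFun (congrArg Subtype.val hh) z
  rw [hlam] at hz
  have hz' : lam (conjP D h z) = lam z := Units.ext hz
  simp [ψ, hz', trivIrr]

open Classical in
/-- The orbit of a character of `P`. -/
noncomputable def orb (a : Cfsg.IrrCharacter D.P) : Finset (Cfsg.IrrCharacter D.P) :=
  Finset.univ.image fun h : D.N => conjIrr D h a

theorem mem_orb {a b : Cfsg.IrrCharacter D.P} :
    b ∈ orb D a ↔ ∃ h : D.N, conjIrr D h a = b := by
  classical simp [orb]

open Classical in
theorem card_orb {a : Cfsg.IrrCharacter D.P} (ha : a ≠ trivIrr D.P) :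
    (orb D a).card = relE D := by
  rw [relE, Subgroup.index_eq_card]
  symm
  rw [← Nat.card_eq_finsetCard]
  refine Nat.card_congr (Equiv.ofBijective (fun q : D.N ⧸ D.C.subgroupOf D.N =>
    (⟨conjIrr D q.out a, (mem_orb D).2 ⟨_, rfl⟩⟩ : orb D a)) ⟨?_, ?_⟩)
  · intro q q' hqq
    have h1 : conjIrr D q.out a = conjIrr D q'.out a := congrArg Subtype.val hqq
    have h2 : conjIrr D (q'.out⁻¹ * q.out) a = a := by
      rw [← conjIrr_conjIrr, h1, conjIrr_conjIrr, inv_mul_cancel,
        conjIrr_of_mem D 1 D.C.one_mem]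
    have h3 := free_action D ha h2
    rw [← Quotient.out_eq q, ← Quotient.out_eq q']
    exact (QuotientGroup.eq.2 (Subgroup.mem_subgroupOf.2 h3)).symm
  · rintro ⟨b, hb⟩
    obtain ⟨h, rfl⟩ := (mem_orb D).1 hb
    obtain ⟨c, hc⟩ := QuotientGroup.mk_out_eq_mul (D.C.subgroupOf D.N) h
    refine ⟨QuotientGroup.mk h, Subtype.ext ?_⟩
    change conjIrr D (QuotientGroup.mk h : D.N ⧸ D.C.subgroupOf D.N).out a = conjIrr D h a
    rw [hc, ← conjIrr_conjIrr, conjIrr_of_mem D (c : D.N) (Subgroup.mem_subgroupOf.1 c.2)]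

open Classical in
theorem dvd_card_invariant (s : Finset (Cfsg.IrrCharacter D.P))
    (h1 : trivIrr D.P ∉ s) (hinv : ∀ (h : D.N), ∀ a ∈ s, conjIrr D h a ∈ s) :
    relE D ∣ s.card := by
  induction s using Finset.strongInduction with
  | _ s ih =>
    rcases s.eq_empty_or_nonempty with rfl | ⟨a, ha⟩
    · simp
    have hsub : orb D a ⊆ s := fun b hb => by
      obtain ⟨h, rfl⟩ := (mem_orb D).1 hb
      exact hinv h a ha
    have hself : a ∈ orb D a := (mem_orb D).2 ⟨1, conjIrr_of_mem D 1 D.C.one_mem a⟩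
    have hlt : s \ orb D a ⊂ s := Finset.sdiff_ssubset hsub ⟨a, hself⟩
    have hrest := ih _ hlt (fun h => h1 (Finset.mem_sdiff.1 h).1) (fun h b hb => by
      rw [Finset.mem_sdiff] at hb ⊢
      refine ⟨hinv h b hb.1, fun hb' => hb.2 ?_⟩
      obtain ⟨k, hk⟩ := (mem_orb D).1 hb'
      refine (mem_orb D).2 ⟨h⁻¹ * k, ?_⟩
      rw [← conjIrr_conjIrr, hk, conjIrr_conjIrr, inv_mul_cancel,
        conjIrr_of_mem D 1 D.C.one_mem])
    rw [← Finset.card_sdiff_add_card_eq_card hsub,
      card_orb D (fun h => h1 (h ▸ ha))]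
    exact dvd_add hrest dvd_rfl

theorem conjIrr_triv (h : D.N) : conjIrr D h (trivIrr D.P) = trivIrr D.P := rfl

open Classical in
theorem relE_dvd : relE D ∣ Nat.card D.P - 1 := by
  have h := dvd_card_invariant D (Finset.univ.erase (trivIrr D.P)) (by simp) fun h a ha => by
    simp only [Finset.mem_erase, Finset.mem_univ, and_true] at ha ⊢
    intro he
    refine ha ?_
    have h1 := congrArg (conjIrr D h⁻¹) he
    rwa [conjIrr_conjIrr, inv_mul_cancel, conjIrr_of_mem D 1 D.C.one_mem, conjIrr_triv] at h1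
  rwa [Finset.card_erase_of_mem (Finset.mem_univ _), Finset.card_univ,
    card_irr_of_comm D.commP] at h

open Classical in
/-- The non-trivial characters of `P` occurring in a character. -/
noncomputable def supp (η : G → ℂ) : Finset (Cfsg.IrrCharacter D.P) :=
  Finset.univ.filter fun a => a ≠ trivIrr D.P ∧ rmult D η a ≠ 0

theorem mem_supp {η : G → ℂ} {a : Cfsg.IrrCharacter D.P} :
    a ∈ supp D η ↔ a ≠ trivIrr D.P ∧ rmult D η a ≠ 0 := by
  classical simp [supp]

theorem supp_invariant {η : G → ℂ} (hη : Cfsg.IsCharacter G η) (h : D.N)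
    {a : Cfsg.IrrCharacter D.P} (ha : a ∈ supp D η) : conjIrr D h a ∈ supp D η := by
  rw [mem_supp] at ha ⊢
  refine ⟨fun he => ha.1 ?_, by rw [rmult_conjIrr D hη]; exact ha.2⟩
  have h1 := congrArg (conjIrr D h⁻¹) he
  rwa [conjIrr_conjIrr, inv_mul_cancel, conjIrr_of_mem D 1 D.C.one_mem, conjIrr_triv] at h1

theorem relE_dvd_supp {η : G → ℂ} (hη : Cfsg.IsCharacter G η) :
    relE D ∣ (supp D η).card :=
  dvd_card_invariant D _ (fun h => ((mem_supp D).1 h).1 rfl)
    (fun h _ ha => supp_invariant D hη h ha)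

theorem le_ker_of_supp_empty {η : G → ℂ} (hη : Cfsg.IsCharacter G η) (h : supp D η = ∅) :
    D.P ≤ charKer η hη := by
  intro y hy
  change η y = η 1
  have key : ∀ z : D.P, η z = (rmult D η (trivIrr D.P) : ℂ) := by
    intro z
    rw [res_P_eq D hη, Finset.sum_eq_single (trivIrr D.P)]
    · simp [trivIrr]
    · intro a _ ha
      by_cases h0 : rmult D η a = 0
      · simp [h0]
      · exact absurd ((mem_supp D).2 ⟨ha, h0⟩) (by simp [h])
    · simp
  exact (key ⟨y, hy⟩).trans (key 1).symm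

open Classical in
theorem sum_rowSq_le {η : G → ℂ} (s : Finset (Cfsg.IrrCharacter D.P)) :
    ∑ a ∈ s, rowSq D η a ≤ totSq D η :=
  Finset.sum_le_univ_sum_of_nonneg (fun _ => Nat.zero_le _)

theorem card_le_totSq {η : G → ℂ} (hη : Cfsg.IsCharacter G η) :
    (supp D η).card + rowSq D η (trivIrr D.P) ≤ totSq D η := by
  classical
  refine le_trans ?_ (sum_rowSq_le D (insert (trivIrr D.P) (supp D η)))
  rw [Finset.sum_insert (fun h => ((mem_supp D).1 h).1 rfl), add_comm]
  gcongr
  rw [Finset.card_eq_sum_ones]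
  exact Finset.sum_le_sum fun a ha => rowSq_pos D hη ((mem_supp D).1 ha).2

theorem colSq_le {η : G → ℂ} (hη : Cfsg.IsCharacter G η) :
    colSq D η ≤ (1 + (supp D η).card) * totSq D η := by
  classical
  set s := insert (trivIrr D.P) (supp D η) with hs
  have hcard : s.card = 1 + (supp D η).card := by
    rw [hs, Finset.card_insert_of_notMem (fun h => ((mem_supp D).1 h).1 rfl), add_comm]
  have hz : ∀ a, a ∉ s → ∀ b, mult D η a b = 0 := by
    intro a ha b
    refine mult_eq_zero_of_rmult D hη ?_ b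
    by_contra h0
    simp only [hs, Finset.mem_insert, mem_supp, not_or, not_and_or] at ha
    tauto
  calc colSq D η = ∑ b : Cfsg.IrrCharacter D.U, (∑ a ∈ s, mult D η a b) ^ 2 := by
        refine Finset.sum_congr rfl fun b _ => ?_
        rw [colSum, ← Finset.sum_subset (Finset.subset_univ s) (fun a _ ha => hz a ha b)]
    _ ≤ ∑ b : Cfsg.IrrCharacter D.U, s.card * ∑ a ∈ s, mult D η a b ^ 2 :=
        Finset.sum_le_sum fun b _ => sq_sum_le_card_mul_sum_sq
    _ = s.card * ∑ a ∈ s, rowSq D η a := by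
        rw [← Finset.mul_sum, Finset.sum_comm]
        rfl
    _ ≤ (1 + (supp D η).card) * totSq D η := by
        rw [hcard]
        exact Nat.mul_le_mul_left _ (sum_rowSq_le D s)

theorem colSq_le_sq {η : G → ℂ} (hη : Cfsg.IsCharacter G η) {x : ℕ} (hx : η 1 = x) :
    colSq D η ≤ x ^ 2 := by
  choose d hd hd1 using fun b : Cfsg.IrrCharacter D.U => isIrrCharacter_apply_one b.2
  have h := resPU_eq D hη 1 1
  simp only [OneMemClass.coe_one, mul_one, hx, fun a : Cfsg.IrrCharacter D.P =>
    apply_one_eq_one_of_comm D.commP a.2, hd1, one_mul] at h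
  have h' : x = ∑ b : Cfsg.IrrCharacter D.U, colSum D η b * d b := by
    rw [Finset.sum_comm] at h
    have : ((x : ℕ) : ℂ) = ((∑ b : Cfsg.IrrCharacter D.U, colSum D η b * d b : ℕ) : ℂ) := by
      rw [h]; push_cast [colSum]
      exact Finset.sum_congr rfl fun b _ => by rw [Finset.sum_mul]
    exact_mod_cast this
  calc colSq D η ≤ (∑ b : Cfsg.IrrCharacter D.U, colSum D η b) ^ 2 :=
        Finset.sum_sq_le_sq_sum_of_nonneg (fun _ _ => Nat.zero_le _)
    _ ≤ x ^ 2 := by
        refine Nat.pow_le_pow_left ?_ 2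
        rw [h']
        exact Finset.sum_le_sum fun b _ => Nat.le_mul_of_pos_right _ (hd b)

end Cfsg.Agent.CharTIAbelianSylow
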