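/-
An irreducible character of degree x with x² + 1 < |P|, for an abelian Sylow subgroup P whose
non-identity elements all have the centralizer of P.
-/
import Mathlib
import Cfsg.Agent.Lib.CharTIAbelianSylow

set_option autoImplicit false

open scoped ComplexConjugate

namespace Cfsg.Agent.CharTIAbelianSylow

open CharBasic CharBasicOrth CharBasicDecomp CharBasicLinear

universe u

variable {G : Type u} [Group G]

section Main

variable (D : TIData G) [Fintype G] [Fintype D.P] [Fintype D.U]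

theorem mult_le_one {η : G → ℂ} {a : Cfsg.IrrCharacter D.P} (h : rowSq D η a ≤ 1)
    (b : Cfsg.IrrCharacter D.U) : mult D η a b ≤ 1 := by
  have h1 : mult D η a b ^ 2 ≤ rowSq D η a := by
    classical
    exact Finset.single_le_sum (f := fun b => mult D η a b ^ 2) (fun _ _ => Nat.zero_le _)
      (Finset.mem_univ b)
  nlinarith

theorem exists_row_one {η : G → ℂ} (hη : Cfsg.IsCharacter G η) {a : Cfsg.IrrCharacter D.P}
    (h : rowSq D η a = 1) :
    ∃ b, mult D η a b = 1 ∧ (∀ c, c ≠ b → mult D η a c = 0) ∧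
      (rmult D η a : ℂ) = (b : D.U → ℂ) 1 := by
  classical
  have hle := mult_le_one D h.le
  have hsum : ∑ b, mult D η a b = 1 := by
    rw [← h]
    refine Finset.sum_congr rfl fun b _ => ?_
    have := hle b
    interval_cases (mult D η a b) <;> rfl
  obtain ⟨b, -, hb⟩ := Finset.exists_ne_zero_of_sum_ne_zero (by rw [hsum]; norm_num)
  have hb1 : mult D η a b = 1 := by have := hle b; omega
  have hz : ∀ c, c ≠ b → mult D η a c = 0 := by
    intro c hc
    have : mult D η a b + mult D η a c ≤ 1 := by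
      rw [← hsum, ← Finset.sum_pair hc.symm]
      exact Finset.sum_le_univ_sum_of_nonneg (fun _ => Nat.zero_le _)
    omega
  refine ⟨b, hb1, hz, ?_⟩
  rw [rmult_eq_sum D hη, Finset.sum_eq_single b (fun c _ hc => by rw [hz c hc, Nat.cast_zero,
    zero_mul]) (by simp), hb1, Nat.cast_one, one_mul]

/-- Either `P` is in the kernel, or the restriction to `C` is a single orbit of characters. -/
theorem shape {χ : Cfsg.IrrCharacter G} (h1 : (χ : G → ℂ) ≠ fun _ => 1) {x : ℕ}
    (hx : (χ : G → ℂ) 1 = x) (hdeg : x ^ 2 + 1 < Nat.card D.P)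
    (hs : (supp D (χ : G → ℂ)).Nonempty) :
    ∃ d : ℕ, 0 < d ∧ (supp D (χ : G → ℂ)).card = relE D ∧ x = relE D * d ∧
      rmult D (χ : G → ℂ) (trivIrr D.P) = 0 ∧
      (∀ a ∈ supp D (χ : G → ℂ), rowSq D (χ : G → ℂ) a = 1 ∧ rmult D (χ : G → ℂ) a = d) := by
  classical
  have hχ := isCharacter_of_isIrrCharacter χ.2
  set K := (supp D (χ : G → ℂ)).card with hK
  obtain ⟨a0, ha0⟩ := hs
  have hsub : orb D a0 ⊆ supp D (χ : G → ℂ) := fun b hb => by
    obtain ⟨h, rfl⟩ := (mem_orb D).1 hb
    exact supp_invariant D hχ h ha0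
  have hKe : relE D ≤ K := by
    rw [← card_orb D ((mem_supp D).1 ha0).1]
    exact Finset.card_le_card hsub
  have hb := basic_ineq D h1
  have hc := colSq_le_sq D hχ hx
  have hcard := card_le_totSq D hχ
  have hS : totSq D (χ : G → ℂ) ≤ relE D := by
    by_contra hlt
    rw [not_le] at hlt
    have : Nat.card D.P * (relE D + 1) ≤ Nat.card D.P * totSq D (χ : G → ℂ) :=
      Nat.mul_le_mul_left _ hlt
    rw [mul_add, mul_one, mul_comm _ (relE D)] at this
    omega
  have hKeq : K = relE D := by omega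
  have hr0 : rowSq D (χ : G → ℂ) (trivIrr D.P) = 0 := by omega
  have hrm0 : rmult D (χ : G → ℂ) (trivIrr D.P) = 0 := by
    by_contra h
    have := rowSq_pos D hχ h
    omega
  have hrows : ∀ a ∈ supp D (χ : G → ℂ), rowSq D (χ : G → ℂ) a = 1 := by
    intro a ha
    have hge : ∀ b ∈ supp D (χ : G → ℂ), 1 ≤ rowSq D (χ : G → ℂ) b := fun b hb =>
      rowSq_pos D hχ ((mem_supp D).1 hb).2
    have hle : ∑ b ∈ supp D (χ : G → ℂ), rowSq D (χ : G → ℂ) b ≤
        ∑ _b ∈ supp D (χ : G → ℂ), 1 := by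
      rw [← Finset.card_eq_sum_ones, ← hK, hKeq]
      exact (sum_rowSq_le D _).trans hS
    exact ((Finset.sum_eq_sum_iff_of_le hge).1 (le_antisymm (Finset.sum_le_sum hge) hle) a ha).symm
  set d := rmult D (χ : G → ℂ) a0 with hd
  have horb : orb D a0 = supp D (χ : G → ℂ) :=
    Finset.eq_of_subset_of_card_le hsub (by rw [card_orb D ((mem_supp D).1 ha0).1, ← hK, hKeq])
  have hrd : ∀ a ∈ supp D (χ : G → ℂ), rmult D (χ : G → ℂ) a = d := by
    intro a ha
    rw [← horb] at ha
    obtain ⟨h, rfl⟩ := (mem_orb D).1 ha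
    exact rmult_conjIrr D hχ h a0
  refine ⟨d, Nat.pos_of_ne_zero ((mem_supp D).1 ha0).2, hKeq, ?_, hrm0,
    fun a ha => ⟨hrows a ha, hrd a ha⟩⟩
  have h2 := res_P_eq D hχ 1
  rw [OneMemClass.coe_one, hx] at h2
  simp only [fun a : Cfsg.IrrCharacter D.P => apply_one_eq_one_of_comm D.commP a.2, mul_one] at h2
  have h3 : x = ∑ a, rmult D (χ : G → ℂ) a := by exact_mod_cast h2
  rw [h3, ← Finset.sum_subset (Finset.subset_univ (supp D (χ : G → ℂ))) (fun a _ ha => by
      by_cases hat : a = trivIrr D.P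
      · rw [hat]; exact hrm0
      · by_contra h0; exact ha ((mem_supp D).2 ⟨hat, h0⟩)),
    Finset.sum_congr rfl hrd, Finset.sum_const, smul_eq_mul, ← hK, hKeq]

/-- The product of a linear character and the conjugate of another one. -/
noncomputable def pairMul (a b : Cfsg.IrrCharacter D.P) : Cfsg.IrrCharacter D.P :=
  ⟨fun y => (a : D.P → ℂ) y * conj ((b : D.P → ℂ) y), by
    obtain ⟨la, hla⟩ := exists_hom_of_comm D.commP a.2
    obtain ⟨lb, hlb⟩ := exists_hom_of_comm D.commP (isIrrCharacter_conj b.2)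
    have : (fun y => (a : D.P → ℂ) y * conj ((b : D.P → ℂ) y)) =
        fun y => ((la * lb) y : ℂ) := funext fun y => by
      rw [MonoidHom.mul_apply, Units.val_mul, ← congrFun hla y, ← congrFun hlb y]
    rw [this]
    exact isIrrCharacter_linear _⟩

theorem pairMul_apply (a b : Cfsg.IrrCharacter D.P) (y : D.P) :
    (pairMul D a b : D.P → ℂ) y = (a : D.P → ℂ) y * conj ((b : D.P → ℂ) y) := rfl

theorem mul_conj_self {A : Type*} [Group A] [Finite A] (hA : ∀ x y : A, x * y = y * x)
    (b : Cfsg.IrrCharacter A) (y : A) : (b : A → ℂ) y * conj ((b : A → ℂ) y) = 1 := by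
  obtain ⟨lam, hlam⟩ := exists_hom_of_comm hA b.2
  rw [hlam, Complex.mul_conj', norm_linear lam y]
  norm_num

theorem pairMul_eq_triv_iff (a b : Cfsg.IrrCharacter D.P) :
    pairMul D a b = trivIrr D.P ↔ a = b := by
  constructor
  · intro h
    refine Subtype.ext (funext fun y => ?_)
    have h1 : (a : D.P → ℂ) y * conj ((b : D.P → ℂ) y) = 1 :=
      congrFun (congrArg Subtype.val h) y
    have h2 := mul_conj_self D.commP b y
    calc (a : D.P → ℂ) y = (a : D.P → ℂ) y * ((b : D.P → ℂ) y * conj ((b : D.P → ℂ) y)) := by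
          rw [h2, mul_one]
      _ = (b : D.P → ℂ) y * ((a : D.P → ℂ) y * conj ((b : D.P → ℂ) y)) := by ring
      _ = (b : D.P → ℂ) y := by rw [h1, mul_one]
  · rintro rfl
    exact Subtype.ext (funext fun y => mul_conj_self D.commP a y)

set_option maxHeartbeats 1000000 in
open Classical in
theorem core_case {χ : Cfsg.IrrCharacter G} (h1 : (χ : G → ℂ) ≠ fun _ => 1) {x : ℕ}
    (hx : (χ : G → ℂ) 1 = x) (hdeg : x ^ 2 + 1 < Nat.card D.P)
    (hs : (supp D (χ : G → ℂ)).Nonempty) (he : 2 ≤ relE D) :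
    ∃ η : Cfsg.IrrCharacter G, (η : G → ℂ) ≠ (fun _ => 1) ∧
      supp D (η : G → ℂ) = ∅ := by
  obtain ⟨d, hd, hcard, hxd, hrm0, hrows⟩ := shape D h1 hx hdeg hs
  set e := relE D with he'
  set q := Nat.card D.P with hq
  set O := supp D (χ : G → ℂ) with hO
  obtain ⟨j, hj⟩ : e ∣ q - 1 := relE_dvd D
  have hqe : e * e + e + 1 ≤ q := by
    have h2 : e * e < e * j := by
      have h3 : e * e * 1 ≤ e * e * (d * d) := Nat.mul_le_mul_left _ (Nat.mul_pos hd hd)
      have h4 : x ^ 2 = e * e * (d * d) := by rw [hxd]; ring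
      omega
    have h3 : e < j := Nat.lt_of_mul_lt_mul_left h2
    have : e * (e + 1) ≤ e * j := Nat.mul_le_mul_left _ h3
    rw [mul_add, mul_one] at this
    omega
  have hχ := isCharacter_of_isIrrCharacter χ.2
  set Θ : G → ℂ := fun g => (χ : G → ℂ) g * conj ((χ : G → ℂ) g) with hΘ
  have hΘc : Cfsg.IsCharacter G Θ := isCharacter_mul hχ (isCharacter_conj hχ)
  obtain ⟨M, hM, hMsum⟩ := exists_mult hΘc
  have hresχ : ∀ y : D.P, (χ : G → ℂ) y = (d : ℂ) * ∑ a ∈ O, (a : D.P → ℂ) y := by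
    intro y
    rw [res_P_eq D hχ, Finset.mul_sum, ← Finset.sum_subset (Finset.subset_univ O) (fun a _ ha => ?_)]
    · exact Finset.sum_congr rfl fun a ha => by rw [(hrows a ha).2]
    · have : rmult D (χ : G → ℂ) a = 0 := by
        by_cases hat : a = trivIrr D.P
        · rw [hat]; exact hrm0
        · by_contra h0; exact ha ((mem_supp D).2 ⟨hat, h0⟩)
      simp [this]
  have hrΘ : ∀ c : Cfsg.IrrCharacter D.P, rmult D Θ c =
      d * d * ((O ×ˢ O).filter fun z => pairMul D z.1 z.2 = c).card := by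
    intro c
    have h2 : (fun y : D.P => Θ y) = ((d * d : ℕ) : ℂ) •
        ∑ z ∈ O ×ˢ O, (pairMul D z.1 z.2 : D.P → ℂ) := by
      funext y
      simp only [Θ, hresχ, map_mul, Complex.conj_natCast, map_sum, Pi.smul_apply, smul_eq_mul,
        Finset.sum_apply, pairMul_apply, Nat.cast_mul, Finset.sum_product]
      rw [← Finset.sum_mul_sum]
      ring
    have h3 : (rmult D Θ c : ℂ) =
        ((d * d * ((O ×ˢ O).filter fun z => pairMul D z.1 z.2 = c).card : ℕ) : ℂ) := by
      rw [← rmult_eq D hΘc, h2, classInner_smul_left, classInner_sum_left]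
      simp only [classInner_irrCharacter, Finset.sum_boole, Nat.cast_mul]
    exact_mod_cast h3
  have hΘη : ∀ c : Cfsg.IrrCharacter D.P,
      rmult D Θ c = ∑ η : Cfsg.IrrCharacter G, M η * rmult D (η : G → ℂ) c := by
    intro c
    have h3 : (rmult D Θ c : ℂ) = ((∑ η : Cfsg.IrrCharacter G,
        M η * rmult D (η : G → ℂ) c : ℕ) : ℂ) := by
      rw [← rmult_eq D hΘc]
      have h2 : (fun y : D.P => Θ y) =
          ∑ η : Cfsg.IrrCharacter G, (M η : ℂ) • (fun y : D.P => (η : G → ℂ) y) := by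
        funext y
        have := congrFun hMsum (y : G)
        simp only [Finset.sum_apply, Pi.smul_apply] at this ⊢
        exact this
      rw [h2, classInner_sum_left]
      simp only [classInner_smul_left, rmult_eq D (isCharacter_of_isIrrCharacter (Subtype.prop _)),
        Nat.cast_sum, Nat.cast_mul]
    exact_mod_cast h3
  have hMt : M (trivIrr G) = 1 := by
    have h2 := hM (trivIrr G)
    rw [show Cfsg.classInner Θ (trivIrr G : G → ℂ) = Cfsg.classInner (χ : G → ℂ) χ from by
      simp [Cfsg.classInner, Θ, trivIrr], classInner_irr_self χ.2] at h2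
    exact_mod_cast h2.symm
  have hdiag : ((O ×ˢ O).filter fun z => pairMul D z.1 z.2 = trivIrr D.P).card = e := by
    rw [← hcard, ← Finset.diag_card O]
    congr 1
    ext z
    simp only [Finset.mem_filter, Finset.mem_product, pairMul_eq_triv_iff, Finset.mem_diag]
    constructor
    · exact fun h => ⟨h.1.1, h.2⟩
    · exact fun h => ⟨⟨h.1, h.2 ▸ h.1⟩, h.2⟩
  have hrt : rmult D (trivIrr G : G → ℂ) (trivIrr D.P) = 1 := by
    have h2 := rmult_eq D (isCharacter_of_isIrrCharacter (trivIrr G).2) (trivIrr D.P)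
    rw [show (fun y : D.P => (trivIrr G : G → ℂ) y) = (trivIrr D.P : D.P → ℂ) from rfl,
      classInner_irr_self (trivIrr D.P).2] at h2
    exact_mod_cast h2.symm
  obtain ⟨η, hηne, hMη, hrη⟩ : ∃ η : Cfsg.IrrCharacter G, η ≠ trivIrr G ∧ M η ≠ 0 ∧
      rmult D (η : G → ℂ) (trivIrr D.P) ≠ 0 := by
    by_contra hno
    have h2 := hΘη (trivIrr D.P)
    rw [hrΘ, hdiag, Finset.sum_eq_single (trivIrr G) (fun η _ hη => ?_) (by simp), hMt, hrt] at h2
    · have := Nat.mul_pos hd hd
      nlinarith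
    · by_contra hne
      exact hno ⟨η, hη, fun h => hne (by simp [h]), fun h => hne (by simp [h])⟩
  have hη1 : (η : G → ℂ) ≠ fun _ => 1 := fun h => hηne (Subtype.ext h)
  have hηc := isCharacter_of_isIrrCharacter η.2
  refine ⟨η, hη1, ?_⟩
  by_contra hne
  obtain ⟨a0, ha0⟩ := Finset.nonempty_iff_ne_empty.2 hne
  set K := (supp D (η : G → ℂ)).card with hK
  set S := totSq D (η : G → ℂ) with hS
  have hKle : K ≤ e * e - e := by
    rw [← hcard, ← Finset.offDiag_card O]
    refine le_trans (Finset.card_le_card ?_) (Finset.card_image_le (f := fun z => pairMul D z.1 z.2))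
    intro c hc
    obtain ⟨hc1, hc2⟩ := (mem_supp D).1 hc
    have h2 : rmult D Θ c ≠ 0 := by
      rw [hΘη]
      intro h0
      have := (Finset.sum_eq_zero_iff.1 h0) η (Finset.mem_univ η)
      rcases mul_eq_zero.1 this with h | h
      exacts [hMη h, hc2 h]
    rw [hrΘ] at h2
    obtain ⟨z, hz⟩ := Finset.card_pos.1 (Nat.pos_of_ne_zero (right_ne_zero_of_mul h2))
    simp only [Finset.mem_filter, Finset.mem_product] at hz
    refine Finset.mem_image.2 ⟨z, Finset.mem_offDiag.2 ⟨hz.1.1, hz.1.2, fun h => hc1 ?_⟩, hz.2⟩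
    rw [← hz.2, pairMul_eq_triv_iff]; exact h
  have hSge : 1 + K ≤ S := by
    have h2 := card_le_totSq D hηc
    have h3 := rowSq_pos D hηc hrη
    omega
  have hineq := basic_ineq D hη1
  have hσle := colSq_le D hηc
  rw [← hq, ← he', ← hS] at hineq
  rw [← hK, ← hS] at hσle
  obtain ⟨i, hi⟩ := relE_dvd_supp D hηc
  rw [← hK, ← he'] at hi
  have hi1 : i = 1 := by
    by_contra hi1
    have hi0 : i ≠ 0 := fun h => by
      rw [h, mul_zero] at hi
      exact absurd (Finset.card_eq_zero.1 hi) hne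
    have h2K : 2 * e ≤ K := by rw [hi]; nlinarith [show 2 ≤ i from by omega]
    have hKle' : K + e ≤ e * e := by have := Nat.le_mul_self e; omega
    have h3 : q * S < e * q + (1 + K) * S := by omega
    have h4 : q * (1 + K) + 0 < e * q + (1 + K) * (1 + K) := by
      by_contra hcon
      rw [not_lt] at hcon
      have : (q - (1 + K)) * (1 + K) ≤ (q - (1 + K)) * S := Nat.mul_le_mul_left _ hSge
      have hqK : 1 + K ≤ q := by omega
      rw [Nat.sub_mul, Nat.sub_mul] at this
      have : (1 + K) * (1 + K) ≤ q * (1 + K) := Nat.mul_le_mul_right _ hqK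
      have : (1 + K) * S ≤ q * S := Nat.mul_le_mul_right _ hqK
      omega
    nlinarith [mul_nonneg (Nat.zero_le (K - 2 * e)) (Nat.zero_le (e * e - e - K)),
      Nat.mul_le_mul_left (K + 1) hqe]
  rw [hi1, mul_one] at hi
  rw [hi] at hσle hSge
  have hS' : S = e + 1 := by
    by_contra hne'
    have h2 : e + 2 ≤ S := by omega
    nlinarith [Nat.mul_le_mul_right S hqe]
  rw [hS'] at hineq hσle
  have hσq : q < colSq D (η : G → ℂ) := by rw [mul_add, mul_one, mul_comm q e] at hineq; omega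
  have hq2 : q = e * e + e + 1 := by
    have h2 : j ≤ e + 1 := by
      by_contra hcon
      have : e * (e + 2) ≤ e * j := Nat.mul_le_mul_left _ (by omega)
      have hqj : q = e * j + 1 := by omega
      nlinarith
    have h3 : e * j ≤ e * (e + 1) := Nat.mul_le_mul_left _ h2
    rw [mul_add, mul_one] at h3
    omega
  have hd1 : d = 1 := by
    by_contra hne'
    have : e * 2 ≤ x := by rw [hxd]; exact Nat.mul_le_mul_left _ (by omega)
    nlinarith
  have h2sum : ∑ a ∈ insert (trivIrr D.P) (supp D (η : G → ℂ)), rowSq D (η : G → ℂ) a ≤ e + 1 := by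
    rw [← hS']; exact sum_rowSq_le D _
  have hcardins : (insert (trivIrr D.P) (supp D (η : G → ℂ))).card = e + 1 := by
    rw [Finset.card_insert_of_notMem (fun h => ((mem_supp D).1 h).1 rfl), ← hK, hi]
  have hrow1 : ∀ a ∈ insert (trivIrr D.P) (supp D (η : G → ℂ)), rowSq D (η : G → ℂ) a = 1 := by
    intro a ha
    have hge : ∀ b ∈ insert (trivIrr D.P) (supp D (η : G → ℂ)), 1 ≤ rowSq D (η : G → ℂ) b := by
      intro b hb
      rcases Finset.mem_insert.1 hb with rfl | hb
      · exact rowSq_pos D hηc hrη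
      · exact rowSq_pos D hηc ((mem_supp D).1 hb).2
    refine ((Finset.sum_eq_sum_iff_of_le hge).1 (le_antisymm (Finset.sum_le_sum hge) ?_) a ha).symm
    rw [← Finset.card_eq_sum_ones, hcardins]
    exact h2sum
  obtain ⟨b0, hb0, hb0z, -⟩ := exists_row_one D hηc (hrow1 _ (Finset.mem_insert_self _ _))
  -- the constituent on `U` is trivial
  have hnu : ∀ a : O, ∃ ν : Cfsg.IrrCharacter D.U, mult D (χ : G → ℂ) a ν = 1 ∧
      (∀ c, c ≠ ν → mult D (χ : G → ℂ) a c = 0) ∧ ∀ u, (ν : D.U → ℂ) u * conj ((ν : D.U → ℂ) u) = 1 := by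
    intro a
    obtain ⟨ν, hν1, hν0, hν⟩ := exists_row_one D hχ (hrows a a.2).1
    rw [(hrows a a.2).2, hd1, Nat.cast_one] at hν
    refine ⟨ν, hν1, hν0, fun u => ?_⟩
    obtain ⟨lam, hlam⟩ :=
      exists_hom_of_apply_one_eq_one (isCharacter_of_isIrrCharacter ν.2) hν.symm
    rw [hlam, Complex.mul_conj', norm_linear lam u]
    norm_num
  choose ν hν1 hν0 hνu using hnu
  have hresU : ∀ (y : D.P) (u : D.U), (χ : G → ℂ) ((y : G) * u) =
      ∑ a : O, (a.1 : D.P → ℂ) y * (ν a : D.U → ℂ) u := by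
    intro y u
    rw [resPU_eq D hχ, ← Finset.sum_subset (Finset.subset_univ O) (fun a _ ha => ?_),
      ← Finset.sum_coe_sort O]
    · refine Finset.sum_congr rfl fun a _ => ?_
      rw [Finset.sum_eq_single (ν a) (fun c _ hc => by rw [hν0 a c hc, Nat.cast_zero, zero_mul])
        (by simp), hν1, Nat.cast_one, one_mul]
    · have : rmult D (χ : G → ℂ) a = 0 := by
        by_cases hat : a = trivIrr D.P
        · rw [hat]; exact hrm0
        · by_contra h0; exact ha ((mem_supp D).2 ⟨hat, h0⟩)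
      exact Finset.sum_eq_zero fun c _ => by rw [mult_eq_zero_of_rmult D hχ this, Nat.cast_zero, zero_mul]
  have hb0t : b0 = trivIrr D.U := by
    by_contra hbt
    have h2 : pc D Θ (trivIrr D.P) b0 = 0 := by
      have hF : resPU D Θ = ∑ z : O × O, prodFun (pairMul D z.1.1 z.2.1 : D.P → ℂ)
          (fun u => (ν z.1 : D.U → ℂ) u * conj ((ν z.2 : D.U → ℂ) u)) := by
        funext w
        change Θ ((w.1 : G) * w.2) = _
        simp only [Θ, hresU, map_sum, map_mul, Finset.sum_apply, prodFun, pairMul_apply,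
          Fintype.sum_prod_type, Finset.sum_mul_sum]
        exact Finset.sum_congr rfl fun a _ => Finset.sum_congr rfl fun b _ => by ring
      rw [pc, hF, classInner_sum_left]
      refine Finset.sum_eq_zero fun z _ => ?_
      rw [classInner_prodFun, classInner_irrCharacter]
      by_cases hz : pairMul D z.1.1 z.2.1 = trivIrr D.P
      · rw [pairMul_eq_triv_iff] at hz
        have hz' : z.1 = z.2 := Subtype.ext hz
        rw [hz', show (fun u => (ν z.2 : D.U → ℂ) u * conj ((ν z.2 : D.U → ℂ) u)) =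
          (trivIrr D.U : D.U → ℂ) from funext (hνu z.2), classInner_irrCharacter,
          if_neg (Ne.symm hbt), mul_zero]
      · rw [if_neg hz, zero_mul]
    have h3 : pc D Θ (trivIrr D.P) b0 =
        ((∑ φ : Cfsg.IrrCharacter G, M φ * mult D (φ : G → ℂ) (trivIrr D.P) b0 : ℕ) : ℂ) := by
      have hF : resPU D Θ = ∑ φ : Cfsg.IrrCharacter G, (M φ : ℂ) • resPU D (φ : G → ℂ) := by
        funext w
        have := congrFun hMsum (mulHom D w)
        simp only [Finset.sum_apply, Pi.smul_apply] at this ⊢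
        exact this
      rw [pc, hF, classInner_sum_left]
      simp only [classInner_smul_left, Nat.cast_sum, Nat.cast_mul,
        ← pc_eq_mult D (isCharacter_of_isIrrCharacter (Subtype.prop _)), pc]
    rw [h2] at h3
    have h4 : ∑ φ : Cfsg.IrrCharacter G, M φ * mult D (φ : G → ℂ) (trivIrr D.P) b0 = 0 := by
      exact_mod_cast h3.symm
    have h5 := (Finset.sum_eq_zero_iff.1 h4) η (Finset.mem_univ η)
    rw [hb0, mul_one] at h5
    exact hMη h5
  subst hb0t
  -- column sums
  set s := insert (trivIrr D.P) (supp D (η : G → ℂ)) with hs'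
  have hzero : ∀ a, a ∉ s → ∀ b, mult D (η : G → ℂ) a b = 0 := by
    intro a ha b
    refine mult_eq_zero_of_rmult D hηc ?_ b
    by_contra h0
    simp only [hs', Finset.mem_insert, mem_supp, not_or, not_and_or] at ha
    tauto
  have hcol : ∀ b, colSum D (η : G → ℂ) b = ∑ a ∈ s, mult D (η : G → ℂ) a b := fun b => by
    rw [colSum, ← Finset.sum_subset (Finset.subset_univ s) (fun a _ ha => hzero a ha b)]
  have htotc : ∑ b, colSum D (η : G → ℂ) b = e + 1 := by
    simp only [hcol]
    rw [Finset.sum_comm, ← hcardins, Finset.card_eq_sum_ones]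
    refine Finset.sum_congr rfl fun a ha => ?_
    obtain ⟨b, hb, hbz, -⟩ := exists_row_one D hηc (hrow1 a ha)
    rw [Finset.sum_eq_single b (fun c _ hc => hbz c hc) (by simp), hb]
  set z := colSum D (η : G → ℂ) (trivIrr D.U) with hz
  have hzpos : 1 ≤ z := by
    rw [hz, hcol, ← hb0]
    exact Finset.single_le_sum (f := fun a => mult D (η : G → ℂ) a (trivIrr D.U))
      (fun _ _ => Nat.zero_le _) (Finset.mem_insert_self _ _)
  rw [← Finset.add_sum_erase Finset.univ _ (Finset.mem_univ (trivIrr D.U)), ← hz] at htotc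
  have hσ : colSq D (η : G → ℂ) ≤ z ^ 2 + (e + 1 - z) ^ 2 := by
    rw [colSq, ← Finset.add_sum_erase Finset.univ _ (Finset.mem_univ (trivIrr D.U)), ← hz]
    refine Nat.add_le_add_left ((Finset.sum_sq_le_sq_sum_of_nonneg
      (fun _ _ => Nat.zero_le _)).trans (Nat.pow_le_pow_left ?_ 2)) _
    omega
  obtain ⟨w, hw⟩ : ∃ w, z + w = e + 1 := ⟨_, htotc⟩
  rw [show e + 1 - z = w from by omega] at hσ
  have hw0 : w = 0 := by
    by_contra hne'
    have : 1 ≤ w := by omega
    nlinarith
  have hσeq : colSq D (η : G → ℂ) = (e + 1) ^ 2 := by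
    refine le_antisymm (hσle.trans (le_of_eq (by ring))) ?_
    rw [show e + 1 = z from by omega, colSq]
    exact Finset.single_le_sum (f := fun b => colSum D (η : G → ℂ) b ^ 2)
      (fun _ _ => Nat.zero_le _) (Finset.mem_univ _)
  have hfin := norm_ineq D hη1 (t := 1 / (e : ℝ)) (by positivity)
  rw [← hS, hS', hσeq, ← hz, show z = e + 1 from by omega, hb0, ← hq, hq2, ← he'] at hfin
  have he0 : (e : ℝ) ≠ 0 := Nat.cast_ne_zero.2 (by omega)
  push_cast at hfin
  field_simp at hfin
  nlinarith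

theorem linear_case {χ : Cfsg.IrrCharacter G} (h1 : (χ : G → ℂ) ≠ fun _ => 1) {x : ℕ}
    (hx : (χ : G → ℂ) 1 = x) (hdeg : x ^ 2 + 1 < Nat.card D.P)
    (hs : (supp D (χ : G → ℂ)).Nonempty) (he : relE D = 1) :
    (∃ K : Subgroup G, K.Normal ∧ K ≠ ⊤ ∧ D.P ≤ K) ∨ x = 1 := by
  classical
  obtain ⟨d, -, hcard, hxd, hrm0, hrows⟩ := shape D h1 hx hdeg hs
  rw [he, one_mul] at hxd
  rw [he] at hcard
  obtain ⟨a, ha⟩ := Finset.card_eq_one.1 hcard
  have hχc := isCharacter_of_isIrrCharacter χ.2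
  have hres : ∀ y : D.P, (χ : G → ℂ) y = (d : ℂ) * (a : D.P → ℂ) y := by
    intro y
    rw [res_P_eq D hχc, Finset.sum_eq_single a (fun b _ hb => ?_) (by simp),
      (hrows a (by rw [ha]; exact Finset.mem_singleton_self a)).2]
    have : rmult D (χ : G → ℂ) b = 0 := by
      by_cases hbt : b = trivIrr D.P
      · rw [hbt]; exact hrm0
      · by_contra h0
        exact hb (Finset.mem_singleton.1 (ha ▸ (mem_supp D).2 ⟨hbt, h0⟩))
    simp [this]
  obtain ⟨n, ρ, hρ, hρχ⟩ := χ.2
  have hn : Module.finrank ℂ (Fin n → ℂ) = x := by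
    have := hx
    rw [← hρχ, Representation.char_one] at this
    exact_mod_cast this
  let Z : Subgroup G :=
    { carrier := {g | ∃ ω : ℂ, ρ g = ω • LinearMap.id}
      one_mem' := ⟨1, by rw [map_one, one_smul]; rfl⟩
      mul_mem' := by
        rintro g h ⟨ω, hω⟩ ⟨ω', hω'⟩
        refine ⟨ω * ω', ?_⟩
        rw [map_mul, hω, hω']
        exact LinearMap.ext fun v => by simp [smul_smul, mul_comm]
      inv_mem' := by
        intro g hg
        rw [Set.mem_ofPred_eq, ← norm_eq_finrank_iff] at hg ⊢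
        rw [character_inv, Complex.norm_conj]
        exact hg }
  have hmem : ∀ g, g ∈ Z ↔ ‖(χ : G → ℂ) g‖ = (x : ℝ) := fun g => by
    rw [← hn, ← hρχ, norm_eq_finrank_iff]
    rfl
  by_cases hZ : Z = ⊤
  · right
    have h2 := card_mul_classInner (χ : G → ℂ) χ
    rw [classInner_irr_self χ.2, mul_one] at h2
    have h3 : ∀ g, (χ : G → ℂ) g * conj ((χ : G → ℂ) g) = ((x : ℂ) ^ 2) := fun g => by
      rw [Complex.mul_conj', (hmem g).1 (hZ ▸ Subgroup.mem_top g)]
      push_cast; ring
    simp only [h3, Finset.sum_const, Finset.card_univ, ← Nat.card_eq_fintype_card,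
      nsmul_eq_mul] at h2
    have h4 : Nat.card G = Nat.card G * x ^ 2 := by exact_mod_cast h2
    have h5 := Nat.eq_one_of_mul_eq_one_right (show x * x = 1 from by
      have := Nat.eq_of_mul_eq_mul_left Nat.card_pos (show Nat.card G * 1 = Nat.card G * x ^ 2 by
        rw [mul_one]; exact h4)
      rw [this]; ring)
    exact h5
  · refine Or.inl ⟨Z, ⟨fun g hg h => ?_⟩, hZ, fun y hy => ?_⟩
    · rw [hmem] at hg ⊢
      rwa [isClassFunction_of_isCharacter hχc g h]
    · rw [hmem, hres ⟨y, hy⟩]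
      obtain ⟨lam, hlam⟩ := exists_hom_of_comm D.commP a.2
      rw [hlam, norm_mul, norm_linear, mul_one, hxd]
      simp

/-- The dichotomy. -/
theorem main_dichotomy {χ : Cfsg.IrrCharacter G} (h1 : (χ : G → ℂ) ≠ fun _ => 1) {x : ℕ}
    (hx : (χ : G → ℂ) 1 = x) (hdeg : x ^ 2 + 1 < Nat.card D.P) :
    (∃ K : Subgroup G, K.Normal ∧ K ≠ ⊤ ∧ D.P ≤ K) ∨ (relE D = 1 ∧ x = 1) := by
  have key : ∀ η : Cfsg.IrrCharacter G, (η : G → ℂ) ≠ (fun _ => 1) → supp D (η : G → ℂ) = ∅ →
      ∃ K : Subgroup G, K.Normal ∧ K ≠ ⊤ ∧ D.P ≤ K := by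
    intro η hη hs
    refine ⟨charKer _ (isCharacter_of_isIrrCharacter η.2), charKer_normal _ _, fun htop => hη ?_,
      le_ker_of_supp_empty D _ hs⟩
    have hall : ∀ g, (η : G → ℂ) g = (η : G → ℂ) 1 := fun g => by
      have : g ∈ charKer _ (isCharacter_of_isIrrCharacter η.2) := htop ▸ Subgroup.mem_top g
      exact this
    have h2 : (η : G → ℂ) = (η : G → ℂ) 1 • (fun _ => (1 : ℂ)) :=
      funext fun g => by simp [hall g]
    by_contra hne
    have h3 := classInner_irr_ne η.2 isIrrCharacter_one hne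
    rw [h2, classInner_smul_left, classInner_irr_self isIrrCharacter_one, mul_one] at h3
    exact isIrrCharacter_apply_one_ne_zero η.2 h3
  rcases (supp D (χ : G → ℂ)).eq_empty_or_nonempty with hs | hs
  · exact Or.inl (key χ h1 hs)
  rcases Nat.lt_or_ge (relE D) 2 with he | he
  · have he1 : relE D = 1 := by
      have : relE D ≠ 0 := Subgroup.index_ne_zero_of_finite
      omega
    rcases linear_case D h1 hx hdeg hs he1 with h | h
    exacts [Or.inl h, Or.inr ⟨he1, h⟩]
  · obtain ⟨η, hη, hs'⟩ := core_case D h1 hx hdeg hs he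
    exact Or.inl (key η hη hs')

end Main

section Sylow

variable [Finite G] {p : ℕ} [Fact p.Prime]

theorem exists_data (P : Sylow p G)
    (hstar : ∀ x ∈ (P : Subgroup G), x ≠ 1 → Subgroup.centralizer ({x} : Set G) =
      Subgroup.centralizer ((P : Subgroup G) : Set G)) :
    ∃ D : TIData G, D.P = (P : Subgroup G) ∧ D.C = Subgroup.centralizer ((P : Subgroup G) : Set G) ∧
      D.N = Subgroup.normalizer ((P : Subgroup G) : Set G) := by
  set C := Subgroup.centralizer ((P : Subgroup G) : Set G) with hC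
  set N := Subgroup.normalizer ((P : Subgroup G) : Set G) with hN
  have hpc : ∀ x ∈ (P : Subgroup G), ∀ y ∈ (P : Subgroup G), x * y = y * x := by
    intro x hx y hy
    by_cases h : x = 1
    · simp [h]
    · have : x ∈ C := by
        rw [← hstar x hx h]
        exact Subgroup.mem_centralizer_singleton_iff.2 rfl
      exact (Subgroup.mem_centralizer_iff.1 this y hy).symm
  have hPC : (P : Subgroup G) ≤ C := fun x hx =>
    Subgroup.mem_centralizer_iff.2 fun y hy => hpc y hy x hx
  have hcomm : ∀ y ∈ (P : Subgroup G), ∀ c ∈ C, y * c = c * y := fun y hy c hc =>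
    Subgroup.mem_centralizer_iff.1 hc y hy
  have hCN : C ≤ N := Subgroup.centralizer_le_normalizer _
  set P' := (P : Subgroup G).subgroupOf C with hP'
  have : P'.Normal := ⟨fun x hx g => by
    rw [Subgroup.mem_subgroupOf] at hx ⊢
    have h := hcomm _ hx g g.2
    simp only [Subgroup.coe_mul, InvMemClass.coe_inv]
    rw [← h, mul_inv_cancel_right]; exact hx⟩
  have hnd : ¬ p ∣ P'.index := fun h => P.not_dvd_index (h.trans (Subgroup.relIndex_dvd_index_of_le hPC))
  have hcardP' : Nat.card P' = Nat.card P := Nat.card_congr (Subgroup.subgroupOfEquivOfLe hPC).toEquiv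
  obtain ⟨k, hk⟩ := IsPGroup.iff_card.1 P.isPGroup'
  have hcop : (Nat.card P').Coprime P'.index := by
    rw [hcardP', hk]
    exact ((Nat.Prime.coprime_iff_not_dvd (Fact.out)).2 hnd).pow_left k
  obtain ⟨H, hH⟩ := Subgroup.exists_right_complement'_of_coprime hcop
  set U := H.map C.subtype with hU
  have hcardH : ¬ p ∣ Nat.card H := by rwa [← hH.symm.index_eq_card]
  have hUord : ∀ u ∈ U, ¬ p ∣ orderOf u := by
    rintro _ ⟨v, hv, rfl⟩ hd
    refine hcardH (hd.trans ?_)
    rw [Subgroup.coe_subtype, Subgroup.orderOf_coe]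
    exact Subgroup.orderOf_dvd_natCard _ hv
  have hUC : U ≤ C := by rintro _ ⟨v, -, rfl⟩; exact v.2
  have hPord : ∀ y ∈ (P : Subgroup G), ∃ i, orderOf y = p ^ i := by
    intro y hy
    obtain ⟨i, hi⟩ := IsPGroup.iff_orderOf.1 P.isPGroup' ⟨y, hy⟩
    exact ⟨i, by rwa [Subgroup.orderOf_mk] at hi⟩
  have hsing : ∀ y ∈ (P : Subgroup G), ∀ u ∈ U, (p ∣ orderOf (y * u) ↔ y ≠ 1) := by
    intro y hy u hu
    obtain ⟨i, hi⟩ := hPord y hy
    have hcop : (orderOf y).Coprime (orderOf u) := by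
      rw [hi]
      exact ((Nat.Prime.coprime_iff_not_dvd Fact.out).2 (hUord u hu)).pow_left i
    rw [(show Commute y u from hcomm y hy u (hUC hu)).orderOf_mul_eq_mul_orderOf_of_coprime hcop]
    constructor
    · intro hd hy1
      rw [hy1, orderOf_one, one_mul] at hd
      exact hUord u hu hd
    · intro hy1
      refine Dvd.dvd.mul_right ?_ _
      rw [hi]
      refine dvd_pow_self p ?_
      rintro rfl
      rw [pow_zero, orderOf_eq_one_iff] at hi
      exact hy1 hi
  have hdisj : (P : Subgroup G) ⊓ U = ⊥ := by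
    rw [eq_bot_iff]
    intro y hy
    rw [Subgroup.mem_inf] at hy
    rw [Subgroup.mem_bot]
    by_contra h1
    have h2 := (hsing y hy.1 1 U.one_mem).2 h1
    rw [mul_one] at h2
    exact hUord y hy.2 h2
  have hdecomp : ∀ c ∈ C, ∃ y ∈ (P : Subgroup G), ∃ u ∈ U, c = y * u := by
    intro c hc
    obtain ⟨⟨y, hy⟩, ⟨u, hu⟩, h⟩ : ∃ (y : P') (u : H), (y : C) * u = ⟨c, hc⟩ := by
      obtain ⟨⟨y, u⟩, h⟩ := hH.2 ⟨c, hc⟩
      exact ⟨y, u, h⟩
    exact ⟨y, hy, u, ⟨u, hu, rfl⟩, (congrArg Subtype.val h).symm⟩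
  have hconj : ∀ h x : G, orderOf (h⁻¹ * x * h) = orderOf x := fun h x => by
    conv_rhs => rw [← MulEquiv.orderOf_eq (MulAut.conj h⁻¹) x]
    simp
  have hPuniq : ∀ c ∈ C, (∃ i, orderOf c = p ^ i) → c ∈ (P : Subgroup G) := by
    intro c hc ⟨i, hi⟩
    obtain ⟨y, hy, u, hu, rfl⟩ := hdecomp c hc
    obtain ⟨l, hl⟩ := hPord y hy
    have hcop : (orderOf y).Coprime (orderOf u) := by
      rw [hl]
      exact ((Nat.Prime.coprime_iff_not_dvd Fact.out).2 (hUord u hu)).pow_left l
    rw [(show Commute y u from hcomm y hy u (hUC hu)).orderOf_mul_eq_mul_orderOf_of_coprime hcop] at hi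
    have h2 : orderOf u ∣ p ^ i := hi ▸ dvd_mul_left _ _
    obtain ⟨w, -, hw⟩ := (Nat.dvd_prime_pow Fact.out).1 h2
    rcases Nat.eq_zero_or_pos w with rfl | hw0
    · rw [pow_zero, orderOf_eq_one_iff] at hw
      simpa [hw] using hy
    · exact absurd (hw ▸ dvd_pow_self p hw0.ne') (hUord u hu)
  refine ⟨⟨p, (P : Subgroup G), U, C, N, fun x y => Subtype.ext (hpc x x.2 y y.2), hCN, hPC, hUC,
    hcomm, hdecomp, hdisj, hsing, ?_, ?_, ?_, ?_, ?_⟩, rfl, rfl, rfl⟩
  · intro g hg
    obtain ⟨z, hz, hzg⟩ : ∃ z, orderOf z = p ∧ Commute g z := by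
      obtain ⟨i, hi⟩ := hg
      have hpos := (isOfFinOrder_of_finite g).orderOf_pos
      have hi0 : i ≠ 0 := fun h => by rw [h, mul_zero] at hi; omega
      refine ⟨g ^ i, ?_, Commute.self_pow g i⟩
      rw [orderOf_pow' _ hi0, hi, Nat.gcd_eq_right (dvd_mul_left i p),
        Nat.mul_div_cancel _ (Nat.pos_of_ne_zero hi0)]
    have h3 : IsPGroup p (Subgroup.zpowers z) :=
      IsPGroup.of_card (n := 1) (by rw [Nat.card_zpowers, hz, pow_one])
    obtain ⟨P'', hP''⟩ := h3.exists_le_sylow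
    obtain ⟨t, ht⟩ := MulAction.exists_smul_eq G P P''
    refine ⟨t, ?_⟩
    have hzP : t⁻¹ * z * t ∈ (P : Subgroup G) := by
      have := hP'' (Subgroup.mem_zpowers z)
      rw [← ht, Sylow.smul_def, Sylow.pointwise_smul_def] at this
      simpa [Subgroup.mem_pointwise_smul_iff_inv_smul_mem, MulAut.smul_def] using this
    have hne : t⁻¹ * z * t ≠ 1 := fun h => by
      have := hconj t z
      rw [h, orderOf_one, hz] at this
      exact (Fact.out : p.Prime).one_lt.ne this
    rw [← hstar _ hzP hne, Subgroup.mem_centralizer_singleton_iff]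
    calc t⁻¹ * g * t * (t⁻¹ * z * t) = t⁻¹ * (g * z) * t := by group
      _ = t⁻¹ * (z * g) * t := by rw [hzg.eq]
      _ = t⁻¹ * z * t * (t⁻¹ * g * t) := by group
  · intro h c hc hd hch
    obtain ⟨i, hi⟩ := hd
    have hpos := (isOfFinOrder_of_finite c).orderOf_pos
    have hi0 : i ≠ 0 := fun h => by rw [h, mul_zero] at hi; omega
    set z := c ^ i with hz
    have hzo : orderOf z = p := by
      rw [hz, orderOf_pow' _ hi0, hi, Nat.gcd_eq_right (dvd_mul_left i p),
        Nat.mul_div_cancel _ (Nat.pos_of_ne_zero hi0)]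
    have hzP : z ∈ (P : Subgroup G) := hPuniq z (C.pow_mem hc i) ⟨1, by rw [hzo, pow_one]⟩
    have hzP' : h⁻¹ * z * h ∈ (P : Subgroup G) := by
      refine hPuniq _ ?_ ⟨1, by rw [hconj, hzo, pow_one]⟩
      have : h⁻¹ * z * h = (h⁻¹ * c * h) ^ i := by
        rw [hz]
        conv_rhs => rw [show h⁻¹ * c * h = MulAut.conj h⁻¹ c by simp]
        rw [← map_pow]
        simp
      rw [this]; exact C.pow_mem hch i
    have hz1 : z ≠ 1 := fun e => by
      rw [e, orderOf_one] at hzo; exact (Fact.out : p.Prime).one_lt.ne hzo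
    have hz1' : h⁻¹ * z * h ≠ 1 := fun e => hz1 (by
      have := congrArg (fun w => h * w * h⁻¹) e
      simpa [mul_assoc] using this)
    have hCC : ∀ w, w ∈ C → h⁻¹ * w * h ∈ C := by
      intro w hw
      rw [← hstar z hzP hz1, Subgroup.mem_centralizer_singleton_iff] at hw
      rw [← hstar _ hzP' hz1', Subgroup.mem_centralizer_singleton_iff]
      calc h⁻¹ * w * h * (h⁻¹ * z * h) = h⁻¹ * (w * z) * h := by group
        _ = h⁻¹ * (z * w) * h := by rw [hw]
        _ = h⁻¹ * z * h * (h⁻¹ * w * h) := by group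
    have hPP : ∀ w, w ∈ (P : Subgroup G) → h⁻¹ * w * h ∈ (P : Subgroup G) := fun w hw => by
      refine hPuniq _ (hCC w (hPC hw)) ?_
      rw [hconj]; exact hPord w hw
    have hmem : h⁻¹ ∈ N := by
      rw [hN, Subgroup.mem_normalizer_iff]
      have hinj : Function.Injective (fun w : (P : Subgroup G) =>
          (⟨h⁻¹ * w * h, hPP w w.2⟩ : (P : Subgroup G))) := fun a b hab => by
        simpa using congrArg Subtype.val hab
      intro w
      rw [inv_inv]
      refine ⟨hPP w, fun hw => ?_⟩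
      obtain ⟨v, hv⟩ := Finite.surjective_of_injective hinj ⟨_, hw⟩
      have hv' : h⁻¹ * (v : G) * h = h⁻¹ * w * h := congrArg Subtype.val hv
      rw [mul_left_inj, mul_right_inj] at hv'
      exact hv' ▸ v.2
    simpa using N.inv_mem hmem
  · intro h hh c hc
    refine Subgroup.mem_centralizer_iff.2 fun y hy => ?_
    have hy' : h * y * h⁻¹ ∈ (P : Subgroup G) := (Subgroup.mem_normalizer_iff.1 hh y).1 hy
    have h2 := hcomm _ hy' c hc
    calc y * (h⁻¹ * c * h) = h⁻¹ * (h * y * h⁻¹ * c) * h := by group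
      _ = h⁻¹ * (c * (h * y * h⁻¹)) * h := by rw [h2]
      _ = h⁻¹ * c * h * y := by group
  · intro h hh y hy
    have := (Subgroup.mem_normalizer_iff.1 (N.inv_mem hh) y).1 hy
    simpa using this
  · intro h _ y hy hfix hy1
    rw [← hstar y hy hy1, Subgroup.mem_centralizer_singleton_iff]
    calc h * y = h * (h⁻¹ * y * h) := by rw [hfix]
      _ = y * h := by group

/-- The Feit–Thompson degree theorem for irreducible characters. -/
theorem small_degree_irr (P : Sylow p G)
    (hstar : ∀ x ∈ (P : Subgroup G), x ≠ 1 → Subgroup.centralizer ({x} : Set G) =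
      Subgroup.centralizer ((P : Subgroup G) : Set G))
    (χ : Cfsg.IrrCharacter G) (h1 : (χ : G → ℂ) ≠ fun _ => 1) {x : ℕ}
    (hx : (χ : G → ℂ) 1 = x) (hdeg : x ^ 2 + 1 < Nat.card P) :
    (∃ K : Subgroup G, K.Normal ∧ K ≠ ⊤ ∧ (P : Subgroup G) ≤ K) ∨
      ((∃ N : Subgroup G, N.Normal ∧ N.index = Nat.card P) ∧ x = 1) := by
  obtain ⟨D, hP, hC, hN⟩ := exists_data P hstar
  have := Fintype.ofFinite G
  have := Fintype.ofFinite D.P
  have := Fintype.ofFinite D.U
  rcases main_dichotomy D h1 hx (by rw [hP]; exact hdeg) with h | ⟨he, hx1⟩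
  · rw [hP] at h; exact Or.inl h
  · have hle : Subgroup.normalizer ((P : Subgroup G) : Set G) ≤
        Subgroup.centralizer ((P : Subgroup G) : Set G) := by
      rw [← hN, ← hC]
      have h2 : D.C.subgroupOf D.N = ⊤ := Subgroup.index_eq_one.1 he
      exact Subgroup.subgroupOf_eq_top.1 h2
    refine Or.inr ⟨⟨(MonoidHom.transferSylow P hle).ker, MonoidHom.normal_ker _, ?_⟩, hx1⟩
    exact (MonoidHom.ker_transferSylow_isComplement' P hle).symm.index_eq_card

end Sylow

end Cfsg.Agent.CharTIAbelianSylow
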