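import Mathlib
import Cfsg.Agent.Lib.Witt
import Cfsg.Agent.Lib.SymplecticAlt

/-!
Self-adjoint square-zero maps of a symplectic space in characteristic two up to isometry, through
the classification of non-degenerate symmetric bilinear forms.
-/

set_option autoImplicit false

open Module

namespace Cfsg.Agent.SympInvolClasses

variable {F : Type*} [Field F]

/-- A symmetric non-degenerate non-alternating form over a perfect field of characteristic two
has an orthonormal basis. -/
theorem exists_orthonormal [CharP F 2] (hsq : ∀ x : F, ∃ c, c ^ 2 = x) :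
    ∀ (n : ℕ) (V : Type _) [AddCommGroup V] [Module F V] [FiniteDimensional F V]
      (b : V →ₗ[F] V →ₗ[F] F), finrank F V = n → (∀ u v, b u v = b v u) →
      (∀ u, (∀ v, b u v = 0) → u = 0) → (∃ v, b v v ≠ 0) →
      ∃ e : Fin n → V, ∀ i j, b (e i) (e j) = if i = j then 1 else 0 := by
  intro n
  induction n with
  | zero => intro V _ _ _ b _ _ _ _; exact ⟨fun i => i.elim0, fun i => i.elim0⟩
  | succ k ih =>
    intro V _ _ _ b hn hs hnd hv
    have norm : ∀ v, b v v ≠ 0 → ∃ u, b u u = 1 := by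
      intro v hv
      obtain ⟨c, hc⟩ := hsq (b v v)⁻¹
      refine ⟨c • v, ?_⟩
      rw [map_smul, map_smul, LinearMap.smul_apply, smul_eq_mul, smul_eq_mul, ← mul_assoc,
        ← pow_two, hc, inv_mul_cancel₀ hv]
    obtain ⟨u, hu⟩ := norm hv.choose hv.choose_spec
    -- a unit vector whose complement is not alternating, unless it is zero
    obtain ⟨u', hu', hu''⟩ : ∃ u', b u' u' = 1 ∧ (k ≠ 0 → ∃ z, b u' z = 0 ∧ b z z ≠ 0) := by
      by_cases hz : ∃ z, b u z = 0 ∧ b z z ≠ 0
      · exact ⟨u, hu, fun _ => hz⟩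
      push Not at hz
      by_cases hk : k = 0
      · exact ⟨u, hu, fun h => absurd hk h⟩
      have hproj : ∀ w, b u (w - b u w • u) = 0 := fun w => by
        rw [map_sub, map_smul, hu, smul_eq_mul, mul_one, sub_self]
      obtain ⟨x, hx, hx0⟩ : ∃ x, b u x = 0 ∧ x ≠ 0 := by
        by_contra hc
        push Not at hc
        have htop : (⊤ : Submodule F V) ≤ Submodule.span F {u} := by
          intro w _
          have := hc _ (hproj w)
          rw [sub_eq_zero] at this
          rw [this]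
          exact Submodule.smul_mem _ _ (Submodule.mem_span_singleton_self u)
        have h1 := Submodule.finrank_mono htop
        rw [finrank_top, hn] at h1
        have h2 := finrank_span_le_card (R := F) ({u} : Set V)
        simp at h2
        omega
      obtain ⟨y, hy⟩ : ∃ y, b x y ≠ 0 := by
        by_contra hc; push Not at hc; exact hx0 (hnd x hc)
      set y1 := (b x y)⁻¹ • (y - b u y • u) with hy1
      have huy : b u y1 = 0 := by rw [hy1, map_smul, hproj, smul_zero]
      have hxy : b x y1 = 1 := by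
        rw [hy1, map_smul, map_sub, map_smul, hs x u, hx, smul_zero, sub_zero, smul_eq_mul,
          inv_mul_cancel₀ hy]
      refine ⟨u + x, ?_, fun _ => ⟨u + y1, ?_, ?_⟩⟩
      · simp only [map_add, LinearMap.add_apply, hu, hx, hs x u, hz x hx, add_zero]
      · simp only [map_add, LinearMap.add_apply, hu, huy, hs x u, hx, hxy, add_zero, zero_add]
        exact CharTwo.add_self_eq_zero 1
      · simp only [map_add, LinearMap.add_apply, hu, huy, hs y1 u, hz y1 huy, add_zero]
        exact one_ne_zero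
    let W : Submodule F V := LinearMap.ker (b u')
    have hW : finrank F W = k := by
      have h1 := LinearMap.finrank_range_add_finrank_ker (b u')
      have h2 : LinearMap.range (b u') = ⊤ := LinearMap.range_eq_top.2 fun c =>
        ⟨c • u', by rw [map_smul, hu', smul_eq_mul, mul_one]⟩
      rw [h2, finrank_top, finrank_self, hn] at h1
      change finrank F (LinearMap.ker (b u')) = k
      omega
    let bW : W →ₗ[F] W →ₗ[F] F := b.compl₁₂ W.subtype W.subtype
    rcases Nat.eq_zero_or_pos k with rfl | hk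
    · exact ⟨fun _ => u', fun i j => by
        obtain rfl : i = j := Fin.ext (by omega)
        simp [hu']⟩
    obtain ⟨z, hz, hzz⟩ := hu'' hk.ne'
    obtain ⟨e, he⟩ := ih W bW hW (fun a c => hs a c) (fun a ha => by
        refine Subtype.ext (hnd a fun v => ?_)
        have hv' : v - b u' v • u' ∈ W := by
          show b u' _ = 0
          rw [map_sub, map_smul, hu', smul_eq_mul, mul_one, sub_self]
        have h1 : b (a : V) (v - b u' v • u') = 0 := ha ⟨_, hv'⟩
        rw [map_sub, map_smul, hs (a : V) u', show b u' (a : V) = 0 from a.2, smul_zero,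
          sub_zero] at h1
        exact h1)
      ⟨⟨z, hz⟩, hzz⟩
    refine ⟨Fin.cons u' (fun i => (e i : V)), ?_⟩
    intro i j
    refine Fin.cases ?_ (fun i => ?_) i <;> refine Fin.cases ?_ (fun j => ?_) j
    · simp [hu']
    · simpa [(Fin.succ_ne_zero j).symm] using (e j).2
    · simpa [Fin.succ_ne_zero i, hs] using (e i).2
    · simpa [bW] using he i j

/-- A family with a non-singular Gram matrix is linearly independent. -/
theorem linearIndependent_of_gram {V : Type*} [AddCommGroup V] [Module F V] {ι : Type*}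
    [Fintype ι] [DecidableEq ι] (b : V →ₗ[F] V →ₗ[F] F) (e : ι → V) (G : Matrix ι ι F)
    (hG : G.det ≠ 0) (he : ∀ i j, b (e i) (e j) = G i j) : LinearIndependent F e := by
  rw [Fintype.linearIndependent_iff]
  intro c hc
  have h : Matrix.vecMul c G = 0 := by
    funext j
    have := congrArg (fun v => b v (e j)) hc
    simpa [map_sum, LinearMap.sum_apply, he, Matrix.vecMul, dotProduct] using this
  exact fun i => congrFun (Matrix.eq_zero_of_vecMul_eq_zero hG h) i

/-- Two non-degenerate symmetric forms of the same dimension and type are isometric. -/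
theorem exists_isometry [CharP F 2] (hsq : ∀ x : F, ∃ c, c ^ 2 = x)
    {V₁ V₂ : Type _} [AddCommGroup V₁] [Module F V₁] [FiniteDimensional F V₁]
    [AddCommGroup V₂] [Module F V₂] [FiniteDimensional F V₂]
    (b₁ : V₁ →ₗ[F] V₁ →ₗ[F] F) (b₂ : V₂ →ₗ[F] V₂ →ₗ[F] F)
    (hs₁ : ∀ u v, b₁ u v = b₁ v u) (hn₁ : ∀ u, (∀ v, b₁ u v = 0) → u = 0)
    (hs₂ : ∀ u v, b₂ u v = b₂ v u) (hn₂ : ∀ u, (∀ v, b₂ u v = 0) → u = 0)
    (hd : finrank F V₁ = finrank F V₂) (halt : (∀ v, b₁ v v = 0) ↔ (∀ v, b₂ v v = 0)) :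
    ∃ φ : V₁ ≃ₗ[F] V₂, ∀ u v, b₂ (φ u) (φ v) = b₁ u v := by
  classical
  suffices h : ∃ (ι : Type) (_ : Fintype ι) (_ : DecidableEq ι) (e₁ : Basis ι F V₁)
      (e₂ : Basis ι F V₂), ∀ i j, b₂ (e₂ i) (e₂ j) = b₁ (e₁ i) (e₁ j) by
    obtain ⟨ι, _, _, e₁, e₂, h⟩ := h
    refine ⟨e₁.equiv e₂ (Equiv.refl ι), fun u v => ?_⟩
    have : b₂.compl₁₂ (e₁.equiv e₂ (Equiv.refl ι)).toLinearMap
        (e₁.equiv e₂ (Equiv.refl ι)).toLinearMap = b₁ :=
      e₁.ext fun i => e₁.ext fun j => by simpa using h i j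
    exact LinearMap.congr_fun (LinearMap.congr_fun this u) v
  by_cases h1 : ∀ v, b₁ v v = 0
  · have h2 := halt.1 h1
    obtain ⟨k, hk, e, -, he⟩ := SymplecticAlt.exists_symp_basis b₁ h1 _ ⊤ rfl
      (fun u _ h => hn₁ u fun v => h v Submodule.mem_top)
    obtain ⟨k', hk', e', -, he'⟩ := SymplecticAlt.exists_symp_basis b₂ h2 _ ⊤ rfl
      (fun u _ h => hn₂ u fun v => h v Submodule.mem_top)
    rw [finrank_top] at hk hk'
    obtain rfl : k = k' := by omega
    let G : Matrix (Fin k ⊕ Fin k) (Fin k ⊕ Fin k) F :=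
      Matrix.of fun s t => Cfsg.sympForm k F (Pi.single s 1) (Pi.single t 1)
    have hG : G.det ≠ 0 := by
      have hGJ : G = Matrix.J (Fin k) F := by
        ext s t
        simp [G, Cfsg.sympForm]
      rw [hGJ]
      exact (Matrix.isUnit_det_J (Fin k) F).ne_zero
    rcases isEmpty_or_nonempty (Fin k ⊕ Fin k) with hE | hE
    · exact ⟨_, inferInstance, inferInstance,
        (finBasis F V₁).reindex (Fintype.equivOfCardEq (β := Fin k ⊕ Fin k)
          (by simp only [Fintype.card_fin, Fintype.card_sum]; omega)),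
        (finBasis F V₂).reindex (Fintype.equivOfCardEq (β := Fin k ⊕ Fin k)
          (by simp only [Fintype.card_fin, Fintype.card_sum]; omega)),
        fun i => (IsEmpty.false i).elim⟩
    refine ⟨_, inferInstance, inferInstance,
      basisOfLinearIndependentOfCardEqFinrank (linearIndependent_of_gram b₁ e G hG he)
        (by simp only [Fintype.card_fin, Fintype.card_sum]; omega),
      basisOfLinearIndependentOfCardEqFinrank (linearIndependent_of_gram b₂ e' G hG he')
        (by simp only [Fintype.card_fin, Fintype.card_sum]; omega), fun i j => ?_⟩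
    simp [he, he']
  · have h2 : ¬ ∀ v, b₂ v v = 0 := fun h => h1 (halt.2 h)
    push Not at h1 h2
    obtain ⟨e, he⟩ := exists_orthonormal hsq _ V₁ b₁ rfl hs₁ hn₁ h1
    obtain ⟨e', he'⟩ := exists_orthonormal hsq (finrank F V₁) V₂ b₂ hd.symm hs₂ hn₂ h2
    have hG : (1 : Matrix (Fin (finrank F V₁)) (Fin (finrank F V₁)) F).det ≠ 0 := by simp
    have : Nonempty (Fin (finrank F V₁)) := by
      obtain ⟨v, hv⟩ := h1
      haveI : Nontrivial V₁ := ⟨v, 0, fun h => hv (by rw [h, map_zero])⟩
      exact ⟨⟨0, finrank_pos⟩⟩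
    refine ⟨_, inferInstance, inferInstance,
      basisOfLinearIndependentOfCardEqFinrank
        (linearIndependent_of_gram b₁ e 1 hG fun i j => by rw [he, Matrix.one_apply]) (by simp),
      basisOfLinearIndependentOfCardEqFinrank
        (linearIndependent_of_gram b₂ e' 1 hG fun i j => by rw [he', Matrix.one_apply])
        (by simp [hd]), fun i j => ?_⟩
    simp [he, he']

/-- An alternating form is `g + gᵀ`. -/
theorem exists_half [CharP F 2] {U : Type*} [AddCommGroup U] [Module F U] [FiniteDimensional F U]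
    (f : U →ₗ[F] U →ₗ[F] F) (hf : ∀ u, f u u = 0) :
    ∃ g : U →ₗ[F] U →ₗ[F] F, ∀ u v, g u v + g v u = f u v := by
  classical
  let e := finBasis F U
  let g : U →ₗ[F] U →ₗ[F] F :=
    e.constr F fun i => e.constr F fun j => if i < j then f (e i) (e j) else 0
  refine ⟨g, fun u v => ?_⟩
  have : g + g.flip = f := e.ext fun i => e.ext fun j => by
    simp only [g, LinearMap.add_apply, LinearMap.flip_apply, Basis.constr_basis]
    rcases lt_trichotomy i j with h | rfl | h
    · rw [if_pos h, if_neg h.not_gt, add_zero]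
    · rw [if_neg (lt_irrefl _), add_zero, hf]
    · rw [if_neg h.not_gt, if_pos h, zero_add, SymplecticAlt.swap_neg f hf, CharTwo.neg_eq]
  rw [← this]; rfl

variable {V : Type*} [AddCommGroup V] [Module F V] [FiniteDimensional F V]

/-- Two self-adjoint square-zero maps of a symplectic space with the same rank and the same type
are conjugate by an isometry. -/
theorem exists_conj [CharP F 2] (hsq : ∀ x : F, ∃ c, c ^ 2 = x) (B : LinearMap.BilinForm F V)
    (hB : B.Nondegenerate) (hA : B.IsAlt) (A A' : V →ₗ[F] V)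
    (h1 : ∀ x, A (A x) = 0) (h2 : ∀ x y, B (A x) y = B x (A y))
    (h1' : ∀ x, A' (A' x) = 0) (h2' : ∀ x y, B (A' x) y = B x (A' y))
    (hr : finrank F (LinearMap.range A) = finrank F (LinearMap.range A'))
    (halt : (∀ v, B v (A v) = 0) ↔ (∀ v, B v (A' v) = 0)) :
    ∃ g : V ≃ₗ[F] V, (∀ u v, B (g u) (g v) = B u v) ∧ ∀ x, g (A x) = A' (g x) := by
  have hBs : ∀ u v, B u v = B v u := fun u v => by
    rw [SymplecticAlt.swap_neg B hA v u, CharTwo.neg_eq]
  -- facts about one map
  have facts : ∀ (C : V →ₗ[F] V), (∀ x, C (C x) = 0) → (∀ x y, B (C x) y = B x (C y)) →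
      ∃ U : Submodule F V, IsCompl (LinearMap.ker C) U ∧
        finrank F U = finrank F (LinearMap.range C) ∧
        (∀ x, ∃ u : U, C (u : V) = C x ∧ C (x - (u : V)) = 0) ∧
        (∀ u : U, C (u : V) = 0 → u = 0) ∧
        (∀ u : U, (∀ v : U, B (u : V) (C (v : V)) = 0) → u = 0) ∧
        ((∀ v, B v (C v) = 0) ↔ ∀ u : U, B (u : V) (C (u : V)) = 0) := by
    intro C c1 c2
    obtain ⟨U, hU⟩ := exists_isCompl (LinearMap.ker C)
    have hdec : ∀ x, ∃ u : U, C (u : V) = C x ∧ C (x - (u : V)) = 0 := by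
      intro x
      obtain ⟨a, ha, c, hc, rfl⟩ := Submodule.mem_sup.1
        (show x ∈ LinearMap.ker C ⊔ U from hU.sup_eq_top ▸ Submodule.mem_top)
      exact ⟨⟨c, hc⟩, by rw [map_add, LinearMap.mem_ker.1 ha, zero_add],
        by simpa using LinearMap.mem_ker.1 ha⟩
    have hinj : ∀ u : U, C (u : V) = 0 → u = 0 := fun u hu =>
      Subtype.ext ((Submodule.disjoint_def.1 hU.disjoint) _ hu u.2)
    refine ⟨U, hU, ?_, hdec, hinj, fun u hu => hinj u ?_, fun h u => h u, fun h v => ?_⟩
    · have e1 := Submodule.finrank_add_eq_of_isCompl hU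
      have e2 := LinearMap.finrank_range_add_finrank_ker C
      omega
    · refine hB.1 _ fun v => ?_
      obtain ⟨w, hw, -⟩ := hdec v
      rw [c2, ← hw]
      exact hu w
    · obtain ⟨u, hu, hk⟩ := hdec v
      calc B v (C v) = B (u : V) (C u) + B (v - u) (C u) := by
            rw [← hu, ← LinearMap.add_apply, ← map_add, add_sub_cancel]
        _ = 0 := by rw [h u, ← c2 (v - u), hk, map_zero, LinearMap.zero_apply, add_zero]
  obtain ⟨U, -, hdU, hdec, hinj, hndU, haltU⟩ := facts A h1 h2
  obtain ⟨U', -, hdU', hdec', hinj', hndU', haltU'⟩ := facts A' h1' h2'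
  let bb : U →ₗ[F] U →ₗ[F] F := B.compl₁₂ U.subtype (A ∘ₗ U.subtype)
  let bb' : U' →ₗ[F] U' →ₗ[F] F := B.compl₁₂ U'.subtype (A' ∘ₗ U'.subtype)
  have hbs : ∀ u v, bb u v = bb v u := fun u v => by
    show B (u : V) (A v) = B (v : V) (A u)
    rw [← h2, hBs]
  have hbs' : ∀ u v, bb' u v = bb' v u := fun u v => by
    show B (u : V) (A' v) = B (v : V) (A' u)
    rw [← h2', hBs]
  obtain ⟨φ, hφ⟩ := exists_isometry hsq bb bb' hbs hndU hbs' hndU' (by omega)
    ((haltU.symm.trans halt).trans haltU')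
  have hφ' : ∀ u v : U, B (φ u : V) (A' (φ v : V)) = B (u : V) (A v) := hφ
  -- correct the images inside the range
  let f : U →ₗ[F] U →ₗ[F] F :=
    B.compl₁₂ (U'.subtype ∘ₗ φ.toLinearMap) (U'.subtype ∘ₗ φ.toLinearMap)
      + B.compl₁₂ U.subtype U.subtype
  obtain ⟨g₀, hg₀⟩ := exists_half f (fun u => by simp [f, hA.self_eq_zero])
  let R := LinearMap.range A'
  let P : R →ₗ[F] Dual F U := B.compl₁₂ R.subtype (U'.subtype ∘ₗ φ.toLinearMap)
  have hPinj : Function.Injective P := by
    rw [← LinearMap.ker_eq_bot, LinearMap.ker_eq_bot']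
    rintro ⟨_, x, rfl⟩ hx
    obtain ⟨w, hw, -⟩ := hdec' x
    refine Subtype.ext ?_
    show A' x = 0
    rw [← hw, hndU' w fun v => ?_, Submodule.coe_zero, map_zero]
    have h := LinearMap.congr_fun hx (φ.symm v)
    simp only [P, LinearMap.compl₁₂_apply, LinearMap.comp_apply, Submodule.subtype_apply,
      LinearEquiv.coe_coe, LinearEquiv.apply_symm_apply, LinearMap.zero_apply] at h
    rw [← hw] at h
    rw [← h2']
    exact h
  have hPsurj : Function.Surjective P :=
    (LinearMap.injective_iff_surjective_of_finrank_eq_finrank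
      (by rw [Subspace.dual_finrank_eq]; exact (hdU'.symm.trans φ.finrank_eq.symm))).1 hPinj
  let Pe := LinearEquiv.ofBijective P ⟨hPinj, hPsurj⟩
  let w : U →ₗ[F] R := Pe.symm.toLinearMap ∘ₗ g₀
  have hw : ∀ u v : U, B (w u : V) (φ v : V) = g₀ u v := by
    intro u v
    have : P (w u) = g₀ u := Pe.apply_symm_apply (g₀ u)
    rw [← this]; rfl
  let ψ : U →ₗ[F] V := U'.subtype ∘ₗ φ.toLinearMap + R.subtype ∘ₗ w
  have hR0 : ∀ r : R, A' (r : V) = 0 := by rintro ⟨_, x, rfl⟩; exact h1' x
  have hψA : ∀ u, A' (ψ u) = A' (φ u : V) := fun u => by simp [ψ, hR0]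
  have hψB : ∀ u v, B (ψ u) (ψ v) = B (u : V) (v : V) := by
    intro u v
    have e1 : B (w u : V) (w v : V) = 0 := by
      obtain ⟨x, hx⟩ := (w u).2
      rw [← hx, h2', hR0, map_zero]
    simp only [ψ, LinearMap.add_apply, LinearMap.comp_apply, Submodule.subtype_apply,
      LinearEquiv.coe_coe, map_add]
    rw [e1, hw u v, hBs (φ u : V) (w v : V), hw v u]
    have := hg₀ u v
    simp only [f, LinearMap.add_apply, LinearMap.compl₁₂_apply, LinearMap.comp_apply,
      Submodule.subtype_apply, LinearEquiv.coe_coe] at this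
    linear_combination this + B (φ u : V) (φ v : V) * (CharTwo.two_eq_zero (R := F))
  have hψb : ∀ u v, B (ψ u) (A' (ψ v)) = B (u : V) (A v) := by
    intro u v
    rw [hψA, ← hφ' u v]
    have e1 : B (w u : V) (A' (φ v : V)) = 0 := by
      rw [← h2', hR0, map_zero, LinearMap.zero_apply]
    simp only [ψ, LinearMap.add_apply, LinearMap.comp_apply, Submodule.subtype_apply,
      LinearEquiv.coe_coe, map_add, e1, add_zero]
  let Φ : U × U →ₗ[F] V := (U.subtype).coprod (A ∘ₗ U.subtype)
  let Ψ : U × U →ₗ[F] V := ψ.coprod (A' ∘ₗ ψ)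
  have hΦ : Function.Injective Φ := by
    rw [← LinearMap.ker_eq_bot, LinearMap.ker_eq_bot']
    rintro ⟨u, v⟩ h
    have h' : (u : V) + A v = 0 := h
    have hu : u = 0 := hinj u (by simpa [map_add, h1] using congrArg A h')
    rw [hu, Submodule.coe_zero, zero_add] at h'
    exact Prod.ext hu (hinj v h')
  have hΨ : Function.Injective Ψ := by
    rw [← LinearMap.ker_eq_bot, LinearMap.ker_eq_bot']
    rintro ⟨u, v⟩ h
    have h' : ψ u + A' (ψ v) = 0 := h
    have key : ∀ a : U, A' (ψ a) = 0 → a = 0 := fun a ha => by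
      rw [hψA] at ha
      exact φ.map_eq_zero_iff.1 (hinj' _ ha)
    have hu : u = 0 := key u (by simpa [map_add, h1'] using congrArg A' h')
    rw [hu, map_zero, zero_add] at h'
    exact Prod.ext hu (key v h')
  let eΦ := LinearEquiv.ofInjective Φ hΦ
  have hiso : ∀ p p' : U × U, B (Ψ p) (Ψ p') = B (Φ p) (Φ p') := by
    rintro ⟨u, v⟩ ⟨u', v'⟩
    show B (ψ u + A' (ψ v)) (ψ u' + A' (ψ v')) = B ((u : V) + A v) ((u' : V) + A v')
    have e1 : B (A' (ψ v)) (A' (ψ v')) = 0 := by rw [h2', h1', map_zero]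
    have e2 : B (A (v : V)) (A (v' : V)) = 0 := by rw [h2, h1, map_zero]
    simp only [map_add, LinearMap.add_apply, hψB, hψb, e1, e2, h2', h2]
  obtain ⟨g, hg, hgX⟩ := Witt.alt_extend B hB hA (LinearMap.range Φ)
    (Ψ ∘ₗ eΦ.symm.toLinearMap) (hΨ.comp eΦ.symm.injective) (fun a c => by
      obtain ⟨p, rfl⟩ := eΦ.surjective a
      obtain ⟨p', rfl⟩ := eΦ.surjective c
      simp only [LinearMap.comp_apply, LinearEquiv.coe_coe, LinearEquiv.symm_apply_apply]
      exact hiso p p')
  have hgΦ : ∀ p, g (Φ p) = Ψ p := fun p => by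
    have := hgX (eΦ p)
    simpa [eΦ] using this
  have hgu : ∀ u : U, g (u : V) = ψ u := fun u => by
    simpa [Φ, Ψ] using hgΦ (u, 0)
  have hgAu : ∀ u : U, g (A (u : V)) = A' (ψ u) := fun u => by
    simpa [Φ, Ψ] using hgΦ (0, u)
  refine ⟨g, hg, fun x => ?_⟩
  obtain ⟨u, hu, -⟩ := hdec x
  have hd : g (A x) - A' (g x) ∈ R := by
    rw [← hu, hgAu, ← map_sub]
    exact ⟨_, rfl⟩
  have hz : P ⟨_, hd⟩ = 0 := by
    ext v
    have e1 : B (g (A x) - A' (g x)) (φ v : V) = B (g (A x) - A' (g x)) (ψ v) := by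
      obtain ⟨y, hy⟩ := hd
      rw [← hy, h2', h2', hψA]
    show B (g (A x) - A' (g x)) (φ v : V) = 0
    rw [e1, map_sub, LinearMap.sub_apply, h2', ← hgAu v, ← hgu v, hg, hg, h2, sub_self]
  exact sub_eq_zero.1 (congrArg Subtype.val (hPinj (hz.trans (map_zero P).symm)))

end Cfsg.Agent.SympInvolClasses
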