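import Mathlib
import Cfsg.Prelude.Def_ClassicalGeometry
import Cfsg.Agent.Lib.SymplecticAlt
import Cfsg.Agent.Lib.SymplecticOrder
import Cfsg.Agent.Lib.SympInvolClasses

/-!
Symplectic spaces in characteristic two: orders of the isometry groups of non-degenerate symmetric
forms and of the centralizers of self-adjoint square-zero maps.
-/

set_option autoImplicit false

open Module

namespace Cfsg.Agent.CharTwoInvolCentralizer

universe u

variable {F : Type u} [Field F]

/-- The isometries of a bilinear form, as linear endomorphisms. -/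
def Iso {V : Type*} [AddCommGroup V] [Module F V] (B : V →ₗ[F] V →ₗ[F] F) : Type _ :=
  {g : V →ₗ[F] V // ∀ x y, B (g x) (g y) = B x y}

theorem Iso.injective {V : Type*} [AddCommGroup V] [Module F V] {B : V →ₗ[F] V →ₗ[F] F}
    (hB : ∀ x, (∀ y, B x y = 0) → x = 0) (g : Iso B) : Function.Injective g.1 := by
  rw [← LinearMap.ker_eq_bot, LinearMap.ker_eq_bot']
  intro x hx
  refine hB x fun y => ?_
  rw [← g.2, hx, map_zero, LinearMap.zero_apply]

theorem Iso.surjective {V : Type*} [AddCommGroup V] [Module F V] [FiniteDimensional F V]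
    {B : V →ₗ[F] V →ₗ[F] F}
    (hB : ∀ x, (∀ y, B x y = 0) → x = 0) (g : Iso B) : Function.Surjective g.1 :=
  LinearMap.injective_iff_surjective.1 (g.injective hB)

theorem card_iso_congr {V W : Type*} [AddCommGroup V] [Module F V] [AddCommGroup W] [Module F W]
    (B : V →ₗ[F] V →ₗ[F] F) (B' : W →ₗ[F] W →ₗ[F] F) (e : V ≃ₗ[F] W)
    (h : ∀ x y, B' (e x) (e y) = B x y) : Nat.card (Iso B) = Nat.card (Iso B') := by
  refine Nat.card_congr
    { toFun := fun g => ⟨e.toLinearMap ∘ₗ g.1 ∘ₗ e.symm.toLinearMap, fun x y => ?_⟩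
      invFun := fun g => ⟨e.symm.toLinearMap ∘ₗ g.1 ∘ₗ e.toLinearMap, fun x y => ?_⟩
      left_inv := fun g => Subtype.ext (LinearMap.ext fun x => by simp)
      right_inv := fun g => Subtype.ext (LinearMap.ext fun x => by simp) }
  · simp only [LinearMap.comp_apply, LinearEquiv.coe_coe, h, g.2]
    rw [← h, e.apply_symm_apply, e.apply_symm_apply]
  · simp only [LinearMap.comp_apply, LinearEquiv.coe_coe]
    rw [← h, e.apply_symm_apply, e.apply_symm_apply, g.2, h]

/-- The order of the symplectic group of degree `2k`. -/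
def spOrder (q k : ℕ) : ℕ := q ^ (k ^ 2) * ∏ i : Fin k, (q ^ (2 * ((i : ℕ) + 1)) - 1)

variable [Fintype F] {q : ℕ}

theorem card_iso_alt (hq : Fintype.card F = q) {V : Type u} [AddCommGroup V] [Module F V]
    [FiniteDimensional F V] (B : V →ₗ[F] V →ₗ[F] F) (halt : ∀ x, B x x = 0)
    (hnd : ∀ x, (∀ y, B x y = 0) → x = 0) :
    ∃ k, finrank F V = 2 * k ∧ Nat.card (Iso B) = spOrder q k := by
  classical
  obtain ⟨k, hk, e, -, he⟩ := SymplecticAlt.exists_symp_basis B halt _ ⊤ rfl
    (fun u _ h => hnd u fun v => h v Submodule.mem_top)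
  rw [finrank_top] at hk
  refine ⟨k, hk, ?_⟩
  let J : (Fin k ⊕ Fin k → F) →ₗ[F] (Fin k ⊕ Fin k → F) →ₗ[F] F :=
    Matrix.toBilin' (Matrix.J (Fin k) F)
  have hJ : ∀ u v, J u v = Cfsg.sympForm k F u v := fun u v => by
    show Matrix.toBilin' (Matrix.J (Fin k) F) u v = _
    rw [Matrix.toBilin'_apply']; rfl
  let L : (Fin k ⊕ Fin k → F) →ₗ[F] V :=
    Fintype.linearCombination F e
  have hLs : ∀ s, L (Pi.single s 1) = e s := fun s => by
    simp [L, Fintype.linearCombination_apply_single]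
  have hLB : ∀ u v, B (L u) (L v) = J u v := by
    intro u v
    have : B.compl₁₂ L L = J := (Pi.basisFun F _).ext fun s => (Pi.basisFun F _).ext fun t => by
      simp [Pi.basisFun_apply, hLs, he, hJ]
    exact LinearMap.congr_fun (LinearMap.congr_fun this u) v
  have hLinj : Function.Injective L := by
    rw [← LinearMap.ker_eq_bot, LinearMap.ker_eq_bot']
    intro u hu
    refine SymplecticBasic.form_nondeg fun v => ?_
    rw [← hJ, ← hLB, hu, map_zero, LinearMap.zero_apply]
  let E := LinearEquiv.ofBijective L ⟨hLinj,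
    (LinearMap.injective_iff_surjective_of_finrank_eq_finrank (by
      rw [finrank_pi, hk, Fintype.card_sum, Fintype.card_fin, two_mul])).1 hLinj⟩
  have hcard : Nat.card (Iso J) = spOrder q k := by
    have h1 := SymplecticOrder.card_symplectic hq k
    rw [← Fin.prod_univ_eq_prod_range] at h1
    rw [spOrder, ← h1]
    refine Nat.card_congr
      { toFun := fun g => ⟨LinearMap.toMatrix' g.1, SymplecticBasic.mem_sp_iff_form.2 fun u v => ?_⟩
        invFun := fun g => ⟨Matrix.toLin' g.1, fun u v => ?_⟩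
        left_inv := fun g => Subtype.ext (Matrix.toLin'_toMatrix' _)
        right_inv := fun g => Subtype.ext (LinearMap.toMatrix'_toLin' _) }
    · rw [LinearMap.toMatrix'_mulVec, LinearMap.toMatrix'_mulVec, ← hJ, ← hJ]
      exact g.2 u v
    · rw [Matrix.toLin'_apply, Matrix.toLin'_apply, hJ, hJ]
      exact SymplecticBasic.mem_sp_iff_form.1 g.2 u v
  rw [← hcard]
  exact (card_iso_congr J B E hLB).symm

variable [CharP F 2]

theorem exists_sqrt : ∀ x : F, ∃ c, c ^ 2 = x :=
  Finite.injective_iff_surjective.1 (CharTwo.sq_injective (R := F))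

omit [CharP F 2] in
theorem card_pow {V : Type*} [AddCommGroup V] [Module F V] [FiniteDimensional F V]
    (hq : Fintype.card F = q) : Nat.card V = q ^ finrank F V := by
  rw [Module.natCard_eq_pow_finrank (K := F), Nat.card_eq_fintype_card, hq]

/-- The isometry group of a non-alternating symmetric form. -/
theorem card_iso_nonalt (hq : Fintype.card F = q) {V : Type u} [AddCommGroup V] [Module F V]
    [FiniteDimensional F V] (b : V →ₗ[F] V →ₗ[F] F) (hs : ∀ x y, b x y = b y x)
    (hnd : ∀ x, (∀ y, b x y = 0) → x = 0) (hna : ∃ x, b x x ≠ 0) :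
    ∃ k, (finrank F V = 2 * k + 1 ∧ Nat.card (Iso b) = spOrder q k) ∨
      (finrank F V = 2 * k + 2 ∧ Nat.card (Iso b) = q ^ (2 * k + 1) * spOrder q k) := by
  classical
  choose r hr using exists_sqrt (F := F)
  have hradd : ∀ x y : F, r (x + y) = r x + r y := fun x y => CharTwo.sq_injective (by
    show r (x + y) ^ 2 = (r x + r y) ^ 2
    rw [CharTwo.add_sq, hr, hr, hr])
  have hrmul : ∀ x y : F, r (x * y) = r x * r y := fun x y => CharTwo.sq_injective (by
    show r (x * y) ^ 2 = (r x * r y) ^ 2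
    rw [mul_pow, hr, hr, hr])
  have hrsq : ∀ x : F, r (x ^ 2) = x := fun x => CharTwo.sq_injective (hr (x ^ 2))
  let ℓ : V →ₗ[F] F :=
    { toFun := fun x => r (b x x)
      map_add' := fun x y => by
        rw [← hradd]
        congr 1
        simp only [map_add, LinearMap.add_apply, hs y x]
        linear_combination b x y * (CharTwo.two_eq_zero (R := F))
      map_smul' := fun c x => by
        simp only [map_smul, LinearMap.smul_apply, smul_eq_mul, RingHom.id_apply]
        rw [← mul_assoc, ← pow_two, hrmul, hrsq] }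
  have hinj : Function.Injective b := by
    rw [← LinearMap.ker_eq_bot, LinearMap.ker_eq_bot']
    exact fun x hx => hnd x fun y => by rw [hx, LinearMap.zero_apply]
  obtain ⟨d, hd⟩ := (LinearMap.injective_iff_surjective_of_finrank_eq_finrank
    (Subspace.dual_finrank_eq (K := F) (V := V)).symm).1 hinj ℓ
  have hdd : ∀ x, b x x = b x d ^ 2 := fun x => by
    rw [hs x d, hd]; exact (hr _).symm
  have hd0 : d ≠ 0 := by
    rintro rfl
    obtain ⟨x, hx⟩ := hna
    exact hx (by rw [hdd, map_zero, zero_pow two_ne_zero])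
  have hfix : ∀ g : Iso b, g.1 d = d := by
    intro g
    rw [← sub_eq_zero]
    refine hnd _ fun y => ?_
    obtain ⟨x, rfl⟩ := g.surjective hnd y
    rw [map_sub, LinearMap.sub_apply, g.2, sub_eq_zero, hs d x, hs d (g.1 x)]
    refine CharTwo.sq_injective ?_
    show b x d ^ 2 = b (g.1 x) d ^ 2
    rw [← hdd, ← hdd, g.2]
  have hδ : b d d = 0 ∨ b d d = 1 := by
    have h := hdd d
    rw [pow_two] at h
    rcases eq_or_ne (b d d) 0 with h0 | h0
    · exact Or.inl h0
    · exact Or.inr (mul_right_eq_self₀.1 h.symm |>.resolve_right h0)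
  rcases hδ with hδ | hδ
  swap
  · -- odd dimension
    let W := LinearMap.ker (b d)
    have hW : ∀ x, x ∈ W ↔ b x d = 0 := fun x => by rw [LinearMap.mem_ker, hs]
    let pr : V →ₗ[F] W := LinearMap.codRestrict W (LinearMap.id - (b d).smulRight d) fun x => by
      rw [hW]; simp [hδ, hs d x]
    have hpr : ∀ x, x = b x d • d + (pr x : V) := fun x => by
      simp [pr, hs d x]
    let bW : W →ₗ[F] W →ₗ[F] F := b.compl₁₂ W.subtype W.subtype
    have haltW : ∀ x : W, bW x x = 0 := fun x => by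
      show b (x : V) x = 0
      rw [hdd, (hW _).1 x.2, zero_pow two_ne_zero]
    have hndW : ∀ x : W, (∀ y, bW x y = 0) → x = 0 := by
      intro x hx
      refine Subtype.ext (hnd x fun y => ?_)
      rw [hpr y, map_add, map_smul, (hW _).1 x.2, smul_zero, zero_add]
      exact hx (pr y)
    obtain ⟨k, hk, hcard⟩ := card_iso_alt hq bW haltW hndW
    refine ⟨k, Or.inl ⟨?_, ?_⟩⟩
    · have hsurj : Function.Surjective (b d) := fun c => ⟨c • d, by simp [hδ]⟩
      have h1 := (b d).finrank_range_add_finrank_ker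
      rw [LinearMap.range_eq_top.2 hsurj, finrank_top, finrank_self] at h1
      change 1 + finrank F W = _ at h1
      omega
    · rw [← hcard]
      have hgW : ∀ (g : Iso b) (x : W), g.1 x ∈ W := fun g x => by
        rw [hW, ← hfix g, g.2, (hW _).1 x.2]
      refine Nat.card_congr
        { toFun := fun g => ⟨g.1.restrict (fun x hx => hgW g ⟨x, hx⟩), fun x y => g.2 x y⟩
          invFun := fun g => ⟨(b d).smulRight d + W.subtype ∘ₗ g.1 ∘ₗ pr, fun x y => ?_⟩
          left_inv := fun g => Subtype.ext (LinearMap.ext fun x => ?_)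
          right_inv := fun g => Subtype.ext (LinearMap.ext fun x => Subtype.ext ?_) }
      · have e1 : ∀ w : W, b d (w : V) = 0 := fun w => by rw [hs]; exact (hW _).1 w.2
        have e2 : ∀ w : W, b (w : V) d = 0 := fun w => (hW _).1 w.2
        have e3 : ∀ x : V, (LinearMap.smulRight (b d) d + W.subtype ∘ₗ g.1 ∘ₗ pr) x =
            b x d • d + (g.1 (pr x) : V) := fun x => by simp [hs d x]
        rw [e3, e3]
        conv_rhs => rw [hpr x, hpr y]
        have := g.2 (pr x) (pr y)
        change b (g.1 (pr x) : V) (g.1 (pr y) : V) = b (pr x : V) (pr y : V) at this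
        simp [e1, e2, this]
      · conv_rhs => rw [hpr x, map_add, map_smul, hfix g]
        simp [hs d x]
      · have : pr (x : V) = x := Subtype.ext (by
          have := hpr (x : V)
          rw [(hW _).1 x.2, zero_smul, zero_add] at this
          exact this.symm)
        simp [this, LinearMap.mem_ker.1 x.2]
  · -- even dimension
    obtain ⟨e₀, he₀⟩ : ∃ e, b e d ≠ 0 := by
      by_contra! h
      exact hd0 (hnd d fun y => by rw [hs]; exact h y)
    obtain ⟨e, hed⟩ : ∃ e, b e d = 1 :=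
      ⟨(b e₀ d)⁻¹ • e₀, by rw [map_smul, LinearMap.smul_apply, smul_eq_mul, inv_mul_cancel₀ he₀]⟩
    have hde : b d e = 1 := by rw [hs, hed]
    have hee : b e e = 1 := by rw [hdd, hed, one_pow]
    let L : V →ₗ[F] F × F := (b d).prod (b e)
    let W := LinearMap.ker L
    have hW : ∀ x, x ∈ W ↔ b d x = 0 ∧ b e x = 0 := fun x => by
      simp [W, L, LinearMap.mem_ker, Prod.ext_iff]
    let pr : V →ₗ[F] W := LinearMap.codRestrict W
      (LinearMap.id - (b e - b d).smulRight d - (b d).smulRight e) fun x => by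
      rw [hW]
      constructor <;> simp [hδ, hde, hed, hee]
    have hpr : ∀ x, x = (b e x - b d x) • d + b d x • e + (pr x : V) := fun x => by
      simp [pr]
    let bW : W →ₗ[F] W →ₗ[F] F := b.compl₁₂ W.subtype W.subtype
    have e1 : ∀ w : W, b d (w : V) = 0 := fun w => ((hW _).1 w.2).1
    have e2 : ∀ w : W, b e (w : V) = 0 := fun w => ((hW _).1 w.2).2
    have e3 : ∀ w : W, b (w : V) d = 0 := fun w => by rw [hs]; exact e1 w
    have e4 : ∀ w : W, b (w : V) e = 0 := fun w => by rw [hs]; exact e2 w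
    have haltW : ∀ x : W, bW x x = 0 := fun x => by
      show b (x : V) x = 0
      rw [hdd, e3, zero_pow two_ne_zero]
    have hndW : ∀ x : W, (∀ y, bW x y = 0) → x = 0 := by
      intro x hx
      refine Subtype.ext (hnd x fun y => ?_)
      rw [hpr y, map_add, map_add, map_smul, map_smul, e3, e4, smul_zero, smul_zero, zero_add,
        zero_add]
      exact hx (pr y)
    obtain ⟨k, hk, hcard⟩ := card_iso_alt hq bW haltW hndW
    have hdim : finrank F V = 2 * k + 2 := by
      have hsurj : Function.Surjective L := fun c =>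
        ⟨(c.2 - c.1) • d + c.1 • e, by simp [L, hδ, hde, hed, hee]⟩
      have h1 := L.finrank_range_add_finrank_ker
      rw [LinearMap.range_eq_top.2 hsurj, finrank_top, Module.finrank_prod, finrank_self] at h1
      change 1 + 1 + finrank F W = _ at h1
      omega
    refine ⟨k, Or.inr ⟨hdim, ?_⟩⟩
    have hT : Nat.card (F × W × Iso bW) = q ^ (2 * k + 1) * spOrder q k := by
      rw [Nat.card_prod, Nat.card_prod, hcard, card_pow hq (V := W), hk, Nat.card_eq_fintype_card, hq]
      ring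
    rw [← hT]
    have hlam : ∀ (g : Iso b) (x : V), b d (g.1 x) = b d x := fun g x => by
      conv_lhs => rw [← hfix g]
      rw [g.2]
    -- components of the images
    let mkG : F × W × Iso bW → (V →ₗ[F] V) := fun p =>
      (b e - b d).smulRight d + (b d).smulRight (e + p.1 • d + (p.2.1 : V)) +
          (W.subtype ∘ₗ p.2.2.1 ∘ₗ pr) +
          ((b (p.2.1 : V)) ∘ₗ W.subtype ∘ₗ p.2.2.1 ∘ₗ pr).smulRight d
    have hmk : ∀ (p : F × W × Iso bW) (x : V),
        mkG p x =
        (b e x - b d x + b d x * p.1 + b (p.2.1 : V) (p.2.2.1 (pr x) : V)) • d + b d x • e +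
          ((b d x • p.2.1 + p.2.2.1 (pr x) : W) : V) := by
      intro p x
      simp only [mkG, LinearMap.add_apply, LinearMap.coe_smulRight, LinearMap.sub_apply,
        LinearMap.comp_apply, Submodule.subtype_apply, Submodule.coe_add, Submodule.coe_smul,
        smul_add, add_smul, mul_smul]
      abel
    refine Nat.card_congr
      { toFun := fun g => (b e (g.1 e) - 1, pr (g.1 e),
          ⟨pr ∘ₗ g.1 ∘ₗ W.subtype, fun x y => ?_⟩)
        invFun := fun p => ⟨mkG p, fun x y => ?_⟩
        left_inv := fun g => Subtype.ext (LinearMap.ext fun x => ?_)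
        right_inv := fun p => ?_ }
    · show b (pr (g.1 x) : V) (pr (g.1 y) : V) = b (x : V) (y : V)
      conv_rhs => rw [← g.2, hpr (g.1 x), hpr (g.1 y)]
      simp only [hlam, e1 x, e1 y, zero_smul, add_zero, sub_zero]
      simp [hδ, e1, e3]
    · obtain ⟨α, w₀, D⟩ := p
      rw [hmk, hmk]
      dsimp only
      conv_rhs => rw [hpr x, hpr y]
      have hD : b (D.1 (pr x) : V) (D.1 (pr y) : V) = b (pr x : V) (pr y : V) := D.2 _ _
      have hww : b (w₀ : V) (w₀ : V) = 0 := haltW w₀
      simp only [map_add, map_smul, LinearMap.add_apply, LinearMap.smul_apply, smul_eq_mul,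
        Submodule.coe_add, Submodule.coe_smul, hδ, hde, hed, hee, e1, e2, e3, e4, hD, hww,
        mul_zero, zero_mul, add_zero, zero_add, mul_one, hs (D.1 (pr x) : V) (w₀ : V)]
      linear_combination (b d x * b d y * α + b d x * b (w₀ : V) (D.1 (pr y) : V) +
        b d y * b (w₀ : V) (D.1 (pr x) : V)) * (CharTwo.two_eq_zero (R := F))
    · rw [hmk]
      dsimp only
      have hge : ∀ w : W, b (pr (g.1 e) : V) (pr (g.1 w) : V) = b e (g.1 w) := by
        intro w
        have h0 : b (g.1 e) (g.1 w) = 0 := by rw [g.2]; exact e2 w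
        rw [hpr (g.1 e), hpr (g.1 w)] at h0
        simp [hlam, e1 w, hde, hed, hδ, e1, e2, e3, e4] at h0
        rw [← CharTwo.add_eq_zero.1 (show b (pr (g.1 e) : V) (pr (g.1 w) : V) + b e (g.1 w) = 0 by
          linear_combination h0)]
      have hx : g.1 x = (b e x - b d x) • d + b d x • g.1 e + g.1 (pr x : V) := by
        conv_lhs => rw [hpr x]
        rw [map_add, map_add, map_smul, map_smul, hfix g]
      rw [hx, LinearMap.comp_apply, LinearMap.comp_apply, Submodule.subtype_apply]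
      conv_rhs => rw [hpr (g.1 e), hpr (g.1 (pr x : V))]
      simp only [hlam, e1, hde, hge, zero_smul, add_zero, sub_zero, smul_add, smul_smul, mul_one,
        Submodule.coe_add, Submodule.coe_smul, one_smul]
      module
    · obtain ⟨α, w₀, D⟩ := p
      have hpe : pr e = 0 := Subtype.ext (by simp [pr, hde, hee])
      have hpd : pr d = 0 := Subtype.ext (by simp [pr, hδ, hed])
      have hpW : ∀ w : W, pr (w : V) = w := fun w => Subtype.ext (by
        simp [pr, e1 w, e2 w])
      refine Prod.ext ?_ (Prod.ext ?_ (Subtype.ext (LinearMap.ext fun w => ?_)))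
      · simp only [hmk, hpe, map_zero, Submodule.coe_zero]
        simp [hde, hee, hed, e2]
      · simp only [hmk, hpe, map_zero, map_add, map_smul, hpd, hpW]
        simp [hde, hpd, hpe]
      · simp only [LinearMap.comp_apply, Submodule.subtype_apply, hmk, map_add, map_smul, hpd,
          hpe, hpW]
        simp [e1, hpd, hpe]

set_option maxHeartbeats 1600000 in
/-- Centralizer count in the model. -/
theorem card_model (hq : Fintype.card F = q) {U W : Type u} [AddCommGroup U] [Module F U]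
    [FiniteDimensional F U] [AddCommGroup W] [Module F W] [FiniteDimensional F W]
    (b : U →ₗ[F] U →ₗ[F] F) (hs : ∀ x y, b x y = b y x) (hb : ∀ x, (∀ y, b x y = 0) → x = 0)
    (ω : W →ₗ[F] W →ₗ[F] F) (hω : ∀ x, ω x x = 0) (hωn : ∀ x, (∀ y, ω x y = 0) → x = 0) :
    Nat.card {g : (U × W × U) →ₗ[F] U × W × U //
      (∀ x y, b (g x).1 (g y).2.2 + b (g x).2.2 (g y).1 + ω (g x).2.1 (g y).2.1 =
        b x.1 y.2.2 + b x.2.2 y.1 + ω x.2.1 y.2.1) ∧
      ∀ x, g (0, 0, x.1) = (0, 0, (g x).1)} =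
    Nat.card (Iso b) * Nat.card (Iso ω) * q ^ (finrank F U * finrank F W) *
      q ^ Nat.choose (finrank F U + 1) 2 := by
  classical
  have hbinj : Function.Injective b := by
    rw [← LinearMap.ker_eq_bot, LinearMap.ker_eq_bot']
    exact fun x hx => hb x fun y => by rw [hx, LinearMap.zero_apply]
  let bd : U ≃ₗ[F] Dual F U := LinearEquiv.ofBijective b ⟨hbinj,
    (LinearMap.injective_iff_surjective_of_finrank_eq_finrank
      (Subspace.dual_finrank_eq (K := F) (V := U)).symm).1 hbinj⟩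
  have hbd : ∀ (φ : Dual F U) (y : U), b (bd.symm φ) y = φ y := fun φ y => by
    conv_rhs => rw [← bd.apply_symm_apply φ]
    rfl
  -- the fibre over an alternating form
  have hfib : ∀ η : U →ₗ[F] U →ₗ[F] F, (∀ x, η x x = 0) →
      Nat.card {f : U →ₗ[F] U →ₗ[F] F // ∀ x y, f x y + f y x = η x y} =
        q ^ Nat.choose (finrank F U + 1) 2 := by
    intro η hη
    obtain ⟨f₀, hf₀⟩ := SympInvolClasses.exists_half η hη
    let e := finBasis F U
    have h0 : Nat.card (Sym2 (Fin (finrank F U)) → F) = q ^ Nat.choose (finrank F U + 1) 2 := by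
      rw [Nat.card_fun, Nat.card_eq_fintype_card, Nat.card_eq_fintype_card, hq, Sym2.card,
        Fintype.card_fin]
    rw [← h0]
    refine Nat.card_congr
      { toFun := fun f => Sym2.lift ⟨fun i j => (f.1 - f₀) (e i) (e j), fun i j => ?_⟩
        invFun := fun s => ⟨f₀ + e.constr F fun i => e.constr F fun j => s s(i, j), fun x y => ?_⟩
        left_inv := fun f => Subtype.ext (e.ext fun i => e.ext fun j => ?_)
        right_inv := fun s => ?_ }
    · have h1 := f.2 (e i) (e j)
      have h2 := hf₀ (e i) (e j)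
      simp only [LinearMap.sub_apply]
      linear_combination h1 - h2 + (f₀ (e j) (e i) - f.1 (e j) (e i)) * (CharTwo.two_eq_zero (R := F))
    · let S : U →ₗ[F] U →ₗ[F] F := e.constr F fun i => e.constr F fun j => s s(i, j)
      have hS : S = S.flip := e.ext fun i => e.ext fun j => by
        simp [S, Sym2.eq_swap]
      have hSxy : S x y = S y x := LinearMap.congr_fun (LinearMap.congr_fun hS x) y
      show f₀ x y + S x y + (f₀ y x + S y x) = η x y
      linear_combination hf₀ x y + hSxy + S y x * (CharTwo.two_eq_zero (R := F))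
    · simp
    · funext z
      induction z using Sym2.ind with
      | _ i j => simp
  -- the data
  let η : (U →ₗ[F] W) → (U →ₗ[F] U →ₗ[F] F) := fun C => ω.compl₁₂ C C
  have hωs : ∀ x y, ω y x = ω x y := fun x y => by
    rw [SymplecticAlt.swap_neg ω hω x y, CharTwo.neg_eq]
  let T := Σ p : Iso b × Iso ω × (U →ₗ[F] W), {f : U →ₗ[F] U →ₗ[F] F // ∀ x y, f x y + f y x = η p.2.2 x y}
  have hT : Nat.card T = Nat.card (Iso b) * Nat.card (Iso ω) * q ^ (finrank F U * finrank F W) *
      q ^ Nat.choose (finrank F U + 1) 2 := by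
    have : Finite U := Module.finite_of_finite F
    have : Finite W := Module.finite_of_finite F
    have : Finite (U →ₗ[F] U) := Module.finite_of_finite F
    have : Finite (W →ₗ[F] W) := Module.finite_of_finite F
    have : Finite (U →ₗ[F] U →ₗ[F] F) := Module.finite_of_finite F
    have : Finite (Iso b) := Subtype.finite
    have : Finite (Iso ω) := Subtype.finite
    have : Finite (U →ₗ[F] W) := Module.finite_of_finite F
    have := Fintype.ofFinite (Iso b × Iso ω × (U →ₗ[F] W))
    rw [Nat.card_sigma, Finset.sum_congr rfl fun p _ => hfib (η p.2.2) fun x => hω _,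
      Finset.sum_const, smul_eq_mul, Finset.card_univ, ← Nat.card_eq_fintype_card, Nat.card_prod,
      Nat.card_prod, card_pow hq (V := U →ₗ[F] W), Module.finrank_linearMap]
    ring
  rw [← hT]
  symm
  -- inverse of `P`
  let Pi : Iso b → U ≃ₗ[F] U := fun P => LinearEquiv.ofBijective P.1 ⟨P.injective hb, P.surjective hb⟩
  have hPi : ∀ (P : Iso b) x, P.1 ((Pi P).symm x) = x := fun P x => (Pi P).apply_symm_apply x
  have hPi' : ∀ (P : Iso b) x, (Pi P).symm (P.1 x) = x := fun P x => (Pi P).symm_apply_apply x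
  let Ef : Iso b → (U →ₗ[F] U →ₗ[F] F) → (U →ₗ[F] U) := fun P f =>
    bd.symm.toLinearMap ∘ₗ (f.compl₁₂ (Pi P).symm.toLinearMap LinearMap.id).flip
  have hEf : ∀ P f x y, b (P.1 x) (Ef P f y) = f x y := fun P f x y => by
    rw [hs]
    simp [Ef, hbd, hPi']
  let Ff : Iso b → (W →ₗ[F] W) → (U →ₗ[F] W) → (W →ₗ[F] U) := fun P D C =>
    bd.symm.toLinearMap ∘ₗ ω.compl₁₂ D (C ∘ₗ (Pi P).symm.toLinearMap)
  have hFf : ∀ P D C w x, b (Ff P D C w) (P.1 x) = ω (D w) (C x) := fun P D C w x => by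
    simp [Ff, hbd, hPi']
  let i1 : U →ₗ[F] U × W × U := LinearMap.inl F U (W × U)
  let i2 : W →ₗ[F] U × W × U := LinearMap.inr F U (W × U) ∘ₗ LinearMap.inl F W U
  let i3 : U →ₗ[F] U × W × U := LinearMap.inr F U (W × U) ∘ₗ LinearMap.inr F W U
  let p1 : U × W × U →ₗ[F] U := LinearMap.fst F U (W × U)
  let p2 : U × W × U →ₗ[F] W := LinearMap.fst F W U ∘ₗ LinearMap.snd F U (W × U)
  let p3 : U × W × U →ₗ[F] U := LinearMap.snd F W U ∘ₗ LinearMap.snd F U (W × U)
  let mk : (U →ₗ[F] U) → (W →ₗ[F] W) → (U →ₗ[F] W) → (U →ₗ[F] U) → (W →ₗ[F] U) →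
      (U × W × U →ₗ[F] U × W × U) := fun P D C E G =>
    i1 ∘ₗ P ∘ₗ p1 + i2 ∘ₗ (C ∘ₗ p1 + D ∘ₗ p2) + i3 ∘ₗ (E ∘ₗ p1 + G ∘ₗ p2 + P ∘ₗ p3)
  have hmk : ∀ P D C E G x, mk P D C E G x =
      (P x.1, C x.1 + D x.2.1, E x.1 + G x.2.1 + P x.2.2) := fun P D C E G x => by
    simp [mk, i1, i2, i3, p1, p2, p3]
  refine Nat.card_congr
    { toFun := fun t => ⟨mk t.1.1.1 t.1.2.1.1 t.1.2.2 (Ef t.1.1 t.2.1) (Ff t.1.1 t.1.2.1.1 t.1.2.2),
        fun x y => ?_, fun x => ?_⟩
      invFun := fun g => ⟨(⟨p1 ∘ₗ g.1 ∘ₗ i1, fun x y => ?_⟩, ⟨p2 ∘ₗ g.1 ∘ₗ i2, fun x y => ?_⟩,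
        p2 ∘ₗ g.1 ∘ₗ i1), ⟨b.compl₁₂ (p1 ∘ₗ g.1 ∘ₗ i1) (p3 ∘ₗ g.1 ∘ₗ i1), fun x y => ?_⟩⟩
      left_inv := fun t => ?_
      right_inv := fun g => ?_ }
  · obtain ⟨⟨P, D, C⟩, f⟩ := t
    simp only [hmk]
    have h1 : b (P.1 x.1) (P.1 y.2.2) = b x.1 y.2.2 := P.2 _ _
    have h2 : b (P.1 x.2.2) (P.1 y.1) = b x.2.2 y.1 := P.2 _ _
    have h3 : ω (D.1 x.2.1) (D.1 y.2.1) = ω x.2.1 y.2.1 := D.2 _ _
    have h4 := f.2 x.1 y.1
    simp only [η, LinearMap.compl₁₂_apply] at h4
    simp only [map_add, LinearMap.add_apply, hEf, hs (Ef P f.1 x.1) (P.1 y.1),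
      hs (P.1 x.1) (Ff P D.1 C y.2.1), hFf, hωs (C x.1) (D.1 y.2.1), h1, h2, h3]
    linear_combination h4 + (ω (C x.1) (C y.1) + ω (C x.1) (D.1 y.2.1) + ω (D.1 x.2.1) (C y.1)) *
      (CharTwo.two_eq_zero (R := F))
  · simp [hmk]
  · have hz : (g.1 (i3 y)).1 = 0 ∧ (g.1 (i3 y)).2.1 = 0 ∧ (g.1 (i3 y)).2.2 = (g.1 (i1 y)).1 := by
      have := g.2.2 (i1 y)
      simp only [i1, i3, LinearMap.inl_apply, LinearMap.comp_apply, LinearMap.inr_apply] at this ⊢
      simp [this]
    have := g.2.1 (i1 x) (i3 y)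
    rw [hz.1, hz.2.1, hz.2.2] at this
    simpa [i1, i3, p1] using this
  · have hz : ∀ w, (g.1 (i2 w)).1 = 0 := by
      intro w
      have := g.2.2 (i2 w)
      simp only [i2, LinearMap.comp_apply, LinearMap.inl_apply, LinearMap.inr_apply] at this ⊢
      rw [show ((0 : U), (0 : W), (0 : U)) = 0 from rfl, map_zero] at this
      exact (congrArg (fun z => z.2.2) this).symm
    have := g.2.1 (i2 x) (i2 y)
    rw [hz, hz] at this
    simpa [i2, p2] using this
  · have := g.2.1 (i1 x) (i1 y)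
    simp only [LinearMap.compl₁₂_apply, η, LinearMap.comp_apply]
    have hsx := hs (g.1 (i1 x)).2.2 (g.1 (i1 y)).1
    simp [i1, p1, p2, p3] at this hsx ⊢
    rw [hsx] at this
    linear_combination this - ω (g.1 (x, 0, 0)).2.1 (g.1 (y, 0, 0)).2.1 * (CharTwo.two_eq_zero (R := F))
  · obtain ⟨⟨P, D, C⟩, f⟩ := t
    refine Sigma.subtype_ext (Prod.ext (Subtype.ext (LinearMap.ext fun x => ?_))
      (Prod.ext (Subtype.ext (LinearMap.ext fun x => ?_)) (LinearMap.ext fun x => ?_)))
      (LinearMap.ext₂ fun x y => ?_)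
    · simp [hmk, i1, p1]
    · simp [hmk, i2, p2]
    · simp [hmk, i1, p2]
    · simp [hmk, i1, p1, p3, hEf]
  · have key : ∀ (P : Iso b) (D : W →ₗ[F] W) (C : U →ₗ[F] W) (f : U →ₗ[F] U →ₗ[F] F),
        (∀ z, P.1 z = (g.1 (z, 0, 0)).1) → (∀ w, D w = (g.1 (0, w, 0)).2.1) →
        (∀ z, C z = (g.1 (z, 0, 0)).2.1) →
        (∀ x y, f x y = b (g.1 (x, 0, 0)).1 (g.1 (y, 0, 0)).2.2) →
        ∀ x, mk P.1 D C (Ef P f) (Ff P D C) x = g.1 x := by
      intro P D C f hP hD hC hf x
      obtain ⟨u, w, r⟩ := x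
      have hz : (g.1 (0, w, 0)).1 = 0 := by
        have := g.2.2 (0, w, 0)
        rw [show ((0 : U), (0 : W), (0 : U)) = 0 from rfl, map_zero] at this
        exact (congrArg (fun z => z.2.2) this).symm
      have hr' : g.1 (0, 0, r) = (0, 0, (g.1 (r, 0, 0)).1) := g.2.2 (r, 0, 0)
      have hdec : g.1 (u, w, r) = g.1 (u, 0, 0) + g.1 (0, w, 0) + g.1 (0, 0, r) := by
        rw [← map_add, ← map_add]; simp
      have hE : Ef P f u = (g.1 (u, 0, 0)).2.2 := by
        refine hbinj (LinearMap.ext fun z => ?_)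
        obtain ⟨z, rfl⟩ := P.surjective hb z
        rw [hs _ (P.1 z), hs _ (P.1 z), hEf, hf, hP]
      have hF : Ff P D C w = (g.1 (0, w, 0)).2.2 := by
        refine hbinj (LinearMap.ext fun z => ?_)
        obtain ⟨z, rfl⟩ := P.surjective hb z
        rw [hFf, hD, hC, hP]
        have h := g.2.1 (0, w, 0) (z, 0, 0)
        simp only [hz, map_zero, LinearMap.zero_apply, zero_add] at h
        linear_combination h - b (g.1 (0, w, 0)).2.2 (g.1 (z, 0, 0)).1 *
          (CharTwo.two_eq_zero (R := F))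
      rw [hmk, hdec, hr', hE, hF, hP, hP, hC, hD]
      refine Prod.ext ?_ (Prod.ext ?_ ?_)
      · simp only [Prod.fst_add, hz, add_zero]
      · simp only [Prod.fst_add, Prod.snd_add, add_zero]
      · simp only [Prod.snd_add]
    refine Subtype.ext (LinearMap.ext fun x => ?_)
    exact key _ _ _ _ (fun _ => rfl) (fun _ => rfl) (fun _ => rfl) (fun _ _ => rfl) x

/-- The centralizer of a self-adjoint square-zero map in the isometry group. -/
theorem card_centralizer (hq : Fintype.card F = q) {V : Type u} [AddCommGroup V] [Module F V]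
    [FiniteDimensional F V] (B : V →ₗ[F] V →ₗ[F] F) (halt : ∀ x, B x x = 0)
    (hnd : ∀ x, (∀ y, B x y = 0) → x = 0) (A : V →ₗ[F] V) (h1 : ∀ x, A (A x) = 0)
    (h2 : ∀ x y, B (A x) y = B x (A y)) {m s : ℕ} (hm : finrank F V = 2 * m)
    (hs' : finrank F (LinearMap.range A) = s) :
    s ≤ m ∧ ∃ c, Nat.card {g : V →ₗ[F] V // (∀ x y, B (g x) (g y) = B x y) ∧ ∀ x, g (A x) = A (g x)}
        = q ^ (2 * m * s - (3 * s ^ 2 - s) / 2) * c * spOrder q (m - s) ∧
      ((∀ v, B v (A v) = 0) → ∃ k, s = 2 * k ∧ c = spOrder q k) ∧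
      ((∃ v, B v (A v) ≠ 0) → ∃ k, (s = 2 * k + 1 ∧ c = spOrder q k) ∨
        (s = 2 * k + 2 ∧ c = q ^ (2 * k + 1) * spOrder q k)) := by
  classical
  have hBs : ∀ u v, B u v = B v u := fun u v => by
    rw [SymplecticAlt.swap_neg B halt v u, CharTwo.neg_eq]
  obtain ⟨U₁, hU₁⟩ := Submodule.exists_isCompl (LinearMap.ker A)
  have hdec : ∀ x, ∃ u : U₁, A (u : V) = A x := by
    intro x
    obtain ⟨a, ha, c, hc, rfl⟩ := Submodule.mem_sup.1
      (show x ∈ LinearMap.ker A ⊔ U₁ from hU₁.sup_eq_top ▸ Submodule.mem_top)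
    exact ⟨⟨c, hc⟩, by rw [map_add, LinearMap.mem_ker.1 ha, zero_add]⟩
  have hinj : ∀ u : U₁, A (u : V) = 0 → u = 0 := fun u hu =>
    Subtype.ext ((Submodule.disjoint_def.1 hU₁.disjoint) _ hu u.2)
  let b : U₁ →ₗ[F] U₁ →ₗ[F] F := B.compl₁₂ U₁.subtype (A ∘ₗ U₁.subtype)
  have hbs : ∀ u v, b u v = b v u := fun u v => by
    show B (u : V) (A v) = B (v : V) (A u)
    rw [← h2, hBs]
  have hbn : ∀ u, (∀ v, b u v = 0) → u = 0 := fun u hu => hinj u (hnd _ fun v => by
    obtain ⟨w, hw⟩ := hdec v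
    rw [h2, ← hw]
    exact hu w)
  have hdimU : finrank F U₁ = s := by
    have e1 := Submodule.finrank_add_eq_of_isCompl hU₁
    have e2 := LinearMap.finrank_range_add_finrank_ker A
    omega
  have hbinj : Function.Injective b := by
    rw [← LinearMap.ker_eq_bot, LinearMap.ker_eq_bot']
    exact fun x hx => hbn x fun y => by rw [hx, LinearMap.zero_apply]
  let bd : U₁ ≃ₗ[F] Dual F U₁ := LinearEquiv.ofBijective b ⟨hbinj,
    (LinearMap.injective_iff_surjective_of_finrank_eq_finrank
      (Subspace.dual_finrank_eq (K := F) (V := U₁)).symm).1 hbinj⟩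
  have hbd : ∀ (φ : Dual F U₁) (y : U₁), b (bd.symm φ) y = φ y := fun φ y => by
    conv_rhs => rw [← bd.apply_symm_apply φ]
    rfl
  -- make the complement totally isotropic
  obtain ⟨f₀, hf₀⟩ := SympInvolClasses.exists_half
    (B.compl₁₂ U₁.subtype U₁.subtype : U₁ →ₗ[F] U₁ →ₗ[F] F) fun u => halt _
  let ι : U₁ →ₗ[F] V := U₁.subtype + A ∘ₗ U₁.subtype ∘ₗ bd.symm.toLinearMap ∘ₗ f₀
  have hιA : ∀ u, A (ι u) = A u := fun u => by simp [ι, h1]
  have hιb : ∀ u v, B (ι u) (A (ι v)) = b u v := fun u v => by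
    rw [hιA]
    show B (ι u) (A v) = B (u : V) (A v)
    simp [ι, h2, h1]
  have hι0 : ∀ u v, B (ι u) (ι v) = 0 := fun u v => by
    have e1 : B (A (bd.symm (f₀ u) : V)) (v : V) = f₀ u v := by
      rw [h2]; exact hbd (f₀ u) v
    have e2 : B (u : V) (A (bd.symm (f₀ v) : V)) = f₀ v u := by
      rw [hBs, h2]; exact hbd (f₀ v) u
    have e3 : B (A (bd.symm (f₀ u) : V)) (A (bd.symm (f₀ v) : V)) = 0 := by
      rw [h2, h1, map_zero]
    have := hf₀ u v
    simp only [LinearMap.compl₁₂_apply, Submodule.subtype_apply] at this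
    simp only [ι, LinearMap.add_apply, LinearMap.comp_apply, Submodule.subtype_apply,
      LinearEquiv.coe_coe, map_add, e1, e2, e3]
    linear_combination this + B (u : V) (v : V) * (CharTwo.two_eq_zero (R := F))
  have hιB : ∀ u v, B (A (ι u)) (A (ι v)) = 0 := fun u v => by rw [h2, h1, map_zero]
  -- the orthogonal complement
  let P : V →ₗ[F] Dual F U₁ × Dual F U₁ := ((B.compl₂ ι)).prod (B.compl₂ (A ∘ₗ ι))
  let W := LinearMap.ker P
  have hW : ∀ x, x ∈ W ↔ (∀ u, B x (ι u) = 0) ∧ ∀ u, B x (A (ι u)) = 0 := fun x => by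
    simp [W, P, LinearMap.mem_ker, Prod.ext_iff, LinearMap.ext_iff]
  let Φ : U₁ × W × U₁ →ₗ[F] V := ι.coprod (W.subtype.coprod (A ∘ₗ ι))
  have hΦ : ∀ x, Φ x = ι x.1 + ((x.2.1 : V) + A (ι x.2.2)) := fun x => by simp [Φ]
  let ω : W →ₗ[F] W →ₗ[F] F := B.compl₁₂ W.subtype W.subtype
  have w1 : ∀ (w : W) u, B (w : V) (ι u) = 0 := fun w => ((hW _).1 w.2).1
  have w2 : ∀ (w : W) u, B (w : V) (A (ι u)) = 0 := fun w => ((hW _).1 w.2).2
  have w1' : ∀ (w : W) u, B (ι u) (w : V) = 0 := fun w u => by rw [hBs]; exact w1 w u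
  have w2' : ∀ (w : W) u, B (A (ι u)) (w : V) = 0 := fun w u => by rw [hBs]; exact w2 w u
  have hform : ∀ x y, B (Φ x) (Φ y) = b x.1 y.2.2 + b x.2.2 y.1 + ω x.2.1 y.2.1 := by
    intro x y
    have e : B (A (ι x.2.2)) (ι y.1) = b x.2.2 y.1 := by rw [h2, hιb]
    rw [hΦ, hΦ]
    simp only [map_add, LinearMap.add_apply, hι0, hιB, hιb, e, w1, w2, w1', w2']
    simp [ω, LinearMap.compl₁₂_apply]
    ring
  have hωn : ∀ x, (∀ y, ω x y = 0) → x = 0 := by
    intro w hw
    refine Subtype.ext (hnd _ fun v => ?_)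
    let r : U₁ := bd.symm (B v ∘ₗ ι)
    let u : U₁ := bd.symm (B v ∘ₗ A ∘ₗ ι)
    have hr : ∀ z, b r z = B v (ι z) := fun z => hbd _ z
    have hu : ∀ z, b u z = B v (A (ι z)) := fun z => hbd _ z
    have hv : v - ι u - A (ι r) ∈ W := by
      rw [hW]
      constructor <;> intro z <;> simp only [map_sub, LinearMap.sub_apply, h2, hι0, hιB, hιb, h1,
        map_zero, hr, hu, sub_zero, sub_self]
    have := hw ⟨_, hv⟩
    simp only [ω, LinearMap.compl₁₂_apply, Submodule.subtype_apply, map_sub, w1, w2, sub_zero] at this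
    exact this
  have hΦinj : Function.Injective Φ := by
    rw [← LinearMap.ker_eq_bot, LinearMap.ker_eq_bot']
    rintro ⟨u, w, r⟩ hx
    have e1 : u = 0 := hbn u fun z => by
      have := hform (u, w, r) (0, 0, z)
      rw [hx, map_zero, LinearMap.zero_apply] at this
      simpa using this.symm
    have e2 : r = 0 := hbn r fun z => by
      have := hform (u, w, r) (z, 0, 0)
      rw [hx, map_zero, LinearMap.zero_apply] at this
      simpa using this.symm
    subst e1 e2
    simpa [hΦ] using hx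
  have hdimW : finrank F W + 2 * s = 2 * m := by
    have hle := LinearMap.finrank_le_finrank_of_injective hΦinj
    rw [Module.finrank_prod, Module.finrank_prod, hdimU, hm] at hle
    have hr := LinearMap.finrank_range_add_finrank_ker P
    have hr' := Submodule.finrank_le (LinearMap.range P)
    rw [Module.finrank_prod, Subspace.dual_finrank_eq, hdimU] at hr'
    change finrank F (LinearMap.range P) + finrank F W = _ at hr
    omega
  let E := LinearEquiv.ofBijective Φ ⟨hΦinj,
    (LinearMap.injective_iff_surjective_of_finrank_eq_finrank (by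
      rw [Module.finrank_prod, Module.finrank_prod, hdimU, hm]; omega)).1 hΦinj⟩
  have hEform : ∀ x y, B (E x) (E y) = b x.1 y.2.2 + b x.2.2 y.1 + ω x.2.1 y.2.1 := hform
  have hEA : ∀ x, A (E x) = E (0, 0, x.1) := fun x => by
    show A (Φ x) = Φ (0, 0, x.1)
    have hw : A (x.2.1 : V) = 0 := hnd _ fun v => by
      obtain ⟨z, hz⟩ := hdec v
      rw [h2, ← hz, ← hιA]
      exact w2 x.2.1 z
    simp [hΦ, h1, hw]
  obtain ⟨j, hj, hcω⟩ := card_iso_alt hq ω (fun w => halt _) hωn
  have hsm : s ≤ m := by omega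
  have hjm : j = m - s := by omega
  refine ⟨hsm, Nat.card (Iso b), ?_, fun h => ?_, fun h => ?_⟩
  · have hmodel := card_model hq b hbs hbn ω (fun w => halt _) hωn
    rw [hcω, hdimU, hjm] at hmodel
    have hexp : q ^ (2 * m * s - (3 * s ^ 2 - s) / 2) =
        q ^ (s * finrank F W) * q ^ Nat.choose (s + 1) 2 := by
      rw [← pow_add]
      congr 1
      rw [Nat.choose_two_right]
      have hW' : finrank F W = 2 * (m - s) := by omega
      rw [hW']
      obtain ⟨d, rfl⟩ : ∃ d, m = s + d := ⟨m - s, by omega⟩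
      rw [Nat.add_sub_cancel_left]
      obtain ⟨t, ht⟩ : ∃ t, (s + 1) * s = 2 * t := Nat.even_mul_pred_self (s + 1) |>.exists_two_nsmul |>.imp fun t ht => by simpa using ht
      have h3 : (3 * s ^ 2 - s) / 2 + t = 2 * s ^ 2 := by
        have : 3 * s ^ 2 - s + 2 * t = 4 * s ^ 2 := by
          rw [← ht]
          have : s ≤ 3 * s ^ 2 := by nlinarith
          have : (s + 1) * s = s ^ 2 + s := by ring
          omega
        omega
      rw [Nat.add_sub_cancel, ht, Nat.mul_div_cancel_left _ two_pos]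
      have : 2 * (s + d) * s = 2 * s ^ 2 + s * (2 * d) := by ring
      omega
    rw [hexp]
    have hgoal : Nat.card {g : V →ₗ[F] V // (∀ x y, B (g x) (g y) = B x y) ∧ ∀ x, g (A x) = A (g x)} =
        Nat.card (Iso b) * spOrder q (m - s) * q ^ (s * finrank F W) * q ^ Nat.choose (s + 1) 2 := by
      rw [← hmodel]
      refine Nat.card_congr
        { toFun := fun g => ⟨E.symm.toLinearMap ∘ₗ g.1 ∘ₗ E.toLinearMap, fun x y => ?_, fun x => ?_⟩
          invFun := fun g => ⟨E.toLinearMap ∘ₗ g.1 ∘ₗ E.symm.toLinearMap, fun x y => ?_, fun x => ?_⟩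
          left_inv := fun g => Subtype.ext (LinearMap.ext fun x => by simp)
          right_inv := fun g => Subtype.ext (LinearMap.ext fun x => by simp) }
      · simp only [LinearMap.comp_apply, LinearEquiv.coe_coe]
        rw [← hEform, ← hEform, E.apply_symm_apply, E.apply_symm_apply, g.2.1]
      · simp only [LinearMap.comp_apply, LinearEquiv.coe_coe]
        rw [← hEA, g.2.2, LinearEquiv.symm_apply_eq, ← hEA, E.apply_symm_apply]
      · simp only [LinearMap.comp_apply, LinearEquiv.coe_coe]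
        rw [hEform, g.2.1, ← hEform, E.apply_symm_apply, E.apply_symm_apply]
      · simp only [LinearMap.comp_apply, LinearEquiv.coe_coe]
        have : E.symm (A x) = (0, 0, (E.symm x).1) := by
          rw [LinearEquiv.symm_apply_eq, ← hEA, E.apply_symm_apply]
        rw [this, g.2.2, ← hEA]
    rw [hgoal]
    ring
  · obtain ⟨k, hk, hc⟩ := card_iso_alt hq b (fun u => h u) hbn
    exact ⟨k, by omega, hc⟩
  · obtain ⟨v, hv⟩ := h
    obtain ⟨w, hw⟩ := hdec v
    have hna : b w w ≠ 0 := by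
      show B (w : V) (A w) ≠ 0
      rw [hw, ← h2, hw, h2]
      exact hv
    obtain ⟨k, hk⟩ := card_iso_nonalt hq b hbs hbn ⟨w, hna⟩
    rw [hdimU] at hk
    exact ⟨k, hk⟩

end Cfsg.Agent.CharTwoInvolCentralizer
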