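import Mathlib
import Cfsg.Agent.Lib.OrthUnitaryQuad
import Cfsg.Agent.Lib.OrthUnitaryRefl
import Cfsg.Agent.Lib.OrthUnitaryOmega

/-!
Orthogonal groups over finite fields of characteristic two: the Dickson invariant as a parity,
conjugacy of isometries inside the symplectic group, centralizers of involutions.
-/

set_option autoImplicit false

open QuadraticMap Module
open Cfsg.Agent.OrthUnitaryQuad Cfsg.Agent.OrthUnitaryRefl

namespace Cfsg.Agent.OrthCharTwo

variable {F V : Type*} [Field F] [AddCommGroup V] [Module F V] [FiniteDimensional F V]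
  {Q : QuadraticForm F V}

/-- The orthogonal complement for the polar form. -/
abbrev perp (Q : QuadraticForm F V) (W : Submodule F V) : Submodule F V :=
  LinearMap.BilinForm.orthogonal (polarBilin Q) W

theorem mem_perp {W : Submodule F V} {x : V} : x ∈ perp Q W ↔ ∀ w ∈ W, polar Q w x = 0 :=
  Iff.rfl

theorem finrank_perp (hnd : (polarBilin Q).Nondegenerate) (W : Submodule F V) :
    finrank F (perp Q W) + finrank F W = finrank F V := by
  have := LinearMap.BilinForm.finrank_orthogonal hnd W
  have hle := Submodule.finrank_le W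
  unfold perp
  omega

omit [FiniteDimensional F V] in
theorem polar_self_zero [CharP F 2] (Q : QuadraticForm F V) (x : V) : polar Q x x = 0 := by
  rw [polar_self_mul, CharTwo.two_eq_zero, zero_mul]

theorem finrank_inf_ker (W : Submodule F V) (φ : V →ₗ[F] F) {x : V} (hx : x ∈ W) (h : φ x ≠ 0) :
    finrank F ↥(W ⊓ LinearMap.ker φ) + 1 = finrank F W := by
  have hlt : W ⊓ LinearMap.ker φ < W := by
    refine lt_of_le_of_ne inf_le_left fun he => h ?_
    rw [← he] at hx
    exact LinearMap.mem_ker.1 hx.2
  have h1 := Submodule.finrank_lt_finrank_of_lt hlt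
  have h2 := Submodule.finrank_sup_add_finrank_inf_eq W (LinearMap.ker φ)
  have h3 := Submodule.finrank_le (W ⊔ LinearMap.ker φ)
  have h4 := LinearMap.finrank_range_add_finrank_ker φ
  have h5 := Submodule.finrank_le (LinearMap.range φ)
  rw [finrank_self] at h5
  omega

/-! ### The parity of the rank of `g - 1` -/

/-- `g - 1`. -/
noncomputable def dif (g : orth Q) : V →ₗ[F] V := g.1.toLinearMap - LinearMap.id

omit [FiniteDimensional F V] in
theorem dif_apply (g : orth Q) (x : V) : dif g x = g.1 x - x := rfl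

theorem range_dif (hnd : (polarBilin Q).Nondegenerate) (g : orth Q) :
    LinearMap.range (dif g) = perp Q (LinearMap.ker (dif g)) := by
  refine Submodule.eq_of_le_of_finrank_eq ?_ ?_
  · rintro _ ⟨a, rfl⟩ w hw
    have hgw : g.1 w = w := sub_eq_zero.1 (LinearMap.mem_ker.1 hw)
    show polar Q w (dif g a) = 0
    rw [dif_apply, polar_sub_right]
    nth_rw 1 [← hgw]
    rw [polar_orth, sub_self]
  · have h1 := finrank_perp hnd (LinearMap.ker (dif g))
    have h2 := LinearMap.finrank_range_add_finrank_ker (dif g)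
    omega

/-- Multiplying by a reflection changes the rank of `g - 1` by one. -/
theorem rank_refl_mul [CharP F 2] (hnd : (polarBilin Q).Nondegenerate) (g : orth Q) (v : V)
    (hv : Q v ≠ 0) :
    finrank F (LinearMap.range (dif (refl Q v hv * g))) + 1 = finrank F (LinearMap.range (dif g)) ∨
      finrank F (LinearMap.range (dif (refl Q v hv * g))) =
        finrank F (LinearMap.range (dif g)) + 1 := by
  set g' := refl Q v hv * g
  set k : V → F := fun x => (Q v)⁻¹ * polar Q v (g.1 x)
  have hN : ∀ x, dif g' x = dif g x - k x • v := by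
    intro x
    show (refl Q v hv).1 (g.1 x) - x = g.1 x - x - k x • v
    rw [refl_apply]
    abel
  have hv0 : v ≠ 0 := fun h => hv (by rw [h, map_zero])
  have e1 := LinearMap.finrank_range_add_finrank_ker (dif g)
  have e2 := LinearMap.finrank_range_add_finrank_ker (dif g')
  by_cases hmem : v ∈ LinearMap.range (dif g)
  · obtain ⟨u, hu⟩ := hmem
    have hgu : g.1 u = v + u := sub_eq_iff_eq_add.1 hu
    have hku : k u = 1 := by
      have h1 : Q (v + u) = Q u := by rw [← hgu]; exact map_orth g u
      rw [QuadraticMap.map_add (⇑Q)] at h1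
      have h2 : polar Q v u = Q v := by
        have : (2 : F) = 0 := CharTwo.two_eq_zero
        linear_combination h1 - Q v * this
      simp only [k, hgu, polar_add_right, polar_self_zero, zero_add, h2]
      exact inv_mul_cancel₀ hv
    have hker : LinearMap.ker (dif g') = LinearMap.ker (dif g) ⊔ Submodule.span F {u} := by
      refine le_antisymm ?_ (sup_le ?_ ?_)
      · intro x hx
        rw [LinearMap.mem_ker, hN, sub_eq_zero] at hx
        have : x - k x • u ∈ LinearMap.ker (dif g) := by
          rw [LinearMap.mem_ker, map_sub, map_smul, hu, hx, sub_self]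
        rw [show x = (x - k x • u) + k x • u by abel]
        exact Submodule.add_mem_sup this (Submodule.smul_mem _ _ (Submodule.mem_span_singleton_self u))
      · intro x hx
        have hgx : g.1 x = x := sub_eq_zero.1 (LinearMap.mem_ker.1 hx)
        have : polar Q x v = 0 := by
          rw [← hu, dif_apply, polar_sub_right]
          nth_rw 1 [← hgx]
          rw [polar_orth, sub_self]
        rw [LinearMap.mem_ker, hN, LinearMap.mem_ker.1 hx]
        simp [k, hgx, polar_comm Q v x, this]
      · rw [Submodule.span_singleton_le_iff_mem, LinearMap.mem_ker, hN, hu, hku, one_smul, sub_self]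
    have hinf : LinearMap.ker (dif g) ⊓ Submodule.span F {u} = ⊥ := by
      rw [eq_bot_iff]
      rintro x ⟨hx, hx'⟩
      obtain ⟨c, rfl⟩ := Submodule.mem_span_singleton.1 hx'
      rw [SetLike.mem_coe, LinearMap.mem_ker, map_smul, hu, smul_eq_zero] at hx
      rcases hx with h | h
      · simp [h]
      · exact absurd h hv0
    have h3 := Submodule.finrank_sup_add_finrank_inf_eq (LinearMap.ker (dif g)) (Submodule.span F {u})
    rw [← hker, hinf, finrank_bot, finrank_span_singleton (fun h : u = 0 => hv0 (by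
      rw [← hu, h, map_zero]))] at h3
    left
    omega
  · have hker : LinearMap.ker (dif g') = LinearMap.ker (dif g) ⊓ LinearMap.ker (polarBilin Q v) := by
      ext x
      simp only [Submodule.mem_inf, LinearMap.mem_ker, polarBilin_apply_apply, hN, sub_eq_zero]
      constructor
      · intro hx
        by_cases hk : k x = 0
        · rw [hk, zero_smul] at hx
          have hgx : g.1 x = x := sub_eq_zero.1 hx
          refine ⟨hx, ?_⟩
          simpa [k, hgx, hv] using hk
        · refine absurd ⟨(k x)⁻¹ • x, ?_⟩ hmem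
          rw [map_smul, hx, inv_smul_smul₀ hk]
      · rintro ⟨hx, hvx⟩
        have hgx : g.1 x = x := sub_eq_zero.1 hx
        rw [hx]
        simp [k, hgx, hvx]
    obtain ⟨x, hx, hvx⟩ : ∃ x ∈ LinearMap.ker (dif g), polarBilin Q v x ≠ 0 := by
      by_contra hc
      push Not at hc
      refine hmem ?_
      rw [range_dif hnd]
      intro w hw
      have := hc w hw
      rw [polarBilin_apply_apply, polar_comm] at this
      exact this
    have h3 := finrank_inf_ker (LinearMap.ker (dif g)) (polarBilin Q v) hx hvx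
    rw [← hker] at h3
    right
    omega

/-- An integer statistic that changes by one under reflections computes a Dickson character. -/
theorem dickson_eq_of_flip [CharP F 2] (hgen : reflGroup Q = ⊤) (D : orth Q →* Multiplicative F)
    (hD : ∀ v hv, D (refl Q v hv) = Multiplicative.ofAdd 1) (f : orth Q → ℕ)
    (h1 : ((f 1 : ℕ) : F) = 0)
    (hflip : ∀ g v hv, f (refl Q v hv * g) + 1 = f g ∨ f (refl Q v hv * g) = f g + 1)
    (g : orth Q) : D g = Multiplicative.ofAdd ((f g : ℕ) : F) := by
  have step : ∀ y v hv, D y = Multiplicative.ofAdd ((f y : ℕ) : F) →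
      D (refl Q v hv * y) = Multiplicative.ofAdd ((f (refl Q v hv * y) : ℕ) : F) := by
    intro y v hv hy
    rw [map_mul, hD, hy, ← ofAdd_add]
    congr 1
    rcases hflip y v hv with h | h
    · rw [← h, Nat.cast_add, Nat.cast_one, add_comm, add_assoc, CharTwo.add_self_eq_zero, add_zero]
    · rw [h, Nat.cast_add, Nat.cast_one, add_comm]
  have hg : g ∈ reflGroup Q := hgen ▸ Subgroup.mem_top g
  induction hg using Subgroup.closure_induction_left with
  | one => rw [map_one, h1, ofAdd_zero]
  | mul_left r hr y _ ih =>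
    obtain ⟨v, hv, rfl⟩ := hr
    exact step y v hv ih
  | inv_mul_cancel r hr y _ ih =>
    obtain ⟨v, hv, rfl⟩ := hr
    rw [inv_eq_of_mul_eq_one_right (refl_sq v hv)]
    exact step y v hv ih

/-- The Dickson invariant is the parity of the rank of `g - 1`. -/
theorem dickson_eq_rank [CharP F 2] (hnd : (polarBilin Q).Nondegenerate) (hgen : reflGroup Q = ⊤)
    (D : orth Q →* Multiplicative F) (hD : ∀ v hv, D (refl Q v hv) = Multiplicative.ofAdd 1)
    (g : orth Q) : D g = Multiplicative.ofAdd ((finrank F (LinearMap.range (dif g)) : ℕ) : F) := by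
  refine dickson_eq_of_flip hgen D hD (fun g => finrank F (LinearMap.range (dif g))) ?_
    (fun g v hv => rank_refl_mul hnd g v hv) g
  have : dif (1 : orth Q) = 0 := LinearMap.ext fun x => sub_self x
  rw [this, LinearMap.range_zero, finrank_bot, Nat.cast_zero]

/-! ### Totally singular subspaces of half the dimension -/

theorem perp_eq_self (hnd : (polarBilin Q).Nondegenerate) {W : Submodule F V}
    (hW : ∀ x ∈ W, Q x = 0) (hd : 2 * finrank F W = finrank F V) : perp Q W = W := by
  refine (Submodule.eq_of_le_of_finrank_eq ?_ ?_).symm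
  · intro x hx w hw
    show polar Q w x = 0
    simp [polar, hW _ (W.add_mem hw hx), hW _ hw, hW _ hx]
  · have := finrank_perp hnd W
    omega

theorem inf_map_refl [CharP F 2] (hnd : (polarBilin Q).Nondegenerate) {W W' : Submodule F V}
    (hW : ∀ x ∈ W, Q x = 0) (hd : 2 * finrank F W = finrank F V)
    (hW' : ∀ x ∈ W', Q x = 0) (hd' : 2 * finrank F W' = finrank F V) (v : V) (hv : Q v ≠ 0) :
    finrank F ↥(W ⊓ W'.map ((refl Q v hv).1 : V →ₗ[F] V)) + 1 = finrank F ↥(W ⊓ W') ∨
      finrank F ↥(W ⊓ W'.map ((refl Q v hv).1 : V →ₗ[F] V)) = finrank F ↥(W ⊓ W') + 1 := by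
  set r := refl Q v hv
  set R := W'.map (r.1 : V →ₗ[F] V)
  have hp := perp_eq_self hnd hW hd
  have hp' := perp_eq_self hnd hW' hd'
  obtain ⟨w0, hw0, hw0v⟩ : ∃ w ∈ W', polarBilin Q v w ≠ 0 := by
    by_contra hc
    push Not at hc
    refine hv (hW' v ?_)
    rw [← hp']
    intro w hw
    have := hc w hw
    rw [polarBilin_apply_apply, polar_comm] at this
    exact this
  set H := W' ⊓ LinearMap.ker (polarBilin Q v) with hHdef
  have hH : finrank F H + 1 = finrank F W' := finrank_inf_ker W' _ hw0 hw0v
  have hfixH : ∀ x ∈ H, r.1 x = x := by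
    intro x hx
    rw [refl_apply, show polar Q v x = 0 from LinearMap.mem_ker.1 hx.2]
    simp
  set M := W ⊓ perp Q H with hMdef
  have hM : M = perp Q (W ⊔ H) := by
    refine le_antisymm ?_ ?_
    · rintro x ⟨hxW, hxH⟩ y hy
      obtain ⟨a, ha, b, hb, rfl⟩ := Submodule.mem_sup.1 hy
      show polar Q (a + b) x = 0
      rw [polar_add_left, mem_perp.1 (hp.symm ▸ hxW : x ∈ perp Q W) a ha, mem_perp.1 hxH b hb,
        add_zero]
    · intro x hx
      refine ⟨?_, fun b hb => hx b (Submodule.mem_sup_right hb)⟩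
      rw [SetLike.mem_coe, ← hp]
      exact fun a ha => hx a (Submodule.mem_sup_left ha)
  have hdM : finrank F M = finrank F ↥(W ⊓ H) + 1 := by
    rw [hM]
    have h1 := finrank_perp hnd (W ⊔ H)
    have h2 := Submodule.finrank_sup_add_finrank_inf_eq W H
    omega
  have hRperp : R ≤ perp Q H := by
    rintro _ ⟨w, hw, rfl⟩ b hb
    show polar Q b (r.1 w) = 0
    rw [← hfixH b hb, polar_orth]
    exact mem_perp.1 (hp'.symm ▸ hw : w ∈ perp Q W') b hb.1
  have hW'perp : W' ≤ perp Q H := fun w hw b hb =>
    mem_perp.1 (hp'.symm ▸ hw : w ∈ perp Q W') b hb.1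
  have hinf : W ⊓ W' ⊓ (W ⊓ R) = W ⊓ H := by
    refine le_antisymm ?_ ?_
    · rintro x ⟨⟨hxW, hxW'⟩, -, w, hw, rfl⟩
      refine ⟨hxW, hxW', ?_⟩
      have h1 : ((Q v)⁻¹ * polar Q v w) • v ∈ W' := by
        have h2 := W'.sub_mem hw hxW'
        rw [LinearEquiv.coe_coe, refl_apply, sub_sub_cancel] at h2
        exact h2
      have h3 : (Q v)⁻¹ * polar Q v w = 0 := by
        by_contra hk
        exact hv (hW' v ((Submodule.smul_mem_iff _ hk).1 h1))
      have h4 : polar Q v w = 0 := by simpa [hv] using h3
      show polar Q v (r.1 w) = 0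
      rw [refl_apply, h3, zero_smul, sub_zero, h4]
    · rintro x ⟨hxW, hxH⟩
      exact ⟨⟨hxW, hxH.1⟩, hxW, x, hxH.1, hfixH x hxH⟩
  have hsum : finrank F ↥(W ⊓ W') + finrank F ↥(W ⊓ R) ≤ finrank F M + finrank F ↥(W ⊓ H) := by
    rw [← Submodule.finrank_sup_add_finrank_inf_eq, hinf]
    refine Nat.add_le_add_right (Submodule.finrank_mono (sup_le ?_ ?_)) _
    · exact inf_le_inf_left W hW'perp
    · exact inf_le_inf_left W hRperp
  have hle1 : finrank F ↥(W ⊓ H) ≤ finrank F ↥(W ⊓ W') :=
    Submodule.finrank_mono (inf_le_inf_left W inf_le_left)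
  have hle2 : finrank F ↥(W ⊓ H) ≤ finrank F ↥(W ⊓ R) :=
    Submodule.finrank_mono (hinf ▸ inf_le_right)
  have hlt : W ⊓ H < W ⊓ W' ∨ W ⊓ H < W ⊓ R := by
    obtain ⟨x, hxM, hxL⟩ : ∃ x ∈ M, x ∉ W ⊓ H := by
      by_contra hc
      push Not at hc
      have := Submodule.finrank_mono (s := M) (t := W ⊓ H) hc
      omega
    set c := (polar Q v w0)⁻¹ * polar Q x w0 with hc
    have hw : x - c • v ∈ W' := by
      rw [← hp']
      intro w' hw'
      show polar Q w' (x - c • v) = 0
      set e := (polar Q v w0)⁻¹ * polar Q v w' with he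
      have hvw : polar Q v w0 ≠ 0 := hw0v
      have hb : w' - e • w0 ∈ H := by
        refine ⟨W'.sub_mem hw' (W'.smul_mem e hw0), ?_⟩
        show polar Q v (w' - e • w0) = 0
        rw [polar_sub_right, polar_smul_right, smul_eq_mul, he]
        field_simp
        ring
      have hx' : polar Q (w' - e • w0) x = 0 := mem_perp.1 hxM.2 _ hb
      rw [polar_sub_left, polar_smul_left, smul_eq_mul] at hx'
      rw [polar_sub_right, polar_smul_right, smul_eq_mul, hc]
      rw [polar_comm Q w' v]
      rw [polar_comm Q x w0]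
      rw [he] at hx'
      linear_combination hx'
    set w := x - c • v with hwdef
    have hxw : x = w + c • v := by rw [hwdef]; abel
    have hQ : c * (polar Q w v + c * Q v) = 0 := by
      have h0 := hW x hxM.1
      rw [hxw, QuadraticMap.map_add (⇑Q), hW' w hw, QuadraticMap.map_smul, polar_smul_right] at h0
      simp only [smul_eq_mul] at h0
      linear_combination h0
    rcases mul_eq_zero.1 hQ with h | h
    · left
      refine lt_of_le_of_ne (inf_le_inf_left W inf_le_left) fun he => hxL ?_
      rw [he]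
      exact ⟨hxM.1, by rw [hxw, h, zero_smul, add_zero]; exact hw⟩
    · right
      refine lt_of_le_of_ne (hinf ▸ inf_le_right) fun he => hxL ?_
      rw [he]
      refine ⟨hxM.1, w, hw, ?_⟩
      rw [LinearEquiv.coe_coe, refl_apply, hxw, sub_eq_add_neg, ← neg_smul]
      congr 2
      rw [polar_comm Q v w]
      field_simp
      linear_combination -h
  rcases hlt with h | h <;> have h' := Submodule.finrank_lt_finrank_of_lt h <;> omega

/-- The Dickson invariant from the position of the image of a maximal singular subspace. -/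
theorem dickson_eq_inf [CharP F 2] (hnd : (polarBilin Q).Nondegenerate) (hgen : reflGroup Q = ⊤)
    (D : orth Q →* Multiplicative F) (hD : ∀ v hv, D (refl Q v hv) = Multiplicative.ofAdd 1)
    {W : Submodule F V} (hW : ∀ x ∈ W, Q x = 0) (hd : 2 * finrank F W = finrank F V)
    (g : orth Q) :
    D g = Multiplicative.ofAdd
      ((finrank F W + finrank F ↥(W ⊓ W.map (g.1 : V →ₗ[F] V)) : ℕ) : F) := by
  refine dickson_eq_of_flip hgen D hD
    (fun g => finrank F W + finrank F ↥(W ⊓ W.map (g.1 : V →ₗ[F] V))) ?_ (fun g v hv => ?_) g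
  · have : W.map ((1 : orth Q).1 : V →ₗ[F] V) = W := Submodule.map_id W
    rw [this, inf_idem, Nat.cast_add, CharTwo.add_self_eq_zero]
  · have hWg : ∀ x ∈ W.map (g.1 : V →ₗ[F] V), Q x = 0 := by
      rintro _ ⟨w, hw, rfl⟩
      exact (map_orth g w).trans (hW w hw)
    have hdg : 2 * finrank F ↥(W.map (g.1 : V →ₗ[F] V)) = finrank F V := by
      rw [LinearEquiv.finrank_map_eq]; exact hd
    have hcomp : W.map ((refl Q v hv * g).1 : V →ₗ[F] V) =
        (W.map (g.1 : V →ₗ[F] V)).map ((refl Q v hv).1 : V →ₗ[F] V) := by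
      rw [← Submodule.map_comp]; rfl
    have := inf_map_refl hnd hW hd hWg hdg v hv
    rw [← hcomp] at this
    omega

/-! ### Centralizers of involutions -/

theorem exists_fixed_nonsingular (hnd : (polarBilin Q).Nondegenerate) (t : orth Q) (ht : t * t = 1)
    [CharP F 2]
    (h : ¬ (2 * finrank F (LinearMap.range (dif t)) = finrank F V ∧ ∀ x, Q (dif t x) = 0)) :
    ∃ v, Q v ≠ 0 ∧ t.1 v = v := by
  by_contra hc
  push Not at hc
  have hker : ∀ x ∈ LinearMap.ker (dif t), Q x = 0 := by
    intro x hx
    by_contra h0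
    exact hc x h0 (sub_eq_zero.1 (LinearMap.mem_ker.1 hx))
  have hsub : LinearMap.range (dif t) ≤ LinearMap.ker (dif t) := by
    rintro _ ⟨x, rfl⟩
    rw [LinearMap.mem_ker, dif_apply, dif_apply, map_sub]
    have h2 : t.1 (t.1 x) = x := by
      show (t * t).1 x = x
      rw [ht]; rfl
    rw [h2, ← neg_sub (t.1 x) x, ← neg_add', neg_eq_zero]
    have : ∀ y : V, y + y = 0 := fun y => by
      rw [← two_smul F y, CharTwo.two_eq_zero, zero_smul]
    exact this _
  refine h ⟨?_, fun x => hker _ (hsub ⟨x, rfl⟩)⟩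
  have h1 : LinearMap.ker (dif t) ≤ perp Q (LinearMap.ker (dif t)) := by
    intro x hx w hw
    show polar Q w x = 0
    simp [polar, hker _ (Submodule.add_mem _ hw hx), hker _ hw, hker _ hx]
  have h2 := Submodule.finrank_mono h1
  have h3 := Submodule.finrank_mono hsub
  have h4 := LinearMap.finrank_range_add_finrank_ker (dif t)
  have h5 := finrank_perp hnd (LinearMap.ker (dif t))
  omega

theorem commute_refl_of_fixed (t : orth Q) {v : V} (hv : Q v ≠ 0) (h : t.1 v = v) :
    refl Q v hv * t = t * refl Q v hv := by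
  refine orth_ext fun x => ?_
  show (refl Q v hv).1 (t.1 x) = t.1 ((refl Q v hv).1 x)
  have hp : polar Q v (t.1 x) = polar Q v x := by
    nth_rw 1 [← h]
    rw [polar_orth]
  rw [refl_apply, refl_apply, map_sub, map_smul, h, hp]

/-! ### Isometries conjugate under the symplectic group are conjugate -/

variable [Fintype F] [CharP F 2]

/-- The Artin-Schreier map. -/
def wp : F →+ F :=
  AddMonoidHom.mk' (fun y => y ^ 2 + y) fun a b => by
    simp only [CharTwo.add_sq]; abel

omit [Fintype F] in
theorem card_ker_wp : Nat.card (wp (F := F)).ker = 2 := by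
  rw [Nat.card_eq_two_iff]
  refine ⟨0, ⟨1, ?_⟩, ?_, Set.eq_univ_of_forall ?_⟩
  · show (1 : F) ^ 2 + 1 = 0
    rw [one_pow, CharTwo.add_self_eq_zero]
  · intro h
    exact zero_ne_one (congrArg Subtype.val h : (0 : F) = 1)
  · rintro ⟨y, hy⟩
    have hy' : y ^ 2 + y = 0 := hy
    have : y * (y + 1) = 0 := by linear_combination hy'
    rcases mul_eq_zero.1 this with h | h
    · left; exact Subtype.ext h
    · right; exact Subtype.ext (CharTwo.add_eq_zero.1 h)

theorem index_wp : (wp (F := F)).range.index = 2 := by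
  have h1 := AddSubgroup.card_mul_index (wp (F := F)).range
  have h2 := AddSubgroup.card_mul_index (wp (F := F)).ker
  rw [AddSubgroup.index_ker, card_ker_wp] at h2
  have hpos : 0 < Nat.card (wp (F := F)).range := Nat.card_pos
  rw [← h2, mul_comm] at h1
  exact Nat.eq_of_mul_eq_mul_right hpos h1

/-- The additive character of order two. -/
noncomputable def psi (c : F) : ℤ := by
  classical exact if c ∈ (wp (F := F)).range then 1 else -1

theorem psi_add (a b : F) : psi (a + b) = psi a * psi b := by
  classical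
  simp only [psi, AddSubgroup.add_mem_iff_of_index_two index_wp]
  split_ifs <;> simp_all

theorem psi_sq (a : F) : psi (a ^ 2) = psi a := by
  classical
  have h : a ^ 2 + a ∈ (wp (F := F)).range := ⟨a, rfl⟩
  rw [AddSubgroup.add_mem_iff_of_index_two index_wp] at h
  simp only [psi, h]

variable [Fintype V]

theorem gauss_ne_zero (hnd : (polarBilin Q).Nondegenerate) : ∑ x : V, psi (Q x) ≠ 0 := by
  classical
  intro h0
  have h2 : ∀ z, z ≠ 0 → ∑ x : V, psi (polar Q x z) = 0 := by
    intro z hz
    obtain ⟨c, hc⟩ : ∃ c : F, c ∉ (wp (F := F)).range := by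
      by_contra hc
      push Not at hc
      have := index_wp (F := F)
      rw [AddSubgroup.eq_top_iff' _ |>.2 hc, AddSubgroup.index_top] at this
      omega
    obtain ⟨x0, hx0⟩ : ∃ x, polar Q x z ≠ 0 := by
      by_contra hc'
      push Not at hc'
      exact hz (hnd.2 z hc')
    have h1 := Equiv.sum_comp (Equiv.addRight ((c / polar Q x0 z) • x0))
      (fun x => psi (polar Q x z))
    simp only [Equiv.coe_addRight, polar_add_left, polar_smul_left, smul_eq_mul,
      div_mul_cancel₀ _ hx0, psi_add] at h1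
    rw [← Finset.sum_mul] at h1
    have hpc : psi c = -1 := by simp [psi, hc]
    rw [hpc] at h1
    omega
  have h1 : (∑ x : V, psi (Q x)) * (∑ x : V, psi (Q x)) = (Fintype.card V : ℤ) := by
    rw [Finset.sum_mul_sum]
    calc ∑ x : V, ∑ y : V, psi (Q x) * psi (Q y)
        = ∑ x : V, ∑ z : V, psi (Q z) * psi (polar Q x z) := by
          refine Finset.sum_congr rfl fun x _ => ?_
          rw [← Equiv.sum_comp (Equiv.addLeft x)]
          refine Finset.sum_congr rfl fun z _ => ?_
          simp only [Equiv.coe_addLeft]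
          rw [← psi_add, ← psi_add, QuadraticMap.map_add (⇑Q)]
          congr 1
          linear_combination Q x * (CharTwo.two_eq_zero (R := F))
      _ = ∑ z : V, psi (Q z) * ∑ x : V, psi (polar Q x z) := by
          rw [Finset.sum_comm]; simp only [Finset.mul_sum]
      _ = psi (Q 0) * ∑ x : V, psi (polar Q x 0) := by
          refine Finset.sum_eq_single 0 (fun z _ hz => ?_) (by simp)
          rw [h2 z hz, mul_zero]
      _ = (Fintype.card V : ℤ) := by
          simp [psi, (wp (F := F)).range.zero_mem]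
  rw [h0, mul_zero] at h1
  have : 0 < Fintype.card V := Fintype.card_pos
  omega

/-- If two isometries are conjugate by a map preserving the polar form then they are conjugate
by an isometry. -/
theorem exists_orth_conj (hnd : (polarBilin Q).Nondegenerate) (t s : orth Q) (g : V ≃ₗ[F] V)
    (hg : ∀ x y, polar Q (g x) (g y) = polar Q x y) (hgt : ∀ x, g (t.1 x) = s.1 (g x)) :
    ∃ h : orth Q, h * t = s * h := by
  have hsq : ∀ x : F, ∃ c, c ^ 2 = x :=
    Finite.injective_iff_surjective.1 (CharTwo.sq_injective (R := F))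
  choose ℓ hℓ using fun x => hsq (Q (g x) + Q x)
  have hℓadd : ∀ x y, ℓ (x + y) = ℓ x + ℓ y := by
    intro x y
    refine CharTwo.sq_injective ?_
    show ℓ (x + y) ^ 2 = (ℓ x + ℓ y) ^ 2
    rw [CharTwo.add_sq, hℓ, hℓ, hℓ, map_add g, QuadraticMap.map_add (⇑Q) (g x) (g y),
      QuadraticMap.map_add (⇑Q) x y, hg]
    linear_combination polar Q x y * (CharTwo.two_eq_zero (R := F))
  have hℓsmul : ∀ (c : F) x, ℓ (c • x) = c * ℓ x := by
    intro c x
    refine CharTwo.sq_injective ?_
    show ℓ (c • x) ^ 2 = (c * ℓ x) ^ 2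
    rw [mul_pow, hℓ, hℓ, map_smul g, QuadraticMap.map_smul, QuadraticMap.map_smul]
    simp only [smul_eq_mul]
    ring
  let L : V →ₗ[F] F :=
    { toFun := ℓ, map_add' := hℓadd, map_smul' := fun c x => by simpa using hℓsmul c x }
  obtain ⟨a, ha⟩ : ∃ a, ∀ x, polar Q a x = ℓ x :=
    ⟨(LinearMap.BilinForm.toDual (polarBilin Q) hnd).symm L, fun x =>
      (LinearMap.BilinForm.apply_toDual_symm_apply (hB := hnd) L x : _)⟩
  have hℓt : ∀ x, ℓ (t.1 x) = ℓ x := by
    intro x
    refine CharTwo.sq_injective ?_
    show ℓ (t.1 x) ^ 2 = ℓ x ^ 2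
    rw [hℓ, hℓ, hgt, map_orth s, map_orth t]
  have hta : t.1 a = a := by
    rw [← sub_eq_zero]
    refine hnd.1 _ fun x => ?_
    obtain ⟨y, rfl⟩ := t.1.surjective x
    rw [polarBilin_apply_apply, polar_sub_left, polar_orth, ha, ha, hℓt, sub_self]
  have hQa : psi (Q a) = 1 := by
    have key : ∀ x, psi (Q (g x)) = psi (Q a) * psi (Q (x + a)) := by
      intro x
      have h1 : Q (g x) = ℓ x ^ 2 + Q x := by
        rw [hℓ, add_assoc, CharTwo.add_self_eq_zero, add_zero]
      rw [h1, QuadraticMap.map_add (⇑Q), polar_comm Q x a, ha, psi_add, psi_sq, psi_add, psi_add]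
      have : psi (Q a) * psi (Q a) = 1 := by
        unfold psi; split_ifs <;> rfl
      linear_combination (-(psi (Q x)) * psi (ℓ x)) * this
    have h2 := Equiv.sum_comp g.toEquiv (fun x => psi (Q x))
    simp only [LinearEquiv.coe_toEquiv, key, ← Finset.mul_sum] at h2
    rw [show ∑ i : V, psi (Q (i + a)) = ∑ i : V, psi (Q i) from
      Equiv.sum_comp (Equiv.addRight a) (fun x => psi (Q x))] at h2
    exact mul_right_cancel₀ (gauss_ne_zero hnd) (h2.trans (one_mul _).symm)
  obtain ⟨μ, hμ⟩ : ∃ μ : F, μ ^ 2 * Q a + μ = 1 := by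
    by_cases h0 : Q a = 0
    · exact ⟨1, by simp [h0]⟩
    · have : Q a ∈ (wp (F := F)).range := by
        by_contra hc
        simp [psi, hc] at hQa
      obtain ⟨y, hy⟩ := this
      change y ^ 2 + y = Q a at hy
      refine ⟨y / Q a, ?_⟩
      field_simp
      linear_combination hy
  let T : V →ₗ[F] V := LinearMap.id + (μ • polarBilin Q a : V →ₗ[F] F).smulRight a
  have hT : ∀ x, T x = x + (μ * ℓ x) • a := fun x => by simp [T, ha]
  have hTinj : Function.Injective T := by
    rw [← LinearMap.ker_eq_bot, LinearMap.ker_eq_bot']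
    intro x hx
    rw [hT, add_eq_zero_iff_eq_neg, ← neg_smul] at hx
    have : ℓ x = 0 := by
      rw [← ha, hx, polar_smul_right, polar_self_zero, smul_zero]
    rw [hx, this, mul_zero, neg_zero, zero_smul]
  let Te := LinearEquiv.ofInjectiveEndo T hTinj
  have hQT : ∀ x, Q (Te x) = Q (g x) := by
    intro x
    show Q (T x) = _
    rw [hT, QuadraticMap.map_add (⇑Q), QuadraticMap.map_smul, polar_smul_right, polar_comm Q x a, ha]
    simp only [smul_eq_mul]
    have h1 : Q (g x) = ℓ x ^ 2 + Q x := by
      rw [hℓ, add_assoc, CharTwo.add_self_eq_zero, add_zero]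
    linear_combination (ℓ x ^ 2) * hμ - h1
  refine ⟨⟨Te.symm.trans g, fun x => ?_⟩, orth_ext fun x => ?_⟩
  · show Q (g (Te.symm x)) = Q x
    rw [← hQT, LinearEquiv.apply_symm_apply]
  · show g (Te.symm (t.1 x)) = s.1 (g (Te.symm x))
    rw [← hgt]
    congr 1
    rw [LinearEquiv.symm_apply_eq]
    show t.1 x = T (t.1 (Te.symm x))
    have hlin : ∀ (y : V) (c : F), t.1 y + c • a = t.1 (y + c • a) := fun y c => by
      rw [map_add, map_smul, hta]
    rw [hT, hℓt, hlin, ← hT]
    exact congrArg t.1 (Te.apply_symm_apply x).symm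

end Cfsg.Agent.OrthCharTwo
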