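import Mathlib
import Cfsg.Agent.Lib.OrthCharTwo
import Cfsg.Agent.Lib.CharTwoInvolCentralizer

/-!
Orthogonal groups in characteristic two: the centralizer of an involution inside its symplectic
centralizer, through the orbit of the quadratic form.
-/

set_option autoImplicit false

open QuadraticMap Module
open Cfsg.Agent.OrthUnitaryQuad Cfsg.Agent.OrthUnitaryRefl Cfsg.Agent.OrthCharTwo

namespace Cfsg.Agent.CharTwoInvolOrbit

variable {F V : Type*} [Field F] [AddCommGroup V] [Module F V] [FiniteDimensional F V]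
  [CharP F 2] {Q : QuadraticForm F V}

theorem add_self (F : Type*) [Field F] [CharP F 2] {V : Type*} [AddCommGroup V] [Module F V] (x : V) :
    x + x = 0 := by
  rw [← two_smul F x, CharTwo.two_eq_zero, zero_smul]

omit [FiniteDimensional F V] in
theorem dif_facts (t : orth Q) (ht : t * t = 1) :
    (∀ x, dif t (dif t x) = 0) ∧ (∀ x y, polar Q (dif t x) y = polar Q x (dif t y)) ∧
      (∀ x, Q (dif t x) = polar Q x (dif t x)) := by
  have h2 : ∀ x, t.1 (t.1 x) = x := fun x => by
    show (t * t).1 x = x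
    rw [ht]; rfl
  refine ⟨fun x => ?_, fun x y => ?_, fun x => ?_⟩
  · rw [dif_apply, dif_apply, map_sub, h2, ← neg_sub (t.1 x) x, ← neg_add', neg_eq_zero]
    exact add_self F _
  · have e1 : polar Q (t.1 x) y = polar Q x (t.1 y) := by
      conv_lhs => rw [← h2 y]
      rw [polar_orth]
    rw [dif_apply, dif_apply, polar_sub_left, polar_sub_right, e1]
  · have e := QuadraticMap.map_add (⇑Q) x (dif t x)
    rw [dif_apply, add_sub_cancel, map_orth t] at e
    rw [dif_apply]
    linear_combination -e - polar Q x (t.1 x - x) * (CharTwo.two_eq_zero (R := F))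

omit [FiniteDimensional F V] in
/-- The type of the involution, read on the form and on the quadratic form. -/
theorem alt_iff (t : orth Q) (ht : t * t = 1) :
    (∀ v, polarBilin Q v (dif t v) = 0) ↔ ∀ v, Q (dif t v) = 0 := by
  simp [(dif_facts t ht).2.2]

variable [Fintype F] [Fintype V]

theorem card_orth_centralizer (hnd : (polarBilin Q).Nondegenerate) (t : orth Q) (ht : t * t = 1) :
    Nat.card {g : V →ₗ[F] V // (∀ x y, polarBilin Q (g x) (g y) = polarBilin Q x y) ∧
        ∀ x, g (dif t x) = dif t (g x)} =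
      Nat.card {h : orth Q // h * t = t * h} *
        Nat.card {a : V // dif t a = 0 ∧ psi (Q a) = 1} := by
  classical
  obtain ⟨hAA, hAs, hAQ⟩ := dif_facts t ht
  choose r hr using CharTwoInvolCentralizer.exists_sqrt (F := F)
  let C := {g : V →ₗ[F] V // (∀ x y, polarBilin Q (g x) (g y) = polarBilin Q x y) ∧
        ∀ x, g (dif t x) = dif t (g x)}
  have hex : ∀ g : C, ∃ a, (dif t a = 0 ∧ psi (Q a) = 1) ∧
      ∀ x, Q (g.1 x) = Q x + polar Q a x ^ 2 := by
    intro g
    have hg : ∀ x y, polar Q (g.1 x) (g.1 y) = polar Q x y := g.2.1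
    set ℓ : V → F := fun x => r (Q (g.1 x) + Q x) with hℓdef
    have hℓ : ∀ x, ℓ x ^ 2 = Q (g.1 x) + Q x := fun x => hr _
    have hℓadd : ∀ x y, ℓ (x + y) = ℓ x + ℓ y := by
      intro x y
      refine CharTwo.sq_injective ?_
      show ℓ (x + y) ^ 2 = (ℓ x + ℓ y) ^ 2
      rw [CharTwo.add_sq, hℓ, hℓ, hℓ, map_add g.1, QuadraticMap.map_add (⇑Q) (g.1 x) (g.1 y),
        QuadraticMap.map_add (⇑Q) x y, hg]
      linear_combination polar Q x y * (CharTwo.two_eq_zero (R := F))
    have hℓsmul : ∀ (c : F) x, ℓ (c • x) = c * ℓ x := by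
      intro c x
      refine CharTwo.sq_injective ?_
      show ℓ (c • x) ^ 2 = (c * ℓ x) ^ 2
      rw [mul_pow, hℓ, hℓ, map_smul g.1, QuadraticMap.map_smul, QuadraticMap.map_smul]
      simp only [smul_eq_mul]
      ring
    let L : V →ₗ[F] F :=
      { toFun := ℓ, map_add' := hℓadd, map_smul' := fun c x => by simpa using hℓsmul c x }
    obtain ⟨a, ha⟩ : ∃ a, ∀ x, polar Q a x = ℓ x :=
      ⟨(LinearMap.BilinForm.toDual (polarBilin Q) hnd).symm L, fun x =>
        (LinearMap.BilinForm.apply_toDual_symm_apply (hB := hnd) L x : _)⟩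
    have hQ : ∀ x, Q (g.1 x) = Q x + polar Q a x ^ 2 := fun x => by
      rw [ha, hℓ]
      linear_combination -(Q x) * (CharTwo.two_eq_zero (R := F))
    refine ⟨a, ⟨?_, ?_⟩, hQ⟩
    · refine hnd.1 _ fun x => ?_
      rw [polarBilin_apply_apply, hAs, ha]
      refine CharTwo.sq_injective ?_
      show ℓ (dif t x) ^ 2 = 0 ^ 2
      rw [hℓ, g.2.2, hAQ, hAQ, zero_pow two_ne_zero, ← g.2.2, hg]
      exact CharTwo.add_self_eq_zero _
    · have key : ∀ x, psi (Q (g.1 x)) = psi (Q a) * psi (Q (x + a)) := by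
        intro x
        rw [hQ, QuadraticMap.map_add (⇑Q), polar_comm Q x a, psi_add, psi_sq, psi_add, psi_add]
        have : psi (Q a) * psi (Q a) = 1 := by
          unfold psi; split_ifs <;> rfl
        linear_combination (-(psi (Q x)) * psi (polar Q a x)) * this
      have hinj : Function.Injective g.1 := by
        rw [← LinearMap.ker_eq_bot, LinearMap.ker_eq_bot']
        intro x hx
        refine hnd.1 _ fun y => ?_
        rw [← g.2.1, hx, map_zero, LinearMap.zero_apply]
      have h2 := Equiv.sum_comp (Equiv.ofBijective g.1 (Finite.injective_iff_bijective.1 hinj))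
        (fun x => psi (Q x))
      simp only [Equiv.ofBijective_apply, key, ← Finset.mul_sum] at h2
      rw [show ∑ i : V, psi (Q (i + a)) = ∑ i : V, psi (Q i) from
        Equiv.sum_comp (Equiv.addRight a) (fun x => psi (Q x))] at h2
      exact mul_right_cancel₀ (gauss_ne_zero hnd) (h2.trans (one_mul _).symm)
  choose φ hφ hφQ using hex
  have hμex : ∀ a : {a : V // dif t a = 0 ∧ psi (Q a) = 1}, ∃ μ : F, μ ^ 2 * Q a.1 + μ = 1 := by
    rintro ⟨a, -, hQa⟩
    by_cases h0 : Q a = 0
    · exact ⟨1, by simp [h0]⟩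
    · have : Q a ∈ (wp (F := F)).range := by
        by_contra hc
        simp [psi, hc] at hQa
      obtain ⟨y, hy⟩ := this
      change y ^ 2 + y = Q a at hy
      refine ⟨y / Q a, ?_⟩
      field_simp
      linear_combination hy
  choose μ hμ using hμex
  let T : {a : V // dif t a = 0 ∧ psi (Q a) = 1} → (V →ₗ[F] V) := fun a =>
    LinearMap.id + (μ a • polarBilin Q a.1 : V →ₗ[F] F).smulRight a.1
  have hT : ∀ a x, T a x = x + (μ a * polar Q a.1 x) • a.1 := fun a x => by simp [T]
  have hTT : ∀ a x, T a (T a x) = x := fun a x => by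
    rw [hT, hT, polar_add_right, polar_smul_right, polar_self_zero, smul_zero, add_zero, add_assoc,
      add_self F, add_zero]
  have hTQ : ∀ a x, Q (T a x) = Q x + polar Q a.1 x ^ 2 := fun a x => by
    rw [hT, QuadraticMap.map_add (⇑Q), QuadraticMap.map_smul, polar_smul_right,
      polar_comm Q x a.1, smul_eq_mul, smul_eq_mul]
    linear_combination (polar Q a.1 x ^ 2) * hμ a
  have hTp : ∀ a x y, polar Q (T a x) (T a y) = polar Q x y := fun a x y => by
    show Q (T a x + T a y) - Q (T a x) - Q (T a y) = Q (x + y) - Q x - Q y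
    rw [← map_add, hTQ, hTQ, hTQ, polar_add_right]
    linear_combination (polar Q a.1 x * polar Q a.1 y) * (CharTwo.two_eq_zero (R := F))
  have hTA : ∀ a x, T a (dif t x) = dif t (T a x) := fun a x => by
    have h0 : polar Q a.1 (dif t x) = 0 := by
      rw [← hAs, a.2.1, polar_zero_left]
    rw [hT, hT, h0, mul_zero, zero_smul, add_zero, map_add, map_smul, a.2.1, smul_zero, add_zero]
  rw [← Nat.card_prod]
  refine Nat.card_congr
    { toFun := fun g => (⟨⟨LinearEquiv.ofBijective (g.1 ∘ₗ T ⟨φ g, hφ g⟩) ?_, fun x => ?_⟩, ?_⟩,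
        ⟨φ g, hφ g⟩)
      invFun := fun p => ⟨p.1.1.1.toLinearMap ∘ₗ T p.2, fun x y => ?_, fun x => ?_⟩
      left_inv := fun g => Subtype.ext (LinearMap.ext fun x => ?_)
      right_inv := fun p => ?_ }
  · refine Finite.injective_iff_bijective.1 ?_
    rw [LinearMap.coe_comp]
    refine Function.Injective.comp ?_ (Function.LeftInverse.injective (hTT _))
    rw [← LinearMap.ker_eq_bot, LinearMap.ker_eq_bot']
    intro x hx
    refine hnd.1 _ fun y => ?_
    rw [← g.2.1, hx, map_zero, LinearMap.zero_apply]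
  · show Q (g.1 (T _ x)) = Q x
    rw [hφQ, hTQ]
    have : polar Q (φ g) (T ⟨φ g, hφ g⟩ x) = polar Q (φ g) x := by
      rw [hT, polar_add_right, polar_smul_right, polar_self_zero, smul_zero, add_zero]
    rw [this, add_assoc, CharTwo.add_self_eq_zero, add_zero]
  · refine orth_ext fun x => ?_
    show g.1 (T _ (t.1 x)) = t.1 (g.1 (T _ x))
    have e : ∀ y, t.1 y = y + dif t y := fun y => by rw [dif_apply, add_sub_cancel]
    rw [e, e, map_add, map_add, hTA, g.2.2]
  · show polar Q (p.1.1.1 (T p.2 x)) (p.1.1.1 (T p.2 y)) = polar Q x y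
    rw [polar_orth, hTp]
  · show p.1.1.1 (T p.2 (dif t x)) = dif t (p.1.1.1 (T p.2 x))
    rw [hTA, dif_apply, dif_apply, map_sub]
    congr 1
    exact LinearEquiv.congr_fun (congrArg Subtype.val p.1.2) _
  · simp [hTT]
  · have ha : φ ⟨p.1.1.1.toLinearMap ∘ₗ T p.2, fun x y => by
        show polar Q (p.1.1.1 (T p.2 x)) (p.1.1.1 (T p.2 y)) = polar Q x y
        rw [polar_orth, hTp], fun x => by
        show p.1.1.1 (T p.2 (dif t x)) = dif t (p.1.1.1 (T p.2 x))
        rw [hTA, dif_apply, dif_apply, map_sub]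
        congr 1
        exact LinearEquiv.congr_fun (congrArg Subtype.val p.1.2) _⟩ = p.2.1 := by
      rw [← sub_eq_zero]
      refine hnd.1 _ fun x => ?_
      rw [polarBilin_apply_apply, polar_sub_left, sub_eq_zero]
      refine CharTwo.sq_injective (add_left_cancel (a := Q x) ?_)
      rw [← hφQ]
      show Q (p.1.1.1 (T p.2 x)) = _
      rw [map_orth, hTQ]
    refine Prod.ext (Subtype.ext (orth_ext fun x => ?_)) (Subtype.ext ha)
    show p.1.1.1 (T p.2 (T ⟨_, _⟩ x)) = p.1.1.1 x
    rw [show (⟨_, hφ _⟩ : {a : V // dif t a = 0 ∧ psi (Q a) = 1}) = p.2 from Subtype.ext ha, hTT]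

omit [FiniteDimensional F V] [Fintype V] in
theorem psi_eq (c : F) : psi c = 1 ∨ psi c = -1 := by
  unfold psi; split_ifs <;> simp

open scoped Classical in
/-- The Gauss sum does not change on passing to the perpendicular of a totally singular subspace. -/
theorem gauss_perp (R : Submodule F V) (hR : ∀ r ∈ R, Q r = 0) :
    ∑ x : V, psi (Q x) =
      ∑ x ∈ Finset.univ.filter (fun x => ∀ r ∈ R, polar Q x r = 0), psi (Q x) := by
  have key : ∀ r : R, ∑ x : V, psi (Q x) = ∑ x : V, psi (Q x) * psi (polar Q x (r : V)) := by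
    intro r
    conv_lhs => rw [← Equiv.sum_comp (Equiv.addRight (r : V))]
    refine Finset.sum_congr rfl fun x _ => ?_
    rw [Equiv.coe_addRight, QuadraticMap.map_add (⇑Q), hR _ r.2, add_zero, psi_add]
  have h1 : (Fintype.card R : ℤ) * ∑ x : V, psi (Q x) =
      ∑ x : V, psi (Q x) * ∑ r : R, psi (polar Q x (r : V)) := by
    calc (Fintype.card R : ℤ) * ∑ x : V, psi (Q x) = ∑ _r : R, ∑ x : V, psi (Q x) := by
          rw [Finset.sum_const, nsmul_eq_mul, Finset.card_univ]
      _ = ∑ r : R, ∑ x : V, psi (Q x) * psi (polar Q x (r : V)) :=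
          Finset.sum_congr rfl fun r _ => key r
      _ = _ := by rw [Finset.sum_comm]; simp only [Finset.mul_sum]
  have h2 : ∀ x : V, ∑ r : R, psi (polar Q x (r : V)) =
      if ∀ r ∈ R, polar Q x r = 0 then (Fintype.card R : ℤ) else 0 := by
    intro x
    split_ifs with h
    · rw [Finset.sum_congr rfl fun r _ => by rw [h _ r.2]]
      simp [psi, (wp (F := F)).range.zero_mem]
    · push Not at h
      obtain ⟨r₁, hr₁, hne⟩ := h
      obtain ⟨c, hc⟩ : ∃ c : F, c ∉ (wp (F := F)).range := by
        by_contra hc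
        push Not at hc
        have := index_wp (F := F)
        rw [AddSubgroup.eq_top_iff' _ |>.2 hc, AddSubgroup.index_top] at this
        omega
      have h3 := Equiv.sum_comp (Equiv.addRight ((c / polar Q x r₁) • (⟨r₁, hr₁⟩ : R)))
        (fun r : R => psi (polar Q x (r : V)))
      simp only [Equiv.coe_addRight, Submodule.coe_add, Submodule.coe_smul, polar_add_right,
        polar_smul_right, smul_eq_mul, div_mul_cancel₀ _ hne, psi_add] at h3
      rw [← Finset.sum_mul] at h3
      have hpc : psi c = -1 := by simp [psi, hc]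
      rw [hpc] at h3
      omega
  simp only [h2, mul_ite, mul_zero] at h1
  rw [← Finset.sum_filter, ← Finset.sum_mul, mul_comm] at h1
  exact mul_right_cancel₀ (by exact_mod_cast Fintype.card_pos.ne') h1

open scoped Classical in
/-- The number of admissible vectors of the kernel. -/
theorem card_admissible (hnd : (polarBilin Q).Nondegenerate) (t : orth Q) (ht : t * t = 1)
    {q m s : ℕ} (hq : Fintype.card F = q) (hm : finrank F V = 2 * m)
    (hs : finrank F (LinearMap.range (dif t)) = s) {R : Submodule F V} (hR : ∀ r ∈ R, Q r = 0)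
    (hRd : finrank F R = m) :
    ((∀ v, Q (dif t v) = 0) →
      2 * Nat.card {a : V // dif t a = 0 ∧ psi (Q a) = 1} = q ^ (2 * m - s) + q ^ m) ∧
    ((∃ v, Q (dif t v) ≠ 0) →
      2 * Nat.card {a : V // dif t a = 0 ∧ psi (Q a) = 1} = q ^ (2 * m - s)) := by
  obtain ⟨hAA, hAs, hAQ⟩ := dif_facts t ht
  set K := Finset.univ.filter (fun x : V => dif t x = 0) with hK
  have hKc : (K.card : ℤ) = (q : ℤ) ^ (2 * m - s) := by
    have h1 : Nat.card (LinearMap.ker (dif t)) = q ^ (2 * m - s) := by
      have := LinearMap.finrank_range_add_finrank_ker (dif t)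
      rw [CharTwoInvolCentralizer.card_pow hq,
        show finrank F (LinearMap.ker (dif t)) = 2 * m - s by omega]
    rw [← Nat.cast_pow, ← h1, Nat.card_eq_fintype_card, hK,
      Fintype.card_of_subtype K (fun x => by simp [hK])]
  have hcount : 2 * (Nat.card {a : V // dif t a = 0 ∧ psi (Q a) = 1} : ℤ) =
      (q : ℤ) ^ (2 * m - s) + ∑ x ∈ K, psi (Q x) := by
    rw [← hKc, Nat.card_eq_fintype_card,
      Fintype.card_of_subtype (K.filter fun x => psi (Q x) = 1) (fun x => by simp [hK]),
      Finset.card_eq_sum_ones K, Finset.card_filter, Nat.cast_sum, Nat.cast_sum, Finset.mul_sum,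
      ← Finset.sum_add_distrib]
    refine Finset.sum_congr rfl fun x _ => ?_
    rcases psi_eq (Q x) with h | h <;> simp [h]
  constructor
  · intro halt
    suffices ∑ x ∈ K, psi (Q x) = (q : ℤ) ^ m by
      rw [this] at hcount; exact_mod_cast hcount
    have hperp : ∀ x, (∀ r ∈ LinearMap.range (dif t), polar Q x r = 0) ↔ dif t x = 0 := by
      intro x
      constructor
      · intro h
        refine hnd.1 _ fun y => ?_
        rw [polarBilin_apply_apply, hAs]
        exact h _ ⟨y, rfl⟩
      · rintro h _ ⟨y, rfl⟩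
        rw [← hAs, h, polar_zero_left]
    have e1 := gauss_perp (Q := Q) (LinearMap.range (dif t)) (by rintro _ ⟨y, rfl⟩; exact halt y)
    rw [Finset.filter_congr (fun x _ => hperp x)] at e1
    have e2 := gauss_perp (Q := Q) R hR
    have hRperp : perp Q R = R := perp_eq_self hnd (fun x hx => hR x hx) (by omega)
    have hmem : ∀ x, (∀ r ∈ R, polar Q x r = 0) ↔ x ∈ R := fun x => by
      conv_rhs => rw [← hRperp, mem_perp]
      simp only [polar_comm Q x]
    rw [Finset.filter_congr (fun x _ => hmem x)] at e2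
    rw [← e1, e2, Finset.sum_congr rfl (fun x hx => by
      rw [hR x (Finset.mem_filter.1 hx).2])]
    simp only [psi, (wp (F := F)).range.zero_mem, if_true, Finset.sum_const, nsmul_eq_mul, mul_one]
    have h1 : Nat.card R = q ^ m := by rw [CharTwoInvolCentralizer.card_pow hq, hRd]
    rw [← Nat.cast_pow, ← h1, Nat.card_eq_fintype_card,
      Fintype.card_of_subtype (Finset.univ.filter fun x => x ∈ R) (fun x => by simp)]
  · rintro ⟨v, hv⟩
    suffices ∑ x ∈ K, psi (Q x) = 0 by
      rw [this, add_zero] at hcount; exact_mod_cast hcount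
    obtain ⟨c, hc⟩ : ∃ c : F, c ∉ (wp (F := F)).range := by
      by_contra hc
      push Not at hc
      have := index_wp (F := F)
      rw [AddSubgroup.eq_top_iff' _ |>.2 hc, AddSubgroup.index_top] at this
      omega
    obtain ⟨d, hd⟩ := CharTwoInvolCentralizer.exists_sqrt (c / Q (dif t v))
    set r₀ := dif t (d • v) with hr₀
    have hQr : Q r₀ = c := by
      rw [hr₀, map_smul, QuadraticMap.map_smul, smul_eq_mul, ← pow_two, hd, div_mul_cancel₀ _ hv]
    have hA0 : dif t r₀ = 0 := hAA _
    have h3 : ∑ x ∈ K, psi (Q (x + r₀)) = ∑ x ∈ K, psi (Q x) := by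
      refine Finset.sum_nbij' (fun x => x + r₀) (fun x => x + r₀) ?_ ?_ ?_ ?_ ?_
      · intro x hx; simp_all [hK]
      · intro x hx; simp_all [hK]
      · intro x _; rw [add_assoc, add_self F, add_zero]
      · intro x _; rw [add_assoc, add_self F, add_zero]
      · intro x _; rfl
    have h4 : ∑ x ∈ K, psi (Q (x + r₀)) = - ∑ x ∈ K, psi (Q x) := by
      rw [← Finset.sum_neg_distrib]
      refine Finset.sum_congr rfl fun x hx => ?_
      have hx0 : dif t x = 0 := (Finset.mem_filter.1 hx).2
      have hp : polar Q x r₀ = 0 := by rw [hr₀, ← hAs, hx0, polar_zero_left]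
      rw [QuadraticMap.map_add (⇑Q), hp, add_zero, psi_add, hQr]
      simp [psi, hc]
    omega

/-- The even part of the centralizer. -/
theorem card_even_centralizer (hnd : (polarBilin Q).Nondegenerate) (hgen : reflGroup Q = ⊤)
    (D : orth Q →* Multiplicative F) (hD : ∀ v hv, D (refl Q v hv) = Multiplicative.ofAdd 1)
    (hval : ∀ g : orth Q, D g = 1 ∨ D g = Multiplicative.ofAdd 1)
    (t : orth Q) (ht : t * t = 1) :
    ((2 * finrank F (LinearMap.range (dif t)) = finrank F V ∧ ∀ x, Q (dif t x) = 0) →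
      Nat.card {h : orth Q // D h = 1 ∧ h * t = t * h} = Nat.card {h : orth Q // h * t = t * h}) ∧
    (¬ (2 * finrank F (LinearMap.range (dif t)) = finrank F V ∧ ∀ x, Q (dif t x) = 0) →
      2 * Nat.card {h : orth Q // D h = 1 ∧ h * t = t * h} =
        Nat.card {h : orth Q // h * t = t * h}) := by
  constructor
  · rintro ⟨hd, halt⟩
    refine Nat.card_congr (Equiv.subtypeEquivRight fun h => ⟨fun hh => hh.2, fun hh => ⟨?_, hh⟩⟩)
    set W := LinearMap.range (dif t)
    have hW : W.map (h.1 : V →ₗ[F] V) ≤ W := by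
      rintro _ ⟨_, ⟨x, rfl⟩, rfl⟩
      refine ⟨h.1 x, ?_⟩
      rw [dif_apply, LinearEquiv.coe_coe, dif_apply, map_sub]
      congr 1
      exact LinearEquiv.congr_fun (congrArg Subtype.val hh.symm) x
    have heq : W.map (h.1 : V →ₗ[F] V) = W :=
      Submodule.eq_of_le_of_finrank_eq hW (LinearEquiv.finrank_map_eq _ _)
    rw [dickson_eq_inf hnd hgen D hD (W := W) (by rintro _ ⟨x, rfl⟩; exact halt x) hd h, heq,
      inf_idem, Nat.cast_add, CharTwo.add_self_eq_zero, ofAdd_zero]
  · intro hne
    obtain ⟨v, hv, hfix⟩ := exists_fixed_nonsingular hnd t ht hne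
    set r := refl Q v hv
    have hrt : r * t = t * r := commute_refl_of_fixed t hv hfix
    have hr2 : r * r = 1 := refl_sq v hv
    have h1 : (1 : Multiplicative F) ≠ Multiplicative.ofAdd 1 := by
      rw [← ofAdd_zero, Ne, Multiplicative.ofAdd.injective.eq_iff]; exact zero_ne_one
    have hDr : D r = Multiplicative.ofAdd 1 := hD v hv
    have h2 : (Multiplicative.ofAdd (1 : F)) * Multiplicative.ofAdd 1 = 1 := by
      rw [← ofAdd_add, CharTwo.add_self_eq_zero, ofAdd_zero]
    let e : {h : orth Q // D h = 1 ∧ h * t = t * h} ≃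
        {h : orth Q // ¬ D h = 1 ∧ h * t = t * h} :=
      { toFun := fun h => ⟨h.1 * r, by rw [map_mul, h.2.1, hDr, one_mul]; exact fun e => h1 e.symm,
          by rw [mul_assoc, hrt, ← mul_assoc, h.2.2, mul_assoc]⟩
        invFun := fun h => ⟨h.1 * r, by rw [map_mul, (hval h.1).resolve_left h.2.1, hDr, h2],
          by rw [mul_assoc, hrt, ← mul_assoc, h.2.2, mul_assoc]⟩
        left_inv := fun h => Subtype.ext (by simp [mul_assoc, hr2])
        right_inv := fun h => Subtype.ext (by simp [mul_assoc, hr2]) }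
    haveI : Finite (orth Q) := by
      have : Finite (V ≃ₗ[F] V) := Finite.of_injective (fun g => (g : V → V)) DFunLike.coe_injective
      exact Subtype.finite
    classical
    let f : {h : orth Q // h * t = t * h} ≃
        {h : orth Q // D h = 1 ∧ h * t = t * h} ⊕ {h : orth Q // ¬ D h = 1 ∧ h * t = t * h} :=
      { toFun := fun h => if hd : D h.1 = 1 then Sum.inl ⟨h.1, hd, h.2⟩ else Sum.inr ⟨h.1, hd, h.2⟩
        invFun := Sum.elim (fun h => ⟨h.1, h.2.2⟩) (fun h => ⟨h.1, h.2.2⟩)
        left_inv := fun h => by by_cases hd : D h.1 = 1 <;> simp [hd]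
        right_inv := fun h => by
          rcases h with h | h
          · simp [h.2.1]
          · simp [h.2.1] }
    rw [Nat.card_congr f, Nat.card_sum, Nat.card_congr e.symm, two_mul]

end Cfsg.Agent.CharTwoInvolOrbit
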