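import Mathlib
import Cfsg.Prelude.Def_Classical
import Cfsg.Agent.Lib.OrthCharTwo
import Cfsg.Agent.Lib.OrthUnitaryForms
import Cfsg.Agent.Lib.OrthUnitaryPrelude

/-!
The characteristic two facts of `OrthCharTwo` for the isometry groups of the Prelude.
-/

set_option autoImplicit false

open QuadraticMap Module Matrix
open Cfsg.Agent.OrthUnitaryQuad Cfsg.Agent.OrthUnitaryRefl Cfsg.Agent.OrthUnitaryForms
open Cfsg.Agent.OrthUnitaryPrelude Cfsg.Agent.OrthCharTwo

namespace Cfsg.Agent.OrthCharTwoForms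

variable {F : Type*} [Field F] [Fintype F] [CharP F 2] {ι : Type} [Fintype ι] [DecidableEq ι]
  {f : (ι → F) → F}

/-- `f` is a quadratic form of non-degenerate polar form, away from the exceptional dimension. -/
def Good (f : (ι → F) → F) : Prop :=
  ∃ Q : QuadraticForm F (ι → F), (∀ v, f v = Q v) ∧ (polarBilin Q).Nondegenerate ∧
    Fintype.card ι ≠ 4

theorem exists_bridge (hf : Good f) :
    ∃ (Q : QuadraticForm F (ι → F)) (e : isometryGroup F f ≃* orth Q)
      (D : orth Q →* Multiplicative F),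
      (∀ v, f v = Q v) ∧ (polarBilin Q).Nondegenerate ∧ reflGroup Q = ⊤ ∧
      (∀ v hv, D (refl Q v hv) = Multiplicative.ofAdd 1) ∧
      (∀ g x, (e g).1 x = mat g *ᵥ x) ∧
      (∀ g, Matrix.rank (mat g - 1) = finrank F (LinearMap.range (dif (e g)))) ∧
      (∀ g, g ∈ Omega F f ↔ D (e g) = 1) ∧
      (∀ g, D g = 1 ∨ D g = Multiplicative.ofAdd 1) := by
  obtain ⟨Q, hQ, hnd, h4⟩ := hf
  have h2 : (2 : F) = 0 := CharTwo.two_eq_zero
  have hexc : Fintype.card F ≠ 2 ∨ finrank F (ι → F) ≠ 4 := Or.inr (by rwa [finrank_pi])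
  have hgen : reflGroup Q = ⊤ := reflGroup_eq_top
    (OrthUnitaryOmega.isReg_of_nondegenerate hnd) (hexc.imp_left exists_ne_zero_one)
  obtain ⟨D, hD⟩ := OrthUnitaryOmega.exists_dickson h2 hnd
  obtain ⟨hcomm, hval, -⟩ := OrthUnitaryOmega.even_main h2 hnd hexc D hD
  refine ⟨Q, isometryGroupEquiv Q f hQ, D, hQ, hnd, hgen, hD, isometryGroupEquiv_apply Q f hQ,
    fun g => ?_, fun g => ?_, hval⟩
  · rw [Matrix.rank]
    have hmv : (mat g - 1).mulVecLin = dif (isometryGroupEquiv Q f hQ g) :=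
      LinearMap.ext fun x => by
        rw [Matrix.mulVecLin_apply, Matrix.sub_mulVec, Matrix.one_mulVec, dif_apply,
          isometryGroupEquiv_apply]
    rw [hmv]
  · rw [← hcomm]
    exact OrthUnitaryOmega.mem_commutator_iff (isometryGroupEquiv Q f hQ) g

theorem ofAdd_cast_eq_one_iff (n : ℕ) :
    Multiplicative.ofAdd ((n : ℕ) : F) = 1 ↔ Even n := by
  rw [← ofAdd_zero, Multiplicative.ofAdd.injective.eq_iff, CharP.cast_eq_zero_iff F 2,
    even_iff_two_dvd]

theorem mem_Omega_iff_even (hf : Good f) (g : isometryGroup F f) :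
    g ∈ Omega F f ↔ Even (mat g - 1).rank := by
  obtain ⟨Q, e, D, hQ, hnd, hgen, hD, happ, hrank, hΩ, -⟩ := exists_bridge hf
  rw [hΩ, hrank, dickson_eq_rank hnd hgen D hD, ofAdd_cast_eq_one_iff]

theorem isConj_iff_symp (hf : Good f) (t s : isometryGroup F f) :
    IsConj t s ↔ ∃ g ∈ preserving (Units.coeHom (Matrix ι ι F)) (fun u v => f (u + v) - f u - f v),
      g * (t : GL ι F) * g⁻¹ = (s : GL ι F) := by
  rw [isConj_iff]
  constructor
  · rintro ⟨c, rfl⟩
    refine ⟨c, fun u v => ?_, rfl⟩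
    have h := c.2
    show f (_ + _) - f _ - f _ = _
    rw [← Matrix.mulVec_add]
    have hh : ∀ w, f (Units.coeHom (Matrix ι ι F) (c : GL ι F) *ᵥ w) = f w := fun w => h w w
    rw [hh, hh, hh]
  · rintro ⟨g, hg, hgt⟩
    classical
    obtain ⟨Q, e, D, hQ, hnd, -, -, happ, -, -, -⟩ := exists_bridge hf
    haveI : Fintype (ι → F) := inferInstance
    let L : (ι → F) ≃ₗ[F] (ι → F) :=
      LinearMap.GeneralLinearGroup.generalLinearEquiv F _ (Matrix.GeneralLinearGroup.toLin g)
    have hL : ∀ x, L x = (g : Matrix ι ι F) *ᵥ x :=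
      fun x => Matrix.GeneralLinearGroup.toLin_apply g x
    have hgt' : (g : Matrix ι ι F) * mat t = mat s * (g : Matrix ι ι F) := by
      rw [← Units.val_mul, ← Units.val_mul]
      exact congrArg Units.val (mul_inv_eq_iff_eq_mul.1 hgt)
    obtain ⟨h, hh⟩ := exists_orth_conj hnd (e t) (e s) L
      (fun x y => by
        have := hg x y
        simp only [hQ] at this
        rw [hL, hL]
        exact this)
      (fun x => by rw [happ, happ, hL, hL, Matrix.mulVec_mulVec, Matrix.mulVec_mulVec, hgt'])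
    refine ⟨e.symm h, e.injective ?_⟩
    rw [map_mul, map_mul, map_inv, e.apply_symm_apply, mul_inv_eq_iff_eq_mul, hh]

theorem omega_conj (hf : Good f) (t s : isometryGroup F f) (ht : orderOf t = 2)
    (hconj : IsConj t s)
    (hne : ¬ (2 * (mat t - 1).rank = Fintype.card ι ∧ ∀ v, f (v + mat t *ᵥ v) = 0)) :
    ∃ g ∈ Omega F f, g * t * g⁻¹ = s := by
  obtain ⟨Q, e, D, hQ, hnd, hgen, hD, happ, hrank, hΩ, hval⟩ := exists_bridge hf
  obtain ⟨c, hc⟩ := isConj_iff.1 hconj
  rcases hval (e c) with h | h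
  · exact ⟨c, (hΩ c).2 h, hc⟩
  have ht2 : e t * e t = 1 := by
    rw [← map_mul, ← pow_two, ← ht, pow_orderOf_eq_one, map_one]
  obtain ⟨v, hv, hfix⟩ := exists_fixed_nonsingular hnd (e t) ht2 (by
    rintro ⟨h1, h2⟩
    refine hne ⟨by rw [hrank, h1, finrank_pi], fun v => ?_⟩
    have := h2 v
    rw [dif_apply, happ] at this
    rw [hQ, ← this]
    congr 1
    have hv2 : v + v = 0 := by rw [← two_smul F v, CharTwo.two_eq_zero, zero_smul]
    rw [eq_sub_iff_add_eq, add_comm v, add_assoc, hv2, add_zero])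
  refine ⟨c * e.symm (refl Q v hv), (hΩ _).2 ?_, ?_⟩
  · rw [map_mul, e.apply_symm_apply, map_mul, h, hD, ← ofAdd_add, CharTwo.add_self_eq_zero,
      ofAdd_zero]
  · have hcm : e.symm (refl Q v hv) * t = t * e.symm (refl Q v hv) := by
      refine e.injective ?_
      rw [map_mul, map_mul, e.apply_symm_apply, commute_refl_of_fixed _ hv hfix]
    rw [_root_.mul_inv_rev, ← mul_assoc, mul_assoc c, hcm, ← hc]
    group

/-- The splitting criterion for involutions fixing a maximal singular subspace pointwise. -/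
theorem omega_conj_iff (hf : Good f) (t s : isometryGroup F f)
    (hrk : 2 * (mat t - 1).rank = Fintype.card ι) (hsing : ∀ v, f (v + mat t *ᵥ v) = 0)
    (hr : Even (mat t - 1).rank) (hconj : IsConj t s) :
    (∃ g ∈ Omega F f, g * t * g⁻¹ = s) ↔
      Even (finrank F ↥(LinearMap.range (Matrix.toLin' (mat t - 1)) ⊓
        LinearMap.range (Matrix.toLin' (mat s - 1)))) := by
  obtain ⟨Q, e, D, hQ, hnd, hgen, hD, happ, hrank, hΩ, hval⟩ := exists_bridge hf
  have hlin : ∀ g, Matrix.toLin' (mat g - 1) = dif (e g) := fun g => LinearMap.ext fun x => by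
    rw [Matrix.toLin'_apply, Matrix.sub_mulVec, Matrix.one_mulVec, dif_apply, happ]
  rw [hlin, hlin]
  set W := LinearMap.range (dif (e t))
  have hW : ∀ x ∈ W, Q x = 0 := by
    rintro _ ⟨v, rfl⟩
    rw [dif_apply, happ, ← hQ, ← hsing v]
    congr 1
    have hv2 : v + v = 0 := by rw [← two_smul F v, CharTwo.two_eq_zero, zero_smul]
    rw [sub_eq_iff_eq_add, add_comm v, add_assoc, hv2, add_zero]
  have hd : 2 * finrank F W = finrank F (ι → F) := by rw [finrank_pi, ← hrank]; exact hrk
  have hev : Even (finrank F W) := by rw [← hrank]; exact hr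
  have key : ∀ g, g * t * g⁻¹ = s →
      (g ∈ Omega F f ↔ Even (finrank F ↥(W ⊓ LinearMap.range (dif (e s))))) := by
    intro g hg
    have hWs : W.map ((e g).1 : (ι → F) →ₗ[F] (ι → F)) = LinearMap.range (dif (e s)) := by
      have hgs : e g * e t = e s * e g := by
        rw [← map_mul, ← map_mul, ← hg, inv_mul_cancel_right]
      have hcomm : ∀ x, (e g).1 (dif (e t) x) = dif (e s) ((e g).1 x) := by
        intro x
        rw [dif_apply, dif_apply, map_sub]
        congr 1
        show (e g * e t).1 x = (e s * e g).1 x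
        rw [hgs]
      ext y
      constructor
      · rintro ⟨_, ⟨x, rfl⟩, rfl⟩
        exact ⟨(e g).1 x, (hcomm x).symm⟩
      · rintro ⟨x, rfl⟩
        refine ⟨dif (e t) ((e g).1.symm x), ⟨_, rfl⟩, ?_⟩
        rw [LinearEquiv.coe_coe, hcomm, LinearEquiv.apply_symm_apply]
    rw [hΩ, dickson_eq_inf hnd hgen D hD hW hd, hWs, ofAdd_cast_eq_one_iff, Nat.even_add]
    exact iff_true_left hev
  constructor
  · rintro ⟨g, hg, hgt⟩
    exact (key g hgt).1 hg
  · intro h
    obtain ⟨c, hc⟩ := isConj_iff.1 hconj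
    exact ⟨c, (key c hc).2 h, hc⟩

omit [Fintype F] in
theorem good_plus {m : ℕ} (hm : 4 ≤ m) : Good (quadFormPlus m F) := by
  refine ⟨qfPlus F m, fun v => (qfPlus_apply F m v).symm, ?_, by
    simp only [Fintype.card_sum, Fintype.card_fin]; omega⟩
  have hpol : ∀ x y, polarBilin (qfPlus F m) x y =
      ∑ i : Fin m, (x (.inl i) * y (.inr i) + y (.inl i) * x (.inr i)) := by
    intro x y
    simp only [polarBilin_apply_apply, polar, qfPlus_apply, quadFormPlus, Pi.add_apply,
      ← Finset.sum_sub_distrib]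
    exact Finset.sum_congr rfl fun i _ => by ring
  have key : ∀ x, (∀ y, polarBilin (qfPlus F m) x y = 0) → x = 0 := by
    intro x hx
    funext i
    rcases i with i | i
    · have := hx (Pi.single (.inr i) 1)
      simpa [hpol, Pi.single_apply, Finset.sum_ite_eq'] using this
    · have := hx (Pi.single (.inl i) 1)
      simpa [hpol, Pi.single_apply, Finset.sum_ite_eq'] using this
  exact ⟨key, fun y hy => key y fun x => by
    have := hy x
    rw [polarBilin_apply_apply, polar_comm] at this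
    rwa [polarBilin_apply_apply]⟩

omit [Fintype F] in
theorem good_minus [Finite F] {m : ℕ} (hm : 4 ≤ m) {a b : F}
    (hab : ∀ z₁ z₂ : F, z₁ ^ 2 + a * z₁ * z₂ + b * z₂ ^ 2 = 0 → z₁ = 0 ∧ z₂ = 0) :
    Good (quadFormMinus (m - 1) F a b) := by
  haveI := Fintype.ofFinite F
  have ha : a ≠ 0 := a_ne_zero_of_two_eq_zero hab CharTwo.two_eq_zero
  let e := eqMinus (F := F) (m - 1)
  let Q : QuadraticForm F ((Fin (m - 1) ⊕ Fin (m - 1)) ⊕ Fin 2 → F) :=
    (withBase (m - 1) (qfBin a b)).comp e.symm.toLinearMap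
  have hQ : ∀ v, quadFormMinus (m - 1) F a b v = Q v := fun v => by
    show _ = withBase (m - 1) (qfBin a b) (e.symm v)
    rw [← eqMinus_isometry, LinearEquiv.apply_symm_apply]
  refine ⟨Q, hQ, ?_, by simp only [Fintype.card_sum, Fintype.card_fin]; omega⟩
  have hpol : ∀ x y, polarBilin Q x y =
      (∑ i : Fin (m - 1), (x (.inl (.inl i)) * y (.inl (.inr i))
        + y (.inl (.inl i)) * x (.inl (.inr i))))
        + a * (x (.inr 0) * y (.inr 1) + y (.inr 0) * x (.inr 1)) := by
    intro x y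
    simp only [polarBilin_apply_apply, polar, ← hQ, quadFormMinus, Pi.add_apply]
    rw [Finset.sum_add_distrib]
    simp only [add_mul, mul_add, Finset.sum_add_distrib]
    linear_combination (x (.inr 0) * y (.inr 0) + b * x (.inr 1) * y (.inr 1)) *
      (CharTwo.two_eq_zero (R := F))
  have key : ∀ x, (∀ y, polarBilin Q x y = 0) → x = 0 := by
    intro x hx
    funext i
    rcases i with (i | i) | i
    · have := hx (Pi.single (.inl (.inr i)) 1)
      simpa [hpol, Pi.single_apply, Finset.sum_ite_eq'] using this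
    · have := hx (Pi.single (.inl (.inl i)) 1)
      simpa [hpol, Pi.single_apply, Finset.sum_ite_eq'] using this
    · have h0 := hx (Pi.single (.inr 0) 1)
      have h1 := hx (Pi.single (.inr 1) 1)
      simp [hpol, Pi.single_apply, ha] at h0 h1
      fin_cases i
      · exact h1
      · exact h0
  exact ⟨key, fun y hy => key y fun x => by
    have := hy x
    rw [polarBilin_apply_apply, polar_comm] at this
    rwa [polarBilin_apply_apply]⟩

end Cfsg.Agent.OrthCharTwoForms
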