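import Mathlib
import Cfsg.Agent.Lib.OrthCharTwoForms
import Cfsg.Agent.Lib.CharTwoInvolOrbit

/-!
Prelude orthogonal groups in characteristic two: the Dickson map without dimension hypotheses, the
standard forms, centralizer orders in the hyperbolic case.
-/

set_option autoImplicit false

open QuadraticMap Module Matrix
open Cfsg.Agent.OrthUnitaryQuad Cfsg.Agent.OrthUnitaryRefl Cfsg.Agent.OrthUnitaryForms
open Cfsg.Agent.OrthUnitaryPrelude Cfsg.Agent.OrthCharTwo Cfsg.Agent.CharTwoInvolCentralizer

namespace Cfsg.Agent.CharTwoInvolBridge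

/-- The commutator subgroup is the kernel of the Dickson map as soon as reflections generate. -/
theorem even_main_of_gen {F V : Type*} [Field F] [Fintype F] [AddCommGroup V] [Module F V]
    [FiniteDimensional F V] [CharP F 2] {Q : QuadraticForm F V}
    (hnd : (polarBilin Q).Nondegenerate) (hgen : reflGroup Q = ⊤)
    (D : orth Q →* Multiplicative F) (hD : ∀ v hv, D (refl Q v hv) = Multiplicative.ofAdd 1) :
    (∀ g : orth Q, g ∈ commutator (orth Q) ↔ D g = 1) ∧
      (∀ g : orth Q, D g = 1 ∨ D g = Multiplicative.ofAdd 1) := by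
  have hsq : ∀ x : F, IsSquare x := fun x => FiniteField.isSquare_of_char_two (ringChar.eq F 2) x
  obtain ⟨A, hA2, hmem, hA⟩ : ∃ A : Abelianization (orth Q), A * A = 1 ∧
      (∀ v hv, Abelianization.of (refl Q v hv) = A) ∧
      (A = 1 ∨ ∃ a, A = Abelianization.of a ∧ D a = Multiplicative.ofAdd 1) := by
    by_cases h : ∃ v, Q v ≠ 0
    · obtain ⟨u, hu⟩ := h
      exact ⟨_, by rw [← map_mul, refl_sq u hu, map_one],
        fun v hv => OrthUnitaryOmega.of_refl_eq hnd hv hu (hsq _), Or.inr ⟨_, rfl, hD u hu⟩⟩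
    · exact ⟨1, one_mul 1, fun v hv => absurd ⟨v, hv⟩ h, Or.inl rfl⟩
  have hcases : ∀ g : orth Q, Abelianization.of g = 1 ∨ Abelianization.of g = A := fun g => by
    have := OrthUnitaryOmega.eq_one_or_of_mem_closure_pair hA2 hA2
      (OrthUnitaryOmega.closure_of_refl hgen {A, A} (fun v hv => Or.inl (hmem v hv)) g)
    rw [hA2] at this
    tauto
  have hχ : ∀ g, Abelianization.lift D (Abelianization.of g) = D g :=
    fun g => Abelianization.lift_apply_of _ g
  have h10 : Multiplicative.ofAdd (1 : F) ≠ 1 := by simp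
  refine ⟨fun g => ⟨fun hg => Abelianization.commutator_subset_ker D hg, fun hg => ?_⟩,
    fun g => ?_⟩
  · rw [← Abelianization.ker_of, MonoidHom.mem_ker]
    rcases hcases g with h | h
    · exact h
    · rcases hA with hA | ⟨a, hA, hDa⟩
      · rw [h, hA]
      · rw [← hχ, h, hA, hχ, hDa] at hg
        exact absurd hg h10
  · rw [← hχ g]
    rcases hcases g with h | h
    · exact Or.inl (by rw [h, map_one])
    · rcases hA with hA | ⟨a, hA, hDa⟩
      · exact Or.inl (by rw [h, hA, map_one])
      · exact Or.inr (by rw [h, hA, hχ, hDa])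

variable {F : Type*} [Field F] [Fintype F] [CharP F 2] {ι : Type} [Fintype ι] [DecidableEq ι]

/-- All the data of the Dickson map for a Prelude isometry group. -/
theorem exists_bridge {f : (ι → F) → F} (Q : QuadraticForm F (ι → F)) (hQ : ∀ v, f v = Q v)
    (hnd : (polarBilin Q).Nondegenerate) (hgen : reflGroup Q = ⊤) :
    ∃ (e : isometryGroup F f ≃* orth Q) (D : orth Q →* Multiplicative F),
      (∀ v hv, D (refl Q v hv) = Multiplicative.ofAdd 1) ∧
      (∀ g x, (e g).1 x = mat g *ᵥ x) ∧
      (∀ g, Matrix.rank (mat g - 1) = finrank F (LinearMap.range (dif (e g)))) ∧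
      (∀ g, g ∈ Omega F f ↔ D (e g) = 1) ∧
      (∀ g, D g = 1 ∨ D g = Multiplicative.ofAdd 1) := by
  obtain ⟨D, hD⟩ := OrthUnitaryOmega.exists_dickson (CharTwo.two_eq_zero) hnd
  obtain ⟨hcomm, hval⟩ := even_main_of_gen hnd hgen D hD
  refine ⟨isometryGroupEquiv Q f hQ, D, hD, isometryGroupEquiv_apply Q f hQ,
    fun g => ?_, fun g => ?_, hval⟩
  · rw [Matrix.rank]
    have hmv : (mat g - 1).mulVecLin = dif (isometryGroupEquiv Q f hQ g) :=
      LinearMap.ext fun x => by
        rw [Matrix.mulVecLin_apply, Matrix.sub_mulVec, Matrix.one_mulVec, dif_apply,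
          isometryGroupEquiv_apply]
    rw [hmv]
  · rw [← hcomm]
    exact OrthUnitaryOmega.mem_commutator_iff (isometryGroupEquiv Q f hQ) g

omit [Fintype F] in
theorem polar_plus (m : ℕ) (x y : Fin m ⊕ Fin m → F) :
    polar (⇑(qfPlus F m)) x y =
      ∑ i : Fin m, (x (.inl i) * y (.inr i) + y (.inl i) * x (.inr i)) := by
  simp only [polar, qfPlus_apply, quadFormPlus, Pi.add_apply, ← Finset.sum_sub_distrib]
  exact Finset.sum_congr rfl fun i _ => by ring

omit [Fintype F] in
theorem nondeg_plus (m : ℕ) : (polarBilin (qfPlus F m)).Nondegenerate := by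
  have key : ∀ x, (∀ y, polarBilin (qfPlus F m) x y = 0) → x = 0 := by
    intro x hx
    funext i
    rcases i with i | i
    · have := hx (Pi.single (.inr i) 1)
      simpa [polar_plus, Pi.single_apply, Finset.sum_ite_eq'] using this
    · have := hx (Pi.single (.inl i) 1)
      simpa [polar_plus, Pi.single_apply, Finset.sum_ite_eq'] using this
  exact ⟨key, fun y hy => key y fun x => by
    have := hy x
    rw [polarBilin_apply_apply, polar_comm] at this
    rwa [polarBilin_apply_apply]⟩

theorem gen_plus {m : ℕ} (h : Fintype.card F ≠ 2 ∨ m ≠ 2) : reflGroup (qfPlus F m) = ⊤ := by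
  refine reflGroup_eq_top (OrthUnitaryOmega.isReg_of_nondegenerate (nondeg_plus m)) ?_
  rcases h with h | h
  · exact Or.inl (exists_ne_zero_one h)
  · refine Or.inr ?_
    rw [finrank_pi, Fintype.card_sum, Fintype.card_fin]
    omega

/-- The standard maximal totally singular subspace. -/
def leftSpace (F : Type*) [Field F] (m : ℕ) : Submodule F (Fin m ⊕ Fin m → F) :=
  LinearMap.ker (LinearMap.funLeft F F (Sum.inr : Fin m → Fin m ⊕ Fin m))

omit [Fintype F] [CharP F 2] in
theorem leftSpace_singular {m : ℕ} : ∀ r ∈ leftSpace F m, qfPlus F m r = 0 := by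
  intro r hr
  rw [leftSpace, LinearMap.mem_ker] at hr
  rw [qfPlus_apply]
  exact Finset.sum_eq_zero fun i _ => by
    have : r (.inr i) = 0 := congrFun hr i
    rw [this, mul_zero]

omit [Fintype F] [CharP F 2] in
theorem finrank_leftSpace {m : ℕ} : finrank F (leftSpace F m) = m := by
  have h := LinearMap.finrank_range_add_finrank_ker
    (LinearMap.funLeft F F (Sum.inr : Fin m → Fin m ⊕ Fin m))
  rw [LinearMap.range_eq_top.2 (LinearMap.funLeft_surjective_of_injective F F _ Sum.inr_injective),
    finrank_top, finrank_pi, finrank_pi, Fintype.card_sum, Fintype.card_fin] at h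
  change m + finrank F (leftSpace F m) = _ at h
  omega

/-- The order of the centralizer of an involution in the plus-type group `Ω`, in product form. -/
theorem card_omega_plus {q m s : ℕ} (hF : Fintype.card F = q) (h : Fintype.card F ≠ 2 ∨ m ≠ 2)
    (x : isometryGroup F (quadFormPlus m F)) (hx : x ^ 2 = 1) (hs : (mat x - 1).rank = s) :
    s ≤ m ∧ ∃ (n c : ℕ),
      n = Nat.card {g : ↥(Omega F (quadFormPlus m F)) //
          (g : isometryGroup F (quadFormPlus m F)) * x = x * (g : isometryGroup F (quadFormPlus m F))} ∧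
      ((∀ v, quadFormPlus m F ((mat x - 1) *ᵥ v) = 0) → ∃ k, s = 2 * k ∧ c = spOrder q k ∧
          n * (if s = m then q ^ m else q ^ (2 * m - s) + q ^ m) =
            q ^ (2 * m * s - (3 * s ^ 2 - s) / 2) * c * spOrder q (m - s)) ∧
      ((∃ v, quadFormPlus m F ((mat x - 1) *ᵥ v) ≠ 0) → ∃ k, ((s = 2 * k + 1 ∧ c = spOrder q k) ∨
          (s = 2 * k + 2 ∧ c = q ^ (2 * k + 1) * spOrder q k)) ∧
          n * q ^ (2 * m - s) =
            q ^ (2 * m * s - (3 * s ^ 2 - s) / 2) * c * spOrder q (m - s)) := by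
  classical
  set Q := qfPlus F m
  have hQ : ∀ v, quadFormPlus m F v = Q v := fun v => (qfPlus_apply F m v).symm
  have hnd := nondeg_plus (F := F) m
  obtain ⟨e, D, hD, happ, hrank, hΩ, hval⟩ := exists_bridge Q hQ hnd (gen_plus h)
  set t := e x
  have ht : t * t = 1 := by rw [← map_mul, ← pow_two, hx, map_one]
  obtain ⟨hAA, hAs, hAQ⟩ := CharTwoInvolOrbit.dif_facts t ht
  have hs' : finrank F (LinearMap.range (dif t)) = s := by rw [← hrank, hs]
  have hdim : finrank F (Fin m ⊕ Fin m → F) = 2 * m := by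
    rw [finrank_pi, Fintype.card_sum, Fintype.card_fin, two_mul]
  obtain ⟨hle, c, hC, hc1, hc2⟩ := card_centralizer hF (polarBilin Q)
    (fun v => polar_self_zero Q v) (fun v hv => hnd.1 v hv) (dif t) hAA
    (fun a b => hAs a b) hdim hs'
  rw [CharTwoInvolOrbit.card_orth_centralizer hnd t ht] at hC
  obtain ⟨hN1, hN2⟩ := CharTwoInvolOrbit.card_admissible hnd t ht hF hdim hs'
    (R := leftSpace F m) leftSpace_singular finrank_leftSpace
  obtain ⟨hE1, hE2⟩ := CharTwoInvolOrbit.card_even_centralizer hnd (gen_plus h) D hD hval t ht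
  refine ⟨hle, _, c, rfl, ?_, ?_⟩
  all_goals
    have hn : Nat.card {g : ↥(Omega F (quadFormPlus m F)) //
        (g : isometryGroup F (quadFormPlus m F)) * x = x * (g : isometryGroup F (quadFormPlus m F))} =
        Nat.card {h : orth Q // D h = 1 ∧ h * t = t * h} := Nat.card_congr
      { toFun := fun g => ⟨e g.1.1, (hΩ _).1 g.1.2, by rw [← map_mul, ← map_mul, g.2]⟩
        invFun := fun g => ⟨⟨e.symm g.1, (hΩ _).2 (by rw [e.apply_symm_apply]; exact g.2.1)⟩,
          e.injective (by rw [map_mul, map_mul, e.apply_symm_apply]; exact g.2.2)⟩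
        left_inv := fun g => Subtype.ext (Subtype.ext (e.symm_apply_apply _))
        right_inv := fun g => Subtype.ext (e.apply_symm_apply _) }
    rw [hn]
    have hv : ∀ v, quadFormPlus m F ((mat x - 1) *ᵥ v) = Q (dif t v) := fun v => by
      rw [hQ, dif_apply, happ, Matrix.sub_mulVec, Matrix.one_mulVec]
  · intro halt
    have halt' : ∀ v, Q (dif t v) = 0 := fun v => by rw [← hv]; exact halt v
    obtain ⟨k, hk, hck⟩ := hc1 fun v => by rw [polarBilin_apply_apply, ← hAQ, halt']
    refine ⟨k, hk, hck, ?_⟩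
    rw [← hC]
    have hN := hN1 halt'
    split_ifs with hsm
    · rw [hE1 ⟨by rw [hs', hdim, hsm], halt'⟩]
      congr 1
      have : 2 * m - s = m := by omega
      rw [this] at hN
      omega
    · rw [← hE2 (fun hh => hsm (by have := hh.1; rw [hs', hdim] at this; omega)), ← hN]
      ring
  · intro hna
    obtain ⟨v, hvv⟩ := hna
    rw [hv] at hvv
    obtain ⟨k, hk⟩ := hc2 ⟨v, by rw [polarBilin_apply_apply, ← hAQ]; exact hvv⟩
    refine ⟨k, hk, ?_⟩
    rw [← hC, ← hE2 (fun hh => hvv (hh.2 v)), ← hN2 ⟨v, hvv⟩]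
    ring

end Cfsg.Agent.CharTwoInvolBridge
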