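import Mathlib
import Cfsg.Agent.Lib.CharTwoInvolBridge

/-!
Counting conjugacy classes of involutions of orthogonal groups in characteristic two.
-/

set_option autoImplicit false

open QuadraticMap Module
open Cfsg.Agent.OrthUnitaryQuad Cfsg.Agent.OrthUnitaryRefl Cfsg.Agent.OrthCharTwo

namespace Cfsg.Agent.CharTwoInvolCount

/-- Conjugacy classes counted by a complete invariant. -/
theorem card_classes {G α : Type*} [Group G] (P : G → Prop) (f : G → α)
    (hconj : ∀ a b, P a → P b → (IsConj a b ↔ f a = f b)) (S : Finset α)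
    (hS : ∀ x, x ∈ S ↔ ∃ g, P g ∧ f g = x) :
    Nat.card {C : ConjClasses G // ∃ g, ConjClasses.mk g = C ∧ P g} = S.card := by
  classical
  rw [← Nat.card_eq_finsetCard]
  refine Nat.card_congr (Equiv.ofBijective
    (fun C => ⟨f C.2.choose, (hS _).2 ⟨_, C.2.choose_spec.2, rfl⟩⟩) ⟨?_, ?_⟩)
  · intro C C' h
    have h' := (hconj _ _ C.2.choose_spec.2 C'.2.choose_spec.2).2 (congrArg Subtype.val h)
    refine Subtype.ext ?_
    rw [← C.2.choose_spec.1, ← C'.2.choose_spec.1]
    exact ConjClasses.mk_eq_mk_iff_isConj.2 h'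
  · rintro ⟨x, hx⟩
    obtain ⟨g, hg, rfl⟩ := (hS x).1 hx
    refine ⟨⟨ConjClasses.mk g, g, rfl, hg⟩, Subtype.ext ?_⟩
    have h : ∃ a, ConjClasses.mk a = ConjClasses.mk g ∧ P a := ⟨g, rfl, hg⟩
    exact (hconj _ _ h.choose_spec.2 hg).1 (ConjClasses.mk_eq_mk_iff_isConj.1 h.choose_spec.1)

universe u
variable {F V : Type u} [Field F] [AddCommGroup V] [Module F V] [FiniteDimensional F V]
  [CharP F 2] {Q : QuadraticForm F V}

omit [CharP F 2] [FiniteDimensional F V] in
theorem polar_sum_right {ι : Type*} (S : Finset ι) (a : ι → F) (v : ι → V) (x : V) :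
    polar Q x (∑ k ∈ S, a k • v k) = ∑ k ∈ S, a k * polar Q x (v k) := by
  rw [← polarBilin_apply_apply, map_sum]
  simp [polar_smul_right]

omit [CharP F 2] [FiniteDimensional F V] in
theorem map_orth_sum {ι : Type*} (S : Finset ι) (a : ι → F) (v : ι → V)
    (h : ∀ i j, polar Q (v i) (v j) = 0) :
    Q (∑ k ∈ S, a k • v k) = ∑ k ∈ S, a k ^ 2 * Q (v k) := by
  classical
  induction S using Finset.induction_on with
  | empty => simp
  | insert k S hk ih =>
    have h0 : polar Q (v k) (∑ j ∈ S, a j • v j) = 0 := by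
      rw [polar_sum_right]
      exact Finset.sum_eq_zero fun j _ => by rw [h, mul_zero]
    rw [Finset.sum_insert hk, Finset.sum_insert hk, QuadraticMap.map_add (⇑Q), ih,
      QuadraticMap.map_smul, polar_smul_left, h0, smul_zero, add_zero, smul_eq_mul]
    ring

/-- Involutions from families of pairwise orthogonal vectors. -/
theorem realize {ι : Type*} [Fintype ι] (v w : ι → V) (π : ι → ι) (c : ι → F)
    (hπ : ∀ k, π (π k) = k) (hvv : ∀ i j, polar Q (v i) (v j) = 0) [DecidableEq ι]
    (hvw : ∀ i j, polar Q (v i) (w j) = if i = j then 1 else 0)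
    (hc : (∀ k, π k = k ∧ c k * Q (v k) = 1) ∨ (∀ k, π k ≠ k ∧ Q (v k) = 0 ∧ c k = 1)) :
    ∃ t : orth Q, t * t = 1 ∧ finrank F (LinearMap.range (dif t)) = Fintype.card ι ∧
      ((∀ k, π k ≠ k) → ∀ x, Q (dif t x) = 0) ∧
      (∀ k, π k = k → ∃ x, Q (dif t x) ≠ 0) := by
  classical
  let A : V →ₗ[F] V := ∑ k, (c k • polarBilin Q (v k) : V →ₗ[F] F).smulRight (v (π k))
  have hA : ∀ x, A x = ∑ k, (c k * polar Q (v k) x) • v (π k) := fun x => by
    simp [A, LinearMap.sum_apply]
  have hAv : ∀ x i, polar Q (A x) (v i) = 0 := fun x i => by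
    rw [polar_comm, hA, polar_sum_right]
    exact Finset.sum_eq_zero fun k _ => by rw [hvv, mul_zero]
  have hAA : ∀ x, A (A x) = 0 := fun x => by
    rw [hA]
    exact Finset.sum_eq_zero fun k _ => by rw [polar_comm, hAv, mul_zero, zero_smul]
  have hQA : ∀ x, Q (A x) = ∑ k, (c k * polar Q (v k) x) ^ 2 * Q (v (π k)) := fun x => by
    rw [hA]; exact map_orth_sum _ _ (fun k => v (π k)) fun i j => hvv _ _
  have hiso : ∀ x, Q (x + A x) = Q x := by
    intro x
    have hp : polar Q x (A x) = ∑ k, c k * polar Q (v k) x * polar Q (v (π k)) x := by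
      rw [hA, polar_sum_right]
      simp only [polar_comm Q x]
    rw [QuadraticMap.map_add (⇑Q), hQA, hp, add_assoc, ← Finset.sum_add_distrib, add_eq_left]
    rcases hc with hc | hc
    · refine Finset.sum_eq_zero fun k _ => ?_
      rw [(hc k).1]
      linear_combination (c k * polar Q (v k) x ^ 2) * (hc k).2 +
        (c k * polar Q (v k) x ^ 2) * (CharTwo.two_eq_zero (R := F))
    · refine Finset.sum_involution (fun k _ => π k) (fun k _ => ?_) (fun k _ _ => (hc k).1)
        (fun k _ => Finset.mem_univ _) fun k _ => hπ k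
      rw [(hc (π k)).2.1, hπ, (hc k).2.2, (hc (π k)).2.2, (hc k).2.1]
      linear_combination (polar Q (v k) x * polar Q (v (π k)) x) * (CharTwo.two_eq_zero (R := F))
  let L : V →ₗ[F] V := LinearMap.id + A
  have hL : ∀ x, L x = x + A x := fun x => rfl
  have hLL : ∀ x, L (L x) = x := fun x => by
    rw [hL, hL, map_add, hAA, add_zero, add_assoc, CharTwoInvolOrbit.add_self F, add_zero]
  let t : orth Q := ⟨LinearEquiv.ofInvolutive L hLL, hiso⟩
  have hdif : dif t = A := LinearMap.ext fun x => by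
    show L x - x = A x
    rw [hL, add_sub_cancel_left]
  have hAw : ∀ j, A (w j) = c j • v (π j) := fun j => by
    rw [hA, Finset.sum_eq_single j (fun k _ hk => by rw [hvw, if_neg hk, mul_zero, zero_smul])
      (by simp), hvw, if_pos rfl, mul_one]
  have hc0 : ∀ k, c k ≠ 0 := fun k => by
    rcases hc with hc | hc
    · exact left_ne_zero_of_mul (by rw [(hc k).2]; exact one_ne_zero)
    · rw [(hc k).2.2]; exact one_ne_zero
  refine ⟨t, orth_ext fun x => hLL x, ?_, fun hfree x => ?_, fun k hk => ⟨w k, ?_⟩⟩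
  · have hind : LinearIndependent F v := by
      rw [Fintype.linearIndependent_iff]
      intro a ha j
      have h : polar Q (w j) (∑ k, a k • v k) = polar Q (w j) 0 := by rw [ha]
      rw [polar_sum_right, polar_zero_right, Finset.sum_eq_single j (fun k _ hk => by
        rw [polar_comm, hvw, if_neg hk, mul_zero]) (by simp), polar_comm, hvw, if_pos rfl,
        mul_one] at h
      exact h
    rw [hdif, ← finrank_span_eq_card hind]
    refine congrArg (fun W : Submodule F V => finrank F W) (le_antisymm ?_ (Submodule.span_le.2 ?_))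
    · rintro _ ⟨x, rfl⟩
      rw [hA]
      exact Submodule.sum_mem _ fun k _ => Submodule.smul_mem _ _ (Submodule.subset_span ⟨_, rfl⟩)
    · rintro _ ⟨k, rfl⟩
      refine ⟨(c (π k))⁻¹ • w (π k), ?_⟩
      rw [map_smul, hAw, hπ, smul_smul, inv_mul_cancel₀ (hc0 _), one_smul]
  · rw [hdif, hQA]
    rcases hc with hc | hc
    · exact Finset.sum_eq_zero fun k _ => absurd (hc k).1 (hfree k)
    · exact Finset.sum_eq_zero fun k _ => by rw [(hc _).2.1, mul_zero]
  · rw [hdif, hAw, QuadraticMap.map_smul, hk, smul_eq_mul]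
    rcases hc with hc | hc
    · exact mul_ne_zero (mul_ne_zero (hc0 k) (hc0 k))
        (right_ne_zero_of_mul (by rw [(hc k).2]; exact one_ne_zero))
    · exact absurd hk (hc k).1

variable [Fintype F] [Fintype V]

open scoped Classical in
/-- The invariant of an involution. -/
noncomputable def inv (t : orth Q) : ℕ × Bool :=
  (finrank F (LinearMap.range (dif t)), decide (∀ x, Q (dif t x) = 0))

theorem isConj_iff_inv (hnd : (polarBilin Q).Nondegenerate) (t s : orth Q) (ht : t * t = 1)
    (hs : s * s = 1) : IsConj t s ↔ inv t = inv s := by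
  classical
  obtain ⟨t1, t2, t3⟩ := CharTwoInvolOrbit.dif_facts t ht
  obtain ⟨s1, s2, s3⟩ := CharTwoInvolOrbit.dif_facts s hs
  constructor
  · intro h
    obtain ⟨g, hg⟩ := isConj_iff.1 h
    have hgt : g * t = s * g := by rw [← hg, inv_mul_cancel_right]
    have hd : ∀ x, g.1 (dif t x) = dif s (g.1 x) := fun x => by
      rw [dif_apply, dif_apply, map_sub]
      congr 1
      show (g * t).1 x = (s * g).1 x
      rw [hgt]
    have hr : (LinearMap.range (dif t)).map (g.1 : V →ₗ[F] V) = LinearMap.range (dif s) := by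
      ext y
      constructor
      · rintro ⟨_, ⟨x, rfl⟩, rfl⟩
        exact ⟨g.1 x, (hd x).symm⟩
      · rintro ⟨x, rfl⟩
        refine ⟨_, ⟨g.1.symm x, rfl⟩, ?_⟩
        rw [LinearEquiv.coe_coe, hd, LinearEquiv.apply_symm_apply]
    refine Prod.ext ?_ ?_
    · show finrank F (LinearMap.range (dif t)) = finrank F (LinearMap.range (dif s))
      rw [← hr, LinearEquiv.finrank_map_eq]
    · refine decide_eq_decide.2 ⟨fun hh x => ?_, fun hh x => ?_⟩
      · rw [← g.1.apply_symm_apply x, ← hd, map_orth g]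
        exact hh _
      · rw [← map_orth g, hd]
        exact hh _
  · intro h
    obtain ⟨g, hg1, hg2⟩ := SympInvolClasses.exists_conj
      CharTwoInvolCentralizer.exists_sqrt (polarBilin Q) hnd (fun v => polar_self_zero Q v)
      (dif t) (dif s) t1 (fun x y => t2 x y) s1 (fun x y => s2 x y) (congrArg Prod.fst h)
      (by
        simp only [polarBilin_apply_apply, ← t3, ← s3]
        exact decide_eq_decide.1 (congrArg Prod.snd h))
    obtain ⟨c, hc⟩ := exists_orth_conj hnd t s g (fun x y => hg1 x y) (fun x => by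
      have := hg2 x
      rw [dif_apply, dif_apply, map_sub] at this
      exact sub_left_injective this)
    exact isConj_iff.2 ⟨c, by rw [hc, mul_inv_cancel_right]⟩

omit [Fintype F] [Fintype V] in
theorem orderOf_two_iff (t : orth Q) :
    orderOf t = 2 ↔ t * t = 1 ∧ 1 ≤ finrank F (LinearMap.range (dif t)) := by
  have h0 : finrank F (LinearMap.range (dif t)) = 0 ↔ t = 1 := by
    rw [Submodule.finrank_eq_zero, LinearMap.range_eq_bot]
    constructor
    · intro h
      exact orth_ext fun x => sub_eq_zero.1 (LinearMap.congr_fun h x)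
    · rintro rfl
      exact LinearMap.ext fun x => sub_self x
  rw [orderOf_eq_prime_iff, pow_two, Nat.one_le_iff_ne_zero]
  exact and_congr_right fun _ => not_congr h0.symm

theorem inv_bounds (hnd : (polarBilin Q).Nondegenerate) {q m : ℕ} (hq : Fintype.card F = q)
    (hdim : finrank F V = 2 * m) (t : orth Q) (ht : t * t = 1) :
    (inv t).1 ≤ m ∧ ((inv t).2 = true → Even (inv t).1) := by
  classical
  obtain ⟨t1, t2, t3⟩ := CharTwoInvolOrbit.dif_facts t ht
  obtain ⟨hle, c, -, h1, -⟩ := CharTwoInvolCentralizer.card_centralizer (V := V) hq (polarBilin Q)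
    (fun v => polar_self_zero Q v) (fun v hv => hnd.1 v hv) (dif t) t1 (fun a b => t2 a b) hdim rfl
  refine ⟨hle, fun h => ?_⟩
  obtain ⟨k, hk, -⟩ := h1 fun v => by
    rw [polarBilin_apply_apply, ← t3]; exact of_decide_eq_true h v
  exact ⟨k, show finrank F (LinearMap.range (dif t)) = k + k by omega⟩

/-- The realised invariants, for Witt index `r`. -/
def invSet (m r : ℕ) : Finset (ℕ × Bool) :=
  (Finset.Icc 1 m).image (fun s => (s, false)) ∪
    (Finset.Icc 1 (r / 2)).image (fun j => (2 * j, true))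

theorem card_invSet (m r : ℕ) : (invSet m r).card = m + r / 2 := by
  rw [invSet, Finset.card_union_of_disjoint, Finset.card_image_of_injective,
    Finset.card_image_of_injective, Nat.card_Icc, Nat.card_Icc]
  · omega
  · intro a b h; simpa using h
  · intro a b h; simpa using h
  · rw [Finset.disjoint_left]
    intro x hx hx'
    simp only [Finset.mem_image] at hx hx'
    obtain ⟨s, -, rfl⟩ := hx
    obtain ⟨j, -, hj⟩ := hx'
    simp at hj

/-- The realised invariants are as listed. -/
def Realised (Q : QuadraticForm F V) (m r : ℕ) : Prop :=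
  ∀ i : ℕ × Bool, i ∈ invSet m r ↔ ∃ t : orth Q, orderOf t = 2 ∧ inv t = i

theorem realised_of (hnd : (polarBilin Q).Nondegenerate) {q m r : ℕ} (hq : Fintype.card F = q)
    (hdim : finrank F V = 2 * m) (hr : ∀ t : orth Q, t * t = 1 → (inv t).2 = true → (inv t).1 ≤ r)
    (v w : Fin m → V) (hvv : ∀ i j, polar Q (v i) (v j) = 0)
    (hvw : ∀ i j, polar Q (v i) (w j) = if i = j then 1 else 0) (hQv : ∀ i, Q (v i) = 1)
    (e f : Fin r → V) (hee : ∀ i j, polar Q (e i) (e j) = 0)
    (hef : ∀ i j, polar Q (e i) (f j) = if i = j then 1 else 0) (hQe : ∀ i, Q (e i) = 0) :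
    Realised Q m r := by
  classical
  intro i
  constructor
  · intro hi
    simp only [invSet, Finset.mem_union, Finset.mem_image, Finset.mem_Icc] at hi
    rcases hi with ⟨s, ⟨h1, h2⟩, rfl⟩ | ⟨j, ⟨h1, h2⟩, rfl⟩
    · obtain ⟨t, ht, hrk, -, hna⟩ := realize (fun k : Fin s => v (Fin.castLE h2 k))
        (fun k => w (Fin.castLE h2 k)) id (fun _ => 1) (fun _ => rfl) (fun a b => hvv _ _)
        (fun a b => by rw [hvw]; simp [Fin.castLE_inj])
        (Or.inl fun k => ⟨rfl, by rw [hQv, mul_one]⟩)
      rw [Fintype.card_fin] at hrk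
      refine ⟨t, (orderOf_two_iff t).2 ⟨ht, by omega⟩, Prod.ext hrk ?_⟩
      obtain ⟨x, hx⟩ := hna ⟨0, by omega⟩ rfl
      exact decide_eq_false fun h => hx (h x)
    · let emb : Fin j ⊕ Fin j → Fin r :=
        Sum.elim (fun a : Fin j => ⟨a.1, by omega⟩) (fun a : Fin j => ⟨j + a.1, by omega⟩)
      have hemb : Function.Injective emb := by
        rintro (a | a) (b | b) h <;> simp [emb, Fin.ext_iff] at h ⊢ <;> omega
      obtain ⟨t, ht, hrk, halt, -⟩ := realize (fun k => e (emb k)) (fun k => f (emb k)) Sum.swap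
        (fun _ => 1) Sum.swap_swap (fun a b => hee _ _)
        (fun a b => by rw [hef]; simp [hemb.eq_iff])
        (Or.inr fun k => ⟨by cases k <;> simp, hQe _, rfl⟩)
      rw [Fintype.card_sum, Fintype.card_fin, ← two_mul] at hrk
      refine ⟨t, (orderOf_two_iff t).2 ⟨ht, by omega⟩, Prod.ext hrk ?_⟩
      exact decide_eq_true (halt fun k => by cases k <;> simp)
  · rintro ⟨t, ht, rfl⟩
    obtain ⟨ht, h1⟩ := (orderOf_two_iff t).1 ht
    obtain ⟨hle, hev⟩ := inv_bounds hnd hq hdim t ht
    have h1' : 1 ≤ (inv t).1 := h1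
    simp only [invSet, Finset.mem_union, Finset.mem_image, Finset.mem_Icc]
    cases hb : (inv t).2
    · exact Or.inl ⟨(inv t).1, ⟨h1', hle⟩, Prod.ext rfl hb.symm⟩
    · obtain ⟨j, hj⟩ := hev hb
      have := hr t ht hb
      exact Or.inr ⟨j, ⟨by omega, by omega⟩, Prod.ext (by show 2 * j = (inv t).1; omega) hb.symm⟩

theorem card_classes_orth {G : Type*} [Group G] (e : G ≃* orth Q)
    (hnd : (polarBilin Q).Nondegenerate) {m r : ℕ} (hS : Realised Q m r) :
    Nat.card {C : ConjClasses G // ∃ g, ConjClasses.mk g = C ∧ orderOf g = 2} = m + r / 2 := by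
  rw [← card_invSet]
  refine card_classes (fun g => orderOf g = 2) (fun g => inv (e g)) (fun a b ha hb => ?_) _
    fun i => ?_
  · rw [← isConj_iff_inv hnd (e a) (e b) (by rw [← map_mul, ← pow_two, ← ha, pow_orderOf_eq_one, map_one])
      (by rw [← map_mul, ← pow_two, ← hb, pow_orderOf_eq_one, map_one])]
    exact ⟨fun h => e.toMonoidHom.map_isConj h, fun h => by
      simpa using e.symm.toMonoidHom.map_isConj h⟩
  · rw [hS i]
    constructor
    · rintro ⟨t, ht, hi⟩
      exact ⟨e.symm t, by rwa [MulEquiv.orderOf_eq], by rwa [e.apply_symm_apply]⟩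
    · rintro ⟨g, hg, hi⟩
      exact ⟨e g, by rwa [MulEquiv.orderOf_eq], hi⟩

/-- Classes of involutions of the kernel of the Dickson map. -/
theorem card_classes_even {G : Type*} [Group G] (H : Subgroup G) (e : G ≃* orth Q)
    (hnd : (polarBilin Q).Nondegenerate) (hgen : reflGroup Q = ⊤)
    (D : orth Q →* Multiplicative F) (hD : ∀ v hv, D (refl Q v hv) = Multiplicative.ofAdd 1)
    (hval : ∀ g : orth Q, D g = 1 ∨ D g = Multiplicative.ofAdd 1)
    (hH : ∀ g, g ∈ H ↔ D (e g) = 1) (hns : ∃ v, Q v ≠ 0) {m r : ℕ} (hdim : finrank F V = 2 * m)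
    (hm : 1 ≤ m) (hrm : r ≤ m) (hS : Realised Q m r) :
    Nat.card {C : ConjClasses H // ∃ g, ConjClasses.mk g = C ∧ orderOf g = 2} =
      m / 2 + r / 2 + if r = m ∧ Even m then 1 else 0 := by
  classical
  have hDe : ∀ t : orth Q, D t = 1 ↔ Even (inv t).1 := fun t => by
    rw [dickson_eq_rank hnd hgen D hD t, OrthCharTwoForms.ofAdd_cast_eq_one_iff]; rfl
  have h10 : (1 : Multiplicative F) ≠ Multiplicative.ofAdd 1 := by
    rw [← ofAdd_zero, Ne, Multiplicative.ofAdd.injective.eq_iff]; exact zero_ne_one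
  have h11 : Multiplicative.ofAdd (1 : F) * Multiplicative.ofAdd 1 = 1 := by
    rw [← ofAdd_add, CharTwo.add_self_eq_zero, ofAdd_zero]
  -- centralizers
  have hsplit : ∀ t : orth Q, inv t = (m, true) → ∀ h : orth Q, h * t = t * h → D h = 1 := by
    intro t hi h hh
    have halt : ∀ x, Q (dif t x) = 0 := of_decide_eq_true (congrArg Prod.snd hi)
    have hd : finrank F (LinearMap.range (dif t)) = m := congrArg Prod.fst hi
    set W := LinearMap.range (dif t)
    have hW : W.map (h.1 : V →ₗ[F] V) ≤ W := by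
      rintro _ ⟨_, ⟨x, rfl⟩, rfl⟩
      refine ⟨h.1 x, ?_⟩
      rw [dif_apply, LinearEquiv.coe_coe, dif_apply, map_sub]
      congr 1
      exact LinearEquiv.congr_fun (congrArg Subtype.val hh.symm) x
    have heq : W.map (h.1 : V →ₗ[F] V) = W :=
      Submodule.eq_of_le_of_finrank_eq hW (LinearEquiv.finrank_map_eq _ _)
    rw [dickson_eq_inf hnd hgen D hD (W := W) (by rintro _ ⟨x, rfl⟩; exact halt x)
      (by rw [hd, hdim]) h, heq, inf_idem, Nat.cast_add, CharTwo.add_self_eq_zero, ofAdd_zero]
  have hodd : ∀ t : orth Q, t * t = 1 → inv t ≠ (m, true) →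
      ∃ h : orth Q, h * t = t * h ∧ D h = Multiplicative.ofAdd 1 := by
    intro t ht hi
    obtain ⟨v, hv, hfix⟩ := exists_fixed_nonsingular hnd t ht (by
      rintro ⟨h1, h2⟩
      refine hi (Prod.ext ?_ (decide_eq_true h2))
      show finrank F (LinearMap.range (dif t)) = m
      omega)
    exact ⟨_, commute_refl_of_fixed t hv hfix, hD v hv⟩
  -- representatives and the extra bit
  let rep : ℕ × Bool → orth Q := fun i =>
    if h : ∃ t : orth Q, t * t = 1 ∧ inv t = i then h.choose else 1
  have hrep : ∀ t : orth Q, t * t = 1 → ∃ c : orth Q, c * rep (inv t) * c⁻¹ = t := by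
    intro t ht
    have h : ∃ u : orth Q, u * u = 1 ∧ inv u = inv t := ⟨t, ht, rfl⟩
    show ∃ c : orth Q, c * rep (inv t) * c⁻¹ = t
    simp only [rep, dif_pos h]
    exact isConj_iff.1 ((isConj_iff_inv hnd _ t h.choose_spec.1 ht).2 h.choose_spec.2)
  let bit : orth Q → Bool := fun t =>
    if inv t = (m, true) then decide (∀ c : orth Q, c * rep (inv t) * c⁻¹ = t → D c = 1) else true
  have hrep2 : ∀ t : orth Q, t * t = 1 → rep (inv t) * rep (inv t) = 1 ∧
      inv (rep (inv t)) = inv t := by
    intro t ht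
    have h : ∃ u : orth Q, u * u = 1 ∧ inv u = inv t := ⟨t, ht, rfl⟩
    simp only [rep, dif_pos h]
    exact h.choose_spec
  have hbit : ∀ t : orth Q, t * t = 1 → inv t = (m, true) →
      ∀ c : orth Q, c * rep (inv t) * c⁻¹ = t → bit t = decide (D c = 1) := by
    intro t ht hi c hc
    simp only [bit, if_pos hi]
    refine decide_eq_decide.2 ⟨fun h => h c hc, fun h c' hc' => ?_⟩
    have hcomm : (c'⁻¹ * c) * rep (inv t) = rep (inv t) * (c'⁻¹ * c) := by
      have e1 : c * rep (inv t) = t * c := by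
        calc c * rep (inv t) = c * rep (inv t) * c⁻¹ * c := by group
          _ = t * c := by rw [hc]
      have e2 : c'⁻¹ * t = rep (inv t) * c'⁻¹ := by
        calc c'⁻¹ * t = c'⁻¹ * (c' * rep (inv t) * c'⁻¹) := by rw [hc']
          _ = rep (inv t) * c'⁻¹ := by group
      rw [mul_assoc, e1, ← mul_assoc, e2, mul_assoc]
    have := hsplit _ (((hrep2 t ht).2).trans hi) _ hcomm
    rw [map_mul, map_inv, h, mul_one, inv_eq_one] at this
    exact this
  let S0 := (invSet m r).filter fun i => Even i.1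
  let T : Finset ((ℕ × Bool) × Bool) :=
    S0.image (fun i => (i, true)) ∪ if r = m ∧ Even m then {((m, true), false)} else ∅
  have hS0 : S0.card = m / 2 + r / 2 := by
    have hEq : S0 = (Finset.Icc 1 (m / 2)).image (fun j => (2 * j, false)) ∪
        (Finset.Icc 1 (r / 2)).image (fun j => (2 * j, true)) := by
      ext ⟨s, b⟩
      simp only [S0, invSet, Finset.mem_filter, Finset.mem_union, Finset.mem_image, Finset.mem_Icc,
        Prod.mk.injEq]
      constructor
      · rintro ⟨⟨s', hs', rfl, rfl⟩ | ⟨j, hj, rfl, rfl⟩, hev⟩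
        · obtain ⟨j, rfl⟩ := hev
          exact Or.inl ⟨j, ⟨by omega, by omega⟩, by omega, rfl⟩
        · exact Or.inr ⟨j, hj, rfl, rfl⟩
      · rintro (⟨j, hj, rfl, rfl⟩ | ⟨j, hj, rfl, rfl⟩)
        · exact ⟨Or.inl ⟨2 * j, ⟨by omega, by omega⟩, rfl, rfl⟩, even_two_mul j⟩
        · exact ⟨Or.inr ⟨j, hj, rfl, rfl⟩, even_two_mul j⟩
    rw [hEq, Finset.card_union_of_disjoint, Finset.card_image_of_injective,
      Finset.card_image_of_injective, Nat.card_Icc, Nat.card_Icc]
    · omega
    · intro a b h; simpa using h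
    · intro a b h; simpa using h
    · rw [Finset.disjoint_left]
      intro x hx hx'
      simp only [Finset.mem_image] at hx hx'
      obtain ⟨s, -, rfl⟩ := hx
      obtain ⟨j, -, hj⟩ := hx'
      simp at hj
  have hT : T.card = m / 2 + r / 2 + if r = m ∧ Even m then 1 else 0 := by
    rw [Finset.card_union_of_disjoint, Finset.card_image_of_injective, hS0]
    · split_ifs <;> simp
    · intro a b h; simpa using h
    · rw [Finset.disjoint_left]
      intro x hx hx'
      obtain ⟨i, -, rfl⟩ := Finset.mem_image.1 hx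
      split_ifs at hx' <;> simp at hx'
  rw [← hT]
  have hsq : ∀ a : H, orderOf a = 2 → e a.1 * e a.1 = 1 := fun a ha => by
    rw [← map_mul, ← pow_two, ← ha, ← Subgroup.coe_pow, pow_orderOf_eq_one, Subgroup.coe_one, map_one]
  have hord : ∀ a : H, orderOf a = orderOf (e a.1) := fun a => by
    rw [MulEquiv.orderOf_eq, Subgroup.orderOf_coe]
  refine card_classes (fun g : H => orderOf g = 2) (fun g => (inv (e g.1), bit (e g.1)))
    (fun a b ha hb => ?_) T fun x => ?_
  · constructor
    · intro hab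
      obtain ⟨k, hk⟩ := isConj_iff.1 hab
      have hk' : e k.1 * e a.1 * (e k.1)⁻¹ = e b.1 := by
        rw [← hk]; simp
      have hi : inv (e a.1) = inv (e b.1) :=
        (isConj_iff_inv hnd _ _ (hsq a ha) (hsq b hb)).1 (isConj_iff.2 ⟨_, hk'⟩)
      refine Prod.ext hi ?_
      show bit (e a.1) = bit (e b.1)
      by_cases hsp : inv (e a.1) = (m, true)
      · obtain ⟨c, hc⟩ := hrep _ (hsq a ha)
        rw [hbit _ (hsq a ha) hsp c hc, hbit _ (hsq b hb) (hi ▸ hsp) (e k.1 * c) (by
          rw [← hi, ← hk']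
          conv_rhs => rw [← hc]
          group), map_mul, (hH k.1).1 k.2, one_mul]
      · simp only [bit, if_neg hsp, if_neg (hi ▸ hsp)]
    · intro h
      obtain ⟨hi, hb'⟩ := Prod.mk.injEq .. |>.mp h
      obtain ⟨c, hc⟩ := isConj_iff.1 ((isConj_iff_inv hnd _ _ (hsq a ha) (hsq b hb)).2 hi)
      suffices ∃ c' : orth Q, D c' = 1 ∧ c' * e a.1 * c'⁻¹ = e b.1 by
        obtain ⟨c', h1, h2⟩ := this
        refine isConj_iff.2 ⟨⟨e.symm c', (hH _).2 (by rw [e.apply_symm_apply]; exact h1)⟩, ?_⟩
        refine Subtype.ext (e.injective ?_)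
        simpa using h2
      rcases hval c with h1 | h1
      · exact ⟨c, h1, hc⟩
      by_cases hsp : inv (e a.1) = (m, true)
      · obtain ⟨d, hd⟩ := hrep _ (hsq a ha)
        rw [hbit _ (hsq a ha) hsp d hd, hbit _ (hsq b hb) (hi ▸ hsp) (c * d) (by
          rw [← hi, ← hc]
          conv_rhs => rw [← hd]
          group)] at hb'
        rw [decide_eq_decide, map_mul, h1] at hb'
        rcases hval d with h2 | h2 <;> rw [h2] at hb'
        · exact absurd (hb'.1 rfl) (by rw [mul_one]; exact h10.symm)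
        · exact absurd (hb'.2 h11) h10.symm
      · obtain ⟨h, hh, hDh⟩ := hodd _ (hsq a ha) hsp
        refine ⟨c * h, by rw [map_mul, h1, hDh, h11], ?_⟩
        rw [← hc]
        calc c * h * e a.1 * (c * h)⁻¹ = c * (h * e a.1) * (c * h)⁻¹ := by group
          _ = c * (e a.1 * h) * (c * h)⁻¹ := by rw [hh]
          _ = c * e a.1 * c⁻¹ := by group
  · have mkH : ∀ t : orth Q, orderOf t = 2 → Even (inv t).1 →
        ∃ g : H, orderOf g = 2 ∧ e g.1 = t := fun t ht hev =>
      ⟨⟨e.symm t, (hH _).2 (by rw [e.apply_symm_apply]; exact (hDe t).2 hev)⟩,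
        by rw [← Subgroup.orderOf_coe, MulEquiv.orderOf_eq]; exact ht, e.apply_symm_apply t⟩
    constructor
    · intro hx
      rcases Finset.mem_union.1 hx with hx | hx
      · obtain ⟨i, hi, rfl⟩ := Finset.mem_image.1 hx
        obtain ⟨hiS, hev⟩ := Finset.mem_filter.1 hi
        obtain ⟨t, ht, hti⟩ := (hS i).1 hiS
        subst hti
        obtain ⟨ht2, -⟩ := (orderOf_two_iff t).1 ht
        by_cases hsp : inv t = (m, true)
        · obtain ⟨hr2, hri⟩ := hrep2 t ht2
          have hr3 : orderOf (rep (inv t)) = 2 := (orderOf_two_iff _).2 ⟨hr2, by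
            show 1 ≤ (inv (rep (inv t))).1
            rw [hri, hsp]; exact hm⟩
          obtain ⟨g, hg, hge⟩ := mkH _ hr3 (by rw [hri]; exact hev)
          refine ⟨g, hg, ?_⟩
          rw [hge, hri]
          refine Prod.ext rfl ?_
          rw [hbit _ hr2 (hri.trans hsp) 1 (by rw [hri]; simp), map_one]
          simp
        · obtain ⟨g, hg, hge⟩ := mkH t ht hev
          refine ⟨g, hg, ?_⟩
          simp only [hge, bit, if_neg hsp]
      · split_ifs at hx with hcond
        · rw [Finset.mem_singleton] at hx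
          subst hx
          obtain ⟨rfl, hev⟩ := hcond
          obtain ⟨j, hj⟩ := hev
          obtain ⟨t, ht, hti⟩ := (hS (r, true)).1 (by
            simp only [invSet, Finset.mem_union, Finset.mem_image, Finset.mem_Icc]
            exact Or.inr ⟨j, ⟨by omega, by omega⟩, by rw [hj, two_mul]⟩)
          obtain ⟨ht2, -⟩ := (orderOf_two_iff t).1 ht
          obtain ⟨hr2, hri⟩ := hrep2 t ht2
          obtain ⟨v, hv⟩ := hns
          set u := refl Q v hv * rep (inv t) * (refl Q v hv)⁻¹ with hu
          have hu2 : u * u = 1 := by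
            rw [hu]
            calc refl Q v hv * rep (inv t) * (refl Q v hv)⁻¹ * (refl Q v hv * rep (inv t) * (refl Q v hv)⁻¹)
                = refl Q v hv * (rep (inv t) * rep (inv t)) * (refl Q v hv)⁻¹ := by group
              _ = 1 := by rw [hr2]; group
          have hui : inv u = inv t := by
            rw [← hri]
            exact ((isConj_iff_inv hnd _ u hr2 hu2).1 (isConj_iff.2 ⟨_, rfl⟩)).symm
          obtain ⟨g, hg, hge⟩ := mkH u ((orderOf_two_iff u).2 ⟨hu2, by
            show 1 ≤ (inv u).1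
            rw [hui, hti]; exact hm⟩) (by rw [hui, hti]; exact ⟨j, hj⟩)
          refine ⟨g, hg, ?_⟩
          rw [hge]
          refine Prod.ext (hui.trans hti) ?_
          rw [hbit u hu2 (hui.trans hti) (refl Q v hv) (by rw [hui]), hD]
          exact decide_eq_false h10.symm
        · simp at hx
    · rintro ⟨g, hg, rfl⟩
      have hev : Even (inv (e g.1)).1 := (hDe _).1 ((hH _).1 g.2)
      have hiS : inv (e g.1) ∈ invSet m r := (hS _).2 ⟨_, (hord g).symm.trans hg, rfl⟩
      rw [Finset.mem_union]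
      cases hb : bit (e g.1)
      · right
        by_cases hsp : inv (e g.1) = (m, true)
        · rw [hsp] at hiS hev
          simp only [invSet, Finset.mem_union, Finset.mem_image, Finset.mem_Icc, Prod.mk.injEq,
            Bool.false_eq_true, and_false, exists_false, false_or, and_true] at hiS
          obtain ⟨j, hj, hjm⟩ := hiS
          rw [if_pos ⟨by omega, hev⟩, Finset.mem_singleton, hsp]
        · simp only [bit, if_neg hsp] at hb
          exact absurd hb (by decide)
      · left
        exact Finset.mem_image.2 ⟨_, Finset.mem_filter.2 ⟨hiS, hev⟩, rfl⟩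

end Cfsg.Agent.CharTwoInvolCount
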