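import Mathlib
import Cfsg.Agent.Lib.CharTwoInvolCount

/-!
The standard hyperbolic and elliptic forms in characteristic two: realised invariants of involutions.
-/

set_option autoImplicit false

open QuadraticMap Module
open Cfsg.Agent.OrthUnitaryQuad Cfsg.Agent.OrthUnitaryRefl Cfsg.Agent.OrthUnitaryForms
open Cfsg.Agent.OrthCharTwo Cfsg.Agent.CharTwoInvolCount

namespace Cfsg.Agent.CharTwoInvolForms

universe u

variable {F : Type u} [Field F] [Fintype F] [CharP F 2]

theorem realised_plus (m : ℕ) : Realised (qfPlus F m) m m := by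
  classical
  let e : Fin m → (Fin m ⊕ Fin m → F) := fun i => Pi.single (.inl i) 1
  let f : Fin m → (Fin m ⊕ Fin m → F) := fun i => Pi.single (.inr i) 1
  have hnd := CharTwoInvolBridge.nondeg_plus (F := F) m
  have hdim : finrank F (Fin m ⊕ Fin m → F) = 2 * m := by
    rw [finrank_pi, Fintype.card_sum, Fintype.card_fin, two_mul]
  refine realised_of hnd rfl hdim (fun t ht _ => (inv_bounds hnd rfl hdim t ht).1)
    (fun i => e i + f i) e ?_ ?_ ?_ e f ?_ ?_ ?_
  · intro i j
    rw [CharTwoInvolBridge.polar_plus]
    refine Finset.sum_eq_zero fun k _ => ?_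
    simp [e, f, Pi.single_apply, CharTwo.add_self_eq_zero]
    split_ifs <;> simp_all [CharTwo.add_self_eq_zero]
  · intro i j
    rw [CharTwoInvolBridge.polar_plus, Finset.sum_eq_single i]
    · simp [e, f, Pi.single_apply]
    · intro k _ hk
      simp [e, f, Pi.single_apply, hk]
    · simp
  · intro i
    rw [qfPlus_apply, quadFormPlus, Finset.sum_eq_single i]
    · simp [e, f, Pi.single_apply]
    · intro k _ hk
      simp [e, f, Pi.single_apply, hk]
    · simp
  · intro i j
    rw [CharTwoInvolBridge.polar_plus]
    exact Finset.sum_eq_zero fun k _ => by simp [e]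
  · intro i j
    rw [CharTwoInvolBridge.polar_plus, Finset.sum_eq_single i]
    · simp [e, f, Pi.single_apply]
    · intro k _ hk
      simp [e, f, Pi.single_apply, hk]
    · simp
  · intro i
    rw [qfPlus_apply, quadFormPlus]
    exact Finset.sum_eq_zero fun k _ => by simp [e]

variable {k : ℕ} {a b : F}

/-- The elliptic form in dimension `2k+2`. -/
noncomputable def qfMinus (k : ℕ) (a b : F) :
    QuadraticForm F ((Fin k ⊕ Fin k) ⊕ Fin 2 → F) :=
  (withBase k (qfBin a b)).comp (eqMinus (F := F) k).symm.toLinearMap

omit [Fintype F] [CharP F 2] in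
theorem qfMinus_apply (v : (Fin k ⊕ Fin k) ⊕ Fin 2 → F) :
    qfMinus k a b v = quadFormMinus k F a b v := by
  show withBase k (qfBin a b) ((eqMinus k).symm v) = _
  rw [← eqMinus_isometry, LinearEquiv.apply_symm_apply]

omit [Fintype F] in
theorem polar_minus (x y : (Fin k ⊕ Fin k) ⊕ Fin 2 → F) :
    polar (⇑(qfMinus k a b)) x y =
      (∑ i : Fin k, (x (.inl (.inl i)) * y (.inl (.inr i))
        + y (.inl (.inl i)) * x (.inl (.inr i))))
        + a * (x (.inr 0) * y (.inr 1) + y (.inr 0) * x (.inr 1)) := by
  simp only [polar, qfMinus_apply, quadFormMinus, Pi.add_apply]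
  rw [Finset.sum_add_distrib]
  simp only [add_mul, mul_add, Finset.sum_add_distrib]
  linear_combination (x (.inr 0) * y (.inr 0) + b * x (.inr 1) * y (.inr 1)) *
    (CharTwo.two_eq_zero (R := F))

theorem nondeg_minus (hab : IsAniso a b) : (polarBilin (qfMinus k a b)).Nondegenerate := by
  have ha : a ≠ 0 := a_ne_zero_of_two_eq_zero hab CharTwo.two_eq_zero
  have key : ∀ x, (∀ y, polarBilin (qfMinus k a b) x y = 0) → x = 0 := by
    intro x hx
    funext i
    rcases i with (i | i) | i
    · have := hx (Pi.single (.inl (.inr i)) 1)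
      simpa [polar_minus, Pi.single_apply, Finset.sum_ite_eq'] using this
    · have := hx (Pi.single (.inl (.inl i)) 1)
      simpa [polar_minus, Pi.single_apply, Finset.sum_ite_eq'] using this
    · have h0 := hx (Pi.single (.inr 0) 1)
      have h1 := hx (Pi.single (.inr 1) 1)
      simp [polar_minus, Pi.single_apply, ha] at h0 h1
      fin_cases i
      · exact h1
      · exact h0
  exact ⟨key, fun y hy => key y fun x => by
    have := hy x
    rw [polarBilin_apply_apply, polar_comm] at this
    rwa [polarBilin_apply_apply]⟩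

omit [Fintype F] [CharP F 2] in
theorem finrank_minus : finrank F ((Fin k ⊕ Fin k) ⊕ Fin 2 → F) = 2 * (k + 1) := by
  rw [finrank_pi, Fintype.card_sum, Fintype.card_sum, Fintype.card_fin, Fintype.card_fin]
  ring

/-- The elliptic form has no totally singular subspace of dimension `k + 1`. -/
theorem finrank_le_of_singular (hab : IsAniso a b)
    (W : Submodule F ((Fin k ⊕ Fin k) ⊕ Fin 2 → F)) (hW : ∀ x ∈ W, qfMinus k a b x = 0) :
    finrank F W ≠ k + 1 := by
  classical
  intro hd
  have hnd := nondeg_minus (k := k) hab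
  set Q := qfMinus k a b with hQdef
  set B := polarBilin Q
  let P := Pi.basisFun F ((Fin k ⊕ Fin k) ⊕ Fin 2)
  let R : Submodule F ((Fin k ⊕ Fin k) ⊕ Fin 2 → F) :=
    Submodule.span F (Set.range fun i : Fin k => Pi.single (.inl (.inl i)) (1 : F))
  have hR : finrank F R = k := by
    have := finrank_span_eq_card (R := F)
      (b := fun i : Fin k => (Pi.single (.inl (.inl i)) (1 : F) : (Fin k ⊕ Fin k) ⊕ Fin 2 → F))
      (by
        have h := P.linearIndependent.comp (fun i : Fin k => (Sum.inl (Sum.inl i)))
          (fun i j h => by simpa using h)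
        simpa [Function.comp_def, P] using h)
    rwa [Fintype.card_fin] at this
  have hWp : ∀ x ∈ W, ∀ y ∈ W, polar Q x y = 0 := fun x hx y hy => by
    rw [polar, hW _ (W.add_mem hx hy), hW x hx, hW y hy, sub_zero, sub_zero]
  have hsum : ∀ U : Submodule F ((Fin k ⊕ Fin k) ⊕ Fin 2 → F),
      finrank F U + finrank F (LinearMap.BilinForm.orthogonal B U) = 2 * (k + 1) := by
    intro U
    have := LinearMap.BilinForm.finrank_orthogonal hnd U
    have h2 := Submodule.finrank_le U
    rw [finrank_minus] at this h2
    omega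
  have hWW : LinearMap.BilinForm.orthogonal B W = W := by
    refine (Submodule.eq_of_le_of_finrank_eq (fun x hx => ?_) ?_).symm
    · exact fun y hy => hWp y hy x hx
    · have := hsum W
      omega
  have hle : LinearMap.BilinForm.orthogonal B (W ⊔ R) ≤ W ⊓ R := by
    intro x hx
    have hxW : x ∈ W := by
      rw [← hWW]
      exact LinearMap.BilinForm.orthogonal_le le_sup_left hx
    refine ⟨hxW, ?_⟩
    have hr : ∀ i : Fin k, x (.inl (.inr i)) = 0 := fun i => by
      have := hx (Pi.single (.inl (.inl i)) 1)
        (Submodule.mem_sup_right (Submodule.subset_span ⟨i, rfl⟩))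
      rw [show B _ x = polar Q _ x from rfl, hQdef, polar_minus] at this
      simpa [Pi.single_apply, Finset.sum_ite_eq'] using this
    have hz : x (.inr 0) = 0 ∧ x (.inr 1) = 0 := by
      have := hW x hxW
      rw [hQdef, qfMinus_apply, quadFormMinus] at this
      simp only [hr, mul_zero, Finset.sum_const_zero, zero_add] at this
      exact hab _ _ this
    rw [show x = ∑ i : Fin k, x (.inl (.inl i)) •
        (Pi.single (.inl (.inl i)) (1 : F) : (Fin k ⊕ Fin k) ⊕ Fin 2 → F) from funext fun j => by
      rcases j with (j | j) | j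
      · simp [Finset.sum_apply, Pi.single_apply]
      · simp [Finset.sum_apply, hr]
      · fin_cases j <;> simp [Finset.sum_apply, hz]]
    exact Submodule.sum_mem _ fun i _ => Submodule.smul_mem _ _ (Submodule.subset_span ⟨i, rfl⟩)
  have h1 := Submodule.finrank_mono hle
  have h2 := hsum (W ⊔ R)
  have h3 := Submodule.finrank_sup_add_finrank_inf_eq W R
  omega

theorem realised_minus (hab : IsAniso a b) : Realised (qfMinus k a b) (k + 1) k := by
  classical
  have ha : a ≠ 0 := a_ne_zero_of_two_eq_zero hab CharTwo.two_eq_zero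
  let e : Fin k → ((Fin k ⊕ Fin k) ⊕ Fin 2 → F) := fun i => Pi.single (.inl (.inl i)) 1
  let f : Fin k → ((Fin k ⊕ Fin k) ⊕ Fin 2 → F) := fun i => Pi.single (.inl (.inr i)) 1
  let z : (Fin k ⊕ Fin k) ⊕ Fin 2 → F := Pi.single (.inr 0) 1
  let z' : (Fin k ⊕ Fin k) ⊕ Fin 2 → F := Pi.single (.inr 1) a⁻¹
  have hnd := nondeg_minus (k := k) hab
  have hee : ∀ i j, polar (qfMinus k a b) (e i) (e j) = 0 := fun i j => by
    rw [polar_minus]; simp [e]
  have hef : ∀ i j, polar (qfMinus k a b) (e i) (f j) = if i = j then 1 else 0 := fun i j => by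
    rw [polar_minus]
    simp only [e, f, ne_eq, reduceCtorEq, not_false_eq_true, Pi.single_eq_of_ne, mul_zero,
      zero_mul, add_zero]
    rw [Finset.sum_eq_single i]
    · simp [Pi.single_apply]
    · intro l _ hl; simp [Pi.single_apply, hl]
    · simp
  have hff : ∀ i j, polar (qfMinus k a b) (f i) (f j) = 0 := fun i j => by
    rw [polar_minus]; simp [f]
  have hQe : ∀ i, qfMinus k a b (e i) = 0 := fun i => by
    rw [qfMinus_apply, quadFormMinus]; simp [e]
  have hQf : ∀ i, qfMinus k a b (f i) = 0 := fun i => by
    rw [qfMinus_apply, quadFormMinus]; simp [f]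
  refine realised_of hnd rfl finrank_minus (fun t ht hi => ?_)
    (Fin.lastCases z (fun i => e i + f i)) (Fin.lastCases z' e) ?_ ?_ ?_ e f hee hef hQe
  · have h1 := (inv_bounds hnd rfl finrank_minus t ht).1
    have h2 := finrank_le_of_singular hab (LinearMap.range (dif t)) (by
      rintro _ ⟨x, rfl⟩
      exact of_decide_eq_true hi x)
    show finrank F (LinearMap.range (dif t)) ≤ k
    have h1' : finrank F (LinearMap.range (dif t)) ≤ k + 1 := h1
    omega
  · intro i j
    cases i using Fin.lastCases <;> cases j using Fin.lastCases <;>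
      simp only [Fin.lastCases_last, Fin.lastCases_castSucc]
    · rw [polar_minus]; simp [z]
    · rw [polar_minus]; simp [z, e, f]
    · rw [polar_minus]; simp [z, e, f]
    · rename_i i j
      rw [polar_add_left, polar_add_right, polar_add_right, hee, hff, hef, polar_comm _ (f i),
        hef, zero_add, add_zero]
      split_ifs <;> simp_all [CharTwo.add_self_eq_zero]
  · intro i j
    cases i using Fin.lastCases <;> cases j using Fin.lastCases <;>
      simp only [Fin.lastCases_last, Fin.lastCases_castSucc]
    · rw [polar_minus]; simp [z, z', ha]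
    · rename_i j
      rw [polar_minus, if_neg (Fin.castSucc_lt_last j).ne']; simp [z, e]
    · rename_i i
      rw [polar_minus, if_neg (Fin.castSucc_lt_last i).ne]; simp [z', e, f]
    · rename_i i j
      rw [polar_add_left, hee, zero_add, polar_comm, hef]
      simp [eq_comm]
  · intro i
    cases i using Fin.lastCases <;> simp only [Fin.lastCases_last, Fin.lastCases_castSucc]
    · rw [qfMinus_apply, quadFormMinus]; simp [z]
    · rename_i i
      rw [QuadraticMap.map_add (⇑(qfMinus k a b)), hQe, hQf, hef]; simp

/-- Reflections generate, also for `O⁻₄(2)`. -/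
theorem gen_minus (hab : IsAniso a b) : reflGroup (qfMinus k a b) = ⊤ := by
  have hnd := nondeg_minus (k := k) hab
  have hreg := OrthUnitaryOmega.isReg_of_nondegenerate hnd
  by_cases hk : k = 1
  swap
  · refine reflGroup_eq_top hreg (Or.inr ?_)
    rw [finrank_minus]
    omega
  subst hk
  rw [eq_top_iff, ← bigGroup_eq_top hreg, bigGroup, Subgroup.closure_le]
  rintro g (⟨v, hv, rfl⟩ | ⟨u, w, hu, hw, rfl⟩)
  · exact refl_mem hv
  set Q := qfMinus 1 a b
  by_cases hQw : Q w = 0
  swap
  · rw [siegel_eq_refl_mul hu hw hQw]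
    exact Subgroup.mul_mem _ (refl_mem _) (refl_mem _)
  suffices siegel Q u w hu hw = 1 by rw [this]; exact Subgroup.one_mem _
  by_cases hu0 : u = 0
  · exact orth_ext fun x => by rw [siegel_apply, hu0]; simp
  obtain ⟨c, rfl⟩ : ∃ c : F, c • u = w := by
    by_contra hc
    push Not at hc
    have hli : LinearIndependent F ![u, w] := (LinearIndependent.pair_iff' hu0).2 hc
    refine finrank_le_of_singular (k := 1) hab (Submodule.span F (Set.range ![u, w])) ?_ ?_
    · intro x hx
      rw [Matrix.range_cons, Matrix.range_cons, Matrix.range_empty, Set.union_empty,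
        Set.singleton_union, Submodule.mem_span_pair] at hx
      obtain ⟨r, s, rfl⟩ := hx
      show Q _ = 0
      rw [QuadraticMap.map_add (⇑Q), QuadraticMap.map_smul, QuadraticMap.map_smul, hu, hQw,
        polar_smul_left, polar_smul_right, hw]
      simp
    · rw [finrank_span_eq_card hli, Fintype.card_fin]
  exact orth_ext fun y => by
    rw [siegel_apply, polar_smul_left, QuadraticMap.map_smul, hu]
    simp only [smul_eq_mul, mul_zero, zero_mul, add_zero, smul_smul]
    rw [mul_comm (polar (⇑Q) u y) c, add_sub_cancel_right]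
    rfl

end Cfsg.Agent.CharTwoInvolForms
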