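import Mathlib
import Cfsg.Agent.Lib.CharTwoInvolCentralizer

/-!
Centralizers of involutions in the symplectic matrix group in characteristic two.
-/

set_option autoImplicit false

open Matrix Module
open Cfsg.Agent.CharTwoInvolCentralizer

namespace Cfsg.Agent.CharTwoInvolSp

universe u

variable {F : Type u} [Field F] [Fintype F] [CharP F 2] {m : ℕ}

theorem card_centralizer_sp {q s : ℕ} (hF : Fintype.card F = q)
    (t : Matrix.symplecticGroup (Fin m) F) (ht : t ^ 2 = 1)
    (hs : ((t : Matrix (Fin m ⊕ Fin m) (Fin m ⊕ Fin m) F) - 1).rank = s) :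
    s ≤ m ∧ ∃ c, Nat.card ↥(Subgroup.centralizer ({t} : Set ↥(Matrix.symplecticGroup (Fin m) F))) =
        q ^ (2 * m * s - (3 * s ^ 2 - s) / 2) * c * spOrder q (m - s) ∧
      ((∀ v, Cfsg.sympForm m F v ((t : Matrix (Fin m ⊕ Fin m) (Fin m ⊕ Fin m) F) *ᵥ v) = 0) →
        ∃ k, s = 2 * k ∧ c = spOrder q k) ∧
      ((∃ v, Cfsg.sympForm m F v ((t : Matrix (Fin m ⊕ Fin m) (Fin m ⊕ Fin m) F) *ᵥ v) ≠ 0) →
        ∃ k, (s = 2 * k + 1 ∧ c = spOrder q k) ∨
          (s = 2 * k + 2 ∧ c = q ^ (2 * k + 1) * spOrder q k)) := by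
  set M := (t : Matrix (Fin m ⊕ Fin m) (Fin m ⊕ Fin m) F) with hMdef
  let B : (Fin m ⊕ Fin m → F) →ₗ[F] (Fin m ⊕ Fin m → F) →ₗ[F] F :=
    Matrix.toBilin' (Matrix.J (Fin m) F)
  have hB : ∀ u v, B u v = Cfsg.sympForm m F u v := fun u v => by
    show Matrix.toBilin' (Matrix.J (Fin m) F) u v = _
    rw [Matrix.toBilin'_apply']; rfl
  have halt : ∀ x, B x x = 0 := fun x => by rw [hB, SymplecticBasic.form_self]
  have hnd : ∀ x, (∀ y, B x y = 0) → x = 0 := fun x hx =>
    SymplecticBasic.form_nondeg fun y => by rw [← hB]; exact hx y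
  have hM : M * M = 1 := by
    have h1 : t * t = 1 := by rw [← pow_two, ht]
    exact congrArg Subtype.val h1
  set A := Matrix.toLin' (M - 1)
  have hA : ∀ x, A x = M *ᵥ x - x := fun x => by
    simp [A, Matrix.toLin'_apply, Matrix.sub_mulVec]
  have hMM : ∀ x, M *ᵥ (M *ᵥ x) = x := fun x => by
    rw [Matrix.mulVec_mulVec, hM, Matrix.one_mulVec]
  have h2 : ∀ x : Fin m ⊕ Fin m → F, x + x = 0 := fun x =>
    funext fun i => CharTwo.add_self_eq_zero (x i)
  have h1A : ∀ x, A (A x) = 0 := fun x => by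
    rw [hA, hA, Matrix.mulVec_sub, hMM, ← neg_sub (M *ᵥ x) x, ← neg_add', h2, neg_zero]
  have h2A : ∀ x y, B (A x) y = B x (A y) := fun x y => by
    simp only [hA, map_sub, LinearMap.sub_apply, hB, SymplecticBasic.form_sub_right]
    congr 1
    rw [← SymplecticBasic.mem_sp_iff_form.1 t.2 x (M *ᵥ y), hMM]
  have hT : ∀ v, B v (A v) = Cfsg.sympForm m F v (M *ᵥ v) := fun v => by
    rw [hA, map_sub, hB, hB, SymplecticBasic.form_self, sub_zero]
  obtain ⟨hle, c, hcard, hc1, hc2⟩ := card_centralizer hF B halt hnd A h1A h2A (m := m) (s := s)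
    (by rw [finrank_pi, Fintype.card_sum, Fintype.card_fin, two_mul]) (by rw [← hs]; rfl)
  refine ⟨hle, c, ?_, fun h => hc1 fun v => by rw [hT]; exact h v, fun ⟨v, hv⟩ =>
    hc2 ⟨v, by rw [hT]; exact hv⟩⟩
  rw [← hcard]
  refine Nat.card_congr
    { toFun := fun g => ⟨Matrix.toLin' (g.1 : Matrix (Fin m ⊕ Fin m) (Fin m ⊕ Fin m) F),
        fun x y => by
          rw [Matrix.toLin'_apply, Matrix.toLin'_apply, hB, hB]
          exact SymplecticBasic.mem_sp_iff_form.1 g.1.2 x y, fun x => by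
          have hc := congrArg Subtype.val (Subgroup.mem_centralizer_singleton_iff.1 g.2)
          change (g.1 : Matrix (Fin m ⊕ Fin m) (Fin m ⊕ Fin m) F) * M = M * g.1 at hc
          rw [hA, hA, map_sub, Matrix.toLin'_apply, Matrix.toLin'_apply, Matrix.mulVec_mulVec,
            Matrix.mulVec_mulVec, hc]⟩
      invFun := fun g => ⟨⟨LinearMap.toMatrix' g.1, SymplecticBasic.mem_sp_iff_form.2 fun u v => by
          rw [LinearMap.toMatrix'_mulVec, LinearMap.toMatrix'_mulVec, ← hB, ← hB]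
          exact g.2.1 u v⟩, Subgroup.mem_centralizer_singleton_iff.2 (Subtype.ext ?_)⟩
      left_inv := fun g => Subtype.ext (Subtype.ext (LinearMap.toMatrix'_toLin' _))
      right_inv := fun g => Subtype.ext (Matrix.toLin'_toMatrix' _) }
  show LinearMap.toMatrix' g.1 * M = M * LinearMap.toMatrix' g.1
  refine Matrix.toLin'.injective (LinearMap.ext fun x => ?_)
  rw [Matrix.toLin'_mul, Matrix.toLin'_mul, LinearMap.comp_apply, LinearMap.comp_apply,
    Matrix.toLin'_toMatrix', Matrix.toLin'_apply, Matrix.toLin'_apply]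
  have h := g.2.2 x
  rw [hA, hA, map_sub] at h
  exact sub_left_injective h

end Cfsg.Agent.CharTwoInvolSp
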