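import Mathlib
import Cfsg.Prelude.Def_GeometricClasses
import Cfsg.Agent.Lib.CharTwoInvolForms
import Cfsg.Agent.Lib.QuadClassify

/-!
Elements of prime order of orthogonal groups in characteristic two and fixed nonsingular points.
-/

set_option autoImplicit false

open QuadraticMap Module Matrix
open Cfsg.Agent.OrthUnitaryQuad Cfsg.Agent.OrthUnitaryRefl Cfsg.Agent.OrthUnitaryPrelude
open Cfsg.Agent.OrthCharTwo Cfsg.Agent.CharTwoInvolCount

namespace Cfsg.Agent.CharTwoPointFree61

section Count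

variable {F : Type*} [Field F] [Fintype F] {ι : Type} [Fintype ι] [DecidableEq ι]

/-- Nonsingular points and nonsingular vectors. -/
theorem card_points {f : (ι → F) → F} (Q : QuadraticForm F (ι → F)) (hQ : ∀ v, f v = Q v) :
    (Fintype.card F - 1) *
      Nat.card {W : Submodule F (ι → F) // finrank F ↥W = 1 ∧ ∃ v ∈ W, f v ≠ 0} =
      Nat.card {v : ι → F // Q v ≠ 0} := by
  classical
  set S := {W : Submodule F (ι → F) // finrank F ↥W = 1 ∧ ∃ v ∈ W, f v ≠ 0}
  have h0 : ∀ v : ι → F, Q v ≠ 0 → v ≠ 0 := fun v hv h => hv (by rw [h, QuadraticMap.map_zero])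
  let φ : {v : ι → F // Q v ≠ 0} → S := fun v =>
    ⟨Submodule.span F {v.1}, finrank_span_singleton (h0 _ v.2), v.1,
      Submodule.mem_span_singleton_self _, by rw [hQ]; exact v.2⟩
  have hfib : ∀ W : S, Nat.card {v // φ v = W} = Fintype.card F - 1 := by
    rintro ⟨W, hW, w, hw, hfw⟩
    rw [hQ] at hfw
    have hspan : W = Submodule.span F {w} :=
      (Submodule.eq_of_le_of_finrank_eq ((Submodule.span_singleton_le_iff_mem _ _).2 hw)
        (by rw [hW, finrank_span_singleton (h0 _ hfw)])).symm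
    rw [← Fintype.card_units, ← Nat.card_eq_fintype_card]
    symm
    refine Nat.card_congr (Equiv.ofBijective
      (fun c : Fˣ => ⟨⟨(c : F) • w, by
          rw [QuadraticMap.map_smul]
          exact mul_ne_zero (mul_ne_zero c.ne_zero c.ne_zero) hfw⟩, Subtype.ext (by
            show Submodule.span F {(c : F) • w} = W
            rw [hspan, Submodule.span_singleton_smul_eq c.isUnit])⟩) ⟨?_, ?_⟩)
    · intro c c' h
      exact Units.ext (smul_left_injective F (h0 _ hfw) (congrArg (fun v => v.1.1) h))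
    · rintro ⟨⟨v, hv⟩, hφ⟩
      have hvW : v ∈ Submodule.span F {w} := by
        have h : Submodule.span F {v} = W := congrArg Subtype.val hφ
        rw [← hspan, ← h]
        exact Submodule.mem_span_singleton_self _
      obtain ⟨c, hc⟩ := Submodule.mem_span_singleton.1 hvW
      have hc0 : c ≠ 0 := by rintro rfl; exact h0 v hv (by rw [← hc, zero_smul])
      exact ⟨Units.mk0 c hc0, Subtype.ext (Subtype.ext hc)⟩
  rw [← Nat.card_congr (Equiv.sigmaFiberEquiv φ), Nat.card_sigma, Finset.sum_congr rfl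
    fun W _ => hfib W, Finset.sum_const, Finset.card_univ, ← Nat.card_eq_fintype_card,
    smul_eq_mul, mul_comm]
  simp only [Nat.card_eq_fintype_card]

/-- The number of nonsingular points from the number of zeros. -/
theorem q_mul_points {f : (ι → F) → F} (Q : QuadraticForm F (ι → F)) (hQ : ∀ v, f v = Q v)
    {Z : ℤ} {n : ℕ} (hn : Fintype.card ι = n)
    (hZ : (Fintype.card F : ℤ) * Nat.card {v : ι → F // f v = 0} = Z) :
    ((Fintype.card F : ℤ) - 1) * ((Fintype.card F : ℤ) *
      Nat.card {W : Submodule F (ι → F) // finrank F ↥W = 1 ∧ ∃ v ∈ W, f v ≠ 0}) =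
      (Fintype.card F : ℤ) ^ (n + 1) - Z := by
  classical
  have h2 : Nat.card {v : ι → F // f v = 0} + Nat.card {v : ι → F // Q v ≠ 0} =
      Fintype.card F ^ n := by
    simp only [← hQ]
    rw [Nat.card_eq_fintype_card, Nat.card_eq_fintype_card, Fintype.card_subtype_compl,
      Nat.add_sub_cancel' (Fintype.card_subtype_le _), Fintype.card_fun, hn]
  have h3 := card_points Q hQ
  have hq : 1 ≤ Fintype.card F := Fintype.card_pos
  rw [← h3] at h2
  replace h2 := congrArg (Nat.cast : ℕ → ℤ) h2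
  rw [Nat.cast_add, Nat.cast_mul, Nat.cast_sub hq, Nat.cast_one, Nat.cast_pow] at h2
  rw [pow_succ, ← h2, ← hZ]
  ring

end Count

section Group

variable {F : Type*} [Field F] [Fintype F] [CharP F 2] {ι : Type} [Fintype ι] [DecidableEq ι]
  {f : (ι → F) → F} (Q : QuadraticForm F (ι → F))

/-- Some nonsingular point is fixed by every element of order `r`. -/
def AllFix (f : (ι → F) → F) (r : ℕ) : Prop :=
  ∀ x : GL ι F, x ∈ Cfsg.Geo.omegaGL f →
    (∃ z : F, ((x ^ r : GL ι F) : Matrix ι ι F) = z • (1 : Matrix ι ι F)) →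
    (∀ z : F, (x : Matrix ι ι F) ≠ z • (1 : Matrix ι ι F)) →
    ∃ W : Submodule F (ι → F), (finrank F ↥W = 1 ∧ ∃ v ∈ W, f v ≠ 0) ∧
      W.map (Matrix.toLin' (x : Matrix ι ι F)) ≤ W

omit [Fintype F] [Fintype ι] [DecidableEq ι] in
theorem eigen_one (g : orth Q) {v : ι → F} {c : F} (hv : Q v ≠ 0) (h : g.1 v = c • v) :
    c = 1 := by
  have h2 := map_orth g v
  rw [h, QuadraticMap.map_smul, smul_eq_mul] at h2
  have h3 : c * c = 1 := mul_right_cancel₀ hv (by rw [one_mul]; exact h2)
  exact CharTwo.sq_injective (by simpa [pow_two] using h3)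

theorem not_allFix (hQ : ∀ v, f v = Q v) (hnd : (polarBilin Q).Nondegenerate)
    (hgen : reflGroup Q = ⊤) (hns : ∃ v, Q v ≠ 0) {r : ℕ} (g : orth Q) (hg : g ^ r = 1)
    (hg1 : g ≠ 1) (hfix : ∀ v, g.1 v = v → Q v = 0)
    (hD : Odd r ∨ (r = 2 ∧ Even (finrank F (LinearMap.range (dif g))))) : ¬ AllFix f r := by
  obtain ⟨e, D, hDr, happ, hrank, hΩ, hval⟩ := CharTwoInvolBridge.exists_bridge Q hQ hnd hgen
  intro hall
  have hDg : D g = 1 := by
    rcases hD with hr | ⟨-, hev⟩
    · rcases hval g with h | h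
      · exact h
      · obtain ⟨k, rfl⟩ := hr
        have h2 : Multiplicative.ofAdd (1 : F) ^ 2 = 1 := by
          rw [pow_two, ← ofAdd_add, CharTwo.add_self_eq_zero, ofAdd_zero]
        have := congrArg D hg
        rw [map_pow, h, map_one D, pow_succ, pow_mul, h2, one_pow, one_mul] at this
        rwa [this] at h
    · rw [dickson_eq_rank hnd hgen D hDr, OrthCharTwoForms.ofAdd_cast_eq_one_iff]
      exact hev
  set y := e.symm g with hy
  have hmv : ∀ v, mat y *ᵥ v = g.1 v := fun v => by rw [← happ, hy, e.apply_symm_apply]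
  obtain ⟨W, ⟨hW, v, hvW, hfv⟩, hle⟩ := hall y.1 ⟨y, (hΩ y).2 (by rw [hy, e.apply_symm_apply, hDg]), rfl⟩
    ⟨1, by
      have : y ^ r = 1 := by rw [hy, ← map_pow, hg, map_one]
      rw [one_smul, ← Subgroup.coe_pow, this, Subgroup.coe_one, Units.val_one]⟩
    (fun z hz => by
      obtain ⟨v, hv⟩ := hns
      have hgz : ∀ u, g.1 u = z • u := fun u => by
        rw [← hmv]; show (y.1 : Matrix ι ι F) *ᵥ u = _
        rw [hz, Matrix.smul_mulVec, Matrix.one_mulVec]
      exact hg1 (orth_ext fun u => by rw [hgz, eigen_one Q g hv (hgz v), one_smul]; rfl))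
  rw [hQ] at hfv
  have hmem : g.1 v ∈ W := by
    rw [← hmv]
    exact hle ⟨v, hvW, Matrix.toLin'_apply _ _⟩
  have hspan : W = Submodule.span F {v} :=
    (Submodule.eq_of_le_of_finrank_eq ((Submodule.span_singleton_le_iff_mem _ _).2 hvW)
      (by rw [hW, finrank_span_singleton (fun h => hfv (by rw [h, QuadraticMap.map_zero]))])).symm
  rw [hspan] at hmem
  obtain ⟨c, hc⟩ := Submodule.mem_span_singleton.1 hmem
  rw [eigen_one Q g hfv hc.symm, one_smul] at hc
  exact hfv (hfix v hc.symm)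

theorem allFix_two (hQ : ∀ v, f v = Q v) (hnd : (polarBilin Q).Nondegenerate)
    (hgen : reflGroup Q = ⊤) (hns : ∃ v, Q v ≠ 0)
    (hno : ∀ t : orth Q, t * t = 1 → Even (finrank F (LinearMap.range (dif t))) →
      ¬ (2 * finrank F (LinearMap.range (dif t)) = finrank F (ι → F) ∧ ∀ x, Q (dif t x) = 0)) :
    AllFix f 2 := by
  obtain ⟨e, D, hDr, happ, hrank, hΩ, hval⟩ := CharTwoInvolBridge.exists_bridge Q hQ hnd hgen
  rintro _ ⟨y, hy, rfl⟩ ⟨z, hz⟩ -
  have happ2 : ∀ u, (e y).1 ((e y).1 u) = z • u := fun u => by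
    rw [happ, happ, Matrix.mulVec_mulVec]
    have : mat y * mat y = z • (1 : Matrix ι ι F) := by
      rw [← hz, pow_two]; rfl
    rw [this, Matrix.smul_mulVec, Matrix.one_mulVec]
  obtain ⟨v₀, hv₀⟩ := hns
  have hz1 : z = 1 := eigen_one Q (e y * e y) hv₀ (happ2 v₀)
  have ht : e y * e y = 1 := orth_ext fun u => by
    show (e y).1 ((e y).1 u) = u
    rw [happ2, hz1, one_smul]
  have hev : Even (finrank F (LinearMap.range (dif (e y)))) := by
    have := (hΩ y).1 hy
    rwa [dickson_eq_rank hnd hgen D hDr, OrthCharTwoForms.ofAdd_cast_eq_one_iff] at this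
  obtain ⟨v, hv, hfix⟩ := exists_fixed_nonsingular hnd (e y) ht (hno _ ht hev)
  refine ⟨Submodule.span F {v}, ⟨finrank_span_singleton
    (fun h => hv (by rw [h, QuadraticMap.map_zero])), v, Submodule.mem_span_singleton_self _,
    by rw [hQ]; exact hv⟩, ?_⟩
  rw [Submodule.map_span, Set.image_singleton, Matrix.toLin'_apply]
  refine le_of_eq (congrArg (fun w => Submodule.span F {w}) ?_)
  show mat y *ᵥ v = v
  rw [← happ]; exact hfix

end Group

section Elements

universe u

variable {F : Type u} [Field F] [Fintype F] [CharP F 2]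

omit [CharP F 2] in
theorem exists_orderOf {K : Type*} [Field K] [Finite K] {r : ℕ} (hr : r ∣ Nat.card K - 1) :
    ∃ z : Kˣ, orderOf z = r := by
  obtain ⟨x, hx⟩ := IsCyclic.exists_ofOrder_eq_natCard (α := Kˣ)
  rw [Nat.card_units] at hx
  obtain ⟨c, hc⟩ := hr
  have hpos : 0 < Nat.card K - 1 := by have := Finite.one_lt_card (α := K); omega
  have hc0 : 0 < c := Nat.pos_of_mul_pos_left (hc ▸ hpos)
  refine ⟨x ^ c, ?_⟩
  rw [orderOf_pow' x hc0.ne', hx, hc, Nat.gcd_mul_left_left, Nat.mul_div_cancel _ hc0]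

/-- An element of prime order without fixed vectors in the hyperbolic orthogonal group. -/
theorem exists_plus {d r : ℕ} (hd : d ≠ 0) (hr : r.Prime) (hdvd : r ∣ Fintype.card F ^ d - 1) :
    ∃ g : orth (qfPlus F d), g ^ r = 1 ∧ g ≠ 1 ∧ ∀ v, g.1 v = v → v = 0 := by
  classical
  haveI : Fact (Nat.Prime 2) := ⟨Nat.prime_two⟩
  haveI : NeZero d := ⟨hd⟩
  let K := FiniteField.Extension F 2 d
  haveI : Finite K := Module.finite_of_finite F
  let b := Module.finBasisOfFinrankEq F K (FiniteField.finrank_extension F 2 d)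
  obtain ⟨z, hz⟩ := exists_orderOf (K := K) (r := r)
    (by rwa [FiniteField.natCard_extension, Nat.card_eq_fintype_card])
  have hzr : (z : K) ^ r = 1 := by
    rw [← Units.val_pow_eq_pow_val, ← hz, pow_orderOf_eq_one, Units.val_one]
  have hz1 : (z : K) ≠ 1 := fun h => hr.one_lt.ne (by rw [← hz, Units.val_eq_one.1 h, orderOf_one])
  let A := Algebra.leftMulMatrix b (z : K)
  let B := (Algebra.leftMulMatrix b ((z⁻¹ : Kˣ) : K))ᵀ
  have hAB : A * Bᵀ = 1 := by
    simp only [A, B, Matrix.transpose_transpose]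
    rw [← map_mul, Units.mul_inv, map_one]
  have hBA : Bᵀ * A = 1 := mul_eq_one_comm.1 hAB
  have inj : ∀ (M : Matrix (Fin d) (Fin d) F), IsUnit M → ∀ u : Fin d → F, M *ᵥ u = 0 → u = 0 := by
    intro M hM u hu
    exact Matrix.mulVec_injective_of_isUnit hM (by rw [hu, Matrix.mulVec_zero])
  let M : Matrix (Fin d ⊕ Fin d) (Fin d ⊕ Fin d) F := Matrix.fromBlocks A 0 0 B
  let N : Matrix (Fin d ⊕ Fin d) (Fin d ⊕ Fin d) F := Matrix.fromBlocks Bᵀ 0 0 Aᵀ
  have hMN : M * N = 1 := by
    simp only [M, N, Matrix.fromBlocks_multiply, Matrix.mul_zero, Matrix.zero_mul, add_zero,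
      zero_add, hAB]
    rw [show B * Aᵀ = (A * Bᵀ)ᵀ by rw [Matrix.transpose_mul, Matrix.transpose_transpose], hAB,
      Matrix.transpose_one, Matrix.fromBlocks_one]
  have hNM : N * M = 1 := mul_eq_one_comm.1 hMN
  let L : (Fin d ⊕ Fin d → F) ≃ₗ[F] (Fin d ⊕ Fin d → F) :=
    LinearEquiv.ofLinearMap (Matrix.toLin' M) (Matrix.toLin' N)
      (by rw [← Matrix.toLin'_mul, hMN, Matrix.toLin'_one])
      (by rw [← Matrix.toLin'_mul, hNM, Matrix.toLin'_one])
  have hdot : ∀ v : Fin d ⊕ Fin d → F,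
      qfPlus F d v = (v ∘ Sum.inl) ⬝ᵥ (v ∘ Sum.inr) := fun v => by
    rw [qfPlus_apply]; rfl
  have hL : ∀ v, L v = M *ᵥ v := fun v => Matrix.toLin'_apply _ _
  have hblock : ∀ v, (L v) ∘ Sum.inl = A *ᵥ (v ∘ Sum.inl) ∧ (L v) ∘ Sum.inr = B *ᵥ (v ∘ Sum.inr) :=
    fun v => by
      rw [hL, Matrix.fromBlocks_mulVec]
      constructor <;> funext i <;> simp
  have hiso : L ∈ orth (qfPlus F d) := fun v => by
    rw [hdot, hdot, (hblock v).1, (hblock v).2, Matrix.dotProduct_mulVec,
      ← Matrix.transpose_transpose B, Matrix.vecMul_transpose, Matrix.mulVec_mulVec, hBA,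
      Matrix.one_mulVec]
  refine ⟨⟨L, hiso⟩, ?_, ?_, ?_⟩
  · refine orth_ext fun v => ?_
    have hpow : ∀ n : ℕ, ((⟨L, hiso⟩ : orth (qfPlus F d)) ^ n).1 v = (M ^ n) *ᵥ v := by
      intro n
      induction n with
      | zero => simp
      | succ n ih =>
        rw [pow_succ', orth_mul_apply, ih, hL, Matrix.mulVec_mulVec, ← pow_succ']
    have hMr : M ^ r = 1 := by
      simp only [M, Matrix.fromBlocks_diagonal_pow, A, B, ← Matrix.transpose_pow, ← map_pow]
      have hzu : z ^ r = 1 := by rw [← hz]; exact pow_orderOf_eq_one z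
      rw [hzr, ← Units.val_pow_eq_pow_val, inv_pow, hzu]
      simp [Matrix.fromBlocks_one]
    rw [hpow, hMr, Matrix.one_mulVec]; rfl
  · intro h
    have h1 : ∀ u : Fin d → F, A *ᵥ u = u := fun u => by
      have := (hblock (Sum.elim u 0)).1
      rw [show L (Sum.elim u 0) = Sum.elim u 0 from by
        show (⟨L, hiso⟩ : orth (qfPlus F d)).1 _ = _
        rw [h]; rfl] at this
      simpa using this.symm
    have h2 : A = 1 := Matrix.ext_of_mulVec_single fun j => by rw [h1, Matrix.one_mulVec]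
    exact hz1 (Algebra.leftMulMatrix_injective b (h2.trans (map_one _).symm))
  · intro v hv
    have hunit : ∀ w : K, w ≠ 1 → IsUnit (Algebra.leftMulMatrix b w - 1) := fun w hw => by
      rw [← map_one (Algebra.leftMulMatrix b), ← map_sub]
      exact ((sub_ne_zero.2 hw).isUnit).map (Algebra.leftMulMatrix b)
    have hzi : ((z⁻¹ : Kˣ) : K) ≠ 1 := fun h => hz1 (by
      rw [← inv_inv z, Units.val_eq_one.1 h, inv_one, Units.val_one])
    have hv' : L v = v := hv
    obtain ⟨h1, h2⟩ := hblock v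
    rw [hv'] at h1 h2
    have e1 := inj _ (hunit _ hz1) (v ∘ Sum.inl) (by
      rw [Matrix.sub_mulVec, Matrix.one_mulVec, ← h1, sub_self])
    have e2 := inj (B - 1) (by
      have := (hunit _ hzi)
      rw [← Matrix.isUnit_transpose, Matrix.transpose_sub, Matrix.transpose_one] at this
      exact this) (v ∘ Sum.inr) (by rw [Matrix.sub_mulVec, Matrix.one_mulVec, ← h2, sub_self])
    funext i
    rcases i with i | i
    · exact congrFun e1 i
    · exact congrFun e2 i

/-- An element of prime order without fixed vectors in the elliptic orthogonal group. -/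
theorem exists_minus {k r : ℕ} {a b : F} (hab : OrthUnitaryForms.IsAniso a b) (hr : r.Prime)
    (hdvd : r ∣ Fintype.card F ^ (k + 1) + 1) :
    ∃ g : orth (CharTwoInvolForms.qfMinus k a b), g ^ r = 1 ∧ g ≠ 1 ∧ ∀ v, g.1 v = v → v = 0 := by
  classical
  haveI : Fact (Nat.Prime 2) := ⟨Nat.prime_two⟩
  set q := Fintype.card F with hqdef
  set d := k + 1 with hddef
  haveI : NeZero (2 * d) := ⟨by omega⟩
  let K := FiniteField.Extension F 2 (2 * d)
  haveI : Finite K := Module.finite_of_finite F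
  have hdimK : finrank F K = 2 * d := FiniteField.finrank_extension F 2 (2 * d)
  have hcardK : Nat.card K = q ^ (2 * d) := by
    rw [FiniteField.natCard_extension, Nat.card_eq_fintype_card]
  letI : Fintype K := Fintype.ofFinite K
  let σ : K →ₐ[F] K := FiniteField.frobeniusAlgHom F K ^ d
  have hσ : ∀ x : K, σ x = x ^ q ^ d := by
    intro x
    simp only [σ]
    rw [AlgHom.coe_pow, FiniteField.coe_frobeniusAlgHom, pow_iterate]
  have hσσ : ∀ x : K, σ (σ x) = x := fun x => by
    rw [hσ, hσ, ← pow_mul, ← pow_add, ← two_mul, ← hcardK, Nat.card_eq_fintype_card,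
      FiniteField.pow_card]
  have htr : ∀ x : K, Algebra.trace F K (σ x) = Algebra.trace F K x := fun x =>
    Algebra.trace_eq_of_algEquiv (AlgEquiv.ofBijective σ
      ⟨σ.toRingHom.injective, fun y => ⟨σ y, hσσ y⟩⟩) x
  have hq : 2 ≤ q := Fintype.one_lt_card
  obtain ⟨x₀, hx₀⟩ : ∃ x₀ : K, σ x₀ ≠ x₀ := by
    by_contra hc
    push Not at hc
    obtain ⟨x, hx⟩ := IsCyclic.exists_ofOrder_eq_natCard (α := Kˣ)
    rw [Nat.card_units, hcardK] at hx
    have h1 : x ^ (q ^ d) = x := Units.ext (by rw [Units.val_pow_eq_pow_val, ← hσ]; exact hc _)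
    have h2 : orderOf x ∣ q ^ d - 1 := orderOf_dvd_of_pow_eq_one (by
      rw [pow_sub _ (Nat.one_le_pow _ _ (by omega)), pow_one, h1, mul_inv_cancel])
    rw [hx] at h2
    have h3 := Nat.le_of_dvd (by have := Nat.one_lt_pow (by omega : d ≠ 0) (by omega : 1 < q); omega) h2
    have h4 : q ^ d < q ^ (2 * d) := Nat.pow_lt_pow_right (by omega) (by omega)
    have := Nat.one_le_pow d q (by omega)
    omega
  set c : K := x₀ / (x₀ + σ x₀) with hcdef
  haveI : CharP K 2 := charP_of_injective_algebraMap (algebraMap F K).injective 2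
  have hne : x₀ + σ x₀ ≠ 0 := fun h => hx₀ ((CharTwo.add_eq_zero.1 h)).symm
  have hc : c + σ c = 1 := by
    rw [hcdef, map_div₀, map_add, hσσ, add_comm (σ x₀) x₀, ← add_div, div_self hne]
  let Bf : LinearMap.BilinMap F K F :=
    LinearMap.compr₂ ((LinearMap.mul F K).compl₁₂ (LinearMap.mulLeft F c) σ.toLinearMap)
      (Algebra.trace F K)
  let Q : QuadraticForm F K := Bf.toQuadraticMap
  have hQx : ∀ x, Q x = Algebra.trace F K (c * x * σ x) := fun x => rfl
  have hpol : ∀ x y, polar Q x y = Algebra.trace F K (σ x * y) := fun x y => by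
    simp only [polar, hQx, ← map_sub]
    have h1 : Algebra.trace F K (c * x * σ y) = Algebra.trace F K (σ c * σ x * y) := by
      rw [← htr, map_mul σ, map_mul σ, hσσ]
    rw [show c * (x + y) * σ (x + y) - c * x * σ x - c * y * σ y = c * x * σ y + c * σ x * y by
      rw [map_add]; ring, map_add, h1, ← map_add]
    congr 1
    rw [← add_mul, ← add_mul, add_comm (σ c), hc, one_mul]
  have hnd : (polarBilin Q).Nondegenerate := by
    have key : ∀ x, (∀ y, polar Q x y = 0) → x = 0 := fun x hx => by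
      have := (traceForm_nondegenerate F K).1 (σ x) fun y => by
        rw [Algebra.traceForm_apply, ← hpol]; exact hx y
      exact σ.toRingHom.injective (this.trans (map_zero σ).symm)
    exact ⟨fun x hx => key x hx, fun y hy => key y fun x => by
      rw [polar_comm]; exact hy x⟩
  obtain ⟨u, hu⟩ := exists_orderOf (K := K) (r := q ^ d + 1) (by
    rw [hcardK]
    refine ⟨q ^ d - 1, ?_⟩
    rw [← Nat.sq_sub_sq, one_pow, ← pow_mul, mul_comm d 2])
  have hU : ∀ w ∈ Subgroup.zpowers u, ∀ x, Q ((w : K) * x) = Q x := by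
    intro w hw x
    have h1 : (w : K) ^ (q ^ d + 1) = 1 := by
      rw [← Units.val_pow_eq_pow_val, Units.val_eq_one, ← orderOf_dvd_iff_pow_eq_one, ← hu]
      exact orderOf_dvd_of_mem_zpowers hw
    rw [hQx, hQx]
    congr 1
    rw [map_mul, hσ (w : K)]
    calc c * ((w : K) * x) * ((w : K) ^ q ^ d * σ x) = (w : K) ^ (q ^ d + 1) * (c * x * σ x) := by
          ring
      _ = c * x * σ x := by rw [h1, one_mul]
  obtain ⟨k', e', f', W, hdec, hW2⟩ := QuadClassify.exists_decomp Q hnd
  have hsum := hdec.2.2.2.2.2.1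
  rw [finrank_top, hdimK] at hsum
  have hW : finrank F W = 2 := by
    by_contra hW
    obtain ⟨g, hg⟩ := QuadClassify.iso_plus Q hdec.1 (k := k') (by omega)
    have hk : k' = d := by omega
    subst hk
    have hz := OrthUnitaryForms.q_mul_card_zero_plus (F := F) rfl d
    rw [OrthUnitaryForms.card_zero_of_equiv Q _ g hg] at hz
    have hcard : Nat.card {x : K // Q x = 0} =
        Nat.card {w : Kˣ // Q (w : K) = 0} + 1 := by
      rw [Nat.card_congr (Equiv.sumCompl (fun x : {x : K // Q x = 0} => x.1 = 0)).symm,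
        Nat.card_sum, add_comm]
      congr 1
      · refine Nat.card_congr
          { toFun := fun x => ⟨Units.mk0 x.1.1 x.2, x.1.2⟩
            invFun := fun w => ⟨⟨(w.1 : K), w.2⟩, w.1.ne_zero⟩
            left_inv := fun x => rfl
            right_inv := fun w => Subtype.ext (Units.ext rfl) }
      · exact Nat.card_eq_one_iff_unique.2 ⟨⟨fun x y => Subtype.ext (Subtype.ext (x.2.trans y.2.symm))⟩,
          ⟨⟨⟨0, QuadraticMap.map_zero Q⟩, rfl⟩⟩⟩
    set S : Set Kˣ := {w | Q (w : K) = 0}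
    have hS : QuotientGroup.mk ⁻¹' (QuotientGroup.mk '' S : Set (Kˣ ⧸ Subgroup.zpowers u)) = S := by
      refine Set.Subset.antisymm ?_ (Set.subset_preimage_image _ _)
      rintro w ⟨s, hs, hsw⟩
      have h := QuotientGroup.eq.1 hsw
      have h' := hU _ h (s : K)
      rw [Units.val_mul, mul_comm ((s⁻¹ : Kˣ) : K), mul_assoc, Units.inv_mul, mul_one] at h'
      exact h'.trans hs
    have hdvd' : q ^ d + 1 ∣ Nat.card S := by
      rw [← hS, Nat.card_congr (QuotientGroup.preimageMkEquivSubgroupProdSet _ _), Nat.card_prod,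
        Nat.card_zpowers, hu]
      exact dvd_mul_right _ _
    rw [hcard, Nat.cast_add, Nat.cast_one, ← hqdef] at hz
    have hzd : ((q : ℤ) ^ d + 1) ∣ (Nat.card {w : Kˣ // Q (w : K) = 0} : ℤ) := by
      exact_mod_cast Int.natCast_dvd_natCast.2 hdvd'
    obtain ⟨t, ht⟩ := hzd
    rw [ht] at hz
    -- reduce modulo `q ^ d + 1`
    have h5 : ((q : ℤ) ^ d + 1) ∣ 2 - 2 * q := ⟨(q : ℤ) * t - ((q : ℤ) ^ d + (q : ℤ) - 2), by
      rw [show 2 * d = d + d by ring, pow_add] at hz
      linear_combination -hz⟩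
    have h6 : ((q : ℤ) ^ d + 1) ∣ 2 * q - 2 := by
      rw [← neg_sub, dvd_neg]; exact h5
    have hq' : (2 : ℤ) ≤ q := by exact_mod_cast hq
    have h7 := Int.le_of_dvd (by linarith) h6
    have h8 : (q : ℤ) ^ 1 ≤ (q : ℤ) ^ d := pow_le_pow_right₀ (by linarith) (by omega)
    rw [pow_one] at h8
    by_cases hd2 : 2 ≤ d
    · have h9 : (q : ℤ) ^ 2 ≤ (q : ℤ) ^ d := pow_le_pow_right₀ (by linarith) hd2
      nlinarith
    · have hd1 : d = 1 := by omega
      rw [hd1, pow_one] at h6 h7
      have h10 : (q : ℤ) + 1 ∣ 4 := by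
        have := dvd_sub (dvd_mul_left ((q : ℤ) + 1) 2) h6
        rwa [show 2 * ((q : ℤ) + 1) - (2 * q - 2) = 4 by ring] at this
      have h11 := Int.le_of_dvd (by norm_num) h10
      have hqq : q = 2 := by
        have heven : 2 ∣ q := by
          obtain ⟨n, -, hn⟩ := FiniteField.card F 2
          rw [hqdef, hn]
          exact dvd_pow_self 2 n.ne_zero
        omega
      rw [hqq] at h10
      norm_num at h10
  have hk : k = k' := by omega
  subst hk
  obtain ⟨g, hg⟩ := QuadClassify.iso_minus Q hdec hW hab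
  have hg' : ∀ x, CharTwoInvolForms.qfMinus k a b (g x) = Q x := fun x => by
    rw [CharTwoInvolForms.qfMinus_apply, hg]
  obtain ⟨cc, hcc⟩ := hdvd
  let z : Kˣ := u ^ cc
  have hcc0 : cc ≠ 0 := by rintro rfl; omega
  have hz : orderOf z = r := by
    rw [orderOf_pow' u hcc0, hu, hcc, Nat.gcd_mul_left_left,
      Nat.mul_div_cancel _ (Nat.pos_of_ne_zero hcc0)]
  let L : K ≃ₗ[F] K :=
    { toFun := fun x => (z : K) * x
      invFun := fun x => ((z⁻¹ : Kˣ) : K) * x
      map_add' := mul_add _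
      map_smul' := fun a x => mul_smul_comm a _ _
      left_inv := fun x => by simp only [← mul_assoc, Units.inv_mul, one_mul]
      right_inv := fun x => by simp only [← mul_assoc, Units.mul_inv, one_mul] }
  let gK : orth Q := ⟨L, fun x => hU z (Subgroup.npow_mem_zpowers u cc) x⟩
  have hfix : ∀ x, gK.1 x = x → x = 0 := fun x hx => by
    by_contra h0
    have : (z : K) = 1 := mul_right_cancel₀ h0 (by rw [one_mul]; exact hx)
    exact hr.one_lt.ne (by rw [← hz, Units.val_eq_one.1 this, orderOf_one])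
  have hpow : ∀ (n : ℕ) (x : K), (gK ^ n).1 x = (z : K) ^ n * x := by
    intro n
    induction n with
    | zero => intro x; simp
    | succ n ih => intro x; rw [pow_succ', orth_mul_apply, ih, pow_succ', mul_assoc]; rfl
  refine ⟨orthCongr g hg' gK, ?_, fun h => ?_, fun v hv => ?_⟩
  · rw [← map_pow, show gK ^ r = 1 from orth_ext fun x => by
      rw [hpow, ← Units.val_pow_eq_pow_val, ← hz, pow_orderOf_eq_one, Units.val_one, one_mul]; rfl,
      map_one]
  · rw [← map_one (orthCongr g hg'), (orthCongr g hg').injective.eq_iff] at h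
    exact one_ne_zero (hfix 1 (by rw [h]; rfl))
  · have : g (gK.1 (g.symm v)) = v := hv
    have h2 : gK.1 (g.symm v) = g.symm v := g.injective (by rw [this, g.apply_symm_apply])
    rw [← g.apply_symm_apply v, hfix _ h2, map_zero]

end Elements

end Cfsg.Agent.CharTwoPointFree61
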