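import Mathlib

/-!
Linear groups with the translation property of binary affine groups, basic facts.
-/

set_option autoImplicit false
set_option linter.unusedSectionVars false

namespace Cfsg.Agent.CherlinBinary73

open Module

variable {K V : Type*} [Field K] [AddCommGroup V] [Module K V]

/-- The fixed space. -/
def fx (g : V ≃ₗ[K] V) : Submodule K V := LinearMap.ker ((g : V →ₗ[K] V) - 1)

/-- The space of displacements. -/
def mv (g : V ≃ₗ[K] V) : Submodule K V := LinearMap.range ((g : V →ₗ[K] V) - 1)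

theorem mem_fx {g : V ≃ₗ[K] V} {v : V} : v ∈ fx g ↔ g v = v := by
  simp [fx, LinearMap.mem_ker, sub_eq_zero]

theorem mem_mv {g : V ≃ₗ[K] V} {v : V} : v ∈ mv g ↔ ∃ w, g w = w + v := by
  simp [mv, LinearMap.mem_range, sub_eq_iff_eq_add, add_comm]

theorem sub_mem_mv (g : V ≃ₗ[K] V) (w : V) : g w - w ∈ mv g :=
  mem_mv.2 ⟨w, by abel⟩

theorem finrank_fx_add_mv [FiniteDimensional K V] (g : V ≃ₗ[K] V) :
    finrank K (mv g) + finrank K (fx g) = finrank K V :=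
  LinearMap.finrank_range_add_finrank_ker _

theorem mv_ne_bot {g : V ≃ₗ[K] V} (h : g ≠ 1) : mv g ≠ ⊥ := fun e => h (LinearEquiv.ext fun w => by
  have := sub_mem_mv g w
  rw [e, Submodule.mem_bot, sub_eq_zero] at this
  exact this)

theorem eq_one_of_fx_top {g : V ≃ₗ[K] V} (h : fx g = ⊤) : g = 1 :=
  LinearEquiv.ext fun w => mem_fx.1 (h ▸ Submodule.mem_top)

theorem mv_conj (γ g : V ≃ₗ[K] V) {v : V} :
    v ∈ mv (γ * g * γ⁻¹) ↔ γ⁻¹ v ∈ mv g := by
  rw [mem_mv, mem_mv]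
  constructor
  · rintro ⟨w, hw⟩
    exact ⟨γ⁻¹ w, by
      have := congrArg (fun x => γ⁻¹ x) hw
      simpa [LinearEquiv.mul_apply] using this⟩
  · rintro ⟨w, hw⟩
    exact ⟨γ w, by simp [LinearEquiv.mul_apply, hw]⟩

theorem fx_conj (γ g : V ≃ₗ[K] V) {v : V} :
    v ∈ fx (γ * g * γ⁻¹) ↔ γ⁻¹ v ∈ fx g := by
  rw [mem_fx, mem_fx]
  constructor
  · intro hw
    simpa [LinearEquiv.mul_apply] using congrArg (fun x => γ⁻¹ x) hw
  · intro hw
    have := congrArg (fun x => γ x) hw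
    simpa [LinearEquiv.mul_apply] using this

theorem finrank_mv_conj (γ g : V ≃ₗ[K] V) :
    finrank K (mv (γ * g * γ⁻¹)) = finrank K (mv g) := by
  have h : mv (γ * g * γ⁻¹) = (mv g).map (γ : V →ₗ[K] V) := by
    ext v
    rw [mv_conj, Submodule.mem_map_equiv]
    rfl
  rw [h]
  exact (γ.finrank_map_eq (mv g))

/-- The consequence of binarity: translations of a set which are possible pointwise are possible
simultaneously. -/
def Bin (H : Subgroup (V ≃ₗ[K] V)) : Prop :=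
  ∀ (W : Set V) (y : V), (∀ w ∈ W, ∃ h ∈ H, h w = w + y) → ∃ h ∈ H, ∀ w ∈ W, h w = w + y

/-- No proper non-zero invariant subspace. -/
def Irred (H : Subgroup (V ≃ₗ[K] V)) : Prop :=
  ∀ S : Submodule K V, (∀ h ∈ H, ∀ s ∈ S, h s ∈ S) → S = ⊥ ∨ S = ⊤

/-- The final shape: a fixed point free abelian subgroup of index two, of order `q + 1`, inverted by
an element with a fixed vector, with `q ^ 2` vectors in all. -/
def Shape (H : Subgroup (V ≃ₗ[K] V)) : Prop :=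
  ∃ (R : Subgroup (V ≃ₗ[K] V)) (t : V ≃ₗ[K] V) (f : ℕ), 0 < f ∧
    Nat.card V = (Nat.card K ^ f) ^ 2 ∧ Nat.card R = Nat.card K ^ f + 1 ∧
    (∀ a ∈ R, ∀ b ∈ R, a * b = b * a) ∧ (∀ r ∈ R, r ≠ 1 → ∀ v : V, r v = v → v = 0) ∧
    R ≤ H ∧ t ∈ H ∧ t * t = 1 ∧ (∀ r ∈ R, t * r * t = r⁻¹) ∧ (∃ u : V, u ≠ 0 ∧ t u = u) ∧
    ∀ h ∈ H, h ∈ R ∨ h * t ∈ R

/-- The maximum simultaneous translation by `y`. -/
theorem exists_shift {H : Subgroup (V ≃ₗ[K] V)} (hB : Bin H) (y : V) :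
    ∃ h ∈ H, ∀ w, (∃ k ∈ H, k w = w + y) → h w = w + y := by
  obtain ⟨h, hh, h1⟩ := hB {w | ∃ k ∈ H, k w = w + y} y fun w hw => hw
  exact ⟨h, hh, h1⟩

/-- If `k` moves `w` by `y` then some element moves both `w` and `-(w + y)` by `y`. -/
theorem exists_shift_reflect {H : Subgroup (V ≃ₗ[K] V)} (hB : Bin H) {k : V ≃ₗ[K] V} (hk : k ∈ H)
    {w y : V} (hw : k w = w + y) :
    ∃ h ∈ H, h (w + w + y) = w + w + y ∧ ∀ x, (∃ k ∈ H, k x = x + y) → h x = x + y := by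
  obtain ⟨h, hh, h1⟩ := exists_shift hB y
  refine ⟨h, hh, ?_, h1⟩
  have h2 : k⁻¹ (-(w + y)) = -(w + y) + y := by
    rw [map_neg, ← hw]
    show -(k⁻¹ * k) w = _
    simp [hw]
  have a := h1 w ⟨k, hk, hw⟩
  have b := h1 _ ⟨k⁻¹, H.inv_mem hk, h2⟩
  rw [map_neg, map_add, a] at b
  have c : h y = -y := by
    have := congrArg (fun x => -x) b
    simp only [neg_neg, neg_add_rev] at this
    rw [eq_neg_iff_add_eq_zero]
    calc h y + y = (w + y + h y) - w := by abel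
    _ = 0 := by rw [this]; abel
  rw [map_add, map_add, a, c]
  abel

end Cfsg.Agent.CherlinBinary73
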