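import Mathlib
import Cfsg.Agent.Lib.CherlinBinary73Basic

/-!
A fixed point free abelian group of order `q + 1` on a space with `q ^ 2` vectors makes it a field.
-/

set_option autoImplicit false
set_option linter.unusedSectionVars false

namespace Cfsg.Agent.CherlinBinary73

open Module

theorem dvd_pow_sub_one {p f d : ℕ} (hp : 1 < p) (hd : 1 ≤ d) (hd2 : d ≤ 2 * f)
    (h : p ^ f + 1 ∣ p ^ d - 1) : d = 2 * f := by
  by_contra hne
  have hpd : 2 ≤ p ^ d := le_trans hp (Nat.le_self_pow (by omega) p)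
  rcases le_or_gt d f with hle | hlt
  · have h1 := Nat.le_of_dvd (by omega) h
    have h2 := Nat.pow_le_pow_right (show 0 < p by omega) hle
    omega
  · obtain ⟨e, rfl⟩ : ∃ e, d = f + e := ⟨d - f, by omega⟩
    have h1 : p ^ f + 1 ∣ p ^ e + 1 := by
      refine (Nat.dvd_add_right h).1 ⟨p ^ e, ?_⟩
      rw [add_mul, one_mul, ← pow_add]
      omega
    have h2 := Nat.le_of_dvd (by omega) h1
    have h3 : p ^ e < p ^ f := Nat.pow_lt_pow_right hp (by omega)
    omega

variable {p : ℕ} [Fact p.Prime] {V : Type*} [AddCommGroup V] [Module (ZMod p) V] [Finite V]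

theorem free_stable_eq_top {R : Subgroup (V ≃ₗ[ZMod p] V)} {f : ℕ}
    (hcV : Nat.card V = (p ^ f) ^ 2) (hcR : Nat.card R = p ^ f + 1)
    (hfree : ∀ r ∈ R, r ≠ 1 → ∀ v : V, r v = v → v = 0) (S : Submodule (ZMod p) V)
    (hS : ∀ r ∈ R, ∀ s ∈ S, r s ∈ S) (hne : S ≠ ⊥) : S = ⊤ := by
  classical
  let X := {v : V // v ∈ S ∧ v ≠ 0}
  letI : MulAction R X :=
    { smul := fun r x => ⟨r.1 x.1, hS r.1 r.2 x.1 x.2.1,
        fun h => x.2.2 ((LinearEquiv.map_eq_zero_iff _).1 h)⟩
      one_smul := fun x => Subtype.ext rfl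
      mul_smul := fun r s x => Subtype.ext rfl }
  have hstab : ∀ x : X, MulAction.stabilizer R x = ⊥ := fun x => by
    refine (Subgroup.eq_bot_iff_forall _).2 fun r hr => ?_
    by_contra h
    exact x.2.2 (hfree r.1 r.2 (fun e => h (Subtype.ext e)) x.1 (congrArg Subtype.val hr))
  have hdvd : p ^ f + 1 ∣ Nat.card X := by
    rw [Nat.card_congr (MulAction.selfEquivOrbitsQuotientProd hstab), Nat.card_prod, hcR]
    exact dvd_mul_left _ _
  have hX : Nat.card X = Nat.card S - 1 := by
    have e : X ≃ {v : S // v ≠ 0} :=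
      { toFun := fun x => ⟨⟨x.1, x.2.1⟩, fun h => x.2.2 (congrArg Subtype.val h)⟩
        invFun := fun v => ⟨v.1.1, v.1.2, fun h => v.2 (Subtype.ext h)⟩
        left_inv := fun x => rfl
        right_inv := fun v => rfl }
    have : Fintype S := Fintype.ofFinite S
    rw [Nat.card_congr e, Nat.card_eq_fintype_card, Nat.card_eq_fintype_card,
      Fintype.card_subtype_compl, Fintype.card_subtype_eq]
  have hV : finrank (ZMod p) V = 2 * f := by
    have h := FiniteField.pow_finrank_eq_natCard p V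
    rw [hcV, ← pow_mul, mul_comm] at h
    exact Nat.pow_right_injective (Fact.out : p.Prime).two_le h
  rw [hX, ← FiniteField.pow_finrank_eq_natCard p S] at hdvd
  have h1 : 1 ≤ finrank (ZMod p) S := Nat.pos_of_ne_zero fun e => hne (Submodule.finrank_eq_zero.1 e)
  exact Submodule.eq_top_of_finrank_eq ((dvd_pow_sub_one (Fact.out : p.Prime).one_lt h1
    (hV ▸ Submodule.finrank_le S) hdvd).trans hV.symm)

/-- The field attached to the shape. -/
theorem field_model {H : Subgroup (V ≃ₗ[ZMod p] V)} (hS : Shape H) :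
    ∃ (F E : Type) (_ : Field F) (_ : Fintype F) (_ : Field E) (_ : Fintype E) (_ : Algebra F E)
      (ψ : V ≃+ E), finrank F E = 2 ∧
      (∀ h ∈ H, ∃ (a : E) (φ : E ≃ₐ[F] E), Algebra.norm F a = 1 ∧
        ∀ v, ψ (h v) = a * φ (ψ v)) ∧
      ∀ (a : E) (φ : E ≃ₐ[F] E), Algebra.norm F a = 1 →
        ∃ h ∈ H, ∀ v, ψ (h v) = a * φ (ψ v) := by
  classical
  obtain ⟨R, t, f, hf, hcV, hcR, hcomm, hfree, hRH, htH, htt, htr, ⟨u, hu0, htu⟩, hidx⟩ := hS
  rw [Nat.card_zmod] at hcV hcR
  set q := p ^ f with hq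
  have hq1 : 2 ≤ q := le_trans (Fact.out : p.Prime).two_le (Nat.le_self_pow (by omega) p)
  have : Finite (Module.End (ZMod p) V) := Finite.of_injective _ DFunLike.coe_injective
  have : Finite (V ≃ₗ[ZMod p] V) := Finite.of_injective _ DFunLike.coe_injective
  -- the algebra generated by `R`
  let gens : Set (Module.End (ZMod p) V) := (fun r : V ≃ₗ[ZMod p] V => (r : V →ₗ[ZMod p] V)) '' (R : Set (V ≃ₗ[ZMod p] V))
  let A := Algebra.adjoin (ZMod p) gens
  have : IsMulCommutative A := Algebra.isMulCommutative_adjoin _ (by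
    rintro _ ⟨x, hx, rfl⟩ _ ⟨y, hy, rfl⟩
    exact LinearMap.ext fun v => LinearEquiv.congr_fun (hcomm x hx y hy) v)
  have hmc : ∀ x y : A, x * y = y * x := fun x y => mul_comm' x y
  have hgen : ∀ r ∈ R, ((r : V →ₗ[ZMod p] V) : Module.End (ZMod p) V) ∈ A :=
    fun r hr => Algebra.subset_adjoin ⟨r, hr, rfl⟩
  let ev : A →ₗ[ZMod p] V :=
    { toFun := fun φ => φ.1 u
      map_add' := fun x y => rfl
      map_smul' := fun c x => rfl }
  have hevsurj : Function.Surjective ev := by
    rw [← LinearMap.range_eq_top]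
    refine free_stable_eq_top hcV hcR hfree _ ?_ ?_
    · rintro r hr _ ⟨φ, rfl⟩
      exact ⟨⟨_, hgen r hr⟩ * φ, rfl⟩
    · intro e
      exact hu0 ((Submodule.eq_bot_iff _).1 e u ⟨1, rfl⟩)
  have hevinj : Function.Injective ev := by
    intro x y h
    refine Subtype.ext (LinearMap.ext fun v => ?_)
    obtain ⟨ψ, rfl⟩ := hevsurj v
    show x.1 (ψ.1 u) = y.1 (ψ.1 u)
    calc x.1 (ψ.1 u) = (x * ψ).1 u := rfl
    _ = ψ.1 (x.1 u) := by rw [hmc]; rfl
    _ = ψ.1 (y.1 u) := congrArg ψ.1 h
    _ = (ψ * y).1 u := rfl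
    _ = y.1 (ψ.1 u) := by rw [hmc]; rfl
  have hfield : IsField A := by
    refine ⟨⟨0, 1, fun h => hu0 ?_⟩, hmc, fun {φ} hφ => ?_⟩
    · exact (congrArg ev h).symm
    have hr : LinearMap.range φ.1 = ⊤ := by
      refine free_stable_eq_top hcV hcR hfree _ ?_ ?_
      · rintro r hr _ ⟨v, rfl⟩
        exact ⟨r v, LinearMap.congr_fun (congrArg Subtype.val (hmc φ ⟨_, hgen r hr⟩)) v⟩
      · intro e
        exact hφ (Subtype.ext (LinearMap.range_eq_bot.1 e))
    obtain ⟨v, hv⟩ := LinearMap.range_eq_top.1 hr u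
    obtain ⟨χ, rfl⟩ := hevsurj v
    exact ⟨χ, hevinj (a₁ := φ * χ) hv⟩
  letI : Field A := hfield.toField
  have : Fintype A := Fintype.ofFinite A
  -- transfer to the Galois fields
  have hcA : Nat.card A = p ^ (2 * f) := by
    rw [Nat.card_eq_of_bijective ev ⟨hevinj, hevsurj⟩, hcV, ← pow_mul, mul_comm]
  letI : Fintype (GaloisField p (2 * f)) := Fintype.ofFinite _
  letI : Fintype (GaloisField p f) := Fintype.ofFinite _
  obtain ⟨θ⟩ : Nonempty (A ≃+* GaloisField p (2 * f)) := ⟨FiniteField.ringEquivOfCardEq (by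
    rw [Fintype.card_eq_nat_card, Fintype.card_eq_nat_card, hcA, GaloisField.card p _ (by omega)])⟩
  obtain ⟨emb⟩ := FiniteField.nonempty_algHom_of_finrank_dvd (F := ZMod p) (K := GaloisField p f)
    (L := GaloisField p (2 * f))
    (by rw [GaloisField.finrank p (by omega), GaloisField.finrank p (by omega)]; exact ⟨2, mul_comm _ _⟩)
  letI alg : Algebra (GaloisField p f) (GaloisField p (2 * f)) := emb.toRingHom.toAlgebra
  have hcF : Nat.card (GaloisField p f) = q := GaloisField.card p f (by omega)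
  have hcE : Nat.card (GaloisField p (2 * f)) = q ^ 2 := by
    rw [GaloisField.card p _ (by omega), hq, ← pow_mul, mul_comm]
  have hrank : finrank (GaloisField p f) (GaloisField p (2 * f)) = 2 := by
    have h := Module.natCard_eq_pow_finrank (K := GaloisField p f) (V := GaloisField p (2 * f))
    rw [hcE, hcF] at h
    exact (Nat.pow_right_injective hq1 h).symm
  have hnorm : ∀ a : GaloisField p (2 * f),
      Algebra.norm (GaloisField p f) a = 1 ↔ a ^ (q + 1) = 1 := by
    intro a
    have h := FiniteField.algebraMap_norm_eq_pow (K := GaloisField p f)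
      (K' := GaloisField p (2 * f)) (x := a)
    rw [hcE, hcF, show q ^ 2 - 1 = (q + 1) * (q - 1) by
      simpa [pow_two] using Nat.mul_self_sub_mul_self_eq q 1,
      Nat.mul_div_cancel _ (by omega)] at h
    rw [← h, map_eq_one_iff _ (algebraMap (GaloisField p f) (GaloisField p (2 * f))).injective]
  -- the conjugation by `t`
  have hrpow : ∀ r ∈ R, r ^ (q + 1) = 1 := fun r hr => by
    have h := pow_card_eq_one' (x := (⟨r, hr⟩ : R))
    rw [hcR] at h
    exact congrArg Subtype.val h
  have htconj : ∀ φ : A, ∀ v, t (φ.1 (t v)) = (φ ^ q).1 v := by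
    have : CharP (GaloisField p (2 * f)) p := inferInstance
    rintro ⟨φ, hφ⟩
    induction hφ using Algebra.adjoin_induction with
    | mem x hx =>
      obtain ⟨r, hr, rfl⟩ := hx
      intro v
      have e : r ^ q = r⁻¹ := eq_inv_of_mul_eq_one_left (by rw [← pow_succ, hrpow r hr])
      have e' : (((⟨_, hgen r hr⟩ : A) ^ q).1 : Module.End (ZMod p) V) v = (r ^ q) v := by
        rw [SubmonoidClass.coe_pow]
        show ((r : V →ₗ[ZMod p] V) ^ q) v = _
        rw [Module.End.coe_pow, LinearEquiv.coe_pow]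
        rfl
      refine Eq.trans ?_ e'.symm
      rw [e, ← htr r hr]
      rfl
    | algebraMap c =>
      intro v
      have e : (algebraMap (ZMod p) A c) ^ q = algebraMap (ZMod p) A c := by
        rw [← map_pow, hq, ZMod.pow_card_pow]
      refine Eq.trans ?_ (congrArg (fun z : A => z.1 v) e).symm
      show t (c • t v) = c • v
      rw [map_smul, ← LinearEquiv.mul_apply, htt]
      rfl
    | add x y hx hy ihx ihy =>
      intro v
      have e : ((⟨x, hx⟩ : A) + ⟨y, hy⟩) ^ q = (⟨x, hx⟩ : A) ^ q + (⟨y, hy⟩ : A) ^ q := by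
        apply θ.injective
        simp only [map_pow, map_add, hq]
        exact add_pow_char_pow _ _ p f
      refine Eq.trans ?_ (congrArg (fun z : A => z.1 v) e).symm
      show t (x (t v) + y (t v)) = _ + _
      rw [map_add, ihx v, ihy v]
    | mul x y hx hy ihx ihy =>
      intro v
      have e : ((⟨x, hx⟩ : A) * ⟨y, hy⟩) ^ q = (⟨x, hx⟩ : A) ^ q * (⟨y, hy⟩ : A) ^ q :=
        Commute.mul_pow (hmc _ _) q
      refine Eq.trans ?_ (congrArg (fun z : A => z.1 v) e).symm
      show t (x (y (t v))) = ((⟨x, hx⟩ : A) ^ q).1 (((⟨y, hy⟩ : A) ^ q).1 v)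
      rw [← ihy v, ← ihx (t (y (t v)))]
      show t (x (y (t v))) = t (x ((t * t) (y (t v))))
      rw [htt]
      rfl
  -- the coordinates
  let ψ : V ≃+ GaloisField p (2 * f) :=
    (LinearEquiv.ofBijective ev ⟨hevinj, hevsurj⟩).symm.toAddEquiv.trans θ.toAddEquiv
  have hψev : ∀ φ : A, ψ (φ.1 u) = θ φ := fun φ =>
    congrArg θ ((LinearEquiv.ofBijective ev ⟨hevinj, hevsurj⟩).symm_apply_apply φ)
  have hψR : ∀ r (hr : r ∈ R), ∀ v, ψ (r v) = θ ⟨_, hgen r hr⟩ * ψ v := by
    intro r hr v
    obtain ⟨φ, rfl⟩ := hevsurj v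
    show ψ ((⟨_, hgen r hr⟩ * φ : A).1 u) = _ * ψ (φ.1 u)
    rw [hψev, hψev, map_mul]
  have hψt : ∀ v, ψ (t v) = ψ v ^ q := by
    intro v
    obtain ⟨φ, rfl⟩ := hevsurj v
    show ψ (t (φ.1 u)) = ψ (φ.1 u) ^ q
    rw [hψev, ← map_pow, ← hψev, ← htconj φ u, htu]
  have hnormR : ∀ r (hr : r ∈ R),
      Algebra.norm (GaloisField p f) (θ ⟨_, hgen r hr⟩) = 1 := by
    intro r hr
    rw [hnorm, ← map_pow, ← map_one θ]
    congr 1
    refine Subtype.ext ?_
    rw [SubmonoidClass.coe_pow]
    refine LinearMap.ext fun v => ?_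
    show ((r : V →ₗ[ZMod p] V) ^ (q + 1)) v = v
    rw [Module.End.coe_pow]
    show (r : V → V)^[q + 1] v = v
    rw [← LinearEquiv.coe_pow, hrpow r hr]
    rfl
  let σ : GaloisField p (2 * f) ≃ₐ[GaloisField p f] GaloisField p (2 * f) :=
    FiniteField.frobeniusAlgEquivOfAlgebraic (GaloisField p f) (GaloisField p (2 * f))
  have hσ : ∀ x, σ x = x ^ q := fun x => by
    show (σ : _ → _) x = _
    rw [FiniteField.coe_frobeniusAlgEquivOfAlgebraic, Fintype.card_eq_nat_card, hcF]
  refine ⟨GaloisField p f, GaloisField p (2 * f), inferInstance, inferInstance, inferInstance,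
    inferInstance, alg, ψ, hrank, fun h hh => ?_, fun a φ ha => ?_⟩
  · rcases hidx h hh with hr | hr
    · exact ⟨_, AlgEquiv.refl, hnormR h hr, fun v => hψR h hr v⟩
    · refine ⟨_, σ, hnormR _ hr, fun v => ?_⟩
      rw [hσ, ← hψt, ← hψR _ hr, ← LinearEquiv.mul_apply, mul_assoc, htt, mul_one]
  · -- the norm one elements
    obtain ⟨r, hr, rfl⟩ : ∃ r, ∃ hr : r ∈ R, θ ⟨_, hgen r hr⟩ = a := by
      let P : Polynomial (GaloisField p (2 * f)) := Polynomial.X ^ (q + 1) - Polynomial.C 1
      let G : R → P.roots.toFinset := fun r => ⟨θ ⟨_, hgen r.1 r.2⟩, by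
        rw [Multiset.mem_toFinset, Polynomial.mem_roots (Polynomial.X_pow_sub_C_ne_zero (by omega) 1)]
        simp [P, (hnorm _).1 (hnormR r.1 r.2)]⟩
      have hG : Function.Injective G := fun r s h => Subtype.ext (LinearEquiv.toLinearMap_injective
        (congrArg Subtype.val (θ.injective (congrArg Subtype.val h))))
      have hle : Nat.card P.roots.toFinset ≤ Nat.card R := by
        rw [hcR, Nat.card_eq_finsetCard]
        refine (Multiset.toFinset_card_le _).trans ((Polynomial.card_roots' _).trans (le_of_eq ?_))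
        show (Polynomial.X ^ (q + 1) - Polynomial.C (1 : GaloisField p (2 * f))).natDegree = q + 1
        exact Polynomial.natDegree_X_pow_sub_C
      obtain ⟨r, hr⟩ := (hG.bijective_of_nat_card_le hle).2 ⟨a, by
        rw [Multiset.mem_toFinset, Polynomial.mem_roots (Polynomial.X_pow_sub_C_ne_zero (by omega) 1)]
        simp [P, (hnorm a).1 ha]⟩
      exact ⟨r.1, r.2, congrArg Subtype.val hr⟩
    rcases (show φ = AlgEquiv.refl ∨ φ = σ by
      by_contra hcon
      push Not at hcon
      have hne : σ ≠ AlgEquiv.refl := by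
        intro e
        let P : Polynomial (GaloisField p (2 * f)) := Polynomial.X ^ q - Polynomial.X
        have hP : P ≠ 0 := FiniteField.X_pow_card_sub_X_ne_zero _ hq1
        have hle : Nat.card (GaloisField p (2 * f)) ≤ Nat.card P.roots.toFinset :=
          Nat.card_le_card_of_injective (fun x => (⟨x, by
            rw [Multiset.mem_toFinset, Polynomial.mem_roots hP]
            simp [P, ← hσ x, e]⟩ : P.roots.toFinset)) fun x y h => congrArg Subtype.val h
        rw [Nat.card_eq_finsetCard, hcE] at hle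
        have hh := hle.trans ((Multiset.toFinset_card_le _).trans (Polynomial.card_roots' _))
        have hd : P.natDegree = q := FiniteField.X_pow_card_sub_X_natDegree_eq _ hq1
        rw [hd] at hh
        nlinarith
      have h3 : ({AlgEquiv.refl, σ, φ} : Finset (GaloisField p (2 * f) ≃ₐ[GaloisField p f]
          GaloisField p (2 * f))).card = 3 := Finset.card_eq_three.2
        ⟨_, _, _, hne.symm, hcon.1.symm, hcon.2.symm, rfl⟩
      have h2 : Fintype.card (GaloisField p (2 * f) ≃ₐ[GaloisField p f] GaloisField p (2 * f)) = 2 := by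
        rw [Fintype.card_eq_nat_card, IsGalois.card_aut_eq_finrank, hrank]
      have h4 := Finset.card_le_univ ({AlgEquiv.refl, σ, φ} : Finset (GaloisField p (2 * f)
          ≃ₐ[GaloisField p f] GaloisField p (2 * f)))
      rw [h3, h2] at h4
      omega) with rfl | rfl
    · exact ⟨r, hRH hr, fun v => hψR r hr v⟩
    · refine ⟨r * t, H.mul_mem (hRH hr) htH, fun v => ?_⟩
      rw [LinearEquiv.mul_apply, hψR r hr, hψt, hσ]

end Cfsg.Agent.CherlinBinary73
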