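import Mathlib
import Cfsg.Agent.Lib.CherlinBinary73Basic

/-!
Linear parts of binary affine groups in odd characteristic: minimal displacement spaces, planes,
and the absence of three mutually orthogonal ones.
-/

set_option autoImplicit false
set_option linter.unusedSectionVars false

namespace Cfsg.Agent.CherlinBinary73

open Module

variable {K V : Type*} [Field K] [AddCommGroup V] [Module K V] [FiniteDimensional K V]
variable {H : Subgroup (V ≃ₗ[K] V)}

/-- `v` is negated by some element. -/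
def Neg (H : Subgroup (V ≃ₗ[K] V)) (v : V) : Prop := ∃ h ∈ H, h v = -v

/-- `c` is perpendicular to `v`. -/
def Perp (H : Subgroup (V ≃ₗ[K] V)) (v c : V) : Prop := ∃ h ∈ H, h (c - v) = c + v

/-- An element with a smallest space of displacements. -/
structure IsLeast' (H : Subgroup (V ≃ₗ[K] V)) (t : V ≃ₗ[K] V) : Prop where
  mem : t ∈ H
  ne : t ≠ 1
  le : ∀ g ∈ H, g ≠ 1 → finrank K (mv t) ≤ finrank K (mv g)

/-- A subspace which is covered by the displacement spaces it contains. -/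
def Cov (H : Subgroup (V ≃ₗ[K] V)) (S : Submodule K V) : Prop :=
  ∀ v ∈ S, v ≠ 0 → ∃ a, IsLeast' H a ∧ v ∈ mv a ∧ mv a ≤ S

section

variable (hB : Bin H) (h2 : (2 : K) ≠ 0)
include hB h2

omit hB in
theorem add_self_inj {a b : V} (h : a + a = b + b) : a = b := by
  rw [← two_smul K a, ← two_smul K b] at h
  exact smul_right_injective V h2 h

omit hB in
theorem zero_of_eq_neg {a : V} (h : a = -a) : a = 0 :=
  add_self_inj h2 (by rw [add_zero]; nth_rw 2 [h]; exact add_neg_cancel a)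

omit hB in
theorem exists_half (y : V) : ∃ v : V, v + v = y :=
  ⟨(2 : K)⁻¹ • y, by rw [← add_smul, ← two_mul, mul_inv_cancel₀ h2, one_smul]⟩

omit hB in
theorem half_mem {S : Submodule K V} {v : V} (h : v + v ∈ S) : v ∈ S := by
  rw [← two_smul K v] at h
  exact (S.smul_mem_iff h2).1 h

theorem of_move {g : V ≃ₗ[K] V} (hg : g ∈ H) {w v : V} (hw : g w = w + (v + v)) :
    Neg H v ∧ Perp H v (w + v) := by
  refine ⟨?_, g, hg, by rw [add_sub_cancel_right, hw, add_assoc]⟩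
  obtain ⟨h, hh, hfix, h1⟩ := exists_shift_reflect hB hg hw
  have hwv : h (w + v) = w + v := add_self_inj h2 (by
    rw [← map_add, show w + v + (w + v) = w + w + (v + v) by abel, hfix])
  refine ⟨h, hh, ?_⟩
  rw [map_add, h1 w ⟨g, hg, hw⟩] at hwv
  calc h v = w + (v + v) + h v - (w + (v + v)) := by abel
  _ = w + v - (w + (v + v)) := by rw [hwv]
  _ = -v := by abel

/-- The largest negating element. -/
theorem exists_negater {v : V} (hv : Neg H v) :
    ∃ h ∈ H, h v = -v ∧ ∀ c, Perp H v c → h c = c := by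
  obtain ⟨h, hh, h1⟩ := exists_shift hB (v + v) (H := H)
  obtain ⟨k, hk, hkv⟩ := hv
  have ha : h (-v) = -v + (v + v) := h1 _ ⟨k, hk, by rw [map_neg, hkv]; abel⟩
  have hv' : h v = -v := by
    rw [map_neg] at ha
    rw [← neg_neg (h v), ha]
    abel
  refine ⟨h, hh, hv', fun c ⟨k, hk, hkc⟩ => ?_⟩
  have hb := h1 (c - v) ⟨k, hk, by rw [hkc]; abel⟩
  rw [map_sub, hv', sub_eq_iff_eq_add] at hb
  rw [hb]
  abel

theorem neg_of_mem_mv {g : V ≃ₗ[K] V} (hg : g ∈ H) {v : V} (hv : v ∈ mv g) : Neg H v := by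
  obtain ⟨w, hw⟩ := mem_mv.1 hv
  exact (of_move hB h2 hg (w := w + w) (by rw [map_add, hw]; abel)).1

theorem perp_of_fx {g : V ≃ₗ[K] V} (hg : g ∈ H) {v c : V} (hv : v ∈ mv g) (hc : c ∈ fx g) :
    Perp H v c := by
  obtain ⟨w₀, hw₀⟩ := mem_mv.1 hv
  have hw : g (w₀ + w₀) = w₀ + w₀ + (v + v) := by rw [map_add, hw₀]; abel
  obtain ⟨h, hh, hhv, hP⟩ := exists_negater hB h2 (neg_of_mem_mv hB h2 hg hv)
  have h1 := hP _ (of_move hB h2 hg hw).2
  have h3 := hP _ (of_move hB h2 hg (w := w₀ + w₀ + c) (v := v)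
    (by rw [map_add, hw, mem_fx.1 hc]; abel)).2
  refine ⟨h, hh, ?_⟩
  rw [show w₀ + w₀ + c + v = c + (w₀ + w₀ + v) by abel, map_add, h1, add_left_inj] at h3
  rw [map_sub, h3, hhv, sub_neg_eq_add]

/-- An element negating `v` and fixing what `g` fixes. -/
theorem exists_negater_fx {g : V ≃ₗ[K] V} (hg : g ∈ H) {v : V} (hv : v ∈ mv g) :
    ∃ h ∈ H, h v = -v ∧ fx g ≤ fx h ∧ ∀ c, Perp H v c → h c = c := by
  obtain ⟨h, hh, hhv, hP⟩ := exists_negater hB h2 (neg_of_mem_mv hB h2 hg hv)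
  exact ⟨h, hh, hhv, fun c hc => mem_fx.2 (hP c (perp_of_fx hB h2 hg hv hc)), hP⟩

theorem fx_disj {g : V ≃ₗ[K] V} (hg : g ∈ H) {v : V} (hf : v ∈ fx g) (hm : v ∈ mv g) : v = 0 := by
  obtain ⟨h, -, hhv, hle, -⟩ := exists_negater_fx hB h2 hg hm
  exact zero_of_eq_neg h2 ((mem_fx.1 (hle hf)).symm.trans hhv)

theorem decomp {g : V ≃ₗ[K] V} (hg : g ∈ H) : fx g ⊔ mv g = ⊤ :=
  Submodule.eq_top_of_disjoint _ _
    (by have := finrank_fx_add_mv g; omega)
    (Submodule.disjoint_def.2 fun _ hf hm => fx_disj hB h2 hg hf hm)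

theorem exists_decomp {g : V ≃ₗ[K] V} (hg : g ∈ H) (x : V) :
    ∃ c ∈ fx g, ∃ q ∈ mv g, c + q = x :=
  Submodule.mem_sup.1 (decomp hB h2 hg ▸ Submodule.mem_top)

theorem mv_le_of_fx_le {g h : V ≃ₗ[K] V} (hg : g ∈ H) (hh : h ∈ H) (hle : fx g ≤ fx h) :
    mv h ≤ mv g := by
  intro x hx
  obtain ⟨c, hc, q, hq, hcq⟩ := exists_decomp hB h2 hg x
  obtain ⟨h', hh', hneg, hle', -⟩ := exists_negater_fx hB h2 hh hx
  obtain ⟨hp, hhp, hnegp, hlep, -⟩ := exists_negater_fx hB h2 hg hq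
  have hc' : h' c = c := mem_fx.1 (hle' (hle hc))
  have hk : (h' * hp) q = q + (c + c) := by
    rw [LinearEquiv.mul_apply, hnegp, map_neg]
    rw [← hcq, map_add, hc'] at hneg
    rw [eq_sub_of_add_eq' hneg]
    abel
  have hkc : (h' * hp) c = c := by
    rw [LinearEquiv.mul_apply, mem_fx.1 (hlep hc), hc']
  have h0 : c + c = 0 := fx_disj hB h2 (H.mul_mem hh' hhp)
    (mem_fx.2 (by rw [map_add, hkc])) (mem_mv.2 ⟨q, hk⟩)
  have hc0 : c = 0 := add_self_inj h2 (by rw [h0, add_zero])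
  rwa [← hcq, hc0, zero_add]

theorem fx_le_of_mv_le {g h : V ≃ₗ[K] V} (hg : g ∈ H) (hh : h ∈ H) (hle : mv h ≤ mv g) :
    fx g ≤ fx h := by
  intro c hc
  obtain ⟨v, hv⟩ := exists_half h2 (h c - c)
  have hvg : v ∈ mv g := half_mem h2 (hv ▸ hle (sub_mem_mv h c))
  obtain ⟨h', -, hneg, hle', hP⟩ := exists_negater_fx hB h2 hg hvg
  have h1 := hP _ (of_move hB h2 hh (w := c) (v := v) (by rw [hv]; abel)).2
  rw [map_add, mem_fx.1 (hle' hc), hneg, add_right_inj] at h1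
  rw [zero_of_eq_neg h2 h1.symm, add_zero] at hv
  exact mem_fx.2 (sub_eq_zero.1 hv.symm)

theorem symm_perp {v c : V} (hn : Neg H (v - c)) (h : Perp H v c) : Perp H c v := by
  obtain ⟨n, hn', hnv⟩ := hn
  obtain ⟨k, hk, hkc⟩ := h
  exact ⟨k * n, H.mul_mem hk hn', by rw [LinearEquiv.mul_apply, hnv, neg_sub, hkc, add_comm]⟩

/-! ### Least elements -/

omit hB h2 in
theorem IsLeast'.finrank_eq {t s : V ≃ₗ[K] V} (ht : IsLeast' H t) (hs : IsLeast' H s) :
    finrank K (mv t) = finrank K (mv s) :=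
  le_antisymm (ht.le s hs.mem hs.ne) (hs.le t ht.mem ht.ne)

omit hB h2 in
theorem IsLeast'.conj {t γ : V ≃ₗ[K] V} (ht : IsLeast' H t) (hγ : γ ∈ H) :
    IsLeast' H (γ * t * γ⁻¹) where
  mem := H.mul_mem (H.mul_mem hγ ht.mem) (H.inv_mem hγ)
  ne h := ht.ne (by simpa [mul_inv_eq_one] using h)
  le g hg hg1 := finrank_mv_conj γ t ▸ ht.le g hg hg1

omit hB h2 in
theorem IsLeast'.exists_ne {t : V ≃ₗ[K] V} (ht : IsLeast' H t) : ∃ v ∈ mv t, v ≠ 0 :=
  Submodule.exists_mem_ne_zero_of_ne_bot (mv_ne_bot ht.ne)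

omit hB in
theorem ne_one_of_neg {h : V ≃ₗ[K] V} {v : V} (hv : v ≠ 0) (hh : h v = -v) : h ≠ 1 := by
  rintro rfl
  exact hv (zero_of_eq_neg h2 hh)

/-- What is perpendicular to a vector of a least space is fixed. -/
theorem mem_fx_of_perp {t : V ≃ₗ[K] V} (ht : IsLeast' H t) {v c : V} (hv : v ∈ mv t) (h0 : v ≠ 0)
    (hc : Perp H v c) : c ∈ fx t := by
  obtain ⟨h, hh, hneg, hle, hP⟩ := exists_negater_fx hB h2 ht.mem hv
  have e1 := ht.le h hh (ne_one_of_neg h2 h0 hneg)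
  have e2 := finrank_fx_add_mv t
  have e3 := finrank_fx_add_mv h
  rw [Submodule.eq_of_le_of_finrank_le hle (by omega)]
  exact mem_fx.2 (hP c hc)

theorem least_neg {t : V ≃ₗ[K] V} (ht : IsLeast' H t) {w : V} (hw : w ∈ mv t) : t w = -w := by
  obtain ⟨a, ha⟩ := exists_half h2 (t w - w)
  have ham : a ∈ mv t := half_mem h2 (ha ▸ sub_mem_mv t w)
  by_cases h0 : a = 0
  · rw [h0, add_zero] at ha
    rw [fx_disj hB h2 ht.mem (mem_fx.2 (sub_eq_zero.1 ha.symm)) hw]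
    simp
  have h1 : w + a ∈ fx t :=
    mem_fx_of_perp hB h2 ht ham h0 (of_move hB h2 ht.mem (by rw [ha]; abel)).2
  have h3 := fx_disj hB h2 ht.mem h1 (add_mem hw ham)
  rw [eq_neg_of_add_eq_zero_left h3] at ha ⊢
  rw [neg_neg]
  calc t (-a) = a + a + -a := by rw [ha]; abel
  _ = a := by abel

theorem least_ext {t s : V ≃ₗ[K] V} (ht : IsLeast' H t) (hs : IsLeast' H s) {v : V}
    (hvt : v ∈ mv t) (hvs : v ∈ mv s) (h0 : v ≠ 0) : t = s := by
  have key : ∀ {t s : V ≃ₗ[K] V}, IsLeast' H t → IsLeast' H s → v ∈ mv t → v ∈ mv s →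
      fx s ≤ fx t := fun ht hs hvt hvs c hc =>
    mem_fx_of_perp hB h2 ht hvt h0 (perp_of_fx hB h2 hs.mem hvs hc)
  have h1 := key ht hs hvt hvs
  have h3 := key hs ht hvs hvt
  refine LinearEquiv.ext fun x => ?_
  obtain ⟨c, hc, q, hq, rfl⟩ := exists_decomp hB h2 ht.mem x
  rw [map_add, map_add, mem_fx.1 hc, mem_fx.1 (h3 hc), least_neg hB h2 ht hq,
    least_neg hB h2 hs (mv_le_of_fx_le hB h2 hs.mem ht.mem h1 hq)]

theorem least_ext_le {t s : V ≃ₗ[K] V} (ht : IsLeast' H t) (hs : IsLeast' H s)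
    (hle : mv t ≤ mv s) : t = s := by
  obtain ⟨v, hv, h0⟩ := ht.exists_ne
  exact least_ext hB h2 ht hs hv (hle hv) h0

theorem least_mul_self {t : V ≃ₗ[K] V} (ht : IsLeast' H t) : t * t = 1 := LinearEquiv.ext fun x => by
  obtain ⟨c, hc, q, hq, rfl⟩ := exists_decomp hB h2 ht.mem x
  simp [LinearEquiv.mul_apply, mem_fx.1 hc, least_neg hB h2 ht hq]

theorem disjoint_mv {t s : V ≃ₗ[K] V} (ht : IsLeast' H t) (hs : IsLeast' H s) (hne : t ≠ s) :
    Disjoint (mv t) (mv s) :=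
  Submodule.disjoint_def.2 fun _ h1 h3 => by
    by_contra h0
    exact hne (least_ext hB h2 ht hs h1 h3 h0)

/-! ### Pairs -/

theorem fx_mul {t s : V ≃ₗ[K] V} (ht : IsLeast' H t) (hs : IsLeast' H s) (hne : t ≠ s) :
    fx (t * s) = fx t ⊓ fx s := by
  refine le_antisymm (fun c hc => ?_) fun c hc => mem_fx.2 (by
    rw [LinearEquiv.mul_apply, mem_fx.1 hc.2, mem_fx.1 hc.1])
  have h1 : s c = t c := by
    have h3 := congrArg (fun x => t x) (mem_fx.1 hc)
    simp only [LinearEquiv.mul_apply] at h3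
    rwa [← LinearEquiv.mul_apply, least_mul_self hB h2 ht] at h3
  have h3 : t c - c = 0 := Submodule.disjoint_def.1 (disjoint_mv hB h2 ht hs hne) _
    (sub_mem_mv t c) (h1 ▸ sub_mem_mv s c)
  rw [sub_eq_zero] at h3
  exact ⟨mem_fx.2 h3, mem_fx.2 (h1.trans h3)⟩

theorem mv_mul {t s : V ≃ₗ[K] V} (ht : IsLeast' H t) (hs : IsLeast' H s) (hne : t ≠ s) :
    mv (t * s) = mv t ⊔ mv s := by
  refine le_antisymm (fun v hv => ?_) (sup_le ?_ ?_)
  · obtain ⟨w, hw⟩ := mem_mv.1 hv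
    rw [LinearEquiv.mul_apply] at hw
    rw [show v = (t (s w) - s w) + (s w - w) by rw [hw]; abel]
    exact Submodule.add_mem_sup (sub_mem_mv _ _) (sub_mem_mv _ _)
  · exact mv_le_of_fx_le hB h2 (H.mul_mem ht.mem hs.mem) ht.mem
      (by rw [fx_mul hB h2 ht hs hne]; exact inf_le_left)
  · exact mv_le_of_fx_le hB h2 (H.mul_mem ht.mem hs.mem) hs.mem
      (by rw [fx_mul hB h2 ht hs hne]; exact inf_le_right)

theorem finrank_pair {t s : V ≃ₗ[K] V} (ht : IsLeast' H t) (hs : IsLeast' H s) (hne : t ≠ s) :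
    finrank K ↥(mv t ⊔ mv s) = 2 * finrank K (mv t) := by
  have h := Submodule.finrank_sup_add_finrank_inf_eq (mv t) (mv s)
  rw [(disjoint_mv hB h2 ht hs hne).eq_bot, finrank_bot, add_zero, ← ht.finrank_eq hs] at h
  omega

theorem mem_fx_symm {t s : V ≃ₗ[K] V} (ht : IsLeast' H t) (hs : IsLeast' H s) {z : V}
    (hzt : z ∈ mv t) (hzs : z ∈ fx s) (h0 : z ≠ 0) : mv s ≤ fx t := by
  have hne : t ≠ s := fun h => h0 (fx_disj hB h2 hs.mem hzs (h ▸ hzt))
  intro j hj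
  refine mem_fx_of_perp hB h2 ht hzt h0 (symm_perp hB h2 ?_ (perp_of_fx hB h2 hs.mem hj hzs))
  refine neg_of_mem_mv hB h2 (H.mul_mem ht.mem hs.mem) ?_
  rw [mv_mul hB h2 ht hs hne]
  exact sub_mem (Submodule.mem_sup_right hj) (Submodule.mem_sup_left hzt)

theorem orth_symm {t s : V ≃ₗ[K] V} (ht : IsLeast' H t) (hs : IsLeast' H s)
    (h : mv t ≤ fx s) : mv s ≤ fx t := by
  obtain ⟨z, hz, h0⟩ := ht.exists_ne
  exact mem_fx_symm hB h2 ht hs hz (h hz) h0

theorem orth_of_mem {t s : V ≃ₗ[K] V} (ht : IsLeast' H t) (hs : IsLeast' H s) {z : V}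
    (hzt : z ∈ mv t) (hzs : z ∈ fx s) (h0 : z ≠ 0) : mv t ≤ fx s :=
  orth_symm hB h2 hs ht (mem_fx_symm hB h2 ht hs hzt hzs h0)

theorem ne_of_orth {t s : V ≃ₗ[K] V} (ht : IsLeast' H t) (h : mv t ≤ fx s) : t ≠ s := by
  rintro rfl
  obtain ⟨z, hz, h0⟩ := ht.exists_ne
  exact h0 (fx_disj hB h2 ht.mem (h hz) hz)

/-- The only least space in `mv t ⊔ mv s` perpendicular to `mv t`. -/
theorem eq_of_orth_in {t s x : V ≃ₗ[K] V} (ht : IsLeast' H t) (hs : IsLeast' H s)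
    (hx : IsLeast' H x) (hts : mv s ≤ fx t) (hxt : mv x ≤ fx t) (hle : mv x ≤ mv t ⊔ mv s) :
    x = s := by
  refine least_ext_le hB h2 hx hs fun v hv => ?_
  obtain ⟨a, ha, b, hb, rfl⟩ := Submodule.mem_sup.1 (hle hv)
  have h := mem_fx.1 (hxt hv)
  rw [map_add, mem_fx.1 (hts hb), least_neg hB h2 ht ha, add_left_inj] at h
  rwa [zero_of_eq_neg h2 h.symm, zero_add]

theorem finrank_fx_inf {g h : V ≃ₗ[K] V} (hg : g ∈ H) (hle : fx g ≤ fx h) :
    finrank K ↥(fx h ⊓ mv g) + finrank K (mv h) = finrank K (mv g) := by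
  have h1 : fx h ⊔ mv g = ⊤ :=
    eq_top_iff.2 ((decomp hB h2 hg).symm.le.trans (sup_le_sup_right hle _))
  have h3 := Submodule.finrank_sup_add_finrank_inf_eq (fx h) (mv g)
  rw [h1, finrank_top] at h3
  have h4 := finrank_fx_add_mv h
  omega

/-- The plane of two least elements which are not perpendicular is covered. -/
theorem plane_cov {t s : V ≃ₗ[K] V} (ht : IsLeast' H t) (hs : IsLeast' H s) (hne : t ≠ s)
    (hno : ¬ mv t ≤ fx s) : Cov H (mv t ⊔ mv s) := by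
  have hg : t * s ∈ H := H.mul_mem ht.mem hs.mem
  rw [← mv_mul hB h2 ht hs hne]
  intro v hv hv0
  obtain ⟨h, hh, hneg, hle, hP⟩ := exists_negater_fx hB h2 hg hv
  have hmv := mv_le_of_fx_le hB h2 hg hh hle
  have hvh : v ∈ mv h := half_mem h2 (by
    have := neg_mem (sub_mem_mv h v)
    rwa [hneg, neg_sub, sub_neg_eq_add] at this)
  by_cases hsmall : finrank K (mv h) ≤ finrank K (mv t)
  · exact ⟨h, ⟨hh, ne_one_of_neg h2 hv0 hneg,
      fun g hg' hg1 => hsmall.trans (ht.le g hg' hg1)⟩, hvh, hmv⟩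
  exfalso
  have hfe : finrank K (mv (t * s)) = 2 * finrank K (mv t) := by
    rw [mv_mul hB h2 ht hs hne]
    exact finrank_pair hB h2 ht hs hne
  by_cases hD : fx h ⊓ mv (t * s) = ⊥
  · obtain ⟨w₀, hw₀⟩ := mem_mv.1 hv
    obtain ⟨c, hc, q, hq, rfl⟩ := exists_decomp hB h2 hg w₀
    have hq' : (t * s) (q + q) = q + q + (v + v) := by
      rw [map_add (t * s) c q, mem_fx.1 hc, add_assoc, add_right_inj] at hw₀
      rw [map_add, hw₀]
      abel
    have h1 : q + q + v ∈ fx h ⊓ mv (t * s) :=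
      ⟨mem_fx.2 (hP _ (of_move hB h2 hg hq').2), add_mem (add_mem hq hq) hv⟩
    rw [hD, Submodule.mem_bot] at h1
    rw [eq_neg_of_add_eq_zero_left h1, map_neg] at hq'
    have hgv : t (s v) = -v := by
      rw [← LinearEquiv.mul_apply, ← neg_neg ((t * s) v), hq']
      abel
    have hts := least_mul_self hB h2 ht
    have hss := least_mul_self hB h2 hs
    have hsv : s v = -t v := by
      have := congrArg (fun x => t x) hgv
      simp only [map_neg] at this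
      rwa [← LinearEquiv.mul_apply, hts] at this
    have e1 : v + s v ∈ fx s := mem_fx.2 (by
      rw [map_add, ← LinearEquiv.mul_apply s s, hss]
      show s v + v = v + s v
      abel)
    have e2 : v + s v ∈ mv t := by
      rw [hsv, ← sub_eq_add_neg, ← neg_sub]
      exact neg_mem (sub_mem_mv t v)
    have e3 : v + s v = 0 := by
      by_contra h0
      exact hno (orth_of_mem hB h2 ht hs e2 e1 h0)
    have e4 : s v = -v := eq_neg_of_add_eq_zero_right e3
    have e5 : v ∈ mv s := half_mem h2 (by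
      have := neg_mem (sub_mem_mv s v)
      rwa [e4, neg_sub, sub_neg_eq_add] at this)
    exact hno (mem_fx_symm hB h2 hs ht e5 (mem_fx.2 (neg_injective (hsv.symm.trans e4))) hv0)
  obtain ⟨w, hw, hw0⟩ := Submodule.exists_mem_ne_zero_of_ne_bot hD
  obtain ⟨k, hk, hknegw, hkle, hkP⟩ := exists_negater_fx hB h2 hg hw.2
  have h3 : mv h ≤ fx k ⊓ mv (t * s) := fun x hx => ⟨mem_fx.2 (hkP x (symm_perp hB h2
    (neg_of_mem_mv hB h2 hg (sub_mem (hmv hx) hw.2)) (perp_of_fx hB h2 hh hx hw.1))), hmv hx⟩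
  have e1 := Submodule.finrank_mono h3
  have e2 := finrank_fx_inf hB h2 hg hkle
  have e3 := ht.le k hk (ne_one_of_neg h2 hw0 hknegw)
  omega

theorem pm {g t : V ≃ₗ[K] V} (hg : g ∈ H) (ht : IsLeast' H t) {a : V} (ha : a ∈ mv t)
    (hga : g a ∈ mv t) : g a = a ∨ g a = -a := by
  obtain ⟨v, hv⟩ := exists_half h2 (g a - a)
  have hvm : v ∈ mv t := half_mem h2 (hv ▸ sub_mem hga ha)
  by_cases h0 : v = 0
  · rw [h0, add_zero] at hv
    exact Or.inl (sub_eq_zero.1 hv.symm)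
  right
  have h1 : a + v ∈ fx t :=
    mem_fx_of_perp hB h2 ht hvm h0 (of_move hB h2 hg (by rw [hv]; abel)).2
  have h3 := fx_disj hB h2 ht.mem h1 (add_mem ha hvm)
  rw [eq_neg_of_add_eq_zero_right h3] at hv
  rw [eq_add_of_sub_eq hv.symm]
  abel

theorem fix_all {g t : V ≃ₗ[K] V} (hg : g ∈ H) (ht : IsLeast' H t)
    (hinv : ∀ a ∈ mv t, g a ∈ mv t) {l : V} (hl : l ∈ mv t) (hl0 : l ≠ 0) (hgl : g l = l)
    {a : V} (ha : a ∈ mv t) : g a = a := by
  rcases pm hB h2 hg ht ha (hinv a ha) with h | h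
  · exact h
  rcases pm hB h2 hg ht (add_mem hl ha) (hinv _ (add_mem hl ha)) with h' | h' <;>
    rw [map_add, hgl, h] at h'
  · have := zero_of_eq_neg h2 (add_left_cancel h').symm
    simp [this]
  · rw [neg_add] at h'
    exact absurd (zero_of_eq_neg h2 (add_right_cancel h')) hl0

/-- Two perpendicular conjugates span a covered plane. -/
theorem linked_cov {t γ : V ≃ₗ[K] V} (ht : IsLeast' H t) (hγ : γ ∈ H)
    (horth : mv t ≤ fx (γ * t * γ⁻¹)) : Cov H (mv t ⊔ mv (γ * t * γ⁻¹)) := by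
  set s := γ * t * γ⁻¹ with hs'
  have hs : IsLeast' H s := ht.conj hγ
  have hne : t ≠ s := ne_of_orth hB h2 ht horth
  have horth' := orth_symm hB h2 ht hs horth
  suffices ∃ x, IsLeast' H x ∧ mv x ≤ mv t ⊔ mv s ∧ x ≠ t ∧ x ≠ s by
    obtain ⟨x, hx, hle, hxt, hxs⟩ := this
    have hno : ¬ mv t ≤ fx x := fun h =>
      hxs (eq_of_orth_in hB h2 ht hs hx horth' (orth_symm hB h2 ht hx h) hle)
    have e : mv t ⊔ mv x = mv t ⊔ mv s :=
      Submodule.eq_of_le_of_finrank_eq (sup_le le_sup_left hle)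
        (by rw [finrank_pair hB h2 ht hx hxt.symm, finrank_pair hB h2 ht hs hne])
    exact e ▸ plane_cov hB h2 ht hx hxt.symm hno
  obtain ⟨l, hl, hl0⟩ := ht.exists_ne
  have hm : γ l ∈ mv s := (mv_conj γ t).2 (by simpa using hl)
  have hlm : γ l ≠ l := fun h =>
    hl0 (Submodule.disjoint_def.1 (disjoint_mv hB h2 ht hs hne) l hl (h ▸ hm))
  obtain ⟨v, hv⟩ := exists_half h2 (γ l - l)
  have hg : t * s ∈ H := H.mul_mem ht.mem hs.mem
  have hP := mv_mul hB h2 ht hs hne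
  have hvg : v ∈ mv (t * s) := half_mem h2 (hv ▸ hP ▸
    sub_mem (Submodule.mem_sup_right hm) (Submodule.mem_sup_left hl))
  obtain ⟨h, hh, hneg, hle, hperp⟩ := exists_negater_fx hB h2 hg hvg
  have hlv := hperp _ (of_move hB h2 hγ (w := l) (v := v) (by rw [hv]; abel)).2
  have hhl : h l = γ l := by
    rw [map_add, hneg, ← sub_eq_add_neg, sub_eq_iff_eq_add] at hlv
    rw [hlv, eq_add_of_sub_eq hv.symm]
    abel
  have hhm : h (γ l) = l := by
    rw [show γ l = l + (v + v) by rw [hv]; abel, map_add, map_add, hneg, hhl,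
      show γ l = l + (v + v) by rw [hv]; abel]
    abel
  have hhs : h * t * h⁻¹ = s :=
    least_ext hB h2 (ht.conj hh) hs ((mv_conj h t).2 (by
      rw [← hhl]; simpa using hl)) hm (fun h0 => hl0 (γ.injective (by rw [h0, map_zero])))
  have hpres : ∀ z ∈ mv t ⊔ mv s, h z ∈ mv t ⊔ mv s := fun z hz => by
    rw [← sub_add_cancel (h z) z]
    exact add_mem (hP ▸ mv_le_of_fx_le hB h2 hg hh hle (sub_mem_mv h z)) hz
  have hx : IsLeast' H (h * s * h⁻¹) := hs.conj hh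
  by_cases hx' : h * s * h⁻¹ = t
  swap
  · refine ⟨_, hx, fun z hz => ?_, hx', fun e => hne ?_⟩
    · have := hpres _ (Submodule.mem_sup_right ((mv_conj h s).1 hz))
      simpa using this
    · have e' := e.trans hhs.symm
      simpa using e'.symm
  -- `h` interchanges the two spaces
  have hI : ∀ a ∈ mv t, h a ∈ mv s := fun a ha => hhs ▸ (mv_conj h t).2 (by simpa using ha)
  have hJ : ∀ a ∈ mv s, h a ∈ mv t := fun a ha => hx' ▸ (mv_conj h s).2 (by simpa using ha)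
  have hsq : ∀ a ∈ mv t, h (h a) = a := fun a ha =>
    fix_all hB h2 (H.mul_mem hh hh) ht (fun a ha => hJ _ (hI a ha)) hl hl0
      (by rw [LinearEquiv.mul_apply, hhl, hhm]) ha
  have hh1 : h ≠ 1 := fun e => hlm (by rw [← hhl, e]; rfl)
  have hrank : finrank K (mv h) ≤ finrank K (mv t) := by
    let graph := (mv t).map ((LinearMap.id : V →ₗ[K] V) + (h : V →ₗ[K] V))
    have hgr : graph ≤ fx h ⊓ mv (t * s) := by
      rintro _ ⟨a, ha, rfl⟩
      refine ⟨mem_fx.2 ?_, hP ▸ add_mem (Submodule.mem_sup_left ha)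
        (hpres a (Submodule.mem_sup_left ha))⟩
      show h (a + h a) = a + h a
      rw [map_add, hsq a ha, add_comm]
    have hinj : Set.InjOn ((LinearMap.id : V →ₗ[K] V) + (h : V →ₗ[K] V)) (mv t : Set V) := by
      intro a ha b hb e
      refine sub_eq_zero.1 (Submodule.disjoint_def.1 (disjoint_mv hB h2 ht hs hne) _
        (sub_mem ha hb) ?_)
      have e' : a + h a = b + h b := e
      rw [show a - b = h b - h a by rw [sub_eq_sub_iff_add_eq_add, e', add_comm]]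
      exact sub_mem (hI b hb) (hI a ha)
    have e0 : finrank K graph = finrank K (mv t) := by
      refine (LinearEquiv.finrank_eq (LinearEquiv.ofBijective
        (((LinearMap.id : V →ₗ[K] V) + (h : V →ₗ[K] V)).submoduleMap (mv t)) ⟨?_, ?_⟩)).symm
      · exact fun a b e => Subtype.ext (hinj a.2 b.2 (congrArg Subtype.val e))
      · exact LinearMap.submoduleMap_surjective _ _
    have e1 := Submodule.finrank_mono hgr
    have e2 := finrank_fx_inf hB h2 hg hle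
    have e3 := finrank_pair hB h2 ht hs hne
    rw [← hP] at e3
    omega
  refine ⟨h, ⟨hh, hh1, fun g hg' hg1 => hrank.trans (ht.le g hg' hg1)⟩,
    hP ▸ mv_le_of_fx_le hB h2 hg hh hle, fun e => ?_, fun e => hlm ?_⟩
  · rw [e, least_neg hB h2 ht hl] at hhl
    exact hl0 (Submodule.disjoint_def.1 (disjoint_mv hB h2 ht hs hne) l hl (by
      simpa [hhl.symm] using neg_mem hm))
  · rw [← hhl, e, mem_fx.1 (horth hl)]

theorem partner {t s : V ≃ₗ[K] V} (ht : IsLeast' H t) (hs : IsLeast' H s) (hne : t ≠ s)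
    (hcov : Cov H (mv t ⊔ mv s)) {x : V ≃ₗ[K] V} (hx : IsLeast' H x)
    (hle : mv x ≤ mv t ⊔ mv s) :
    ∃ y, IsLeast' H y ∧ mv y ≤ fx x ∧ mv y ≤ mv t ⊔ mv s ∧ mv x ⊔ mv y = mv t ⊔ mv s := by
  have hg : t * s ∈ H := H.mul_mem ht.mem hs.mem
  have hP := mv_mul hB h2 ht hs hne
  have e1 := finrank_fx_inf hB h2 hg (fx_le_of_mv_le hB h2 hg hx.mem (hP ▸ hle))
  have e2 := finrank_pair hB h2 ht hs hne
  have e3 := ht.finrank_eq hx
  obtain ⟨v, hv, h0⟩ := hx.exists_ne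
  have e4 : 0 < finrank K (mv x) := by
    rcases Nat.eq_zero_or_pos (finrank K (mv x)) with h | h
    · exact absurd (Submodule.finrank_eq_zero.1 h) (mv_ne_bot hx.ne)
    · exact h
  rw [hP] at e1
  have hD : fx x ⊓ (mv t ⊔ mv s) ≠ ⊥ := fun h => by
    rw [h, finrank_bot] at e1
    omega
  obtain ⟨w, hw, hw0⟩ := Submodule.exists_mem_ne_zero_of_ne_bot hD
  obtain ⟨y, hy, hwy, hyle⟩ := hcov w hw.2 hw0
  have ho : mv y ≤ fx x := orth_of_mem hB h2 hy hx hwy hw.1 hw0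
  exact ⟨y, hy, ho, hyle, Submodule.eq_of_le_of_finrank_eq (sup_le hle hyle)
    (by rw [finrank_pair hB h2 hx hy (ne_of_orth hB h2 hy ho).symm, e2, e3])⟩

end

end Cfsg.Agent.CherlinBinary73
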