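import Mathlib
import Cfsg.Agent.Lib.CherlinBinary73Odd

/-!
There are no three mutually perpendicular least spaces: counting a polarity modulo `p`.
-/

set_option autoImplicit false
set_option linter.unusedSectionVars false

namespace Cfsg.Agent.CherlinBinary73

open Module

section count

variable {K V : Type*} [Field K] [AddCommGroup V] [Module K V] [FiniteDimensional K V]
variable {H : Subgroup (V ≃ₗ[K] V)} [Finite V]
variable (hB : Bin H) (h2 : (2 : K) ≠ 0)
include hB h2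

/-- The least elements inside a subspace. -/
abbrev Inside (H : Subgroup (V ≃ₗ[K] V)) (S : Submodule K V) : Type _ :=
  {a : V ≃ₗ[K] V // IsLeast' H a ∧ mv a ≤ S}

omit hB h2 in
theorem card_ne_zero_sub (S : Submodule K V) :
    Nat.card {v : V // v ∈ S ∧ v ≠ 0} = Nat.card K ^ finrank K S - 1 := by
  rw [← Module.natCard_eq_pow_finrank (K := K) (V := S)]
  have h : {v : V | v ∈ S ∧ v ≠ 0} = (S : Set V) \ {0} := rfl
  show Nat.card {v : V | v ∈ S ∧ v ≠ 0} = _
  rw [Nat.card_coe_set_eq, h, Set.ncard_sdiff_singleton_of_mem S.zero_mem, ← Nat.card_coe_set_eq]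
  rfl

theorem count_inside {S : Submodule K V} (hS : Cov H S) {t : V ≃ₗ[K] V} (ht : IsLeast' H t) :
    Nat.card (Inside H S) * (Nat.card K ^ finrank K (mv t) - 1) = Nat.card K ^ finrank K S - 1 := by
  classical
  have : Finite (V ≃ₗ[K] V) := Finite.of_injective _ DFunLike.coe_injective
  letI : Fintype (Inside H S) := Fintype.ofFinite _
  rw [← card_ne_zero_sub S]
  let F : (Σ a : Inside H S, {v : V // v ∈ mv a.1 ∧ v ≠ 0}) → {v : V // v ∈ S ∧ v ≠ 0} :=
    fun x => ⟨x.2.1, x.1.2.2 x.2.2.1, x.2.2.2⟩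
  rw [← Nat.card_congr (Equiv.ofBijective F ⟨?_, ?_⟩), Nat.card_sigma]
  · rw [Finset.sum_congr rfl fun a _ => ?_, Finset.sum_const, Finset.card_univ,
      ← Nat.card_eq_fintype_card, smul_eq_mul]
    rw [card_ne_zero_sub, a.2.1.finrank_eq ht]
  · rintro ⟨⟨a, ha⟩, v, hv⟩ ⟨⟨a', ha'⟩, v', hv'⟩ h
    obtain rfl : v = v' := congrArg Subtype.val h
    obtain rfl : a = a' := least_ext hB h2 ha.1 ha'.1 hv.1 hv'.1 hv.2
    rfl
  · rintro ⟨v, hv, h0⟩
    obtain ⟨a, ha, hva, hle⟩ := hS v hv h0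
    exact ⟨⟨⟨a, ha, hle⟩, v, hva, h0⟩, rfl⟩

end count

variable {p : ℕ} [Fact p.Prime] {V : Type*} [AddCommGroup V] [Module (ZMod p) V]
  [FiniteDimensional (ZMod p) V] [Finite V]
variable {H : Subgroup (V ≃ₗ[ZMod p] V)}

section

variable (hB : Bin H) (h2 : (2 : ZMod p) ≠ 0)
include hB h2

/-- The number of least spaces in a covered subspace is one modulo `p`. -/
theorem card_inside_mod {S : Submodule (ZMod p) V} (hS : Cov H S) (hne : S ≠ ⊥)
    {t : V ≃ₗ[ZMod p] V} (ht : IsLeast' H t) :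
    (Nat.card (Inside H S) : ZMod p) = 1 := by
  have h := count_inside hB h2 hS ht
  rw [Nat.card_eq_fintype_card (α := ZMod p), ZMod.card] at h
  have hf : finrank (ZMod p) (mv t) ≠ 0 := fun e =>
    mv_ne_bot ht.ne (Submodule.finrank_eq_zero.1 e)
  have hd : finrank (ZMod p) S ≠ 0 := fun e => hne (Submodule.finrank_eq_zero.1 e)
  have hpos : ∀ k : ℕ, 1 ≤ p ^ k := fun k => Nat.one_le_pow _ _ (Fact.out : p.Prime).pos
  have e := congrArg (Nat.cast : ℕ → ZMod p) h
  rw [Nat.cast_mul, Nat.cast_sub (hpos _), Nat.cast_sub (hpos _), Nat.cast_pow, Nat.cast_pow,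
    ZMod.natCast_self, zero_pow hf, zero_pow hd, Nat.cast_one] at e
  linear_combination -e

/-- Linking. -/
theorem link_all {a b c L : V ≃ₗ[ZMod p] V} (ha : IsLeast' H a) (hb : IsLeast' H b)
    (hc : IsLeast' H c) (hab : mv b ≤ fx a) (hca : mv c ≤ fx a) (hcb : mv c ≤ fx b)
    (hP : Cov H (mv a ⊔ mv b)) (hQ : Cov H (mv a ⊔ mv c)) (hL : IsLeast' H L)
    (hLP : mv L ≤ mv a ⊔ mv b) : Cov H (mv L ⊔ mv c) := by
  by_cases hLa : L = a
  · exact hLa ▸ hQ
  have hba := orth_symm hB h2 hb ha hab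
  have hac := orth_symm hB h2 hc ha hca
  have hbc := orth_symm hB h2 hc hb hcb
  have nab : a ≠ b := (ne_of_orth hB h2 hb hab).symm
  have nac : a ≠ c := (ne_of_orth hB h2 hc hca).symm
  -- the sum of the three spaces is direct
  have key : ∀ x ∈ mv a, ∀ y ∈ mv b, ∀ z ∈ mv c, x + y + z = 0 → x = 0 ∧ y = 0 ∧ z = 0 := by
    intro x hx y hy z hz h
    have h1 := congrArg (fun v => a v) h
    simp only [map_add, map_zero, mem_fx.1 (hab hy), mem_fx.1 (hca hz), least_neg hB h2 ha hx] at h1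
    have hx0 : x = 0 := zero_of_eq_neg h2 (by
      have := h.trans h1.symm
      exact add_right_cancel (add_right_cancel this))
    have h3 := congrArg (fun v => b v) h
    simp only [map_add, map_zero, hx0, mem_fx.1 (hcb hz), least_neg hB h2 hb hy, zero_add] at h3
    rw [hx0, zero_add] at h
    have hy0 : y = 0 := zero_of_eq_neg h2 (add_right_cancel (h.trans h3.symm))
    exact ⟨hx0, hy0, by rwa [hy0, zero_add] at h⟩
  obtain ⟨α, hα, hα0⟩ := ha.exists_ne
  obtain ⟨β, hβ, hβ0⟩ := hb.exists_ne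
  obtain ⟨γ, hγ, hγ0⟩ := hc.exists_ne
  -- a space in the second plane
  obtain ⟨X, hX, hXαγ, hXle⟩ := hQ (α + γ)
    (add_mem (Submodule.mem_sup_left hα) (Submodule.mem_sup_right hγ))
    (fun h => hα0 (key α hα 0 (zero_mem _) γ hγ (by rwa [add_zero])).1)
  have hXa : X ≠ a := by
    rintro rfl
    have hγa : γ ∈ mv X := by simpa using sub_mem hXαγ hα
    exact hγ0 (Submodule.disjoint_def.1 (disjoint_mv hB h2 ha hc nac) γ hγa hγ)
  have hXc : X ≠ c := by
    rintro rfl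
    have : α ∈ mv X := by simpa using sub_mem hXαγ hγ
    exact hα0 (Submodule.disjoint_def.1 (disjoint_mv hB h2 ha hc nac) α hα this)
  -- a space in the first plane
  obtain ⟨Y, hY, hYle, hYa, hYb, hYL⟩ : ∃ Y, IsLeast' H Y ∧ mv Y ≤ mv a ⊔ mv b ∧
      Y ≠ a ∧ Y ≠ b ∧ Y ≠ L := by
    have mk : ∀ w ∈ mv b, w ≠ 0 → ∃ Y, IsLeast' H Y ∧ mv Y ≤ mv a ⊔ mv b ∧ α + w ∈ mv Y ∧
        Y ≠ a ∧ Y ≠ b := by
      intro w hw hw0
      obtain ⟨Y, hY, hYm, hYle⟩ := hP (α + w)
        (add_mem (Submodule.mem_sup_left hα) (Submodule.mem_sup_right hw))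
        (fun h => hα0 (key α hα w hw 0 (zero_mem _) (by rwa [add_zero])).1)
      refine ⟨Y, hY, hYle, hYm, ?_, ?_⟩
      · rintro rfl
        have : w ∈ mv Y := by simpa using sub_mem hYm hα
        exact hw0 (Submodule.disjoint_def.1 (disjoint_mv hB h2 ha hb nab) w this hw)
      · rintro rfl
        have : α ∈ mv Y := by simpa using sub_mem hYm hw
        exact hα0 (Submodule.disjoint_def.1 (disjoint_mv hB h2 ha hb nab) α hα this)
    obtain ⟨Y, hY, hYle, hYm, hYa, hYb⟩ := mk β hβ hβ0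
    by_cases hYL : Y = L
    swap
    · exact ⟨Y, hY, hYle, hYa, hYb, hYL⟩
    obtain ⟨Y', hY', hY'le, hY'm, hY'a, hY'b⟩ := mk (-β) (neg_mem hβ) (neg_ne_zero.2 hβ0)
    refine ⟨Y', hY', hY'le, hY'a, hY'b, ?_⟩
    rintro rfl
    subst hYL
    have h4 : α ∈ mv Y := half_mem h2 (by
      rw [show α + α = α + β + (α + -β) by abel]
      exact add_mem hYm hY'm)
    exact hYa (least_ext hB h2 hY ha h4 hα hα0)
  have hYc : mv c ≤ fx Y := orth_symm hB h2 hY hc (hYle.trans (sup_le hac hbc))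
  have hXY : ¬ mv Y ≤ fx X := by
    intro h
    have h1 := orth_symm hB h2 hY hX h
    have e : mv X ⊔ mv c = mv a ⊔ mv c :=
      Submodule.eq_of_le_of_finrank_eq (sup_le hXle le_sup_right)
        (by rw [finrank_pair hB h2 hX hc hXc, finrank_pair hB h2 ha hc nac, hX.finrank_eq ha])
    exact hYb (eq_of_orth_in hB h2 ha hb hY hab
      (orth_symm hB h2 ha hY (le_sup_left.trans (e ▸ sup_le h1 hYc))) hYle)
  have nYX : Y ≠ X := by
    rintro rfl
    obtain ⟨y, hy, hy0⟩ := hY.exists_ne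
    obtain ⟨x1, hx1, y1, hy1, e1⟩ := Submodule.mem_sup.1 (hYle hy)
    obtain ⟨x2, hx2, z2, hz2, e2⟩ := Submodule.mem_sup.1 (hXle hy)
    obtain ⟨-, hy1', -⟩ := key (x1 - x2) (sub_mem hx1 hx2) y1 hy1 (-z2) (neg_mem hz2)
      (by rw [show x1 - x2 + y1 + -z2 = (x1 + y1) - (x2 + z2) by abel, e1, e2, sub_self])
    rw [hy1', add_zero] at e1
    exact hYa (least_ext hB h2 hY ha hy (e1 ▸ hx1) hy0)
  have hXYc := plane_cov hB h2 hY hX nYX hXY
  -- the intersection
  set T := mv a ⊔ mv b ⊔ mv c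
  have hXYT : mv Y ⊔ mv X ≤ T := sup_le (hYle.trans le_sup_left)
    (hXle.trans (sup_le (le_sup_left.trans le_sup_left) le_sup_right))
  have hLT : mv L ⊔ mv c ≤ T := sup_le (hLP.trans le_sup_left) le_sup_right
  have hLc : mv c ≤ fx L := orth_symm hB h2 hL hc (hLP.trans (sup_le hac hbc))
  have nLc : L ≠ c := (ne_of_orth hB h2 hc hLc).symm
  have hTd : finrank (ZMod p) T ≤ 3 * finrank (ZMod p) (mv a) := by
    have e1 := finrank_pair hB h2 ha hb nab
    have e2 : finrank (ZMod p) T + finrank (ZMod p) ↥((mv a ⊔ mv b) ⊓ mv c) = _ :=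
      Submodule.finrank_sup_add_finrank_inf_eq (mv a ⊔ mv b) (mv c)
    have e3 := ha.finrank_eq hc
    omega
  have hne : (mv Y ⊔ mv X) ⊓ (mv L ⊔ mv c) ≠ ⊥ := by
    intro h
    have e1 := Submodule.finrank_sup_add_finrank_inf_eq (mv Y ⊔ mv X) (mv L ⊔ mv c)
    rw [h, finrank_bot, finrank_pair hB h2 hY hX nYX, finrank_pair hB h2 hL hc nLc] at e1
    have e2 := Submodule.finrank_mono (sup_le hXYT hLT)
    have e3 := ha.finrank_eq hY
    have e4 := ha.finrank_eq hL
    have e5 : finrank (ZMod p) (mv a) ≠ 0 := fun e =>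
      mv_ne_bot ha.ne (Submodule.finrank_eq_zero.1 e)
    omega
  obtain ⟨v, hv, hv0⟩ := Submodule.exists_mem_ne_zero_of_ne_bot hne
  obtain ⟨Z, hZ, hvZ, hZle⟩ := hXYc v hv.1 hv0
  obtain ⟨L', hL', hL'L, hL'le, hL'e⟩ := partner hB h2 ha hb nab hP hL hLP
  have hcL' : mv c ≤ fx L' := orth_symm hB h2 hL' hc (hL'le.trans (sup_le hac hbc))
  have hLL' : mv L ⊔ mv c ≤ fx L' := sup_le (orth_symm hB h2 hL' hL hL'L) hcL'
  have hZL' : mv Z ≤ fx L' := orth_of_mem hB h2 hZ hL' hvZ (hLL' hv.2) hv0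
  have hZW : mv Z ≤ mv L ⊔ mv c := fun z hz => by
    obtain ⟨q, hq, r, hr, e⟩ := Submodule.mem_sup.1 ((hZle.trans hXYT) hz)
    obtain ⟨l, hl, l', hl', e'⟩ := Submodule.mem_sup.1 (hL'e.symm ▸ hq : q ∈ mv L ⊔ mv L')
    have h1 := mem_fx.1 (hZL' hz)
    rw [← e, ← e', map_add, map_add, mem_fx.1 (hLL' (Submodule.mem_sup_left hl)),
      least_neg hB h2 hL' hl', mem_fx.1 (hcL' hr), add_left_inj, add_right_inj] at h1
    rw [← e, ← e', zero_of_eq_neg h2 h1.symm, add_zero]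
    exact Submodule.add_mem_sup hl hr
  have hZc : Z ≠ c := by
    rintro rfl
    have hQle : mv a ⊔ mv Z ≤ mv Y ⊔ mv X := by
      have e : mv X ⊔ mv Z = mv a ⊔ mv Z :=
        Submodule.eq_of_le_of_finrank_eq (sup_le hXle le_sup_right)
          (by rw [finrank_pair hB h2 hX hc hXc, finrank_pair hB h2 ha hc nac, hX.finrank_eq ha])
      exact e ▸ sup_le le_sup_right hZle
    have e' : mv a ⊔ mv Z = mv Y ⊔ mv X := Submodule.eq_of_le_of_finrank_eq hQle
      (by rw [finrank_pair hB h2 ha hc nac, finrank_pair hB h2 hY hX nYX, hY.finrank_eq ha])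
    refine hYa (least_ext_le hB h2 hY ha fun y hy => ?_)
    obtain ⟨x1, hx1, y1, hy1, e1⟩ := Submodule.mem_sup.1 (hYle hy)
    obtain ⟨x2, hx2, z2, hz2, e2⟩ := Submodule.mem_sup.1 (e'.symm ▸ Submodule.mem_sup_left hy :
      y ∈ mv a ⊔ mv Z)
    obtain ⟨-, hy1', -⟩ := key (x1 - x2) (sub_mem hx1 hx2) y1 hy1 (-z2) (neg_mem hz2)
      (by rw [show x1 - x2 + y1 + -z2 = (x1 + y1) - (x2 + z2) by abel, e1, e2, sub_self])
    rw [← e1, hy1', add_zero]
    exact hx1
  have hZL : Z ≠ L := by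
    rintro rfl
    have hPle : mv Y ⊔ mv Z ≤ mv Y ⊔ mv X := sup_le le_sup_left hZle
    have e' : mv Y ⊔ mv Z = mv Y ⊔ mv X := Submodule.eq_of_le_of_finrank_eq hPle
      (by rw [finrank_pair hB h2 hY hL hYL, finrank_pair hB h2 hY hX nYX])
    refine hXa (least_ext_le hB h2 hX ha fun y hy => ?_)
    obtain ⟨x1, hx1, y1, hy1, e1⟩ := Submodule.mem_sup.1
      (sup_le hYle hLP (e'.symm ▸ Submodule.mem_sup_right hy : y ∈ mv Y ⊔ mv Z))
    obtain ⟨x2, hx2, z2, hz2, e2⟩ := Submodule.mem_sup.1 (hXle hy)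
    obtain ⟨-, hy1', -⟩ := key (x1 - x2) (sub_mem hx1 hx2) y1 hy1 (-z2) (neg_mem hz2)
      (by rw [show x1 - x2 + y1 + -z2 = (x1 + y1) - (x2 + z2) by abel, e1, e2, sub_self])
    rw [← e1, hy1', add_zero]
    exact hx1
  have hno : ¬ mv L ≤ fx Z := fun h =>
    hZc (eq_of_orth_in hB h2 hL hc hZ hLc (orth_symm hB h2 hL hZ h) hZW)
  have e : mv L ⊔ mv Z = mv L ⊔ mv c :=
    Submodule.eq_of_le_of_finrank_eq (sup_le le_sup_left hZW)
      (by rw [finrank_pair hB h2 hL hZ hZL.symm, finrank_pair hB h2 hL hc nLc])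
  exact e ▸ plane_cov hB h2 hL hZ hZL.symm hno

omit hB h2 in
/-- A relation in which any two points, equal or not, have one common neighbour modulo `p`, has a
reflexive point. -/
theorem polarity_contra {ι : Type*} [Finite ι] (r : ι → ι → Prop) (hsymm : ∀ x y, r x y → r y x) (hdiag : ∀ x, ¬ r x x)
    (hcommon : ∀ x y, (Nat.card {z // r x z ∧ r z y} : ZMod p) = 1)
    (hcard : (Nat.card ι : ZMod p) = 1) : False := by
  classical
  let _ : Fintype ι := Fintype.ofFinite _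
  let M : Matrix ι ι (ZMod p) := Matrix.of fun x y => if r x y then 1 else 0
  let J : Matrix ι ι (ZMod p) := Matrix.of fun _ _ => 1
  have hcount : ∀ x y, (∑ z, if r x z ∧ r z y then (1 : ZMod p) else 0) = 1 := fun x y => by
    rw [Finset.sum_boole, ← Fintype.card_subtype, ← Nat.card_eq_fintype_card, hcommon x y]
  have hM2 : M * M = J := by
    ext x y
    simp only [M, J, Matrix.mul_apply, Matrix.of_apply]
    refine Eq.trans (Finset.sum_congr rfl fun z _ => ?_) (hcount x y)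
    by_cases h1 : r x z <;> by_cases h2 : r z y <;> simp [h1, h2]
  have hMJ : M * J = J := by
    ext x y
    simp only [M, J, Matrix.mul_apply, Matrix.of_apply, mul_one]
    refine Eq.trans (Finset.sum_congr rfl fun z _ => ?_) (hcount x x)
    exact if_congr ⟨fun h => ⟨h, hsymm _ _ h⟩, fun h => h.1⟩ rfl rfl
  have hpow : ∀ n, M ^ (n + 2) = J := fun n => by
    induction n with
    | zero => rw [pow_two, hM2]
    | succ n ih => rw [pow_succ', ih, hMJ]
  obtain ⟨k, hk⟩ : ∃ k, k + 2 = p := ⟨p - 2, by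
    have := (Fact.out : p.Prime).two_le
    omega⟩
  have h := ZMod.trace_pow_card M
  rw [show M ^ p = J from (congrArg (M ^ ·) hk.symm).trans (hpow k),
    show M.trace = 0 from Finset.sum_eq_zero fun x _ => by simp [M, hdiag x],
    zero_pow (Fact.out : p.Prime).ne_zero,
    show J.trace = 1 by
      rw [← hcard, Nat.card_eq_fintype_card]
      simp [J, Matrix.trace]] at h
  exact one_ne_zero h

/-- No three mutually perpendicular least spaces with two covered planes. -/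
theorem no_three {a b c : V ≃ₗ[ZMod p] V} (ha : IsLeast' H a) (hb : IsLeast' H b)
    (hc : IsLeast' H c) (hab : mv b ≤ fx a) (hca : mv c ≤ fx a) (hcb : mv c ≤ fx b)
    (hP : Cov H (mv a ⊔ mv b)) (hQ : Cov H (mv a ⊔ mv c)) : False := by
  classical
  have hba := orth_symm hB h2 hb ha hab
  have hac := orth_symm hB h2 hc ha hca
  have hbc := orth_symm hB h2 hc hb hcb
  have nab : a ≠ b := (ne_of_orth hB h2 hb hab).symm
  set T := mv a ⊔ mv b ⊔ mv c with hT
  have hcovT : Cov H T := by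
    intro v hv hv0
    obtain ⟨q, hq, r, hr, rfl⟩ := Submodule.mem_sup.1 hv
    by_cases hq0 : q = 0
    · subst hq0
      exact ⟨c, hc, by simpa using hr, le_sup_right⟩
    obtain ⟨L, hL, hqL, hLle⟩ := hP q hq hq0
    obtain ⟨x, hx, hxv, hxle⟩ := link_all hB h2 ha hb hc hab hca hcb hP hQ hL hLle (q + r)
      (add_mem (Submodule.mem_sup_left hqL) (Submodule.mem_sup_right hr)) hv0
    exact ⟨x, hx, hxv, hxle.trans (sup_le (hLle.trans le_sup_left) le_sup_right)⟩
  have : Finite (V ≃ₗ[ZMod p] V) := Finite.of_injective _ DFunLike.coe_injective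
  let _ : Fintype (Inside H T) := Fintype.ofFinite _
  have hTne : T ≠ ⊥ := fun h => mv_ne_bot ha.ne
    (le_bot_iff.1 (h ▸ le_sup_left.trans le_sup_left))
  -- all the counts are one modulo `p`
  have hTd : 3 * finrank (ZMod p) (mv a) ≤ finrank (ZMod p) T := by
    have e1 := finrank_pair hB h2 ha hb nab
    have e2 := Submodule.finrank_sup_add_finrank_inf_eq (mv a ⊔ mv b) (mv c)
    have e0 : (mv a ⊔ mv b) ⊓ mv c = ⊥ := (Submodule.eq_bot_iff _).2 fun v hv =>
      fx_disj hB h2 hc.mem (sup_le hac hbc hv.1) hv.2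
    rw [e0, finrank_bot, ← hT] at e2
    have e3 := ha.finrank_eq hc
    omega
  have perp_count : ∀ S : Submodule (ZMod p) V, ∀ (s : List (Inside H T)),
      (∀ x ∈ s, S ≤ fx x.1) → S ≤ T → (∀ v ∈ T, (∀ x ∈ s, v ∈ fx x.1) → v ∈ S) → S ≠ ⊥ →
      ((Finset.univ.filter fun z : Inside H T => ∀ x ∈ s, mv z.1 ≤ fx x.1).card : ZMod p) = 1 := by
    intro S s hs hST hS hne
    have hcov : Cov H S := fun v hv h0 => by
      obtain ⟨z, hz, hvz, hzT⟩ := hcovT v (hST hv) h0
      exact ⟨z, hz, hvz, fun w hw => hS w (hzT hw) fun x hx =>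
        orth_of_mem hB h2 hz x.2.1 hvz (hs x hx hv) h0 hw⟩
    rw [← card_inside_mod hB h2 hcov hne ha, ← Fintype.card_subtype, ← Nat.card_eq_fintype_card]
    refine congrArg _ (Nat.card_congr ?_)
    exact {
      toFun := fun z => ⟨z.1.1, z.1.2.1, fun w hw => hS w (z.1.2.2 hw) fun x hx => z.2 x hx hw⟩
      invFun := fun z => ⟨⟨z.1, z.2.1, z.2.2.trans hST⟩, fun x hx => z.2.2.trans (hs x hx)⟩
      left_inv := fun z => rfl
      right_inv := fun z => rfl }
  have hapos : finrank (ZMod p) (mv a) ≠ 0 := fun e =>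
    mv_ne_bot ha.ne (Submodule.finrank_eq_zero.1 e)
  have hperp : ∀ x : Inside H T, finrank (ZMod p) ↥(fx x.1 ⊓ T) + finrank (ZMod p) (mv a) ≥
      finrank (ZMod p) T := fun x => by
    have e1 := Submodule.finrank_sup_add_finrank_inf_eq (fx x.1) T
    have e2 := finrank_fx_add_mv x.1
    have e3 := Submodule.finrank_le (fx x.1 ⊔ T)
    have e4 := ha.finrank_eq x.2.1
    omega
  refine polarity_contra (p := p) (fun x y : Inside H T => mv x.1 ≤ fx y.1)
    (fun x y => orth_symm hB h2 x.2.1 y.2.1) (fun x e => ne_of_orth hB h2 x.2.1 e rfl)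
    (fun x y => ?_) ?_
  · have hsub := perp_count (fx x.1 ⊓ fx y.1 ⊓ T) [x, y]
      (fun z hz => by
        rcases List.mem_pair.1 hz with rfl | rfl
        · exact inf_le_left.trans inf_le_left
        · exact inf_le_left.trans inf_le_right)
      inf_le_right (fun v hv h => ⟨⟨h x (by simp), h y (by simp)⟩, hv⟩)
      (fun h => by
        have e1 := Submodule.finrank_sup_add_finrank_inf_eq (fx x.1 ⊓ T) (fx y.1 ⊓ T)
        have e2 : (fx x.1 ⊓ T) ⊓ (fx y.1 ⊓ T) = ⊥ := by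
          rw [inf_inf_inf_comm, inf_idem, h]
        rw [e2, finrank_bot] at e1
        have e3 := Submodule.finrank_mono
          (sup_le inf_le_right inf_le_right : fx x.1 ⊓ T ⊔ fx y.1 ⊓ T ≤ T)
        have h3 := hperp x
        have h4 := hperp y
        omega)
    refine Eq.trans (congrArg Nat.cast ?_) hsub
    rw [← Fintype.card_subtype, ← Nat.card_eq_fintype_card]
    refine Nat.card_congr (Equiv.subtypeEquivRight fun z => ?_)
    simp only [List.mem_cons, List.not_mem_nil, or_false, forall_eq_or_imp, forall_eq]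
    exact and_congr_left' ⟨orth_symm hB h2 x.2.1 z.2.1, orth_symm hB h2 z.2.1 x.2.1⟩
  · rw [card_inside_mod hB h2 hcovT hTne ha]

/-- The plane is everything. -/
theorem plane_top (hirr : Irred H) {t γ : V ≃ₗ[ZMod p] V} (ht : IsLeast' H t) (hγ : γ ∈ H)
    (hne : t ≠ γ * t * γ⁻¹) :
    mv t ⊔ mv (γ * t * γ⁻¹) = ⊤ ∧ Cov H (mv t ⊔ mv (γ * t * γ⁻¹)) := by
  set s := γ * t * γ⁻¹
  have hs : IsLeast' H s := ht.conj hγ
  have hcov : Cov H (mv t ⊔ mv s) := by
    by_cases ho : mv t ≤ fx s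
    · exact linked_cov hB h2 ht hγ ho
    · exact plane_cov hB h2 ht hs hne ho
  refine ⟨?_, hcov⟩
  set P := mv t ⊔ mv s with hPdef
  by_contra hP
  obtain ⟨δ, hδ, hk⟩ : ∃ δ ∈ H, ¬ mv (δ * t * δ⁻¹) ≤ P := by
    by_contra h
    push Not at h
    set S := ⨆ δ : H, mv ((δ : V ≃ₗ[ZMod p] V) * t * (δ : V ≃ₗ[ZMod p] V)⁻¹) with hS
    have hinv : ∀ h' ∈ H, ∀ s ∈ S, h' s ∈ S := fun h' hh' => by
      show S ≤ S.comap (h' : V →ₗ[ZMod p] V)
      refine iSup_le fun δ => le_trans ?_ (Submodule.comap_mono (le_iSup _ (⟨h', hh'⟩ * δ)))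
      intro w hw
      have h1 := (mv_conj _ t).1 hw
      show h' w ∈ mv _
      rw [mv_conj]
      simpa using h1
    rcases hirr S hinv with e | e
    · refine mv_ne_bot ht.ne (le_bot_iff.1 (e ▸ ?_))
      exact le_trans (by simp) (le_iSup _ (1 : H))
    · exact hP (top_le_iff.1 (e ▸ iSup_le fun δ : H => h δ δ.2))
  set k := δ * t * δ⁻¹
  have hkl : IsLeast' H k := ht.conj hδ
  have hkne : ∀ x, IsLeast' H x → mv x ≤ P → x ≠ k := fun x _ hle e => hk (e ▸ hle)
  have e2 := finrank_pair hB h2 ht hs hne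
  have hpos : finrank (ZMod p) (mv t) ≠ 0 := fun e =>
    mv_ne_bot ht.ne (Submodule.finrank_eq_zero.1 e)
  have hz : fx k ⊓ P ≠ ⊥ := fun h => by
    have e1 := Submodule.finrank_sup_add_finrank_inf_eq (fx k) P
    rw [h, finrank_bot, e2] at e1
    have e3 := finrank_fx_add_mv k
    have e4 := Submodule.finrank_le (fx k ⊔ P)
    have e5 := ht.finrank_eq hkl
    omega
  obtain ⟨z, hz, hz0⟩ := Submodule.exists_mem_ne_zero_of_ne_bot hz
  obtain ⟨b, hb, hzb, hbP⟩ := hcov z hz.2 hz0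
  have hbk : mv b ≤ fx k := orth_of_mem hB h2 hb hkl hzb hz.1 hz0
  obtain ⟨a, ha, hab, haP, hsum⟩ := partner hB h2 ht hs hne hcov hb hbP
  by_cases hak : mv a ≤ fx k
  · have hPk : P ≤ fx k := by rw [hPdef, ← hsum]; exact sup_le hbk hak
    obtain ⟨t', ht', hto, ht'le, hsum'⟩ := partner hB h2 ht hs hne hcov ht le_sup_left
    exact no_three hB h2 ht ht' hkl hto (orth_symm hB h2 ht hkl (le_sup_left.trans hPk))
      (orth_symm hB h2 ht' hkl (ht'le.trans hPk)) (hsum' ▸ hcov)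
      (linked_cov hB h2 ht hδ (le_sup_left.trans hPk))
  · have hnak : a ≠ k := hkne a ha haP
    have hQ := plane_cov hB h2 ha hkl hnak hak
    obtain ⟨c, hc, hca, hcle, hsumQ⟩ := partner hB h2 ha hkl hnak hQ ha le_sup_left
    have hcb : mv c ≤ fx b := hcle.trans (sup_le hab (orth_symm hB h2 hb hkl hbk))
    exact no_three hB h2 ha hb hc (orth_symm hB h2 ha hb hab) hca hcb
      (by rw [sup_comm, hsum]; exact hcov) (hsumQ ▸ hQ)

end

end Cfsg.Agent.CherlinBinary73
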