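import Mathlib
import Cfsg.Agent.Lib.CherlinBinary73Three

/-!
Linear parts of binary affine groups in odd characteristic: the final shape.
-/

set_option autoImplicit false
set_option linter.unusedSectionVars false

namespace Cfsg.Agent.CherlinBinary73

open Module

variable {p : ℕ} [Fact p.Prime] {V : Type*} [AddCommGroup V] [Module (ZMod p) V]
  [FiniteDimensional (ZMod p) V] [Finite V]
variable {H : Subgroup (V ≃ₗ[ZMod p] V)}

/-- All vectors are in least spaces, each of which is half of the space and has a perpendicular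
one. -/
structure Flat (H : Subgroup (V ≃ₗ[ZMod p] V)) : Prop where
  cov : Cov H (⊤ : Submodule (ZMod p) V)
  dim : ∀ a, IsLeast' H a → finrank (ZMod p) V = 2 * finrank (ZMod p) (mv a)
  partner : ∀ a, IsLeast' H a → ∃ b, IsLeast' H b ∧ mv b ≤ fx a ∧ mv a ⊔ mv b = ⊤

/-- The endomorphisms preserving every least space. -/
def Keeps (H : Subgroup (V ≃ₗ[ZMod p] V)) (φ : Module.End (ZMod p) V) : Prop :=
  ∀ a, IsLeast' H a → ∀ v ∈ mv a, φ v ∈ mv a

variable (hB : Bin H) (h2 : (2 : ZMod p) ≠ 0)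
include hB h2

omit hB in
theorem mem_mv_of_neg {a : V ≃ₗ[ZMod p] V} {v : V} (h : a v = -v) : v ∈ mv a :=
  half_mem h2 (by
    have := neg_mem (sub_mem_mv a v)
    rwa [h, neg_sub, sub_neg_eq_add] at this)

theorem conj_mem {g a : V ≃ₗ[ZMod p] V} (hg : g ∈ H) (ha : IsLeast' H a) {v : V} (hv : v ∈ mv a)
    (h0 : v ≠ 0) (hgv : g v = v ∨ g v = -v) : g * a * g⁻¹ = a := by
  have h : g v ∈ mv (g * a * g⁻¹) := (mv_conj g a).2 (by simpa using hv)
  rcases hgv with e | e <;> rw [e] at h
  · exact least_ext hB h2 (ha.conj hg) ha h hv h0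
  · exact least_ext hB h2 (ha.conj hg) ha (by simpa using neg_mem h) hv h0

theorem preserves_of_conj {g a : V ≃ₗ[ZMod p] V} (h : g * a * g⁻¹ = a) {x : V} (hx : x ∈ mv a) :
    g x ∈ mv a := by
  rw [← h, mv_conj]
  simpa using hx

variable (hF : Flat H)
include hF

/-- Elements with a fixed vector. -/
theorem stab {g a b : V ≃ₗ[ZMod p] V} (hg : g ∈ H) (ha : IsLeast' H a) (hb : IsLeast' H b)
    (hab : mv b ≤ fx a) (hsum : mv a ⊔ mv b = ⊤) {u : V} (hu : u ∈ mv a) (h0 : u ≠ 0)
    (hgu : g u = u) : g = 1 ∨ g = b := by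
  have hga := conj_mem hB h2 hg ha hu h0 (Or.inl hgu)
  have hgb : g * b * g⁻¹ = b := eq_of_orth_in hB h2 ha hb (hb.conj hg) hab
    (fun x hx => by
      rw [← hga, fx_conj]
      exact hab ((mv_conj g b).1 hx))
    (hsum ▸ le_top)
  have hI : ∀ x ∈ mv a, g x = x := fun x hx =>
    fix_all hB h2 hg ha (fun y hy => preserves_of_conj hB h2 hga hy) hu h0 hgu hx
  have hbI : ∀ x ∈ mv a, b x = x := fun x hx => mem_fx.1 (orth_symm hB h2 hb ha hab hx)
  obtain ⟨j, hj, hj0⟩ := hb.exists_ne
  have fin : ∀ e : V ≃ₗ[ZMod p] V, (∀ x ∈ mv a, e x = x) → (∀ y ∈ mv b, g y = e y) → g = e := by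
    intro e he1 he2
    refine LinearEquiv.ext fun x => ?_
    obtain ⟨y, hy, z, hz, rfl⟩ := Submodule.mem_sup.1 (hsum ▸ Submodule.mem_top : x ∈ mv a ⊔ mv b)
    rw [map_add, map_add, hI y hy, he1 y hy, he2 z hz]
  rcases pm hB h2 hg hb hj (preserves_of_conj hB h2 hgb hj) with e | e
  · refine Or.inl (fin 1 (fun _ _ => rfl) fun y hy => ?_)
    exact fix_all hB h2 hg hb (fun y hy => preserves_of_conj hB h2 hgb hy) hj hj0 e hy
  · refine Or.inr (fin b hbI fun y hy => ?_)
    have h1 := fix_all hB h2 (H.mul_mem hg hb.mem) hb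
      (fun y hy => by
        rw [LinearEquiv.mul_apply, least_neg hB h2 hb hy, map_neg]
        exact neg_mem (preserves_of_conj hB h2 hgb hy))
      hj hj0 (by rw [LinearEquiv.mul_apply, least_neg hB h2 hb hj, map_neg, e, neg_neg]) hy
    rw [LinearEquiv.mul_apply, least_neg hB h2 hb hy, map_neg, neg_eq_iff_eq_neg] at h1
    rw [least_neg hB h2 hb hy, h1]

theorem least_of_fixes {g : V ≃ₗ[ZMod p] V} (hg : g ∈ H) (hg1 : g ≠ 1) {u : V} (h0 : u ≠ 0)
    (hgu : g u = u) : IsLeast' H g := by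
  obtain ⟨a, ha, hu, -⟩ := hF.cov u Submodule.mem_top h0
  obtain ⟨b, hb, hab, hsum⟩ := hF.partner a ha
  rcases stab hB h2 hF hg ha hb hab hsum hu h0 hgu with e | e
  · exact absurd e hg1
  · exact e ▸ hb

theorem pair_eq_neg {a b : V ≃ₗ[ZMod p] V} (ha : IsLeast' H a) (hb : IsLeast' H b)
    (hab : mv b ≤ fx a) (hsum : mv a ⊔ mv b = ⊤) : a * b = LinearEquiv.neg (ZMod p) := by
  refine LinearEquiv.ext fun x => ?_
  obtain ⟨y, hy, z, hz, rfl⟩ := Submodule.mem_sup.1 (hsum ▸ Submodule.mem_top : x ∈ mv a ⊔ mv b)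
  simp only [LinearEquiv.mul_apply, LinearEquiv.neg_apply]
  rw [map_add b, least_neg hB h2 hb hz, mem_fx.1 (orth_symm hB h2 hb ha hab hy), map_add, map_neg,
    least_neg hB h2 ha hy, mem_fx.1 (hab hz), neg_add]

theorem eq_neg_of_negates {g : V ≃ₗ[ZMod p] V} (hg : g ∈ H) (hfx : fx g = ⊥) {v : V} (h0 : v ≠ 0)
    (hgv : g v = -v) : g = LinearEquiv.neg (ZMod p) := by
  obtain ⟨a, ha, hv, -⟩ := hF.cov v Submodule.mem_top h0
  obtain ⟨b, hb, hab, hsum⟩ := hF.partner a ha
  rcases stab hB h2 hF (H.mul_mem hg ha.mem) ha hb hab hsum hv h0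
    (by rw [LinearEquiv.mul_apply, least_neg hB h2 ha hv, map_neg, hgv, neg_neg]) with e | e
  · exfalso
    rw [mul_eq_one_iff_eq_inv, inv_eq_of_mul_eq_one_right (least_mul_self hB h2 ha)] at e
    obtain ⟨w, hw, hw0⟩ := hb.exists_ne
    have : w ∈ fx g := e ▸ hab hw
    rw [hfx, Submodule.mem_bot] at this
    exact hw0 this
  · have e' : g = b * a := by
      rw [← e, mul_assoc, least_mul_self hB h2 ha, mul_one]
    rw [e']
    exact pair_eq_neg hB h2 hF hb ha (orth_symm hB h2 hb ha hab) (by rw [sup_comm, hsum])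

theorem keeps_eq_zero {φ : Module.End (ZMod p) V} (hφ : Keeps H φ) {a : V ≃ₗ[ZMod p] V}
    (ha : IsLeast' H a) {u : V} (hu : u ∈ mv a) (h0 : u ≠ 0) (h : φ u = 0) : φ = 0 := by
  have hout : ∀ z, z ∉ mv a → φ z = 0 := fun z hz => by
    have hz0 : z ≠ 0 := fun e => hz (e ▸ zero_mem _)
    obtain ⟨c, hc, hzc, -⟩ := hF.cov z Submodule.mem_top hz0
    have hzu : z + u ≠ 0 := fun e => hz (by rw [eq_neg_of_add_eq_zero_left e]; exact neg_mem hu)
    obtain ⟨d, hd, hzd, -⟩ := hF.cov (z + u) Submodule.mem_top hzu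
    have h3 := hφ d hd _ hzd
    rw [map_add, h, add_zero] at h3
    by_contra hne
    obtain rfl := least_ext hB h2 hc hd (hφ c hc _ hzc) h3 hne
    obtain rfl := least_ext hB h2 hc ha (by simpa using sub_mem hzd hzc) hu h0
    exact hz hzc
  ext z
  by_cases hz : z ∈ mv a
  swap
  · exact hout z hz
  obtain ⟨b, hb, hab, -⟩ := hF.partner a ha
  obtain ⟨w, hw, hw0⟩ := hb.exists_ne
  have hwa : w ∉ mv a := fun hwa => hw0 (fx_disj hB h2 ha.mem (hab hw) hwa)
  have h3 := hout (z + w) fun hzw => hwa (by simpa using sub_mem hzw hz)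
  rw [map_add, hout w hwa, add_zero] at h3
  exact h3

theorem keeps_comm {φ : Module.End (ZMod p) V} (hφ : Keeps H φ) {a : V ≃ₗ[ZMod p] V}
    (ha : IsLeast' H a) (x : V) : a (φ x) = φ (a x) := by
  let A : Module.End (ZMod p) V := (a : V →ₗ[ZMod p] V)
  have haa : ∀ x, a (a x) = x := fun x => by
    rw [← LinearEquiv.mul_apply, least_mul_self hB h2 ha]; rfl
  have hk : Keeps H (A * φ * A - φ) := fun c hc v hv => by
    refine sub_mem ?_ (hφ c hc v hv)
    have h1 : a v ∈ mv (a * c * a⁻¹) := (mv_conj a c).2 (by simpa using hv)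
    have h3 := (mv_conj a c).1 (hφ _ (hc.conj ha.mem) _ h1)
    rwa [inv_eq_of_mul_eq_one_right (least_mul_self hB h2 ha)] at h3
  obtain ⟨u, hu, hu0⟩ := ha.exists_ne
  have h := LinearMap.congr_fun (keeps_eq_zero hB h2 hF hk ha hu hu0 (by
    show a (φ (a u)) - φ u = 0
    rw [least_neg hB h2 ha hu, map_neg, map_neg, least_neg hB h2 ha (hφ a ha u hu), neg_neg,
      sub_self])) (a x)
  change a (φ (a (a x))) - φ (a x) = 0 at h
  rwa [haa, sub_eq_zero] at h

theorem card_keeps_le {a : V ≃ₗ[ZMod p] V} (ha : IsLeast' H a) :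
    Nat.card {φ : Module.End (ZMod p) V // Keeps H φ} ≤
      Nat.card (ZMod p) ^ finrank (ZMod p) (mv a) := by
  obtain ⟨u, hu, hu0⟩ := ha.exists_ne
  rw [← Module.natCard_eq_pow_finrank (K := ZMod p) (V := mv a)]
  refine Nat.card_le_card_of_injective (fun φ => (⟨φ.1 u, φ.2 a ha u hu⟩ : mv a)) ?_
  intro φ ψ h
  refine Subtype.ext (sub_eq_zero.1 (keeps_eq_zero hB h2 hF
    (fun c hc v hv => sub_mem (φ.2 c hc v hv) (ψ.2 c hc v hv)) ha hu hu0 ?_))
  rw [LinearMap.sub_apply, sub_eq_zero]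
  exact congrArg Subtype.val h

theorem shape_of_flat {a₀ : V ≃ₗ[ZMod p] V} (ha₀ : IsLeast' H a₀) : Shape H := by
  classical
  have : Finite (V ≃ₗ[ZMod p] V) := Finite.of_injective _ DFunLike.coe_injective
  have : Finite (Module.End (ZMod p) V) := Finite.of_injective _ DFunLike.coe_injective
  set f := finrank (ZMod p) (mv a₀) with hf
  set q := Nat.card (ZMod p) ^ f with hq
  have hf0 : f ≠ 0 := fun e => mv_ne_bot ha₀.ne (Submodule.finrank_eq_zero.1 e)
  have hq1 : 2 < q := by
    have hp : 2 < p := by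
      rcases (Fact.out : p.Prime).two_le.lt_or_eq with h | h
      · exact h
      · subst h; exact absurd (ZMod.natCast_self 2) h2
    rw [hq, Nat.card_eq_fintype_card, ZMod.card]
    exact lt_of_lt_of_le hp (Nat.le_self_pow hf0 _)
  -- the number of least elements
  have hN : Nat.card (Inside H (⊤ : Submodule (ZMod p) V)) = q + 1 := by
    have h := count_inside hB h2 hF.cov ha₀
    rw [finrank_top, hF.dim a₀ ha₀, ← hf, mul_comm 2 f, pow_mul, ← hq] at h
    rw [show q ^ 2 - 1 = (q + 1) * (q - 1) by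
      simpa [pow_two] using Nat.mul_self_sub_mul_self_eq q 1] at h
    exact Nat.eq_of_mul_eq_mul_right (by omega) h
  let neg : V ≃ₗ[ZMod p] V := LinearEquiv.neg (ZMod p)
  have hnegH : neg ∈ H := by
    obtain ⟨b, hb, hab, hsum⟩ := hF.partner a₀ ha₀
    have e : a₀ * b = neg := pair_eq_neg hB h2 hF ha₀ hb hab hsum
    exact e ▸ H.mul_mem ha₀.mem hb.mem
  have hneg_fx : fx neg = ⊥ := (Submodule.eq_bot_iff _).2 fun v hv =>
    zero_of_eq_neg h2 (mem_fx.1 hv).symm
  -- the fixed point free part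
  let InA : (V ≃ₗ[ZMod p] V) → Prop := fun g => g ∈ H ∧ (g = 1 ∨ fx g = ⊥)
  let InN : (V ≃ₗ[ZMod p] V) → Prop := fun g => g ∈ H ∧ fx g = ⊥ ∧ g ≠ neg
  have hmapA : ∀ a, IsLeast' H a → InA (a * a₀) := by
    intro a ha
    refine ⟨H.mul_mem ha.mem ha₀.mem, ?_⟩
    by_cases h1 : a * a₀ = 1
    · exact Or.inl h1
    right
    by_contra hne
    obtain ⟨u, hu, hu0⟩ := Submodule.exists_mem_ne_zero_of_ne_bot hne
    have hx := least_of_fixes hB h2 hF (H.mul_mem ha.mem ha₀.mem) h1 hu0 (mem_fx.1 hu)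
    have hcomm : a₀ * a * a₀⁻¹ = a := by
      rw [inv_eq_of_mul_eq_one_right (least_mul_self hB h2 ha₀)]
      have h := least_mul_self hB h2 hx
      calc a₀ * a * a₀ = a⁻¹ * ((a * a₀) * (a * a₀)) := by group
      _ = a := by rw [h, mul_one, inv_eq_of_mul_eq_one_right (least_mul_self hB h2 ha)]
    obtain ⟨v, hv, hv0⟩ := ha.exists_ne
    rcases pm hB h2 ha₀.mem ha hv (preserves_of_conj hB h2 hcomm hv) with e | e
    · obtain ⟨b, hb, hab, hsum⟩ := hF.partner a ha
      obtain rfl : a₀ = b := eq_of_orth_in hB h2 ha hb ha₀ hab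
        (mem_fx_symm hB h2 ha ha₀ hv (mem_fx.2 e) hv0) (hsum ▸ le_top)
      rw [pair_eq_neg hB h2 hF ha hb hab hsum] at hu
      exact hu0 ((Submodule.eq_bot_iff _).1 hneg_fx u hu)
    · obtain rfl := least_ext hB h2 ha ha₀ hv (mem_mv_of_neg h2 e) hv0
      exact h1 (least_mul_self hB h2 ha)
  -- the operators attached to the fixed point free elements
  have hS : ∀ g, InN g → ∃ S : Module.End (ZMod p) V, (∀ w, g w + w = S (g w - w)) ∧
      (∀ v, S v = 0 → v = 0) ∧ (∀ v, S v = v → v = 0) ∧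
      ∀ a, IsLeast' H a → ∀ v ∈ mv a, S v ∈ fx a := by
    rintro g ⟨hg, hfx, hne⟩
    let D0 : Module.End (ZMod p) V := (g : V →ₗ[ZMod p] V) - 1
    have hD : Function.Injective D0 := LinearMap.ker_eq_bot.1 hfx
    let D := LinearEquiv.ofBijective D0 ⟨hD, LinearMap.injective_iff_surjective.1 hD⟩
    let E : Module.End (ZMod p) V := (g : V →ₗ[ZMod p] V) + 1
    have hDapp : ∀ w, D w = g w - w := fun w => rfl
    have hDsymm : ∀ v, g (D.symm v) - D.symm v = v := fun v => by
      rw [← hDapp, LinearEquiv.apply_symm_apply]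
    refine ⟨E ∘ₗ D.symm.toLinearMap, fun w => ?_, fun v hv => ?_, fun v hv => ?_, fun a ha v hv => ?_⟩
    · show _ = E (D.symm _)
      rw [← hDapp w, LinearEquiv.symm_apply_apply]
      rfl
    · change g (D.symm v) + D.symm v = 0 at hv
      by_contra h0
      refine hne (eq_neg_of_negates hB h2 hF hg hfx (v := D.symm v) ?_ (eq_neg_of_add_eq_zero_left hv))
      simpa using h0
    · change g (D.symm v) + D.symm v = v at hv
      have h := hDsymm v
      have h3 : D.symm v = 0 := add_self_inj h2 (by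
        calc D.symm v + D.symm v
            = (g (D.symm v) + D.symm v) - (g (D.symm v) - D.symm v) := by abel
        _ = 0 + 0 := by rw [hv, h, sub_self, add_zero])
      simpa using congrArg D h3
    · by_cases h0 : v = 0
      · simp [h0]
      show g (D.symm v) + D.symm v ∈ fx a
      obtain ⟨v', hv'⟩ := exists_half h2 v
      have hw : g (D.symm v) = D.symm v + (v' + v') := by
        rw [hv', eq_add_of_sub_eq (hDsymm v), add_comm]
      have h3 := mem_fx_of_perp hB h2 ha (v := v') (c := D.symm v + v')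
        (half_mem h2 (hv'.symm ▸ hv)) (fun e => h0 (by rw [← hv', e, add_zero]))
        (of_move hB h2 hg hw).2
      rw [hw, show D.symm v + (v' + v') + D.symm v = (D.symm v + v') + (D.symm v + v') by abel]
      exact add_mem h3 h3
  choose S hSeq hSinj hSfix hSperp using hS
  -- they all differ by keeping endomorphisms
  have hphi : ∀ g₀ (hg₀ : InN g₀), ∀ g (hg : InN g), ∃ φ : Module.End (ZMod p) V,
      Keeps H φ ∧ φ ≠ 0 ∧ S g hg = S g₀ hg₀ * φ := by
    intro g₀ hg₀ g hg
    have hinj : Function.Injective (S g₀ hg₀) := by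
      rw [← LinearMap.ker_eq_bot, Submodule.eq_bot_iff]
      exact fun v hv => hSinj g₀ hg₀ v hv
    let S₀ := LinearEquiv.ofBijective _ ⟨hinj, LinearMap.injective_iff_surjective.1 hinj⟩
    refine ⟨S₀.symm.toLinearMap ∘ₗ S g hg, fun a ha v hv => ?_, fun h => ?_, ?_⟩
    · have hmap : (mv a).map (S g₀ hg₀) = fx a := by
        refine Submodule.eq_of_le_of_finrank_le (Submodule.map_le_iff_le_comap.2
          fun w hw => hSperp g₀ hg₀ a ha w hw) (le_of_eq ?_)
        have e1 := finrank_fx_add_mv a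
        rw [hF.dim a ha] at e1
        rw [← (Submodule.equivMapOfInjective _ hinj (mv a)).finrank_eq]
        omega
      obtain ⟨w, hw, e⟩ := Submodule.mem_map.1 (hmap ▸ hSperp g hg a ha v hv)
      show S₀.symm (S g hg v) ∈ mv a
      rw [← e, show S₀.symm (S g₀ hg₀ w) = w from S₀.symm_apply_apply w]
      exact hw
    · obtain ⟨v, hv, hv0⟩ := ha₀.exists_ne
      have h3 : S₀.symm (S g hg v) = 0 := LinearMap.congr_fun h v
      exact hv0 (hSinj g hg v (by simpa using h3))
    · ext v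
      exact (S₀.apply_symm_apply _).symm
  -- an element determined by its operator
  have hcancel : ∀ g (hg : InN g) (X : Module.End (ZMod p) V),
      (∀ v, S g hg (X v) = X (S g hg v)) → ∀ v, g (X v) = X (g v) := by
    intro g hg X hX v
    have h1 := hSeq g hg (X v)
    have h3 : X (g v + v) = S g hg (X (g v - v)) := by rw [hX, ← hSeq g hg v]
    rw [map_add, map_sub] at h3
    refine sub_eq_zero.1 (hSfix g hg _ ?_)
    calc S g hg (g (X v) - X (g v))
        = S g hg ((g (X v) - X v) - (X (g v) - X v)) := by rw [sub_sub_sub_cancel_right]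
    _ = g (X v) - X (g v) := by rw [map_sub, ← h1, ← h3, add_sub_add_right_eq_sub]
  have hinjS : ∀ g (hg : InN g) g' (hg' : InN g'), S g hg = S g' hg' → g = g' := by
    intro g hg g' hg' h
    refine LinearEquiv.ext fun v => sub_eq_zero.1 (hSfix g hg _ ?_)
    calc S g hg (g v - g' v) = S g hg ((g v - v) - (g' v - v)) := by rw [sub_sub_sub_cancel_right]
    _ = g v - g' v := by rw [map_sub, ← hSeq, h, ← hSeq, add_sub_add_right_eq_sub]
  let A := {g // InA g}
  let N := {g // InN g}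
  have hcardN : Nat.card N + 1 ≤ q ∨ Nat.card N = 0 := by
    by_cases hN0 : IsEmpty N
    · exact Or.inr (by simp)
    left
    obtain ⟨⟨g₀, hg₀⟩⟩ := not_isEmpty_iff.1 hN0
    choose φ hφk hφ0 hφe using hphi g₀ hg₀
    let F : Option N → {φ : Module.End (ZMod p) V // Keeps H φ} := fun o => o.elim
      ⟨0, fun a _ v _ => zero_mem _⟩ fun g => ⟨φ g.1 g.2, hφk g.1 g.2⟩
    have hF' : Function.Injective F := by
      rintro (_ | g) (_ | g') h
      · rfl
      · exact absurd (congrArg Subtype.val h).symm (hφ0 g'.1 g'.2)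
      · exact absurd (congrArg Subtype.val h) (hφ0 g.1 g.2)
      · refine congrArg some (Subtype.ext (hinjS g.1 g.2 g'.1 g'.2 ?_))
        exact (hφe g.1 g.2).trans ((congrArg (S g₀ hg₀ * ·)
          (show φ g.1 g.2 = φ g'.1 g'.2 from congrArg Subtype.val h)).trans (hφe g'.1 g'.2).symm)
    have h := (Nat.card_le_card_of_injective F hF').trans (card_keeps_le hB h2 hF ha₀)
    rwa [Finite.card_option] at h
  let toA : Inside H (⊤ : Submodule (ZMod p) V) → A := fun a => ⟨a.1 * a₀, hmapA a.1 a.2.1⟩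
  have htoA : Function.Injective toA := fun a b h =>
    Subtype.ext (mul_right_cancel (congrArg Subtype.val h))
  have hcardA : Nat.card A ≤ Nat.card N + 2 := by
    let G : A → Option (Option N) := fun g => if h1 : g.1 = 1 then none
      else if h3 : g.1 = neg then some none
      else some (some ⟨g.1, g.2.1, g.2.2.resolve_left h1, h3⟩)
    have hG : Function.Injective G := by
      intro g g' h
      refine Subtype.ext ?_
      simp only [G] at h
      by_cases a1 : g.1 = 1 <;> by_cases b1 : g'.1 = 1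
      · rw [a1, b1]
      · rw [dif_pos a1, dif_neg b1] at h
        split_ifs at h
      · rw [dif_neg a1, dif_pos b1] at h
        split_ifs at h
      · by_cases a3 : g.1 = neg <;> by_cases b3 : g'.1 = neg
        · rw [a3, b3]
        · rw [dif_neg a1, dif_pos a3, dif_neg b1, dif_neg b3] at h
          simp at h
        · rw [dif_neg a1, dif_neg a3, dif_neg b1, dif_pos b3] at h
          simp at h
        · rw [dif_neg a1, dif_neg a3, dif_neg b1, dif_neg b3] at h
          exact congrArg (fun o : Option (Option N) => ((o.getD none).map Subtype.val).getD 1) h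
    refine (Nat.card_le_card_of_injective G hG).trans (le_of_eq ?_)
    rw [Finite.card_option, Finite.card_option]
  have hlow := Nat.card_le_card_of_injective toA htoA
  rw [hN] at hlow
  have hcA : Nat.card A = q + 1 := by omega
  have hbij := htoA.bijective_of_nat_card_le (by rw [hcA, hN])
  obtain ⟨g₀, hg₀⟩ : ∃ g, InN g := by
    by_contra h
    have : IsEmpty N := ⟨fun g => h ⟨g.1, g.2⟩⟩
    have h0 : Nat.card N = 0 := by simp
    omega
  have hprod : ∀ g, InA g → ∀ φ, Keeps H φ → ∀ v, g (φ v) = φ (g v) := by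
    intro g hg φ hφ v
    obtain ⟨a, ha⟩ := hbij.2 ⟨g, hg⟩
    obtain rfl : a.1 * a₀ = g := congrArg Subtype.val ha
    rw [LinearEquiv.mul_apply, LinearEquiv.mul_apply, keeps_comm hB h2 hF hφ ha₀,
      keeps_comm hB h2 hF hφ a.2.1]
  have hSφ : ∀ g (hg : InN g) φ, Keeps H φ → ∀ v, S g hg (φ v) = φ (S g hg v) := by
    intro g hg φ hφ v
    obtain ⟨w, rfl⟩ : ∃ w, g w - w = v := by
      let D0 : Module.End (ZMod p) V := (g : V →ₗ[ZMod p] V) - 1
      exact LinearMap.injective_iff_surjective.1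
        (LinearMap.ker_eq_bot.1 hg.2.1 : Function.Injective D0) v
    have hp := hprod g ⟨hg.1, Or.inr hg.2.1⟩ φ hφ w
    rw [← hSeq g hg w, map_sub, ← hp, ← hSeq g hg (φ w), hp, map_add]
  have hcommA : ∀ x, InA x → ∀ y, InA y → x * y = y * x := by
    intro x hx y hy
    have triv : ∀ x y : V ≃ₗ[ZMod p] V, (x = 1 ∨ x = neg) → x * y = y * x := by
      rintro x y (rfl | rfl)
      · simp
      · exact LinearEquiv.ext fun v => by simp [neg, LinearEquiv.mul_apply]
    by_cases h1 : x = 1 ∨ x = neg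
    · exact triv x y h1
    by_cases h3 : y = 1 ∨ y = neg
    · exact (triv y x h3).symm
    push Not at h1 h3
    have hxN : InN x := ⟨hx.1, hx.2.resolve_left h1.1, h1.2⟩
    have hyN : InN y := ⟨hy.1, hy.2.resolve_left h3.1, h3.2⟩
    obtain ⟨φ, hφ, -, hxe⟩ := hphi g₀ hg₀ x hxN
    obtain ⟨ψ, hψ, -, hye⟩ := hphi g₀ hg₀ y hyN
    have hxS₀ : ∀ v, x (S g₀ hg₀ v) = S g₀ hg₀ (x v) :=
      hcancel x hxN _ fun v => by
        simp only [hxe, Module.End.mul_apply, hSφ g₀ hg₀ φ hφ]
    have hxSy : ∀ v, x (S y hyN v) = S y hyN (x v) := fun v => by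
      rw [hye, Module.End.mul_apply, Module.End.mul_apply, hxS₀, hprod x hx ψ hψ]
    exact (LinearEquiv.ext fun v =>
      hcancel y hyN (x : V →ₗ[ZMod p] V) (fun w => (hxSy w).symm) v).symm
  have hclose : ∀ x, InA x → ∀ y, InA y → InA (x * y) := by
    intro x hx y hy
    refine ⟨H.mul_mem hx.1 hy.1, ?_⟩
    by_cases h1 : x * y = 1
    · exact Or.inl h1
    right
    by_contra hne
    obtain ⟨u, hu, hu0⟩ := Submodule.exists_mem_ne_zero_of_ne_bot hne
    have hc := least_of_fixes hB h2 hF (H.mul_mem hx.1 hy.1) h1 hu0 (mem_fx.1 hu)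
    have hxy := hcommA x hx y hy
    have hconj : x * (x * y) * x⁻¹ = x * y := by
      rw [show x * (x * y) = x * (y * x) by rw [hxy]]
      group
    have key : ∀ x y : V ≃ₗ[ZMod p] V, InA x → InA y → IsLeast' H (x * y) →
        x * (x * y) * x⁻¹ = x * y → fx (x * y) ≠ ⊥ → x ≠ 1 → x = neg := by
      intro x y hx _ hc hconj _ hx1
      obtain ⟨v, hv, hv0⟩ := hc.exists_ne
      have hfx := hx.2.resolve_left hx1
      rcases pm hB h2 hx.1 hc hv (preserves_of_conj hB h2 hconj hv) with e | e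
      · exact absurd ((Submodule.eq_bot_iff _).1 hfx v (mem_fx.2 e)) hv0
      · exact eq_neg_of_negates hB h2 hF hx.1 hfx hv0 e
    by_cases hx1 : x = 1
    · subst hx1
      rw [one_mul] at h1 hne
      exact hne (hy.2.resolve_left h1)
    have hxn := key x y hx hy hc hconj hne hx1
    obtain ⟨v, hv, hv0⟩ := hc.exists_ne
    have hyv : y v = v := by
      have := least_neg hB h2 hc hv
      rw [hxn, LinearEquiv.mul_apply, LinearEquiv.neg_apply, neg_inj] at this
      exact this
    rcases hy.2 with rfl | hy2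
    · rw [mul_one, hxn] at hne
      exact hne hneg_fx
    · exact hv0 ((Submodule.eq_bot_iff _).1 hy2 v (mem_fx.2 hyv))
  have hinv : ∀ x, InA x → InA x⁻¹ := fun x hx => ⟨H.inv_mem hx.1, by
    rcases hx.2 with rfl | h
    · exact Or.inl inv_one
    · refine Or.inr ((Submodule.eq_bot_iff _).2 fun v hv => ?_)
      refine (Submodule.eq_bot_iff _).1 h v (mem_fx.2 ?_)
      have := congrArg (fun z => x z) (mem_fx.1 hv)
      simpa using this.symm⟩
  let R : Subgroup (V ≃ₗ[ZMod p] V) :=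
    { carrier := {g | InA g}
      mul_mem' := fun {x y} hx hy => hclose x hx y hy
      one_mem' := ⟨H.one_mem, Or.inl rfl⟩
      inv_mem' := fun {x} hx => hinv x hx }
  refine ⟨R, a₀, f, Nat.pos_of_ne_zero hf0, ?_, hcA, hcommA, fun r hr hr1 v hv =>
    (Submodule.eq_bot_iff _).1 (hr.2.resolve_left hr1) v (mem_fx.2 hv), fun r hr => hr.1, ha₀.mem,
    least_mul_self hB h2 ha₀, fun r hr => ?_, ?_, fun h hh => ?_⟩
  · rw [Module.natCard_eq_pow_finrank (K := ZMod p) (V := V), hF.dim a₀ ha₀, mul_comm 2, pow_mul]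
  · obtain ⟨a, ha⟩ := hbij.2 ⟨r, hr⟩
    obtain rfl : a.1 * a₀ = r := congrArg Subtype.val ha
    rw [mul_inv_rev, inv_eq_of_mul_eq_one_right (least_mul_self hB h2 a.2.1),
      inv_eq_of_mul_eq_one_right (least_mul_self hB h2 ha₀), mul_assoc, mul_assoc,
      least_mul_self hB h2 ha₀, mul_one]
  · obtain ⟨b, hb, hab, -⟩ := hF.partner a₀ ha₀
    obtain ⟨u, hu, hu0⟩ := hb.exists_ne
    exact ⟨u, hu0, mem_fx.1 (hab hu)⟩
  · by_cases hA : InA h
    · exact Or.inl hA
    · right
      have h1 : h ≠ 1 := fun e => hA ⟨hh, Or.inl e⟩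
      obtain ⟨u, hu, hu0⟩ := Submodule.exists_mem_ne_zero_of_ne_bot (fun e => hA ⟨hh, Or.inr e⟩)
      exact hmapA h (least_of_fixes hB h2 hF hh h1 hu0 (mem_fx.1 hu))

omit hF in
/-- The alternative in odd characteristic. -/
theorem odd_main [Nontrivial V] (hirr : Irred H) :
    (finrank (ZMod p) V = 1 ∧ Nat.card H ≤ 2) ∨ Shape H := by
  classical
  have : Finite (V ≃ₗ[ZMod p] V) := Finite.of_injective _ DFunLike.coe_injective
  -- a group of signs
  have small : (∀ g ∈ H, g = 1 ∨ g = LinearEquiv.neg (ZMod p)) →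
      finrank (ZMod p) V = 1 ∧ Nat.card H ≤ 2 := by
    intro hsign
    refine ⟨?_, ?_⟩
    · obtain ⟨v, hv⟩ := exists_ne (0 : V)
      rcases hirr (Submodule.span (ZMod p) {v}) (fun g hg s hs => by
        rcases hsign g hg with rfl | rfl
        · exact hs
        · exact neg_mem hs) with e | e
      · exact absurd (Submodule.span_singleton_eq_bot.1 e) hv
      · rw [← finrank_top, ← e, finrank_span_singleton hv]
    · let G : H → Option Unit := fun g => if g.1 = 1 then none else some ()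
      have hG : Function.Injective G := by
        intro g g' h
        refine Subtype.ext ?_
        simp only [G] at h
        by_cases a : g.1 = 1 <;> by_cases b : g'.1 = 1
        · rw [a, b]
        · simp [a, b] at h
        · simp [a, b] at h
        · rw [(hsign g g.2).resolve_left a, (hsign g' g'.2).resolve_left b]
      exact (Nat.card_le_card_of_injective G hG).trans (by simp [Finite.card_option])
  by_cases hH : ∀ g ∈ H, g = 1
  · exact Or.inl (small fun g hg => Or.inl (hH g hg))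
  push Not at hH
  obtain ⟨g, hg, hg1⟩ := hH
  -- a least element
  obtain ⟨t, ht⟩ : ∃ t, IsLeast' H t := by
    have hex : ∃ n, ∃ t ∈ H, t ≠ 1 ∧ finrank (ZMod p) (mv t) = n := ⟨_, g, hg, hg1, rfl⟩
    obtain ⟨t, ht, ht1, hn⟩ := Nat.find_spec hex
    exact ⟨t, ht, ht1, fun g hg hg1 => hn ▸ Nat.find_min' hex ⟨g, hg, hg1, rfl⟩⟩
  by_cases hconj : ∀ γ ∈ H, γ * t * γ⁻¹ = t
  · left
    refine small fun g hg => ?_
    have htop : mv t = ⊤ := (hirr (mv t) fun h hh s hs =>
      preserves_of_conj hB h2 (hconj h hh) hs).resolve_left (mv_ne_bot ht.ne)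
    by_cases h1 : g = 1
    · exact Or.inl h1
    right
    have hle := ht.le g hg h1
    rw [htop, finrank_top] at hle
    have hgtop : mv g = ⊤ := Submodule.eq_top_of_finrank_eq
      (le_antisymm (Submodule.finrank_le _) hle)
    have hgl : IsLeast' H g := ⟨hg, h1, fun k hk hk1 => by
      rw [hgtop]; exact htop ▸ ht.le k hk hk1⟩
    exact LinearEquiv.ext fun v => least_neg hB h2 hgl (hgtop ▸ Submodule.mem_top)
  push Not at hconj
  obtain ⟨γ, hγ, hne⟩ := hconj
  right
  obtain ⟨htop, hcov⟩ := plane_top hB h2 hirr ht hγ hne.symm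
  have hs := ht.conj hγ
  refine shape_of_flat hB h2 ⟨htop ▸ hcov, fun a ha => ?_, fun a ha => ?_⟩ ht
  · rw [← finrank_top, ← htop, finrank_pair hB h2 ht hs hne.symm, ht.finrank_eq ha]
  · obtain ⟨b, hb, hba, -, hsum⟩ := partner hB h2 ht hs hne.symm hcov ha (htop ▸ le_top)
    exact ⟨b, hb, hba, hsum.trans htop⟩

end Cfsg.Agent.CherlinBinary73
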