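import Mathlib
import Cfsg.Agent.Lib.CherlinBinary73Basic

/-!
Linear parts of binary affine groups in characteristic two: involutions with a smallest space of
displacements.
-/

set_option autoImplicit false
set_option linter.unusedSectionVars false

namespace Cfsg.Agent.CherlinBinary73

open Module

variable {K V : Type*} [Field K] [AddCommGroup V] [Module K V] [FiniteDimensional K V] [Finite V]
variable {H : Subgroup (V ≃ₗ[K] V)}

/-- An involution of `H` with a smallest space of displacements. -/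
structure IsLeastInv (H : Subgroup (V ≃ₗ[K] V)) (t : V ≃ₗ[K] V) : Prop where
  mem : t ∈ H
  sq : t * t = 1
  ne : t ≠ 1
  le : ∀ g ∈ H, g * g = 1 → g ≠ 1 → finrank K (mv t) ≤ finrank K (mv g)

section

variable (hB : Bin H) (h0 : (2 : K) = 0)
include hB h0

omit hB in
theorem add_self_zero (v : V) : v + v = 0 := by rw [← two_smul K v, h0, zero_smul]

omit hB in
theorem neg_self (v : V) : -v = v := neg_eq_of_add_eq_zero_right (add_self_zero h0 v)

omit hB in
theorem mv_le_fx {t : V ≃ₗ[K] V} (ht : t * t = 1) : mv t ≤ fx t := fun v hv => by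
  obtain ⟨w, hw⟩ := mem_mv.1 hv
  have h := congrArg (fun x => t x) hw
  simp only [map_add] at h
  rw [← LinearEquiv.mul_apply, ht, hw] at h
  have h1 : t v = -v := by
    calc t v = (w + v + t v) - (w + v) := by abel
    _ = -v := by rw [← h]; simp
  exact mem_fx.2 (h1.trans (neg_self h0 v))

/-- The largest shift by `y` fixes `y` and the fixed space of every element displacing by `y`. -/
theorem shift_spec (y : V) : ∃ h ∈ H, (∀ w, (∃ k ∈ H, k w = w + y) → h w = w + y) ∧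
    ∀ g ∈ H, y ∈ mv g → h y = y ∧ fx g ≤ fx h := by
  obtain ⟨h, hh, h1⟩ := exists_shift hB y
  refine ⟨h, hh, h1, fun g hg hy => ?_⟩
  obtain ⟨w, hw⟩ := mem_mv.1 hy
  obtain ⟨h', -, hfix, h1'⟩ := exists_shift_reflect hB hg hw
  refine ⟨?_, fun c hc => mem_fx.2 ?_⟩
  · rw [show w + w + y = y by rw [add_self_zero h0, zero_add]] at hfix
    have a := h1 w ⟨g, hg, hw⟩
    have b := h1 (w + y) ⟨g⁻¹, H.inv_mem hg, by
      rw [← hw, show g w + y = w by rw [hw, add_assoc, add_self_zero h0, add_zero]]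
      show (g⁻¹ * g) w = w
      simp⟩
    rw [map_add, a, add_assoc, add_assoc, add_right_inj, add_right_inj] at b
    exact b
  · have b := h1 (w + c) ⟨g, hg, by rw [map_add, hw, mem_fx.1 hc]; abel⟩
    rw [map_add, h1 w ⟨g, hg, hw⟩, show w + c + y = w + y + c by abel, add_right_inj] at b
    exact b

/-- An element cannot be displaced into a space it centralises. -/
theorem forbid {g k : V ≃ₗ[K] V} (hg : g ∈ H) (hk : k ∈ H) {w y : V} (hy : y ∈ mv g)
    (hw : w ∈ fx g) (hkw : k w = w + y) : y = 0 := by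
  obtain ⟨h, -, h1, h2⟩ := shift_spec hB h0 y
  have := h1 w ⟨k, hk, hkw⟩
  rwa [mem_fx.1 ((h2 g hg hy).2 hw), left_eq_add] at this

omit hB h0 in
theorem pow_shift {h : V ≃ₗ[K] V} {w y : V} (hw : h w = w + y) (hy : h y = y) :
    ∀ n : ℕ, (h ^ n) w = w + n • y
  | 0 => by simp
  | n + 1 => by
    rw [pow_succ', LinearEquiv.mul_apply, pow_shift hw hy n, map_add, hw, map_nsmul, hy, succ_nsmul]
    abel

omit hB in
theorem nsmul_odd {n : ℕ} (hn : Odd n) (y : V) : n • y = y := by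
  obtain ⟨k, rfl⟩ := hn
  rw [succ_nsmul, two_mul, add_nsmul, add_self_zero h0, zero_add]

/-- No element of order four. -/
theorem sq_eq_one {g : V ≃ₗ[K] V} (hg : g ∈ H) (h4 : g * g * (g * g) = 1) : g * g = 1 := by
  refine LinearEquiv.ext fun x => ?_
  let n : V → V := fun v => g v + v
  have hn : ∀ v, g v = v + n v := fun v => by
    show g v = v + (g v + v)
    rw [add_left_comm, add_self_zero h0, add_zero]
  have hgg : ∀ v, (g * g) v = v + n (n v) := fun v => by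
    rw [LinearEquiv.mul_apply]
    show g (g v) = v + (g (g v + v) + (g v + v))
    rw [map_add, show v + (g (g v) + g v + (g v + v)) = g (g v) + ((g v + g v) + (v + v)) by abel,
      add_self_zero h0, add_self_zero h0, add_zero, add_zero]
  -- it is enough to treat vectors with vanishing third displacement
  have key : ∀ w, n (n (n w)) = 0 → n (n w) = 0 := by
    intro w hw
    refine forbid hB h0 (H.mul_mem hg hg) hg (w := n w) (mem_mv.2 ⟨w, hgg w⟩) (mem_fx.2 ?_) (hn _)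
    rw [hgg, hw, add_zero]
  have hn4 : ∀ v, n (n (n (n v))) = 0 := fun v => by
    have e := LinearEquiv.congr_fun h4 v
    rw [LinearEquiv.mul_apply, hgg v, map_add, hgg v, hgg (n (n v))] at e
    change v + n (n v) + (n (n v) + n (n (n (n v)))) = v at e
    rw [add_assoc, ← add_assoc (n (n v)), add_self_zero h0, zero_add, add_eq_left] at e
    exact e
  rw [hgg, key x (key (n x) (hn4 x))]
  simp

theorem exists_invol_shift {g : V ≃ₗ[K] V} (hg : g ∈ H) {y : V} (hy : y ∈ mv g) (hy0 : y ≠ 0) :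
    ∃ h ∈ H, h * h = 1 ∧ h ≠ 1 ∧ fx g ≤ fx h ∧ h y = y ∧
      ∀ w, (∃ k ∈ H, k w = w + y) → h w = w + y := by
  obtain ⟨h, hh, h1, h2⟩ := shift_spec hB h0 y
  obtain ⟨hhy, hle⟩ := h2 g hg hy
  obtain ⟨w, hw⟩ := mem_mv.1 hy
  have hwh := h1 w ⟨g, hg, hw⟩
  have : Finite (V ≃ₗ[K] V) := Finite.of_injective _ DFunLike.coe_injective
  have ho : 0 < orderOf h := orderOf_pos h
  have heven : Even (orderOf h) := by
    by_contra hodd
    rw [Nat.not_even_iff_odd] at hodd
    have := pow_shift hwh hhy (orderOf h)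
    rw [pow_orderOf_eq_one, nsmul_odd h0 hodd] at this
    exact hy0 (left_eq_add.1 (show w = w + y by simpa using this))
  obtain ⟨b, hb⟩ := heven
  have hbodd : Odd b := by
    by_contra he
    obtain ⟨c, hc⟩ := Nat.not_odd_iff_even.1 he
    have h4 := sq_eq_one hB h0 (H.pow_mem hh c) (by
      rw [← pow_add, ← pow_add, ← hc, ← hb, pow_orderOf_eq_one])
    rw [← pow_add, ← hc] at h4
    have := Nat.le_of_dvd (by omega) (orderOf_dvd_of_pow_eq_one h4)
    omega
  refine ⟨h ^ b, H.pow_mem hh b, ?_, ?_, fun c hc => mem_fx.2 ?_, ?_, fun u hu => ?_⟩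
  · rw [← pow_add, ← hb, pow_orderOf_eq_one]
  · intro e
    have := pow_shift hwh hhy b
    rw [e, nsmul_odd h0 hbodd] at this
    exact hy0 (left_eq_add.1 (show w = w + y by simpa using this))
  · have hcfix : h c = c := mem_fx.1 (hle hc)
    simpa using pow_shift (y := 0) (by rw [hcfix, add_zero]) (map_zero h) b
  · simpa using pow_shift (y := 0) (by rw [hhy, add_zero]) (map_zero h) b
  · rw [pow_shift (h1 u hu) hhy, nsmul_odd h0 hbodd]

theorem comm_mv_le {t s : V ≃ₗ[K] V} (ht : t ∈ H) (hs : s ∈ H) (hss : s * s = 1)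
    (hc : t * s = s * t) : mv t ≤ fx s := by
  intro v hv
  obtain ⟨w, hw⟩ := mem_mv.1 hv
  refine mem_fx.2 (sub_eq_zero.1 (forbid hB h0 hs ht (w := s w - w) (sub_mem_mv s v)
    (mv_le_fx h0 hss (sub_mem_mv s w)) ?_))
  rw [map_sub, ← LinearEquiv.mul_apply, hc, LinearEquiv.mul_apply, hw, map_add]
  abel

omit hB h0 in
theorem comm_of_mv_le {t s : V ≃ₗ[K] V} (h1 : mv t ≤ fx s) (h2 : mv s ≤ fx t) :
    t * s = s * t := LinearEquiv.ext fun w => by
  have e1 := mem_fx.1 (h2 (sub_mem_mv s w))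
  have e2 := mem_fx.1 (h1 (sub_mem_mv t w))
  rw [map_sub] at e1 e2
  rw [LinearEquiv.mul_apply, LinearEquiv.mul_apply, eq_add_of_sub_eq e1, eq_add_of_sub_eq e2]
  abel

omit hB h0 in
theorem IsLeastInv.finrank_eq {t s : V ≃ₗ[K] V} (ht : IsLeastInv H t) (hs : IsLeastInv H s) :
    finrank K (mv t) = finrank K (mv s) :=
  le_antisymm (ht.le s hs.mem hs.sq hs.ne) (hs.le t ht.mem ht.sq ht.ne)

omit hB h0 in
theorem IsLeastInv.conj {t γ : V ≃ₗ[K] V} (ht : IsLeastInv H t) (hγ : γ ∈ H) :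
    IsLeastInv H (γ * t * γ⁻¹) where
  mem := H.mul_mem (H.mul_mem hγ ht.mem) (H.inv_mem hγ)
  sq := by rw [show γ * t * γ⁻¹ * (γ * t * γ⁻¹) = γ * (t * t) * γ⁻¹ by group, ht.sq]; simp
  ne h := ht.ne (by simpa [mul_inv_eq_one] using h)
  le g hg hgg hg1 := finrank_mv_conj γ t ▸ ht.le g hg hgg hg1

omit hB h0 in
theorem IsLeastInv.exists_ne {t : V ≃ₗ[K] V} (ht : IsLeastInv H t) : ∃ v ∈ mv t, v ≠ 0 :=
  Submodule.exists_mem_ne_zero_of_ne_bot (mv_ne_bot ht.ne)

omit hB h0 in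
theorem IsLeastInv.fx_max {t h : V ≃ₗ[K] V} (ht : IsLeastInv H t) (hh : h ∈ H) (hhh : h * h = 1)
    (h1 : h ≠ 1) (hle : fx t ≤ fx h) : fx t = fx h := by
  have e1 := ht.le h hh hhh h1
  have e2 := finrank_fx_add_mv t
  have e3 := finrank_fx_add_mv h
  exact Submodule.eq_of_le_of_finrank_le hle (by omega)

theorem least_shift {t : V ≃ₗ[K] V} (ht : IsLeastInv H t) {y : V} (hy : y ∈ mv t) (hy0 : y ≠ 0)
    {g : V ≃ₗ[K] V} (hg : g ∈ H) {w : V} (hw : g w = w + y) : t w = w + y := by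
  obtain ⟨h, hh, hhh, hne, hle, -, h1⟩ := exists_invol_shift hB h0 ht.mem hy hy0
  have heq := ht.fx_max hh hhh hne hle
  obtain ⟨u, hu⟩ := mem_mv.1 hy
  have hcomm : t * h = h * t :=
    comm_of_mv_le ((mv_le_fx h0 ht.sq).trans heq.le) ((mv_le_fx h0 hhh).trans heq.ge)
  suffices t * h = 1 by
    have hth : h = t := by
      have := congrArg (fun x => t * x) this
      simpa [← mul_assoc, ht.sq] using this
    exact hth ▸ h1 w ⟨g, hg, hw⟩
  by_contra hk
  have hk2 : t * h * (t * h) = 1 := by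
    rw [mul_assoc, ← mul_assoc h t, ← hcomm, mul_assoc t h h, hhh, mul_one, ht.sq]
  have hkle : fx t ≤ fx (t * h) := fun c hc => mem_fx.2 (by
    rw [LinearEquiv.mul_apply, mem_fx.1 (heq.le hc), mem_fx.1 hc])
  have hke := ht.fx_max (H.mul_mem ht.mem hh) hk2 hk hkle
  have hu' : u ∈ fx (t * h) := mem_fx.2 (by
    rw [LinearEquiv.mul_apply, h1 u ⟨t, ht.mem, hu⟩, ← hu, ← LinearEquiv.mul_apply, ht.sq]
    rfl)
  rw [← hke, mem_fx, hu, add_eq_left] at hu'
  exact hy0 hu'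

theorem leastInv_ext {t s : V ≃ₗ[K] V} (ht : IsLeastInv H t) (hs : IsLeastInv H s) {y : V}
    (hyt : y ∈ mv t) (hys : y ∈ mv s) (hy0 : y ≠ 0) : t = s := by
  obtain ⟨w, hw⟩ := mem_mv.1 hys
  have hwt := least_shift hB h0 ht hyt hy0 hs.mem hw
  have hle : fx s ≤ fx t := fun c hc => mem_fx.2 (by
    have h := least_shift hB h0 ht hyt hy0 hs.mem (w := w + c)
      (by rw [map_add, hw, mem_fx.1 hc]; abel)
    rw [map_add, hwt, show w + c + y = w + y + c by abel, add_right_inj] at h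
    exact h)
  have heq := hs.fx_max ht.mem ht.sq ht.ne hle
  refine LinearEquiv.ext fun x => ?_
  by_cases hx : x ∈ fx s
  · rw [mem_fx.1 (hle hx), mem_fx.1 hx]
  -- both move `x` by the same vector
  have hz : s x - x ∈ mv s := sub_mem_mv s x
  by_contra hne
  set k := t * s with hk
  have hcomm : t * s = s * t :=
    comm_of_mv_le ((mv_le_fx h0 ht.sq).trans heq.ge) ((mv_le_fx h0 hs.sq).trans heq.le)
  have hk1 : k ≠ 1 := fun e => hne (by
    have := congrArg (fun z => t * z) e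
    simp only [hk, ← mul_assoc, ht.sq, one_mul, mul_one] at this
    rw [this])
  have hk2 : k * k = 1 := by
    rw [hk, mul_assoc, ← mul_assoc s t, ← hcomm, mul_assoc t s s, hs.sq, mul_one, ht.sq]
  have hke := hs.fx_max (H.mul_mem ht.mem hs.mem) hk2 hk1 (fun c hc => mem_fx.2 (by
    show (t * s) c = c
    rw [LinearEquiv.mul_apply, mem_fx.1 hc, mem_fx.1 (hle hc)]))
  have hw' : w ∈ fx k := mem_fx.2 (by
    show (t * s) w = w
    rw [LinearEquiv.mul_apply, hw, ← hwt, ← LinearEquiv.mul_apply, ht.sq]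
    rfl)
  rw [← hke, mem_fx, hw, add_eq_left] at hw'
  exact hy0 hw'

theorem not_comm_conj {t γ : V ≃ₗ[K] V} (ht : IsLeastInv H t) (hγ : γ ∈ H)
    (hc : t * (γ * t * γ⁻¹) = γ * t * γ⁻¹ * t) : γ * t * γ⁻¹ = t := by
  set s := γ * t * γ⁻¹ with hs'
  have hs : IsLeastInv H s := ht.conj hγ
  obtain ⟨i, hi, hi0⟩ := ht.exists_ne
  have hk : γ i ∈ mv s := (mv_conj γ t).2 (by rw [show γ⁻¹ (γ i) = i from γ.symm_apply_apply i]; exact hi)
  have hk0 : γ i ≠ 0 := fun h => hi0 (γ.injective (by rw [h, map_zero]))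
  by_cases hsame : γ i = i
  · exact leastInv_ext hB h0 hs ht hk (by rw [hsame]; exact hi) hk0
  obtain ⟨h, hh, hhh, -, -, -, h1⟩ := exists_invol_shift hB h0 hγ (sub_mem_mv γ i)
    (sub_ne_zero.2 hsame)
  have hhi : h i = γ i := (h1 i ⟨γ, hγ, by abel⟩).trans (by abel)
  have hts : h * t * h⁻¹ = s :=
    leastInv_ext hB h0 (ht.conj hh) hs ((mv_conj h t).2 (by rw [← hhi, show h⁻¹ (h i) = i from h.symm_apply_apply i]; exact hi)) hk hk0
  rw [inv_eq_of_mul_eq_one_right hhh] at hts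
  have h2 : h * t * (h * t) = s * t := by rw [← mul_assoc, hts]
  have h4 := sq_eq_one hB h0 (H.mul_mem hh ht.mem) (by
    rw [h2, mul_assoc, ← mul_assoc t s, hc, mul_assoc s t t, ht.sq, mul_one, hs.sq])
  rw [h2] at h4
  have := congrArg (· * t) h4
  simpa [mul_assoc, ht.sq] using this

theorem disjoint_fx {t s : V ≃ₗ[K] V} (ht : IsLeastInv H t) (hs : IsLeastInv H s)
    (hnc : t * s ≠ s * t) {z : V} (hz : z ∈ mv s) (hzt : z ∈ fx t) : z = 0 := by
  by_contra hz0
  refine hnc ?_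
  have h := leastInv_ext hB h0 (hs.conj ht.mem) hs ((mv_conj t s).2 (by
    rw [show t⁻¹ z = z from by
      conv_lhs => rw [← mem_fx.1 hzt]
      show (t⁻¹ * t) z = z
      simp]
    exact hz)) hz hz0
  exact mul_inv_eq_iff_eq_mul.1 h

/-- Either the product has odd order or the displacements of one factor are fixed by the other. -/
theorem odd_or_le {a s : V ≃ₗ[K] V} (ha : a ∈ H) (haa : a * a = 1) (hs : IsLeastInv H s)
    {F : Submodule K V} (hFg : F ≤ fx (a * s)) (hFJ : fx s ≤ F ⊔ mv s) :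
    Odd (orderOf (a * s)) ∨ mv a ≤ fx s := by
  have : Finite (V ≃ₗ[K] V) := Finite.of_injective _ DFunLike.coe_injective
  refine or_iff_not_imp_left.2 fun hodd => ?_
  obtain ⟨b, hb⟩ := Nat.not_odd_iff_even.1 hodd
  set z := (a * s) ^ b with hz
  have hzH : z ∈ H := H.pow_mem (H.mul_mem ha hs.mem) b
  have hz2 : z * z = 1 := by rw [hz, ← pow_add, ← hb, pow_orderOf_eq_one]
  have hz1 : z ≠ 1 := fun e => by
    have := orderOf_pos (a * s)
    have := Nat.le_of_dvd (by omega) (orderOf_dvd_of_pow_eq_one (hz ▸ e : (a * s) ^ b = 1))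
    omega
  have hzinv : z⁻¹ = z := inv_eq_of_mul_eq_one_right hz2
  have hconj : ∀ r : V ≃ₗ[K] V, r * r = 1 → r * (a * s) * r⁻¹ = (a * s)⁻¹ → r * z = z * r := by
    intro r hrr hr
    have h1 : r * z * r⁻¹ = z := by
      conv_rhs => rw [← hzinv, hz, ← inv_pow, ← hr, conj_pow, ← hz]
    exact mul_inv_eq_iff_eq_mul.1 h1
  have hsz : s * z = z * s := hconj s hs.sq (by
    rw [mul_inv_rev, inv_eq_of_mul_eq_one_right hs.sq, inv_eq_of_mul_eq_one_right haa, mul_assoc s,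
      mul_assoc a, hs.sq, mul_one])
  have haz : a * z = z * a := hconj a haa (by
    rw [mul_inv_rev, inv_eq_of_mul_eq_one_right hs.sq, inv_eq_of_mul_eq_one_right haa, ← mul_assoc a,
      haa, one_mul])
  have hFz : F ≤ fx z := fun c hc => mem_fx.2 (by
    have hc' := mem_fx.1 (hFg hc)
    simpa using pow_shift (y := 0) (by rw [hc', add_zero]) (map_zero (a * s)) b)
  have heq := hs.fx_max hzH hz2 hz1
    (hFJ.trans (sup_le hFz (comm_mv_le hB h0 hs.mem hzH hz2 hsz)))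
  exact heq ▸ comm_mv_le hB h0 ha hzH hz2 haz

omit hB h0 in
theorem conj_of_odd {a s : V ≃ₗ[K] V} (ha : a ∈ H) (haa : a * a = 1) (hs : IsLeastInv H s)
    (hodd : Odd (orderOf (a * s))) : ∃ γ ∈ H, a = γ * s * γ⁻¹ := by
  obtain ⟨k, hk⟩ := hodd
  refine ⟨(a * s) ^ (k + 1), H.pow_mem (H.mul_mem ha hs.mem) _, ?_⟩
  have hinv : s * (a * s) * s⁻¹ = (a * s)⁻¹ := by
    rw [mul_inv_rev, inv_eq_of_mul_eq_one_right hs.sq, inv_eq_of_mul_eq_one_right haa, mul_assoc s,
      mul_assoc a, hs.sq, mul_one]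
  have h1 : s * ((a * s) ^ (k + 1))⁻¹ = (a * s) ^ (k + 1) * s := by
    rw [← mul_inv_eq_iff_eq_mul, ← inv_pow, ← conj_pow]
    congr 1
    calc s * (a * s)⁻¹ * s⁻¹ = (s * (a * s) * s⁻¹)⁻¹ := by group
    _ = a * s := by rw [hinv, inv_inv]
  rw [mul_assoc, h1, ← mul_assoc, ← pow_add,
    show k + 1 + (k + 1) = orderOf (a * s) + 1 by omega, pow_succ, pow_orderOf_eq_one, one_mul,
    mul_assoc, hs.sq, mul_one]

omit hB in
theorem mem_disj_of_odd {g : V ≃ₗ[K] V} (hodd : Odd (orderOf g)) {z : V} (hf : z ∈ fx g)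
    (hm : z ∈ mv g) : z = 0 := by
  obtain ⟨w, hw⟩ := mem_mv.1 hm
  have := pow_shift hw (mem_fx.1 hf) (orderOf g)
  rw [pow_orderOf_eq_one, nsmul_odd h0 hodd] at this
  exact left_eq_add.1 (show w = w + z by simpa using this)

/-- The structure of the plane of two non-commuting least involutions. -/
theorem pair_spec {t s : V ≃ₗ[K] V} (ht : IsLeastInv H t) (hs : IsLeastInv H s)
    (hnc : t * s ≠ s * t) :
    Odd (orderOf (t * s)) ∧ fx (t * s) = fx t ⊓ fx s ∧ mv (t * s) = mv t ⊔ mv s ∧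
      finrank K ↥(mv t ⊔ mv s) = 2 * finrank K (mv t) ∧
      (∀ v, v ∈ fx (t * s) → v ∈ mv t ⊔ mv s → v = 0) ∧ fx s ≤ fx (t * s) ⊔ mv s := by
  have hne : t ≠ s := fun e => hnc (by rw [e])
  have hdis : Disjoint (mv t) (mv s) := Submodule.disjoint_def.2 fun v h1 h2 =>
    disjoint_fx hB h0 ht hs hnc h2 (mv_le_fx h0 ht.sq h1)
  have hfx : fx (t * s) = fx t ⊓ fx s := by
    refine le_antisymm (fun c hc => ?_) fun c hc => mem_fx.2 (by
      rw [LinearEquiv.mul_apply, mem_fx.1 hc.2, mem_fx.1 hc.1])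
    have h1 : s c = t c := by
      have h3 := congrArg (fun x => t x) (mem_fx.1 hc)
      simp only [LinearEquiv.mul_apply] at h3
      rwa [← LinearEquiv.mul_apply, ht.sq] at h3
    have h3 : t c - c = 0 := Submodule.disjoint_def.1 hdis _ (sub_mem_mv t c) (h1 ▸ sub_mem_mv s c)
    rw [sub_eq_zero] at h3
    exact ⟨mem_fx.2 h3, mem_fx.2 (h1.trans h3)⟩
  have hd2 : finrank K ↥(mv t ⊔ mv s) = 2 * finrank K (mv t) := by
    have h := Submodule.finrank_sup_add_finrank_inf_eq (mv t) (mv s)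
    rw [hdis.eq_bot, finrank_bot, add_zero, ← ht.finrank_eq hs] at h
    omega
  have hfxs : fx s ≤ (fx t ⊓ fx s) ⊔ mv s := by
    refine (Submodule.eq_of_le_of_finrank_le (sup_le inf_le_right (mv_le_fx h0 hs.sq)) ?_).ge
    have e1 := finrank_fx_add_mv t
    have e2 := finrank_fx_add_mv s
    have e3 := ht.finrank_eq hs
    have e4 := Submodule.finrank_sup_add_finrank_inf_eq (fx t) (fx s)
    have e5 := Submodule.finrank_le (fx t ⊔ fx s)
    have e6 := Submodule.finrank_sup_add_finrank_inf_eq (fx t ⊓ fx s) (mv s)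
    rw [show fx t ⊓ fx s ⊓ mv s = ⊥ from (Submodule.eq_bot_iff _).2 fun v hv =>
      disjoint_fx hB h0 ht hs hnc hv.2 hv.1.1, finrank_bot] at e6
    omega
  have hodd : Odd (orderOf (t * s)) := by
    rcases odd_or_le hB h0 ht.mem ht.sq hs hfx.ge hfxs with h | h
    · exact h
    · obtain ⟨v, hv, hv0⟩ := ht.exists_ne
      exact absurd (disjoint_fx hB h0 hs ht (Ne.symm hnc) hv (h hv)) hv0
  -- both spaces are displaced by the product
  have hsum : fx (t * s) ⊔ mv (t * s) = ⊤ := Submodule.eq_top_of_disjoint _ _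
    (by have := finrank_fx_add_mv (t * s); omega)
    (Submodule.disjoint_def.2 fun v a b => mem_disj_of_odd h0 hodd a b)
  have hpres : ∀ r : V ≃ₗ[K] V, r * (t * s) = (t * s)⁻¹ * r → fx (t * s) ≤ fx r →
      mv r ≤ mv (t * s) := by
    intro r hr hle v hv
    obtain ⟨w, hw⟩ := mem_mv.1 hv
    obtain ⟨c, hc, q, hq, rfl⟩ := Submodule.mem_sup.1 (hsum.symm ▸ Submodule.mem_top :
      w ∈ fx (t * s) ⊔ mv (t * s))
    rw [map_add, mem_fx.1 (hle hc), add_assoc, add_right_inj] at hw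
    obtain ⟨x, hx⟩ := mem_mv.1 hq
    have h1 : r q ∈ mv (t * s) := by
      have h2 : r q = (t * s)⁻¹ (r x) - r x := by
        rw [← LinearEquiv.mul_apply, ← hr, LinearEquiv.mul_apply, hx, map_add]
        abel
      have h3 := sub_mem_mv (t * s) ((t * s)⁻¹ (r x))
      rw [← LinearEquiv.mul_apply, mul_inv_cancel] at h3
      rw [h2, ← neg_sub]
      exact neg_mem h3
    rw [show v = r q - q by rw [hw]; abel]
    exact sub_mem h1 hq
  have hmv : mv (t * s) = mv t ⊔ mv s := by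
    refine le_antisymm (fun v hv => ?_) (sup_le ?_ ?_)
    · obtain ⟨w, hw⟩ := mem_mv.1 hv
      rw [LinearEquiv.mul_apply] at hw
      rw [show v = (t (s w) - s w) + (s w - w) by rw [hw]; abel]
      exact Submodule.add_mem_sup (sub_mem_mv _ _) (sub_mem_mv _ _)
    · refine hpres t ?_ (hfx.le.trans inf_le_left)
      rw [mul_inv_rev, inv_eq_of_mul_eq_one_right hs.sq, inv_eq_of_mul_eq_one_right ht.sq,
        ← mul_assoc, ht.sq, one_mul, mul_assoc, ht.sq, mul_one]
    · refine hpres s ?_ (hfx.le.trans inf_le_right)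
      rw [mul_inv_rev, inv_eq_of_mul_eq_one_right hs.sq, inv_eq_of_mul_eq_one_right ht.sq, mul_assoc]
  exact ⟨hodd, hfx, hmv, hd2, fun v a b => mem_disj_of_odd h0 hodd a (hmv ▸ b), hfx ▸ hfxs⟩

/-- Every vector of the plane is displaced by a conjugate of the generators. -/
theorem plane_cov₂ {t γ : V ≃ₗ[K] V} (ht : IsLeastInv H t) (hγ : γ ∈ H)
    (hne : γ * t * γ⁻¹ ≠ t) {v : V} (hv : v ∈ mv t ⊔ mv (γ * t * γ⁻¹)) (hv0 : v ≠ 0) :
    ∃ δ ∈ H, v ∈ mv (δ * t * δ⁻¹) ∧ fx (t * (γ * t * γ⁻¹)) ≤ fx (δ * t * δ⁻¹) := by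
  set s := γ * t * γ⁻¹ with hs'
  have hs : IsLeastInv H s := ht.conj hγ
  have hnc : t * s ≠ s * t := fun h => hne (not_comm_conj hB h0 ht hγ h)
  obtain ⟨-, hfx, hmv, -, hdis, hFJ⟩ := pair_spec hB h0 ht hs hnc
  by_cases hvs : v ∈ mv s
  · exact ⟨γ, hγ, hvs, hfx.le.trans inf_le_right⟩
  have hg : t * s ∈ H := H.mul_mem ht.mem hs.mem
  obtain ⟨a, ha, haa, -, hle, -, h1⟩ := exists_invol_shift hB h0 hg (hmv ▸ hv) hv0
  obtain ⟨w, hw⟩ := mem_mv.1 (hmv ▸ hv : v ∈ mv (t * s))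
  have hva : v ∈ mv a := mem_mv.2 ⟨w, h1 w ⟨_, hg, hw⟩⟩
  rcases odd_or_le hB h0 ha haa hs (F := fx (t * s))
    (fun c hc => mem_fx.2 (by
      rw [LinearEquiv.mul_apply, mem_fx.1 (hfx.le hc).2, mem_fx.1 (hle hc)])) hFJ with h | h
  · obtain ⟨δ, hδ, e⟩ := conj_of_odd ha haa hs h
    refine ⟨δ * γ, H.mul_mem hδ hγ, ?_⟩
    rw [show δ * γ * t * (δ * γ)⁻¹ = δ * s * δ⁻¹ by rw [hs']; group, ← e]
    exact ⟨hva, hle⟩
  · exfalso
    obtain ⟨c, hc, j, hj, e⟩ := Submodule.mem_sup.1 (hFJ (h hva))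
    have : c = 0 := hdis c hc (by
      rw [show c = v - j by rw [← e]; abel]
      exact sub_mem hv (Submodule.mem_sup_right hj))
    exact hvs (by rw [← e, this, zero_add]; exact hj)

theorem plane_top₂ (hirr : Irred H) {t γ : V ≃ₗ[K] V} (ht : IsLeastInv H t) (hγ : γ ∈ H)
    (hne : γ * t * γ⁻¹ ≠ t) : mv t ⊔ mv (γ * t * γ⁻¹) = ⊤ := by
  set s := γ * t * γ⁻¹ with hs'
  have hs : IsLeastInv H s := ht.conj hγ
  have hnc : t * s ≠ s * t := fun h => hne (not_comm_conj hB h0 ht hγ h)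
  obtain ⟨hodd, hfx, hmv, hd2, hdis, -⟩ := pair_spec hB h0 ht hs hnc
  have hall : ∀ δ ∈ H, fx (t * s) ≤ fx (δ * t * δ⁻¹) := by
    intro δ hδ
    set k := δ * t * δ⁻¹ with hk'
    have hk : IsLeastInv H k := ht.conj hδ
    by_cases hmeet : mv k ⊓ (mv t ⊔ mv s) = ⊥
    swap
    · obtain ⟨w, hw, hw0⟩ := Submodule.exists_mem_ne_zero_of_ne_bot hmeet
      obtain ⟨ε, hε, hwε, hle⟩ := plane_cov₂ hB h0 ht hγ hne hw.2 hw0
      exact leastInv_ext hB h0 hk (ht.conj hε) hw.1 hwε hw0 ▸ hle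
    exfalso
    -- the plane of `s` and `k` meets the fixed space of `t`
    have hks : k ≠ s := by
      intro e
      rw [e, inf_eq_left.2 le_sup_right] at hmeet
      exact mv_ne_bot hs.ne hmeet
    have hsk : (δ * γ⁻¹) * s * (δ * γ⁻¹)⁻¹ = k := by rw [hs', hk']; group
    have hnck : s * k ≠ k * s := fun h => hks (hsk ▸
      not_comm_conj hB h0 hs (H.mul_mem hδ (H.inv_mem hγ)) (hsk.symm ▸ h))
    obtain ⟨-, -, -, hd2', -, -⟩ := pair_spec hB h0 hs hk hnck
    have hne' : fx t ⊓ (mv s ⊔ mv k) ≠ ⊥ := fun h => by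
      have e1 := Submodule.finrank_sup_add_finrank_inf_eq (fx t) (mv s ⊔ mv k)
      have e2 := finrank_fx_add_mv t
      have e3 := Submodule.finrank_le (fx t ⊔ (mv s ⊔ mv k))
      have e4 := ht.finrank_eq hs
      have e5 : 0 < finrank K (mv s) := Nat.pos_of_ne_zero fun e =>
        mv_ne_bot hs.ne (Submodule.finrank_eq_zero.1 e)
      rw [h, finrank_bot, hd2'] at e1
      omega
    obtain ⟨v, hv, hv0⟩ := Submodule.exists_mem_ne_zero_of_ne_bot hne'
    obtain ⟨ε, hε, hvε, -⟩ := plane_cov₂ hB h0 hs (H.mul_mem hδ (H.inv_mem hγ))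
      (by rw [hsk]; exact hks) (hsk.symm ▸ hv.2) hv0
    have hconj : ε * s * ε⁻¹ = (ε * γ) * t * (ε * γ)⁻¹ := by rw [hs']; group
    rw [hconj] at hvε
    by_cases he : (ε * γ) * t * (ε * γ)⁻¹ = t
    · rw [he] at hvε
      obtain ⟨j, hj, k', hk', e⟩ := Submodule.mem_sup.1 hv.2
      have hk0 : k' = 0 := (Submodule.eq_bot_iff _).1 hmeet k' ⟨hk', by
        rw [show k' = v - j by rw [← e]; abel]
        exact sub_mem (Submodule.mem_sup_left hvε) (Submodule.mem_sup_right hj)⟩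
      refine hv0 (disjoint_fx hB h0 ht hs hnc ?_ hv.1)
      rwa [← e, hk0, add_zero]
    · exact hv0 (disjoint_fx hB h0 ht (ht.conj (H.mul_mem hε hγ))
        (fun h => he (not_comm_conj hB h0 ht (H.mul_mem hε hγ) h)) hvε hv.1)
  -- the common fixed space of the conjugates is invariant
  set S : Submodule K V := ⨅ δ : H, fx ((δ : V ≃ₗ[K] V) * t * (δ : V ≃ₗ[K] V)⁻¹) with hS
  have hinv : ∀ h ∈ H, ∀ x ∈ S, h x ∈ S := by
    intro h hh x hx
    rw [hS, Submodule.mem_iInf] at hx ⊢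
    intro δ
    have h1 := hx (⟨h, hh⟩⁻¹ * δ)
    rw [fx_conj] at h1 ⊢
    simpa [LinearEquiv.mul_apply] using h1
  have hle : fx (t * s) ≤ S := le_iInf fun δ => hall δ δ.2
  rcases hirr S hinv with e | e
  · refine Submodule.eq_top_of_finrank_eq ?_
    have := finrank_fx_add_mv (t * s)
    rw [le_bot_iff.1 (hle.trans e.le), finrank_bot, hmv, add_zero] at this
    exact this
  · refine absurd (eq_one_of_fx_top ?_) ht.ne
    refine top_le_iff.1 ?_
    rw [← e]
    exact le_trans (iInf_le _ (1 : H)) (by simp)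

end

end Cfsg.Agent.CherlinBinary73
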