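import Mathlib
import Cfsg.Agent.Lib.CherlinBinary73Two

/-!
Linear parts of binary affine groups in characteristic two: the whole group is dihedral.
-/

set_option autoImplicit false
set_option linter.unusedSectionVars false

namespace Cfsg.Agent.CherlinBinary73

open Module

variable {K V : Type*} [Field K] [AddCommGroup V] [Module K V] [FiniteDimensional K V] [Finite V]
variable {H : Subgroup (V ≃ₗ[K] V)}

theorem card_ne {α : Type*} [Finite α] (x : α) : Nat.card {v : α // v ≠ x} = Nat.card α - 1 := by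
  classical
  have : Fintype α := Fintype.ofFinite α
  rw [Nat.card_eq_fintype_card, Nat.card_eq_fintype_card, Fintype.card_subtype_compl,
    Fintype.card_subtype_eq]

section

variable (hB : Bin H) (h0 : (2 : K) = 0)
include hB h0

theorem centraliser_least {a g : V ≃ₗ[K] V} (ha : IsLeastInv H a) (hfm : fx a ≤ mv a)
    (hg : g ∈ H) (hc : g * a = a * g) : g = 1 ∨ g = a := by
  have hfix : ∀ i ∈ mv a, g i = i := by
    intro i hi
    by_contra hne
    have hgi : g i ∈ mv a := by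
      obtain ⟨w, hw⟩ := mem_mv.1 hi
      refine mem_mv.2 ⟨g w, ?_⟩
      rw [← LinearEquiv.mul_apply, ← hc, LinearEquiv.mul_apply, hw, map_add]
    have h := least_shift hB h0 ha (sub_mem hgi hi) (sub_ne_zero.2 hne) hg
      (w := i) (add_sub_cancel i (g i)).symm
    rw [mem_fx.1 (mv_le_fx h0 ha.sq hi), add_sub_cancel] at h
    exact hne h.symm
  have hor : ∀ w, g w = w ∨ g w = a w := by
    intro w
    refine or_iff_not_imp_left.2 fun hne => ?_
    have hy : g w - w ∈ mv a := hfm (mem_fx.2 (by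
      obtain ⟨z, hz⟩ : ∃ z, a w = w + z := ⟨a w - w, by abel⟩
      have hgz : g z = z := hfix z (mem_mv.2 ⟨w, hz⟩)
      rw [map_sub, ← LinearEquiv.mul_apply, ← hc, LinearEquiv.mul_apply, hz, map_add, hgz]
      abel))
    have h := least_shift hB h0 ha hy (sub_ne_zero.2 hne) hg (w := w) (add_sub_cancel w (g w)).symm
    rw [add_sub_cancel] at h
    exact h.symm
  by_contra hcon
  push Not at hcon
  obtain ⟨w₁, h1⟩ : ∃ w, g w ≠ w := by
    by_contra h
    push Not at h
    exact hcon.1 (LinearEquiv.ext h)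
  obtain ⟨w₂, h2⟩ : ∃ w, g w ≠ a w := by
    by_contra h
    push Not at h
    exact hcon.2 (LinearEquiv.ext h)
  have e1 : g w₁ = a w₁ := (hor w₁).resolve_left h1
  have e2 : g w₂ = w₂ := (hor w₂).resolve_right h2
  rcases hor (w₁ + w₂) with e | e <;> rw [map_add] at e
  · rw [e2, add_left_inj] at e
    exact h1 e
  · rw [map_add, e1, add_right_inj] at e
    exact h2 e

/-- The alternative in characteristic two. -/
theorem two_main [Nontrivial V] (hirr : Irred H) :
    (finrank K V = 1 ∧ Nat.card H ≤ 2) ∨ Shape H := by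
  classical
  have : Finite (V ≃ₗ[K] V) := Finite.of_injective _ DFunLike.coe_injective
  by_cases hH : ∀ g ∈ H, g = 1
  · left
    obtain ⟨v, hv⟩ := exists_ne (0 : V)
    refine ⟨?_, ?_⟩
    · rcases hirr (Submodule.span K {v}) (fun g hg s hs => by rw [hH g hg]; exact hs) with e | e
      · exact absurd (Submodule.span_singleton_eq_bot.1 e) hv
      · rw [← finrank_top, ← e, finrank_span_singleton hv]
    · have : Subsingleton H := ⟨fun a b => Subtype.ext ((hH a a.2).trans (hH b b.2).symm)⟩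
      exact (Finite.card_le_one_iff_subsingleton.2 this).trans (by norm_num)
  push Not at hH
  obtain ⟨g, hg, hg1⟩ := hH
  right
  obtain ⟨t, ht⟩ : ∃ t, IsLeastInv H t := by
    obtain ⟨y, hy, hy0⟩ := Submodule.exists_mem_ne_zero_of_ne_bot (mv_ne_bot hg1)
    obtain ⟨h, hh, hhh, hh1, -⟩ := exists_invol_shift hB h0 hg hy hy0
    have hex : ∃ n, ∃ t ∈ H, t * t = 1 ∧ t ≠ 1 ∧ finrank K (mv t) = n :=
      ⟨_, h, hh, hhh, hh1, rfl⟩
    obtain ⟨t, h1, h2, h3, hn⟩ := Nat.find_spec hex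
    exact ⟨t, h1, h2, h3, fun g hg hgg hg1 => hn ▸ Nat.find_min' hex ⟨g, hg, hgg, hg1, rfl⟩⟩
  by_cases hcj : ∀ γ ∈ H, γ * t * γ⁻¹ = t
  · exfalso
    have htop : mv t = ⊤ := (hirr (mv t) fun h hh s hs => by
      rw [← hcj h hh]
      refine (mv_conj h t).2 ?_
      rwa [show h⁻¹ (h s) = s from h.symm_apply_apply s]).resolve_left (mv_ne_bot ht.ne)
    exact ht.ne (eq_one_of_fx_top (top_le_iff.1 (htop ▸ mv_le_fx h0 ht.sq)))
  push Not at hcj
  obtain ⟨γ, hγ, hne⟩ := hcj
  set f := finrank K (mv t) with hf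
  set q := Nat.card K ^ f with hq
  have hf0 : f ≠ 0 := fun e => mv_ne_bot ht.ne (Submodule.finrank_eq_zero.1 e)
  have htop := plane_top₂ hB h0 hirr ht hγ hne
  have hnc : t * (γ * t * γ⁻¹) ≠ γ * t * γ⁻¹ * t := fun h => hne (not_comm_conj hB h0 ht hγ h)
  have hdim : finrank K V = 2 * f := by
    rw [← (pair_spec hB h0 ht (ht.conj hγ) hnc).2.2.2.1, htop, finrank_top]
  -- the conjugates
  let InC : (V ≃ₗ[K] V) → Prop := fun a => ∃ δ ∈ H, a = δ * t * δ⁻¹
  let C := {a // InC a}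
  have hlst : ∀ a, InC a → IsLeastInv H a := by
    rintro a ⟨δ, hδ, rfl⟩
    exact ht.conj hδ
  have hrk : ∀ a, InC a → finrank K (mv a) = f := fun a ha => (ht.finrank_eq (hlst a ha)).symm
  have hfm : ∀ a, InC a → fx a = mv a := fun a ha => by
    refine (Submodule.eq_of_le_of_finrank_le (mv_le_fx h0 (hlst a ha).sq) ?_).symm
    have := finrank_fx_add_mv a
    have := hrk a ha
    omega
  have hncomm : ∀ a b, InC a → InC b → a ≠ b → a * b ≠ b * a := by
    rintro a b ⟨δ, hδ, rfl⟩ ⟨ε, hε, rfl⟩ hne h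
    refine hne ?_
    have e : ε * t * ε⁻¹ = (ε * δ⁻¹) * (δ * t * δ⁻¹) * (ε * δ⁻¹)⁻¹ := by group
    rw [e] at h ⊢
    exact (not_comm_conj hB h0 (ht.conj hδ) (H.mul_mem hε (H.inv_mem hδ)) h).symm
  have hcover : ∀ v : V, v ≠ 0 → ∃ a, InC a ∧ v ∈ mv a := fun v hv => by
    obtain ⟨δ, hδ, h, -⟩ := plane_cov₂ hB h0 ht hγ hne (htop ▸ Submodule.mem_top) hv
    exact ⟨_, ⟨δ, hδ, rfl⟩, h⟩
  have hq1 : 2 ≤ q := by
    have : Finite K := by
      obtain ⟨v, hv⟩ := exists_ne (0 : V)
      exact Finite.of_injective (fun k : K => k • v) (smul_left_injective K hv)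
    exact le_trans Finite.one_lt_card (Nat.le_self_pow hf0 _)
  have hcV : Nat.card V = q ^ 2 := by
    rw [Module.natCard_eq_pow_finrank (K := K), hdim, mul_comm 2, pow_mul]
  have hcC : Nat.card C = q + 1 := by
    have : Fintype C := Fintype.ofFinite C
    let F : (Σ a : C, {v : mv a.1 // v ≠ 0}) → {v : V // v ≠ 0} := fun x =>
      ⟨(x.2.1 : V), fun h => x.2.2 (Subtype.ext h)⟩
    have hF : Function.Bijective F := by
      refine ⟨?_, fun v => ?_⟩
      · rintro ⟨⟨a, ha⟩, ⟨v, hv⟩, hv0⟩ ⟨⟨b, hb⟩, ⟨w, hw⟩, hw0⟩ h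
        obtain rfl : v = w := congrArg Subtype.val h
        obtain rfl := leastInv_ext hB h0 (hlst a ha) (hlst b hb) hv hw
          (fun e => hv0 (Subtype.ext e))
        rfl
      · obtain ⟨a, ha, hv⟩ := hcover v.1 v.2
        exact ⟨⟨⟨a, ha⟩, ⟨v.1, hv⟩, fun e => v.2 (congrArg Subtype.val e)⟩, rfl⟩
    have h := Nat.card_eq_of_bijective F hF
    have hterm : ∀ a : C, Nat.card {v : mv a.1 // v ≠ 0} = q - 1 := fun a => by
      rw [card_ne, Module.natCard_eq_pow_finrank (K := K) (V := mv a.1), hrk a.1 a.2]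
    rw [Nat.card_sigma, card_ne (0 : V), hcV, Finset.sum_congr rfl fun a _ => hterm a,
      Finset.sum_const, smul_eq_mul, Finset.card_univ, ← Nat.card_eq_fintype_card] at h
    rw [show q ^ 2 - 1 = (q + 1) * (q - 1) by
      simpa [pow_two] using Nat.mul_self_sub_mul_self_eq q 1] at h
    exact Nat.eq_of_mul_eq_mul_right (by omega) h
  have hcH : Nat.card H ≤ (q + 1) * 2 := by
    have hch : ∀ a : C, ∃ δ ∈ H, a.1 = δ * t * δ⁻¹ := fun a => a.2
    choose δ hδ hδe using hch
    let G : H → C × Bool := fun g => (⟨g * t * (g : V ≃ₗ[K] V)⁻¹, g, g.2, rfl⟩,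
      decide (δ ⟨g * t * (g : V ≃ₗ[K] V)⁻¹, g, g.2, rfl⟩ = g))
    have hG : Function.Injective G := by
      rintro ⟨g, hg⟩ ⟨g', hg'⟩ h
      obtain ⟨h1, h2⟩ := Prod.ext_iff.1 h
      simp only [G] at h1 h2
      rw [← h1] at h2
      have hcen : ∀ k, k ∈ H → k * t * k⁻¹ = g * t * g⁻¹ →
          k = δ ⟨g * t * g⁻¹, g, hg, rfl⟩ ∨ k = δ ⟨g * t * g⁻¹, g, hg, rfl⟩ * t := by
        intro k hk e
        set d := δ ⟨g * t * g⁻¹, g, hg, rfl⟩ with hd
        have he : k * t * k⁻¹ = d * t * d⁻¹ := e.trans (hδe ⟨g * t * g⁻¹, g, hg, rfl⟩)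
        have hcomm : d⁻¹ * k * t = t * (d⁻¹ * k) :=
          calc d⁻¹ * k * t = d⁻¹ * (k * t * k⁻¹) * k := by group
          _ = t * (d⁻¹ * k) := by rw [he]; group
        rcases centraliser_least hB h0 ht (hfm t ⟨1, H.one_mem, by simp⟩).le
            (H.mul_mem (H.inv_mem (hδ _)) hk) hcomm with e | e
        · exact Or.inl (inv_mul_eq_one.1 e).symm
        · exact Or.inr (inv_mul_eq_iff_eq_mul.1 e)
      refine Subtype.ext ?_
      have h3 := decide_eq_decide.1 h2
      rcases hcen g hg rfl with a | a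
      · exact a.trans (h3.1 a.symm)
      · rcases hcen g' hg' (congrArg Subtype.val h1).symm with b | b
        · exact (h3.2 b.symm).symm.trans b.symm
        · exact a.trans b.symm
    refine (Nat.card_le_card_of_injective G hG).trans ?_
    rw [Nat.card_prod, hcC]
    simp
  -- the fixed point free elements
  let InA : (V ≃ₗ[K] V) → Prop := fun g => g ∈ H ∧ (g = 1 ∨ fx g = ⊥)
  have hnotA : ∀ a, InC a → ¬ InA a := fun a ha h => by
    rcases h.2 with e | e
    · exact (hlst a ha).ne e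
    · obtain ⟨v, hv, hv0⟩ := (hlst a ha).exists_ne
      exact hv0 ((Submodule.eq_bot_iff _).1 e v ((hfm a ha).ge hv))
  have hprodA : ∀ a b, InC a → InC b → InA (a * b) := by
    intro a b ha hb
    refine ⟨H.mul_mem (hlst a ha).mem (hlst b hb).mem, ?_⟩
    by_cases hab : a = b
    · exact Or.inl (by rw [hab, (hlst b hb).sq])
    right
    rw [(pair_spec hB h0 (hlst a ha) (hlst b hb) (hncomm a b ha hb hab)).2.1, hfm a ha, hfm b hb,
      Submodule.eq_bot_iff]
    intro v hv
    by_contra hv0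
    exact hab (leastInv_ext hB h0 (hlst a ha) (hlst b hb) hv.1 hv.2 hv0)
  have hsurj : ∀ r, InC r → ∀ g ∈ H, InC g ∨ ∃ a, InC a ∧ g = a * r := by
    intro r hr
    let Φ : C ⊕ C → H := Sum.elim (fun a => ⟨a.1, (hlst a.1 a.2).mem⟩)
      (fun a => ⟨a.1 * r, H.mul_mem (hlst a.1 a.2).mem (hlst r hr).mem⟩)
    have hΦ : Function.Injective Φ := by
      rintro (a | a) (b | b) h <;> have h' := congrArg Subtype.val h <;>
        simp only [Φ, Sum.elim_inl, Sum.elim_inr] at h'
      · exact congrArg Sum.inl (Subtype.ext h')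
      · exact absurd (h' ▸ hprodA b.1 r b.2 hr) (hnotA a.1 a.2)
      · exact absurd (h' ▸ hprodA a.1 r a.2 hr) (hnotA b.1 b.2)
      · exact congrArg Sum.inr (Subtype.ext (mul_right_cancel h'))
    have hb := hΦ.bijective_of_nat_card_le (by rw [Nat.card_sum, hcC]; omega)
    intro g hg
    obtain ⟨x, hx⟩ := hb.2 ⟨g, hg⟩
    rcases x with a | a
    · obtain rfl : a.1 = g := congrArg Subtype.val hx
      exact Or.inl a.2
    · exact Or.inr ⟨a.1, a.2, (congrArg Subtype.val hx).symm⟩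
  have htC : InC t := ⟨1, H.one_mem, by simp⟩
  have hform : ∀ r, InC r → ∀ g, InA g → ∃ a, InC a ∧ g = a * r := fun r hr g hg =>
    (hsurj r hr g hg.1).resolve_left fun h => hnotA g h hg
  have hinvert : ∀ r, InC r → ∀ g, InA g → r * g * r = g⁻¹ := by
    intro r hr g hg
    obtain ⟨a, ha, rfl⟩ := hform r hr g hg
    rw [mul_inv_rev, inv_eq_of_mul_eq_one_right (hlst a ha).sq,
      inv_eq_of_mul_eq_one_right (hlst r hr).sq, mul_assoc, mul_assoc, (hlst r hr).sq, mul_one]
  have hoddA : ∀ g, InA g → Odd (orderOf g) := by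
    intro g hg
    obtain ⟨a, ha, rfl⟩ := hform t htC g hg
    by_cases hat : a = t
    · rw [hat, ht.sq, orderOf_one]; exact odd_one
    · exact (pair_spec hB h0 (hlst a ha) ht (hncomm a t ha htC hat)).1
  have hclose : ∀ x, InA x → ∀ y, InA y → InA (x * y) := by
    intro x hx y hy
    by_contra hn
    have hc : InC (x * y) := (hsurj t htC (x * y) (H.mul_mem hx.1 hy.1)).resolve_right
      fun ⟨a, ha, e⟩ => hn (e ▸ hprodA a t ha htC)
    have h1 := hinvert _ hc x hx
    nth_rewrite 2 [← inv_eq_of_mul_eq_one_right (hlst _ hc).sq] at h1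
    have h2 : y * x * y⁻¹ = x⁻¹ :=
      calc y * x * y⁻¹ = x⁻¹ * (x * y * x * (x * y)⁻¹) * x := by group
      _ = x⁻¹ := by rw [h1]; group
    have h3 : Commute (y ^ 2) x := by
      show y ^ 2 * x = x * y ^ 2
      rw [← mul_inv_eq_iff_eq_mul]
      rw [pow_two]
      calc y * y * x * (y * y)⁻¹ = y * (y * x * y⁻¹) * y⁻¹ := by group
      _ = y * x⁻¹ * y⁻¹ := by rw [h2]
      _ = (y * x * y⁻¹)⁻¹ := by group
      _ = x := by rw [h2, inv_inv]
    obtain ⟨k, hk⟩ := hoddA y hy
    have h4 : y = ((y ^ 2) ^ k)⁻¹ := by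
      rw [eq_inv_iff_mul_eq_one, ← pow_mul, ← pow_succ', ← hk, pow_orderOf_eq_one]
    have h5 : Commute y x := h4 ▸ (h3.pow_left k).inv_left
    rw [h5.eq, mul_inv_cancel_right] at h2
    obtain ⟨l, hl⟩ := hoddA x hx
    have h6 : x = 1 := by
      have := pow_orderOf_eq_one x
      rw [hl, pow_succ, pow_mul, pow_two] at this
      rw [show x * x = 1 from (eq_inv_iff_mul_eq_one.1 h2), one_pow, one_mul] at this
      exact this
    exact hn (by rw [h6, one_mul]; exact hy)
  have hcomm : ∀ x, InA x → ∀ y, InA y → x * y = y * x := by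
    intro x hx y hy
    have e := hinvert t htC _ (hclose x hx y hy)
    have e1 := hinvert t htC x hx
    have e2 := hinvert t htC y hy
    refine inv_injective ?_
    rw [mul_inv_rev y x, ← e1, ← e2, ← e]
    rw [show t * x * t * (t * y * t) = t * x * (t * t) * y * t by group, ht.sq, mul_one]
    group
  let R : Subgroup (V ≃ₗ[K] V) :=
    { carrier := {g | InA g}
      mul_mem' := fun {x y} hx hy => hclose x hx y hy
      one_mem' := ⟨H.one_mem, Or.inl rfl⟩
      inv_mem' := fun {x} hx => by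
        obtain ⟨a, ha, rfl⟩ := hform t htC x hx
        show InA _
        rw [mul_inv_rev, inv_eq_of_mul_eq_one_right ht.sq,
          inv_eq_of_mul_eq_one_right (hlst a ha).sq]
        exact hprodA t a htC ha }
  have hcR : Nat.card R = q + 1 := by
    rw [← hcC]
    refine (Nat.card_eq_of_bijective (fun a : C => (⟨a.1 * t, hprodA a.1 t a.2 htC⟩ : R))
      ⟨fun a b h => Subtype.ext (mul_right_cancel (congrArg Subtype.val h)), fun g => ?_⟩).symm
    obtain ⟨a, ha, e⟩ := hform t htC g.1 g.2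
    exact ⟨⟨a, ha⟩, Subtype.ext e.symm⟩
  refine ⟨R, t, f, Nat.pos_of_ne_zero hf0, hcV, hcR, hcomm, fun r hr hr1 v hv =>
    (Submodule.eq_bot_iff _).1 (hr.2.resolve_left hr1) v (mem_fx.2 hv), fun r hr => hr.1, ht.mem,
    ht.sq, fun r hr => hinvert t htC r hr, ?_, fun h hh => ?_⟩
  · obtain ⟨u, hu, hu0⟩ := ht.exists_ne
    exact ⟨u, hu0, mem_fx.1 (mv_le_fx h0 ht.sq hu)⟩
  · rcases hsurj t htC h hh with hC | ⟨a, ha, rfl⟩
    · exact Or.inr (hprodA h t hC htC)
    · exact Or.inl (hprodA a t ha htC)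

end

end Cfsg.Agent.CherlinBinary73
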