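import Cfsg.Agent.Lib.ChevAutGraphReal

/-!
All six symmetries of the diagram of type D4 are realised by automorphisms.
-/

set_option autoImplicit false
set_option linter.unusedSimpArgs false
set_option linter.unusedSectionVars false
set_option maxRecDepth 10000

namespace Cfsg.Agent.ChevAutD4

open Cfsg.Lie Cfsg.Agent.ChevalleyCert
open Cfsg.Agent Cfsg.Agent.ChevAutOut Cfsg.Agent.ChevAutGraphReal

/-- graph symmetry exchanging two outer nodes -/
def symD4c : ChevalleyGraph.Sym chevD4 where
  pi := fun i => ([2, 1, 0, 3] : List ℕ).getD i 0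
  pinv := fun i => ([2, 1, 0, 3] : List ℕ).getD i 0
  rho := fun i => ([0, 1, 2, 6, 7, 10, 3, 4, 8, 9, 5, 11, 12, 18, 14, 15, 19, 20, 13, 16, 17, 21, 22, 23] : List ℕ).getD i 0
  rinv := fun i => ([0, 1, 2, 6, 7, 10, 3, 4, 8, 9, 5, 11, 12, 18, 14, 15, 19, 20, 13, 16, 17, 21, 22, 23] : List ℕ).getD i 0
  eps := fun i => ([1, 1, 1, -1, -1, 1, -1, -1, 1, 1, 1, 1, 1, 1, 1, 1, -1, -1, 1, -1, -1, 1, 1, 1] : List ℤ).getD i 1
  pi_ok := by decide +kernel
  rho_ok := by decide +kernel
  simple_ok := by decide +kernel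
  neg_ok := by decide +kernel
  cart_ok := by decide +kernel
  chain_ok := by decide +kernel

/-- the 3-cycle -/
def rot : Equiv.Perm (Fin chevD4.rank) := nodePerm ChevalleyGraph.symD4a

/-- the transposition -/
def swp : Equiv.Perm (Fin chevD4.rank) := nodePerm symD4c

/-- the six symmetries -/
def six : List (Equiv.Perm (Fin chevD4.rank)) := [1, rot, rot * rot, swp, rot * swp, rot * rot * swp]

theorem six_nodup : six.Nodup := by decide +kernel

theorem not_comm : rot * swp ≠ swp * rot := by decide +kernel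

theorem card_range {F : Type*} [Field F] [Finite F] (X : Ctx chevD4 F) :
    Nat.card ↥(pHom X).range = 6 ∧ rot ∈ (pHom X).range ∧ swp ∈ (pHom X).range := by
  classical
  have ha : rot ∈ (pHom X).range := mem_range ChevalleyGraph.symD4a X notLong_D4
  have hb : swp ∈ (pHom X).range := mem_range symD4c X notLong_D4
  refine ⟨le_antisymm (ChevAutSyms.syms_D4 ▸ ChevAutSyms.card_range_le X) ?_, ha, hb⟩
  have hmem : ∀ π ∈ six, π ∈ (pHom X).range := by
    intro π hπ
    simp only [six, List.mem_cons, List.not_mem_nil, or_false] at hπ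
    rcases hπ with rfl | rfl | rfl | rfl | rfl | rfl
    exacts [one_mem _, ha, mul_mem ha ha, hb, mul_mem ha hb, mul_mem (mul_mem ha ha) hb]
  have h6 : six.toFinset.card = 6 := List.toFinset_card_of_nodup six_nodup
  rw [← h6, ← Nat.card_eq_finsetCard]
  refine Nat.card_le_card_of_injective (fun π => ⟨π.1, hmem π.1 (List.mem_toFinset.1 π.2)⟩) ?_
  exact fun a b e => Subtype.ext (congrArg (fun z : ↥(pHom X).range => z.1) e)

end Cfsg.Agent.ChevAutD4
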