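import Cfsg.Agent.Lib.ChevAutStd

/-!
The node permutation of an automorphism in standard form is a symmetry of the diagram, and its
field maps are one automorphism twisted by the exponents of a graph automorphism.
-/

set_option autoImplicit false
set_option linter.unusedSimpArgs false
set_option linter.unusedSectionVars false

namespace Cfsg.Agent.ChevAutExp

open Cfsg.Lie Cfsg.Agent.ChevalleyCert Cfsg.Agent.ChevalleyCore
open Cfsg.Agent Cfsg.Agent.ChevAutStd

variable {D : ChevalleyDatum} {F : Type*} [Field F] [Finite F]

/-- the nodes within distance `k` of node `0` -/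
def reach (D : ChevalleyDatum) : ℕ → List ℕ
  | 0 => [0]
  | k + 1 => (List.range D.rank).filter fun j =>
      (reach D k).any fun i => j == i || D.cartan i (D.simple j) != 0

/-- every node is reached -/
def connected (D : ChevalleyDatum) : Bool :=
  decide (0 < D.rank) && (List.range D.rank).all fun j => (reach D D.rank).contains j

theorem const_of_connected (hc : connected D = true) {β : Type*} (E : Fin D.rank → β)
    (hE : ∀ i j : Fin D.rank, i ≠ j → D.cartan i (D.simple j) ≠ 0 → E i = E j) :
    ∀ i j, E i = E j := by
  simp only [connected, Bool.and_eq_true, decide_eq_true_eq, List.all_eq_true, List.mem_range,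
    List.contains_iff_mem] at hc
  obtain ⟨h0, hall⟩ := hc
  have key : ∀ k, ∀ j, j ∈ reach D k → ∀ hj : j < D.rank, E ⟨j, hj⟩ = E ⟨0, h0⟩ := by
    intro k
    induction k with
    | zero =>
      intro j hj hj'
      obtain rfl : j = 0 := by simpa [reach] using hj
      rfl
    | succ k ih =>
      intro j hj hj'
      simp only [reach, List.mem_filter, List.any_eq_true, Bool.or_eq_true, beq_iff_eq,
        bne_iff_ne] at hj
      obtain ⟨-, i, hi, h⟩ := hj
      have hir : i < D.rank := by
        rcases k with _ | k
        · obtain rfl : i = 0 := by simpa [reach] using hi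
          exact h0
        · simp only [reach, List.mem_filter, List.mem_range] at hi
          exact hi.1
      rw [← ih i hi hir]
      rcases eq_or_ne i j with rfl | hne
      · rfl
      · exact (hE ⟨i, hir⟩ ⟨j, hj'⟩ (fun e => hne (congrArg Fin.val e))
          (h.resolve_left (Ne.symm hne))).symm
  exact fun i j => (key _ i (hall i i.isLt) i.isLt).trans (key _ j (hall j j.isLt) j.isLt).symm

variable {C : Cert D} {θ : ↥(D.group F) ≃* ↥(D.group F)} {π : Equiv.Perm (Fin D.rank)}
  {σ : Fin D.rank → F ≃+* F}

theorem std_symm (h : Std C θ π σ) :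
    Std C θ.symm π.symm (fun j => (σ (π.symm j)).symm) := by
  constructor
  · intro i t
    rw [MulEquiv.symm_apply_eq, h.pos, π.apply_symm_apply, RingEquiv.apply_symm_apply]
  · intro i t
    rw [MulEquiv.symm_apply_eq, h.neg, π.apply_symm_apply, RingEquiv.apply_symm_apply]

/-- all field maps agree when linked nodes correspond with symmetric exponents -/
theorem exp_uniform (h : Std C θ π σ) (hc : connected D = true)
    (hsym : ∀ i j : Fin D.rank, i ≠ j → D.cartan i (D.simple j) ≠ 0 →
      (D.cartan i (D.simple j) = -1 ∧ D.cartan (π i) (D.simple (π j)) = -1) ∨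
        (D.cartan j (D.simple i) = -1 ∧ D.cartan (π j) (D.simple (π i)) = -1))
    (he : ∀ i : Fin D.rank, D.graphExp (ringChar F) i (π i) = 1) :
    ∃ σ0 : F ≃+* F, ∀ (i : Fin D.rank) (t : F), σ i t = σ0 t ^ D.graphExp (ringChar F) i (π i) := by
  have hall := const_of_connected hc σ fun i j hij hl => RingEquiv.ext fun t => by
    rcases hsym i j hij hl with ⟨h1, h2⟩ | ⟨h1, h2⟩
    · rw [edge C h i j (k := 1) h1 (by exact_mod_cast h2), pow_one]
    · rw [edge C h j i (k := 1) h1 (by exact_mod_cast h2), pow_one]
  have h0 : 0 < D.rank := by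
    simp only [connected, Bool.and_eq_true, decide_eq_true_eq] at hc
    exact hc.1
  exact ⟨σ ⟨0, h0⟩, fun i t => by rw [he, pow_one, hall i ⟨0, h0⟩]⟩

/-- one root length -/
def lacedB (D : ChevalleyDatum) : Bool :=
  connected D && (List.range D.rank).all fun i =>
    !D.isLong (D.simple i) && (List.range D.rank).all fun j => i == j ||
      ((D.cartan i (D.simple j) == 0 && D.cartan j (D.simple i) == 0) ||
        (D.cartan i (D.simple j) == -1 && D.cartan j (D.simple i) == -1))

theorem exp_laced (h : Std C θ π σ) (hL : lacedB D = true) :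
    D.IsDiagramSymmetry π ∧
      ∃ σ0 : F ≃+* F, ∀ (i : Fin D.rank) (t : F), σ i t = σ0 t ^ D.graphExp (ringChar F) i (π i) := by
  simp only [lacedB, Bool.and_eq_true, List.all_eq_true, List.mem_range, Bool.or_eq_true,
    beq_iff_eq, Bool.not_eq_true'] at hL
  obtain ⟨hc, hall⟩ := hL
  have hcase : ∀ i j : Fin D.rank, i ≠ j →
      (D.cartan i (D.simple j) = 0 ∧ D.cartan j (D.simple i) = 0) ∨
        (D.cartan i (D.simple j) = -1 ∧ D.cartan j (D.simple i) = -1) := fun i j hij =>
    ((hall i i.isLt).2 j j.isLt).resolve_left fun e => hij (Fin.ext e)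
  have hzero : ∀ i j : Fin D.rank, i ≠ j →
      (D.cartan (π i) (D.simple (π j)) = 0 ↔ D.cartan i (D.simple j) = 0) := by
    intro i j hij
    constructor
    · intro h0
      have := linked C (std_symm h) (π.injective.ne hij) h0
      rw [π.symm_apply_apply, π.symm_apply_apply] at this
      rcases hcase i j hij with e | e
      · exact e.1
      · omega
    · intro h0
      have := linked C h hij h0
      rcases hcase (π i) (π j) (π.injective.ne hij) with e | e
      · exact e.1
      · omega
  refine ⟨fun i j hij => ?_, ?_⟩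
  · have h1 := hzero i j hij
    simp only [ChevalleyDatum.bonds]
    rcases hcase i j hij with e | e <;> rcases hcase (π i) (π j) (π.injective.ne hij) with e' | e'
    · rw [e.1, e'.1]; simp
    · have := h1.mpr e.1; omega
    · have := h1.mp e'.1; omega
    · rw [e.1, e.2, e'.1, e'.2]
  · refine exp_uniform h hc (fun i j hij hl => Or.inl ?_) fun i => ?_
    · refine ⟨((hcase i j hij).resolve_left fun e => hl e.1).1, ?_⟩
      exact ((hcase (π i) (π j) (π.injective.ne hij)).resolve_left fun e =>
        hl ((hzero i j hij).mp e.1)).1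
    · simp [ChevalleyDatum.graphExp, (hall (π i) (π i).isLt).1]

/-- two root lengths, trivial permutation -/
theorem exp_id (h : Std C θ π σ) (hπ : π = 1) (hc : connected D = true)
    (hsym : ∀ i j : Fin D.rank, i ≠ j → D.cartan i (D.simple j) ≠ 0 →
      D.cartan i (D.simple j) = -1 ∨ D.cartan j (D.simple i) = -1) :
    D.IsDiagramSymmetry π ∧
      ∃ σ0 : F ≃+* F, ∀ (i : Fin D.rank) (t : F), σ i t = σ0 t ^ D.graphExp (ringChar F) i (π i) := by
  subst hπ
  refine ⟨fun i j _ => rfl, exp_uniform h hc (fun i j hij hl => ?_) fun i => ?_⟩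
  · rcases hsym i j hij hl with e | e
    · exact Or.inl ⟨e, e⟩
    · exact Or.inr ⟨e, e⟩
  · simp [ChevalleyDatum.graphExp]

end Cfsg.Agent.ChevAutExp
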