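import Cfsg.Agent.Lib.ChevAutExp

/-!
The diagram part of an automorphism in standard form, for each of the seven data.
-/

set_option autoImplicit false
set_option linter.unusedSimpArgs false
set_option linter.unusedSectionVars false
set_option maxRecDepth 10000

namespace Cfsg.Agent.ChevAutExpData

open Cfsg.Lie Cfsg.Agent.ChevalleyCert Cfsg.Agent.ChevalleyCore
open Cfsg.Agent Cfsg.Agent.ChevAutStd Cfsg.Agent.ChevAutExp

theorem laced_D4 : lacedB chevD4 = true := by decide +kernel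
theorem laced_E6 : lacedB chevE6 = true := by decide +kernel
theorem laced_E7 : lacedB chevE7 = true := by decide +kernel
theorem laced_E8 : lacedB chevE8 = true := by decide +kernel

theorem conn_G2 : connected chevG2 = true := by decide +kernel
theorem conn_B2 : connected chevB2 = true := by decide +kernel
theorem conn_F4 : connected chevF4 = true := by decide +kernel

theorem sym_G2 : ∀ i j : Fin chevG2.rank, i ≠ j → chevG2.cartan i (chevG2.simple j) ≠ 0 →
    chevG2.cartan i (chevG2.simple j) = -1 ∨ chevG2.cartan j (chevG2.simple i) = -1 := by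
  decide +kernel
theorem sym_B2 : ∀ i j : Fin chevB2.rank, i ≠ j → chevB2.cartan i (chevB2.simple j) ≠ 0 →
    chevB2.cartan i (chevB2.simple j) = -1 ∨ chevB2.cartan j (chevB2.simple i) = -1 := by
  decide +kernel
theorem sym_F4 : ∀ i j : Fin chevF4.rank, i ≠ j → chevF4.cartan i (chevF4.simple j) ≠ 0 →
    chevF4.cartan i (chevF4.simple j) = -1 ∨ chevF4.cartan j (chevF4.simple i) = -1 := by
  decide +kernel

theorem rank_G2 : chevG2.rank = 2 := by decide +kernel
theorem rank_B2 : chevB2.rank = 2 := by decide +kernel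
theorem rank_F4 : chevF4.rank = 4 := by decide +kernel

/-- node of `G₂` -/
abbrev n2 (i : Fin 2) : Fin chevG2.rank := i.cast rank_G2.symm
/-- node of `B₂` -/
abbrev m2 (i : Fin 2) : Fin chevB2.rank := i.cast rank_B2.symm
/-- node of `F₄` -/
abbrev m4 (i : Fin 4) : Fin chevF4.rank := i.cast rank_F4.symm

theorem cases_G2 : ∀ π : Equiv.Perm (Fin chevG2.rank), (∀ i, π i = i) ∨
    (π (n2 0) = n2 1 ∧ π (n2 1) = n2 0 ∧
      ∀ i j : Fin chevG2.rank, i ≠ j → chevG2.bonds (π i) (π j) = chevG2.bonds i j) := by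
  decide +kernel

theorem cases_B2 : ∀ π : Equiv.Perm (Fin chevB2.rank), (∀ i, π i = i) ∨
    (π (m2 0) = m2 1 ∧ π (m2 1) = m2 0 ∧
      ∀ i j : Fin chevB2.rank, i ≠ j → chevB2.bonds (π i) (π j) = chevB2.bonds i j) := by
  decide +kernel

theorem cases_F4 : ∀ π : Equiv.Perm (Fin chevF4.rank),
    (∀ i j : Fin chevF4.rank, i ≠ j → chevF4.cartan i (chevF4.simple j) = 0 →
      chevF4.cartan (π j) (chevF4.simple (π i)) = 0) → (∀ i, π i = i) ∨
    (π (m4 0) = m4 3 ∧ π (m4 1) = m4 2 ∧ π (m4 2) = m4 1 ∧ π (m4 3) = m4 0 ∧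
      ∀ i j : Fin chevF4.rank, i ≠ j → chevF4.bonds (π i) (π j) = chevF4.bonds i j) := by
  decide +kernel

theorem fin_G2 : ∀ i : Fin chevG2.rank, i = n2 0 ∨ i = n2 1 := by decide +kernel
theorem fin_B2 : ∀ i : Fin chevB2.rank, i = m2 0 ∨ i = m2 1 := by decide +kernel
theorem fin_F4 : ∀ i : Fin chevF4.rank, i = m4 0 ∨ i = m4 1 ∨ i = m4 2 ∨ i = m4 3 := by decide +kernel

theorem cart_G2 : chevG2.cartan (n2 1) (chevG2.simple (n2 0)) = -1 ∧
    chevG2.cartan (n2 0) (chevG2.simple (n2 1)) = -3 ∧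
    chevG2.isLong (chevG2.simple (n2 1)) = true ∧ chevG2.isLong (chevG2.simple (n2 0)) = false := by
  decide +kernel

theorem cart_B2 : chevB2.cartan (m2 1) (chevB2.simple (m2 0)) = -1 ∧
    chevB2.cartan (m2 0) (chevB2.simple (m2 1)) = -2 ∧
    chevB2.isLong (chevB2.simple (m2 1)) = true ∧ chevB2.isLong (chevB2.simple (m2 0)) = false := by
  decide +kernel

theorem cart_F4 : chevF4.cartan (m4 2) (chevF4.simple (m4 1)) = -1 ∧
    chevF4.cartan (m4 1) (chevF4.simple (m4 2)) = -2 ∧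
    chevF4.cartan (m4 1) (chevF4.simple (m4 0)) = -1 ∧
    chevF4.cartan (m4 2) (chevF4.simple (m4 3)) = -1 ∧
    chevF4.isLong (chevF4.simple (m4 0)) = false ∧ chevF4.isLong (chevF4.simple (m4 1)) = false ∧
    chevF4.isLong (chevF4.simple (m4 2)) = true ∧ chevF4.isLong (chevF4.simple (m4 3)) = true := by
  decide +kernel

theorem ringChar_pos {F : Type*} [Field F] [Finite F] : ringChar F ≠ 0 :=
  (CharP.char_is_prime F (ringChar F)).ne_zero

theorem exp_G2 {F : Type*} [Field F] [Finite F] {C : Cert chevG2}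
    {θ : ↥(chevG2.group F) ≃* ↥(chevG2.group F)} {π : Equiv.Perm (Fin chevG2.rank)}
    {σ : Fin chevG2.rank → F ≃+* F} (h : Std C θ π σ) :
    chevG2.IsDiagramSymmetry π ∧ ∃ σ0 : F ≃+* F, ∀ (i : Fin chevG2.rank) (t : F),
      σ i t = σ0 t ^ chevG2.graphExp (ringChar F) i (π i) := by
  rcases cases_G2 π with e | ⟨e0, e1, hs⟩
  · exact exp_id h (Equiv.ext e) conn_G2 sym_G2
  refine ⟨hs, ?_⟩
  obtain ⟨c1, c2, l1, l0⟩ := cart_G2
  have hk := edge C h (n2 1) (n2 0) (k := 3) c1 (by rw [e0, e1]; exact_mod_cast c2)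
  have hu : ∀ t, σ (n2 0) t = σ (n2 1) t ^ ringChar F := by
    intro t
    rcases ChevAutField.char_three_of_cube (σ (n2 1)) (σ (n2 0)) hk with hc | hc
    · rw [hc]; exact hk t
    · rcases hc t with rfl | rfl <;> simp [ringChar_pos]
  refine ⟨σ (n2 1), fun i t => ?_⟩
  rcases fin_G2 i with rfl | rfl
  · rw [ChevalleyDatum.graphExp, e0, l1, l0]; simpa using hu t
  · rw [ChevalleyDatum.graphExp, e1, l0]; simp

theorem exp_B2 {F : Type*} [Field F] [Finite F] {C : Cert chevB2}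
    {θ : ↥(chevB2.group F) ≃* ↥(chevB2.group F)} {π : Equiv.Perm (Fin chevB2.rank)}
    {σ : Fin chevB2.rank → F ≃+* F} (h : Std C θ π σ) :
    chevB2.IsDiagramSymmetry π ∧ ∃ σ0 : F ≃+* F, ∀ (i : Fin chevB2.rank) (t : F),
      σ i t = σ0 t ^ chevB2.graphExp (ringChar F) i (π i) := by
  rcases cases_B2 π with e | ⟨e0, e1, hs⟩
  · exact exp_id h (Equiv.ext e) conn_B2 sym_B2
  refine ⟨hs, ?_⟩
  obtain ⟨c1, c2, l1, l0⟩ := cart_B2
  have hk := edge C h (m2 1) (m2 0) (k := 2) c1 (by rw [e0, e1]; exact_mod_cast c2)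
  have hc := ChevAutField.char_two_of_sq (σ (m2 1)) (σ (m2 0)) hk
  refine ⟨σ (m2 1), fun i t => ?_⟩
  rcases fin_B2 i with rfl | rfl
  · rw [ChevalleyDatum.graphExp, e0, l1, l0, hc]; simpa using hk t
  · rw [ChevalleyDatum.graphExp, e1, l0]; simp

theorem exp_F4 {F : Type*} [Field F] [Finite F] {C : Cert chevF4}
    {θ : ↥(chevF4.group F) ≃* ↥(chevF4.group F)} {π : Equiv.Perm (Fin chevF4.rank)}
    {σ : Fin chevF4.rank → F ≃+* F} (h : Std C θ π σ) :
    chevF4.IsDiagramSymmetry π ∧ ∃ σ0 : F ≃+* F, ∀ (i : Fin chevF4.rank) (t : F),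
      σ i t = σ0 t ^ chevF4.graphExp (ringChar F) i (π i) := by
  rcases cases_F4 π (fun i j hij h0 => linked C h hij h0) with e | ⟨e0, e1, e2, e3, hs⟩
  · exact exp_id h (Equiv.ext e) conn_F4 sym_F4
  refine ⟨hs, ?_⟩
  obtain ⟨c21, c12, c10, c23, l0, l1, l2, l3⟩ := cart_F4
  have h21 := edge C h (m4 2) (m4 1) (k := 2) c21 (by rw [e2, e1]; exact_mod_cast c12)
  have h10 := edge C h (m4 1) (m4 0) (k := 1) c10 (by rw [e1, e0]; exact_mod_cast c23)
  have h23 := edge C h (m4 2) (m4 3) (k := 1) c23 (by rw [e2, e3]; exact_mod_cast c10)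
  have hc := ChevAutField.char_two_of_sq (σ (m4 2)) (σ (m4 1)) h21
  refine ⟨σ (m4 2), fun i t => ?_⟩
  rcases fin_F4 i with rfl | rfl | rfl | rfl
  · rw [ChevalleyDatum.graphExp, e0, l3, l0, hc, h10 t, h21 t]; simp
  · rw [ChevalleyDatum.graphExp, e1, l2, l1, hc, h21 t]; simp
  · rw [ChevalleyDatum.graphExp, e2, l1]; simp
  · rw [ChevalleyDatum.graphExp, e3, l0, h23 t]; simp

theorem exp_all {F : Type*} [Field F] [Finite F] {D : ChevalleyDatum}
    (hD : D ∈ [chevG2, chevB2, chevD4, chevF4, chevE6, chevE7, chevE8]) {C : Cert D}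
    {θ : ↥(D.group F) ≃* ↥(D.group F)} {π : Equiv.Perm (Fin D.rank)}
    {σ : Fin D.rank → F ≃+* F} (h : Std C θ π σ) :
    D.IsDiagramSymmetry π ∧ ∃ σ0 : F ≃+* F, ∀ (i : Fin D.rank) (t : F),
      σ i t = σ0 t ^ D.graphExp (ringChar F) i (π i) := by
  simp only [List.mem_cons, List.not_mem_nil, or_false] at hD
  rcases hD with rfl | rfl | rfl | rfl | rfl | rfl | rfl
  exacts [exp_G2 h, exp_B2 h, exp_laced h laced_D4, exp_F4 h, exp_laced h laced_E6,
    exp_laced h laced_E7, exp_laced h laced_E8]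

end Cfsg.Agent.ChevAutExpData
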