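import Mathlib

/-!
Maps of a finite field met in the rigidity argument for automorphisms of Chevalley groups.
-/

set_option autoImplicit false

namespace Cfsg.Agent.ChevAutField

variable {F : Type*} [Field F]

/-- an additive map with `f (t² u) = f(t)² f(u)` and `f 1 = 1` is multiplicative -/
theorem map_mul_of_sq [Finite F] (f : F → F) (hadd : ∀ a b, f (a + b) = f a + f b) (h1 : f 1 = 1)
    (hsq : ∀ t u, t ≠ 0 → f (t ^ 2 * u) = f t ^ 2 * f u) (t u : F) : f (t * u) = f t * f u := by
  have h0 : f 0 = 0 := by simpa using hadd 0 0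
  have hall : ∀ t u, f (t ^ 2 * u) = f t ^ 2 * f u := fun t u => by
    rcases eq_or_ne t 0 with rfl | ht
    · simp [h0]
    · exact hsq t u ht
  by_cases h2 : ringChar F = 2
  · obtain ⟨s, rfl⟩ := FiniteField.isSquare_of_char_two h2 t
    rw [← pow_two, hall, ← mul_one (s ^ 2), hall, h1, mul_one]
  · have hne : (2 : F) ≠ 0 := Ring.two_ne_zero h2
    have hexp := hall (t + 1) u
    have hl : (t + 1) ^ 2 * u = t ^ 2 * u + (t * u + t * u) + u := by ring
    rw [hl, hadd, hadd, hadd, hall, hadd t 1, h1] at hexp
    refine mul_left_cancel₀ hne ?_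
    linear_combination hexp

/-- the field automorphism given by such a map -/
noncomputable def toEquiv [Finite F] (f : F → F) (hadd : ∀ a b, f (a + b) = f a + f b) (h1 : f 1 = 1)
    (hsq : ∀ t u, t ≠ 0 → f (t ^ 2 * u) = f t ^ 2 * f u) (hinj : Function.Injective f) : F ≃+* F :=
  RingEquiv.ofBijective
    ({ toFun := f, map_one' := h1, map_mul' := map_mul_of_sq f hadd h1 hsq,
       map_zero' := by simpa using hadd 0 0, map_add' := hadd } : F →+* F)
    ⟨hinj, Finite.surjective_of_injective hinj⟩

theorem toEquiv_apply [Finite F] (f : F → F) (hadd : ∀ a b, f (a + b) = f a + f b) (h1 : f 1 = 1)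
    (hsq : ∀ t u, t ≠ 0 → f (t ^ 2 * u) = f t ^ 2 * f u) (hinj : Function.Injective f) (t : F) :
    toEquiv f hadd h1 hsq hinj t = f t := rfl

/-- two field automorphisms with `τ = σ²` force characteristic two -/
theorem char_two_of_sq (σ τ : F ≃+* F) (h : ∀ t, τ t = σ t ^ 2) : ringChar F = 2 := by
  have e := h (1 + 1)
  simp only [map_add, map_one] at e
  have h2 : ((2 : ℕ) : F) = 0 := by push_cast; linear_combination -e
  exact ((Nat.prime_two.eq_one_or_self_of_dvd _ ((ringChar.spec F 2).mp h2))).resolve_left
    CharP.ringChar_ne_one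

/-- two field automorphisms with `τ = σ³` force characteristic three or the field of two elements -/
theorem char_three_of_cube (σ τ : F ≃+* F) (h : ∀ t, τ t = σ t ^ 3) :
    ringChar F = 3 ∨ ∀ t : F, t = 0 ∨ t = 1 := by
  have key : ∀ t : F, (3 : F) * (σ t ^ 2 + σ t) = 0 := fun t => by
    have e := h (t + 1)
    simp only [map_add, map_one, h t] at e
    linear_combination -e
  by_cases h3 : (3 : F) = 0
  · have h3' : ((3 : ℕ) : F) = 0 := by exact_mod_cast h3
    exact Or.inl ((Nat.prime_three.eq_one_or_self_of_dvd _ ((ringChar.spec F 3).mp h3')).resolve_left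
      CharP.ringChar_ne_one)
  · refine Or.inr fun t => ?_
    have h1 : σ t * (σ t + 1) = 0 := by
      rcases mul_eq_zero.mp (key t) with e | e
      · exact absurd e h3
      · linear_combination e
    have h2 : (1 : F) + 1 = 0 := by
      rcases mul_eq_zero.mp (key 1) with e | e
      · exact absurd e h3
      · simpa using e
    rcases mul_eq_zero.mp h1 with e | e
    · exact Or.inl (σ.injective (by rw [e, map_zero]))
    · refine Or.inr (σ.injective ?_)
      rw [map_one]
      linear_combination e - h2

end Cfsg.Agent.ChevAutField
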