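import Cfsg.Agent.Lib.ChevAutExpData
import Cfsg.Agent.Lib.ChevAutGalois

/-!
Automorphisms of a Chevalley group given on the fundamental root elements by a diagram symmetry,
a field automorphism and scalars.
-/

set_option autoImplicit false
set_option linter.unusedSimpArgs false
set_option linter.unusedSectionVars false

namespace Cfsg.Agent.ChevAutForm

open Cfsg.Lie Cfsg.Agent.ChevalleyCert Cfsg.Agent.ChevalleyCore Cfsg.Agent.ChevBruhat
open Cfsg.Agent Cfsg.Agent.ChevAutRigid Cfsg.Agent.ChevAutStd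

variable {D : ChevalleyDatum} {F : Type*} [Field F]

/-- the exponent at node `i` -/
noncomputable abbrev ex (D : ChevalleyDatum) (F : Type*) [Field F] (π : Equiv.Perm (Fin D.rank)) (i : Fin D.rank) : ℕ :=
  D.graphExp (ringChar F) i (π i)

variable (C : Cert D)

/-- `θ` is given by `(π, τ, c)` -/
structure Form (θ : MulAut ↥(D.group F)) (π : Equiv.Perm (Fin D.rank)) (τ : F ≃+* F)
    (c : Fin D.rank → Fˣ) : Prop where
  pos : ∀ (i : Fin D.rank) (t : F),
    θ (xG C (D.simple i) t) = xG C (D.simple (π i)) ((c i : F) * τ t ^ ex D F π i)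
  neg : ∀ (i : Fin D.rank) (t : F),
    θ (xG C (D.neg (D.simple i)) t) =
      xG C (D.neg (D.simple (π i))) ((((c i)⁻¹ : Fˣ) : F) * τ t ^ ex D F π i)

theorem ex_one (i : Fin D.rank) : ex D F 1 i = 1 := by simp [ex, ChevalleyDatum.graphExp]

theorem ex_ne_zero [Finite F] (π : Equiv.Perm (Fin D.rank)) (i : Fin D.rank) : ex D F π i ≠ 0 := by
  rw [ex, ChevalleyDatum.graphExp]
  split
  · exact (CharP.char_is_prime F (ringChar F)).ne_zero
  · exact one_ne_zero

theorem neg_one_pow_ex [Finite F] (π : Equiv.Perm (Fin D.rank)) (i : Fin D.rank) :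
    (-1 : F) ^ ex D F π i = -1 := by
  rw [ex, ChevalleyDatum.graphExp]
  split
  · haveI : Fact (ringChar F).Prime := ⟨CharP.char_is_prime F (ringChar F)⟩
    exact neg_one_pow_char F (ringChar F)
  · exact pow_one _

/-- some fundamental root is not long -/
def hasShort (D : ChevalleyDatum) : Bool := (List.range D.rank).any fun i => !D.isLong (D.simple i)

theorem hasShort_all : ∀ D ∈ [chevG2, chevB2, chevD4, chevF4, chevE6, chevE7, chevE8],
    hasShort D = true := by
  intro D hD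
  simp only [List.mem_cons, List.not_mem_nil, or_false] at hD
  rcases hD with rfl | rfl | rfl | rfl | rfl | rfl | rfl <;> decide +kernel

theorem exists_ex_one (hs : hasShort D = true) (π : Equiv.Perm (Fin D.rank)) :
    ∃ i, ex D F π i = 1 := by
  simp only [hasShort, List.any_eq_true, List.mem_range, Bool.not_eq_true'] at hs
  obtain ⟨i, hi, h⟩ := hs
  exact ⟨π.symm ⟨i, hi⟩, by simp [ex, ChevalleyDatum.graphExp, h]⟩

theorem Form.perm_eq {θ : MulAut ↥(D.group F)} {π π' : Equiv.Perm (Fin D.rank)} {τ τ' : F ≃+* F}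
    {c c' : Fin D.rank → Fˣ} (h : Form C θ π τ c) (h' : Form C θ π' τ' c') : π = π' := by
  refine Equiv.ext fun i => Fin.ext (ChevalleyRoots.simple_inj C (π i).isLt (π' i).isLt ?_)
  refine (xG_inj C (ChevalleyRoots.simple_lt C (π i).isLt) (ChevalleyRoots.simple_lt C (π' i).isLt)
    ?_ ((h.pos i 1).symm.trans (h'.pos i 1))).1
  simp

theorem Form.param_eq (hs : hasShort D = true) {θ : MulAut ↥(D.group F)}
    {π : Equiv.Perm (Fin D.rank)} {τ τ' : F ≃+* F} {c c' : Fin D.rank → Fˣ}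
    (h : Form C θ π τ c) (h' : Form C θ π τ' c') : τ = τ' ∧ c = c' := by
  have hc : c = c' := funext fun i => Units.ext (by
    have e := xG_inj' C (ChevalleyRoots.simple_lt C (π i).isLt) ((h.pos i 1).symm.trans (h'.pos i 1))
    simpa using e)
  subst hc
  obtain ⟨i, hi⟩ := exists_ex_one (F := F) hs π
  refine ⟨RingEquiv.ext fun t => ?_, rfl⟩
  have e := xG_inj' C (ChevalleyRoots.simple_lt C (π i).isLt) ((h.pos i t).symm.trans (h'.pos i t))
  rw [hi, pow_one, pow_one] at e
  exact mul_left_cancel₀ (c i).ne_zero e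

theorem Form.ext' {θ θ' : MulAut ↥(D.group F)} {π : Equiv.Perm (Fin D.rank)} {τ : F ≃+* F}
    {c : Fin D.rank → Fˣ} (h : Form C θ π τ c) (h' : Form C θ' π τ c) : θ = θ' :=
  aut_ext C θ θ' fun i t => ⟨by rw [h.pos, h'.pos], by rw [h.neg, h'.neg]⟩

theorem Form.map_nG [Finite F] {θ : MulAut ↥(D.group F)} {π : Equiv.Perm (Fin D.rank)} {τ : F ≃+* F}
    {c : Fin D.rank → Fˣ} (h : Form C θ π τ c) (i : Fin D.rank) :
    θ (nG C i.val 1) = nG C (π i).val (c i : F) := by
  simp only [nG, map_mul, h.pos, h.neg, inv_one, map_neg, map_one, neg_one_pow_ex, one_pow, mul_one,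
    mul_neg, Units.val_inv_eq_inv_val]

/-- every positive root element goes to a positive root element, likewise for negatives -/
theorem Form.root_image [Finite F] {θ : MulAut ↥(D.group F)} {π : Equiv.Perm (Fin D.rank)}
    {τ : F ≃+* F} {c : Fin D.rank → Fˣ} (h : Form C θ π τ c) (S : Sys D F) :
    ∀ r, D.nroots / 2 ≤ r → r < D.nroots → ∃ r', D.IsPosRoot r' ∧
      (∀ t, ∃ u, θ (xG C r t) = xG C r' u) ∧ ∀ t, ∃ u, θ (xG C (D.neg r) t) = xG C (D.neg r') u := by
  intro r
  induction r using Nat.strong_induction_on with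
  | _ r ih =>
    intro hr hr'
    by_cases hsim : ∃ i, i < D.rank ∧ r = D.simple i
    · obtain ⟨i, hi, rfl⟩ := hsim
      exact ⟨D.simple (π ⟨i, hi⟩), S.X.simple_pos (π ⟨i, hi⟩).isLt, fun t => ⟨_, h.pos ⟨i, hi⟩ t⟩,
        fun t => ⟨_, h.neg ⟨i, hi⟩ t⟩⟩
    push Not at hsim
    obtain ⟨i, hi, h1, h2⟩ := C.descend r hr hr' hsim
    have hr0 := C.w_lt i r hi hr'
    obtain ⟨r', hp, hpos, hneg⟩ := ih _ h2 h1 hr0
    set j := π ⟨i, hi⟩ with hj
    have hne : r' ≠ D.simple j := by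
      rintro rfl
      obtain ⟨u, hu⟩ := hpos 1
      obtain ⟨t, ht⟩ := θ.surjective (xG C (D.simple j) u)
      obtain ⟨u', hu'⟩ : ∃ u', (c ⟨i, hi⟩ : F) * τ u' ^ ex D F π ⟨i, hi⟩ = u :=
        Finite.surjective_of_injective (f := fun u' => (c ⟨i, hi⟩ : F) * τ u' ^ ex D F π ⟨i, hi⟩)
          (fun a b e => xG_inj' C (ChevalleyRoots.simple_lt C hi)
            (θ.injective (((h.pos ⟨i, hi⟩ a).trans (congrArg _ e)).trans (h.pos ⟨i, hi⟩ b).symm))) u
      have e : xG C (wr D i r) (1 : F) = xG C (D.simple i) u' :=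
        θ.injective (by rw [hu, h.pos ⟨i, hi⟩, hu'])
      have e1 := (xG_inj C hr0 (ChevalleyRoots.simple_lt C hi) one_ne_zero e).1
      have e2 := congrArg (wr D i) e1
      rw [ChevalleyRoots.w_invol C hi hr', ChevalleyRoots.w_simple C hi,
        C.neg_eq _ (ChevalleyRoots.simple_lt C hi)] at e2
      have := (C.simple_mem i hi).1
      have := C.even
      omega
    refine ⟨wr D j r', (S.X.root_facts' hp.1 j.isLt).2.2.2.2.1 hp hne, fun t => ?_, fun t => ?_⟩
    all_goals
      -- the root element is a conjugate of a lower one by `n_i(1)`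
      have hcj : ∀ (s : ℕ), s < D.nroots → ∀ a : F,
          nG C (j : ℕ) (c ⟨i, hi⟩ : F) * xG C s a * (nG C (j : ℕ) (c ⟨i, hi⟩ : F))⁻¹ ∈
            Set.range (fun u : F => xG C (wr D j s) u) := by
        intro s hs a
        obtain ⟨e, -, he⟩ : ∃ e : F, e ≠ 0 ∧ ∀ b : F,
            hg C (D.simple j) (c ⟨i, hi⟩ : F) * xg C (wr D j s) b =
              xg C (wr D j s) (e * b) * hg C (D.simple j) (c ⟨i, hi⟩ : F) :=
          ⟨_, zpow_ne_zero _ (c ⟨i, hi⟩).ne_zero, fun b =>
            hg_conj_xg C (ChevalleyRoots.simple_lt C j.isLt) (C.w_lt j s j.isLt hs) (c ⟨i, hi⟩).ne_zero b⟩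
        refine ⟨e * ((C.eta j s : F) * a), Subtype.ext ?_⟩
        simp only [Subgroup.coe_mul, InvMemClass.coe_inv, coe_nG, coe_xG]
        rw [ng_eq C (D.simple j) (c ⟨i, hi⟩ : F)]
        calc xg C (wr D j s) (e * ((C.eta j s : F) * a))
            = hg C (D.simple j) (c ⟨i, hi⟩ : F) * xg C (wr D j s) ((C.eta j s : F) * a) *
                (hg C (D.simple j) (c ⟨i, hi⟩ : F))⁻¹ := by rw [he, mul_inv_cancel_right]
          _ = _ := by rw [← ng_simple_conj C j.isLt hs]; group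
    · have hstep : xG C r t = nG C i 1 * xG C (wr D i r) ((C.eta i (wr D i r) : F) * t) * (nG C i 1)⁻¹ := by
        apply Subtype.ext
        simp only [Subgroup.coe_mul, InvMemClass.coe_inv, coe_nG, coe_xG]
        rw [ng_simple_conj C hi hr0, ← mul_assoc, eta_cast_sq C, one_mul,
          show D.reflectRoot i (wr D i r) = r from ChevalleyRoots.w_invol C hi hr']
      obtain ⟨u, hu⟩ := hpos ((C.eta i (wr D i r) : F) * t)
      obtain ⟨v, hv⟩ := hcj r' hp.1 u
      refine ⟨v, ?_⟩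
      rw [hstep, map_mul, map_mul, map_inv, Form.map_nG C h ⟨i, hi⟩, hu]
      exact hv.symm
    · have hn : D.neg (wr D i r) = wr D i (D.neg r) := (ChevalleyRoots.w_neg C hi hr').symm
      have hstep : xG C (D.neg r) t =
          nG C i 1 * xG C (D.neg (wr D i r)) ((C.eta i (D.neg (wr D i r)) : F) * t) * (nG C i 1)⁻¹ := by
        apply Subtype.ext
        simp only [Subgroup.coe_mul, InvMemClass.coe_inv, coe_nG, coe_xG]
        rw [ng_simple_conj C hi (C.neg_lt _), ← mul_assoc, eta_cast_sq C, one_mul, hn,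
          show D.reflectRoot i (wr D i (D.neg r)) = D.neg r from ChevalleyRoots.w_invol C hi (C.neg_lt r)]
      obtain ⟨u, hu⟩ := hneg ((C.eta i (D.neg (wr D i r)) : F) * t)
      obtain ⟨v, hv⟩ := hcj (D.neg r') (C.neg_lt r') u
      refine ⟨v, ?_⟩
      rw [hstep, map_mul, map_mul, map_inv, Form.map_nG C h ⟨i, hi⟩, hu]
      rw [← ChevalleyRoots.w_neg C j.isLt hp.1]
      exact hv.symm

/-- such an automorphism fixes `U` and `V` -/
theorem Form.fix [Finite F] {θ : MulAut ↥(D.group F)} {π : Equiv.Perm (Fin D.rank)}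
    {τ : F ≃+* F} {c : Fin D.rank → Fˣ} (h : Form C θ π τ c) (S : Sys D F) : Fix θ := by
  have key : ∀ (K : Subgroup ↥(D.group F)) (Q : ℕ → Prop),
      K.map (D.group F).subtype = Subgroup.closure {g : GL D.Idx F | ∃ (r : ℕ) (t : F), Q r ∧
        (g : Matrix D.Idx D.Idx F) = D.x F r t} →
      (∀ r t, Q r → θ (xG C r t) ∈ K) → ∀ y, θ y ∈ K ↔ y ∈ K := by
    intro K Q hK hgen
    have hle : ∀ y ∈ K, θ y ∈ K := by
      intro y hy
      have hyK : (y : GL D.Idx F) ∈ K.map (D.group F).subtype := ⟨y, hy, rfl⟩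
      rw [hK] at hyK
      have hle' : Subgroup.closure {g : GL D.Idx F | ∃ (r : ℕ) (t : F), Q r ∧
          (g : Matrix D.Idx D.Idx F) = D.x F r t} ≤ (K.comap θ.toMonoidHom).map (D.group F).subtype := by
        rw [Subgroup.closure_le]
        rintro g ⟨r, t, hr, hg⟩
        obtain rfl : g = xg C r t := (xg_eq_iff C).1 hg
        exact ⟨xG C r t, hgen r t hr, rfl⟩
      obtain ⟨z, hz, e⟩ := hle' hyK
      obtain rfl : z = y := Subtype.ext e
      exact hz
    intro y
    refine ⟨fun hy => ?_, hle y⟩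
    have hsurj : Function.Surjective (fun z : K => (⟨θ z, hle z z.2⟩ : K)) :=
      Finite.surjective_of_injective fun a b e => Subtype.ext (θ.injective (congrArg Subtype.val e))
    obtain ⟨z, hz⟩ := hsurj ⟨θ y, hy⟩
    have := θ.injective (congrArg Subtype.val hz)
    exact this ▸ z.2
  refine ⟨key (UG D F) D.IsPosRoot ?_ ?_, key (VG D F) D.IsNegRoot ?_ ?_⟩
  · exact (Subgroup.subgroupOf_map_subtype _ _).trans (inf_eq_left.mpr S.U_le_group)
  · intro r t hr
    obtain ⟨r', hp, h1, -⟩ := Form.root_image C h S r ((ChevalleyRoots.isPos C).1 hr).1 hr.1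
    obtain ⟨u, hu⟩ := h1 t
    rw [hu, mem_UG, coe_xG, ← sxg C S]
    exact S.xg_mem_U hp u
  · refine (Subgroup.subgroupOf_map_subtype _ _).trans (inf_eq_left.mpr ?_)
    exact (Subgroup.closure_le _).2 fun g ⟨r, t, hr, hg⟩ => by
      rw [(xg_eq_iff C).1 hg]; exact xg_mem_group C r t
  · intro r t hr
    have hp := (S.X.pos_neg_iff hr.1).mpr hr
    obtain ⟨r', hp', -, h2⟩ := Form.root_image C h S _ ((ChevalleyRoots.isPos C).1 hp).1 hp.1
    obtain ⟨u, hu⟩ := h2 t
    rw [ChevalleyRoots.neg_neg' C hr.1] at hu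
    rw [hu, mem_VG, coe_xG, ← sxg C S]
    refine S.xg_mem_V ?_ u
    rw [← S.X.pos_neg_iff (C.neg_lt _), ChevalleyRoots.neg_neg' C hp'.1]
    exact hp'

include C in
/-- every automorphism fixing `U` and `V` has such a form, with a diagram symmetry -/
theorem exists_form [Finite F] (hD : D ∈ [chevG2, chevB2, chevD4, chevF4, chevE6, chevE7, chevE8])
    (S : Sys D F) {θ : MulAut ↥(D.group F)} (hθ : Fix θ) :
    ∃ π τ c, D.IsDiagramSymmetry π ∧ Form C θ π τ c := by
  obtain ⟨χ, π, σ, d, θ', hχ, -, hdx, hstd, hd'⟩ := exists_std C S hD hθ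
  obtain ⟨hsym, τ, hτ⟩ := ChevAutExpData.exp_all hD hstd
  refine ⟨π, τ, fun i => χ (D.simple (π i)), hsym, fun i t => ?_, fun i t => ?_⟩
  · rw [hd', hstd.pos, hdx _ (ChevalleyRoots.simple_lt C (π i).isLt), hτ]
  · rw [hd', hstd.neg, hdx _ (C.neg_lt _), hτ, hχ.1 _ (ChevalleyRoots.simple_lt C (π i).isLt)]

end Cfsg.Agent.ChevAutForm
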