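import Cfsg.Agent.Lib.ChevAutSyms
import Cfsg.Agent.Lib.ChevalleyGraph

/-!
Graph automorphisms of the simply laced types realise symmetries of the diagram.
-/

set_option autoImplicit false
set_option linter.unusedSimpArgs false
set_option linter.unusedSectionVars false
set_option maxRecDepth 10000

namespace Cfsg.Agent.ChevAutGraphReal

open Cfsg.Lie Cfsg.Agent.ChevalleyCert
open Cfsg.Agent Cfsg.Agent.ChevAutRigid Cfsg.Agent.ChevAutForm Cfsg.Agent.ChevAutOut

variable {D : ChevalleyDatum} (T : ChevalleyGraph.Sym D)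

/-- the permutation of the nodes of a symmetry of the tables -/
def nodePerm : Equiv.Perm (Fin D.rank) where
  toFun i := ⟨T.pi i, (T.pi_ok i i.isLt).1⟩
  invFun i := ⟨T.pinv i, (T.pi_ok i i.isLt).2.1⟩
  left_inv i := Fin.ext (T.pi_ok i i.isLt).2.2.1
  right_inv i := Fin.ext (T.pi_ok i i.isLt).2.2.2

theorem graphExp_laced (hL : ∀ i : Fin D.rank, D.isLong (D.simple i) = false) {F : Type*} [Field F]
    (π : Equiv.Perm (Fin D.rank)) (i : Fin D.rank) : ex D F π i = 1 := by
  simp [ex, ChevalleyDatum.graphExp, hL (π i)]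

theorem mem_range {F : Type*} [Field F] [Finite F] (X : Ctx D F)
    (hL : ∀ i : Fin D.rank, D.isLong (D.simple i) = false) : nodePerm T ∈ (pHom X).range := by
  obtain ⟨α, hα⟩ := ChevalleyGraph.exists_simple_aut T X.C (F := F)
  refine ChevAutSyms.mem_range_of_form X (θ := α) (τ := RingEquiv.refl F) (c := 1) ?_
  constructor
  · intro i t
    have h := (hα (xG X.C (D.simple i) t) i t i.isLt).1 (ChevAutStd.coe_coe_xG X.C _ _)
    rw [ChevAutStd.eq_xG X.C h, graphExp_laced hL, pow_one]
    simp [nodePerm]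
  · intro i t
    have h := (hα (xG X.C (D.neg (D.simple i)) t) i t i.isLt).2 (ChevAutStd.coe_coe_xG X.C _ _)
    rw [ChevAutStd.eq_xG X.C h, graphExp_laced hL, pow_one]
    simp [nodePerm]

theorem notLong_E6 : ∀ i : Fin chevE6.rank, chevE6.isLong (chevE6.simple i) = false := by decide +kernel
theorem notLong_D4 : ∀ i : Fin chevD4.rank, chevD4.isLong (chevD4.simple i) = false := by decide +kernel

theorem symE6_ne : nodePerm ChevalleyGraph.symE6 ≠ 1 := by decide +kernel

end Cfsg.Agent.ChevAutGraphReal
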