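import Cfsg.Agent.Lib.ChevAutRigid
import Cfsg.Agent.Lib.ChevAutField

/-!
An automorphism fixing `U` and `V` permutes the fundamental root subgroups; the maps it induces
on the parameters are, up to scalars, automorphisms of the field.
-/

set_option autoImplicit false
set_option linter.unusedSimpArgs false
set_option linter.unusedSectionVars false

namespace Cfsg.Agent.ChevAutRoots

open Cfsg.Lie Cfsg.Agent.ChevalleyCert Cfsg.Agent.ChevalleyCore Cfsg.Agent.ChevBruhat
open Cfsg.Agent Cfsg.Agent.ChevWeyl Cfsg.Agent.ChevAutRigid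

variable {D : ChevalleyDatum} {F : Type*} [Field F] (C : Cert D) (S : Sys D F)

/-! ### commuting and non-commuting root elements -/

include C in
theorem mixed_false {r : ℕ} (hr : r < D.nroots) {i j : ℕ} (hi : i < D.rank) (hj : j < D.rank)
    (h1 : 0 < C.coef r i) (h2 : C.coef r j < 0) : False := by
  rcases Nat.lt_or_ge r (D.nroots / 2) with h | h
  · have h3 := C.coef_pos (D.neg r) i ((ChevalleyRoots.neg_pos C hr).2 h) (C.neg_lt r) hi
    rw [C.coef_neg r i hr hi] at h3
    omega
  · have := C.coef_pos r j h hr hj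
    omega

theorem wg_nil : wg C ([] : List (ℕ × F)) = 1 := by simp [wg]

theorem xg_comm_of_nil {r s : ℕ} (hr : r < D.nroots) (hs : s < D.nroots) (h1 : s ≠ r) (h2 : s ≠ D.neg r)
    (he : D.commTerms r s = []) (t u : F) : xg C s u * xg C r t = xg C r t * xg C s u := by
  have hw : D.commWord F r s t u = [] := by
    apply List.eq_nil_iff_forall_not_mem.mpr
    intro p hp
    obtain ⟨c, hc, -⟩ := List.mem_map.1 hp
    rw [he] at hc
    exact absurd hc List.not_mem_nil
  rw [comm_formula C hr hs h1 h2, hw, wg_nil, mul_one]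

/-- `x_p` and `x_{-q}` commute for distinct fundamental roots -/
theorem comm_pos_neg {i j : ℕ} (hi : i < D.rank) (hj : j < D.rank) (hij : i ≠ j) (t u : F) :
    xG C (D.simple i) t * xG C (D.neg (D.simple j)) u =
      xG C (D.neg (D.simple j)) u * xG C (D.simple i) t := by
  have hr := ChevalleyRoots.simple_lt C hi
  have hs := C.neg_lt (D.simple j)
  have hsj := ChevalleyRoots.simple_lt C hj
  have hnp : D.neg (D.simple j) < D.nroots / 2 := by
    have h := (C.simple_mem j hj)
    rw [C.neg_eq _ hsj]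
    have := C.even
    omega
  have h1 : D.neg (D.simple j) ≠ D.simple i := by
    have := (C.simple_mem i hi).1
    omega
  have h2 : D.neg (D.simple j) ≠ D.neg (D.simple i) := fun h =>
    hij (ChevalleyRoots.simple_inj C hi hj (ChevalleyRoots.neg_inj C hsj hr h).symm)
  refine Subtype.ext (xg_comm_of_nil C hr hs h1 h2 ?_ t u).symm
  apply List.eq_nil_iff_forall_not_mem.mpr
  intro c hc
  obtain ⟨hlt, ha, hb, hco⟩ := ChevalleyRoots.commTerms_mem C hr hs hc
  refine mixed_false C hlt hi hj ?_ ?_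
  · rw [hco i hi, C.coef_simple i i hi hi, C.coef_neg _ i hsj hi, C.coef_simple j i hj hi,
      if_pos rfl, if_neg hij]
    omega
  · rw [hco j hj, C.coef_simple i j hi hj, C.coef_neg _ j hsj hj, C.coef_simple j j hj hj,
      if_pos rfl, if_neg (Ne.symm hij)]
    omega

/-- orthogonal fundamental roots have commuting root elements -/
theorem comm_pos_pos {i j : ℕ} (hi : i < D.rank) (hj : j < D.rank) (hij : i ≠ j)
    (h0 : D.cartan i (D.simple j) = 0) (t u : F) :
    xG C (D.simple i) t * xG C (D.simple j) u = xG C (D.simple j) u * xG C (D.simple i) t := by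
  have hr := ChevalleyRoots.simple_lt C hi
  have hs := ChevalleyRoots.simple_lt C hj
  have h1 : D.simple j ≠ D.simple i := fun h => hij (ChevalleyRoots.simple_inj C hi hj h.symm)
  have h2 : D.simple j ≠ D.neg (D.simple i) := by
    have := C.simple_mem i hi
    have := C.simple_mem j hj
    have := C.even
    rw [C.neg_eq _ hr]
    omega
  refine Subtype.ext (xg_comm_of_nil C hr hs h1 h2 ?_ t u).symm
  apply List.eq_nil_iff_forall_not_mem.mpr
  intro c hc
  obtain ⟨hlt, ha, hb, hco⟩ := ChevalleyRoots.commTerms_mem C hr hs hc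
  have hA : D.cartan i c.1 = 2 * (c.2.2.1 : ℤ) := by
    rw [ChevalleyRoots.cartan_lin' C hi hlt]
    rw [Finset.sum_eq_single i]
    · rw [hco i hi, C.coef_simple i i hi hi, C.coef_simple j i hj hi, if_pos rfl, if_neg hij,
        ChevalleyRoots.cartan_self C hi]
      ring
    · intro k hk hki
      have hk' := Finset.mem_range.mp hk
      rw [hco k hk', C.coef_simple i k hi hk', C.coef_simple j k hj hk', if_neg hki]
      rcases eq_or_ne k j with rfl | hkj
      · rw [h0]; ring
      · rw [if_neg hkj]; ring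
    · intro h; exact absurd (Finset.mem_range.mpr hi) h
  have hw := C.w_lt i c.1 hi hlt
  refine mixed_false C hw hj hi ?_ ?_
  · rw [C.coef_w i c.1 j hi hlt hj, if_neg (Ne.symm hij), hco j hj, C.coef_simple i j hi hj,
      C.coef_simple j j hj hj, if_pos rfl, if_neg (Ne.symm hij)]
    omega
  · rw [C.coef_w i c.1 i hi hlt hi, if_pos rfl, hA, hco i hi, C.coef_simple i i hi hi,
      C.coef_simple j i hj hi, if_pos rfl, if_neg hij]
    omega

/-- if `x_i` commutes with `X_{±j}` then the two nodes are not linked -/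
theorem cartan_zero_of_comm {i j : ℕ} (hi : i < D.rank) (hj : j < D.rank) (hij : i ≠ j)
    (h : ∀ u : F, xG C (D.simple i) 1 * xG C (D.simple j) u = xG C (D.simple j) u * xG C (D.simple i) 1) :
    D.cartan j (D.simple i) = 0 := by
  have hc : Commute (nG C j (1 : F)) (xG C (D.simple i) 1) := by
    refine ((Commute.mul_left ?_ ?_).mul_left ?_)
    · exact (h 1).symm
    · exact (comm_pos_neg C hi hj hij 1 _).symm
    · exact (h 1).symm
  have hr := ChevalleyRoots.simple_lt C hi
  have h1 : xG C (wr D j (D.simple i)) ((C.eta j (D.simple i) : F) * 1) = xG C (D.simple i) 1 := by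
    apply Subtype.ext
    change xg C _ _ = xg C _ _
    rw [← ng_simple_conj C hj hr]
    have := congrArg Subtype.val (hc.eq)
    simp only [Subgroup.coe_mul, coe_nG, coe_xG] at this
    rw [this, mul_inv_cancel_right]
  have h2 := (xG_inj C (C.w_lt j _ hj hr) hr (by simpa using eta_cast_ne C j (D.simple i)) h1).1
  have h3 := C.coef_w j (D.simple i) j hj hr hj
  rw [h2, if_pos rfl] at h3
  omega

/-- `x_p` does not commute with `x_{-p}` -/
theorem not_comm_self {i : ℕ} (hi : i < D.rank)
    (h : xG C (D.simple i) (1 : F) * xG C (D.neg (D.simple i)) (-1) =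
      xG C (D.neg (D.simple i)) (-1) * xG C (D.simple i) 1) : False := by
  have hc : Commute (nG C i (1 : F)) (xG C (D.simple i) 1) := by
    refine ((Commute.mul_left (Commute.refl _) ?_).mul_left (Commute.refl _))
    rw [inv_one]
    exact h.symm
  have hr := ChevalleyRoots.simple_lt C hi
  have h1 : xG C (wr D i (D.simple i)) ((C.eta i (D.simple i) : F) * 1) = xG C (D.simple i) 1 := by
    apply Subtype.ext
    change xg C _ _ = xg C _ _
    rw [← ng_simple_conj C hi hr]
    have := congrArg Subtype.val (hc.eq)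
    simp only [Subgroup.coe_mul, coe_nG, coe_xG] at this
    rw [this, mul_inv_cancel_right]
  have h2 := (xG_inj C (C.w_lt i _ hi hr) hr (by simpa using eta_cast_ne C i (D.simple i)) h1).1
  rw [ChevalleyRoots.w_simple C hi] at h2
  exact ChevalleyRoots.neg_ne C hr h2

/-! ### images of fundamental root subgroups -/

include C in
theorem simple_mem_UG (i : Fin D.rank) (t : F) : xG C (D.simple i) t ∈ UG D F := by
  rw [mem_UG, coe_xG]
  exact ChevalleyUnipotent.xg_mem_U C (C.simple_mem i i.isLt).1 (C.simple_mem i i.isLt).2 t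

include C S in
theorem exists_maps {θ : ↥(D.group F) ≃* ↥(D.group F)} (hθ : Fix θ) :
    ∃ (π : Equiv.Perm (Fin D.rank)) (f g : Fin D.rank → F → F), ∀ (i : Fin D.rank) (t : F),
      θ (xG C (D.simple i) t) = xG C (D.simple (π i)) (f i t) ∧
      θ (xG C (D.neg (D.simple i)) t) = xG C (D.neg (D.simple (π i))) (g i t) := by
  classical
  obtain ⟨π, hπ⟩ := exists_perm C S hθ
  have hg : ∀ (i : Fin D.rank) (t : F), ∃ u, θ (xG C (D.neg (D.simple i)) t) = xG C (D.neg (D.simple (π i))) u :=
    fun i t => VG_inf_Par C S ((hθ.V _).mpr (neg_simple_mem_VG C S i t))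
      ((hπ i _).mpr (neg_simple_mem_Par C S i t))
  obtain ⟨n0, hn0⟩ := exists_long S
  choose τ hτ using fun i : Fin D.rank => long_simple S hn0 i
  have hτinj : Function.Injective τ := fun a b h => by
    have h1 := S.X.img_injective _ ((hτ a).trans (h ▸ (hτ b).symm))
    exact Fin.ext (ChevalleyRoots.simple_inj C a.isLt b.isLt
      (ChevalleyRoots.neg_inj C (S.X.simple_lt a.isLt) (S.X.simple_lt b.isLt) h1))
  let τe : Equiv.Perm (Fin D.rank) :=
    Equiv.ofBijective τ (Finite.injective_iff_bijective.mp hτinj)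
  have hconj : ∀ (i : Fin D.rank) (u : F), ∃ c : F,
      ofN S n0 * xG C (D.neg (D.simple i)) u * (ofN S n0)⁻¹ = xG C (D.simple (τ i)) c := fun i u => by
    obtain ⟨c, -, h1, -⟩ := S.acts_toW n0 (D.neg (D.simple i)) (C.neg_lt _)
    refine ⟨c * u, Subtype.ext ?_⟩
    have := h1 u
    rw [hτ i, sxg C S, sxg C S] at this
    exact this
  have hf : ∀ (i : Fin D.rank) (t : F), ∃ u,
      θ (xG C (D.simple (τ i)) t) = xG C (D.simple (τ (π i))) u := by
    intro i t
    -- the parameter on the left comes from a negative root element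
    obtain ⟨c, hc, h1, -⟩ := S.acts_toW n0 (D.neg (D.simple i)) (C.neg_lt _)
    have hpre : xG C (D.simple (τ i)) t =
        ofN S n0 * xG C (D.neg (D.simple i)) (c⁻¹ * t) * (ofN S n0)⁻¹ := by
      apply Subtype.ext
      have := h1 (c⁻¹ * t)
      rw [hτ i, sxg C S, sxg C S, ← mul_assoc, mul_inv_cancel₀ hc, one_mul] at this
      exact this.symm
    set a := (ofN S n0)⁻¹ * θ (ofN S n0) with ha
    have haU : a ∈ Subgroup.normalizer (UG D F : Set ↥(D.group F)) := by
      rw [Subgroup.mem_normalizer_iff]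
      intro y
      rw [← conj_mem_VG S hn0 (y := a * y * a⁻¹)]
      obtain ⟨y, rfl⟩ := θ.surjective y
      rw [show ofN S n0 * (a * θ y * a⁻¹) * (ofN S n0)⁻¹ = θ (ofN S n0 * y * (ofN S n0)⁻¹) by
        rw [map_mul, map_mul, map_inv, ha]; group]
      rw [hθ.V, conj_mem_VG S hn0, hθ.U]
    have haB : a ∈ BG D F := by rw [← normalizer_UG S]; exact haU
    set z := θ (xG C (D.neg (D.simple i)) (c⁻¹ * t)) with hz
    have hzP : z ∈ Par S (π i) := (hπ i _).mpr (neg_simple_mem_Par C S i _)
    have himg : θ (xG C (D.simple (τ i)) t) = ofN S n0 * (a * z * a⁻¹) * (ofN S n0)⁻¹ := by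
      rw [hpre, map_mul, map_mul, map_inv, ha, hz]; group
    have hV : a * z * a⁻¹ ∈ VG D F := by
      rw [← conj_mem_UG S hn0, ← himg, hθ.U]
      exact simple_mem_UG C (τ i) t
    obtain ⟨v, hv⟩ := VG_inf_Par C S hV
      (mul_mem (mul_mem (BG_le_Par S _ haB) hzP) (inv_mem (BG_le_Par S _ haB)))
    obtain ⟨d, hd⟩ := hconj (π i) v
    exact ⟨d, by rw [himg, hv, hd]⟩
  choose g hgg using hg
  have hρ : ∀ (i : Fin D.rank) (t : F), ∃ u, θ (xG C (D.simple i) t) = xG C (D.simple (τ (π (τe.symm i)))) u := by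
    intro i t
    have h := hf (τe.symm i) t
    rwa [show τ (τe.symm i) = i from τe.apply_symm_apply i] at h
  have heq : ∀ i : Fin D.rank, τ (π (τe.symm i)) = π i := by
    intro i
    by_contra hne
    obtain ⟨u, hu⟩ := hρ i 1
    refine not_comm_self C i.isLt (F := F) (θ.injective ?_)
    rw [map_mul, map_mul, hu, hgg]
    exact comm_pos_neg C (τ (π (τe.symm i))).isLt (π i).isLt (fun h => hne (Fin.ext h)) _ _
  simp only [heq] at hρ
  choose f hff using hρ
  exact ⟨π, f, g, fun i t => ⟨hff i t, hgg i t⟩⟩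

/-! ### rank one -/

include C S in
theorem rank_one {i : Fin D.rank} {a a' b : F} (hb : b ≠ 0)
    (hy : ∀ t, ∃ s, xG C (D.simple i) a * xG C (D.neg (D.simple i)) b * xG C (D.simple i) a' *
      xG C (D.simple i) t * (xG C (D.simple i) a * xG C (D.neg (D.simple i)) b * xG C (D.simple i) a')⁻¹ =
        xG C (D.neg (D.simple i)) s) : a = -b⁻¹ := by
  set p := D.simple i with hp
  set q := D.neg (D.simple i) with hq
  have hpl : p < D.nroots := S.X.simple_lt i.isLt
  by_contra hne
  set a0 := -b⁻¹ with ha0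
  have ha0ne : a0 ≠ 0 := neg_ne_zero.mpr (inv_ne_zero hb)
  have hb0 : -a0⁻¹ = b := by rw [ha0, inv_neg, inv_inv, neg_neg]
  -- `n(t)` maps `X_p` onto `X_{-p}` and `X_{-p}` onto `X_p`
  have hact : ∀ t : F, t ≠ 0 → ∃ c : F, c ≠ 0 ∧
      (∀ s, nG C i t * xG C p s * (nG C i t)⁻¹ = xG C q (c * s)) ∧
      ∀ s, nG C i t * xG C q s * (nG C i t)⁻¹ = xG C p (c⁻¹ * s) := by
    intro t ht
    have hA : S.Acts (S.nn (D.simple i) t) (S.X.C.simple i) := by
      have h := (S.acts_H (S.nn_mul_nn_mem hpl ht one_ne_zero)).mul S ((S.acts_simple i).inv S)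
      have hinv : (S.X.C.simple i)⁻¹ = S.X.C.simple i :=
        inv_eq_of_mul_eq_one_right (S.X.C.toCoxeterSystem.simple_mul_simple_self i)
      rw [hinv, one_mul, mul_assoc, mul_inv_cancel, mul_one] at h
      exact h
    obtain ⟨c, hc, h1, h2⟩ := hA p hpl
    rw [hp, S.X.img_simple i hpl, S.X.reflect_simple i.isLt] at h1 h2
    have hn : S.nn (D.simple i) t = ng C (D.simple i) t := by
      simp only [Sys.nn, nOf, ng, sxg C S]
    refine ⟨c, hc, fun s => Subtype.ext ?_, fun s => Subtype.ext ?_⟩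
    · have := h1 s
      rw [hn, sxg C S, sxg C S] at this
      exact this
    · have := h2 s
      rw [hn, sxg C S, sxg C S, (S.X.root_facts hpl).2.1] at this
      exact this
  set e := a - a0 with he
  have hene : e ≠ 0 := sub_ne_zero.mpr hne
  obtain ⟨c, hc, hn1, -⟩ := hact a0 ha0ne
  have hnorm : ∀ u, ∃ s, xG C p e * xG C q u * (xG C p e)⁻¹ = xG C q s := by
    intro u
    obtain ⟨s, hs⟩ := hy (c⁻¹ * u)
    refine ⟨s, ?_⟩
    rw [← hs]
    have hyd : xG C p a * xG C q b * xG C p a' = xG C p e * nG C i a0 * xG C p (a' - a0) := by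
      have e1 : xG C p a = xG C p e * xG C p a0 := by rw [xG_mul, he, sub_add_cancel]
      have e2 : xG C p a' = xG C p a0 * xG C p (a' - a0) := by rw [xG_mul, add_sub_cancel]
      rw [nG, hb0, e1, e2]
      simp only [mul_assoc]
      rfl
    rw [hyd]
    have h1 := hn1 (c⁻¹ * u)
    rw [← mul_assoc c, mul_inv_cancel₀ hc, one_mul] at h1
    rw [← h1]
    have h2 : xG C p (a' - a0) * xG C p (c⁻¹ * u) * (xG C p (a' - a0))⁻¹ = xG C p (c⁻¹ * u) := by
      rw [xG_inv, xG_mul, xG_mul]; congr 1; ring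
    conv_lhs => rw [← h2]
    group
  obtain ⟨d, hd, -, hn2⟩ := hact e hene
  obtain ⟨s, hs⟩ := hnorm 1
  obtain ⟨s', hs'⟩ := hnorm (-e⁻¹ + s + -(-e⁻¹))
  have h3 : nG C i e * xG C q 1 * (nG C i e)⁻¹ = xG C q s' := by
    rw [← hs', ← xG_mul, ← xG_mul, ← xG_inv C q (-e⁻¹), ← hs, nG]
    group
    rfl
  rw [hn2, mul_one] at h3
  exact ChevalleyRoots.neg_ne C hpl
    (xG_inj C hpl (C.neg_lt _) (inv_ne_zero hd) h3).1.symm

end Cfsg.Agent.ChevAutRoots
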