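import Cfsg.Agent.Lib.ChevalleyCore

/-!
The Chevalley group is generated by the root elements of the fundamental roots and their negatives.
-/

set_option autoImplicit false

namespace Cfsg.Agent.ChevSimpleGen

open Cfsg.Lie Cfsg.Agent.ChevalleyEngine Cfsg.Agent.ChevalleyCert Cfsg.Agent.ChevalleyRoots
open Cfsg.Agent.ChevalleyCore

variable {D : ChevalleyDatum} (C : Cert D) {F : Type*} [Field F]

include C

/-- a subgroup with all `x_{±p_i}(t)` contains every `x_r(t)` -/
theorem xg_mem (K : Subgroup (GL D.Idx F))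
    (hK : ∀ i, i < D.rank → ∀ t : F, xg C (D.simple i) t ∈ K ∧ xg C (D.neg (D.simple i)) t ∈ K) :
    ∀ r, r < D.nroots → ∀ t : F, xg C r t ∈ K := by
  refine root_induction C (P := fun r => ∀ t : F, xg C r t ∈ K) (fun i hi t => (hK i hi t).1) ?_
  intro i r hi hr ih t
  have hn : ng C (D.simple i) (1 : F) ∈ K :=
    mul_mem (mul_mem (hK i hi 1).1 (hK i hi _).2) (hK i hi 1).1
  have h := mul_mem (mul_mem hn (ih ((C.eta i r : F) * t))) (inv_mem hn)
  rwa [ng_simple_conj C hi hr, ← mul_assoc, eta_cast_sq C, one_mul] at h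

/-- two homomorphisms of the group that agree on the `x_{±p_i}(t)` agree everywhere -/
theorem hom_ext {M : Type*} [Monoid M] (f g : ↥(D.group F) →* M)
    (h : ∀ i, i < D.rank → ∀ t : F,
      f ⟨_, xg_mem_group C (D.simple i) t⟩ = g ⟨_, xg_mem_group C (D.simple i) t⟩ ∧
      f ⟨_, xg_mem_group C (D.neg (D.simple i)) t⟩ = g ⟨_, xg_mem_group C (D.neg (D.simple i)) t⟩) :
    f = g := by
  have hle : D.group F ≤ (f.eqLocus g).map (D.group F).subtype := by
    refine (Subgroup.closure_le _).2 ?_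
    rintro y ⟨r, t, hy⟩
    have hy' : y = xg C r.val t := Units.ext (by rw [hy, coe_xg, ChevalleyDatum.x, dif_pos r.isLt])
    rw [hy']
    refine xg_mem C _ (fun i hi s => ⟨?_, ?_⟩) r.val r.isLt t
    · exact ⟨⟨_, xg_mem_group C (D.simple i) s⟩, (h i hi s).1, rfl⟩
    · exact ⟨⟨_, xg_mem_group C (D.neg (D.simple i)) s⟩, (h i hi s).2, rfl⟩
  ext y
  obtain ⟨z, hz, e⟩ := hle y.2
  exact (Subtype.ext (show (z : GL D.Idx F) = (y : GL D.Idx F) from e)) ▸ hz

end Cfsg.Agent.ChevSimpleGen
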