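import Cfsg.Agent.Lib.ChevAutRoots
import Cfsg.Agent.Lib.ChevSimpleGen
import Cfsg.Agent.Lib.ChevFieldAut77
import Cfsg.Agent.S2157

/-!
Diagonal and field automorphisms of a Chevalley group, and the standard form of an automorphism.
-/

set_option autoImplicit false
set_option linter.unusedSimpArgs false
set_option linter.unusedSectionVars false

namespace Cfsg.Agent.ChevAutStd

open Cfsg.Lie Cfsg.Agent.ChevalleyCert Cfsg.Agent.ChevalleyCore Cfsg.Agent.ChevBruhat
open Cfsg.Agent Cfsg.Agent.ChevAutRigid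

variable {D : ChevalleyDatum} {F : Type*} [Field F] (C : Cert D)

theorem eq_xG {g : ↥(D.group F)} {r : ℕ} {t : F}
    (h : ((g : GL D.Idx F) : Matrix D.Idx D.Idx F) = D.x F r t) : g = xG C r t :=
  Subtype.ext (Units.ext (h.trans (coe_xg C r t).symm))

theorem coe_coe_xG (r : ℕ) (t : F) :
    ((xG C r t : GL D.Idx F) : Matrix D.Idx D.Idx F) = D.x F r t := coe_xg C r t

/-- an automorphism of `GL` permuting the root elements gives one of the group -/
theorem exists_restrict (φ : GL D.Idx F ≃* GL D.Idx F)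
    (h1 : ∀ r, r < D.nroots → ∀ t, φ (xg C r t) ∈ D.group F)
    (h2 : ∀ r, r < D.nroots → ∀ t, φ.symm (xg C r t) ∈ D.group F) :
    ∃ α : ↥(D.group F) ≃* ↥(D.group F), ∀ g : ↥(D.group F), (α g : GL D.Idx F) = φ (g : GL D.Idx F) := by
  have hmap : (D.group F).map φ.toMonoidHom = D.group F := by
    apply le_antisymm
    · rw [ChevalleyDatum.group, MonoidHom.map_closure, Subgroup.closure_le]
      rintro _ ⟨g, ⟨⟨r, hr⟩, t, hg'⟩, rfl⟩
      obtain rfl : g = xg C r t := Units.ext (hg'.trans (by simp [ChevalleyDatum.x, hr]))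
      exact h1 r hr t
    · conv_lhs => rw [ChevalleyDatum.group]
      rw [Subgroup.closure_le]
      rintro g ⟨⟨r, hr⟩, t, hg'⟩
      obtain rfl : g = xg C r t := Units.ext (hg'.trans (by simp [ChevalleyDatum.x, hr]))
      exact ⟨φ.symm (xg C r t), h2 r hr t, φ.apply_symm_apply _⟩
  exact ⟨(φ.subgroupMap (D.group F)).trans (MulEquiv.subgroupCongr hmap), fun g => rfl⟩

/-- two automorphisms equal on the fundamental root elements and their negatives are equal -/
theorem aut_ext (C : Cert D) (α β : ↥(D.group F) ≃* ↥(D.group F))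
    (h : ∀ (i : Fin D.rank) (t : F), α (xG C (D.simple i) t) = β (xG C (D.simple i) t) ∧
      α (xG C (D.neg (D.simple i)) t) = β (xG C (D.neg (D.simple i)) t)) : α = β := by
  have := ChevSimpleGen.hom_ext C α.toMonoidHom β.toMonoidHom (fun i hi t => h ⟨i, hi⟩ t)
  exact MulEquiv.ext fun y => DFunLike.congr_fun this y

/-! ### diagonal automorphisms -/

/-- the character with prescribed values on the fundamental roots -/
def chr (c : Fin D.rank → Fˣ) (r : ℕ) : Fˣ := ∏ j : Fin D.rank, c j ^ C.coef r j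

theorem chr_simple (c : Fin D.rank → Fˣ) (i : Fin D.rank) : chr C c (D.simple i) = c i := by
  rw [chr, Finset.prod_eq_single i]
  · rw [C.coef_simple i i i.isLt i.isLt, if_pos rfl, zpow_one]
  · intro j _ hji
    rw [C.coef_simple i j i.isLt j.isLt, if_neg (fun h => hji (Fin.ext h)), zpow_zero]
  · intro h; exact absurd (Finset.mem_univ i) h

theorem chr_neg (c : Fin D.rank → Fˣ) {r : ℕ} (hr : r < D.nroots) :
    chr C c (D.neg r) = (chr C c r)⁻¹ := by
  rw [chr, chr, ← Finset.prod_inv_distrib]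
  exact Finset.prod_congr rfl fun j _ => by rw [C.coef_neg r j hr j.isLt, zpow_neg]

theorem chr_isChar (c : Fin D.rank → Fˣ) : D.IsRootCharacter (chr C c) := by
  refine ⟨fun r hr => chr_neg C c hr, fun r s k hr _ hk => ?_⟩
  obtain ⟨-, h⟩ := ChevalleyRoots.chainRoot_coef C hr le_rfl hk
  rw [chr, chr, chr, ← Finset.prod_mul_distrib]
  refine Finset.prod_congr rfl fun j _ => ?_
  rw [h j j.isLt, zpow_add, Nat.cast_one, one_mul]

/-- the diagonal matrix of a character as an invertible matrix -/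
def dGL (χ : ℕ → Fˣ) : GL D.Idx F where
  val := D.charDiag F χ
  inv := D.charDiag F fun r => (χ r)⁻¹
  val_inv := by
    rw [ChevalleyDatum.charDiag, ChevalleyDatum.charDiag, Matrix.diagonal_mul_diagonal, ← Matrix.diagonal_one]
    congr 1; funext q; rcases q with a | r <;> simp
  inv_val := by
    rw [ChevalleyDatum.charDiag, ChevalleyDatum.charDiag, Matrix.diagonal_mul_diagonal, ← Matrix.diagonal_one]
    congr 1; funext q; rcases q with a | r <;> simp

theorem dGL_conj (hD : D ∈ [chevG2, chevB2, chevD4, chevF4, chevE6, chevE7, chevE8]) {χ : ℕ → Fˣ}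
    (hχ : D.IsRootCharacter χ) {r : ℕ} (hr : r < D.nroots) (t : F) :
    dGL (D := D) χ * xg C r t * (dGL (D := D) χ)⁻¹ = xg C r ((χ r : F) * t) := by
  apply Units.ext
  show D.charDiag F χ * ((xg C r t : GL D.Idx F) : Matrix D.Idx D.Idx F) * D.charDiag F (fun s => (χ s)⁻¹) = _
  rw [coe_xg, coe_xg]
  exact S2157.result D hD χ hχ r hr t

theorem exists_diag (hD : D ∈ [chevG2, chevB2, chevD4, chevF4, chevE6, chevE7, chevE8]) {χ : ℕ → Fˣ}
    (hχ : D.IsRootCharacter χ) :
    ∃ d : ↥(D.group F) ≃* ↥(D.group F), D.IsDiagonalAut d ∧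
      ∀ r, r < D.nroots → ∀ t, d (xG C r t) = xG C r ((χ r : F) * t) := by
  obtain ⟨α, hα⟩ := exists_restrict C (MulAut.conj (dGL (D := D) χ))
    (fun r hr t => by
      rw [MulAut.conj_apply, dGL_conj C hD hχ hr]; exact xg_mem_group C _ _)
    (fun r hr t => by
      rw [MulAut.conj_symm_apply]
      have h := dGL_conj C hD hχ hr ((((χ r)⁻¹ : Fˣ) : F) * t)
      rw [← mul_assoc, ← Units.val_mul, mul_inv_cancel, Units.val_one, one_mul] at h
      rw [← h]
      simpa [mul_assoc] using xg_mem_group C r ((((χ r)⁻¹ : Fˣ) : F) * t))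
  refine ⟨α, ⟨χ, hχ, fun g => ?_⟩, fun r hr t => Subtype.ext ?_⟩
  · rw [hα, MulAut.conj_apply]; rfl
  · rw [hα, MulAut.conj_apply, coe_xG, coe_xG, dGL_conj C hD hχ hr]

/-! ### field automorphisms -/

theorem exists_field (σ : F ≃+* F) :
    ∃ φ : ↥(D.group F) ≃* ↥(D.group F), D.IsFieldAut φ ∧
      ∀ r, r < D.nroots → ∀ t, φ (xG C r t) = xG C r (σ t) := by
  have hx : ∀ r, r < D.nroots → ∀ t, (Units.mapEquiv σ.mapMatrix.toMulEquiv) (xg C r t) = xg C r (σ t) := by
    intro r hr t
    apply Units.ext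
    show ((xg C r t : GL D.Idx F) : Matrix D.Idx D.Idx F).map σ = _
    rw [coe_xg, coe_xg]
    exact ChevFieldAut77.map_x C σ.toRingHom hr t
  obtain ⟨α, hα⟩ := exists_restrict C (Units.mapEquiv σ.mapMatrix.toMulEquiv)
    (fun r hr t => by rw [hx r hr]; exact xg_mem_group C _ _)
    (fun r hr t => by
      have h := hx r hr (σ.symm t)
      rw [σ.apply_symm_apply] at h
      rw [← h, MulEquiv.symm_apply_apply]; exact xg_mem_group C _ _)
  have hv : ∀ r, r < D.nroots → ∀ t, α (xG C r t) = xG C r (σ t) := fun r hr t => by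
    apply Subtype.ext
    rw [hα, coe_xG, coe_xG, hx r hr]
  refine ⟨α, ⟨σ, fun g r t hr hg => ?_⟩, hv⟩
  rw [eq_xG C hg, hv r hr, coe_coe_xG]

/-! ### the standard form -/

/-- `θ` carries the fundamental root elements by a node permutation, scalars and field maps -/
structure Std (θ : ↥(D.group F) ≃* ↥(D.group F)) (π : Equiv.Perm (Fin D.rank))
    (σ : Fin D.rank → F ≃+* F) : Prop where
  pos : ∀ (i : Fin D.rank) (t : F), θ (xG C (D.simple i) t) = xG C (D.simple (π i)) (σ i t)
  neg : ∀ (i : Fin D.rank) (t : F),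
    θ (xG C (D.neg (D.simple i)) t) = xG C (D.neg (D.simple (π i))) (σ i t)

theorem hG_conj {i j : ℕ} (hi : i < D.rank) (hj : j < D.rank) {c : F} (hc : c ≠ 0) (t : F) :
    hG C i c * xG C (D.simple j) t =
      xG C (D.simple j) (c ^ D.cartan i (D.simple j) * t) * hG C i c := by
  apply Subtype.ext
  rw [Subgroup.coe_mul, Subgroup.coe_mul, coe_hG, coe_xG, coe_xG,
    ← ChevalleyRoots.pairing_simple C hi]
  exact hg_conj_xg C (ChevalleyRoots.simple_lt C hi) (ChevalleyRoots.simple_lt C hj) hc t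

section Main

variable [Finite F] (S : Sys D F)

include C S in
theorem exists_std (hD : D ∈ [chevG2, chevB2, chevD4, chevF4, chevE6, chevE7, chevE8])
    {θ : ↥(D.group F) ≃* ↥(D.group F)} (hθ : Fix θ) :
    ∃ (χ : ℕ → Fˣ) (π : Equiv.Perm (Fin D.rank)) (σ : Fin D.rank → F ≃+* F)
      (d θ' : ↥(D.group F) ≃* ↥(D.group F)),
      D.IsRootCharacter χ ∧ D.IsDiagonalAut d ∧
      (∀ r, r < D.nroots → ∀ t, d (xG C r t) = xG C r ((χ r : F) * t)) ∧
      Std C θ' π σ ∧ ∀ y, θ y = d (θ' y) := by
  obtain ⟨π, f, g, hfg⟩ := ChevAutRoots.exists_maps C S hθ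
  have hsl : ∀ i : Fin D.rank, D.simple i < D.nroots := fun i => ChevalleyRoots.simple_lt C i.isLt
  have hfinj : ∀ i, Function.Injective (f i) := fun i t u h =>
    xG_inj' C (hsl i) (θ.injective (by rw [(hfg i t).1, (hfg i u).1, h]))
  have hf0 : ∀ i, f i 0 = 0 := fun i => by
    have h := (hfg i 0).1
    rw [xG_zero, map_one, ← xG_zero C (D.simple (π i))] at h
    exact (xG_inj' C (hsl (π i)) h).symm
  have hf1 : ∀ i, f i 1 ≠ 0 := fun i h => one_ne_zero (hfinj i (h.trans (hf0 i).symm))
  set c : Fin D.rank → Fˣ := fun j => Units.mk0 (f (π.symm j) 1) (hf1 _) with hc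
  obtain ⟨d, hd, hdx⟩ := exists_diag C hD (chr_isChar C c)
  -- the automorphism after removing the scalars
  set θ' := θ.trans d.symm with hθ'
  have key : ∀ i : Fin D.rank, ∀ t : F,
      θ' (xG C (D.simple i) t) = xG C (D.simple (π i)) ((f i 1)⁻¹ * f i t) ∧
      θ' (xG C (D.neg (D.simple i)) t) = xG C (D.neg (D.simple (π i))) (f i 1 * g i t) := by
    intro i t
    constructor
    · rw [hθ', MulEquiv.trans_apply, MulEquiv.symm_apply_eq, (hfg i t).1, hdx _ (hsl _),
        chr_simple, hc]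
      simp only [Equiv.symm_apply_apply, Units.val_mk0]
      rw [← mul_assoc, mul_inv_cancel₀ (hf1 i), one_mul]
    · rw [hθ', MulEquiv.trans_apply, MulEquiv.symm_apply_eq, (hfg i t).2, hdx _ (C.neg_lt _),
        chr_neg C c (hsl _), chr_simple, hc]
      simp only [Equiv.symm_apply_apply, Units.val_inv_eq_inv_val, Units.val_mk0]
      rw [← mul_assoc, inv_mul_cancel₀ (hf1 i), one_mul]
  set f' : Fin D.rank → F → F := fun i t => (f i 1)⁻¹ * f i t with hf'
  set g' : Fin D.rank → F → F := fun i t => f i 1 * g i t with hg'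
  have hadd : ∀ i a b, f' i (a + b) = f' i a + f' i b := fun i a b => by
    refine xG_inj' C (hsl (π i)) ?_
    rw [← (key i _).1, ← xG_mul, ← xG_mul, map_mul, (key i a).1, (key i b).1]
  have h1 : ∀ i, f' i 1 = 1 := fun i => inv_mul_cancel₀ (hf1 i)
  have hinj : ∀ i, Function.Injective (f' i) := fun i t u h =>
    hfinj i (mul_left_cancel₀ (inv_ne_zero (hf1 i)) h)
  have hne : ∀ i t, t ≠ 0 → f' i t ≠ 0 := fun i t ht h => ht (hinj i (h.trans (by
    simp [hf', hf0])))
  have hneg : ∀ i t, f' i (-t) = - f' i t := fun i t => by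
    have h := hadd i t (-t)
    rw [add_neg_cancel] at h
    have h0 : f' i 0 = 0 := by simp [hf', hf0]
    rw [h0] at h
    linear_combination -h
  have hginj : ∀ i, Function.Injective (g' i) := fun i t u h =>
    xG_inj' C (C.neg_lt _) (θ'.injective (by rw [(key i t).2, (key i u).2]; exact congrArg _ h))
  have hg0 : ∀ i, g' i 0 = 0 := fun i => by
    have h := (key i 0).2
    rw [xG_zero, map_one, ← xG_zero C (D.neg (D.simple (π i)))] at h
    exact (xG_inj' C (C.neg_lt _) h).symm
  have hrel : ∀ i t, t ≠ 0 → g' i (-t⁻¹) = -(f' i t)⁻¹ := by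
    intro i t ht
    have hb : g' i (-t⁻¹) ≠ 0 := fun h =>
      neg_ne_zero.mpr (inv_ne_zero ht) (hginj i (h.trans (hg0 i).symm))
    have hr1 := ChevAutRoots.rank_one C S (i := π i) (a := f' i t) (a' := f' i t) hb (fun s => by
      obtain ⟨y, hy⟩ := θ'.surjective (xG C (D.simple (π i)) s)
      obtain ⟨s0, rfl⟩ : ∃ s0, xG C (D.simple i) s0 = y := by
        obtain ⟨s0, hs0⟩ := Finite.surjective_of_injective (hinj i) s
        exact ⟨s0, θ'.injective (by rw [(key i s0).1, hy]; exact congrArg _ hs0)⟩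
      have hi := hsl i
      have hn : ∃ u, nG C i.val t * xG C (D.simple i) s0 * (nG C i.val t)⁻¹ =
          xG C (D.neg (D.simple i)) u := by
        have hA : S.Acts (S.nn (D.simple i) t) (S.X.C.simple i) := by
          have h := (S.acts_H (S.nn_mul_nn_mem hi ht one_ne_zero)).mul S ((S.acts_simple i).inv S)
          have hinv : (S.X.C.simple i)⁻¹ = S.X.C.simple i :=
            inv_eq_of_mul_eq_one_right (S.X.C.toCoxeterSystem.simple_mul_simple_self i)
          rw [hinv, one_mul, mul_assoc, mul_inv_cancel, mul_one] at h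
          exact h
        obtain ⟨e, -, he, -⟩ := hA _ hi
        rw [S.X.img_simple i hi, S.X.reflect_simple i.isLt] at he
        refine ⟨e * s0, Subtype.ext ?_⟩
        have := he s0
        simp only [Sys.nn, nOf, sxg C S] at this
        exact this
      obtain ⟨u, hu⟩ := hn
      refine ⟨g' i u, ?_⟩
      have h2 := congrArg θ' hu
      simp only [nG, map_mul, map_inv, (key i _).1, (key i _).2] at h2
      rw [← hy, (key i s0).1]
      exact h2)
    rw [hr1, inv_neg, inv_inv, neg_neg]
  have hn : ∀ (i : Fin D.rank) t, t ≠ 0 → θ' (nG C i.val t) = nG C (π i).val (f' i t) := by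
    intro i t ht
    simp only [nG, map_mul, (key i _).1, (key i _).2]
    rw [show f i 1 * g i (-t⁻¹) = g' i (-t⁻¹) from rfl, hrel i t ht]
  have hh : ∀ (i : Fin D.rank) t, t ≠ 0 → θ' (hG C i.val t) = hG C (π i).val (f' i t) := by
    intro i t ht
    rw [hG, map_mul, hn i t ht, hn i (-1) (neg_ne_zero.mpr one_ne_zero), hneg, h1]
    rfl
  have hconj : ∀ (i j : Fin D.rank) t u, t ≠ 0 →
      f' j (t ^ D.cartan i (D.simple j) * u) =
        f' i t ^ D.cartan (π i) (D.simple (π j)) * f' j u := by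
    intro i j t u ht
    have h := congrArg θ' (hG_conj C i.isLt j.isLt ht u)
    rw [map_mul, map_mul, hh i t ht, (key j _).1, (key j _).1,
      hG_conj C (π i).isLt (π j).isLt (hne i t ht)] at h
    exact (xG_inj' C (hsl _) (mul_right_cancel h)).symm
  have hsq : ∀ i t u, t ≠ 0 → f' i (t ^ 2 * u) = f' i t ^ 2 * f' i u := by
    intro i t u ht
    have h := hconj i i t u ht
    rw [ChevalleyRoots.cartan_self C i.isLt, ChevalleyRoots.cartan_self C (π i).isLt] at h
    exact_mod_cast h
  refine ⟨chr C c, π, fun i => ChevAutField.toEquiv (f' i) (hadd i) (h1 i) (hsq i) (hinj i), d, θ',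
    chr_isChar C c, hd, hdx, ⟨fun i t => ?_, fun i t => ?_⟩,
    fun y => by rw [hθ', MulEquiv.trans_apply, MulEquiv.apply_symm_apply]⟩
  · rw [ChevAutField.toEquiv_apply]; exact (key i t).1
  · rw [ChevAutField.toEquiv_apply, (key i t).2]
    congr 1
    rcases eq_or_ne t 0 with rfl | ht
    · rw [show f i 1 * g i 0 = g' i 0 from rfl, hg0]; simp [hf', hf0]
    · have h := hrel i (-t⁻¹) (neg_ne_zero.mpr (inv_ne_zero ht))
      rw [inv_neg, inv_inv, neg_neg] at h
      rw [show f i 1 * g i t = g' i t from rfl, h, hneg, inv_neg, neg_neg]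
      have e := ChevAutField.map_mul_of_sq (f' i) (hadd i) (h1 i) (hsq i) t t⁻¹
      rw [mul_inv_cancel₀ ht, h1] at e
      exact inv_eq_of_mul_eq_one_left e.symm

include C in
/-- the standard form forces a diagram symmetry -/
theorem linked {θ : ↥(D.group F) ≃* ↥(D.group F)} {π : Equiv.Perm (Fin D.rank)}
    {σ : Fin D.rank → F ≃+* F} (h : Std C θ π σ) {i j : Fin D.rank} (hij : i ≠ j)
    (h0 : D.cartan i (D.simple j) = 0) : D.cartan (π j) (D.simple (π i)) = 0 := by
  refine ChevAutRoots.cartan_zero_of_comm C (F := F) (π i).isLt (π j).isLt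
    (fun e => hij (π.injective (Fin.ext e))) fun u => ?_
  have e := congrArg θ (ChevAutRoots.comm_pos_pos C i.isLt j.isLt (fun e => hij (Fin.ext e)) h0
    (1 : F) ((σ j).symm u))
  rwa [map_mul, map_mul, h.pos, h.pos, map_one, RingEquiv.apply_symm_apply] at e

include C in
/-- the field maps of linked nodes -/
theorem edge {θ : ↥(D.group F) ≃* ↥(D.group F)} {π : Equiv.Perm (Fin D.rank)}
    {σ : Fin D.rank → F ≃+* F} (h : Std C θ π σ) (i j : Fin D.rank) {k : ℕ}
    (h1 : D.cartan i (D.simple j) = -1) (h2 : D.cartan (π i) (D.simple (π j)) = -(k : ℤ)) (t : F) :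
    σ j t = σ i t ^ k := by
  have hk : k ≠ 0 := by
    rintro rfl
    rcases eq_or_ne i j with rfl | hij
    · rw [ChevalleyRoots.cartan_self C i.isLt] at h1; omega
    have hsym : D.cartan (π j) (D.simple (π i)) = 0 := by
      refine ChevAutRoots.cartan_zero_of_comm C (F := F) (π i).isLt (π j).isLt
        (fun e => hij (π.injective (Fin.ext e))) fun u => ?_
      exact ChevAutRoots.comm_pos_pos C (π i).isLt (π j).isLt
        (fun e => hij (π.injective (Fin.ext e))) (by simpa using h2) 1 u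
    have hz : D.cartan i (D.simple j) = 0 := by
      refine ChevAutRoots.cartan_zero_of_comm C (F := F) j.isLt i.isLt
        (fun e => hij (Fin.ext e).symm) fun u => θ.injective ?_
      rw [map_mul, map_mul, h.pos, h.pos, map_one]
      exact ChevAutRoots.comm_pos_pos C (π j).isLt (π i).isLt
        (fun e => hij (π.injective (Fin.ext e)).symm) hsym 1 _
    omega
  rcases eq_or_ne t 0 with rfl | ht
  · simp [hk]
  have hh : ∀ (i : Fin D.rank) (t : F), θ (hG C i.val t) = hG C (π i).val (σ i t) := fun i t => by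
    simp only [hG, nG, map_mul, h.pos, h.neg, map_neg, map_inv₀, map_one, inv_neg, inv_one, neg_neg]
  have e := congrArg θ (hG_conj C i.isLt j.isLt ht (1 : F))
  rw [map_mul, map_mul, hh, h.pos, h.pos,
    hG_conj C (π i).isLt (π j).isLt (by simpa using ht)] at e
  have e' := xG_inj' C (ChevalleyRoots.simple_lt C (π j).isLt) (mul_right_cancel e)
  rw [h1, h2, map_one, mul_one, mul_one, zpow_neg, zpow_natCast, zpow_neg, zpow_one, map_inv₀] at e'
  exact (inv_injective e').symm

end Main

end Cfsg.Agent.ChevAutStd
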