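import Cfsg.Agent.Lib.ChevAutD4

/-!
The structure of the outer automorphism group of a Chevalley group.
-/

set_option autoImplicit false
set_option linter.unusedSimpArgs false
set_option linter.unusedSectionVars false

namespace Cfsg.Agent.ChevAutStructure

open Cfsg.Lie Cfsg.Agent.ChevalleyCert
open Cfsg.Agent Cfsg.Agent.ChevAutOut
open scoped commutatorElement

variable {D : ChevalleyDatum} {F : Type*} [Field F] [Finite F] (X : Ctx D F)

/-- the quotient map to the outer automorphism group -/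
abbrev q (D : ChevalleyDatum) (F : Type*) [Field F] : MulAut ↥(D.group F) →* Cfsg.Out ↥(D.group F) :=
  QuotientGroup.mk' (Cfsg.Inn ↥(D.group F))

theorem dbar_normal : ((dHom X).range.map (q D F)).Normal := by
  constructor
  rintro _ ⟨_, ⟨a, rfl⟩, rfl⟩ g
  obtain ⟨θ, rfl⟩ := qSt_surjective X g
  obtain ⟨a', ha'⟩ := conj_dHom X θ a
  refine ⟨dHom X a', ⟨a', rfl⟩, ?_⟩
  rw [← ha', map_mul, map_mul, map_inv]
  rfl

theorem dbar_comm : IsMulCommutative ↥((dHom X).range.map (q D F)) := by
  refine ⟨⟨?_⟩⟩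
  rintro ⟨_, _, ⟨a, rfl⟩, rfl⟩ ⟨_, _, ⟨b, rfl⟩, rfl⟩
  apply Subtype.ext
  simp only [Subgroup.coe_mul, ← map_mul, mul_comm a b]

theorem fbar_cyclic : IsCyclic ↥((fHom X).range.map (q D F)) := by
  haveI := ChevAutGalois.isCyclic_ringAut (F := F)
  rw [← MonoidHom.range_comp]
  exact isCyclic_of_surjective _ ((q D F).comp (fHom X)).rangeRestrict_surjective

theorem df_eq : (dHom X).range.map (q D F) ⊔ (fHom X).range.map (q D F) =
    (pHom X).ker.map (qSt D F) := by
  rw [← Subgroup.map_sup, range_sup_eq X, Subgroup.map_map]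
  rfl

theorem df_index : ((pHom X).ker.map (qSt D F)).index = Nat.card ↥(pHom X).range := by
  rw [Subgroup.index_map, sup_eq_left.2 (ker_le X), MonoidHom.range_eq_top.2 (qSt_surjective X),
    Subgroup.index_top, mul_one, Subgroup.index_ker]

theorem df_normal : ((pHom X).ker.map (qSt D F)).Normal :=
  Subgroup.Normal.map inferInstance _ (qSt_surjective X)

theorem not_comm_le {a b : Equiv.Perm (Fin D.rank)} (ha : a ∈ (pHom X).range)
    (hb : b ∈ (pHom X).range) (hab : a * b ≠ b * a) :
    ¬ commutator (Cfsg.Out ↥(D.group F)) ≤ (pHom X).ker.map (qSt D F) := by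
  obtain ⟨θ, rfl⟩ := ha
  obtain ⟨θ', rfl⟩ := hb
  intro hle
  have h1 : ⁅qSt D F θ, qSt D F θ'⁆ ∈ (pHom X).ker.map (qSt D F) := hle (by
    rw [commutator_def]
    exact Subgroup.commutator_mem_commutator (Subgroup.mem_top _) (Subgroup.mem_top _))
  rw [← map_commutatorElement] at h1
  have h2 : ⁅θ, θ'⁆ ∈ ((pHom X).ker.map (qSt D F)).comap (qSt D F) := h1
  rw [Subgroup.comap_map_eq, sup_eq_left.2 (ker_le X), MonoidHom.mem_ker, map_commutatorElement,
    commutatorElement_eq_one_iff_mul_comm] at h2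
  exact hab h2

/-- the three possibilities for the index -/
theorem cases (hD : D ∈ [chevG2, chevB2, chevD4, chevF4, chevE6, chevE7, chevE8]) :
    ((pHom X).ker.map (qSt D F)).index = 1 ∨ ((pHom X).ker.map (qSt D F)).index = 2 ∨
      (((pHom X).ker.map (qSt D F)).index = 6 ∧
        ¬ commutator (Cfsg.Out ↥(D.group F)) ≤ (pHom X).ker.map (qSt D F)) := by
  rw [df_index X]
  have hle := ChevAutSyms.card_range_le X
  have hpos : 0 < Nat.card ↥(pHom X).range := Nat.card_pos
  simp only [List.mem_cons, List.not_mem_nil, or_false] at hD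
  rcases hD with rfl | rfl | rfl | rfl | rfl | rfl | rfl
  · rw [ChevAutSyms.syms_G2] at hle; omega
  · rw [ChevAutSyms.syms_B2] at hle; omega
  · obtain ⟨h6, ha, hb⟩ := ChevAutD4.card_range X
    exact Or.inr (Or.inr ⟨h6, not_comm_le X ha hb ChevAutD4.not_comm⟩)
  · rw [ChevAutSyms.syms_F4] at hle; omega
  · rw [ChevAutSyms.syms_E6] at hle; omega
  · rw [ChevAutSyms.syms_E7] at hle; omega
  · rw [ChevAutSyms.syms_E8] at hle; omega

end Cfsg.Agent.ChevAutStructure
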