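import Cfsg.Agent.Lib.ChevAutSyms

/-!
Outside the special characteristic the two-root-length diagrams have no realised symmetry.
-/

set_option autoImplicit false
set_option linter.unusedSimpArgs false
set_option linter.unusedSectionVars false

namespace Cfsg.Agent.ChevAutTriv

open Cfsg.Lie Cfsg.Agent.ChevalleyCert
open Cfsg.Agent Cfsg.Agent.ChevAutStd Cfsg.Agent.ChevAutExpData Cfsg.Agent.ChevAutOut

variable {D : ChevalleyDatum} {F : Type*} [Field F] [Finite F]

/-- the permutation in standard form is that of the automorphism -/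
theorem card_range_one (X : Ctx D F)
    (h : ∀ (θ : MulAut ↥(D.group F)) (π : Equiv.Perm (Fin D.rank)) (σ : Fin D.rank → F ≃+* F),
      Std X.C θ π σ → π = 1) : Nat.card ↥(pHom X).range = 1 := by
  rw [Subgroup.card_eq_one, MonoidHom.range_eq_bot_iff]
  refine MonoidHom.ext fun θ => ?_
  obtain ⟨χ, π, σ, d, θ', hχ, -, hdx, hstd, hd'⟩ := exists_std X.C X.S X.hD θ.2
  obtain ⟨-, τ, c, hform⟩ := pOf_spec X θ
  rw [MonoidHom.one_apply, ← h θ' π σ hstd]
  refine Equiv.ext fun i => Fin.ext (ChevalleyRoots.simple_inj X.C (Fin.isLt _) (Fin.isLt _) ?_)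
  have e := hform.pos i 1
  rw [hd', hstd.pos, hdx _ (ChevalleyRoots.simple_lt X.C (π i).isLt)] at e
  refine (ChevAutRigid.xG_inj X.C (ChevalleyRoots.simple_lt X.C (Fin.isLt _))
    (ChevalleyRoots.simple_lt X.C (Fin.isLt _)) ?_ e.symm).1
  simp

theorem trivial_G2 (X : Ctx chevG2 F) (p : ℕ) [CharP F p] (hp : p ≠ 3) [Fintype F]
    (hq : 3 ≤ Fintype.card F) : Nat.card ↥(pHom X).range = 1 := by
  refine card_range_one X fun θ π σ h => ?_
  rcases cases_G2 π with e | ⟨e0, e1, -⟩
  · exact Equiv.ext e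
  exfalso
  obtain ⟨c1, c2, -, -⟩ := cart_G2
  have hk := edge X.C h (n2 1) (n2 0) (k := 3) c1 (by rw [e0, e1]; exact_mod_cast c2)
  rcases ChevAutField.char_three_of_cube (σ (n2 1)) (σ (n2 0)) hk with hc | hc
  · exact hp (by rw [← ringChar.eq F p, hc])
  · classical
    have hle : (Finset.univ : Finset F).card ≤ ({0, 1} : Finset F).card :=
      Finset.card_le_card fun t _ => by rcases hc t with rfl | rfl <;> simp
    rw [Finset.card_univ] at hle
    have := Finset.card_le_two (a := (0 : F)) (b := 1)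
    omega

theorem trivial_F4 (X : Ctx chevF4 F) (p : ℕ) [CharP F p] (hp : p ≠ 2) :
    Nat.card ↥(pHom X).range = 1 := by
  refine card_range_one X fun θ π σ h => ?_
  rcases cases_F4 π (fun i j hij h0 => linked X.C h hij h0) with e | ⟨e0, e1, e2, e3, -⟩
  · exact Equiv.ext e
  exfalso
  obtain ⟨c21, c12, -⟩ := cart_F4
  have h21 := edge X.C h (m4 2) (m4 1) (k := 2) c21 (by rw [e2, e1]; exact_mod_cast c12)
  exact hp (by rw [← ringChar.eq F p, ChevAutField.char_two_of_sq (σ (m4 2)) (σ (m4 1)) h21])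

end Cfsg.Agent.ChevAutTriv
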