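import Cfsg.Agent.Lib.ChevRadicalCentralizer
import Cfsg.Agent.Lib.ChevalleySylow

/-!
Borel–Tits for finite Chevalley groups, by the optimal destabilising parameter: among the pairs `(g, v)`, `v` a
dominant real functional on the roots, for which every element of `g⁻¹ Q g` minus one raises the `v`-weight by at
least one, the norm of `v` has a minimum, attained at a single parabolic.
-/

set_option autoImplicit false
set_option linter.unusedSectionVars false

namespace Cfsg.Agent.ChevBorelTits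

open Cfsg.Lie Cfsg.Agent.ChevalleyEngine Cfsg.Agent.ChevalleyCert Cfsg.Agent.ChevalleyRoots
open Cfsg.Agent.ChevalleyCore Cfsg.Agent.ChevalleyExp Cfsg.Agent.ChevalleyTorus Cfsg.Agent.ChevWeyl
open Cfsg.Agent.ChevBruhat Cfsg.Agent.ChevRootCentralizer Cfsg.Agent.ChevalleyUnipotent Cfsg.Agent.ChevalleyAdjoint

/-! ### matrices raising a real weight -/

section Raise

variable {ι : Type*} [Fintype ι] [DecidableEq ι] {F : Type*} [Field F] (w : ι → ℝ)

/-- every non-zero entry raises the weight by at least `d` -/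
def RRaise (d : ℝ) (A : Matrix ι ι F) : Prop := ∀ i j, A i j ≠ 0 → w j + d ≤ w i

theorem rraise_zero (d : ℝ) : RRaise w d (0 : Matrix ι ι F) := fun _ _ h => absurd rfl h

theorem rraise_mono {d e : ℝ} (h : e ≤ d) {A : Matrix ι ι F} (hA : RRaise w d A) : RRaise w e A :=
  fun i j hij => le_trans (by linarith) (hA i j hij)

theorem rraise_add {d : ℝ} {A B : Matrix ι ι F} (hA : RRaise w d A) (hB : RRaise w d B) :
    RRaise w d (A + B) := by
  intro i j h
  by_cases ha : A i j = 0
  · exact hB i j (by simpa [ha] using h)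
  · exact hA i j ha

theorem rraise_smul {d : ℝ} (c : F) {A : Matrix ι ι F} (hA : RRaise w d A) : RRaise w d (c • A) :=
  fun i j h => hA i j fun h0 => h (by simp [h0])

theorem rraise_mul {d e : ℝ} {A B : Matrix ι ι F} (hA : RRaise w d A) (hB : RRaise w e B) :
    RRaise w (d + e) (A * B) := by
  intro i j h
  rw [Matrix.mul_apply] at h
  obtain ⟨k, _, hk⟩ := Finset.exists_ne_zero_of_sum_ne_zero h
  have h1 := hA i k fun h0 => hk (by simp [h0])
  have h2 := hB k j fun h0 => hk (by simp [h0])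
  linarith

theorem rraise_one : RRaise w 0 (1 : Matrix ι ι F) := by
  intro i j h
  by_cases hij : i = j
  · subst hij; simp
  · simp [Matrix.one_apply_ne hij] at h

theorem rraise_sub_one_mul {d : ℝ} (hd : 0 ≤ d) {A B : Matrix ι ι F} (hA : RRaise w d (A - 1))
    (hB : RRaise w d (B - 1)) : RRaise w d (A * B - 1) := by
  rw [show A * B - 1 = (A - 1) * (B - 1) + ((A - 1) + (B - 1)) by noncomm_ring]
  exact rraise_add w (rraise_mono w (by linarith) (rraise_mul w hA hB)) (rraise_add w hA hB)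

/-- the group of matrices `1 +` (raising the weight by at least `d`) -/
def rGroup (d : ℝ) (hd : 0 ≤ d) : Subgroup (GL ι F) where
  carrier := {g | RRaise w d ((g : Matrix ι ι F) - 1) ∧ RRaise w d (((g⁻¹ : GL ι F) : Matrix ι ι F) - 1)}
  one_mem' := by simp [RRaise]
  mul_mem' {g h} hg hh := by
    refine ⟨?_, ?_⟩
    · rw [Units.val_mul]; exact rraise_sub_one_mul w hd hg.1 hh.1
    · rw [mul_inv_rev, Units.val_mul]; exact rraise_sub_one_mul w hd hh.2 hg.2
  inv_mem' {g} hg := ⟨hg.2, by rw [inv_inv]; exact hg.1⟩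

theorem rraise_of_mem {hd : (0 : ℝ) ≤ 0} {g : GL ι F} (hg : g ∈ rGroup w 0 hd) :
    RRaise w 0 (g : Matrix ι ι F) := by
  rw [← sub_add_cancel (g : Matrix ι ι F) 1]
  exact rraise_add w hg.1 (rraise_one w)

theorem rraise_conj {hd : (0 : ℝ) ≤ 0} {p x : GL ι F} (hp : p ∈ rGroup w 0 hd) {d : ℝ}
    (hx : RRaise w d ((x : Matrix ι ι F) - 1)) :
    RRaise w d (((p * x * p⁻¹ : GL ι F) : Matrix ι ι F) - 1) := by
  have e : ((p * x * p⁻¹ : GL ι F) : Matrix ι ι F) - 1 =
      (p : Matrix ι ι F) * ((x : Matrix ι ι F) - 1) * ((p⁻¹ : GL ι F) : Matrix ι ι F) := by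
    rw [mul_sub, sub_mul, mul_one, ← Units.val_mul, ← Units.val_mul p p⁻¹, mul_inv_cancel, Units.val_one]
    simp [mul_assoc]
  rw [e]
  simpa using rraise_mul w (rraise_mul w (rraise_of_mem w hp) hx) (rraise_of_mem w (inv_mem hp))

end Raise

variable {D : ChevalleyDatum} (C : Cert D) {F : Type*} [Field F] (S : Sys D F)

/-- value of a functional on a root -/
noncomputable def val (v : Fin D.rank → ℝ) (r : ℕ) : ℝ := ∑ j : Fin D.rank, (C.coef r j : ℝ) * v j

/-- weights of the basis of the Lie algebra -/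
noncomputable def wv (v : Fin D.rank → ℝ) : D.Idx → ℝ := Sum.elim (fun _ => 0) fun s => val C v s.val

/-- squared norm, invariant under the Weyl group -/
noncomputable def nrm (v : Fin D.rank → ℝ) : ℝ := ∑ r : Fin D.nroots, val C v r.val ^ 2

/-- action of the Weyl group -/
noncomputable def act (w : S.X.W) (v : Fin D.rank → ℝ) : Fin D.rank → ℝ :=
  fun j => val C v (S.X.img w⁻¹ (D.simple j))

/-- non-negative on positive roots -/
def Dominant (v : Fin D.rank → ℝ) : Prop := ∀ j, 0 ≤ v j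

/-- every element of `g⁻¹ Q g` minus one raises the weight by at least one -/
def Cond (Q : Subgroup (GL D.Idx F)) (g : GL D.Idx F) (v : Fin D.rank → ℝ) : Prop :=
  ∀ q ∈ Q, RRaise (wv C v) 1 (((g⁻¹ * q * g : GL D.Idx F) : Matrix D.Idx D.Idx F) - 1)

include C

theorem val_simple (v : Fin D.rank → ℝ) (i : Fin D.rank) : val C v (D.simple i) = v i := by
  rw [val, Finset.sum_eq_single i]
  · rw [C.coef_simple i i i.isLt i.isLt]; simp
  · intro j _ hj
    rw [C.coef_simple i j i.isLt j.isLt]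
    simp [Fin.val_ne_of_ne hj]
  · simp

theorem val_neg (v : Fin D.rank → ℝ) {r : ℕ} (hr : r < D.nroots) : val C v (D.neg r) = - val C v r := by
  rw [val, val, ← Finset.sum_neg_distrib]
  refine Finset.sum_congr rfl fun j _ => ?_
  rw [C.coef_neg r j hr j.isLt]; push_cast; ring

theorem val_pos_nonneg {v : Fin D.rank → ℝ} (hv : Dominant v) {r : ℕ} (hr : D.IsPosRoot r) :
    0 ≤ val C v r := by
  obtain ⟨h1, h2⟩ := (isPos C).1 hr
  exact Finset.sum_nonneg fun j _ => mul_nonneg (by exact_mod_cast C.coef_pos r j h1 h2 j.isLt) (hv j)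

theorem val_neg_nonpos {v : Fin D.rank → ℝ} (hv : Dominant v) {r : ℕ} (hr : D.IsNegRoot r) :
    val C v r ≤ 0 := by
  have h1 := (ChevalleyRoots.isNeg C).1 hr
  have := val_pos_nonneg C hv ((isPos C).2 ⟨(ChevalleyRoots.neg_pos C hr.1).2 h1, C.neg_lt r⟩)
  rw [val_neg C v hr.1] at this
  linarith

theorem val_act (w : S.X.W) (v : Fin D.rank → ℝ) {r : ℕ} (hr : r < D.nroots) :
    val C (act C S w v) r = val C v (S.X.img w⁻¹ r) := by
  simp only [val, act, Finset.mul_sum]
  rw [Finset.sum_comm]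
  refine Finset.sum_congr rfl fun l _ => ?_
  rw [ChevRadicalCentralizer.coef_img C S w⁻¹ hr l l.isLt, Finset.sum_range]
  push_cast
  rw [Finset.sum_mul]
  exact Finset.sum_congr rfl fun k _ => by ring

theorem act_one (v : Fin D.rank → ℝ) : act C S 1 v = v := by
  funext j
  simp [act, val_simple C]

theorem act_mul (w w' : S.X.W) (v : Fin D.rank → ℝ) : act C S (w * w') v = act C S w (act C S w' v) := by
  funext j
  conv_rhs => rw [act, val_act C S w' v (S.X.img_lt _ (simple_lt C j.isLt))]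
  rw [act, mul_inv_rev, S.X.img_mul]

theorem nrm_act (w : S.X.W) (v : Fin D.rank → ℝ) : nrm C (act C S w v) = nrm C v := by
  simp only [nrm]
  rw [← Equiv.sum_comp (S.X.ρ w⁻¹) fun r : Fin D.nroots => val C v r.val ^ 2]
  refine Finset.sum_congr rfl fun r _ => ?_
  rw [val_act C S w v r.isLt]
  simp [Weyl.img, r.isLt]

theorem nrm_eq_zero {v : Fin D.rank → ℝ} (h : nrm C v = 0) : v = 0 := by
  funext j
  have := (Finset.sum_eq_zero_iff_of_nonneg (fun r _ => sq_nonneg _)).1 h ⟨D.simple j, simple_lt C j.isLt⟩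
    (Finset.mem_univ _)
  simpa [val_simple C] using this

theorem sq_le_nrm (v : Fin D.rank → ℝ) (j : Fin D.rank) : v j ^ 2 ≤ nrm C v := by
  have := Finset.single_le_sum (f := fun r : Fin D.nroots => val C v r.val ^ 2) (fun r _ => sq_nonneg _)
    (Finset.mem_univ (⟨D.simple j, simple_lt C j.isLt⟩ : Fin D.nroots))
  rwa [val_simple C] at this

include S in
/-- every functional is conjugate to a dominant one -/
theorem exists_dominant (v : Fin D.rank → ℝ) : ∃ w : S.X.W, Dominant (act C S w v) := by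
  classical
  haveI : Finite S.X.W := Finite.of_injective _ S.X.ρ_injective
  haveI : Fintype S.X.W := Fintype.ofFinite _
  let φ : (Fin D.rank → ℝ) → ℝ := fun u =>
    ∑ r ∈ (Finset.range D.nroots).filter (fun r => D.IsPosRoot r), val C u r
  obtain ⟨w, -, hw⟩ := Finset.exists_max_image (Finset.univ : Finset S.X.W) (fun w => φ (act C S w v))
    ⟨1, Finset.mem_univ _⟩
  refine ⟨w, fun i => ?_⟩
  by_contra hneg
  rw [not_le] at hneg
  have h := hw (S.X.C.simple i * w) (Finset.mem_univ _)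
  set u := act C S w v
  rw [act_mul C S] at h
  have hs : (S.X.C.simple i)⁻¹ = S.X.C.simple i :=
    inv_eq_of_mul_eq_one_right (S.X.C.toCoxeterSystem.simple_mul_simple_self i)
  set P := (Finset.range D.nroots).filter (fun r => D.IsPosRoot r)
  have hp : D.simple i ∈ P := Finset.mem_filter.2
    ⟨Finset.mem_range.2 (simple_lt C i.isLt), S.X.simple_pos i.isLt⟩
  have e : ∀ r ∈ P, val C (act C S (S.X.C.simple i) u) r = val C u (D.reflectRoot i r) := fun r hr => by
    rw [val_act C S _ u (Finset.mem_range.1 (Finset.mem_filter.1 hr).1), hs,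
      S.X.img_simple i (Finset.mem_range.1 (Finset.mem_filter.1 hr).1)]
  have e2 : φ (act C S (S.X.C.simple i) u) = φ u - 2 * u i := by
    have hrest : ∑ r ∈ P.erase (D.simple i), val C u (D.reflectRoot i r) =
        ∑ r ∈ P.erase (D.simple i), val C u r := by
      refine Finset.sum_bij' (fun r _ => D.reflectRoot i r) (fun r _ => D.reflectRoot i r) ?_ ?_ ?_ ?_ ?_
      all_goals intro r hr
      all_goals obtain ⟨hne, hrP⟩ := Finset.mem_erase.1 hr
      all_goals obtain ⟨hrn, hrp⟩ := Finset.mem_filter.1 hrP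
      all_goals have hr' := Finset.mem_range.1 hrn
      all_goals have hinv := ChevalleyRoots.w_invol C i.isLt hr'
      · refine Finset.mem_erase.2 ⟨fun he => ?_, Finset.mem_filter.2
          ⟨Finset.mem_range.2 (C.w_lt i r i.isLt hr'), (S.X.root_facts' hr' i.isLt).2.2.2.2.1 hrp hne⟩⟩
        have : r = D.neg (D.simple i) := by
          rw [← hinv]
          show D.reflectRoot i (D.reflectRoot i r) = _
          rw [he, S.X.reflect_simple i.isLt]
        have hn := (S.X.pos_neg_iff (S.X.simple_lt i.isLt)).1 (this ▸ hrp)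
        exact S.X.not_pos_and_neg (S.X.simple_pos i.isLt) hn
      · refine Finset.mem_erase.2 ⟨fun he => ?_, Finset.mem_filter.2
          ⟨Finset.mem_range.2 (C.w_lt i r i.isLt hr'), (S.X.root_facts' hr' i.isLt).2.2.2.2.1 hrp hne⟩⟩
        have : r = D.neg (D.simple i) := by
          rw [← hinv]
          show D.reflectRoot i (D.reflectRoot i r) = _
          rw [he, S.X.reflect_simple i.isLt]
        have hn := (S.X.pos_neg_iff (S.X.simple_lt i.isLt)).1 (this ▸ hrp)
        exact S.X.not_pos_and_neg (S.X.simple_pos i.isLt) hn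
      · exact hinv
      · exact hinv
      · rfl
    show ∑ r ∈ P, val C (act C S (S.X.C.simple i) u) r = ∑ r ∈ P, val C u r - 2 * u i
    rw [Finset.sum_congr rfl e, ← Finset.add_sum_erase _ _ hp, ← Finset.add_sum_erase P _ hp, hrest,
      S.X.reflect_simple i.isLt, val_neg C u (simple_lt C i.isLt), val_simple C]
    ring
  change φ (act C S (S.X.C.simple i) u) ≤ φ u at h
  linarith

/-! ### weights and the generators -/

theorem wv_xm (v : Fin D.rank → ℝ) {k r : ℕ} (hk : 1 ≤ k) (hr : r < D.nroots) {a b : D.Idx}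
    (h : xm D k r a b ≠ 0) : wv C v a = wv C v b + (k : ℝ) * val C v r := by
  have hwv : ∀ q : D.Idx, wv C v q = ∑ j : Fin D.rank, (cf C q j : ℝ) * v j := by
    rintro (q | q) <;> simp [wv, val, cf]
  rw [hwv, hwv, val, Finset.mul_sum, ← Finset.sum_add_distrib]
  refine Finset.sum_congr rfl fun j _ => ?_
  rw [xm_cf C hk hr h j.isLt]; push_cast; ring

theorem xg_mem_rGroup (v : Fin D.rank → ℝ) {r : ℕ} (hr : r < D.nroots) {d : ℝ} (hd : 0 ≤ d)
    (h : d ≤ val C v r) (t : F) : xg C r t ∈ rGroup (wv C v) d hd := by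
  have one : ∀ u : F, RRaise (wv C v) d (D.x F r u - 1) := by
    intro u
    rw [x_eq_xR C hr, xR, show (1 : Matrix D.Idx D.Idx F) + u • castM F (xm D 1 r) + u ^ 2 • castM F (xm D 2 r) +
      u ^ 3 • castM F (xm D 3 r) - 1 =
        u • castM F (xm D 1 r) + (u ^ 2 • castM F (xm D 2 r) + u ^ 3 • castM F (xm D 3 r)) by abel]
    have hk : ∀ k, 1 ≤ k → RRaise (wv C v) d (castM F (xm D k r)) := by
      intro k hk a b hab
      have h' : xm D k r a b ≠ 0 := fun h0 => hab (by simp [castM, h0])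
      rw [wv_xm C v hk hr h']
      have : (1 : ℝ) ≤ k := by exact_mod_cast hk
      nlinarith
    exact rraise_add _ (rraise_smul _ _ (hk 1 le_rfl))
      (rraise_add _ (rraise_smul _ _ (hk 2 (by norm_num))) (rraise_smul _ _ (hk 3 (by norm_num))))
  exact ⟨by rw [coe_xg]; exact one t, by rw [xg_inv, coe_xg]; exact one (-t)⟩

theorem H_le_rGroup (v : Fin D.rank → ℝ) :
    D.diagonalSubgroup F ≤ rGroup (wv C v) 0 le_rfl := by
  intro g hg
  have one : ∀ y, y ∈ D.diagonalSubgroup F →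
      RRaise (wv C v) 0 ((y : Matrix D.Idx D.Idx F) - 1) := by
    intro y hy i j h
    by_cases hij : i = j
    · subst hij; simp
    · rw [Matrix.sub_apply, H_diag C hy hij, Matrix.one_apply_ne hij, sub_zero] at h
      exact absurd rfl h
  exact ⟨one g hg, one g⁻¹ (inv_mem hg)⟩

theorem B_le_rGroup {v : Fin D.rank → ℝ} (hv : Dominant v) :
    D.borelSubgroup F ≤ rGroup (wv C v) 0 le_rfl := by
  refine sup_le ((Subgroup.closure_le _).2 ?_) (H_le_rGroup C v)
  rintro g ⟨r, t, hr, hg⟩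
  exact (xg_eq_iff C).1 hg ▸ xg_mem_rGroup C v hr.1 le_rfl (val_pos_nonneg C hv hr) t

theorem cond_mul_B {Q : Subgroup (GL D.Idx F)} {g b : GL D.Idx F} {v : Fin D.rank → ℝ} (hv : Dominant v)
    (hb : b ∈ D.borelSubgroup F) (h : Cond C Q g v) : Cond C Q (g * b) v := by
  intro q hq
  have e : (g * b)⁻¹ * q * (g * b) = b⁻¹ * (g⁻¹ * q * g) * b⁻¹⁻¹ := by group
  rw [e]
  exact rraise_conj _ (inv_mem (B_le_rGroup C hv hb)) (h q hq)

/-! ### the monomial subgroup -/

/-- `g` permutes the weights as `w` does -/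
def Perm (g : GL D.Idx F) (w : S.X.W) : Prop :=
  ∀ (v : Fin D.rank → ℝ) a b, (g : Matrix D.Idx D.Idx F) a b ≠ 0 → wv C v b = wv C (act C S w v) a

theorem perm_mul {g g' : GL D.Idx F} {w w' : S.X.W} (h : Perm C S g w) (h' : Perm C S g' w') :
    Perm C S (g * g') (w * w') := by
  intro v a b hab
  rw [Units.val_mul, Matrix.mul_apply] at hab
  obtain ⟨c, _, hc⟩ := Finset.exists_ne_zero_of_sum_ne_zero hab
  rw [h' v c b fun h0 => hc (by simp [h0]), h (act C S w' v) a c (fun h0 => hc (by simp [h0])), act_mul C S]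

theorem perm_H {g : GL D.Idx F} (hg : g ∈ D.diagonalSubgroup F) : Perm C S g 1 := by
  intro v a b hab
  by_cases h : a = b
  · subst h; rw [act_one C S]
  · exact absurd (H_diag C hg h) hab

theorem perm_ng (i : Fin D.rank) : Perm C S (ng C (D.simple i) 1) (S.X.C.simple i) := by
  intro v a b hab
  rw [coe_ng_simple C i.isLt] at hab
  rcases b with j | s
  · rcases a with a | a
    · rfl
    · simp [castM, mn] at hab
  · rcases a with a | a
    · simp [castM, mn] at hab
    · have has : a.val = D.reflectRoot i s.val := by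
        by_contra h
        simp [castM, mn, h] at hab
      have hsinv : (S.X.C.simple i)⁻¹ = S.X.C.simple i :=
        inv_eq_of_mul_eq_one_right (S.X.C.toCoxeterSystem.simple_mul_simple_self i)
      simp only [wv, Sum.elim_inr]
      rw [val_act C S _ v a.isLt, hsinv, S.X.img_simple i a.isLt, has]
      rw [show D.reflectRoot i (D.reflectRoot i s.val) = s.val from ChevalleyRoots.w_invol C i.isLt s.isLt]

theorem perm_N (n : ↥(D.monomialSubgroup F)) :
    Perm C S (n : GL D.Idx F) (S.toW n) ∧ Perm C S (n : GL D.Idx F)⁻¹ (S.toW n)⁻¹ := by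
  have key : ∀ y ∈ S.Ns, ∃ z : ↥(D.monomialSubgroup F), (z : GL D.Idx F) = y ∧
      Perm C S y (S.toW z) ∧ Perm C S y⁻¹ (S.toW z)⁻¹ := by
    intro y hy
    refine S.Ns_induction (p := fun y => ∃ z : ↥(D.monomialSubgroup F), (z : GL D.Idx F) = y ∧
      Perm C S y (S.toW z) ∧ Perm C S y⁻¹ (S.toW z)⁻¹) ?_ ?_ ?_ ?_ hy
    · intro h hh
      refine ⟨⟨h, Sys.H_le_N hh⟩, rfl, ?_⟩
      have hw : S.toW ⟨h, Sys.H_le_N hh⟩ = 1 := S.toW_eq (S.acts_H hh)
      rw [hw, inv_one]
      exact ⟨perm_H C S hh, perm_H C S (inv_mem hh)⟩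
    · intro i
      refine ⟨S.sN i, rfl, ?_⟩
      have e : S.nn (D.simple i.val) 1 = ng C (D.simple i.val) (1 : F) := by
        simp only [Sys.nn, nOf, ng, sysXg C S]
      have hs : (S.X.C.simple i)⁻¹ = S.X.C.simple i :=
        inv_eq_of_mul_eq_one_right (S.X.C.toCoxeterSystem.simple_mul_simple_self i)
      rw [S.toW_sN, hs, e]
      refine ⟨perm_ng C S i, ?_⟩
      have hh : ng C (D.simple i) (1 : F) * ng C (D.simple i) 1 ∈ D.diagonalSubgroup F := by
        rw [← e]; exact S.nn_mul_nn_mem (S.X.simple_lt i.isLt) one_ne_zero one_ne_zero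
      rw [show (ng C (D.simple i) (1 : F))⁻¹ = ng C (D.simple i) 1 *
        (ng C (D.simple i) 1 * ng C (D.simple i) 1)⁻¹ by group, ← mul_one (S.X.C.simple i)]
      exact perm_mul C S (perm_ng C S i) (perm_H C S (inv_mem hh))
    · rintro a b ⟨za, ha, ha1, ha2⟩ ⟨zb, hb, hb1, hb2⟩
      refine ⟨za * zb, by rw [Subgroup.coe_mul, ha, hb], ?_, ?_⟩
      · rw [map_mul]; exact perm_mul C S ha1 hb1
      · rw [map_mul, mul_inv_rev, mul_inv_rev]; exact perm_mul C S hb2 ha2
    · rintro a ⟨za, ha, ha1, ha2⟩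
      refine ⟨za⁻¹, by rw [Subgroup.coe_inv, ha], ?_, ?_⟩
      · rw [map_inv]; exact ha2
      · rw [map_inv, inv_inv, inv_inv]; exact ha1
  obtain ⟨z, hz, h⟩ := key _ (S.mem_Ns n.2)
  obtain rfl : z = n := Subtype.ext hz
  exact h

theorem cond_mul_N {Q : Subgroup (GL D.Idx F)} {g : GL D.Idx F} (n : ↥(D.monomialSubgroup F))
    {v : Fin D.rank → ℝ} (h : Cond C Q g (act C S (S.toW n) v)) : Cond C Q (g * n) v := by
  intro q hq a b hab
  have e : (((g * n : GL D.Idx F)⁻¹ * q * (g * n) : GL D.Idx F) : Matrix D.Idx D.Idx F) - 1 =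
      (((n : GL D.Idx F)⁻¹ : GL D.Idx F) : Matrix D.Idx D.Idx F) *
        (((g⁻¹ * q * g : GL D.Idx F) : Matrix D.Idx D.Idx F) - 1) * ((n : GL D.Idx F) : Matrix D.Idx D.Idx F) := by
    rw [show (g * n : GL D.Idx F)⁻¹ * q * (g * n) = (n : GL D.Idx F)⁻¹ * (g⁻¹ * q * g) * n by group,
      mul_sub, sub_mul, mul_one, ← Units.val_mul, ← Units.val_mul, ← Units.val_mul, inv_mul_cancel, Units.val_one]
  rw [e, Matrix.mul_apply] at hab
  obtain ⟨d, _, hd⟩ := Finset.exists_ne_zero_of_sum_ne_zero hab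
  obtain ⟨hd1, hd2⟩ := mul_ne_zero_iff.1 hd
  rw [Matrix.mul_apply] at hd1
  obtain ⟨c, _, hc⟩ := Finset.exists_ne_zero_of_sum_ne_zero hd1
  obtain ⟨hc1, hc2⟩ := mul_ne_zero_iff.1 hc
  have h1 := (perm_N C S n).1 v d b hd2
  have h2 := (perm_N C S n).2 (act C S (S.toW n) v) a c hc1
  rw [← act_mul C S, inv_mul_cancel, act_one C S] at h2
  rw [h1, ← h2]
  exact h q hq c d hc2

/-- dominant functionals in one orbit are equal, and the stabiliser lies in the parabolic -/
theorem orbit_dominant {v v' : Fin D.rank → ℝ} (hv : Dominant v) (hv' : Dominant v') (w : S.X.W)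
    (hw : act C S w v' = v) :
    v' = v ∧ ∃ m : ↥(D.monomialSubgroup F),
      (m : GL D.Idx F) ∈ D.parabolicSubgroup F {i | ∀ h : i < D.rank, v ⟨i, h⟩ = 0} ∧ S.toW m = w := by
  induction hn : S.X.inv w using Nat.strong_induction_on generalizing w with
  | _ k ih =>
    by_cases h1 : w = 1
    · subst h1
      rw [act_one C S] at hw
      exact ⟨hw, 1, one_mem _, map_one _⟩
    obtain ⟨i, hi⟩ := S.X.exists_descent h1
    have h0 : v i = 0 := by
      refine le_antisymm ?_ (hv i)
      rw [← hw]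
      exact val_neg_nonpos C hv' hi
    have hs : S.X.C.simple i * S.X.C.simple i = 1 := S.X.C.toCoxeterSystem.simple_mul_simple_self i
    have hsv : act C S (S.X.C.simple i) v = v := by
      funext j
      rw [act, inv_eq_of_mul_eq_one_right hs, S.X.img_simple i (simple_lt C j.isLt)]
      conv_rhs => rw [← val_simple C v j]
      refine Finset.sum_congr rfl fun l _ => ?_
      rw [C.coef_w i _ l i.isLt (simple_lt C j.isLt) l.isLt]
      by_cases hl : l = i
      · subst hl; simp [h0]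
      · rw [if_neg (Fin.val_ne_of_ne hl), sub_zero]
    have hlen := S.X.inv_simple_mul_of_neg i hi
    obtain ⟨e, m, hm, hmw⟩ := ih _ (by omega) (S.X.C.simple i * w) (by rw [act_mul C S, hw, hsv]) rfl
    refine ⟨e, S.sN i * m, ?_, ?_⟩
    · rw [Subgroup.coe_mul]
      refine mul_mem (Subgroup.mem_sup_right (Subgroup.subset_closure ⟨i.val, ?_, i.isLt, ?_⟩)) hm
      · intro h; exact h0
      · exact S.coe_nn _ _
    · rw [map_mul, S.toW_sN, hmw, ← mul_assoc, hs, one_mul]

/-- linearity of the weights -/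
theorem wv_mid (v v' : Fin D.rank → ℝ) (a : D.Idx) :
    wv C (fun j => (v j + v' j) / 2) a = (wv C v a + wv C v' a) / 2 := by
  rcases a with a | a
  · simp [wv]
  · simp only [wv, Sum.elim_inr, val]
    rw [← Finset.sum_add_distrib, Finset.sum_div]
    exact Finset.sum_congr rfl fun j _ => by ring

theorem nrm_mid (v v' : Fin D.rank → ℝ) :
    nrm C (fun j => (v j + v' j) / 2) = (nrm C v + nrm C v') / 2 - nrm C (fun j => v j - v' j) / 4 := by
  simp only [nrm, val]
  rw [← Finset.sum_add_distrib, Finset.sum_div, Finset.sum_div, ← Finset.sum_sub_distrib]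
  refine Finset.sum_congr rfl fun r _ => ?_
  have e1 : ∑ j : Fin D.rank, (C.coef r j : ℝ) * ((v j + v' j) / 2) =
      ((∑ j : Fin D.rank, (C.coef r j : ℝ) * v j) + ∑ j : Fin D.rank, (C.coef r j : ℝ) * v' j) / 2 := by
    rw [← Finset.sum_add_distrib, Finset.sum_div]
    exact Finset.sum_congr rfl fun j _ => by ring
  have e2 : ∑ j : Fin D.rank, (C.coef r j : ℝ) * (v j - v' j) =
      (∑ j : Fin D.rank, (C.coef r j : ℝ) * v j) - ∑ j : Fin D.rank, (C.coef r j : ℝ) * v' j := by
    rw [← Finset.sum_sub_distrib]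
    exact Finset.sum_congr rfl fun j _ => by ring
  rw [e1, e2]; ring

include S in
/-- the optimal parameter of a non-trivial subgroup: a proper parabolic, unique up to `P_J` -/
theorem optimal (Q : Subgroup (GL D.Idx F)) (hne : Q ≠ ⊥)
    (hstart : ∃ g ∈ D.group F, ∃ v : Fin D.rank → ℝ, Dominant v ∧ Cond C Q g v) :
    ∃ g ∈ D.group F, ∃ v : Fin D.rank → ℝ, Dominant v ∧ Cond C Q g v ∧
      (∃ i, i < D.rank ∧ i ∉ {i : ℕ | ∀ h : i < D.rank, v ⟨i, h⟩ = 0}) ∧
      (∀ g' ∈ D.group F, Cond C Q g' v →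
        g⁻¹ * g' ∈ D.parabolicSubgroup F {i | ∀ h : i < D.rank, v ⟨i, h⟩ = 0}) ∧
      ∀ h ∈ Subgroup.normalizer (Q : Set (GL D.Idx F)) ⊓ D.group F,
        g⁻¹ * h * g ∈ D.parabolicSubgroup F {i | ∀ h : i < D.rank, v ⟨i, h⟩ = 0} := by
  classical
  -- the minimum
  let K : Set (Fin D.rank → ℝ) := {v | ∃ g ∈ D.group F, Dominant v ∧ Cond C Q g v}
  have hKclosed : IsClosed K := by
    -- a pattern: which entries must be raised
    let pat : GL D.Idx F → Set (D.Idx × D.Idx) := fun g => {ab | ∃ q ∈ Q,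
      (((g⁻¹ * q * g : GL D.Idx F) : Matrix D.Idx D.Idx F) - 1) ab.1 ab.2 ≠ 0}
    have hiff : ∀ g v, Cond C Q g v ↔ ∀ ab ∈ pat g, wv C v ab.2 + 1 ≤ wv C v ab.1 := fun g v =>
      ⟨fun h ab ⟨q, hq, hab⟩ => h q hq _ _ hab, fun h q hq a b hab => h (a, b) ⟨q, hq, hab⟩⟩
    have : K = ⋃ P ∈ pat '' (D.group F : Set (GL D.Idx F)),
        {v | Dominant v ∧ ∀ ab ∈ P, wv C v ab.2 + 1 ≤ wv C v ab.1} := by
      ext v
      simp only [K, Set.mem_iUnion, Set.mem_ofPred_eq, Set.mem_image, SetLike.mem_coe]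
      exact ⟨fun ⟨g, h1, h2, h3⟩ => ⟨pat g, ⟨g, h1, rfl⟩, h2, (hiff g v).1 h3⟩,
        fun ⟨P, ⟨g, h1, e⟩, h2, h3⟩ => ⟨g, h1, h2, (hiff g v).2 (e ▸ h3)⟩⟩
    rw [this]
    refine (Set.toFinite _).isClosed_biUnion fun P _ => IsClosed.inter ?_ ?_
    · show IsClosed {v : Fin D.rank → ℝ | ∀ j, 0 ≤ v j}
      rw [Set.ofPred_forall]
      exact isClosed_iInter fun j => isClosed_le continuous_const (continuous_apply j)
    · show IsClosed {v : Fin D.rank → ℝ | ∀ ab ∈ P, wv C v ab.2 + 1 ≤ wv C v ab.1}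
      simp only [Set.ofPred_forall]
      have hc : ∀ a : D.Idx, Continuous fun v : Fin D.rank → ℝ => wv C v a := by
        rintro (a | a)
        · exact continuous_const
        · show Continuous fun v : Fin D.rank → ℝ => val C v a.val
          exact continuous_finsetSum _ fun j _ => continuous_const.mul (continuous_apply j)
      exact isClosed_iInter fun ab => isClosed_iInter fun _ => isClosed_le ((hc _).add continuous_const) (hc _)
  obtain ⟨g₀, hg₀, v₀, hv₀, hc₀⟩ := hstart
  set M := nrm C v₀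
  have hcN : Continuous (nrm C) := continuous_finsetSum _ fun r _ =>
    (continuous_finsetSum _ fun j _ => continuous_const.mul (continuous_apply j)).pow 2
  have hK' : IsCompact (K ∩ {v | nrm C v ≤ M}) := by
    refine (isCompact_univ_pi fun _ : Fin D.rank => (isCompact_Icc (a := -(M + 1)) (b := M + 1))).of_isClosed_subset
      (hKclosed.inter (isClosed_le hcN continuous_const)) ?_
    rintro v ⟨-, hv⟩ j -
    have h1 := (sq_le_nrm C v j).trans hv
    constructor <;> nlinarith
  obtain ⟨v, ⟨⟨g, hg, hv, hgv⟩, hvM⟩, hmin'⟩ :=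
    hK'.exists_isMinOn ⟨v₀, ⟨g₀, hg₀, hv₀, hc₀⟩, le_refl M⟩ hcN.continuousOn
  have hmin : ∀ u ∈ K, nrm C v ≤ nrm C u := fun u hu => by
    by_cases h : nrm C u ≤ M
    · exact hmin' ⟨hu, h⟩
    · exact le_trans hvM (le_of_lt (not_le.1 h))
  -- uniqueness
  have uniq : ∀ g' ∈ D.group F, Cond C Q g' v →
      g⁻¹ * g' ∈ D.parabolicSubgroup F {i | ∀ h : i < D.rank, v ⟨i, h⟩ = 0} := by
    intro g' hg' hc'
    obtain ⟨b, hb, n, u, hu, e⟩ := S.exists_cell_form (mul_mem (inv_mem hg) hg')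
    have huB := Sys.U_le_B (S.Uw_le_U _ hu)
    have h1 := cond_mul_B C hv hb hgv
    have h2 : Cond C Q (g * b * n) v := by
      have := cond_mul_B C hv (inv_mem huB) hc'
      rwa [show g' * u⁻¹ = g * b * n by rw [eq_inv_mul_iff_mul_eq.1 e.symm |>.symm]; group] at this
    have h3 : Cond C Q (g * b) (act C S (S.toW n) v) := by
      have := cond_mul_N C S n⁻¹ (g := g * b * n) (v := act C S (S.toW n) v)
        (by rwa [map_inv, ← act_mul C S, inv_mul_cancel, act_one C S])
      simpa using this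
    set v1 := act C S (S.toW n) v
    have hmid : Cond C Q (g * b) fun j => (v j + v1 j) / 2 := by
      intro q hq a c hac
      rw [wv_mid C, wv_mid C]
      linarith [h1 q hq a c hac, h3 q hq a c hac]
    obtain ⟨w2, hw2⟩ := exists_dominant C S fun j => (v j + v1 j) / 2
    obtain ⟨n2, hn2⟩ := S.toW_surjective w2
    have hmem : act C S w2 (fun j => (v j + v1 j) / 2) ∈ K := by
      refine ⟨g * b * ((n2⁻¹ : ↥(D.monomialSubgroup F)) : GL D.Idx F), mul_mem (mul_mem hg (S.B_le_group hb))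
        (S.N_le_group (SetLike.coe_mem _)), hw2, cond_mul_N C S n2⁻¹ ?_⟩
      rwa [map_inv, hn2, ← act_mul C S, inv_mul_cancel, act_one C S]
    have h4 := hmin _ hmem
    rw [nrm_act C S, nrm_mid C, nrm_act C S] at h4
    have h5 : nrm C (fun j => v j - v1 j) = 0 :=
      le_antisymm (by linarith) (Finset.sum_nonneg fun r _ => sq_nonneg _)
    have h6 : v1 = v := by
      funext j
      have := congrFun (nrm_eq_zero C h5) j
      simp at this
      linarith
    obtain ⟨-, m, hm, hmw⟩ := orbit_dominant C S hv hv (S.toW n) h6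
    rw [e]
    have hnm : (n : GL D.Idx F) * (m : GL D.Idx F)⁻¹ ∈ D.diagonalSubgroup F :=
      S.toW_ker.le (show n * m⁻¹ ∈ S.toW.ker by simp [MonoidHom.mem_ker, hmw])
    have hn : (n : GL D.Idx F) ∈ D.parabolicSubgroup F {i | ∀ h : i < D.rank, v ⟨i, h⟩ = 0} := by
      have := mul_mem (Subgroup.mem_sup_left (Sys.H_le_B hnm) :
        _ ∈ D.parabolicSubgroup F {i | ∀ h : i < D.rank, v ⟨i, h⟩ = 0}) hm
      rwa [inv_mul_cancel_right] at this
    exact mul_mem (mul_mem (Subgroup.mem_sup_left hb) hn) (Subgroup.mem_sup_left huB)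
  set J : Set ℕ := {i | ∀ h : i < D.rank, v ⟨i, h⟩ = 0}
  have hN : ∀ h ∈ Subgroup.normalizer (Q : Set (GL D.Idx F)) ⊓ D.group F,
      g⁻¹ * h * g ∈ D.parabolicSubgroup F J := by
    rintro h ⟨hh, hhG⟩
    rw [mul_assoc]
    refine uniq _ (mul_mem hhG hg) fun q hq => ?_
    rw [show (h * g)⁻¹ * q * (h * g) = g⁻¹ * (h⁻¹ * q * h) * g by group]
    refine hgv _ ?_
    have := (Subgroup.mem_normalizer_iff.1 (inv_mem hh) q).1 hq
    simpa using this
  have hproper : ∃ i, i < D.rank ∧ i ∉ J := by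
    by_contra hc
    push Not at hc
    obtain ⟨q, hq, hq1⟩ := (Subgroup.ne_bot_iff_exists_ne_one.1 hne).elim fun a ha =>
      (⟨a.1, a.2, fun h => ha (Subtype.ext h)⟩ : ∃ q, q ∈ Q ∧ q ≠ 1)
    have hne1 : g⁻¹ * q * g ≠ 1 := fun h => hq1 (by
      have := congrArg (fun z => g * z * g⁻¹) h
      simpa [mul_assoc] using this)
    obtain ⟨a, b, hab⟩ : ∃ a b, ((((g⁻¹ * q * g : GL D.Idx F)) : Matrix D.Idx D.Idx F) - 1) a b ≠ 0 := by
      by_contra h0
      push Not at h0
      exact hne1 (Units.ext (sub_eq_zero.1 (Matrix.ext h0)))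
    have h := hgv q hq a b hab
    have hz : ∀ c : D.Idx, wv C v c = 0 := by
      rintro (c | c)
      · rfl
      · simp only [wv, Sum.elim_inr, val]
        exact Finset.sum_eq_zero fun j _ => by rw [hc j j.isLt j.isLt, mul_zero]
    rw [hz, hz] at h
    linarith
  exact ⟨g, hg, v, hv, hgv, hproper, uniq, hN⟩

include S in
/-- the Borel–Tits property -/
theorem borel_tits [Fintype F] (p : ℕ) [Fact p.Prime] [CharP F p] (Q : Subgroup (GL D.Idx F))
    (hQG : Q ≤ D.group F) (hQ : IsPGroup p ↥Q) (hne : Q ≠ ⊥) :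
    ∃ g ∈ D.group F, ∃ J : Set ℕ, (∃ i, i < D.rank ∧ i ∉ J) ∧
      Subgroup.normalizer (Q : Set (GL D.Idx F)) ⊓ D.group F ≤
        (D.parabolicSubgroup F J).map (MulAut.conj g).toMonoidHom ∧
      Q ≤ (D.unipotentRadical F J).map (MulAut.conj g).toMonoidHom := by
  classical
  -- a starting point
  obtain ⟨P, hP⟩ := ChevalleySylow.exists_sylow C S p
  obtain ⟨R, hR⟩ := (hQ.of_equiv (Subgroup.subgroupOfEquivOfLe hQG).symm).exists_le_sylow
  obtain ⟨x, hx⟩ := MulAction.exists_smul_eq ↥(D.group F) P R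
  have hstart : ∃ g ∈ D.group F, ∃ v, Dominant v ∧ Cond C Q g v := by
    refine ⟨(x : GL D.Idx F), x.2, fun _ => 1, fun _ => zero_le_one, fun q hq => ?_⟩
    have hU : (x : GL D.Idx F)⁻¹ * q * x ∈ D.posUnipotent F := by
      have h1 : (⟨q, hQG hq⟩ : ↥(D.group F)) ∈ (R : Subgroup ↥(D.group F)) := hR hq
      rw [← hx, Sylow.coe_subgroup_smul, Subgroup.mem_pointwise_smul_iff_inv_smul_mem, hP,
        Subgroup.mem_subgroupOf] at h1
      simpa [MulAut.smul_def, MulAut.conj_inv_apply] using h1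
    have hle : D.posUnipotent F ≤ rGroup (wv C fun _ : Fin D.rank => (1 : ℝ)) 1 zero_le_one := by
      refine (Subgroup.closure_le _).2 ?_
      rintro y ⟨r, t, hr, hy⟩
      obtain ⟨h1, h2⟩ := (isPos C).1 hr
      refine (xg_eq_iff C).1 hy ▸ xg_mem_rGroup C _ h2 zero_le_one ?_ t
      obtain ⟨j, hj⟩ : ∃ j : Fin D.rank, C.coef r j ≠ 0 := by
        by_contra hc
        push Not at hc
        refine key_ne_zero C h2 ?_
        have := key_lin C (r := r) (s := r) (k := r) 0 0 fun l hl => by rw [hc ⟨l, hl⟩]; simp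
        simpa using this
      have hj1 : (1 : ℝ) ≤ (C.coef r j : ℝ) := by
        exact_mod_cast (show (1 : ℤ) ≤ C.coef r j by have := C.coef_pos r j h1 h2 j.isLt; omega)
      refine hj1.trans ?_
      simp only [val, mul_one]
      exact Finset.single_le_sum (f := fun l : Fin D.rank => (C.coef r l : ℝ))
        (fun l _ => by exact_mod_cast C.coef_pos r l h1 h2 l.isLt) (Finset.mem_univ j)
    exact (hle hU).1
  obtain ⟨g, hg, v, hv, hgv, hproper, -, hN⟩ := optimal C S Q hne hstart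
  set J : Set ℕ := {i | ∀ h : i < D.rank, v ⟨i, h⟩ = 0}
  refine ⟨g, hg, J, hproper, fun h hh => ⟨_, hN h hh, by simp [mul_assoc]⟩, fun q hq => ?_⟩
  have hqN : g⁻¹ * q * g ∈ D.parabolicSubgroup F J := hN q ⟨Subgroup.le_normalizer hq, hQG hq⟩
  refine ⟨g⁻¹ * q * g, ?_, by simp [mul_assoc]⟩
  -- the part in the Levi subgroup is trivial
  obtain ⟨δ, hδ, hδ1, hδr⟩ : ∃ δ : ℝ, 0 < δ ∧ δ ≤ 1 ∧
      ∀ r, r < D.nroots → 0 < val C v r → δ ≤ val C v r := by
    set T := insert (1 : ℝ) (((Finset.range D.nroots).image (val C v)).filter fun y => 0 < y)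
    have hT : T.Nonempty := Finset.insert_nonempty _ _
    refine ⟨T.min' hT, ?_, Finset.min'_le _ _ (Finset.mem_insert_self _ _), fun r hr h => Finset.min'_le _ _ ?_⟩
    · rw [Finset.lt_min'_iff]
      intro y hy
      rcases Finset.mem_insert.1 hy with rfl | hy
      · exact one_pos
      · exact (Finset.mem_filter.1 hy).2
    · exact Finset.mem_insert_of_mem (Finset.mem_filter.2 ⟨Finset.mem_image_of_mem _ (Finset.mem_range.2 hr), h⟩)
  have hrad : D.unipotentRadical F J ≤ rGroup (wv C v) δ hδ.le := by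
    refine (Subgroup.closure_le _).2 ?_
    rintro y ⟨r, t, hr, hnot, hy⟩
    refine (xg_eq_iff C).1 hy ▸ xg_mem_rGroup C v hr.1 hδ.le (hδr r hr.1 ?_) t
    obtain ⟨j, hj, hjJ, hcj⟩ := ChevalleyParabolic.exists_coef C hr hnot
    have hpos : 0 < v ⟨j, hj⟩ := lt_of_le_of_ne (hv _) fun h0 => hjJ fun _ => h0.symm
    obtain ⟨h1, h2⟩ := (isPos C).1 hr
    refine lt_of_lt_of_le (mul_pos (show (0 : ℝ) < (C.coef r j : ℝ) by exact_mod_cast hcj) hpos) ?_
    exact Finset.single_le_sum (f := fun l : Fin D.rank => (C.coef r l : ℝ) * v l)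
      (fun l _ => mul_nonneg (by exact_mod_cast C.coef_pos r l h1 h2 l.isLt) (hv l)) (Finset.mem_univ ⟨j, hj⟩)
  have hlevi : D.leviSubgroup F J ≤ rGroup (fun a => - wv C v a) 0 le_rfl := by
    have hneg : (fun a => - wv C v a) = wv C (fun j => - v j) := by
      funext a; rcases a with a | a <;> simp [wv, val]
    rw [hneg]
    refine sup_le (H_le_rGroup C _) ((Subgroup.closure_le _).2 ?_)
    rintro y ⟨r, t, hr, hy⟩
    refine (xg_eq_iff C).1 hy ▸ xg_mem_rGroup C _ hr.1 le_rfl (le_of_eq ?_) t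
    refine (Finset.sum_eq_zero fun j _ => ?_).symm
    by_cases hj : (j : ℕ) ∈ J
    · show (C.coef r j : ℝ) * - v j = 0
      rw [show v j = 0 from hj j.isLt, neg_zero, mul_zero]
    · rw [(ChevalleyParabolic.inRootSub_iff C hr.1).1 hr j j.isLt hj]; simp
  have hnorm : D.leviSubgroup F J ≤ Subgroup.normalizer (D.unipotentRadical F J : Set (GL D.Idx F)) := by
    refine le_trans ?_ (ChevalleyParabolic.parabolic_le_normalizer C J)
    rw [← ChevalleyParabolic.radical_sup_levi C J]
    exact le_sup_right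
  rw [← ChevalleyParabolic.radical_sup_levi C J, ← SetLike.mem_coe,
    Subgroup.coe_mul_of_right_le_normalizer_left _ _ hnorm] at hqN
  obtain ⟨u, hu, l, hl, e⟩ := hqN
  have hl1 : l = 1 := by
    apply Units.ext
    rw [← sub_eq_zero, Units.val_one]
    ext a b
    by_contra hab
    have hup : RRaise (wv C v) δ ((l : Matrix D.Idx D.Idx F) - 1) := by
      have hl' : l = u⁻¹ * (g⁻¹ * q * g) := by
        simp only [← e]; group
      rw [hl', Units.val_mul]
      exact rraise_sub_one_mul _ hδ.le (inv_mem (hrad hu)).1 (rraise_mono _ hδ1 (hgv q hq))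
    have h1 := hup a b hab
    have h2 := (hlevi hl).1 a b hab
    linarith
  simp only [hl1, mul_one] at e
  exact e ▸ hu

end Cfsg.Agent.ChevBorelTits
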