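import Cfsg.Agent.Lib.ChevBruhatN
import Cfsg.Agent.Lib.BNPair
import Cfsg.Prelude.Def_LieExceptional

/-!
The (B,N)-pair of a Chevalley group, the Bruhat normal form and the order formula.
-/

set_option autoImplicit false

namespace Cfsg.Agent.ChevBruhat
open Cfsg.Lie Cfsg.Agent.ChevWeyl Cfsg.Agent.CoxeterTables

variable {D : ChevalleyDatum} {F : Type*} [Field F]

namespace Sys

variable (S : Sys D F)

lemma xg_mem_U {r : ℕ} (hr : D.IsPosRoot r) (t : F) : S.xg r t ∈ D.posUnipotent F :=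
  Subgroup.subset_closure ⟨r, t, hr, S.coe_xg r t⟩

lemma xg_mem_V {r : ℕ} (hr : D.IsNegRoot r) (t : F) : S.xg r t ∈ D.negUnipotent F :=
  Subgroup.subset_closure ⟨r, t, hr, S.coe_xg r t⟩

lemma U_le_B : D.posUnipotent F ≤ D.borelSubgroup F := le_sup_left

lemma H_le_B : D.diagonalSubgroup F ≤ D.borelSubgroup F := le_sup_right

lemma H_le_N : D.diagonalSubgroup F ≤ D.monomialSubgroup F := le_sup_left

lemma upSub_le_U (i : ℕ) : upSub D F i ≤ D.posUnipotent F := by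
  refine (Subgroup.closure_le _).mpr ?_
  rintro g ⟨s, t, hs, -, hg⟩
  exact Subgroup.subset_closure ⟨s, t, hs, hg⟩

lemma xg_mem_upSub {i s : ℕ} (hs : D.IsPosRoot s) (hne : s ≠ D.simple i) (t : F) :
    S.xg s t ∈ upSub D F i :=
  Subgroup.subset_closure ⟨s, t, hs, hne, S.coe_xg s t⟩

omit S in
lemma conj_closure_le {G : Type*} [Group G] {T : Set G} {K : Subgroup G} (g : G)
    (h : ∀ x ∈ T, g * x * g⁻¹ ∈ K) {x : G} (hx : x ∈ Subgroup.closure T) :
    g * x * g⁻¹ ∈ K := by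
  refine Subgroup.closure_induction (p := fun y _ => g * y * g⁻¹ ∈ K) h (by simp) ?_ ?_ hx
  · intro a b _ _ ha hb
    rw [show g * (a * b) * g⁻¹ = (g * a * g⁻¹) * (g * b * g⁻¹) by group]
    exact mul_mem ha hb
  · intro a _ ha
    rw [show g * a⁻¹ * g⁻¹ = (g * a * g⁻¹)⁻¹ by group]
    exact inv_mem ha

include S in
/-- conjugation by `H` preserves `U` -/
lemma H_conj_U {h : GL D.Idx F} (hh : h ∈ D.diagonalSubgroup F) {u : GL D.Idx F}
    (hu : u ∈ D.posUnipotent F) : h * u * h⁻¹ ∈ D.posUnipotent F := by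
  refine conj_closure_le (T := {g : GL D.Idx F | ∃ (r : ℕ) (t : F), D.IsPosRoot r ∧
    (g : Matrix D.Idx D.Idx F) = D.x F r t}) h ?_ hu
  rintro x ⟨r, t, hr, hx⟩
  obtain ⟨c, -, h1, -⟩ := S.acts_H hh r hr.1
  rw [S.eq_xg.mp hx, h1, S.X.img_one]
  exact S.xg_mem_U hr _

include S in
lemma H_conj_upSub {h : GL D.Idx F} (hh : h ∈ D.diagonalSubgroup F) {i : ℕ} {u : GL D.Idx F}
    (hu : u ∈ upSub D F i) : h * u * h⁻¹ ∈ upSub D F i := by
  refine conj_closure_le (T := {g : GL D.Idx F | ∃ (s : ℕ) (t : F), D.IsPosRoot s ∧ s ≠ D.simple i ∧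
    (g : Matrix D.Idx D.Idx F) = D.x F s t}) h ?_ hu
  rintro x ⟨r, t, hr, hne, hx⟩
  obtain ⟨c, -, h1, -⟩ := S.acts_H hh r hr.1
  rw [S.eq_xg.mp hx, h1, S.X.img_one]
  exact S.xg_mem_upSub hr hne _

include S in
lemma H_le_normalizer : D.diagonalSubgroup F ≤
    Subgroup.normalizer (D.posUnipotent F : Set (GL D.Idx F)) := by
  intro h hh
  rw [Subgroup.mem_normalizer_iff]
  refine fun u => ⟨fun hu => S.H_conj_U hh hu, fun hu => ?_⟩
  have := S.H_conj_U (inv_mem hh) hu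
  simpa [mul_assoc] using this

include S in
lemma mem_B_iff {b : GL D.Idx F} : b ∈ D.borelSubgroup F ↔
    ∃ h ∈ D.diagonalSubgroup F, ∃ u ∈ D.posUnipotent F, b = h * u := by
  rw [ChevalleyDatum.borelSubgroup, sup_comm, ← SetLike.mem_coe,
    Subgroup.coe_mul_of_left_le_normalizer_right _ _ S.H_le_normalizer, Set.mem_mul]
  exact ⟨fun ⟨h, hh, u, hu, e⟩ => ⟨h, hh, u, hu, e.symm⟩,
    fun ⟨h, hh, u, hu, e⟩ => ⟨h, hh, u, hu, e.symm⟩⟩

include S in
lemma simple_mul_upSub {i : ℕ} (hi : i < D.rank) {u : GL D.Idx F} (hu : u ∈ upSub D F i) (a : F) :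
    S.xg (D.simple i) a * u * (S.xg (D.simple i) a)⁻¹ ∈ upSub D F i := by
  refine conj_closure_le (T := {g : GL D.Idx F | ∃ (s : ℕ) (t : F), D.IsPosRoot s ∧ s ≠ D.simple i ∧
    (g : Matrix D.Idx D.Idx F) = D.x F s t}) _ ?_ hu
  rintro x ⟨r, t, hr, hne, hx⟩
  rw [S.eq_xg.mp hx]
  exact S.upNorm i hi _ (Or.inl rfl) r hr hne a t

/-- `U = U_p X_p` -/
lemma U_decomp {i : ℕ} (hi : i < D.rank) {u : GL D.Idx F} (hu : u ∈ D.posUnipotent F) :
    ∃ v ∈ upSub D F i, ∃ a, u = v * S.xg (D.simple i) a := by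
  refine Subgroup.closure_induction (p := fun y _ => ∃ v ∈ upSub D F i, ∃ a,
    y = v * S.xg (D.simple i) a) ?_ ⟨1, one_mem _, 0, by simp [S.xg_zero]⟩ ?_ ?_ hu
  · rintro x ⟨r, t, hr, hx⟩
    by_cases hne : r = D.simple i
    · subst hne; exact ⟨1, one_mem _, t, by rw [one_mul]; exact S.eq_xg.mp hx⟩
    · exact ⟨x, Subgroup.subset_closure ⟨r, t, hr, hne, hx⟩, 0, by simp [S.xg_zero]⟩
  · rintro x y - - ⟨v, hv, a, rfl⟩ ⟨v', hv', a', rfl⟩
    refine ⟨v * (S.xg (D.simple i) a * v' * (S.xg (D.simple i) a)⁻¹),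
      mul_mem hv (S.simple_mul_upSub hi hv' a), a + a', ?_⟩
    rw [S.xg_add]; group
  · rintro x - ⟨v, hv, a, rfl⟩
    refine ⟨S.xg (D.simple i) (-a) * v⁻¹ * (S.xg (D.simple i) (-a))⁻¹,
      S.simple_mul_upSub hi (inv_mem hv) _, -a, ?_⟩
    rw [mul_inv_rev, S.xg_inv]; simp [mul_assoc]

lemma B_decomp {i : ℕ} (hi : i < D.rank) {b : GL D.Idx F} (hb : b ∈ D.borelSubgroup F) :
    ∃ h ∈ D.diagonalSubgroup F, ∃ v ∈ upSub D F i, ∃ a,
      b = h * v * S.xg (D.simple i) a := by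
  obtain ⟨h, hh, u, hu, rfl⟩ := S.mem_B_iff.mp hb
  obtain ⟨v, hv, a, rfl⟩ := S.U_decomp hi hu
  exact ⟨h, hh, v, hv, a, by rw [mul_assoc]⟩

lemma acts_nn_simple (i : Fin D.rank) : S.Acts (S.nn (D.simple i) 1) (S.X.C.simple i) :=
  S.acts_simple i

lemma nn_conj_upSub (i : Fin D.rank) {u : GL D.Idx F} (hu : u ∈ upSub D F i) :
    S.nn (D.simple i) 1 * u * (S.nn (D.simple i) 1)⁻¹ ∈ upSub D F i := by
  refine conj_closure_le (T := {g : GL D.Idx F | ∃ (s : ℕ) (t : F), D.IsPosRoot s ∧ s ≠ D.simple i ∧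
    (g : Matrix D.Idx D.Idx F) = D.x F s t}) _ ?_ hu
  rintro x ⟨r, t, hr, hne, hx⟩
  obtain ⟨c, -, h1, -⟩ := S.acts_simple i r hr.1
  rw [S.eq_xg.mp hx, h1, S.X.img_simple i hr.1]
  refine S.xg_mem_upSub ((S.X.root_facts' hr.1 i.isLt).2.2.2.2.1 hr hne) (fun he => ?_) _
  have h2 : S.X.img (S.X.C.simple i) r = S.X.img (S.X.C.simple i) (D.neg (D.simple i)) := by
    rw [S.X.img_simple i hr.1, he, S.X.img_neg _ (S.X.simple_lt i.isLt),
      S.X.img_simple i (S.X.simple_lt i.isLt), S.X.reflect_simple i.isLt,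
      (S.X.root_facts (S.X.simple_lt i.isLt)).2.1]
  have := S.X.img_injective _ h2
  exact S.X.not_pos_and_neg hr (this ▸ (S.X.pos_neg_iff (S.X.root_facts (S.X.simple_lt i.isLt)).1).mp
    (by rw [(S.X.root_facts (S.X.simple_lt i.isLt)).2.1]; exact S.X.simple_pos i.isLt))

lemma nn_eq_H_mul (i : Fin D.rank) {t : F} (ht : t ≠ 0) :
    S.nn (D.simple i) t * S.nn (D.simple i) 1 ∈ D.diagonalSubgroup F :=
  S.nn_mul_nn_mem (S.X.simple_lt i.isLt) ht one_ne_zero

/-- the rule for multiplying double cosets by a fundamental reflection -/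
lemma rule (i : Fin D.rank) (n : ↥(D.monomialSubgroup F)) {b : GL D.Idx F}
    (hb : b ∈ D.borelSubgroup F) :
    (∃ b₁ ∈ D.borelSubgroup F, ∃ b₂ ∈ D.borelSubgroup F,
        S.nn (D.simple i) 1 * b * n = b₁ * (S.nn (D.simple i) 1 * n) * b₂) ∨
      ∃ b₁ ∈ D.borelSubgroup F, ∃ b₂ ∈ D.borelSubgroup F,
        S.nn (D.simple i) 1 * b * n = b₁ * (n : GL D.Idx F) * b₂ := by
  obtain ⟨h, hh, v, hv, a, rfl⟩ := S.B_decomp i.isLt hb
  set N₀ := S.nn (D.simple i) 1 with hN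
  have hp := S.X.simple_lt i.isLt
  have h1 : N₀ * h * N₀⁻¹ * (N₀ * v * N₀⁻¹) ∈ D.borelSubgroup F :=
    mul_mem (H_le_B (S.conj_H (S.acts_simple i) hh)) (U_le_B (upSub_le_U _ (S.nn_conj_upSub i hv)))
  set b₀ := N₀ * h * N₀⁻¹ * (N₀ * v * N₀⁻¹) with hb₀
  obtain ⟨c, hc, hcp, -⟩ := (S.acts_toW n).inv S (D.simple i) hp
  rcases S.X.pos_or_neg (S.X.img_lt (S.toW n)⁻¹ hp) with hpos | hneg
  · refine Or.inl ⟨b₀, h1, S.xg _ (c * a), U_le_B (S.xg_mem_U hpos _), ?_⟩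
    rw [← hcp a, hb₀]; group
  · by_cases ha : a = 0
    · refine Or.inl ⟨b₀, h1, 1, one_mem _, ?_⟩
      rw [ha, S.xg_zero, hb₀]; group
    obtain ⟨e, he, hep, hep'⟩ := S.acts_simple i (D.simple i) hp
    rw [S.X.img_simple i hp, S.X.reflect_simple i.isLt] at hep hep'
    rw [(S.X.root_facts hp).2.1] at hep'
    -- `n_p x_p(a) n_p⁻¹ = x_{-p}(c')`, rewritten through `n_p(t)`
    set t := -(e * a)⁻¹ with ht_def
    have ht : t ≠ 0 := neg_ne_zero.mpr (inv_ne_zero (mul_ne_zero he ha))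
    have key : S.xg (D.neg (D.simple i)) (e * a) =
        S.xg (D.simple i) (-t) * S.nn (D.simple i) t * S.xg (D.simple i) (-t) := by
      have : -t⁻¹ = e * a := by rw [ht_def, inv_neg, inv_inv, neg_neg]
      simp only [nn, nOf, this, ← S.xg_inv]
      group
    obtain ⟨e2, he2, -, hep2⟩ := ((S.acts_simple i).inv S) (D.simple i) hp
    obtain ⟨c2, hc2, -, hcp2⟩ := (S.acts_toW n).inv S (D.simple i) hp
    -- the root `-n⁻¹(p)` is positive
    have hq : D.IsPosRoot (D.neg (S.X.img (S.toW n)⁻¹ (D.simple i))) :=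
      (S.X.pos_neg_iff hneg.1).mpr hneg
    obtain ⟨g, hg1, hg2⟩ : ∃ g, (∀ z, N₀⁻¹ * S.xg (D.simple i) z * N₀ =
        S.xg (D.neg (D.simple i)) (g * z)) ∧ True := by
      obtain ⟨e3, -, he3, -⟩ := ((S.acts_simple i).inv S) (D.simple i) hp
      have hsinv : (S.X.C.simple i)⁻¹ = S.X.C.simple i :=
        inv_eq_of_mul_eq_one_right (S.X.C.toCoxeterSystem.simple_mul_simple_self i)
      rw [hsinv, S.X.img_simple i hp, S.X.reflect_simple i.isLt] at he3
      exact ⟨e3, fun z => by rw [← he3, inv_inv], trivial⟩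
    refine Or.inr ⟨b₀ * S.xg (D.simple i) (-t) * (S.nn (D.simple i) t * N₀),
      mul_mem (mul_mem h1 (U_le_B (S.xg_mem_U (S.X.simple_pos i.isLt) _)))
        (H_le_B (S.nn_eq_H_mul i ht)),
      S.xg (D.neg (S.X.img (S.toW n)⁻¹ (D.simple i))) (c2⁻¹ * (g * -t)),
      U_le_B (S.xg_mem_U hq _), ?_⟩
    rw [← hcp2, ← hg1, hb₀]
    calc N₀ * (h * v * S.xg (D.simple i) a) * (n : GL D.Idx F)
        = N₀ * h * N₀⁻¹ * (N₀ * v * N₀⁻¹) * (N₀ * S.xg (D.simple i) a * N₀⁻¹) *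
            (N₀ * (n : GL D.Idx F)) := by group
      _ = _ := by rw [hep, key]; group

/-- the generators of the group are the root elements -/
lemma group_eq : D.group F = Subgroup.closure {g | ∃ r t, r < D.nroots ∧ g = S.xg r t} := by
  refine congrArg Subgroup.closure ?_
  ext g
  constructor
  · rintro ⟨r, t, hg⟩
    refine ⟨r.val, t, r.isLt, S.eq_xg.mp ?_⟩
    rw [hg, ChevalleyDatum.x, dif_pos r.isLt]
  · rintro ⟨r, t, hr, rfl⟩
    exact ⟨⟨r, hr⟩, t, by rw [S.coe_xg, ChevalleyDatum.x, dif_pos hr]⟩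

lemma xg_mem_group {r : ℕ} (hr : r < D.nroots) (t : F) : S.xg r t ∈ D.group F := by
  rw [S.group_eq]; exact Subgroup.subset_closure ⟨r, t, hr, rfl⟩

lemma nn_mem_group {r : ℕ} (hr : r < D.nroots) (t : F) : S.nn r t ∈ D.group F :=
  mul_mem (mul_mem (S.xg_mem_group hr _) (S.xg_mem_group (S.X.root_facts hr).1 _))
    (S.xg_mem_group hr _)

include S in
lemma U_le_group : D.posUnipotent F ≤ D.group F :=
  (Subgroup.closure_le _).mpr fun g ⟨r, t, hr, hg⟩ => S.eq_xg.mp hg ▸ S.xg_mem_group hr.1 t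

include S in
lemma H_le_group : D.diagonalSubgroup F ≤ D.group F := fun g hg =>
  S.H_induction (p := (· ∈ D.group F))
    (fun r _ hr _ => mul_mem (S.nn_mem_group hr _) (S.nn_mem_group hr _))
    (one_mem _) (fun _ _ => (D.group F).mul_mem) (fun _ => (D.group F).inv_mem) hg

include S in
lemma B_le_group : D.borelSubgroup F ≤ D.group F := sup_le S.U_le_group S.H_le_group

include S in
lemma N_le_group : D.monomialSubgroup F ≤ D.group F := fun g hg =>
  S.Ns_induction (p := (· ∈ D.group F)) (fun h hh => S.H_le_group hh)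
    (fun i => S.nn_mem_group (S.X.simple_lt i.isLt) _) (fun _ _ => (D.group F).mul_mem)
    (fun _ => (D.group F).inv_mem)
    (S.mem_Ns hg)

include S in
lemma BN_sup : D.borelSubgroup F ⊔ D.monomialSubgroup F = D.group F := by
  refine le_antisymm (sup_le S.B_le_group S.N_le_group) ?_
  rw [S.group_eq, Subgroup.closure_le]
  rintro g ⟨r, t, hr, rfl⟩
  obtain ⟨w, i, hwi⟩ := S.exists_root_img hr
  obtain ⟨n, hn, hnw⟩ := S.exists_lift w
  obtain ⟨c, hc, h1, -⟩ := hnw (D.simple i) (S.X.simple_lt i.isLt)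
  have h2 := h1 (c⁻¹ * t)
  rw [hwi, ← mul_assoc, mul_inv_cancel₀ hc, one_mul] at h2
  rw [← h2]
  have hn' := Subgroup.mem_sup_right (S := D.borelSubgroup F) (S.mem_N hn)
  exact mul_mem (mul_mem hn'
    (Subgroup.mem_sup_left (U_le_B (S.xg_mem_U (S.X.simple_pos i.isLt) _)))) (inv_mem hn')

include S in
lemma xg_eq_one {r : ℕ} (hr : r < D.nroots) {t : F} (h : S.xg r t = 1) : t = 0 := by
  by_contra ht
  exact ht (S.xg_inj r r hr hr t 0 ht (h.trans (S.xg_zero r).symm)).2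

lemma xg_neg_notMem_B {r : ℕ} (hr : D.IsNegRoot r) {t : F} (h : S.xg r t ∈ D.borelSubgroup F) :
    t = 0 := by
  refine S.xg_eq_one hr.1 ?_
  have := Subgroup.mem_inf.mpr ⟨h, S.xg_mem_V hr t⟩
  rwa [S.B_inf_V, Subgroup.mem_bot] at this

include S in
lemma B_inf_N : D.borelSubgroup F ⊓ D.monomialSubgroup F = D.diagonalSubgroup F := by
  refine le_antisymm ?_ (le_inf H_le_B H_le_N)
  rintro g ⟨hB, hN⟩
  have h : S.toW ⟨g, hN⟩ = 1 := by
    apply S.X.eq_one_of_inv_eq_zero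
    rw [Weyl.inv, Finset.card_eq_zero, Finset.eq_empty_iff_forall_notMem]
    intro r hr
    rw [S.X.mem_invSet] at hr
    obtain ⟨c, hc, h1, -⟩ := S.acts_toW ⟨g, hN⟩ r hr.1.1
    have hmem : g * S.xg r 1 * g⁻¹ ∈ D.borelSubgroup F :=
      mul_mem (mul_mem hB (U_le_B (S.xg_mem_U hr.1 1))) (inv_mem hB)
    rw [h1] at hmem
    exact hc (by simpa using S.xg_neg_notMem_B hr.2 hmem)
  have := S.toW_ker.le (show (⟨g, hN⟩ : ↥(D.monomialSubgroup F)) ∈ S.toW.ker from h)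
  exact this

include S in
lemma U_inf_N : D.posUnipotent F ⊓ D.monomialSubgroup F = ⊥ := by
  rw [eq_bot_iff, ← S.U_inf_H]
  rintro g ⟨hU, hN⟩
  exact ⟨hU, S.B_inf_N.le ⟨U_le_B hU, hN⟩⟩

lemma toW_eq_iff {n m : ↥(D.monomialSubgroup F)} :
    S.toW n = S.toW m ↔ (n : GL D.Idx F)⁻¹ * m ∈ D.diagonalSubgroup F := by
  rw [← inv_mul_eq_one, ← map_inv, ← map_mul, ← MonoidHom.mem_ker, S.toW_ker]
  rfl

/-! ### the (B,N)-pair -/

/-- the distinguished representatives -/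
def sSet (D : ChevalleyDatum) (F : Type*) [Field F] : Set ↥(D.group F) :=
  {n : ↥(D.group F) | ∃ i < D.rank,
    ((n : GL D.Idx F) : Matrix D.Idx D.Idx F) = D.nMat F (D.simple i) 1}

lemma sSet_eq {s : ↥(D.group F)} (hs : s ∈ sSet D F) :
    ∃ i : Fin D.rank, (s : GL D.Idx F) = S.nn (D.simple i) 1 := by
  obtain ⟨i, hi, he⟩ := hs
  exact ⟨⟨i, hi⟩, Units.ext (he.trans (S.coe_nn _ _).symm)⟩

/-- the (B,N)-pair of the Chevalley group -/
noncomputable def bnPair : Cfsg.BNPair ↥(D.group F) where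
  B := (D.borelSubgroup F).subgroupOf (D.group F)
  N := (D.monomialSubgroup F).subgroupOf (D.group F)
  S := sSet D F
  sup_eq_top := by
    rw [← Subgroup.subgroupOf_sup S.B_le_group S.N_le_group, S.BN_sup, Subgroup.subgroupOf_self]
  conj_mem := by
    rintro n hn t ⟨htB, htN⟩
    have ht : (t : GL D.Idx F) ∈ D.diagonalSubgroup F :=
      S.B_inf_N.le ⟨Subgroup.mem_subgroupOf.mp htB, Subgroup.mem_subgroupOf.mp htN⟩
    exact H_le_B (S.conj_H (S.acts_toW ⟨_, Subgroup.mem_subgroupOf.mp hn⟩) ht)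
  subset := by
    intro s hs
    obtain ⟨i, he⟩ := S.sSet_eq hs
    show (s : GL D.Idx F) ∈ D.monomialSubgroup F
    rw [he]; exact S.nn_mem_N (S.X.simple_lt i.isLt)
  sq_mem := by
    intro s hs
    obtain ⟨i, he⟩ := S.sSet_eq hs
    show (s : GL D.Idx F) * s ∈ D.borelSubgroup F
    rw [he]
    exact H_le_B (S.nn_mul_nn_mem (S.X.simple_lt i.isLt) one_ne_zero one_ne_zero)
  inj := by
    intro s hs s' hs' h
    obtain ⟨i, he⟩ := S.sSet_eq hs
    obtain ⟨j, he'⟩ := S.sSet_eq hs'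
    have h' : ((s : GL D.Idx F))⁻¹ * s' ∈ D.diagonalSubgroup F := by
      refine S.B_inf_N.le (Subgroup.mem_inf.mpr ⟨h, ?_⟩)
      rw [he, he']
      exact (D.monomialSubgroup F).mul_mem ((D.monomialSubgroup F).inv_mem (S.sN i).2) (S.sN j).2
    rw [he, he'] at h'
    have hw : S.X.C.simple i = S.X.C.simple j := by
      rw [← S.toW_sN, ← S.toW_sN, S.toW_eq_iff]; exact h'
    apply Subtype.ext
    rw [he, he']
    have h1 : S.X.img (S.X.C.simple j) (D.simple i) = D.neg (D.simple i) := by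
      rw [← hw, S.X.img_simple i (S.X.simple_lt i.isLt), S.X.reflect_simple i.isLt]
    have hneg : D.IsNegRoot (D.reflectRoot j (D.simple i)) := by
      rw [← S.X.img_simple j (S.X.simple_lt i.isLt), h1,
        ← S.X.pos_neg_iff (S.X.root_facts (S.X.simple_lt i.isLt)).1,
        (S.X.root_facts (S.X.simple_lt i.isLt)).2.1]
      exact S.X.simple_pos i.isLt
    rcases (S.X.neg_reflect j.isLt (S.X.simple_lt i.isLt)).mp hneg with h2 | h2
    · exact absurd h2.1 (S.X.not_pos_and_neg (S.X.simple_pos i.isLt))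
    · rw [h2]
  closure_sup := by
    apply le_antisymm
    · refine sup_le ((Subgroup.closure_le _).mpr ?_) inf_le_right
      intro s hs
      obtain ⟨i, he⟩ := S.sSet_eq hs
      show (s : GL D.Idx F) ∈ D.monomialSubgroup F
      rw [he]; exact S.nn_mem_N (S.X.simple_lt i.isLt)
    · intro g hg
      have key : ∀ y ∈ S.Ns, ∃ hy : y ∈ D.group F, (⟨y, hy⟩ : ↥(D.group F)) ∈
          Subgroup.closure (sSet D F) ⊔
            ((D.borelSubgroup F).subgroupOf (D.group F) ⊓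
              (D.monomialSubgroup F).subgroupOf (D.group F)) := by
        intro y hy
        refine S.Ns_induction (p := fun y => ∃ hy : y ∈ D.group F, (⟨y, hy⟩ : ↥(D.group F)) ∈
          Subgroup.closure (sSet D F) ⊔
            ((D.borelSubgroup F).subgroupOf (D.group F) ⊓
              (D.monomialSubgroup F).subgroupOf (D.group F))) ?_ ?_ ?_ ?_ hy
        · exact fun h hh => ⟨S.H_le_group hh, Subgroup.mem_sup_right ⟨H_le_B hh, H_le_N hh⟩⟩
        · exact fun i => ⟨S.nn_mem_group (S.X.simple_lt i.isLt) _, Subgroup.mem_sup_left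
            (Subgroup.subset_closure ⟨i, i.isLt, S.coe_nn _ _⟩)⟩
        · rintro x z ⟨hx, hx'⟩ ⟨hz, hz'⟩
          exact ⟨mul_mem hx hz, mul_mem hx' hz'⟩
        · rintro x ⟨hx, hx'⟩
          exact ⟨inv_mem hx, inv_mem hx'⟩
      exact (key _ (S.mem_Ns hg)).elim fun _ h => h
  mul_mem_union := by
    intro s hs n hn b hb
    obtain ⟨i, he⟩ := S.sSet_eq hs
    rcases S.rule i ⟨_, Subgroup.mem_subgroupOf.mp hn⟩ (Subgroup.mem_subgroupOf.mp hb) with
      ⟨b₁, h1, b₂, h2, e⟩ | ⟨b₁, h1, b₂, h2, e⟩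
    · refine Or.inl (DoubleCoset.mem_doubleCoset.mpr
        ⟨⟨b₁, S.B_le_group h1⟩, h1, ⟨b₂, S.B_le_group h2⟩, h2, Subtype.ext ?_⟩)
      simpa [he] using e
    · refine Or.inr (DoubleCoset.mem_doubleCoset.mpr
        ⟨⟨b₁, S.B_le_group h1⟩, h1, ⟨b₂, S.B_le_group h2⟩, h2, Subtype.ext ?_⟩)
      simpa [he] using e
  conj_ne := by
    intro s hs heq
    obtain ⟨i, he⟩ := S.sSet_eq hs
    have hp := S.X.simple_pos i.isLt
    have hmem : (⟨S.xg (D.simple i) 1, S.xg_mem_group hp.1 1⟩ : ↥(D.group F)) ∈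
        ((D.borelSubgroup F).subgroupOf (D.group F) : Set ↥(D.group F)) :=
      U_le_B (S.xg_mem_U hp 1)
    have h := Set.mem_image_of_mem (fun b => s * b * s) hmem
    rw [heq] at h
    have h' : (s : GL D.Idx F) * S.xg (D.simple i) 1 * s ∈ D.borelSubgroup F := h
    rw [he] at h'
    obtain ⟨e, he0, hep, -⟩ := S.acts_simple i (D.simple i) hp.1
    rw [S.X.img_simple i hp.1, S.X.reflect_simple i.isLt] at hep
    have h'' := mul_mem h'
      (inv_mem (H_le_B (S.nn_mul_nn_mem hp.1 (one_ne_zero (α := F)) one_ne_zero)))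
    rw [show S.nn (D.simple i) 1 * S.xg (D.simple i) 1 * S.nn (D.simple i) 1 *
      (S.nn (D.simple i) 1 * S.nn (D.simple i) 1)⁻¹ =
      S.nn (D.simple i) 1 * S.xg (D.simple i) 1 * (S.nn (D.simple i) 1)⁻¹ by group, hep] at h''
    have hneg : D.IsNegRoot (D.neg (D.simple i)) := by
      rw [← S.X.pos_neg_iff (S.X.root_facts hp.1).1, (S.X.root_facts hp.1).2.1]; exact hp
    exact he0 (by simpa using S.xg_neg_notMem_B hneg h'')

/-! ### the Bruhat normal form -/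

/-- `U_w`: generated by the positive root subgroups that `w` makes negative -/
def Uw (w : S.X.W) : Subgroup (GL D.Idx F) :=
  Subgroup.closure {g | ∃ r t, r ∈ S.X.invSet w ∧ g = S.xg r t}

lemma Uw_le_U (w : S.X.W) : S.Uw w ≤ D.posUnipotent F :=
  (Subgroup.closure_le _).mpr fun _ ⟨_, t, hr, hg⟩ => hg ▸ S.xg_mem_U (S.X.mem_invSet.mp hr).1 t

lemma conj_Uw_mem_V (n : ↥(D.monomialSubgroup F)) {u : GL D.Idx F} (hu : u ∈ S.Uw (S.toW n)) :
    (n : GL D.Idx F) * u * (n : GL D.Idx F)⁻¹ ∈ D.negUnipotent F := by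
  refine conj_closure_le (T := {g : GL D.Idx F | ∃ r t, r ∈ S.X.invSet (S.toW n) ∧ g = S.xg r t}) _ ?_ hu
  rintro x ⟨r, t, hr, rfl⟩
  rw [S.X.mem_invSet] at hr
  obtain ⟨c, -, h1, -⟩ := S.acts_toW n r hr.1.1
  rw [h1]
  exact S.xg_mem_V hr.2 _

lemma form_unique (n : ↥(D.monomialSubgroup F)) {b b' u u' : GL D.Idx F}
    (hb : b ∈ D.borelSubgroup F) (hb' : b' ∈ D.borelSubgroup F)
    (hu : u ∈ S.Uw (S.toW n)) (hu' : u' ∈ S.Uw (S.toW n))
    (h : b * n * u = b' * n * u') : b = b' ∧ u = u' := by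
  have h1 : (n : GL D.Idx F) * (u * u'⁻¹) * (n : GL D.Idx F)⁻¹ = b⁻¹ * b' := by
    have : (n : GL D.Idx F) * (u * u'⁻¹) * (n : GL D.Idx F)⁻¹ =
        b⁻¹ * (b * n * u) * u'⁻¹ * (n : GL D.Idx F)⁻¹ := by group
    rw [this, h]; group
  have h2 : b⁻¹ * b' = 1 := by
    have := Subgroup.mem_inf.mpr
      ⟨mul_mem (inv_mem hb) hb', h1 ▸ S.conj_Uw_mem_V n (mul_mem hu (inv_mem hu'))⟩
    rwa [S.B_inf_V, Subgroup.mem_bot] at this
  obtain rfl := inv_mul_eq_one.mp h2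
  exact ⟨rfl, mul_left_cancel h⟩

lemma invSet_step (i : Fin D.rank) {w : S.X.W} (h : D.IsNegRoot (S.X.img w⁻¹ (D.simple i))) :
    S.X.inv (S.X.C.simple i * w) + 1 = S.X.inv w ∧
    D.IsPosRoot (S.X.img (S.X.C.simple i * w)⁻¹ (D.simple i)) ∧
    S.X.img (S.X.C.simple i * w)⁻¹ (D.simple i) ∈ S.X.invSet w ∧
    S.X.invSet (S.X.C.simple i * w) ⊆ S.X.invSet w := by
  have hp := S.X.simple_lt i.isLt
  have hs : S.X.C.simple i * S.X.C.simple i = 1 := S.X.C.toCoxeterSystem.simple_mul_simple_self i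
  have hpos : D.IsPosRoot (S.X.img (S.X.C.simple i * w)⁻¹ (D.simple i)) := by
    rw [mul_inv_rev, S.X.img_mul, (inv_eq_of_mul_eq_one_right hs : (S.X.C.simple i)⁻¹ = _),
      S.X.img_simple i hp, S.X.reflect_simple i.isLt, S.X.img_neg _ hp, S.X.pos_neg_iff h.1]
    exact h
  refine ⟨S.X.inv_simple_mul_of_neg i h, hpos, ?_, ?_⟩
  · rw [S.X.mem_invSet]
    refine ⟨hpos, ?_⟩
    set y := S.X.img (S.X.C.simple i * w)⁻¹ (D.simple i) with hy
    have hw : S.X.img w y = D.reflectRoot i (S.X.img (S.X.C.simple i * w) y) := by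
      clear_value y
      rw [← S.X.img_simple i (S.X.img_lt _ hpos.1), ← S.X.img_mul, ← mul_assoc, hs, one_mul]
    rw [hw, hy, S.X.img_img_inv, S.X.neg_reflect i.isLt hp]
    exact Or.inr rfl
  · intro r hr
    rw [S.X.mem_invSet] at hr ⊢
    refine ⟨hr.1, ?_⟩
    have hlt := S.X.img_lt (S.X.C.simple i * w) hr.1.1
    have hw : S.X.img w r = D.reflectRoot i (S.X.img (S.X.C.simple i * w) r) := by
      rw [← S.X.img_simple i hlt, ← S.X.img_mul, ← mul_assoc, hs, one_mul]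
    rw [hw, S.X.neg_reflect i.isLt hlt]
    refine Or.inl ⟨hr.2, fun he => ?_⟩
    have h3 : S.X.img (S.X.C.simple i * w)⁻¹ (D.neg (D.simple i)) = r := by
      rw [← he, S.X.img_inv_img]
    rw [S.X.img_neg _ hp] at h3
    exact S.X.not_pos_and_neg hpos ((S.X.pos_neg_iff hpos.1).mp (h3 ▸ hr.1))

lemma exists_form (n : ↥(D.monomialSubgroup F)) {b : GL D.Idx F} (hb : b ∈ D.borelSubgroup F) :
    ∃ b' ∈ D.borelSubgroup F, ∃ u ∈ S.Uw (S.toW n),
      (n : GL D.Idx F) * b = b' * n * u := by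
  suffices h : ∀ k, ∀ n : ↥(D.monomialSubgroup F), S.X.inv (S.toW n) = k →
      ∀ b ∈ D.borelSubgroup F, ∃ b' ∈ D.borelSubgroup F, ∃ u ∈ S.Uw (S.toW n),
        (n : GL D.Idx F) * b = b' * n * u from h _ n rfl b hb
  intro k
  induction k using Nat.strong_induction_on with
  | _ k ih =>
    intro n hk b hb
    by_cases h1 : S.toW n = 1
    · have hn : (n : GL D.Idx F) ∈ D.borelSubgroup F := H_le_B (S.toW_ker.le h1)
      exact ⟨n * b * (n : GL D.Idx F)⁻¹, mul_mem (mul_mem hn hb) (inv_mem hn), 1, one_mem _,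
        by group⟩
    obtain ⟨i, hi⟩ := S.X.exists_descent h1
    obtain ⟨hinv, hpos, hmem, hsub⟩ := S.invSet_step i hi
    set n' := (S.sN i)⁻¹ * n with hn'
    have hsinv : (S.X.C.simple i)⁻¹ = S.X.C.simple i :=
      inv_eq_of_mul_eq_one_right (S.X.C.toCoxeterSystem.simple_mul_simple_self i)
    have hw' : S.toW n' = S.X.C.simple i * S.toW n := by
      rw [hn', map_mul, map_inv, S.toW_sN, hsinv]
    obtain ⟨b', hb', u, hu, e⟩ :=
      ih (S.X.inv (S.X.C.simple i * S.toW n)) (by omega) n' (by rw [hw']) b hb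
    obtain ⟨h, hh, v, hv, a, rfl⟩ := S.B_decomp i.isLt hb'
    obtain ⟨c, hc, hcp, -⟩ := (S.acts_toW n').inv S (D.simple i) (S.X.simple_lt i.isLt)
    set N₀ := S.nn (D.simple i) 1
    have hN₀ : (n : GL D.Idx F) = N₀ * n' := by simp [n', sN, N₀]
    refine ⟨N₀ * h * N₀⁻¹ * (N₀ * v * N₀⁻¹),
      mul_mem (H_le_B (S.conj_H (S.acts_simple i) hh))
        (U_le_B (upSub_le_U _ (S.nn_conj_upSub i hv))),
      S.xg (S.X.img (S.toW n')⁻¹ (D.simple i)) (c * a) * u, mul_mem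
        (Subgroup.subset_closure ⟨_, _, hw' ▸ hmem, rfl⟩) ?_, ?_⟩
    · refine (Subgroup.closure_mono ?_) hu
      rintro g ⟨r, t, hr, rfl⟩
      exact ⟨r, t, hsub (hw' ▸ hr), rfl⟩
    · rw [← hcp a, hN₀, mul_assoc N₀ (n' : GL D.Idx F) b, e]
      group

/-- the homomorphism from the group to the cells: existence -/
lemma exists_cell_form {g : GL D.Idx F} (hg : g ∈ D.group F) :
    ∃ b ∈ D.borelSubgroup F, ∃ n : ↥(D.monomialSubgroup F), ∃ u ∈ S.Uw (S.toW n),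
      g = b * n * u := by
  obtain ⟨w, hw⟩ := Cfsg.Agent.BNPairLib.exists_cell S.bnPair ⟨g, hg⟩
  obtain ⟨n, rfl⟩ := Cfsg.Agent.BNPairLib.π_surj S.bnPair w
  rw [Cfsg.Agent.BNPairLib.cell_π, DoubleCoset.mem_doubleCoset] at hw
  obtain ⟨x, hx, y, hy, e⟩ := hw
  have e' : g = (x : GL D.Idx F) * ((n : ↥(D.group F)) : GL D.Idx F) * y := congrArg Subtype.val e
  obtain ⟨b', hb', u, hu, e''⟩ :=
    S.exists_form ⟨_, Subgroup.mem_subgroupOf.mp n.2⟩ (Subgroup.mem_subgroupOf.mp hy)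
  refine ⟨x * b', mul_mem (Subgroup.mem_subgroupOf.mp hx) hb', _, u, hu, ?_⟩
  rw [e', mul_assoc, e'']
  simp [mul_assoc]

lemma toW_unique {b b' u u' : GL D.Idx F} {n n' : ↥(D.monomialSubgroup F)}
    (hb : b ∈ D.borelSubgroup F) (hb' : b' ∈ D.borelSubgroup F)
    (hu : u ∈ D.borelSubgroup F) (hu' : u' ∈ D.borelSubgroup F)
    (h : b * n * u = b' * n' * u') : S.toW n = S.toW n' := by
  let mk : ↥(D.monomialSubgroup F) → ↥S.bnPair.N := fun m => ⟨⟨m, S.N_le_group m.2⟩, m.2⟩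
  let mkB : ∀ x : GL D.Idx F, x ∈ D.borelSubgroup F → ↥(D.group F) :=
    fun x hx => ⟨x, S.B_le_group hx⟩
  have hcell : ∀ (m : ↥(D.monomialSubgroup F)) (x y : GL D.Idx F)
      (hx : x ∈ D.borelSubgroup F) (hy : y ∈ D.borelSubgroup F),
      mkB x hx * (mk m : ↥(D.group F)) * mkB y hy ∈
        Cfsg.Agent.BNPairLib.cell S.bnPair (Cfsg.Agent.BNPairLib.π S.bnPair (mk m)) := by
    intro m x y hx hy
    rw [Cfsg.Agent.BNPairLib.cell_π, DoubleCoset.mem_doubleCoset]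
    exact ⟨_, hx, _, hy, rfl⟩
  have e : mkB b hb * (mk n : ↥(D.group F)) * mkB u hu =
      mkB b' hb' * (mk n' : ↥(D.group F)) * mkB u' hu' := Subtype.ext h
  have h1 := Cfsg.Agent.BNPairLib.cell_unique S.bnPair (hcell n b u hb hu)
    (e ▸ hcell n' b' u' hb' hu')
  rw [Cfsg.Agent.BNPairLib.π_eq] at h1
  rw [S.toW_eq_iff]
  exact S.B_inf_N.le (Subgroup.mem_inf.mpr
    ⟨h1, (D.monomialSubgroup F).mul_mem ((D.monomialSubgroup F).inv_mem n.2) n'.2⟩)

lemma card_Uw (w : S.X.W) : Nat.card ↥(S.Uw w) = Nat.card F ^ S.X.inv w := by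
  suffices h : ∀ k, ∀ w : S.X.W, S.X.inv w = k → Nat.card ↥(S.Uw w) = Nat.card F ^ k from h _ w rfl
  intro k
  induction k with
  | zero =>
    intro w hw
    have : S.Uw w = ⊥ := by
      rw [Uw, Subgroup.closure_eq_bot_iff]
      rintro g ⟨r, t, hr, -⟩
      have := Finset.card_eq_zero.mp hw
      exact absurd hr (by rw [show S.X.invSet w = ∅ from this]; simp)
    rw [this]; simp
  | succ k ih =>
    intro w hw
    have h1 : w ≠ 1 := by
      rintro rfl
      rw [S.X.inv_eq_zero_iff.mpr rfl] at hw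
      omega
    obtain ⟨i, hi⟩ := S.X.exists_descent h1
    obtain ⟨hinv, hpos, hmem, hsub⟩ := S.invSet_step i hi
    set w' := S.X.C.simple i * w with hw'
    set r := S.X.img w'⁻¹ (D.simple i) with hr_def
    have hsub' : S.Uw w' ≤ S.Uw w := by
      refine Subgroup.closure_mono ?_
      rintro g ⟨r, t, hr, rfl⟩
      exact ⟨r, t, hsub hr, rfl⟩
    obtain ⟨n', hn'⟩ := S.toW_surjective w'
    have hn : S.toW (S.sN i * n') = w := by
      have hs : S.X.C.simple i * S.X.C.simple i = 1 :=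
        S.X.C.toCoxeterSystem.simple_mul_simple_self i
      rw [map_mul, S.toW_sN, hn', hw', ← mul_assoc, hs, one_mul]
    let f : F × ↥(S.Uw w') → ↥(S.Uw w) := fun p =>
      ⟨S.xg r p.1 * p.2, mul_mem (Subgroup.subset_closure ⟨r, p.1, hmem, rfl⟩) (hsub' p.2.2)⟩
    have hf : Function.Bijective f := by
      constructor
      · rintro ⟨a, u⟩ ⟨a', u'⟩ he
        have he' : S.xg r a * (u : GL D.Idx F) = S.xg r a' * u' := congrArg Subtype.val he
        have h2 : S.xg r (a - a') ∈ S.Uw w' := by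
          have : S.xg r (a - a') = (u' : GL D.Idx F) * (u : GL D.Idx F)⁻¹ := by
            rw [eq_mul_inv_iff_mul_eq, sub_eq_add_neg, add_comm, S.xg_add, mul_assoc, he',
              ← mul_assoc, ← S.xg_add, neg_add_cancel, S.xg_zero, one_mul]
          rw [this]; exact mul_mem u'.2 (inv_mem u.2)
        have h3 := S.conj_Uw_mem_V n' (hn'.symm ▸ h2)
        obtain ⟨c, hc, hcp, -⟩ := S.acts_toW n' r hpos.1
        rw [hcp, hn', hr_def, S.X.img_img_inv] at h3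
        have h4 : S.xg (D.simple i) (c * (a - a')) = 1 := by
          have := Subgroup.mem_inf.mpr ⟨U_le_B (S.xg_mem_U (S.X.simple_pos i.isLt) _), h3⟩
          rwa [S.B_inf_V, Subgroup.mem_bot] at this
        have h5 : a = a' :=
          sub_eq_zero.mp ((mul_eq_zero.mp (S.xg_eq_one (S.X.simple_lt i.isLt) h4)).resolve_left hc)
        subst h5
        rw [Subtype.ext (mul_left_cancel he')]
      · rintro ⟨u, hu⟩
        obtain ⟨b, hb, u₁, hu₁, e⟩ := S.exists_form n' (U_le_B (S.Uw_le_U w hu))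
        obtain ⟨h, hh, v, hv, a, rfl⟩ := S.B_decomp i.isLt hb
        obtain ⟨c, hc, hcp, -⟩ := (S.acts_toW n').inv S (D.simple i) (S.X.simple_lt i.isLt)
        set N₀ := S.nn (D.simple i) 1
        have hu₂ : S.xg r (c * a) * u₁ ∈ S.Uw w :=
          mul_mem (Subgroup.subset_closure ⟨r, _, hmem, rfl⟩) (hsub' (hn' ▸ hu₁))
        have key : 1 * ((S.sN i * n' : ↥(D.monomialSubgroup F)) : GL D.Idx F) * u =
            N₀ * h * N₀⁻¹ * (N₀ * v * N₀⁻¹) * (S.sN i * n' : ↥(D.monomialSubgroup F)) *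
              (S.xg r (c * a) * u₁) := by
          have h6 := hcp a
          rw [hn'] at h6
          rw [← h6, Subgroup.coe_mul]
          show 1 * (N₀ * (n' : GL D.Idx F)) * u = _
          rw [one_mul, mul_assoc, e]
          show _ = _ * (N₀ * (n' : GL D.Idx F)) * _
          group
        obtain ⟨-, rfl⟩ := S.form_unique (S.sN i * n') (one_mem _)
          (mul_mem (H_le_B (S.conj_H (S.acts_simple i) hh))
            (U_le_B (upSub_le_U _ (S.nn_conj_upSub i hv)))) (hn.symm ▸ hu) (hn.symm ▸ hu₂) key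
        exact ⟨(c * a, ⟨u₁, hn' ▸ hu₁⟩), rfl⟩
    rw [← Nat.card_eq_of_bijective f hf, Nat.card_prod, ih w' (by omega), pow_succ, mul_comm]

include S in
/-- the order of the group -/
theorem card_group [Fintype F] [Fintype S.X.W] :
    Nat.card ↥(D.group F) =
      Nat.card ↥(D.borelSubgroup F) * ∑ w : S.X.W, Nat.card F ^ S.X.inv w := by
  classical
  choose rep hrep using S.toW_surjective
  have hfin : Finite (GL D.Idx F) := inferInstance
  let f : (Σ w : S.X.W, ↥(D.borelSubgroup F) × ↥(S.Uw w)) → ↥(D.group F) := fun p =>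
    ⟨p.2.1 * rep p.1 * p.2.2, mul_mem (mul_mem (S.B_le_group p.2.1.2) (S.N_le_group (rep p.1).2))
      (S.U_le_group (S.Uw_le_U _ p.2.2.2))⟩
  have hf : Function.Bijective f := by
    constructor
    · rintro ⟨w, b, u⟩ ⟨w', b', u'⟩ he
      have he' : (b : GL D.Idx F) * rep w * u = b' * rep w' * u' := congrArg Subtype.val he
      have hw := S.toW_unique b.2 b'.2 (U_le_B (S.Uw_le_U _ u.2)) (U_le_B (S.Uw_le_U _ u'.2)) he'
      rw [hrep, hrep] at hw
      subst hw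
      obtain ⟨h1, h2⟩ := S.form_unique (rep w) b.2 b'.2
        ((hrep w).symm ▸ u.2) ((hrep w).symm ▸ u'.2) he'
      rw [Subtype.ext h1, Subtype.ext h2]
    · rintro ⟨g, hg⟩
      obtain ⟨b, hb, n, u, hu, rfl⟩ := S.exists_cell_form hg
      have hh : (n : GL D.Idx F) * (rep (S.toW n) : GL D.Idx F)⁻¹ ∈ D.borelSubgroup F := by
        apply H_le_B
        have : n * (rep (S.toW n))⁻¹ ∈ S.toW.ker := by simp [MonoidHom.mem_ker, hrep]
        exact S.toW_ker.le this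
      refine ⟨⟨S.toW n, ⟨_, mul_mem hb hh⟩, ⟨u, hu⟩⟩, Subtype.ext ?_⟩
      show b * ((n : GL D.Idx F) * (rep (S.toW n) : GL D.Idx F)⁻¹) *
        (rep (S.toW n) : GL D.Idx F) * u = _
      group
  rw [← Nat.card_eq_of_bijective f hf, Nat.card_sigma, Finset.mul_sum]
  refine Finset.sum_congr rfl fun w _ => ?_
  rw [Nat.card_prod, S.card_Uw]

include S in
lemma card_U : ∃ w0 : S.X.W, (∀ r, D.IsPosRoot r → D.IsNegRoot (S.X.img w0 r)) ∧
    Nat.card ↥(D.posUnipotent F) = Nat.card F ^ S.X.inv w0 := by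
  obtain ⟨w0, hw0⟩ := S.exists_w0
  refine ⟨w0, hw0, ?_⟩
  rw [← S.card_Uw]
  have : D.posUnipotent F = S.Uw w0 := le_antisymm
    ((Subgroup.closure_le _).mpr fun g ⟨r, t, hr, hg⟩ => Subgroup.subset_closure
      ⟨r, t, S.X.mem_invSet.mpr ⟨hr, hw0 r hr⟩, S.eq_xg.mp hg⟩) (S.Uw_le_U w0)
  rw [this]

include S in
lemma card_B : Nat.card ↥(D.borelSubgroup F) =
    Nat.card ↥(D.posUnipotent F) * Nat.card ↥(D.diagonalSubgroup F) := by
  let f : ↥(D.diagonalSubgroup F) × ↥(D.posUnipotent F) → ↥(D.borelSubgroup F) := fun p =>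
    ⟨p.1 * p.2, mul_mem (H_le_B p.1.2) (U_le_B p.2.2)⟩
  have hf : Function.Bijective f := by
    constructor
    · rintro ⟨h, u⟩ ⟨h', u'⟩ he
      have he' : (h : GL D.Idx F) * u = h' * u' := congrArg Subtype.val he
      have h1 : (h' : GL D.Idx F)⁻¹ * h = (u' : GL D.Idx F) * (u : GL D.Idx F)⁻¹ := by
        rw [eq_mul_inv_iff_mul_eq, mul_assoc, he', inv_mul_cancel_left]
      have h2 := Subgroup.mem_inf.mpr
        ⟨mul_mem u'.2 (inv_mem u.2), h1 ▸ mul_mem (inv_mem h'.2) h.2⟩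
      rw [S.U_inf_H, Subgroup.mem_bot, ← h1, inv_mul_eq_one] at h2
      obtain rfl : h' = h := Subtype.ext h2
      rw [Subtype.ext (mul_left_cancel he')]
    · rintro ⟨b, hb⟩
      obtain ⟨h, hh, u, hu, rfl⟩ := S.mem_B_iff.mp hb
      exact ⟨(⟨h, hh⟩, ⟨u, hu⟩), rfl⟩
  rw [← Nat.card_eq_of_bijective f hf, Nat.card_prod, mul_comm]

end Sys

end Cfsg.Agent.ChevBruhat
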