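import Cfsg.Agent.Lib.ChevalleyUnipotent

/-!
The diagonal subgroup `H`, `B = UH`, and the monomial subgroup `N` of a certified Chevalley datum.
-/

set_option autoImplicit false
set_option linter.unusedSimpArgs false
set_option linter.unusedSectionVars false

namespace Cfsg.Agent.ChevalleyTorus

open Cfsg.Lie Cfsg.Agent.ChevalleyEngine Cfsg.Agent.ChevalleyCert Cfsg.Agent.ChevalleyRoots
open Cfsg.Agent.ChevalleyAdjoint Cfsg.Agent.ChevalleyExp Cfsg.Agent.ChevalleyCore Cfsg.Agent.ChevalleyUnipotent
open scoped Matrix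

variable {D : ChevalleyDatum} {F : Type*} [Field F]

/-- the value at the root with index `s` of the character given on the fundamental coroots by `c` -/
def tchar (D : ChevalleyDatum) (c : Fin D.rank → Fˣ) (s : ℕ) : Fˣ := ∏ i, c i ^ D.cartan i.val s

theorem tchar_mul (c d : Fin D.rank → Fˣ) (s : ℕ) : tchar D (c * d) s = tchar D c s * tchar D d s := by
  simp [tchar, mul_zpow, Finset.prod_mul_distrib]

theorem tchar_one (s : ℕ) : tchar D (1 : Fin D.rank → Fˣ) s = 1 := by simp [tchar]

/-- diagonal matrix of a torus element -/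
def tmat (D : ChevalleyDatum) (c : Fin D.rank → Fˣ) : Matrix D.Idx D.Idx F :=
  Matrix.diagonal (Sum.elim (fun _ => (1 : F)) fun s => (tchar D c s.val : F))

theorem tmat_mul (c d : Fin D.rank → Fˣ) : tmat D (c * d) = tmat D c * tmat D d := by
  rw [tmat, tmat, tmat, Matrix.diagonal_mul_diagonal]
  congr 1
  funext q
  rcases q with a | s <;> simp [tchar_mul]

theorem tmat_one : tmat (F := F) D 1 = 1 := by
  rw [tmat, ← Matrix.diagonal_one]
  congr 1
  funext q
  rcases q with a | s <;> simp [tchar_one]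

/-- the parametrisation `(c_i) ↦ ∏ h_{p_i}(c_i)` of the torus -/
def torus (D : ChevalleyDatum) : (Fin D.rank → Fˣ) →* GL D.Idx F where
  toFun c := ⟨tmat D c, tmat D c⁻¹, by rw [← tmat_mul, mul_inv_cancel, tmat_one],
    by rw [← tmat_mul, inv_mul_cancel, tmat_one]⟩
  map_one' := Units.ext tmat_one
  map_mul' c d := Units.ext (tmat_mul c d)

@[simp] theorem coe_torus (c : Fin D.rank → Fˣ) :
    ((torus D c : GL D.Idx F) : Matrix D.Idx D.Idx F) = tmat D c := rfl

variable (C : Cert D)
include C

theorem tchar_single (i : Fin D.rank) (c : Fˣ) (s : ℕ) :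
    tchar D (Pi.mulSingle i c) s = c ^ D.cartan i.val s := by
  rw [tchar, Finset.prod_eq_single i]
  · simp
  · intro j _ hj; simp [Pi.mulSingle_eq_of_ne hj]
  · simp

theorem hg_eq_torus {r : ℕ} (hr : r < D.nroots) (t : Fˣ) :
    hg C r (t : F) = torus D (fun i => t ^ cc D r i.val) := by
  apply Units.ext
  rw [coe_hg_eq C hr t.ne_zero, coe_torus, tmat, hDiag]
  congr 1
  funext q
  rcases q with a | s
  · rfl
  · simp only [Sum.elim_inr, tchar]
    rw [pairing_eq C, ← Fin.sum_univ_eq_sum_range (fun j => cc D r j * D.cartan j s.val), ← Units.val_zpow_eq_zpow_val]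
    congr 1
    simp only [← zpow_mul]
    induction (Finset.univ : Finset (Fin D.rank)) using Finset.induction_on with
    | empty => simp
    | insert a S ha ih => rw [Finset.sum_insert ha, Finset.prod_insert ha, zpow_add, ih]

theorem hg_simple {i : Fin D.rank} (c : Fˣ) :
    hg C (D.simple i.val) (c : F) = torus D (Pi.mulSingle i c) := by
  rw [hg_eq_torus C (simple_lt C i.isLt)]
  congr 1
  funext j
  rw [C.cc_simple i.val j.val i.isLt j.isLt]
  by_cases h : j = i
  · subst h; simp
  · simp [h, Fin.val_ne_of_ne h]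

theorem hg_mem_H {r : ℕ} (hr : r < D.nroots) {t : F} (ht : t ≠ 0) : hg C r t ∈ D.diagonalSubgroup F :=
  Subgroup.subset_closure ⟨r, t, hr, ht, coe_hg C r t⟩

theorem H_eq_range : D.diagonalSubgroup F = (torus D (F := F)).range := by
  apply le_antisymm
  · rw [ChevalleyDatum.diagonalSubgroup, Subgroup.closure_le]
    rintro g ⟨r, t, hr, ht, hg'⟩
    have : g = hg C r t := Units.ext (hg'.trans (coe_hg C r t).symm)
    subst this
    exact ⟨_, (hg_eq_torus C hr (Units.mk0 t ht)).symm⟩
  · rintro g ⟨c, rfl⟩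
    rw [← Finset.univ_prod_mulSingle c]
    induction (Finset.univ : Finset (Fin D.rank)) using Finset.induction_on with
    | empty => simp
    | insert a S ha ih =>
      rw [Finset.prod_insert ha, map_mul]
      refine mul_mem ?_ ih
      rw [← hg_simple C]
      exact hg_mem_H C (simple_lt C a.isLt) (c a).ne_zero

theorem mem_H_iff {g : GL D.Idx F} : g ∈ D.diagonalSubgroup F ↔ ∃ c, torus D c = g := by
  rw [H_eq_range C]; rfl

theorem torus_mem_H (c : Fin D.rank → Fˣ) : torus D c ∈ D.diagonalSubgroup F := (mem_H_iff C).2 ⟨c, rfl⟩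

theorem H_diag {g : GL D.Idx F} (hg' : g ∈ D.diagonalSubgroup F) {i j : D.Idx} (h : i ≠ j) :
    (g : Matrix D.Idx D.Idx F) i j = 0 := by
  obtain ⟨c, rfl⟩ := (mem_H_iff C).1 hg'
  simp [tmat, h]

theorem H_comm {g h : GL D.Idx F} (hg' : g ∈ D.diagonalSubgroup F) (hh : h ∈ D.diagonalSubgroup F) :
    g * h = h * g := by
  obtain ⟨c, rfl⟩ := (mem_H_iff C).1 hg'
  obtain ⟨d, rfl⟩ := (mem_H_iff C).1 hh
  rw [← map_mul, ← map_mul, mul_comm]

theorem torus_conj_xg {s : ℕ} (hs : s < D.nroots) (c : Fin D.rank → Fˣ) (t : F) :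
    torus D c * xg C s t * (torus D c)⁻¹ = xg C s ((tchar D c s : F) * t) := by
  rw [← Finset.univ_prod_mulSingle c]
  induction (Finset.univ : Finset (Fin D.rank)) using Finset.induction_on with
  | empty => simp [tchar_one]
  | insert a S ha ih =>
    rw [Finset.prod_insert ha, map_mul, mul_inv_rev]
    have h1 : ∀ A B x : GL D.Idx F, A * B * x * (B⁻¹ * A⁻¹) = A * (B * x * B⁻¹) * A⁻¹ := fun A B x => by group
    rw [h1, ih, tchar_mul, tchar_single C, ← hg_simple C, hg_conj_xg C (simple_lt C a.isLt) hs (c a).ne_zero,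
      mul_inv_cancel_right, pairing_simple C a.isLt, Units.val_mul, Units.val_zpow_eq_zpow_val, mul_assoc]

theorem H_conj_xg {s : ℕ} (hs : s < D.nroots) {h : GL D.Idx F} (hh : h ∈ D.diagonalSubgroup F) :
    ∃ a : F, a ≠ 0 ∧ ∀ t : F, h * xg C s t * h⁻¹ = xg C s (a * t) := by
  obtain ⟨c, rfl⟩ := (mem_H_iff C).1 hh
  exact ⟨_, (tchar D c s).ne_zero, torus_conj_xg C hs c⟩

omit C in
/-- an element conjugating generators into the subgroup and whose inverse does so normalises the subgroup -/
theorem closure_le_normalizer {G : Type*} [Group G] {H : Subgroup G} {S : Set G}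
    (h : ∀ k ∈ H, ∀ g ∈ S, k * g * k⁻¹ ∈ Subgroup.closure S) :
    H ≤ Subgroup.normalizer (Subgroup.closure S : Set G) := by
  intro k hk
  have aux : ∀ k ∈ H, ∀ x ∈ Subgroup.closure S, k * x * k⁻¹ ∈ Subgroup.closure S := by
    intro k hk x hx
    induction hx using Subgroup.closure_induction with
    | mem g hg => exact h k hk g hg
    | one => simp
    | mul a b _ _ ha hb => simpa [mul_assoc] using mul_mem ha hb
    | inv a _ ha => simpa [mul_assoc] using inv_mem ha
  rw [Subgroup.mem_normalizer_iff]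
  intro x
  refine ⟨fun hx => aux k hk x hx, fun hx => ?_⟩
  have := aux k⁻¹ (inv_mem hk) _ hx
  simpa [mul_assoc] using this

/-- `H` normalises every subgroup generated by root subgroups -/
theorem H_le_normalizer (P : ℕ → Prop) :
    D.diagonalSubgroup F ≤ Subgroup.normalizer
      (Subgroup.closure {g : GL D.Idx F | ∃ (r : ℕ) (t : F), P r ∧ (g : Matrix D.Idx D.Idx F) = D.x F r t} :
        Set (GL D.Idx F)) := by
  refine closure_le_normalizer fun k hk g ⟨r, t, hP, hg'⟩ => ?_
  obtain rfl := (xg_eq_iff C).1 hg'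
  by_cases hr : r < D.nroots
  · obtain ⟨a, _, ha⟩ := H_conj_xg C hr hk
    rw [ha]
    exact Subgroup.subset_closure ⟨r, _, hP, rfl⟩
  · have : xg C r t = 1 := Units.ext (x_out hr t)
    rw [this]; simp

theorem H_le_normalizer_U : D.diagonalSubgroup F ≤ Subgroup.normalizer (D.posUnipotent F : Set (GL D.Idx F)) :=
  H_le_normalizer C _

theorem H_le_normalizer_V : D.diagonalSubgroup F ≤ Subgroup.normalizer (D.negUnipotent F : Set (GL D.Idx F)) :=
  H_le_normalizer C _

theorem U_inf_H : D.posUnipotent F ⊓ D.diagonalSubgroup F = ⊥ := by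
  rw [eq_bot_iff]
  rintro g ⟨hu, hh⟩
  exact eq_one_of_diag (kq C) le_rfl (U_le_upper C hu) fun i j h => H_diag C hh h

theorem mem_B_iff {g : GL D.Idx F} :
    g ∈ D.borelSubgroup F ↔ ∃ u ∈ D.posUnipotent F, ∃ h ∈ D.diagonalSubgroup F, u * h = g := by
  rw [ChevalleyDatum.borelSubgroup, ← SetLike.mem_coe,
    Subgroup.coe_mul_of_right_le_normalizer_left _ _ (H_le_normalizer_U C)]
  simp [Set.mem_mul]

theorem mem_VH_iff {g : GL D.Idx F} :
    g ∈ D.negUnipotent F ⊔ D.diagonalSubgroup F ↔ ∃ v ∈ D.negUnipotent F, ∃ h ∈ D.diagonalSubgroup F, v * h = g := by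
  rw [← SetLike.mem_coe, Subgroup.coe_mul_of_right_le_normalizer_left _ _ (H_le_normalizer_V C)]
  simp [Set.mem_mul]

theorem mul_H_entry {g h : GL D.Idx F} (hh : h ∈ D.diagonalSubgroup F) (i j : D.Idx) :
    ((g * h : GL D.Idx F) : Matrix D.Idx D.Idx F) i j =
      (g : Matrix D.Idx D.Idx F) i j * (h : Matrix D.Idx D.Idx F) j j := by
  obtain ⟨c, rfl⟩ := (mem_H_iff C).1 hh
  rw [Units.val_mul, coe_torus, tmat, Matrix.mul_diagonal, Matrix.diagonal_apply_eq]

theorem B_inf_VH : D.borelSubgroup F ⊓ (D.negUnipotent F ⊔ D.diagonalSubgroup F) = D.diagonalSubgroup F := by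
  refine le_antisymm ?_ (le_inf le_sup_right le_sup_right)
  rintro g ⟨hb, hv⟩
  obtain ⟨u, hu, h, hh, rfl⟩ := (mem_B_iff C).1 hb
  obtain ⟨v, hv', h', hh', he⟩ := (mem_VH_iff C).1 hv
  have hU := U_le_upper C hu
  have hV := V_le_lower C hv'
  have hd : h = h' := by
    apply Units.ext
    ext i j
    by_cases hij : i = j
    · subst hij
      have := congrArg (fun x : GL D.Idx F => (x : Matrix D.Idx D.Idx F) i i) he
      simp only [mul_H_entry C hh, mul_H_entry C hh', upperAt_diag _ le_rfl hU, upperAt_diag _ le_rfl hV,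
        one_mul] at this
      exact this.symm
    · rw [H_diag C hh hij, H_diag C hh' hij]
  subst hd
  have huv : v = u := mul_right_cancel he
  subst huv
  rw [eq_one_of_both (kq C) le_rfl le_rfl hU hV, one_mul]
  exact hh

theorem B_inf_V : D.borelSubgroup F ⊓ D.negUnipotent F = ⊥ := by
  rw [eq_bot_iff]
  rintro g ⟨hb, hv⟩
  have hH : g ∈ D.diagonalSubgroup F := by
    rw [← B_inf_VH C]; exact ⟨hb, Subgroup.mem_sup_left hv⟩
  exact eq_one_of_diag _ le_rfl (V_le_lower C hv) fun i j h => H_diag C hH h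

/-! ### the monomial subgroup -/

/-- the element `n_{p_i}(1)` -/
abbrev ns (i : ℕ) : GL D.Idx F := ng C (D.simple i) 1

theorem ns_mem_N {i : ℕ} (hi : i < D.rank) : ns C (F := F) i ∈ D.monomialSubgroup F :=
  Subgroup.mem_sup_right (Subgroup.subset_closure ⟨_, simple_lt C hi, coe_ng C _ _⟩)

theorem ns_conj_hg {i r : ℕ} (hi : i < D.rank) (hr : r < D.nroots) {t : F} (ht : t ≠ 0) :
    ns C i * hg C r t * (ns C i)⁻¹ = hg C (D.reflectRoot i r) t := by
  apply Units.ext
  rw [Units.val_mul, Units.val_mul, coe_hg_eq C hr ht, coe_hg_eq C (C.w_lt i r hi hr) ht, coe_ng_simple C hi,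
    mn_hDiag C hi hr, mul_assoc, ← coe_ng_simple C hi, ← Units.val_mul, mul_inv_cancel, Units.val_one, mul_one]

theorem ns_mem_normalizer {i : ℕ} (hi : i < D.rank) :
    ns C (F := F) i ∈ Subgroup.normalizer (D.diagonalSubgroup F : Set (GL D.Idx F)) := by
  have key : ∀ x ∈ D.diagonalSubgroup F, ns C i * x * (ns C i)⁻¹ ∈ D.diagonalSubgroup F := by
    intro x hx
    induction hx using Subgroup.closure_induction with
    | mem g hg' =>
      obtain ⟨r, t, hr, ht, hg''⟩ := hg'
      have : g = hg C r t := Units.ext (hg''.trans (coe_hg C r t).symm)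
      subst this
      rw [ns_conj_hg C hi hr ht]
      exact hg_mem_H C (C.w_lt i r hi hr) ht
    | one => simp
    | mul a b _ _ ha hb => simpa [mul_assoc] using mul_mem ha hb
    | inv a _ ha => simpa [mul_assoc] using inv_mem ha
  rw [Subgroup.mem_normalizer_iff]
  intro x
  refine ⟨key x, fun hx => ?_⟩
  have hsq : ns C (F := F) i * ns C i ∈ D.diagonalSubgroup F := by
    have hp := simple_lt C hi
    have : ns C (F := F) i * ns C i = hg C (D.simple i) (-1) := by
      apply Units.ext
      rw [ng_pair C hp 1 1 one_ne_zero one_ne_zero, coe_hg_eq C hp (neg_ne_zero.2 one_ne_zero), div_one]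
    rw [this]
    exact hg_mem_H C hp (neg_ne_zero.2 one_ne_zero)
  have h2 := key _ hx
  have h3 : ns C i * (ns C i * x * (ns C i)⁻¹) * (ns C i)⁻¹ =
      (ns C i * ns C i) * x * (ns C i * ns C i)⁻¹ := by group
  rw [h3] at h2
  have := mul_mem (mul_mem (inv_mem hsq) h2) hsq
  simpa [mul_assoc] using this

theorem ng_mem_gen {r : ℕ} (hr : r < D.nroots) :
    ∀ t : F, t ≠ 0 →
      ng C r t ∈ D.diagonalSubgroup F ⊔ Subgroup.closure (Set.range fun i : Fin D.rank => ns C (F := F) i.val) := by
  refine root_induction C (P := fun r => ∀ t : F, t ≠ 0 →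
    ng C r t ∈ D.diagonalSubgroup F ⊔ Subgroup.closure (Set.range fun i : Fin D.rank => ns C (F := F) i.val))
    ?_ ?_ r hr
  · intro i hi t ht
    rw [ng_eq C]
    exact mul_mem (Subgroup.mem_sup_left (hg_mem_H C (simple_lt C hi) ht))
      (Subgroup.mem_sup_right (Subgroup.subset_closure ⟨⟨i, hi⟩, rfl⟩))
  · intro i r hi hr ih t ht
    have h : ng C (wr D i r) t = ns C i * ng C r ((C.eta i r : F) * t) * (ns C i)⁻¹ := by
      rw [ng_simple_conj_ng C hi hr, ← mul_assoc, eta_cast_sq C, one_mul]
    rw [h]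
    have hn : ns C (F := F) i ∈
        D.diagonalSubgroup F ⊔ Subgroup.closure (Set.range fun i : Fin D.rank => ns C (F := F) i.val) :=
      Subgroup.mem_sup_right (Subgroup.subset_closure ⟨⟨i, hi⟩, rfl⟩)
    exact mul_mem (mul_mem hn (ih _ (mul_ne_zero (eta_cast_ne C i r) ht))) (inv_mem hn)

theorem N_eq : D.monomialSubgroup F =
    D.diagonalSubgroup F ⊔ Subgroup.closure (Set.range fun i : Fin D.rank => ns C (F := F) i.val) := by
  refine le_antisymm (sup_le le_sup_left ?_) (sup_le le_sup_left ?_)
  · rw [Subgroup.closure_le]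
    rintro g ⟨r, hr, hg'⟩
    have : g = ng C r 1 := Units.ext (hg'.trans (coe_ng C r 1).symm)
    subst this
    exact ng_mem_gen C hr 1 one_ne_zero
  · rw [Subgroup.closure_le]
    rintro g ⟨i, rfl⟩
    exact ns_mem_N C i.isLt

theorem N_le_normalizer_H :
    D.monomialSubgroup F ≤ Subgroup.normalizer (D.diagonalSubgroup F : Set (GL D.Idx F)) := by
  rw [N_eq C]
  refine sup_le Subgroup.le_normalizer ?_
  rw [Subgroup.closure_le]
  rintro g ⟨i, rfl⟩
  exact ns_mem_normalizer C i.isLt

/-! ### the longest element -/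

/-- the action of a word in fundamental reflections -/
def wact (l : List ℕ) (r : ℕ) : ℕ := l.foldr (wr D) r

omit C in
theorem wact_cons (i : ℕ) (l : List ℕ) (r : ℕ) : wact (D := D) (i :: l) r = wr D i (wact (D := D) l r) := rfl

theorem wact_lt {l : List ℕ} (hl : ∀ i ∈ l, i < D.rank) {r : ℕ} (hr : r < D.nroots) :
    wact (D := D) l r < D.nroots := by
  induction l with
  | nil => exact hr
  | cons i l ih =>
    exact C.w_lt i _ (hl i (List.mem_cons_self ..)) (ih fun j hj => hl j (List.mem_cons_of_mem _ hj))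

theorem wact_neg {l : List ℕ} (hl : ∀ i ∈ l, i < D.rank) {r : ℕ} (hr : r < D.nroots) :
    wact (D := D) l (D.neg r) = D.neg (wact (D := D) l r) := by
  induction l with
  | nil => rfl
  | cons i l ih =>
    have hl' : ∀ j ∈ l, j < D.rank := fun j hj => hl j (List.mem_cons_of_mem _ hj)
    rw [wact_cons, wact_cons, ih hl', w_neg C (hl i (List.mem_cons_self ..)) (wact_lt C hl' hr)]

theorem wact_coef {l : List ℕ} (hl : ∀ i ∈ l, i < D.rank) {r : ℕ} (hr : r < D.nroots) {j : ℕ} (hj : j < D.rank) :
    C.coef (wact (D := D) l r) j =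
      ∑ k ∈ Finset.range D.rank, C.coef r k * C.coef (wact (D := D) l (D.simple k)) j := by
  induction l generalizing j with
  | nil =>
    rw [Finset.sum_eq_single j]
    · simp [wact, C.coef_simple j j hj hj]
    · intro k hk hne
      simp [wact, C.coef_simple k j (Finset.mem_range.1 hk) hj, Ne.symm hne]
    · simp [hj]
  | cons i l ih =>
    have hl' : ∀ j ∈ l, j < D.rank := fun j hj => hl j (List.mem_cons_of_mem _ hj)
    have hi := hl i (List.mem_cons_self ..)
    rw [wact_cons, C.coef_w i _ j hi (wact_lt C hl' hr) hj, ih hl' hj,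
      cartan_lin' C hi (wact_lt C hl' hr)]
    have hR : ∀ k ∈ Finset.range D.rank, C.coef r k * C.coef (wact (D := D) (i :: l) (D.simple k)) j =
        C.coef r k * (C.coef (wact (D := D) l (D.simple k)) j - if j = i then
          ∑ m ∈ Finset.range D.rank, C.coef (wact (D := D) l (D.simple k)) m * D.cartan i (D.simple m) else 0) :=
      fun k hk => by
        rw [wact_cons, C.coef_w i _ j hi (wact_lt C hl' (simple_lt C (Finset.mem_range.1 hk))) hj,
          cartan_lin' C hi (wact_lt C hl' (simple_lt C (Finset.mem_range.1 hk)))]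
    rw [Finset.sum_congr rfl hR]
    split
    · simp only [mul_sub, Finset.sum_sub_distrib, Finset.mul_sum]
      congr 1
      rw [Finset.sum_comm]
      refine Finset.sum_congr rfl fun m hm => ?_
      rw [ih hl' (Finset.mem_range.1 hm), Finset.sum_mul]
      exact Finset.sum_congr rfl fun k _ => by ring
    · simp

theorem simple_perm {i r : ℕ} (hi : i < D.rank) (hr : D.nroots / 2 ≤ r) (hr' : r < D.nroots)
    (hne : r ≠ D.simple i) : D.nroots / 2 ≤ wr D i r := by
  by_cases h : ∃ j, j < D.rank ∧ j ≠ i ∧ C.coef r j ≠ 0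
  · obtain ⟨j, hj, hji, h0⟩ := h
    have h1 := C.coef_pos r j hr hr' hj
    have h2 := C.coef_w i r j hi hr' hj
    rw [if_neg hji, sub_zero] at h2
    by_contra hc
    have hn := C.w_lt i r hi hr'
    have h3 := C.coef_pos (D.neg (wr D i r)) j ((neg_pos C hn).2 (by omega)) (C.neg_lt _) hj
    rw [C.coef_neg _ j hn hj, h2] at h3
    omega
  · exfalso
    push Not at h
    have hz : ∀ j, j < D.rank → j ≠ i → cc D r j = 0 := fun j hj hji =>
      (C.cc_zero_iff r j hr' hj).2 (h j hj hji)
    have hp := C.pair_self r hr'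
    rw [pairing_eq C, Finset.sum_eq_single i
      (fun j hj hji => by rw [hz j (Finset.mem_range.1 hj) hji, zero_mul]) (by simp [hi])] at hp
    have hA : D.cartan i r = C.coef r i * 2 := by
      rw [cartan_lin' C hi hr', Finset.sum_eq_single i
        (fun j hj hji => by rw [h j (Finset.mem_range.1 hj) hji, zero_mul]) (by simp [hi]), cartan_self C hi]
    rw [hA] at hp
    have hc : cc D r i * C.coef r i = 1 := by linarith
    have hpos := C.coef_pos r i hr hr' hi
    have : C.coef r i = 1 := by
      rcases Int.eq_one_or_neg_one_of_mul_eq_one (mul_comm (cc D r i) _ ▸ hc) with e | e <;> omega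
    refine hne (coef_inj C hr' (simple_lt C hi) fun j hj => ?_)
    rw [C.coef_simple i j hi hj]
    by_cases hji : j = i
    · subst hji; rw [this]; simp
    · rw [h j hj hji, if_neg hji]

/-- a word whose action sends the positive roots to negative roots -/
theorem exists_long_word :
    ∃ l : List ℕ, (∀ i ∈ l, i < D.rank) ∧
      ∀ r, D.nroots / 2 ≤ r → r < D.nroots → wact (D := D) l r < D.nroots / 2 := by
  classical
  by_contra hno
  push Not at hno
  have key : ∀ m, m ≤ D.nroots / 2 + 1 → ∃ l : List ℕ, (∀ i ∈ l, i < D.rank) ∧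
      m ≤ ((Finset.Ico (D.nroots / 2) D.nroots).filter fun r => wact (D := D) l r < D.nroots / 2).card := by
    intro m
    induction m with
    | zero => exact fun _ => ⟨[], by simp, Nat.zero_le _⟩
    | succ m ih =>
      intro hm
      obtain ⟨l, hl, hcard⟩ := ih (by omega)
      obtain ⟨r₀, h0, h0', hbad⟩ := hno l hl
      have : ∃ i, i < D.rank ∧ D.nroots / 2 ≤ wact (D := D) l (D.simple i) := by
        by_contra hc
        push Not at hc
        have hlt := wact_lt C hl h0'
        have hpos : ∃ j, j < D.rank ∧ 0 < C.coef (wact (D := D) l r₀) j := by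
          by_contra hp
          push Not at hp
          have heq : D.neg (wact (D := D) l r₀) = wact (D := D) l r₀ := coef_inj C (C.neg_lt _) hlt fun j hj => by
            have := C.coef_pos _ j hbad hlt hj
            have := hp j hj
            rw [C.coef_neg _ j hlt hj]; omega
          exact neg_ne C hlt heq
        obtain ⟨j, hj, hjp⟩ := hpos
        rw [wact_coef C hl h0' hj] at hjp
        have : ∑ k ∈ Finset.range D.rank, C.coef r₀ k * C.coef (wact (D := D) l (D.simple k)) j ≤ 0 := by
          refine Finset.sum_nonpos fun k hk => ?_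
          have hk' := Finset.mem_range.1 hk
          have h1 := C.coef_pos r₀ k h0 h0' hk'
          have hw := wact_lt C hl (simple_lt C hk')
          have h2 := C.coef_pos _ j ((neg_pos C hw).2 (hc k hk')) (C.neg_lt _) hj
          rw [C.coef_neg _ j hw hj] at h2
          exact mul_nonpos_of_nonneg_of_nonpos h1 (by omega)
        omega
      obtain ⟨i, hi, hip⟩ := this
      refine ⟨l ++ [i], fun j hj => ?_, ?_⟩
      · rcases List.mem_append.1 hj with h | h
        · exact hl j h
        · simp at h; omega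
      · have happ : ∀ r, wact (D := D) (l ++ [i]) r = wact (D := D) l (wr D i r) := fun r => by
          simp [wact, List.foldr_append]
        have hps := C.simple_mem i hi
        calc m + 1 ≤ ((Finset.Ico (D.nroots / 2) D.nroots).filter
              fun r => wact (D := D) l r < D.nroots / 2).card + 1 := by omega
          _ = (insert (D.simple i) (((Finset.Ico (D.nroots / 2) D.nroots).filter
              fun r => wact (D := D) l r < D.nroots / 2).image (wr D i))).card := by
            rw [Finset.card_insert_of_notMem, Finset.card_image_of_injOn]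
            · intro a ha b hb hab
              simp at ha hb
              exact w_inj C hi ha.1.2 hb.1.2 hab
            · intro hmem
              simp at hmem
              obtain ⟨a, ⟨⟨ha1, ha2⟩, ha3⟩, hae⟩ := hmem
              have : a = D.neg (D.simple i) := by
                rw [← w_simple C hi, ← hae]; exact (w_invol C hi ha2).symm
              have := (neg_pos C hps.2).1 (this ▸ ha1)
              omega
          _ ≤ _ := by
            apply Finset.card_le_card
            intro x hx
            simp only [Finset.mem_insert, Finset.mem_image, Finset.mem_filter, Finset.mem_Ico] at hx ⊢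
            rcases hx with rfl | ⟨a, ⟨⟨ha1, ha2⟩, ha3⟩, rfl⟩
            · refine ⟨⟨hps.1, hps.2⟩, ?_⟩
              rw [happ, w_simple C hi, wact_neg C hl hps.2]
              have hw := wact_lt C hl hps.2
              by_contra hc
              have := (neg_pos C hw).1 (by omega)
              omega
            · have hne : a ≠ D.simple i := by rintro rfl; omega
              refine ⟨⟨simple_perm C hi ha1 ha2 hne, C.w_lt i a hi ha2⟩, ?_⟩
              rw [happ, w_invol C hi ha2]; exact ha3
  obtain ⟨l, _, h⟩ := key (D.nroots / 2 + 1) le_rfl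
  have := le_trans h (Finset.card_filter_le _ _)
  simp at this
  have := C.even
  omega

/-- the element of `N` of a word -/
def nword (l : List ℕ) : GL D.Idx F := (l.map fun i => ns C i).prod

theorem nword_mem {l : List ℕ} (hl : ∀ i ∈ l, i < D.rank) : nword C (F := F) l ∈ D.monomialSubgroup F := by
  apply Subgroup.list_prod_mem
  intro g hg'
  obtain ⟨i, hi, rfl⟩ := List.mem_map.1 hg'
  exact ns_mem_N C (hl i hi)

theorem nword_conj {l : List ℕ} (hl : ∀ i ∈ l, i < D.rank) {r : ℕ} (hr : r < D.nroots) :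
    ∃ e : F, e * e = 1 ∧ ∀ t : F, nword C l * xg C r t * (nword C l)⁻¹ = xg C (wact (D := D) l r) (e * t) := by
  induction l with
  | nil => exact ⟨1, by simp, fun t => by simp [nword, wact]⟩
  | cons i l ih =>
    have hl' : ∀ j ∈ l, j < D.rank := fun j hj => hl j (List.mem_cons_of_mem _ hj)
    have hi := hl i (List.mem_cons_self ..)
    obtain ⟨e, he, h⟩ := ih hl'
    refine ⟨(C.eta i (wact (D := D) l r) : F) * e, ?_, fun t => ?_⟩
    · rw [mul_mul_mul_comm, he, eta_cast_sq C, one_mul]
    · rw [wact_cons, show wr D i (wact (D := D) l r) = D.reflectRoot i (wact (D := D) l r) from rfl,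
        mul_assoc (C.eta i (wact (D := D) l r) : F) e t, ← ng_simple_conj C hi (wact_lt C hl' hr), ← h t]
      simp only [nword, List.map_cons, List.prod_cons, mul_inv_rev, mul_assoc]

theorem wact_bij {l : List ℕ} (hl : ∀ i ∈ l, i < D.rank) {s : ℕ} (hs : s < D.nroots) :
    ∃ r, r < D.nroots ∧ wact (D := D) l r = s := by
  induction l generalizing s with
  | nil => exact ⟨s, hs, rfl⟩
  | cons i l ih =>
    have hl' : ∀ j ∈ l, j < D.rank := fun j hj => hl j (List.mem_cons_of_mem _ hj)
    have hi := hl i (List.mem_cons_self ..)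
    obtain ⟨r, hr, h⟩ := ih hl' (C.w_lt i s hi hs)
    exact ⟨r, hr, by rw [wact_cons, h, w_invol C hi hs]⟩

theorem U_conj_V :
    ∃ n ∈ D.monomialSubgroup F, (D.posUnipotent F).map (MulAut.conj n).toMonoidHom = D.negUnipotent F := by
  obtain ⟨l, hl, hw⟩ := exists_long_word C
  refine ⟨nword C l, nword_mem C hl, le_antisymm ?_ ?_⟩
  · rw [Subgroup.map_le_iff_le_comap, ChevalleyDatum.posUnipotent, Subgroup.closure_le]
    rintro g ⟨r, t, hr, hg'⟩
    obtain rfl := (xg_eq_iff C).1 hg'
    obtain ⟨h1, h2⟩ := (isPos C).1 hr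
    obtain ⟨e, _, h⟩ := nword_conj C (F := F) hl h2
    simp only [SetLike.mem_coe, Subgroup.mem_comap, MulEquiv.coe_toMonoidHom, MulAut.conj_apply, h]
    exact xg_mem_V C (hw r h1 h2) _
  · rw [ChevalleyDatum.negUnipotent, Subgroup.closure_le]
    rintro g ⟨s, t, hs, hg'⟩
    obtain rfl := (xg_eq_iff C).1 hg'
    have hsn := (isNeg C).1 hs
    obtain ⟨r, hr, hrs⟩ := wact_bij C hl hs.1
    have hp : D.nroots / 2 ≤ r := by
      by_contra hc
      have h1 := hw (D.neg r) ((neg_pos C hr).2 (by omega)) (C.neg_lt r)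
      rw [wact_neg C hl hr, hrs] at h1
      have := (neg_pos C hs.1).2 hsn
      omega
    obtain ⟨e, he, h⟩ := nword_conj C (F := F) hl hr
    refine ⟨xg C r (e * t), xg_mem_U C hp hr _, ?_⟩
    simp only [MulEquiv.coe_toMonoidHom, MulAut.conj_apply, h, hrs, ← mul_assoc, he, one_mul]

end Cfsg.Agent.ChevalleyTorus
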