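import Cfsg.Agent.Lib.ChevalleyAll
import Cfsg.Agent.Lib.ChevalleyTorus
import Cfsg.Agent.Lib.ChevBruhat
import Cfsg.Agent.Lib.ChevWeylData

/-! The Bruhat hypotheses hold for the seven tabulated data. -/

set_option autoImplicit false

namespace Cfsg.Agent.ChevBruhatInstance
open Cfsg.Lie Cfsg.Agent.ChevalleyCert Cfsg.Agent.ChevalleyCore Cfsg.Agent.ChevalleyRoots
  Cfsg.Agent.ChevalleyTorus Cfsg.Agent.ChevalleyUnipotent Cfsg.Agent.ChevalleyEngine
  Cfsg.Agent.ChevalleyExp Cfsg.Agent.ChevWeyl Cfsg.Agent.ChevBruhat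

theorem data_facts (D : ChevalleyDatum)
    (hD : D ∈ [chevG2, chevB2, chevD4, chevF4, chevE6, chevE7, chevE8]) :
    Nonempty {X : Weyl D // suppCheck D = true} := by
  simp only [List.mem_cons, List.not_mem_nil, or_false] at hD
  rcases hD with rfl | rfl | rfl | rfl | rfl | rfl | rfl
  exacts [⟨⟨ChevWeylData.g2, by decide +kernel⟩⟩, ⟨⟨ChevWeylData.b2, by decide +kernel⟩⟩,
    ⟨⟨ChevWeylData.d4, by decide +kernel⟩⟩, ⟨⟨ChevWeylData.f4, by decide +kernel⟩⟩,
    ⟨⟨ChevWeylData.e6, by decide +kernel⟩⟩, ⟨⟨ChevWeylData.e7, by decide +kernel⟩⟩,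
    ⟨⟨ChevWeylData.e8, by decide +kernel⟩⟩]

variable {D : ChevalleyDatum} (C : Cert D) {F : Type*} [Field F]

include C in
theorem pairing_neg {r s : ℕ} (hs : s < D.nroots) :
    D.pairing r (D.neg s) = - D.pairing r s := by
  rw [ChevalleyRoots.pairing_eq C, ChevalleyRoots.pairing_eq C, ← Finset.sum_neg_distrib]
  exact Finset.sum_congr rfl fun j hj => by
    rw [ChevalleyRoots.cartan_neg C (Finset.mem_range.mp hj) hs, mul_neg]

theorem conjX_hg {r s : ℕ} (hr : r < D.nroots) (hs : s < D.nroots) {t : F} (ht : t ≠ 0) :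
    ConjX (xg C) (hOf (xg C) r t) s s := by
  refine ⟨t ^ D.pairing r s, zpow_ne_zero _ ht, fun u => ?_, fun u => ?_⟩
  · show hg C r t * xg C s u * (hg C r t)⁻¹ = _
    rw [hg_conj_xg C hr hs ht, mul_inv_cancel_right]
  · show hg C r t * xg C (D.neg s) u * (hg C r t)⁻¹ = _
    rw [hg_conj_xg C hr (C.neg_lt s) ht, mul_inv_cancel_right, pairing_neg C hs, zpow_neg]

theorem conjX_ng {i s : ℕ} (hi : i < D.rank) (hs : s < D.nroots) :
    ConjX (xg C (F := F)) (nOf (xg C) (D.simple i) 1) s (D.reflectRoot i s) := by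
  have hinv : (C.eta i s : F)⁻¹ = (C.eta i s : F) :=
    inv_eq_of_mul_eq_one_right (eta_cast_sq C i s)
  refine ⟨(C.eta i s : F), eta_cast_ne C i s, fun u => ng_simple_conj C hi hs u, fun u => ?_⟩
  show ng C (D.simple i) 1 * xg C (D.neg s) u * (ng C (D.simple i) 1)⁻¹ = _
  rw [ng_simple_conj C hi (C.neg_lt s), eta_neg_eq C hi hs, hinv,
    ← ChevalleyRoots.w_neg C hi hs]

include C in
theorem exists_other_coef {i s : ℕ} (hi : i < D.rank) (hs : D.nroots / 2 ≤ s) (hs' : s < D.nroots)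
    (hne : s ≠ D.simple i) : ∃ j, j < D.rank ∧ j ≠ i ∧ 0 < C.coef s j := by
  by_contra h
  push Not at h
  have hz : ∀ j, j < D.rank → j ≠ i → C.coef s j = 0 := fun j hj hji =>
    le_antisymm (h j hj hji) (C.coef_pos s j hs hs' hj)
  have hA : D.cartan i s = C.coef s i * 2 := by
    rw [cartan_lin' C hi hs', Finset.sum_eq_single i
      (fun j hj hji => by rw [hz j (Finset.mem_range.1 hj) hji, zero_mul]) (by simp [hi]),
      cartan_self C hi]
  have hw := simple_perm C hi hs hs' hne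
  have h1 := C.coef_pos (wr D i s) i hw (C.w_lt i s hi hs') hi
  rw [C.coef_w i s i hi hs' hi, if_pos rfl, hA] at h1
  have h2 := C.coef_pos s i hs hs' hi
  refine neg_ne C hs' (coef_inj C (C.neg_lt s) hs' fun j hj => ?_)
  rw [C.coef_neg s j hs' hj]
  by_cases hji : j = i
  · subst hji; omega
  · rw [hz j hj hji, neg_zero]

theorem up_norm {i : ℕ} (hi : i < D.rank) {r : ℕ} (hr : r = D.simple i ∨ r = D.neg (D.simple i))
    {s : ℕ} (hs : D.IsPosRoot s) (hne : s ≠ D.simple i) (t u : F) :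
    xg C r t * xg C s u * (xg C r t)⁻¹ ∈ upSub D F i := by
  obtain ⟨hs1, hs2⟩ := (isPos C).mp hs
  have hp := C.simple_mem i hi
  have hrl : r < D.nroots := by rcases hr with rfl | rfl <;> [exact hp.2; exact C.neg_lt _]
  have hnp : D.neg (D.simple i) < D.nroots / 2 := by
    rw [C.neg_eq _ hp.2]
    have := C.even
    omega
  have h1 : s ≠ r := by
    rcases hr with rfl | rfl
    · exact hne
    · omega
  have h2 : s ≠ D.neg r := by
    rcases hr with rfl | rfl
    · omega
    · rw [neg_neg' C hp.2]; exact hne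
  have hx : xg C r t * xg C s u * (xg C r t)⁻¹ = xg C s u * wg C (D.commWord F r s (-t) u) := by
    have h := comm_formula C hrl hs2 h1 h2 (-t) u
    rw [xg_inv, mul_assoc, h, ← mul_assoc, ← mul_assoc, xg_mul, add_neg_cancel, xg_zero, one_mul]
  rw [hx]
  refine mul_mem (Subgroup.subset_closure ⟨s, u, hs, hne, coe_xg C s u⟩) ?_
  refine list_prod_mem fun g hg => ?_
  obtain ⟨p, hp', rfl⟩ := List.mem_map.mp hg
  obtain ⟨c, hc, rfl⟩ := List.mem_map.mp hp'
  obtain ⟨h3, -, hj1, hco⟩ := commTerms_mem C hrl hs2 hc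
  obtain ⟨j, hj, hji, hpos⟩ := exists_other_coef C hi hs1 hs2 hne
  have hr0 : C.coef r j = 0 := by
    rcases hr with rfl | rfl
    · rw [C.coef_simple i j hi hj, if_neg hji]
    · rw [C.coef_neg _ j hp.2 hj, C.coef_simple i j hi hj, if_neg hji, neg_zero]
  have hcpos : 0 < C.coef c.1 j := by
    rw [hco j hj, hr0, mul_zero, zero_add]
    exact mul_pos (by exact_mod_cast hj1) hpos
  have hge : D.nroots / 2 ≤ c.1 := by
    by_contra hlt
    have h5 := C.coef_pos (D.neg c.1) j ((ChevalleyRoots.neg_pos C h3).2 (by omega)) (C.neg_lt _) hj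
    rw [C.coef_neg _ j h3 hj] at h5
    omega
  refine Subgroup.subset_closure ⟨c.1, _, (isPos C).mpr ⟨hge, h3⟩, fun he => ?_, coe_xg C _ _⟩
  rw [he, C.coef_simple i j hi hj, if_neg hji] at hcpos
  omega

theorem xg_injective {r r' : ℕ} (hr : r < D.nroots) (hr' : r' < D.nroots) {t t' : F} (ht : t ≠ 0)
    (h : xg C r t = xg C r' t') : r = r' ∧ t = t' := by
  have hM : D.x F r t = D.x F r' t' := congrArg Units.val h
  obtain ⟨j, hj⟩ := cc_ne_zero (F := F) C hr
  have hrow := congrFun (congrFun hM (Sum.inl j)) (Sum.inr ⟨D.neg r, C.neg_lt r⟩)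
  rw [x_entry C hr] at hrow
  by_cases hrr : r = r'
  · subst hrr
    rw [x_entry C hr] at hrow
    exact ⟨rfl, mul_left_cancel₀ hj hrow⟩
  · exfalso
    have h1 : D.neg r ≠ D.neg r' := fun e => hrr (neg_inj C hr hr' e)
    have h0 : D.x F r' t' (Sum.inl j) (Sum.inr ⟨D.neg r, C.neg_lt r⟩) = 0 := by
      by_cases h2 : D.neg r = r' <;> simp [x_eq_xR C hr', xR, xm, h1, h2]
    rw [h0] at hrow
    exact mul_ne_zero hj ht hrow

/-- the Bruhat hypotheses for a certified datum with its Weyl group -/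
def mkSys (X : Weyl D) (hs : suppCheck D = true) : Sys D F where
  X := X
  supp := hs
  xg := xg C
  coe_xg := coe_xg C
  xg_add r t u := (xg_mul C r t u).symm
  xg_inj r r' hr hr' t t' ht h := xg_injective C hr hr' ht h
  nconj i hi s hs := conjX_ng C hi hs
  hconj r hr t ht s hs := conjX_hg C hr hs ht
  upNorm i hi r hr s hs hne t u := up_norm C hi hr hs hne t u
  B_inf_V := ChevalleyTorus.B_inf_V C
  U_inf_H := ChevalleyTorus.U_inf_H C

/-- the Bruhat hypotheses for each of the seven data -/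
noncomputable def sys (D : ChevalleyDatum)
    (hD : D ∈ [chevG2, chevB2, chevD4, chevF4, chevE6, chevE7, chevE8]) (F : Type*) [Field F] :
    Sys D F :=
  mkSys (ChevalleyAll.cert D hD) (Classical.choice (data_facts D hD)).1
    (Classical.choice (data_facts D hD)).2

end Cfsg.Agent.ChevBruhatInstance
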