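import Cfsg.Agent.Lib.ChevWeyl
import Mathlib

/-!
The subgroups `H`, `N`, `U`, `V`, `B` of a Chevalley group from a short list of properties of the
root elements: `N` maps onto the Weyl group with kernel `H`.
-/

set_option autoImplicit false

namespace Cfsg.Agent.ChevBruhat
open Cfsg.Lie Cfsg.Agent.ChevWeyl Cfsg.Agent.CoxeterTables

/-- a positive root whose coroot is supported at one node is that fundamental root -/
def suppCheck (D : ChevalleyDatum) : Bool :=
  D.coroot.toList.zipIdx.all fun p => (List.range D.rank).all fun i =>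
    decide (rowSupp [i] p.1.toList = true → p.2 < D.nroots / 2 ∨ p.2 = D.simple i)

variable {D : ChevalleyDatum} {F : Type*} [Field F]

/-- `n_r(t)` built from root elements -/
def nOf (xg : ℕ → F → GL D.Idx F) (r : ℕ) (t : F) : GL D.Idx F :=
  xg r t * xg (D.neg r) (-t⁻¹) * xg r t

/-- `h_r(t)` built from root elements -/
def hOf (xg : ℕ → F → GL D.Idx F) (r : ℕ) (t : F) : GL D.Idx F :=
  nOf xg r t * nOf xg r (-1)

/-- `g` carries the root subgroups of `±s` to those of `±s'`, with inverse scalars -/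
def ConjX (xg : ℕ → F → GL D.Idx F) (g : GL D.Idx F) (s s' : ℕ) : Prop :=
  ∃ c : F, c ≠ 0 ∧ (∀ t, g * xg s t * g⁻¹ = xg s' (c * t)) ∧
    ∀ t, g * xg (D.neg s) t * g⁻¹ = xg (D.neg s') (c⁻¹ * t)

/-- the subgroup generated by the root subgroups of the positive roots other than `p_i` -/
def upSub (D : ChevalleyDatum) (F : Type*) [Field F] (i : ℕ) : Subgroup (GL D.Idx F) :=
  Subgroup.closure {g | ∃ (s : ℕ) (t : F), D.IsPosRoot s ∧ s ≠ D.simple i ∧
    (g : Matrix D.Idx D.Idx F) = D.x F s t}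

/-- the properties of the root elements from which the Bruhat decomposition follows -/
structure Sys (D : ChevalleyDatum) (F : Type*) [Field F] where
  X : Weyl D
  supp : suppCheck D = true
  xg : ℕ → F → GL D.Idx F
  coe_xg : ∀ r t, ((xg r t : GL D.Idx F) : Matrix D.Idx D.Idx F) = D.x F r t
  xg_add : ∀ r t u, xg r (t + u) = xg r t * xg r u
  xg_inj : ∀ r r', r < D.nroots → r' < D.nroots → ∀ t t', t ≠ 0 → xg r t = xg r' t' → r = r' ∧ t = t'
  nconj : ∀ i < D.rank, ∀ s < D.nroots, ConjX xg (nOf xg (D.simple i) 1) s (D.reflectRoot i s)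
  hconj : ∀ r < D.nroots, ∀ t : F, t ≠ 0 → ∀ s < D.nroots, ConjX xg (hOf xg r t) s s
  upNorm : ∀ i < D.rank, ∀ r, (r = D.simple i ∨ r = D.neg (D.simple i)) → ∀ s, D.IsPosRoot s →
    s ≠ D.simple i → ∀ t u, xg r t * xg s u * (xg r t)⁻¹ ∈ upSub D F i
  B_inf_V : D.borelSubgroup F ⊓ D.negUnipotent F = ⊥
  U_inf_H : D.posUnipotent F ⊓ D.diagonalSubgroup F = ⊥

namespace Sys

variable (S : Sys D F)

/-- `n_r(t)` -/
abbrev nn (r : ℕ) (t : F) : GL D.Idx F := nOf S.xg r t

/-- `h_r(t)` -/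
abbrev hh (r : ℕ) (t : F) : GL D.Idx F := hOf S.xg r t

lemma xg_zero (r : ℕ) : S.xg r 0 = 1 :=
  mul_left_cancel (a := S.xg r 0) (by rw [← S.xg_add, add_zero, mul_one])

lemma xg_inv (r : ℕ) (t : F) : (S.xg r t)⁻¹ = S.xg r (-t) :=
  inv_eq_of_mul_eq_one_right (by rw [← S.xg_add, add_neg_cancel, S.xg_zero])

lemma eq_xg {g : GL D.Idx F} {r : ℕ} {t : F} :
    (g : Matrix D.Idx D.Idx F) = D.x F r t ↔ g = S.xg r t := by
  rw [← S.coe_xg, Units.val_inj]

include S in
lemma coe_nn (r : ℕ) (t : F) : (S.nn r t : Matrix D.Idx D.Idx F) = D.nMat F r t := by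
  simp [nn, nOf, ChevalleyDatum.nMat, ChevalleyDatum.nWord, ChevalleyDatum.wordMat, S.coe_xg,
    mul_assoc]

lemma coe_hh (r : ℕ) (t : F) : (S.hh r t : Matrix D.Idx D.Idx F) = D.hMat F r t := by
  simp [hh, hOf, nOf, ChevalleyDatum.hMat, ChevalleyDatum.hWord, ChevalleyDatum.nWord,
    ChevalleyDatum.wordMat, S.coe_xg, mul_assoc]

lemma hh_mem_H {r : ℕ} (hr : r < D.nroots) {t : F} (ht : t ≠ 0) :
    S.hh r t ∈ D.diagonalSubgroup F :=
  Subgroup.subset_closure ⟨r, t, hr, ht, S.coe_hh r t⟩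

lemma H_induction {p : GL D.Idx F → Prop} (gen : ∀ r t, r < D.nroots → t ≠ 0 → p (S.hh r t))
    (one : p 1) (mul : ∀ a b, p a → p b → p (a * b)) (inv : ∀ a, p a → p a⁻¹)
    {g : GL D.Idx F} (hg : g ∈ D.diagonalSubgroup F) : p g := by
  refine Subgroup.closure_induction (p := fun y _ => p y) ?_ one (fun a b _ _ => mul a b)
    (fun a _ => inv a) hg
  rintro y ⟨r, t, hr, ht, hy⟩
  have : y = S.hh r t := Units.ext (hy.trans (S.coe_hh r t).symm)
  exact this ▸ gen r t hr ht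

lemma nn_inv (r : ℕ) (t : F) : (S.nn r t)⁻¹ = S.nn r (-t) := by
  simp only [nn, nOf, mul_inv_rev, S.xg_inv, inv_neg, mul_assoc]

lemma nn_mul_nn_mem {r : ℕ} (hr : r < D.nroots) {a b : F} (ha : a ≠ 0) (hb : b ≠ 0) :
    S.nn r a * S.nn r b ∈ D.diagonalSubgroup F := by
  have h : S.nn r a * S.nn r b = S.hh r a * (S.hh r (-b))⁻¹ := by
    simp only [hh, hOf, mul_inv_rev]
    change S.nn r a * S.nn r b =
      S.nn r a * S.nn r (-1) * ((S.nn r (-1))⁻¹ * (S.nn r (-b))⁻¹)
    rw [← S.nn_inv r b, inv_inv]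
    group
  rw [h]
  exact mul_mem (S.hh_mem_H hr ha) (inv_mem (S.hh_mem_H hr (neg_ne_zero.mpr hb)))

/-- `g` acts on all root subgroups through `w` -/
def Acts (g : GL D.Idx F) (w : S.X.W) : Prop :=
  ∀ s < D.nroots, ConjX S.xg g s (S.X.img w s)

lemma Acts.one : S.Acts 1 1 := fun s _ => ⟨1, one_ne_zero, by simp, by simp⟩

lemma Acts.mul {g g' : GL D.Idx F} {w w' : S.X.W} (h : S.Acts g w) (h' : S.Acts g' w') :
    S.Acts (g * g') (w * w') := by
  intro s hs
  obtain ⟨c', hc', h1', h2'⟩ := h' s hs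
  obtain ⟨c, hc, h1, h2⟩ := h (S.X.img w' s) (S.X.img_lt w' hs)
  refine ⟨c * c', mul_ne_zero hc hc', fun t => ?_, fun t => ?_⟩
  · rw [S.X.img_mul, show g * g' * S.xg s t * (g * g')⁻¹ =
      g * (g' * S.xg s t * g'⁻¹) * g⁻¹ by group, h1', h1, mul_assoc]
  · rw [S.X.img_mul, show g * g' * S.xg (D.neg s) t * (g * g')⁻¹ =
      g * (g' * S.xg (D.neg s) t * g'⁻¹) * g⁻¹ by group, h2', h2, mul_inv, mul_assoc]

lemma Acts.inv {g : GL D.Idx F} {w : S.X.W} (h : S.Acts g w) : S.Acts g⁻¹ w⁻¹ := by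
  intro s hs
  obtain ⟨c, hc, h1, h2⟩ := h (S.X.img w⁻¹ s) (S.X.img_lt _ hs)
  rw [S.X.img_img_inv] at h1 h2
  refine ⟨c⁻¹, inv_ne_zero hc, fun t => ?_, fun t => ?_⟩
  · have := h1 (c⁻¹ * t)
    rw [← mul_assoc, mul_inv_cancel₀ hc, one_mul] at this
    rw [← this]; group
  · have := h2 (c * t)
    rw [← mul_assoc, inv_mul_cancel₀ hc, one_mul] at this
    rw [← this, inv_inv]; group

lemma acts_unique {g : GL D.Idx F} {w w' : S.X.W} (h : S.Acts g w) (h' : S.Acts g w') :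
    w = w' := by
  apply S.X.ρ_injective
  apply Equiv.ext
  intro s
  obtain ⟨c, hc, h1, -⟩ := h s s.isLt
  obtain ⟨c', -, h1', -⟩ := h' s s.isLt
  have he := (h1 1).symm.trans (h1' 1)
  have := (S.xg_inj _ _ (S.X.img_lt w s.isLt) (S.X.img_lt w' s.isLt) _ _
    (by simpa using hc) he).1
  apply Fin.ext
  simpa [Weyl.img, s.isLt] using this

lemma acts_H {g : GL D.Idx F} (hg : g ∈ D.diagonalSubgroup F) : S.Acts g 1 := by
  refine S.H_induction (p := fun y => S.Acts y 1) ?_ (Acts.one S)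
    (fun a b ha hb => by simpa using ha.mul S hb) (fun a ha => by simpa using ha.inv S) hg
  intro r t hr ht s hs
  simpa using S.hconj r hr t ht s hs

lemma acts_simple (i : Fin D.rank) : S.Acts (S.nn (D.simple i) 1) (S.X.C.simple i) := by
  intro s hs
  rw [S.X.img_simple i hs]
  exact S.nconj i i.isLt s hs

/-- the subgroup generated by `H` and the `n_p` for the fundamental roots -/
def Ns : Subgroup (GL D.Idx F) :=
  D.diagonalSubgroup F ⊔ Subgroup.closure (Set.range fun i : Fin D.rank => S.nn (D.simple i) 1)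

lemma nn_mem_Ns (i : Fin D.rank) : S.nn (D.simple i) 1 ∈ S.Ns :=
  Subgroup.mem_sup_right (Subgroup.subset_closure ⟨i, rfl⟩)

lemma Ns_induction {p : GL D.Idx F → Prop} (hH : ∀ h ∈ D.diagonalSubgroup F, p h)
    (gen : ∀ i : Fin D.rank, p (S.nn (D.simple i) 1))
    (mul : ∀ a b, p a → p b → p (a * b)) (inv : ∀ a, p a → p a⁻¹)
    {g : GL D.Idx F} (hg : g ∈ S.Ns) : p g := by
  rw [Ns, ← Subgroup.closure_eq (D.diagonalSubgroup F), ← Subgroup.closure_union] at hg
  refine Subgroup.closure_induction (p := fun y _ => p y) ?_ (hH 1 (one_mem _))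
    (fun a b _ _ => mul a b) (fun a _ => inv a) hg
  rintro y (hy | ⟨i, rfl⟩)
  · exact hH y hy
  · exact gen i

lemma exists_acts {g : GL D.Idx F} (hg : g ∈ S.Ns) : ∃ w, S.Acts g w := by
  refine S.Ns_induction (p := fun y => ∃ w, S.Acts y w) (fun h hh => ⟨1, S.acts_H hh⟩)
    (fun i => ⟨_, S.acts_simple i⟩) ?_ ?_ hg
  · rintro a b ⟨v, hv⟩ ⟨w, hw⟩; exact ⟨v * w, hv.mul S hw⟩
  · rintro a ⟨v, hv⟩; exact ⟨v⁻¹, hv.inv S⟩

lemma exists_lift (w : S.X.W) : ∃ g ∈ S.Ns, S.Acts g w := by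
  induction w using S.X.w_induction with
  | one => exact ⟨1, one_mem _, Acts.one S⟩
  | step i w ih =>
    obtain ⟨g, hg, hw⟩ := ih
    exact ⟨_, mul_mem (S.nn_mem_Ns i) hg, (S.acts_simple i).mul S hw⟩

lemma conj_nn {g : GL D.Idx F} {w : S.X.W} (h : S.Acts g w) {r : ℕ} (hr : r < D.nroots) :
    ∃ c : F, c ≠ 0 ∧ ∀ t, g * S.nn r t * g⁻¹ = S.nn (S.X.img w r) (c * t) := by
  obtain ⟨c, hc, h1, h2⟩ := h r hr
  refine ⟨c, hc, fun t => ?_⟩
  rw [show g * S.nn r t * g⁻¹ = (g * S.xg r t * g⁻¹) * (g * S.xg (D.neg r) (-t⁻¹) * g⁻¹) *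
    (g * S.xg r t * g⁻¹) by simp only [nn, nOf]; group, h1, h2]
  simp only [nn, nOf, mul_inv, neg_mul, mul_neg]

lemma conj_H {g : GL D.Idx F} {w : S.X.W} (h : S.Acts g w) {x : GL D.Idx F}
    (hx : x ∈ D.diagonalSubgroup F) : g * x * g⁻¹ ∈ D.diagonalSubgroup F := by
  refine S.H_induction (p := fun y => g * y * g⁻¹ ∈ D.diagonalSubgroup F) ?_ ?_ ?_ ?_ hx
  · intro r t hr ht
    obtain ⟨c, hc, hn⟩ := S.conj_nn h hr
    rw [show g * S.hh r t * g⁻¹ = (g * S.nn r t * g⁻¹) * (g * S.nn r (-1) * g⁻¹) by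
      simp only [hh, hOf]; group, hn, hn]
    exact S.nn_mul_nn_mem (S.X.img_lt w hr) (mul_ne_zero hc ht)
      (mul_ne_zero hc (neg_ne_zero.mpr one_ne_zero))
  · simp
  · intro a b ha hb
    rw [show g * (a * b) * g⁻¹ = (g * a * g⁻¹) * (g * b * g⁻¹) by group]
    exact mul_mem ha hb
  · intro a ha
    rw [show g * a⁻¹ * g⁻¹ = (g * a * g⁻¹)⁻¹ by group]
    exact inv_mem ha

/-- an element making every positive root negative -/
lemma exists_w0 : ∃ w : S.X.W, ∀ r, D.IsPosRoot r → D.IsNegRoot (S.X.img w r) := by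
  classical
  have := Fintype.ofFinite S.X.W
  obtain ⟨w, -, hw⟩ := Finset.exists_max_image (Finset.univ : Finset S.X.W) S.X.inv
    ⟨1, Finset.mem_univ _⟩
  refine ⟨w⁻¹, fun r hr => ?_⟩
  have hneg : ∀ i : Fin D.rank, D.IsNegRoot (S.X.img w⁻¹ (D.simple i)) := by
    intro i
    refine (S.X.pos_or_neg (S.X.img_lt _ (S.X.simple_lt i.isLt))).resolve_left fun hp => ?_
    have := S.X.inv_simple_mul_of_pos i hp
    have := hw _ (Finset.mem_univ (S.X.C.simple i * w))
    omega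
  have hlt := S.X.img_lt w⁻¹ hr.1
  rw [S.X.neg_iff hlt]
  intro j hj
  rw [S.X.cor_img _ hr.1 j hj]
  refine Finset.sum_nonpos fun k hk => ?_
  have hk := Finset.mem_range.mp hk
  exact mul_nonpos_of_nonneg_of_nonpos ((S.X.pos_iff hr.1).mp hr k hk)
    ((S.X.neg_iff (hneg ⟨k, hk⟩).1).mp (hneg ⟨k, hk⟩) j hj)

/-- every root is the image of a fundamental root -/
lemma exists_root_img {r : ℕ} (hr : r < D.nroots) :
    ∃ (w : S.X.W) (i : Fin D.rank), S.X.img w (D.simple i) = r := by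
  have key : ∀ w : S.X.W, ∀ r, r ∈ S.X.invSet w →
      ∃ (v : S.X.W) (i : Fin D.rank), S.X.img v (D.simple i) = r := by
    intro w
    induction w using S.X.w_induction with
    | one =>
      intro r h
      rw [S.X.mem_invSet, S.X.img_one] at h
      exact absurd h.2 (S.X.not_pos_and_neg h.1)
    | step i w ih =>
      intro r h
      rw [S.X.mem_invSet, S.X.img_mul, S.X.img_simple i (S.X.img_lt w h.1.1),
        S.X.neg_reflect i.isLt (S.X.img_lt w h.1.1)] at h
      obtain ⟨h1, ⟨h2, -⟩ | h2⟩ := h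
      · exact ih r (S.X.mem_invSet.mpr ⟨h1, h2⟩)
      · exact ⟨w⁻¹, i, by rw [← h2, S.X.img_inv_img]⟩
  obtain ⟨w0, hw0⟩ := S.exists_w0
  rcases S.X.pos_or_neg hr with hp | hn
  · exact key w0 r (S.X.mem_invSet.mpr ⟨hp, hw0 r hp⟩)
  · have hp := (S.X.pos_neg_iff hr).mpr hn
    obtain ⟨v, i, hv⟩ := key w0 _ (S.X.mem_invSet.mpr ⟨hp, hw0 _ hp⟩)
    refine ⟨v * S.X.C.simple i, i, ?_⟩
    rw [S.X.img_mul, S.X.img_simple i (S.X.simple_lt i.isLt), S.X.reflect_simple i.isLt,
      S.X.img_neg v (S.X.simple_lt i.isLt), hv, (S.X.root_facts hr).2.1]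

include S in
lemma monomial_eq : D.monomialSubgroup F = S.Ns := by
  apply le_antisymm
  · rw [ChevalleyDatum.monomialSubgroup]
    refine sup_le le_sup_left ((Subgroup.closure_le _).mpr ?_)
    rintro y ⟨r, hr, hy⟩
    have : y = S.nn r 1 := Units.ext (hy.trans (S.coe_nn r 1).symm)
    subst this
    obtain ⟨w, i, hwi⟩ := S.exists_root_img hr
    obtain ⟨g, hg, hgw⟩ := S.exists_lift w
    obtain ⟨c, hc, hn⟩ := S.conj_nn hgw (S.X.simple_lt i.isLt)
    have h1 := hn 1
    rw [hwi, mul_one] at h1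
    have h2 : S.nn r c ∈ S.Ns := h1 ▸ mul_mem (mul_mem hg (S.nn_mem_Ns i)) (inv_mem hg)
    have h3 : S.nn r 1 * S.nn r c ∈ S.Ns :=
      Subgroup.mem_sup_left (S.nn_mul_nn_mem hr one_ne_zero hc)
    simpa using mul_mem h3 (inv_mem h2)
  · refine sup_le le_sup_left ((Subgroup.closure_le _).mpr ?_)
    rintro _ ⟨i, rfl⟩
    exact Subgroup.mem_sup_right (Subgroup.subset_closure
      ⟨D.simple i, S.X.simple_lt i.isLt, S.coe_nn _ _⟩)

lemma nn_mem_N {r : ℕ} (hr : r < D.nroots) : S.nn r 1 ∈ D.monomialSubgroup F :=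
  Subgroup.mem_sup_right (Subgroup.subset_closure ⟨r, hr, S.coe_nn r 1⟩)

lemma mem_Ns {g : GL D.Idx F} (h : g ∈ D.monomialSubgroup F) : g ∈ S.Ns :=
  (SetLike.ext_iff.mp S.monomial_eq g).mp h

lemma mem_N {g : GL D.Idx F} (h : g ∈ S.Ns) : g ∈ D.monomialSubgroup F :=
  (SetLike.ext_iff.mp S.monomial_eq g).mpr h

/-- the Weyl group element of an element of `N` -/
noncomputable def toW : ↥(D.monomialSubgroup F) →* S.X.W :=
  MonoidHom.mk' (fun g => Classical.choose (S.exists_acts (S.mem_Ns g.2)))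
    fun a b => S.acts_unique (Classical.choose_spec (S.exists_acts (S.mem_Ns (a * b).2)))
      ((Classical.choose_spec (S.exists_acts (S.mem_Ns a.2))).mul S
        (Classical.choose_spec (S.exists_acts (S.mem_Ns b.2))))

lemma acts_toW (g : ↥(D.monomialSubgroup F)) : S.Acts g (S.toW g) :=
  Classical.choose_spec (S.exists_acts (S.mem_Ns g.2))

lemma toW_eq {g : ↥(D.monomialSubgroup F)} {w : S.X.W} (h : S.Acts g w) : S.toW g = w :=
  S.acts_unique (S.acts_toW g) h

/-- the representative `n_p` in `N` of a fundamental reflection -/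
noncomputable def sN (i : Fin D.rank) : ↥(D.monomialSubgroup F) :=
  ⟨S.nn (D.simple i) 1, S.nn_mem_N (S.X.simple_lt i.isLt)⟩

lemma toW_sN (i : Fin D.rank) : S.toW (S.sN i) = S.X.C.simple i := S.toW_eq (S.acts_simple i)

lemma toW_surjective : Function.Surjective S.toW := by
  intro w
  obtain ⟨g, hg, hgw⟩ := S.exists_lift w
  exact ⟨⟨g, S.mem_N hg⟩, S.toW_eq hgw⟩

/-- `H` inside `N` -/
abbrev HN : Subgroup ↥(D.monomialSubgroup F) :=
  (D.diagonalSubgroup F).subgroupOf (D.monomialSubgroup F)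

include S in
lemma HN_normal : (HN (D := D) (F := F)).Normal := by
  constructor
  intro h hh g
  exact S.conj_H (S.acts_toW g) hh

lemma sN_sq (i : Fin D.rank) : S.sN i * S.sN i ∈ HN (D := D) (F := F) :=
  S.nn_mul_nn_mem (S.X.simple_lt i.isLt) one_ne_zero one_ne_zero

include S in
lemma simple_supp {r : ℕ} (hr : D.IsPosRoot r) {i : ℕ} (hi : i < D.rank)
    (h : ∀ j < D.rank, j ≠ i → cor D r j = 0) : r = D.simple i := by
  have hc := S.supp
  simp only [suppCheck, List.all_eq_true, List.mem_range, decide_eq_true_eq] at hc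
  have hs : suppIn D [i] r = true := (S.X.suppIn_iff hr.1).mpr (by simpa using h)
  rw [suppIn, Weyl.corRow_eq] at hs
  refine (hc _ (S.X.coroot_mem hr.1) i hi hs).resolve_left ?_
  have := (S.X.pos_iff_le hr.1).mp hr
  omega

/-- conjugation of fundamental reflections in `W` lifts to `N` modulo `H` -/
lemma conj_sN_mem {g : ↥(D.monomialSubgroup F)} {a b : Fin D.rank}
    (h : S.toW g * S.X.C.simple a = S.X.C.simple b * S.toW g) :
    g * S.sN a * g⁻¹ * S.sN b ∈ HN (D := D) (F := F) := by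
  set r := S.X.img (S.toW g) (D.simple a) with hr_def
  have hp := S.X.simple_lt a.isLt
  have hr : r < D.nroots := S.X.img_lt _ hp
  obtain ⟨c, hc, hn⟩ := S.conj_nn (S.acts_toW g) hp
  have hval : ((g * S.sN a * g⁻¹ * S.sN b : ↥(D.monomialSubgroup F)) : GL D.Idx F) =
      S.nn r c * S.nn (D.simple b) 1 := by
    have := hn 1
    rw [mul_one] at this
    simp [sN, ← hr_def, this]
  -- `s_b` negates `r`
  have hrefl : D.reflectRoot b r = D.neg r := by
    rw [← S.X.img_simple b hr, hr_def, ← S.X.img_mul, ← h, S.X.img_mul,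
      S.X.img_simple a hp, S.X.reflect_simple a.isLt, S.X.img_neg _ hp]
  have hsupp : ∀ j < D.rank, j ≠ b.val → cor D r j = 0 := by
    intro j hj hjb
    have h6 := (S.X.root_facts' hr b.isLt).2.2.2.2.2 j hj
    rw [hrefl, (S.X.root_facts' hr hj).1, if_neg hjb] at h6
    omega
  rw [Subgroup.mem_subgroupOf, hval]
  rcases S.X.pos_or_neg hr with hpos | hneg
  · rw [S.simple_supp hpos b.isLt hsupp]
    exact S.nn_mul_nn_mem (S.X.simple_lt b.isLt) hc one_ne_zero
  · have hpos := (S.X.pos_neg_iff hr).mpr hneg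
    have hb : D.neg r = D.simple b := S.simple_supp hpos b.isLt fun j hj hjb => by
      rw [(S.X.root_facts' hr hj).1, hsupp j hj hjb, neg_zero]
    obtain ⟨d, hd, hn'⟩ := S.conj_nn (S.acts_simple b) hr
    rw [S.X.img_simple b hr, hrefl, hb] at hn'
    have h1 : S.nn r c = (S.nn (D.simple b) 1)⁻¹ * S.nn (D.simple b) (d * c) *
        S.nn (D.simple b) 1 := by rw [← hn' c]; group
    rw [h1, S.nn_inv, mul_assoc _ (S.nn (D.simple b) 1) (S.nn (D.simple b) 1)]
    have hb' := S.X.simple_lt b.isLt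
    exact mul_mem (S.nn_mul_nn_mem hb' (neg_ne_zero.mpr one_ne_zero) (mul_ne_zero hd hc))
      (S.nn_mul_nn_mem hb' one_ne_zero one_ne_zero)

omit S in
lemma braid_group {Q : Type*} [Group Q] (a b : Q) (ha : a * a = 1) (hb : b * b = 1) (k : ℕ) :
    a * ((b * a) ^ k) = (a * b) ^ k * a ∧ ((a * b) ^ k)⁻¹ = (b * a) ^ k := by
  constructor
  · induction k with
    | zero => simp
    | succ k ih =>
      rw [pow_succ', pow_succ', mul_assoc b a, ih]
      simp only [mul_assoc]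
  · rw [← inv_pow, mul_inv_rev, inv_eq_of_mul_eq_one_right ha, inv_eq_of_mul_eq_one_right hb]

lemma braid_rel (i j : Fin D.rank) :
    haveI := S.HN_normal
    ((QuotientGroup.mk (S.sN i) : ↥(D.monomialSubgroup F) ⧸ HN (D := D) (F := F)) *
      QuotientGroup.mk (S.sN j)) ^ S.X.C.M i j = 1 := by
  haveI := S.HN_normal
  set a : ↥(D.monomialSubgroup F) ⧸ HN (D := D) (F := F) := QuotientGroup.mk (S.sN i) with ha_def
  set b : ↥(D.monomialSubgroup F) ⧸ HN (D := D) (F := F) := QuotientGroup.mk (S.sN j) with hb_def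
  have sq : ∀ l : Fin D.rank, (QuotientGroup.mk (S.sN l) :
      ↥(D.monomialSubgroup F) ⧸ HN (D := D) (F := F)) * QuotientGroup.mk (S.sN l) = 1 := by
    intro l
    rw [← QuotientGroup.mk_mul, QuotientGroup.eq_one_iff]
    exact S.sN_sq l
  have wsq : ∀ l : Fin D.rank, S.X.C.simple l * S.X.C.simple l = 1 := fun l =>
    S.X.C.toCoxeterSystem.simple_mul_simple_self l
  set σi := S.X.C.simple i
  set σj := S.X.C.simple j
  have hW : (σi * σj) ^ S.X.C.M i j = 1 := S.X.C.toCoxeterSystem.simple_mul_simple_pow i j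
  -- lifts of relations of the shape `v s_a = s_b v`
  have lift : ∀ (g : ↥(D.monomialSubgroup F)) (l l' : Fin D.rank),
      S.toW g * S.X.C.simple l = S.X.C.simple l' * S.toW g →
      (QuotientGroup.mk g : ↥(D.monomialSubgroup F) ⧸ HN (D := D) (F := F)) *
        QuotientGroup.mk (S.sN l) =
      QuotientGroup.mk (S.sN l') * QuotientGroup.mk g := by
    intro g l l' h
    have h1 := (QuotientGroup.eq_one_iff _).mpr (S.conj_sN_mem h)
    simp only [QuotientGroup.mk_mul, QuotientGroup.mk_inv] at h1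
    have h2 := sq l'
    calc _ = ((QuotientGroup.mk g : ↥(D.monomialSubgroup F) ⧸ HN (D := D) (F := F)) *
          QuotientGroup.mk (S.sN l) * (QuotientGroup.mk g)⁻¹ * QuotientGroup.mk (S.sN l')) *
          QuotientGroup.mk (S.sN l') * QuotientGroup.mk g := by
            rw [mul_assoc _ (QuotientGroup.mk (S.sN l')) (QuotientGroup.mk (S.sN l')), h2, mul_one,
              inv_mul_cancel_right]
      _ = _ := by rw [h1, one_mul]
  rcases Nat.even_or_odd (S.X.C.M i j) with ⟨k, hk⟩ | ⟨k, hk⟩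
  · rcases Nat.eq_zero_or_pos k with rfl | hk0
    · simp [hk]
    obtain ⟨l, rfl⟩ : ∃ l, k = l + 1 := ⟨k - 1, by omega⟩
    -- `v = (s_i s_j)^l s_i` commutes with `s_j`
    have hv : S.toW ((S.sN i * S.sN j) ^ l * S.sN i) * σj =
        σj * S.toW ((S.sN i * S.sN j) ^ l * S.sN i) := by
      rw [map_mul, map_pow, map_mul, S.toW_sN, S.toW_sN]
      obtain ⟨h1, h2⟩ := braid_group σi σj (wsq i) (wsq j) l
      have e1 : (σi * σj) ^ l * σi * σj = (σi * σj) ^ (l + 1) := by rw [pow_succ, mul_assoc]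
      have e2 : σj * ((σi * σj) ^ l * σi) = (σj * σi) ^ (l + 1) := by
        rw [← h1, ← mul_assoc, pow_succ']
      rw [e1, e2, ← (braid_group σi σj (wsq i) (wsq j) (l + 1)).2, eq_inv_iff_mul_eq_one,
        ← pow_add, ← hk]
      exact hW
    have hq := lift _ j j hv
    simp only [QuotientGroup.mk_mul, QuotientGroup.mk_pow, ← ha_def, ← hb_def] at hq
    obtain ⟨h1, h2⟩ := braid_group a b (sq i) (sq j) l
    have e1 : (a * b) ^ l * a * b = (a * b) ^ (l + 1) := by rw [pow_succ, mul_assoc]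
    have e2 : b * ((a * b) ^ l * a) = (b * a) ^ (l + 1) := by
      rw [← h1, ← mul_assoc, pow_succ']
    rw [e1, e2, ← (braid_group a b (sq i) (sq j) (l + 1)).2, eq_inv_iff_mul_eq_one,
      ← pow_add] at hq
    rw [hk]
    exact hq
  · -- `v = (s_i s_j)^k` carries `s_i` to `s_j`
    have hv : S.toW ((S.sN i * S.sN j) ^ k) * σi = σj * S.toW ((S.sN i * S.sN j) ^ k) := by
      rw [map_pow, map_mul, S.toW_sN, S.toW_sN, ← (braid_group σi σj (wsq i) (wsq j) k).1]
      have e3 : σi * (σj * σi) ^ k = σi * ((σi * σj) ^ k)⁻¹ := by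
        rw [(braid_group σi σj (wsq i) (wsq j) k).2]
      rw [e3]
      have hW' : (σi * σj) * (σi * σj) ^ (2 * k) = 1 := by rw [← pow_succ', ← hk]; exact hW
      rw [two_mul, pow_add] at hW'
      calc σi * ((σi * σj) ^ k)⁻¹
          = σj * (σj * σi) * ((σi * σj) ^ k)⁻¹ := by rw [← mul_assoc, wsq, one_mul]
        _ = σj * (σi * σj)⁻¹ * ((σi * σj) ^ k)⁻¹ := by
          rw [mul_inv_rev, inv_eq_of_mul_eq_one_right (wsq i),
            inv_eq_of_mul_eq_one_right (wsq j)]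
        _ = σj * ((σi * σj) ^ k) * (((σi * σj) ^ k)⁻¹ * (σi * σj)⁻¹ * ((σi * σj) ^ k)⁻¹) := by
          group
        _ = σj * ((σi * σj) ^ k) := by
          have e4 : ((σi * σj) ^ k)⁻¹ * (σi * σj)⁻¹ * ((σi * σj) ^ k)⁻¹ =
              ((σi * σj) ^ k * ((σi * σj) * (σi * σj) ^ k))⁻¹ := by
            rw [mul_inv_rev ((σi * σj) ^ k), mul_inv_rev (σi * σj)]
          have e5 : (σi * σj) ^ k * ((σi * σj) * (σi * σj) ^ k) = 1 := by
            rw [← mul_assoc, (Commute.pow_self (σi * σj) k).eq, mul_assoc]; exact hW'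
          rw [e4, e5, inv_one, mul_one]
    have hq := lift _ i j hv
    simp only [QuotientGroup.mk_mul, QuotientGroup.mk_pow, ← ha_def, ← hb_def] at hq
    rw [hk]
    have hb' : b⁻¹ = b := inv_eq_of_mul_eq_one_right (sq j)
    have ha' : a⁻¹ = a := inv_eq_of_mul_eq_one_right (sq i)
    have hcomm : (a * b) ^ k * a = b * (a * b) ^ k := hq
    have := (braid_group a b (sq i) (sq j) k)
    calc (a * b) ^ (2 * k + 1) = (a * b) ^ k * a * (b * (a * b) ^ k) := by
          rw [two_mul, add_assoc, pow_add, add_comm k 1, pow_add, pow_one]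
          simp only [mul_assoc]
      _ = b * (a * b) ^ k * ((a * b) ^ k * a) := by rw [hcomm]
      _ = 1 := by
          have hv' : (a * b) ^ k * a = a * ((a * b) ^ k)⁻¹ := by rw [this.2, this.1]
          have h1 : (a * b) ^ k * a * ((a * b) ^ k * a) = 1 := by
            conv_lhs => arg 2; rw [hv']
            rw [← mul_assoc, mul_assoc _ a a, sq i, mul_one, mul_inv_cancel]
          rw [← hcomm]; exact h1

/-- the kernel of `N → W` is `H` -/
theorem toW_ker : S.toW.ker = HN (D := D) (F := F) := by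
  haveI := S.HN_normal
  apply le_antisymm
  · obtain ⟨ψ, hψ⟩ : ∃ ψ : S.X.W →* ↥(D.monomialSubgroup F) ⧸ HN (D := D) (F := F),
        ∀ i, ψ (S.X.C.simple i) = QuotientGroup.mk (S.sN i) :=
      ⟨S.X.C.toCoxeterSystem.lift ⟨fun i => QuotientGroup.mk (S.sN i), fun i j => S.braid_rel i j⟩,
        fun i => CoxeterSystem.lift_apply_simple _ (fun i j => S.braid_rel i j) i⟩
    have key : ∀ y : GL D.Idx F, y ∈ S.Ns → ∃ z : ↥(D.monomialSubgroup F),
        (z : GL D.Idx F) = y ∧ ψ (S.toW z) = QuotientGroup.mk z := by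
      intro y hy
      refine S.Ns_induction (p := fun y => ∃ z : ↥(D.monomialSubgroup F),
        (z : GL D.Idx F) = y ∧ ψ (S.toW z) = QuotientGroup.mk z) ?_ ?_ ?_ ?_ hy
      · intro h hh
        refine ⟨⟨h, Subgroup.mem_sup_left hh⟩, rfl, ?_⟩
        rw [S.toW_eq (g := ⟨h, Subgroup.mem_sup_left hh⟩) (S.acts_H hh), map_one, eq_comm,
          QuotientGroup.eq_one_iff]
        exact hh
      · intro i
        refine ⟨S.sN i, rfl, ?_⟩
        rw [S.toW_sN, hψ]
      · rintro x z ⟨zx, hx, ex⟩ ⟨zz, hz, ez⟩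
        exact ⟨zx * zz, by rw [Subgroup.coe_mul, hx, hz], by
          rw [map_mul, map_mul, ex, ez, QuotientGroup.mk_mul]⟩
      · rintro x ⟨zx, hx, ex⟩
        exact ⟨zx⁻¹, by rw [Subgroup.coe_inv, hx], by
          rw [map_inv, map_inv, ex, QuotientGroup.mk_inv]⟩
    intro g hg
    obtain ⟨z, hz, hz'⟩ := key g (S.mem_Ns g.2)
    obtain rfl : z = g := Subtype.ext hz
    rw [MonoidHom.mem_ker] at hg
    rw [hg, map_one] at hz'
    exact (QuotientGroup.eq_one_iff z).mp hz'.symm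
  · intro g hg
    exact S.toW_eq (S.acts_H hg)

end Sys

end Cfsg.Agent.ChevBruhat
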