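import Cfsg.Agent.Lib.TwistedClasses

/-!
The (B,N)-pair of a group of fixed points of a twist, the torus of the fixed points, and the core of `B`.
-/

set_option autoImplicit false
set_option linter.unusedSectionVars false

namespace Cfsg.Agent.TwistedCore

open Cfsg.Lie Cfsg.Agent.ChevalleyCert Cfsg.Agent.ChevalleyCore Cfsg.Agent.ChevalleyRoots Cfsg.Agent.ChevalleyTorus
  Cfsg.Agent.ChevWeyl Cfsg.Agent.ChevBruhat Cfsg.Agent.ChevBruhatInstance

variable {D : ChevalleyDatum} {C : Cert D} {F : Type*} [Field F]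

namespace Twist

variable (T : Twist C F)

/-- membership in a double coset of `B` -/
def Cell (w : T.X.W) (g : GL D.Idx F) : Prop :=
  ∃ b ∈ D.borelSubgroup F, ∃ n : ↥(D.monomialSubgroup F), ∃ b' ∈ D.borelSubgroup F,
    T.S.toW n = w ∧ g = b * n * b'

lemma Cell.mul_left {w : T.X.W} {g b : GL D.Idx F} (hb : b ∈ D.borelSubgroup F) (h : T.Cell w g) :
    T.Cell w (b * g) := by
  obtain ⟨b1, hb1, n, b2, hb2, hw, rfl⟩ := h
  exact ⟨b * b1, mul_mem hb hb1, n, b2, hb2, hw, by group⟩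

lemma cell_step (i : Fin D.rank) {w : T.X.W} {g : GL D.Idx F} (h : T.Cell w g) :
    T.Cell (T.X.C.simple i * w) ((T.S.sN i : GL D.Idx F) * g) ∨ T.Cell w ((T.S.sN i : GL D.Idx F) * g) := by
  obtain ⟨b, hb, n, b', hb', rfl, rfl⟩ := h
  have e : (T.S.sN i : GL D.Idx F) * (b * n * b') = T.S.nn (D.simple i) 1 * b * n * b' := by
    show T.S.nn (D.simple i) 1 * (b * n * b') = _
    group
  rw [e]
  rcases T.S.rule i n hb with ⟨b₁, h1, b₂, h2, e'⟩ | ⟨b₁, h1, b₂, h2, e'⟩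
  · refine Or.inl ⟨b₁, h1, T.S.sN i * n, b₂ * b', mul_mem h2 hb', by rw [map_mul, T.S.toW_sN], ?_⟩
    rw [e', Subgroup.coe_mul]
    show _ = b₁ * (T.S.nn (D.simple i) 1 * (n : GL D.Idx F)) * (b₂ * b')
    group
  · exact Or.inr ⟨b₁, h1, n, b₂ * b', mul_mem h2 hb', rfl, by rw [e']; group⟩

lemma cell_unique {w v : T.X.W} {g : GL D.Idx F} (h : T.Cell w g) (h' : T.Cell v g) : w = v := by
  obtain ⟨b, hb, n, b1, hb1, rfl, rfl⟩ := h
  obtain ⟨b', hb', n', b1', hb1', rfl, e⟩ := h'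
  exact T.S.toW_unique hb hb' hb1 hb1' e

end Twist

namespace Classes

variable {T : Twist C F} {G1 : Subgroup (GL D.Idx F)} (K : Classes T G1)

/-- the subgroup of the Weyl group of a class -/
def WJ (J : K.κ) : Subgroup T.X.W :=
  Subgroup.closure {w | ∃ k : Fin D.rank, K.cls k = J ∧ w = T.X.C.simple k}

lemma cell_word (J : K.κ) : ∀ (l : List (Fin D.rank)), (∀ k ∈ l, K.cls (k : ℕ) = J) → ∀ {w : T.X.W} {g : GL D.Idx F},
    T.Cell w g → ∃ v ∈ K.WJ J, T.Cell (v * w) (((l.map T.S.sN).prod : GL D.Idx F) * g) := by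
  intro l
  induction l with
  | nil => exact fun _ w g h => ⟨1, one_mem _, by simpa using h⟩
  | cons i l ih =>
    intro hl w g h
    obtain ⟨v, hv, h1⟩ := ih (fun k hk => hl k (List.mem_cons_of_mem _ hk)) h
    have hi : T.X.C.simple i ∈ K.WJ J := Subgroup.subset_closure ⟨i, hl i List.mem_cons_self, rfl⟩
    simp only [List.map_cons, List.prod_cons, Subgroup.coe_mul, mul_assoc]
    rcases T.cell_step i h1 with h2 | h2
    · exact ⟨_, mul_mem hi hv, by rwa [mul_assoc]⟩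
    · exact ⟨v, hv, h2⟩

lemma cor_WJ {J : K.κ} {v : T.X.W} (hv : v ∈ K.WJ J) {r : ℕ} (hr : r < D.nroots) {j : ℕ} (hj : j < D.rank)
    (hjJ : K.cls j ≠ J) : cor D (T.X.img v r) j = cor D r j := by
  revert r
  induction hv using Subgroup.closure_induction with
  | mem x hx =>
    obtain ⟨k, hk, rfl⟩ := hx
    intro r hr
    rw [T.X.img_simple k hr, (T.X.root_facts' hr k.isLt).2.2.2.2.2 j hj,
      if_neg (fun h : j = k => hjJ (h ▸ hk)), sub_zero]
  | one => intro r _; rw [T.X.img_one]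
  | mul a b _ _ ha hb => intro r hr; rw [T.X.img_mul, ha (T.X.img_lt b hr), hb hr]
  | inv a _ ha =>
    intro r hr
    have := ha (T.X.img_lt a⁻¹ hr)
    rw [T.X.img_img_inv] at this
    exact this.symm

variable [Fintype F]

lemma WJ_fix {J : K.κ} {v : T.X.W} (hv : v ∈ K.WJ J) (hf : v ∈ T.fixW) : v = 1 ∨ v = K.cw J := by
  by_cases h1 : v = 1
  · exact Or.inl h1
  right
  obtain ⟨J', i, hi, hiJ, hsi, hsub⟩ := K.exists_class_descent hf h1
  have hall : T.X.invSet v ⊆ T.X.invSet (K.cw J) := by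
    intro r hr
    rw [T.X.mem_invSet] at hr
    rw [K.mem_cw]
    refine ⟨hr.1, fun k hk h0 => ?_⟩
    by_contra hkJ
    have h2 := K.cor_WJ hv hr.1.1 hk hkJ
    have h3 := (T.X.pos_iff hr.1.1).mp hr.1 k hk
    have h4 := (T.X.neg_iff hr.2.1).mp hr.2 k hk
    omega
  have hJ : J' = J := by
    have h2 := ((K.mem_cw J _).mp (hall hsi)).2 i hi
    rw [T.X.cor_simple hi hi, if_pos rfl] at h2
    exact hiJ.symm.trans (h2 one_ne_zero)
  subst hJ
  have heq : T.X.invSet v = T.X.invSet (K.cw J') := le_antisymm hall hsub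
  obtain ⟨-, hinv⟩ := K.step_sets hsub
  have h0 : T.X.inv (v * K.cw J') = 0 := by
    unfold Weyl.inv at hinv ⊢
    rw [heq] at hinv
    omega
  have := T.X.eq_one_of_inv_eq_zero h0
  rw [← K.cw_inv J']
  exact eq_inv_of_mul_eq_one_left this

lemma cell_rule (J : K.κ) {n : ↥(D.monomialSubgroup F)} (hn : (n : GL D.Idx F) ∈ G1) {b : GL D.Idx F}
    (hb : b ∈ D.borelSubgroup F ⊓ G1) :
    (∃ b₁ ∈ D.borelSubgroup F ⊓ G1, ∃ b₂ ∈ D.borelSubgroup F ⊓ G1,
        K.cn J * b * n = b₁ * (K.cn J * n) * b₂) ∨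
      ∃ b₁ ∈ D.borelSubgroup F ⊓ G1, ∃ b₂ ∈ D.borelSubgroup F ⊓ G1,
        K.cn J * b * n = b₁ * (n : GL D.Idx F) * b₂ := by
  set w := T.S.toW n with hw
  have hcell : T.Cell w (b * n) := ⟨b, hb.1, n, 1, one_mem _, rfl, by group⟩
  set P : ↥(D.monomialSubgroup F) := ((K.cl J).map T.S.sN).prod with hP
  have hPw : T.S.toW P = T.S.toW (K.cnN J) := by
    rw [K.cn_toW J, hP, map_list_prod, List.map_map, Twist.wd]
    congr 1
    exact List.map_congr_left fun i _ => T.S.toW_sN i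
  have hh : K.cn J * (P : GL D.Idx F)⁻¹ ∈ D.borelSubgroup F := by
    apply Sys.H_le_B
    have h1 := T.S.toW_eq_iff.mp hPw
    have := T.S.conj_H (T.S.acts_toW P) h1
    have e : (P : GL D.Idx F) * ((P : GL D.Idx F)⁻¹ * K.cn J) * (P : GL D.Idx F)⁻¹ =
        K.cn J * (P : GL D.Idx F)⁻¹ := by group
    rwa [e] at this
  obtain ⟨v, hv, hc⟩ := K.cell_word J (K.cl J) (K.cl_cls J) hcell
  have hc' : T.Cell (v * w) (K.cn J * b * n) := by
    have := hc.mul_left T hh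
    have e : K.cn J * (P : GL D.Idx F)⁻¹ * ((P : GL D.Idx F) * (b * n)) = K.cn J * b * n := by group
    rwa [e] at this
  have hg : K.cn J * b * n ∈ G1 := Subgroup.mul_mem _ (Subgroup.mul_mem _ (K.cn_G1 J) hb.2) hn
  obtain ⟨b', hb', m, hm, u, hu, e⟩ := K.exists_form1 hg
  have hfix := K.toW_fix hm
  have hu1 : u ∈ D.borelSubgroup F ⊓ G1 :=
    Subgroup.mem_inf.mpr ⟨Sys.U_le_B (T.S.Uw_le_U _ hu.1), K.UF_le hfix hu⟩
  have hmw : T.S.toW m = v * w := T.cell_unique ⟨b', hb'.1, m, u, hu1.1, rfl, e⟩ hc'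
  have hvfix : v ∈ T.fixW := by
    have : v = T.S.toW m * w⁻¹ := by rw [hmw, mul_inv_cancel_right]
    rw [this]
    exact mul_mem hfix (inv_mem (K.toW_fix hn))
  -- replace `m` by a representative of the same element
  have key : ∀ m' : ↥(D.monomialSubgroup F), (m' : GL D.Idx F) ∈ G1 → T.S.toW m' = T.S.toW m →
      ∃ b₁ ∈ D.borelSubgroup F ⊓ G1, ∃ b₂ ∈ D.borelSubgroup F ⊓ G1,
        K.cn J * b * n = b₁ * (m' : GL D.Idx F) * b₂ := by
    intro m' hm' e'
    refine ⟨b', hb', (m' : GL D.Idx F)⁻¹ * m * u, mul_mem (Subgroup.mem_inf.mpr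
      ⟨Sys.H_le_B (T.S.toW_eq_iff.mp e'), Subgroup.mul_mem _ (Subgroup.inv_mem _ hm') hm⟩) hu1, ?_⟩
    rw [e]; group
  rcases K.WJ_fix hv hvfix with rfl | rfl
  · right
    exact key n hn (by rw [hmw, one_mul])
  · left
    exact key (K.cnN J * n) (Subgroup.mul_mem _ (K.cn_G1 J) hn) (by rw [hmw, map_mul, K.cn_toW J])

include K in
lemma B1_le_G1 : D.borelSubgroup F ⊓ G1 ≤ G1 := inf_le_right

/-- the (B,N)-pair -/
noncomputable def bnPair : Cfsg.BNPair ↥G1 where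
  B := (D.borelSubgroup F ⊓ G1).subgroupOf G1
  N := (D.monomialSubgroup F ⊓ G1).subgroupOf G1
  S := Set.range fun J => (⟨K.cn J, K.cn_G1 J⟩ : ↥G1)
  sup_eq_top := by
    rw [eq_top_iff]
    rintro ⟨g, hg⟩ -
    obtain ⟨b, hb, n, hn, u, hu, rfl⟩ := K.exists_form1 hg
    have hu1 := K.UF_le (K.toW_fix hn) hu
    have h1 : (⟨b, hb.2⟩ : ↥G1) ∈ (D.borelSubgroup F ⊓ G1).subgroupOf G1 := hb
    have h2 : (⟨n, hn⟩ : ↥G1) ∈ (D.monomialSubgroup F ⊓ G1).subgroupOf G1 := ⟨n.2, hn⟩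
    have h3 : (⟨u, hu1⟩ : ↥G1) ∈ (D.borelSubgroup F ⊓ G1).subgroupOf G1 :=
      ⟨Sys.U_le_B (T.S.Uw_le_U _ hu.1), hu1⟩
    exact mul_mem (mul_mem (Subgroup.mem_sup_left h1) (Subgroup.mem_sup_right h2)) (Subgroup.mem_sup_left h3)
  conj_mem := by
    rintro n hn t ⟨htB, htN⟩
    have ht : (t : GL D.Idx F) ∈ D.diagonalSubgroup F := T.S.B_inf_N.le ⟨htB.1, htN.1⟩
    exact ⟨Sys.H_le_B (T.S.conj_H (T.S.acts_toW ⟨n, hn.1⟩) ht), (n * t * n⁻¹).2⟩
  subset := by
    rintro s ⟨J, rfl⟩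
    exact ⟨K.cn_N J, K.cn_G1 J⟩
  sq_mem := by
    rintro s ⟨J, rfl⟩
    refine ⟨?_, Subgroup.mul_mem _ (K.cn_G1 J) (K.cn_G1 J)⟩
    apply Sys.H_le_B
    have : K.cnN J * K.cnN J ∈ T.S.toW.ker := by
      rw [MonoidHom.mem_ker, map_mul, K.cn_toW J]; exact K.cl_sq J
    rw [T.S.toW_ker] at this
    exact this
  inj := by
    rintro s ⟨J, rfl⟩ s' ⟨J', rfl⟩ h
    have hH : (K.cn J)⁻¹ * K.cn J' ∈ D.diagonalSubgroup F := T.S.B_inf_N.le
      ⟨h.1, Subgroup.mul_mem _ (Subgroup.inv_mem _ (K.cn_N J)) (K.cn_N J')⟩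
    have e : T.S.toW (K.cnN J) = T.S.toW (K.cnN J') := T.S.toW_eq_iff.mpr hH
    rw [K.cn_toW J, K.cn_toW J'] at e
    obtain ⟨i, hi, hiJ⟩ := K.cls_surj J
    have h1 := K.simple_mem J hi hiJ
    rw [show K.cw J = T.wd (K.cl J') from e] at h1
    have h2 := ((K.mem_cw J' _).mp h1).2 i hi
    rw [T.X.cor_simple hi hi, if_pos rfl] at h2
    have hJ : J = J' := hiJ.symm.trans (h2 one_ne_zero)
    subst hJ; rfl
  closure_sup := by
    apply le_antisymm
    · refine sup_le ((Subgroup.closure_le _).mpr ?_) inf_le_right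
      rintro s ⟨J, rfl⟩
      exact ⟨K.cn_N J, K.cn_G1 J⟩
    · rintro ⟨g, hgG⟩ ⟨hgN, -⟩
      obtain ⟨-, -, m, hm, hmw⟩ := K.main (K.toW_fix (n := ⟨g, hgN⟩) hgG)
      have hmG := K.closure_cn_le hm
      have hS : (⟨m, hmG⟩ : ↥G1) ∈ Subgroup.closure (Set.range fun J => (⟨K.cn J, K.cn_G1 J⟩ : ↥G1)) := by
        rw [← Subgroup.mem_map_iff_mem G1.subtype_injective, MonoidHom.map_closure, ← Set.range_comp]
        exact hm
      have hH := T.S.toW_eq_iff.mp hmw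
      have h1 : (⟨m, hmG⟩ : ↥G1)⁻¹ * ⟨g, hgG⟩ ∈
          (D.borelSubgroup F ⊓ G1).subgroupOf G1 ⊓ (D.monomialSubgroup F ⊓ G1).subgroupOf G1 :=
        ⟨⟨Sys.H_le_B hH, Subgroup.mul_mem _ (Subgroup.inv_mem _ hmG) hgG⟩,
          ⟨Sys.H_le_N hH, Subgroup.mul_mem _ (Subgroup.inv_mem _ hmG) hgG⟩⟩
      have := mul_mem (Subgroup.mem_sup_left hS) (Subgroup.mem_sup_right h1)
      simpa using this
  mul_mem_union := by
    rintro s ⟨J, rfl⟩ n hn b hb
    rcases K.cell_rule J (n := ⟨n, hn.1⟩) hn.2 hb with ⟨b₁, h1, b₂, h2, e⟩ | ⟨b₁, h1, b₂, h2, e⟩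
    · exact Or.inl (DoubleCoset.mem_doubleCoset.mpr ⟨⟨b₁, h1.2⟩, h1, ⟨b₂, h2.2⟩, h2, Subtype.ext e⟩)
    · exact Or.inr (DoubleCoset.mem_doubleCoset.mpr ⟨⟨b₁, h1.2⟩, h1, ⟨b₂, h2.2⟩, h2, Subtype.ext e⟩)
  conj_ne := by
    rintro s ⟨J, rfl⟩ heq
    -- a non-trivial element of the fixed part of the class
    have hne : T.UF (K.cw J) ≠ ⊥ := by
      intro hbot
      have h1 := K.UJ_card J
      rw [hbot, Nat.card_eq_fintype_card, Fintype.card_ofSubsingleton, one_pow] at h1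
      have h2 : K.Q = 1 := by
        rcases (Nat.pow_eq_one).mp h1.symm with h | h
        · exact h
        · exact absurd h (K.inv_cw_pos J).ne'
      exact absurd h2 K.one_lt_Q.ne'
    obtain ⟨u, hu, hu1⟩ := (Subgroup.bot_or_exists_ne_one _).resolve_left hne
    have huG := K.UF_le (K.cw_fix J) hu
    have hmem : (⟨u, huG⟩ : ↥G1) ∈ (((D.borelSubgroup F ⊓ G1).subgroupOf G1 : Subgroup ↥G1) : Set ↥G1) :=
      ⟨Sys.U_le_B (T.S.Uw_le_U _ hu.1), huG⟩
    have h := Set.mem_image_of_mem (fun b => (⟨K.cn J, K.cn_G1 J⟩ : ↥G1) * b * ⟨K.cn J, K.cn_G1 J⟩) hmem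
    rw [heq] at h
    have h' : K.cn J * u * K.cn J ∈ D.borelSubgroup F := h.1
    have hsq : K.cn J * K.cn J ∈ D.diagonalSubgroup F := by
      have : K.cnN J * K.cnN J ∈ T.S.toW.ker := by
        rw [MonoidHom.mem_ker, map_mul, K.cn_toW J]; exact K.cl_sq J
      rw [T.S.toW_ker] at this
      exact this
    have h2 := mul_mem h' (inv_mem (Sys.H_le_B hsq))
    have hV := T.S.conj_Uw_mem_V (K.cnN J) (u := u) (by rw [K.cn_toW J]; exact hu.1)
    have e : K.cn J * u * K.cn J * (K.cn J * K.cn J)⁻¹ = K.cn J * u * (K.cn J)⁻¹ := by group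
    rw [e] at h2
    have h3 := Subgroup.mem_inf.mpr ⟨h2, hV⟩
    rw [T.S.B_inf_V, Subgroup.mem_bot, conj_eq_one_iff] at h3
    exact hu1 h3

/-- the core of `B¹` is trivial when the fixed part of each class meets every fundamental root -/
theorem core_eq_bot
    (coef : ∀ i < D.rank, ∃ v ∈ upSub D F i, ∃ a : F, a ≠ 0 ∧
      v * xg C (D.simple i) a ∈ T.UF (K.cw (K.cls i))) :
    ((D.borelSubgroup F ⊓ G1).subgroupOf G1).normalCore = ⊥ := by
  obtain ⟨w0, hw0, hneg, hU⟩ := T.exists_w0_fix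
  obtain ⟨m, hm, hmw⟩ := K.exists_rep hw0
  rw [eq_bot_iff]
  have hH : ∀ x ∈ ((D.borelSubgroup F ⊓ G1).subgroupOf G1).normalCore, (x : GL D.Idx F) ∈ D.diagonalSubgroup F := by
    intro x hx
    have h0 : x ∈ (D.borelSubgroup F ⊓ G1).subgroupOf G1 := Subgroup.normalCore_le _ hx
    obtain ⟨hxB, hxG⟩ : (x : GL D.Idx F) ∈ D.borelSubgroup F ⊓ G1 := h0
    obtain ⟨h, hh, u, hu, e⟩ := T.S.mem_B_iff.mp hxB
    have h1 : m * (x : GL D.Idx F) * (m : GL D.Idx F)⁻¹ ∈ D.borelSubgroup F := by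
      have := Subgroup.normalCore_le _ ((Subgroup.normalCore_normal _).conj_mem x hx ⟨m, hm⟩)
      exact this.1
    have h2 := Sys.H_le_B (T.S.conj_H (T.S.acts_toW m) hh)
    have h3 := T.S.conj_Uw_mem_V m (u := u) (by rw [hmw, ← hU]; exact hu)
    have h4 : (m : GL D.Idx F) * u * (m : GL D.Idx F)⁻¹ ∈ D.borelSubgroup F := by
      have := mul_mem (inv_mem h2) h1
      rw [e] at this
      have e2 : ((m : GL D.Idx F) * h * (m : GL D.Idx F)⁻¹)⁻¹ * ((m : GL D.Idx F) * (h * u) * (m : GL D.Idx F)⁻¹) =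
          (m : GL D.Idx F) * u * (m : GL D.Idx F)⁻¹ := by group
      rwa [e2] at this
    have h5 := Subgroup.mem_inf.mpr ⟨h4, h3⟩
    rw [T.S.B_inf_V, Subgroup.mem_bot, conj_eq_one_iff] at h5
    rw [e, h5, mul_one]
    exact hh
  intro x hx
  rw [Subgroup.mem_bot]
  have hxH := hH x hx
  obtain ⟨c, hc⟩ := (mem_H_iff C).1 hxH
  have hcomm : ∀ J : K.κ, ∀ u ∈ T.UF (K.cw J), (x : GL D.Idx F) * u * (x : GL D.Idx F)⁻¹ = u := by
    intro J u hu
    have huG := K.UF_le (K.cw_fix J) hu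
    have h1 := hH _ ((Subgroup.normalCore_normal _).conj_mem x hx ⟨u, huG⟩)
    have h1' : u * (x : GL D.Idx F) * u⁻¹ ∈ D.diagonalSubgroup F := h1
    have huU := T.S.Uw_le_U _ hu.1
    have h2 : u * ((x : GL D.Idx F) * u⁻¹ * (x : GL D.Idx F)⁻¹) ∈ D.posUnipotent F :=
      mul_mem huU (T.S.H_conj_U hxH (inv_mem huU))
    have h3 : u * ((x : GL D.Idx F) * u⁻¹ * (x : GL D.Idx F)⁻¹) ∈ D.diagonalSubgroup F := by
      have := mul_mem h1' (inv_mem hxH)
      simpa [mul_assoc] using this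
    have h4 := Subgroup.mem_inf.mpr ⟨h2, h3⟩
    rw [T.S.U_inf_H, Subgroup.mem_bot, mul_eq_one_iff_eq_inv] at h4
    rw [show (x : GL D.Idx F) * u * (x : GL D.Idx F)⁻¹ = ((x : GL D.Idx F) * u⁻¹ * (x : GL D.Idx F)⁻¹)⁻¹ by group]
    exact h4.symm
  have hchar : ∀ i < D.rank, (tchar D c (D.simple i) : F) = 1 := by
    intro i hi
    obtain ⟨v, hv, a, ha, hva⟩ := coef i hi
    have h1 := hcomm _ _ hva
    have e1 : (x : GL D.Idx F) * (v * xg C (D.simple i) a) * (x : GL D.Idx F)⁻¹ =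
        ((x : GL D.Idx F) * v * (x : GL D.Idx F)⁻¹) *
          ((x : GL D.Idx F) * xg C (D.simple i) a * (x : GL D.Idx F)⁻¹) := by group
    rw [e1, ← hc, torus_conj_xg C (simple_lt C hi), hc] at h1
    set b := (tchar D c (D.simple i) : F) * a with hb
    -- the coefficient at `p_i` is unique
    have h2 : xg C (D.simple i) (b - a) ∈ upSub D F i := by
      have h3 : xg C (D.simple i) (b - a) = ((x : GL D.Idx F) * v * (x : GL D.Idx F)⁻¹)⁻¹ * v := by
        rw [sub_eq_add_neg, ← xg_mul C, ← xg_inv C, mul_inv_eq_iff_eq_mul]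
        have := congrArg (fun z => ((x : GL D.Idx F) * v * (x : GL D.Idx F)⁻¹)⁻¹ * z) h1
        simp only [inv_mul_cancel_left] at this
        rw [this]
        simp only [mul_assoc]
      rw [h3]
      exact mul_mem (inv_mem (T.S.H_conj_upSub hxH hv)) hv
    have h4 := T.S.nn_conj_upSub ⟨i, hi⟩ h2
    obtain ⟨e0, he0, hep, -⟩ := T.S.acts_simple ⟨i, hi⟩ (D.simple i) (simple_lt C hi)
    rw [T.X.img_simple ⟨i, hi⟩ (simple_lt C hi), T.X.reflect_simple hi] at hep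
    have h5 : T.S.nn (D.simple i) 1 * xg C (D.simple i) (b - a) * (T.S.nn (D.simple i) 1)⁻¹ =
        T.S.xg (D.neg (D.simple i)) (e0 * (b - a)) := hep _
    rw [h5] at h4
    have hnegroot : D.IsNegRoot (D.neg (D.simple i)) := by
      rw [← T.X.pos_neg_iff (T.X.root_facts (simple_lt C hi)).1, (T.X.root_facts (simple_lt C hi)).2.1]
      exact T.X.simple_pos hi
    have h6 := T.S.xg_neg_notMem_B hnegroot (Sys.U_le_B (Sys.upSub_le_U _ h4))
    have h7 : b = a := sub_eq_zero.mp ((mul_eq_zero.mp h6).resolve_left he0)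
    exact mul_right_cancel₀ ha (h7.trans (one_mul a).symm)
  have hpm : ∀ i < D.rank, ∀ t : F, (x : GL D.Idx F) * xg C (D.simple i) t * (x : GL D.Idx F)⁻¹ = xg C (D.simple i) t ∧
      (x : GL D.Idx F) * xg C (D.neg (D.simple i)) t * (x : GL D.Idx F)⁻¹ = xg C (D.neg (D.simple i)) t := by
    intro i hi t
    have hp := simple_lt C hi
    refine ⟨by rw [← hc, torus_conj_xg C hp, hchar i hi, one_mul], ?_⟩
    have : tchar D c (D.neg (D.simple i)) = (tchar D c (D.simple i))⁻¹ := by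
      simp only [tchar, ← Finset.prod_inv_distrib, ← zpow_neg]
      exact Finset.prod_congr rfl fun j _ => by rw [ChevalleyRoots.cartan_neg C j.isLt hp]
    rw [← hc, torus_conj_xg C (C.neg_lt _), this, Units.val_inv_eq_inv_val, hchar i hi, inv_one, one_mul]
  have hall : ∀ r, r < D.nroots → ∀ t : F, (x : GL D.Idx F) * xg C r t * (x : GL D.Idx F)⁻¹ = xg C r t := by
    refine fun r hr => root_induction C (P := fun r => ∀ t : F,
      (x : GL D.Idx F) * xg C r t * (x : GL D.Idx F)⁻¹ = xg C r t) (fun i hi t => (hpm i hi t).1) ?_ r hr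
    intro i r hi hr ih t
    have hn : (x : GL D.Idx F) * ng C (D.simple i) 1 * (x : GL D.Idx F)⁻¹ = ng C (D.simple i) 1 := by
      conv_rhs => rw [ng, ← (hpm i hi 1).1, ← (hpm i hi (-1⁻¹)).2]
      rw [ng]; group
    have h1 : xg C (wr D i r) t = ng C (D.simple i) 1 * xg C r ((C.eta i r : F) * t) *
        (ng C (D.simple i) 1)⁻¹ := by
      rw [ng_simple_conj C hi hr, ← mul_assoc, eta_cast_sq C, one_mul]
    rw [h1]
    conv_rhs => rw [← ih ((C.eta i r : F) * t), ← hn]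
    group
  refine Subtype.ext ?_
  rw [← hc]
  apply Units.ext
  rw [coe_torus, tmat]
  refine (congrArg Matrix.diagonal (funext fun q => ?_)).trans Matrix.diagonal_one
  rcases q with j | s
  · rfl
  · have := hall s s.isLt 1
    rw [← hc, torus_conj_xg C s.isLt] at this
    have := (xg_injective C s.isLt s.isLt (by rw [mul_one]; exact (tchar D c s).ne_zero) this).2
    simpa using this

end Classes

namespace Twist

variable (T : Twist C F)

/-- the endomorphism on the parameters of the torus -/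
noncomputable def tσ : (Fin D.rank → Fˣ) →* (Fin D.rank → Fˣ) where
  toFun c j := Units.map (T.fr (T.ρi j)).toMonoidHom (c ⟨T.ρi j, (T.ρs_lt j j.isLt).2.1⟩)
  map_one' := by funext j; simp
  map_mul' c d := by funext j; simp

lemma tσ_apply (c : Fin D.rank → Fˣ) (j : Fin D.rank) :
    ((T.tσ c j : Fˣ) : F) = T.fr (T.ρi j) (c ⟨T.ρi j, (T.ρs_lt j j.isLt).2.1⟩ : F) := rfl

lemma tσ_single (i : Fin D.rank) (a : Fˣ) :
    T.tσ (Pi.mulSingle i a) =
      Pi.mulSingle (⟨T.ρs i, (T.ρs_lt i i.isLt).1⟩ : Fin D.rank) (Units.map (T.fr i).toMonoidHom a) := by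
  funext j
  apply Units.ext
  rw [T.tσ_apply]
  by_cases h : j = ⟨T.ρs i, (T.ρs_lt i i.isLt).1⟩
  · subst h
    have e : T.ρi (T.ρs i.val) = i.val := (T.ρs_lt i i.isLt).2.2.1
    rw [Pi.mulSingle_eq_same, Units.coe_map]
    simp [e]
  · rw [Pi.mulSingle_eq_of_ne h, Pi.mulSingle_eq_of_ne, Units.val_one, map_one]
    intro h2
    have e : T.ρs (T.ρi j.val) = j.val := (T.ρs_lt j j.isLt).2.2.2
    exact h (Fin.ext (by rw [← e]; exact congrArg T.ρs (congrArg Fin.val h2)))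

lemma sg_torus (c : Fin D.rank → Fˣ) : T.sg (torus D c) = torus D (T.tσ c) := by
  rw [← Finset.univ_prod_mulSingle c]
  induction (Finset.univ : Finset (Fin D.rank)) using Finset.induction_on with
  | empty => simp [T.sg_one]
  | insert a A ha ih =>
    rw [Finset.prod_insert ha, map_mul,
      T.sg_mul (T.S.H_le_group (torus_mem_H C _)) (T.S.H_le_group (torus_mem_H C _)), ih, map_mul, map_mul]
    congr 1
    rw [← hg_simple C, T.sg_hg_simple a.isLt, T.tσ_single a, ← hg_simple C]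
    rfl

end Twist

end Cfsg.Agent.TwistedCore
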