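import Cfsg.Agent.Lib.ChevalleyCells
import Cfsg.Agent.Lib.CharBasicDecomp
import Cfsg.Agent.Lib.CharBasicPerm
import Cfsg.Prelude.Def_ParabolicCharacters

/-!
The Steinberg character of a Chevalley group: values on `B`, norm one.
-/

set_option autoImplicit false
set_option linter.unusedSectionVars false
set_option linter.unusedSimpArgs false

namespace Cfsg.Agent.ChevalleySteinbergChar

open Cfsg.Lie Cfsg.Agent.ChevalleyCert Cfsg.Agent.ChevalleyRoots Cfsg.Agent.ChevalleyCells
  Cfsg.Agent.ChevBruhat Cfsg.Agent.ChevBruhat.Sys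
open scoped ComplexConjugate Classical

variable {D : ChevalleyDatum} {F : Type*} [Field F] (C : Cert D) (S : ChevBruhat.Sys D F)
include C S


omit C S in
/-- `B` inside the group -/
abbrev BS (D : ChevalleyDatum) (F : Type*) [Field F] : Subgroup ↥(D.group F) :=
  (D.borelSubgroup F).subgroupOf (D.group F)

omit C S in
/-- `H` inside `B` -/
abbrev HS (D : ChevalleyDatum) (F : Type*) [Field F] : Subgroup ↥(BS D F) :=
  ((D.diagonalSubgroup F).subgroupOf (D.group F)).subgroupOf (BS D F)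

omit C S in
/-- `P_K` inside the group -/
abbrev PS (D : ChevalleyDatum) (F : Type*) [Field F] (K : Set ℕ) : Subgroup ↥(D.group F) :=
  (D.parabolicSubgroup F K).subgroupOf (D.group F)

theorem parabolic_empty : D.parabolicSubgroup F (∅ : Set ℕ) = D.borelSubgroup F := by
  refine le_antisymm (sup_le le_rfl ((Subgroup.closure_le _).2 ?_)) le_sup_left
  rintro g ⟨j, hj, -⟩
  exact absurd hj (Set.notMem_empty j)

theorem posOn_empty (w : S.X.W) : PosOn S (∅ : Set ℕ) w := fun i hi => absurd hi (Set.notMem_empty i.val)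

/-- the Weyl group element of the cell of an element -/
noncomputable def wOf (g : ↥(D.group F)) : S.X.W := Classical.choose (cell_exists C S g.2)

theorem wOf_spec (g : ↥(D.group F)) : InCell S (g : GL D.Idx F) (wOf C S g) := Classical.choose_spec (cell_exists C S g.2)

theorem wOf_eq {g : ↥(D.group F)} {w : S.X.W} (h : InCell S (g : GL D.Idx F) w) : wOf C S g = w :=
  cell_unique C S (wOf_spec C S g) h

/-- the Weyl group element of a coset of `B` -/
noncomputable def wq (x : ↥(D.group F) ⧸ (BS D F)) : S.X.W := wOf C S x.out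

theorem wq_mk (g : ↥(D.group F)) : wq C S ((g : ↥(D.group F)) : ↥(D.group F) ⧸ (BS D F)) = wOf C S g := by
  obtain ⟨b, hb⟩ := QuotientGroup.mk_out_eq_mul (BS D F) g
  refine wOf_eq C S ?_
  show InCell S ((((g : ↥(D.group F)) : ↥(D.group F) ⧸ (BS D F)).out : ↥(D.group F)) : GL D.Idx F) _
  rw [hb]
  exact cell_mul_right C S b.2 (wOf_spec C S g)

theorem wq_smul (b : ↥(BS D F)) (x : ↥(D.group F) ⧸ (BS D F)) : wq C S ((b : ↥(D.group F)) • x) = wq C S x := by
  induction x using QuotientGroup.induction_on with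
  | H g =>
    rw [MulAction.Quotient.smul_coe, wq_mk, wq_mk]
    exact wOf_eq C S (cell_mul_left C S b.2 (wOf_spec C S g))

/-- the map of a reduced cell to the cosets of a parabolic subgroup -/
noncomputable def toP (K : Set ℕ) (x : {x : ↥(D.group F) ⧸ (BS D F) // PosOn S K (wq C S x)}) : ↥(D.group F) ⧸ (PS D F K) :=
  QuotientGroup.mk x.1.out

theorem mkP_congr (K : Set ℕ) {g g' : ↥(D.group F)} (h : ((g : ↥(D.group F)) : ↥(D.group F) ⧸ (BS D F)) = g') :
    ((g : ↥(D.group F)) : ↥(D.group F) ⧸ (PS D F K)) = g' := by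
  rw [QuotientGroup.eq] at h ⊢
  exact Subgroup.mem_subgroupOf.2 ((le_sup_left : D.borelSubgroup F ≤ _) (Subgroup.mem_subgroupOf.1 h))

theorem toP_bij (K : Set ℕ) : Function.Bijective (toP C S K) := by
  constructor
  · rintro ⟨x, hx⟩ ⟨x', hx'⟩ h
    apply Subtype.ext
    simp only [toP] at h
    rw [QuotientGroup.eq, Subgroup.mem_subgroupOf] at h
    show x = x'
    rw [← QuotientGroup.out_eq' x, ← QuotientGroup.out_eq' x', QuotientGroup.eq, Subgroup.mem_subgroupOf]
    simp only [Subgroup.coe_mul, Subgroup.coe_inv] at h ⊢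
    unfold wq at hx hx'
    have hc := wOf_spec C S x.out
    have hc' := wOf_spec C S x'.out
    obtain ⟨b, hb, n, hn, u, hu, e⟩ := hc
    obtain ⟨b', hb', n', hn', u', hu', e'⟩ := hc'
    rw [← hn] at hx
    rw [← hn'] at hx'
    have hB : ∀ {z}, z ∈ D.borelSubgroup F → z ∈ D.parabolicSubgroup F K := fun hz =>
      (le_sup_left : D.borelSubgroup F ≤ _) hz
    have hww : S.toW n = S.toW n' := by
      refine reduced_eq C S (J := (∅ : Set ℕ)) (K := K) (x := b'⁻¹ * b)
        (y := u * (((x.out : ↥(D.group F)) : GL D.Idx F)⁻¹ * ((x'.out : ↥(D.group F)) : GL D.Idx F)) * u'⁻¹) ?_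
        (mul_mem (mul_mem (hB hu) h) (inv_mem (hB hu'))) (posOn_empty C S _) hx (posOn_empty C S _) hx' ?_
      · rw [parabolic_empty C S]; exact mul_mem (inv_mem hb') hb
      · rw [e, e']; group
    have hH : (n : GL D.Idx F)⁻¹ * n' ∈ D.borelSubgroup F := H_le_B ((S.toW_eq_iff).1 hww)
    set k := (n : GL D.Idx F)⁻¹ * n' with hk
    have e2 : ((x.out : ↥(D.group F)) : GL D.Idx F)⁻¹ * ((x'.out : ↥(D.group F)) : GL D.Idx F) =
        u⁻¹ * ((n : GL D.Idx F)⁻¹ * (b⁻¹ * b') * n) * (k * u') := by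
      rw [e, e', hk]; group
    have h2 : (n : GL D.Idx F)⁻¹ * (b⁻¹ * b') * n ∈ D.parabolicSubgroup F K := by
      have : (n : GL D.Idx F)⁻¹ * (b⁻¹ * b') * n =
          u * (((x.out : ↥(D.group F)) : GL D.Idx F)⁻¹ * ((x'.out : ↥(D.group F)) : GL D.Idx F)) * (k * u')⁻¹ := by rw [e2]; group
      rw [this]
      exact mul_mem (mul_mem (hB hu) h) (inv_mem (hB (mul_mem hH hu')))
    rw [e2]
    exact mul_mem (mul_mem (inv_mem hu) (conj_mem_B C S hx (mul_mem (inv_mem hb) hb') h2)) (mul_mem hH hu')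
  · intro y
    induction y using QuotientGroup.induction_on with
    | H g =>
      obtain ⟨n, -, hn, a, ha, y, hy, e⟩ := exists_reduced C S g.2 (∅ : Set ℕ) K
      rw [parabolic_empty C S] at ha
      let g' : ↥(D.group F) := ⟨a * n, mul_mem (S.B_le_group ha) (S.N_le_group n.2)⟩
      have hw : wOf C S g' = S.toW n := wOf_eq C S (cell_mul_left C S ha (cell_N C S n))
      refine ⟨⟨((g' : ↥(D.group F)) : ↥(D.group F) ⧸ (BS D F)), by rw [wq_mk, hw]; exact hn⟩, ?_⟩
      show ((((g' : ↥(D.group F)) : ↥(D.group F) ⧸ (BS D F)).out : ↥(D.group F)) : ↥(D.group F) ⧸ (PS D F K)) = g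
      rw [mkP_congr C S K (QuotientGroup.out_eq' ((g' : ↥(D.group F)) : ↥(D.group F) ⧸ (BS D F))), QuotientGroup.eq, Subgroup.mem_subgroupOf]
      simp only [Subgroup.coe_mul, Subgroup.coe_inv, g', e]
      convert hy using 1
      group

theorem toP_smul (K : Set ℕ) (b : ↥(BS D F)) (x : ↥(D.group F) ⧸ (BS D F)) (hx : PosOn S K (wq C S x))
    (hbx : PosOn S K (wq C S ((b : ↥(D.group F)) • x))) :
    toP C S K ⟨(b : ↥(D.group F)) • x, hbx⟩ = (b : ↥(D.group F)) • toP C S K ⟨x, hx⟩ := by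
  simp only [toP, MulAction.Quotient.smul_coe]
  refine mkP_congr C S K ?_
  rw [QuotientGroup.out_eq']
  conv_lhs => rw [← QuotientGroup.out_eq' x]
  rw [MulAction.Quotient.smul_coe]

theorem fix_P (K : Set ℕ) (b : ↥(BS D F)) :
    Nat.card (MulAction.fixedBy (↥(D.group F) ⧸ (PS D F K)) (b : ↥(D.group F))) =
      Nat.card {x : ↥(D.group F) ⧸ (BS D F) // (b : ↥(D.group F)) • x = x ∧ PosOn S K (wq C S x)} := by
  symm
  refine Nat.card_eq_of_bijective (fun x => ⟨toP C S K ⟨x.1, x.2.2⟩, ?_⟩) ⟨?_, ?_⟩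
  · rw [MulAction.mem_fixedBy, ← toP_smul C S K b x.1 x.2.2 (by rw [x.2.1]; exact x.2.2)]
    exact congrArg _ (Subtype.ext x.2.1)
  · rintro ⟨x, hx⟩ ⟨x', hx'⟩ h
    have h2 := (toP_bij C S K).1 (congrArg Subtype.val h)
    have h3 : x = x' := congrArg (fun z => z.val) h2
    exact Subtype.ext h3
  · rintro ⟨y, hy⟩
    obtain ⟨⟨x, hx⟩, rfl⟩ := (toP_bij C S K).2 y
    refine ⟨⟨x, ?_, hx⟩, rfl⟩
    rw [MulAction.mem_fixedBy, ← toP_smul C S K b x hx (by rw [wq_smul]; exact hx)] at hy
    exact congrArg Subtype.val ((toP_bij C S K).1 hy)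

/-- fundamental roots kept positive -/
noncomputable def posSet (w : S.X.W) : Finset ℕ :=
  (Finset.range D.rank).filter fun i => D.IsPosRoot (S.X.img w (D.simple i))

/-- all positive roots are made negative -/
def AllNeg (w : S.X.W) : Prop := ∀ r, D.IsPosRoot r → D.IsNegRoot (S.X.img w r)

theorem posOn_iff {J : Finset ℕ} (hJ : J ⊆ Finset.range D.rank) (w : S.X.W) :
    PosOn S (↑J : Set ℕ) w ↔ J ⊆ posSet S w := by
  constructor
  · intro h i hi
    exact Finset.mem_filter.2 ⟨hJ hi, h ⟨i, Finset.mem_range.1 (hJ hi)⟩ hi⟩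
  · intro h i hi
    exact (Finset.mem_filter.1 (h hi)).2

theorem posSet_eq_empty (w : S.X.W) : posSet S w = ∅ ↔ AllNeg S w := by
  constructor
  · intro h r hr
    refine (S.X.pos_or_neg (S.X.img_lt w hr.1)).resolve_left fun hp => ?_
    obtain ⟨hp', hlt⟩ := (ChevalleyRoots.isPos C).1 hr
    have hz : ∀ k ∈ Finset.range D.rank, C.coef r k = 0 → True := fun _ _ _ => trivial
    have hle : ∀ j < D.rank, C.coef (S.X.img w r) j ≤ 0 := by
      intro j hj
      rw [coef_img C S w hr.1 j hj]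
      refine Finset.sum_nonpos fun k hk => ?_
      have hk' := Finset.mem_range.1 hk
      have hn : D.IsNegRoot (S.X.img w (D.simple k)) :=
        (S.X.pos_or_neg (S.X.img_lt w (S.X.simple_lt hk'))).resolve_left fun h' => by
          have : k ∈ posSet S w := Finset.mem_filter.2 ⟨hk, h'⟩
          rw [h] at this
          exact absurd this (Finset.notMem_empty k)
      have h1 := C.coef_pos r k hp' hlt hk'
      have h2 := C.coef_pos _ j ((ChevalleyRoots.isPos C).1 ((S.X.pos_neg_iff hn.1).mpr hn)).1 (C.neg_lt _) hj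
      rw [C.coef_neg _ j hn.1 hj] at h2
      nlinarith
    obtain ⟨hp1, hp2⟩ := (ChevalleyRoots.isPos C).1 hp
    have hzero : ∀ j < D.rank, C.coef (S.X.img w r) j = 0 := fun j hj =>
      le_antisymm (hle j hj) (C.coef_pos _ j hp1 hp2 hj)
    have h3 : D.IsPosRoot (D.neg (S.X.img w r)) := by
      have : D.neg (S.X.img w r) = S.X.img w r := coef_inj C (C.neg_lt _) hp2 fun j hj => by
        rw [C.coef_neg _ j hp2 hj, hzero j hj, neg_zero]
      rw [this]; exact hp
    exact S.X.not_pos_and_neg hp ((S.X.pos_neg_iff hp2).mp h3)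
  · intro h
    refine Finset.filter_eq_empty_iff.2 fun i hi hp => ?_
    exact S.X.not_pos_and_neg hp (h _ (S.X.simple_pos (Finset.mem_range.1 hi)))

theorem allNeg_inv {w : S.X.W} (h : AllNeg S w) : AllNeg S w⁻¹ := by
  intro r hr
  refine (S.X.pos_or_neg (S.X.img_lt _ hr.1)).resolve_left fun hp => ?_
  have := h _ hp
  rw [S.X.img_img_inv] at this
  exact S.X.not_pos_and_neg hr this

theorem allNeg_unique {w w' : S.X.W} (h : AllNeg S w) (h' : AllNeg S w') : w = w' := by
  rw [← inv_mul_eq_one]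
  apply S.X.inv_eq_zero_iff.mp
  rw [ChevWeyl.Weyl.inv, Finset.card_eq_zero, Finset.eq_empty_iff_forall_notMem]
  intro r hr
  rw [S.X.mem_invSet, S.X.img_mul] at hr
  have h1 := h' r hr.1
  have h2 := allNeg_inv C S h _ ((S.X.pos_neg_iff h1.1).mpr h1)
  rw [S.X.img_neg _ h1.1] at h2
  exact S.X.not_pos_and_neg ((S.X.pos_neg_iff hr.2.1).mpr hr.2) h2

theorem sum_sign (J₀ : Finset ℕ) (R : Finset ℕ) (hR : R ⊆ J₀) :
    (∑ J ∈ J₀.powerset, if J ⊆ R then (-1 : ℂ) ^ J.card else 0) = if R = ∅ then 1 else 0 := by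
  rw [← Finset.sum_filter, show J₀.powerset.filter (· ⊆ R) = R.powerset by
    ext J; simp only [Finset.mem_filter, Finset.mem_powerset]
    exact ⟨fun h => h.2, fun h => ⟨h.trans hR, h⟩⟩]
  have h := congrArg (Int.cast : ℤ → ℂ) (Finset.sum_powerset_neg_one_pow_card (x := R))
  push_cast at h
  exact h

theorem st_B [Fintype F] (b : ↥(BS D F)) :
    D.steinbergCharacter F (b : ↥(D.group F)) =
      (Nat.card {x : ↥(D.group F) ⧸ (BS D F) // (b : ↥(D.group F)) • x = x ∧ AllNeg S (wq C S x)} : ℂ) := by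
  have := Fintype.ofFinite (↥(D.group F) ⧸ (BS D F))
  simp only [ChevalleyDatum.steinbergCharacter, Cfsg.fixedPointCharacter]
  have hcard : ∀ P : ↥(D.group F) ⧸ (BS D F) → Prop, (Nat.card {x : ↥(D.group F) ⧸ (BS D F) // (b : ↥(D.group F)) • x = x ∧ P x} : ℂ) =
      ∑ x ∈ Finset.univ.filter (fun x : ↥(D.group F) ⧸ (BS D F) => (b : ↥(D.group F)) • x = x), if P x then (1 : ℂ) else 0 := by
    intro P
    rw [Finset.sum_boole, Finset.filter_filter, Nat.card_eq_fintype_card, Fintype.card_subtype]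
  have e : ∀ J : Finset ℕ, (Nat.card (MulAction.fixedBy
      (↥(D.group F) ⧸ D.parabolicIn F J) (b : ↥(D.group F))) : ℂ) = _ :=
    fun J => (congrArg (fun z : ℕ => (z : ℂ)) (fix_P C S (↑J : Set ℕ) b)).trans (hcard _)
  simp only [e]
  simp only [Finset.mul_sum]
  rw [Finset.sum_comm, hcard]
  refine Finset.sum_congr rfl fun x _ => ?_
  have h := sum_sign C S (Finset.range D.rank) (posSet S (wq C S x)) (Finset.filter_subset _ _)
  simp only [posSet_eq_empty C S] at h
  rw [← h]
  refine Finset.sum_congr rfl fun J hJ => ?_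
  simp only [posOn_iff C S (Finset.mem_powerset.1 hJ)]
  split <;> simp

theorem st_B_eq [Fintype F] (b : ↥(BS D F)) :
    D.steinbergCharacter F (b : ↥(D.group F)) = Cfsg.fixedPointCharacter (HS D F) b := by
  rw [st_B C S b]
  obtain ⟨w0, hw0⟩ := S.exists_w0
  obtain ⟨n0, hn0⟩ := S.toW_surjective w0
  have hH : ∀ h ∈ D.diagonalSubgroup F, (n0 : GL D.Idx F)⁻¹ * h * n0 ∈ D.borelSubgroup F := fun h hh => by
    have h2 := S.conj_H ((S.acts_toW n0).inv S) hh
    exact H_le_B (by simpa using h2)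
  let mk0 : ↥(BS D F) → ↥(D.group F) := fun a => (a : ↥(D.group F)) * ⟨n0, S.N_le_group n0.2⟩
  have hwd : ∀ a a' : ↥(BS D F), a⁻¹ * a' ∈ (HS D F) → ((mk0 a : ↥(D.group F)) : ↥(D.group F) ⧸ (BS D F)) = mk0 a' := by
    intro a a' h
    rw [QuotientGroup.eq, Subgroup.mem_subgroupOf]
    have h' : ((a : ↥(D.group F)) : GL D.Idx F)⁻¹ * ((a' : ↥(D.group F)) : GL D.Idx F) ∈ D.diagonalSubgroup F := h
    have := hH _ h'
    simpa [mk0, mul_assoc] using this
  let ψ : ↥(BS D F) ⧸ (HS D F) → ↥(D.group F) ⧸ (BS D F) := Quotient.lift (fun a => ((mk0 a : ↥(D.group F)) : ↥(D.group F) ⧸ (BS D F)))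
    (fun a a' h => hwd a a' (QuotientGroup.leftRel_apply.1 h))
  have hψ : ∀ a : ↥(BS D F), ψ (a : ↥(BS D F) ⧸ (HS D F)) = ((mk0 a : ↥(D.group F)) : ↥(D.group F) ⧸ (BS D F)) := fun a => rfl
  have hinj : Function.Injective ψ := by
    intro x x' h
    induction x using QuotientGroup.induction_on with
    | H a =>
      induction x' using QuotientGroup.induction_on with
      | H a' =>
        rw [hψ, hψ, QuotientGroup.eq, Subgroup.mem_subgroupOf] at h
        rw [QuotientGroup.eq]
        show ((a : ↥(D.group F)) : GL D.Idx F)⁻¹ * ((a' : ↥(D.group F)) : GL D.Idx F) ∈ D.diagonalSubgroup F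
        set z := ((a : ↥(D.group F)) : GL D.Idx F)⁻¹ * ((a' : ↥(D.group F)) : GL D.Idx F) with hz
        have hzB : z ∈ D.borelSubgroup F := mul_mem (inv_mem a.2) a'.2
        have h2 : (n0 : GL D.Idx F)⁻¹ * z * n0 ∈ D.borelSubgroup F := by simpa [mk0, hz, mul_assoc] using h
        obtain ⟨k, hk, u, hu, e⟩ := S.mem_B_iff.mp h2
        rw [← ChevalleyTorus.B_inf_VH C]
        refine ⟨hzB, ?_⟩
        have e2 : z = ((n0 : GL D.Idx F) * k * (n0 : GL D.Idx F)⁻¹) * ((n0 : GL D.Idx F) * u * (n0 : GL D.Idx F)⁻¹) := by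
          have : z = (n0 : GL D.Idx F) * ((n0 : GL D.Idx F)⁻¹ * z * n0) * (n0 : GL D.Idx F)⁻¹ := by group
          rw [this, e]; group
        rw [e2]
        refine mul_mem (Subgroup.mem_sup_right (S.conj_H (S.acts_toW n0) hk)) (Subgroup.mem_sup_left ?_)
        refine S.conj_Uw_mem_V n0 ?_
        have hU : D.posUnipotent F ≤ S.Uw (S.toW n0) := (Subgroup.closure_le _).mpr fun g ⟨r, t, hr, hg⟩ =>
          Subgroup.subset_closure ⟨r, t, S.X.mem_invSet.mpr ⟨hr, hn0 ▸ hw0 r hr⟩, S.eq_xg.mp hg⟩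
        exact hU hu
  have hsmul : ∀ x, ψ (b • x) = (b : ↥(D.group F)) • ψ x := by
    intro x
    induction x using QuotientGroup.induction_on with
    | H a => rw [MulAction.Quotient.smul_coe, hψ, hψ, MulAction.Quotient.smul_coe]; exact congrArg _ (mul_assoc _ _ _)
  have hneg : ∀ x, AllNeg S (wq C S (ψ x)) := by
    intro x
    induction x using QuotientGroup.induction_on with
    | H a =>
      rw [hψ, wq_mk, wOf_eq C S (cell_mul_left C S a.2 (cell_N C S n0) : InCell S ((mk0 a : ↥(D.group F)) : GL D.Idx F) _), hn0]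
      exact hw0
  rw [Cfsg.fixedPointCharacter, Nat.cast_inj]
  symm
  refine Nat.card_eq_of_bijective (fun x => ⟨ψ x.1, ?_, hneg _⟩) ⟨?_, ?_⟩
  · rw [← hsmul, MulAction.mem_fixedBy.1 x.2]
  · exact fun x x' h => Subtype.ext (hinj (congrArg Subtype.val h))
  · rintro ⟨y, hy, hyn⟩
    induction y using QuotientGroup.induction_on with
    | H g =>
      rw [wq_mk] at hyn
      obtain ⟨a, ha, n, hn, u, hu, e⟩ := wOf_spec C S g
      rw [← hn] at hyn
      have hnn : (n0 : GL D.Idx F)⁻¹ * n ∈ D.borelSubgroup F := by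
        refine H_le_B ((S.toW_eq_iff).1 ?_)
        rw [hn0]
        exact allNeg_unique C S hw0 hyn
      have hg2 : ψ ((⟨⟨a, S.B_le_group ha⟩, ha⟩ : ↥(BS D F)) : ↥(BS D F) ⧸ (HS D F)) = ((g : ↥(D.group F)) : ↥(D.group F) ⧸ (BS D F)) := by
        rw [hψ, QuotientGroup.eq, Subgroup.mem_subgroupOf]
        simp only [mk0, Subgroup.coe_mul, Subgroup.coe_inv, e]
        convert mul_mem hnn hu using 1
        group
      refine ⟨⟨((⟨⟨a, S.B_le_group ha⟩, ha⟩ : ↥(BS D F)) : ↥(BS D F) ⧸ (HS D F)), MulAction.mem_fixedBy.2 (hinj ?_)⟩,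
        Subtype.ext hg2⟩
      rw [hsmul, hg2]
      exact hy

theorem st_one [Fintype F] : D.steinbergCharacter F 1 = (Fintype.card F : ℂ) ^ (D.nroots / 2) := by
  rw [show (1 : ↥(D.group F)) = ((1 : ↥(BS D F)) : ↥(D.group F)) from rfl, st_B_eq C S]
  rw [Cfsg.fixedPointCharacter, ← Nat.cast_pow, Nat.cast_inj]
  rw [MulAction.fixedBy_one_eq_univ, Nat.card_coe_set_eq, Set.ncard_univ]
  have h := Subgroup.card_eq_card_quotient_mul_card_subgroup (HS D F)
  rw [Nat.card_congr (Subgroup.subgroupOfEquivOfLe S.B_le_group).toEquiv,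
    show Nat.card (HS D F) = Nat.card (D.diagonalSubgroup F) from
      (Nat.card_congr (Subgroup.subgroupOfEquivOfLe (H := (D.diagonalSubgroup F).subgroupOf (D.group F))
        (K := BS D F) (fun x hx => H_le_B hx)).toEquiv).trans
        (Nat.card_congr (Subgroup.subgroupOfEquivOfLe S.H_le_group).toEquiv), S.card_B,
    ChevalleyUnipotent.card_U C] at h
  exact (Nat.eq_of_mul_eq_mul_right Nat.card_pos h).symm

/-- double coset representatives -/
theorem orbit_count [Fintype F] (J K : Set ℕ) :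
    Nat.card (MulAction.orbitRel.Quotient ↥(D.group F) ((↥(D.group F) ⧸ (PS D F J)) × (↥(D.group F) ⧸ (PS D F K)))) =
      Nat.card {w : S.X.W // PosOn S J w⁻¹ ∧ PosOn S K w} := by
  choose rep hrep using S.toW_surjective
  let rg : S.X.W → ↥(D.group F) := fun w => ⟨rep w, S.N_le_group (rep w).2⟩
  symm
  refine Nat.card_eq_of_bijective
    (fun w : {w : S.X.W // PosOn S J w⁻¹ ∧ PosOn S K w} =>
      (⟦(((1 : ↥(D.group F)) : ↥(D.group F) ⧸ (PS D F J)), ((rg w.1 : ↥(D.group F)) : ↥(D.group F) ⧸ (PS D F K)))⟧ :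
        MulAction.orbitRel.Quotient ↥(D.group F) ((↥(D.group F) ⧸ (PS D F J)) × (↥(D.group F) ⧸ (PS D F K))))) ⟨?_, ?_⟩
  · rintro ⟨w, hw1, hw2⟩ ⟨w', hw1', hw2'⟩ h
    apply Subtype.ext
    obtain ⟨g, hg⟩ := MulAction.orbitRel_apply.1 (Quotient.exact h)
    simp only [Prod.smul_mk, Prod.mk.injEq, MulAction.Quotient.smul_coe, smul_eq_mul, mul_one] at hg
    obtain ⟨h1, h2⟩ := hg
    rw [QuotientGroup.eq, Subgroup.mem_subgroupOf] at h1 h2
    simp only [rg, Subgroup.coe_mul, Subgroup.coe_inv, Subgroup.coe_one, mul_one] at h1 h2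
    show w = w'
    rw [← hrep w, ← hrep w']
    symm
    refine reduced_eq C S (J := J) (K := K) (x := (g : GL D.Idx F))
      (y := ((g : GL D.Idx F) * (rep w' : GL D.Idx F))⁻¹ * (rep w : GL D.Idx F)) ?_ h2
      (by rw [hrep]; exact hw1') (by rw [hrep]; exact hw2') (by rw [hrep]; exact hw1)
      (by rw [hrep]; exact hw2) ?_
    · simpa using inv_mem h1
    · group
  · intro q
    induction q using Quotient.inductionOn with
    | h p =>
      obtain ⟨x, y⟩ := p
      induction x using QuotientGroup.induction_on with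
      | H a =>
        induction y using QuotientGroup.induction_on with
        | H c =>
          obtain ⟨n, hn1, hn2, u, hu, v, hv, e⟩ := exists_reduced C S (a⁻¹ * c).2 J K
          refine ⟨⟨S.toW n, hn1, hn2⟩, Quotient.sound ?_⟩
          show MulAction.orbitRel _ _ _ _
          rw [MulAction.orbitRel_apply]
          have huG : u ∈ D.group F := ChevalleyParabolicBN.parabolic_le_group C S J hu
          refine ⟨(a * ⟨u, huG⟩)⁻¹, ?_⟩
          simp only [Prod.smul_mk, MulAction.Quotient.smul_coe, smul_eq_mul, Prod.mk.injEq]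
          have hk : (rep (S.toW n) : GL D.Idx F)⁻¹ * n ∈ D.parabolicSubgroup F K :=
            H_le_parabolic C S K ((S.toW_eq_iff).1 (hrep _))
          simp only [Subgroup.coe_mul, Subgroup.coe_inv] at e
          have e' : ((c : ↥(D.group F)) : GL D.Idx F) = (a : GL D.Idx F) * (u * n * v) := by rw [← e]; group
          refine ⟨?_, ?_⟩ <;> rw [QuotientGroup.eq, Subgroup.mem_subgroupOf] <;>
            simp only [rg, Subgroup.coe_mul, Subgroup.coe_inv, Subgroup.coe_one]
          · convert hu using 1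
            group
          · convert inv_mem (mul_mem hk hv) using 1
            rw [e']
            group

theorem classInner_perm [Fintype F] (J K : Set ℕ) :
    Cfsg.classInner (Cfsg.fixedPointCharacter ((PS D F J))) (Cfsg.fixedPointCharacter ((PS D F K))) =
      (Nat.card {w : S.X.W // PosOn S J w⁻¹ ∧ PosOn S K w} : ℂ) := by
  rw [← orbit_count C S J K, ← CharBasicPerm.classInner_fixedBy_one]
  refine congrArg _ (Finset.sum_congr rfl fun g _ => ?_)
  simp only [Cfsg.fixedPointCharacter]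
  rw [map_natCast, map_one, mul_one, ← Nat.cast_mul, ← Nat.card_prod]
  congr 1
  exact Nat.card_congr ((Equiv.Set.prod _ _).symm.trans (Equiv.setCongr (by
    ext p; simp [Prod.ext_iff])))

theorem st_eq [Fintype F] : D.steinbergCharacter F =
    ∑ J ∈ (Finset.range D.rank).powerset,
      (((-1) ^ J.card : ℤ) : ℂ) • Cfsg.fixedPointCharacter (D.parabolicIn F J) := by
  funext g
  simp [ChevalleyDatum.steinbergCharacter, Finset.sum_apply]

theorem st_gen [Fintype F] : Cfsg.IsGeneralizedCharacter ↥(D.group F) (D.steinbergCharacter F) := by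
  rw [st_eq C S]
  exact CharBasicDecomp.isGeneralizedCharacter_sum _ _ fun J _ => CharBasicDecomp.isGeneralizedCharacter_zsmul
    (CharBasicDecomp.isGeneralizedCharacter_of_isCharacter (CharBasicPerm.isCharacter_fixedBy _)) _

theorem st_norm [Fintype F] : Cfsg.classInner (D.steinbergCharacter F) (D.steinbergCharacter F) = 1 := by
  haveI : Finite S.X.W := Finite.of_injective _ S.X.ρ_injective
  letI : Fintype S.X.W := Fintype.ofFinite _
  simp only [st_eq C S, CharBasicOrth.classInner_sum_left, CharBasicOrth.classInner_sum_right,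
    CharBasicOrth.classInner_smul_left, CharBasicOrth.classInner_smul_right, map_intCast,
    ChevalleyDatum.parabolicIn, classInner_perm C S, Int.cast_pow, Int.cast_neg, Int.cast_one]
  have hcount : ∀ J K : Set ℕ, (Nat.card {w : S.X.W // PosOn S J w⁻¹ ∧ PosOn S K w} : ℂ) =
      ∑ w : S.X.W, if PosOn S J w⁻¹ ∧ PosOn S K w then (1 : ℂ) else 0 := fun J K => by
    rw [Finset.sum_boole, Nat.card_eq_fintype_card, Fintype.card_subtype]
  simp only [hcount, Finset.mul_sum]
  rw [Finset.sum_congr rfl fun J _ => Finset.sum_comm, Finset.sum_comm]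
  obtain ⟨w0, hw0⟩ := S.exists_w0
  rw [Finset.sum_eq_single w0]
  rotate_left
  · intro w _ hw
    have hne : posSet S w⁻¹ ≠ ∅ := fun h => hw (allNeg_unique C S
      (by simpa using allNeg_inv C S ((posSet_eq_empty C S w⁻¹).1 h)) hw0)
    refine Finset.sum_eq_zero fun J hJ => ?_
    by_cases hJw : PosOn S (↑J : Set ℕ) w
    · have h := sum_sign C S (Finset.range D.rank) (posSet S w⁻¹) (Finset.filter_subset _ _)
      rw [if_neg hne] at h
      refine Eq.trans (Finset.sum_congr rfl fun K hK => ?_)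
        (show ∑ K ∈ (Finset.range D.rank).powerset, (-1 : ℂ) ^ J.card *
          (if K ⊆ posSet S w⁻¹ then (-1 : ℂ) ^ K.card else 0) = 0 by rw [← Finset.mul_sum, h, mul_zero])
      simp only [hJw, and_true, posOn_iff C S (Finset.mem_powerset.1 hK), mul_ite, mul_one, mul_zero, map_pow, map_neg,
        map_one]
    · exact Finset.sum_eq_zero fun K _ => by simp [hJw]
  · intro h; exact absurd (Finset.mem_univ _) h
  have h1 : posSet S w0 = ∅ := (posSet_eq_empty C S w0).2 hw0
  have h2 : posSet S w0⁻¹ = ∅ := (posSet_eq_empty C S _).2 (allNeg_inv C S hw0)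
  have hJ : ∀ J ∈ (Finset.range D.rank).powerset,
      (PosOn S (↑J : Set ℕ) w0⁻¹ ↔ J = ∅) ∧ (PosOn S (↑J : Set ℕ) w0 ↔ J = ∅) := fun J hJ => by
    rw [posOn_iff C S (Finset.mem_powerset.1 hJ), posOn_iff C S (Finset.mem_powerset.1 hJ), h1, h2,
      Finset.subset_empty]
    exact ⟨Iff.rfl, Iff.rfl⟩
  rw [Finset.sum_eq_single ∅, Finset.sum_eq_single ∅]
  · simp [posOn_empty C S w0, posOn_empty C S w0⁻¹]
  · intro K hK hne; simp [(hJ K hK).1, (hJ K hK).2, hne]
  · intro h; simp at h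
  · intro J hJ' hne
    exact Finset.sum_eq_zero fun K _ => by simp [(hJ J hJ').1, (hJ J hJ').2, hne]
  · intro h; simp at h

theorem st_irr [Fintype F] : Cfsg.IsIrrCharacter ↥(D.group F) (D.steinbergCharacter F) := by
  rcases CharBasicDecomp.eq_or_neg_irr_of_norm_one (st_gen C S) (st_norm C S) with ⟨χ, hχ, h | h⟩
  · exact h ▸ hχ
  · obtain ⟨m, hm, hm1⟩ := CharBasic.isIrrCharacter_apply_one hχ
    have h1 := congrFun h 1
    rw [st_one C S, Pi.neg_apply, hm1, ← Nat.cast_pow, eq_neg_iff_add_eq_zero, ← Nat.cast_add, Nat.cast_eq_zero] at h1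
    omega

end Cfsg.Agent.ChevalleySteinbergChar
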