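import Cfsg.Agent.Lib.ChevE6Twist14

/-!
The Steinberg group of type E₆ maps into the Chevalley group of type E₇, carrying twisting elements.
-/

set_option autoImplicit false
set_option maxRecDepth 100000

namespace Cfsg.Agent.ChevE6InE7Twist14

open Cfsg.Lie Cfsg.Agent.ChevalleyCert Cfsg.Agent.ChevalleyCore Cfsg.Agent.ChevalleyRoots
open Cfsg.Agent.ChevalleyCheck Cfsg.Agent.ChevalleyCheckSound Cfsg.Agent.ChevalleyTorus
open Cfsg.Agent.StBasic Cfsg.Agent.StClosedADE Cfsg.Agent.StCheckADE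
open Cfsg.Agent.ChevRootCoord68 (ev wact)
open Cfsg.Agent.ChevWeyl Cfsg.Agent.ChevBruhat
open Cfsg.Agent.ChevTorusTwist14 (chi stPsi)
open Cfsg.Agent.ChevalleyTorusCard (act)
open Cfsg.Agent.ChevFieldAut77 (psi)

/-- the roots of E₆ inside E₇ -/
def idx : List ℕ :=
  [6, 10, 13, 15, 16, 19, 21, 22, 24, 25, 26, 28, 29, 30, 31, 32, 35, 37, 38, 40, 41, 42, 44, 45, 46, 47, 49, 50, 51, 52, 54, 55, 56, 58, 59, 61, 64, 66, 67, 69, 70, 71, 73, 74, 75, 76, 78, 79, 80, 81, 83, 84, 85, 87, 88, 90, 93, 94, 95, 96, 97, 99, 100, 101, 103, 104, 106, 109, 110, 112, 115, 119]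

/-- `idx` maps roots of E₆ to roots of E₇ respecting fundamental roots and constants -/
def chk : Bool :=
  ((List.range chevE6.rank).all fun i => Nat.beq (idx.getD (chevE6.simple i) 0) (chevE7.simple i)) &&
  ((List.range chevE6.nroots).all fun r =>
    let a := idx.getD r 0
    Nat.blt a 126 && Nat.beq (idx.getD (negA chevE6 r) 0) (125 - a) &&
    (List.range chevE6.nroots).all fun s =>
      Nat.beq s r || Nat.beq s (negA chevE6 r) ||
        (let b := idx.getD s 0
         let c := hd ChevalleyDataE6.tables r s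
         !Nat.beq b a && !Nat.beq b (125 - a) && Nat.beq (hd ChevalleyDataE7.tables a b)
          (cond (Nat.beq c 0) 0 ((idx.getD (c / 16 - 1) 0 + 1) * 16 + c % 16))))

theorem chk_ok : chk = true := by decide +kernel

theorem coef_idx : ∀ (r : Fin chevE6.nroots) (j : Fin chevE7.rank),
    ChevalleyDataE7.cert.coef (idx.getD r.val 0) j.val =
      if j.val < 6 then ChevalleyDataE6.cert.coef r.val j.val else 0 := by decide +kernel

theorem emb_root {r : ℕ} (hr : r < chevE6.nroots) :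
    idx.getD r 0 < chevE7.nroots ∧ idx.getD (chevE6.neg r) 0 = chevE7.neg (idx.getD r 0) := by
  have hl := chk_ok
  simp only [chk, Bool.and_eq_true] at hl
  have h := allR hl.2 hr
  simp only [Bool.and_eq_true, Nat.blt_eq, Nat.beq_eq, negA, ← ChevalleyDataE6.cert.neg_eq r hr] at h
  refine ⟨h.1.1, h.1.2.trans ?_⟩
  rw [ChevalleyDataE7.cert.neg_eq _ (show idx.getD r 0 < chevE7.nroots from h.1.1)]
  rfl

theorem emb_simple {i : ℕ} (hi : i < chevE6.rank) : idx.getD (chevE6.simple i) 0 = chevE7.simple i := by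
  have hl := chk_ok
  simp only [chk, Bool.and_eq_true] at hl
  simpa using allR hl.1 hi

theorem emb_pair {r s : ℕ} (hr : r < chevE6.nroots) (hs : s < chevE6.nroots) (h1 : s ≠ r)
    (h2 : s ≠ chevE6.neg r) :
    idx.getD s 0 ≠ idx.getD r 0 ∧ idx.getD s 0 ≠ chevE7.neg (idx.getD r 0) ∧
      hdN chevE7 (idx.getD r 0) (idx.getD s 0) = (hdN chevE6 r s).map fun q => (idx.getD q.1 0, q.2) := by
  have ha := (emb_root hr).1
  have hl := chk_ok
  simp only [chk, Bool.and_eq_true] at hl
  have h0 := allR hl.2 hr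
  simp only [Bool.and_eq_true] at h0
  have h := allR h0.2 hs
  simp only [Bool.or_eq_true, Bool.and_eq_true, Bool.not_eq_true', Bool.eq_false_iff, ne_eq, Nat.beq_eq,
    negA, ← ChevalleyDataE6.cert.neg_eq r hr, h1, h2, false_or] at h
  obtain ⟨⟨g1, g2⟩, g3⟩ := h
  refine ⟨g1, ?_, ?_⟩
  · rw [ChevalleyDataE7.cert.neg_eq _ ha]
    exact g2
  rw [← hd_spec (T := ChevalleyDataE7.tables) ChevalleyDataE7.rows ha,
    ← hd_spec (T := ChevalleyDataE6.tables) ChevalleyDataE6.rows hr s, g3, dec, dec]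
  by_cases hc : hd ChevalleyDataE6.tables r s = 0
  · simp [hc]
  rw [show Nat.beq (hd ChevalleyDataE6.tables r s) 0 = false from Bool.eq_false_iff.2 (by simpa using hc),
    Bool.cond_false, if_neg hc, if_neg (by omega), Option.map_some]
  refine congrArg some (Prod.ext ?_ ?_)
  · simp only; omega
  · simp only; omega

variable (K : Type*) [Field K]

theorem emb_commWord {r s : ℕ} (hr : r < chevE6.nroots) (hs : s < chevE6.nroots)
    (h1 : s ≠ r) (h2 : s ≠ chevE6.neg r) (t u : K) :
    chevE7.commWord K (idx.getD r 0) (idx.getD s 0) t u =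
      (chevE6.commWord K r s t u).map fun p => (idx.getD p.1 0, p.2) := by
  obtain ⟨g1, g2, g3⟩ := emb_pair hr hs h1 h2
  have ha := (emb_root hr).1
  have hb := (emb_root hs).1
  have hD6 := StDataADE.data_E6 ChevalleyDataE6.cert
  have hD7 := StDataADE.data_E7 ChevalleyDataE7.cert
  rcases h : hdN chevE6 r s with _ | ⟨k, q⟩ <;> rw [h] at g3
  · rw [Option.map_none] at g3
    simp only [ChevalleyDatum.commWord, commTerms_orth ChevalleyDataE6.cert hr hs ⟨h, h1, h2⟩,
      commTerms_orth ChevalleyDataE7.cert ha hb ⟨g3, g1, g2⟩, List.map_nil]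
  · rw [Option.map_some] at g3
    simp only [ChevalleyDatum.commWord, commTerms_pair hD6 hr h, commTerms_pair hD7 ha g3, List.map_cons,
      List.map_nil]

/-- images of the generators -/
def gens (p : Fin chevE6.nroots × K) : GL chevE7.Idx K :=
  xg ChevalleyDataE7.cert (idx.getD p.1.val 0) p.2

theorem lift_stX {r : ℕ} (hr : r < chevE6.nroots) (t : K) :
    FreeGroup.lift (gens K) (chevE6.stX r t) = xg ChevalleyDataE7.cert (idx.getD r 0) t := by
  rw [ChevalleyDatum.stX, dif_pos hr, FreeGroup.lift_apply_of]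
  rfl

theorem lift_stH {r : ℕ} (hr : r < chevE6.nroots) (t : K) :
    FreeGroup.lift (gens K) (chevE6.stH r t) = hg ChevalleyDataE7.cert (idx.getD r 0) t := by
  simp only [ChevalleyDatum.stH, ChevalleyDatum.hWord, ChevalleyDatum.nWord, ChevalleyDatum.stWord,
    List.cons_append, List.nil_append, List.map_cons, List.map_nil, List.prod_cons, List.prod_nil,
    mul_one, map_mul, lift_stX K hr, lift_stX K (ChevalleyDataE6.cert.neg_lt r), (emb_root hr).2, hg, ng,
    mul_assoc]

theorem gens_rels : ∀ g ∈ chevE6.steinbergRels K, FreeGroup.lift (gens K) g = 1 := by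
  rintro g ((⟨r, a, b, hr, rfl⟩ | ⟨r, s, t, u, hr, hs, h1, h2, rfl⟩) | ⟨r, a, b, hr, ha, hb, rfl⟩)
  · rw [map_mul, map_mul, map_inv, lift_stX K hr, lift_stX K hr, lift_stX K hr, xg_mul, mul_inv_cancel]
  · obtain ⟨g1, g2, -⟩ := emb_pair hr hs h1 h2
    have e : FreeGroup.lift (gens K) (chevE6.stWord (chevE6.commWord K r s t u)) =
        wg ChevalleyDataE7.cert (chevE7.commWord K (idx.getD r 0) (idx.getD s 0) t u) := by
      rw [ChevalleyDatum.stWord, map_list_prod, List.map_map, emb_commWord K hr hs h1 h2, wg, List.map_map]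
      exact congrArg List.prod (List.map_congr_left fun p hp =>
        lift_stX K (StGroup.commWord_lt ChevalleyDataE6.cert K hr hs t u p hp) _)
    simp only [map_mul, map_inv, lift_stX K hr, lift_stX K hs, e]
    rw [mul_inv_eq_one, mul_assoc _ (xg ChevalleyDataE7.cert (idx.getD s 0) u),
      comm_formula ChevalleyDataE7.cert (emb_root hr).1 (emb_root hs).1 g1 g2 t u]
    group
  · rw [map_mul, map_mul, map_inv, lift_stH K hr, lift_stH K hr, lift_stH K hr,
      hg_mul _ (emb_root hr).1 ha hb, mul_inv_cancel]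

/-- padding with ones -/
def pad : (Fin chevE6.rank → Kˣ) →* (Fin chevE7.rank → Kˣ) where
  toFun c j := if h : j.val < chevE6.rank then c ⟨j.val, h⟩ else 1
  map_one' := by funext j; split <;> simp_all
  map_mul' c d := by funext j; simp only [Pi.mul_apply]; split <;> simp_all

/-- the homomorphism -/
def emb : chevE6.SteinbergGroup K →* GL chevE7.Idx K :=
  PresentedGroup.toGroup (f := gens K) (gens_rels K)

theorem emb_x {r : ℕ} (hr : r < chevE6.nroots) (t : K) :
    emb K ((StGroup.sysSt ChevalleyDataE6.cert K).x r t) = xg ChevalleyDataE7.cert (idx.getD r 0) t :=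
  (congrArg _ rfl).trans (lift_stX K hr t)

theorem emb_mem (a : chevE6.SteinbergGroup K) : emb K a ∈ chevE7.group K := by
  have h : a ∈ Subgroup.closure {g | ∃ r, r < chevE6.nroots ∧ ∃ t : K,
      g = (StGroup.sysSt ChevalleyDataE6.cert K).x r t} :=
    (StGroup.sysSt ChevalleyDataE6.cert K).gen.symm ▸ Subgroup.mem_top a
  induction h using Subgroup.closure_induction with
  | mem x hx =>
    obtain ⟨r, hr, t, rfl⟩ := hx
    rw [emb_x K hr]
    exact xg_mem_group _ _ _
  | one => rw [map_one]; exact one_mem _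
  | mul x y _ _ hx hy => rw [map_mul]; exact mul_mem hx hy
  | inv x _ hx => rw [map_inv]; exact inv_mem hx

theorem emb_psi [Finite K] (σ : K ≃+* K) (a : chevE6.SteinbergGroup K) :
    emb K (stPsi ChevalleyDataE6.cert σ a) = psi σ (emb K a) := by
  let S := StGroup.sysSt ChevalleyDataE6.cert K
  suffices (emb K).comp (stPsi ChevalleyDataE6.cert σ) = (psi σ).comp (emb K) from DFunLike.congr_fun this a
  refine MonoidHom.eq_of_eqOn_dense S.gen ?_
  rintro _ ⟨r, hr, t, rfl⟩
  rw [MonoidHom.comp_apply, MonoidHom.comp_apply, ChevTorusTwist14.stPsi_x _ σ hr, emb_x K hr, emb_x K hr]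
  apply Units.ext
  rw [ChevFieldAut77.coe_map, coe_xg, coe_xg]
  exact (ChevFieldAut77.map_x ChevalleyDataE7.cert σ.toRingHom (emb_root hr).1 t).symm

theorem emb_h {i : ℕ} (hi : i < chevE6.rank) (t : K) :
    emb K (StBasic.h (StGroup.sysSt ChevalleyDataE6.cert K) i t) = hg ChevalleyDataE7.cert (chevE7.simple i) t := by
  rw [← StGroup.mk_stH ChevalleyDataE6.cert K (StGroup.relsAB_subset K) subset_rfl, ← emb_simple hi,
    ← lift_stH K (simple_lt ChevalleyDataE6.cert hi)]
  rfl

theorem emb_tor (c : Fin chevE6.rank → Kˣ) :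
    emb K (ChevTorusTwist14.stTor ChevalleyDataE6.cert StGen.gen_E6 c) = torus chevE7 (pad K c) := by
  rw [← Finset.univ_prod_mulSingle c]
  induction (Finset.univ : Finset (Fin chevE6.rank)) using Finset.induction_on with
  | empty => simp
  | insert a T ha ih =>
    rw [Finset.prod_insert ha, map_mul, map_mul, ih, map_mul, map_mul]
    congr 1
    have hi7 : a.val < chevE7.rank := lt_of_lt_of_le a.isLt (by decide)
    rw [ChevTorusTwist14.stTor, StTorus.tor_single, emb_h K a.isLt,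
      show pad K (Pi.mulSingle a (c a)) = Pi.mulSingle (⟨a.val, hi7⟩ : Fin chevE7.rank) (c a) from ?_]
    · exact hg_simple ChevalleyDataE7.cert (i := ⟨a.val, hi7⟩) (c a)
    · funext j
      simp only [pad, MonoidHom.coe_mk, OneHom.coe_mk, Pi.mulSingle_apply, Fin.ext_iff]
      by_cases hj : j.val < chevE6.rank
      · rw [dif_pos hj]
      · rw [dif_neg hj, if_neg (fun (e : j.val = a.val) => hj (e.trans_lt a.isLt))]

/-- the Cartan matrix of type E₇ on literal indices -/
def cartanE7 : Matrix (Fin 7) (Fin 7) ℤ := ChevalleyTorusCard.smithE7.A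

/-- the Cartan matrix of type E₆ on literal indices -/
def cartanE6 : Matrix (Fin 6) (Fin 6) ℤ := ChevalleyTorusCard.smithE6.A

theorem cartan_sub_eq : cartanE7.submatrix Fin.castSucc Fin.castSucc = cartanE6 := by decide +kernel

theorem cartan_sub (j k : Fin 6) : cartanE7 j.castSucc k.castSucc = cartanE6 j k :=
  congrFun (congrFun cartan_sub_eq j) k

theorem pad_last (c : Fin 6 → Kˣ) : (pad K c : Fin 7 → Kˣ) (Fin.last 6) = 1 := by
  show (if h : ((Fin.last 6 : Fin 7).val < chevE6.rank) then c ⟨_, h⟩ else 1) = 1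
  exact dif_neg (by decide)

theorem pad_castSucc (c : Fin 6 → Kˣ) (k : Fin 6) : (pad K c : Fin 7 → Kˣ) k.castSucc = c k := by
  show (if h : ((k.castSucc : Fin 7).val < chevE6.rank) then c ⟨_, h⟩ else 1) = c k
  exact dif_pos k.isLt

theorem chi_pad (c : Fin chevE6.rank → Kˣ) (j : Fin chevE6.rank) :
    chi ChevalleyTorusCard.smithE7 (pad K c) ⟨j.val, lt_of_lt_of_le j.isLt (by decide)⟩ =
      chi ChevalleyTorusCard.smithE6 c j := by
  show ∑ k : Fin 7, cartanE7 (Fin.castSucc (j : Fin 6)) k • Additive.ofMul ((pad K c : Fin 7 → Kˣ) k) =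
    ∑ k : Fin 6, cartanE6 j k • Additive.ofMul (c k)
  rw [Fin.sum_univ_castSucc]
  refine (congrArg₂ (· + ·) (Finset.sum_congr rfl fun k _ => ?_) ?_).trans (add_zero _)
  · exact congrArg₂ (· • ·) (cartan_sub _ k) (congrArg Additive.ofMul (pad_castSucc K c k))
  · exact (congrArg (fun x => _ • Additive.ofMul x) (pad_last K c)).trans (smul_zero _)

/-- A monomial twisting element of type E₇ with an eigenfunctional of order `ℓ`. -/
theorem exists_twist_E7 {F : Type*} [Field F] [Fintype F] {L : Type*} [Field L] [Fintype L]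
    (hcardL : Fintype.card L = Fintype.card F ^ 12) (ι : F →+* L) (σ : L ≃+* L)
    (hσ : ∀ x, σ x = x ^ Fintype.card F) {ℓ : ℕ} [Fact ℓ.Prime] (hℓ : 12 < ℓ)
    (hord : orderOf (Fintype.card F : ZMod ℓ) = 12)
    (hΦ : (ℓ : ℤ) ∣ (Polynomial.cyclotomic 12 ℤ).eval (Fintype.card F : ℤ)) :
    ∃ g ∈ chevE7.group L, ∃ (n : ↥(chevE7.monomialSubgroup L)) (c : Fin chevE7.rank → Lˣ),
      (n : GL chevE7.Idx L) = g * (psi σ g)⁻¹ ∧
      chi ChevalleyTorusCard.smithE7 c ≠ 0 ∧ ℓ • chi ChevalleyTorusCard.smithE7 c = 0 ∧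
      wact ChevalleyDataE7.cert ChevWeylData.e7
        ((ChevTorusTwist14.sysK ChevalleyDataE7.cert ChevWeylData.e7 (by decide +kernel)).toW n)
        (chi ChevalleyTorusCard.smithE7 c) = Fintype.card F • chi ChevalleyTorusCard.smithE7 c := by
  classical
  set q := Fintype.card F with hq
  have hℓp : ℓ.Prime := Fact.out
  let S6 := StGroup.sysSt ChevalleyDataE6.cert L
  let X6 := ChevWeylData.e6
  let B6 : Sys chevE6 L := ChevTorusTwist14.sysK ChevalleyDataE6.cert X6 ChevE6Twist14.supp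
  let B7 : Sys chevE7 L := ChevTorusTwist14.sysK ChevalleyDataE7.cert ChevWeylData.e7 (by decide +kernel)
  have hnd : ∀ e, 0 < e → e ≤ 12 → ¬ ℓ ∣ e := fun e h1 h2 h => by have := Nat.le_of_dvd h1 h; omega
  obtain ⟨g, hg, w, c, hc0, hcℓ, hwc, hrel, hn⟩ := ChevTwistSetup14.exists_twist ChevalleyDataE6.cert
    ChevalleyTorusCard.smithE6 X6 ChevE6Twist14.supp [2, 5, 6, 8, 9, 12] ChevE6Twist14.poly
    rfl (d := 12) (by simp) hcardL ι σ hσ (ℓ := ℓ) (by rw [← hord, pow_orderOf_eq_one])
    (hnd 3 (by norm_num) (by norm_num)) (by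
      intro e he
      simp only [List.mem_cons, List.not_mem_nil, or_false] at he
      exact hnd e (by omega) (by omega))
  have hℓL : ℓ ∣ Fintype.card L - 1 := by
    rw [← ZMod.natCast_eq_zero_iff, hcardL, Nat.cast_sub (Nat.one_le_pow _ _ Fintype.card_pos),
      Nat.cast_pow, Nat.cast_one, ← hord, pow_orderOf_eq_one, sub_self]
  obtain ⟨f, hf0, hfz, hfe, hfd⟩ :=
    ChevTwistSetup14.exists_int_eigen ChevalleyDataE6.cert X6 hℓL hc0 hcℓ hwc
  obtain ⟨hreg, -⟩ := ChevE6Twist14.weyl_element X6 ChevE6Twist14.supp hℓ f hf0 w q hord hΦ hfe hfd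
  obtain ⟨n, hn, -⟩ := hn fun s hs h0 => hreg s hs ((hfz s hs).2 h0)
  obtain ⟨gt, hgt⟩ : g ∈ S6.θ.range := by rw [StGroup.range_sys ChevalleyDataE6.cert L S6]; exact hg
  set nt := gt * (stPsi ChevalleyDataE6.cert σ gt)⁻¹ with hnt
  have hθnt : S6.θ nt = n := by
    rw [hnt, map_mul, map_inv, hgt, hn]
    congr 2
    rw [← MonoidHom.comp_apply, ChevTorusTwist14.θ_stPsi, MonoidHom.comp_apply, hgt]
  have hker : ∀ z, S6.θ z = 1 → z ∈ Subgroup.center (chevE6.SteinbergGroup L) :=
    fun z hz => StBruhat.mem_center_of_ker S6 StGen.gen_E6 hz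
  have hsN : ∀ w : X6.W, ∃ m : chevE6.SteinbergGroup L, ∃ n' : ↥(chevE6.monomialSubgroup L),
      S6.θ m = (n' : GL chevE6.Idx L) ∧ B6.toW n' = w ∧ emb L m ∈ chevE7.monomialSubgroup L := by
    intro w
    induction w using X6.w_induction with
    | one => exact ⟨1, 1, by simp, map_one _, by rw [map_one]; exact one_mem _⟩
    | step i w ih =>
      obtain ⟨m, n', h1, h2, h3⟩ := ih
      refine ⟨StBasic.n S6 i.val 1 * m, B6.sN i * n', ?_, ?_, ?_⟩
      · rw [map_mul, h1, StBasic.θ_n S6 i.isLt]; rfl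
      · rw [map_mul, h2]; exact congrArg (· * w) (B6.toW_sN i)
      · rw [map_mul]
        refine mul_mem ?_ h3
        have e : emb L (StBasic.n S6 i.val 1) = ng ChevalleyDataE7.cert (chevE7.simple i.val) 1 := by
          simp only [StBasic.n, map_mul, emb_x L (simple_lt ChevalleyDataE6.cert i.isLt),
            emb_x L (ChevalleyDataE6.cert.neg_lt _), S6, ng, emb_simple i.isLt,
            (emb_root (simple_lt ChevalleyDataE6.cert i.isLt)).2]
        rw [e]
        exact B7.nn_mem_N (r := chevE7.simple i.val)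
          (B7.X.simple_lt (lt_of_lt_of_le i.isLt (by decide : chevE6.rank ≤ chevE7.rank)))
  obtain ⟨m, n', hm, hn', hmN⟩ := hsN (B6.toW n)
  have hdiag : (n' : GL chevE6.Idx L)⁻¹ * (n : GL chevE6.Idx L) ∈ chevE6.diagonalSubgroup L := by
    have : n'⁻¹ * n ∈ B6.toW.ker := by rw [MonoidHom.mem_ker, map_mul, map_inv, hn', inv_mul_cancel]
    exact B6.toW_ker.le this
  obtain ⟨c2, hc2⟩ := (mem_H_iff ChevalleyDataE6.cert).1 hdiag
  let T6 := ChevTorusTwist14.stTor (K := L) ChevalleyDataE6.cert StGen.gen_E6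
  have htorN : ∀ a, torus chevE7 a ∈ chevE7.monomialSubgroup L := fun a =>
    Sys.H_le_N (torus_mem_H ChevalleyDataE7.cert a)
  have hntN : emb L nt ∈ chevE7.monomialSubgroup L := by
    have hz : (m * T6 c2)⁻¹ * nt ∈ S6.θ.ker := by
      rw [MonoidHom.mem_ker, map_mul, map_inv, map_mul, hθnt, hm, StTorus.θ_tor, hc2]
      group
    rw [StTorus.ker_eq_map S6 StGen.gen_E6 (StGroupTorus.hMul_st ChevalleyDataE6.cert L)] at hz
    obtain ⟨k, -, hk⟩ := hz
    have : nt = m * T6 c2 * T6 k := by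
      rw [show T6 k = (m * T6 c2)⁻¹ * nt from hk]; group
    rw [this, map_mul, map_mul, emb_tor, emb_tor]
    exact mul_mem (mul_mem hmN (htorN _)) (htorN _)
  -- the relation on the simply connected torus, after multiplying by three
  have hrel3 : nt * T6 ((c ^ 3) ^ q) * nt⁻¹ = T6 (c ^ 3) := by
    have hz : (T6 c)⁻¹ * (nt * T6 (c ^ q) * nt⁻¹) ∈ S6.θ.ker := by
      rw [MonoidHom.mem_ker, map_mul, map_inv, map_mul, map_mul, map_inv, hθnt, StTorus.θ_tor, StTorus.θ_tor,
        hn, hrel]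
      group
    rw [StTorus.ker_eq_map S6 StGen.gen_E6 (StGroupTorus.hMul_st ChevalleyDataE6.cert L)] at hz
    obtain ⟨k, hk1, hk2⟩ := hz
    have hk3 : k ^ 3 = 1 := by
      have h1 : chi ChevalleyTorusCard.smithE6 k = 0 := by
        rw [ChevTorusTwist14.chi_congr ChevalleyDataE6.cert ChevalleyTorusCard.smithE6
          (show torus chevE6 k = torus chevE6 1 by rw [map_one]; exact hk1), ChevTorusTwist14.chi_one]
      have h2 := congrArg (act (ChevTorusTwist14.Binv ChevalleyTorusCard.smithE6)) h1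
      rw [chi, ← ChevalleyTorusCard.act_mul, ChevTorusTwist14.Binv_mul_A, ChevalleyTorusCard.act_smul,
        ChevalleyTorusCard.act_one, ChevalleyTorusCard.act_zero] at h2
      funext i
      exact Additive.ofMul.injective (congrFun h2 i)
    have e1 : nt * T6 (c ^ q) * nt⁻¹ = T6 (c * k) := by
      rw [map_mul, show T6 k = (T6 c)⁻¹ * (nt * T6 (c ^ q) * nt⁻¹) from hk2, mul_inv_cancel_left]
    rw [← pow_mul, mul_comm 3 q, pow_mul, map_pow T6 (c ^ q), ← conj_pow, e1, ← map_pow, mul_pow, hk3, mul_one]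
  set c7 := pad L (c ^ 3) with hc7
  have hrel7 : emb L nt * torus chevE7 (c7 ^ q) * (emb L nt)⁻¹ = torus chevE7 c7 := by
    rw [hc7, ← map_pow (pad L), ← emb_tor, ← emb_tor, ← map_mul, ← map_inv, ← map_mul, hrel3]
  refine ⟨emb L gt, emb_mem L gt, ⟨emb L nt, hntN⟩, c7, ?_, ?_, ?_, ?_⟩
  · show emb L nt = _
    rw [hnt, map_mul, map_inv, emb_psi]
  · intro h0
    apply hc0
    funext j
    have h1 := chi_pad L (c ^ 3) j
    rw [← hc7, h0, ChevTorusTwist14.chi_pow] at h1
    have h2 : (3 : ℕ) • chi ChevalleyTorusCard.smithE6 c j = 0 := h1.symm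
    by_contra hne
    have h4 : addOrderOf (chi ChevalleyTorusCard.smithE6 c j) = ℓ :=
      addOrderOf_eq_prime (congrFun hcℓ j) hne
    have := addOrderOf_dvd_of_nsmul_eq_zero h2
    rw [h4] at this
    exact hnd 3 (by norm_num) (by norm_num) this
  · -- killed by `ℓ`
    have h1 : ∀ i, ((c ^ 3) ^ ℓ) i = 1 := by
      intro i
      have h2 := congrArg (act (ChevTorusTwist14.Binv ChevalleyTorusCard.smithE6))
        ((ChevTorusTwist14.chi_pow ChevalleyTorusCard.smithE6 c ℓ).trans hcℓ)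
      rw [chi, ← ChevalleyTorusCard.act_mul, ChevTorusTwist14.Binv_mul_A, ChevalleyTorusCard.act_smul,
        ChevalleyTorusCard.act_one, ChevalleyTorusCard.act_zero] at h2
      rw [← pow_mul, mul_comm, pow_mul]
      exact Additive.ofMul.injective (congrFun h2 i)
    rw [← ChevTorusTwist14.chi_pow, hc7, ← map_pow, show (c ^ 3) ^ ℓ = 1 from funext h1, map_one,
      ChevTorusTwist14.chi_one]
  · obtain ⟨c'', h1, h2⟩ := ChevTorusTwist14.conj_torus ChevalleyDataE7.cert ChevalleyTorusCard.smithE7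
      ChevWeylData.e7 (by decide +kernel) (K := L) ⟨emb L nt, hntN⟩ (c7 ^ q)
    rw [← ChevTorusTwist14.chi_pow, ← h2]
    congr 1
    exact ChevTorusTwist14.chi_congr ChevalleyDataE7.cert ChevalleyTorusCard.smithE7 (hrel7.symm.trans h1)

end Cfsg.Agent.ChevE6InE7Twist14
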