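import Cfsg.Agent.Lib.ChevTwistArith14

/-!
The Weyl element of a torus of order `Φ₁₂ Φ₃` in type E₆.
-/

set_option autoImplicit false
set_option maxRecDepth 100000

namespace Cfsg.Agent.ChevE6Twist14

open Cfsg.Lie Cfsg.Agent.ChevalleyCert Cfsg.Agent.ChevWeyl Cfsg.Agent.ChevBruhat
  Cfsg.Agent.ChevRootCoord68 Cfsg.Agent.CyclotomicCharpoly68 Cfsg.Agent.ChevRootFn14
open Cfsg.Agent.ChevalleyTorusCard (Smith act act_mul act_one)
open Cfsg.Agent.ChevCoxTorus68 (Pm act_Pm Pm_pow)

/-- the certificate -/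
local notation "C₆" => ChevalleyDataE6.cert

theorem orth : ∀ i j : Fin chevE6.rank, i ≠ j → ∑ s : Fin chevE6.nroots,
    ChevalleyDataE6.cert.coef s.val j.val * chevE6.cartan i.val s.val = 0 := by decide +kernel

theorem norm_pos : ∀ i : Fin chevE6.rank, 0 < ∑ s : Fin chevE6.nroots,
    ChevalleyDataE6.cert.coef s.val i.val * chevE6.cartan i.val s.val := by decide +kernel

theorem pos_sum : ∀ i : Fin chevE6.rank, ∑ s : Fin chevE6.nroots,
    (if chevE6.nroots / 2 ≤ s.val then chevE6.cartan i.val s.val else 0) = 2 := by decide +kernel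

theorem top : ∀ j : Fin chevE6.rank, 1 ≤ ChevalleyDataE6.cert.coef (chevE6.nroots - 1) j.val ∧
    ChevalleyDataE6.cert.coef (chevE6.nroots - 1) j.val ≤ ((3 : ℕ) : ℤ) := by decide +kernel

theorem le_top : ∀ (s : Fin chevE6.nroots) (j : Fin chevE6.rank), ChevalleyDataE6.cert.coef s.val j.val ≤
    ChevalleyDataE6.cert.coef (chevE6.nroots - 1) j.val := by decide +kernel

theorem tab : Tab ChevalleyDataE6.cert 3 where
  rank_pos := by decide +kernel
  orth := orth
  norm_pos := norm_pos
  pos_sum := pos_sum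
  one_le_top j := (top j).1
  top_le j := (top j).2
  le_top := le_top

theorem supp : ChevBruhat.suppCheck chevE6 = true := by decide +kernel

theorem poly : ChevOrder.polyOK ChevWeylData.e6.chain chevE6.rank [2, 5, 6, 8, 9, 12] = true := by
  decide +kernel

theorem hmin : ∀ i : Fin chevE6.rank, ChevalleyDataE6.cert.coef (chevE6.nroots - 1) i.val = 1 →
    ¬ ((3 : ℕ) : ℤ) ∣ ChevalleyTorusCard.smithE6.U 0 i := by decide +kernel

/-- the roots supported away from `S` -/
def zeros (S : Finset (Fin chevE6.rank)) : Finset (Fin chevE6.nroots) :=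
  Finset.univ.filter fun s => ∀ j ∈ S, ChevalleyDataE6.cert.coef s.val j.val = 0

/-- the roots agreeing with the highest root on `S` -/
def tops (S : Finset (Fin chevE6.rank)) : Finset (Fin chevE6.nroots) :=
  Finset.univ.filter fun s => ∀ j ∈ S,
    ChevalleyDataE6.cert.coef s.val j.val = ChevalleyDataE6.cert.coef (chevE6.nroots - 1) j.val

theorem count_zeros : ∀ S : Finset (Fin chevE6.rank), 4 ≤ S.card →
    12 ∣ chevE6.nroots - (zeros S).card → (zeros S).card = 0 := by decide +kernel

theorem count_levels : ∀ S : Finset (Fin chevE6.rank), S.Nonempty →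
    ¬ (12 ∣ (zeros S).card ∧ 12 ∣ (tops S).card) := by decide +kernel

/-- the orbit of a minuscule functional -/
def orbit : List (List ℤ) :=
  [[1, 1, 0, -1, 0, 0],
    [1, 0, 0, 0, 0, 0],
    [1, 0, -1, 1, -1, 0],
    [1, 0, -1, 0, 1, -1],
    [1, 0, -1, 0, 0, 1],
    [1, -1, 0, 0, 0, 0],
    [0, 1, 0, 0, 0, -1],
    [0, 1, 0, 0, -1, 1],
    [0, 1, 0, -1, 1, 0],
    [0, 1, -1, 0, 0, 0],
    [0, 0, 1, 0, -1, 0],
    [0, 0, 1, -1, 1, -1],
    [0, 0, 1, -1, 0, 1],
    [0, 0, 0, 0, 0, -1],
    [0, 0, 0, 0, -1, 1],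
    [0, 0, 0, -1, 1, 0],
    [0, 0, -1, 1, 0, 0],
    [0, -1, 0, 1, 0, -1],
    [0, -1, 0, 1, -1, 1],
    [0, -1, 0, 0, 1, 0],
    [0, -1, -1, 1, 0, 0],
    [-1, 1, 1, -1, 0, 0],
    [-1, 0, 1, 0, 0, 0],
    [-1, 0, 0, 1, -1, 0],
    [-1, 0, 0, 0, 1, -1],
    [-1, 0, 0, 0, 0, 1],
    [-1, -1, 1, 0, 0, 0]]

/-- reflection of a functional given by its list of values -/
def reflList (i : ℕ) (l : List ℤ) : List ℤ :=
  (List.range chevE6.rank).map fun k => l.getD k 0 - chevE6.cartan i (chevE6.simple k) * l.getD i 0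

theorem orbit_closed : ∀ i : Fin chevE6.rank, (orbit.all fun l => orbit.contains (reflList i.val l)) = true := by
  decide +kernel

/-- a list as a functional -/
def vec (l : List ℤ) : Fin chevE6.rank → ℤ := fun j => l.getD j.val 0

theorem orbit_nodup : (orbit.map fun l => List.ofFn (vec l)).Nodup ∧ (orbit.length = 27) ∧
    (orbit.all fun l => ! (List.ofFn (vec l)).all (· == 0)) = true := by decide +kernel

/-- the orbit as a set of functionals -/
noncomputable def orbSet : Finset (Fin chevE6.rank → ℤ) := (orbit.map vec).toFinset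

theorem card_orbSet : orbSet.card = 27 := by
  rw [orbSet, List.toFinset_card_of_nodup, List.length_map, orbit_nodup.2.1]
  refine List.Nodup.of_map List.ofFn ?_
  rw [List.map_map]
  exact orbit_nodup.1

theorem zero_notMem : (0 : Fin chevE6.rank → ℤ) ∉ orbSet := by
  intro h
  simp only [orbSet, List.mem_toFinset, List.mem_map] at h
  obtain ⟨l, hl, he⟩ := h
  have := List.all_eq_true.1 orbit_nodup.2.2 l hl
  rw [he] at this
  simp at this

variable (X : Weyl chevE6)

theorem orbit_stable (w : X.W) : ∀ f ∈ orbSet, wact C₆ X w f ∈ orbSet := by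
  induction w using X.w_induction with
  | one => intro f hf; rwa [wact_one]
  | step i w ih =>
    intro f hf
    rw [wact_mul]
    refine ih _ ?_
    simp only [orbSet, List.mem_toFinset, List.mem_map] at hf ⊢
    obtain ⟨l, hl, rfl⟩ := hf
    refine ⟨reflList i.val l, by simpa using List.all_eq_true.1 (orbit_closed i) l hl, funext fun j => ?_⟩
    show (reflList i.val l).getD j.val 0 = ev C₆ (vec l) (X.img (X.C.simple i) (chevE6.simple j.val))
    rw [X.img_simple i (X.simple_lt j.isLt), ev_reflect C₆ _ i (X.simple_lt j.isLt), ev_simple, smul_eq_mul]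
    simp [reflList, vec, List.getD_eq_getElem?_getD, j.isLt]

variable (hs : suppCheck chevE6 = true)

include hs in
/-- The characteristic polynomial of the twisting element, and regularity. -/
theorem weyl_element {ℓ : ℕ} [Fact ℓ.Prime] (hℓ : 12 < ℓ) (f : Fin chevE6.rank → ℤ)
    (hf : ¬ ∀ j, (ℓ : ℤ) ∣ f j) (w : X.W) (q : ℕ) (hord : orderOf (q : ZMod ℓ) = 12)
    (hΦ : (ℓ : ℤ) ∣ (Polynomial.cyclotomic 12 ℤ).eval (q : ℤ))
    (heig : ∀ s, s < chevE6.nroots → (ℓ : ℤ) ∣ ev C₆ f (X.img w s) - q * ev C₆ f s)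
    (hdet : (ℓ : ℤ) ∣ (Pm C₆ X w).charpoly.eval (q : ℤ)) :
    (∀ s, s < chevE6.nroots → ¬ (ℓ : ℤ) ∣ ev C₆ f s) ∧
      (Pm C₆ X w).charpoly = Polynomial.cyclotomic 12 ℤ * Polynomial.cyclotomic 3 ℤ := by
  classical
  have hℓp : ℓ.Prime := Fact.out
  set P := Pm C₆ X w with hP
  have htot : (12 : ℕ).totient = 4 := by decide
  have hq0 : (q : ZMod ℓ) ≠ 0 := fun h0 => by
    rw [h0, orderOf_eq_zero_iff'.2 fun n hn => by rw [zero_pow hn.ne']; exact zero_ne_one] at hord
    omega
  have hrank : chevE6.rank = 6 := by decide +kernel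
  obtain ⟨R, hR, hRm, hRd, hRq⟩ := ChevEigen14.exists_cofactor P (m := orderOf w) (orderOf_pos w)
    (by rw [hP, ← Pm_pow, pow_orderOf_eq_one, ← pow_zero w, Pm_pow, pow_zero]) hℓp
    (fun h => by have := Nat.le_of_dvd (by norm_num) h; omega)
    (by rw [hrank]; omega) (by rw [hrank, htot]; norm_num) q hΦ hdet
  -- no vanishing root
  have hreg : ∀ s, s < chevE6.nroots → ¬ (ℓ : ℤ) ∣ ev C₆ f s := by
    obtain ⟨v, S, hS, hzero⟩ := ChevTwistSetup14.exists_zero_support C₆ X hs tab (by omega) f hf w q hq0 heig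
      (by norm_num) hR hRq
    rw [htot] at hS
    have h12 := ChevTwistSetup14.dvd_card_nonzero C₆ X tab f w q hq0 hord heig
    have hcard : (Finset.univ.filter fun s : Fin chevE6.nroots => (ℓ : ℤ) ∣ ev C₆ f s.val).card = (zeros S).card := by
      refine (Finset.card_equiv (X.ρ v) fun s => ?_).symm
      simp only [zeros, Finset.mem_filter, Finset.mem_univ, true_and]
      rw [← hzero s.val s.isLt, Weyl.img, dif_pos s.isLt]
    have hsplit := Finset.card_filter_add_card_filter_not (s := (Finset.univ : Finset (Fin chevE6.nroots)))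
      (fun s : Fin chevE6.nroots => (ℓ : ℤ) ∣ ev C₆ f s.val)
    rw [Finset.card_univ, Fintype.card_fin, hcard] at hsplit
    rw [show (Finset.univ.filter fun s : Fin chevE6.nroots => ¬ (ℓ : ℤ) ∣ ev C₆ f s.val).card =
      chevE6.nroots - (zeros S).card by omega] at h12
    intro s hs' hd
    have h0 := count_zeros S hS h12
    rw [← hcard, Finset.card_eq_zero, Finset.filter_eq_empty_iff] at h0
    exact h0 (Finset.mem_univ (⟨s, hs'⟩ : Fin chevE6.nroots)) hd
  refine ⟨hreg, ?_⟩
  -- no fixed functional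
  have hnofix : ∀ φ : Fin chevE6.rank → ℤ, wact C₆ X w φ = φ → φ = 0 := by
    intro φ hφ
    by_contra hne
    obtain ⟨v, hv⟩ := exists_dom tab X φ
    set φ' := wact C₆ X v φ with hφ'
    set S := Finset.univ.filter fun j => 0 < φ' j with hSdef
    have hSne : S.Nonempty := by
      obtain ⟨j, hj⟩ := Function.ne_iff.1 (wact_ne_zero C₆ X v hne)
      exact ⟨j, Finset.mem_filter.2 ⟨Finset.mem_univ _, lt_of_le_of_ne (hv j) (Ne.symm hj)⟩⟩
    have hlevel : ∀ a : ℤ, 12 ∣ (Finset.univ.filter fun s : Fin chevE6.nroots => ev C₆ φ' s.val = a).card := by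
      intro a
      have h1 := dvd_card_stable tab X f w q hord heig
        (Finset.univ.filter fun s : Fin chevE6.nroots => ev C₆ φ s.val = a) (fun s => ?_)
        fun s _ => hreg _ s.isLt
      · convert h1 using 1
        refine Finset.card_equiv (X.ρ v) fun s => ?_
        simp only [Finset.mem_filter, Finset.mem_univ, true_and]
        rw [hφ', ev_wact C₆ X v φ s.isLt, Weyl.img, dif_pos s.isLt]
      · simp only [Finset.mem_filter, Finset.mem_univ, true_and]
        conv_rhs => rw [← hφ, ev_wact C₆ X w φ s.isLt, Weyl.img, dif_pos s.isLt]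
    have hmem : ∀ j, j ∈ S ↔ 0 < φ' j := fun j => by rw [hSdef]; simp
    refine count_levels S hSne ⟨?_, ?_⟩
    · convert hlevel 0 using 2
      ext s
      simp only [zeros, Finset.mem_filter, Finset.mem_univ, true_and]
      have key : ∀ r, r < chevE6.nroots → chevE6.nroots / 2 ≤ r →
          (ev C₆ φ' r = 0 ↔ ∀ j ∈ S, (C₆).coef r j.val = 0) := by
        intro r hr hp
        simp only [ev, smul_eq_mul]
        rw [Finset.sum_eq_zero_iff_of_nonneg fun (k : Fin chevE6.rank) _ =>
          mul_nonneg ((C₆).coef_pos r k.val hp hr k.isLt) (hv k)]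
        simp only [Finset.mem_univ, forall_true_left, hmem, mul_eq_zero]
        refine forall_congr' fun j => ⟨fun h hj => h.resolve_right hj.ne', fun h => ?_⟩
        rcases (hv j).lt_or_eq with h' | h'
        · exact Or.inl (h h')
        · exact Or.inr h'.symm
      rcases le_or_gt (chevE6.nroots / 2) s.val with hp | hp
      · exact (key _ s.isLt hp).symm
      · have h1 := key _ ((C₆).neg_lt s.val) (by rw [(C₆).neg_eq s.val s.isLt]; have := (C₆).even; omega)
        rw [ev_neg C₆ φ' s.isLt, neg_eq_zero] at h1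
        simpa [(C₆).coef_neg s.val _ s.isLt (Fin.isLt _)] using h1.symm
    · convert hlevel (ev C₆ φ' (chevE6.nroots - 1)) using 2
      ext s
      simp only [tops, Finset.mem_filter, Finset.mem_univ, true_and]
      simp only [ev, smul_eq_mul]
      rw [Finset.sum_eq_sum_iff_of_le fun (k : Fin chevE6.rank) _ =>
        mul_le_mul_of_nonneg_right (le_top s k) (hv k)]
      simp only [Finset.mem_univ, forall_true_left, hmem, mul_eq_mul_right_iff]
      refine forall_congr' fun j => ⟨fun h => ?_, fun h hj => h.resolve_right hj.ne'⟩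
      rcases (hv j).lt_or_eq with h' | h'
      · exact Or.inl (h h')
      · exact Or.inr h'.symm
  -- the twelfth power is trivial
  have hw12 : w ^ 12 = 1 := by
    obtain ⟨K, hK⟩ := exists_K (C := C₆) X ChevalleyTorusCard.smithE6 (w ^ 12)
    have hpow : ∀ k : ℕ, ∀ j, (ℓ : ℤ) ∣ wact C₆ X (w ^ k) f j - (q : ℤ) ^ k * f j := by
      intro k j
      show (ℓ : ℤ) ∣ ev C₆ f (X.img (w ^ k) (chevE6.simple j.val)) - (q : ℤ) ^ k * f j
      induction k with
      | zero => simp [X.img_one, ev_simple]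
      | succ k ih =>
        rw [pow_succ', X.img_mul]
        have h1 := dvd_add (heig _ (X.img_lt (w ^ k) (X.simple_lt j.isLt))) (ih.mul_left (q : ℤ))
        rwa [mul_sub, sub_add_sub_cancel, ← mul_assoc, ← pow_succ'] at h1
    have hq12 : (ℓ : ℤ) ∣ (q : ℤ) ^ 12 - 1 := by
      rw [← ZMod.intCast_zmod_eq_zero_iff_dvd]
      push_cast
      rw [← hord, pow_orderOf_eq_one, sub_self]
    choose z hz using fun j => show (ℓ : ℤ) ∣ wact C₆ X (w ^ 12) f j - f j by
      have h1 := dvd_add (hpow 12 j) (hq12.mul_right (f j))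
      rwa [sub_mul, one_mul, sub_add_sub_cancel] at h1
    refine no_fix tab X hs ChevalleyTorusCard.smithE6 hmin (N := (ℓ : ℤ)) (by omega)
      (fun j => 3 * f j) (fun s hs' hd => ?_) _ (act (ChevTorusTwist14.Binv ChevalleyTorusCard.smithE6) z) ?_
    · rw [show (fun j => 3 * f j) = (3 : ℤ) • f from rfl, ev_zsmul, smul_eq_mul] at hd
      rcases (Nat.prime_iff_prime_int.1 hℓp).dvd_or_dvd hd with h | h
      · have := Int.le_of_dvd (by norm_num) h; omega
      · exact hreg s hs' h
    · rw [← act_mul, ChevTorusTwist14.A_mul_Binv _ (by norm_num), ChevalleyTorusCard.act_smul, act_one]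
      funext j
      have h1 := hz j
      show ev C₆ ((3 : ℤ) • f) (X.img (w ^ 12) (chevE6.simple j.val)) = _
      rw [ev_zsmul, smul_eq_mul]
      have h2 : wact C₆ X (w ^ 12) f j = ev C₆ f (X.img (w ^ 12) (chevE6.simple j.val)) := rfl
      rw [← h2]
      simp
      linarith
  -- a fixed point of the cube on the orbit
  obtain ⟨f₀, hf₀, hfix⟩ : ∃ f₀ ∈ orbSet, wact C₆ X (w ^ 3) f₀ = f₀ := by
    let π : Equiv.Perm ↥orbSet :=
      { toFun := fun f => ⟨wact C₆ X w f.1, orbit_stable X w _ f.2⟩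
        invFun := fun f => ⟨wact C₆ X w⁻¹ f.1, orbit_stable X w⁻¹ _ f.2⟩
        left_inv := fun f => Subtype.ext (wact_inv' C₆ X w f.1)
        right_inv := fun f => Subtype.ext (wact_inv C₆ X w f.1) }
    have hπ : ∀ (k : ℕ) (f : ↥orbSet), ((π ^ k) f).1 = wact C₆ X (w ^ k) f.1 := by
      intro k
      induction k with
      | zero => intro f; rw [pow_zero, pow_zero, wact_one]; rfl
      | succ k ih => intro f; rw [pow_succ', pow_succ, wact_mul, Equiv.Perm.mul_apply, ← ih]; rfl
    obtain ⟨f, k, hk, hodd⟩ : ∃ f k, (π ^ k) f = f ∧ ¬ 2 ∣ k := by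
      by_contra hcon
      push Not at hcon
      have := dvd_card_of_periods π hcon
      rw [Nat.card_eq_fintype_card, Fintype.card_coe, card_orbSet] at this
      norm_num at this
    have h12 : (π ^ 12) f = f := Subtype.ext (by rw [hπ, hw12, wact_one])
    have hg : (π ^ Nat.gcd k 12) f = f := by
      have h1 : Function.IsPeriodicPt π k f := by
        show π^[k] f = f; rw [← Equiv.Perm.coe_pow]; exact hk
      have h2 : Function.IsPeriodicPt π 12 f := by
        show π^[12] f = f; rw [← Equiv.Perm.coe_pow]; exact h12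
      have h3 := h1.gcd h2
      rw [Equiv.Perm.coe_pow]; exact h3
    have h3 : Nat.gcd k 12 ∣ 3 := by
      have hco : (Nat.gcd k 12).Coprime 4 := (Nat.Coprime.pow_right 2
        ((Nat.Prime.coprime_iff_not_dvd Nat.prime_two).2 fun h => hodd (h.trans (Nat.gcd_dvd_left k 12))).symm)
      exact hco.dvd_of_dvd_mul_right (show Nat.gcd k 12 ∣ 3 * 4 from Nat.gcd_dvd_right k 12)
    obtain ⟨e, he⟩ := h3
    refine ⟨f.1, f.2, ?_⟩
    rw [← hπ 3 f, he, pow_mul]
    congr 1
    clear he
    induction e with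
    | zero => rfl
    | succ e ih => rw [pow_succ, Equiv.Perm.mul_apply, hg, ih]
  have hf₀0 : f₀ ≠ 0 := fun h => zero_notMem (h ▸ hf₀)
  -- the cofactor
  have hkill : (Polynomial.aeval P (Polynomial.cyclotomic 3 ℤ)).mulVec f₀ = 0 := by
    refine hnofix _ ?_
    rw [Polynomial.cyclotomic_three, ← act_Pm, act_int, ← hP, Matrix.mulVec_mulVec]
    simp only [map_add, map_pow, Polynomial.aeval_X, map_one]
    have h3 : (P ^ 3).mulVec f₀ = f₀ := by rw [hP, ← Pm_pow, ← act_int, act_Pm, hfix]
    rw [Matrix.mul_add, Matrix.mul_add, ← pow_succ', ← sq, mul_one, Matrix.add_mulVec, Matrix.add_mulVec,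
      Matrix.add_mulVec, Matrix.add_mulVec, h3, Matrix.one_mulVec]
    abel
  let cq := Int.castRingHom ℚ
  have h3div : Polynomial.cyclotomic 3 ℚ ∣ (cq.mapMatrix P).charpoly := by
    refine ChevEigen14.dvd_charpoly_of_kill _ (Polynomial.cyclotomic.irreducible_rat (by norm_num))
      (b := cq ∘ f₀) (fun h0 => hf₀0 (funext fun i => by simpa [cq] using congrFun h0 i)) ?_
    have h2 : Polynomial.aeval (cq.mapMatrix P) (Polynomial.cyclotomic 3 ℚ) =
        cq.mapMatrix (Polynomial.aeval P (Polynomial.cyclotomic 3 ℤ)) := by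
      rw [Polynomial.map_aeval_eq_aeval_map (φ := cq) (ψ := cq.mapMatrix (m := Fin chevE6.rank))
        (RingHom.ext fun z => by simp) (Polynomial.cyclotomic 3 ℤ) P, Polynomial.map_cyclotomic_int]
    rw [h2]
    funext i
    rw [RingHom.mapMatrix_apply, ← RingHom.map_mulVec, hkill]
    simp
  rw [RingHom.mapMatrix_apply, Matrix.charpoly_map, hR, Polynomial.map_mul, Polynomial.map_cyclotomic_int,
    ← Polynomial.map_cyclotomic_int 3 ℚ] at h3div
  have h3R : Polynomial.cyclotomic 3 ℤ ∣ R := by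
    refine (Polynomial.map_dvd_map _ Int.cast_injective (Polynomial.cyclotomic.monic 3 ℤ)).1
      (IsCoprime.dvd_of_dvd_mul_left ?_ h3div)
    rw [Polynomial.map_cyclotomic_int]
    exact Polynomial.cyclotomic.isCoprime_rat (by norm_num)
  have hR3 : R = Polynomial.cyclotomic 3 ℤ :=
    Polynomial.eq_of_monic_of_dvd_of_natDegree_le (Polynomial.cyclotomic.monic 3 ℤ) hRm h3R (by
      rw [Polynomial.natDegree_cyclotomic, show (3 : ℕ).totient = 2 by decide]
      rw [htot, hrank] at hRd; omega)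
  rw [hR, hR3]

end Cfsg.Agent.ChevE6Twist14
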