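import Cfsg.Agent.Lib.ChevE7Twist14

/-!
The Chevalley group of type E₇ over two elements has no element of order 65: the centralizer of an
element of order 13 has vanishing roots forming three orthogonal pairs.
-/

set_option autoImplicit false
set_option maxRecDepth 100000
set_option maxHeartbeats 2000000

namespace Cfsg.Agent.ChevE7Order65_14

open Cfsg.Lie Cfsg.Agent.ChevalleyCert Cfsg.Agent.ChevWeyl Cfsg.Agent.ChevBruhat
open Cfsg.Agent.ChevTorusTwist14 (chi sysK conj_torus torus_conj chi_congr chi_pow chi_one torus_congr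
  transporter exists_conj_mem_torus tchar_eq)
open Cfsg.Agent.ChevRootCoord68
open Cfsg.Agent.ChevalleyTorus (torus tchar)
open Cfsg.Agent.ChevCoxTorus68 (Pm act_Pm Pm_pow exists_prim)
open Cfsg.Agent.ChevalleyTorusCard (act Smith)
open Cfsg.Agent.ChevE7Twist14
open Cfsg.Agent.ChevFieldAut77 (psi)

/-- the certificate -/
local notation "C₇" => ChevalleyDataE7.cert

section General

variable {D : ChevalleyDatum} (C : Cert D) {F : Type*} [Field F]

include C in
/-- A unipotent element centralised by enough torus elements is trivial. -/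
theorem fixed_U_family {u : GL D.Idx F} (hu : u ∈ D.posUnipotent F)
    (h : ∀ r, r < D.nroots → ∃ c : Fin D.rank → Fˣ, tchar D c r ≠ 1 ∧ torus D c * u * (torus D c)⁻¹ = u) :
    u = 1 := by
  obtain ⟨t, ⟨h0, rfl⟩, -⟩ := ChevalleyUnipotent.U_normal_form C hu
  have e : ∀ c : Fin D.rank → Fˣ,
      torus D c * ChevalleyUnipotent.uProd C (D.nroots / 2) t * (torus D c)⁻¹ =
      ChevalleyUnipotent.uProd C (D.nroots / 2) fun r => (tchar D c r : F) * t r := by
    intro c
    rw [ChevalleyUnipotent.uProd, ChevalleyUnipotent.uProd, ← MulAut.conj_apply, map_list_prod, List.map_map]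
    refine congrArg List.prod (List.map_congr_left fun r hr => ?_)
    rw [List.mem_range'_1] at hr
    exact ChevalleyTorus.torus_conj_xg C (by omega) c (t r)
  have h1 : t = fun _ => 0 := by
    funext r
    by_cases hr : D.IsPosRoot r
    · obtain ⟨hr1, hr2⟩ := (ChevalleyRoots.isPos C).1 hr
      obtain ⟨c, hc, hcu⟩ := h r hr2
      rw [e] at hcu
      have h2 := ChevalleyUnipotent.uProd_inj C le_rfl hcu r hr1 hr2
      by_contra ht
      exact hc (Units.ext (mul_right_cancel₀ ht (h2.trans (one_mul _).symm)))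
    · exact h0 r hr
  rw [h1, ChevalleyUnipotent.uProd]
  exact List.prod_eq_one fun g hg => by
    obtain ⟨r, -, rfl⟩ := List.mem_map.1 hg
    simp

variable {δ : ℕ} (Sm : Smith D δ 1) (X : Weyl D) (hs : suppCheck D = true)

/-- The Bruhat factors of an element carrying one torus element to another. -/
theorem cell_fixed {c c' : Fin D.rank → Fˣ} {u₀ h₀ u : GL D.Idx F} (hu₀ : u₀ ∈ D.posUnipotent F)
    (hh₀ : h₀ ∈ D.diagonalSubgroup F) (n : ↥(D.monomialSubgroup F))
    (hu : u ∈ (sysK C X hs).Uw ((sysK C X hs).toW n))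
    (h : u₀ * h₀ * n * u * torus D c' = torus D c * (u₀ * h₀ * n * u)) :
    wact C X ((sysK C X hs).toW n) (chi Sm c) = chi Sm c' ∧
      torus D c * u₀ * (torus D c)⁻¹ = u₀ ∧ torus D c' * u * (torus D c')⁻¹ = u := by
  let S : Sys D F := sysK C X hs
  set t := torus D c with ht
  set t' := torus D c' with ht'
  have htH : t ∈ D.diagonalSubgroup F := (ChevalleyTorus.mem_H_iff C).2 ⟨c, rfl⟩
  have hb : u₀ * h₀ ∈ D.borelSubgroup F := mul_mem (Sys.U_le_B hu₀) (Sys.H_le_B hh₀)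
  have h' : t * (u₀ * h₀ * n * u) * t'⁻¹ = u₀ * h₀ * n * u := by rw [← h]; group
  obtain ⟨cn, hcn, hevn⟩ := conj_torus C Sm X hs n c'
  set h₁ := t * (torus D cn)⁻¹ with hh₁
  have hcnH : torus D cn ∈ D.diagonalSubgroup F := (ChevalleyTorus.mem_H_iff C).2 ⟨cn, rfl⟩
  have hh : h₁ ∈ D.diagonalSubgroup F := mul_mem htH (inv_mem hcnH)
  have hu' : t' * u * t'⁻¹ ∈ S.Uw (S.toW n) := by
    refine Sys.conj_closure_le
      (T := {g : GL D.Idx F | ∃ r a, r ∈ S.X.invSet (S.toW n) ∧ g = S.xg r a}) t' ?_ hu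
    rintro x ⟨r, a, hr, rfl⟩
    exact Subgroup.subset_closure ⟨r, _, hr, torus_conj C Sm c' (S.X.mem_invSet.mp hr).1.1 a⟩
  have hbB : t * (u₀ * h₀) * t⁻¹ * h₁ ∈ D.borelSubgroup F :=
    mul_mem (mul_mem (mul_mem (Sys.H_le_B htH) hb) (inv_mem (Sys.H_le_B htH))) (Sys.H_le_B hh)
  have he : (t * (u₀ * h₀) * t⁻¹ * h₁) * n * (t' * u * t'⁻¹) = u₀ * h₀ * n * u := by
    conv_rhs => rw [← h']
    rw [hh₁, ← hcn, ← ht']; group
  obtain ⟨e1, e2⟩ := S.form_unique n hbB hb hu' hu he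
  have e3 : (t * u₀ * t⁻¹) * (h₀ * h₁) = u₀ * h₀ := by
    conv_rhs => rw [← e1]
    rw [show t * (u₀ * h₀) * t⁻¹ = t * u₀ * t⁻¹ * h₀ by
      rw [show t * (u₀ * h₀) * t⁻¹ = t * u₀ * (h₀ * t⁻¹) by group,
        ChevalleyTorus.H_comm C hh₀ (inv_mem htH)]
      group]
    group
  have hU : t * u₀ * t⁻¹ ∈ D.posUnipotent F :=
    (Subgroup.mem_normalizer_iff.1 (ChevalleyTorus.H_le_normalizer_U C htH) u₀).1 hu₀
  have e4 : u₀⁻¹ * (t * u₀ * t⁻¹) = h₀ * (h₀ * h₁)⁻¹ := by
    rw [eq_mul_inv_iff_mul_eq, mul_assoc, e3]; group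
  have e5 : u₀⁻¹ * (t * u₀ * t⁻¹) = 1 := by
    have := Subgroup.mem_inf.2 ⟨mul_mem (inv_mem hu₀) hU,
      e4 ▸ mul_mem hh₀ (inv_mem (mul_mem hh₀ hh))⟩
    rwa [ChevalleyTorus.U_inf_H C, Subgroup.mem_bot] at this
  have h11 : h₁ = 1 := by
    have e6 := e5
    rw [e4, mul_inv_rev, ← mul_assoc] at e6
    have : h₀ * h₁⁻¹ = h₀ := by rw [← mul_inv_eq_one]; exact e6
    simpa using this
  have hχ : chi Sm c = chi Sm cn := chi_congr C Sm (mul_inv_eq_one.1 (hh₁.symm.trans h11))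
  exact ⟨by rw [hχ]; exact hevn, (inv_mul_eq_one.1 e5).symm, e2⟩

include C hs X in
/-- An element conjugating a big enough group of torus elements into the torus is monomial. -/
theorem mem_N_of_conj {g : GL D.Idx F} (hg : g ∈ D.group F) {P : (Fin D.rank → Fˣ) → Prop}
    (hP : ∀ r, r < D.nroots → ∃ c, P c ∧ tchar D c r ≠ 1)
    (h : ∀ c, P c → ∃ c', g * torus D c' = torus D c * g) (Sm : Smith D δ 1) :
    g ∈ D.monomialSubgroup F := by
  let S : Sys D F := sysK C X hs
  obtain ⟨b, hb, n, u, hu, rfl⟩ := S.exists_cell_form hg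
  obtain ⟨u₀, hu₀, h₀, hh₀, rfl⟩ := (ChevalleyTorus.mem_B_iff C).1 hb
  have hu₀1 : u₀ = 1 := by
    refine fixed_U_family C hu₀ fun r hr => ?_
    obtain ⟨c, hc, hne⟩ := hP r hr
    obtain ⟨c', hc'⟩ := h c hc
    exact ⟨c, hne, (cell_fixed C Sm X hs hu₀ hh₀ n hu hc').2.1⟩
  have hu1 : u = 1 := by
    refine fixed_U_family C (S.Uw_le_U _ hu) fun r hr => ?_
    obtain ⟨c, hc, hne⟩ := hP _ (X.img_lt (S.toW n) hr)
    obtain ⟨c', hc'⟩ := h c hc
    obtain ⟨hw, -, hfix⟩ := cell_fixed C Sm X hs hu₀ hh₀ n hu hc'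
    refine ⟨c', fun h1 => hne ?_, hfix⟩
    rw [tchar_eq C Sm c' hr, ← hw] at h1
    exact (tchar_eq C Sm c (X.img_lt (S.toW n) hr)).trans <| (congrArg Additive.toMul (ev_wact C X (S.toW n) (chi Sm c) hr)).symm.trans h1
  rw [hu₀1, one_mul, hu1, mul_one]
  exact mul_mem (Sys.H_le_N hh₀) n.2

end General

theorem cartan_unit : ∀ s : Fin chevE7.nroots, ∃ i : Fin chevE7.rank, ¬ (5 : ℤ) ∣ chevE7.cartan i.val s.val := by
  decide +kernel

variable (X : Weyl chevE7) (hs : suppCheck chevE7 = true)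

include hs in
/-- The characteristic polynomial when the cube of the element fixes the three roots. -/
theorem charpoly_pos {ℓ : ℕ} [Fact ℓ.Prime] (hℓ : 12 < ℓ) (w : X.W) (q : ℤ)
    (hΦ : (ℓ : ℤ) ∣ (Polynomial.cyclotomic 12 ℤ).eval q)
    (hdet : (ℓ : ℤ) ∣ (Pm C₇ X w).charpoly.eval q) {z : ℕ} (hz : z < chevE7.nroots)
    (h1 : pr (X.img w z) z = 0) (h2 : pr (X.img w (X.img w z)) z = 0)
    (h3 : X.img w (X.img w (X.img w z)) = z) :
    (Pm C₇ X w).charpoly = Polynomial.cyclotomic 12 ℤ * (Polynomial.cyclotomic 1 ℤ * Polynomial.cyclotomic 3 ℤ) := by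
  classical
  have _ := hs
  set P := Pm C₇ X w with hP
  have hrank : chevE7.rank = 7 := by decide +kernel
  have htot : (12 : ℕ).totient = 4 := by decide
  obtain ⟨R, hR, hRm, hRd, -⟩ := ChevEigen14.exists_cofactor P (m := orderOf w) (orderOf_pos w)
    (by rw [hP, ← Pm_pow, pow_orderOf_eq_one, ← pow_zero w, Pm_pow, pow_zero]) Fact.out
    (fun h => by have := Nat.le_of_dvd (by norm_num) h; omega)
    (by rw [hrank]; omega) (by rw [hrank, htot]; norm_num) q hΦ hdet
  set a : Fin chevE7.rank → ℤ := fun k => (C₇).coef z k.val with ha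
  set a1 : Fin chevE7.rank → ℤ := fun k => (C₇).coef (X.img w z) k.val with ha1
  set a2 : Fin chevE7.rank → ℤ := fun k => (C₇).coef (X.img w (X.img w z)) k.val with ha2
  have e1 : P.transpose.mulVec a = a1 := transpose_coef X w hz
  have e2 : P.transpose.mulVec a1 = a2 := transpose_coef X w (X.img_lt w hz)
  have e3 : P.transpose.mulVec a2 = a := by
    rw [ha2, transpose_coef X w (X.img_lt w (X.img_lt w hz)), h3]
  have hdot : ∀ t, (fun k : Fin chevE7.rank => (C₇).coef t k.val) ⬝ᵥ gam z = pr t z := fun t => by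
    simp [dotProduct, pr, ev]
  let cq := Int.castRingHom ℚ
  have key : ∀ (e : ℕ), 0 < e → ∀ b : Fin chevE7.rank → ℤ,
      b ⬝ᵥ gam z ≠ 0 → (Polynomial.aeval P.transpose (Polynomial.cyclotomic e ℤ)).mulVec b = 0 → e ≠ 12 →
      Polynomial.cyclotomic e ℤ ∣ R := by
    intro e he b hb hkill he12
    have h3div : Polynomial.cyclotomic e ℚ ∣ (cq.mapMatrix P.transpose).charpoly := by
      refine ChevEigen14.dvd_charpoly_of_kill _ (Polynomial.cyclotomic.irreducible_rat he)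
        (b := cq ∘ b) (fun h0 => hb ?_) ?_
      · rw [show b = 0 from funext fun i => by simpa [cq] using congrFun h0 i, zero_dotProduct]
      have h2 : Polynomial.aeval (cq.mapMatrix P.transpose) (Polynomial.cyclotomic e ℚ) =
          cq.mapMatrix (Polynomial.aeval P.transpose (Polynomial.cyclotomic e ℤ)) := by
        rw [Polynomial.map_aeval_eq_aeval_map (φ := cq) (ψ := cq.mapMatrix (m := Fin chevE7.rank))
          (RingHom.ext fun z => by simp) (Polynomial.cyclotomic e ℤ) P.transpose, Polynomial.map_cyclotomic_int]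
      rw [h2]
      funext i
      rw [RingHom.mapMatrix_apply, ← RingHom.map_mulVec, hkill]
      simp
    rw [RingHom.mapMatrix_apply, Matrix.charpoly_map, Matrix.charpoly_transpose, hR, Polynomial.map_mul,
      Polynomial.map_cyclotomic_int, ← Polynomial.map_cyclotomic_int e ℚ] at h3div
    refine (Polynomial.map_dvd_map _ Int.cast_injective (Polynomial.cyclotomic.monic e ℤ)).1
      (IsCoprime.dvd_of_dvd_mul_left ?_ h3div)
    rw [Polynomial.map_cyclotomic_int]
    exact Polynomial.cyclotomic.isCoprime_rat he12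
  have hself : a ⬝ᵥ gam z = 2 := by rw [ha, hdot]; exact pr_self ⟨z, hz⟩
  have hd1 : a1 ⬝ᵥ gam z = 0 := by rw [ha1, hdot]; exact h1
  have hd2 : a2 ⬝ᵥ gam z = 0 := by rw [ha2, hdot]; exact h2
  have h1div := key 1 (by norm_num) (a2 + a1 + a)
    (by rw [add_dotProduct, add_dotProduct, hself, hd1, hd2]; norm_num)
    (by
      rw [Polynomial.cyclotomic_one, map_sub, Polynomial.aeval_X, map_one, Matrix.sub_mulVec, Matrix.one_mulVec,
        Matrix.mulVec_add, Matrix.mulVec_add, e3, e2, e1]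
      abel) (by norm_num)
  have h3div := key 3 (by norm_num) (a1 - a)
    (by rw [sub_dotProduct, hself, hd1]; norm_num)
    (by
      rw [Polynomial.cyclotomic_three, map_add, map_add, map_pow, Polynomial.aeval_X, map_one, Matrix.add_mulVec,
        Matrix.add_mulVec, Matrix.one_mulVec, sq, ← Matrix.mulVec_mulVec, Matrix.mulVec_sub, e2, e1,
        Matrix.mulVec_sub, e3, e2]
      abel) (by norm_num)
  have hmonic := (Polynomial.cyclotomic.monic 1 ℤ).mul (Polynomial.cyclotomic.monic 3 ℤ)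
  have h13 : Polynomial.cyclotomic 1 ℤ * Polynomial.cyclotomic 3 ℤ ∣ R := by
    refine (Polynomial.map_dvd_map (Int.castRingHom ℚ) Int.cast_injective hmonic).1 ?_
    rw [Polynomial.map_mul]
    refine IsCoprime.mul_dvd ?_ (Polynomial.map_dvd _ h1div) (Polynomial.map_dvd _ h3div)
    rw [Polynomial.map_cyclotomic_int, Polynomial.map_cyclotomic_int]
    exact Polynomial.cyclotomic.isCoprime_rat (by norm_num)
  rw [hR, Polynomial.eq_of_monic_of_dvd_of_natDegree_le hmonic hRm h13 (by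
    rw [(Polynomial.cyclotomic.monic 1 ℤ).natDegree_mul (Polynomial.cyclotomic.monic 3 ℤ),
      Polynomial.natDegree_cyclotomic, Polynomial.natDegree_cyclotomic, show (1 : ℕ).totient = 1 by decide,
      show (3 : ℕ).totient = 2 by decide]
    rw [htot, hrank] at hRd
    omega)]

/-- A permutation of order dividing five fixes each point of a stable set of three pairs. -/
theorem fix_six {α : Type*} [DecidableEq α] (π : Equiv.Perm α) (hπ : π ^ 5 = 1) (ng : α → α)
    (hne : ∀ x, ng x ≠ x) (hinv : ∀ x, ng (ng x) = x) (hc : ∀ x, π (ng x) = ng (π x)) (Z : Finset α)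
    (hZ : Z.card ≤ 6) (hst : ∀ x ∈ Z, π x ∈ Z) (hng : ∀ x ∈ Z, ng x ∈ Z) {x : α} (hx : x ∈ Z) : π x = x := by
  by_contra hmov
  have hpow : ∀ k : ℕ, (π ^ k) x ∈ Z := by
    intro k
    induction k with
    | zero => simpa using hx
    | succ k ih => rw [pow_succ', Equiv.Perm.mul_apply]; exact hst _ ih
  have hper : ∀ k, (π ^ k) x = x → 5 ∣ k := by
    intro k hk
    by_contra h5
    have h1 : Function.IsPeriodicPt π k x := by show π^[k] x = x; rw [← Equiv.Perm.coe_pow]; exact hk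
    have h2 : Function.IsPeriodicPt π 5 x := by show π^[5] x = x; rw [← Equiv.Perm.coe_pow, hπ]; rfl
    have h3 := h1.gcd h2
    rw [((Nat.Prime.coprime_iff_not_dvd (by norm_num)).2 h5).symm] at h3
    exact hmov h3
  have hshift : ∀ i j : ℕ, j ≤ 5 → (π ^ (i + (5 - j))) x = (π ^ (5 - j)) ((π ^ i) x) := fun i j _ => by
    rw [add_comm, pow_add, Equiv.Perm.mul_apply]
  have hback : ∀ j : ℕ, j ≤ 5 → (π ^ (5 - j)) ((π ^ j) x) = x := fun j hj => by
    rw [← Equiv.Perm.mul_apply, ← pow_add, Nat.sub_add_cancel hj, hπ, Equiv.Perm.one_apply]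
  have hcn : ∀ (k : ℕ) (y : α), (π ^ k) (ng y) = ng ((π ^ k) y) := by
    intro k
    induction k with
    | zero => simp
    | succ k ih => intro y; rw [pow_succ', Equiv.Perm.mul_apply, Equiv.Perm.mul_apply, ih, hc]
  have hO : ((Finset.range 5).image fun i => (π ^ i) x).card = 5 := by
    rw [Finset.card_image_of_injOn, Finset.card_range]
    intro i hi j hj e
    simp only [Finset.coe_range, Set.mem_Iio] at hi hj
    have h1 := hshift i j (by omega)
    simp only at e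
    rw [e, hback j (by omega)] at h1
    have := hper _ h1
    omega
  set O := (Finset.range 5).image fun i => (π ^ i) x with hOd
  have hO' : (O.image ng).card = 5 := by
    rw [Finset.card_image_of_injective _ (fun a b e => by rw [← hinv a, e, hinv]), hO]
  have hdisj : Disjoint O (O.image ng) := by
    rw [Finset.disjoint_left]
    intro y hy hy'
    obtain ⟨y', hy'', rfl⟩ := Finset.mem_image.1 hy'
    obtain ⟨i, hi, hi'⟩ := Finset.mem_image.1 hy
    obtain ⟨j, hj, rfl⟩ := Finset.mem_image.1 hy''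
    rw [Finset.mem_range] at hi hj
    have h1 := hshift i j (by omega)
    rw [hi', hcn, hback j (by omega)] at h1
    have h2 : (π ^ (2 * (i + (5 - j)))) x = x := by
      rw [two_mul, pow_add, Equiv.Perm.mul_apply, h1, hcn, h1, hinv]
    obtain ⟨e, he⟩ : 5 ∣ i + (5 - j) := (Nat.Prime.dvd_mul (by norm_num)).1 (hper _ h2) |>.resolve_left (by norm_num)
    rw [he, pow_mul, hπ, one_pow, Equiv.Perm.one_apply] at h1
    exact hne x h1.symm
  have hsub : O ∪ O.image ng ⊆ Z := by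
    refine Finset.union_subset (fun y hy => ?_) fun y hy => ?_
    · obtain ⟨i, -, rfl⟩ := Finset.mem_image.1 hy; exact hpow i
    · obtain ⟨y', hy', rfl⟩ := Finset.mem_image.1 hy
      obtain ⟨i, -, rfl⟩ := Finset.mem_image.1 hy'
      exact hng _ (hpow i)
  have := Finset.card_le_card hsub
  rw [Finset.card_union_of_disjoint hdisj, hO, hO'] at this
  omega

theorem supp7 : suppCheck chevE7 = true := ChevE7Twist14.supp

theorem poly : ChevOrder.polyOK ChevWeylData.e7.chain chevE7.rank [2, 6, 8, 10, 12, 14, 18] = true := by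
  decide +kernel

/-- **No element of order 65.** -/
theorem no_order_65 (x : GL chevE7.Idx (ZMod 2)) (hx : x ∈ chevE7.group (ZMod 2)) : orderOf x ≠ 65 := by
  classical
  intro hord
  obtain ⟨K, _, _, ι, σ, hcardK, hσ⟩ := ChevTwistArith14.exists_ext (F := ZMod 2) (d := 12) (by norm_num)
  rw [ZMod.card] at hcardK
  simp only [ZMod.card] at hσ
  let X := ChevWeylData.e7
  let Sm := ChevalleyTorusCard.smithE7
  let S : Sys chevE7 K := sysK C₇ X supp7
  have hcong : (Fintype.card K : ZMod 13) = 1 := by rw [hcardK]; decide +kernel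
  have hord2 : orderOf ((2 : ℕ) : ZMod 13) = 12 := by
    rw [orderOf_eq_iff (by norm_num)]
    refine ⟨by decide +kernel, fun m hm1 hm2 => ?_⟩
    interval_cases m <;> decide +kernel
  have hw2 : ((2 : ℕ) : ZMod 13) ≠ 0 := by decide +kernel
  have h13 : Fact (Nat.Prime 13) := ⟨by norm_num⟩
  have h5 : Fact (Nat.Prime 5) := ⟨by norm_num⟩
  let mp : GL chevE7.Idx (ZMod 2) →* GL chevE7.Idx K := Matrix.GeneralLinearGroup.map ι
  have hmp : Function.Injective mp := by
    intro a b hab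
    apply Units.ext
    have h := congrArg (fun g : GL chevE7.Idx K => (g : Matrix chevE7.Idx chevE7.Idx K)) hab
    simp only [mp, ChevFieldAut77.coe_map] at h
    exact Matrix.map_injective ι.injective h
  set y := mp x with hy_def
  have hordy : orderOf y = 65 := by rw [hy_def, orderOf_injective mp hmp, hord]
  have hyG : y ∈ chevE7.group K := ChevCoxTorus68.map_mem_group C₇ ι hx
  have hψy : psi σ y = y := by
    apply Units.ext
    rw [hy_def, ChevFieldAut77.coe_map, ChevFieldAut77.coe_map]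
    ext i j
    show σ (ι _) = ι _
    rw [hσ, ← map_pow, ZMod.pow_card]
  have twist : ∀ {g : GL chevE7.Idx K} {c : Fin chevE7.rank → Kˣ} {a : GL chevE7.Idx K}, g ∈ chevE7.group K →
      psi σ a = a → g * a * g⁻¹ = torus chevE7 c →
      ∃ w : X.W, wact C₇ X w (chi Sm c) = 2 • chi Sm c := by
    intro g c a hg ha hc
    have hn't : g * (psi σ g)⁻¹ * torus chevE7 (c ^ 2) = torus chevE7 c * (g * (psi σ g)⁻¹) := by
      rw [← ChevTorusTwist14.psi_torus_pow σ hσ, ← hc, map_mul, map_mul, map_inv, ha]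
      simp [mul_assoc]
    obtain ⟨w, hw, -⟩ := transporter C₇ Sm X supp7
      (mul_mem hg (inv_mem (ChevCoxTorus68.map_mem_group C₇ σ.toRingHom hg))) hn't
    exact ⟨w, by rw [hw, chi_pow]⟩
  -- the part of order thirteen
  obtain ⟨g, hg, hgt⟩ := exists_conj_mem_torus C₇ Sm X supp7 [2, 6, 8, 10, 12, 14, 18] poly (by decide +kernel)
    (ℓ := 13) hcong (by decide) (pow_mem hyG 5) (by rw [← pow_mul, show 5 * 13 = orderOf y by rw [hordy]]; exact pow_orderOf_eq_one y)
  obtain ⟨c, hc⟩ := (ChevalleyTorus.mem_H_iff C₇).1 hgt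
  obtain ⟨w, hwc⟩ := twist hg (by rw [map_pow, hψy]) hc.symm
  have hord5 : orderOf (y ^ 5) = 13 := by
    rw [orderOf_pow' y (by norm_num), hordy]; norm_num
  have hc13 : 13 • chi Sm c = 0 := by
    rw [← chi_pow, ← chi_one Sm (K := K)]
    apply chi_congr C₇ Sm
    rw [map_pow, map_one, hc, conj_pow, ← hord5, pow_orderOf_eq_one, mul_one, mul_inv_cancel]
  have hc0 : chi Sm c ≠ 0 := by
    intro h0
    have h1 := torus_congr C₇ Sm (h0.trans (chi_one Sm).symm)
    rw [map_one, hc, conj_eq_one_iff] at h1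
    rw [h1, orderOf_one] at hord5
    norm_num at hord5
  have hK13 : 13 ∣ Fintype.card K - 1 := by rw [hcardK]; norm_num
  obtain ⟨v13, hv13, hgen13⟩ := exists_prim (K := K) hK13
  choose f hf using fun j => hgen13 (chi Sm c j) (congrFun hc13 j)
  have hev : ∀ a, ev C₇ (chi Sm c) a = ev C₇ f a • v13 := fun a => by
    rw [← ev_smul_const]; exact congrArg (ev C₇ · a) (funext hf).symm
  have hdvd : ∀ a : ℤ, a • v13 = 0 ↔ (13 : ℤ) ∣ a := fun a => by
    rw [← addOrderOf_dvd_iff_zsmul_eq_zero, hv13]; rfl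
  have hf0 : ¬ ∀ j, ((13 : ℕ) : ℤ) ∣ f j := fun hall => hc0 (funext fun j => by
    rw [← hf j]; exact (hdvd _).2 (hall j))
  have hshift : ∀ v : X.W, ∀ (m : ℕ), wact C₇ X v (chi Sm c) = m • chi Sm c →
      ∀ s, s < chevE7.nroots → ((13 : ℕ) : ℤ) ∣ ev C₇ f (X.img v s) - m * ev C₇ f s := by
    intro v m hv s hs'
    refine (hdvd _).1 ?_
    rw [sub_zsmul, mul_zsmul, ← hev, ← hev, ← ev_wact C₇ X v (chi Sm c) hs', hv, ev_nsmul, natCast_zsmul,
      add_neg_cancel]
  obtain ⟨f', -, -, -, hfd⟩ := ChevTwistSetup14.exists_int_eigen C₇ X hK13 hc0 hc13 hwc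
  have hΦ : ((13 : ℕ) : ℤ) ∣ (Polynomial.cyclotomic 12 ℤ).eval ((2 : ℕ) : ℤ) := by
    rw [ChevTwistArith14.eval_cyclotomic_twelve]; norm_num
  obtain ⟨z, hz, hzf, hp1, hp2, hp3, hzero⟩ := triple X supp7 (by norm_num) f hf0 w 2 hord2 hΦ
    (hshift w 2 hwc) hfd
  set z1 := X.img w z with hz1d
  set z2 := X.img w z1 with hz2d
  have hz1 : z1 < chevE7.nroots := X.img_lt w hz
  have hz2 : z2 < chevE7.nroots := X.img_lt w hz1
  -- stabilisers of order five are trivial
  have hstab : ∀ v : X.W, v ^ 5 = 1 → wact C₇ X v (chi Sm c) = chi Sm c → v = 1 := by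
    intro v hv5 hv
    have hv' : ∀ s, s < chevE7.nroots → ((13 : ℕ) : ℤ) ∣ ev C₇ f (X.img v s) - ev C₇ f s := fun s hs' => by
      simpa using hshift v 1 (by rw [hv, one_smul]) s hs'
    set Z := Finset.univ.filter fun s : Fin chevE7.nroots => ((13 : ℕ) : ℤ) ∣ ev C₇ f s.val with hZd
    have hzZ1 : ((13 : ℕ) : ℤ) ∣ ev C₇ f z1 :=
      (ChevTwistSetup14.eigen_iff C₇ X f w 2 hw2 (hshift w 2 hwc) hz).2 hzf
    have hzZ2 : ((13 : ℕ) : ℤ) ∣ ev C₇ f z2 :=
      (ChevTwistSetup14.eigen_iff C₇ X f w 2 hw2 (hshift w 2 hwc) hz1).2 hzZ1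
    have hZ : Z.card ≤ 6 := by
      have hsub : Z.image Fin.val ⊆ {z, chevE7.neg z, z1, chevE7.neg z1, z2, chevE7.neg z2} := by
        intro a ha
        obtain ⟨s, hs', rfl⟩ := Finset.mem_image.1 ha
        simp only [Finset.mem_insert, Finset.mem_singleton]
        exact hzero s.val s.isLt (Finset.mem_filter.1 hs').2
      have := (Finset.card_le_card hsub).trans Finset.card_le_six
      rwa [Finset.card_image_of_injective _ Fin.val_injective] at this
    have hfix : ∀ a : Fin chevE7.nroots, a ∈ Z → X.img v a.val = a.val := by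
      intro a ha
      have hρ : ∀ s : Fin chevE7.nroots, (X.ρ v s).val = X.img v s.val := fun s => by
        rw [Weyl.img, dif_pos s.isLt]
      rw [← hρ]
      refine congrArg Fin.val (fix_six (X.ρ v) (by rw [← map_pow, hv5, map_one])
        (fun s => ⟨chevE7.neg s.val, (C₇).neg_lt _⟩) (fun s e => ChevalleyRoots.neg_ne C₇ s.isLt (congrArg Fin.val e))
        (fun s => Fin.ext ((X.root_facts s.isLt).2.1)) (fun s => Fin.ext ?_) Z hZ ?_ ?_ ha)
      · rw [hρ]; show X.img v (chevE7.neg s.val) = chevE7.neg (X.ρ v s).val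
        rw [hρ, X.img_neg v s.isLt]
      · intro s hs'
        rw [hZd, Finset.mem_filter] at hs' ⊢
        refine ⟨Finset.mem_univ _, ?_⟩
        rw [hρ]
        exact (dvd_iff_dvd_of_dvd_sub (hv' s.val s.isLt)).2 hs'.2
      · intro s hs'
        rw [hZd, Finset.mem_filter] at hs' ⊢
        refine ⟨Finset.mem_univ _, ?_⟩
        show ((13 : ℕ) : ℤ) ∣ ev C₇ f (chevE7.neg s.val)
        rw [ev_neg C₇ f s.isLt, dvd_neg]; exact hs'.2
    have hmem : ∀ a, (ha : a < chevE7.nroots) → ((13 : ℕ) : ℤ) ∣ ev C₇ f a → X.img v a = a := fun a ha hd =>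
      hfix ⟨a, ha⟩ (Finset.mem_filter.2 ⟨Finset.mem_univ _, hd⟩)
    let β : Fin chevE7.rank → ℤ := gam z + (2 : ℤ) • gam z1 + (4 : ℤ) • gam z2
    have hβev : ∀ s, ev C₇ β s = pr s z + 2 * pr s z1 + 4 * pr s z2 := fun s => by
      simp only [β, ev_add, ev_zsmul, smul_eq_mul]; rfl
    have hβv : ∀ s, s < chevE7.nroots → ev C₇ β (X.img v s) = ev C₇ β s := by
      intro s hs'
      rw [hβev, hβev]
      conv_lhs => rw [← hmem z hz hzf, ← hmem z1 hz1 hzZ1, ← hmem z2 hz2 hzZ2]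
      rw [pr_img X v hs' hz, pr_img X v hs' hz1, pr_img X v hs' hz2]
    have h21 : pr z2 z1 = 0 := by rw [hz2d, hz1d, pr_img X w hz1 hz]; exact hp1
    have hbz : ev C₇ β z = 2 := by
      rw [hβev, pr_self ⟨z, hz⟩, pr_comm hz hz1, hp1, pr_comm hz hz2, hp2]; norm_num
    have hbz1 : ev C₇ β z1 = 4 := by
      rw [hβev, pr_self ⟨_, hz1⟩, hp1, pr_comm hz1 hz2, h21]; norm_num
    have hbz2 : ev C₇ β z2 = 8 := by
      rw [hβev, pr_self ⟨_, hz2⟩, hp2, h21]; norm_num
    let f₁ : Fin chevE7.rank → ℤ := (18 : ℤ) • f + (26 : ℤ) • β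
    have hf1 : ∀ s, ev C₇ f₁ s = 18 * ev C₇ f s + 26 * ev C₇ β s := fun s => by
      simp only [f₁, ev_add, ev_zsmul, smul_eq_mul]
    choose k hk using fun j : Fin chevE7.rank =>
      (show (117 : ℤ) ∣ 9 * (ev C₇ f (X.img v (chevE7.simple j.val)) - f j) by
        have h := hv' _ (X.simple_lt j.isLt)
        rw [ev_simple] at h
        push_cast at h
        omega)
    refine ChevRootFn14.no_fix tab X supp7 Sm hmin (N := 117) (by norm_num) f₁ (fun s hs' hd => ?_) v
      (act (ChevTorusTwist14.Binv Sm) k) (funext fun j => ?_)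
    · rw [hf1] at hd
      have h1 : (13 : ℤ) ∣ 18 * ev C₇ f s + 26 * ev C₇ β s := (show (13 : ℤ) ∣ 117 by norm_num).trans hd
      have h2 : (9 : ℤ) ∣ 18 * ev C₇ f s + 26 * ev C₇ β s := (show (9 : ℤ) ∣ 117 by norm_num).trans hd
      have h3 : ((13 : ℕ) : ℤ) ∣ ev C₇ f s := by push_cast; omega
      rcases hzero s hs' h3 with rfl | rfl | rfl | rfl | rfl | rfl
      · rw [hbz] at h2; omega
      · rw [ev_neg C₇ β hz, hbz] at h2; omega
      · rw [hbz1] at h2; omega
      · rw [ev_neg C₇ β hz1, hbz1] at h2; omega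
      · rw [hbz2] at h2; omega
      · rw [ev_neg C₇ β hz2, hbz2] at h2; omega
    · rw [← ChevalleyTorusCard.act_mul, ChevTorusTwist14.A_mul_Binv _ (by norm_num),
        ChevalleyTorusCard.act_smul, ChevalleyTorusCard.act_one]
      show ev C₇ f₁ (X.img v (chevE7.simple j.val)) = _
      rw [hf1, hβv _ (X.simple_lt j.isLt), ev_simple]
      show _ = 18 * f j + 26 * β j + 117 * (2 * k j)
      have := hk j
      linarith
  -- the element of order five is conjugate into the torus inside the centralizer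
  let t := torus chevE7 c
  let Ct : Subgroup (GL chevE7.Idx K) := chevE7.group K ⊓ Subgroup.centralizer {t}
  let T : Subgroup ↥Ct := (chevE7.diagonalSubgroup K).subgroupOf Ct
  have hT : ∀ c', torus chevE7 c' ∈ Ct := fun c' =>
    ⟨S.H_le_group (ChevalleyTorus.torus_mem_H C₇ c'), Subgroup.mem_centralizer_iff.2 fun h hh => by
      rw [Set.mem_singleton_iff.1 hh, ← map_mul, ← map_mul, mul_comm]⟩
  let e5 : (Fin chevE7.rank → ↥(rootsOfUnity 5 K)) →* ↥Ct :=
    { toFun := fun a => ⟨torus chevE7 fun i => (a i).1, hT _⟩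
      map_one' := Subtype.ext (map_one (torus chevE7))
      map_mul' := fun a b => Subtype.ext (map_mul (torus chevE7) _ _) }
  have hP : IsPGroup 5 ↥e5.range := by
    rintro ⟨_, a, rfl⟩
    refine ⟨1, Subtype.ext ?_⟩
    show e5 a ^ 5 ^ 1 = 1
    rw [← map_pow, pow_one, show a ^ 5 = 1 from funext fun i => Subtype.ext (
      (mem_rootsOfUnity 5 _).1 (a i).2), map_one]
  let NC : Subgroup ↥Ct := (chevE7.monomialSubgroup K).subgroupOf Ct
  let θ : ↥NC →* X.W := S.toW.comp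
    { toFun := fun n => ⟨n.1.1, n.2⟩
      map_one' := rfl
      map_mul' := fun _ _ => rfl }
  have hθker : ∀ n n' : ↥NC, θ n = θ n' ↔ (QuotientGroup.mk n.1 : ↥Ct ⧸ T) = QuotientGroup.mk n'.1 := by
    intro n n'
    rw [QuotientGroup.eq]
    constructor
    · intro e
      have h0 : θ (n⁻¹ * n') = 1 := by rw [map_mul, map_inv, e, inv_mul_cancel]
      exact S.toW_ker.le (MonoidHom.mem_ker.2 h0)
    · intro e
      have h0 : θ (n⁻¹ * n') = 1 := S.toW_eq (S.acts_H e)
      rw [map_mul, map_inv, inv_mul_eq_one] at h0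
      exact h0
  have hζ : ∃ ζ : ↥(rootsOfUnity 5 K), orderOf (ζ : Kˣ) = 5 := by
    have h5K : 5 ∣ Nat.card Kˣ := by
      rw [Nat.card_eq_fintype_card, Fintype.card_units, hcardK]; norm_num
    obtain ⟨ζ, hζ⟩ := exists_prime_orderOf_dvd_card' (G := Kˣ) 5 h5K
    exact ⟨⟨ζ, by rw [mem_rootsOfUnity, ← hζ, pow_orderOf_eq_one]⟩, hζ⟩
  obtain ⟨ζ, hζ⟩ := hζ
  have hfixed : ∀ a : ↥Ct ⧸ T, a ∈ MulAction.fixedPoints ↥e5.range (↥Ct ⧸ T) ↔
      ∃ n : ↥NC, QuotientGroup.mk n.1 = a := by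
    intro a
    constructor
    · induction a using QuotientGroup.induction_on with
      | _ a =>
        intro ha
        refine ⟨⟨a, ?_⟩, rfl⟩
        show (a : GL chevE7.Idx K) ∈ chevE7.monomialSubgroup K
        refine mem_N_of_conj C₇ X supp7 a.2.1 (P := fun c' => ∀ i, c' i ∈ rootsOfUnity 5 K)
          (fun r hr => ?_) (fun c' hc' => ?_) Sm
        · obtain ⟨i, hi⟩ := cartan_unit ⟨r, hr⟩
          refine ⟨Pi.mulSingle i ζ.1, fun j => ?_, ?_⟩
          · by_cases hj : j = i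
            · subst hj; rw [Pi.mulSingle_eq_same]; exact ζ.2
            · rw [Pi.mulSingle_eq_of_ne hj]; exact one_mem _
          · rw [ChevalleyTorus.tchar_single C₇, Ne, ← orderOf_dvd_iff_zpow_eq_one, hζ]
            exact hi
        · have h1 := ha ⟨e5 fun i => ⟨c' i, hc' i⟩, _, rfl⟩
          have h2 : QuotientGroup.mk (e5 (fun i => ⟨c' i, hc' i⟩) * a) = (QuotientGroup.mk a : ↥Ct ⧸ T) := h1
          have h3 := QuotientGroup.eq.1 h2.symm
          obtain ⟨c'', hc''⟩ := (ChevalleyTorus.mem_H_iff C₇).1 h3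
          refine ⟨c'', ?_⟩
          rw [hc'']
          show (a : GL chevE7.Idx K) * ((a : GL chevE7.Idx K)⁻¹ * (torus chevE7 c' * a)) = _
          group
    · rintro ⟨n, rfl⟩ ⟨_, b, rfl⟩
      show QuotientGroup.mk (e5 b * n.1) = (QuotientGroup.mk n.1 : ↥Ct ⧸ T)
      refine QuotientGroup.eq.2 ?_
      show ((e5 b * n.1)⁻¹ * n.1 : ↥Ct).1 ∈ chevE7.diagonalSubgroup K
      let n0 : ↥(chevE7.monomialSubgroup K) := ⟨n.1.1, n.2⟩
      obtain ⟨c'', h1, -⟩ := conj_torus C₇ Sm X supp7 n0⁻¹ (fun i => (b i).1⁻¹)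
      rw [(ChevalleyTorus.mem_H_iff C₇)]
      refine ⟨c'', h1.symm.trans ?_⟩
      simp only [Subgroup.coe_inv, inv_inv, mul_inv_rev, Subgroup.coe_mul]
      rw [show (fun i => ((b i).1)⁻¹) = (fun i => (b i).1)⁻¹ from rfl, map_inv]
      rfl
  have hcardfix : Nat.card ↥(MulAction.fixedPoints ↥e5.range (↥Ct ⧸ T)) = Nat.card ↥θ.range := by
    symm
    choose rep hrep using fun v : ↥θ.range => v.2
    refine Nat.card_eq_of_bijective (fun v => ⟨QuotientGroup.mk (rep v).1, (hfixed _).2 ⟨_, rfl⟩⟩) ⟨?_, ?_⟩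
    · intro v v' e
      exact Subtype.ext (by rw [← hrep v, ← hrep v']; exact (hθker _ _).2 (congrArg Subtype.val e))
    · rintro ⟨a, ha⟩
      obtain ⟨n, rfl⟩ := (hfixed a).1 ha
      refine ⟨⟨θ n, n, rfl⟩, Subtype.ext ((hθker _ _).1 ?_)⟩
      exact hrep ⟨θ n, n, rfl⟩
  have h5fix : ¬ 5 ∣ Nat.card ↥θ.range := by
    intro h
    obtain ⟨⟨v, n, rfl⟩, hv⟩ := exists_prime_orderOf_dvd_card' 5 h
    have hv5 : θ n ^ 5 = 1 := by
      rw [← Subgroup.orderOf_coe] at hv
      rw [← hv]; exact pow_orderOf_eq_one _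
    obtain ⟨c'', h1, h2⟩ := conj_torus C₇ Sm X supp7 ⟨n.1.1, n.2⟩ c
    have hcom : n.1.1 * t = t * n.1.1 :=
      ((Subgroup.mem_centralizer_iff.1 n.1.2.2) t (Set.mem_singleton t)).symm
    have h3 : torus chevE7 c'' = torus chevE7 c := by
      rw [← h1]
      show n.1.1 * t * n.1.1⁻¹ = t
      rw [hcom, mul_inv_cancel_right]
    rw [chi_congr C₇ Sm h3] at h2
    have h4 := hstab (θ n) hv5 h2
    rw [← Subgroup.orderOf_coe] at hv
    simp only at hv
    rw [h4, orderOf_one] at hv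
    norm_num at hv
  have h5idx : ¬ 5 ∣ Nat.card (↥Ct ⧸ T) := by
    intro h
    have := hP.card_modEq_card_fixedPoints (↥Ct ⧸ T)
    rw [hcardfix] at this
    exact h5fix (Nat.modEq_zero_iff_dvd.1 (this.symm.trans (Nat.modEq_zero_iff_dvd.2 h)))
  set Y := g * y ^ 13 * g⁻¹ with hY
  have hYC : Y ∈ Ct := ⟨(chevE7.group K).mul_mem ((chevE7.group K).mul_mem hg ((chevE7.group K).pow_mem hyG 13)) ((chevE7.group K).inv_mem hg),
    Subgroup.mem_centralizer_iff.2 fun h hh => by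
      rw [Set.mem_singleton_iff.1 hh, show t = g * y ^ 5 * g⁻¹ from hc, hY]
      rw [show ∀ a b : GL chevE7.Idx K, g * a * g⁻¹ * (g * b * g⁻¹) = g * (a * b) * g⁻¹ from fun a b => by group,
        show ∀ a b : GL chevE7.Idx K, g * a * g⁻¹ * (g * b * g⁻¹) = g * (a * b) * g⁻¹ from fun a b => by group,
        ← pow_add, ← pow_add, add_comm]⟩
  let Y' : ↥Ct := ⟨Y, hYC⟩
  have hY5 : Y' ^ 5 = 1 := Subtype.ext (by
    show Y ^ 5 = 1
    rw [hY, conj_pow, ← pow_mul, show 13 * 5 = orderOf y by rw [hordy], pow_orderOf_eq_one, mul_one, mul_inv_cancel])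
  have hpY : IsPGroup 5 ↥(Subgroup.zpowers Y') := by
    rintro ⟨_, k, rfl⟩
    refine ⟨1, Subtype.ext ?_⟩
    show (Y' ^ k) ^ (5 ^ 1) = 1
    rw [pow_one, ← zpow_natCast, ← zpow_mul, mul_comm, zpow_mul, zpow_natCast, hY5, one_zpow]
  obtain ⟨a, ha⟩ := hpY.nonempty_fixed_point_of_prime_not_dvd_card (↥Ct ⧸ T) h5idx
  obtain ⟨a, rfl⟩ : ∃ a', QuotientGroup.mk a' = a := QuotientGroup.mk_surjective a
  have ha' : (QuotientGroup.mk (Y' * a) : ↥Ct ⧸ T) = QuotientGroup.mk a := ha ⟨Y', Subgroup.mem_zpowers Y'⟩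
  have hYT : (a : GL chevE7.Idx K)⁻¹ * Y * a ∈ chevE7.diagonalSubgroup K := by
    have h1 := QuotientGroup.eq.1 ha'.symm
    rw [mul_assoc]
    exact h1
  -- the whole element in the torus
  set g' := (a : GL chevE7.Idx K)⁻¹ * g with hg'
  have hg'G : g' ∈ chevE7.group K := mul_mem (inv_mem a.2.1) hg
  have hat : (a : GL chevE7.Idx K)⁻¹ * t * a = t := by
    have := (Subgroup.mem_centralizer_iff.1 a.2.2) t (Set.mem_singleton t)
    rw [mul_assoc, this, inv_mul_cancel_left]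
  have hall : g' * y * g'⁻¹ ∈ chevE7.diagonalSubgroup K := by
    have k5 : g' * y ^ 5 * g'⁻¹ ∈ chevE7.diagonalSubgroup K := by
      rw [hg', show (a : GL chevE7.Idx K)⁻¹ * g * y ^ 5 * ((a : GL chevE7.Idx K)⁻¹ * g)⁻¹ =
        (a : GL chevE7.Idx K)⁻¹ * (g * y ^ 5 * g⁻¹) * a by group, ← hc, hat]
      exact ChevalleyTorus.torus_mem_H C₇ c
    have k13 : g' * y ^ 13 * g'⁻¹ ∈ chevE7.diagonalSubgroup K := by
      rw [hg', show (a : GL chevE7.Idx K)⁻¹ * g * y ^ 13 * ((a : GL chevE7.Idx K)⁻¹ * g)⁻¹ =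
        (a : GL chevE7.Idx K)⁻¹ * (g * y ^ 13 * g⁻¹) * a by group]
      exact hYT
    rw [show g' * y * g'⁻¹ = (g' * y ^ 5 * g'⁻¹) ^ 8 * ((g' * y ^ 13 * g'⁻¹) ^ 3)⁻¹ by
      rw [conj_pow, conj_pow]; group]
    exact mul_mem (pow_mem k5 8) (inv_mem (pow_mem k13 3))
  obtain ⟨cc, hcc⟩ := (ChevalleyTorus.mem_H_iff C₇).1 hall
  obtain ⟨w', hw'⟩ := twist hg'G hψy hcc.symm
  have hne : ∀ k, ¬ 65 ∣ k → k • chi Sm cc ≠ 0 := by
    intro k hk h0
    have h1 := torus_congr C₇ Sm (c := cc ^ k) (c' := 1) (by rw [chi_pow, h0, chi_one])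
    rw [map_one, map_pow, hcc, conj_pow, conj_eq_one_iff] at h1
    exact hk (hordy ▸ orderOf_dvd_of_pow_eq_one h1)
  have h65 : 65 • chi Sm cc = 0 := by
    rw [← chi_pow, ← chi_one Sm (K := K)]
    apply chi_congr C₇ Sm
    rw [map_pow, map_one, hcc, conj_pow, ← hordy, pow_orderOf_eq_one, mul_one, mul_inv_cancel]
  have hwk : ∀ k : ℕ, wact C₇ X w' (k • chi Sm cc) = 2 • (k • chi Sm cc) := fun k => by
    funext j
    show ev C₇ (k • chi Sm cc) (X.img w' (chevE7.simple j.val)) = (2 • k • chi Sm cc) j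
    rw [ev_nsmul, show ev C₇ (chi Sm cc) (X.img w' (chevE7.simple j.val)) = wact C₇ X w' (chi Sm cc) j from rfl,
      hw', smul_comm]
    rfl
  obtain ⟨φ, hφ0, hφz, hφe, hφd⟩ := ChevTwistSetup14.exists_int_eigen C₇ X hK13 (hne 5 (by norm_num))
    (by rw [← mul_nsmul']; exact h65) (hwk 5)
  obtain ⟨-, -, -, -, hd5⟩ := ChevTwistSetup14.exists_int_eigen C₇ X (ℓ := 5)
    (by rw [hcardK]; norm_num : 5 ∣ Fintype.card K - 1) (hne 13 (by norm_num))
    (by rw [← mul_nsmul']; exact h65) (hwk 13)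
  obtain ⟨y0, hy0, -, hq1, hq2, hq3, -⟩ := triple X supp7 (by norm_num) φ hφ0 w' 2 hord2 hΦ hφe hφd
  rcases hq3 with h | h
  · rw [charpoly_pos X supp7 (by norm_num) w' ((2 : ℕ) : ℤ) hΦ hφd hy0 hq1 hq2 h, Polynomial.eval_mul,
      Polynomial.eval_mul, ChevTwistArith14.eval_cyclotomic_twelve, Polynomial.cyclotomic_one,
      Polynomial.cyclotomic_three] at hd5
    norm_num at hd5
  · rw [charpoly_eq X supp7 (by norm_num) w' ((2 : ℕ) : ℤ) hΦ hφd hy0 hq1 hq2 h, Polynomial.eval_mul,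
      Polynomial.eval_mul, ChevTwistArith14.eval_cyclotomic_twelve, Polynomial.cyclotomic_two,
      Polynomial.cyclotomic_six] at hd5
    norm_num at hd5

end Cfsg.Agent.ChevE7Order65_14
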