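import Cfsg.Agent.Lib.ChevE7Twist14
import Cfsg.Agent.Lib.ChevAutRoots
import Cfsg.Agent.Lib.ChevalleyRankOne

/-!
Changing the twisting element by a reflection in one of three orthogonal vanishing roots.
-/

set_option autoImplicit false
set_option maxRecDepth 100000

namespace Cfsg.Agent.ChevE7RankOne14

open Cfsg.Lie Cfsg.Agent.ChevalleyCert Cfsg.Agent.ChevalleyCore Cfsg.Agent.ChevWeyl Cfsg.Agent.ChevBruhat
open Cfsg.Agent.ChevRootCoord68 (ev wact ev_add ev_zsmul ev_wact wact_mul)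
open Cfsg.Agent.ChevE7Twist14 (pr gam pr_self pr_comm pr_neg_right)
open Cfsg.Agent.ChevTorusTwist14 (chi sysK conj_torus torus_conj chi_congr)
open Cfsg.Agent.ChevFieldAut77 (psi psi_xg)
open Cfsg.Agent.ChevalleyTorus (torus)

/-- the certificate -/
local notation "C₇" => ChevalleyDataE7.cert

/-- an element with prescribed Frobenius relation -/
theorem exists_shift {L : Type*} [Field L] [Fintype L] {Q : ℕ} (hQ : 2 ≤ Q) (hcard : Fintype.card L = Q ^ 4)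
    (hsub : ∀ x y : L, (x - y) ^ Q = x ^ Q - y ^ Q) {e : L} (he : e ≠ 0)
    (hnorm : e ^ (1 + Q + Q ^ 2 + Q ^ 3) = 1) :
    ∃ b : L, b ^ Q / e - b ≠ 0 ∧ (b ^ Q / e - b) ^ Q = -(e * (b ^ Q / e - b)) := by
  classical
  obtain ⟨γ, hγ⟩ := IsCyclic.exists_generator (α := Lˣ)
  have hord : orderOf γ = Q ^ 4 - 1 := by
    rw [orderOf_eq_card_of_forall_mem_zpowers hγ, Nat.card_eq_fintype_card, Fintype.card_units, hcard]
  obtain ⟨k, hk⟩ := Subgroup.mem_zpowers_iff.1 (hγ (Units.mk0 e he))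
  have hQ4 : 1 ≤ Q ^ 4 := Nat.one_le_pow _ _ (by omega)
  have hd : ((Q ^ 4 - 1 : ℕ) : ℤ) ∣ k * ((1 + Q + Q ^ 2 + Q ^ 3 : ℕ) : ℤ) := by
    rw [← hord, orderOf_dvd_iff_zpow_eq_one, zpow_mul, hk, zpow_natCast]
    exact Units.ext (by simpa using hnorm)
  rw [show ((Q ^ 4 - 1 : ℕ) : ℤ) = ((Q : ℤ) - 1) * ((1 + Q + Q ^ 2 + Q ^ 3 : ℕ) : ℤ) by
    push_cast [hQ4]; ring] at hd
  obtain ⟨j, hj⟩ := (mul_dvd_mul_iff_right (Int.natCast_ne_zero.2 (by omega))).1 hd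
  set μ := γ ^ (Q ^ 2 + 1) with hμ
  have hμ1 : μ ^ (Q ^ 2) = μ := by
    have h1 : μ ^ (Q ^ 2 - 1) = 1 := by
      rw [hμ, ← pow_mul, show (Q ^ 2 + 1) * (Q ^ 2 - 1) = Q ^ 4 - 1 by
        obtain ⟨r, hr⟩ : ∃ r, Q ^ 2 = r + 1 := ⟨Q ^ 2 - 1, by
          have := Nat.one_le_pow 2 Q (by omega); omega⟩
        rw [show Q ^ 4 = (Q ^ 2) ^ 2 by ring, hr]
        have : (r + 1) ^ 2 = (r + 1 + 1) * r + 1 := by ring
        rw [this]; simp, ← hord, pow_orderOf_eq_one]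
    conv_lhs => rw [show Q ^ 2 = Q ^ 2 - 1 + 1 by have := Nat.one_le_pow 2 Q (by omega); omega]
    rw [pow_succ, h1, one_mul]
  have hμ2 : μ ^ Q ≠ μ := by
    intro h
    have h1 : μ ^ (Q - 1) = 1 := by
      refine mul_right_cancel (b := μ) ?_
      rw [← pow_succ, show Q - 1 + 1 = Q by omega, h, one_mul]
    rw [hμ, ← pow_mul, ← orderOf_dvd_iff_pow_eq_one, hord] at h1
    obtain ⟨p, rfl⟩ : ∃ p, Q = p + 2 := ⟨Q - 2, by omega⟩
    have := Nat.le_of_dvd (Nat.mul_pos (by positivity) (by omega)) h1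
    rw [show p + 2 - 1 = p + 1 by omega] at this
    have hpos : 0 < ((p + 2) ^ 2 + 1) * ((p + 1) * (p + 2)) := by positivity
    have h4 : (p + 2) ^ 4 = ((p + 2) ^ 2 + 1) * (p + 1) + (((p + 2) ^ 2 + 1) * ((p + 1) * (p + 2)) + 1) := by ring
    omega
  set b₀ : Lˣ := γ ^ j with hb₀
  have hb : b₀ ^ Q = Units.mk0 e he * b₀ := by
    rw [← hk, hb₀, ← zpow_natCast, ← zpow_mul, ← zpow_add, hj]
    congr 1; ring
  have hbL : (b₀ : L) ^ Q = e * b₀ := by simpa using congrArg Units.val hb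
  have hμ1' : (μ : L) ^ (Q ^ 2) = μ := by simpa using congrArg Units.val hμ1
  refine ⟨b₀ * μ, ?_, ?_⟩
  · rw [mul_pow, hbL, show e * (b₀ : L) * (μ : L) ^ Q / e - b₀ * μ = b₀ * ((μ : L) ^ Q - μ) by field_simp]
    exact mul_ne_zero b₀.ne_zero (sub_ne_zero.2 fun h => hμ2 (Units.ext (by simpa using h)))
  · rw [mul_pow, hbL, show e * (b₀ : L) * (μ : L) ^ Q / e - b₀ * μ = b₀ * ((μ : L) ^ Q - μ) by field_simp,
      mul_pow, hsub, hbL, ← pow_mul, ← sq, hμ1']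
    ring

section Roots

theorem pr_comb {u r s : ℕ} (i j : ℤ)
    (h : ∀ k, k < chevE7.rank → (C₇).coef u k = i * (C₇).coef r k + j * (C₇).coef s k) (t : ℕ) :
    pr u t = i * pr r t + j * pr s t := by
  simp only [pr, ev, smul_eq_mul, Finset.mul_sum, ← Finset.sum_add_distrib]
  exact Finset.sum_congr rfl fun k _ => by rw [h k.val k.isLt]; ring

theorem comm_orth {F : Type*} [Field F] {r s : ℕ} (hr : r < chevE7.nroots) (hs : s < chevE7.nroots)
    (h : pr r s = 0) (t u : F) : xg C₇ s u * xg C₇ r t = xg C₇ r t * xg C₇ s u := by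
  refine ChevAutRoots.xg_comm_of_nil C₇ hr hs ?_ ?_ (List.eq_nil_iff_forall_not_mem.2 fun c hc => ?_) t u
  · rintro rfl
    rw [pr_self ⟨s, hs⟩] at h; norm_num at h
  · rintro rfl
    rw [pr_neg_right hr, pr_self ⟨r, hr⟩] at h; norm_num at h
  obtain ⟨hu, hi, hj, hco⟩ := ChevalleyRoots.commTerms_mem C₇ hr hs hc
  have h1 := pr_comb _ _ hco c.1
  rw [pr_self ⟨_, hu⟩, pr_comm hr hu, pr_comm hs hu, pr_comb _ _ hco r, pr_comb _ _ hco s, pr_self ⟨r, hr⟩,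
    pr_self ⟨s, hs⟩, pr_comm hs hr, h] at h1
  have hi' : (1 : ℤ) ≤ (c.2.2.1 : ℤ) := by exact_mod_cast hi
  have hj' : (1 : ℤ) ≤ (c.2.2.2 : ℤ) := by exact_mod_cast hj
  nlinarith

variable {F : Type*} [Field F]

/-- the subgroup generated by the root elements of a root and its negative -/
def pair (r : ℕ) : Subgroup (GL chevE7.Idx F) :=
  Subgroup.closure (Set.range (fun t : F => xg C₇ r t) ∪ Set.range fun t : F => xg C₇ (chevE7.neg r) t)

theorem pair_commute {r s : ℕ} (hr : r < chevE7.nroots) (hs : s < chevE7.nroots) (h : pr r s = 0)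
    {x y : GL chevE7.Idx F} (hx : x ∈ pair r) (hy : y ∈ pair s) : Commute x y := by
  have hr' := (C₇).neg_lt r
  have hs' := (C₇).neg_lt s
  have h1 : pr r (chevE7.neg s) = 0 := by rw [pr_neg_right hs, h, neg_zero]
  have h2 : pr (chevE7.neg r) s = 0 := by rw [ChevE7Twist14.pr_neg_left hr, h, neg_zero]
  have h3 : pr (chevE7.neg r) (chevE7.neg s) = 0 := by rw [pr_neg_right hs, h2, neg_zero]
  have key : ∀ a ∈ (Set.range (fun t : F => xg C₇ r t) ∪ Set.range fun t : F => xg C₇ (chevE7.neg r) t),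
      ∀ b ∈ (Set.range (fun t : F => xg C₇ s t) ∪ Set.range fun t : F => xg C₇ (chevE7.neg s) t),
      Commute a b := by
    rintro _ (⟨t, rfl⟩ | ⟨t, rfl⟩) _ (⟨u, rfl⟩ | ⟨u, rfl⟩)
    exacts [(comm_orth hr hs h t u).symm, (comm_orth hr hs' h1 t u).symm, (comm_orth hr' hs h2 t u).symm,
      (comm_orth hr' hs' h3 t u).symm]
  induction hx using Subgroup.closure_induction with
  | mem a ha =>
    induction hy using Subgroup.closure_induction with
    | mem b hb => exact key a ha b hb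
    | one => exact Commute.one_right _
    | mul b b' _ _ i1 i2 => exact i1.mul_right i2
    | inv b _ i1 => exact i1.inv_right
  | one => exact Commute.one_left _
  | mul a a' _ _ i1 i2 => exact i1.mul_left i2
  | inv a _ i1 => exact i1.inv_left

theorem x_mem_pair (r : ℕ) (t : F) : xg C₇ r t ∈ pair r :=
  Subgroup.subset_closure (Or.inl ⟨t, rfl⟩)

theorem y_mem_pair (r : ℕ) (t : F) : xg C₇ (chevE7.neg r) t ∈ pair r :=
  Subgroup.subset_closure (Or.inr ⟨t, rfl⟩)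

theorem n_mem_pair (r : ℕ) (t : F) : ng C₇ r t ∈ pair r :=
  mul_mem (mul_mem (x_mem_pair r t) (y_mem_pair r _)) (x_mem_pair r t)

theorem h_mem_pair (r : ℕ) (t : F) : hg C₇ r t ∈ pair r := mul_mem (n_mem_pair r t) (n_mem_pair r _)

theorem torus_pair {c : Fin chevE7.rank → Fˣ} {z : ℕ} (hz : z < chevE7.nroots)
    (h0 : ev C₇ (chi ChevalleyTorusCard.smithE7 c) z = 0) {x : GL chevE7.Idx F} (hx : x ∈ pair z) :
    Commute (torus chevE7 c) x := by
  induction hx using Subgroup.closure_induction with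
  | mem x hx =>
    rcases hx with ⟨t, rfl⟩ | ⟨t, rfl⟩ <;> refine mul_inv_eq_iff_eq_mul.1 ?_
    · rw [torus_conj C₇ ChevalleyTorusCard.smithE7 c hz t, h0]; simp
    · rw [torus_conj C₇ ChevalleyTorusCard.smithE7 c ((C₇).neg_lt z) t, ChevRootCoord68.ev_neg C₇ _ hz, h0]
      simp
  | one => exact Commute.one_right _
  | mul a b _ _ i1 i2 => exact i1.mul_right i2
  | inv a _ i1 => exact i1.inv_right

end Roots

theorem rank_one_fix {q : ℕ} (hq : 2 ≤ q) {L : Type*} [Field L] [Fintype L] (hcardL : Fintype.card L = q ^ 12)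
    (σ : L ≃+* L) (hσ : ∀ x, σ x = x ^ q) (X : Weyl chevE7) (hs : suppCheck chevE7 = true)
    {g : GL chevE7.Idx L} (hgG : g ∈ chevE7.group L) (n : ↥(chevE7.monomialSubgroup L))
    (hn : (n : GL chevE7.Idx L) = g * (psi σ g)⁻¹) {w : X.W}
    (hw : (sysK C₇ X hs).toW n = w) {z : ℕ} (hz : z < chevE7.nroots)
    (h1 : pr (X.img w z) z = 0) (h2 : pr (X.img w (X.img w z)) z = 0)
    (h3 : X.img w (X.img w (X.img w z)) = z) (c : Fin chevE7.rank → Lˣ)
    (h0 : ev C₇ (chi ChevalleyTorusCard.smithE7 c) z = 0) :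
    ∃ g' ∈ chevE7.group L, ∃ (n' : ↥(chevE7.monomialSubgroup L)) (w' : X.W),
      (n' : GL chevE7.Idx L) = g' * (psi σ g')⁻¹ ∧ (sysK C₇ X hs).toW n' = w' ∧
      wact C₇ X w' (chi ChevalleyTorusCard.smithE7 c) = wact C₇ X w (chi ChevalleyTorusCard.smithE7 c) ∧
      X.img w' z = X.img w z ∧ X.img w' (X.img w z) = X.img w (X.img w z) ∧
      X.img w' (X.img w (X.img w z)) = chevE7.neg z := by
  classical
  let S : Sys chevE7 L := sysK C₇ X hs
  set z1 := X.img w z with hz1d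
  set z2 := X.img w z1 with hz2d
  have hz1 : z1 < chevE7.nroots := X.img_lt w hz
  have hz2 : z2 < chevE7.nroots := X.img_lt w hz1
  let Ψ : GL chevE7.Idx L →* GL chevE7.Idx L :=
    (MulAut.conj (n : GL chevE7.Idx L)).toMonoidHom.comp (psi σ)
  have hΨ : ∀ x, Ψ x = (n : GL chevE7.Idx L) * psi σ x * (n : GL chevE7.Idx L)⁻¹ := fun x => rfl
  have hact : ∀ r, r < chevE7.nroots → ∃ k : L, k ≠ 0 ∧
      (∀ t, Ψ (xg C₇ r t) = xg C₇ (X.img w r) (k * t ^ q)) ∧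
      (∀ t, Ψ (xg C₇ (chevE7.neg r) t) = xg C₇ (chevE7.neg (X.img w r)) (k⁻¹ * t ^ q)) := by
    intro r hr
    obtain ⟨k, hk, e1, e2⟩ := S.acts_toW n r hr
    rw [show S.toW n = w from hw] at e1 e2
    refine ⟨k, hk, fun t => ?_, fun t => ?_⟩
    · rw [hΨ, show psi σ (xg C₇ r t) = xg C₇ r (σ t) from psi_xg C₇ S σ hr t, hσ]; exact e1 _
    · rw [hΨ, show psi σ (xg C₇ (chevE7.neg r) t) = xg C₇ (chevE7.neg r) (σ t) from
        psi_xg C₇ S σ ((C₇).neg_lt r) t, hσ]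
      exact e2 _
  have hpair : ∀ r, r < chevE7.nroots → ∀ x ∈ pair r, Ψ x ∈ pair (X.img w r) := by
    intro r hr x hx
    obtain ⟨k, -, e1, e2⟩ := hact r hr
    induction hx using Subgroup.closure_induction with
    | mem x hx =>
      rcases hx with ⟨t, rfl⟩ | ⟨t, rfl⟩
      · rw [e1]; exact x_mem_pair _ _
      · rw [e2]; exact y_mem_pair _ _
    | one => rw [map_one]; exact one_mem _
    | mul a b _ _ i1 i2 => rw [map_mul]; exact mul_mem i1 i2
    | inv a _ i1 => rw [map_inv]; exact inv_mem i1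
  -- the cube
  obtain ⟨k0, hk0, a0, b0⟩ := hact z hz
  obtain ⟨k1, hk1, a1, b1⟩ := hact z1 hz1
  obtain ⟨k2, hk2, a2, b2⟩ := hact z2 hz2
  rw [h3] at a2 b2
  set e := k2 * k1 ^ q * k0 ^ (q * q) with he_def
  have he : e ≠ 0 := by
    rw [he_def]; exact mul_ne_zero (mul_ne_zero hk2 (pow_ne_zero _ hk1)) (pow_ne_zero _ hk0)
  set Q := q ^ 3 with hQd
  have hcube : ∀ t, Ψ (Ψ (Ψ (xg C₇ z t))) = xg C₇ z (e * t ^ Q) := by
    intro t
    rw [a0, a1, a2]; congr 1; rw [he_def, hQd]; ring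
  have hcube' : ∀ t, Ψ (Ψ (Ψ (xg C₇ (chevE7.neg z) t))) = xg C₇ (chevE7.neg z) (e⁻¹ * t ^ Q) := by
    intro t
    rw [b0, b1, b2]; congr 1; rw [he_def, hQd, mul_inv, mul_inv, ← inv_pow, ← inv_pow]; ring
  have hσk : ∀ (k : ℕ) (x : L), (⇑σ)^[k] x = x ^ (q ^ k) := by
    intro k
    induction k with
    | zero => intro x; simp
    | succ k ih => intro x; rw [Function.iterate_succ_apply', ih, hσ, ← pow_mul, pow_succ]
  have hψk : ∀ (k : ℕ) (x : GL chevE7.Idx L),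
      (((⇑(psi σ))^[k] x : GL chevE7.Idx L) : Matrix chevE7.Idx chevE7.Idx L) =
        (x : Matrix chevE7.Idx chevE7.Idx L).map (⇑σ)^[k] := by
    intro k
    induction k with
    | zero => intro x; simp
    | succ k ih =>
      intro x
      rw [Function.iterate_succ_apply', ChevFieldAut77.coe_map, ih, Matrix.map_map, Function.iterate_succ']
      rfl
  have hΨk : ∀ (k : ℕ) (x : GL chevE7.Idx L),
      (⇑Ψ)^[k] x = g * (⇑(psi σ))^[k] (g⁻¹ * x * g) * g⁻¹ := by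
    intro k
    induction k with
    | zero => intro x; simp [mul_assoc]
    | succ k ih =>
      intro x
      rw [Function.iterate_succ_apply', ih, Function.iterate_succ_apply', hΨ, map_mul, map_mul, map_inv, hn]
      group
  have h12 : ∀ x, (⇑Ψ)^[12] x = x := by
    intro x
    have : (⇑(psi σ))^[12] (g⁻¹ * x * g) = g⁻¹ * x * g := by
      apply Units.ext
      rw [hψk]
      ext i j
      rw [Matrix.map_apply, hσk, ← hcardL, FiniteField.pow_card]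
    rw [hΨk, this]; group
  have hnorm : e ^ (1 + Q + Q ^ 2 + Q ^ 3) = 1 := by
    have hh : Ψ (Ψ (Ψ (Ψ (Ψ (Ψ (Ψ (Ψ (Ψ (Ψ (Ψ (Ψ (xg C₇ z (1 : L))))))))))))) = xg C₇ z 1 := h12 _
    rw [hcube, hcube, hcube, hcube] at hh
    have h4 := (S.xg_inj z z hz hz 1 _ one_ne_zero hh.symm).2
    conv_rhs => rw [h4]
    ring
  have hsub : ∀ x y : L, (x - y) ^ Q = x ^ Q - y ^ Q := by
    intro x y
    simp only [hQd, ← hσk 3, Function.iterate_succ_apply', Function.iterate_zero_apply, map_sub]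
  have hQ2 : 2 ≤ Q := hq.trans (hQd ▸ Nat.le_self_pow (by norm_num) q)
  obtain ⟨b, hD, hDQ⟩ := exists_shift hQ2
    (by rw [hcardL, hQd, ← pow_mul]) hsub he hnorm
  set D := b ^ Q / e - b with hDd
  have hQ0 : Q ≠ 0 := pow_ne_zero _ (by omega)
  have hneg : ∀ x : L, (-x) ^ Q = -(x ^ Q) := fun x => by
    have := hsub 0 x
    rwa [zero_pow hQ0, zero_sub, zero_sub] at this
  have hcn : ∀ t, Ψ (Ψ (Ψ (ng C₇ z t))) = ng C₇ z (e * t ^ Q) := by
    intro t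
    simp only [ng, map_mul, hcube, hcube', hneg]
    congr 3
    simp only [he_def, mul_inv, inv_pow]
    ring
  have hch : Ψ (Ψ (Ψ (hg C₇ z D))) = hg C₇ z (-(e * D)) := by
    rw [hg, map_mul, map_mul, map_mul, hcn, hcn, hDQ, hneg, one_pow, mul_neg, mul_neg, mul_one]
    rw [ng_eq C₇ z (-(e * (e * D))), ← ng_inv C₇ z e, ng_eq C₇ z e]
    rw [mul_inv_rev, mul_assoc, mul_inv_cancel_left, mul_inv_eq_iff_eq_mul,
      hg_mul C₇ hz (neg_ne_zero.2 (mul_ne_zero he hD)) he]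
    congr 1; ring
  let c1 := xg C₇ z (-D) * hg C₇ z D * xg C₇ (chevE7.neg z) (-b)
  have hc1 : c1 ∈ pair z := mul_mem (mul_mem (x_mem_pair z _) (h_mem_pair z _)) (y_mem_pair z _)
  have hkey : c1 * (Ψ (Ψ (Ψ c1)))⁻¹ = ng C₇ z (-D) * hg C₇ z (-e⁻¹) := by
    simp only [c1, map_mul, hcube, hcube', hch, hneg, mul_inv_rev, xg_inv, mul_neg, neg_neg, hDQ]
    have hy : hg C₇ z D * xg C₇ (chevE7.neg z) D = xg C₇ (chevE7.neg z) D⁻¹ * hg C₇ z D := by
      rw [hg_conj_xg C₇ hz ((C₇).neg_lt z) hD, ChevBruhatInstance.pairing_neg C₇ hz, (C₇).pair_self z hz]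
      congr 2; field_simp
    have hx : hg C₇ z (-e⁻¹) * xg C₇ z (-(e * (e * D))) = xg C₇ z (-D) * hg C₇ z (-e⁻¹) := by
      rw [hg_conj_xg C₇ hz hz (neg_ne_zero.2 (inv_ne_zero he)), (C₇).pair_self z hz]
      congr 2; field_simp
    have hhh : hg C₇ z D * (hg C₇ z (-(e * D)))⁻¹ = hg C₇ z (-e⁻¹) := by
      rw [mul_inv_eq_iff_eq_mul, hg_mul C₇ hz (neg_ne_zero.2 (inv_ne_zero he))
        (neg_ne_zero.2 (mul_ne_zero he hD))]
      congr 1; field_simp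
    have hb : xg C₇ (chevE7.neg z) (-b) * xg C₇ (chevE7.neg z) (e⁻¹ * b ^ Q) = xg C₇ (chevE7.neg z) D := by
      rw [xg_mul]; congr 1; rw [hDd]; ring
    calc _ = xg C₇ z (-D) * hg C₇ z D * (xg C₇ (chevE7.neg z) (-b) * xg C₇ (chevE7.neg z) (e⁻¹ * b ^ Q)) *
          (hg C₇ z (-(e * D)))⁻¹ * xg C₇ z (-(e * (e * D))) := by simp [mul_assoc]
      _ = xg C₇ z (-D) * (hg C₇ z D * xg C₇ (chevE7.neg z) D) * (hg C₇ z (-(e * D)))⁻¹ *
          xg C₇ z (-(e * (e * D))) := by rw [hb]; group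
      _ = xg C₇ z (-D) * xg C₇ (chevE7.neg z) D⁻¹ * (hg C₇ z D * (hg C₇ z (-(e * D)))⁻¹) *
          xg C₇ z (-(e * (e * D))) := by rw [hy]; group
      _ = xg C₇ z (-D) * xg C₇ (chevE7.neg z) D⁻¹ * (hg C₇ z (-e⁻¹) * xg C₇ z (-(e * (e * D)))) := by
          rw [hhh]; group
      _ = _ := by rw [hx, ng]; simp only [inv_neg, neg_neg]; group
  -- the new element
  set c2 := Ψ c1
  set c3 := Ψ c2
  have hc2 : c2 ∈ pair z1 := hpair z hz c1 hc1
  have hc3 : c3 ∈ pair z2 := hpair z1 hz1 c2 hc2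
  have hc4 : Ψ c3 ∈ pair z := by have := hpair z2 hz2 c3 hc3; rwa [h3] at this
  have hcg : ∀ r x, r < chevE7.nroots → x ∈ pair r → x ∈ chevE7.group L := by
    intro r x hr hx
    induction hx using Subgroup.closure_induction with
    | mem x hx =>
      rcases hx with ⟨t, rfl⟩ | ⟨t, rfl⟩
      · exact S.xg_mem_group hr t
      · exact S.xg_mem_group ((C₇).neg_lt r) t
    | one => exact one_mem _
    | mul a b _ _ i1 i2 => exact mul_mem i1 i2
    | inv a _ i1 => exact inv_mem i1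
  have hnnN : S.nn z 1 ∈ chevE7.monomialSubgroup L := S.nn_mem_N hz
  set m : GL chevE7.Idx L := hg C₇ z (-D) * ng C₇ z 1 * hg C₇ z (-e⁻¹) with hm
  have hH1 : hg C₇ z (-D) ∈ chevE7.diagonalSubgroup L :=
    ChevalleyTorus.hg_mem_H C₇ hz (neg_ne_zero.2 hD)
  have hH2 : hg C₇ z (-e⁻¹) ∈ chevE7.diagonalSubgroup L :=
    ChevalleyTorus.hg_mem_H C₇ hz (neg_ne_zero.2 (inv_ne_zero he))
  let n0 : ↥(chevE7.monomialSubgroup L) := ⟨ng C₇ z 1, hnnN⟩
  let H1 : ↥(chevE7.monomialSubgroup L) := ⟨_, Sys.H_le_N hH1⟩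
  let H2 : ↥(chevE7.monomialSubgroup L) := ⟨_, Sys.H_le_N hH2⟩
  let n' : ↥(chevE7.monomialSubgroup L) := H1 * n0 * H2 * n
  set s : X.W := S.toW n0 with hsd
  have hn' : S.toW n' = s * w := by
    have e1 : S.toW H1 = 1 := S.toW_eq (S.acts_H hH1)
    have e2 : S.toW H2 = 1 := S.toW_eq (S.acts_H hH2)
    simp only [n', map_mul, e1, e2, one_mul, mul_one]
    exact congrArg (s * ·) hw
  have hsz : X.img s z = chevE7.neg z := by
    obtain ⟨k, hk, e1, -⟩ := S.acts_toW n0 z hz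
    have := ChevalleyRankOne.ng_conj_self C₇ hz (1 : L)
    have h4 := (e1 1).symm.trans this
    exact (S.xg_inj _ _ (X.img_lt s hz) ((C₇).neg_lt z) _ _ (mul_ne_zero hk one_ne_zero) h4).1
  have hst : ∀ t, t < chevE7.nroots → pr t z = 0 → X.img s t = t := by
    intro t ht hpr
    obtain ⟨k, hk, e1, -⟩ := S.acts_toW n0 t ht
    have hc : Commute (xg C₇ t (1 : L)) (ng C₇ z 1) :=
      pair_commute ht hz hpr (x_mem_pair t 1) (n_mem_pair z 1)
    have h4 := (e1 1).symm.trans (mul_inv_eq_iff_eq_mul.2 hc.symm.eq)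
    exact (S.xg_inj _ _ (X.img_lt s ht) ht _ _ (mul_ne_zero hk one_ne_zero) h4).1
  refine ⟨c1 * c2 * c3 * g, mul_mem (mul_mem (mul_mem (hcg z _ hz hc1) (hcg z1 _ hz1 hc2)) (hcg z2 _ hz2 hc3)) hgG,
    n', s * w, ?_, hn', ?_, ?_, ?_, ?_⟩
  · have hc : ∀ x, Ψ x * (n : GL chevE7.Idx L) = (n : GL chevE7.Idx L) * psi σ x := fun x => by rw [hΨ]; group
    have k1 : Commute (Ψ c3)⁻¹ c2 := by
      refine ((pair_commute hz1 hz h1 hc2 hc4).symm).inv_left
    have k2 : Commute (Ψ c3)⁻¹ c3 := by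
      refine ((pair_commute hz2 hz h2 hc3 hc4).symm).inv_left
    show H1.1 * n0.1 * H2.1 * n.1 = _
    rw [show H1.1 * n0.1 = ng C₇ z (-D) from (ng_eq C₇ z (-D)).symm, show H2.1 = hg C₇ z (-e⁻¹) from rfl,
      ← hkey, show Ψ (Ψ (Ψ c1)) = Ψ c3 from rfl]
    have hψ : (psi σ (c1 * c2 * c3 * g))⁻¹ = (psi σ g)⁻¹ * (n : GL chevE7.Idx L)⁻¹ *
        ((Ψ c3)⁻¹ * c3⁻¹ * c2⁻¹) * n := by
      have : psi σ (c1 * c2 * c3) = (n : GL chevE7.Idx L)⁻¹ * (c2 * c3 * Ψ c3) * n := by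
        simp only [map_mul, c2, c3, hΨ]; group
      rw [map_mul, this, hn]; group
    rw [hψ]
    calc c1 * (Ψ c3)⁻¹ * n.1 = c1 * ((Ψ c3)⁻¹ * c2) * c2⁻¹ * n.1 := by group
      _ = c1 * (c2 * (Ψ c3)⁻¹) * c2⁻¹ * n.1 := by rw [k1.eq]
      _ = c1 * c2 * ((Ψ c3)⁻¹ * c3) * c3⁻¹ * c2⁻¹ * n.1 := by group
      _ = c1 * c2 * (c3 * (Ψ c3)⁻¹) * c3⁻¹ * c2⁻¹ * n.1 := by rw [k2.eq]
      _ = _ := by rw [hn]; group
  · rw [wact_mul]
    congr 1
    obtain ⟨c'', e1, e2⟩ := conj_torus C₇ ChevalleyTorusCard.smithE7 X hs n0 c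
    have e3 : torus chevE7 c'' = torus chevE7 c := by
      rw [← e1]
      exact mul_inv_eq_iff_eq_mul.2 (torus_pair hz h0 (n_mem_pair z 1)).symm.eq
    rw [chi_congr C₇ ChevalleyTorusCard.smithE7 e3] at e2
    exact e2
  · rw [X.img_mul]; exact hst _ hz1 h1
  · rw [X.img_mul]; exact hst _ hz2 h2
  · rw [X.img_mul, h3, hsz]

end Cfsg.Agent.ChevE7RankOne14
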