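import Cfsg.Agent.Lib.ChevE6InE7Twist14

/-!
Root combinatorics for the torus of order `Φ₁₂ Φ₆ Φ₂` in type E₇: three orthogonal roots permuted by
the twisting Weyl element.
-/

set_option autoImplicit false
set_option maxRecDepth 100000

namespace Cfsg.Agent.ChevE7Twist14

open Cfsg.Lie Cfsg.Agent.ChevalleyCert Cfsg.Agent.ChevWeyl Cfsg.Agent.ChevBruhat
  Cfsg.Agent.ChevRootCoord68 Cfsg.Agent.CyclotomicCharpoly68 Cfsg.Agent.ChevRootFn14
open Cfsg.Agent.ChevalleyTorusCard (Smith act act_mul act_one)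
open Cfsg.Agent.ChevCoxTorus68 (Pm act_Pm Pm_pow)

/-- the certificate -/
local notation "C₇" => ChevalleyDataE7.cert

theorem orth : ∀ i j : Fin chevE7.rank, i ≠ j → ∑ s : Fin chevE7.nroots,
    ChevalleyDataE7.cert.coef s.val j.val * chevE7.cartan i.val s.val = 0 := by decide +kernel

theorem norm_pos : ∀ i : Fin chevE7.rank, 0 < ∑ s : Fin chevE7.nroots,
    ChevalleyDataE7.cert.coef s.val i.val * chevE7.cartan i.val s.val := by decide +kernel

theorem pos_sum : ∀ i : Fin chevE7.rank, ∑ s : Fin chevE7.nroots,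
    (if chevE7.nroots / 2 ≤ s.val then chevE7.cartan i.val s.val else 0) = 2 := by decide +kernel

theorem top : ∀ j : Fin chevE7.rank, 1 ≤ ChevalleyDataE7.cert.coef (chevE7.nroots - 1) j.val ∧
    ChevalleyDataE7.cert.coef (chevE7.nroots - 1) j.val ≤ ((4 : ℕ) : ℤ) := by decide +kernel

theorem le_top : ∀ (s : Fin chevE7.nroots) (j : Fin chevE7.rank), ChevalleyDataE7.cert.coef s.val j.val ≤
    ChevalleyDataE7.cert.coef (chevE7.nroots - 1) j.val := by decide +kernel

theorem tab : Tab ChevalleyDataE7.cert 4 where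
  rank_pos := by decide +kernel
  orth := orth
  norm_pos := norm_pos
  pos_sum := pos_sum
  one_le_top j := (top j).1
  top_le j := (top j).2
  le_top := le_top

theorem supp : ChevBruhat.suppCheck chevE7 = true := by decide +kernel

theorem hmin : ∀ i : Fin chevE7.rank, ChevalleyDataE7.cert.coef (chevE7.nroots - 1) i.val = 1 →
    ¬ ((2 : ℕ) : ℤ) ∣ ChevalleyTorusCard.smithE7.U 0 i := by decide +kernel

/-- the functional of pairing with a root -/
def gam (z : ℕ) : Fin chevE7.rank → ℤ := fun j => chevE7.cartan j.val z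

/-- the pairing of two roots -/
def pr (r z : ℕ) : ℤ := ev C₇ (gam z) r

theorem gam_refl : ∀ (i : Fin chevE7.rank) (s : Fin chevE7.nroots) (j : Fin chevE7.rank),
    ev C₇ (gam (chevE7.reflectRoot i.val s.val)) (chevE7.reflectRoot i.val (chevE7.simple j.val)) =
      gam s.val j := by decide +kernel

theorem gam_simple : ∀ (i : Fin chevE7.rank) (s : Fin chevE7.nroots),
    pr s.val (chevE7.simple i.val) = chevE7.cartan i.val s.val := by decide +kernel

theorem pr_self : ∀ s : Fin chevE7.nroots, pr s.val s.val = 2 := by decide +kernel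

theorem gam_neg : ∀ (s : Fin chevE7.nroots) (j : Fin chevE7.rank),
    gam (chevE7.neg s.val) j = - gam s.val j := by decide +kernel

theorem cartan_symm : ∀ i j : Fin chevE7.rank,
    chevE7.cartan i.val (chevE7.simple j.val) = chevE7.cartan j.val (chevE7.simple i.val) := by decide +kernel

theorem pr_comm {r z : ℕ} (hr : r < chevE7.nroots) (hz : z < chevE7.nroots) : pr r z = pr z r := by
  have e : ∀ r z, z < chevE7.nroots → pr r z = ∑ j : Fin chevE7.rank, ∑ k : Fin chevE7.rank,
      (C₇).coef r j.val * ((C₇).coef z k.val * chevE7.cartan j.val (chevE7.simple k.val)) := fun r z hz => by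
    simp only [pr, ev, gam, smul_eq_mul]
    exact Finset.sum_congr rfl fun j _ => by rw [sum_coef_cartan C₇ j hz, Finset.mul_sum]
  rw [e r z hz, e z r hr, Finset.sum_comm]
  exact Finset.sum_congr rfl fun j _ => Finset.sum_congr rfl fun k _ => by rw [cartan_symm j k]; ring

/-- the roots supported away from `S` -/
def zeros (S : Finset (Fin chevE7.rank)) : Finset (Fin chevE7.nroots) :=
  Finset.univ.filter fun s => ∀ j ∈ S, ChevalleyDataE7.cert.coef s.val j.val = 0

/-- the roots outside `T` orthogonal to all of `U` -/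
def perp (T U : Finset (Fin chevE7.nroots)) : Finset (Fin chevE7.nroots) :=
  Finset.univ.filter fun r => r ∉ T ∧ ∀ z ∈ U, pr r.val z.val = 0

theorem count_zeros : ∀ S : Finset (Fin chevE7.rank), 4 ≤ S.card →
    12 ∣ chevE7.nroots - (zeros S).card → (zeros S).card = 6 := by decide +kernel

theorem count_perp : ∀ S : Finset (Fin chevE7.rank), 4 ≤ S.card → (zeros S).card = 6 →
    12 ∣ (perp (zeros S) (zeros S)).card →
      (∀ y ∈ zeros S, ∀ z ∈ zeros S, y.val = z.val ∨ y.val = chevE7.neg z.val ∨ pr y.val z.val = 0) ∧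
      ∀ z ∈ zeros S, ¬ 12 ∣ (perp (zeros S) {z}).card := by decide +kernel

variable (X : Weyl chevE7)

theorem gam_img (w : X.W) : ∀ {z : ℕ}, z < chevE7.nroots → wact C₇ X w (gam (X.img w z)) = gam z := by
  induction w using X.w_induction with
  | one => intro z _; rw [wact_one, X.img_one]
  | step i w ih =>
    intro z hz
    rw [wact_mul, X.img_mul]
    have e : wact C₇ X (X.C.simple i) (gam (X.img (X.C.simple i) (X.img w z))) = gam (X.img w z) := by
      funext j
      show ev C₇ _ (X.img (X.C.simple i) (chevE7.simple j.val)) = _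
      rw [X.img_simple i (X.simple_lt j.isLt), X.img_simple i (X.img_lt w hz)]
      exact gam_refl i ⟨_, X.img_lt w hz⟩ j
    rw [e, ih hz]

theorem pr_img (w : X.W) {r z : ℕ} (hr : r < chevE7.nroots) (hz : z < chevE7.nroots) :
    pr (X.img w r) (X.img w z) = pr r z := by
  rw [pr, pr, ← ev_wact C₇ X w _ hr, gam_img X w hz]

theorem pr_neg_right {r z : ℕ} (hz : z < chevE7.nroots) : pr r (chevE7.neg z) = - pr r z := by
  rw [pr, pr, show gam (chevE7.neg z) = (-1 : ℤ) • gam z from funext fun j => by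
    rw [gam_neg ⟨z, hz⟩ j]; simp, ev_zsmul]
  simp

theorem pr_neg_left {r z : ℕ} (hr : r < chevE7.nroots) : pr (chevE7.neg r) z = - pr r z :=
  ev_neg C₇ _ hr

variable (hs : suppCheck chevE7 = true)

include hs in
/-- The vanishing roots form three orthogonal pairs cyclically permuted. -/
theorem triple {ℓ : ℕ} [Fact ℓ.Prime] (hℓ : 12 < ℓ) (f : Fin chevE7.rank → ℤ)
    (hf : ¬ ∀ j, (ℓ : ℤ) ∣ f j) (w : X.W) (q : ℕ) (hord : orderOf (q : ZMod ℓ) = 12)
    (hΦ : (ℓ : ℤ) ∣ (Polynomial.cyclotomic 12 ℤ).eval (q : ℤ))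
    (heig : ∀ s, s < chevE7.nroots → (ℓ : ℤ) ∣ ev C₇ f (X.img w s) - q * ev C₇ f s)
    (hdet : (ℓ : ℤ) ∣ (Pm C₇ X w).charpoly.eval (q : ℤ)) :
    ∃ z, z < chevE7.nroots ∧ (ℓ : ℤ) ∣ ev C₇ f z ∧ pr (X.img w z) z = 0 ∧
      pr (X.img w (X.img w z)) z = 0 ∧
      (X.img w (X.img w (X.img w z)) = z ∨ X.img w (X.img w (X.img w z)) = chevE7.neg z) ∧
      ∀ s, s < chevE7.nroots → (ℓ : ℤ) ∣ ev C₇ f s → s = z ∨ s = chevE7.neg z ∨ s = X.img w z ∨
        s = chevE7.neg (X.img w z) ∨ s = X.img w (X.img w z) ∨ s = chevE7.neg (X.img w (X.img w z)) := by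
  classical
  have hℓp : ℓ.Prime := Fact.out
  set P := Pm C₇ X w with hP
  have htot : (12 : ℕ).totient = 4 := by decide
  have hq0 : (q : ZMod ℓ) ≠ 0 := fun h0 => by
    rw [h0, orderOf_eq_zero_iff'.2 fun n hn => by rw [zero_pow hn.ne']; exact zero_ne_one] at hord
    omega
  have hrank : chevE7.rank = 7 := by decide +kernel
  obtain ⟨R, hR, -, -, hRq⟩ := ChevEigen14.exists_cofactor P (m := orderOf w) (orderOf_pos w)
    (by rw [hP, ← Pm_pow, pow_orderOf_eq_one, ← pow_zero w, Pm_pow, pow_zero]) hℓp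
    (fun h => by have := Nat.le_of_dvd (by norm_num) h; omega)
    (by rw [hrank]; omega) (by rw [hrank, htot]; norm_num) q hΦ hdet
  obtain ⟨v, S, hS, hzero⟩ := ChevTwistSetup14.exists_zero_support C₇ X hs tab (by omega) f hf w q hq0 heig
    (by norm_num) hR hRq
  rw [htot] at hS
  have h12 := ChevTwistSetup14.dvd_card_nonzero C₇ X tab f w q hq0 hord heig
  set Z := Finset.univ.filter fun s : Fin chevE7.nroots => (ℓ : ℤ) ∣ ev C₇ f s.val with hZ
  have hZmem : ∀ s : Fin chevE7.nroots, s ∈ Z ↔ (ℓ : ℤ) ∣ ev C₇ f s.val := fun s => by simp [hZ]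
  have hρ : ∀ (u : X.W) (s : Fin chevE7.nroots), (X.ρ u s).val = X.img u s.val := fun u s => by
    rw [Weyl.img, dif_pos s.isLt]
  have hvZ : ∀ s, X.ρ v s ∈ Z ↔ s ∈ zeros S := fun s => by
    rw [hZmem, hρ, hzero s.val s.isLt]; simp [zeros]
  have hwZ : ∀ s, X.ρ w s ∈ Z ↔ s ∈ Z := fun s => by
    rw [hZmem, hZmem, hρ]; exact ChevTwistSetup14.eigen_iff C₇ X f w q hq0 heig s.isLt
  have hcard : Z.card = (zeros S).card := (Finset.card_equiv (X.ρ v) fun s => (hvZ s).symm).symm
  have hZ6 : Z.card = 6 := by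
    have hsplit := Finset.card_filter_add_card_filter_not (s := (Finset.univ : Finset (Fin chevE7.nroots)))
      (fun s : Fin chevE7.nroots => (ℓ : ℤ) ∣ ev C₇ f s.val)
    rw [Finset.card_univ, Fintype.card_fin, ← hZ] at hsplit
    rw [show (Finset.univ.filter fun s : Fin chevE7.nroots => ¬ (ℓ : ℤ) ∣ ev C₇ f s.val).card =
      chevE7.nroots - (zeros S).card by omega] at h12
    rw [hcard, count_zeros S hS h12]
  -- orthogonal complements are stable
  have hperp : ∀ U : Finset (Fin chevE7.nroots), (∀ u, X.ρ v u ∈ U ↔ u ∈ zeros S) →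
      (perp Z U).card = (perp (zeros S) (zeros S)).card := by
    intro U hU
    refine (Finset.card_equiv (X.ρ v) fun s => ?_).symm
    simp only [perp, Finset.mem_filter, Finset.mem_univ, true_and, hvZ]
    refine and_congr_right fun _ => ⟨fun h z hz => ?_, fun h z hz => ?_⟩
    · have h1 := h ((X.ρ v).symm z) ((hU _).1 (by rwa [Equiv.apply_symm_apply]))
      rw [← pr_img X v s.isLt ((X.ρ v).symm z).isLt, ← hρ, ← hρ, Equiv.apply_symm_apply] at h1
      exact h1
    · have h1 := h _ ((hU z).2 hz)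
      rwa [hρ, hρ, pr_img X v s.isLt z.isLt] at h1
  have h12' : 12 ∣ (perp Z Z).card := by
    refine dvd_card_stable tab X f w q hord heig _ (fun s => ?_) fun s h => ?_
    · simp only [perp, Finset.mem_filter, Finset.mem_univ, true_and, hwZ]
      refine and_congr_right fun _ => ⟨fun h z hz => ?_, fun h z hz => ?_⟩
      · have h1 := h _ ((hwZ z).2 hz)
        rwa [hρ, hρ, pr_img X w s.isLt z.isLt] at h1
      · have h1 := h ((X.ρ w).symm z) ((hwZ _).1 (by rwa [Equiv.apply_symm_apply]))
        rw [← pr_img X w s.isLt ((X.ρ w).symm z).isLt, ← hρ, ← hρ, Equiv.apply_symm_apply] at h1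
        exact h1
    · exact fun hd => (Finset.mem_filter.1 h).2.1 ((hZmem s).2 hd)
  rw [hperp Z hvZ] at h12'
  obtain ⟨hpair, hsingle⟩ := count_perp S hS (hcard ▸ hZ6) h12'
  -- transfer
  have hpair' : ∀ y ∈ Z, ∀ z ∈ Z, y.val = z.val ∨ y.val = chevE7.neg z.val ∨ pr y.val z.val = 0 := by
    intro y hy z hz
    obtain ⟨y, rfl⟩ := (X.ρ v).surjective y
    obtain ⟨z, rfl⟩ := (X.ρ v).surjective z
    rw [hρ, hρ, pr_img X v y.isLt z.isLt]
    rcases hpair y ((hvZ y).1 hy) z ((hvZ z).1 hz) with e | e | e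
    · exact Or.inl (by rw [e])
    · exact Or.inr (Or.inl (by rw [e, X.img_neg _ z.isLt]))
    · exact Or.inr (Or.inr e)
  have hnofix : ∀ z ∈ Z, X.img w z.val ≠ z.val ∧ X.img w z.val ≠ chevE7.neg z.val := by
    intro z hz
    obtain ⟨z, rfl⟩ := (X.ρ v).surjective z
    by_contra hcon
    have hfix : ∀ r, r < chevE7.nroots → (pr (X.img w r) (X.ρ v z).val = 0 ↔ pr r (X.ρ v z).val = 0) := by
      intro r hr
      rw [← pr_img X w hr (X.ρ v z).isLt]
      rcases not_and_or.1 hcon with e | e <;> rw [not_ne_iff.1 e]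
      rw [pr_neg_right (X.ρ v z).isLt, neg_eq_zero]
    have h1 : 12 ∣ (perp Z {X.ρ v z}).card := by
      refine dvd_card_stable tab X f w q hord heig _ (fun s => ?_) fun s h => ?_
      · simp only [perp, Finset.mem_filter, Finset.mem_univ, true_and, hwZ, Finset.mem_singleton, forall_eq]
        rw [hρ w s, hfix _ s.isLt]
      · exact fun hd => (Finset.mem_filter.1 h).2.1 ((hZmem s).2 hd)
    refine hsingle z ((hvZ z).1 hz) ?_
    convert h1 using 1
    refine Finset.card_equiv (X.ρ v) fun s => ?_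
    simp only [perp, Finset.mem_filter, Finset.mem_univ, true_and, hvZ, Finset.mem_singleton, forall_eq]
    rw [hρ, hρ, pr_img X v s.isLt z.isLt]
  -- the cycle
  have hne : ∀ z : Fin chevE7.nroots, chevE7.neg z.val ≠ z.val := fun z => ChevalleyRoots.neg_ne C₇ z.isLt
  let ng : Fin chevE7.nroots → Fin chevE7.nroots := fun z => ⟨chevE7.neg z.val, (C₇).neg_lt _⟩
  have hng : ∀ z, ng (ng z) = z := fun z => Fin.ext ((X.root_facts z.isLt).2.1)
  have hngZ : ∀ z, z ∈ Z → ng z ∈ Z := fun z hz => by
    rw [hZmem] at hz ⊢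
    show (ℓ : ℤ) ∣ ev C₇ f (chevE7.neg z.val)
    rw [ev_neg C₇ f z.isLt, dvd_neg]; exact hz
  let W' := X.ρ w
  have hW : ∀ z, W' (ng z) = ng (W' z) := fun z => Fin.ext (by
    show (X.ρ w (ng z)).val = chevE7.neg (X.ρ w z).val
    rw [hρ, hρ]; exact X.img_neg _ z.isLt)
  have hnf : ∀ z ∈ Z, W' z ≠ z ∧ W' z ≠ ng z := fun z hz =>
    ⟨fun e => (hnofix z hz).1 (by rw [← hρ]; exact congrArg Fin.val e),
      fun e => (hnofix z hz).2 (by rw [← hρ]; exact congrArg Fin.val e)⟩
  obtain ⟨a, ha⟩ : Z.Nonempty := Finset.card_pos.1 (by omega)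
  have hb := (hwZ a).2 ha
  have hc := (hwZ _).2 hb
  have hne' : ∀ z, ng z ≠ z := fun z e => hne z (congrArg Fin.val e)
  have key : W' (W' a) ≠ a ∧ W' (W' a) ≠ ng a := by
    by_contra hcon
    have hT : ∀ z, z = a ∨ z = ng a ∨ z = W' a ∨ z = ng (W' a) →
        (W' z = a ∨ W' z = ng a ∨ W' z = W' a ∨ W' z = ng (W' a)) := by
      intro z hz
      rcases not_and_or.1 hcon with e | e <;> rw [not_ne_iff] at e <;>
        rcases hz with rfl | rfl | rfl | rfl <;> simp [hW, e, hng]
    set T : Finset (Fin chevE7.nroots) := {a, ng a, W' a, ng (W' a)} with hTdef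
    have hTc : T.card ≤ 4 := Finset.card_le_four
    obtain ⟨y, hy, hyT⟩ := Finset.exists_mem_notMem_of_card_lt_card (s := T) (t := Z) (by omega)
    have hTmem : ∀ z, z ∈ T ↔ (z = a ∨ z = ng a ∨ z = W' a ∨ z = ng (W' a)) := fun z => by simp [hTdef]
    have hTimg : T.image W' = T := Finset.eq_of_subset_of_card_le (fun z hz => by
      obtain ⟨y, hy, rfl⟩ := Finset.mem_image.1 hz
      exact (hTmem _).2 (hT y ((hTmem y).1 hy)))
      (Finset.card_image_of_injective _ W'.injective).ge
    have hWy : W' y ∉ T := fun h => by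
      rw [← hTimg] at h
      obtain ⟨z, hz, e⟩ := Finset.mem_image.1 h
      exact hyT (W'.injective e ▸ hz)
    have hngy : ng y ∉ T := fun h => hyT (by
      rw [hTmem] at h ⊢
      rcases h with e | e | e | e <;> have e' := congrArg ng e <;> rw [hng] at e' <;> simp [e', hng])
    obtain ⟨h1, h2⟩ := hnf a ha
    obtain ⟨h3, h4⟩ := hnf y hy
    have hT4 : T.card = 4 := by
      rw [hTdef, Finset.card_insert_of_notMem, Finset.card_insert_of_notMem, Finset.card_insert_of_notMem,
        Finset.card_singleton]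
      · simp only [Finset.mem_singleton]; exact fun e => hne' _ e.symm
      · simp only [Finset.mem_insert, Finset.mem_singleton]
        rintro (e | e)
        · exact h2 e.symm
        · exact h1 (by have := congrArg ng e; rwa [hng, hng, eq_comm] at this)
      · simp only [Finset.mem_insert, Finset.mem_singleton]
        rintro (e | e | e)
        · exact hne' _ e.symm
        · exact h1 e.symm
        · exact h2 (by have := congrArg ng e; rwa [hng, eq_comm] at this)
    have hsub : insert (W' y) (insert (ng y) (insert y T)) ⊆ Z := by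
      intro z hz
      simp only [Finset.mem_insert] at hz
      rcases hz with rfl | rfl | rfl | hz
      · exact (hwZ y).2 hy
      · exact hngZ y hy
      · exact hy
      · rw [hTmem] at hz
        rcases hz with rfl | rfl | rfl | rfl
        exacts [ha, hngZ _ ha, hb, hngZ _ hb]
    have h7 := Finset.card_le_card hsub
    rw [Finset.card_insert_of_notMem, Finset.card_insert_of_notMem, Finset.card_insert_of_notMem hyT, hT4,
      hZ6] at h7
    · omega
    · simp only [Finset.mem_insert]; exact fun h => h.elim (hne' y) hngy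
    · simp only [Finset.mem_insert]; exact fun h => h.elim h4 fun h => h.elim h3 hWy
  set b := W' a
  set c := W' b
  obtain ⟨hba, hbn⟩ := hnf a ha
  obtain ⟨hcb, hcn⟩ := hnf b hb
  obtain ⟨hca, hcan⟩ := key
  have h6 : ({a, ng a, b, ng b, c, ng c} : Finset (Fin chevE7.nroots)) = Z := by
    refine Finset.eq_of_subset_of_card_le ?_ ?_
    · intro z hz
      simp only [Finset.mem_insert, Finset.mem_singleton] at hz
      rcases hz with rfl | rfl | rfl | rfl | rfl | rfl
      exacts [ha, hngZ _ ha, hb, hngZ _ hb, hc, hngZ _ hc]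
    · have hinv : ∀ x y, ng x = ng y → x = y := fun x y e => by rw [← hng x, e, hng]
      have hsw : ∀ x y, x = ng y → y = ng x := fun x y e => by rw [e, hng]
      rw [hZ6, Finset.card_insert_of_notMem, Finset.card_insert_of_notMem, Finset.card_insert_of_notMem,
        Finset.card_insert_of_notMem, Finset.card_insert_of_notMem, Finset.card_singleton]
      all_goals simp only [Finset.mem_insert, Finset.mem_singleton, not_or]
      · exact fun e => hne' _ e.symm
      · exact ⟨fun e => hcn e.symm, fun e => hcb (hinv _ _ e).symm⟩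
      · exact ⟨fun e => hne' _ e.symm, Ne.symm hcb, fun e => hcn (hsw _ _ e)⟩
      · exact ⟨fun e => hbn e.symm, fun e => hba (hinv _ _ e).symm, fun e => hcan e.symm,
          fun e => hca (hinv _ _ e).symm⟩
      · exact ⟨fun e => hne' _ e.symm, Ne.symm hba, fun e => hbn (hsw _ _ e), Ne.symm hca,
          fun e => hcan (hsw _ _ e)⟩
  have hd : W' c = a ∨ W' c = ng a := by
    have hmem : W' c ∈ ({a, ng a, b, ng b, c, ng c} : Finset (Fin chevE7.nroots)) := by
      rw [h6]; exact (hwZ c).2 hc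
    simp only [Finset.mem_insert, Finset.mem_singleton] at hmem
    obtain ⟨hdc, hdn⟩ := hnf c hc
    rcases hmem with e | e | e | e | e | e
    · exact Or.inl e
    · exact Or.inr e
    · exact absurd (W'.injective e) hca
    · exact absurd (W'.injective (e.trans (hW a).symm)) hcan
    · exact absurd e hdc
    · exact absurd e hdn
  have hb' : b.val = X.img w a.val := hρ w a
  have hc' : c.val = X.img w (X.img w a.val) := (hρ w b).trans (by rw [hb'])
  refine ⟨a.val, a.isLt, (hZmem a).1 ha, ?_, ?_, ?_, fun s hs' hz => ?_⟩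
  · rw [← hb']
    exact ((hpair' b hb a ha).resolve_left fun e => hba (Fin.ext e)).resolve_left fun e => hbn (Fin.ext e)
  · rw [← hc']
    exact ((hpair' c hc a ha).resolve_left fun e => hca (Fin.ext e)).resolve_left fun e => hcan (Fin.ext e)
  · rw [← hc', ← hρ w c]
    exact hd.imp (congrArg Fin.val) (congrArg Fin.val)
  · have hmem : (⟨s, hs'⟩ : Fin chevE7.nroots) ∈ ({a, ng a, b, ng b, c, ng c} : Finset _) := by
      rw [h6, hZmem]; exact hz
    simp only [Finset.mem_insert, Finset.mem_singleton] at hmem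
    rw [← hc', ← hb']
    rcases hmem with e | e | e | e | e | e
    · exact Or.inl (congrArg Fin.val e)
    · exact Or.inr (Or.inl (congrArg Fin.val e))
    · exact Or.inr (Or.inr (Or.inl (congrArg Fin.val e)))
    · exact Or.inr (Or.inr (Or.inr (Or.inl (congrArg Fin.val e))))
    · exact Or.inr (Or.inr (Or.inr (Or.inr (Or.inl (congrArg Fin.val e)))))
    · exact Or.inr (Or.inr (Or.inr (Or.inr (Or.inr (congrArg Fin.val e)))))

/-- Transpose action on coordinate vectors of roots. -/
theorem transpose_coef (w : X.W) {s : ℕ} (hs' : s < chevE7.nroots) :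
    (Pm C₇ X w).transpose.mulVec (fun k => (C₇).coef s k.val) = fun k => (C₇).coef (X.img w s) k.val := by
  funext k
  have e : ∀ t, ev C₇ (Pi.single k (1 : ℤ)) t = (C₇).coef t k.val := by
    intro t
    rw [ev, Finset.sum_eq_single k]
    · simp
    · intro b _ hb; simp [hb]
    · simp
  rw [← e, ← ev_wact C₇ X w _ hs']
  simp only [Matrix.mulVec, dotProduct, Matrix.transpose_apply, ev, smul_eq_mul]
  refine Finset.sum_congr rfl fun j _ => ?_
  rw [← act_Pm, mul_comm]
  congr 1
  simp [act, Pi.single_apply]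

include hs in
/-- The characteristic polynomial when the cube of the element negates the three roots. -/
theorem charpoly_eq {ℓ : ℕ} [Fact ℓ.Prime] (hℓ : 12 < ℓ) (w : X.W) (q : ℤ)
    (hΦ : (ℓ : ℤ) ∣ (Polynomial.cyclotomic 12 ℤ).eval q)
    (hdet : (ℓ : ℤ) ∣ (Pm C₇ X w).charpoly.eval q) {z : ℕ} (hz : z < chevE7.nroots)
    (h1 : pr (X.img w z) z = 0) (h2 : pr (X.img w (X.img w z)) z = 0)
    (h3 : X.img w (X.img w (X.img w z)) = chevE7.neg z) :
    (Pm C₇ X w).charpoly = Polynomial.cyclotomic 12 ℤ * (Polynomial.cyclotomic 2 ℤ * Polynomial.cyclotomic 6 ℤ) := by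
  classical
  have _ := hs
  set P := Pm C₇ X w with hP
  have hrank : chevE7.rank = 7 := by decide +kernel
  have htot : (12 : ℕ).totient = 4 := by decide
  obtain ⟨R, hR, hRm, hRd, -⟩ := ChevEigen14.exists_cofactor P (m := orderOf w) (orderOf_pos w)
    (by rw [hP, ← Pm_pow, pow_orderOf_eq_one, ← pow_zero w, Pm_pow, pow_zero]) Fact.out
    (fun h => by have := Nat.le_of_dvd (by norm_num) h; omega)
    (by rw [hrank]; omega) (by rw [hrank, htot]; norm_num) q hΦ hdet
  set a : Fin chevE7.rank → ℤ := fun k => (C₇).coef z k.val with ha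
  set a1 : Fin chevE7.rank → ℤ := fun k => (C₇).coef (X.img w z) k.val with ha1
  set a2 : Fin chevE7.rank → ℤ := fun k => (C₇).coef (X.img w (X.img w z)) k.val with ha2
  have e1 : P.transpose.mulVec a = a1 := transpose_coef X w hz
  have e2 : P.transpose.mulVec a1 = a2 := transpose_coef X w (X.img_lt w hz)
  have e3 : P.transpose.mulVec a2 = -a := by
    rw [ha2, transpose_coef X w (X.img_lt w (X.img_lt w hz)), h3]
    funext k
    exact (C₇).coef_neg z k.val hz k.isLt
  have hdot : ∀ t, (fun k : Fin chevE7.rank => (C₇).coef t k.val) ⬝ᵥ gam z = pr t z := fun t => by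
    simp [dotProduct, pr, ev]
  let cq := Int.castRingHom ℚ
  have key : ∀ (g : Polynomial ℤ) (e : ℕ), 0 < e → g = Polynomial.cyclotomic e ℤ → ∀ b : Fin chevE7.rank → ℤ,
      b ⬝ᵥ gam z ≠ 0 → (Polynomial.aeval P.transpose g).mulVec b = 0 → e ≠ 12 → g ∣ R := by
    intro g e he hg b hb hkill he12
    subst hg
    have h3div : Polynomial.cyclotomic e ℚ ∣ (cq.mapMatrix P.transpose).charpoly := by
      refine ChevEigen14.dvd_charpoly_of_kill _ (Polynomial.cyclotomic.irreducible_rat he)
        (b := cq ∘ b) (fun h0 => hb ?_) ?_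
      · rw [show b = 0 from funext fun i => by simpa [cq] using congrFun h0 i, zero_dotProduct]
      have h2 : Polynomial.aeval (cq.mapMatrix P.transpose) (Polynomial.cyclotomic e ℚ) =
          cq.mapMatrix (Polynomial.aeval P.transpose (Polynomial.cyclotomic e ℤ)) := by
        rw [Polynomial.map_aeval_eq_aeval_map (φ := cq) (ψ := cq.mapMatrix (m := Fin chevE7.rank))
          (RingHom.ext fun z => by simp) (Polynomial.cyclotomic e ℤ) P.transpose, Polynomial.map_cyclotomic_int]
      rw [h2]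
      funext i
      rw [RingHom.mapMatrix_apply, ← RingHom.map_mulVec, hkill]
      simp
    rw [RingHom.mapMatrix_apply, Matrix.charpoly_map, Matrix.charpoly_transpose, hR, Polynomial.map_mul,
      Polynomial.map_cyclotomic_int, ← Polynomial.map_cyclotomic_int e ℚ] at h3div
    refine (Polynomial.map_dvd_map _ Int.cast_injective (Polynomial.cyclotomic.monic e ℤ)).1
      (IsCoprime.dvd_of_dvd_mul_left ?_ h3div)
    rw [Polynomial.map_cyclotomic_int]
    exact Polynomial.cyclotomic.isCoprime_rat he12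
  have hself : a ⬝ᵥ gam z = 2 := by rw [ha, hdot]; exact pr_self ⟨z, hz⟩
  have hd1 : a1 ⬝ᵥ gam z = 0 := by rw [ha1, hdot]; exact h1
  have hd2 : a2 ⬝ᵥ gam z = 0 := by rw [ha2, hdot]; exact h2
  have h2div := key _ 2 (by norm_num) rfl (a2 - a1 + a)
    (by rw [add_dotProduct, sub_dotProduct, hself, hd1, hd2]; norm_num)
    (by
      rw [Polynomial.cyclotomic_two, map_add, Polynomial.aeval_X, map_one, Matrix.add_mulVec, Matrix.one_mulVec,
        Matrix.mulVec_add, Matrix.mulVec_sub, e3, e2, e1]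
      abel) (by norm_num)
  have h6div := key _ 6 (by norm_num) rfl (a1 + a)
    (by rw [add_dotProduct, hself, hd1]; norm_num)
    (by
      rw [Polynomial.cyclotomic_six, map_add, map_sub, map_pow, Polynomial.aeval_X, map_one, Matrix.add_mulVec,
        Matrix.sub_mulVec, Matrix.one_mulVec, sq, ← Matrix.mulVec_mulVec, Matrix.mulVec_add, e2, e1,
        Matrix.mulVec_add, e3, e2]
      abel) (by norm_num)
  have hmonic := (Polynomial.cyclotomic.monic 2 ℤ).mul (Polynomial.cyclotomic.monic 6 ℤ)
  have h26 : Polynomial.cyclotomic 2 ℤ * Polynomial.cyclotomic 6 ℤ ∣ R := by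
    refine (Polynomial.map_dvd_map (Int.castRingHom ℚ) Int.cast_injective hmonic).1 ?_
    rw [Polynomial.map_mul]
    refine IsCoprime.mul_dvd ?_ (Polynomial.map_dvd _ h2div) (Polynomial.map_dvd _ h6div)
    rw [Polynomial.map_cyclotomic_int, Polynomial.map_cyclotomic_int]
    exact Polynomial.cyclotomic.isCoprime_rat (by norm_num)
  rw [hR, Polynomial.eq_of_monic_of_dvd_of_natDegree_le hmonic hRm h26 (by
    rw [(Polynomial.cyclotomic.monic 2 ℤ).natDegree_mul (Polynomial.cyclotomic.monic 6 ℤ),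
      Polynomial.natDegree_cyclotomic, Polynomial.natDegree_cyclotomic, show (2 : ℕ).totient = 1 by decide,
      show (6 : ℕ).totient = 2 by decide]
    rw [htot, hrank] at hRd
    omega)]

end Cfsg.Agent.ChevE7Twist14
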