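import Mathlib
import Cfsg.Agent.Lib.CyclotomicCharpoly68

/-!
Linear algebra of integer matrices of finite order with a given eigenvalue modulo a prime.
-/

set_option autoImplicit false

open Polynomial Matrix

namespace Cfsg.Agent.ChevEigen14

open Cfsg.Agent.ChevalleyTorusCard (act act_mul act_one act_zero)
open Cfsg.Agent.CyclotomicCharpoly68

variable {l : ℕ}

/-- An irreducible polynomial killing a nonzero vector divides the characteristic polynomial. -/
theorem dvd_charpoly_of_kill {k : Type*} [Field k] (P : Matrix (Fin l) (Fin l) k) {g : k[X]}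
    (hg : Irreducible g) {b : Fin l → k} (hb : b ≠ 0) (h : aeval P g *ᵥ b = 0) : g ∣ P.charpoly := by
  by_contra hn
  obtain ⟨u, v, huv⟩ := hg.coprime_iff_not_dvd.2 hn
  have h1 := congrArg (fun p => aeval P p *ᵥ b) huv
  simp only [map_add, map_mul, map_one, Matrix.add_mulVec, ← Matrix.mulVec_mulVec, h,
    Matrix.aeval_self_charpoly, Matrix.zero_mulVec, Matrix.mulVec_zero, add_zero,
    Matrix.one_mulVec] at h1
  exact hb h1.symm

/-- The first `deg g` iterates of a nonzero vector killed by an irreducible `g` are independent. -/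
theorem indep_of_kill {k : Type*} [Field k] (P : Matrix (Fin l) (Fin l) k) {g : k[X]}
    (hg : Irreducible g) {b : Fin l → k} (hb : b ≠ 0) (h : aeval P g *ᵥ b = 0) :
    LinearIndependent k fun i : Fin g.natDegree => (P ^ i.val) *ᵥ b := by
  rw [Fintype.linearIndependent_iff]
  intro c hc
  let r : k[X] := ∑ i : Fin g.natDegree, C (c i) * X ^ i.val
  have hr : aeval P r *ᵥ b = 0 := by
    simp only [r, map_sum, map_mul, map_pow, aeval_C, aeval_X, ← Algebra.smul_def,
      Matrix.sum_mulVec, Matrix.smul_mulVec]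
    exact hc
  suffices r = 0 by
    intro i
    have h1 := congrArg (fun p => p.coeff i.val) this
    simpa [r, coeff_C_mul_X_pow, Fin.val_inj] using h1
  by_contra hr0
  have hlt : r.degree < (g.natDegree : WithBot ℕ) := by simpa [r] using degree_sum_fin_lt c
  rw [degree_eq_natDegree hr0, Nat.cast_lt] at hlt
  obtain ⟨u, v, huv⟩ := hg.coprime_iff_not_dvd.2
    fun hdvd => absurd (natDegree_le_of_dvd hdvd hr0) (by omega)
  apply hb
  have h1 := congrArg (fun p => aeval P p *ᵥ b) huv
  simp only [map_add, map_mul, map_one, Matrix.add_mulVec, ← Matrix.mulVec_mulVec, hr, h,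
    Matrix.mulVec_zero, add_zero, Matrix.one_mulVec] at h1
  exact h1.symm

/-- A finite order integer matrix with an eigenvalue of order `d` modulo `ℓ` has the `d`-th cyclotomic
polynomial as a factor of its characteristic polynomial, with cofactor not vanishing there. -/
theorem exists_cofactor (P : Matrix (Fin l) (Fin l) ℤ) {m d ℓ : ℕ} (hm : 0 < m) (hP : P ^ m = 1)
    (hℓ : ℓ.Prime) (hd : ¬ ℓ ∣ d) (hlℓ : l < ℓ - 1) (hl : l < 2 * d.totient) (q : ℤ)
    (hq : (ℓ : ℤ) ∣ (cyclotomic d ℤ).eval q) (hdet : (ℓ : ℤ) ∣ P.charpoly.eval q) :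
    ∃ R : ℤ[X], P.charpoly = cyclotomic d ℤ * R ∧ R.Monic ∧ R.natDegree + d.totient = l ∧
      ¬ (ℓ : ℤ) ∣ R.eval q := by
  have : Fact ℓ.Prime := ⟨hℓ⟩
  have hfac : ∀ g : ℚ[X], Irreducible g → g ∣ P.charpoly.map (Int.castRingHom ℚ) → g ∣ X ^ m - 1 := by
    intro g hg hgd
    rw [← Matrix.charpoly_map] at hgd
    refine SLInvolutions68.dvd_of_factor ?_ hg hgd
    rw [map_sub, map_pow, aeval_X, map_one, sub_eq_zero,
      show P.map (Int.castRingHom ℚ) = (Int.castRingHom ℚ).mapMatrix P from rfl, ← map_pow, hP, map_one]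
  have key : ∀ f : ℤ[X], f.Monic → f.natDegree ≤ l →
      (∀ g : ℚ[X], Irreducible g → g ∣ f.map (Int.castRingHom ℚ) → g ∣ X ^ m - 1) →
      (ℓ : ℤ) ∣ f.eval q → cyclotomic d ℤ ∣ f := by
    intro f hf hfl hf' hev'
    obtain ⟨e, he0, hed, hev⟩ := exists_cyclotomic_factor hm hℓ q _ f hf le_rfl hf' hev'
    have hle := Polynomial.natDegree_le_of_dvd hed hf.ne_zero
    rw [natDegree_cyclotomic] at hle
    have hne : ¬ ℓ ∣ e := fun h => by
      have h1 := Nat.le_of_dvd (Nat.totient_pos.2 he0) (Nat.totient_dvd_of_dvd h)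
      rw [Nat.totient_prime hℓ] at h1
      omega
    rwa [(orderOf_eq_of_root hne hev).symm.trans (orderOf_eq_of_root hd hq)] at hed
  have hdeg : P.charpoly.natDegree = l := by
    rw [Matrix.charpoly_natDegree_eq_dim, Fintype.card_fin]
  obtain ⟨R, hR⟩ := key P.charpoly (Matrix.charpoly_monic P) hdeg.le hfac hdet
  have hRm : R.Monic := (cyclotomic.monic d ℤ).of_mul_monic_left (hR ▸ Matrix.charpoly_monic P)
  have hsum : R.natDegree + d.totient = l := by
    have := (cyclotomic.monic d ℤ).natDegree_mul hRm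
    rw [← hR, hdeg, natDegree_cyclotomic] at this
    omega
  refine ⟨R, hR, hRm, hsum, fun hdvd => ?_⟩
  have h1 := key R hRm (by omega) (fun g hg hgd => hfac g hg (by
    rw [hR, Polynomial.map_mul]; exact hgd.mul_left _)) hdvd
  have h2 := Polynomial.natDegree_le_of_dvd h1 hRm.ne_zero
  rw [natDegree_cyclotomic] at h2
  omega

/-- An eigenvector modulo `ℓ` transforms under a polynomial by evaluation. -/
theorem aeval_mod {ℓ : ℕ} (P : Matrix (Fin l) (Fin l) ℤ) (q : ℤ) (φ : Fin l → ℤ)
    (h : ∀ j, (ℓ : ℤ) ∣ (P *ᵥ φ) j - q * φ j) (R : ℤ[X]) :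
    ∀ j, (ℓ : ℤ) ∣ (aeval P R *ᵥ φ) j - R.eval q * φ j := by
  intro j
  rw [← ZMod.intCast_zmod_eq_zero_iff_dvd, Int.cast_sub, sub_eq_zero]
  let c := Int.castRingHom (ZMod ℓ)
  have hv : c.mapMatrix P *ᵥ (c ∘ φ) = (q : ZMod ℓ) • (c ∘ φ) := funext fun i => by
    have h1 := h i
    rw [← ZMod.intCast_zmod_eq_zero_iff_dvd, Int.cast_sub, sub_eq_zero, Int.cast_mul] at h1
    rw [RingHom.mapMatrix_apply, ← RingHom.map_mulVec]
    simpa [c] using h1
  have hp : ∀ k : ℕ, c.mapMatrix P ^ k *ᵥ (c ∘ φ) = (q : ZMod ℓ) ^ k • (c ∘ φ) := by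
    intro k
    induction k with
    | zero => simp
    | succ k ih => rw [pow_succ', ← Matrix.mulVec_mulVec, ih, Matrix.mulVec_smul, hv, smul_smul, pow_succ]
  have e : c.mapMatrix (aeval P R) *ᵥ (c ∘ φ) = ((R.eval q : ℤ) : ZMod ℓ) • (c ∘ φ) := by
    induction R using Polynomial.induction_on' with
    | add a b ha hb => simp only [map_add, eval_add, Int.cast_add, Matrix.add_mulVec, add_smul, ha, hb]
    | monomial k a =>
      rw [aeval_monomial, eval_monomial, map_mul, map_pow, Int.cast_mul, Int.cast_pow,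
        ← Matrix.mulVec_mulVec, hp, Matrix.mulVec_smul, mul_comm, ← smul_smul]
      congr 1
      rw [Algebra.algebraMap_eq_smul_one, map_zsmul, map_one, Matrix.smul_mulVec, Matrix.one_mulVec]
      funext i
      simp
  have := congrFun e j
  rw [RingHom.mapMatrix_apply, ← RingHom.map_mulVec] at this
  simpa [c] using this

/-- A finite abelian group with at most `p` elements killed by each prime `p` is cyclic. -/
theorem isAddCyclic_of_torsion {A : Type*} [AddCommGroup A] [Finite A]
    (h : ∀ p : ℕ, p.Prime → p ∣ Nat.card A → Nat.card {a : A // p • a = 0} ≤ p) : IsAddCyclic A := by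
  classical
  have := Fintype.ofFinite A
  have h' : ∀ p : ℕ, p.Prime → Nat.card {a : A // p • a = 0} ≤ p := by
    intro p hp
    by_cases hd : p ∣ Nat.card A
    · exact h p hp hd
    · have : Subsingleton {a : A // p • a = 0} := ⟨fun a b => Subtype.ext
        ((nsmulCoprime ((Nat.coprime_comm.1 ((Nat.Prime.coprime_iff_not_dvd hp).2 hd)))).injective
          (a.2.trans b.2.symm))⟩
      exact (Finite.card_le_one_iff_subsingleton.2 this).trans hp.pos
  refine isAddCyclic_of_card_nsmul_eq_zero_le fun n hn => ?_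
  rw [← Fintype.card_coe]
  rw [← Nat.card_eq_fintype_card]
  suffices key : ∀ n, 0 < n → Nat.card {a : A // n • a = 0} ≤ n by
    refine le_trans (le_of_eq (Nat.card_congr (Equiv.subtypeEquivRight fun a => ?_))) (key n hn)
    simp
  intro n
  induction n using Nat.strong_induction_on with
  | _ n ih =>
    intro hn
    rcases Nat.lt_or_ge n 2 with h2 | h2
    · obtain rfl : n = 1 := by omega
      have : Subsingleton {a : A // 1 • a = 0} := ⟨fun a b => Subtype.ext (by
        have h1 := a.2; have h2 := b.2; rw [one_nsmul] at h1 h2; rw [h1, h2])⟩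
      exact Finite.card_le_one_iff_subsingleton.2 this
    obtain ⟨p, hp, m, rfl⟩ := Nat.exists_prime_and_dvd (show n ≠ 1 by omega)
    have hm : 0 < m := Nat.pos_of_ne_zero fun h0 => by simp [h0] at hn
    have hlt : m < p * m := by nlinarith [hp.two_le]
    let T : ℕ → AddSubgroup A := fun k => (nsmulAddMonoidHom (α := A) k).ker
    have hT : ∀ k, Nat.card ↥(T k) = Nat.card {a : A // k • a = 0} := fun k => rfl
    let f : ↥(T (p * m)) →+ ↥(T m) :=
      ((nsmulAddMonoidHom (α := A) p).comp (T (p * m)).subtype).codRestrict (T m) fun a => by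
        show m • (p • (a : A)) = 0
        rw [smul_smul, Nat.mul_comm m p]
        exact a.2
    have h1 := f.ker.card_mul_index
    rw [AddSubgroup.index_ker] at h1
    rw [← hT, ← h1]
    refine Nat.mul_le_mul ?_ ((Nat.card_le_card_of_injective Subtype.val Subtype.val_injective).trans (ih m hlt hm))
    refine le_trans (Nat.card_le_card_of_injective
      (fun a : ↥f.ker => (⟨(a.1 : A), congrArg Subtype.val a.2⟩ : {a : A // p • a = 0})) ?_) (h' p hp)
    intro a b hab
    exact Subtype.ext (Subtype.ext (Subtype.mk.inj hab))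

/-- The kernel of `B - q` on elements killed by `p` has size at most `p ^ multiplicity`. -/
theorem card_torsion_le {M : Type*} [AddCommGroup M] [Finite M] (P : Matrix (Fin l) (Fin l) ℤ) (q : ℤ)
    {p : ℕ} [Fact p.Prime] {u : M} (hu : addOrderOf u = p)
    (hgen : ∀ x : M, p • x = 0 → ∃ k : ℤ, k • u = x) :
    Nat.card {x : Fin l → M // act (P - q • 1) x = 0 ∧ p • x = 0} ≤
      p ^ (P.map (Int.castRingHom (ZMod p))).charpoly.rootMultiplicity (q : ZMod p) := by
  classical
  have hp : p.Prime := Fact.out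
  let g : ZMod p →+ M := ZMod.lift p ⟨zmultiplesHom M u, by
    show (p : ℤ) • u = 0
    rw [natCast_zsmul, ← hu]
    exact addOrderOf_nsmul_eq_zero u⟩
  have hginj : Function.Injective g := by
    rw [ZMod.lift_injective]
    intro k hk
    rw [ZMod.intCast_zmod_eq_zero_iff_dvd, ← hu, addOrderOf_dvd_iff_zsmul_eq_zero]
    exact hk
  let c := Int.castRingHom (ZMod p)
  let φ : Module.End (ZMod p) (Fin l → ZMod p) := Matrix.toLin' (P.map c)
  have hkey : ∀ (B : Matrix (Fin l) (Fin l) ℤ) (x : Fin l → ZMod p), act B (g ∘ x) = g ∘ act B x :=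
    fun B x => (map_act g B x).symm
  have hmem : ∀ x : Fin l → ZMod p, act (P - q • 1) x = 0 → x ∈ φ.eigenspace (q : ZMod p) := by
    intro x hx
    rw [Module.End.mem_eigenspace_iff]
    funext i
    have := congrFun hx i
    simp only [act, Matrix.sub_apply, Matrix.smul_apply, Matrix.one_apply, smul_eq_mul, mul_ite,
      mul_one, mul_zero, sub_smul, ite_smul, zero_smul, Finset.sum_sub_distrib, Finset.sum_ite_eq,
      Finset.mem_univ, if_true, Pi.zero_apply, sub_eq_zero] at this
    simpa [φ, c, Matrix.toLin'_apply, Matrix.mulVec, dotProduct, zsmul_eq_mul] using this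
  have hbound : Nat.card {x : Fin l → M // act (P - q • 1) x = 0 ∧ p • x = 0} ≤
      Nat.card ↥(φ.eigenspace (q : ZMod p)) := by
    choose k hk using fun y : {x : Fin l → M // act (P - q • 1) x = 0 ∧ p • x = 0} =>
      fun i => hgen (y.1 i) (congrFun y.2.2 i)
    have hgk : ∀ y, g ∘ (fun i => (k y i : ZMod p)) = y.1 := fun y => funext fun i => by
      simpa [g] using hk y i
    refine Nat.card_le_card_of_injective
      (fun y => (⟨fun i => (k y i : ZMod p), hmem _ (funext fun i => hginj ?_)⟩ :
        ↥(φ.eigenspace (q : ZMod p)))) ?_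
    · have h1 := congrFun (hkey (P - q • 1) fun i => (k y i : ZMod p)) i
      rw [hgk y, y.2.1] at h1
      simpa using h1.symm
    · intro y y' hyy
      refine Subtype.ext ?_
      rw [← hgk y, ← hgk y', show (fun i => (k y i : ZMod p)) = fun i => (k y' i : ZMod p) from
        congrArg Subtype.val hyy]
  refine hbound.trans ?_
  rw [Module.natCard_eq_pow_finrank (K := ZMod p), Nat.card_zmod]
  refine Nat.pow_le_pow_right hp.pos ((LinearMap.finrank_eigenspace_le φ _).trans ?_)
  rw [show φ.charpoly = (P.map c).charpoly from Matrix.charpoly_toLin' _]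

/-- A divisor of `X ^ n - 1` has no repeated root modulo a prime not dividing `n`. -/
theorem rootMultiplicity_le_one {f : ℤ[X]} {n p : ℕ} [Fact p.Prime] (hf : f ∣ X ^ n - 1)
    (hpn : ¬ p ∣ n) (a : ZMod p) : (f.map (Int.castRingHom (ZMod p))).rootMultiplicity a ≤ 1 := by
  refine rootMultiplicity_le_one_of_separable ?_ a
  have hsep : (X ^ n - C (1 : ZMod p)).Separable :=
    separable_X_pow_sub_C 1 (fun h => hpn ((ZMod.natCast_eq_zero_iff n p).1 h)) one_ne_zero
  refine hsep.of_dvd ?_
  have h1 := Polynomial.map_dvd (Int.castRingHom (ZMod p)) hf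
  simpa using h1

end Cfsg.Agent.ChevEigen14
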