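import Cfsg.Agent.Lib.ChevBruhatInstance
import Cfsg.Agent.S1051
import Cfsg.Agent.Lib.ChevalleyParabolicBN

/-!
Exceptional graph automorphisms: in the special characteristic the root elements act on a coordinate
subspace of the adjoint module and on the quotient by it, and the two actions correspond under a
permutation of the roots with exponents.
-/

set_option autoImplicit false
set_option linter.unusedSimpArgs false
set_option linter.unusedSectionVars false

namespace Cfsg.Agent.ChevExcGraph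

open Cfsg.Lie Cfsg.Agent.ChevalleyEngine Cfsg.Agent.ChevalleyCert Cfsg.Agent.ChevalleyExp
open Cfsg.Agent.ChevalleyCore Cfsg.Agent.ChevBruhat
open Cfsg.Agent

/-- the data of an exceptional symmetry -/
structure Exc (D : ChevalleyDatum) where
  p : ℕ
  rho : ℕ → ℕ
  rinv : ℕ → ℕ
  sub : D.Idx → Bool
  e : ℕ → ℕ
  e_ok : ∀ r < D.nroots, e r = 1 ∨ e r = p
  sig : D.Idx → D.Idx
  tau : D.Idx → D.Idx
  rho_ok : ∀ r < D.nroots, rho r < D.nroots ∧ rinv r < D.nroots ∧ rho (rinv r) = r
  sig_ok : ∀ a, sub a = false → sub (sig a) = true ∧ tau (sig a) = a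
  tau_ok : ∀ a, sub a = true → sub (tau a) = false ∧ sig (tau a) = a
  stable : ∀ r < D.nroots, ∀ k ∈ ([1, 2, 3] : List ℕ), ∀ a, sub a = false → ∀ b, sub b = true →
    (p : ℤ) ∣ xm D k r a b - 0
  corr : ∀ r < D.nroots, ∀ k ∈ ([1, 2, 3] : List ℕ), ∀ a, sub a = true → ∀ b, sub b = true →
    (p : ℤ) ∣ xm D k r (tau a) (tau b) -
      (if k % e r = 0 then xm D (k / e r) (rho r) a b else 0)
  high : ∀ r < D.nroots, ∀ j ∈ ([1, 2, 3] : List ℕ), 3 < j * e r → ∀ a,
    sub a = true → ∀ b, sub b = true → (p : ℤ) ∣ xm D j (rho r) a b - 0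
  moves : ∀ i : Fin D.rank,
    (∃ s : Fin D.nroots, D.reflectRoot i s.val ≠ s.val ∧ sub (Sum.inr s) = true ∧
      ∀ s' : Fin D.nroots, s'.val = D.reflectRoot i s.val → sub (Sum.inr s') = true) ∧
    ∃ s : Fin D.nroots, D.reflectRoot i s.val ≠ s.val ∧ sub (Sum.inr s) = false ∧
      ∀ s' : Fin D.nroots, s'.val = D.reflectRoot i s.val → sub (Sum.inr s') = false

variable {D : ChevalleyDatum} (E : Exc D) (C : Cert D) {F : Type*} [Field F] [CharP F E.p]

include C in
theorem cast_zero {z : ℤ} (h : (E.p : ℤ) ∣ z - 0) : (z : F) = 0 :=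
  (CharP.intCast_eq_zero_iff F E.p z).2 (by rwa [sub_zero] at h)

theorem xR_entry (r : ℕ) (t : F) (a b : D.Idx) :
    xR D F r t a b = (1 : Matrix D.Idx D.Idx F) a b + t * (xm D 1 r a b : F) +
      t ^ 2 * (xm D 2 r a b : F) + t ^ 3 * (xm D 3 r a b : F) := by
  simp [xR]

/-- matrices preserving the subspace -/
def Keeps (g : Matrix D.Idx D.Idx F) : Prop := ∀ a b, E.sub a = false → E.sub b = true → g a b = 0

theorem keeps_mul {g g' : Matrix D.Idx D.Idx F} (h : Keeps E g) (h' : Keeps E g') :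
    Keeps E (g * g') := by
  intro a b ha hb
  rw [Matrix.mul_apply]
  refine Finset.sum_eq_zero fun c _ => ?_
  rcases hc : E.sub c with _ | _
  · rw [h' c b hc hb, mul_zero]
  · rw [h a c ha hc, zero_mul]

/-- invertible matrices preserving the subspace in both directions -/
def keepGroup : Subgroup (GL D.Idx F) where
  carrier := {g | Keeps E (g : Matrix D.Idx D.Idx F) ∧ Keeps E ((g⁻¹ : GL D.Idx F) : Matrix D.Idx D.Idx F)}
  one_mem' := by
    have h : Keeps E (1 : Matrix D.Idx D.Idx F) := fun a b ha hb =>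
      Matrix.one_apply_ne fun e => by rw [e, hb] at ha; exact absurd ha (by simp)
    exact ⟨by simpa using h, by simpa using h⟩
  mul_mem' := fun {g g'} h h' => ⟨by rw [Units.val_mul]; exact keeps_mul E h.1 h'.1,
    by rw [mul_inv_rev, Units.val_mul]; exact keeps_mul E h'.2 h.2⟩
  inv_mem' := fun {g} h => ⟨h.2, by rw [inv_inv]; exact h.1⟩

include C in
theorem group_keeps : D.group F ≤ keepGroup E := by
  have hx : ∀ r, r < D.nroots → ∀ t : F, Keeps E ((xg C r t : GL D.Idx F) : Matrix D.Idx D.Idx F) := by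
    intro r hr t a b ha hb
    rw [coe_xg, x_eq_xR C hr, xR_entry, Matrix.one_apply_ne (fun e => by rw [e, hb] at ha; exact absurd ha (by simp)),
      cast_zero E C (E.stable r hr 1 (by simp) a ha b hb), cast_zero E C (E.stable r hr 2 (by simp) a ha b hb),
      cast_zero E C (E.stable r hr 3 (by simp) a ha b hb)]
    ring
  rw [ChevalleyDatum.group, Subgroup.closure_le]
  rintro g ⟨⟨r, hr⟩, t, hg⟩
  obtain rfl : g = xg C r t := Units.ext (hg.trans (by simp [ChevalleyDatum.x, hr]))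
  exact ⟨hx r hr t, by rw [xg_inv]; exact hx r hr (-t)⟩

/-- the coordinates of the subspace -/
abbrev SubIdx : Type := {a : D.Idx // E.sub a = true}

/-- action on the subspace -/
def inner : ↥(D.group F) →* Matrix (SubIdx E) (SubIdx E) F := by
  refine ⟨⟨fun g => (((g : GL D.Idx F) : Matrix D.Idx D.Idx F)).submatrix (fun a : SubIdx E => a.1)
    (fun a : SubIdx E => a.1), Matrix.submatrix_one _ Subtype.val_injective⟩, ?_⟩
  intro g g'
  ext a b
  simp only [Subgroup.coe_mul, Units.val_mul, Matrix.submatrix_apply, Matrix.mul_apply]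
  symm
  refine Finset.sum_bij_ne_zero (fun c _ _ => c.1) (fun c _ _ => Finset.mem_univ _)
    (fun c _ _ c' _ _ e => Subtype.ext e) (fun c _ hc => ?_) (fun c _ _ => rfl)
  rcases h : E.sub c with _ | _
  · exact absurd (by rw [(group_keeps E C g'.2).1 c b.1 h b.2, mul_zero]) hc
  · exact ⟨⟨c, h⟩, Finset.mem_univ _, hc, rfl⟩

/-- action on the quotient, carried to the subspace coordinates -/
def outer : ↥(D.group F) →* Matrix (SubIdx E) (SubIdx E) F := by
  refine ⟨⟨fun g => (((g : GL D.Idx F) : Matrix D.Idx D.Idx F)).submatrix (fun a : SubIdx E => E.tau a.1)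
    (fun a : SubIdx E => E.tau a.1), Matrix.submatrix_one _ fun a b e => Subtype.ext ?_⟩, ?_⟩
  · rw [← (E.tau_ok a.1 a.2).2, e, (E.tau_ok b.1 b.2).2]
  intro g g'
  ext a b
  simp only [Subgroup.coe_mul, Units.val_mul, Matrix.submatrix_apply, Matrix.mul_apply]
  symm
  refine Finset.sum_bij_ne_zero (fun c _ _ => E.tau c.1) (fun c _ _ => Finset.mem_univ _)
    (fun c _ _ c' _ _ e => Subtype.ext ?_) (fun c _ hc => ?_) (fun c _ _ => rfl)
  · rw [← (E.tau_ok c.1 c.2).2, ← (E.tau_ok c'.1 c'.2).2, e]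
  · rcases h : E.sub c with _ | _
    · refine ⟨⟨E.sig c, (E.sig_ok c h).1⟩, Finset.mem_univ _, ?_, (E.sig_ok c h).2⟩
      simp only [(E.sig_ok c h).2]
      exact hc
    · exact absurd (by rw [(group_keeps E C g.2).1 _ c (E.tau_ok a.1 a.2).1 h, zero_mul]) hc

theorem inner_apply (g : ↥(D.group F)) (a b : SubIdx E) :
    inner E C g a b = ((g : GL D.Idx F) : Matrix D.Idx D.Idx F) a.1 b.1 := rfl

theorem outer_apply (g : ↥(D.group F)) (a b : SubIdx E) :
    outer E C g a b = ((g : GL D.Idx F) : Matrix D.Idx D.Idx F) (E.tau a.1) (E.tau b.1) := rfl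

/-- a root element of the group -/
abbrev xe (r : ℕ) (t : F) : ↥(D.group F) := ⟨xg C r t, xg_mem_group C r t⟩

/-- the two actions correspond -/
theorem outer_x (hp : E.p = 2 ∨ E.p = 3) {r : ℕ} (hr : r < D.nroots) (t : F) :
    outer E C (xe C r t) = inner E C (xe C (E.rho r) (t ^ E.e r)) := by
  ext a b
  rw [outer_apply, inner_apply, coe_xg, coe_xg, x_eq_xR C hr, x_eq_xR C (E.rho_ok r hr).1,
    xR_entry, xR_entry]
  have h1 : (1 : Matrix D.Idx D.Idx F) (E.tau a.1) (E.tau b.1) = (1 : Matrix D.Idx D.Idx F) a.1 b.1 := by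
    rcases eq_or_ne a.1 b.1 with h | h
    · rw [h, Matrix.one_apply_eq, Matrix.one_apply_eq]
    · rw [Matrix.one_apply_ne h, Matrix.one_apply_ne fun e => h ?_]
      rw [← (E.tau_ok a.1 a.2).2, e, (E.tau_ok b.1 b.2).2]
  have hk : ∀ k ∈ ([1, 2, 3] : List ℕ), (xm D k r (E.tau a.1) (E.tau b.1) : F) =
      ((if k % E.e r = 0 then xm D (k / E.e r) (E.rho r) a.1 b.1 else 0 : ℤ) : F) := by
    intro k hk
    have := (CharP.intCast_eq_zero_iff F E.p _).2 (E.corr r hr k hk a.1 a.2 b.1 b.2)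
    rwa [Int.cast_sub, sub_eq_zero] at this
  have hhigh : ∀ j ∈ ([1, 2, 3] : List ℕ), 3 < j * E.e r →
      (xm D j (E.rho r) a.1 b.1 : F) = 0 := fun j hj hlt =>
    cast_zero E C (E.high r hr j hj hlt a.1 a.2 b.1 b.2)
  rw [h1, hk 1 (by simp), hk 2 (by simp), hk 3 (by simp)]
  rcases E.e_ok r hr with he | he <;> rw [he] at hhigh ⊢
  · norm_num
  · rcases hp with hp | hp <;> rw [hp] at hhigh ⊢
    · rw [hhigh 2 (by simp) (by norm_num), hhigh 3 (by simp) (by norm_num)]
      norm_num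
    · rw [hhigh 2 (by simp) (by norm_num), hhigh 3 (by simp) (by norm_num)]
      norm_num

include C in
/-- a diagonal entry of a Borel element is non-zero, and entries below it vanish -/
theorem borel_entry {v : GL D.Idx F} (hv : v ∈ D.borelSubgroup F) (q : D.Idx) :
    (v : Matrix D.Idx D.Idx F) q q ≠ 0 := by
  obtain ⟨u, hu, h, hh, rfl⟩ := (ChevalleyTorus.mem_B_iff C).1 hv
  rw [ChevalleyTorus.mul_H_entry C hh,
    ChevalleyUnipotent.upperAt_diag _ le_rfl (ChevalleyUnipotent.U_le_upper C hu), one_mul]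
  obtain ⟨c, rfl⟩ := (ChevalleyTorus.mem_H_iff C).1 hh
  rw [ChevalleyTorus.coe_torus, ChevalleyTorus.tmat, Matrix.diagonal_apply_eq]
  rcases q with j | s
  · exact one_ne_zero
  · exact Units.ne_zero _

include C in
theorem nv_entry {v : GL D.Idx F} (hv : v ∈ D.borelSubgroup F) (i : Fin D.rank) (s s' : Fin D.nroots)
    (hs' : s'.val = D.reflectRoot i s.val) :
    ((ng C (D.simple i) (1 : F) * v : GL D.Idx F) : Matrix D.Idx D.Idx F) (Sum.inr s') (Sum.inr s) ≠ 0 := by
  rw [Units.val_mul, coe_ng_simple C i.isLt, Matrix.mul_apply, Finset.sum_eq_single (Sum.inr s)]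
  · refine mul_ne_zero ?_ (borel_entry C hv _)
    simp [castM, mn, hs', eta_cast_ne C]
  · rintro (j | u) _ hne
    · simp [castM, mn]
    · have hus : u.val ≠ s.val := fun e => hne (congrArg Sum.inr (Fin.ext e))
      have hne' : D.reflectRoot i s.val ≠ D.reflectRoot i u.val := fun e =>
        hus (ChevalleyRoots.w_inj C i.isLt s.isLt u.isLt e).symm
      simp [castM, mn, hs', hne']
  · intro h; exact absurd (Finset.mem_univ _) h

/-- the representative of a fundamental reflection as an element of the group -/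
def ne (i : Fin D.rank) : ↥(D.group F) :=
  xe C (D.simple i) 1 * xe C (D.neg (D.simple i)) (-(1 : F)⁻¹) * xe C (D.simple i) 1

theorem coe_ne' (i : Fin D.rank) : ((ne C i : ↥(D.group F)) : GL D.Idx F) = ng C (D.simple i) (1 : F) := rfl

variable (S : Sys D F)

include S in
theorem ker_trivial (f : ↥(D.group F) →* Matrix (SubIdx E) (SubIdx E) F)
    (hf : ∀ (v : ↥(D.group F)) (i : Fin D.rank), (v : GL D.Idx F) ∈ D.borelSubgroup F →
      f (ne C i * v) ≠ 1)
    {g : ↥(D.group F)} (hg : f g = 1) : g = 1 := by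
  set M : Subgroup ↥(D.group F) := f.ker ⊔ S.bnPair.B with hM
  have hBM : S.bnPair.B ≤ M := le_sup_right
  have hMP := BNPairLib.eq_parabolic S.bnPair hBM
  have hempty : {s | s ∈ S.bnPair.S ∧ s ∈ M} = (∅ : Set ↥(D.group F)) := by
    refine Set.eq_empty_iff_forall_notMem.2 fun s hs => ?_
    obtain ⟨hsS, hsM⟩ := hs
    obtain ⟨i, hi⟩ := S.sSet_eq hsS
    obtain ⟨m, hm, b, hb, e⟩ := Subgroup.mem_sup_of_normal_left.1 hsM
    refine hf b⁻¹ i (inv_mem (Subgroup.mem_subgroupOf.1 hb)) ?_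
    have hs' : ne C i = s :=
      Subtype.ext (by rw [coe_ne', hi, ChevalleyParabolicBN.sys_nn C S])
    rw [hs', ← e, mul_inv_cancel_right]
    exact MonoidHom.mem_ker.1 hm
  have hMB : M = S.bnPair.B := by
    rw [hMP, hempty, Cfsg.BNPair.parabolic, Subgroup.closure_empty, sup_bot_eq]
  refine Subtype.ext (S1051.eq_one_of_conj C S fun x hx => ?_)
  have : (⟨x, hx⟩ : ↥(D.group F)) * g * ⟨x, hx⟩⁻¹ ∈ S.bnPair.B :=
    hMB ▸ Subgroup.mem_sup_left ((MonoidHom.normal_ker f).conj_mem g (MonoidHom.mem_ker.2 hg) ⟨x, hx⟩)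
  exact Subgroup.mem_subgroupOf.1 this

include S in
theorem inner_injective : Function.Injective (inner E C (F := F)).toHomUnits := by
  rw [injective_iff_map_eq_one]
  intro g hg
  refine ker_trivial E C S (inner E C) (fun v i hv h => ?_) (congrArg Units.val hg)
  obtain ⟨⟨s, hne, hs, hs'⟩, -⟩ := E.moves i
  let s' : Fin D.nroots := ⟨D.reflectRoot i s.val, C.w_lt i s i.isLt s.isLt⟩
  have e := congrFun (congrFun h ⟨Sum.inr s', hs' s' rfl⟩) ⟨Sum.inr s, hs⟩
  rw [inner_apply, Subgroup.coe_mul, coe_ne'] at e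
  refine nv_entry C hv i s s' rfl (e.trans (Matrix.one_apply_ne ?_))
  exact fun he => hne (congrArg Fin.val (Sum.inr.inj (congrArg Subtype.val he)))

include S in
theorem outer_injective : Function.Injective (outer E C (F := F)).toHomUnits := by
  rw [injective_iff_map_eq_one]
  intro g hg
  refine ker_trivial E C S (outer E C) (fun v i hv h => ?_) (congrArg Units.val hg)
  obtain ⟨-, s, hne, hs, hs'⟩ := E.moves i
  let s' : Fin D.nroots := ⟨D.reflectRoot i s.val, C.w_lt i s i.isLt s.isLt⟩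
  have e := congrFun (congrFun h ⟨_, (E.sig_ok _ (hs' s' rfl)).1⟩) ⟨_, (E.sig_ok _ hs).1⟩
  rw [outer_apply, Subgroup.coe_mul, coe_ne'] at e
  simp only [(E.sig_ok _ (hs' s' rfl)).2, (E.sig_ok _ hs).2] at e
  refine nv_entry C hv i s s' rfl (e.trans (Matrix.one_apply_ne fun he => hne ?_))
  have he' := congrArg E.tau (congrArg Subtype.val he)
  simp only [(E.sig_ok _ (hs' s' rfl)).2, (E.sig_ok _ hs).2] at he'
  exact congrArg Fin.val (Sum.inr.inj he')

include C S in
/-- the exceptional automorphism -/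
theorem exists_aut (hp : E.p = 2 ∨ E.p = 3) (hperf : ∀ x : F, ∃ y : F, y ^ E.p = x) :
    ∃ α : ↥(D.group F) ≃* ↥(D.group F), ∀ (g : ↥(D.group F)) (r : ℕ) (t : F), r < D.nroots →
      ((g : GL D.Idx F) : Matrix D.Idx D.Idx F) = D.x F r t →
        ((α g : GL D.Idx F) : Matrix D.Idx D.Idx F) = D.x F (E.rho r) (t ^ E.e r) := by
  set fi := (inner E C (F := F)).toHomUnits with hfi
  set fo := (outer E C (F := F)).toHomUnits with hfo
  have hx : ∀ r, r < D.nroots → ∀ t : F, fo (xe C r t) = fi (xe C (E.rho r) (t ^ E.e r)) :=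
    fun r hr t => Units.ext (outer_x E C hp hr t)
  have hgen : (Subgroup.closure {g : ↥(D.group F) | ∃ r t, r < D.nroots ∧ g = xe C r t}) = ⊤ := by
    rw [eq_top_iff]
    intro g _
    have hg : (g : GL D.Idx F) ∈ (Subgroup.closure {g : ↥(D.group F) | ∃ r t, r < D.nroots ∧ g = xe C r t}).map
        (D.group F).subtype := by
      have hle : D.group F ≤ (Subgroup.closure {g : ↥(D.group F) |
          ∃ r t, r < D.nroots ∧ g = xe C r t}).map (D.group F).subtype := by
        refine (Subgroup.closure_le _).2 ?_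
        rintro y ⟨⟨r, hr⟩, t, hy⟩
        obtain rfl : y = xg C r t := Units.ext (hy.trans (by simp [ChevalleyDatum.x, hr]))
        exact ⟨xe C r t, Subgroup.subset_closure ⟨r, t, hr, rfl⟩, rfl⟩
      exact hle g.2
    obtain ⟨z, hz, e⟩ := hg
    exact (Subtype.ext e : z = g) ▸ hz
  have hle : fo.range ≤ fi.range := by
    rw [MonoidHom.range_eq_map, ← hgen, MonoidHom.map_closure, Subgroup.closure_le]
    rintro _ ⟨_, ⟨r, t, hr, rfl⟩, rfl⟩
    exact ⟨_, (hx r hr t).symm⟩
  have hge : fi.range ≤ fo.range := by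
    rw [MonoidHom.range_eq_map, ← hgen, MonoidHom.map_closure, Subgroup.closure_le]
    rintro _ ⟨_, ⟨r, t, hr, rfl⟩, rfl⟩
    obtain ⟨h1, h2, h3⟩ := E.rho_ok r hr
    obtain ⟨u, hu⟩ : ∃ u : F, u ^ E.e (E.rinv r) = t := by
      rcases E.e_ok _ h2 with he | he <;> rw [he]
      · exact ⟨t, pow_one t⟩
      · exact hperf t
    exact ⟨xe C (E.rinv r) u, by rw [hx _ h2, h3, hu]⟩
  refine ⟨(MonoidHom.ofInjective (outer_injective E C S)).trans
    ((MulEquiv.subgroupCongr (le_antisymm hle hge)).trans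
      (MonoidHom.ofInjective (inner_injective E C S)).symm), fun g r t hr hg => ?_⟩
  obtain rfl : g = xe C r t := Subtype.ext (Units.ext (hg.trans (coe_xg C r t).symm))
  rw [← coe_xg C (E.rho r)]
  refine congrArg (fun z : ↥(D.group F) => ((z : GL D.Idx F) : Matrix D.Idx D.Idx F))
    (inner_injective E C S (F := F) (a₂ := xe C (E.rho r) (t ^ E.e r)) ?_)
  rw [← hx r hr t]
  simp only [MulEquiv.trans_apply]
  exact congrArg Subtype.val ((MonoidHom.ofInjective (inner_injective E C S)).apply_symm_apply _)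

end Cfsg.Agent.ChevExcGraph
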