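import Cfsg.Agent.Lib.ChevExcGraphFast

/-!
The data of the exceptional symmetries of B2, F4 (characteristic 2) and G2 (characteristic 3).
-/

set_option autoImplicit false
set_option maxRecDepth 10000
set_option maxHeartbeats 2000000

namespace Cfsg.Agent.ChevExcGraphData

open Cfsg.Lie Cfsg.Agent Cfsg.Agent.ChevExcGraph

/-- root permutation -/
def rhoB2 : List ℕ := [1, 0, 3, 2, 5, 4, 7, 6]
/-- exponents -/
def eB2 : List ℕ := [1, 2, 2, 1, 1, 2, 2, 1]
/-- node permutation -/
def piB2 : List ℕ := [1, 0]
/-- short root coordinates -/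
def subB2 : chevB2.Idx → Bool := Sum.elim (fun i => ([true, false] : List Bool).getD i.val false)
  (fun u => ([false, true, true, false, false, true, true, false] : List Bool).getD u.val false)
/-- coordinate permutation -/
def sigB2 : chevB2.Idx → chevB2.Idx :=
  Sum.map (fun i => if h : piB2.getD i.val 0 < chevB2.rank then ⟨_, h⟩ else i)
    (fun u => if h : rhoB2.getD u.val 0 < chevB2.nroots then ⟨_, h⟩ else u)

/-- the exceptional symmetry -/
def excB2 : Exc chevB2 where
  p := 2
  rho r := rhoB2.getD r 0
  rinv r := rhoB2.getD r 0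
  sub := subB2
  e r := eB2.getD r 1
  e_ok := by decide +kernel
  sig := sigB2
  tau := sigB2
  rho_ok := by decide +kernel
  sig_ok := by decide +kernel
  tau_ok := by decide +kernel
  stable := ChevExcGraphFast.stable_of_supp 2 subB2 (by decide +kernel)
  corr := ChevExcGraphFast.corr_of_supp 2 subB2 (fun r => rhoB2.getD r 0) (fun r => eB2.getD r 1) sigB2 sigB2 (by decide +kernel) (by decide +kernel)
  high := ChevExcGraphFast.high_of_supp 2 subB2 (fun r => rhoB2.getD r 0) (fun r => eB2.getD r 1) (by decide +kernel)
  moves := by decide +kernel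

/-- root permutation -/
def rhoG2 : List ℕ := [2, 3, 0, 1, 5, 4, 7, 6, 10, 11, 8, 9]
/-- exponents -/
def eG2 : List ℕ := [1, 1, 3, 3, 3, 1, 1, 3, 3, 3, 1, 1]
/-- node permutation -/
def piG2 : List ℕ := [1, 0]
/-- short root coordinates -/
def subG2 : chevG2.Idx → Bool := Sum.elim (fun i => ([true, false] : List Bool).getD i.val false)
  (fun u => ([false, false, true, true, true, false, false, true, true, true, false, false] : List Bool).getD u.val false)
/-- coordinate permutation -/
def sigG2 : chevG2.Idx → chevG2.Idx :=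
  Sum.map (fun i => if h : piG2.getD i.val 0 < chevG2.rank then ⟨_, h⟩ else i)
    (fun u => if h : rhoG2.getD u.val 0 < chevG2.nroots then ⟨_, h⟩ else u)

/-- the exceptional symmetry -/
def excG2 : Exc chevG2 where
  p := 3
  rho r := rhoG2.getD r 0
  rinv r := rhoG2.getD r 0
  sub := subG2
  e r := eG2.getD r 1
  e_ok := by decide +kernel
  sig := sigG2
  tau := sigG2
  rho_ok := by decide +kernel
  sig_ok := by decide +kernel
  tau_ok := by decide +kernel
  stable := ChevExcGraphFast.stable_of_supp 3 subG2 (by decide +kernel)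
  corr := ChevExcGraphFast.corr_of_supp 3 subG2 (fun r => rhoG2.getD r 0) (fun r => eG2.getD r 1) sigG2 sigG2 (by decide +kernel) (by decide +kernel)
  high := ChevExcGraphFast.high_of_supp 3 subG2 (fun r => rhoG2.getD r 0) (fun r => eG2.getD r 1) (by decide +kernel)
  moves := by decide +kernel

/-- root permutation -/
def rhoF4 : List ℕ := [3, 7, 8, 0, 9, 11, 18, 1, 2, 4, 15, 5, 16, 21, 23, 10, 12, 19, 6, 17, 22, 13, 20, 14, 33, 27, 34, 25, 30, 41, 28, 35, 37, 24, 26, 31, 42, 32, 43, 45, 46, 29, 36, 38, 47, 39, 40, 44]
/-- exponents -/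
def eF4 : List ℕ := [1, 1, 1, 2, 1, 1, 1, 2, 2, 2, 2, 2, 2, 2, 2, 1, 1, 1, 2, 2, 2, 1, 1, 1, 1, 1, 1, 2, 2, 2, 1, 1, 1, 2, 2, 2, 2, 2, 2, 2, 2, 1, 1, 1, 2, 1, 1, 1]
/-- node permutation -/
def piF4 : List ℕ := [3, 2, 1, 0]
/-- short root coordinates -/
def subF4 : chevF4.Idx → Bool := Sum.elim (fun i => ([true, true, false, false] : List Bool).getD i.val false)
  (fun u => ([false, false, false, true, false, false, false, true, true, true, true, true, true, true, true, false, false, false, true, true, true, false, false, false, false, false, false, true, true, true, false, false, false, true, true, true, true, true, true, true, true, false, false, false, true, false, false, false] : List Bool).getD u.val false)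
/-- coordinate permutation -/
def sigF4 : chevF4.Idx → chevF4.Idx :=
  Sum.map (fun i => if h : piF4.getD i.val 0 < chevF4.rank then ⟨_, h⟩ else i)
    (fun u => if h : rhoF4.getD u.val 0 < chevF4.nroots then ⟨_, h⟩ else u)

/-- the exceptional symmetry -/
def excF4 : Exc chevF4 where
  p := 2
  rho r := rhoF4.getD r 0
  rinv r := rhoF4.getD r 0
  sub := subF4
  e r := eF4.getD r 1
  e_ok := by decide +kernel
  sig := sigF4
  tau := sigF4
  rho_ok := by decide +kernel
  sig_ok := by decide +kernel
  tau_ok := by decide +kernel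
  stable := ChevExcGraphFast.stable_of_supp 2 subF4 (by decide +kernel)
  corr := ChevExcGraphFast.corr_of_supp 2 subF4 (fun r => rhoF4.getD r 0) (fun r => eF4.getD r 1) sigF4 sigF4 (by decide +kernel) (by decide +kernel)
  high := ChevExcGraphFast.high_of_supp 2 subF4 (fun r => rhoF4.getD r 0) (fun r => eF4.getD r 1) (by decide +kernel)
  moves := by decide +kernel

end Cfsg.Agent.ChevExcGraphData
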