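import Cfsg.Agent.Lib.ChevExcGraph

/-!
Cheap certificates for the congruence conditions of an exceptional symmetry: the matrices `xm D k r`
are sparse, so only the entries in the support of each column have to be inspected.
-/

set_option autoImplicit false

namespace Cfsg.Agent.ChevExcGraphFast

open Cfsg.Lie Cfsg.Agent.ChevalleyEngine

variable (D : ChevalleyDatum)

/-- all coordinates -/
def idxs : List D.Idx :=
  (List.finRange D.rank).map Sum.inl ++ (List.finRange D.nroots).map Sum.inr

theorem mem_idxs (a : D.Idx) : a ∈ idxs D := by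
  rcases a with i | s <;> simp [idxs]

/-- the coordinate of the root with index `u`, if there is one -/
def atRoot (u : ℕ) : List D.Idx := if h : u < D.nroots then [Sum.inr ⟨u, h⟩] else []

theorem mem_atRoot {u : ℕ} {v : Fin D.nroots} (h : v.val = u) : Sum.inr v ∈ atRoot D u := by
  subst h
  simp [atRoot, v.2]

/-- support of the column `b` of `xm D k r` -/
def supp (k r : ℕ) : D.Idx → List D.Idx
  | Sum.inl _ => atRoot D r
  | Sum.inr s =>
    if s.val = r then []
    else if s.val = D.neg r then (List.finRange D.rank).map Sum.inl ++ atRoot D r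
    else match D.chainRoot r s.val k with
      | some u => atRoot D u
      | none => []

theorem mem_supp {k r : ℕ} {a b : D.Idx} (h : xm D k r a b ≠ 0) : a ∈ supp D k r b := by
  rcases b with i | s
  · rcases a with j | v
    · simp [xm] at h
    · by_cases hv : v.val = r
      · exact mem_atRoot D hv
      · simp [xm, hv] at h
  · by_cases hs : s.val = r
    · simp [xm, hs] at h
    · by_cases hn : s.val = D.neg r
      · simp only [supp, if_neg hs, if_pos hn]
        rcases a with j | v
        · exact List.mem_append_left _ (List.mem_map.2 ⟨j, List.mem_finRange j, rfl⟩)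
        · refine List.mem_append_right _ ?_
          by_cases hv : v.val = r
          · exact mem_atRoot D hv
          · simp [xm, hn, hv] at h
      · simp only [supp, if_neg hs, if_neg hn]
        rcases a with j | v
        · simp [xm, hs, hn] at h
        · by_cases hc : D.chainRoot r s.val k = some v.val
          · rw [hc]; exact mem_atRoot D rfl
          · simp [xm, hs, hn, hc] at h

variable {D}

theorem stable_of_supp (p : ℕ) (sub : D.Idx → Bool)
    (h : ∀ r < D.nroots, ∀ k ∈ ([1, 2, 3] : List ℕ), ∀ b ∈ idxs D, sub b = true →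
      ∀ a ∈ supp D k r b, sub a = false → (p : ℤ) ∣ xm D k r a b) :
    ∀ r < D.nroots, ∀ k ∈ ([1, 2, 3] : List ℕ), ∀ a, sub a = false → ∀ b, sub b = true →
      (p : ℤ) ∣ xm D k r a b - 0 := by
  intro r hr k hk a ha b hb
  rw [sub_zero]
  by_cases hz : xm D k r a b = 0
  · rw [hz]; exact dvd_zero _
  · exact h r hr k hk b (mem_idxs D b) hb a (mem_supp D hz) ha

theorem high_of_supp (p : ℕ) (sub : D.Idx → Bool) (rho e : ℕ → ℕ)
    (h : ∀ r < D.nroots, ∀ j ∈ ([1, 2, 3] : List ℕ), 3 < j * e r → ∀ b ∈ idxs D, sub b = true →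
      ∀ a ∈ supp D j (rho r) b, sub a = true → (p : ℤ) ∣ xm D j (rho r) a b) :
    ∀ r < D.nroots, ∀ j ∈ ([1, 2, 3] : List ℕ), 3 < j * e r → ∀ a,
      sub a = true → ∀ b, sub b = true → (p : ℤ) ∣ xm D j (rho r) a b - 0 := by
  intro r hr j hj h3 a ha b hb
  rw [sub_zero]
  by_cases hz : xm D j (rho r) a b = 0
  · rw [hz]; exact dvd_zero _
  · exact h r hr j hj h3 b (mem_idxs D b) hb a (mem_supp D hz) ha

theorem corr_of_supp (p : ℕ) (sub : D.Idx → Bool) (rho e : ℕ → ℕ) (sig tau : D.Idx → D.Idx)
    (hst : ∀ a, sub a = true → sig (tau a) = a)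
    (h : ∀ r < D.nroots, ∀ k ∈ ([1, 2, 3] : List ℕ), ∀ b ∈ idxs D, sub b = true →
      ∀ a ∈ (supp D k r (tau b)).map sig ++ (if k % e r = 0 then supp D (k / e r) (rho r) b else []),
        sub a = true → (p : ℤ) ∣ xm D k r (tau a) (tau b) -
          (if k % e r = 0 then xm D (k / e r) (rho r) a b else 0)) :
    ∀ r < D.nroots, ∀ k ∈ ([1, 2, 3] : List ℕ), ∀ a, sub a = true → ∀ b, sub b = true →
      (p : ℤ) ∣ xm D k r (tau a) (tau b) -
        (if k % e r = 0 then xm D (k / e r) (rho r) a b else 0) := by
  intro r hr k hk a ha b hb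
  by_cases h1 : xm D k r (tau a) (tau b) = 0
  · by_cases h2 : (if k % e r = 0 then xm D (k / e r) (rho r) a b else 0) = 0
    · rw [h1, h2, sub_zero]; exact dvd_zero _
    · refine h r hr k hk b (mem_idxs D b) hb a (List.mem_append_right _ ?_) ha
      split_ifs with he
      · rw [if_pos he] at h2
        exact mem_supp D h2
      · rw [if_neg he] at h2
        exact absurd rfl h2
  · exact h r hr k hk b (mem_idxs D b) hb a
      (List.mem_append_left _ (List.mem_map.2 ⟨tau a, mem_supp D h1, hst a ha⟩)) ha

end Cfsg.Agent.ChevExcGraphFast
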