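import Cfsg.Agent.Lib.ChevalleyTorus
import Cfsg.Agent.Lib.ChevalleyAll
import Mathlib.FieldTheory.Finite.Basic

/-!
Extraction of root subgroups from subgroups of `U` normalised by `U` and `H`.
-/

set_option autoImplicit false
set_option linter.unusedSectionVars false

namespace Cfsg.Agent.ChevExtract

open Cfsg.Lie Cfsg.Agent.ChevalleyCert Cfsg.Agent.ChevalleyCore Cfsg.Agent.ChevalleyRoots
  Cfsg.Agent.ChevalleyTorus Cfsg.Agent.ChevalleyEngine
open scoped Classical

variable {D : ChevalleyDatum} (C : Cert D) {F : Type*} [Field F]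

/-- the subgroup generated by the root subgroups of the roots in `Q` -/
def Y (D : ChevalleyDatum) (F : Type*) [Field F] (Q : ℕ → Prop) : Subgroup (GL D.Idx F) :=
  Subgroup.closure {g | ∃ (s : ℕ) (t : F), Q s ∧ (g : Matrix D.Idx D.Idx F) = D.x F s t}

theorem xg_mem_Y {Q : ℕ → Prop} {s : ℕ} (h : Q s) (t : F) : xg C s t ∈ Y D F Q :=
  Subgroup.subset_closure ⟨s, t, h, coe_xg C s t⟩

theorem Y_mono {Q Q' : ℕ → Prop} (h : ∀ s, Q s → Q' s) : Y D F Q ≤ Y D F Q' :=
  Subgroup.closure_mono fun _ ⟨s, t, hs, e⟩ => ⟨s, t, h s hs, e⟩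

theorem Y_empty {Q : ℕ → Prop} (h : ∀ s, ¬ Q s) {y : GL D.Idx F} (hy : y ∈ Y D F Q) : y = 1 := by
  have : Y D F Q = ⊥ := by
    rw [Y, Subgroup.closure_eq_bot_iff]
    rintro g ⟨s, t, hs, -⟩
    exact absurd hs (h s)
  rwa [this, Subgroup.mem_bot] at hy

include C

theorem pos_ne_neg {r s : ℕ} (hr : D.IsPosRoot r) (hs : D.IsPosRoot s) : s ≠ D.neg r := by
  obtain ⟨h1, h2⟩ := (isPos C).1 hr
  obtain ⟨h3, h4⟩ := (isPos C).1 hs
  intro e
  rw [C.neg_eq r h2] at e
  have := C.even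
  omega

/-- conjugation by a positive root element -/
theorem conj_Y {Q : ℕ → Prop} {a : ℕ} (ha : D.IsPosRoot a)
    (hQ : ∀ s, Q s → D.IsPosRoot s ∧ (s = a ∨ ∀ c ∈ D.commTerms a s, Q c.1)) (t : F)
    {y : GL D.Idx F} (hy : y ∈ Y D F Q) : xg C a t * y * (xg C a t)⁻¹ ∈ Y D F Q := by
  induction hy using Subgroup.closure_induction with
  | mem g hg =>
    obtain ⟨s, u, hs, hg⟩ := hg
    obtain rfl := (xg_eq_iff C).1 hg
    obtain ⟨hp, hcl⟩ := hQ s hs
    rcases hcl with hsa | hcl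
    · subst hsa
      rw [xg_inv, xg_mul, xg_mul, show t + u + -t = u by ring]
      exact xg_mem_Y C hs u
    · by_cases hsa : s = a
      · subst hsa
        rw [xg_inv, xg_mul, xg_mul, show t + u + -t = u by ring]
        exact xg_mem_Y C hs u
      have h := comm_formula C ha.1 hp.1 hsa (pos_ne_neg C ha hp) (-t) u
      rw [show xg C a t * xg C s u * (xg C a t)⁻¹ = xg C a t * (xg C s u * xg C a (-t)) by
        rw [xg_inv, mul_assoc], h, ← mul_assoc, ← mul_assoc, xg_mul, add_neg_cancel, xg_zero, one_mul]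
      refine mul_mem (xg_mem_Y C hs u) (list_prod_mem fun g hg => ?_)
      obtain ⟨p, hp', rfl⟩ := List.mem_map.mp hg
      obtain ⟨c, hc, rfl⟩ := List.mem_map.mp hp'
      exact xg_mem_Y C (hcl c hc) _
  | one => simp
  | mul x z _ _ hx hz =>
    rw [show xg C a t * (x * z) * (xg C a t)⁻¹ =
      (xg C a t * x * (xg C a t)⁻¹) * (xg C a t * z * (xg C a t)⁻¹) by group]
    exact mul_mem hx hz
  | inv x _ hx =>
    rw [show xg C a t * x⁻¹ * (xg C a t)⁻¹ = (xg C a t * x * (xg C a t)⁻¹)⁻¹ by group]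
    exact inv_mem hx

theorem H_conj_Y {Q : ℕ → Prop} {h : GL D.Idx F} (hh : h ∈ D.diagonalSubgroup F) {y : GL D.Idx F}
    (hy : y ∈ Y D F Q) : h * y * h⁻¹ ∈ Y D F Q :=
  (Subgroup.mem_normalizer_iff.1 (H_le_normalizer C Q hh) y).1 hy

/-- `U`- and `H`-invariant subgroups of `U` -/
structure Inv (X : Subgroup (GL D.Idx F)) : Prop where
  conjU : ∀ u ∈ D.posUnipotent F, ∀ x ∈ X, u * x * u⁻¹ ∈ X
  conjH : ∀ h ∈ D.diagonalSubgroup F, ∀ x ∈ X, h * x * h⁻¹ ∈ X

omit C in
/-- `ker χ_r ⊄ ker χ_s` -/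
def Sep (D : ChevalleyDatum) (F : Type*) [Field F] (r s : ℕ) : Prop :=
  ∃ c : Fin D.rank → Fˣ, tchar D c r = 1 ∧ tchar D c s ≠ 1

/-- the whole root subgroup lies in `X` -/
def Known (X : Subgroup (GL D.Idx F)) (s : ℕ) : Prop := ∀ t : F, xg C s t ∈ X

theorem Y_le_U {Q : ℕ → Prop} (h : ∀ s, Q s → D.IsPosRoot s) : Y D F Q ≤ D.posUnipotent F :=
  Subgroup.closure_mono fun _ ⟨s, t, hs, e⟩ => ⟨s, t, h s hs, e⟩

theorem xg_mem_U {r : ℕ} (hr : D.IsPosRoot r) (t : F) : xg C r t ∈ D.posUnipotent F :=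
  Subgroup.subset_closure ⟨r, t, hr, coe_xg C r t⟩

variable [Fintype F] {X : Subgroup (GL D.Idx F)}

/-- removing one obstacle -/
theorem reduce_one (hX : Inv X) {r s : ℕ} (hr : D.IsPosRoot r) (hs : D.IsPosRoot s)
    (hsr : s ≠ r) {Q : ℕ → Prop} (hQ : ∀ x, Q x → D.IsPosRoot x)
    (hrs : ∀ c ∈ D.commTerms r s, Q c.1)
    (hrQ : ∀ x, Q x → x = r ∨ ∀ c ∈ D.commTerms r x, Q c.1)
    (hsQ : ∀ x, Q x → x = s ∨ ∀ c ∈ D.commTerms s x, Q c.1)
    (hkey : Known C X s ∨ Sep D F r s)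
    {a : F} (ha : a ≠ 0) {y : GL D.Idx F} (hy : y ∈ Y D F fun x => x = s ∨ Q x)
    (hx : xg C r a * y ∈ X) :
    ∃ a' : F, a' ≠ 0 ∧ ∃ y' ∈ Y D F Q, xg C r a' * y' ∈ X := by
  have conjr : ∀ (t : F) {z}, z ∈ Y D F Q → xg C r t * z * (xg C r t)⁻¹ ∈ Y D F Q := fun t _ hz =>
    conj_Y C hr (fun x hx' => ⟨hQ x hx', hrQ x hx'⟩) t hz
  have conjs : ∀ (t : F) {z}, z ∈ Y D F Q → xg C s t * z * (xg C s t)⁻¹ ∈ Y D F Q := fun t _ hz =>
    conj_Y C hs (fun x hx' => ⟨hQ x hx', hsQ x hx'⟩) t hz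
  obtain ⟨b, y₀, hy₀, rfl⟩ : ∃ (b : F) (y₀ : GL D.Idx F), y₀ ∈ Y D F Q ∧ y = xg C s b * y₀ := by
    refine Subgroup.closure_induction (p := fun z _ => ∃ (b : F) (y₀ : GL D.Idx F),
      y₀ ∈ Y D F Q ∧ z = xg C s b * y₀) ?_ ⟨0, 1, one_mem _, by simp⟩ ?_ ?_ hy
    · rintro g ⟨x, t, hx', hg⟩
      obtain rfl := (xg_eq_iff C).1 hg
      rcases hx' with rfl | hx'
      · exact ⟨t, 1, one_mem _, (mul_one _).symm⟩
      · exact ⟨0, _, xg_mem_Y C hx' t, by simp⟩
    · rintro u v - - ⟨b, y₁, hy₁, rfl⟩ ⟨b', y₂, hy₂, rfl⟩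
      refine ⟨b + b', (xg C s b')⁻¹ * y₁ * xg C s b' * y₂, mul_mem ?_ hy₂, ?_⟩
      · have := conjs (-b') hy₁
        rwa [← xg_inv, inv_inv] at this
      · rw [← xg_mul]; group
    · rintro u - ⟨b, y₁, hy₁, rfl⟩
      refine ⟨-b, xg C s b * y₁⁻¹ * (xg C s b)⁻¹, conjs b (inv_mem hy₁), ?_⟩
      rw [← xg_inv]; group
  rcases hkey with hk | ⟨c, hcr, hcs⟩
  · refine ⟨a, ha, y₀, hy₀, ?_⟩
    have h1 := hX.conjU _ (inv_mem (Y_le_U C hQ hy₀)) _ (inv_mem (hk b))
    have h2 := mul_mem hx h1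
    rwa [show xg C r a * (xg C s b * y₀) * (y₀⁻¹ * (xg C s b)⁻¹ * y₀⁻¹⁻¹) = xg C r a * y₀ by group]
      at h2
  · set h := torus D c with hh
    have hH : h ∈ D.diagonalSubgroup F := torus_mem_H C c
    set lam : Fˣ := tchar D c s with hlam
    have cr : ∀ t : F, h * xg C r t * h⁻¹ = xg C r t := fun t => by
      rw [torus_conj_xg C hr.1, hcr, Units.val_one, one_mul]
    have cs : ∀ t : F, h * xg C s t * h⁻¹ = xg C s ((lam : F) * t) := fun t =>
      torus_conj_xg C hs.1 c t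
    -- the product of the conjugates
    have main : ∀ k : ℕ, ∃ z ∈ Y D F Q,
        xg C r ((k : F) * a) * xg C s (b * ∑ j ∈ Finset.range k, (lam : F) ^ j) * z ∈ X ∧
        ∀ t : F, h ^ k * xg C s t * (h ^ k)⁻¹ = xg C s ((lam : F) ^ k * t) ∧
          h ^ k * xg C r t * (h ^ k)⁻¹ = xg C r t := by
      intro k
      induction k with
      | zero => exact ⟨1, one_mem _, by simp, fun t => ⟨by simp, by simp⟩⟩
      | succ k ih =>
        obtain ⟨z, hz, hzX, hact⟩ := ih
        set y₁ := h ^ k * y₀ * (h ^ k)⁻¹ with hy₁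
        have hy₁Y : y₁ ∈ Y D F Q := H_conj_Y C (pow_mem hH k) hy₀
        have hk : h ^ k * (xg C r a * (xg C s b * y₀)) * (h ^ k)⁻¹ ∈ X :=
          hX.conjH _ (pow_mem hH k) _ hx
        have e1 : h ^ k * (xg C r a * (xg C s b * y₀)) * (h ^ k)⁻¹ =
            xg C r a * xg C s ((lam : F) ^ k * b) * y₁ := by
          rw [← (hact b).1, hy₁]
          conv_rhs => rw [← (hact a).2]
          group
        rw [e1] at hk
        set S := b * ∑ j ∈ Finset.range k, (lam : F) ^ j with hS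
        set W := wg C (D.commWord F r s a S) with hW
        have hWY : W ∈ Y D F Q := by
          refine list_prod_mem fun g hg => ?_
          obtain ⟨p, hp', rfl⟩ := List.mem_map.mp hg
          obtain ⟨d, hd, rfl⟩ := List.mem_map.mp hp'
          exact xg_mem_Y C (hrs d hd) _
        have hcomm : xg C s S * xg C r a = xg C r a * xg C s S * W :=
          comm_formula C hr.1 hs.1 hsr (pos_ne_neg C hr hs) a S
        set v := (lam : F) ^ k * b with hv
        refine ⟨((xg C s v)⁻¹ * (W * ((xg C r a)⁻¹ * z * xg C r a)) * xg C s v) * y₁, ?_, ?_, ?_⟩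
        · refine mul_mem ?_ hy₁Y
          have h1 : (xg C r a)⁻¹ * z * xg C r a ∈ Y D F Q := by
            have := conjr (-a) hz
            rwa [← xg_inv, inv_inv] at this
          have := conjs (-v) (mul_mem hWY h1)
          rwa [← xg_inv, inv_inv] at this
        · have h2 := mul_mem hzX hk
          have e2 : xg C r ((k : F) * a) * xg C s S * z * (xg C r a * xg C s v * y₁) =
              xg C r ((k : F) * a) * (xg C s S * xg C r a) *
                (((xg C r a)⁻¹ * z * xg C r a) * xg C s v * y₁) := by group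
          rw [e2, hcomm] at h2
          have e3 : xg C r (((k + 1 : ℕ) : F) * a) *
              xg C s (b * ∑ j ∈ Finset.range (k + 1), (lam : F) ^ j) =
              xg C r ((k : F) * a) * xg C r a * (xg C s S * xg C s v) := by
            rw [xg_mul, xg_mul, Finset.sum_range_succ, mul_add, hS, hv, Nat.cast_succ, add_mul,
              one_mul, mul_comm b ((lam : F) ^ k)]
          rw [e3]
          convert h2 using 1
          group
        · intro t
          refine ⟨?_, ?_⟩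
          · rw [pow_succ, mul_inv_rev, show h ^ k * h * xg C s t * (h⁻¹ * (h ^ k)⁻¹) =
              h ^ k * (h * xg C s t * h⁻¹) * (h ^ k)⁻¹ by group, cs, (hact _).1, pow_succ, mul_assoc]
          · rw [pow_succ, mul_inv_rev, show h ^ k * h * xg C r t * (h⁻¹ * (h ^ k)⁻¹) =
              h ^ k * (h * xg C r t * h⁻¹) * (h ^ k)⁻¹ by group, cr, (hact _).2]
    obtain ⟨z, hz, hzX, -⟩ := main (orderOf lam)
    have hd : ((orderOf lam : ℕ) : F) ≠ 0 := by
      intro h0
      obtain ⟨e, he⟩ : orderOf lam ∣ Fintype.card F - 1 := by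
        rw [← Fintype.card_units F]; exact orderOf_dvd_card
      have h1 : ((Fintype.card F - 1 : ℕ) : F) = 0 := by rw [he, Nat.cast_mul, h0, zero_mul]
      rw [Nat.cast_sub Fintype.card_pos, Nat.cast_one,
        Nat.cast_card_eq_zero, zero_sub, neg_eq_zero] at h1
      exact one_ne_zero h1
    have hne : (lam : F) ≠ 1 := fun h0 => hcs (Units.ext h0)
    have hsum : ∑ j ∈ Finset.range (orderOf lam), (lam : F) ^ j = 0 := by
      have := mul_geom_sum (lam : F) (orderOf lam)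
      rw [← Units.val_pow_eq_pow_val, pow_orderOf_eq_one, Units.val_one, sub_self] at this
      exact (mul_eq_zero.1 this).resolve_left (sub_ne_zero.2 hne)
    refine ⟨_, mul_ne_zero hd ha, z, hz, ?_⟩
    rwa [hsum, mul_zero, xg_zero, mul_one] at hzX

/-- one element of a root subgroup gives all of it -/
theorem known_of_mem (hX : Inv X) {r : ℕ} (hr : r < D.nroots) {a : F} (ha : a ≠ 0)
    (h : xg C r a ∈ X) : Known C X r := by
  intro t
  have sqm : ∀ u : F, xg C r (u ^ 2 * a) ∈ X := by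
    intro u
    by_cases hu : u = 0
    · simp [hu]
    have h1 := hX.conjH _ (hg_mem_H C hr hu) _ h
    rwa [hg_conj_xg C hr hr hu, mul_inv_cancel_right, C.pair_self r hr, zpow_ofNat] at h1
  obtain ⟨u, v, huv⟩ : ∃ u v : F, u ^ 2 + v ^ 2 = t / a := by
    by_cases h2 : ringChar F = 2
    · obtain ⟨u, hu⟩ := FiniteField.isSquare_of_char_two h2 (t / a)
      exact ⟨u, 0, by rw [hu]; ring⟩
    · obtain ⟨u, v, huv⟩ := FiniteField.exists_root_sum_quadratic
        (f := (Polynomial.X : Polynomial F) ^ 2) (g := Polynomial.X ^ 2 - Polynomial.C (t / a))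
        (Polynomial.degree_X_pow 2) (Polynomial.degree_X_pow_sub_C (by decide) _)
        (FiniteField.odd_card_of_char_ne_two h2)
      exact ⟨u, v, by simp at huv; linear_combination huv⟩
  have h3 := mul_mem (sqm u) (sqm v)
  rw [xg_mul, ← add_mul, huv, div_mul_cancel₀ t ha] at h3
  exact h3

omit C in
/-- height -/
noncomputable def ht (C : Cert D) (r : ℕ) : ℤ := ∑ j ∈ Finset.range D.rank, C.coef r j

theorem ht_pos {r : ℕ} (hr : D.IsPosRoot r) : 1 ≤ ht C r := by
  obtain ⟨h1, h2⟩ := (isPos C).1 hr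
  by_contra hc
  have hz : ∀ j ∈ Finset.range D.rank, C.coef r j = 0 := by
    refine (Finset.sum_eq_zero_iff_of_nonneg fun j hj => C.coef_pos r j h1 h2 (Finset.mem_range.1 hj)).1 ?_
    have h0 : 0 ≤ ht C r :=
      Finset.sum_nonneg fun j hj => C.coef_pos r j h1 h2 (Finset.mem_range.1 hj)
    show ht C r = 0
    omega
  refine neg_ne C h2 (coef_inj C (C.neg_lt r) h2 fun j hj => ?_)
  rw [C.coef_neg r j h2 hj, hz j (Finset.mem_range.2 hj), neg_zero]

theorem term_pos {r s : ℕ} (hr : D.IsPosRoot r) (hs : D.IsPosRoot s) {c : ℕ × ℤ × ℕ × ℕ}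
    (hc : c ∈ D.commTerms r s) : D.IsPosRoot c.1 ∧ ht C r + ht C s ≤ ht C c.1 := by
  obtain ⟨h1, hi, hj, hco⟩ := commTerms_mem C hr.1 hs.1 hc
  have hht : ht C c.1 = (c.2.2.1 : ℤ) * ht C r + (c.2.2.2 : ℤ) * ht C s := by
    unfold ht
    rw [Finset.mul_sum, Finset.mul_sum, ← Finset.sum_add_distrib]
    exact Finset.sum_congr rfl fun j hj => hco j (Finset.mem_range.1 hj)
  have a1 := ht_pos C hr
  have a2 := ht_pos C hs
  have hi' : (1 : ℤ) ≤ c.2.2.1 := by exact_mod_cast hi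
  have hj' : (1 : ℤ) ≤ c.2.2.2 := by exact_mod_cast hj
  have hle : ht C r + ht C s ≤ ht C c.1 := by
    rw [hht]
    exact add_le_add (le_mul_of_one_le_left (by omega) hi') (le_mul_of_one_le_left (by omega) hj')
  refine ⟨(isPos C).2 ⟨?_, h1⟩, hle⟩
  by_contra hlt
  have h5 : ht C c.1 ≤ 0 := Finset.sum_nonpos fun j hj => by
    have := C.coef_pos (D.neg c.1) j ((ChevalleyRoots.neg_pos C h1).2 (by omega)) (C.neg_lt _)
      (Finset.mem_range.1 hj)
    rw [C.coef_neg _ j h1 (Finset.mem_range.1 hj)] at this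
    omega
  omega

/-- from an element with a component at `r` among higher roots -/
theorem boot (hX : Inv X) {r : ℕ} (hr : D.IsPosRoot r) (K : ℤ)
    (hkey : ∀ s, D.IsPosRoot s → s ≠ r → ht C s < K → Known C X s ∨ Sep D F r s)
    {a : F} (ha : a ≠ 0) {y : GL D.Idx F}
    (hy : y ∈ Y D F fun s => D.IsPosRoot s ∧ s ≠ r ∧ ht C r ≤ ht C s) (hx : xg C r a * y ∈ X) :
    ∃ a' : F, a' ≠ 0 ∧ ∃ y' ∈ Y D F (fun s => D.IsPosRoot s ∧ s ≠ r ∧ K ≤ ht C s),
      xg C r a' * y' ∈ X := by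
  suffices h : ∀ n : ℕ, ∀ S : Finset ℕ, S.card = n →
      (∀ s ∈ S, D.IsPosRoot s ∧ s ≠ r ∧ ht C r ≤ ht C s) →
      (∀ s ∈ S, ∀ x, D.IsPosRoot x → x ≠ r → ht C s < ht C x → x ∈ S) →
      ∀ (a : F), a ≠ 0 → ∀ y ∈ Y D F (· ∈ S), xg C r a * y ∈ X →
      ∃ a' : F, a' ≠ 0 ∧ ∃ y' ∈ Y D F (fun s => D.IsPosRoot s ∧ s ≠ r ∧ K ≤ ht C s),
        xg C r a' * y' ∈ X by
    refine h _ ((Finset.range D.nroots).filter fun s => D.IsPosRoot s ∧ s ≠ r ∧ ht C r ≤ ht C s)
      rfl (fun s hs => (Finset.mem_filter.1 hs).2) ?_ a ha y (Y_mono (fun s hs => ?_) hy) hx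
    · intro s hs x hx' hne hlt
      have := (Finset.mem_filter.1 hs).2.2.2
      exact Finset.mem_filter.2 ⟨Finset.mem_range.2 hx'.1, hx', hne, by omega⟩
    · exact Finset.mem_filter.2 ⟨Finset.mem_range.2 hs.1.1, hs⟩
  intro n
  induction n using Nat.strong_induction_on with
  | _ n ih =>
    intro S hn hS hup a ha y hy hx
    by_cases hne : S.Nonempty
    · obtain ⟨s, hs, hmin⟩ := Finset.exists_min_image S (ht C) hne
      obtain ⟨hsp, hsr, hrs⟩ := hS s hs
      by_cases hK : K ≤ ht C s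
      · refine ⟨a, ha, y, Y_mono (fun x hx' => ?_) hy, hx⟩
        exact ⟨(hS x hx').1, (hS x hx').2.1, hK.trans (hmin x hx')⟩
      have hterm : ∀ {u x : ℕ}, D.IsPosRoot u → D.IsPosRoot x → ht C r ≤ ht C u → ht C s ≤ ht C x →
          ∀ c ∈ D.commTerms u x, c.1 ∈ S.erase s := by
        intro u x hu hx' hru hsx c hc
        obtain ⟨hcp, hch⟩ := term_pos C hu hx' hc
        have := ht_pos C hu
        have := ht_pos C hx'
        refine Finset.mem_erase.2 ⟨fun e => by rw [e] at hch; omega,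
          hup s hs c.1 hcp (fun e => by rw [e] at hch; omega) (by omega)⟩
      obtain ⟨a', ha', y', hy', hx'⟩ := reduce_one C hX hr hsp hsr
        (Q := (· ∈ S.erase s)) (fun x hx' => (hS x (Finset.mem_of_mem_erase hx')).1)
        (hterm hr hsp le_rfl le_rfl)
        (fun x hx' => Or.inr (hterm hr (hS x (Finset.mem_of_mem_erase hx')).1 le_rfl
          (hmin x (Finset.mem_of_mem_erase hx'))))
        (fun x hx' => Or.inr (hterm hsp (hS x (Finset.mem_of_mem_erase hx')).1 hrs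
          (hmin x (Finset.mem_of_mem_erase hx'))))
        (hkey s hsp hsr (by omega)) ha
        (Y_mono (fun x hx' => by
          by_cases e : x = s
          · exact Or.inl e
          · exact Or.inr (Finset.mem_erase.2 ⟨e, hx'⟩)) hy) hx
      refine ih _ (by rw [← hn]; exact Finset.card_erase_lt_of_mem hs) (S.erase s) rfl
        (fun x hx'' => hS x (Finset.mem_of_mem_erase hx'')) ?_ a' ha' y' hy' hx'
      intro u hu x hxp hxr hlt
      refine Finset.mem_erase.2 ⟨fun e => ?_, hup u (Finset.mem_of_mem_erase hu) x hxp hxr hlt⟩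
      have := hmin u (Finset.mem_of_mem_erase hu)
      rw [e] at hlt; omega
    · refine ⟨a, ha, 1, one_mem _, ?_⟩
      rw [Y_empty (fun s hs => hne ⟨s, hs⟩) hy] at hx
      exact hx

/-! ### the derivation checker -/

omit C in
/-- closure and separation of a list of obstacles -/
def chk (D : ChevalleyDatum) (sep : ℕ → ℕ → Bool) (Kn : List ℕ) (r : ℕ) : List ℕ → Bool
  | [] => true
  | s :: rest =>
    decide (D.nroots / 2 ≤ s ∧ s < D.nroots ∧ s ≠ r) && (decide (s ∈ Kn) || sep r s) &&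
      (D.commTerms r s).all (fun c => decide (c.1 ∈ rest)) &&
      rest.all (fun x => decide (x ≠ r ∧ x ≠ s) &&
        (D.commTerms r x).all (fun c => decide (c.1 ∈ rest)) &&
        (D.commTerms s x).all (fun c => decide (c.1 ∈ rest))) &&
      chk D sep Kn r rest

omit C in
/-- read off root subgroups from the terms of a commutator -/
def peel (D : ChevalleyDatum) (sep : ℕ → ℕ → Bool) (us : List ℕ) :
    List ℕ → List (ℕ × ℤ × ℕ × ℕ) → List ℕ
  | Kn, [] => Kn
  | Kn, c :: rest =>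
    if c.1 ∈ Kn then peel D sep us Kn rest
    else if decide (D.nroots / 2 ≤ c.1 ∧ c.1 < D.nroots) && decide (c.2.1.natAbs ∈ us) &&
        chk D sep Kn c.1 (rest.map Prod.fst) then peel D sep us (c.1 :: Kn) rest
    else Kn

omit C in
/-- one commutator step -/
def step (D : ChevalleyDatum) (sep : ℕ → ℕ → Bool) (us : List ℕ) (Kn : List ℕ) (p : ℕ × ℕ) :
    List ℕ :=
  if p.1 ∈ Kn ∧ D.nroots / 2 ≤ p.1 ∧ p.1 < D.nroots ∧ D.nroots / 2 ≤ p.2 ∧ p.2 < D.nroots ∧
      p.2 ≠ p.1 then peel D sep us Kn (D.commTerms p.1 p.2) else Kn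

variable {sep : ℕ → ℕ → Bool} (hsep : ∀ r s, sep r s = true → Sep D F r s)
  {us : List ℕ} (hus : ∀ n ∈ us, (n : F) ≠ 0)

include hsep in
theorem chk_sound (hX : Inv X) {Kn : List ℕ} (hKn : ∀ s ∈ Kn, Known C X s) {r : ℕ}
    (hr : D.IsPosRoot r) : ∀ l : List ℕ, chk D sep Kn r l = true → ∀ a : F, a ≠ 0 →
      ∀ y ∈ Y D F (· ∈ l), xg C r a * y ∈ X → Known C X r := by
  intro l
  induction l with
  | nil =>
    intro _ a ha y hy hx
    rw [Y_empty (fun s hs => List.not_mem_nil hs) hy, mul_one] at hx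
    exact known_of_mem C hX hr.1 ha hx
  | cons s rest ih =>
    intro hc a ha y hy hx
    simp only [chk, Bool.and_eq_true, Bool.or_eq_true, decide_eq_true_eq, List.all_eq_true] at hc
    obtain ⟨⟨⟨⟨⟨hs1, hs2, hsr⟩, hkey⟩, hrs⟩, hrest⟩, htail⟩ := hc
    have hpos : ∀ l : List ℕ, chk D sep Kn r l = true → ∀ x ∈ l, D.IsPosRoot x := by
      intro l
      induction l with
      | nil => simp
      | cons u rest ih' =>
        intro hc x hx'
        simp only [chk, Bool.and_eq_true, decide_eq_true_eq] at hc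
        obtain ⟨⟨⟨⟨⟨h1, h2, -⟩, -⟩, -⟩, -⟩, h3⟩ := hc
        rcases List.mem_cons.1 hx' with rfl | hx'
        · exact (isPos C).2 ⟨h1, h2⟩
        · exact ih' h3 x hx'
    have hkey' : Known C X s ∨ Sep D F r s := hkey.imp (hKn s) (hsep r s)
    obtain ⟨a', ha', y', hy', hx'⟩ := reduce_one C hX hr ((isPos C).2 ⟨hs1, hs2⟩) hsr
      (Q := (· ∈ rest)) (hpos rest htail) hrs
      (fun x hx' => Or.inr (hrest x hx').1.2) (fun x hx' => Or.inr (hrest x hx').2)
      hkey' ha (Y_mono (fun x hx' => List.mem_cons.1 hx') hy) hx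
    exact ih htail a' ha' y' hy' hx'

include hsep hus in
theorem peel_sound (hX : Inv X) : ∀ (L : List (ℕ × ℤ × ℕ × ℕ)) (Kn : List ℕ),
    (∀ s ∈ Kn, Known C X s) → ∀ t u : F, t ≠ 0 → u ≠ 0 →
      wg C (L.map fun c => (c.1, (c.2.1 : F) * (-t) ^ c.2.2.1 * u ^ c.2.2.2)) ∈ X →
      ∀ s ∈ peel D sep us Kn L, Known C X s := by
  intro L
  induction L with
  | nil => intro Kn hKn t u _ _ _ s hs; exact hKn s hs
  | cons c rest ih =>
    intro Kn hKn t u ht hu hW s hs
    simp only [List.map_cons, wg, List.prod_cons] at hW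
    have tail_of : Known C X c.1 → wg C (rest.map fun c => (c.1, (c.2.1 : F) * (-t) ^ c.2.2.1 * u ^ c.2.2.2)) ∈ X := by
      intro hk
      have := mul_mem (inv_mem (hk ((c.2.1 : F) * (-t) ^ c.2.2.1 * u ^ c.2.2.2))) hW
      rwa [inv_mul_cancel_left] at this
    simp only [peel] at hs
    split_ifs at hs with h1 h2
    · exact ih Kn hKn t u ht hu (tail_of (hKn _ h1)) s hs
    · simp only [Bool.and_eq_true, decide_eq_true_eq] at h2
      have hc : (c.2.1 : F) ≠ 0 := by
        intro h0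
        apply hus _ h2.1.2
        rcases Int.natAbs_eq c.2.1 with e | e <;> rw [e] at h0 <;> simpa using h0
      have hk : Known C X c.1 := chk_sound C hsep hX hKn ((isPos C).2 h2.1.1) _ h2.2 _
        (mul_ne_zero (mul_ne_zero hc (pow_ne_zero _ (neg_ne_zero.2 ht))) (pow_ne_zero _ hu)) _
        (list_prod_mem fun g hg => by
          obtain ⟨p, hp', rfl⟩ := List.mem_map.mp hg
          obtain ⟨d, hd, rfl⟩ := List.mem_map.mp hp'
          exact xg_mem_Y C (List.mem_map_of_mem hd) _) hW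
      refine ih (c.1 :: Kn) (fun x hx => ?_) t u ht hu (tail_of hk) s hs
      rcases List.mem_cons.1 hx with rfl | hx
      · exact hk
      · exact hKn x hx
    · exact hKn s hs

include hsep hus in
theorem derive_sound (hX : Inv X) : ∀ (l : List (ℕ × ℕ)) (Kn : List ℕ),
    (∀ s ∈ Kn, Known C X s) → ∀ s ∈ l.foldl (step D sep us) Kn, Known C X s := by
  intro l
  induction l with
  | nil => intro Kn h; exact h
  | cons p l ih =>
    intro Kn hKn
    refine ih _ ?_
    unfold step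
    split_ifs with h
    · obtain ⟨hk, ha1, ha2, hb1, hb2, hne⟩ := h
      have hpa : D.IsPosRoot p.1 := (isPos C).2 ⟨ha1, ha2⟩
      have hpb : D.IsPosRoot p.2 := (isPos C).2 ⟨hb1, hb2⟩
      refine peel_sound C hsep hus hX _ _ hKn 1 1 one_ne_zero one_ne_zero ?_
      have hf := comm_formula C hpa.1 hpb.1 hne (pos_ne_neg C hpa hpb) (1 : F) 1
      have h2 := mul_mem (hX.conjU _ (inv_mem (xg_mem_U C hpb (1 : F))) _ (inv_mem (hKn _ hk 1)))
        (hKn _ hk 1)
      rw [inv_inv, mul_assoc _ (xg C p.2 (1 : F)), hf] at h2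
      show wg C (D.commWord F p.1 p.2 1 1) ∈ X
      convert h2 using 1
      group
    · exact hKn

end Cfsg.Agent.ChevExtract
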