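import Cfsg.Agent.Lib.ChevalleyExp
import Cfsg.Agent.Lib.ChevalleyAll

/-!
Ranks of the four representatives minus one, on the adjoint module modulo two.
-/

set_option autoImplicit false
set_option maxRecDepth 100000
set_option Elab.async false

namespace Cfsg.Agent.ChevF4InvolRanks

open Cfsg.Lie Cfsg.Agent.ChevalleyExp

/-- position of a basis vector -/
def ix : chevF4.Idx → ℕ
  | Sum.inl i => i.val
  | Sum.inr r => 4 + r.val

/-- a bit table as a matrix -/
def bits {ι κ : Type} (fi : ι → ℕ) (fj : κ → ℕ) (l : List ℕ) : Matrix ι κ (ZMod 2) :=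
  Matrix.of fun i j => if (l.getD (fi i) 0).testBit (fj j) then 1 else 0

/-- `x_47(1) - 1` -/
def m47 : List ℕ := [16, 0, 16, 0, 0, 0, 0, 0, 0, 0, 0, 0, 0, 0, 0, 0, 0, 0, 0, 0, 0, 0, 0, 0, 0, 0, 0, 0, 32, 0, 64, 0, 0, 128, 0, 256, 512, 0, 0, 0, 2048, 0, 4096, 8192, 32768, 0, 524288, 1048576, 4194304, 33554432, 134217728, 24]

theorem eq47 : xR chevF4 (ZMod 2) 47 1 = 1 + bits ix ix m47 := by
  decide +kernel

/-- `x_44(1) - 1` -/
def m44 : List ℕ := [0, 128, 0, 0, 0, 0, 0, 0, 0, 0, 0, 0, 0, 0, 0, 0, 0, 0, 0, 0, 0, 0, 16, 32, 64, 0, 0, 0, 0, 0, 0, 256, 512, 1024, 0, 0, 0, 2048, 4096, 8192, 16384, 32768, 65536, 131072, 262144, 16, 32, 64, 129, 256, 512, 1024]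

theorem eq44 : xR chevF4 (ZMod 2) 44 1 = 1 + bits ix ix m44 := by
  decide +kernel

/-- `x_39(1) - 1` -/
def m39 : List ℕ := [4096, 0, 0, 0, 0, 0, 0, 0, 0, 0, 0, 0, 0, 16, 32, 0, 0, 128, 256, 0, 0, 0, 0, 0, 2048, 0, 0, 0, 0, 16, 32, 0, 32768, 65536, 0, 0, 256, 524288, 0, 4194304, 8388608, 33554432, 67108864, 4102, 2147483648, 0, 0, 524288, 274877906944, 0, 33554432, 67108864]

theorem eq39 : xR chevF4 (ZMod 2) 39 1 = 1 + bits ix ix m39 := by
  decide +kernel

/-- `x_45(1) - 1` -/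
def m45 : List ℕ := [64, 0, 0, 64, 0, 0, 0, 0, 0, 0, 0, 0, 0, 0, 0, 0, 0, 0, 0, 0, 0, 0, 0, 0, 0, 16, 32, 0, 0, 0, 0, 128, 0, 0, 512, 1024, 0, 0, 2048, 0, 0, 8192, 16384, 0, 131072, 1048576, 2097152, 0, 16777216, 68, 536870912, 1073741824]

theorem eq45 : xR chevF4 (ZMod 2) 45 1 = 1 + bits ix ix m45 := by
  decide +kernel

theorem upper47 : bits ix ix m47 =
    bits ix (Fin.val (n := 16)) [1, 0, 1, 0, 0, 0, 0, 0, 0, 0, 0, 0, 0, 0, 0, 0, 0, 0, 0, 0, 0, 0, 0, 0, 0, 0, 0, 0, 2, 0, 4, 0, 0, 8, 0, 16, 32, 0, 0, 0, 64, 0, 128, 256, 512, 0, 1024, 2048, 4096, 8192, 16384, 32769] * bits Fin.val ix [16, 32, 64, 128, 256, 512, 2048, 4096, 8192, 32768, 524288, 1048576, 4194304, 33554432, 134217728, 8] := by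
  decide +kernel

theorem upper44 : bits ix ix m44 =
    bits ix (Fin.val (n := 16)) [0, 1, 0, 0, 0, 0, 0, 0, 0, 0, 0, 0, 0, 0, 0, 0, 0, 0, 0, 0, 0, 0, 2, 4, 8, 0, 0, 0, 0, 0, 0, 16, 32, 64, 0, 0, 0, 128, 256, 512, 1024, 2048, 4096, 8192, 16384, 2, 4, 8, 32769, 16, 32, 64] * bits Fin.val ix [128, 16, 32, 64, 256, 512, 1024, 2048, 4096, 8192, 16384, 32768, 65536, 131072, 262144, 1] := by
  decide +kernel

/-- table of the middle factor of `lowerTop` -/
def lowerTopMid : List ℕ := [16, 128, 16, 0, 0, 0, 0, 0, 0, 0, 0, 0, 0, 0, 0, 0, 0, 0, 0, 0, 0, 0, 16, 32, 64, 0, 0, 0, 32, 0, 64, 256, 512, 1152, 0, 256, 512, 2048, 4096, 8192, 18432, 32768, 69632, 139264, 294912, 16, 524320, 1048640, 4194449, 33554688, 134218240, 1048]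

theorem lowerTop_mid : bits ix ix m47 + bits ix ix m44 + bits ix ix m47 * bits ix ix m44 =
    bits ix ix lowerTopMid := by
  decide +kernel

theorem upperTop : bits ix ix m47 + bits ix ix m44 + bits ix ix m47 * bits ix ix m44 =
    bits ix (Fin.val (n := 21)) [1, 2, 1, 0, 0, 0, 0, 0, 0, 0, 0, 0, 0, 0, 0, 0, 0, 0, 0, 0, 0, 0, 1, 4, 8, 0, 0, 0, 4, 0, 8, 16, 32, 66, 0, 16, 32, 128, 256, 512, 1152, 2048, 4352, 8704, 18432, 1, 32772, 65544, 131075, 262160, 524320, 1048641] * bits Fin.val ix [16, 128, 32, 64, 256, 512, 1024, 2048, 4096, 8192, 16384, 32768, 65536, 131072, 262144, 524288, 1048576, 4194305, 33554432, 134217728, 8] := by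
  rw [lowerTop_mid]
  decide +kernel

/-- table of the left half of `lowerTop` -/
def lowerTopHalf : List ℕ := [16, 128, 32, 64, 256, 512, 1024, 2048, 4096, 8192, 16384, 32768, 65536, 131072, 262144, 524288, 1048576, 4194305, 33554432, 134217728, 8]

theorem lowerTop_half : bits (Fin.val (n := 21)) ix [1, 2, 8388608, 16777216, 2147483648, 4294967296, 8589934594, 137438953472, 274877906944, 549755813888, 1236950581248, 2199023255552, 4672924418048, 9345848836096, 19791209299968, 70368752566272, 140737505132544, 281474976710659, 562952100904960, 1125904201809920, 2251808403619843] * bits ix ix lowerTopMid =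
    bits (Fin.val (n := 21)) ix lowerTopHalf := by
  decide +kernel

theorem lowerTop : bits (Fin.val (n := 21)) ix [1, 2, 8388608, 16777216, 2147483648, 4294967296, 8589934594, 137438953472, 274877906944, 549755813888, 1236950581248, 2199023255552, 4672924418048, 9345848836096, 19791209299968, 70368752566272, 140737505132544, 281474976710659, 562952100904960, 1125904201809920, 2251808403619843] *
    (bits ix ix m47 + bits ix ix m44 + bits ix ix m47 * bits ix ix m44) * bits ix (Fin.val (n := 21)) [131072, 0, 0, 1048576, 1, 4, 8, 2, 16, 32, 64, 128, 256, 512, 1024, 2048, 4096, 8192, 16384, 32768, 65536, 0, 0, 0, 0, 262144, 0, 524288, 0, 0, 0, 0, 0, 0, 0, 0, 0, 0, 0, 0, 0, 0, 0, 0, 0, 0, 0, 0, 0, 0, 0, 0] = 1 := by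
  rw [lowerTop_mid, lowerTop_half]
  decide +kernel

/-- table of the middle factor of `lowerPair` -/
def lowerPairMid : List ℕ := [4160, 0, 0, 64, 0, 0, 0, 0, 0, 0, 0, 0, 0, 16, 32, 0, 0, 128, 256, 0, 0, 0, 0, 0, 2048, 16, 32, 0, 0, 16, 32, 128, 32768, 65536, 512, 1024, 256, 524288, 2048, 4194304, 8388608, 33562640, 67125280, 4102, 2147614848, 1048576, 2097152, 524288, 274894686208, 68, 570425360, 1140850720]

theorem lowerPair_mid : bits ix ix m39 + bits ix ix m45 + bits ix ix m39 * bits ix ix m45 =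
    bits ix ix lowerPairMid := by
  decide +kernel

/-- table of the left half of `lowerPair` -/
def lowerPairHalf : List ℕ := [64, 4096, 16, 32, 128, 256, 2048, 32768, 65536, 512, 1024, 524288, 4194304, 8388608, 536879104, 1073758208, 2, 2147614720, 1048576, 2097152, 274894684160, 4, 570425344, 1140850688]

theorem lowerPair_half : bits (Fin.val (n := 24)) ix [8, 9, 8192, 16384, 131072, 262144, 16777216, 4294967296, 8589934592, 17179869184, 34359738368, 137438953472, 549755813888, 1099511627776, 1128098930098176, 2256197860196352, 571746046443521, 17592186175488, 35184372088832, 70368744177664, 281474993487872, 562949953421320, 1125899906850816, 2251799813701632] * bits ix ix lowerPairMid =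
    bits (Fin.val (n := 24)) ix lowerPairHalf := by
  decide +kernel

theorem lowerPair : bits (Fin.val (n := 24)) ix [8, 9, 8192, 16384, 131072, 262144, 16777216, 4294967296, 8589934592, 17179869184, 34359738368, 137438953472, 549755813888, 1099511627776, 1128098930098176, 2256197860196352, 571746046443521, 17592186175488, 35184372088832, 70368744177664, 281474993487872, 562949953421320, 1125899906850816, 2251799813701632] *
    (bits ix ix m39 + bits ix ix m45 + bits ix ix m39 * bits ix ix m45) * bits ix (Fin.val (n := 24)) [0, 65536, 2097152, 0, 4, 8, 1, 16, 32, 512, 1024, 64, 2, 16384, 32768, 128, 256, 131072, 0, 2048, 262144, 524288, 4096, 8192, 1048576, 4194304, 8388608, 0, 0, 0, 0, 0, 0, 0, 0, 0, 0, 0, 0, 0, 0, 0, 0, 0, 0, 0, 0, 0, 0, 0, 0, 0] = 1 := by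
  rw [lowerPair_mid, lowerPair_half]
  decide +kernel

end Cfsg.Agent.ChevF4InvolRanks
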