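import Cfsg.Agent.Lib.ChevF4PeelCert

/-!
Kernel checks of the certificate for F₄, part B.
-/

set_option autoImplicit false
set_option maxRecDepth 100000

namespace Cfsg.Agent.ChevF4PeelCheckB

open Cfsg.Agent.ChevPeelEngine Cfsg.Agent.ChevF4PeelCert

theorem check1 : checkRange Cfsg.Lie.chevF4 300 targets cert 85 85 = true := by decide +kernel
theorem check5 : checkRange Cfsg.Lie.chevF4 300 targets cert 425 85 = true := by decide +kernel
theorem check9 : checkRange Cfsg.Lie.chevF4 300 targets cert 765 85 = true := by decide +kernel
theorem check13 : checkRange Cfsg.Lie.chevF4 300 targets cert 1105 85 = true := by decide +kernel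

end Cfsg.Agent.ChevF4PeelCheckB
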