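import Cfsg.Agent.Lib.ChevF4PeelCert

/-!
Kernel checks of the certificate for F₄, part C.
-/

set_option autoImplicit false
set_option maxRecDepth 100000

namespace Cfsg.Agent.ChevF4PeelCheckC

open Cfsg.Agent.ChevPeelEngine Cfsg.Agent.ChevF4PeelCert

theorem check2 : checkRange Cfsg.Lie.chevF4 300 targets cert 170 85 = true := by decide +kernel
theorem check6 : checkRange Cfsg.Lie.chevF4 300 targets cert 510 85 = true := by decide +kernel
theorem check10 : checkRange Cfsg.Lie.chevF4 300 targets cert 850 85 = true := by decide +kernel
theorem check14 : checkRange Cfsg.Lie.chevF4 300 targets cert 1190 85 = true := by decide +kernel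

end Cfsg.Agent.ChevF4PeelCheckC
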