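import Cfsg.Agent.Lib.ChevF4PeelCert

/-!
Kernel checks of the certificate for F₄, part D.
-/

set_option autoImplicit false
set_option maxRecDepth 100000

namespace Cfsg.Agent.ChevF4PeelCheckD

open Cfsg.Agent.ChevPeelEngine Cfsg.Agent.ChevF4PeelCert

theorem check3 : checkRange Cfsg.Lie.chevF4 300 targets cert 255 85 = true := by decide +kernel
theorem check7 : checkRange Cfsg.Lie.chevF4 300 targets cert 595 85 = true := by decide +kernel
theorem check11 : checkRange Cfsg.Lie.chevF4 300 targets cert 935 85 = true := by decide +kernel
theorem check15 : checkRange Cfsg.Lie.chevF4 300 targets cert 1275 85 = true := by decide +kernel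

end Cfsg.Agent.ChevF4PeelCheckD
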