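import Cfsg.Agent.Lib.ChevRootCentralizer

/-!
Products and subgroups of lists of root elements.
-/

set_option autoImplicit false
set_option linter.unusedSectionVars false

namespace Cfsg.Agent.ChevRootLists

open Cfsg.Lie Cfsg.Agent.ChevalleyEngine Cfsg.Agent.ChevalleyCert Cfsg.Agent.ChevalleyRoots
open Cfsg.Agent.ChevalleyCore Cfsg.Agent.ChevalleyUnipotent Cfsg.Agent.ChevBruhat

/-- the root elements of `s` conjugate those of `r` into `x_r` times terms in `ok`, modulo 2 -/
def termsOK (D : ChevalleyDatum) (s r : ℕ) (ok : List ℕ) : Bool :=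
  (D.commTerms s r).all fun c => c.2.1 % 2 == 0 || ok.contains c.1

/-- the root elements of the roots in `ss` normalise the subgroup of those in `R` -/
def normOK (D : ChevalleyDatum) (ss R : List ℕ) : Bool :=
  ss.all fun s => R.all fun r => r == s || (r != D.neg s && termsOK D s r R)

variable {D : ChevalleyDatum} (C : Cert D) {F : Type*} [Field F]

include C

/-- subgroup generated by the root subgroups in `R` -/
def rootsSub (R : List ℕ) : Subgroup (GL D.Idx F) :=
  Subgroup.closure {g | ∃ r ∈ R, ∃ c : F, g = xg C r c}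

theorem mem_rootsSub {R : List ℕ} {r : ℕ} (h : r ∈ R) (c : F) : xg C r c ∈ rootsSub C R :=
  Subgroup.subset_closure ⟨r, h, c, rfl⟩

theorem rootsSub_mono {R R' : List ℕ} (h : R ⊆ R') : rootsSub C (F := F) R ≤ rootsSub C R' := by
  refine Subgroup.closure_mono ?_
  rintro g ⟨r, hr, c, rfl⟩
  exact ⟨r, h hr, c, rfl⟩

theorem wg_mem [CharP F 2] {s r : ℕ} {R : List ℕ} (h : termsOK D s r R = true) (t u : F) :
    wg C (D.commWord F s r t u) ∈ rootsSub C R := by
  refine list_prod_mem fun g hg => ?_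
  obtain ⟨p, hp, rfl⟩ := List.mem_map.1 hg
  obtain ⟨c, hc, rfl⟩ := List.mem_map.1 hp
  simp only [termsOK, List.all_eq_true, Bool.or_eq_true, beq_iff_eq, List.contains_eq_mem,
    decide_eq_true_eq] at h
  rcases h c hc with he | he
  · have : (c.2.1 : F) = 0 := (CharP.intCast_eq_zero_iff F 2 _).2 (Int.dvd_of_emod_eq_zero he)
    simp [this]
  · exact mem_rootsSub C he _

/-- `x_s x_r x_s⁻¹ = x_r · (terms)` -/
theorem conj_xg {s r : ℕ} (hs : s < D.nroots) (hr : r < D.nroots) (h1 : r ≠ s) (h2 : r ≠ D.neg s)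
    (c d : F) : xg C s c * xg C r d * (xg C s c)⁻¹ = xg C r d * wg C (D.commWord F s r (-c) d) := by
  have h := comm_formula C hs hr h1 h2 (-c) d
  rw [xg_inv, mul_assoc, h, ← mul_assoc, ← mul_assoc, xg_mul, add_neg_cancel, xg_zero, one_mul]

theorem conj_mem [CharP F 2] {ss R : List ℕ} (hn : normOK D ss R = true)
    (hss : ∀ s ∈ ss, s < D.nroots) (hR : ∀ r ∈ R, r < D.nroots) {s : ℕ} (hs : s ∈ ss) (c : F)
    {k : GL D.Idx F} (hk : k ∈ rootsSub C R) : xg C s c * k * (xg C s c)⁻¹ ∈ rootsSub C R := by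
  refine Sys.conj_closure_le (T := {g : GL D.Idx F | ∃ r ∈ R, ∃ c : F, g = xg C r c}) _ ?_ hk
  rintro x ⟨r, hr, d, rfl⟩
  simp only [normOK, List.all_eq_true, Bool.or_eq_true, Bool.and_eq_true, beq_iff_eq, bne_iff_ne] at hn
  by_cases h : r = s
  · subst h
    rw [xg_mul, xg_inv, xg_mul, add_neg_cancel_comm]
    exact mem_rootsSub C hr d
  · obtain ⟨h2, h3⟩ := (hn s hs r hr).resolve_left h
    rw [conj_xg C (hss s hs) (hR r hr) h h2]
    exact mul_mem (mem_rootsSub C hr d) (wg_mem C h3 _ _)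

theorem le_normalizer [CharP F 2] {ss R : List ℕ} (hn : normOK D ss R = true)
    (hss : ∀ s ∈ ss, s < D.nroots) (hR : ∀ r ∈ R, r < D.nroots) :
    rootsSub C ss ≤ Subgroup.normalizer (rootsSub C (F := F) R : Set (GL D.Idx F)) := by
  rw [rootsSub, Subgroup.closure_le]
  rintro g ⟨s, hs, c, rfl⟩
  rw [SetLike.mem_coe, Subgroup.mem_normalizer_iff]
  refine fun k => ⟨fun hk => conj_mem C hn hss hR hs c hk, fun hk => ?_⟩
  have := conj_mem C hn hss hR hs (-c) hk
  rw [← xg_inv] at this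
  simpa [mul_assoc] using this

/-- adjoining a root that normalises the subgroup -/
theorem split_cons [CharP F 2] {z : ℕ} {R : List ℕ} (hn : normOK D [z] R = true)
    (hz : z < D.nroots) (hR : ∀ r ∈ R, r < D.nroots) {g : GL D.Idx F} (hg : g ∈ rootsSub C (z :: R)) :
    ∃ a : F, ∃ k ∈ rootsSub C R, g = xg C z a * k := by
  have hc : ∀ (a : F) k, k ∈ rootsSub C R → (xg C z a)⁻¹ * k * xg C z a ∈ rootsSub C R := by
    intro a k hk
    have := conj_mem C hn (by simpa using hz) hR (List.mem_singleton_self z) (-a) hk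
    rwa [← xg_inv, inv_inv] at this
  induction hg using Subgroup.closure_induction with
  | mem x hx =>
    obtain ⟨r, hr, c, rfl⟩ := hx
    rcases List.mem_cons.1 hr with rfl | hr
    · exact ⟨c, 1, one_mem _, (mul_one _).symm⟩
    · exact ⟨0, _, mem_rootsSub C hr c, by simp⟩
  | one => exact ⟨0, 1, one_mem _, by simp⟩
  | mul x y _ _ hx hy =>
    obtain ⟨a, k, hk, rfl⟩ := hx
    obtain ⟨b, l, hl, rfl⟩ := hy
    refine ⟨a + b, (xg C z b)⁻¹ * k * xg C z b * l, mul_mem (hc b k hk) hl, ?_⟩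
    rw [← xg_mul]; group
  | inv x _ hx =>
    obtain ⟨a, k, hk, rfl⟩ := hx
    refine ⟨-a, (xg C z (-a))⁻¹ * k⁻¹ * xg C z (-a), hc _ _ (inv_mem hk), ?_⟩
    rw [← xg_inv, inv_inv]; group

theorem rootsSub_nil : rootsSub C (F := F) [] = ⊥ := by
  rw [rootsSub, Subgroup.closure_eq_bot_iff]
  rintro g ⟨r, hr, -⟩
  simp at hr

/-- the product of a list of root elements -/
def lprod (l : List (ℕ × F)) : GL D.Idx F := (l.map fun p => xg C p.1 p.2).prod

/-- a product of commuting positive root elements is their ordered product -/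
theorem lprod_eq_uProd : ∀ (n k : ℕ) (l : List (ℕ × F)), D.nroots - k = n → D.nroots / 2 ≤ k →
    (l.map Prod.fst).Nodup → (∀ p ∈ l, k ≤ p.1 ∧ p.1 < D.nroots) →
    (∀ p ∈ l, ∀ q ∈ l, Commute (xg C p.1 p.2) (xg C q.1 q.2)) →
    ∃ t : ℕ → F, lprod C l = uProd C k t ∧ (∀ p ∈ l, t p.1 = p.2) ∧
      ∀ r, r ∉ l.map Prod.fst → t r = 0 := by
  intro n
  induction n with
  | zero =>
    intro k l hn _ _ hl _
    have hnil : l = [] := List.eq_nil_iff_forall_not_mem.2 fun p hp => by have := hl p hp; omega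
    subst hnil
    exact ⟨fun _ => 0, by rw [uProd_top C (by omega)]; rfl, by simp, fun _ _ => rfl⟩
  | succ n ih =>
    intro k l hn hk hnd hl hc
    classical
    by_cases hmem : k ∈ l.map Prod.fst
    · obtain ⟨p, hp, hpk⟩ := List.mem_map.1 hmem
      obtain ⟨l₁, l₂, rfl⟩ := List.append_of_mem hp
      have hperm : (l₁ ++ p :: l₂).Perm (p :: (l₁ ++ l₂)) := List.perm_middle
      have hnd' := (hperm.map Prod.fst).nodup_iff.1 hnd
      rw [List.map_cons, List.nodup_cons] at hnd'
      have hsub : ∀ q ∈ l₁ ++ l₂, q ∈ l₁ ++ p :: l₂ := fun q hq => hperm.mem_iff.2 (List.mem_cons_of_mem _ hq)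
      obtain ⟨t, ht1, ht2, ht3⟩ := ih (k + 1) (l₁ ++ l₂) (by omega) (by omega) hnd'.2
        (fun q hq => ⟨by
          have h1 := (hl q (hsub q hq)).1
          have h2 : q.1 ≠ k := fun e => hnd'.1 (hpk ▸ e ▸ List.mem_map_of_mem hq)
          omega, (hl q (hsub q hq)).2⟩) (fun a ha b hb => hc a (hsub a ha) b (hsub b hb))
      refine ⟨Function.update t k p.2, ?_, ?_, ?_⟩
      · have h1 : lprod C (l₁ ++ p :: l₂) = lprod C (p :: (l₁ ++ l₂)) := by
          refine List.Perm.prod_eq' (hperm.map _) ?_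
          exact List.pairwise_of_forall_mem_list fun a ha b hb => by
            obtain ⟨a', ha', rfl⟩ := List.mem_map.1 ha
            obtain ⟨b', hb', rfl⟩ := List.mem_map.1 hb
            exact hc a' ha' b' hb'
        have h2 : lprod C (p :: (l₁ ++ l₂)) = xg C k p.2 * lprod C (l₁ ++ l₂) := by
          rw [← hpk]; simp [lprod]
        rw [h1, h2, ht1, uProd_succ C (show k < D.nroots by omega), Function.update_self]
        congr 1
        unfold uProd
        congr 1
        exact List.map_congr_left fun r hr => by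
          rw [List.mem_range'_1] at hr
          rw [Function.update_of_ne (by omega)]
      · intro q hq
        rcases List.mem_cons.1 (hperm.mem_iff.1 hq) with rfl | hq'
        · rw [hpk, Function.update_self]
        · rw [Function.update_of_ne, ht2 q hq']
          exact fun e => hnd'.1 (hpk ▸ e ▸ List.mem_map_of_mem hq')
      · intro r hr
        rw [Function.update_of_ne]
        · refine ht3 r fun h => hr ?_
          exact (hperm.map Prod.fst).mem_iff.2 (List.mem_cons_of_mem _ h)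
        · exact fun e => hr (e ▸ hmem)
    · obtain ⟨t, ht1, ht2, ht3⟩ := ih (k + 1) l (by omega) (by omega) hnd
        (fun q hq => ⟨by
          have h1 := (hl q hq).1
          have h2 : q.1 ≠ k := fun e => hmem (e ▸ List.mem_map_of_mem hq)
          omega, (hl q hq).2⟩) hc
      refine ⟨t, ?_, ht2, ht3⟩
      rw [uProd_succ C (show k < D.nroots by omega), ht3 k hmem, xg_zero, one_mul, ht1]

/-- two equal products of commuting positive root elements have equal coefficients -/
theorem lprod_inj {l l' : List (ℕ × F)} (hnd : (l.map Prod.fst).Nodup) (hnd' : (l'.map Prod.fst).Nodup)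
    (hl : ∀ p ∈ l, D.nroots / 2 ≤ p.1 ∧ p.1 < D.nroots) (hl' : ∀ p ∈ l', D.nroots / 2 ≤ p.1 ∧ p.1 < D.nroots)
    (hc : ∀ p ∈ l, ∀ q ∈ l, Commute (xg C p.1 p.2) (xg C q.1 q.2))
    (hc' : ∀ p ∈ l', ∀ q ∈ l', Commute (xg C p.1 p.2) (xg C q.1 q.2))
    (h : lprod C l = lprod C l') :
    ∀ p ∈ l, p.2 ≠ 0 → p ∈ l' := by
  obtain ⟨t, ht1, ht2, -⟩ := lprod_eq_uProd C _ _ l rfl le_rfl hnd hl hc
  obtain ⟨t', ht1', ht2', ht3'⟩ := lprod_eq_uProd C _ _ l' rfl le_rfl hnd' hl' hc'
  intro p hp hp0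
  have e : t p.1 = t' p.1 :=
    uProd_inj C le_rfl (ht1.symm.trans (h.trans ht1')) p.1 (hl p hp).1 (hl p hp).2
  rw [ht2 p hp] at e
  by_cases hm : p.1 ∈ l'.map Prod.fst
  · obtain ⟨q, hq, hqp⟩ := List.mem_map.1 hm
    have : q = p := Prod.ext hqp (by rw [← ht2' q hq, hqp, ← e])
    exact this ▸ hq
  · exact absurd (e.trans (ht3' _ hm)) hp0

variable (S : Sys D F)

include S in
/-- an element of `N` mapping one product of commuting positive root elements to another maps supports -/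
theorem conj_supp (m : ↥(D.monomialSubgroup F)) {l l' : List (ℕ × F)}
    (hnd : (l.map Prod.fst).Nodup) (hnd' : (l'.map Prod.fst).Nodup)
    (hl : ∀ p ∈ l, D.nroots / 2 ≤ p.1 ∧ p.1 < D.nroots) (hl' : ∀ p ∈ l', D.nroots / 2 ≤ p.1 ∧ p.1 < D.nroots)
    (hc : ∀ p ∈ l, ∀ q ∈ l, Commute (xg C p.1 p.2) (xg C q.1 q.2))
    (hc' : ∀ p ∈ l', ∀ q ∈ l', Commute (xg C p.1 p.2) (xg C q.1 q.2))
    (h : (m : GL D.Idx F) * lprod C l * (m : GL D.Idx F)⁻¹ = lprod C l') :
    (∀ p ∈ l', p.2 ≠ 0 → ∃ q ∈ l, q.2 ≠ 0 ∧ S.X.img (S.toW m) q.1 = p.1) := by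
  classical
  have hex : ∀ r, ∃ a : F, r < D.nroots → a ≠ 0 ∧ ∀ t, (m : GL D.Idx F) * xg C r t * (m : GL D.Idx F)⁻¹ =
      xg C (S.X.img (S.toW m) r) (a * t) := by
    intro r
    by_cases hr : r < D.nroots
    · obtain ⟨a, ha, h1, -⟩ := S.acts_toW m r hr
      simp only [ChevRootCentralizer.sysXg C S] at h1
      exact ⟨a, fun _ => ⟨ha, h1⟩⟩
    · exact ⟨0, fun h => absurd h hr⟩
  choose a ha using hex
  set f : ℕ × F → ℕ × F := fun p => (S.X.img (S.toW m) p.1, a p.1 * p.2) with hf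
  have hfx : ∀ p ∈ l, (m : GL D.Idx F) * xg C p.1 p.2 * (m : GL D.Idx F)⁻¹ = xg C (f p).1 (f p).2 :=
    fun p hp => (ha p.1 (hl p hp).2).2 _
  have hconj : ∀ l₀ : List (ℕ × F), (∀ p ∈ l₀, p ∈ l) →
      (m : GL D.Idx F) * lprod C l₀ * (m : GL D.Idx F)⁻¹ = lprod C (l₀.map f) := by
    intro l₀
    induction l₀ with
    | nil => simp [lprod]
    | cons p l₀ ih =>
      intro hs
      have := ih fun q hq => hs q (List.mem_cons_of_mem _ hq)
      simp only [lprod, List.map_cons, List.prod_cons] at this ⊢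
      rw [← this, ← hfx p (hs p (List.mem_cons_self ..))]
      group
  set P : ℕ × F → Bool := fun p => decide (D.nroots / 2 ≤ (f p).1) with hP
  set lp := l.filter P
  set ln := l.filter fun p => !P p
  have hperm : (lp ++ ln).Perm l := List.filter_append_perm P l
  have hcomm : ∀ p ∈ l.map f, ∀ q ∈ l.map f, Commute (xg C p.1 p.2) (xg C q.1 q.2) := by
    intro p hp q hq
    obtain ⟨p', hp', rfl⟩ := List.mem_map.1 hp
    obtain ⟨q', hq', rfl⟩ := List.mem_map.1 hq
    rw [← hfx p' hp', ← hfx q' hq']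
    simpa only [MulAut.conj_apply] using (hc p' hp' q' hq').map (MulAut.conj (m : GL D.Idx F))
  have e1 : lprod C l' = lprod C (lp.map f) * lprod C (ln.map f) := by
    rw [← h, hconj l (fun p hp => hp)]
    simp only [lprod]
    rw [← List.prod_append, ← List.map_append, ← List.map_append]
    refine List.Perm.prod_eq' ((hperm.map f).map _).symm ?_
    exact List.pairwise_of_forall_mem_list fun x hx y hy => by
      obtain ⟨x', hx', rfl⟩ := List.mem_map.1 hx
      obtain ⟨y', hy', rfl⟩ := List.mem_map.1 hy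
      exact hcomm x' hx' y' hy'
  have hU : ∀ l₀ : List (ℕ × F), (∀ p ∈ l₀, D.nroots / 2 ≤ p.1 ∧ p.1 < D.nroots) →
      lprod C l₀ ∈ D.posUnipotent F := fun l₀ h₀ => list_prod_mem fun g hg => by
    obtain ⟨p, hp, rfl⟩ := List.mem_map.1 hg
    exact ChevalleyUnipotent.xg_mem_U C (h₀ p hp).1 (h₀ p hp).2 _
  have hlt : ∀ p ∈ l, (f p).1 < D.nroots := fun p hp => S.X.img_lt _ (hl p hp).2
  have hposU : ∀ p ∈ lp.map f, D.nroots / 2 ≤ p.1 ∧ p.1 < D.nroots := by
    intro p hp
    obtain ⟨q, hq, rfl⟩ := List.mem_map.1 hp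
    simp only [lp, List.mem_filter, hP, decide_eq_true_eq] at hq
    exact ⟨hq.2, hlt q hq.1⟩
  have hneg : lprod C (ln.map f) = 1 := by
    have h1 : lprod C (ln.map f) ∈ D.posUnipotent F := by
      rw [show lprod C (ln.map f) = (lprod C (lp.map f))⁻¹ * lprod C l' by rw [e1, inv_mul_cancel_left]]
      exact mul_mem (inv_mem (hU _ hposU)) (hU l' hl')
    have h2 : lprod C (ln.map f) ∈ D.negUnipotent F := list_prod_mem fun g hg => by
      obtain ⟨p, hp, rfl⟩ := List.mem_map.1 hg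
      obtain ⟨q, hq, rfl⟩ := List.mem_map.1 hp
      simp only [ln, List.mem_filter, hP, Bool.not_eq_true', decide_eq_false_iff_not] at hq
      exact ChevalleyUnipotent.xg_mem_V C (by omega) _
    have := Subgroup.mem_inf.mpr ⟨Sys.U_le_B h1, h2⟩
    rwa [S.B_inf_V, Subgroup.mem_bot] at this
  rw [hneg, mul_one] at e1
  intro p hp hp0
  have hndp : ((lp.map f).map Prod.fst).Nodup := by
    have hsub : (lp.map Prod.fst).Nodup := hnd.sublist ((List.filter_sublist (p := P) (l := l)).map _)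
    have : (lp.map f).map Prod.fst = (lp.map Prod.fst).map (S.X.img (S.toW m)) := by
      simp [List.map_map, hf, Function.comp_def]
    rw [this]
    exact hsub.map fun x y e => S.X.img_injective _ e
  have hmem := lprod_inj C hnd' hndp hl' hposU hc'
    (fun x hx y hy => hcomm x (List.map_subset f (List.filter_subset_self l) hx) y
      (List.map_subset f (List.filter_subset_self l) hy)) e1 p hp hp0
  obtain ⟨q, hq, rfl⟩ := List.mem_map.1 hmem
  refine ⟨q, List.mem_of_mem_filter hq, fun e => hp0 ?_, rfl⟩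
  simp [hf, e]

end Cfsg.Agent.ChevRootLists
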