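import Cfsg.Agent.Lib.ChevSubfieldUnipotent

/-!
The exceptional short root subgroup in a group with subfield long root subgroup.
-/

set_option autoImplicit false
set_option linter.unusedSectionVars false

namespace Cfsg.Agent.ChevSubfieldSpecial

open Cfsg.Lie Cfsg.Agent.ChevalleyEngine Cfsg.Agent.ChevalleyCert Cfsg.Agent.ChevalleyRoots
open Cfsg.Agent.ChevalleyCore Cfsg.Agent.ChevalleyTorus Cfsg.Agent.ChevBruhat Cfsg.Agent.ChevalleyUnipotent
open Cfsg.Agent.ChevFrobeniusFixed Cfsg.Agent.ChevSubfieldData Cfsg.Agent.ChevRootCentralizer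

variable {D : ChevalleyDatum} (C : Cert D) {F : Type*} [Field F] (σ : F →+* F)

include C

theorem ns_mem_fixedRoots (i : ℕ) : ns C (F := F) i ∈ fixedRoots D σ :=
  mul_mem (mul_mem (xg_mem_fixedRoots σ C _ (map_one σ)) (xg_mem_fixedRoots σ C _ (by simp)))
    (xg_mem_fixedRoots σ C _ (map_one σ))

theorem nword_mem_fixedRoots (l : List ℕ) : nword C (F := F) l ∈ fixedRoots D σ := by
  apply Subgroup.list_prod_mem
  intro g hg
  obtain ⟨i, -, rfl⟩ := List.mem_map.1 hg
  exact ns_mem_fixedRoots C σ i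

theorem sign_fixed {e : F} (he : e * e = 1) : σ e = e := by
  rcases mul_self_eq_one_iff.1 he with rfl | rfl <;> simp

variable {M : Subgroup (GL D.Idx F)}

/-- conjugating inside `M` by a monomial element -/
theorem conj_word_mem (hL : fixedRoots D σ ≤ M) (l : List ℕ) {g : GL D.Idx F} (hg : g ∈ M) :
    nword C l * g * (nword C l)⁻¹ ∈ M :=
  mul_mem (mul_mem (hL (nword_mem_fixedRoots C σ l)) hg) (inv_mem (hL (nword_mem_fixedRoots C σ l)))

/-- the action of a word in characteristic two -/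
theorem word_conj_two [CharP F 2] {l : List ℕ} (hl : ∀ i ∈ l, i < D.rank) {r : ℕ} (hr : r < D.nroots) (t : F) :
    nword C l * xg C r t * (nword C l)⁻¹ = xg C (wact (D := D) l r) t := by
  obtain ⟨e, he, h⟩ := nword_conj C hl hr (F := F)
  have : e = 1 := by
    rcases mul_self_eq_one_iff.1 he with h | h
    · exact h
    · rw [h, CharTwo.neg_eq]
  rw [h, this, one_mul]

omit C in
theorem cast_unit_two [CharP F 2] {N : ℤ} (h : N.natAbs = 1) : (N : F) = 1 := by
  rcases Int.natAbs_eq N with e | e <;> rw [e, h] <;> simp [CharTwo.neg_eq]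

/-- configuration of the roots in `B₂` -/
structure BConfig (D : ChevalleyDatum) (s a b : ℕ) (l₁ l₂ l₃ : List ℕ) : Prop where
  lt : s < D.nroots ∧ a < D.nroots ∧ b < D.nroots
  pos : D.nroots / 2 ≤ s ∧ D.nroots / 2 ≤ a ∧ D.nroots / 2 ≤ b
  distinct : b ≠ a ∧ b ≠ D.neg a ∧ b ≠ s ∧ b ≠ D.neg s ∧ D.neg b ≠ top D ∧ D.neg b ≠ D.neg (top D)
  terms : ∃ N N' : ℤ, N.natAbs = 1 ∧ N'.natAbs = 1 ∧ D.commTerms a b = [(s, N, 1, 1), (top D, N', 2, 1)]
  comm : D.commTerms s b = [] ∧ D.commTerms (top D) (D.neg b) = [] ∧ D.pairing b (top D) = 0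
  words : (∀ i ∈ l₁ ++ l₂ ++ l₃, i < D.rank) ∧
    wact (D := D) l₁ s = a ∧ wact (D := D) l₁ (top D) = top D ∧
    wact (D := D) l₂ s = s ∧ wact (D := D) l₂ (top D) = b ∧
    wact (D := D) l₃ b = D.neg b ∧ wact (D := D) l₃ (top D) = top D

/-- in characteristic two the exceptional pairs are fixed -/
theorem specB [CharP F 2] {s a b : ℕ} {l₁ l₂ l₃ : List ℕ} (hB : BConfig D s a b l₁ l₂ l₃)
    (hL : fixedRoots D σ ≤ M) (hA : ∀ c, xg C (top D) c ∈ M → σ c = c) {c d : F}
    (h : xg C s c * xg C (top D) d ∈ M) : σ c = c ∧ σ d = d := by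
  obtain ⟨⟨hs, ha, hb⟩, ⟨hsp, hap, hbp⟩, ⟨hba, hbna, hbs, hbns, hnbt, hnbnt⟩, ⟨N, N', hN, hN', hterms⟩,
    ⟨hsb, htnb, hpair⟩, ⟨hl, hw1, hw1', hw2, hw2', hw3, hw3'⟩⟩ := hB
  have hl1 : ∀ i ∈ l₁, i < D.rank := fun i hi => hl i (by simp [hi])
  have hl2 : ∀ i ∈ l₂, i < D.rank := fun i hi => hl i (by simp [hi])
  have hl3 : ∀ i ∈ l₃, i < D.rank := fun i hi => hl i (by simp [hi])
  set T := top D
  have hT : T < D.nroots := by simp only [T, top]; omega
  have ct : ∀ {r : ℕ}, D.nroots / 2 ≤ r → r < D.nroots → ∀ x y : F, Commute (xg C T x) (xg C r y) :=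
    fun h1 h2 x y => top_comm C h1 h2 x y
  have csb : ∀ x y : F, Commute (xg C s x) (xg C b y) := fun x y =>
    comm_of_terms C hs hb hbs hbns (fun q hq => by rw [hsb] at hq; simp at hq) x y
  have formula : ∀ x y : F, xg C b y * xg C a x = xg C a x * xg C b y * (xg C s (x * y) * xg C T (x * x * y)) := by
    intro x y
    rw [comm_formula C ha hb hba hbna x y]
    congr 1
    simp [ChevalleyDatum.commWord, hterms, wg, cast_unit_two hN, cast_unit_two hN', CharTwo.neg_eq, sq, T]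
  have sq_fixed : ∀ {x : F}, σ (x * x) = x * x → σ x = x := fun {x} hx => by
    rw [map_mul] at hx
    have h0 : (σ x + x) * (σ x + x) = 0 := by rw [CharTwo.add_mul_self, hx, CharTwo.add_self_eq_zero]
    exact CharTwo.add_eq_zero.1 (mul_self_eq_zero.1 h0)
  have mem_fix : ∀ {r : ℕ} {x : F}, σ x = x → xg C r x ∈ M := fun {r x} hx => hL (xg_mem_fixedRoots σ C r hx)
  -- first rule
  have rule : ∀ {x y : F}, xg C s x * xg C T y ∈ M →
      xg C b (x * x) * xg C T (x * x) ∈ M ∧ σ (y + x * x) = y + x * x := by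
    intro x y hxy
    have hP : xg C a x * xg C T y ∈ M := by
      have := conj_word_mem C σ hL l₁ hxy
      rwa [← MulAut.conj_apply, map_mul, MulAut.conj_apply, MulAut.conj_apply, word_conj_two C hl1 hs,
        word_conj_two C hl1 hT, hw1, hw1'] at this
    have hb1 : xg C b (1 : F) ∈ M := mem_fix (map_one σ)
    have hW : xg C s x * xg C T (x * x) ∈ M := by
      have hm := mul_mem (mul_mem (mul_mem (inv_mem hb1) (inv_mem hP)) hb1) hP
      have e : (xg C b (1 : F))⁻¹ * (xg C a x * xg C T y)⁻¹ * xg C b 1 * (xg C a x * xg C T y) =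
          xg C s x * xg C T (x * x) := by
        have c1 := (ct hbp hb y (1 : F)).inv_left.inv_right.eq
        have c2 := (ct hsp hs (-y) x).eq
        have c3 := (ct (show D.nroots / 2 ≤ T by simp only [T, top]; omega) hT (-y) (x * x)).eq
        rw [← xg_inv] at c2 c3
        calc (xg C b (1 : F))⁻¹ * (xg C a x * xg C T y)⁻¹ * xg C b 1 * (xg C a x * xg C T y)
            = ((xg C b (1 : F))⁻¹ * (xg C T y)⁻¹) * (xg C a x)⁻¹ * (xg C b 1 * xg C a x) * xg C T y := by group
          _ = (xg C T y)⁻¹ * (xg C s x * xg C T (x * x)) * xg C T y := by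
              rw [← c1, formula, mul_one, mul_one]; group
          _ = _ := by rw [← mul_assoc ((xg C T y)⁻¹), c2, mul_assoc (xg C s x), c3]; group
      rwa [e] at hm
    refine ⟨?_, ?_⟩
    · have h2 := conj_word_mem C σ hL l₂ hW
      rw [← MulAut.conj_apply, map_mul, MulAut.conj_apply, MulAut.conj_apply, word_conj_two C hl2 hs,
        word_conj_two C hl2 hT, hw2, hw2'] at h2
      have h3 := mul_mem (inv_mem hW) h2
      have e : (xg C s x * xg C T (x * x))⁻¹ * (xg C s x * xg C b (x * x)) = xg C b (x * x) * xg C T (x * x) := by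
        rw [← (ct hbp hb (x * x) (x * x)).eq, mul_inv_rev, xg_inv C T, CharTwo.neg_eq]
        group
      rwa [e] at h3
    · refine hA _ ?_
      have h3 := mul_mem (inv_mem hW) hxy
      have e : (xg C s x * xg C T (x * x))⁻¹ * (xg C s x * xg C T y) = xg C T (y + x * x) := by
        rw [mul_inv_rev, mul_assoc, inv_mul_cancel_left, xg_inv, xg_mul, CharTwo.neg_eq, add_comm]
      rwa [e] at h3
  obtain ⟨hw, hd⟩ := rule h
  set e := c * c
  suffices he : σ e = e by
    refine ⟨sq_fixed he, ?_⟩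
    rwa [map_add, he, add_left_inj] at hd
  -- second rule
  have rule2 : ∀ {x μ : F}, xg C b x * xg C T x ∈ M → σ μ = μ →
      xg C b (μ * μ * (x * x)) * xg C T (μ * μ * (x * x)) ∈ M ∧
      σ (μ * μ * (x + x * x)) = μ * μ * (x + x * x) := by
    intro x μ hx hμ
    have ha1 : xg C a μ ∈ M := mem_fix hμ
    have hm := mul_mem (mul_mem (mul_mem (inv_mem hx) (inv_mem ha1)) hx) ha1
    have e1 : (xg C b x * xg C T x)⁻¹ * (xg C a μ)⁻¹ * (xg C b x * xg C T x) * xg C a μ =
        xg C s (μ * x) * xg C T (μ * μ * x) := by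
      have c1 := (ct hap ha x μ).eq
      have c1' := (ct hap ha x μ).inv_left.inv_right.eq
      calc (xg C b x * xg C T x)⁻¹ * (xg C a μ)⁻¹ * (xg C b x * xg C T x) * xg C a μ
          = (xg C T x)⁻¹ * ((xg C b x)⁻¹ * ((xg C a μ)⁻¹ * xg C b x)) * (xg C T x * xg C a μ) := by group
        _ = (xg C T x)⁻¹ * ((xg C b x)⁻¹ * (xg C a μ)⁻¹ * (xg C b x * xg C a μ)) * xg C T x := by
            rw [c1]; group
        _ = _ := by
            rw [formula]
            have c2 := ((ct hsp hs x (μ * x)).mul_right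
              (ct (show D.nroots / 2 ≤ T by simp only [T, top]; omega) hT x (μ * μ * x))).eq
            calc (xg C T x)⁻¹ * ((xg C b x)⁻¹ * (xg C a μ)⁻¹ *
                  (xg C a μ * xg C b x * (xg C s (μ * x) * xg C T (μ * μ * x)))) * xg C T x
                = (xg C T x)⁻¹ * ((xg C s (μ * x) * xg C T (μ * μ * x)) * xg C T x) := by group
              _ = _ := by rw [← c2, inv_mul_cancel_left]
    rw [e1] at hm
    obtain ⟨r1, r2⟩ := rule hm
    have e2 : μ * x * (μ * x) = μ * μ * (x * x) := by ring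
    rw [e2] at r1 r2
    exact ⟨r1, by rwa [mul_add]⟩
  obtain ⟨-, hf⟩ := rule2 hw (map_one σ)
  rw [one_mul, one_mul] at hf
  set f := e + e * e
  have wadd : ∀ x y : F, xg C b x * xg C T x * (xg C b y * xg C T y) = xg C b (x + y) * xg C T (x + y) := by
    intro x y
    rw [mul_assoc, ← mul_assoc (xg C T x), (ct hbp hb x y).eq, mul_assoc, xg_mul, ← mul_assoc, xg_mul]
  have hscale : ∀ μ : F, σ μ = μ → σ ((μ * μ + μ * μ * (μ * μ)) * e) = (μ * μ + μ * μ * (μ * μ)) * e := by
    intro μ hμ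
    have hμf : σ (μ * μ * f) = μ * μ * f := by rw [map_mul, map_mul, hμ, hf]
    have h1 : xg C b (μ * μ * e) * xg C T (μ * μ * e) ∈ M := by
      have h2 := mul_mem (mul_mem (mem_fix (r := b) hμf) (mem_fix (r := T) hμf)) (rule2 hw hμ).1
      rw [wadd] at h2
      rwa [show μ * μ * f + μ * μ * (e * e) = μ * μ * e by
        simp only [f]; linear_combination CharTwo.add_self_eq_zero (μ * μ * (e * e))] at h2
    have h3 := (rule2 h1 (map_one σ)).2
    rw [one_mul, one_mul] at h3
    have h4 : σ (μ * μ * (μ * μ) * f) = μ * μ * (μ * μ) * f := by rw [map_mul, map_mul, map_mul, hμ, hf]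
    have h5 : σ (μ * μ * e + μ * μ * e * (μ * μ * e) + μ * μ * (μ * μ) * f) =
        μ * μ * e + μ * μ * e * (μ * μ * e) + μ * μ * (μ * μ) * f := by
      rw [map_add, h3, h4]
    rwa [show μ * μ * e + μ * μ * e * (μ * μ * e) + μ * μ * (μ * μ) * f = (μ * μ + μ * μ * (μ * μ)) * e by
      simp only [f]; linear_combination CharTwo.add_self_eq_zero (μ * μ * (μ * μ) * (e * e))] at h5
  by_cases hbig : ∃ μ : F, σ μ = μ ∧ μ * μ + μ * μ * (μ * μ) ≠ 0
  · obtain ⟨μ, hμ, hne⟩ := hbig
    have h1 := hscale μ hμ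
    rw [map_mul] at h1
    have : σ (μ * μ + μ * μ * (μ * μ)) = μ * μ + μ * μ * (μ * μ) := by simp only [map_add, map_mul, hμ]
    rw [this] at h1
    exact mul_left_cancel₀ hne h1
  push Not at hbig
  have hf01 : f = 0 ∨ f = 1 := by
    have h0 : (f * (1 + f)) * (f * (1 + f)) = 0 := by
      linear_combination hbig f hf + CharTwo.add_self_eq_zero (f * f * f)
    rcases mul_eq_zero.1 (mul_self_eq_zero.1 h0) with h | h
    · exact Or.inl h
    · exact Or.inr (CharTwo.add_eq_zero.1 h).symm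
  rcases hf01 with hf0 | hf1
  · have : e * (1 + e) = 0 := by rw [← hf0]; simp only [f]; ring
    rcases mul_eq_zero.1 this with h | h
    · rw [h, map_zero]
    · rw [(CharTwo.add_eq_zero.1 h).symm, map_one]
  -- the exceptional case: a relation in rank one
  have he1 : e * (e + 1) = 1 := by simp only [f] at hf1; linear_combination hf1
  have he0 : e ≠ 0 := fun h => by rw [h, zero_mul] at he1; exact zero_ne_one he1
  have hinv : e⁻¹ = e + 1 := inv_eq_of_mul_eq_one_right he1
  have hw1 : xg C b (e + 1) * xg C T (e + 1) ∈ M := by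
    rw [← wadd]
    exact mul_mem hw (mul_mem (mem_fix (map_one σ)) (mem_fix (map_one σ)))
  have hw3 : xg C (D.neg b) (e + 1) * xg C T (e + 1) ∈ M := by
    have := conj_word_mem C σ hL l₃ hw1
    rwa [← MulAut.conj_apply, map_mul, MulAut.conj_apply, MulAut.conj_apply, word_conj_two C hl3 hb,
      word_conj_two C hl3 hT, hw3, hw3'] at this
  have ctn : ∀ x y : F, Commute (xg C T x) (xg C (D.neg b) y) := fun x y =>
    comm_of_terms C hT (C.neg_lt b) hnbt hnbnt (fun q hq => by rw [htnb] at hq; simp at hq) x y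
  have hn : ng C b e * xg C T (e + 1) ∈ M := by
    have h2 := mul_mem (mul_mem hw hw3) hw
    have e1 : xg C b e * xg C T e * (xg C (D.neg b) (e + 1) * xg C T (e + 1)) * (xg C b e * xg C T e) =
        ng C b e * xg C T (e + 1) := by
      have d1 := (ctn e (e + 1)).eq
      have d2 : xg C T (e + (e + 1)) * xg C b e = xg C b e * xg C T (e + (e + 1)) := (ct hbp hb _ _).eq
      rw [ng, hinv, CharTwo.neg_eq]
      calc xg C b e * xg C T e * (xg C (D.neg b) (e + 1) * xg C T (e + 1)) * (xg C b e * xg C T e)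
          = xg C b e * (xg C T e * xg C (D.neg b) (e + 1)) * xg C T (e + 1) * xg C b e * xg C T e := by group
        _ = xg C b e * xg C (D.neg b) (e + 1) * (xg C T (e + (e + 1)) * xg C b e) * xg C T e := by
            rw [d1, ← xg_mul C T e (e + 1)]; group
        _ = xg C b e * xg C (D.neg b) (e + 1) * xg C b e * xg C T (e + (e + 1) + e) := by
            rw [d2, ← xg_mul C T (e + (e + 1)) e]; group
        _ = _ := by
            rw [show e + (e + 1) + e = e + 1 by linear_combination CharTwo.add_self_eq_zero e]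
    rwa [e1] at h2
  have hm1 : ng C b (-1 : F) ∈ M :=
    mul_mem (mul_mem (mem_fix (by simp)) (mem_fix (by simp))) (mem_fix (by simp))
  have hh : hg C b e * xg C T (e + 1) ∈ M := by
    have hc : Commute (xg C T (e + 1)) (ng C b (-1 : F)) :=
      ((ct hbp hb _ _).mul_right (ctn _ _)).mul_right (ct hbp hb _ _)
    have := mul_mem hn hm1
    rwa [mul_assoc, hc.eq, ← mul_assoc, ← hg] at this
  have hcomm : Commute (hg C b e) (xg C T (e + 1)) := by
    show _ * _ = _ * _
    rw [hg_conj_xg C hb hT he0, hpair, zpow_zero, one_mul]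
  have he3 : e * e * e = 1 := by linear_combination (e + 1) * he1 - CharTwo.add_self_eq_zero (e * e)
  have hcube : (hg C b e * xg C T (e + 1)) ^ 3 = xg C T (e + 1) := by
    rw [hcomm.mul_pow, show (hg C b e) ^ 3 = hg C b e * hg C b e * hg C b e by simp only [pow_succ, pow_zero, one_mul],
      hg_mul C hb he0 he0, hg_mul C hb (mul_ne_zero he0 he0) he0, he3, hg_one C hb, one_mul,
      show (xg C T (e + 1)) ^ 3 = xg C T (e + 1) * xg C T (e + 1) * xg C T (e + 1) by simp only [pow_succ, pow_zero, one_mul],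
      xg_mul, xg_mul, CharTwo.add_self_eq_zero, zero_add]
  have := hA _ (hcube ▸ pow_mem hh 3)
  rwa [map_add, map_one, add_left_inj] at this

end Cfsg.Agent.ChevSubfieldSpecial

namespace Cfsg.Agent.ChevSubfieldSpecial

open Cfsg.Lie Cfsg.Agent.ChevalleyCert Cfsg.Agent.ChevalleyCore Cfsg.Agent.ChevalleyTorus
open Cfsg.Agent.ChevalleyUnipotent Cfsg.Agent.ChevFrobeniusFixed Cfsg.Agent.ChevRootCentralizer

theorem g2_facts :
    chevG2.nroots = 12 ∧ chevG2.rank = 2 ∧
    chevG2.commTerms 8 7 = [(9, 2, 1, 1), (11, 3, 2, 1), (10, -3, 1, 2)] ∧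
    chevG2.commTerms 7 6 = [(8, -1, 1, 1), (9, 1, 2, 1), (10, 1, 3, 1), (11, 1, 3, 2)] ∧
    chevG2.commTerms 10 6 = [(11, -1, 1, 1)] ∧ chevG2.commTerms 8 6 = [] ∧ chevG2.commTerms 9 6 = [] ∧
    wact (D := chevG2) [0] 9 = 8 ∧ wact (D := chevG2) [0] 11 = 11 ∧ wact (D := chevG2) [1, 0] 9 = 7 ∧
    chevG2.neg 8 = 3 ∧ chevG2.neg 7 = 4 ∧ chevG2.neg 10 = 1 ∧ chevG2.neg 9 = 2 := by
  decide +kernel

variable (C : Cert chevG2) {F : Type*} [Field F] (σ : F →+* F) {M : Subgroup (GL chevG2.Idx F)}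

/-- in characteristic three the exceptional pairs of `G₂` are fixed -/
theorem specG [CharP F 3] (hL : fixedRoots chevG2 σ ≤ M) (hA : ∀ c, xg C 11 c ∈ M → σ c = c) {c d : F}
    (h : xg C 9 c * xg C 11 d ∈ M) : σ c = c ∧ σ d = d := by
  obtain ⟨hn, hr, t87, t76, t106, t86, t96, w1, w1', w2, n8, n7, n10, n9⟩ := g2_facts
  have lt : ∀ {r : ℕ}, r < 12 → r < chevG2.nroots := fun h => by rw [hn]; exact h
  have half : chevG2.nroots / 2 = 6 := by rw [hn]
  have h3 : (3 : F) = 0 := CharP.cast_eq_zero F 3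
  have e11 : chevG2.nroots - 1 = 11 := by rw [hn]
  have ct : ∀ {r : ℕ}, 6 ≤ r → r < 12 → ∀ x y : F, Commute (xg C 11 x) (xg C r y) := fun {r} h1 h2 x y => by
    have := top_comm C (s := r) (by rw [half]; exact h1) (lt h2) x y
    rwa [e11] at this
  have mem_fix : ∀ {r : ℕ} {x : F}, σ x = x → xg C r x ∈ M := fun {r x} hx => hL (xg_mem_fixedRoots σ C r hx)
  -- `x_s(c) ∈ M`
  obtain ⟨e, he, h1⟩ := nword_conj C (l := [0]) (by simp [hr]) (lt (show 9 < 12 by omega)) (F := F)
  obtain ⟨e', he', h1'⟩ := nword_conj C (l := [0]) (by simp [hr]) (lt (show 11 < 12 by omega)) (F := F)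
  have hP : xg C 8 (e * c) * xg C 11 (e' * d) ∈ M := by
    have := conj_word_mem C σ hL [0] h
    rwa [← MulAut.conj_apply, map_mul, MulAut.conj_apply, MulAut.conj_apply, h1, h1', w1, w1'] at this
  have hf : xg C 7 (1 : F) * xg C 8 (e * c) = xg C 8 (e * c) * xg C 7 1 * xg C 9 (e * c) := by
    rw [comm_formula C (lt (by omega)) (lt (by omega)) (by omega) (by rw [n8]; omega)]
    congr 1
    simp only [ChevalleyDatum.commWord, t87, wg, List.map_cons, List.map_nil, List.prod_cons, List.prod_nil,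
      Int.cast_ofNat, Int.cast_neg, h3, neg_zero, zero_mul, xg_zero, mul_one, one_pow, pow_one]
    congr 1
    linear_combination (-(e * c)) * h3
  have hs : xg C 9 (e * c) ∈ M := by
    have h7 : xg C 7 (1 : F) ∈ M := mem_fix (map_one σ)
    have hm := mul_mem (mul_mem (mul_mem (inv_mem h7) (inv_mem hP)) h7) hP
    have e1 : (xg C 7 (1 : F))⁻¹ * (xg C 8 (e * c) * xg C 11 (e' * d))⁻¹ * xg C 7 1 *
        (xg C 8 (e * c) * xg C 11 (e' * d)) = xg C 9 (e * c) := by
      have c1 := (ct (le_of_lt (show 6 < 7 by omega)) (by omega) (e' * d) (1 : F)).inv_left.inv_right.eq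
      have c2 := (ct (show 6 ≤ 9 by omega) (by omega) (e' * d) (e * c)).eq
      calc (xg C 7 (1 : F))⁻¹ * (xg C 8 (e * c) * xg C 11 (e' * d))⁻¹ * xg C 7 1 *
            (xg C 8 (e * c) * xg C 11 (e' * d))
          = ((xg C 7 (1 : F))⁻¹ * (xg C 11 (e' * d))⁻¹) * (xg C 8 (e * c))⁻¹ *
              (xg C 7 1 * xg C 8 (e * c)) * xg C 11 (e' * d) := by group
        _ = (xg C 11 (e' * d))⁻¹ * (xg C 9 (e * c) * xg C 11 (e' * d)) := by rw [← c1, hf]; group
        _ = _ := by rw [← c2, inv_mul_cancel_left]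
    rwa [e1] at hm
  -- `c³` is fixed
  obtain ⟨e2, he2, h2⟩ := nword_conj C (l := [1, 0]) (by simp [hr]) (lt (show 9 < 12 by omega)) (F := F)
  set g := e2 * (e * c)
  have h7 : xg C 7 g ∈ M := by
    have := conj_word_mem C σ hL [1, 0] hs
    rwa [h2, w2] at this
  have h6 : xg C 6 (1 : F) ∈ M := mem_fix (map_one σ)
  set W := xg C 8 g * xg C 9 (g ^ 2) * xg C 10 (-g ^ 3) * xg C 11 (-g ^ 3)
  have hf2 : xg C 6 (1 : F) * xg C 7 g = xg C 7 g * xg C 6 1 * W := by
    rw [comm_formula C (lt (by omega)) (lt (by omega)) (by omega) (by rw [n7]; omega)]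
    congr 1
    simp only [ChevalleyDatum.commWord, t76, wg, List.map_cons, List.map_nil, List.prod_cons, List.prod_nil, W,
      mul_assoc, mul_one, one_pow]
    congr 1
    · congr 1; push_cast; ring
    congr 1
    · congr 1; push_cast; ring
    congr 1
    · congr 1; push_cast; ring
    · congr 1; push_cast; ring
  have hW : W ∈ M := by
    have : W = (xg C 7 g * xg C 6 1)⁻¹ * (xg C 6 1 * xg C 7 g) := by rw [hf2]; group
    rw [this]
    exact mul_mem (inv_mem (mul_mem h7 h6)) (mul_mem h6 h7)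
  have hf3 : xg C 6 (1 : F) * xg C 10 (-g ^ 3) = xg C 10 (-g ^ 3) * xg C 6 1 * xg C 11 (-g ^ 3) := by
    rw [comm_formula C (lt (by omega)) (lt (by omega)) (by omega) (by rw [n10]; omega)]
    congr 1
    simp [ChevalleyDatum.commWord, t106, wg]
  have c86 : Commute (xg C 8 g) (xg C 6 (1 : F)) :=
    comm_of_terms C (lt (by omega)) (lt (by omega)) (by omega) (by rw [n8]; omega)
      (fun q hq => by rw [t86] at hq; simp at hq) _ _
  have c96 : Commute (xg C 9 (g ^ 2)) (xg C 6 (1 : F)) :=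
    comm_of_terms C (lt (by omega)) (lt (by omega)) (by omega) (by rw [n9]; omega)
      (fun q hq => by rw [t96] at hq; simp at hq) _ _
  have h11 : xg C 11 (-g ^ 3) ∈ M := by
    have hm := mul_mem (mul_mem (mul_mem (inv_mem h6) (inv_mem hW)) h6) hW
    have hswap : xg C 6 (1 : F) * W = W * xg C 6 1 * xg C 11 (-g ^ 3) := by
      have c1 := (ct (show 6 ≤ 6 by omega) (by omega) (-g ^ 3) (1 : F)).eq
      calc xg C 6 (1 : F) * W
          = (xg C 6 1 * (xg C 8 g * xg C 9 (g ^ 2))) * xg C 10 (-g ^ 3) * xg C 11 (-g ^ 3) := by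
            simp only [W, mul_assoc]
        _ = xg C 8 g * xg C 9 (g ^ 2) * (xg C 6 1 * xg C 10 (-g ^ 3)) * xg C 11 (-g ^ 3) := by
            rw [← (c86.mul_left c96).eq]; group
        _ = xg C 8 g * xg C 9 (g ^ 2) * xg C 10 (-g ^ 3) * (xg C 6 1 * xg C 11 (-g ^ 3)) * xg C 11 (-g ^ 3) := by
            rw [hf3]; group
        _ = _ := by rw [← c1]; simp only [W]; group
    rwa [mul_assoc, hswap, show (xg C 6 (1 : F))⁻¹ * W⁻¹ * (W * xg C 6 1 * xg C 11 (-g ^ 3)) =
      xg C 11 (-g ^ 3) by group] at hm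
  haveI : ExpChar F 3 := ExpChar.prime Nat.prime_three
  have hg3 : σ g = g := by
    have h4 := hA _ h11
    rw [map_neg, map_pow, _root_.neg_inj] at h4
    exact sub_eq_zero.1 (eq_zero_of_pow_eq_zero (n := 3) (by rw [sub_pow_expChar, h4, sub_self]))
  have hc : σ c = c := by
    have he0 : e2 * e ≠ 0 := fun h0 => zero_ne_one (α := F) (by
      have : e2 * e * (e2 * e) = 1 := by rw [mul_mul_mul_comm, he2, he, one_mul]
      rw [h0, zero_mul] at this
      exact this)
    rw [show g = e2 * e * c from (mul_assoc _ _ _).symm, map_mul, map_mul, sign_fixed C σ he2, sign_fixed C σ he] at hg3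
    exact mul_left_cancel₀ he0 hg3
  refine ⟨hc, hA d ?_⟩
  have := mul_mem (inv_mem (mem_fix (r := 9) hc)) h
  rwa [inv_mul_cancel_left] at this

end Cfsg.Agent.ChevSubfieldSpecial
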