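import Cfsg.Agent.Lib.ChevBorelTits
import Cfsg.Agent.Lib.ChevSubfieldSpecial
import Cfsg.Agent.Lib.ChevRootLists

/-!
Conjugacy of involutions in Chevalley groups in characteristic two: general facts.
-/

set_option autoImplicit false
set_option linter.unusedSectionVars false

namespace Cfsg.Agent.ChevInvolClassBase

open Cfsg.Lie Cfsg.Agent.ChevalleyEngine Cfsg.Agent.ChevalleyCert Cfsg.Agent.ChevalleyRoots
open Cfsg.Agent.ChevalleyCore Cfsg.Agent.ChevalleyTorus Cfsg.Agent.ChevBruhat Cfsg.Agent.ChevalleyUnipotent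
open Cfsg.Agent.ChevRootCentralizer

variable {D : ChevalleyDatum} (C : Cert D) {F : Type*} [Field F]

/-- conjugacy in the group -/
def Cj (D : ChevalleyDatum) (u w : GL D.Idx F) : Prop := ∃ h ∈ D.group F, h * u * h⁻¹ = w

theorem Cj.refl (u : GL D.Idx F) : Cj D u u := ⟨1, one_mem _, by simp⟩

theorem Cj.trans {u v w : GL D.Idx F} (h₁ : Cj D u v) (h₂ : Cj D v w) : Cj D u w := by
  obtain ⟨a, ha, rfl⟩ := h₁
  obtain ⟨b, hb, rfl⟩ := h₂
  exact ⟨b * a, mul_mem hb ha, by group⟩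

theorem Cj.of_eq {u v : GL D.Idx F} (h : u = v) : Cj D u v := h ▸ Cj.refl u

include C

theorem cj_xg (s : ℕ) (c : F) {u w : GL D.Idx F} (h : xg C s c * u * (xg C s c)⁻¹ = w) : Cj D u w :=
  ⟨xg C s c, xg_mem_group C s c, h⟩

theorem nword_mem_group (l : List ℕ) : nword C (F := F) l ∈ D.group F := by
  refine list_prod_mem fun g hg => ?_
  obtain ⟨i, -, rfl⟩ := List.mem_map.1 hg
  exact mul_mem (mul_mem (xg_mem_group C _ _) (xg_mem_group C _ _)) (xg_mem_group C _ _)

theorem cj_word {l : List ℕ} {u w : GL D.Idx F} (h : nword C l * u * (nword C l)⁻¹ = w) : Cj D u w :=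
  ⟨_, nword_mem_group C l, h⟩

theorem hg_mem_group (r : ℕ) (c : F) : hg C r c ∈ D.group F := by
  simp only [hg, ng]
  exact mul_mem (mul_mem (mul_mem (xg_mem_group C _ _) (xg_mem_group C _ _)) (xg_mem_group C _ _))
    (mul_mem (mul_mem (xg_mem_group C _ _) (xg_mem_group C _ _)) (xg_mem_group C _ _))

/-- scaling a root element -/
theorem cj_scale {r s : ℕ} (hr : r < D.nroots) (hs : s < D.nroots) (hp : D.pairing r s = 1) {c : F} (hc : c ≠ 0) :
    Cj D (xg C s c) (xg C s 1) := by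
  refine ⟨hg C r c⁻¹, hg_mem_group C r _, ?_⟩
  rw [hg_conj_xg C hr hs (inv_ne_zero hc), mul_inv_cancel_right, hp, zpow_one, inv_mul_cancel₀ hc]

omit C in
/-- a subgroup of the radical lies in `U` -/
theorem radical_le_pos (J : Set ℕ) : D.unipotentRadical F J ≤ D.posUnipotent F := by
  refine Subgroup.closure_mono ?_
  rintro g ⟨r, t, h1, -, h3⟩
  exact ⟨r, t, h1, h3⟩

/-- involutions are conjugate into `U` -/
theorem cj_into_U [Fintype F] [CharP F 2] (S : Sys D F) {g : GL D.Idx F} (hg : g ∈ D.group F)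
    (h2 : orderOf g = 2) : ∃ u ∈ D.posUnipotent F, Cj D g u ∧ u * u = 1 ∧ u ≠ 1 := by
  haveI := Fact.mk Nat.prime_two
  have hP : IsPGroup 2 ↥(Subgroup.zpowers g) :=
    IsPGroup.of_card (n := 1) (by rw [Nat.card_zpowers, h2, pow_one])
  have hne : Subgroup.zpowers g ≠ ⊥ := fun h => by
    rw [Subgroup.zpowers_eq_bot] at h
    rw [h, orderOf_one] at h2
    exact absurd h2 (by omega)
  obtain ⟨h, hh, J, -, -, hle⟩ := ChevBorelTits.borel_tits C S 2 (Subgroup.zpowers g)
    (Subgroup.zpowers_le.2 hg) hP hne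
  obtain ⟨u, hu, e⟩ := Subgroup.mem_map.1 (hle (Subgroup.mem_zpowers g))
  simp only [MulEquiv.coe_toMonoidHom, MulAut.conj_apply] at e
  have hgg : g * g = 1 := by rw [← pow_two, ← h2, pow_orderOf_eq_one]
  refine ⟨u, radical_le_pos J hu, ⟨h⁻¹, inv_mem hh, by rw [← e]; group⟩, ?_, fun h1 => ?_⟩
  · calc u * u = h⁻¹ * (g * g) * h := by rw [← e]; group
      _ = 1 := by rw [hgg, mul_one, inv_mul_cancel]
  · rw [h1, mul_one, mul_inv_cancel] at e
    rw [← e, orderOf_one] at h2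
    omega

/-- conjugation of `x_r(d)` by `x_s(c)` in characteristic two -/
theorem conj_two [CharP F 2] {s r : ℕ} (hs : s < D.nroots) (hr : r < D.nroots) (h1 : r ≠ s) (h2 : r ≠ D.neg s)
    (c d : F) :
    xg C s c * xg C r d * (xg C s c)⁻¹ =
      xg C r d * wg C ((D.commTerms s r).map fun q => (q.1, (q.2.1 : F) * c ^ q.2.2.1 * d ^ q.2.2.2)) := by
  rw [ChevRootLists.conj_xg C hs hr h1 h2, ChevalleyDatum.commWord]
  simp [neg_neg]

/-- root elements without commutator terms commute -/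
theorem comm_nil {s r : ℕ} (hs : s < D.nroots) (hr : r < D.nroots) (h1 : r ≠ s) (h2 : r ≠ D.neg s)
    (h : D.commTerms s r = []) (c d : F) : Commute (xg C s c) (xg C r d) :=
  comm_of_terms C hs hr h1 h2 (fun q hq => by rw [h] at hq; simp at hq) c d

end Cfsg.Agent.ChevInvolClassBase
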