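import Cfsg.Agent.Lib.ChevSubfieldBorel

/-!
Exceptional roots and root configurations of the seven data.
-/

set_option autoImplicit false
set_option linter.unusedSectionVars false

namespace Cfsg.Agent.ChevSubfieldConfig

open Cfsg.Lie Cfsg.Agent.ChevalleyEngine Cfsg.Agent.ChevalleyCert Cfsg.Agent.ChevalleyRoots
open Cfsg.Agent.ChevalleyCore Cfsg.Agent.ChevalleyTorus Cfsg.Agent.ChevBruhat Cfsg.Agent.ChevalleyUnipotent
open Cfsg.Agent.ChevFrobeniusFixed Cfsg.Agent.ChevSubfieldData Cfsg.Agent.ChevRootCentralizer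
open Cfsg.Agent.ChevSubfieldUnipotent Cfsg.Agent.ChevSubfieldBorel Cfsg.Agent.ChevSubfieldSpecial

/-- long roots are closed under negation and simple reflections -/
def longClosed (D : ChevalleyDatum) : Bool :=
  (List.range D.nroots).all fun r => !isLong D r ||
    (isLong D (D.neg r) && (List.range D.rank).all fun i => isLong D (D.reflectRoot i r))

/-- the moves of the highest root and of `s` -/
def moveOK (D : ChevalleyDatum) (s : ℕ) : Bool :=
  (List.range D.rank).any (fun i => D.reflectRoot i (top D) != top D && D.reflectRoot i (top D) != s &&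
    top D != D.simple i && s != D.simple i) &&
  (s == top D || (List.range D.rank).any fun i =>
    D.reflectRoot i (top D) == top D && D.reflectRoot i s != s && s != D.simple i)

/-- the roots of a `B₂` -/
def bCheck (D : ChevalleyDatum) (s a b : ℕ) (l₁ l₂ l₃ : List ℕ) : Bool :=
  decide (s < D.nroots ∧ a < D.nroots ∧ b < D.nroots) &&
  decide (D.nroots / 2 ≤ s ∧ D.nroots / 2 ≤ a ∧ D.nroots / 2 ≤ b) &&
  decide (b ≠ a ∧ b ≠ D.neg a ∧ b ≠ s ∧ b ≠ D.neg s ∧ D.neg b ≠ top D ∧ D.neg b ≠ D.neg (top D)) &&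
  (match D.commTerms a b with
    | [(q, N, i, j), (q', N', i', j')] => q == s && N.natAbs == 1 && i == 1 && j == 1 && q' == top D &&
        N'.natAbs == 1 && i' == 2 && j' == 1
    | _ => false) &&
  decide (D.commTerms s b = [] ∧ D.commTerms (top D) (D.neg b) = [] ∧ D.pairing b (top D) = 0) &&
  (l₁ ++ l₂ ++ l₃).all (fun i => decide (i < D.rank)) &&
  decide (wact (D := D) l₁ s = a ∧ wact (D := D) l₁ (top D) = top D ∧
    wact (D := D) l₂ s = s ∧ wact (D := D) l₂ (top D) = b ∧
    wact (D := D) l₃ b = D.neg b ∧ wact (D := D) l₃ (top D) = top D)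

theorem bconfig_of_check {D : ChevalleyDatum} {s a b : ℕ} {l₁ l₂ l₃ : List ℕ}
    (h : bCheck D s a b l₁ l₂ l₃ = true) : BConfig D s a b l₁ l₂ l₃ := by
  simp only [bCheck, Bool.and_eq_true, decide_eq_true_eq, List.all_eq_true] at h
  obtain ⟨⟨⟨⟨⟨⟨h1, h2⟩, h3⟩, h4⟩, h5⟩, h6⟩, h7⟩ := h
  refine ⟨h1, h2, h3, ?_, h5, h6, h7⟩
  split at h4
  · rename_i q N i j q' N' i' j' e
    simp only [Bool.and_eq_true, beq_iff_eq] at h4
    obtain ⟨⟨⟨⟨⟨⟨⟨rfl, hN⟩, rfl⟩, rfl⟩, rfl⟩, hN'⟩, rfl⟩, rfl⟩ := h4
    exact ⟨N, N', hN, hN', e⟩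
  · exact Bool.noConfusion h4

theorem moves_g2 : moveOK chevG2 9 = true ∧ moveOK chevG2 (top chevG2) = true := by decide +kernel
theorem moves_b2 : moveOK chevB2 6 = true ∧ moveOK chevB2 (top chevB2) = true := by decide +kernel
theorem moves_f4 : moveOK chevF4 44 = true ∧ moveOK chevF4 (top chevF4) = true := by decide +kernel
theorem moves_d4 : moveOK chevD4 (top chevD4) = true := by decide +kernel
theorem moves_e6 : moveOK chevE6 (top chevE6) = true := by decide +kernel
theorem moves_e7 : moveOK chevE7 (top chevE7) = true := by decide +kernel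
theorem moves_e8 : moveOK chevE8 (top chevE8) = true := by decide +kernel

theorem closed_g2 : longClosed chevG2 = true := by decide +kernel
theorem closed_b2 : longClosed chevB2 = true := by decide +kernel
theorem closed_f4 : longClosed chevF4 = true := by decide +kernel
theorem short_d4 : shortRoots chevD4 = [] := by decide +kernel
theorem short_e6 : shortRoots chevE6 = [] := by decide +kernel
theorem short_e7 : shortRoots chevE7 = [] := by decide +kernel
theorem short_e8 : shortRoots chevE8 = [] := by decide +kernel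

theorem closed_of_short {D : ChevalleyDatum} (h : shortRoots D = []) : longClosed D = true := by
  simp [longClosed, isLong, h]

theorem bcheck_b2 : bCheck chevB2 6 5 4 [1] [0] [1] = true := by decide +kernel
theorem bcheck_f4 : bCheck chevF4 44 29 41 [0, 1, 2, 1, 0] [3, 2, 1, 2, 3] [0, 1, 2, 1, 0] = true := by
  decide +kernel

/-- the data of one of the seven Chevalley groups with exceptional root `s` and prime `m` -/
structure Special (D : ChevalleyDatum) (s m : ℕ) : Prop where
  steps : allSteps D [s] = true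
  spec : specOK D s m = true
  move : moveOK D s = true

variable {D : ChevalleyDatum} {C : Cert D} {F : Type*} [Field F] {σ : F →+* F}
  {M : Subgroup (GL D.Idx F)}

theorem moves_of_check {s : ℕ} (h : moveOK D s = true) :
    (s = top D ∨ ∃ i, i < D.rank ∧ D.reflectRoot i (top D) = top D ∧ D.reflectRoot i s ≠ s ∧ s ≠ D.simple i) ∧
      ∃ i, i < D.rank ∧ D.reflectRoot i (top D) ≠ top D ∧ D.reflectRoot i (top D) ≠ s ∧
        top D ≠ D.simple i ∧ s ≠ D.simple i := by
  simp only [moveOK, Bool.and_eq_true, Bool.or_eq_true, List.any_eq_true, List.mem_range, bne_iff_ne, beq_iff_eq,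
    ne_eq] at h
  obtain ⟨⟨i, hi, h1⟩, h2⟩ := h
  refine ⟨?_, i, hi, h1.1.1.1, h1.1.1.2, h1.1.2, h1.2⟩
  rcases h2 with rfl | ⟨j, hj, h3⟩
  · exact Or.inl rfl
  · exact Or.inr ⟨j, hj, h3.1.1, h3.1.2, h3.2⟩

/-- the highest root as exceptional root -/
theorem root_top (hcommon : common D = true) (hmove : moveOK D (top D) = true)
    (hA : ∀ c, xg C (top D) c ∈ M → σ c = c)
    (hstep : ∀ k, D.nroots / 2 ≤ k → k < D.nroots → k ≠ top D →
      ∃ r, D.nroots / 2 ≤ r ∧ r < D.nroots ∧ ∃ q N, Lead D F k r q N) :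
    SpecRoot C σ M (top D) := by
  obtain ⟨hT, hTp⟩ := top_lt C hcommon
  obtain ⟨h1, h2⟩ := moves_of_check hmove
  refine ⟨⟨hTp, le_rfl⟩, fun r hr a b => ?_, fun k hk hk' hne _ => hstep k hk hk' hne, fun c d h => ?_, h1, h2⟩
  · exact top_comm C ((isPos C).1 hr).1 ((isPos C).1 hr).2 a b
  · rw [xg_mul] at h ⊢
    rw [fr_xg σ C, hA _ h]

/-- the exceptional root in characteristic `m` -/
theorem root_special {s m : ℕ} [CharP F m] (hcommon : common D = true) (hS : Special D s m)
    (hspec : ∀ c d : F, xg C s c * xg C (top D) d ∈ M → σ c = c ∧ σ d = d) : SpecRoot C σ M s := by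
  obtain ⟨hT, hTp⟩ := top_lt C hcommon
  obtain ⟨h1, h2⟩ := moves_of_check hS.move
  have h := hS.spec
  simp only [specOK, Bool.and_eq_true, decide_eq_true_eq, List.all_eq_true, List.mem_range'_1] at h
  obtain ⟨⟨⟨⟨⟨hs, hs'⟩, -⟩, hdvd⟩, -⟩, -⟩ := h
  refine ⟨⟨hs, hs'.le⟩, fun r hr a b => ?_, fun k hk hk' hne hks => ?_, fun c d hcd => ?_, h1, h2⟩
  · obtain ⟨hr1, hr2⟩ := (isPos C).1 hr
    rcases eq_or_ne r s with rfl | hne
    · show _ * _ = _ * _
      rw [xg_mul, xg_mul, add_comm]
    refine comm_of_terms C (hs'.trans hT) hr2 hne ?_ (fun q hq => ?_) a b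
    · have := C.neg_eq s (hs'.trans hT); have := C.even; omega
    · exact (CharP.intCast_eq_zero_iff F m q.2.1).2 (hdvd r ⟨hr1, by have := C.even; omega⟩ q hq)
  · have h3 := hS.steps
    simp only [allSteps, List.all_eq_true, List.mem_range'_1, Bool.or_eq_true, beq_iff_eq, List.contains_eq_mem,
      List.mem_singleton, decide_eq_true_eq] at h3
    rcases h3 k ⟨hk, by have := C.even; omega⟩ with (h4 | h4) | h4
    · exact absurd h4 hne
    · exact absurd h4 hks
    · exact exists_lead_of_step h4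
  · obtain ⟨hc, hd⟩ := hspec c d hcd
    rw [map_mul, fr_xg σ C, fr_xg σ C, hc, hd]

/-- off the exceptional characteristic every root can be tested -/
theorem step_special (C : Cert D) {s m : ℕ} (hsteps : allSteps D [s] = true) (hspec : specOK D s m = true)
    (hm : (m : F) ≠ 0) : ∀ k, D.nroots / 2 ≤ k → k < D.nroots → k ≠ top D →
      ∃ r, D.nroots / 2 ≤ r ∧ r < D.nroots ∧ ∃ q N, Lead D F k r q N := by
  intro k hk hk' hne
  have := C.even
  simp only [allSteps, List.all_eq_true, List.mem_range'_1, Bool.or_eq_true, beq_iff_eq, List.contains_eq_mem,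
    List.mem_singleton, decide_eq_true_eq] at hsteps
  rcases hsteps k ⟨hk, by omega⟩ with (h4 | h4) | h4
  · exact absurd h4 hne
  · subst h4
    simp only [specOK, Bool.and_eq_true, List.any_eq_true, List.mem_range'_1] at hspec
    obtain ⟨⟨⟨⟨-, ⟨r, hr, hl⟩⟩, -⟩, -⟩, -⟩ := hspec
    exact ⟨r, hr.1, by omega, lead_of_check hl hm⟩
  · exact exists_lead_of_step h4

theorem step_plain (C : Cert D) (hsteps : allSteps D [] = true) : ∀ k, D.nroots / 2 ≤ k → k < D.nroots → k ≠ top D →
      ∃ r, D.nroots / 2 ≤ r ∧ r < D.nroots ∧ ∃ q N, Lead D F k r q N := by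
  intro k hk hk' hne
  have := C.even
  simp only [allSteps, List.all_eq_true, List.mem_range'_1, Bool.or_eq_true, beq_iff_eq, List.contains_eq_mem,
    List.not_mem_nil, decide_eq_true_eq, or_false] at hsteps
  rcases hsteps k ⟨hk, by omega⟩ with h4 | h4
  · exact absurd h4 hne
  · exact exists_lead_of_step h4

end Cfsg.Agent.ChevSubfieldConfig
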