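import Cfsg.Agent.Lib.ChevalleyRankOne
import Cfsg.Agent.Lib.ChevBruhatInstance
import Cfsg.Agent.Lib.QuadraticDickson

/-!
A finite group generated by two opposite root elements contains the central involution (odd characteristic).
-/

set_option autoImplicit false

namespace Cfsg.Agent.ChevSubfieldSL2

open scoped MatrixGroups
open Cfsg.Agent.QuadraticDickson

variable {F : Type*} [Field F] (p : ℕ) [Fact p.Prime] [CharP F p]

/-- two opposite transvections generating a finite group have parameters in a finite subfield -/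
theorem param_fixed (c : F) {N : ℕ} (hN : 0 < N) (h : (up (1 : F) * lo c) ^ N = 1) :
    ∃ m : ℕ, 0 < m ∧ c ^ p ^ m = c := by
  let L := AlgebraicClosure F
  let f : F →+* L := algebraMap F L
  haveI : CharP L p := (f.charP_iff f.injective p).1 inferInstance
  set d : L := f c with hd
  obtain ⟨l, hl⟩ : ∃ l : L, l * l - (2 + d) * l + 1 = 0 := by
    obtain ⟨l, hl⟩ := IsAlgClosed.exists_root
      (Polynomial.X * Polynomial.X - Polynomial.C (2 + d) * Polynomial.X + 1 : Polynomial L)
      (by
        have : (Polynomial.X * Polynomial.X - Polynomial.C (2 + d) * Polynomial.X + 1 : Polynomial L).natDegree = 2 := by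
          compute_degree!
        intro h0
        rw [Polynomial.degree_eq_natDegree (fun e => by rw [e] at this; simp at this)] at h0
        rw [this] at h0
        exact absurd h0 (by decide))
    exact ⟨l, by simpa [Polynomial.IsRoot] using hl⟩
  have hl0 : l ≠ 0 := fun e => by rw [e] at hl; simp at hl
  let A : Matrix (Fin 2) (Fin 2) L := !![1 + d, 1; d, 1]
  let v : Fin 2 → L := ![1, l - 1 - d]
  have hAv : A.mulVec v = l • v := by
    funext i
    fin_cases i
    · simp [A, v, Matrix.mulVec, dotProduct, Fin.sum_univ_two]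
    · simp [A, v, Matrix.mulVec, dotProduct, Fin.sum_univ_two]
      linear_combination -hl
  have hpow : ∀ n : ℕ, (A ^ n).mulVec v = l ^ n • v := by
    intro n
    induction n with
    | zero => simp
    | succ n ih => rw [pow_succ, ← Matrix.mulVec_mulVec, hAv, Matrix.mulVec_smul, ih, smul_smul, pow_succ, mul_comm]
  have hA : A ^ N = 1 := by
    have h1 := congrArg (fun g : SL(2, F) => (g : Matrix (Fin 2) (Fin 2) F)) h
    simp only [Matrix.SpecialLinearGroup.coe_pow, Matrix.SpecialLinearGroup.coe_mul,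
      Matrix.SpecialLinearGroup.coe_one] at h1
    have h2 := congrArg (fun M : Matrix (Fin 2) (Fin 2) F => M.map f) h1
    simp only [Matrix.map_pow, Matrix.map_mul, Matrix.map_one f (map_zero f) (map_one f)] at h2
    have e : (up (1 : F)).1.map f * (lo c).1.map f = A := by
      ext i j
      fin_cases i <;> fin_cases j <;> simp [A, coe_up, coe_lo, Matrix.mul_apply, Fin.sum_univ_two, hd]
    rwa [e] at h2
  have hlN : l ^ N = 1 := by
    have h1 := congrFun (hpow N) 0
    rw [hA, Matrix.one_mulVec] at h1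
    simpa [v] using h1.symm
  obtain ⟨e, N', hN', rfl⟩ := Nat.exists_eq_pow_mul_and_not_dvd hN.ne' p (Fact.out : p.Prime).ne_one
  have hl' : l ^ N' = 1 := iterateFrobenius_inj L p e (by
    rw [iterateFrobenius_def, iterateFrobenius_def, one_pow, ← pow_mul, mul_comm]; exact hlN)
  have hN'0 : 0 < N' := Nat.pos_of_ne_zero fun e => hN' (e ▸ dvd_zero p)
  have hcop : Nat.Coprime p N' := (Nat.Prime.coprime_iff_not_dvd Fact.out).2 hN'
  refine ⟨N'.totient, Nat.totient_pos.2 hN'0, f.injective ?_⟩
  have hm := Nat.ModEq.pow_totient hcop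
  have hlm : l ^ p ^ N'.totient = l := by
    have h1 : 1 ≤ p ^ N'.totient := Nat.one_le_pow _ _ (Fact.out : p.Prime).pos
    obtain ⟨k, hk⟩ := (Nat.modEq_iff_dvd' h1).1 hm.symm
    conv_lhs => rw [show p ^ N'.totient = 1 + N' * k by omega, pow_add, pow_mul, hl', one_pow, mul_one, pow_one]
  have hdd : d = l + l⁻¹ - 2 := by
    have h1 : l + l⁻¹ - 2 = (l * l + 1 - 2 * l) / l := by
      rw [eq_div_iff hl0]; linear_combination mul_inv_cancel₀ hl0
    have h2 : l * l + 1 - 2 * l = d * l := by linear_combination hl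
    rw [h1, h2, mul_div_assoc, div_self hl0, mul_one]
  haveI : ExpChar L p := ExpChar.prime Fact.out
  rw [map_pow, ← hd]
  show iterateFrobenius L p N'.totient d = d
  rw [hdd, map_sub, map_add, map_inv₀]
  simp only [iterateFrobenius_def, hlm]
  congr 1
  rw [← iterateFrobenius_def (R := L), map_ofNat]

/-- the subgroup generated by two opposite transvections contains `-1` when finite -/
theorem neg_one_mem (hp : p ≠ 2) (R : Subgroup SL(2, F)) [Finite ↥R] {c : F} (hc : c ≠ 0)
    (h1 : up (1 : F) ∈ R) (h2 : lo c ∈ R) : (-1 : SL(2, F)) ∈ R := by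
  obtain ⟨N, hN, hpow⟩ : ∃ N, 0 < N ∧ (up (1 : F) * lo c) ^ N = 1 := by
    refine ⟨orderOf (⟨_, mul_mem h1 h2⟩ : ↥R), orderOf_pos _, ?_⟩
    exact congrArg Subtype.val (pow_orderOf_eq_one (⟨_, mul_mem h1 h2⟩ : ↥R))
  obtain ⟨m, hm, hcm⟩ := param_fixed p c hN hpow
  haveI : ExpChar F p := ExpChar.prime Fact.out
  let K : Subfield F := (iterateFrobenius F p m).eqLocusField (RingHom.id F)
  haveI : Finite K := by
    have hq : 1 < p ^ m := Nat.one_lt_pow hm.ne' (Fact.out : p.Prime).one_lt
    have hne : (Polynomial.X ^ p ^ m - Polynomial.X : Polynomial F) ≠ 0 := FiniteField.X_pow_card_sub_X_ne_zero F hq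
    classical
    refine Finite.of_injective (β := ↥((Polynomial.X ^ p ^ m - Polynomial.X : Polynomial F).roots.toFinset))
      (fun x => ⟨x.1, ?_⟩) fun a b h => by apply Subtype.ext; exact congrArg (fun z : ↥((Polynomial.X ^ p ^ m - Polynomial.X : Polynomial F).roots.toFinset) => z.1) h
    rw [Multiset.mem_toFinset, Polynomial.mem_roots hne]
    have hx : x.1 ^ p ^ m = x.1 := x.2
    simp [Polynomial.IsRoot, hx]
  haveI : CharP K p := (K.subtype.charP_iff Subtype.val_injective p).2 inferInstance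
  let ι : SL(2, K) →* SL(2, F) := Matrix.SpecialLinearGroup.map K.subtype
  let c' : K := ⟨c, hcm⟩
  have hc' : c' ≠ 0 := fun h => hc (congrArg Subtype.val h)
  have e1 : ι (up 1) = up 1 := by
    ext i j; fin_cases i <;> fin_cases j <;> simp [ι, coe_up]
  have e2 : ι (lo c') = lo c := by
    ext i j; fin_cases i <;> fin_cases j <;> simp [ι, coe_lo, c']
  obtain ⟨g, hg⟩ := exists_sl2 (F := K) hp (R.comap ι) one_ne_zero hc'
    (by rw [Subgroup.mem_comap, e1]; exact h1) (by rw [Subgroup.mem_comap, e2]; exact h2)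
  have h3 := hg ⟨(-1 : SL(2, ZMod p)), rfl⟩
  rw [Subgroup.mem_comap] at h3
  have e3 : ι ((conjSL g).comp (Matrix.SpecialLinearGroup.map (ZMod.castHom dvd_rfl K)) (-1)) = -1 := by
    have h4 : (conjSL g).comp (Matrix.SpecialLinearGroup.map (ZMod.castHom (dvd_refl p) K)) (-1) = -1 := by
      refine conjSL_eq (g := g) ?_
      ext i j
      fin_cases i <;> fin_cases j <;>
        simp [Matrix.mul_apply, Fin.sum_univ_two, Matrix.one_apply]
    rw [h4]
    ext i j; fin_cases i <;> fin_cases j <;> simp [ι]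
  exact e3 ▸ h3

open Cfsg.Lie Cfsg.Agent.ChevalleyCert Cfsg.Agent.ChevalleyCore Cfsg.Agent.ChevalleyTorus

variable {D : ChevalleyDatum} (C : Cert D)

include C in
/-- a finite group containing two opposite root elements contains the coroot involution -/
theorem hg_neg_one_mem (hp : p ≠ 2) {r : ℕ} (hr : r < D.nroots) (M : Subgroup (GL D.Idx F)) [Finite ↥M]
    {c : F} (hc : c ≠ 0) (h1 : xg C r (1 : F) ∈ M) (h2 : xg C (D.neg r) c ∈ M) :
    hg C r (-1 : F) ∈ M := by
  let φ : SL(2, F) →* GL D.Idx F := ChevalleySL2.phi (ChevalleyRankOne.rels C hr)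
  have hφ : ∀ g : SL(2, F), φ g = ChevalleySL2.phiFun (fun t => xg C r t) (fun t => xg C (D.neg r) t) g :=
    fun g => rfl
  have hup : ∀ t : F, φ (up t) = xg C r t := fun t => by
    rw [show up t = ChevalleySL2.upper t from rfl]
    exact ChevalleySL2.phi_upper (ChevalleyRankOne.rels C hr) t
  have hlo : ∀ t : F, φ (lo t) = xg C (D.neg r) t := fun t => by
    rw [show lo t = ChevalleySL2.lower t from rfl]
    exact ChevalleySL2.phi_lower (ChevalleyRankOne.rels C hr) t
  have hnn : ∀ t : F, ChevalleySL2.nn (fun t => xg C r t) (fun t => xg C (D.neg r) t) t = ng C r t := fun t => rfl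
  have hhh : ∀ t : F, ChevalleySL2.hh (fun t => xg C r t) (fun t => xg C (D.neg r) t) t = hg C r t := fun t => rfl
  -- the kernel is finite
  have hker : ∀ g : SL(2, F), φ g = 1 → g.1 1 0 = 0 ∧ g.1 0 1 = 0 ∧ g.1 0 0 * g.1 0 0 = 1 := by
    intro g hone
    rw [hφ, ChevalleySL2.phiFun, ChevalleySL2.phiE] at hone
    have hdet : g.1 0 0 * g.1 1 1 - g.1 0 1 * g.1 1 0 = 1 := by rw [← Matrix.det_fin_two]; exact g.2
    by_cases h10 : g.1 1 0 = 0
    · rw [if_pos h10, hhh] at hone
      have ha : g.1 0 0 ≠ 0 := fun h0 => by rw [h0, h10] at hdet; simp at hdet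
      have hh' : hg C r (g.1 0 0) = xg C r (-(g.1 0 1 * g.1 0 0)) := by
        rw [← xg_inv]; exact eq_inv_of_mul_eq_one_right hone
      have h3 := hg_conj_xg C hr hr ha (1 : F)
      rw [hh', xg_mul, xg_mul, C.pair_self r hr, mul_one] at h3
      have hsq : g.1 0 0 ^ (2 : ℤ) = 1 := by
        by_contra hne
        have h4 : xg C r (-(g.1 0 1 * g.1 0 0) + 1 - (g.1 0 0 ^ (2 : ℤ) + -(g.1 0 1 * g.1 0 0))) = (1 : GL D.Idx F) := by
          rw [sub_eq_add_neg, ← xg_mul, h3, xg_mul, add_neg_cancel, xg_zero]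
        have h5 : -(g.1 0 1 * g.1 0 0) + 1 - (g.1 0 0 ^ (2 : ℤ) + -(g.1 0 1 * g.1 0 0)) = 0 := by
          by_contra hx
          exact hx (ChevBruhatInstance.xg_injective C hr hr hx (h4.trans (xg_zero C r).symm)).2
        exact hne (by linear_combination -h5)
      have hb : g.1 0 1 = 0 := by
        have h1h : hg C r (g.1 0 0) * hg C r (g.1 0 0) = 1 := by
          rw [hg_mul C hr ha ha, show g.1 0 0 * g.1 0 0 = (1 : F) from (zpow_two _).symm.trans hsq, hg_one C hr]
        -- a diagonal element in a root subgroup is trivial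
        by_contra hb
        have hz : -(g.1 0 1 * g.1 0 0) ≠ 0 := neg_ne_zero.2 (mul_ne_zero hb ha)
        have hne1 : hg C r (g.1 0 0) ≠ 1 := fun h => hz
          (ChevBruhatInstance.xg_injective C hr hr hz ((hh'.symm.trans h).trans (xg_zero C r).symm)).2
        have hdiag : ∀ i j : D.Idx, i ≠ j → ((hg C r (g.1 0 0) : GL D.Idx F) : Matrix D.Idx D.Idx F) i j = 0 :=
          fun i j hij => by rw [coe_hg_eq C hr ha, hDiag, Matrix.diagonal_apply_ne _ hij]
        rcases lt_or_ge r (D.nroots / 2) with h | h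
        · exact hne1 (ChevalleyUnipotent.eq_one_of_diag _ le_rfl
            (ChevalleyUnipotent.V_le_lower C (hh' ▸ ChevalleyUnipotent.xg_mem_V C h _)) hdiag)
        · exact hne1 (ChevalleyUnipotent.eq_one_of_diag _ le_rfl
            (ChevalleyUnipotent.U_le_upper C (hh' ▸ ChevalleyUnipotent.xg_mem_U C h hr _)) hdiag)
      exact ⟨h10, hb, by rw [← zpow_two]; exact hsq⟩
    · exfalso
      rw [if_neg h10, hnn] at hone
      set t := -(g.1 1 0)⁻¹
      have ht : t ≠ 0 := neg_ne_zero.2 (inv_ne_zero h10)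
      have hn : ng C r t = xg C r (-(g.1 0 0 / g.1 1 0) + -(g.1 1 1 / g.1 1 0)) := by
        rw [← xg_mul, ← xg_inv, ← xg_inv]
        calc ng C r t = (xg C r (g.1 0 0 / g.1 1 0))⁻¹ * (xg C r (g.1 0 0 / g.1 1 0) * ng C r t *
              xg C r (g.1 1 1 / g.1 1 0)) * (xg C r (g.1 1 1 / g.1 1 0))⁻¹ := by group
          _ = _ := by rw [hone, mul_one]
      have hcomm : ng C r t * xg C r 1 * (ng C r t)⁻¹ = xg C r 1 := by
        rw [hn, xg_inv, xg_mul, xg_mul]; congr 1; ring
      -- `n_r(t)` swaps the two root subgroups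
      have h1 : ng C r (1 : F) = hg C r t⁻¹ * ng C r t := by
        rw [ng_eq C r t, ← mul_assoc, hg_mul C hr (inv_ne_zero ht) ht, inv_mul_cancel₀ ht, hg_one C hr, one_mul]
      have h5 : ng C r (1 : F) * xg C r 1 * (ng C r (1 : F))⁻¹ = xg C r (t⁻¹ ^ D.pairing r r * 1) := by
        rw [h1, mul_inv_rev,
          show ∀ A B x : GL D.Idx F, A * B * x * (B⁻¹ * A⁻¹) = A * (B * x * B⁻¹) * A⁻¹ from fun A B x => by group,
          hcomm, hg_conj_xg C hr hr (inv_ne_zero ht), mul_inv_cancel_right]
      have h6 := (ChevalleyRankOne.rels C hr (F := F)).swap (1 : F)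
      simp only [hnn] at h6
      rw [h6] at h5
      have h7 := (ChevBruhatInstance.xg_injective C (C.neg_lt r) hr (by simp) h5).1
      exact ChevalleyRoots.neg_ne C hr h7
  let R : Subgroup SL(2, F) := M.comap φ
  haveI : Finite ↥R := by
    let f : ↥R → ↥M := fun x => ⟨φ x.1, x.2⟩
    have hfib : ∀ x y : ↥R, f x = f y → x.1⁻¹ * y.1 = 1 ∨ x.1⁻¹ * y.1 = -1 := by
      intro x y h
      have hk : φ (x.1⁻¹ * y.1) = 1 := by
        rw [map_mul, map_inv, show φ x.1 = φ y.1 from congrArg Subtype.val h, inv_mul_cancel]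
      obtain ⟨h10, h01, hsq⟩ := hker _ hk
      set g := x.1⁻¹ * y.1
      have hdet : g.1 0 0 * g.1 1 1 - g.1 0 1 * g.1 1 0 = 1 := by rw [← Matrix.det_fin_two]; exact g.2
      rw [h10, mul_zero, sub_zero] at hdet
      have h11 : g.1 1 1 = g.1 0 0 := by linear_combination g.1 0 0 * hdet - g.1 1 1 * hsq
      rcases mul_self_eq_one_iff.1 hsq with h | h
      · left; ext i j; fin_cases i <;> fin_cases j <;> simp [h10, h01, h11, h]
      · right; ext i j; fin_cases i <;> fin_cases j <;> simp [h10, h01, h11, h]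
    have hfin : ∀ b : ↥M, (f ⁻¹' {b}).Finite := by
      intro b
      by_cases hne : (f ⁻¹' {b}).Nonempty
      · obtain ⟨x, hx⟩ := hne
        refine Set.Finite.subset ((Set.toFinite ({1, -1} : Set SL(2, F))).preimage
          (f := fun y : ↥R => x.1⁻¹ * y.1) fun a _ b _ h => Subtype.ext (mul_left_cancel h)) fun y hy => ?_
        simpa using hfib x y ((Set.mem_singleton_iff.1 hx).trans (Set.mem_singleton_iff.1 hy).symm)
      · rw [Set.not_nonempty_iff_eq_empty.1 hne]; exact Set.finite_empty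
    rw [← Set.finite_univ_iff]
    refine (Set.finite_iUnion hfin).subset fun x _ => Set.mem_iUnion.2 ⟨f x, rfl⟩
  have h3 := neg_one_mem p hp R hc (show φ (up 1) ∈ M by rw [hup]; exact h1) (show φ (lo c) ∈ M by rw [hlo]; exact h2)
  have e : φ (-1 : SL(2, F)) = hg C r (-1 : F) := by
    rw [hφ, ChevalleySL2.phiFun, ChevalleySL2.phiE, if_pos (by simp), hhh]
    simp [xg_zero]
  exact e ▸ h3

end Cfsg.Agent.ChevSubfieldSL2
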