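import Cfsg.Agent.Lib.ChevSubfieldLocal
import Cfsg.Agent.Lib.ChevSubfieldSL2
import Cfsg.Agent.Lib.ChevalleyParabolicBN

/-!
A finite group over the fixed root elements whose long root parameters are fixed consists of fixed elements.
-/

set_option autoImplicit false
set_option linter.unusedSectionVars false

namespace Cfsg.Agent.ChevSubfieldPairs

open Cfsg.Lie Cfsg.Agent.ChevalleyEngine Cfsg.Agent.ChevalleyCert Cfsg.Agent.ChevalleyRoots
open Cfsg.Agent.ChevalleyCore Cfsg.Agent.ChevalleyTorus Cfsg.Agent.ChevBruhat Cfsg.Agent.ChevalleyUnipotent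
open Cfsg.Agent.ChevFrobeniusFixed Cfsg.Agent.ChevSubfieldData Cfsg.Agent.ChevRootCentralizer
open Cfsg.Agent.ChevSubfieldUnipotent Cfsg.Agent.ChevSubfieldBorel Cfsg.Agent.ChevSubfieldLocal

/-- two involutions are conjugate or have a common commuting involution -/
theorem involution_pair {G : Type*} [Group G] {x z : G} (hx : x * x = 1) (hz : z * z = 1)
    (hfin : IsOfFinOrder (x * z)) :
    (∃ k : ℕ, ((x * z) ^ k)⁻¹ * x * (x * z) ^ k = z) ∨
      ∃ n : ℕ, (x * z) ^ n ≠ 1 ∧ ((x * z) ^ n) ^ 2 = 1 ∧ Commute x ((x * z) ^ n) ∧ Commute z ((x * z) ^ n) := by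
  set a := x * z with ha
  have hinv : ∀ k : ℕ, x * a ^ k = (a ^ k)⁻¹ * x := by
    intro k
    induction k with
    | zero => simp
    | succ k ih =>
      have h1 : x * a = a⁻¹ * x := by
        rw [ha, mul_inv_rev, inv_eq_of_mul_eq_one_right hx, inv_eq_of_mul_eq_one_right hz, ← mul_assoc, hx,
          one_mul, mul_assoc, hx, mul_one]
      rw [pow_succ', ← mul_assoc, h1, mul_assoc, ih, ← mul_assoc, ← mul_inv_rev, ← pow_succ, pow_succ']
  have hza : z = x * a := by rw [ha, ← mul_assoc, hx, one_mul]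
  have hn := orderOf_pos_iff.2 hfin
  rcases Nat.even_or_odd (orderOf a) with ⟨m, hm⟩ | ⟨m, hm⟩
  · refine Or.inr ⟨m, fun h => ?_, ?_, ?_⟩
    · have := Nat.le_of_dvd (by omega) (orderOf_dvd_of_pow_eq_one h)
      omega
    · rw [← pow_mul, show m * 2 = orderOf a by omega, pow_orderOf_eq_one]
    · have hself : (a ^ m)⁻¹ = a ^ m := inv_eq_of_mul_eq_one_right (by
        rw [← pow_add, ← hm, pow_orderOf_eq_one])
      have hxc : Commute x (a ^ m) := by
        show x * a ^ m = a ^ m * x
        rw [hinv, hself]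
      exact ⟨hxc, hza ▸ hxc.mul_left (Commute.self_pow a m)⟩
  · refine Or.inl ⟨m + 1, ?_⟩
    rw [← hinv, hza, mul_assoc, ← pow_add, show m + 1 + (m + 1) = orderOf a + 1 by omega, pow_succ,
      pow_orderOf_eq_one, one_mul]

variable {D : ChevalleyDatum} (C : Cert D) {F : Type*} [Field F] (p : ℕ) [Fact p.Prime] [CharP F p] (σ : F →+* F)

include C

theorem xg_pow (r : ℕ) (t : F) (n : ℕ) : (xg C r t) ^ n = xg C r (n * t) := by
  induction n with
  | zero => simp [xg_zero]
  | succ n ih =>
    rw [pow_succ, ih, xg_mul]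
    congr 1
    push_cast
    ring

theorem xg_pow_char (r : ℕ) (t : F) : (xg C r t) ^ p ^ 1 = 1 := by
  rw [xg_pow, pow_one, CharP.cast_eq_zero, zero_mul, xg_zero]

theorem xg_ne_one {r : ℕ} (hr : r < D.nroots) {t : F} (ht : t ≠ 0) : xg C r t ≠ 1 := fun h =>
  ht (ChevBruhatInstance.xg_injective C hr hr ht (h.trans (xg_zero C r).symm)).2

theorem top_dominant {i : ℕ} (hi : i < D.rank) (hT : top D < D.nroots) : 0 ≤ D.cartan i (top D) := by
  by_contra hneg
  have e : key C (D.reflectRoot i (top D)) =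
      1 * key C (top D) + (- D.cartan i (top D)) * key C (D.simple i) :=
    key_lin C _ _ fun q hq => by
      rw [C.coef_w i _ q hi hT hq, C.coef_simple i q hi hq]
      split <;> ring
  have hks := (key_pos C (simple_lt C hi)).2 (C.simple_mem i hi).1
  have hle : key C (D.reflectRoot i (top D)) ≤ key C (top D) := by
    have hlt : D.reflectRoot i (top D) < D.nroots := C.w_lt i _ hi hT
    rcases eq_or_lt_of_le (show D.reflectRoot i (top D) ≤ top D by simp only [top] at *; omega) with h | h
    · rw [h]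
    · exact (key_lt C hT h).le
  nlinarith

/-- conjugation by a root element of the positive roots keeps `uGe` under `H` -/
theorem H_conj_uGe {k : ℕ} {t z : GL D.Idx F} (ht : t ∈ D.diagonalSubgroup F) (hz : z ∈ uGe C (F := F) k) :
    t * z * t⁻¹ ∈ uGe C (F := F) k := by
  refine Sys.conj_closure_le (T := {g : GL D.Idx F | ∃ (q : ℕ) (d : F), k ≤ q ∧ D.nroots / 2 ≤ q ∧
    q < D.nroots ∧ g = xg C q d}) _ ?_ hz
  rintro x ⟨q, d, h1, h2, h3, rfl⟩
  obtain ⟨a, -, ha⟩ := H_conj_xg C h3 ht
  rw [ha]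
  exact xg_mem_uGe C h1 h2 h3 _

/-- the coroot involution of the highest root on a root element -/
theorem tau_conj (hT : top D < D.nroots) {s : ℕ} (hs : s < D.nroots) (t : F) :
    hg C (top D) (-1 : F) * xg C s t * (hg C (top D) (-1 : F))⁻¹ =
      xg C s ((-1 : F) ^ D.pairing (top D) s * t) := by
  rw [hg_conj_xg C hT hs (neg_ne_zero.2 one_ne_zero), mul_inv_cancel_right]

theorem tau_fixed : hg C (top D) (-1 : F) ∈ fixedRoots D σ := by
  have hm : ∀ t : F, σ t = t → ng C (top D) t ∈ fixedRoots D σ := fun t ht =>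
    mul_mem (mul_mem (xg_mem_fixedRoots σ C _ ht) (xg_mem_fixedRoots σ C _ (by rw [map_neg, map_inv₀, ht])))
      (xg_mem_fixedRoots σ C _ ht)
  exact mul_mem (hm _ (by simp)) (hm _ (by simp))

/-- a fixed conjugate of the involution is conjugate by a fixed element -/
theorem tau_class (hT : top D < D.nroots) (h2 : (2 : F) ≠ 0) : ∀ d k, D.nroots - k = d → D.nroots / 2 ≤ k →
    ∀ u ∈ uGe C (F := F) k,
      fr σ (u * hg C (top D) (-1 : F) * u⁻¹) = u * hg C (top D) (-1 : F) * u⁻¹ →
      ∃ w ∈ fixedRoots D σ, w * hg C (top D) (-1 : F) * w⁻¹ = u * hg C (top D) (-1 : F) * u⁻¹ := by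
  set τ := hg C (top D) (-1 : F)
  have hτH : τ ∈ D.diagonalSubgroup F := hg_mem_H C hT (neg_ne_zero.2 one_ne_zero)
  have hτf : fr σ τ = τ := fr_fixedRoots σ C (tau_fixed C σ)
  intro d
  induction d with
  | zero =>
    intro k hd hk u hu _
    rw [uGe_top C (by omega), Subgroup.mem_bot] at hu
    exact ⟨1, one_mem _, by rw [hu]⟩
  | succ d ih =>
    intro k hd hk u hu hf
    have hk' : k < D.nroots := by omega
    obtain ⟨a, u', hu', rfl⟩ := uGe_split C hk hk' hu
    have hconj := tau_conj C hT hk' (F := F)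
    rcases Int.even_or_odd (D.pairing (top D) k) with he | ho
    · have hc : Commute τ (xg C k a) := by
        show _ * _ = _ * _
        have := hconj a
        rw [he.neg_one_zpow, one_mul] at this
        exact mul_inv_eq_iff_eq_mul.1 this
      set u'' := xg C k a * u' * (xg C k a)⁻¹
      have hu'' : u'' ∈ uGe C (F := F) (k + 1) := xg_conj_uGe C hk hk' a u' hu'
      have e : xg C k a * u' * τ * (xg C k a * u')⁻¹ = u'' * τ * u''⁻¹ := by
        calc xg C k a * u' * τ * (xg C k a * u')⁻¹ = u'' * (xg C k a * τ * (xg C k a)⁻¹) * u''⁻¹ := by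
              simp only [u'']; group
          _ = _ := by rw [← hc.eq, mul_inv_cancel_right]
      rw [e] at hf ⊢
      exact ih (k + 1) (by omega) (by omega) u'' hu'' hf
    · have hneg : ∀ t : F, τ * xg C k t * τ⁻¹ = xg C k (-t) := fun t => by
        rw [hconj, ho.neg_one_zpow, neg_one_mul]
      have hz : u' * (τ * u'⁻¹ * τ⁻¹) ∈ uGe C (F := F) (k + 1) := mul_mem hu' (H_conj_uGe C hτH (inv_mem hu'))
      set z := u' * (τ * u'⁻¹ * τ⁻¹)
      have hz' : (xg C k a)⁻¹ * z * xg C k a ∈ uGe C (F := F) (k + 1) := by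
        have := xg_conj_uGe C hk hk' (-a) z hz
        rwa [← xg_inv, inv_inv] at this
      have e : xg C k a * u' * τ * (xg C k a * u')⁻¹ * τ⁻¹ =
          xg C k (a + a) * ((xg C k a)⁻¹ * z * xg C k a) := by
        have h1 : τ * (xg C k a)⁻¹ * τ⁻¹ = xg C k a := by rw [xg_inv, hneg, neg_neg]
        calc xg C k a * u' * τ * (xg C k a * u')⁻¹ * τ⁻¹
            = xg C k a * (u' * (τ * u'⁻¹ * τ⁻¹)) * (τ * (xg C k a)⁻¹ * τ⁻¹) := by group
          _ = _ := by rw [h1, ← xg_mul]; simp only [z]; group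
      have hfix : fr σ (xg C k (a + a) * ((xg C k a)⁻¹ * z * xg C k a)) =
          xg C k (a + a) * ((xg C k a)⁻¹ * z * xg C k a) := by
        rw [← e, map_mul, hf, map_inv, hτf]
      obtain ⟨ha, -⟩ := fixed_lead C σ hk hk' hz' hfix
      have haf : σ a = a := by
        rw [← two_mul, map_mul, map_ofNat] at ha
        exact mul_left_cancel₀ h2 ha
      have hx : fr σ (xg C k a) = xg C k a := by rw [fr_xg σ C, haf]
      obtain ⟨w, hw, ew⟩ := ih (k + 1) (by omega) (by omega) u' hu' (by
        have e2 : u' * τ * u'⁻¹ = (xg C k a)⁻¹ * (xg C k a * u' * τ * (xg C k a * u')⁻¹) * xg C k a := by group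
        rw [e2, map_mul, map_mul, map_inv, hx, hf])
      exact ⟨xg C k a * w, mul_mem (xg_mem_fixedRoots σ C k haf) hw, by
        calc xg C k a * w * τ * (xg C k a * w)⁻¹ = xg C k a * (w * τ * w⁻¹) * (xg C k a)⁻¹ := by group
          _ = _ := by rw [ew]; group⟩

/-- an element of `U` commuting with the involution, split off the highest root -/
theorem tau_U (hT : top D < D.nroots) (heven : evenPairs D = true) (hnt : D.neg (top D) < D.nroots / 2)
    (h2 : (2 : F) ≠ 0) : ∀ d k, D.nroots - k = d → D.nroots / 2 ≤ k →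
    ∀ u ∈ uGe C (F := F) k, Commute (hg C (top D) (-1 : F)) u →
      ∃ u₀ : GL D.Idx F, (∀ t : F, Commute u₀ (xg C (top D) t) ∧ Commute u₀ (xg C (D.neg (top D)) t)) ∧
        ∃ d : F, u = u₀ * xg C (top D) d := by
  set τ := hg C (top D) (-1 : F)
  have hτH : τ ∈ D.diagonalSubgroup F := hg_mem_H C hT (neg_ne_zero.2 one_ne_zero)
  intro d
  induction d with
  | zero =>
    intro k hd hk u hu _
    rw [uGe_top C (by omega), Subgroup.mem_bot] at hu
    exact ⟨1, fun t => ⟨Commute.one_left _, Commute.one_left _⟩, 0, by rw [hu, xg_zero, one_mul]⟩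
  | succ d ih =>
    intro k hd hk u hu hc
    have hk' : k < D.nroots := by omega
    obtain ⟨a, u', hu', rfl⟩ := uGe_split C hk hk' hu
    have hconj : τ * xg C k a * τ⁻¹ = xg C k ((-1 : F) ^ D.pairing (top D) k * a) := tau_conj C hT hk' a
    have he : xg C k ((-1 : F) ^ D.pairing (top D) k * a) * (τ * u' * τ⁻¹) = xg C k a * u' := by
      rw [← hconj, ← mul_inv_eq_iff_eq_mul.2 hc.eq]; group
    obtain ⟨ha, hu'eq⟩ := coeff_unique C hk hk' (H_conj_uGe C hτH hu') hu' he
    obtain ⟨u₀, h0, e, rfl⟩ := ih (k + 1) (by omega) (by omega) u' hu' (mul_inv_eq_iff_eq_mul.1 hu'eq)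
    by_cases ha0 : a = 0
    · exact ⟨u₀, h0, e, by rw [ha0, xg_zero, one_mul]⟩
    by_cases hkT : k = top D
    · subst hkT
      exact ⟨u₀, h0, a + e, by rw [← mul_assoc, ← ((h0 a).1).eq, mul_assoc, xg_mul]⟩
    have hev : Even (D.pairing (top D) k) := by
      by_contra hne
      rw [(Int.not_even_iff_odd.1 hne).neg_one_zpow, neg_one_mul] at ha
      exact mul_ne_zero h2 ha0 (by linear_combination -ha)
    simp only [evenPairs, List.all_eq_true, List.mem_range, Bool.or_eq_true, bne_iff_ne, beq_iff_eq,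
      Bool.and_eq_true, List.isEmpty_iff] at heven
    have hk2 : k ≠ D.neg (top D) := by omega
    rcases heven k hk' with ((h | h) | h) | ⟨ht1, ht2⟩
    · exact absurd (Int.even_iff.1 hev) h
    · exact absurd h hkT
    · exact absurd h hk2
    have hc1 : ∀ t : F, Commute (xg C (top D) t) (xg C k a) := fun t =>
      comm_of_terms C hT hk' hkT hk2 (fun q hq => by rw [ht1] at hq; simp at hq) t a
    have hc2 : ∀ t : F, Commute (xg C (D.neg (top D)) t) (xg C k a) := fun t =>
      comm_of_terms C (C.neg_lt _) hk' hk2 (by rw [neg_neg' C hT]; exact hkT)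
        (fun q hq => by rw [ht2] at hq; simp at hq) t a
    exact ⟨xg C k a * u₀, fun t => ⟨(hc1 t).symm.mul_left (h0 t).1, (hc2 t).symm.mul_left (h0 t).2⟩, e,
      by rw [mul_assoc]⟩

variable (S : Sys D F)
include S

/-- elements centralising the highest root element lie in its parabolic subgroup -/
theorem commute_top_parabolic (hT : top D < D.nroots) {g : GL D.Idx F} (hg : g ∈ D.group F)
    (hc : Commute g (xg C (top D) 1)) :
    g ∈ D.parabolicSubgroup F {i | D.cartan i (top D) = 0} := by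
  have hBP : D.borelSubgroup F ≤ D.parabolicSubgroup F {i | D.cartan i (top D) = 0} := le_sup_left
  have hTp : D.nroots / 2 ≤ top D := by simp only [top] at *; omega
  obtain ⟨u, hu, m, u', hu', rfl⟩ := decomp C S hg
  have hU : ∀ v ∈ D.posUnipotent F, Commute (xg C (top D) (1 : F)) v := fun v hv =>
    ChevRootCentralizer.commute_U C (fun s h1 h2 c => top_comm C h1 h2 1 c) hv
  have hm : Commute (xg C (top D) (1 : F)) (m : GL D.Idx F) := by
    have := ((hU u hu).inv_right.mul_right hc.symm).mul_right (hU u' hu').inv_right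
    simpa [mul_assoc] using this
  obtain ⟨m', hm', hw⟩ := stab_lift C S [top D]
    (fun a ha => by
      obtain rfl := List.mem_singleton.1 ha
      exact ⟨hT, fun i hi => top_dominant C hi hT⟩)
    (D.parabolicSubgroup F {i | D.cartan i (top D) = 0})
    (fun i h0 => ChevalleyParabolic.ns_mem_parabolic C (h0 _ (List.mem_singleton_self _)) i.isLt) (S.toW m)
    (fun a ha => by obtain rfl := List.mem_singleton.1 ha; exact single_fix C S hT m hm)
  have hker : (m : GL D.Idx F) * (m' : GL D.Idx F)⁻¹ ∈ D.diagonalSubgroup F :=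
    S.toW_ker.le (show m * m'⁻¹ ∈ S.toW.ker by simp [MonoidHom.mem_ker, hw])
  have hmP : (m : GL D.Idx F) ∈ D.parabolicSubgroup F {i | D.cartan i (top D) = 0} := by
    have := mul_mem (hBP (Sys.H_le_B hker)) hm'
    rwa [inv_mul_cancel_right] at this
  exact mul_mem (mul_mem (hBP (Sys.U_le_B hu)) hmP) (hBP (Sys.U_le_B hu'))

variable {M : Subgroup (GL D.Idx F)}

theorem exists_not_orth (X : Ctx C σ M) : ∃ i, i < D.rank ∧ i ∉ {i : ℕ | D.cartan i (top D) = 0} := by
  obtain ⟨s, hs⟩ := X.root
  obtain ⟨i, hi, hti, -⟩ := hs.moveT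
  exact ⟨i, hi, fun h0 => hti (w_fix C hi (top_lt C X.data).1 h0)⟩

/-- an element moving the highest root element to a fixed element is fixed -/
theorem fixed_of_conj (X : Ctx C σ M) {h : GL D.Idx F} (hM : h ∈ M)
    (hf : fr σ (h * xg C (top D) 1 * h⁻¹) = h * xg C (top D) 1 * h⁻¹) : fr σ h = h := by
  obtain ⟨hT, -⟩ := top_lt C X.data
  have hc : Commute (h⁻¹ * fr σ h) (xg C (top D) 1) := by
    rw [map_mul, map_mul, map_inv, fr_xg σ C, map_one] at hf
    show _ * _ = _ * _
    calc h⁻¹ * fr σ h * xg C (top D) 1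
        = h⁻¹ * (fr σ h * xg C (top D) 1 * (fr σ h)⁻¹) * fr σ h := by group
      _ = _ := by rw [hf]; group
  have hP := commute_top_parabolic C S hT (mul_mem (inv_mem (X.le hM)) (fr_group σ C (X.le hM))) hc
  obtain ⟨g₀, hg₀, hg₀P⟩ := fixed_coset C S σ (X.le hM) hP
  have h1 := ChevSubfieldParabolic.M_inf_P S X (exists_not_orth C σ S X)
    (mul_mem (inv_mem (X.fixed_le hg₀)) hM) hg₀P
  rw [map_mul, map_inv, fr_fixedRoots σ C hg₀] at h1
  exact mul_left_cancel h1

theorem img_long (hcl : ∀ r, r < D.nroots → isLong D r = true → ∀ i, i < D.rank → isLong D (D.reflectRoot i r) = true)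
    (w : S.X.W) : ∀ {r : ℕ}, r < D.nroots → isLong D r = true → isLong D (S.X.img w r) = true := by
  induction w using S.X.w_induction with
  | one => intro r _ h; simpa using h
  | step i w ih =>
    intro r hr h
    rw [S.X.img_mul, S.X.img_simple i (S.X.img_lt w hr)]
    exact hcl _ (S.X.img_lt w hr) (ih hr h) i i.isLt

/-- the shape of a conjugate of the highest root element -/
theorem conj_form (hdata : common D = true)
    (hcl : ∀ r, r < D.nroots → isLong D r = true → ∀ i, i < D.rank → isLong D (D.reflectRoot i r) = true)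
    {h : GL D.Idx F} (hG : h ∈ D.group F) :
    ∃ (r : ℕ) (c : F) (n : ↥(D.monomialSubgroup F)) (b v : GL D.Idx F), r < D.nroots ∧ isLong D r = true ∧ c ≠ 0 ∧
      b ∈ D.borelSubgroup F ∧ v ∈ S.Uw (S.toW n) ∧ h⁻¹ = b * n * v ∧
      h * xg C (top D) 1 * h⁻¹ = v⁻¹ * xg C r c * v := by
  obtain ⟨hT, hTp⟩ := top_lt C hdata
  obtain ⟨b, hb, n, v, hv, e⟩ := S.exists_cell_form (inv_mem hG)
  obtain ⟨u, hu, t, ht, rfl⟩ := (ChevalleyTorus.mem_B_iff C).1 hb
  obtain ⟨a, ha, hta⟩ := H_conj_xg C hT (inv_mem ht)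
  obtain ⟨k, hk, hnk, -⟩ := (S.acts_toW n).inv S (top D) hT
  simp only [sysXg C S] at hnk
  have hlong : isLong D (top D) = true := by
    simp only [common, Bool.and_eq_true] at hdata
    exact hdata.1.1.2
  refine ⟨S.X.img (S.toW n)⁻¹ (top D), k * a, n, u * t, v, S.X.img_lt _ hT, img_long C S hcl _ hT hlong,
    mul_ne_zero hk ha, hb, hv, e, ?_⟩
  have hh : h = v⁻¹ * (n : GL D.Idx F)⁻¹ * (u * t)⁻¹ := by
    rw [← inv_inv h, e]; group
  have hcu : Commute (xg C (top D) (1 : F)) u :=
    ChevRootCentralizer.commute_U C (fun s h1 h2 c => top_comm C h1 h2 1 c) hu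
  rw [hh]
  calc v⁻¹ * (n : GL D.Idx F)⁻¹ * (u * t)⁻¹ * xg C (top D) 1 * (v⁻¹ * (n : GL D.Idx F)⁻¹ * (u * t)⁻¹)⁻¹
      = v⁻¹ * ((n : GL D.Idx F)⁻¹ * (t⁻¹ * (u⁻¹ * (xg C (top D) 1 * u)) * t⁻¹⁻¹) * (n : GL D.Idx F)⁻¹⁻¹) * v := by
        group
    _ = _ := by rw [hcu.eq, inv_mul_cancel_left, hta, hnk, mul_one]

/-- the elements centralising the involution -/
theorem tau_centralizer (hp : p ≠ 2) (X : Ctx C σ M)
    (hcl : ∀ r, r < D.nroots → isLong D r = true → ∀ i, i < D.rank → isLong D (D.reflectRoot i r) = true)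
    {h : GL D.Idx F} (hM : h ∈ M) (hc : Commute h (hg C (top D) (-1 : F))) : fr σ h = h := by
  refine fixed_of_conj C σ S X hM ?_
  have hdata := X.data
  obtain ⟨hT, hTp⟩ := top_lt C hdata
  simp only [common, Bool.and_eq_true] at hdata
  have hEv : evenPairs D = true := hdata.1.1.1.1.1.1.1.2
  have hEv' := hEv
  have hY : hasOrth D = true := hdata.1.1.1.1.1.1.2
  have hnt : D.neg (top D) < D.nroots / 2 := by have := C.neg_eq _ hT; have := C.even; omega
  have h2 : (2 : F) ≠ 0 := by
    have : ((2 : ℕ) : F) ≠ 0 := fun h0 => hp ((Nat.prime_dvd_prime_iff_eq Fact.out Nat.prime_two).1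
      ((CharP.cast_eq_zero_iff F p 2).1 h0))
    simpa using this
  obtain ⟨r, c, n, b, v, hr, -, hc0, hb, hv, e, ez⟩ := conj_form C S X.data hcl (X.le hM)
  set τ := hg C (top D) (-1 : F)
  have hτH : τ ∈ D.diagonalSubgroup F := hg_mem_H C hT (neg_ne_zero.2 one_ne_zero)
  set x := xg C (top D) (1 : F)
  set z := h * x * h⁻¹
  have hτx : Commute τ x := by
    show _ * _ = _ * _
    rw [hg_conj_xg C hT hT (neg_ne_zero.2 one_ne_zero), C.pair_self _ hT]
    simp [x, τ]
  -- `v` commutes with the involution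
  have hvτ : Commute τ v := by
    have hvc : τ * v * τ⁻¹ ∈ S.Uw (S.toW n) := ChevalleyParabolicBN.Uw_conj C S _ hτH hv
    have hn : (n : GL D.Idx F) * τ⁻¹ * (n : GL D.Idx F)⁻¹ ∈ D.diagonalSubgroup F :=
      S.conj_H (S.acts_toW n) (inv_mem hτH)
    have e2 : τ * b * ((n : GL D.Idx F) * τ⁻¹ * (n : GL D.Idx F)⁻¹) * n * (τ * v * τ⁻¹) = b * n * v := by
      calc τ * b * ((n : GL D.Idx F) * τ⁻¹ * (n : GL D.Idx F)⁻¹) * n * (τ * v * τ⁻¹)
          = τ * (b * n * v) * τ⁻¹ := by group
        _ = _ := by rw [← e, ← hc.inv_left.eq, mul_inv_cancel_right]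
    obtain ⟨-, h3⟩ := S.form_unique n (mul_mem (mul_mem (Sys.H_le_B hτH) hb) (Sys.H_le_B hn)) hb hvc hv e2
    exact mul_inv_eq_iff_eq_mul.1 h3
  have hzτ : Commute z τ := (hc.mul_left hτx.symm).mul_left hc.inv_left
  have hxr : Commute (xg C r c) τ := by
    have e1 : xg C r c = v * z * v⁻¹ := by rw [ez]; group
    rw [e1]
    exact (hvτ.symm.mul_left hzτ).mul_left hvτ.symm.inv_left
  have hev : Even (D.pairing (top D) r) := by
    by_contra hne
    have h3 := tau_conj C hT hr c
    rw [(Int.not_even_iff_odd.1 hne).neg_one_zpow, neg_one_mul, ← hxr.eq, mul_inv_cancel_right] at h3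
    have h4 := (ChevBruhatInstance.xg_injective C hr hr hc0 h3).2
    exact mul_ne_zero h2 hc0 (by linear_combination h4)
  have hzM : z ∈ M := mul_mem (mul_mem hM (X.fixed_le (xg_mem_fixedRoots σ C _ (map_one σ)))) (inv_mem hM)
  have fixedX : ∀ k, k < D.nroots → D.nroots / 2 ≤ k → Commute z (xg C k 1) → fr σ z = z := fun k hk _ hcm =>
    (centralizer_fixed C p S σ X ⟨X.fixed_le (xg_mem_fixedRoots σ C k (map_one σ)),
      (fr_xg σ C _ _).trans (by rw [map_one]; rfl)⟩ (xg_pow_char C p k 1) (xg_ne_one C hk one_ne_zero) hzM hcm).2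
  have hvU : v ∈ D.posUnipotent F := S.Uw_le_U _ hv
  have hvx : ∀ s : F, Commute v (xg C (top D) s) := fun s =>
    (ChevRootCentralizer.commute_U C (fun q h1 h2 c => top_comm C h1 h2 s c) hvU).symm
  have viaTop : Commute (xg C r c) x → fr σ z = z := fun hrx => by
    refine fixedX _ hT hTp ?_
    rw [ez]
    exact ((hvx 1).inv_left.mul_left hrx).mul_left (hvx 1)
  have negCase : r = D.neg (top D) → fr σ z = z := fun h1 => by
    subst h1
    have hv' : v⁻¹ ∈ uGe C (F := F) (D.nroots / 2) := by rw [← posUnipotent_eq C]; exact inv_mem hvU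
    obtain ⟨u₀, h0, d, e3⟩ := tau_U C hT hEv' hnt h2 _ _ rfl le_rfl _ hv' hvτ.inv_right
    simp only [hasOrth, Bool.and_eq_true, List.any_eq_true, List.mem_range'_1, bne_iff_ne,
      List.isEmpty_iff] at hY
    obtain ⟨k, hk, ⟨hkT, hk1⟩, hk2⟩ := hY
    have hk' : k < D.nroots := by omega
    have hkn : k ≠ D.neg (top D) := by omega
    refine fixedX k hk' hk.1 ?_
    set w := xg C (top D) d * xg C (D.neg (top D)) c * (xg C (top D) d)⁻¹
    have ew : z = w := by
      have h4 : Commute u₀ w := (((h0 d).1.mul_right (h0 c).2)).mul_right (h0 d).1.inv_right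
      have e4 : v = (u₀ * xg C (top D) d)⁻¹ := by rw [← e3, inv_inv]
      calc z = u₀ * w * u₀⁻¹ := by rw [ez, e3, e4]; simp only [w]; group
        _ = w := by rw [h4.eq, mul_inv_cancel_right]
    have c1 : Commute (xg C (top D) d) (xg C k (1 : F)) :=
      comm_of_terms C hT hk' hkT hkn (fun q hq => by rw [hk1] at hq; simp at hq) _ _
    have c2 : Commute (xg C (D.neg (top D)) c) (xg C k (1 : F)) :=
      comm_of_terms C (C.neg_lt _) hk' hkn (by rw [neg_neg' C hT]; exact hkT)
        (fun q hq => by rw [hk2] at hq; simp at hq) _ _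
    rw [ew]
    exact (c1.mul_left c2).mul_left c1.inv_left
  simp only [evenPairs, List.all_eq_true, List.mem_range, Bool.or_eq_true, bne_iff_ne, beq_iff_eq,
    Bool.and_eq_true, List.isEmpty_iff] at hEv
  rcases hEv r hr with ((h1 | h1) | h1) | ⟨ht1, -⟩
  · exact absurd (Int.even_iff.1 hev) h1
  · subst h1
    refine viaTop ?_
    show _ * _ = _ * _
    simp only [x, xg_mul, add_comm]
  · exact negCase h1
  · rcases eq_or_ne r (top D) with h4 | h4
    · subst h4
      refine viaTop ?_
      show _ * _ = _ * _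
      simp only [x, xg_mul, add_comm]
    rcases eq_or_ne r (D.neg (top D)) with h5 | h5
    · exact negCase h5
    · exact viaTop (comm_of_terms C hT hr h4 h5 (fun q hq => by rw [ht1] at hq; simp at hq) 1 c).symm

set_option maxHeartbeats 2000000 in
include p in
/-- the elements of `M` are fixed -/
theorem all_fixed (X : Ctx C σ M)
    (hcl : ∀ r, r < D.nroots → isLong D r = true → ∀ i, i < D.rank → isLong D (D.reflectRoot i r) = true)
    {h : GL D.Idx F} (hM : h ∈ M) : fr σ h = h := by
  haveI := X.fin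
  have hdata := X.data
  obtain ⟨hT, hTp⟩ := top_lt C hdata
  set x := xg C (top D) (1 : F) with hx
  have hxR : x ∈ fixedPart σ M :=
    ⟨X.fixed_le (xg_mem_fixedRoots σ C _ (map_one σ)), (fr_xg σ C _ _).trans (by rw [map_one]; rfl)⟩
  have hx1 : x ≠ 1 := xg_ne_one C hT one_ne_zero
  have hxp : x ^ p ^ 1 = 1 := xg_pow_char C p _ _
  have hCx : ∀ z ∈ M, Commute z x → z ∈ fixedPart σ M := fun z hz hc =>
    centralizer_fixed C p S σ X hxR hxp hx1 hz hc
  simp only [common, Bool.and_eq_true] at hdata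
  by_cases hp : p = 2
  · subst hp
    -- a second class of involutions
    have h2 : (2 : F) = 0 := CharP.cast_eq_zero F 2
    have hxx : x * x = 1 := by rw [hx, xg_mul, show (1 : F) + 1 = 2 by norm_num, h2, xg_zero]
    obtain ⟨y, hyU, hyR, hy2, hy1, hyk⟩ : ∃ y, y ∈ D.posUnipotent F ∧ y ∈ fixedPart σ M ∧ y * y = 1 ∧ y ≠ 1 ∧
        ∀ g ∈ D.group F, g * x * g⁻¹ ≠ y := by
      have hsec : hasSecond D = true := hdata.1.1.1.1.2
      have mk : ∀ r, xg C r (1 : F) ∈ fixedPart σ M := fun r =>
        ⟨X.fixed_le (xg_mem_fixedRoots σ C r (map_one σ)), (fr_xg σ C _ _).trans (by rw [map_one]; rfl)⟩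
      have sq : ∀ r, xg C r (1 : F) * xg C r 1 = 1 := fun r => by
        rw [xg_mul, show (1 : F) + 1 = 2 by norm_num, h2, xg_zero]
      have outside : ∀ (r : ℕ) (c : F) (v : GL D.Idx F) (k : ℕ), k < D.rank → D.nroots / 2 ≤ r → r < D.nroots →
          r ≠ D.simple k → v ∈ D.posUnipotent F → v⁻¹ * xg C r c * v ∈ upSub D F k := by
        intro r c v k hk h1 h2 hne hv
        obtain ⟨v₁, hv₁, a, ev⟩ := S.U_decomp hk (inv_mem hv)
        have hrs : xg C r c ∈ upSub D F k :=
          Subgroup.subset_closure ⟨r, c, (isPos C).2 ⟨h1, h2⟩, hne, coe_xg C r c⟩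
        have h3 := S.simple_mul_upSub hk hrs a
        have h4 : v⁻¹ * xg C r c * v =
            v₁ * (S.xg (D.simple k) a * xg C r c * (S.xg (D.simple k) a)⁻¹) * v₁⁻¹ := by
          conv_lhs => rw [← inv_inv v, inv_inv v⁻¹]
          rw [ev]; group
        rw [h4]
        exact mul_mem (mul_mem hv₁ h3) (inv_mem hv₁)
      have notconj : ∀ (k : ℕ), k < D.rank → ∀ y : GL D.Idx F, y ∈ D.posUnipotent F → y ∉ upSub D F k →
          (∀ (r : ℕ) (c : F) (v : GL D.Idx F), r < D.nroots → isLong D r = true → D.nroots / 2 ≤ r →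
            v ∈ D.posUnipotent F → v⁻¹ * xg C r c * v = y → r ≠ D.simple k) →
          ∀ g ∈ D.group F, g * x * g⁻¹ ≠ y := by
        intro k hk y hyU hyn hr g hg e
        obtain ⟨r, c, n, b, v, hlt, hlong, hc0, -, hv, -, ez⟩ := conj_form C S X.data hcl hg
        rw [e] at ez
        have hvU := S.Uw_le_U _ hv
        have hxU : xg C r c ∈ D.posUnipotent F := by
          have : xg C r c = v * y * v⁻¹ := by rw [ez]; group
          exact this ▸ mul_mem (mul_mem hvU hyU) (Subgroup.inv_mem _ hvU)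
        have hpos : D.nroots / 2 ≤ r := by
          by_contra hcon
          have h3 := Subgroup.mem_inf.mpr
            ⟨Sys.U_le_B hxU, ChevalleyUnipotent.xg_mem_V C (show r < _ by omega) c⟩
          rw [S.B_inf_V, Subgroup.mem_bot] at h3
          exact xg_ne_one C hlt hc0 h3
        exact hyn (ez ▸ outside r c v k hk hpos hlt (hr r c v hlt hlong hpos hvU ez.symm) hvU)
      have simpleU : ∀ k, k < D.rank → xg C (D.simple k) (1 : F) ∈ D.posUnipotent F := fun k hk =>
        xg_mem_U C (C.simple_mem k hk).1 (C.simple_mem k hk).2 1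
      have notUp : ∀ k, k < D.rank → xg C (D.simple k) (1 : F) ∉ upSub D F k := fun k hk h =>
        one_ne_zero (ChevBorelCriterion.simple_notMem_upSub C S ⟨k, hk⟩ h)
      simp only [hasSecond, Bool.or_eq_true, List.any_eq_true, List.mem_range, Bool.and_eq_true, bne_iff_ne,
        Bool.not_eq_true', List.isEmpty_iff] at hsec
      rcases hsec with ⟨i, hi, hl⟩ | ⟨i, hi, j, hj, hij, hterms⟩
      · refine ⟨_, simpleU i hi, mk _, sq _, xg_ne_one C (simple_lt C hi) one_ne_zero,
          notconj i hi _ (simpleU i hi) (notUp i hi) ?_⟩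
        rintro r c v - hlong - - - rfl
        rw [hl] at hlong
        exact Bool.false_ne_true hlong
      · have hsij : D.simple i ≠ D.simple j := fun h => hij (by
          have h3 := C.coef_simple i i hi hi
          rw [h, C.coef_simple j i hj hi, if_pos rfl] at h3
          by_contra hne
          rw [if_neg hne] at h3
          exact zero_ne_one h3)
        have hnn : D.simple j ≠ D.neg (D.simple i) := by
          have := C.neg_eq _ (simple_lt C hi); have := (C.simple_mem i hi).1; have := (C.simple_mem j hj).1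
          have := C.even; omega
        have hcm : Commute (xg C (D.simple i) (1 : F)) (xg C (D.simple j) 1) :=
          comm_of_terms C (simple_lt C hi) (simple_lt C hj) (Ne.symm hsij) hnn
            (fun q hq => by rw [hterms] at hq; simp at hq) 1 1
        set y := xg C (D.simple i) (1 : F) * xg C (D.simple j) 1
        have hni : y ∉ upSub D F i := fun h => notUp i hi (by
          have h5 : xg C (D.simple j) (1 : F) ∈ upSub D F i :=
            Subgroup.subset_closure ⟨_, _, (isPos C).2 (C.simple_mem j hj), Ne.symm hsij, coe_xg C _ _⟩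
          have := mul_mem h (inv_mem h5)
          rwa [mul_inv_cancel_right] at this)
        have hnj : y ∉ upSub D F j := fun h => notUp j hj (by
          have h5 : xg C (D.simple i) (1 : F) ∈ upSub D F j :=
            Subgroup.subset_closure ⟨_, _, (isPos C).2 (C.simple_mem i hi), hsij, coe_xg C _ _⟩
          have := mul_mem (inv_mem h5) h
          rwa [inv_mul_cancel_left] at this)
        have hyU : y ∈ D.posUnipotent F := mul_mem (simpleU i hi) (simpleU j hj)
        refine ⟨y, hyU, mul_mem (mk _) (mk _), ?_, fun h => hni (h ▸ one_mem _), ?_⟩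
        · calc y * y = (xg C (D.simple i) 1 * xg C (D.simple i) 1) * (xg C (D.simple j) (1 : F) * xg C (D.simple j) 1) := by
                simp only [y]
                rw [mul_assoc, ← mul_assoc (xg C (D.simple j) (1 : F)), ← hcm.eq]; group
            _ = 1 := by rw [sq, sq, one_mul]
        · refine notconj i hi y hyU hni fun r c v hlt _ hpos hvU e he => ?_
          exact hnj (e ▸ outside r c v j hj hpos hlt (he ▸ hsij) hvU)
    -- the conjugates of `y` are fixed
    have hyfix : ∀ g ∈ M, g * y * g⁻¹ ∈ fixedPart σ M := by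
      intro g hg
      set z := g * y * g⁻¹
      have hzM : z ∈ M := mul_mem (mul_mem hg hyR.1) (inv_mem hg)
      have hzz : z * z = 1 := by
        calc g * y * g⁻¹ * (g * y * g⁻¹) = g * (y * y) * g⁻¹ := by group
          _ = 1 := by rw [hy2, mul_one, mul_inv_cancel]
      have hfin : IsOfFinOrder (x * z) := by
        have h := (isOfFinOrder_of_finite (⟨x * z, mul_mem hxR.1 hzM⟩ : ↥M))
        exact M.subtype.isOfFinOrder h
      rcases involution_pair hxx hzz hfin with ⟨k, hk⟩ | ⟨n, hn1, hn2, hcx, hcz⟩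
      · exfalso
        have ha : (x * z) ^ k ∈ D.group F := X.le (pow_mem (mul_mem hxR.1 hzM) k)
        refine hyk (g⁻¹ * ((x * z) ^ k)⁻¹) (mul_mem (inv_mem (X.le hg)) (inv_mem ha)) ?_
        rw [show g⁻¹ * ((x * z) ^ k)⁻¹ * x * (g⁻¹ * ((x * z) ^ k)⁻¹)⁻¹ =
          g⁻¹ * (((x * z) ^ k)⁻¹ * x * (x * z) ^ k) * g by group, hk]
        simp only [z]; group
      · have he : (x * z) ^ n ∈ fixedPart σ M := hCx _ (pow_mem (mul_mem hxR.1 hzM) n) hcx.symm
        exact centralizer_fixed C 2 S σ X he (N := 1) (by rw [pow_one]; exact hn2) hn1 hzM hcz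
    -- `x` commutes with `y`
    refine fixed_of_conj C σ S X hM ?_
    have hzy := hyfix h hM
    have hcxy : Commute x y := ChevRootCentralizer.commute_U C (fun s h1 h2 c => top_comm C h1 h2 1 c) hyU
    have hc2 : Commute (h * x * h⁻¹) (h * y * h⁻¹) := by
      have := hcxy.map (MulAut.conj h)
      simpa using this
    refine (centralizer_fixed C 2 S σ X hzy (N := 1) ?_ ?_ (mul_mem (mul_mem hM hxR.1) (inv_mem hM)) hc2).2
    · rw [pow_one, pow_two]
      calc h * y * h⁻¹ * (h * y * h⁻¹) = h * (y * y) * h⁻¹ := by group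
        _ = 1 := by rw [hy2, mul_one, mul_inv_cancel]
    · intro h1
      refine hy1 ?_
      have := congrArg (fun w => h⁻¹ * w * h) h1
      simpa [mul_assoc] using this
  -- odd characteristic
  refine fixed_of_conj C σ S X hM ?_
  have hpairs : topPairs D = true := hdata.1.1.1.1.1.1.1.1.2
  obtain ⟨r, c, n, b, v, hr, hlong, hc0, -, hv, -, ez⟩ := conj_form C S X.data hcl (X.le hM)
  have hvU : v ∈ D.posUnipotent F := S.Uw_le_U _ hv
  set z := h * x * h⁻¹
  have hzM : z ∈ M := mul_mem (mul_mem hM hxR.1) (inv_mem hM)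
  have hvx : Commute v x :=
    (ChevRootCentralizer.commute_U C (fun q h1 h2 c => top_comm C h1 h2 1 c) hvU).symm
  have viaX : Commute (xg C r c) x → fr σ z = z := fun hrx => by
    refine (hCx z hzM ?_).2
    rw [ez]
    exact (hvx.inv_left.mul_left hrx).mul_left hvx
  by_cases hpos : D.nroots / 2 ≤ r
  · exact viaX (top_comm C hpos hr 1 c).symm
  have oppCase : r = D.neg (top D) → fr σ z = z := fun h1 => by
    subst h1
    haveI : Finite ↥(M.map (MulAut.conj v).toMonoidHom) := by
      have := Finite.of_surjective (fun g : ↥M =>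
        (⟨(MulAut.conj v).toMonoidHom g.1, Subgroup.mem_map_of_mem _ g.2⟩ : ↥(M.map (MulAut.conj v).toMonoidHom)))
        (fun y => by
          obtain ⟨g, hg, e⟩ := Subgroup.mem_map.1 y.2
          exact ⟨⟨g, hg⟩, Subtype.ext e⟩)
      exact this
    have m1 : x ∈ M.map (MulAut.conj v).toMonoidHom :=
      ⟨x, hxR.1, by simp [hvx.eq]⟩
    have m2 : xg C (D.neg (top D)) c ∈ M.map (MulAut.conj v).toMonoidHom :=
      ⟨z, hzM, by simp [ez, mul_assoc]⟩
    obtain ⟨e, heM, he⟩ := ChevSubfieldSL2.hg_neg_one_mem p C hp hT _ hc0 m1 m2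
    set τ := hg C (top D) (-1 : F)
    have he' : e = v⁻¹ * τ * v := by
      simp only [MulEquiv.coe_toMonoidHom, MulAut.conj_apply] at he
      rw [← he]; group
    have hτx : Commute τ x := by
      show _ * _ = _ * _
      rw [hg_conj_xg C hT hT (neg_ne_zero.2 one_ne_zero), C.pair_self _ hT]
      simp [x, τ]
    have hτn : Commute τ (xg C (D.neg (top D)) c) := by
      show _ * _ = _ * _
      rw [hg_conj_xg C hT (C.neg_lt _) (neg_ne_zero.2 one_ne_zero), ChevBruhatInstance.pairing_neg C hT,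
        C.pair_self _ hT]
      simp [τ]
    have hefix : fr σ e = e := by
      refine (hCx e heM ?_).2
      rw [he']
      exact (hvx.inv_left.mul_left hτx).mul_left hvx
    have h2 : (2 : F) ≠ 0 := by
      have : ((2 : ℕ) : F) ≠ 0 := fun h0 => hp ((Nat.prime_dvd_prime_iff_eq Fact.out Nat.prime_two).1
        ((CharP.cast_eq_zero_iff F p 2).1 h0))
      simpa using this
    have hv' : v⁻¹ ∈ uGe C (F := F) (D.nroots / 2) := by rw [← posUnipotent_eq C]; exact inv_mem hvU
    obtain ⟨w, hw, ew⟩ := tau_class C σ hT h2 _ _ rfl le_rfl _ hv' (by rw [inv_inv, ← he']; exact hefix)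
    rw [inv_inv] at ew
    have hze : Commute z e := by
      rw [ez, he']
      have := hτn.symm.map (MulAut.conj v⁻¹)
      simpa using this
    have hwM : w ∈ M := X.fixed_le hw
    have hwz : Commute (w⁻¹ * z * w) τ := by
      have h4 : Commute z (w * τ * w⁻¹) := by rw [ew, ← he']; exact hze
      have := h4.map (MulAut.conj w⁻¹)
      simpa [mul_assoc] using this
    have h3 := tau_centralizer C p σ S hp X hcl (mul_mem (mul_mem (inv_mem hwM) hzM) hwM) hwz
    rw [map_mul, map_mul, map_inv, fr_fixedRoots σ C hw] at h3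
    exact mul_left_cancel (mul_right_cancel h3)
  simp only [topPairs, List.all_eq_true, List.mem_range, Bool.or_eq_true, Bool.not_eq_true', beq_iff_eq,
    List.isEmpty_iff] at hpairs
  rcases hpairs r (by omega) with ((h1 | h1) | h1) | h1
  · rw [hlong] at h1; exact Bool.noConfusion h1
  · exact oppCase h1
  · rcases eq_or_ne r (D.neg (top D)) with h5 | h5
    · exact oppCase h5
    · exact viaX (comm_of_terms C hT hr (by omega) h5 (fun q hq => by rw [h1] at hq; simp at hq) 1 c).symm
  · -- a Heisenberg pair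
    split at h1
    swap
    · exact Bool.noConfusion h1
    rename_i q N a b hterms
    simp only [Bool.and_eq_true, beq_iff_eq, List.isEmpty_iff, bne_iff_ne] at h1
    obtain ⟨⟨⟨⟨⟨⟨⟨⟨hN, rfl⟩, rfl⟩, hq1⟩, hq2⟩, hqr⟩, hqT⟩, hqnr⟩, hqnT⟩ := h1
    have hrT : r ≠ top D := by omega
    rcases eq_or_ne r (D.neg (top D)) with hrn | hrn
    · exact oppCase hrn
    have hq : q < D.nroots := (commTerms_mem C hT hr (hterms ▸ List.mem_singleton_self _)).1
    set d := (N : F) * (-1) * c
    have hd : d ≠ 0 := by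
      refine mul_ne_zero (mul_ne_zero ?_ (neg_ne_zero.2 one_ne_zero)) hc0
      rcases Int.natAbs_eq N with e | e <;> rw [e, hN] <;> simp
    have hform : xg C r c * x = x * xg C r c * xg C q d := by
      rw [hx, comm_formula C hT hr hrT hrn 1 c]
      congr 1
      simp [ChevalleyDatum.commWord, hterms, wg, d]
    set e := v⁻¹ * xg C q d * v
    have heM : e ∈ M := by
      have e1 : e = (x * z)⁻¹ * (z * x) := by
        have h5 := hvx.eq
        have h6 : x = v⁻¹ * x * v := by rw [mul_assoc, ← h5, inv_mul_cancel_left]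
        calc e = v⁻¹ * ((x * xg C r c)⁻¹ * (xg C r c * x)) * v := by rw [hform]; simp only [e]; group
          _ = (v⁻¹ * x * v * (v⁻¹ * xg C r c * v))⁻¹ * (v⁻¹ * xg C r c * v * (v⁻¹ * x * v)) := by group
          _ = _ := by rw [← h6, ← ez]
      rw [e1]
      exact mul_mem (inv_mem (mul_mem hxR.1 hzM)) (mul_mem hzM hxR.1)
    have hex : Commute e x :=
      (hvx.inv_left.mul_left (comm_of_terms C hT hq hqT hqnT (fun s hs => by rw [hq1] at hs; simp at hs) 1 d).symm).mul_left hvx
    have hefix := hCx e heM hex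
    have hep : e ^ p ^ 1 = 1 := by
      have : ∀ k : ℕ, e ^ k = v⁻¹ * (xg C q d) ^ k * v := fun k => by
        induction k with
        | zero => simp
        | succ k ih => rw [pow_succ, ih, pow_succ]; simp only [e]; group
      rw [this, xg_pow_char C p, mul_one, inv_mul_cancel]
    have he1 : e ≠ 1 := fun h0 => xg_ne_one C hq hd (by
      have := congrArg (fun w => v * w * v⁻¹) h0
      simpa [e, mul_assoc] using this)
    have hze : Commute z e := by
      rw [ez]
      have := (comm_of_terms C hr hq hqr hqnr (fun s hs => by rw [hq2] at hs; simp at hs) c d).map (MulAut.conj v⁻¹)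
      simpa [e] using this
    exact (centralizer_fixed C p S σ X hefix hep he1 hzM hze).2

end Cfsg.Agent.ChevSubfieldPairs
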