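import Cfsg.Agent.Lib.ChevF4PeelCheckA
import Cfsg.Agent.Lib.ChevF4PeelCheckB
import Cfsg.Agent.Lib.ChevF4PeelCheckC
import Cfsg.Agent.Lib.ChevF4PeelCheckD
import Cfsg.Agent.Lib.ChevF4InvolRanks
import Cfsg.Agent.Lib.ChevInvolClassBase
import Cfsg.Agent.Lib.ChevSubfieldPairs
import Cfsg.Agent.Lib.ChevSubfieldConfig

/-!
The involutions of F₄ in characteristic two up to conjugation.
-/

set_option autoImplicit false
set_option linter.unusedSectionVars false

namespace Cfsg.Agent.ChevF4InvolClasses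

open Cfsg.Lie Cfsg.Agent.ChevalleyEngine Cfsg.Agent.ChevalleyCert Cfsg.Agent.ChevalleyRoots
open Cfsg.Agent.ChevalleyCore Cfsg.Agent.ChevalleyTorus Cfsg.Agent.ChevBruhat Cfsg.Agent.ChevalleyUnipotent
open Cfsg.Agent.ChevRootCentralizer Cfsg.Agent.ChevInvolClassBase Cfsg.Agent.ChevSubfieldSpecial
open Cfsg.Agent.ChevPeelEngine Cfsg.Agent.ChevF4PeelCert Cfsg.Agent.ChevF4InvolRanks Cfsg.Agent.ChevalleyExp

theorem nroots_eq : chevF4.nroots = 48 ∧ chevF4.rank = 4 := by decide +kernel

theorem pairings :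
    chevF4.pairing 24 47 = 1 ∧ chevF4.pairing 24 44 = 0 ∧ chevF4.pairing 33 47 = 0 ∧ chevF4.pairing 33 44 = 1 ∧
    chevF4.pairing 28 39 = 1 ∧ chevF4.pairing 28 45 = 0 ∧ chevF4.pairing 30 39 = 0 ∧ chevF4.pairing 30 45 = 1 := by
  decide +kernel

theorem nils : chevF4.commTerms 47 44 = [] ∧ chevF4.commTerms 39 45 = [] ∧
    44 ≠ chevF4.neg 47 ∧ 45 ≠ chevF4.neg 39 := by
  decide +kernel

/-- a node in a checked range -/
theorem of_range {a n i : ℕ} (h : checkRange chevF4 300 targets cert a n = true) (h1 : a ≤ i) (h2 : i < a + n) :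
    checkNode chevF4 300 targets cert i = true := by
  rw [checkRange, List.all_eq_true] at h
  exact h i (List.mem_range'_1.2 ⟨h1, h2⟩)

open ChevF4PeelCheckA ChevF4PeelCheckB ChevF4PeelCheckC ChevF4PeelCheckD in
theorem cert_ok : ∀ i, i < cert.size → checkNode chevF4 300 targets cert i = true := by
  intro i hi
  rw [cert_size] at hi
  by_cases h0 : i < 85; · exact of_range check0 (by omega) (by omega)
  by_cases h1 : i < 170; · exact of_range check1 (by omega) (by omega)
  by_cases h2 : i < 255; · exact of_range check2 (by omega) (by omega)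
  by_cases h3 : i < 340; · exact of_range check3 (by omega) (by omega)
  by_cases h4 : i < 425; · exact of_range check4 (by omega) (by omega)
  by_cases h5 : i < 510; · exact of_range check5 (by omega) (by omega)
  by_cases h6 : i < 595; · exact of_range check6 (by omega) (by omega)
  by_cases h7 : i < 680; · exact of_range check7 (by omega) (by omega)
  by_cases h8 : i < 765; · exact of_range check8 (by omega) (by omega)
  by_cases h9 : i < 850; · exact of_range check9 (by omega) (by omega)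
  by_cases h10 : i < 935; · exact of_range check10 (by omega) (by omega)
  by_cases h11 : i < 1020; · exact of_range check11 (by omega) (by omega)
  by_cases h12 : i < 1105; · exact of_range check12 (by omega) (by omega)
  by_cases h13 : i < 1190; · exact of_range check13 (by omega) (by omega)
  by_cases h14 : i < 1275; · exact of_range check14 (by omega) (by omega)
  exact of_range check15 (by omega) (by omega)

variable (C : Cert chevF4) {F : Type*} [Field F] [CharP F 2]

include C

theorem sq_one (r : ℕ) (c : F) : xg C r c * xg C r c = 1 := by rw [xg_mul, CharTwo.add_self_eq_zero, xg_zero]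

theorem comm_top (c d : F) : Commute (xg C 47 c) (xg C 44 d) :=
  comm_nil C (by rw [nroots_eq.1]; omega) (by rw [nroots_eq.1]; omega) (by omega) nils.2.2.1 nils.1 c d

theorem comm_pair (c d : F) : Commute (xg C 39 c) (xg C 45 d) :=
  comm_nil C (by rw [nroots_eq.1]; omega) (by rw [nroots_eq.1]; omega) (by omega) nils.2.2.2 nils.2.1 c d

theorem cj_scale_two {p q r s : ℕ} (hp : p < 48) (hq : q < 48) (hr : r < 48) (hs : s < 48)
    (hpr : chevF4.pairing p r = 1) (hps : chevF4.pairing p s = 0) (hqr : chevF4.pairing q r = 0)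
    (hqs : chevF4.pairing q s = 1) {a b : F} (ha : a ≠ 0) (hb : b ≠ 0) :
    Cj chevF4 (xg C r a * xg C s b) (xg C r 1 * xg C s 1) := by
  rw [← nroots_eq.1] at hp hq hr hs
  refine Cj.trans (v := xg C r 1 * xg C s b) ⟨hg C p a⁻¹, hg_mem_group C p _, ?_⟩
    ⟨hg C q b⁻¹, hg_mem_group C q _, ?_⟩
  · rw [← MulAut.conj_apply, map_mul, MulAut.conj_apply, MulAut.conj_apply, hg_conj_xg C hp hr (inv_ne_zero ha),
      hg_conj_xg C hp hs (inv_ne_zero ha), mul_inv_cancel_right, mul_inv_cancel_right, hpr, hps, zpow_one, zpow_zero,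
      one_mul, inv_mul_cancel₀ ha]
  · rw [← MulAut.conj_apply, map_mul, MulAut.conj_apply, MulAut.conj_apply, hg_conj_xg C hq hr (inv_ne_zero hb),
      hg_conj_xg C hq hs (inv_ne_zero hb), mul_inv_cancel_right, mul_inv_cancel_right, hqr, hqs, zpow_one, zpow_zero,
      one_mul, inv_mul_cancel₀ hb]

/-- the four classes -/
theorem classify [Finite F] {u : GL chevF4.Idx F} (hu : u ∈ chevF4.posUnipotent F) (h2 : u * u = 1) (h1 : u ≠ 1) :
    Cj chevF4 u (xg C 47 1) ∨ Cj chevF4 u (xg C 44 1) ∨ Cj chevF4 u (xg C 47 1 * xg C 44 1) ∨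
      Cj chevF4 u (xg C 39 1 * xg C 45 1) := by
  obtain ⟨⟨S, P, st⟩, hst, e⟩ := Option.map_eq_some_iff.1 cert_root
  rw [Prod.mk.injEq] at e
  obtain ⟨e1, e2⟩ := e
  subst e1 e2
  rw [posUnipotent_eq C, show chevF4.nroots / 2 = 24 by rw [nroots_eq.1]] at hu
  obtain ⟨t, -, rfl⟩ := exists_uProd C (by rw [nroots_eq.1]) hu
  have he : uProd C 24 t = stEval C (List.range' 24 24) t := by
    simp only [uProd, stEval, wg, nroots_eq.1, List.map_map, Function.comp_def, show 48 - 24 = 24 from rfl]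
  rw [he] at h1 h2 ⊢
  obtain ⟨X, hX, μ, hμ, hcj⟩ :=
    node_good C targets 300 cert cert_ok 1359 _ _ st hst t (by simp) h2
  have hp := pairings
  simp only [targets, List.mem_cons, List.not_mem_nil, or_false] at hX
  rcases hX with rfl | rfl | rfl | rfl | rfl
  · refine absurd ?_ h1
    obtain ⟨h, -, e⟩ := hcj
    calc stEval C (List.range' 24 24) t = h⁻¹ * (h * stEval C (List.range' 24 24) t * h⁻¹) * h := by group
      _ = 1 := by rw [e]; simp [stEval, wg]
  · refine Or.inl (hcj.trans ((Cj.of_eq (by simp [stEval, wg])).trans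
      (cj_scale C (r := 24) (by rw [nroots_eq.1]; omega) (by rw [nroots_eq.1]; omega) hp.1 (hμ 47 (by simp)))))
  · refine Or.inr (Or.inl (hcj.trans ((Cj.of_eq (by simp [stEval, wg])).trans
      (cj_scale C (r := 33) (by rw [nroots_eq.1]; omega) (by rw [nroots_eq.1]; omega) hp.2.2.2.1
        (hμ 44 (by simp))))))
  · refine Or.inr (Or.inr (Or.inl (hcj.trans ((Cj.of_eq (v := xg C 47 (μ 47) * xg C 44 (μ 44))
      (by simp [stEval, wg, (comm_top C (μ 47) (μ 44)).eq])).trans
      (cj_scale_two C (p := 24) (q := 33) (by omega) (by omega) (by omega) (by omega) hp.1 hp.2.1 hp.2.2.1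
        hp.2.2.2.1 (hμ 47 (by simp)) (hμ 44 (by simp)))))))
  · refine Or.inr (Or.inr (Or.inr (hcj.trans ((Cj.of_eq (v := xg C 39 (μ 39) * xg C 45 (μ 45))
      (by simp [stEval, wg])).trans
      (cj_scale_two C (p := 28) (q := 30) (by omega) (by omega) (by omega) (by omega) hp.2.2.2.2.1 hp.2.2.2.2.2.1
        hp.2.2.2.2.2.2.1 hp.2.2.2.2.2.2.2 (hμ 39 (by simp)) (hμ 45 (by simp)))))))

/-! ### ranks -/

/-- the rank of an element minus one -/
noncomputable def rk (g : GL chevF4.Idx F) : ℕ := ((g : Matrix chevF4.Idx chevF4.Idx F) - 1).rank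

omit C in
theorem rk_conj {g g' : GL chevF4.Idx F} (h : Cj chevF4 g g') : rk g' ≤ rk g := by
  obtain ⟨a, -, rfl⟩ := h
  have e : ((a * g * a⁻¹ : GL chevF4.Idx F) : Matrix chevF4.Idx chevF4.Idx F) - 1 =
      (a : Matrix chevF4.Idx chevF4.Idx F) * ((g : Matrix chevF4.Idx chevF4.Idx F) - 1) *
        ((a⁻¹ : GL chevF4.Idx F) : Matrix chevF4.Idx chevF4.Idx F) := by
    rw [Matrix.mul_sub, Matrix.sub_mul, Matrix.mul_one, ← Units.val_mul a a⁻¹, mul_inv_cancel, Units.val_one,
      Units.val_mul, Units.val_mul]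
  rw [rk, rk, e]
  exact (Matrix.rank_mul_le_left _ _).trans (Matrix.rank_mul_le_right _ _)

omit C in
theorem Cj.symm {g g' : GL chevF4.Idx F} (h : Cj chevF4 g g') : Cj chevF4 g' g := by
  obtain ⟨a, ha, rfl⟩ := h
  exact ⟨a⁻¹, inv_mem ha, by group⟩

omit C in
theorem rk_eq {g g' : GL chevF4.Idx F} (h : Cj chevF4 g g') : rk g' = rk g :=
  le_antisymm (rk_conj h) (rk_conj (Cj.symm h))

theorem xg_mod_two {r : ℕ} (hr : r < 48) {A : Matrix chevF4.Idx chevF4.Idx (ZMod 2)}
    (e : xR chevF4 (ZMod 2) r 1 = 1 + A) :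
    ((xg C r (1 : F) : GL chevF4.Idx F) : Matrix chevF4.Idx chevF4.Idx F) =
      1 + A.map (ZMod.castHom (dvd_refl 2) F) := by
  have h := congrArg (RingHom.mapMatrix (ZMod.castHom (dvd_refl 2) F)) e
  rw [map_add, map_one] at h
  simp only [RingHom.mapMatrix_apply, xR_map, map_one] at h
  rw [coe_xg, x_eq_xR C (by rw [nroots_eq.1]; exact hr), h]

theorem rk_single {r : ℕ} (hr : r < 48) {A : Matrix chevF4.Idx chevF4.Idx (ZMod 2)}
    (e : xR chevF4 (ZMod 2) r 1 = 1 + A) : rk (xg C r (1 : F)) = (A.map (ZMod.castHom (dvd_refl 2) F)).rank := by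
  rw [rk, xg_mod_two C hr e, add_sub_cancel_left]

theorem rk_double {r s : ℕ} (hr : r < 48) (hs : s < 48) {A B : Matrix chevF4.Idx chevF4.Idx (ZMod 2)}
    (e : xR chevF4 (ZMod 2) r 1 = 1 + A) (e' : xR chevF4 (ZMod 2) s 1 = 1 + B) :
    rk (xg C r (1 : F) * xg C s 1) = ((A + B + A * B).map (ZMod.castHom (dvd_refl 2) F)).rank := by
  rw [rk, Units.val_mul, xg_mod_two C hr e, xg_mod_two C hs e', Matrix.map_add _ (map_add _),
    Matrix.map_add _ (map_add _), Matrix.map_mul]
  congr 1
  noncomm_ring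

omit C in
theorem rank_le_of_factor {k : ℕ} {A : Matrix chevF4.Idx chevF4.Idx (ZMod 2)}
    {L : Matrix chevF4.Idx (Fin k) (ZMod 2)} {R : Matrix (Fin k) chevF4.Idx (ZMod 2)} (e : A = L * R) :
    (A.map (ZMod.castHom (dvd_refl 2) F)).rank ≤ k := by
  rw [e, Matrix.map_mul]
  exact (Matrix.rank_mul_le_left _ _).trans ((Matrix.rank_le_card_width _).trans (by rw [Fintype.card_fin]))

omit C in
theorem le_rank_of_unit {k : ℕ} {A : Matrix chevF4.Idx chevF4.Idx (ZMod 2)}
    {L : Matrix (Fin k) chevF4.Idx (ZMod 2)} {R : Matrix chevF4.Idx (Fin k) (ZMod 2)} (e : L * A * R = 1) :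
    k ≤ (A.map (ZMod.castHom (dvd_refl 2) F)).rank := by
  have h := congrArg (fun M : Matrix (Fin k) (Fin k) (ZMod 2) => M.map (ZMod.castHom (dvd_refl 2) F)) e
  simp only [Matrix.map_mul] at h
  rw [Matrix.map_one _ (map_zero _) (map_one _)] at h
  have h2 : (L.map (ZMod.castHom (dvd_refl 2) F) * A.map (ZMod.castHom (dvd_refl 2) F) *
      R.map (ZMod.castHom (dvd_refl 2) F)).rank = k := by rw [h, Matrix.rank_one, Fintype.card_fin]
  exact h2.symm.le.trans ((Matrix.rank_mul_le_left _ _).trans (Matrix.rank_mul_le_right _ _))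

theorem rk47 : rk (xg C 47 (1 : F)) ≤ 16 := by
  rw [rk_single C (by omega) eq47]; exact rank_le_of_factor upper47

theorem rk44 : rk (xg C 44 (1 : F)) ≤ 16 := by
  rw [rk_single C (by omega) eq44]; exact rank_le_of_factor upper44

theorem rkTop : 21 ≤ rk (xg C 47 (1 : F) * xg C 44 1) ∧ rk (xg C 47 (1 : F) * xg C 44 1) ≤ 21 := by
  rw [rk_double C (by omega) (by omega) eq47 eq44]
  exact ⟨le_rank_of_unit lowerTop, rank_le_of_factor upperTop⟩

theorem rkPair : 24 ≤ rk (xg C 39 (1 : F) * xg C 45 1) := by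
  rw [rk_double C (by omega) (by omega) eq39 eq45]
  exact le_rank_of_unit lowerPair

omit C in
theorem rk_one : rk (1 : GL chevF4.Idx F) = 0 := by simp [rk]

/-- the short root involution is not a long one -/
theorem not_cj (S : Sys chevF4 F) : ¬ Cj chevF4 (xg C 47 (1 : F)) (xg C 44 1) := by
  rintro ⟨g, hg, e⟩
  have hT : ChevSubfieldData.top chevF4 = 47 := by rw [ChevSubfieldData.top, nroots_eq.1]
  have hlt : ∀ {r : ℕ}, r < 48 → r < chevF4.nroots := fun h => by rw [nroots_eq.1]; exact h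
  have hge : ∀ {r : ℕ}, 24 ≤ r → chevF4.nroots / 2 ≤ r := fun h => by rw [nroots_eq.1]; exact h
  obtain ⟨r, c, n, b, v, hr, hlong, hc0, -, hv, -, ez⟩ :=
    ChevSubfieldPairs.conj_form C S ChevSubfieldData.common_f4 (fun r hr hl i hi => by
      have h := ChevSubfieldConfig.closed_f4
      simp only [ChevSubfieldConfig.longClosed, List.all_eq_true, List.mem_range, Bool.or_eq_true,
        Bool.not_eq_true', Bool.and_eq_true] at h
      rcases h r hr with h | h
      · rw [hl] at h; exact Bool.noConfusion h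
      · exact h.2 i hi) hg
  rw [hT, e] at ez
  have hvU : v ∈ chevF4.posUnipotent F := S.Uw_le_U _ hv
  obtain ⟨z, hz, hlead⟩ := ChevRadicalCentralizer.conj_leading C (hge (show 24 ≤ 44 by omega))
    (hlt (show 44 < 48 by omega)) hvU (1 : F)
  have hx : xg C r c = xg C 44 1 * z := by rw [← hlead, ez]; group
  have hmem : ∀ {q k : ℕ}, k ≤ q → 24 ≤ q → q < 48 → ∀ d : F, xg C q d ∈ uGe C (F := F) k :=
    fun hk h24 hq d => xg_mem_uGe C hk (hge h24) (hlt hq) d
  have hpos : chevF4.nroots / 2 ≤ r := by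
    by_contra hcon
    have hxU : xg C r c ∈ chevF4.posUnipotent F := by
      rw [hx]
      exact mul_mem (xg_mem_U C (hge (by omega)) (hlt (by omega)) 1)
        (ChevSubfieldUnipotent.uGe_le_U C (by rw [nroots_eq.1]; omega) hz)
    have h3 := Subgroup.mem_inf.mpr
      ⟨Sys.U_le_B hxU, ChevalleyUnipotent.xg_mem_V C (show r < _ by omega) c⟩
    rw [S.B_inf_V, Subgroup.mem_bot] at h3
    exact hc0 (by
      by_contra hc
      exact hc (ChevBruhatInstance.xg_injective C hr hr hc (h3.trans (xg_zero C r).symm)).2)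
  rw [nroots_eq.1] at hpos hr
  rcases lt_trichotomy r 44 with h | h | h
  · refine hc0 ((coeff_unique C (hge hpos) (hlt (by omega)) (v := 1) (v' := xg C 44 1 * z) (t := c) (t' := 0)
      (one_mem _) (mul_mem (hmem (by omega) (by omega) (by omega) 1) ?_) (by rw [mul_one, xg_zero, one_mul, hx])).1)
    exact uGe_mono C (by omega) hz
  · subst h
    exact Bool.false_ne_true ((show ChevSubfieldData.isLong chevF4 44 = false by decide +kernel).symm.trans hlong)
  · have h4 := coeff_unique C (hge (show 24 ≤ 44 by omega)) (hlt (show 44 < 48 by omega)) (t := 1) (t' := 0)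
      (v := z) (v' := xg C r c) hz (hmem (by omega) (by omega) hr c) (by rw [xg_zero, one_mul, hx])
    exact one_ne_zero h4.1

/-- distinct representatives are not conjugate -/
theorem separate (S : Sys chevF4 F) {a b : GL chevF4.Idx F}
    (ha : a = xg C 47 1 ∨ a = xg C 44 1 ∨ a = xg C 47 1 * xg C 44 1 ∨ a = xg C 39 1 * xg C 45 1)
    (hb : b = xg C 47 1 ∨ b = xg C 44 1 ∨ b = xg C 47 1 * xg C 44 1 ∨ b = xg C 39 1 * xg C 45 1)
    (h : Cj chevF4 a b) : a = b := by
  have e := rk_eq h
  have h1 := rk47 C (F := F)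
  have h2 := rk44 C (F := F)
  have h3 := rkTop C (F := F)
  have h4 := rkPair C (F := F)
  rcases ha with rfl | rfl | rfl | rfl <;> rcases hb with rfl | rfl | rfl | rfl <;>
    first
      | rfl
      | omega
      | exact absurd h (not_cj C S)
      | exact absurd (Cj.symm h) (not_cj C S)

theorem order_two {a : GL chevF4.Idx F}
    (ha : a = xg C 47 1 ∨ a = xg C 44 1 ∨ a = xg C 47 1 * xg C 44 1 ∨ a = xg C 39 1 * xg C 45 1) :
    a ∈ chevF4.group F ∧ orderOf a = 2 := by
  have single : ∀ r, r < 48 → (xg C r (1 : F)) ≠ 1 := fun r hr h =>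
    one_ne_zero (ChevBruhatInstance.xg_injective C (by rw [nroots_eq.1]; exact hr)
      (show r < chevF4.nroots by rw [nroots_eq.1]; exact hr) one_ne_zero (h.trans (xg_zero C r).symm)).2
  rcases ha with rfl | rfl | rfl | rfl
  · exact ⟨xg_mem_group C _ _, orderOf_eq_prime (by rw [pow_two, sq_one]) (single 47 (by omega))⟩
  · exact ⟨xg_mem_group C _ _, orderOf_eq_prime (by rw [pow_two, sq_one]) (single 44 (by omega))⟩
  · refine ⟨mul_mem (xg_mem_group C _ _) (xg_mem_group C _ _), orderOf_eq_prime ?_ fun h => ?_⟩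
    · rw [(comm_top C 1 1).mul_pow, pow_two, pow_two, sq_one, sq_one, one_mul]
    · have := (rkTop C (F := F)).1
      rw [h, rk_one] at this; omega
  · refine ⟨mul_mem (xg_mem_group C _ _) (xg_mem_group C _ _), orderOf_eq_prime ?_ fun h => ?_⟩
    · rw [(comm_pair C 1 1).mul_pow, pow_two, pow_two, sq_one, sq_one, one_mul]
    · have := rkPair C (F := F)
      rw [h, rk_one] at this; omega

end Cfsg.Agent.ChevF4InvolClasses
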