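import Cfsg.Agent.Lib.ChevRootLists

/-!
The centralizers of `x_47(1) x_44(1)` and `x_39(1) x_45(1)` in F₄ in characteristic two.
-/

set_option autoImplicit false
set_option linter.unusedSectionVars false

namespace Cfsg.Agent.ChevF4Involutions

open Cfsg.Lie Cfsg.Agent.ChevalleyEngine Cfsg.Agent.ChevalleyCert Cfsg.Agent.ChevalleyRoots
open Cfsg.Agent.ChevalleyCore Cfsg.Agent.ChevalleyTorus Cfsg.Agent.ChevBruhat
open Cfsg.Agent.ChevRootCentralizer Cfsg.Agent.ChevRootLists

/-- positive roots -/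
def posL : List ℕ := List.range' 24 24

/-- generators of the parabolic subgroup of the nodes 0 and 3 -/
def parL : List ℕ := [14, 23] ++ posL

/-- roots of the correction terms -/
def kL : List ℕ := [40, 44, 46, 47]

/-- the radical -/
def radL : List ℕ := posL.filter fun r => !([33, 24].contains r)

/-- the part of the radical inside the centralizer -/
def lmL : List ℕ := posL.filter fun r => !([33, 24, 27, 34, 25, 26].contains r)

theorem sizes : chevF4.nroots = 48 ∧ chevF4.rank = 4 := by decide +kernel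

variable (C : Cert chevF4) {F : Type*} [Field F]

include C

theorem isPos_posL {r : ℕ} : chevF4.IsPosRoot r ↔ r ∈ posL := by
  rw [isPos C, sizes.1, posL, List.mem_range'_1]

theorem posUnipotent_eq_rootsSub : chevF4.posUnipotent F = rootsSub C posL := by
  rw [rootsSub, ChevalleyDatum.posUnipotent]
  congr 1
  ext g
  constructor
  · rintro ⟨r, t, hr, hg⟩; exact ⟨r, (isPos_posL C).1 hr, t, (xg_eq_iff C).1 hg⟩
  · rintro ⟨r, hr, t, rfl⟩; exact ⟨r, t, (isPos_posL C).2 hr, rfl⟩

/-- the commuting checks -/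
theorem tables :
    normOK chevF4 parL kL = true ∧
    (parL.all fun s => [39, 45].all fun r => r == s || (r != chevF4.neg s && termsOK chevF4 s r kL)) = true ∧
    ((parL.filter fun s => !([27, 34, 25, 26].contains s)).all fun s =>
      [39, 45].all fun r => r == s || (r != chevF4.neg s && termsOK chevF4 s r [])) = true ∧
    normOK chevF4 [14, 23, 33, 24] radL = true ∧
    normOK chevF4 [27] ([34, 25, 26] ++ lmL) = true ∧ normOK chevF4 [34] ([25, 26] ++ lmL) = true ∧
    normOK chevF4 [25] (26 :: lmL) = true ∧ normOK chevF4 [26] lmL = true ∧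
    ([39, 45, 40, 44, 46, 47, 27, 34, 25, 26].all fun s => kL.all fun r =>
      r == s || (r != chevF4.neg s && termsOK chevF4 s r [])) = true ∧
    chevF4.commTerms 27 39 = [(40, 1, 1, 1)] ∧ chevF4.commTerms 34 39 = [(44, 1, 1, 1)] ∧
    chevF4.commTerms 25 45 = [(46, 1, 1, 1)] ∧ chevF4.commTerms 26 45 = [(47, 1, 1, 1)] ∧
    chevF4.commTerms 27 45 = [] ∧ chevF4.commTerms 34 45 = [] ∧
    chevF4.commTerms 25 39 = [] ∧ chevF4.commTerms 26 39 = [] := by
  decide +kernel

theorem parL_lt {s : ℕ} (h : s ∈ parL) : s < chevF4.nroots := by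
  have : ∀ s ∈ parL, s < chevF4.nroots := by decide +kernel
  exact this s h

theorem kL_lt {r : ℕ} (h : r ∈ kL) : r < chevF4.nroots := by
  have : ∀ r ∈ kL, r < chevF4.nroots := by decide +kernel
  exact this r h

variable [CharP F 2]

theorem comm_ok {s r : ℕ} (hs : s < chevF4.nroots) (hr : r < chevF4.nroots)
    (h : (r == s || (r != chevF4.neg s && termsOK chevF4 s r [])) = true) (c d : F) :
    Commute (xg C s c) (xg C r d) := by
  by_cases he : r = s
  · subst he
    show _ * _ = _ * _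
    rw [xg_mul, xg_mul, add_comm]
  simp only [Bool.or_eq_true, beq_iff_eq, he, false_or, Bool.and_eq_true, bne_iff_ne] at h
  refine comm_of_terms C hs hr he h.1 (fun t ht => ?_) c d
  have := h.2
  simp only [termsOK, List.all_eq_true, Bool.or_eq_true, beq_iff_eq, List.contains_nil,
    Bool.false_eq_true, or_false] at this
  exact (CharP.intCast_eq_zero_iff F 2 _).2 (Int.dvd_of_emod_eq_zero (this t ht))

theorem fixed_comm {s r : ℕ} (hs : s ∈ [39, 45, 40, 44, 46, 47, 27, 34, 25, 26]) (hr : r ∈ kL) (c d : F) :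
    Commute (xg C s c) (xg C r d) := by
  have h := (tables C).2.2.2.2.2.2.2.2.1
  simp only [List.all_eq_true] at h
  have hlt : s < chevF4.nroots := by
    have : ∀ s ∈ [39, 45, 40, 44, 46, 47, 27, 34, 25, 26], s < chevF4.nroots := by decide +kernel
    exact this s hs
  exact comm_ok C hlt (kL_lt C hr) (h s hs r hr) c d

theorem comm_v {s : ℕ} (hs : s ∈ parL) (hz : s ∉ [27, 34, 25, 26]) (c : F) :
    Commute (xg C 39 (1 : F) * xg C 45 1) (xg C s c) := by
  have h := (tables C).2.2.1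
  simp only [List.all_eq_true] at h
  have hm : s ∈ parL.filter fun s => !([27, 34, 25, 26].contains s) := by
    simpa [List.mem_filter, hs] using hz
  exact ((comm_ok C (parL_lt C hs) (by decide +kernel) (h s hm 39 (by simp)) c 1).symm).mul_left
    ((comm_ok C (parL_lt C hs) (by decide +kernel) (h s hm 45 (by simp)) c 1).symm)

/-- the elements of the correction group -/
theorem kL_form {k : GL chevF4.Idx F} (hk : k ∈ rootsSub C kL) :
    ∃ a b c d : F, k = xg C 40 a * xg C 44 b * xg C 46 c * xg C 47 d := by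
  have h1 : ∀ R : List ℕ, (∀ r ∈ R, r ∈ kL) → ∀ z ∈ kL, normOK chevF4 [z] R = true →
      ∀ {g : GL chevF4.Idx F}, g ∈ rootsSub C (z :: R) → ∃ a : F, ∃ l ∈ rootsSub C R, g = xg C z a * l :=
    fun R hR z hz hn g hg => split_cons C hn (kL_lt C hz) (fun r hr => kL_lt C (hR r hr)) hg
  obtain ⟨a, k1, hk1, rfl⟩ := h1 [44, 46, 47] (by decide +kernel) 40 (by decide +kernel) (by decide +kernel) hk
  obtain ⟨b, k2, hk2, rfl⟩ := h1 [46, 47] (by decide +kernel) 44 (by decide +kernel) (by decide +kernel) hk1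
  obtain ⟨c, k3, hk3, rfl⟩ := h1 [47] (by decide +kernel) 46 (by decide +kernel) (by decide +kernel) hk2
  obtain ⟨d, k4, hk4, rfl⟩ := h1 [] (by simp) 47 (by decide +kernel) (by decide +kernel) hk3
  rw [rootsSub_nil, Subgroup.mem_bot] at hk4
  exact ⟨a, b, c, d, by rw [hk4, mul_one]; simp [mul_assoc]⟩

theorem v_comm_k {k : GL chevF4.Idx F} (hk : k ∈ rootsSub C kL) :
    Commute (xg C 39 (1 : F) * xg C 45 1) k := by
  refine Subgroup.closure_induction (p := fun y _ => Commute (xg C 39 (1 : F) * xg C 45 1) y) ?_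
    (Commute.one_right _) (fun a b _ _ ha hb => ha.mul_right hb) (fun a _ ha => ha.inv_right) hk
  rintro y ⟨r, hr, d, rfl⟩
  exact (fixed_comm C (by simp) hr 1 d).mul_left (fixed_comm C (by simp) hr 1 d)

/-- conjugation by the parabolic subgroup moves `v` inside `vK` -/
theorem par_orbit {g : GL chevF4.Idx F} (hg : g ∈ rootsSub C parL) :
    (∀ k ∈ rootsSub C kL, g * k * g⁻¹ ∈ rootsSub C kL) ∧
    (xg C 39 (1 : F) * xg C 45 1)⁻¹ * (g * (xg C 39 (1 : F) * xg C 45 1) * g⁻¹) ∈ rootsSub C kL := by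
  have gen : ∀ s ∈ parL, ∀ c : F,
      (∀ k ∈ rootsSub C kL, xg C s c * k * (xg C s c)⁻¹ ∈ rootsSub C kL) ∧
      (xg C 39 (1 : F) * xg C 45 1)⁻¹ * (xg C s c * (xg C 39 (1 : F) * xg C 45 1) * (xg C s c)⁻¹) ∈
        rootsSub C kL := by
    intro s hs c
    refine ⟨fun k hk => conj_mem C (tables C).1 (fun s h => parL_lt C h) (fun r h => kL_lt C h) hs c hk, ?_⟩
    have h := (tables C).2.1
    simp only [List.all_eq_true] at h
    have one : ∀ r ∈ [39, 45], ∃ w ∈ rootsSub C kL, xg C s c * xg C r (1 : F) * (xg C s c)⁻¹ = xg C r 1 * w := by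
      intro r hr
      have hrl : r < chevF4.nroots := by
        have : ∀ r ∈ [39, 45], r < chevF4.nroots := by decide +kernel
        exact this r hr
      by_cases he : r = s
      · subst he
        exact ⟨1, one_mem _, by rw [xg_mul, xg_inv, xg_mul, mul_one, add_neg_cancel_comm]⟩
      · have := h s hs r hr
        simp only [Bool.or_eq_true, beq_iff_eq, he, false_or, Bool.and_eq_true, bne_iff_ne] at this
        exact ⟨_, wg_mem C this.2 _ _, conj_xg C (parL_lt C hs) hrl he this.1 c 1⟩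
    obtain ⟨w1, hw1, e1⟩ := one 39 (by simp)
    obtain ⟨w2, hw2, e2⟩ := one 45 (by simp)
    have e : xg C s c * (xg C 39 (1 : F) * xg C 45 1) * (xg C s c)⁻¹ =
        xg C 39 1 * w1 * (xg C 45 1 * w2) := by rw [← e1, ← e2]; group
    rw [e, show (xg C 39 (1 : F) * xg C 45 1)⁻¹ * (xg C 39 1 * w1 * (xg C 45 1 * w2)) =
      ((xg C 45 (1 : F))⁻¹ * w1 * xg C 45 1) * w2 by group]
    refine mul_mem ?_ hw2
    have hc : Commute (xg C 45 (1 : F)) w1 := by
      refine Subgroup.closure_induction (p := fun y _ => Commute (xg C 45 (1 : F)) y) ?_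
        (Commute.one_right _) (fun a b _ _ ha hb => ha.mul_right hb) (fun a _ ha => ha.inv_right) hw1
      rintro y ⟨r, hr, d, rfl⟩
      exact fixed_comm C (by simp) hr 1 d
    rwa [mul_assoc, ← hc.eq, inv_mul_cancel_left]
  induction hg using Subgroup.closure_induction'' with
  | mem x hx => obtain ⟨s, hs, c, rfl⟩ := hx; exact gen s hs c
  | inv_mem x hx => obtain ⟨s, hs, c, rfl⟩ := hx; rw [xg_inv]; exact gen s hs (-c)
  | one => exact ⟨fun k hk => by simpa using hk, by simp⟩
  | mul a b _ _ ha hb =>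
    refine ⟨fun k hk => ?_, ?_⟩
    · have := ha.1 _ (hb.1 k hk)
      simpa [mul_assoc] using this
    · set v := xg C 39 (1 : F) * xg C 45 1
      rw [show v⁻¹ * (a * b * v * (a * b)⁻¹) =
        (v⁻¹ * (a * v * a⁻¹)) * (a * (v⁻¹ * (b * v * b⁻¹)) * a⁻¹) by group]
      exact mul_mem ha.2 (ha.1 _ hb.2)

/-- the list of an element of `vK` -/
def yList (a b c d : F) : List (ℕ × F) := [(39, 1), (45, 1), (40, a), (44, b), (46, c), (47, d)]

theorem yList_facts (a b c d : F) :
    ((yList a b c d).map Prod.fst).Nodup ∧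
    (∀ p ∈ yList a b c d, chevF4.nroots / 2 ≤ p.1 ∧ p.1 < chevF4.nroots) ∧
    (∀ p ∈ yList a b c d, ∀ q ∈ yList a b c d, Commute (xg C p.1 p.2) (xg C q.1 q.2)) ∧
    lprod C (yList a b c d) =
      xg C 39 (1 : F) * xg C 45 1 * (xg C 40 a * xg C 44 b * xg C 46 c * xg C 47 d) := by
  have hl : ((yList a b c d).map Prod.fst) = [39, 45, 40, 44, 46, 47] := rfl
  have hmem : ∀ p ∈ yList a b c d, p.1 ∈ [39, 45, 40, 44, 46, 47] := fun p hp =>
    hl ▸ List.mem_map_of_mem hp
  refine ⟨by rw [hl]; decide, fun p hp => ?_, fun p hp q hq => ?_, by simp [lprod, yList, mul_assoc]⟩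
  · have : ∀ r ∈ [39, 45, 40, 44, 46, 47], chevF4.nroots / 2 ≤ r ∧ r < chevF4.nroots := by decide +kernel
    exact this _ (hmem p hp)
  · have key : ∀ s ∈ [39, 45, 40, 44, 46, 47], ∀ r ∈ [39, 45, 40, 44, 46, 47],
        r ∈ kL ∨ s ∈ kL ∨ (r == s || (r != chevF4.neg s && termsOK chevF4 s r [])) = true := by
      decide +kernel
    have hsub : ∀ s ∈ [39, 45, 40, 44, 46, 47], s ∈ [39, 45, 40, 44, 46, 47, 27, 34, 25, 26] := by decide
    have hlt : ∀ s ∈ [39, 45, 40, 44, 46, 47], s < chevF4.nroots := by decide +kernel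
    rcases key _ (hmem p hp) _ (hmem q hq) with h | h | h
    · exact fixed_comm C (hsub _ (hmem p hp)) h _ _
    · exact (fixed_comm C (hsub _ (hmem q hq)) h _ _).symm
    · exact comm_ok C (hlt _ (hmem p hp)) (hlt _ (hmem q hq)) h _ _

variable (S : Sys chevF4 F)

include S in
/-- a monomial element mapping `vK` to itself fixes the roots 39 and 45 -/
theorem fix_pair (m : ↥(chevF4.monomialSubgroup F)) {k k' : GL chevF4.Idx F}
    (hk : k ∈ rootsSub C kL) (hk' : k' ∈ rootsSub C kL)
    (h : (m : GL chevF4.Idx F) * (xg C 39 (1 : F) * xg C 45 1 * k) * (m : GL chevF4.Idx F)⁻¹ =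
      xg C 39 (1 : F) * xg C 45 1 * k') :
    S.X.img (S.toW m) 39 = 39 ∧ S.X.img (S.toW m) 45 = 45 := by
  obtain ⟨a, b, c, d, rfl⟩ := kL_form C hk
  obtain ⟨a', b', c', d', rfl⟩ := kL_form C hk'
  obtain ⟨h1, h2, h3, h4⟩ := yList_facts C a b c d
  obtain ⟨h1', h2', h3', h4'⟩ := yList_facts C a' b' c' d'
  rw [← h4, ← h4'] at h
  have hs := conj_supp C S m h1 h1' h2 h2' h3 h3' h
  obtain ⟨q, hq, -, e39⟩ := hs (39, 1) (by simp [yList]) one_ne_zero
  obtain ⟨q', hq', -, e45⟩ := hs (45, 1) (by simp [yList]) one_ne_zero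
  simp only at e39 e45
  have horth : chevF4.pairing q.1 q'.1 = 0 := by
    rw [← pairing_img C S (S.toW m) (h2 q hq).2 (h2 q' hq').2, e39, e45]
    decide +kernel
  have key : ∀ s ∈ [39, 45, 40, 44, 46, 47], ∀ r ∈ [39, 45, 40, 44, 46, 47],
      chevF4.pairing s r = 0 → (s = 39 ∧ r = 45) ∨ (s = 45 ∧ r = 39) := by decide +kernel
  have hl : ∀ p ∈ yList a b c d, p.1 ∈ [39, 45, 40, 44, 46, 47] := fun p hp => by
    have := List.mem_map_of_mem (f := Prod.fst) hp
    simpa [yList] using this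
  rcases key _ (hl q hq) _ (hl q' hq') horth with ⟨e1, e2⟩ | ⟨e1, e2⟩
  · exact ⟨e1 ▸ e39, e2 ▸ e45⟩
  · exfalso
    have w45 : S.X.img (S.toW m) 45 = 39 := e1 ▸ e39
    have w39 : S.X.img (S.toW m) 39 = 45 := e2 ▸ e45
    have h46 : (46 : ℕ) < chevF4.nroots := by decide +kernel
    have hp := pairing_img C S (S.toW m) (show 39 < chevF4.nroots by decide +kernel) h46
    rw [w39] at hp
    have t : ∀ x, x < chevF4.nroots → chevF4.pairing 45 x = chevF4.pairing 39 46 → x = 45 := by decide +kernel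
    have := S.X.img_injective _ ((t _ (S.X.img_lt _ h46) hp).trans w39.symm)
    omega

/-- the centralizer candidate -/
def cand : List ℕ := [33, 14, 24, 23] ++ posL.filter fun r => !([27, 25, 34, 26].contains r)

include S in
theorem centralizer_le {g : GL chevF4.Idx F} (hg : g ∈ chevF4.group F)
    (hgv : Commute (xg C 39 (1 : F) * xg C 45 1) g) : g ∈ rootsSub C cand := by
  set v := xg C 39 (1 : F) * xg C 45 1
  obtain ⟨u, hu, m, u', hu', rfl⟩ := decomp C S hg
  rw [posUnipotent_eq_rootsSub C] at hu hu'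
  have hpar : rootsSub C (F := F) posL ≤ rootsSub C parL := rootsSub_mono C (List.subset_append_right _ _)
  obtain ⟨hK, hy⟩ := par_orbit C (hpar hu')
  obtain ⟨hK2, hy'⟩ := par_orbit C (inv_mem (hpar hu))
  rw [inv_inv] at hy'
  have hconj : (m : GL chevF4.Idx F) * (v * (v⁻¹ * (u' * v * u'⁻¹))) * (m : GL chevF4.Idx F)⁻¹ =
      v * (v⁻¹ * (u⁻¹ * v * u)) := by
    rw [mul_inv_cancel_left, mul_inv_cancel_left]
    calc (m : GL chevF4.Idx F) * (u' * v * u'⁻¹) * (m : GL chevF4.Idx F)⁻¹
        = u⁻¹ * ((u * m * u') * v) * u'⁻¹ * (m : GL chevF4.Idx F)⁻¹ := by group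
      _ = u⁻¹ * (v * (u * m * u')) * u'⁻¹ * (m : GL chevF4.Idx F)⁻¹ := by rw [hgv.eq]
      _ = u⁻¹ * v * u := by group
  have hfix := fix_pair C S m hy hy' hconj
  -- `m ∈ torus · ⟨X_{±p_0}, X_{±p_3}⟩`
  have hlev : ∀ i : Fin chevF4.rank, (∀ a ∈ [39, 45], chevF4.cartan i a = 0) →
      ng C (chevF4.simple i) (1 : F) ∈ rootsSub C [33, 14, 24, 23] := by
    intro i h0
    have t : ∀ i : Fin chevF4.rank, (∀ a ∈ [39, 45], chevF4.cartan i a = 0) →
        chevF4.simple i ∈ [33, 14, 24, 23] ∧ chevF4.neg (chevF4.simple i) ∈ [33, 14, 24, 23] := by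
      decide +kernel
    exact mul_mem (mul_mem (mem_rootsSub C (t i h0).1 _) (mem_rootsSub C (t i h0).2 _))
      (mem_rootsSub C (t i h0).1 _)
  obtain ⟨m', hm', hw⟩ := stab_lift_of_descent C S [39, 45] (by decide +kernel) (by
      intro w hw i hi a ha
      have h39 : 39 < chevF4.nroots := by decide +kernel
      have h45 : 45 < chevF4.nroots := by decide +kernel
      have hdom : ∀ j, j < chevF4.rank → 0 ≤ 3 * chevF4.cartan j 39 + 2 * chevF4.cartan j 45 := by decide +kernel
      have hzero : ∀ j, j < chevF4.rank → 3 * chevF4.cartan j 39 + 2 * chevF4.cartan j 45 ≤ 0 →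
          ∀ a ∈ [39, 45], chevF4.cartan j a = 0 := by decide +kernel
      refine hzero i i.isLt ?_ a ha
      have e : ∀ r, r < chevF4.nroots → S.X.img w r = r →
          chevF4.cartan i r = chevF4.pairing (S.X.img w⁻¹ (chevF4.simple i)) r := by
        intro r hr hwr
        have h' : S.X.img w⁻¹ r = r := by conv_lhs => rw [← hwr, S.X.img_inv_img]
        conv_rhs => rw [← h']
        rw [pairing_img C S w⁻¹ (simple_lt C i.isLt) hr, pairing_simple C i.isLt]
      rw [e 39 h39 (hw 39 (by simp)), e 45 h45 (hw 45 (by simp)), ChevalleyRoots.pairing_eq C,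
        ChevalleyRoots.pairing_eq C, Finset.mul_sum, Finset.mul_sum, ← Finset.sum_add_distrib]
      refine Finset.sum_nonpos fun j hj => ?_
      have hj' := Finset.mem_range.1 hj
      have hn : cc chevF4 (S.X.img w⁻¹ (chevF4.simple i)) j ≤ 0 := (S.X.neg_iff hi.1).mp hi j hj'
      nlinarith [hdom j hj', hn])
    (rootsSub C [33, 14, 24, 23]) hlev (S.toW m) (by
      intro a ha
      simp only [List.mem_cons, List.not_mem_nil, or_false] at ha
      rcases ha with rfl | rfl
      · exact hfix.1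
      · exact hfix.2)
  have hker : (m : GL chevF4.Idx F) * (m' : GL chevF4.Idx F)⁻¹ ∈ chevF4.diagonalSubgroup F :=
    S.toW_ker.le (show m * m'⁻¹ ∈ S.toW.ker by simp [MonoidHom.mem_ker, hw])
  obtain ⟨c, hc⟩ := (ChevalleyTorus.mem_H_iff C).1 hker
  have hlp : rootsSub C (F := F) [33, 14, 24, 23] ≤ rootsSub C parL := rootsSub_mono C (by decide)
  obtain ⟨hK3, hy3⟩ := par_orbit C (hlp hm')
  set k0 := v⁻¹ * (u' * v * u'⁻¹)
  have hk1 : v⁻¹ * ((m' : GL chevF4.Idx F) * (v * k0) * (m' : GL chevF4.Idx F)⁻¹) ∈ rootsSub C kL := by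
    rw [show v⁻¹ * ((m' : GL chevF4.Idx F) * (v * k0) * (m' : GL chevF4.Idx F)⁻¹) =
      (v⁻¹ * ((m' : GL chevF4.Idx F) * v * (m' : GL chevF4.Idx F)⁻¹)) *
        ((m' : GL chevF4.Idx F) * k0 * (m' : GL chevF4.Idx F)⁻¹) by group]
    exact mul_mem hy3 (hK3 _ hy)
  have htor : torus chevF4 c * (v * (v⁻¹ * ((m' : GL chevF4.Idx F) * (v * k0) * (m' : GL chevF4.Idx F)⁻¹))) *
      (torus chevF4 c)⁻¹ = v * (v⁻¹ * (u⁻¹ * v * u)) := by
    rw [← hconj, hc, mul_inv_cancel_left]
    group
  obtain ⟨a1, b1, c1, d1, e1⟩ := kL_form C hk1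
  obtain ⟨a2, b2, c2, d2, e2⟩ := kL_form C hy'
  rw [e1, e2] at htor
  obtain ⟨n1, n2, n3, n4⟩ := yList_facts C a1 b1 c1 d1
  obtain ⟨n1', n2', n3', n4'⟩ := yList_facts C a2 b2 c2 d2
  have hch : tchar chevF4 c 39 = 1 ∧ tchar chevF4 c 45 = 1 := by
    set f : ℕ × F → ℕ × F := fun p => (p.1, (tchar chevF4 c p.1 : F) * p.2) with hf
    have hfx : ∀ p ∈ yList a1 b1 c1 d1, torus chevF4 c * xg C p.1 p.2 * (torus chevF4 c)⁻¹ =
        xg C (f p).1 (f p).2 := fun p hp => torus_conj_xg C (n2 p hp).2 c p.2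
    have e : lprod C ((yList a1 b1 c1 d1).map f) = lprod C (yList a2 b2 c2 d2) := by
      rw [n4', ← htor, ← n4]
      have : ∀ l : List (ℕ × F), (∀ p ∈ l, p ∈ yList a1 b1 c1 d1) →
          lprod C (l.map f) = torus chevF4 c * lprod C l * (torus chevF4 c)⁻¹ := by
        intro l
        induction l with
        | nil => simp [lprod]
        | cons p l ih =>
          intro hs
          have := ih fun q hq => hs q (List.mem_cons_of_mem _ hq)
          simp only [lprod, List.map_cons, List.prod_cons] at this ⊢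
          rw [this, ← hfx p (hs p (List.mem_cons_self ..))]
          group
      exact this _ fun p hp => hp
    have hnd : (((yList a1 b1 c1 d1).map f).map Prod.fst).Nodup := by
      rw [List.map_map]; exact n1
    have hb : ∀ p ∈ (yList a1 b1 c1 d1).map f, chevF4.nroots / 2 ≤ p.1 ∧ p.1 < chevF4.nroots := by
      intro p hp
      obtain ⟨q, hq, rfl⟩ := List.mem_map.1 hp
      exact n2 q hq
    have hcm : ∀ p ∈ (yList a1 b1 c1 d1).map f, ∀ q ∈ (yList a1 b1 c1 d1).map f,
        Commute (xg C p.1 p.2) (xg C q.1 q.2) := by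
      intro p hp q hq
      obtain ⟨p', hp', rfl⟩ := List.mem_map.1 hp
      obtain ⟨q', hq', rfl⟩ := List.mem_map.1 hq
      rw [← hfx p' hp', ← hfx q' hq']
      simpa only [MulAut.conj_apply] using (n3 p' hp' q' hq').map (MulAut.conj (torus chevF4 c))
    have get : ∀ r, r = 39 ∨ r = 45 → tchar chevF4 c r = 1 := by
      intro r hr
      have hmem : (r, (1 : F)) ∈ yList a1 b1 c1 d1 := by rcases hr with rfl | rfl <;> simp [yList]
      have h := lprod_inj C hnd n1' hb n2' hcm n3' e _ (List.mem_map_of_mem (f := f) hmem)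
        (by simp [hf])
      simp only [hf, yList, List.mem_cons, Prod.mk.injEq, mul_one, List.not_mem_nil, or_false] at h
      rcases hr with rfl | rfl <;>
        simpa using h
    exact ⟨get 39 (Or.inl rfl), get 45 (Or.inr rfl)⟩
  have hH : torus chevF4 c ∈ rootsSub C [33, 14, 24, 23] := by
    have hcz : c ⟨1, by decide +kernel⟩ = 1 ∧ c ⟨2, by decide +kernel⟩ = 1 := by
      have e39 : (∀ i : Fin chevF4.rank, chevF4.cartan i 39 = [0, -1, 1, 0].getD i.val 0) ∧
          ∀ i : Fin chevF4.rank, chevF4.cartan i 45 = [0, 2, -1, 0].getD i.val 0 := by decide +kernel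
      obtain ⟨h1, h2⟩ := hch
      simp only [tchar, e39.1, e39.2] at h1 h2
      have huniv : (Finset.univ : Finset (Fin chevF4.rank)) =
          {⟨0, by decide +kernel⟩, ⟨1, by decide +kernel⟩, ⟨2, by decide +kernel⟩, ⟨3, by decide +kernel⟩} := by
        decide +kernel
      rw [huniv] at h1 h2
      simp at h1 h2
      have : c ⟨2, by decide +kernel⟩ = c ⟨1, by decide +kernel⟩ := by
        rw [inv_mul_eq_one] at h1; exact h1.symm
      rw [this] at h2 ⊢
      rw [mul_inv_eq_one, sq, mul_eq_left] at h2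
      exact ⟨h2, h2⟩
    have t : ∀ i : Fin chevF4.rank, i.val ∈ [1, 2] ∨
        (chevF4.simple i ∈ [33, 14, 24, 23] ∧ chevF4.neg (chevF4.simple i) ∈ [33, 14, 24, 23]) := by
      decide +kernel
    rw [← Finset.univ_prod_mulSingle c]
    induction (Finset.univ : Finset (Fin chevF4.rank)) using Finset.induction_on with
    | empty => simp
    | insert i T hi ih =>
      rw [Finset.prod_insert hi, map_mul]
      refine mul_mem ?_ ih
      rcases t i with h | ⟨h1, h2⟩
      · have : c i = 1 := by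
          simp only [List.mem_cons, List.not_mem_nil, or_false] at h
          rcases h with h | h
          · rw [show i = ⟨1, by decide +kernel⟩ from Fin.ext h]; exact hcz.1
          · rw [show i = ⟨2, by decide +kernel⟩ from Fin.ext h]; exact hcz.2
        rw [this, Pi.mulSingle_one, map_one]; exact one_mem _
      · rw [← hg_simple C]
        exact mul_mem (mul_mem (mul_mem (mem_rootsSub C h1 _) (mem_rootsSub C h2 _)) (mem_rootsSub C h1 _))
          (mul_mem (mul_mem (mem_rootsSub C h1 _) (mem_rootsSub C h2 _)) (mem_rootsSub C h1 _))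
  have hmL : (m : GL chevF4.Idx F) ∈ rootsSub C [33, 14, 24, 23] := by
    have := mul_mem hH hm'
    rwa [hc, inv_mul_cancel_right] at this
  -- the parabolic subgroup is Levi times radical
  have hgp : u * (m : GL chevF4.Idx F) * u' ∈ rootsSub C [33, 14, 24, 23] ⊔ rootsSub C radL := by
    have hU : rootsSub C (F := F) posL ≤ rootsSub C [33, 14, 24, 23] ⊔ rootsSub C radL := by
      refine (Subgroup.closure_le _).2 ?_
      rintro y ⟨r, hr, t, rfl⟩
      have hrl : ∀ r ∈ posL, r ∈ [33, 14, 24, 23] ∨ r ∈ radL := by decide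
      rcases hrl r hr with h | h
      · exact Subgroup.mem_sup_left (mem_rootsSub C h t)
      · exact Subgroup.mem_sup_right (mem_rootsSub C h t)
    exact mul_mem (mul_mem (hU hu) (Subgroup.mem_sup_left hmL)) (hU hu')
  have hnorm : rootsSub C (F := F) [33, 14, 24, 23] ≤
      Subgroup.normalizer (rootsSub C (F := F) radL : Set (GL chevF4.Idx F)) :=
    le_normalizer C (by decide +kernel) (by decide +kernel) (by decide +kernel)
  rw [← SetLike.mem_coe, Subgroup.coe_mul_of_left_le_normalizer_right _ _ hnorm] at hgp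
  obtain ⟨q, hq, μ, hμ, eg⟩ := hgp
  have hμ' : μ ∈ rootsSub C (27 :: 34 :: 25 :: 26 :: lmL) := rootsSub_mono C (by decide) hμ
  have hlm : ∀ r ∈ lmL, r < chevF4.nroots := by decide +kernel
  obtain ⟨a, μ1, hμ1, rfl⟩ := split_cons C (by decide +kernel) (by decide +kernel) (by decide +kernel) hμ'
  obtain ⟨b, μ2, hμ2, rfl⟩ := split_cons C (by decide +kernel) (by decide +kernel) (by decide +kernel) hμ1
  obtain ⟨c', μ3, hμ3, rfl⟩ := split_cons C (by decide +kernel) (by decide +kernel) (by decide +kernel) hμ2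
  obtain ⟨d, lam, hlam, rfl⟩ := split_cons C (by decide +kernel) (by decide +kernel) hlm hμ3
  have commList : ∀ R : List ℕ, (∀ s ∈ R, s ∈ parL ∧ s ∉ [27, 34, 25, 26]) →
      ∀ y ∈ rootsSub C R, Commute v y := by
    intro R hR y hy
    refine Subgroup.closure_induction (p := fun y _ => Commute v y) ?_
      (Commute.one_right _) (fun a b _ _ ha hb => ha.mul_right hb) (fun a _ ha => ha.inv_right) hy
    rintro x ⟨r, hr, t, rfl⟩
    exact comm_v C (hR r hr).1 (hR r hr).2 t
  have hqv : Commute v q := commList [33, 14, 24, 23] (by decide) q hq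
  have hlv : Commute v lam := commList lmL (by decide) lam hlam
  set Z := xg C 27 a * (xg C 34 b * (xg C 25 c' * xg C 26 d)) with hZ
  have eg' : u * (m : GL chevF4.Idx F) * u' = q * Z * lam := by
    rw [← eg, hZ]; simp [mul_assoc]
  have hzv : Commute v Z := by
    have h := (hqv.inv_right.mul_right (eg' ▸ hgv)).mul_right hlv.inv_right
    simpa [mul_assoc] using h
  have t := tables C
  have kc : ∀ zr ∈ [27, 34, 25, 26], ∀ kr ∈ kL, ∀ x y : F,
      xg C zr x * xg C kr y * (xg C zr x)⁻¹ = xg C kr y := by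
    intro zr hzr kr hkr x y
    have hsub : ∀ z ∈ [27, 34, 25, 26], z ∈ [39, 45, 40, 44, 46, 47, 27, 34, 25, 26] := by decide
    rw [(fixed_comm C (hsub zr hzr) hkr x y).eq, mul_inv_cancel_right]
  have l39 : 39 < chevF4.nroots := by decide +kernel
  have l45 : 45 < chevF4.nroots := by decide +kernel
  have zl : ∀ z ∈ [27, 34, 25, 26], z < chevF4.nroots ∧ 39 ≠ z ∧ 45 ≠ z ∧ 39 ≠ chevF4.neg z ∧
      45 ≠ chevF4.neg z := by decide +kernel
  have hit : ∀ z ∈ [27, 34, 25, 26], ∀ x : F, xg C z x * v * (xg C z x)⁻¹ =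
      v * xg C (if z = 27 then 40 else if z = 34 then 44 else if z = 25 then 46 else 47) x := by
    intro z hz x
    obtain ⟨h0, h1, h2, h3, h4⟩ := zl z hz
    have e : xg C z x * v * (xg C z x)⁻¹ =
        (xg C z x * xg C 39 1 * (xg C z x)⁻¹) * (xg C z x * xg C 45 1 * (xg C z x)⁻¹) := by
      simp only [v]; group
    rw [e, conj_xg C h0 l39 h1 h3, conj_xg C h0 l45 h2 h4]
    simp only [List.mem_cons, List.not_mem_nil, or_false] at hz
    have c40 := (fixed_comm C (s := 45) (by simp) (r := 40) (by decide) 1 x).eq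
    have c44 := (fixed_comm C (s := 45) (by simp) (r := 44) (by decide) 1 x).eq
    rcases hz with rfl | rfl | rfl | rfl
    · simp [ChevalleyDatum.commWord, t.2.2.2.2.2.2.2.2.2.1, t.2.2.2.2.2.2.2.2.2.2.2.2.2.1, wg, v,
        mul_assoc, c40]
    · simp [ChevalleyDatum.commWord, t.2.2.2.2.2.2.2.2.2.2.1, t.2.2.2.2.2.2.2.2.2.2.2.2.2.2.1, wg, v,
        mul_assoc, c44]
    · simp [ChevalleyDatum.commWord, t.2.2.2.2.2.2.2.2.2.2.2.1, t.2.2.2.2.2.2.2.2.2.2.2.2.2.2.2.1, wg, v,
        mul_assoc]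
    · simp [ChevalleyDatum.commWord, t.2.2.2.2.2.2.2.2.2.2.2.2.1, t.2.2.2.2.2.2.2.2.2.2.2.2.2.2.2.2, wg, v,
        mul_assoc]
  have hp : Z * v * Z⁻¹ = v * (xg C 40 a * xg C 44 b * xg C 46 c' * xg C 47 d) := by
    have k : ∀ (z : GL chevF4.Idx F) (k : GL chevF4.Idx F), z * (v * k) * z⁻¹ = (z * v * z⁻¹) * (z * k * z⁻¹) :=
      fun z k => by group
    have e26 := hit 26 (by simp) d
    have e25 := hit 25 (by simp) c'
    have e34 := hit 34 (by simp) b
    have e27 := hit 27 (by simp) a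
    simp only [if_pos, show (26 : ℕ) ≠ 27 by omega, show (26 : ℕ) ≠ 34 by omega,
      show (26 : ℕ) ≠ 25 by omega, show (25 : ℕ) ≠ 27 by omega, show (25 : ℕ) ≠ 34 by omega,
      show (34 : ℕ) ≠ 27 by omega, if_false] at e26 e25 e34 e27
    calc Z * v * Z⁻¹
        = xg C 27 a * (xg C 34 b * (xg C 25 c' * (xg C 26 d * v * (xg C 26 d)⁻¹) * (xg C 25 c')⁻¹) *
            (xg C 34 b)⁻¹) * (xg C 27 a)⁻¹ := by rw [hZ]; group
      _ = xg C 27 a * (xg C 34 b * (v * (xg C 46 c' * xg C 47 d)) * (xg C 34 b)⁻¹) * (xg C 27 a)⁻¹ := by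
          rw [e26, k, e25, kc 25 (by simp) 47 (by decide)]
          simp [mul_assoc]
      _ = xg C 27 a * (v * (xg C 44 b * xg C 46 c' * xg C 47 d)) * (xg C 27 a)⁻¹ := by
          rw [k, e34, show xg C 34 b * (xg C 46 c' * xg C 47 d) * (xg C 34 b)⁻¹ =
            (xg C 34 b * xg C 46 c' * (xg C 34 b)⁻¹) * (xg C 34 b * xg C 47 d * (xg C 34 b)⁻¹) by group,
            kc 34 (by simp) 46 (by decide), kc 34 (by simp) 47 (by decide)]
          simp [mul_assoc]
      _ = _ := by
          rw [k, e27, show xg C 27 a * (xg C 44 b * xg C 46 c' * xg C 47 d) * (xg C 27 a)⁻¹ =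
            (xg C 27 a * xg C 44 b * (xg C 27 a)⁻¹) * (xg C 27 a * xg C 46 c' * (xg C 27 a)⁻¹) *
              (xg C 27 a * xg C 47 d * (xg C 27 a)⁻¹) by group,
            kc 27 (by simp) 44 (by decide), kc 27 (by simp) 46 (by decide), kc 27 (by simp) 47 (by decide)]
          simp [mul_assoc]
  rw [← hzv.eq, mul_inv_cancel_right, left_eq_mul] at hp
  set KL : List (ℕ × F) := [(40, a), (44, b), (46, c'), (47, d)] with hKL
  have hz0 : ∀ p ∈ KL, p.2 = 0 := by
    intro p hpm
    by_contra h0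
    obtain ⟨f1, f2, f3, -⟩ := yList_facts C a b c' d
    have hsub : ∀ q ∈ KL, q ∈ yList a b c' d := by
      intro q hq; simp only [hKL, yList, List.mem_cons] at hq ⊢; tauto
    have := lprod_inj C (l := KL) (l' := []) (by simp [hKL]) (by simp)
      (fun q hq => f2 q (hsub q hq)) (by simp) (fun q hq r hr => f3 q (hsub q hq) r (hsub r hr)) (by simp)
      (by simpa [lprod, hKL, mul_assoc] using hp) p hpm h0
    simp at this
  have ha : a = 0 := hz0 (40, a) (by simp [hKL])
  have hb : b = 0 := hz0 (44, b) (by simp [hKL])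
  have hc' : c' = 0 := hz0 (46, c') (by simp [hKL])
  have hd : d = 0 := hz0 (47, d) (by simp [hKL])
  rw [eg', hZ, ha, hb, hc', hd]
  simp only [xg_zero, mul_one]
  exact mul_mem (rootsSub_mono C (by decide) hq) (rootsSub_mono C (by decide) hlam)

include S in
theorem centralizer_eq_cand :
    chevF4.group F ⊓ Subgroup.centralizer {xg C 39 (1 : F) * xg C 45 1} = rootsSub C cand := by
  refine le_antisymm (fun g hg => centralizer_le C S hg.1
    (Subgroup.mem_centralizer_singleton_iff.1 hg.2).symm) (le_inf ?_ ?_)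
  · refine (Subgroup.closure_le _).2 ?_
    rintro y ⟨r, -, t, rfl⟩
    exact xg_mem_group C r t
  · refine (Subgroup.closure_le _).2 ?_
    rintro y ⟨r, hr, t, rfl⟩
    have h : ∀ r ∈ cand, r ∈ parL ∧ r ∉ [27, 34, 25, 26] := by decide
    exact Subgroup.mem_centralizer_singleton_iff.2 (comm_v C (h r hr).1 (h r hr).2 t).eq.symm

end Cfsg.Agent.ChevF4Involutions
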