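import Cfsg.Agent.Lib.ChevBruhatInstance
import Cfsg.Agent.Lib.ChevalleySylow
import Cfsg.Agent.Lib.CenSplitStable50
import Cfsg.Agent.Lib.ChevF4MultData14
import Cfsg.Prelude.Def_ChevF4

/-!
F4 over the field of two elements: the tabulated relations of the unipotent subgroup, its index, the
action of the simple reflections, and an induction principle over the Bruhat decomposition.
-/

set_option autoImplicit false
set_option maxRecDepth 100000

namespace Cfsg.Agent.ChevF4Mult14Geom

open Cfsg.Lie Cfsg.Agent.ChevalleyCore Cfsg.Agent.ChevF4MultData14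
open Cfsg.Agent.CenSplitStable50 (P P_cons P_nil P_map)
open Cfsg.Agent.ChevBruhat

universe u

/-- the certificate of F4 -/
abbrev C4 := ChevalleyDataF4.cert

variable {F : Type u} [Field F]

/-- the root element at a place -/
noncomputable def X (F : Type u) [Field F] (i : ℕ) : ↥(chevF4.group F) :=
  ⟨xg C4 (24 + i) 1, xg_mem_group C4 _ _⟩

/-- the representative of a simple reflection -/
noncomputable def Nr (F : Type u) [Field F] (k : ℕ) : ↥(chevF4.group F) :=
  ⟨ng C4 (chevF4.simple k) 1, ChevalleyPerfectMem k⟩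
where
  ChevalleyPerfectMem (k : ℕ) : ng C4 (chevF4.simple k) (1 : F) ∈ chevF4.group F :=
    mul_mem (mul_mem (xg_mem_group C4 _ _) (xg_mem_group C4 _ _)) (xg_mem_group C4 _ _)

/-- the unipotent subgroup -/
noncomputable def UU (F : Type u) [Field F] : Subgroup ↥(chevF4.group F) :=
  Subgroup.closure (X F '' Set.Iio 24)

/-- the image of a place under a simple reflection -/
def sgd (k i : ℕ) : ℕ := (sig.getD k []).getD i 0

/-- the places other than the fundamental root of a simple reflection -/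
def okk (k i : ℕ) : Bool := decide (i < 24) && (i != root.getD k 24)

/-- the subgroup without one fundamental root -/
noncomputable def Ui (F : Type u) [Field F] (k : ℕ) : Subgroup ↥(chevF4.group F) :=
  Subgroup.closure (X F '' {i | okk k i = true})

theorem root_data : ∀ k < 4, root.getD k 24 < 24 ∧ chevF4.simple k = 24 + root.getD k 24 := by
  decide +kernel

theorem sig_data : ∀ k < 4, ∀ i < 24, okk k i = true →
    okk k (sgd k i) = true ∧ chevF4.reflectRoot k (24 + i) = 24 + sgd k i := by decide +kernel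

/-- the commutator word of two places -/
def word (t i : ℕ) : List ℕ :=
  (((chevF4.commTerms (24 + i) (24 + t)).filter fun c => c.2.1 % 2 != 0).map fun c => c.1 - 24)

theorem rels_len : rels.length = 300 := rfl

theorem rels_data : ∀ r < 300,
    rels.getD r ([], []) = ([((rels.getD r ([], [])).1.getD 0 0), ((rels.getD r ([], [])).1.getD 1 0)],
      if (rels.getD r ([], [])).1.getD 1 0 = (rels.getD r ([], [])).1.getD 0 0 then [] else
        (rels.getD r ([], [])).1.getD 1 0 :: (rels.getD r ([], [])).1.getD 0 0 ::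
          word ((rels.getD r ([], [])).1.getD 0 0) ((rels.getD r ([], [])).1.getD 1 0)) ∧
    (rels.getD r ([], [])).1.getD 0 0 < 24 ∧
    (rels.getD r ([], [])).1.getD 1 0 ≤ (rels.getD r ([], [])).1.getD 0 0 := by decide +kernel

theorem neg_data : ∀ t < 24, ∀ i < 24, chevF4.neg (24 + i) ≠ 24 + t := by decide +kernel

theorem terms_data : ∀ t < 24, ∀ i < t, ∀ c ∈ chevF4.commTerms (24 + i) (24 + t),
    24 ≤ c.1 ∧ c.1 < 48 := by decide +kernel

variable [Fintype F] (hF : Fintype.card F = 2)

include hF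

theorem cases01 (t : F) : t = 0 ∨ t = 1 := by
  classical
  by_contra h
  push Not at h
  have hle := Finset.card_le_univ ({0, 1, t} : Finset F)
  rw [Finset.card_insert_of_notMem (by simp [zero_ne_one, Ne.symm h.1]),
    Finset.card_pair (Ne.symm h.2), hF] at hle
  omega

theorem two_zero : (2 : F) = 0 := by
  rcases cases01 hF (2 : F) with h | h
  · exact h
  · exact absurd (show (1 : F) = 0 by linear_combination h) one_ne_zero

theorem neg_one : (-1 : F) = 1 := by linear_combination -(two_zero hF)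

theorem cast_odd (c : ℤ) : (c : F) = if (c % 2 != 0) = true then 1 else 0 := by
  conv_lhs => rw [← Int.emod_add_mul_ediv c 2]
  push_cast
  rw [two_zero hF, zero_mul, add_zero]
  rcases Int.emod_two_eq_zero_or_one c with h | h <;> simp [h]

theorem relsX {r : ℕ} (hr : r < 300) :
    P (X F) (rels.getD r ([], [])).1 = P (X F) (rels.getD r ([], [])).2 := by
  obtain ⟨he, ht, hi⟩ := rels_data r hr
  generalize (rels.getD r ([], [])).1.getD 0 0 = t, (rels.getD r ([], [])).1.getD 1 0 = i at he ht hi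
  rw [he]
  by_cases hti : i = t
  · subst hti
    rw [if_pos rfl]
    apply Subtype.ext
    simp only [P, List.map_cons, List.map_nil, List.prod_cons, List.prod_nil, mul_one]
    show xg C4 (24 + i) 1 * xg C4 (24 + i) 1 = (1 : GL chevF4.Idx F)
    rw [xg_mul, show (1 : F) + 1 = 0 by linear_combination two_zero hF]
    exact Units.ext ((coe_xg C4 _ _).trans (x_zero C4 _))
  · rw [if_neg hti]
    have hlt : i < t := lt_of_le_of_ne hi hti
    have hf := comm_formula C4 (F := F) (r := 24 + i) (s := 24 + t) (by show 24 + i < 48; omega)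
      (by show 24 + t < 48; omega) (by omega) (fun e => neg_data t ht i (by omega) e.symm) 1 1
    have hw : ∀ l : List (ℕ × ℤ × ℕ × ℕ), (∀ c ∈ l, 24 ≤ c.1) →
        ((P (X F) ((l.filter fun c => c.2.1 % 2 != 0).map fun c => c.1 - 24) : ↥(chevF4.group F)) :
            GL chevF4.Idx F) =
          wg C4 (l.map fun c => (c.1, (c.2.1 : F) * (-1 : F) ^ c.2.2.1 * (1 : F) ^ c.2.2.2)) := by
      intro l
      induction l with
      | nil => intro _; rfl
      | cons c l ih =>
        intro h
        have hc : (c.2.1 : F) * (-1 : F) ^ c.2.2.1 * (1 : F) ^ c.2.2.2 =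
            if (c.2.1 % 2 != 0) = true then 1 else 0 := by
          rw [neg_one hF, one_pow, one_pow, mul_one, mul_one, cast_odd hF]
        have e := ih fun d hd => h d (List.mem_cons_of_mem _ hd)
        simp only [wg, List.map_cons, List.prod_cons] at e ⊢
        by_cases hb : (c.2.1 % 2 != 0) = true
        · rw [List.filter_cons, if_pos hb, List.map_cons, P_cons, Subgroup.coe_mul, e, hc, if_pos hb]
          show xg C4 (24 + (c.1 - 24)) (1 : F) * _ = _
          rw [Nat.add_sub_cancel' (h c List.mem_cons_self)]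
        · rw [List.filter_cons, if_neg hb, e, hc, if_neg hb,
            show xg C4 c.1 (0 : F) = 1 from Units.ext ((coe_xg C4 _ _).trans (x_zero C4 _)), one_mul]
    apply Subtype.ext
    simp only [P_cons, P_nil, mul_one, Subgroup.coe_mul]
    simp only [word]
    rw [hw _ fun c hc => (terms_data t ht i hlt c hc).1]
    show xg C4 (24 + t) 1 * xg C4 (24 + i) 1 = xg C4 (24 + i) 1 * (xg C4 (24 + t) 1 * _)
    rw [← mul_assoc]
    exact hf

/-- the unipotent subgroup is the one of the datum -/
theorem UU_eq : UU F = (chevF4.posUnipotent F).subgroupOf (chevF4.group F) := by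
  apply le_antisymm
  · rw [UU, Subgroup.closure_le]
    rintro _ ⟨i, hi, rfl⟩
    exact ChevalleyUnipotent.xg_mem_U C4 (show 24 ≤ 24 + i by omega)
      (show 24 + i < 48 by simp only [Set.mem_Iio] at hi; omega) 1
  · intro g hg
    have hg' : (g : GL chevF4.Idx F) ∈ chevF4.posUnipotent F := hg
    suffices h : chevF4.posUnipotent F ≤ (UU F).map (chevF4.group F).subtype by
      obtain ⟨g', hg'', e⟩ := h hg'
      rwa [← Subtype.ext e]
    rw [ChevalleyDatum.posUnipotent, Subgroup.closure_le]
    rintro x ⟨r, t, hr, hx⟩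
    obtain rfl := (xg_eq_iff C4).1 hx
    obtain ⟨h1, h2⟩ := (ChevalleyRoots.isPos C4).1 hr
    change 24 ≤ r at h1
    change r < 48 at h2
    rcases cases01 hF t with rfl | rfl
    · rw [show xg C4 r (0 : F) = 1 from Units.ext ((coe_xg C4 _ _).trans (x_zero C4 _))]
      exact one_mem _
    · refine ⟨X F (r - 24), Subgroup.subset_closure ⟨r - 24, by simp only [Set.mem_Iio]; omega, rfl⟩, ?_⟩
      show xg C4 (24 + (r - 24)) (1 : F) = _
      rw [Nat.add_sub_cancel' h1]

omit hF in
theorem X_mem {i : ℕ} (hi : i < 24) : X F i ∈ UU F := Subgroup.subset_closure ⟨i, hi, rfl⟩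

theorem card_UU : Nat.card (UU F) = 2 ^ 24 := by
  rw [UU_eq hF, Nat.card_congr (Subgroup.subgroupOfEquivOfLe ?_).toEquiv,
    ChevalleyUnipotent.card_U C4, hF]
  · rfl
  · rw [ChevalleyDatum.posUnipotent, Subgroup.closure_le]
    rintro x ⟨r, t, hr, hx⟩
    obtain rfl := (xg_eq_iff C4).1 hx
    exact xg_mem_group C4 _ _

omit [Fintype F] hF in
/-- the Bruhat hypotheses -/
noncomputable def S4 (F : Type u) [Field F] : ChevBruhat.Sys chevF4 F :=
  ChevBruhatInstance.mkSys C4 (Classical.choice (ChevBruhatInstance.data_facts chevF4 (by simp))).1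
    (Classical.choice (ChevBruhatInstance.data_facts chevF4 (by simp))).2

theorem index_UU : Odd (UU F).index := by
  have : Fact (Nat.Prime 2) := ⟨Nat.prime_two⟩
  have : CharP F 2 := by
    rw [← hF]
    have : Fact (Fintype.card F).Prime := ⟨hF ▸ Nat.prime_two⟩
    exact charP_of_card_eq_prime rfl
  obtain ⟨Q, hQ⟩ := ChevalleySylow.exists_sylow C4 (S4 F) 2
  rw [UU_eq hF, ← hQ, ← Nat.not_even_iff_odd, even_iff_two_dvd]
  exact Q.not_dvd_index

theorem H_bot {h : GL chevF4.Idx F} (hh : h ∈ chevF4.diagonalSubgroup F) : h = 1 := by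
  refine (S4 F).H_induction (p := fun x => x = 1) ?_ rfl (fun a b ha hb => by rw [ha, hb, mul_one])
    (fun a ha => by rw [ha, inv_one]) hh
  intro r t hr ht
  rcases cases01 hF t with rfl | rfl
  · exact absurd rfl ht
  · exact ChevalleyCore.hg_one C4 hr

theorem coef_one {c : F} (hc : c ≠ 0) : c = 1 := (cases01 hF c).resolve_left hc

theorem Nr_conj {k i : ℕ} (hk : k < 4) (hi : i < 24) (hok : okk k i = true) :
    Nr F k * X F i * (Nr F k)⁻¹ = X F (sgd k i) := by
  apply Subtype.ext
  show ng C4 (chevF4.simple k) 1 * xg C4 (24 + i) 1 * (ng C4 (chevF4.simple k) (1 : F))⁻¹ = _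
  rw [ng_simple_conj C4 (show k < chevF4.rank from hk) (show 24 + i < 48 by omega),
    (sig_data k hk i hi hok).2, mul_one,
    coef_one hF (eta_cast_ne C4 k (24 + i))]
  rfl

theorem ng_inv_self (r : ℕ) : (ng C4 r (1 : F))⁻¹ = ng C4 r 1 := by rw [ng_inv, neg_one hF]

omit [Fintype F] hF in
theorem UU_le : chevF4.posUnipotent F ≤ chevF4.group F := by
  rw [ChevalleyDatum.posUnipotent, Subgroup.closure_le]
  rintro x ⟨r, t, hr, hx⟩
  obtain rfl := (xg_eq_iff C4).1 hx
  exact xg_mem_group C4 _ _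

/-- the part away from a fundamental root is in the smaller subgroup -/
theorem upSub_le_Ui {k : ℕ} (hk : k < 4) :
    upSub chevF4 F k ≤ (Ui F k).map (chevF4.group F).subtype := by
  rw [upSub, Subgroup.closure_le]
  rintro x ⟨r, t, hr, hne, hx⟩
  obtain rfl := (xg_eq_iff C4).1 hx
  obtain ⟨h1, h2⟩ := (ChevalleyRoots.isPos C4).1 hr
  change 24 ≤ r at h1
  change r < 48 at h2
  rcases cases01 hF t with rfl | rfl
  · rw [show xg C4 r (0 : F) = 1 from Units.ext ((coe_xg C4 _ _).trans (x_zero C4 _))]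
    exact one_mem _
  · refine ⟨X F (r - 24), Subgroup.subset_closure ⟨r - 24, ?_, rfl⟩, ?_⟩
    · show okk k (r - 24) = true
      simp only [okk, Bool.and_eq_true, decide_eq_true_eq, bne_iff_ne]
      refine ⟨by omega, fun he => hne ?_⟩
      rw [(root_data k hk).2, ← he]; omega
    · show xg C4 (24 + (r - 24)) (1 : F) = _
      rw [Nat.add_sub_cancel' h1]

/-- the unipotent subgroup is covered by two cosets of the smaller one -/
theorem UU_split {k : ℕ} (hk : k < 4) {u : ↥(chevF4.group F)} (hu : u ∈ UU F) :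
    u ∈ (Ui F k : Set _) ∪ (fun v => v * X F (root.getD k 24)) '' (Ui F k : Set _) := by
  rw [UU_eq hF] at hu
  obtain ⟨v, hv, a, e⟩ := (S4 F).U_decomp (i := k) (show k < chevF4.rank from hk)
    (show (u : GL chevF4.Idx F) ∈ chevF4.posUnipotent F from hu)
  obtain ⟨v', hv', e'⟩ := upSub_le_Ui hF hk hv
  rcases cases01 hF a with rfl | rfl
  · refine Or.inl ?_
    rw [show (S4 F).xg (chevF4.simple k) (0 : F) = 1 from (S4 F).xg_zero _, mul_one] at e
    rwa [show u = v' from Subtype.ext (e.trans e'.symm)]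
  · refine Or.inr ⟨v', hv', Subtype.ext ?_⟩
    rw [e, ← e', (root_data k hk).2]
    rfl

/-- the part of the unipotent subgroup kept by a simple reflection -/
theorem mem_Ui {k : ℕ} (hk : k < 4) {y : ↥(chevF4.group F)} (hy : y ∈ UU F)
    (hc : Nr F k * y * (Nr F k)⁻¹ ∈ UU F) : y ∈ Ui F k := by
  rw [UU_eq hF] at hy hc
  set S := S4 F
  have hyU : (y : GL chevF4.Idx F) ∈ chevF4.posUnipotent F := hy
  obtain ⟨v, hv, a, e⟩ := S.U_decomp (i := k) (show k < chevF4.rank from hk) hyU
  have hUi := upSub_le_Ui hF hk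
  by_cases ha : a = 0
  · rw [ha, show S.xg (chevF4.simple k) (0 : F) = 1 from S.xg_zero _, mul_one] at e
    obtain ⟨y', hy', e'⟩ := hUi hv
    rwa [show y = y' from Subtype.ext (e.trans e'.symm)]
  · exfalso
    have ha1 := coef_one hF ha
    subst ha1
    have hN := S.nn_conj_upSub ⟨k, hk⟩ hv
    have hmem : S.nn (chevF4.simple k) 1 * S.xg (chevF4.simple k) 1 * (S.nn (chevF4.simple k) 1)⁻¹ ∈
        chevF4.posUnipotent F := by
      have h2 : S.nn (chevF4.simple k) 1 * (y : GL chevF4.Idx F) * (S.nn (chevF4.simple k) 1)⁻¹ ∈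
          chevF4.posUnipotent F := hc
      rw [e] at h2
      have h3 := mul_mem (inv_mem (ChevBruhat.Sys.upSub_le_U _ hN)) h2
      convert h3 using 1
      group
    obtain ⟨c, hc0, hcp, -⟩ := S.acts_simple ⟨k, hk⟩ (chevF4.simple k) (S.X.simple_lt hk)
    have hcp1 := hcp 1
    rw [S.X.img_simple ⟨k, hk⟩ (S.X.simple_lt hk), S.X.reflect_simple hk] at hcp1
    change S.nn (chevF4.simple k) 1 * _ * _ = _ at hcp1
    rw [hcp1] at hmem
    have := S.xg_neg_notMem_B (r := chevF4.neg (chevF4.simple k))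
      ((S.X.pos_neg_iff (S.X.root_facts (S.X.simple_lt hk)).1).mp
        (by rw [(S.X.root_facts (S.X.simple_lt hk)).2.1]; exact S.X.simple_pos hk))
      (ChevBruhat.Sys.U_le_B hmem)
    exact mul_ne_zero hc0 one_ne_zero this

/-- Induction over the Bruhat decomposition. -/
theorem bruhat_induction (Q : ↥(chevF4.group F) → Prop) (hU : ∀ u ∈ UU F, Q u)
    (hN : ∀ k < 4, Q (Nr F k))
    (hmul : ∀ a b, Q a → Q b →
      (∀ y ∈ UU F, a * b * y * (a * b)⁻¹ ∈ UU F → b * y * b⁻¹ ∈ UU F) → Q (a * b)) :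
    ∀ g, Q g := by
  set S := S4 F
  have hmem : ∀ {y : ↥(chevF4.group F)}, y ∈ UU F ↔ (y : GL chevF4.Idx F) ∈ chevF4.posUnipotent F :=
    fun {y} => by rw [UU_eq hF]; rfl
  have hB : ∀ b ∈ chevF4.borelSubgroup F, b ∈ chevF4.posUnipotent F := by
    intro b hb
    obtain ⟨h, hh, u, hu, rfl⟩ := S.mem_B_iff.1 hb
    rw [H_bot hF hh, one_mul]; exact hu
  have hn : ∀ m, ∀ n : ↥(chevF4.monomialSubgroup F), S.X.inv (S.toW n) = m →
      Q ⟨n, S.N_le_group n.2⟩ := by
    intro m
    induction m using Nat.strong_induction_on with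
    | _ m ih =>
      intro n hm
      by_cases h1 : S.toW n = 1
      · have hn1 : (n : GL chevF4.Idx F) = 1 := H_bot hF (S.toW_ker.le h1)
        exact hU _ (hmem.2 (by show (n : GL chevF4.Idx F) ∈ _; rw [hn1]; exact one_mem _))
      obtain ⟨i, hi⟩ := S.X.exists_descent h1
      obtain ⟨hinv, hpos, -, -⟩ := S.invSet_step i hi
      set n' := (S.sN i)⁻¹ * n with hn'
      have hw' : S.toW n' = S.X.C.simple i * S.toW n := by
        have hsinv : (S.X.C.simple i)⁻¹ = S.X.C.simple i :=
          inv_eq_of_mul_eq_one_right (S.X.C.toCoxeterSystem.simple_mul_simple_self i)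
        rw [hn', map_mul, map_inv, S.toW_sN, hsinv]
      have hQ' := ih (S.X.inv (S.toW n')) (by rw [hw']; omega) n' rfl
      have e : (⟨n, S.N_le_group n.2⟩ : ↥(chevF4.group F)) = Nr F i * ⟨n', S.N_le_group n'.2⟩ := by
        apply Subtype.ext
        show (n : GL chevF4.Idx F) = ng C4 (chevF4.simple i) 1 * (n' : GL chevF4.Idx F)
        rw [hn', Subgroup.coe_mul, Subgroup.coe_inv]
        exact (mul_inv_cancel_left (ng C4 (chevF4.simple i) (1 : F)) _).symm
      rw [e]
      refine hmul _ _ (hN i i.isLt) hQ' fun y hy hyc => ?_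
      rw [hmem] at hy hyc ⊢
      set N₀ := S.nn (chevF4.simple i) 1 with hN₀
      have hself : N₀⁻¹ = N₀ := ng_inv_self hF _
      have hu : N₀ * ((n' : GL chevF4.Idx F) * y * (n' : GL chevF4.Idx F)⁻¹) * N₀⁻¹ ∈
          chevF4.posUnipotent F := by
        convert hyc using 1
        show _ = N₀ * (n' : GL chevF4.Idx F) * y * (N₀ * (n' : GL chevF4.Idx F))⁻¹
        group
      obtain ⟨v, hv, a, ev⟩ := S.U_decomp i.isLt hu
      show (n' : GL chevF4.Idx F) * y * (n' : GL chevF4.Idx F)⁻¹ ∈ _
      have hv' : N₀ * v * N₀⁻¹ ∈ chevF4.posUnipotent F :=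
        ChevBruhat.Sys.upSub_le_U _ (S.nn_conj_upSub i hv)
      by_cases ha : a = 0
      · rw [ha, S.xg_zero, mul_one] at ev
        convert hv' using 1
        rw [← ev, hself, ← mul_assoc, ← mul_assoc]
        nth_rw 1 [← hself]
        rw [inv_mul_cancel, one_mul, mul_assoc]
        nth_rw 1 [← hself]
        rw [inv_mul_cancel_right]
      exfalso
      have ha1 := coef_one hF ha
      subst ha1
      set x := S.xg (chevF4.simple i) (1 : F) with hx
      have hxx : x⁻¹ = x := by rw [hx, S.xg_inv, neg_one hF]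
      obtain ⟨c, hc, hcp, -⟩ := (S.acts_toW n').inv S (chevF4.simple i) (S.X.simple_lt i.isLt)
      have hβ : (n' : GL chevF4.Idx F)⁻¹ * x * n' ∈ chevF4.posUnipotent F := by
        have := hcp 1
        rw [inv_inv] at this
        rw [hx, this]
        refine S.xg_mem_U ?_ _
        rw [hw']; exact hpos
      have hneg : N₀ * x * N₀⁻¹ = x * N₀ * x := by
        obtain ⟨c', hc', hcp', -⟩ := S.acts_simple i (chevF4.simple i) (S.X.simple_lt i.isLt)
        rw [S.X.img_simple i (S.X.simple_lt i.isLt), S.X.reflect_simple i.isLt] at hcp'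
        rw [hx, hcp' 1, coef_one hF hc', mul_one, hN₀]
        show _ = S.xg _ 1 * (S.xg _ 1 * S.xg _ (-1⁻¹) * S.xg _ 1) * S.xg _ 1
        simp only [inv_one, neg_one hF]
        rw [← mul_assoc, ← mul_assoc, ← S.xg_add, show (1 : F) + 1 = 0 by linear_combination two_zero hF,
          S.xg_zero, one_mul, mul_assoc, ← S.xg_add, show (1 : F) + 1 = 0 by linear_combination two_zero hF,
          S.xg_zero, mul_one]
      set z := (n' : GL chevF4.Idx F) * y * (n' : GL chevF4.Idx F)⁻¹ with hz
      have hkey : x * ((n : GL chevF4.Idx F)) * ((n' : GL chevF4.Idx F)⁻¹ * x * n') =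
          (N₀ * v * N₀⁻¹)⁻¹ * (n' : GL chevF4.Idx F) * y := by
        have h1 : z = N₀⁻¹ * (v * x) * N₀ := by
          rw [← ev]; group
        have h2 : N₀ * x * N₀⁻¹ = (N₀ * v * N₀⁻¹)⁻¹ * z := by
          have hNN : N₀ * N₀ = 1 := by
            calc N₀ * N₀ = N₀⁻¹ * N₀ := by rw [hself]
              _ = 1 := inv_mul_cancel _
          rw [h1]
          simp only [mul_inv_rev, hself, ← mul_assoc]
          rw [mul_assoc (N₀ * v⁻¹) N₀ N₀, hNN, mul_one, inv_mul_cancel_right]
        rw [hneg] at h2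
        have h3 : (n : GL chevF4.Idx F) = N₀ * (n' : GL chevF4.Idx F) := congrArg Subtype.val e
        rw [h3]
        calc x * (N₀ * (n' : GL chevF4.Idx F)) * ((n' : GL chevF4.Idx F)⁻¹ * x * n')
            = x * N₀ * x * n' := by group
          _ = (N₀ * v * N₀⁻¹)⁻¹ * z * n' := by rw [h2]
          _ = _ := by rw [hz]; group
      have hcw := S.toW_unique (n := n) (n' := n')
        (ChevBruhat.Sys.U_le_B (S.xg_mem_U (S.X.simple_pos i.isLt) 1))
        (ChevBruhat.Sys.U_le_B (inv_mem hv')) (ChevBruhat.Sys.U_le_B hβ) (ChevBruhat.Sys.U_le_B hy) hkey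
      rw [← hw', ← hcw] at hinv
      omega
  intro g
  obtain ⟨b, hb, n, u, hu, e⟩ := S.exists_cell_form g.2
  have hu' : u ∈ chevF4.posUnipotent F := S.Uw_le_U _ hu
  have e' : g = ⟨b, S.B_le_group hb⟩ * ⟨n, S.N_le_group n.2⟩ * ⟨u, S.U_le_group hu'⟩ := Subtype.ext e
  rw [e']
  refine hmul _ _ (hmul _ _ (hU _ (hmem.2 (hB b hb))) (hn _ n rfl) fun y hy hc => ?_)
    (hU _ (hmem.2 hu')) fun y hy _ => mul_mem (mul_mem (hmem.2 hu') hy) (inv_mem (hmem.2 hu'))
  set b' : ↥(chevF4.group F) := ⟨b, S.B_le_group hb⟩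
  set m : ↥(chevF4.group F) := ⟨n, S.N_le_group n.2⟩
  have hb' : b' ∈ UU F := hmem.2 (hB b hb)
  have := mul_mem (mul_mem (inv_mem hb') hc) hb'
  convert this using 1
  group

end Cfsg.Agent.ChevF4Mult14Geom
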