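import Cfsg.Agent.Lib.CenSplitStable50

/-!
Collection in a central extension of a group with a polycyclic chain, recording the kernel part as a
linear form in the defects of the relations, with values modulo four.
-/

set_option autoImplicit false

namespace Cfsg.Agent.PcQuad14

open Subgroup Cfsg.Agent.CenSplitStable50

universe u

/-! ### forms -/

/-- a bit as an element of the ring of residues modulo four -/
def bq (b : Bool) : ZMod 4 := bif b then 1 else 0

/-- a form: the low and the high bits of its coefficients -/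
abbrev PcFrm := ℕ × ℕ

/-- a single unknown -/
def funit (j : ℕ) : PcFrm := (2 ^ j, 0)

/-- the sum of two forms -/
def fadd (a b : PcFrm) : PcFrm := (a.1 ^^^ b.1, a.2 ^^^ b.2 ^^^ (a.1 &&& b.1))

/-- the opposite form -/
def fneg (a : PcFrm) : PcFrm := (a.1, a.2 ^^^ a.1)

/-- the coefficient of an unknown -/
def dig (a : PcFrm) (j : ℕ) : ZMod 4 := bq (a.1.testBit j) + 2 * bq (a.2.testBit j)

/-- the value of a form -/
def ev (V : ℕ) (v : ℕ → ZMod 4) (a : PcFrm) : ZMod 4 := ∑ j ∈ Finset.range V, dig a j * v j

theorem ev_zero (V : ℕ) (v : ℕ → ZMod 4) : ev V v (0, 0) = 0 := by simp [ev, dig, bq]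

theorem bq_add : ∀ a b c d : Bool, bq (a != c) + 2 * bq ((b != d) != (a && c)) =
    (bq a + 2 * bq b) + (bq c + 2 * bq d) := by decide

theorem bq_neg : ∀ a b : Bool, bq a + 2 * bq (b != a) = -(bq a + 2 * bq b) := by decide

theorem ev_add (V : ℕ) (v : ℕ → ZMod 4) (a b : PcFrm) : ev V v (fadd a b) = ev V v a + ev V v b := by
  rw [ev, ev, ev, ← Finset.sum_add_distrib]
  refine Finset.sum_congr rfl fun j _ => ?_
  simp only [dig, fadd, Nat.testBit_xor, Nat.testBit_and]
  rw [bq_add, add_mul]

theorem ev_neg (V : ℕ) (v : ℕ → ZMod 4) (a : PcFrm) : ev V v (fneg a) = -ev V v a := by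
  rw [ev, ev, ← Finset.sum_neg_distrib]
  refine Finset.sum_congr rfl fun j _ => ?_
  simp only [dig, fneg, Nat.testBit_xor]
  rw [bq_neg, neg_mul]

theorem ev_unit {V : ℕ} (v : ℕ → ZMod 4) {j : ℕ} (hj : j < V) : ev V v (funit j) = v j := by
  rw [ev, Finset.sum_eq_single j]
  · simp [dig, funit, bq]
  · intro i _ hi
    simp [dig, funit, bq, hi.symm]
  · intro h; exact absurd (Finset.mem_range.2 hj) h

/-- the sum of a list of forms -/
def fsum : List PcFrm → PcFrm
  | [] => (0, 0)
  | a :: l => fadd a (fsum l)

theorem ev_sum (V : ℕ) (v : ℕ → ZMod 4) : ∀ l : List PcFrm, ev V v (fsum l) = (l.map (ev V v)).sum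
  | [] => ev_zero V v
  | a :: l => by rw [fsum, ev_add, ev_sum V v l, List.map_cons, List.sum_cons]

/-- a combination of forms, the coefficients being the digits in base four -/
def lincomb : ℕ → List PcFrm → PcFrm
  | _, [] => (0, 0)
  | c, a :: l => fadd (match c % 4 with
      | 0 => (0, 0)
      | 1 => a
      | 2 => fadd a a
      | _ => fneg a) (lincomb (c / 4) l)

theorem ev_lincomb (V : ℕ) (v : ℕ → ZMod 4) : ∀ (l : List PcFrm), (∀ a ∈ l, ev V v a = 0) →
    ∀ c, ev V v (lincomb c l) = 0
  | [], _, _ => ev_zero V v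
  | a :: l, h, c => by
    have ha := h a List.mem_cons_self
    rw [lincomb, ev_add, ev_lincomb V v l (fun b hb => h b (List.mem_cons_of_mem _ hb))]
    split <;> simp [ev_add, ev_neg, ev_zero, ha]

/-! ### collection -/

/-- appending a letter to a normal form, written top first -/
def ins (rels : List (List ℕ × List ℕ)) : ℕ → List ℕ → ℕ → Option (List ℕ × PcFrm)
  | 0, _, _ => none
  | _ + 1, [], i => some ([i], (0, 0))
  | k + 1, t :: s, i =>
    if t < i then some (i :: t :: s, (0, 0))
    else
      let r := t * (t + 1) / 2 + i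
      if decide (r < rels.length) && ((rels.getD r ([], [])).1 == [t, i]) then
        (rels.getD r ([], [])).2.foldl
          (fun acc a => acc.bind fun p => (ins rels k p.1 a).map fun q => (q.1, fadd p.2 q.2))
          (some (s, funit r))
      else none

/-- the normal form of a word -/
def coll (rels : List (List ℕ × List ℕ)) (k : ℕ) (w : List ℕ) : Option (List ℕ × PcFrm) :=
  w.foldl (fun acc a => acc.bind fun p => (ins rels k p.1 a).map fun q => (q.1, fadd p.2 q.2))
    (some ([], (0, 0)))

/-! ### extensions -/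

section Ext

variable {G : Type*} [Group G] {Γ : Type*} [Group Γ] {σ : Γ →* G}
  {χ : σ.ker →* Multiplicative (ZMod 4)}

/-- equality up to a kernel element of given value -/
def E (χ : σ.ker →* Multiplicative (ZMod 4)) (a b : Γ) (m : ZMod 4) : Prop :=
  ∃ z : σ.ker, a = b * (z : Γ) ∧ Multiplicative.toAdd (χ z) = m

theorem E_refl (a : Γ) : E χ a a 0 := ⟨1, by simp, by simp⟩

theorem E_trans {a b c : Γ} {m n : ZMod 4} (h₁ : E χ a b m) (h₂ : E χ b c n) : E χ a c (m + n) := by
  obtain ⟨z, rfl, hz⟩ := h₁
  obtain ⟨w, rfl, hw⟩ := h₂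
  exact ⟨w * z, by rw [Subgroup.coe_mul, mul_assoc], by rw [map_mul, toAdd_mul, hz, hw, add_comm]⟩

theorem E_symm {a b : Γ} {m : ZMod 4} (h : E χ a b m) : E χ b a (-m) := by
  obtain ⟨z, rfl, hz⟩ := h
  exact ⟨z⁻¹, by simp, by rw [map_inv, toAdd_inv, hz]⟩

theorem E_mul (hc : σ.ker ≤ center Γ) {a b c d : Γ} {m n : ZMod 4} (h₁ : E χ a b m)
    (h₂ : E χ c d n) : E χ (a * c) (b * d) (m + n) := by
  obtain ⟨z, rfl, hz⟩ := h₁
  obtain ⟨w, rfl, hw⟩ := h₂
  refine ⟨z * w, ?_, by rw [map_mul, toAdd_mul, hz, hw]⟩
  rw [Subgroup.coe_mul, mul_assoc b (z : Γ), ← mul_assoc (z : Γ) d,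
    ← mem_center_iff.1 (hc z.2) d]
  simp [mul_assoc]

theorem E_conj (hc : σ.ker ≤ center Γ) (x : Γ) {a b : Γ} {m : ZMod 4} (h : E χ a b m) :
    E χ (x * a * x⁻¹) (x * b * x⁻¹) m := by
  simpa using E_mul hc (E_mul hc (E_refl (χ := χ) x) h) (E_refl x⁻¹)

theorem E_unique {a b : Γ} {m n : ZMod 4} (h₁ : E χ a b m) (h₂ : E χ a b n) : m = n := by
  obtain ⟨z, rfl, hz⟩ := h₁
  obtain ⟨w, hw, hw'⟩ := h₂
  rw [← hz, ← hw', Subtype.ext (mul_left_cancel hw)]

theorem fold_sound (hc : σ.ker ≤ center Γ) (L : ℕ → Γ) (V : ℕ) (v : ℕ → ZMod 4)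
    (f : List ℕ → ℕ → Option (List ℕ × PcFrm))
    (hf : ∀ s a s' g, f s a = some (s', g) → E χ (P L s.reverse * L a) (P L s'.reverse) (ev V v g)) :
    ∀ (w s : List ℕ) (g : PcFrm) (out : List ℕ × PcFrm),
      w.foldl (fun acc a => acc.bind fun p => (f p.1 a).map fun q => (q.1, fadd p.2 q.2))
        (some (s, g)) = some out →
      E χ (P L s.reverse * P L w) (P L out.1.reverse) (ev V v out.2 - ev V v g) := by
  intro w
  induction w with
  | nil =>
    intro s g out h
    simp only [List.foldl_nil, Option.some.injEq] at h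
    subst h
    rw [P_nil, mul_one, sub_self]
    exact E_refl _
  | cons a w ih =>
    intro s g out h
    rw [List.foldl_cons, Option.bind_some] at h
    cases hq : f s a with
    | none =>
      rw [hq, Option.map_none] at h
      have hn : ∀ u : List ℕ, u.foldl (fun acc a => acc.bind fun p =>
          (f p.1 a).map fun q => (q.1, fadd p.2 q.2)) none = none := by
        intro u
        induction u with
        | nil => rfl
        | cons b u ihu => exact ihu
      rw [hn] at h
      exact absurd h (by simp)
    | some q =>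
      rw [hq, Option.map_some] at h
      have h1 := hf s a q.1 q.2 hq
      have h2 := ih q.1 _ out h
      rw [P_cons, ← mul_assoc]
      have h3 := E_trans (E_mul hc h1 (E_refl (P L w))) h2
      rw [ev_add] at h3
      convert h3 using 1
      abel

variable (L : ℕ → Γ) (rels : List (List ℕ × List ℕ)) (V : ℕ) (v : ℕ → ZMod 4)

theorem ins_sound (hc : σ.ker ≤ center Γ) (hV : rels.length ≤ V)
    (hrel : ∀ r < rels.length,
      E χ (P L (rels.getD r ([], [])).1) (P L (rels.getD r ([], [])).2) (v r)) :
    ∀ (k : ℕ) (s : List ℕ) (a : ℕ) (s' : List ℕ) (g : PcFrm), ins rels k s a = some (s', g) →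
      E χ (P L s.reverse * L a) (P L s'.reverse) (ev V v g) := by
  intro k
  induction k with
  | zero => intro s a s' g h; simp [ins] at h
  | succ k ih =>
    intro s a s' g h
    cases s with
    | nil =>
      simp only [ins, Option.some.injEq, Prod.mk.injEq] at h
      obtain ⟨rfl, rfl⟩ := h
      rw [ev_zero]
      simpa [P] using E_refl (χ := χ) (L a)
    | cons t s =>
      simp only [ins] at h
      split_ifs at h with h1 h2
      · simp only [Option.some.injEq, Prod.mk.injEq] at h
        obtain ⟨rfl, rfl⟩ := h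
        rw [ev_zero]
        simpa [P, mul_assoc] using E_refl (χ := χ) (P L (t :: s).reverse * L a)
      · simp only [Bool.and_eq_true, decide_eq_true_eq, beq_iff_eq] at h2
        have h3 := fold_sound hc L V v _ (ih) _ _ _ _ h
        rw [ev_unit v (lt_of_lt_of_le h2.1 hV)] at h3
        have h4 := hrel _ h2.1
        rw [h2.2] at h4
        have h5 := E_trans (E_mul hc (E_refl (χ := χ) (P L s.reverse)) h4) h3
        rw [zero_add, add_sub_cancel] at h5
        simpa [P, mul_assoc] using h5

theorem coll_sound (hc : σ.ker ≤ center Γ) (hV : rels.length ≤ V)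
    (hrel : ∀ r < rels.length,
      E χ (P L (rels.getD r ([], [])).1) (P L (rels.getD r ([], [])).2) (v r))
    (k : ℕ) {w : List ℕ} {out : List ℕ × PcFrm} (h : coll rels k w = some out) :
    E χ (P L w) (P L out.1.reverse) (ev V v out.2) := by
  have := fold_sound hc L V v _ (ins_sound L rels V v hc hV hrel k) w [] (0, 0) out h
  simpa [P, ev_zero] using this

/-- the form of the associativity of a relation with a letter -/
def formA (k p r : ℕ) : Option PcFrm :=
  match coll rels k (p :: (rels.getD r ([], [])).1), coll rels k (p :: (rels.getD r ([], [])).2) with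
  | some a, some b => if a.1 == b.1 then some (fadd a.2 (fneg (fadd b.2 (funit r)))) else none
  | _, _ => none

theorem formA_zero (hc : σ.ker ≤ center Γ) (hV : rels.length ≤ V)
    (hrel : ∀ r < rels.length,
      E χ (P L (rels.getD r ([], [])).1) (P L (rels.getD r ([], [])).2) (v r))
    {k p r : ℕ} {f : PcFrm} (hr : r < rels.length) (hf : formA rels k p r = some f) :
    ev V v f = 0 := by
  simp only [formA] at hf
  split at hf
  · rename_i a b ha hb
    split_ifs at hf with hab
    simp only [Option.some.injEq] at hf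
    subst hf
    simp only [beq_iff_eq] at hab
    have h1 := coll_sound L rels V v hc hV hrel k ha
    have h2 := coll_sound L rels V v hc hV hrel k hb
    rw [hab] at h1
    rw [P_cons] at h1 h2
    have h3 := E_trans (E_mul hc (E_refl (χ := χ) (L p)) (hrel r hr)) h2
    have h4 := E_unique h1 h3
    rw [ev_add, ev_neg, ev_add, ev_unit v (lt_of_lt_of_le hr hV), h4]
    abel
  · exact absurd hf (by simp)

/-- the form of the conjugation of a relation: `sig` is the image of each letter and `cv` the unknown
attached to it -/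
def formB (k : ℕ) (sig cv : ℕ → ℕ) (ok : ℕ → Bool) (r : ℕ) : Option PcFrm :=
  let l := (rels.getD r ([], [])).1
  let q := (rels.getD r ([], [])).2
  if (l ++ q).all ok then
    match coll rels k (l.map sig), coll rels k (q.map sig) with
    | some a, some b => if a.1 == b.1 then
        some (fadd (fadd a.2 (fsum (l.map fun i => funit (cv i))))
          (fneg (fadd (fadd b.2 (fsum (q.map fun i => funit (cv i)))) (funit r)))) else none
    | _, _ => none
  else none

theorem formB_zero (hc : σ.ker ≤ center Γ) (hV : rels.length ≤ V)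
    (hrel : ∀ r < rels.length,
      E χ (P L (rels.getD r ([], [])).1) (P L (rels.getD r ([], [])).2) (v r))
    (N : Γ) {sig cv : ℕ → ℕ} {ok : ℕ → Bool}
    (hN : ∀ i, ok i = true → cv i < V ∧ E χ (N * L i * N⁻¹) (L (sig i)) (v (cv i)))
    {k r : ℕ} {f : PcFrm} (hr : r < rels.length) (hf : formB rels k sig cv ok r = some f) :
    ev V v f = 0 := by
  have hW : ∀ w : List ℕ, w.all ok = true →
      E χ (N * P L w * N⁻¹) (P L (w.map sig)) (ev V v (fsum (w.map fun i => funit (cv i)))) := by
    intro w
    induction w with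
    | nil =>
      intro _
      simp only [P_nil, mul_one, mul_inv_cancel, List.map_nil, fsum, ev_zero]
      exact E_refl _
    | cons i w ih =>
      intro h
      simp only [List.all_cons, Bool.and_eq_true] at h
      obtain ⟨hi, hE⟩ := hN i h.1
      have h2 := E_mul hc hE (ih h.2)
      simp only [P_cons, List.map_cons, fsum, ev_add, ev_unit v hi]
      convert h2 using 1
      group
  simp only [formB] at hf
  split_ifs at hf with hall
  split at hf
  · rename_i a b ha hb
    split_ifs at hf with hab
    simp only [Option.some.injEq] at hf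
    subst hf
    simp only [beq_iff_eq] at hab
    rw [List.all_append, Bool.and_eq_true] at hall
    have h1 := E_trans (hW _ hall.1) (coll_sound L rels V v hc hV hrel k ha)
    have h2 := E_trans (E_conj hc N (hrel r hr))
      (E_trans (hW _ hall.2) (coll_sound L rels V v hc hV hrel k hb))
    rw [hab] at h1
    have h4 := E_unique h1 h2
    simp only [ev_add, ev_neg, ev_unit v (lt_of_lt_of_le hr hV)]
    linear_combination h4
  · exact absurd hf (by simp)

end Ext

end Cfsg.Agent.PcQuad14
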