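import Mathlib
import Cfsg.Prelude.Def_KGroupFacts

/-!
A double extension of a subgroup of odd index, compatible with all conjugations, transfers to a double
extension of the whole group: the monomial extension over the cosets, modulo even changes of sign.
-/

set_option autoImplicit false

namespace Cfsg.Agent.TransferExt14

open Subgroup

universe u

variable {G : Type u} [Group G] {W : Type u} [Group W] (U : Subgroup G) (p : W →* G)

/-- the part of the preimage that conjugation by `g` keeps over `U` -/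
def Dom (g : G) : Subgroup W := (U.comap (MulAut.conj g).toMonoidHom).comap p

variable {U p}

theorem mem_Dom {g : G} {w : W} : w ∈ Dom U p g ↔ g * p w * g⁻¹ ∈ U := Iff.rfl

variable (U p)

/-- compatibility of the extension with conjugation by `g` -/
def Stable (z : W) (g : G) : Prop :=
  ∃ θ : Dom U p g →* W, (∀ w, p (θ w) = g * p w * g⁻¹) ∧ ∀ h : z ∈ Dom U p g, θ ⟨z, h⟩ = z

variable {U p}

theorem stable_comp {z : W} (hz : p z = 1) {a b : G} (ha : Stable U p z a) (hb : Stable U p z b)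
    (h : Dom U p (a * b) ≤ Dom U p b) : Stable U p z (a * b) := by
  obtain ⟨θa, hθa, hza⟩ := ha
  obtain ⟨θb, hθb, hzb⟩ := hb
  let g : Dom U p (a * b) →* Dom U p a :=
    (θb.comp (Subgroup.inclusion h)).codRestrict (Dom U p a) fun w => by
      rw [mem_Dom]
      show a * p (θb ⟨w, h w.2⟩) * a⁻¹ ∈ U
      rw [hθb]
      have := mem_Dom.1 w.2
      rwa [mul_inv_rev, show a * b * p (w : W) * (b⁻¹ * a⁻¹) = a * (b * p (w : W) * b⁻¹) * a⁻¹ by
        group] at this
  refine ⟨θa.comp g, fun w => ?_, fun hm => ?_⟩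
  · rw [MonoidHom.comp_apply, hθa]
    show a * p (θb ⟨w, h w.2⟩) * a⁻¹ = _
    rw [hθb]; group
  · rw [MonoidHom.comp_apply]
    have hza' : z ∈ Dom U p a := by rw [mem_Dom, hz, mul_one, mul_inv_cancel]; exact U.one_mem
    have : g ⟨z, hm⟩ = ⟨z, hza'⟩ := Subtype.ext (hzb (h hm))
    rw [this, hza hza']

theorem stable_of_mem {z : W} (hrange : p.range = U) (hcomm : ∀ w, w * z = z * w) {g : G}
    (hg : g ∈ U) : Stable U p z g := by
  rw [← hrange] at hg
  obtain ⟨v, rfl⟩ := hg
  refine ⟨(MulAut.conj v).toMonoidHom.comp (Subgroup.subtype _), fun w => by simp, fun h => ?_⟩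
  show v * z * v⁻¹ = z
  rw [hcomm, mul_inv_cancel_right]

theorem exists_double' [Finite G] [Finite W] (hrange : p.range = U) (z : W) (hz : z ≠ 1)
    (hker : ∀ w, p w = 1 ↔ w = 1 ∨ w = z) (hodd : Odd (Nat.card (G ⧸ U)))
    (hst : ∀ g, Stable U p z g) :
    ∃ (Γ : Type u) (_ : Group Γ) (_ : Finite Γ) (σ : Γ →* G) (Z : Γ) (Φ : W →* Γ), Function.Surjective σ ∧
      σ.ker ≤ center Γ ∧ (∀ a, σ a = 1 ↔ a = 1 ∨ a = Z) ∧ Z ≠ 1 ∧
      Φ z = Z ∧ ∀ w, σ (Φ w) = p w := by
  classical
  have := Fintype.ofFinite (G ⧸ U)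
  have hz1 : p z = 1 := (hker z).2 (Or.inr rfl)
  have hzz : z * z = 1 := by
    rcases (hker (z * z)).1 (by rw [map_mul, hz1, one_mul]) with h | h
    · exact h
    · exact absurd (mul_eq_left.1 h) hz
  have hzc : ∀ w, w * z = z * w := by
    intro w
    rcases (hker (w * z * w⁻¹)).1 (by rw [map_mul, map_mul, hz1, map_inv, mul_one, mul_inv_cancel])
      with h | h
    · exact absurd (by simpa using h) hz
    · exact mul_inv_eq_iff_eq_mul.1 h
  have hcU : ∀ w, p w = 1 → ∀ v, v * w = w * v := by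
    intro w hw v
    rcases (hker w).1 hw with rfl | rfl
    · simp
    · exact hzc v
  -- representatives adapted to the orbits of `U`
  let r : G ⧸ U → G ⧸ U := fun x => (Quotient.mk (MulAction.orbitRel U (G ⧸ U)) x).out
  have hr : ∀ x, ∃ a : U, a • r x = x := by
    intro x
    exact (MulAction.orbitRel_apply.1 ((MulAction.orbitRel U (G ⧸ U)).symm
      (Quotient.mk_out (s := MulAction.orbitRel U (G ⧸ U)) x)))
  choose a ha using hr
  have hr_eq : ∀ (u : U) x, r (u • x) = r x := fun u x => by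
    refine congrArg Quotient.out (Quotient.sound ?_)
    exact MulAction.orbitRel_apply.2 ⟨u, rfl⟩
  let t : G ⧸ U → G := fun x => (a x : G) * (r x).out
  have ht : ∀ x, ((t x : G) : G ⧸ U) = x := fun x => by
    show (((a x : G) * (r x).out : G) : G ⧸ U) = x
    conv_rhs => rw [← ha x, ← QuotientGroup.out_eq' (r x)]
    rfl
  have htU : ∀ (g : G) x, (t x)⁻¹ * g * t (g⁻¹ • x) ∈ U := by
    intro g x
    rw [mul_assoc]
    refine QuotientGroup.eq.1 ?_
    have h1 : ((g * t (g⁻¹ • x) : G) : G ⧸ U) = g • ((t (g⁻¹ • x) : G) : G ⧸ U) := rfl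
    rw [h1, ht, ht, smul_inv_smul]
  -- the monomial group
  let φ : G →* MulAut (G ⧸ U → W) := mulAutArrow
  let Γ₀ : Subgroup ((G ⧸ U → W) ⋊[φ] G) :=
    { carrier := {A | ∀ x, p (A.left x) = (t x)⁻¹ * A.right * t (A.right⁻¹ • x)}
      one_mem' := fun x => by simp
      mul_mem' := fun {A B} hA hB x => by
        have hB' := hB (A.right⁻¹ • x)
        simp only [SemidirectProduct.mul_left, SemidirectProduct.mul_right, Pi.mul_apply, map_mul]
        show p (A.left x) * p (B.left (A.right⁻¹ • x)) = _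
        rw [hA x, hB', mul_inv_rev A.right B.right, mul_smul]
        group
      inv_mem' := fun {A} hA x => by
        simp only [SemidirectProduct.inv_left, SemidirectProduct.inv_right]
        show p ((A.left (A.right⁻¹⁻¹ • x))⁻¹) = _
        rw [inv_inv, map_inv, hA, inv_smul_smul]
        group }
  let ι : W → ZMod 2 := fun w => if w = 1 then 0 else 1
  have hι : ∀ v w, p v = 1 → p w = 1 → ι (v * w) = ι v + ι w := by
    intro v w hv hw
    rcases (hker v).1 hv with rfl | rfl <;> rcases (hker w).1 hw with rfl | rfl <;>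
      simp [ι, hz, hzz] <;> decide
  have hiv : ∀ v, p v = 1 → ι v⁻¹ = ι v := by
    intro v hv
    rcases (hker v).1 hv with rfl | rfl
    · simp
    · rw [inv_eq_of_mul_eq_one_right hzz]
  let N : Subgroup Γ₀ :=
    { carrier := {A | A.1.right = 1 ∧ ∑ x, ι (A.1.left x) = 0}
      one_mem' := ⟨rfl, Finset.sum_eq_zero fun x _ => by simp [ι]⟩
      mul_mem' := fun {A B} hA hB => by
        refine ⟨by simp [hA.1, hB.1], ?_⟩
        have hk : ∀ C : Γ₀, C.1.right = 1 → ∀ x, p (C.1.left x) = 1 := fun C hC x => by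
          rw [C.2 x, hC]; simp
        calc ∑ x, ι ((A * B : Γ₀).1.left x) = ∑ x, (ι (A.1.left x) + ι (B.1.left x)) := by
              refine Finset.sum_congr rfl fun x _ => ?_
              rw [← hι _ _ (hk A hA.1 x) (hk B hB.1 x)]
              simp [hA.1]
          _ = 0 := by rw [Finset.sum_add_distrib, hA.2, hB.2, add_zero]
      inv_mem' := fun {A} hA => by
        refine ⟨by simp [hA.1], ?_⟩
        rw [← hA.2]
        refine Finset.sum_congr rfl fun x _ => ?_
        rw [show (A⁻¹ : Γ₀).1.left x = (A.1.left x)⁻¹ by simp [hA.1]]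
        exact hiv _ (by rw [A.2 x, hA.1]; simp) }
  have hk : ∀ C : Γ₀, C.1.right = 1 → ∀ x, p (C.1.left x) = 1 := fun C hC x => by
    rw [C.2 x, hC]; simp
  -- conjugation permutes the signs
  have hconj : ∀ (A k : Γ₀), k.1.right = 1 → (A * k * A⁻¹ : Γ₀).1.right = 1 ∧
      ∀ x, (A * k * A⁻¹ : Γ₀).1.left x = k.1.left (A.1.right⁻¹ • x) := by
    intro A k hk1
    refine ⟨by simp [hk1], fun x => ?_⟩
    simp only [Subgroup.coe_mul, Subgroup.coe_inv, SemidirectProduct.mul_left,
      SemidirectProduct.mul_right, SemidirectProduct.inv_left, hk1, mul_one, Pi.mul_apply]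
    show A.1.left x * k.1.left (A.1.right⁻¹ • x) *
      (A.1.left (A.1.right⁻¹⁻¹ • A.1.right⁻¹ • x))⁻¹ = _
    rw [inv_inv, smul_inv_smul, hcU _ (hk k hk1 _), mul_inv_cancel_right]
  have : N.Normal := ⟨fun k hk' A => by
    obtain ⟨h1, h2⟩ := hconj A k hk'.1
    refine ⟨h1, ?_⟩
    rw [← hk'.2, Finset.sum_congr rfl fun x _ => congrArg ι (h2 x)]
    exact Equiv.sum_comp (MulAction.toPerm A.1.right⁻¹) fun x => ι (k.1.left x)⟩
  let σ₀ : Γ₀ →* G := SemidirectProduct.rightHom.comp Γ₀.subtype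
  have hNσ : N ≤ σ₀.ker := fun A hA => hA.1
  let σ : Γ₀ ⧸ N →* G := QuotientGroup.lift N σ₀ hNσ
  obtain ⟨x₀⟩ : Nonempty (G ⧸ U) := inferInstance
  let Z₀ : Γ₀ := ⟨⟨Pi.mulSingle x₀ z, 1⟩, fun x => by
    by_cases hx : x = x₀
    · subst hx; simp [hz1]
    · simp [hx]⟩
  have hsum : ∀ k : Γ₀, k.1.right = 1 → ∀ k' : Γ₀, k'.1.right = 1 →
      ∑ x, ι (k.1.left x) = ∑ x, ι (k'.1.left x) → (k : Γ₀ ⧸ N) = k' := by
    intro k h1 k' h1' he
    refine QuotientGroup.eq.2 ⟨by simp [h1, h1'], ?_⟩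
    calc ∑ x, ι ((k⁻¹ * k' : Γ₀).1.left x) = ∑ x, (ι (k.1.left x) + ι (k'.1.left x)) := by
          refine Finset.sum_congr rfl fun x _ => ?_
          rw [show (k⁻¹ * k' : Γ₀).1.left x = (k.1.left x)⁻¹ * k'.1.left x by simp [h1],
            hι _ _ (by rw [map_inv, hk k h1, inv_one]) (hk k' h1' x), hiv _ (hk k h1 x)]
      _ = 0 := by
          rw [Finset.sum_add_distrib, he]
          have : ∀ b : ZMod 2, b + b = 0 := by decide
          exact this _
  have hsumZ : ∑ x, ι (Z₀.1.left x) = 1 := by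
    rw [Finset.sum_eq_single x₀]
    · simp [Z₀, ι, hz]
    · intro x _ hx; simp [Z₀, ι, hx]
    · intro h; exact absurd (Finset.mem_univ _) h
  have : Finite ((G ⧸ U → W) ⋊[φ] G) :=
    Finite.of_injective (fun A => (A.left, A.right)) fun A B h => by
      ext1
      · exact congrArg Prod.fst h
      · exact congrArg Prod.snd h
  choose θ hθ hθz using hst
  let comp : G → W → W := fun g w => if h : w ∈ Dom U p g then θ g ⟨w, h⟩ else 1
  have hcomp : ∀ g v w, v ∈ Dom U p g → w ∈ Dom U p g → comp g (v * w) = comp g v * comp g w := by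
    intro g v w hv hw
    simp only [comp, dif_pos hv, dif_pos hw, dif_pos (mul_mem hv hw), ← map_mul]
    rfl
  have hlift : ∀ x, ∃ w, p w = (a x : G) := fun x => by
    exact (SetLike.ext_iff.1 hrange _).2 (a x).2
  choose α hα using hlift
  let arg : W → G ⧸ U → W := fun w x => (α x)⁻¹ * w * α ((p w)⁻¹ • x)
  let h : G ⧸ U → G := fun x => ((r x).out : G)⁻¹
  have hsame : ∀ w x, r ((p w)⁻¹ • x) = r x := by
    intro w x
    have hm : p w ∈ U := hrange ▸ ⟨w, rfl⟩
    exact hr_eq (⟨p w, hm⟩⁻¹) x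
  have hmid : ∀ w x, h x * p (arg w x) * (h x)⁻¹ = (t x)⁻¹ * p w * t ((p w)⁻¹ • x) := by
    intro w x
    simp only [h, arg, t, map_mul, map_inv, hα, hsame]
    group
  have hdom : ∀ w x, arg w x ∈ Dom U p (h x) := fun w x => by
    rw [mem_Dom, hmid]; exact htU _ _
  let Φ₀ : W → Γ₀ := fun w => ⟨⟨fun x => comp (h x) (arg w x), p w⟩, fun x => by
    show p (comp (h x) (arg w x)) = _
    simp only [comp, dif_pos (hdom w x)]
    rw [hθ, hmid]⟩
  let Φ : W →* Γ₀ := MonoidHom.mk' Φ₀ fun v w => Subtype.ext (SemidirectProduct.ext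
    (funext fun x => by
      show comp (h x) (arg (v * w) x) =
        comp (h x) (arg v x) * comp (h ((p v)⁻¹ • x)) (arg w ((p v)⁻¹ • x))
      have hh : h ((p v)⁻¹ • x) = h x := by simp only [h, hsame]
      have hd := hdom w ((p v)⁻¹ • x)
      rw [hh] at hd ⊢
      rw [← hcomp _ _ _ (hdom v x) hd]
      congr 1
      simp only [arg, map_mul, mul_inv_rev, mul_smul]
      group)
    (map_mul p v w))
  have hΦz : ((Φ z : Γ₀) : Γ₀ ⧸ N) = Z₀ := by
    refine hsum _ (show p z = 1 from hz1) Z₀ rfl ?_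
    rw [hsumZ]
    have e : ∀ x, (Φ z).1.left x = z := fun x => by
      show comp (h x) (arg z x) = z
      have : arg z x = z := by
        simp only [arg, hz1, inv_one, one_smul]
        rw [mul_assoc, ← hzc, inv_mul_cancel_left]
      rw [this]
      have hzd : z ∈ Dom U p (h x) := by rw [mem_Dom, hz1, mul_one, mul_inv_cancel]; exact U.one_mem
      simp only [comp, dif_pos hzd]
      exact hθz _ hzd
    rw [Finset.sum_congr rfl fun x _ => congrArg ι (e x)]
    simp only [ι, if_neg hz, Finset.sum_const, Finset.card_univ, nsmul_eq_mul, mul_one]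
    rw [← Nat.card_eq_fintype_card]
    obtain ⟨k, hk'⟩ := hodd
    rw [hk']
    push_cast
    rw [show (2 : ZMod 2) = 0 by decide, zero_mul, zero_add]
  refine ⟨Γ₀ ⧸ N, inferInstance, inferInstance, σ, (Z₀ : Γ₀ ⧸ N), (QuotientGroup.mk' N).comp Φ, ?_, ?_, ?_, ?_, hΦz, fun w => rfl⟩
  · intro g
    have hl : ∀ x, ∃ w, p w = (t x)⁻¹ * g * t (g⁻¹ • x) := fun x => by
      exact (SetLike.ext_iff.1 hrange _).2 (htU g x)
    choose f hf using hl
    exact ⟨((⟨⟨f, g⟩, hf⟩ : Γ₀) : Γ₀ ⧸ N), rfl⟩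
  · intro A hA
    obtain ⟨k, rfl⟩ := QuotientGroup.mk_surjective A
    have hk1 : k.1.right = 1 := hA
    refine mem_center_iff.2 fun B => ?_
    obtain ⟨B, rfl⟩ := QuotientGroup.mk_surjective B
    obtain ⟨h1, h2⟩ := hconj B k hk1
    have := hsum _ h1 k hk1 (by
      rw [Finset.sum_congr rfl fun x _ => congrArg ι (h2 x)]
      exact Equiv.sum_comp (MulAction.toPerm B.1.right⁻¹) fun x => ι (k.1.left x))
    rw [QuotientGroup.mk_mul, QuotientGroup.mk_mul, QuotientGroup.mk_inv, mul_inv_eq_iff_eq_mul] at this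
    exact this
  · intro A
    constructor
    · intro hA
      obtain ⟨k, rfl⟩ := QuotientGroup.mk_surjective A
      have hk1 : k.1.right = 1 := hA
      have h01 : ∀ b : ZMod 2, b = 0 ∨ b = 1 := by decide
      rcases h01 (∑ x, ι (k.1.left x)) with h | h
      · exact Or.inl ((QuotientGroup.eq_one_iff k).2 ⟨hk1, h⟩)
      · exact Or.inr (hsum k hk1 Z₀ rfl (h.trans hsumZ.symm))
    · rintro (rfl | rfl)
      · exact map_one σ
      · rfl
  · intro h
    have := ((QuotientGroup.eq_one_iff Z₀).1 h).2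
    rw [hsumZ] at this
    exact one_ne_zero this

theorem exists_double [Finite G] [Finite W] (hrange : p.range = U) (z : W) (hz : z ≠ 1)
    (hker : ∀ w, p w = 1 ↔ w = 1 ∨ w = z) (hodd : Odd (Nat.card (G ⧸ U)))
    (hst : ∀ g, Stable U p z g)
    (hns : ∀ χ : W →* Multiplicative (ZMod 2), χ z = 1) :
    ∃ (Γ : Type u) (_ : Group Γ) (_ : Finite Γ) (σ : Γ →* G) (Z : Γ), Function.Surjective σ ∧
      σ.ker ≤ center Γ ∧ (∀ a, σ a = 1 ↔ a = 1 ∨ a = Z) ∧ Z ≠ 1 ∧
      ∀ ψ : Γ →* Multiplicative (ZMod 2), ψ Z = 1 := by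
  obtain ⟨Γ, _, _, σ, Z, Φ, h1, h2, h3, h4, h5, -⟩ := exists_double' hrange z hz hker hodd hst
  exact ⟨Γ, inferInstance, inferInstance, σ, Z, h1, h2, h3, h4, fun ψ => by
    have := hns (ψ.comp Φ)
    rwa [MonoidHom.comp_apply, h5] at this⟩

/-- For a perfect group a nonsplit double extension is a stem extension. -/
theorem stem_of_nonsplit {Γ : Type u} [Group Γ] {σ : Γ →* G} {Z : Γ} (hs : Function.Surjective σ)
    (hc : σ.ker ≤ center Γ) (hker : ∀ a, σ a = 1 ↔ a = 1 ∨ a = Z)
    (hns : ∀ ψ : Γ →* Multiplicative (ZMod 2), ψ Z = 1) (hperf : commutator G = ⊤) :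
    Cfsg.IsStemExtension σ := by
  classical
  refine ⟨hs, hc, ?_⟩
  suffices hZ : Z ∈ commutator Γ by
    intro a ha
    rcases (hker a).1 ha with rfl | rfl
    · exact one_mem _
    · exact hZ
  by_contra hZ
  have hall : ∀ γ, γ ∈ commutator Γ ∨ γ * Z ∈ commutator Γ := by
    intro γ
    have : σ γ ∈ (commutator Γ).map σ := by
      rw [_root_.commutator_def, Subgroup.map_commutator, Subgroup.map_top_of_surjective σ hs,
        ← _root_.commutator_def, hperf]
      exact mem_top _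
    obtain ⟨c, hc', he⟩ := this
    rcases (hker (γ⁻¹ * c)).1 (by rw [map_mul, map_inv, he, inv_mul_cancel]) with h | h
    · exact Or.inl (inv_mul_eq_one.1 h ▸ hc')
    · refine Or.inr ?_
      rw [← inv_mul_eq_iff_eq_mul.1 h]
      exact hc'
  have hidx : (commutator Γ).index = 2 := by
    refine Subgroup.index_eq_two_iff.2 ⟨Z, fun γ => ?_⟩
    rcases hall γ with h | h
    · refine Or.inr ⟨h, fun h' => hZ ?_⟩
      have := mul_mem (inv_mem h) h'
      rwa [inv_mul_cancel_left] at this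
    · refine Or.inl ⟨h, fun h' => hZ ?_⟩
      have := mul_mem (inv_mem h') h
      rwa [inv_mul_cancel_left] at this
  let ψ : Γ →* Multiplicative (ZMod 2) :=
    MonoidHom.mk' (fun γ => if γ ∈ commutator Γ then 1 else Multiplicative.ofAdd 1) fun a b => by
      have h := Subgroup.mul_mem_iff_of_index_two hidx (a := a) (b := b)
      by_cases ha : a ∈ commutator Γ <;> by_cases hb : b ∈ commutator Γ <;>
        simp [ha, hb, h] <;> decide
  have := hns ψ
  simp [ψ, hZ] at this

end Cfsg.Agent.TransferExt14
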