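import Cfsg.Agent.Lib.ChevF4Mult14Geom
import Cfsg.Agent.Lib.PcQuad14
import Cfsg.Agent.Lib.TransferExt14

/-!
The double extension of the unipotent subgroup of F4(2), realised inside the product with permutations
of eight points, and its compatibility with conjugation.
-/

set_option autoImplicit false
set_option maxRecDepth 100000

namespace Cfsg.Agent.ChevF4Mult14Lower

open Cfsg.Lie Cfsg.Agent.ChevF4MultData14 Cfsg.Agent.ChevF4Mult14Geom
open Cfsg.Agent.CenSplitStable50 (P P_cons P_nil P_map P_append card_chain)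
open Cfsg.Agent.PcQuad14 Subgroup

universe u

/-- the relations with the central letter -/
def rels25 : List (List ℕ × List ℕ) :=
  ((List.range 300).map fun r => ((rels.getD r ([], [])).1,
    (rels.getD r ([], [])).2 ++ if fb.testBit r then [24] else [])) ++
  (List.range 25).map fun i => ([24, i], if i = 24 then [] else [i, 24])

/-- the shape of the chain -/
def chain25 : CenSplitStable50.Cert := ⟨25, 0, rels25, [], [], [], [], []⟩

theorem shape25 : chain25.shapeOK = true := by decide +kernel

/-- a permutation from its table -/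
def permOf (l : List ℕ) : Equiv.Perm (Fin 8) :=
  let f : Fin 8 → Fin 8 := fun x => Fin.ofNat 8 (l.getD x.val 0)
  if h : ∀ x, f (f x) = x then ⟨f, f, h, h⟩ else 1

/-- the permutation at a place -/
def perm (i : ℕ) : Equiv.Perm (Fin 8) := permOf (perms.getD i [])

theorem perm_rels : ∀ r < 325,
    P perm (rels25.getD r ([], [])).1 = P perm (rels25.getD r ([], [])).2 := by decide +kernel

theorem perm_z : perm 24 ≠ 1 := by decide +kernel

theorem three_data : (rels25.getD 50 ([], []) = ([9, 5], [5, 9, 12, 24])) ∧
    (rels25.getD 57 ([], []) = ([10, 2], [2, 10, 12, 18])) ∧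
    (rels25.getD 153 ([], []) = ([17, 0], [0, 17, 18])) := by decide +kernel

/-- the places of the stabilised subgroup, then the centre -/
def place (k : ℕ) : List ℕ := ((List.range 24).filter (okk k)) ++ [24]

/-- the relations at these places -/
def rels24 (k : ℕ) : List (List ℕ × List ℕ) :=
  (List.range 24).flatMap fun t => (List.range (t + 1)).map fun i =>
    let T := (place k).getD t 0
    let e := rels25.getD (T * (T + 1) / 2 + (place k).getD i 0) ([], [])
    (e.1.map fun a => (place k).idxOf a, e.2.map fun a => (place k).idxOf a)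

/-- the image word of a place -/
def imgW (k i : ℕ) : List ℕ :=
  if i = 24 then [24] else sgd k i :: if (cl.getD k 0).testBit i then [24] else []

/-- the shape of the chain at these places -/
def chain24 (k : ℕ) : CenSplitStable50.Cert := ⟨24, 0, rels24 k, [], [], [], [], []⟩

/-- the collected images of the relations agree -/
def imgOK (k r : ℕ) : Bool :=
  let l := ((rels24 k).getD r ([], [])).1
  let q := ((rels24 k).getD r ([], [])).2
  let r' := (l.getD 0 0)
  let T := (place k).getD r' 0
  let I := (place k).getD (l.getD 1 0) 0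
  decide (T * (T + 1) / 2 + I < 325) &&
  ((l.map fun j => (place k).getD j 0, q.map fun j => (place k).getD j 0) ==
    rels25.getD (T * (T + 1) / 2 + I) ([], [])) &&
  match coll rels25 100 (l.flatMap fun j => imgW k ((place k).getD j 0)),
    coll rels25 100 (q.flatMap fun j => imgW k ((place k).getD j 0)) with
  | some a, some b => a.1 == b.1
  | _, _ => false

theorem shape24 : ∀ k < 4, (chain24 k).shapeOK = true ∧ (rels24 k).length = 300 := by decide +kernel

theorem img_data : ∀ k < 4, (List.range 300).all (imgOK k) = true := by decide +kernel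

theorem place_data : ∀ k < 4, (∀ j < 23, okk k ((place k).getD j 0) = true) ∧
    (place k).getD 23 0 = 24 ∧
    ∀ i < 24, okk k i = true → (place k).idxOf i < 23 ∧ (place k).getD ((place k).idxOf i) 0 = i := by
  decide +kernel

variable (F : Type u) [Field F]

/-- the generators of the double extension -/
noncomputable def gen (i : ℕ) : ↥(chevF4.group F) × Equiv.Perm (Fin 8) :=
  (if i < 24 then X F i else 1, perm i)

/-- the double extension -/
noncomputable def WW : Subgroup (↥(chevF4.group F) × Equiv.Perm (Fin 8)) :=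
  Subgroup.closure (gen F '' Set.Iio 25)

/-- the generators inside the extension -/
noncomputable def L (i : ℕ) : WW F :=
  ⟨gen F (min i 24), Subgroup.subset_closure ⟨min i 24, by simp only [Set.mem_Iio]; omega, rfl⟩⟩

/-- the projection -/
noncomputable def pr : WW F →* ↥(chevF4.group F) :=
  (MonoidHom.fst _ _).comp (WW F).subtype

theorem pr_L {i : ℕ} (hi : i < 24) : pr F (L F i) = X F i := by
  show (gen F (min i 24)).1 = _
  rw [min_eq_left hi.le, gen, if_pos hi]

theorem pr_z : pr F (L F 24) = 1 := by
  show (gen F (min 24 24)).1 = _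
  rw [min_self, gen, if_neg (lt_irrefl _)]

theorem rels25_lt : ∀ r < 325, (∀ a ∈ (rels25.getD r ([], [])).1, a < 25) ∧
    ∀ a ∈ (rels25.getD r ([], [])).2, a < 25 := by decide +kernel

theorem rels25_data : ∀ r < 325,
    if r < 300 then
      (rels25.getD r ([], [])).1 = (rels.getD r ([], [])).1 ∧
      (rels25.getD r ([], [])).2 = (rels.getD r ([], [])).2 ++ (if fb.testBit r then [24] else []) ∧
      (∀ a ∈ (rels.getD r ([], [])).1 ++ (rels.getD r ([], [])).2, a < 24)
    else ∃ i < 25, rels25.getD r ([], []) = ([24, i], if i = 24 then [] else [i, 24]) := by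
  decide +kernel

variable [Fintype F] (hF : Fintype.card F = 2)

include hF

theorem relsL {r : ℕ} (hr : r < 325) :
    P (L F) (rels25.getD r ([], [])).1 = P (L F) (rels25.getD r ([], [])).2 := by
  obtain ⟨hl, hq⟩ := rels25_lt r hr
  have hP : ∀ w : List ℕ, (∀ a ∈ w, a < 25) → ((P (L F) w : WW F) : ↥(chevF4.group F) × Equiv.Perm (Fin 8)) =
      (P (fun i => if i < 24 then X F i else 1) w, P perm w) := by
    intro w
    induction w with
    | nil => intro _; rfl
    | cons a w ih =>
      intro h
      rw [P_cons, Subgroup.coe_mul, ih fun b hb => h b (List.mem_cons_of_mem _ hb)]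
      show gen F (min a 24) * _ = _
      rw [min_eq_left (Nat.lt_succ_iff.1 (h a List.mem_cons_self)), P_cons, P_cons]
      rfl
  apply Subtype.ext
  rw [hP _ hl, hP _ hq]
  refine Prod.ext ?_ (perm_rels r hr)
  show P (fun i => if i < 24 then X F i else (1 : ↥(chevF4.group F))) _ =
    P (fun i => if i < 24 then X F i else (1 : ↥(chevF4.group F))) _
  have hd := rels25_data r hr
  by_cases h300 : r < 300
  · rw [if_pos h300] at hd
    obtain ⟨h1, h2, h3⟩ := hd
    have hX : ∀ w : List ℕ, (∀ a ∈ w, a < 24) →
        P (fun i => if i < 24 then X F i else (1 : ↥(chevF4.group F))) w = P (X F) w := fun w hw =>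
      congrArg List.prod (List.map_congr_left fun a ha => if_pos (hw a ha))
    rw [h1, h2, P_append, hX _ fun a ha => h3 a (List.mem_append_left _ ha),
      hX _ fun a ha => h3 a (List.mem_append_right _ ha), ← relsX hF h300]
    split_ifs <;> simp [P]
  · rw [if_neg h300] at hd
    obtain ⟨i, hi, he⟩ := hd
    rw [he]
    by_cases h24 : i = 24
    · subst h24; simp [P]
    · simp [P, h24]

omit [Fintype F] hF in
theorem L_eq {i : ℕ} (hi : i < 25) : ((L F i : WW F) : ↥(chevF4.group F) × Equiv.Perm (Fin 8)) = gen F i := by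
  show gen F (min i 24) = _
  rw [min_eq_left (Nat.lt_succ_iff.1 hi)]

omit [Fintype F] hF in
theorem WW_top : Subgroup.closure (L F '' Set.Iio 25) = ⊤ := by
  apply Subgroup.map_injective (WW F).subtype_injective
  rw [MonoidHom.map_closure, Set.image_image, ← MonoidHom.range_eq_map, Subgroup.range_subtype]
  exact congrArg Subgroup.closure (Set.image_congr fun i hi => L_eq F hi)

theorem card_WW : Nat.card (WW F) ≤ 2 ^ 25 := by
  have h := card_chain chain25 shape25 (L F) fun r hr => relsL F hF (show r < 325 from hr)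
  change Nat.card (Subgroup.closure (L F '' Set.Iio 25)) ≤ 2 ^ 25 at h
  rw [WW_top] at h
  rwa [Subgroup.card_top] at h

omit [Fintype F] hF in
theorem range_pr : (pr F).range = UU F := by
  rw [MonoidHom.range_eq_map, ← WW_top F, MonoidHom.map_closure, Set.image_image, UU]
  apply le_antisymm
  · rw [Subgroup.closure_le]
    rintro _ ⟨i, hi, rfl⟩
    simp only [Set.mem_Iio] at hi
    by_cases h : i < 24
    · show pr F (L F i) ∈ Subgroup.closure (X F '' Set.Iio 24)
      rw [pr_L F h]
      exact Subgroup.subset_closure ⟨i, h, rfl⟩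
    · show pr F (L F i) ∈ Subgroup.closure (X F '' Set.Iio 24)
      rw [show i = 24 by omega, pr_z]
      exact one_mem _
  · refine Subgroup.closure_mono ?_
    rintro _ ⟨i, hi, rfl⟩
    simp only [Set.mem_Iio] at hi
    exact ⟨i, by simp only [Set.mem_Iio]; omega, pr_L F hi⟩

omit [Fintype F] hF in
theorem z_ne : L F 24 ≠ 1 := by
  intro h
  have := congrArg (fun w : WW F => (w : ↥(chevF4.group F) × Equiv.Perm (Fin 8)).2) h
  exact perm_z this

theorem ker_pr (w : WW F) : pr F w = 1 ↔ w = 1 ∨ w = L F 24 := by
  classical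
  constructor
  · intro hw
    have hcard := (pr F).ker.card_mul_index
    rw [Subgroup.index_ker, range_pr, card_UU hF] at hcard
    have hle : Nat.card (pr F).ker ≤ 2 := by
      have h25 := card_WW F hF
      rw [← hcard, pow_succ'] at h25
      exact Nat.le_of_mul_le_mul_right h25 (by norm_num)
    by_contra hcon
    push Not at hcon
    have hsub : ({1, L F 24, w} : Set (WW F)) ⊆ (pr F).ker := by
      rintro x (rfl | rfl | rfl)
      · exact one_mem _
      · exact pr_z F
      · exact hw
    have h3 : ({1, L F 24, w} : Set (WW F)).ncard = 3 :=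
      Set.ncard_eq_three.2 ⟨1, L F 24, w, (z_ne F).symm, Ne.symm hcon.1, Ne.symm hcon.2, rfl⟩
    have := Set.ncard_le_ncard hsub (Set.toFinite _)
    rw [h3, ← Nat.card_coe_set_eq] at this
    change 3 ≤ Nat.card (pr F).ker at this
    omega
  · rintro (rfl | rfl)
    · exact map_one _
    · exact pr_z F

/-! ### nonsplitting -/

theorem nonsplit (χ : WW F →* Multiplicative (ZMod 2)) : χ (L F 24) = 1 := by
  obtain ⟨d1, d2, d3⟩ := three_data
  have e1 := congrArg χ (relsL F hF (r := 50) (by norm_num))
  have e2 := congrArg χ (relsL F hF (r := 57) (by norm_num))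
  have e3 := congrArg χ (relsL F hF (r := 153) (by norm_num))
  rw [d1] at e1
  rw [d2] at e2
  rw [d3] at e3
  simp only [P, List.map_cons, List.map_nil, List.prod_cons, List.prod_nil, mul_one, map_mul] at e1 e2 e3
  revert e1 e2 e3
  generalize χ (L F 9) = a9, χ (L F 5) = a5, χ (L F 12) = a12, χ (L F 24) = a24, χ (L F 10) = a10,
    χ (L F 2) = a2, χ (L F 18) = a18, χ (L F 17) = a17, χ (L F 0) = a0
  intro e1 e2 e3
  have h3 : a18 = 1 := by
    rw [mul_comm a0, mul_assoc] at e3
    have := mul_left_cancel e3
    exact (mul_eq_right.1 this.symm)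
  have h2 : a12 = 1 := by
    rw [h3, mul_one, mul_comm a2, mul_assoc] at e2
    have := mul_left_cancel e2
    exact (mul_eq_right.1 this.symm)
  rw [h2, one_mul, mul_comm a5, mul_assoc] at e1
  have := mul_left_cancel e1
  exact (mul_eq_right.1 this.symm)

/-! ### stability -/

theorem stable_simple {k : ℕ} (hk : k < 4) :
    TransferExt14.Stable (UU F) (pr F) (L F 24) (Nr F k) := by
  classical
  obtain ⟨hshape, hlen⟩ := shape24 k hk
  obtain ⟨hok, h23, hidx⟩ := place_data k hk
  set pl : ℕ → ℕ := fun j => (place k).getD j 0 with hpl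
  let y : ℕ → WW F × WW F := fun j => (L F (pl j), P (L F) (imgW k (pl j)))
  set T := Subgroup.closure (y '' Set.Iio 24) with hT
  have hy : ∀ w : List ℕ, P y w = (P (L F) (w.map pl), P (L F) (w.flatMap fun j => imgW k (pl j))) := by
    intro w
    induction w with
    | nil => rfl
    | cons a w ih => rw [P_cons, ih, List.map_cons, List.flatMap_cons, P_cons, P_append]; rfl
  have hcardT : Nat.card T ≤ 2 ^ 24 := card_chain (chain24 k) hshape y fun r hr => by
    have hr' : r < 300 := hlen ▸ hr
    have h := List.all_eq_true.1 (img_data k hk) r (List.mem_range.2 hr')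
    simp only [imgOK, Bool.and_eq_true, decide_eq_true_eq, beq_iff_eq] at h
    obtain ⟨⟨hlt, heq⟩, hcoll⟩ := h
    rw [hy, hy]
    refine Prod.ext ?_ ?_
    · have hA := relsL F hF hlt
      rw [← heq] at hA
      exact hA
    · split at hcoll
      · rename_i a b ha hb
        simp only [beq_iff_eq] at hcoll
        have hrelE : ∀ r < rels25.length,
            E (σ := MonoidHom.id (WW F)) (1 : (MonoidHom.id (WW F)).ker →* Multiplicative (ZMod 4))
              (P (L F) (rels25.getD r ([], [])).1) (P (L F) (rels25.getD r ([], [])).2)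
              ((fun _ => (0 : ZMod 4)) r) := fun r hr =>
          ⟨1, by rw [OneMemClass.coe_one, mul_one]; exact relsL F hF hr, rfl⟩
        have hc : (MonoidHom.id (WW F)).ker ≤ Subgroup.center (WW F) := by
          rw [MonoidHom.ker_id]; exact bot_le
        obtain ⟨z1, e1, -⟩ := coll_sound (L F) rels25 325 _ hc le_rfl hrelE 100 ha
        obtain ⟨z2, e2, -⟩ := coll_sound (L F) rels25 325 _ hc le_rfl hrelE 100 hb
        have hz : ∀ z : (MonoidHom.id (WW F)).ker, (z : WW F) = 1 := fun z => z.2
        rw [hz, mul_one] at e1 e2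
        rw [hcoll] at e1
        exact e1.trans e2.symm
      · exact absurd hcoll (by simp)
  have hp23 : pl 23 = 24 := h23
  set Wk := T.map (MonoidHom.fst (WW F) (WW F)) with hWk
  have hgenWk : ∀ i, i = 24 ∨ okk k i = true → L F i ∈ Wk := by
    intro i hi
    obtain ⟨j, hj, he⟩ : ∃ j < 24, pl j = i := by
      rcases hi with rfl | hi
      · exact ⟨23, by norm_num, h23⟩
      · have hlt : i < 24 := by
          simp only [okk, Bool.and_eq_true, decide_eq_true_eq] at hi; exact hi.1
        exact ⟨_, by have := (hidx i hlt hi).1; omega, (hidx i hlt hi).2⟩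
    exact ⟨y j, Subgroup.subset_closure ⟨j, hj, rfl⟩, by rw [← he]; rfl⟩
  -- elements over the stabilised subgroup lie in `Wk`
  have hover : ∀ w : WW F, pr F w ∈ Ui F k → w ∈ Wk := by
    intro w hw
    have h1 : pr F w ∈ Wk.map (pr F) := by
      refine (Subgroup.closure_le (Wk.map (pr F))).2 ?_ hw
      rintro _ ⟨i, hi, rfl⟩
      have hlt : i < 24 := by
        simp only [okk, Set.mem_setOf_eq, Bool.and_eq_true, decide_eq_true_eq] at hi; exact hi.1
      exact ⟨L F i, hgenWk i (Or.inr hi), pr_L F hlt⟩
    obtain ⟨v, hv, he⟩ := h1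
    rcases (ker_pr F hF (v⁻¹ * w)).1 (by rw [map_mul, map_inv, he, inv_mul_cancel]) with h | h
    · rwa [inv_mul_eq_one.1 h] at hv
    · rw [inv_mul_eq_iff_eq_mul.1 h]
      exact mul_mem hv (hgenWk 24 (Or.inl rfl))
  have hUi2 : 2 ^ 23 ≤ Nat.card (Ui F k) := by
    have hsub : (UU F : Set ↥(chevF4.group F)) ⊆ (Ui F k : Set _) ∪
        (fun v => v * X F (root.getD k 24)) '' (Ui F k : Set _) := fun u hu => UU_split hF hk hu
    have := (Set.ncard_le_ncard hsub (Set.toFinite _)).trans (Set.ncard_union_le _ _)
    rw [Set.ncard_image_of_injective _ (mul_left_injective _), ← Nat.card_coe_set_eq,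
      ← Nat.card_coe_set_eq, SetLike.coe_sort_coe, SetLike.coe_sort_coe, card_UU hF] at this
    omega
  have hcardWk : 2 ^ 24 ≤ Nat.card Wk := by
    let K : Subgroup (WW F) := (Ui F k).comap (pr F)
    have hK : K ≤ Wk := fun w hw => hover w hw
    refine le_trans ?_ (Subgroup.card_le_of_le hK)
    have h2 : Nat.card K = Nat.card ((pr F).ker.subgroupOf K) * ((pr F).ker.subgroupOf K).index :=
      (Subgroup.card_mul_index _).symm
    have hkK : (pr F).ker ≤ K := fun w hw => by
      show pr F w ∈ Ui F k
      rw [MonoidHom.mem_ker.1 hw]; exact one_mem _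
    have hker2 : 2 ≤ Nat.card ((pr F).ker.subgroupOf K) := by
      rw [Nat.card_congr (Subgroup.subgroupOfEquivOfLe hkK).toEquiv]
      have : Nontrivial (pr F).ker :=
        ⟨⟨⟨L F 24, pr_z F⟩, 1, fun e => z_ne F (congrArg Subtype.val e)⟩⟩
      exact Finite.one_lt_card
    have hidx' : Nat.card (Ui F k) ≤ ((pr F).ker.subgroupOf K).index := by
      have hr : ((pr F).comp K.subtype).range = Ui F k := by
        rw [MonoidHom.range_comp, Subgroup.range_subtype]
        refine Subgroup.map_comap_eq_self ?_
        rw [range_pr]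
        refine Subgroup.closure_mono (Set.image_mono fun i hi => ?_)
        simp only [okk, Set.mem_setOf_eq, Bool.and_eq_true, decide_eq_true_eq] at hi
        exact hi.1
      rw [show (pr F).ker.subgroupOf K = ((pr F).comp K.subtype).ker from rfl,
        Subgroup.index_ker, hr]
    calc 2 ^ 24 = 2 * 2 ^ 23 := by norm_num
      _ ≤ _ := Nat.mul_le_mul hker2 (hUi2.trans hidx')
      _ = _ := h2.symm
  let f := (MonoidHom.fst (WW F) (WW F)).subgroupMap T
  have hfs : Function.Surjective f := (MonoidHom.fst (WW F) (WW F)).subgroupMap_surjective T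
  have hfb : Function.Bijective f :=
    (Nat.bijective_iff_surjective_and_card _).2
      ⟨hfs, le_antisymm (hcardT.trans hcardWk) (Nat.card_le_card_of_surjective _ hfs)⟩
  let e := MulEquiv.ofBijective f hfb
  have hdom : ∀ w, w ∈ TransferExt14.Dom (UU F) (pr F) (Nr F k) → w ∈ Wk := fun w hw =>
    hover w (mem_Ui hF hk (range_pr F ▸ ⟨w, rfl⟩) hw)
  let θ : TransferExt14.Dom (UU F) (pr F) (Nr F k) →* WW F :=
    ((MonoidHom.snd (WW F) (WW F)).comp (T.subtype.comp e.symm.toMonoidHom)).comp
      (Subgroup.inclusion hdom)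
  -- the two coordinates
  have hcoord : ∀ x ∈ T, pr F x.2 = Nr F k * pr F x.1 * (Nr F k)⁻¹ := by
    intro x hx
    let Q : Subgroup (WW F × WW F) :=
      MonoidHom.eqLocus ((pr F).comp (MonoidHom.snd _ _))
        (((MulAut.conj (Nr F k)).toMonoidHom.comp (pr F)).comp (MonoidHom.fst _ _))
    refine ((Subgroup.closure_le Q).2 ?_ hx : x ∈ Q)
    rintro _ ⟨j, hj, rfl⟩
    show pr F (P (L F) (imgW k (pl j))) = Nr F k * pr F (L F (pl j)) * (Nr F k)⁻¹
    simp only [Set.mem_Iio] at hj
    by_cases h24 : j = 23
    · subst h24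
      rw [hp23]
      simp [imgW, P, pr_z]
    · have hj' := hok j (by omega)
      have hlt : pl j < 24 := by
        simp only [okk, Bool.and_eq_true, decide_eq_true_eq] at hj'; exact hj'.1
      have hsl : sgd k (pl j) < 24 := by
        have := (sig_data k hk _ hlt hj').1
        simp only [okk, Bool.and_eq_true, decide_eq_true_eq] at this; exact this.1
      rw [pr_L F hlt, Nr_conj hF hk hlt hj', imgW, if_neg hlt.ne, P_cons, map_mul, pr_L F hsl]
      split_ifs <;> simp [P, pr_z]
  refine ⟨θ, fun w => ?_, fun hm => ?_⟩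
  · set x := e.symm (Subgroup.inclusion hdom w)
    have h1 : (x : WW F × WW F).1 = (w : WW F) :=
      congrArg Subtype.val (e.apply_symm_apply (Subgroup.inclusion hdom w))
    show pr F (x : WW F × WW F).2 = _
    rw [hcoord _ x.2, h1]
  · set x := e.symm (Subgroup.inclusion hdom ⟨L F 24, hm⟩)
    have h1 : e ⟨(L F (pl 23), P (L F) (imgW k (pl 23))),
        Subgroup.subset_closure ⟨23, by norm_num, rfl⟩⟩ = Subgroup.inclusion hdom ⟨L F 24, hm⟩ := by
      apply Subtype.ext
      show L F (pl 23) = L F 24
      rw [hp23]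
    show (x : WW F × WW F).2 = _
    have hx : x = ⟨(L F (pl 23), P (L F) (imgW k (pl 23))),
        Subgroup.subset_closure ⟨23, by norm_num, rfl⟩⟩ := by
      show e.symm _ = _
      rw [← h1, e.symm_apply_apply]
    rw [hx]
    show P (L F) (imgW k (pl 23)) = L F 24
    rw [hp23]
    simp [imgW, P]

theorem stable_all (g : ↥(chevF4.group F)) :
    TransferExt14.Stable (UU F) (pr F) (L F 24) g := by
  have hcomm : ∀ w : WW F, w * L F 24 = L F 24 * w := by
    intro w
    rcases (ker_pr F hF (w * L F 24 * w⁻¹)).1 (by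
      rw [map_mul, map_mul, pr_z, map_inv, mul_one, mul_inv_cancel]) with h | h
    · exact absurd (conj_eq_one_iff.1 h) (z_ne F)
    · exact mul_inv_eq_iff_eq_mul.1 h
  refine bruhat_induction hF _ (fun u hu => TransferExt14.stable_of_mem (range_pr F) hcomm hu)
    (fun k hk => stable_simple F hF hk) (fun a b ha hb hab => ?_) g
  refine TransferExt14.stable_comp (pr_z F) ha hb fun w hw => ?_
  exact hab _ (range_pr F ▸ ⟨w, rfl⟩) hw

theorem exists_cover : ∃ (Γ : Type u) (_ : Group Γ) (_ : Finite Γ) (σ : Γ →* ↥(chevF4.group F)) (Z : Γ),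
    Function.Surjective σ ∧ σ.ker ≤ Subgroup.center Γ ∧ (∀ a, σ a = 1 ↔ a = 1 ∨ a = Z) ∧ Z ≠ 1 ∧
      ∀ ψ : Γ →* Multiplicative (ZMod 2), ψ Z = 1 :=
  TransferExt14.exists_double (range_pr F) (L F 24) (z_ne F) (ker_pr F hF)
    (by rw [← Subgroup.index_eq_card]; exact index_UU hF) (stable_all F hF) (nonsplit F hF)

end Cfsg.Agent.ChevF4Mult14Lower
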