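import Cfsg.Agent.Lib.StBasic
import Cfsg.Agent.Lib.ChevalleyAll

/-!
Each fundamental root of a tabulated datum occurs in a commutator of two other roots of a positive system.
-/

set_option autoImplicit false

namespace Cfsg.Agent.StGen

open Cfsg.Lie Cfsg.Agent.StBasic

instance genAtDecidable (D : ChevalleyDatum) (i : ℕ) (w : List ℕ × ℕ × ℕ × ℕ) : Decidable (GenAt D i w) := by
  unfold GenAt
  dsimp only
  cases ((D.commTerms (ChevalleyTorus.wact (D := D) w.1 w.2.1)
    (ChevalleyTorus.wact (D := D) w.1 w.2.2.1))[w.2.2.2]?) <;> infer_instance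

theorem gen_of_list {D : ChevalleyDatum} (L : List (List ℕ × ℕ × ℕ × ℕ))
    (h : ∀ i, i < D.rank → GenAt D i (L.getD i ([], 0, 0, 0))) : Gen D :=
  fun i hi => ⟨_, h i hi⟩

set_option maxRecDepth 100000

theorem gen_G2 : Gen chevG2 :=
  gen_of_list [([1], 6, 7, 0), ([0], 6, 7, 2)] (by decide +kernel)

theorem gen_B2 : Gen chevB2 :=
  gen_of_list [([1], 4, 5, 0), ([0], 4, 5, 1)] (by decide +kernel)

theorem gen_D4 : Gen chevD4 :=
  gen_of_list [([1], 14, 18, 0), ([0], 14, 18, 0), ([1], 13, 14, 0), ([1], 12, 14, 0)] (by decide +kernel)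

theorem gen_F4 : Gen chevF4 :=
  gen_of_list [([1], 27, 33, 0), ([0], 27, 33, 0), ([1], 25, 27, 1), ([2], 24, 25, 0)] (by decide +kernel)

theorem gen_E6 : Gen chevE6 :=
  gen_of_list [([2], 42, 56, 0), ([3], 39, 46, 0), ([0], 42, 56, 0), ([1], 39, 46, 0), ([3], 37, 39, 0),
    ([4], 36, 37, 0)] (by decide +kernel)

theorem gen_E7 : Gen chevE7 :=
  gen_of_list [([2], 73, 93, 0), ([3], 69, 78, 0), ([0], 73, 93, 0), ([1], 69, 78, 0), ([3], 66, 69, 0),
    ([4], 64, 66, 0), ([5], 63, 64, 0)] (by decide +kernel)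

theorem gen_E8 : Gen chevE8 :=
  gen_of_list [([2], 135, 162, 0), ([3], 130, 141, 0), ([0], 135, 162, 0), ([1], 130, 141, 0),
    ([3], 126, 130, 0), ([4], 123, 126, 0), ([5], 121, 123, 0), ([6], 120, 121, 0)] (by decide +kernel)

theorem gen_all {D : ChevalleyDatum}
    (hD : D ∈ [chevG2, chevB2, chevD4, chevF4, chevE6, chevE7, chevE8]) : Gen D := by
  simp only [List.mem_cons, List.not_mem_nil, or_false] at hD
  rcases hD with rfl | rfl | rfl | rfl | rfl | rfl | rfl
  exacts [gen_G2, gen_B2, gen_D4, gen_F4, gen_E6, gen_E7, gen_E8]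

end Cfsg.Agent.StGen
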