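import Cfsg.Agent.Lib.StBruhat

/-!
The torus of a group with Steinberg's relations: over a finite field `h_i` is multiplicative (the symbol argument),
and then the kernel onto the Chevalley group is the image of the kernel of the torus map.
-/

set_option autoImplicit false
set_option linter.unusedSectionVars false

namespace Cfsg.Agent.StTorus

open Cfsg.Lie Cfsg.Agent.ChevalleyEngine Cfsg.Agent.ChevalleyCert Cfsg.Agent.ChevalleyRoots
open Cfsg.Agent.ChevalleyCore Cfsg.Agent.ChevalleyUnipotent Cfsg.Agent.ChevalleyTorus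
open Cfsg.Agent.StBasic Cfsg.Agent.StBruhat

variable {D : ChevalleyDatum} {C : Cert D} {F : Type*} [Field F] {Γ : Type*} [Group Γ]
variable (S : Sys C F Γ) (hG : Gen D)

theorem h_one (i : ℕ) (hi : i < D.rank) : h S i (1 : F) = 1 := by
  rw [h, ← n_inv S hi (1 : F), mul_inv_cancel]

/-- `n_i(a) n_i(b) = h_i(a) h_i(-b)⁻¹` -/
theorem n_mul_n {i : ℕ} (hi : i < D.rank) (a b : F) : n S i a * n S i b = h S i a * (h S i (-b))⁻¹ := by
  rw [h, h, mul_inv_rev, n_inv S hi (-b), n_inv S hi (-1 : F), neg_neg, neg_neg, ← n_inv S hi (1 : F)]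
  group

include hG in
theorem h_conj_n {i j : ℕ} (hi : i < D.rank) (hj : j < D.rank) {t : F} (ht : t ≠ 0) (a : F) :
    h S j t * n S i a * (h S j t)⁻¹ = n S i (t ^ D.cartan j (D.simple i) * a) := by
  have hp := simple_lt C hi
  conv_lhs => rw [← MulAut.conj_apply, n, map_mul, map_mul]
  simp only [MulAut.conj_apply, h_conj S hG hj hp ht, h_conj S hG hj (C.neg_lt _) ht]
  rw [n, cartan_neg C hj hp, zpow_neg, mul_inv, mul_neg]

include hG in
theorem h_conj_h {i j : ℕ} (hi : i < D.rank) (hj : j < D.rank) {t : F} (ht : t ≠ 0) (u : F) :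
    h S j t * h S i u * (h S j t)⁻¹ =
      h S i (t ^ D.cartan j (D.simple i) * u) * (h S i (t ^ D.cartan j (D.simple i)))⁻¹ := by
  set c := t ^ D.cartan j (D.simple i) with hc
  have e : h S j t * h S i u * (h S j t)⁻¹ =
      (h S j t * n S i u * (h S j t)⁻¹) * (h S j t * n S i (-1) * (h S j t)⁻¹) := by
    rw [h.eq_1 S i u]; group
  rw [e, h_conj_n S hG hi hj ht, h_conj_n S hG hi hj ht, n_mul_n S hi]
  congr 2
  congr 1
  ring

include hG in
theorem h_comm [Finite F] {i : ℕ} (hi : i < D.rank) {t u : F} (ht : t ≠ 0) (hu : u ≠ 0) :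
    Commute (h S i t) (h S i u) := by
  have hp := simple_lt C hi
  let f : Fˣ →* GL D.Idx F :=
    { toFun := fun a => hg C (D.simple i) (a : F)
      map_one' := by rw [Units.val_one]; exact hg_one C hp
      map_mul' := fun a b => by rw [Units.val_mul]; exact (hg_mul C hp a.ne_zero b.ne_zero).symm }
  obtain ⟨g, hgen⟩ := IsCyclic.exists_generator (α := Fˣ)
  have key : ∀ a : F, a ≠ 0 → ∃ (k : ℤ) (z : Γ), S.θ z = 1 ∧ h S i a = h S i (g : F) ^ k * z := by
    intro a ha
    obtain ⟨k, hk⟩ := Subgroup.mem_zpowers_iff.1 (hgen (Units.mk0 a ha))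
    refine ⟨k, (h S i (g : F) ^ k)⁻¹ * h S i a, ?_, by rw [mul_inv_cancel_left]⟩
    rw [map_mul, map_inv, map_zpow, θ_h S hi, θ_h S hi]
    have : f g ^ k = f (Units.mk0 a ha) := by rw [← map_zpow, hk]
    rw [show hg C (D.simple i) (g : F) = f g from rfl, this]
    exact inv_mul_cancel _
  obtain ⟨k, z, hz, e1⟩ := key t ht
  obtain ⟨m, w, hw, e2⟩ := key u hu
  have cz : ∀ y, Commute y z := Subgroup.mem_center_iff.1 (mem_center_of_ker S hG hz)
  have cw : ∀ y, Commute y w := Subgroup.mem_center_iff.1 (mem_center_of_ker S hG hw)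
  rw [e1, e2]
  exact (((Commute.zpow_zpow_self _ k m).mul_right (cw _)).mul_left (cz _).symm)

include hG in
theorem h_mul_sq [Finite F] {i : ℕ} (hi : i < D.rank) {s u : F} (hs : IsSquare s) (hs0 : s ≠ 0)
    (hu : u ≠ 0) : h S i (s * u) = h S i s * h S i u := by
  obtain ⟨t, rfl⟩ := hs
  have ht : t ≠ 0 := (mul_ne_zero_iff.1 hs0).1
  have h1 := h_conj_h S hG hi hi ht u
  rw [cartan_self C hi, (h_comm S hG hi ht hu).eq, mul_inv_cancel_right,
    show t ^ (2 : ℤ) = t * t by rw [zpow_two]] at h1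
  have h2 : h S i (t * t * u) = h S i u * h S i (t * t) := eq_mul_inv_iff_mul_eq.1 h1 |>.symm
  rw [h2]
  exact (h_comm S hG hi hu hs0).eq

include hG in
theorem n_swap {i : ℕ} (hi : i < D.rank) {w : F} (hw : w ≠ 0) (b : F) :
    n S i w * S.x (D.simple i) b * (n S i w)⁻¹ = S.x (D.neg (D.simple i)) (-b / w ^ 2) ∧
      n S i w * S.x (D.neg (D.simple i)) b * (n S i w)⁻¹ = S.x (D.simple i) (-(w ^ 2 * b)) := by
  have hp := simple_lt C hi
  have hwp : wr D i (D.neg (D.simple i)) = D.simple i := by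
    rw [← w_simple C hi, w_invol C hi hp]
  refine ⟨?_, ?_⟩
  · rw [n_conj S hG hi hp hw, w_simple C hi, cn, w_simple C hi, cartan_neg C hi hp, cartan_self C hi,
      C.eta_simple i hi]
    congr 1
    simp [zpow_neg]
    field_simp
  · rw [n_conj S hG hi (C.neg_lt _) hw, hwp, cn, hwp, cartan_self C hi, eta_neg_eq C hi hp,
      C.eta_simple i hi]
    congr 1
    simp

include hG in
/-- Steinberg's identity `c(1/v, u) = 1` for `u + v = 1`. -/
theorem symbol {i : ℕ} (hi : i < D.rank) {u v : F} (hu : u ≠ 0) (hv : v ≠ 0) (huv : u + v = 1) :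
    h S i v⁻¹ * h S i u = h S i (u / v) := by
  set X := S.x (D.simple i) with hX
  set Y := S.x (D.neg (D.simple i)) with hY
  have hp := simple_lt C hi
  have hXa : ∀ a b : F, X a * X b = X (a + b) := S.x_add _ hp
  have hX0 : X 0 = 1 := x_zero S hp
  have hXi : ∀ a : F, (X a)⁻¹ = X (-a) := x_inv S hp
  have hYa : ∀ a b : F, Y a * Y b = Y (a + b) := S.x_add _ (C.neg_lt _)
  have e1 : Y (-u⁻¹) = Y (-1) * Y (-(v / u)) := by
    rw [hYa]; congr 1; field_simp; linear_combination huv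
  have e2 : Y (-1 : F) = X (-1) * n S i 1 * X (-1) := by
    rw [← hXi 1, n, inv_one, hX, hY]; group
  have e3 : X (-v) * n S i 1 = n S i 1 * Y v := by
    have := (n_swap S hG hi (neg_ne_zero.2 (one_ne_zero (α := F))) (-v)).1
    rw [neg_neg, neg_one_sq, div_one, ← n_inv S hi, inv_inv] at this
    rw [hY, ← this, hX]; group
  have e4 : Y v = X v⁻¹ * n S i (-v⁻¹) * X v⁻¹ := by
    have hxx : X v⁻¹ = (S.x (D.simple i) (-v⁻¹))⁻¹ := by rw [hX, x_inv S hp, neg_neg]
    rw [n, inv_neg, inv_inv, neg_neg, hxx, hY]; group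
  have hw : u / v ≠ 0 := div_ne_zero hu hv
  have e6 : X (u / v) * Y (-(v / u)) = n S i (u / v) * X (-(u / v)) := by
    rw [n, inv_div, ← hXi (u / v), hX, hY]; group
  have e8 : n S i (u / v) * X (-(u ^ 2 / v)) = Y v * n S i (u / v) := by
    have := (n_swap S hG hi hw (-(u ^ 2 / v))).1
    rw [mul_inv_eq_iff_eq_mul] at this
    rw [hX, hY, this]
    congr 2
    field_simp
  have e9 : n S i (-v⁻¹) * Y v = X (-v⁻¹) * n S i (-v⁻¹) := by
    have := (n_swap S hG hi (neg_ne_zero.2 (inv_ne_zero hv)) v).2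
    rw [mul_inv_eq_iff_eq_mul] at this
    rw [hX, hY, this]
    congr 2
    field_simp
  have key : n S i u = n S i 1 * n S i (-v⁻¹) * n S i (u / v) := by
    calc n S i u = X u * Y (-u⁻¹) * X u := rfl
      _ = (X u * X (-1)) * n S i 1 * X (-1) * Y (-(v / u)) * X u := by rw [e1, e2]; group
      _ = (X (-v) * n S i 1) * X (-1) * Y (-(v / u)) * X u := by
        rw [hXa]; congr 5; linear_combination huv
      _ = n S i 1 * X v⁻¹ * n S i (-v⁻¹) * (X v⁻¹ * X (-1)) * Y (-(v / u)) * X u := by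
        rw [e3, e4]; group
      _ = n S i 1 * X v⁻¹ * n S i (-v⁻¹) * (X (u / v) * Y (-(v / u))) * X u := by
        rw [hXa, show v⁻¹ + -1 = u / v by field_simp; linear_combination -huv]; group
      _ = n S i 1 * X v⁻¹ * n S i (-v⁻¹) * n S i (u / v) * (X (-(u / v)) * X u) := by rw [e6]; group
      _ = n S i 1 * X v⁻¹ * n S i (-v⁻¹) * (n S i (u / v) * X (-(u ^ 2 / v))) := by
        rw [hXa, show -(u / v) + u = -(u ^ 2 / v) by field_simp; linear_combination huv]; group
      _ = n S i 1 * X v⁻¹ * (n S i (-v⁻¹) * Y v) * n S i (u / v) := by rw [e8]; group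
      _ = n S i 1 * (X v⁻¹ * X (-v⁻¹)) * n S i (-v⁻¹) * n S i (u / v) := by rw [e9]; group
      _ = _ := by rw [hXa, add_neg_cancel, hX0, mul_one]
  rw [n_mul_n S hi, neg_neg, h_one S i hi, one_mul] at key
  have e : h S i u = (h S i v⁻¹)⁻¹ * h S i (u / v) := by
    rw [h.eq_1 S i u, key, h.eq_1 S i (u / v)]; group
  rw [e, mul_inv_cancel_left]

omit hG S in
theorem exists_nonsq_pair [Finite F] {g : F} (hg : ¬ IsSquare g) :
    ∃ v : F, ¬ IsSquare v ∧ ¬ IsSquare (1 - v) := by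
  classical
  haveI := Fintype.ofFinite F
  by_contra hc
  push Not at hc
  have hg0 : g ≠ 0 := fun h => hg ⟨0, by rw [h, mul_zero]⟩
  set N := Finset.univ.filter fun a : F => ¬ IsSquare a
  set Q := Finset.univ.filter fun a : F => IsSquare a ∧ a ≠ 0
  have hle : N.card ≤ (Q.erase 1).card := by
    refine Finset.card_le_card_of_injOn (fun a => 1 - a) (fun a ha => ?_) (fun a _ b _ h => ?_)
    · simp only [N, Finset.coe_filter, Finset.mem_univ, true_and, Set.mem_setOf_eq] at ha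
      simp only [Q, Finset.coe_erase, Finset.coe_filter, Finset.mem_univ, true_and, Set.mem_sdiff,
        Set.mem_setOf_eq, Set.mem_singleton_iff, sub_eq_self]
      refine ⟨⟨hc a ha, fun h => ha ?_⟩, fun h => ha ?_⟩
      · rw [sub_eq_zero] at h; exact h ▸ IsSquare.one
      · exact h ▸ IsSquare.zero
    · exact sub_right_injective h
  have hge : Q.card ≤ N.card := by
    refine Finset.card_le_card_of_injOn (fun a => a * g) (fun a ha => ?_) (fun a _ b _ h => ?_)
    · simp only [Q, Finset.coe_filter, Finset.mem_univ, true_and, Set.mem_setOf_eq] at ha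
      simp only [N, Finset.coe_filter, Finset.mem_univ, true_and, Set.mem_setOf_eq]
      intro h
      refine hg ?_
      rw [← inv_mul_cancel_left₀ ha.2 g]
      exact ha.1.inv.mul h
    · exact mul_right_cancel₀ hg0 h
  have h1 : (1 : F) ∈ Q := by simp [Q]
  have := Finset.card_erase_lt_of_mem h1
  omega

include hG in
/-- Over a finite field `h_i` is multiplicative. -/
theorem h_mul [Finite F] {i : ℕ} (hi : i < D.rank) {t u : F} (ht : t ≠ 0) (hu : u ≠ 0) :
    h S i (t * u) = h S i t * h S i u := by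
  by_cases h1 : IsSquare t
  · exact h_mul_sq S hG hi h1 ht hu
  by_cases h2 : IsSquare u
  · rw [mul_comm t u, h_mul_sq S hG hi h2 hu ht]
    exact (h_comm S hG hi hu ht).eq
  obtain ⟨v, hv, hv'⟩ := exists_nonsq_pair h1
  have hv0 : v ≠ 0 := fun h => hv (h ▸ IsSquare.zero)
  have hu0 : (1 : F) - v ≠ 0 := fun h => hv' (h ▸ IsSquare.zero)
  have hsym := symbol S hG hi hu0 hv0 (by ring)
  classical
  haveI := Fintype.ofFinite F
  have hdiv : ∀ a : F, ¬ IsSquare a → a ≠ 0 → ∀ b : F, ¬ IsSquare b → b ≠ 0 → IsSquare (a / b) := by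
    intro a ha ha0 b hb hb0
    rw [← quadraticChar_one_iff_isSquare (div_ne_zero ha0 hb0)]
    have e1 := quadraticChar_neg_one_iff_not_isSquare.2 ha
    have e2 := quadraticChar_neg_one_iff_not_isSquare.2 hb
    have e3 := map_mul (quadraticChar F) (a / b) b
    rw [div_mul_cancel₀ a hb0, e1, e2] at e3
    omega
  set g := v⁻¹ with hg
  have hg0 : g ≠ 0 := inv_ne_zero hv0
  have hgn : ¬ IsSquare g := fun h => hv (by simpa [hg] using h.inv)
  have hgg : ∀ {a b : F}, a ≠ 0 → b ≠ 0 → IsSquare a → IsSquare b →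
      h S i (a * g) * h S i (b * g) = h S i a * h S i b * (h S i g * h S i g) := by
    intro a b ha hb hsa hsb
    rw [h_mul_sq S hG hi hsa ha hg0, h_mul_sq S hG hi hsb hb hg0]
    calc _ = h S i a * (h S i g * h S i b) * h S i g := by group
      _ = h S i a * (h S i b * h S i g) * h S i g := by rw [(h_comm S hG hi hg0 hb).eq]
      _ = _ := by group
  have hcomb : ∀ {a b : F}, a ≠ 0 → b ≠ 0 → IsSquare a → IsSquare b →
      h S i (a * g * (b * g)) = h S i a * h S i b * h S i (g * g) := by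
    intro a b ha hb hsa hsb
    rw [show a * g * (b * g) = a * b * (g * g) by ring,
      h_mul_sq S hG hi (hsa.mul hsb) (mul_ne_zero ha hb) (mul_ne_zero hg0 hg0), h_mul_sq S hG hi hsa ha hb]
  have hsq : h S i g * h S i g = h S i (g * g) := by
    obtain ⟨b, hsb, hb0, hb⟩ : ∃ b : F, IsSquare b ∧ b ≠ 0 ∧ 1 - v = b * g :=
      ⟨(1 - v) / g, hdiv _ hv' hu0 _ hgn hg0, div_ne_zero hu0 hg0, by rw [div_mul_cancel₀ _ hg0]⟩
    have e := hcomb (a := 1) one_ne_zero hb0 IsSquare.one hsb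
    have e' := hgg (a := 1) one_ne_zero hb0 IsSquare.one hsb
    rw [one_mul, ← hb, show g * (1 - v) = (1 - v) / v by rw [hg]; field_simp, ← hsym] at e
    rw [one_mul, ← hb] at e'
    exact mul_left_cancel (e'.symm.trans e)
  obtain ⟨a, hsa, ha0, rfl⟩ : ∃ a : F, IsSquare a ∧ a ≠ 0 ∧ t = a * g :=
    ⟨t / g, hdiv _ h1 ht _ hgn hg0, div_ne_zero ht hg0, by rw [div_mul_cancel₀ _ hg0]⟩
  obtain ⟨b, hsb, hb0, rfl⟩ : ∃ b : F, IsSquare b ∧ b ≠ 0 ∧ u = b * g :=
    ⟨u / g, hdiv _ h2 hu _ hgn hg0, div_ne_zero hu hg0, by rw [div_mul_cancel₀ _ hg0]⟩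
  rw [hcomb ha0 hb0 hsa hsb, hgg ha0 hb0 hsa hsb, hsq]

/-! ### consequences of multiplicativity -/

/-- `h_i` is multiplicative for every `i` -/
def HMul : Prop := ∀ i, i < D.rank → ∀ t u : F, t ≠ 0 → u ≠ 0 → h S i (t * u) = h S i t * h S i u

variable (hM : HMul S)

include hG hM in
theorem HT_comm {i j : ℕ} (hi : i < D.rank) (hj : j < D.rank) {t u : F} (ht : t ≠ 0) (hu : u ≠ 0) :
    Commute (h S j t) (h S i u) := by
  have h1 := h_conj_h S hG hi hj ht u
  rw [mul_comm (t ^ D.cartan j (D.simple i)) u, hM i hi u _ hu (zpow_ne_zero _ ht), mul_inv_cancel_right] at h1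
  exact mul_inv_eq_iff_eq_mul.1 h1

/-- `h_i` as a homomorphism -/
def hHom {i : ℕ} (hi : i < D.rank) : Fˣ →* Γ where
  toFun a := h S i (a : F)
  map_one' := by rw [Units.val_one, h_one S i hi]
  map_mul' a b := by rw [Units.val_mul]; exact hM i hi _ _ a.ne_zero b.ne_zero

/-- the torus of `Γ` -/
noncomputable def tor : (Fin D.rank → Fˣ) →* Γ :=
  MonoidHom.noncommPiCoprod (fun i => hHom S hM i.isLt)
    fun i j _ a b => HT_comm S hG hM j.isLt i.isLt a.ne_zero b.ne_zero

theorem tor_single (i : Fin D.rank) (a : Fˣ) : tor S hG hM (Pi.mulSingle i a) = h S i.val (a : F) := by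
  rw [tor]
  exact MonoidHom.noncommPiCoprod_mulSingle _ _ _

theorem θ_tor (c : Fin D.rank → Fˣ) : S.θ (tor S hG hM c) = torus D c := by
  rw [← Finset.univ_prod_mulSingle c]
  induction (Finset.univ : Finset (Fin D.rank)) using Finset.induction_on with
  | empty => simp
  | insert a T ha ih =>
    rw [Finset.prod_insert ha, map_mul, map_mul, ih, map_mul, tor_single, θ_h S a.isLt, hg_simple C]

theorem range_tor : HT S ≤ (tor S hG hM).range := by
  rw [HT, Subgroup.closure_le]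
  rintro g ⟨i, hi, t, ht, rfl⟩
  exact ⟨Pi.mulSingle ⟨i, hi⟩ (Units.mk0 t ht), tor_single S hG hM _ _⟩

theorem ker_eq_map : S.θ.ker = ((torus D (F := F)).ker).map (tor S hG hM) := by
  refine le_antisymm (fun z hz => ?_) ?_
  · obtain ⟨c, rfl⟩ := range_tor S hG hM (ker_le_HT S hG hz)
    refine ⟨c, ?_, rfl⟩
    rw [SetLike.mem_coe, MonoidHom.mem_ker, ← θ_tor S hG hM, MonoidHom.mem_ker.1 hz]
  · rintro _ ⟨c, hc, rfl⟩
    rw [MonoidHom.mem_ker, θ_tor]
    exact hc

include hG hM in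
theorem ker_eq_bot (ht : (torus D (F := F)).ker = ⊥) : S.θ.ker = ⊥ := by
  rw [ker_eq_map S hG hM, ht, Subgroup.map_bot]

/-! ### (R3) for every root -/

/-- `n_r(t)` -/
def nR (r : ℕ) (t : F) : Γ := S.x r t * S.x (D.neg r) (-t⁻¹) * S.x r t

/-- `h_r(t)` -/
def hR (r : ℕ) (t : F) : Γ := nR S r t * nR S r (-1)

include hG hM in
theorem hR_mul {r : ℕ} (hr : r < D.nroots) :
    ∀ t u : F, t ≠ 0 → u ≠ 0 → hR S r (t * u) = hR S r t * hR S r u := by
  refine root_induction C (P := fun r => ∀ t u : F, t ≠ 0 → u ≠ 0 →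
    hR S r (t * u) = hR S r t * hR S r u) (fun i hi => hM i hi) ?_ r hr
  intro i r hi hr ih
  set e : F := (C.eta i r : F)
  have he : e * e = 1 := eta_cast_sq C i r
  have he0 : e ≠ 0 := eta_cast_ne C i r
  have hw := C.w_lt i r hi hr
  have hninv : ∀ a : F, (nR S (wr D i r) a)⁻¹ = nR S (wr D i r) (-a) := by
    intro a
    simp [nR, x_inv S hw, x_inv S (C.neg_lt _), inv_neg, mul_assoc]
  have hconj : ∀ a : F, n S i 1 * nR S r a * (n S i 1)⁻¹ = nR S (wr D i r) (e * a) := by
    intro a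
    conv_lhs => rw [← MulAut.conj_apply, nR, map_mul, map_mul]
    simp only [MulAut.conj_apply, n_conj S hG hi hr one_ne_zero, n_conj S hG hi (C.neg_lt r) one_ne_zero,
      cn, one_zpow, one_mul, eta_neg_eq C hi hr, w_neg C hi hr]
    rw [nR, mul_inv, inv_eq_of_mul_eq_one_right he, mul_neg]
  set M : F → Γ := fun t => n S i 1 * hR S r t * (n S i 1)⁻¹ with hMdef
  have hMmul : ∀ t u : F, t ≠ 0 → u ≠ 0 → M (t * u) = M t * M u := by
    intro t u ht hu
    simp only [hMdef, ih t u ht hu]; group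
  have hMe : ∀ s : F, M (e * s) = hR S (wr D i r) s * (hR S (wr D i r) e)⁻¹ := by
    intro s
    simp only [hMdef, hR]
    rw [show n S i 1 * (nR S r (e * s) * nR S r (-1)) * (n S i 1)⁻¹ =
      (n S i 1 * nR S r (e * s) * (n S i 1)⁻¹) * (n S i 1 * nR S r (-1) * (n S i 1)⁻¹) by group,
      hconj, hconj, ← mul_assoc e e s, he, one_mul, mul_inv_rev, hninv, hninv, neg_neg, mul_neg, mul_one,
      ← mul_assoc, mul_assoc (nR S (wr D i r) s) (nR S (wr D i r) (-1)), ← hninv 1, inv_mul_cancel,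
      mul_one]
  have h1 : hR S (wr D i r) (1 : F) = 1 := by rw [hR, ← hninv, mul_inv_cancel]
  have hce : hR S (wr D i r) e = (M e)⁻¹ := by
    have := hMe 1
    rw [mul_one, h1, one_mul] at this
    rw [this, inv_inv]
  have hfin : ∀ s : F, s ≠ 0 → hR S (wr D i r) s = M s := by
    intro s hs
    have := hMe s
    rw [hce, inv_inv, hMmul e s he0 hs] at this
    have hcomm : M e * M s = M s * M e := by rw [← hMmul e s he0 hs, ← hMmul s e hs he0, mul_comm]
    rw [hcomm] at this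
    exact (mul_right_cancel this).symm
  intro t u ht hu
  rw [hfin _ (mul_ne_zero ht hu), hfin t ht, hfin u hu, hMmul t u ht hu]

end Cfsg.Agent.StTorus
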