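import Cfsg.Agent.Lib.StGroup
import Cfsg.Agent.Lib.StTorus
import Cfsg.Agent.Lib.StGen
import Cfsg.Agent.Lib.ChevalleyTorusCard

/-!
(R3) in the presented groups, and triviality of the torus kernel for unimodular Cartan matrices.
-/

set_option autoImplicit false
set_option linter.unusedSectionVars false

namespace Cfsg.Agent.StGroupTorus

open Cfsg.Lie Cfsg.Agent.ChevalleyCert Cfsg.Agent.ChevalleyRoots Cfsg.Agent.ChevalleyTorus

variable {D : ChevalleyDatum} (C : Cert D) (K : Type*) [Field K]
variable {R : Set (FreeGroup (Fin D.nroots × K))} (hAB : D.steinbergRelsAB K ⊆ R)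
  (hR' : R ⊆ D.steinbergRels K)

theorem mk_stH_eq (r : ℕ) (t : K) :
    PresentedGroup.mk R (D.stH r t) = StTorus.hR (StGroup.sys C K hAB hR') r t := by
  simp [ChevalleyDatum.stH, ChevalleyDatum.hWord, ChevalleyDatum.nWord, ChevalleyDatum.stWord,
    StTorus.hR, StTorus.nR, StGroup.sys, ChevalleyDatum.neg, mul_assoc]

theorem hMul_st : StTorus.HMul (StGroup.sysSt C K) := by
  intro i hi t u ht hu
  have h := PresentedGroup.one_of_mem (rels := D.steinbergRels K)
    (Or.inr ⟨D.simple i, t, u, simple_lt C hi, ht, hu, rfl⟩)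
  rw [map_mul, map_mul, map_inv, mul_inv_eq_one] at h
  simp only [← StGroup.mk_stH C K (StGroup.relsAB_subset K) subset_rfl]
  exact h.symm

theorem hMul_cover [Finite K] (hG : StBasic.Gen D) : StTorus.HMul (StGroup.sysCover C K) :=
  fun _ hi _ _ ht hu => StTorus.h_mul (StGroup.sysCover C K) hG hi ht hu

include C in
/-- the torus map is injective for a unimodular Cartan matrix -/
theorem torus_ker_bot (S : ChevalleyTorusCard.Smith D 1 0) : (torus D (F := K)).ker = ⊥ := by
  rw [Subgroup.eq_bot_iff_forall]
  intro c hc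
  have h := (ChevalleyTorusCard.mem_ker C S.hA c).1 hc
  have h4 := congrArg (fun N => ChevalleyTorusCard.act N fun i => Additive.ofMul (c i)) S.h4
  simp only [ChevalleyTorusCard.act_add, ChevalleyTorusCard.act_mul, h, ChevalleyTorusCard.act_zero,
    zero_add, ChevalleyTorusCard.act_one] at h4
  funext i
  have := congrFun h4 i
  simp only [ChevalleyTorusCard.act, Finset.univ_eq_empty, Finset.sum_empty] at this
  exact ofMul_eq_zero.1 this.symm

end Cfsg.Agent.StGroupTorus
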