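import Cfsg.Agent.Lib.StClosedADE

/-!
The presented Steinberg groups of simply laced type over finite fields: finiteness, perfectness and the
absence of proper stem extensions.
-/

set_option autoImplicit false
set_option linter.unusedSectionVars false

namespace Cfsg.Agent.StCentral

open scoped commutatorElement
open Cfsg.Lie Cfsg.Agent.ChevalleyEngine Cfsg.Agent.ChevalleyCert Cfsg.Agent.ChevalleyRoots
open Cfsg.Agent.ChevalleyCore Cfsg.Agent.ChevalleyTorus Cfsg.Agent.StBasic Cfsg.Agent.StClosedADE

variable {D : ChevalleyDatum} {C : Cert D}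

theorem perfect {F : Type*} [Field F] {P : Type*} [Group P] (S : Sys C F P) (hD : Data C) :
    commutator P = ⊤ := by
  rw [eq_top_iff, ← S.gen, Subgroup.closure_le]
  rintro g ⟨k, hk, t, rfl⟩
  obtain ⟨β, γ, q, hβ, hp⟩ := exists_pair hD k hk
  have h := x_bracket S hD hβ hp (q * t) 1
  rw [← mul_assoc, cast_sq hD hβ hp, one_mul, mul_one] at h
  rw [← h]
  exact Subgroup.commutator_mem_commutator (Subgroup.mem_top _) (Subgroup.mem_top _)

variable (C) (K : Type*) [Field K] [Finite K]
variable {R : Set (FreeGroup (Fin D.nroots × K))} (hAB : D.steinbergRelsAB K ⊆ R)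
  (hR : R ⊆ D.steinbergRels K)

include C hAB hR in
theorem finite (hG : Gen D) : Finite (PresentedGroup R) := by
  set S := StGroup.sys C K hAB hR
  have hM : StTorus.HMul S := fun i hi t u ht hu => StTorus.h_mul S hG hi ht hu
  have : Finite S.θ.ker := by
    rw [StTorus.ker_eq_map S hG hM]
    have hf : Finite (Fin D.rank → Kˣ) := inferInstance
    exact (((torus D (F := K)).ker : Set (Fin D.rank → Kˣ)).toFinite.image (StTorus.tor S hG hM)).to_subtype
  have : Finite (GL D.Idx K) := inferInstance
  have : Finite (PresentedGroup R ⧸ S.θ.ker) :=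
    Finite.of_equiv _ (QuotientGroup.quotientKerEquivRange S.θ).toEquiv.symm
  exact Finite.of_equiv _ (Subgroup.groupEquivQuotientProdSubgroup (s := S.θ.ker)).symm

include hAB hR in
/-- a lift of the relations (R1), (R2) splits the extension -/
theorem ker_eq_bot_of_sys (hG : Gen D) {Γ : Type*} [Group Γ] (π : Γ →* PresentedGroup R) (T : Sys C K Γ)
    (hTx : ∀ r, r < D.nroots → ∀ t, π (T.x r t) = (StGroup.sys C K hAB hR).x r t) : π.ker = ⊥ := by
  set f : Fin D.nroots × K → Γ := fun p => T.x p.1.val p.2
  have hlift : ∀ r, r < D.nroots → ∀ t, FreeGroup.lift f (D.stX r t) = T.x r t := by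
    intro r hr t
    rw [ChevalleyDatum.stX, dif_pos hr, FreeGroup.lift_apply_of]
  have hrels : ∀ g ∈ D.steinbergRels K, FreeGroup.lift f g = 1 := by
    rintro g ((⟨r, a, b, hr, rfl⟩ | ⟨r, s, t, u, hr, hs, h1, h2, rfl⟩) | ⟨r, a, b, hr, ha, hb, rfl⟩)
    · rw [map_mul, map_mul, map_inv, hlift r hr, hlift r hr, hlift r hr, T.x_add r hr, mul_inv_cancel]
    · have e : FreeGroup.lift f (D.stWord (D.commWord K r s t u)) =
          ((D.commWord K r s t u).map fun p => T.x p.1 p.2).prod := by
        rw [ChevalleyDatum.stWord, map_list_prod, List.map_map]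
        exact congrArg List.prod (List.map_congr_left fun p hp =>
          hlift _ (StGroup.commWord_lt C K hr hs t u p hp) _)
      simp only [map_mul, map_inv, hlift r hr, hlift s hs, e]
      rw [mul_inv_eq_one, mul_assoc _ (T.x s u), T.comm r s hr hs h1 h2 t u]
      group
    · have e : ∀ c : K, FreeGroup.lift f (D.stH r c) = StTorus.hR T r c := by
        intro c
        have hn := C.neg_lt r
        simp only [ChevalleyDatum.stH, ChevalleyDatum.hWord, ChevalleyDatum.nWord, ChevalleyDatum.stWord,
          List.cons_append, List.nil_append, List.map_cons, List.map_nil, List.prod_cons, List.prod_nil,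
          mul_one, map_mul, hlift r hr, hlift _ hn, StTorus.hR, StTorus.nR, mul_assoc]
      rw [map_mul, map_mul, map_inv, e, e, e, mul_inv_eq_one]
      exact (StTorus.hR_mul T hG (fun i hi t u ht hu => StTorus.h_mul T hG hi ht hu) hr a b ha hb).symm
  set ψ : PresentedGroup R →* Γ := PresentedGroup.toGroup (f := f) fun g hg => hrels g (hR hg)
  have hid : π.comp ψ = MonoidHom.id _ := PresentedGroup.ext fun p => by
    show π (ψ (PresentedGroup.of p)) = PresentedGroup.of p
    rw [PresentedGroup.toGroup.of]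
    show π (T.x p.1.val p.2) = _
    rw [hTx _ p.1.isLt]
    show PresentedGroup.mk R (D.stX p.1.val p.2) = _
    rw [ChevalleyDatum.stX, dif_pos p.1.isLt]
    rfl
  have hψ : Function.Surjective ψ := by
    rw [← MonoidHom.range_eq_top, eq_top_iff, ← T.gen, Subgroup.closure_le]
    rintro g ⟨r, hr, t, rfl⟩
    exact ⟨PresentedGroup.of (⟨r, hr⟩, t), PresentedGroup.toGroup.of _⟩
  rw [Subgroup.eq_bot_iff_forall]
  intro z hz
  obtain ⟨w, rfl⟩ := hψ z
  have : π (ψ w) = w := DFunLike.congr_fun hid w
  rw [MonoidHom.mem_ker.1 hz] at this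
  rw [← this, map_one]

include hAB hR in
/-- no proper stem extensions -/
theorem ker_eq_bot (hG : Gen D) (hD : Data C) {Γ : Type*} [Group Γ] (π : Γ →* PresentedGroup R)
    (hπ : Cfsg.IsStemExtension π) (hA : CommAll (StGroup.sys C K hAB hR) π hπ.1) : π.ker = ⊥ := by
  obtain ⟨T, -, hTx⟩ := lift_sys (StGroup.sys C K hAB hR) π hπ.1 hπ.2.1 hA hG hD hπ.2.2
  exact ker_eq_bot_of_sys C K hAB hR hG π T hTx

include hAB hR in
theorem ker_eq_bot_of_wit (hG : Gen D) (hD : Data C) (hW : Wit D) {Γ : Type*} [Group Γ]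
    (π : Γ →* PresentedGroup R) (hπ : Cfsg.IsStemExtension π) : π.ker = ⊥ :=
  ker_eq_bot C K hAB hR hG hD π hπ (commAll_of_wit _ π hπ.1 hπ.2.1 hG hD hW)

/-- the projection of the presented group onto the Chevalley group -/
def proj : PresentedGroup R →* D.group K :=
  (MulEquiv.subgroupCongr (StGroup.range_sys C K (StGroup.sys C K hAB hR))).toMonoidHom.comp
    (StGroup.sys C K hAB hR).θ.rangeRestrict

theorem proj_surjective : Function.Surjective (proj C K hAB hR) :=
  (MulEquiv.subgroupCongr (StGroup.range_sys C K (StGroup.sys C K hAB hR))).surjective.comp (StGroup.sys C K hAB hR).θ.rangeRestrict_surjective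

theorem ker_proj : (proj C K hAB hR).ker = (StGroup.sys C K hAB hR).θ.ker := by
  rw [← (StGroup.sys C K hAB hR).θ.ker_rangeRestrict]
  ext z
  simp [proj, MonoidHom.mem_ker]

end Cfsg.Agent.StCentral
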