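import Cfsg.Agent.Lib.StThree
import Cfsg.Agent.Lib.StCentral
import Cfsg.Agent.Lib.StemBasic

/-!
Schur multipliers of the Steinberg groups and Chevalley groups of types G2 and F4, and of the Steinberg groups of
types B2 and D4.
-/

set_option autoImplicit false
set_option linter.unusedSectionVars false

namespace Cfsg.Agent.StMultSmall

open scoped commutatorElement
open Cfsg.Lie Cfsg.Agent.ChevalleyCert Cfsg.Agent.ChevalleyRoots Cfsg.Agent.ChevalleyTorus
open Cfsg.Agent.ChevalleyCheck Cfsg.Agent.ChevalleyCheckSound Cfsg.Agent.StBasic Cfsg.Agent.StLifts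

universe u

variable {D : ChevalleyDatum} (C : Cert D) (K : Type u) [Field K] [Finite K] (hG : Gen D)

/-- every stem extension lifts the relations -/
def LiftsAll : Prop :=
  ∀ (Γ : Type u) [Group Γ] (π : Γ →* D.SteinbergGroup K), Cfsg.IsStemExtension π →
    ∃ T : Sys C K Γ, T.θ = (StGroup.sysSt C K).θ.comp π ∧
      ∀ r, r < D.nroots → ∀ t, π (T.x r t) = (StGroup.sysSt C K).x r t

/-- every root is moved by the torus -/
def Moved (D : ChevalleyDatum) (K : Type*) [Field K] : Prop :=
  ∀ r, r < D.nroots → ∃ j, j < D.rank ∧ ∃ c : K, c ≠ 0 ∧ c ^ D.cartan j r ≠ 1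

include C hG in
theorem finite_st : Finite (D.SteinbergGroup K) :=
  StCentral.finite C K (StGroup.relsAB_subset K) subset_rfl hG

include hG in
theorem torus_comm {Γ : Type*} [Group Γ] {π : Γ →* D.SteinbergGroup K} (hc : π.ker ≤ Subgroup.center Γ) :
    TorusOK (StGroup.sysSt C K) π :=
  torusOK_of_commute hc fun _ _ hi hj _ _ hd hd' =>
    StTorus.HT_comm (StGroup.sysSt C K) hG (StGroupTorus.hMul_st C K) hj hi hd hd'

include C hG in
theorem perfect (hm : Moved D K) : commutator (D.SteinbergGroup K) = ⊤ := by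
  set S := StGroup.sysSt C K
  rw [eq_top_iff, ← S.gen, Subgroup.closure_le]
  rintro g ⟨r, hr, t, rfl⟩
  obtain ⟨j, hj, c, hc, hne⟩ := hm r hr
  set χ := c ^ D.cartan j r
  have hχ : χ - 1 ≠ 0 := sub_ne_zero.2 hne
  have e : S.x r t = ⁅h S j c, S.x r (t / (χ - 1))⁆ := by
    rw [commutatorElement_def, StBruhat.h_conj S hG hj hr hc, x_inv S hr, S.x_add r hr]
    congr 1
    field_simp
    ring
  rw [e]
  exact Subgroup.commutator_mem_commutator (Subgroup.mem_top _) (Subgroup.mem_top _)

include C hG in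
theorem st_trivial (hL : LiftsAll C K) : Cfsg.HasCyclicSchurMultiplier (D.SteinbergGroup K) 1 := by
  have := finite_st C K hG
  refine StemBasic.hasCyclic_one fun Γ _ _ π hπ => ?_
  obtain ⟨T, -, hTx⟩ := hL Γ π hπ
  exact StCentral.ker_eq_bot_of_sys C K (StGroup.relsAB_subset K) subset_rfl hG π T hTx

include C hG in
theorem group_trivial (hL : LiftsAll C K) (hm : Moved D K) (ht : (torus D (F := K)).ker = ⊥) :
    Cfsg.HasCyclicSchurMultiplier ↥(D.group K) 1 := by
  have := finite_st C K hG
  have hAB := StGroup.relsAB_subset (D := D) K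
  have hk : (StCentral.proj C K hAB subset_rfl).ker = ⊥ := by
    rw [StCentral.ker_proj]
    exact StTorus.ker_eq_bot (StGroup.sysSt C K) hG (StGroupTorus.hMul_st C K) ht
  have : Subsingleton (StCentral.proj C K hAB subset_rfl).ker := by rw [hk]; infer_instance
  refine StemBasic.hasSchurMultiplier_of_cover (StCentral.proj C K hAB subset_rfl)
    (StCentral.proj_surjective C K hAB subset_rfl) (hk ▸ bot_le) (perfect C K hG hm) (fun Γ _ _ π hπ => ?_)
    { toFun := fun _ => 1, invFun := fun _ => 1, left_inv := fun _ => Subsingleton.elim _ _,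
      right_inv := fun _ => Subsingleton.elim _ _, map_mul' := fun _ _ => Subsingleton.elim _ _ }
  obtain ⟨T, -, hTx⟩ := hL Γ π hπ
  exact StCentral.ker_eq_bot_of_sys C K hAB subset_rfl hG π T hTx

/-! ### the hypotheses for the fields in question -/

variable {T : Tables} {E : List (List ℤ)} {ks : List ℕ}

omit [Finite K] in
theorem moved (hF : chkFast D T = true) (hp : StSepData.chkPairs D T ks E = true) {c : K} (hc : c ≠ 0)
    (hks : ∀ k ∈ ks, c ^ k ≠ 1) : Moved D K := by
  intro r hr
  have h := (Bool.and_eq_true _ _ ▸ allR hp hr).1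
  simp only [List.any_eq_true, List.mem_range] at h
  obtain ⟨j, hj, h⟩ := h
  rw [StSepData.cartT_of_fast hF hj hr] at h
  exact ⟨j, hj, c, hc, StSepData.ne_one_of_absIn hks h⟩

omit [Finite K] in
theorem moved_three (hF : chkFast D T = true) (hp : StThree.chkThree D T E = true) (h2 : (2 : K) ≠ 0) :
    Moved D K := by
  intro r hr
  have h := (Bool.and_eq_true _ _ ▸ allR hp hr).1
  simp only [List.any_eq_true, List.mem_range] at h
  obtain ⟨j, hj, h⟩ := h
  rw [StSepData.cartT_of_fast hF hj hr] at h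
  refine ⟨j, hj, -1, neg_ne_zero.2 one_ne_zero, StSepData.ne_one_of_absIn ?_ h⟩
  intro k hk e
  simp only [List.mem_cons, List.not_mem_nil, or_false] at hk
  subst hk
  rw [pow_one] at e
  exact h2 (by linear_combination -e)

omit [Finite K] in
theorem big_set [Fintype K] (h : 5 ≤ Fintype.card K) : ∃ s : Finset K, 4 < s.card :=
  ⟨Finset.univ, by rw [Finset.card_univ]; omega⟩

omit [Finite K] in
/-- over the field of four elements: characteristic two and an element not squaring to one -/
theorem four_data [Fintype K] (h : Fintype.card K = 4) : (2 : K) = 0 ∧ ∃ c : K, c ≠ 0 ∧ c ^ 2 ≠ 1 := by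
  have h2 : (2 : K) = 0 := by
    have h4 : ((4 : ℕ) : K) = 0 := h ▸ FiniteField.cast_card_eq_zero K
    have : (2 : K) * 2 = 0 := by push_cast at h4; linear_combination h4
    exact mul_self_eq_zero.1 this
  refine ⟨h2, ?_⟩
  classical
  obtain ⟨c, hc⟩ : ∃ c : K, c ∉ ({0, 1} : Finset K) := by
    by_contra hcon
    push Not at hcon
    have hle := Finset.card_le_card (show (Finset.univ : Finset K) ⊆ {0, 1} from fun x _ => hcon x)
    rw [Finset.card_univ, h, Finset.card_pair zero_ne_one] at hle
    omega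
  simp only [Finset.mem_insert, Finset.mem_singleton, not_or] at hc
  refine ⟨c, hc.1, fun e => hc.2 ?_⟩
  have : (c - 1) * (c - 1) = 0 := by linear_combination e - (c - 1) * h2
  exact sub_eq_zero.1 (mul_self_eq_zero.1 this)

omit [Finite K] in
/-- over the field of three elements -/
theorem three_data [Fintype K] (h : Fintype.card K = 3) :
    (3 : K) = 0 ∧ (2 : K) ≠ 0 ∧ ∀ a : K, ∃ k : ℕ, a = k := by
  have h3 : (3 : K) = 0 := by
    have := FiniteField.cast_card_eq_zero K
    rw [h] at this
    exact_mod_cast this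
  have h2 : (2 : K) ≠ 0 := fun h2 => one_ne_zero (α := K) (by linear_combination h3 - h2)
  haveI : Fact (Fintype.card K).Prime := ⟨h ▸ Nat.prime_three⟩
  have : CharP K (Fintype.card K) := charP_of_card_eq_prime rfl
  refine ⟨h3, h2, fun a => ?_⟩
  have hs : Function.Surjective (ZMod.castHom (dvd_refl _) K : ZMod (Fintype.card K) →+* K) :=
    (ZMod.castHom_bijective K rfl).2
  obtain ⟨b, rfl⟩ := hs a
  exact ⟨b.val, by rw [← map_natCast (ZMod.castHom (dvd_refl _) K) b.val, ZMod.natCast_zmod_val]⟩

include hG in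
theorem liftsAll_big [Fintype K] (hF : chkFast D T = true) (hp : StSepData.chkPairs D T ks E = true)
    (hs : StSepData.chkScal D T ks E = true) (hks : ∀ k ∈ ks, k ∈ [1, 2, 3]) (h : 5 ≤ Fintype.card K) :
    LiftsAll C K := fun _ _ π hπ =>
  StClosedSmall.lift_of_big (StGroup.sysSt C K) hG π hπ.1 hπ.2.1 hπ.2.2 (torus_comm C K hG hπ.2.1) hF hp hs hks
    (big_set K h)

include hG in
theorem liftsAll_four [Fintype K] (hF : chkFast D T = true) (hp : StSepData.chkPairs D T [1, 2] E = true)
    (hs : StSepData.chkSelf D T [1, 2] E = true) (h : Fintype.card K = 4) : LiftsAll C K := by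
  obtain ⟨h2, c, hc0, hc2⟩ := four_data K h
  exact fun _ _ π hπ => StClosedSmall.lift_of_four (StGroup.sysSt C K) hG π hπ.1 hπ.2.1 hπ.2.2
    (torus_comm C K hG hπ.2.1) hF hp hs hc0 hc2 h2

include hG in
theorem liftsAll_three [Fintype K] (hF : chkFast D T = true) (hp : StThree.chkThree D T E = true)
    (h : Fintype.card K = 3) : LiftsAll C K := by
  obtain ⟨h3, h2, hpr⟩ := three_data K h
  exact fun _ _ π hπ => StThree.lift_three C hπ.1 hπ.2.1 hG h3 hF hp hpr (torus_comm C K hG hπ.2.1) h2 hπ.2.2

end Cfsg.Agent.StMultSmall
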