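import Cfsg.Agent.Lib.StLifts

/-!
Lifting Steinberg's relations to a central extension whose kernel has no torsion at the characteristic: each root
element has exactly one lift of order dividing `p`.
-/

set_option autoImplicit false
set_option linter.unusedSectionVars false

namespace Cfsg.Agent.StPrimeTo

open scoped commutatorElement
open Cfsg.Lie Cfsg.Agent.ChevalleyCert Cfsg.Agent.ChevalleyRoots Cfsg.Agent.StBasic Cfsg.Agent.StClosedGen
open Cfsg.Agent.StLifts

variable {D : ChevalleyDatum} {C : Cert D} {F : Type*} [Field F] {P : Type*} [Group P] {S : Sys C F P}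
variable {Γ : Type*} [Group Γ] {π : Γ →* P} (hπ : Function.Surjective π) (hc : π.ker ≤ Subgroup.center Γ)
variable (hG : Gen D) {p : ℕ} (hp : (p : F) = 0) (htor : ∀ z : Γ, π z = 1 → z ^ p = 1 → z = 1)
variable (hdiv : ∀ z : Γ, π z = 1 → ∃ w : Γ, π w = 1 ∧ w ^ p = z)

include hp in
theorem x_pow {r : ℕ} (hr : r < D.nroots) (t : F) : (S.x r t) ^ p = 1 := by
  have h : ∀ n : ℕ, (S.x r t) ^ n = S.x r ((n : F) * t) := by
    intro n
    induction n with
    | zero => rw [pow_zero, Nat.cast_zero, zero_mul, x_zero S hr]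
    | succ n ih => rw [pow_succ, ih, S.x_add r hr, Nat.cast_succ, add_mul, one_mul]
  rw [h, hp, zero_mul, x_zero S hr]

include hπ hc hp hdiv in
theorem exists_lift {r : ℕ} (hr : r < D.nroots) (t : F) : ∃ a : Γ, π a = S.x r t ∧ a ^ p = 1 := by
  obtain ⟨a, ha⟩ := hπ (S.x r t)
  obtain ⟨w, hw, hwp⟩ := hdiv (a ^ p) (by rw [map_pow, ha, x_pow hp hr])
  refine ⟨a * w⁻¹, by rw [map_mul, map_inv, ha, hw, inv_one, mul_one], ?_⟩
  have hcm : Commute a w⁻¹ := (show Commute a w from StemBasic.ker_comm hc hw a).inv_right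
  rw [hcm.mul_pow, inv_pow, hwp, mul_inv_cancel]

include hc htor in
theorem lift_unique {a b : Γ} (h : π a = π b) (ha : a ^ p = 1) (hb : b ^ p = 1) : a = b := by
  obtain ⟨z, hz, rfl⟩ := StemBasic.exists_ker_mul h
  have hcm : Commute b z := StemBasic.ker_comm hc hz b
  rw [hcm.mul_pow, hb, one_mul] at ha
  rw [htor z hz ha, mul_one]

include hc hp htor in
theorem commPair_of_commute {r s : ℕ} (hr : r < D.nroots) (hcm : ∀ t u : F, Commute (S.x r t) (S.x s u)) :
    CommPair S π r s := by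
  intro t u g g' hg hg'
  have hz : π ⁅g, g'⁆ = 1 := StemPairing.bracket_mem_ker (by rw [hg, hg']; exact hcm t u)
  rw [← commutatorElement_eq_one_iff_commute]
  refine htor _ hz ?_
  have h : ∀ n : ℕ, ⁅g, g'⁆ ^ n = ⁅g ^ n, g'⁆ ∧ π (g ^ n) = S.x r ((n : F) * t) := by
    intro n
    induction n with
    | zero =>
      exact ⟨by rw [pow_zero, pow_zero, commutatorElement_one_left],
        by rw [pow_zero, map_one, Nat.cast_zero, zero_mul, x_zero S hr]⟩
    | succ n ih =>
      refine ⟨?_, by rw [pow_succ, map_mul, ih.2, hg, S.x_add r hr, Nat.cast_succ, add_mul, one_mul]⟩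
      rw [pow_succ, ih.1, pow_succ,
        StemPairing.bracket_mul_left hc (a := g ^ n) (a' := g) (b := g') (by rw [hg, hg']; exact hcm t u)]
  rw [(h p).1, ← StemPairing.bracket_congr hc (a := 1) (b := g')
    (by rw [map_one, (h p).2, hp, zero_mul, x_zero S hr]) rfl, commutatorElement_one_left]

include hπ hc hG hp htor hdiv in
theorem liftAt {r : ℕ} (hr : r < D.nroots) : LiftAt S π r := by
  choose f hf1 hf2 using exists_lift hπ hc hp hdiv hr (S := S)
  refine ⟨f, hf1, fun t u => ?_, fun i hi d hd g hg t => ?_⟩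
  · have hcm : Commute (f t) (f u) := commPair_of_commute hc hp htor hr
      (fun a b => by rw [Commute, SemiconjBy, S.x_add r hr, S.x_add r hr, add_comm]) t u _ _ (hf1 t) (hf1 u)
    exact lift_unique hc htor (by rw [map_mul, hf1, hf1, hf1, S.x_add r hr])
      (by rw [hcm.mul_pow, hf2, hf2, mul_one]) (hf2 _)
  · exact lift_unique hc htor (by rw [map_mul, map_mul, map_inv, hg, hf1, hf1, StBruhat.h_conj S hG hi hr hd])
      (by rw [conj_pow, hf2, mul_one, mul_inv_cancel]) (hf2 _)

include hπ hc hG hp htor hdiv in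
/-- (R1) and (R2) lift to the extension -/
theorem lift_prime (hk : π.ker ≤ commutator Γ) :
    ∃ U : Sys C F Γ, U.θ = S.θ.comp π ∧ ∀ r, r < D.nroots → ∀ t : F, π (U.x r t) = S.x r t := by
  obtain ⟨X⟩ := exists_lifts fun r hr => liftAt hπ hc hG hp htor hdiv hr
  exact lift_sys X hπ hc (fun _ _ _ _ _ _ => Or.inr <| Or.inr <| Or.inr ⟨p, hp, htor⟩) hk

end Cfsg.Agent.StPrimeTo
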