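import Cfsg.Agent.Lib.ChevF4Mult14Geom
import Cfsg.Agent.Lib.CentralClass14
import Cfsg.Agent.Lib.StMultSmall
import Cfsg.Agent.Lib.StGroupTorus
import Cfsg.Agent.Lib.StPrimeTo

/-!
Kernels of stem extensions of F4(2) have order at most two: away from two the relations of Steinberg
lift, and at two every class on the unipotent subgroup which is compatible with the simple reflections
is a multiple of one class of order two.
-/

set_option autoImplicit false
set_option maxRecDepth 100000

namespace Cfsg.Agent.ChevF4Mult14Upper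

open Cfsg.Lie Cfsg.Agent.ChevF4MultData14 Cfsg.Agent.ChevF4Mult14Geom
open Cfsg.Agent.CenSplitStable50 (P P_cons P_nil P_map P_append)
open Cfsg.Agent.PcQuad14 Subgroup

universe u

/-- the unknown of a reflection at a place -/
def cvar (k i : ℕ) : ℕ := 300 + 24 * k + i

/-- the correction of a lift -/
def lamOf (i : ℕ) : PcFrm := lam.getD i (0, 0)

/-- the change of a relation by the corrections -/
def lamDiff (r : ℕ) : PcFrm :=
  fadd (fsum ((rels.getD r ([], [])).1.map lamOf)) (fneg (fsum ((rels.getD r ([], [])).2.map lamOf)))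

/-- an equation -/
def formOf (e : ℕ × ℕ × ℕ) : Option PcFrm :=
  if e.1 = 0 then formA rels 100 e.2.1 e.2.2
  else if e.2.1 < 4 then formB rels 100 (sgd e.2.1) (cvar e.2.1) (okk e.2.1) e.2.2 else none

/-- the class term of a relation -/
def clsTerm (r : ℕ) : PcFrm := if cs.testBit r then om else (0, 0)

theorem eqs_check : eqs.length = forms.length ∧
    ((List.range eqs.length).all fun j => decide ((eqs.getD j (0, 0, 0)).2.2 < 300) &&
      (formOf (eqs.getD j (0, 0, 0)) == some (forms.getD j (0, 0)))) = true := by decide +kernel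

theorem comb_check : ((List.range 300).all fun r =>
    fadd (funit r) (fneg (fadd (lamDiff r) (clsTerm r))) == lincomb (combos.getD r 0) forms) = true := by
  decide +kernel

theorem twice_check : fadd om om = lincomb combo2 forms := by decide +kernel

theorem shapeC : (⟨24, 0, rels, [], [], [], [], []⟩ : CenSplitStable50.Cert).shapeOK = true := by
  decide +kernel

theorem rels_lt : ∀ r < 300, ∀ a ∈ (rels.getD r ([], [])).1 ++ (rels.getD r ([], [])).2, a < 24 := by
  decide +kernel

variable {F : Type u} [Field F] [Fintype F] (hF : Fintype.card F = 2)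
variable {Γ : Type u} [Group Γ] [Finite Γ] {σ : Γ →* ↥(chevF4.group F)} (hσ : Cfsg.IsStemExtension σ)

include hF hσ in
/-- one element of the kernel determines the characters modulo four -/
theorem char_facts : ∃ a : σ.ker, ∀ χ : σ.ker →* Multiplicative (ZMod 4),
    χ a * χ a = 1 ∧ (χ a = 1 → χ = 1) := by
  classical
  choose L hL using fun i => hσ.1 (X F i)
  choose M hM using fun k => hσ.1 (Nr F k)
  have hσP : ∀ w, σ (P L w) = P (X F) w := fun w => by
    rw [P_map]; exact congrArg (fun f => P f w) (funext hL)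
  have hd : ∀ j, ∃ z : σ.ker,
      (j < 300 → P L (rels.getD j ([], [])).1 = P L (rels.getD j ([], [])).2 * (z : Γ)) ∧
      (300 ≤ j → (j - 300) / 24 < 4 → okk ((j - 300) / 24) ((j - 300) % 24) = true →
        M ((j - 300) / 24) * L ((j - 300) % 24) * (M ((j - 300) / 24))⁻¹ =
          L (sgd ((j - 300) / 24) ((j - 300) % 24)) * (z : Γ)) := by
    intro j
    by_cases h : j < 300
    · obtain ⟨z, hz, he⟩ := StemBasic.exists_ker_mul (σ := σ)
        (show σ (P L (rels.getD j ([], [])).1) = σ (P L (rels.getD j ([], [])).2) by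
          rw [hσP, hσP, relsX hF h])
      exact ⟨⟨z, hz⟩, fun _ => he, fun h' => absurd h (by omega)⟩
    · by_cases h' : (j - 300) / 24 < 4 ∧ okk ((j - 300) / 24) ((j - 300) % 24) = true
      · obtain ⟨z, hz, he⟩ := StemBasic.exists_ker_mul (σ := σ)
          (show σ (M ((j - 300) / 24) * L ((j - 300) % 24) * (M ((j - 300) / 24))⁻¹) =
              σ (L (sgd ((j - 300) / 24) ((j - 300) % 24))) by
            rw [map_mul, map_mul, map_inv, hM, hL, hL, Nr_conj hF h'.1 (Nat.mod_lt _ (by norm_num)) h'.2])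
        exact ⟨⟨z, hz⟩, fun h'' => absurd h'' h, fun _ _ _ => he⟩
      · exact ⟨1, fun h'' => absurd h'' h, fun _ a b => absurd ⟨a, b⟩ h'⟩
  choose d hd1 hd2 using hd
  refine ⟨((List.range 396).map fun j => d j ^ (dig om j).val).prod, fun χ => ?_⟩
  let v : ℕ → ZMod 4 := fun j => Multiplicative.toAdd (χ (d j))
  have ha : Multiplicative.toAdd (χ ((List.range 396).map fun j => d j ^ (dig om j).val).prod) =
      ev 396 v om := by
    rw [ev]
    have : ∀ n, Multiplicative.toAdd (χ ((List.range n).map fun j => d j ^ (dig om j).val).prod) =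
        ∑ j ∈ Finset.range n, dig om j * v j := by
      intro n
      induction n with
      | zero => simp
      | succ n ih =>
        rw [List.range_succ, List.map_append, List.prod_append, map_mul, toAdd_mul, ih,
          Finset.sum_range_succ]
        congr 1
        simp only [List.map_cons, List.map_nil, List.prod_cons, List.prod_nil, mul_one, map_pow,
          toAdd_pow, nsmul_eq_mul, ZMod.natCast_zmod_val]
        rfl
    exact this 396
  have hc := hσ.2.1
  have hrelE : ∀ r < rels.length,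
      E χ (P L (rels.getD r ([], [])).1) (P L (rels.getD r ([], [])).2) (v r) := fun r hr =>
    ⟨d r, hd1 r (show r < 300 from rels_len ▸ hr), rfl⟩
  have hN : ∀ k < 4, ∀ i, okk k i = true →
      cvar k i < 396 ∧ E χ (M k * L i * (M k)⁻¹) (L (sgd k i)) (v (cvar k i)) := by
    intro k hk i hi
    have hlt : i < 24 := by
      simp only [okk, Bool.and_eq_true, decide_eq_true_eq] at hi; exact hi.1
    have e1 : (cvar k i - 300) / 24 = k := by unfold cvar; omega
    have e2 : (cvar k i - 300) % 24 = i := by unfold cvar; omega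
    refine ⟨by unfold cvar; omega, d (cvar k i), ?_, rfl⟩
    have := hd2 (cvar k i) (by unfold cvar; omega) (by rw [e1]; exact hk) (by rw [e1, e2]; exact hi)
    rwa [e1, e2] at this
  have hV : rels.length ≤ 396 := by rw [rels_len]; norm_num
  have hforms : ∀ f ∈ forms, ev 396 v f = 0 := by
    intro f hf
    obtain ⟨j, hj, rfl⟩ := List.getElem_of_mem hf
    obtain ⟨hlen, hall⟩ := eqs_check
    have h := List.all_eq_true.1 hall j (List.mem_range.2 (hlen ▸ hj))
    simp only [Bool.and_eq_true, decide_eq_true_eq, beq_iff_eq] at h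
    obtain ⟨hr, he⟩ := h
    rw [List.getD_eq_getElem _ (0, 0) hj] at he
    generalize eqs.getD j (0, 0, 0) = e at hr he
    simp only [formOf] at he
    split_ifs at he with h0 hk
    · exact formA_zero L rels 396 v hc hV hrelE (rels_len ▸ hr) he
    · exact formB_zero L rels 396 v hc hV hrelE (M e.2.1) (hN e.2.1 hk) (rels_len ▸ hr) he
  have hlin : ∀ c, ev 396 v (lincomb c forms) = 0 := ev_lincomb 396 v forms hforms
  have h2 : ev 396 v om + ev 396 v om = 0 := by rw [← ev_add, twice_check]; exact hlin _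
  constructor
  · apply Multiplicative.toAdd.injective
    rw [toAdd_mul, toAdd_one, ha, h2]
  intro hone
  have hw : ev 396 v om = 0 := by rw [← ha, hone, toAdd_one]
  have hrel0 : ∀ r < 300, E χ (P L (rels.getD r ([], [])).1) (P L (rels.getD r ([], [])).2)
      (((rels.getD r ([], [])).1.map fun i => ev 396 v (lamOf i)).sum -
        ((rels.getD r ([], [])).2.map fun i => ev 396 v (lamOf i)).sum) := by
    intro r hr
    have h := List.all_eq_true.1 comb_check r (List.mem_range.2 hr)
    simp only [beq_iff_eq] at h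
    have h3 := hlin (combos.getD r 0)
    rw [← h, ev_add, ev_neg, ev_add, ev_unit v (show r < 396 by omega)] at h3
    have hcls : ev 396 v (clsTerm r) = 0 := by
      rw [clsTerm]; split
      · exact hw
      · exact ev_zero _ _
    rw [hcls, add_zero, lamDiff, ev_add, ev_neg, ev_sum, ev_sum, List.map_map, List.map_map,
      ← sub_eq_add_neg, ← sub_eq_add_neg, sub_eq_zero] at h3
    have h4 := hrelE r (rels_len.symm ▸ hr)
    rw [h3] at h4
    exact h4
  obtain ⟨φ, hφ⟩ := CentralClass14.extend_of_relations (G := ↥(chevF4.group F)) hc χ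
    ⟨24, 0, rels, [], [], [], [], []⟩ shapeC (X F) (card_UU hF).ge L hL
    (fun i => ev 396 v (lamOf i)) (fun r hr => hrel0 r (rels_len ▸ hr))
  exact CentralClass14.trivial_of_extend hσ _ (index_UU hF) χ φ hφ

include hF hσ in
/-- the kernel is a two-group -/
theorem ker_two (z : Γ) (hz : σ z = 1) : ∃ n : ℕ, z ^ 2 ^ n = 1 := by
  classical
  have hc := hσ.2.1
  let P2 : Subgroup Γ :=
    { carrier := {x | σ x = 1 ∧ ∃ n : ℕ, x ^ 2 ^ n = 1}
      one_mem' := ⟨map_one σ, 0, by simp⟩
      mul_mem' := by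
        rintro x y ⟨hx, n, hn⟩ ⟨hy, m, hm⟩
        refine ⟨by rw [map_mul, hx, hy, one_mul], n + m, ?_⟩
        rw [(show Commute x y from StemBasic.ker_comm hc hy x).mul_pow,
          pow_add, pow_mul, hn, one_pow, one_mul, mul_comm, pow_mul, hm, one_pow]
      inv_mem' := by
        rintro x ⟨hx, n, hn⟩
        exact ⟨by rw [map_inv, hx, inv_one], n, by rw [inv_pow, hn, inv_one]⟩ }
  have : P2.Normal := ⟨fun x hx g => by
    rw [mem_center_iff.1 (hc (MonoidHom.mem_ker.2 hx.1)) g, mul_inv_cancel_right]; exact hx⟩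
  let K := F
  let C := C4
  have hG := StGen.gen_F4
  have hAB := StGroup.relsAB_subset (D := chevF4) K
  have hk : (StCentral.proj C K hAB subset_rfl).ker = ⊥ := by
    rw [StCentral.ker_proj]
    exact StTorus.ker_eq_bot (StGroup.sysSt C K) hG (StGroupTorus.hMul_st C K)
      (StGroupTorus.torus_ker_bot C F ChevalleyTorusCard.smithF4)
  let e : PresentedGroup (chevF4.steinbergRels K) ≃* ↥(chevF4.group K) :=
    MulEquiv.ofBijective _ ⟨(MonoidHom.ker_eq_bot_iff _).1 hk,
      StCentral.proj_surjective C K hAB subset_rfl⟩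
  let σ' : Γ ⧸ P2 →* ↥(chevF4.group F) := QuotientGroup.lift P2 σ fun x hx => hx.1
  let π : Γ ⧸ P2 →* chevF4.SteinbergGroup K := e.symm.toMonoidHom.comp σ'
  have hker : ∀ q, π q = 1 → ∃ x, σ x = 1 ∧ QuotientGroup.mk x = q := by
    intro q hq
    obtain ⟨x, rfl⟩ := QuotientGroup.mk_surjective q
    exact ⟨x, e.symm.map_eq_one_iff.1 hq, rfl⟩
  have hπ : Function.Surjective π := fun s => by
    obtain ⟨g, hg⟩ := hσ.1 (e s)
    exact ⟨QuotientGroup.mk g, by show e.symm (σ g) = s; rw [hg, e.symm_apply_apply]⟩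
  have hcen : π.ker ≤ center (Γ ⧸ P2) := fun q hq => by
    obtain ⟨x, hx, rfl⟩ := hker q hq
    refine mem_center_iff.2 fun y => ?_
    obtain ⟨y, rfl⟩ := QuotientGroup.mk_surjective y
    rw [← QuotientGroup.mk_mul, ← QuotientGroup.mk_mul, StemBasic.ker_comm hc hx y]
  have hcom : π.ker ≤ commutator (Γ ⧸ P2) := fun q hq => by
    obtain ⟨x, hx, rfl⟩ := hker q hq
    have h := Subgroup.mem_map_of_mem (QuotientGroup.mk' P2) (hσ.2.2 (MonoidHom.mem_ker.2 hx))
    rw [_root_.commutator_def, Subgroup.map_commutator] at h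
    exact Subgroup.commutator_mono le_top le_top h
  have htor : ∀ q, π q = 1 → q ^ 2 = 1 → q = 1 := by
    intro q hq h2
    obtain ⟨x, hx, rfl⟩ := hker q hq
    rw [← QuotientGroup.mk_pow] at h2
    obtain ⟨-, n, hn⟩ := (QuotientGroup.eq_one_iff _).1 h2
    exact (QuotientGroup.eq_one_iff _).2 ⟨hx, n + 1, by rw [pow_succ', pow_mul, hn]⟩
  have hdiv : ∀ q, π q = 1 → ∃ w, π w = 1 ∧ w ^ 2 = q := by
    intro q hq
    let f : π.ker → π.ker := fun w => ⟨(w : Γ ⧸ P2) ^ 2, pow_mem w.2 2⟩
    have hinj : Function.Injective f := by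
      intro w w' h
      have h' : (w : Γ ⧸ P2) ^ 2 = (w' : Γ ⧸ P2) ^ 2 := congrArg Subtype.val h
      have hcm : Commute (w : Γ ⧸ P2) (w' : Γ ⧸ P2)⁻¹ :=
        mem_center_iff.1 (inv_mem (hcen w'.2)) _
      have := htor ((w : Γ ⧸ P2) * (w' : Γ ⧸ P2)⁻¹) (MonoidHom.mem_ker.1 (mul_mem w.2 (inv_mem w'.2)))
        (by rw [hcm.mul_pow, inv_pow, h', mul_inv_cancel])
      exact Subtype.ext (mul_inv_eq_one.1 this)
    obtain ⟨w, hw⟩ := (Finite.injective_iff_surjective.1 hinj) ⟨q, hq⟩
    exact ⟨w, w.2, congrArg Subtype.val hw⟩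
  obtain ⟨T, -, hTx⟩ := StPrimeTo.lift_prime (S := StGroup.sysSt C K) hπ hcen hG (p := 2)
    (by exact_mod_cast two_zero hF) htor hdiv hcom
  have hbot := StCentral.ker_eq_bot_of_sys C K hAB subset_rfl hG π T hTx
  have hq : ((QuotientGroup.mk z : Γ ⧸ P2)) ∈ π.ker := by
    show e.symm (σ z) = 1
    rw [hz, map_one]
  rw [hbot, Subgroup.mem_bot, QuotientGroup.eq_one_iff] at hq
  exact hq.2

include hF hσ in
/-- the kernel has order at most two -/
theorem card_ker : Nat.card σ.ker ≤ 2 := by
  letI : CommGroup σ.ker :=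
    { (inferInstance : Group σ.ker) with
      mul_comm := fun a b => Subtype.ext (mem_center_iff.1 (hσ.2.1 b.2) a) }
  obtain ⟨a, ha⟩ := char_facts hF hσ
  refine CentralClass14.card_le_two (fun z => ?_) a (fun χ => (ha χ).1) fun χ => (ha χ).2
  obtain ⟨n, hn⟩ := ker_two hF hσ z (MonoidHom.mem_ker.1 z.2)
  exact ⟨n, Subtype.ext (by rw [Subgroup.coe_pow, hn, Subgroup.coe_one])⟩

end Cfsg.Agent.ChevF4Mult14Upper
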