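import Cfsg.Agent.Lib.ChevPeelEngine

/-!
The certificate for the involutions of F₄ in characteristic two (found by search, checked by the kernel).
-/

set_option autoImplicit false
set_option maxRecDepth 100000

namespace Cfsg.Agent.ChevF4PeelCert

open Cfsg.Agent.ChevPeelEngine

/-- part 0 of the certificate -/
def part0 : List Node := [
  ([], [], .leaf),
  ([47], [47], .leaf),
  ([47], [], .split 47 0 1),
  ([46], [46], .weyl [3] 1),
  ([43], [43], .weyl [3, 2, 1] 1),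
  ([43, 47], [43, 47], .kill 31 47 0 4),
  ([46, 47], [46, 47], .weyl [1, 2] 5),
  ([46, 47], [46], .split 47 3 6),
  ([46, 47], [], .split 46 2 7),
  ([45], [45], .weyl [3, 2] 1),
  ([45, 47], [45, 47], .weyl [1] 5),
  ([45, 47], [45], .split 47 9 10),
  ([45, 46], [45, 46], .weyl [3, 1] 5),
  ([41, 45], [41, 45], .weyl [2, 3, 2] 5),
  ([41, 42, 45], [41, 42, 45], .kill 24 42 0 13),
  ([45, 46, 47], [45, 46, 47], .weyl [2, 3, 1, 2, 1] 14),
  ([45, 46, 47], [45, 46], .split 47 12 15),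
  ([45, 46, 47], [45], .split 46 11 16),
  ([45, 46, 47], [], .split 45 8 17),
  ([44], [44], .leaf),
  ([44, 47], [44, 47], .leaf),
  ([44, 47], [44], .split 47 19 20),
  ([44, 46], [44, 46], .weyl [3] 20),
  ([32, 39], [32, 39], .weyl [3, 2, 0, 1, 0] 20),
  ([32, 39, 46], [32, 39, 46], .kill 41 46 0 23),
  ([44, 46, 47], [44, 46, 47], .weyl [3, 0, 1, 2, 0] 24),
  ([44, 46, 47], [44, 46], .split 47 22 25),
  ([44, 46, 47], [44], .split 46 21 26),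
  ([44, 45], [44, 45], .weyl [3, 2] 20),
  ([44, 45, 47], [44, 45, 47], .weyl [3, 0, 1, 0] 24),
  ([44, 45, 47], [44, 45], .split 47 28 29),
  ([44, 45, 46], [44, 45, 46], .weyl [0, 1, 0] 24),
  ([33, 41, 43], [33, 41, 43], .weyl [2, 3, 2, 0, 1, 2, 1] 24),
  ([33, 41, 42, 43], [33, 41, 42, 43], .kill 24 42 0 32),
  ([44, 45, 46, 47], [44, 45, 46, 47], .weyl [1, 2, 3, 1, 2, 1, 0] 33),
  ([44, 45, 46, 47], [44, 45, 46], .split 47 31 34),
  ([44, 45, 46, 47], [44, 45], .split 46 30 35),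
  ([44, 45, 46, 47], [44], .split 45 27 36),
  ([44, 45, 46, 47], [], .split 44 18 37),
  ([43, 47], [43], .split 47 4 5),
  ([43, 46], [43, 46], .weyl [3] 5),
  ([43, 46, 47], [43, 46, 47], .weyl [2, 3, 1, 2] 14),
  ([43, 46, 47], [43, 46], .split 47 40 41),
  ([43, 46, 47], [43], .split 46 39 42),
  ([25], [25], .weyl [3, 2, 1, 2, 3, 0, 1] 1),
  ([25, 39], [25, 39], .weyl [3, 2, 1, 2, 3, 0, 1] 20),
  ([25, 39], [25], .split 39 44 45),
  ([25, 47], [25, 47], .kill 38 47 1 46),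
  ([43, 45], [43, 45], .weyl [3, 1, 2, 0] 47),
  ([24, 45], [24, 45], .weyl [3, 2] 47),
  ([24, 31, 45], [24, 31, 45], .kill 30 31 0 49),
  ([43, 45, 47], [43, 45, 47], .weyl [2, 0, 1, 2, 3, 0] 50),
  ([43, 45, 47], [43, 45], .split 47 48 51),
  ([43, 45, 46], [43, 45, 46], .weyl [2, 0, 1, 2, 0] 50),
  ([25, 26, 43], [25, 26, 43], .weyl [0, 1] 14),
  ([25, 26, 39, 43], [25, 26, 39, 43], .weyl [1, 2, 3, 1, 2, 0, 1, 2, 3, 0, 1, 2, 0, 1] 33),
  ([25, 26, 39, 43], [25, 26, 43], .split 39 54 55),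
  ([25, 26, 43, 46], [25, 26, 43, 46], .kill 37 46 1 56),
  ([43, 45, 46, 47], [43, 45, 46, 47], .weyl [1, 2, 3, 2, 0, 1, 2] 57),
  ([43, 45, 46, 47], [43, 45, 46], .split 47 53 58),
  ([43, 45, 46, 47], [43, 45], .split 46 52 59),
  ([43, 45, 46, 47], [43], .split 45 43 60),
  ([43, 44, 45, 46, 47], [43], .kill 27 44 0 61),
  ([43, 44, 45, 46, 47], [], .split 43 38 62),
  ([42], [42], .weyl [3, 2, 1, 2] 1),
  ([42, 47], [42, 47], .weyl [2] 5),
  ([42, 47], [42], .split 47 64 65),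
  ([42, 46], [42, 46], .weyl [3, 1, 0] 47),
  ([42, 46, 47], [42, 46, 47], .weyl [2, 0, 1, 2, 3, 2, 0] 50),
  ([42, 46, 47], [42, 46], .split 47 67 68),
  ([42, 46, 47], [42], .split 46 66 69),
  ([42, 45], [42, 45], .weyl [3, 2] 5),
  ([42, 45, 47], [42, 45, 47], .weyl [2, 3, 1] 14),
  ([42, 45, 47], [42, 45], .split 47 71 72),
  ([42, 45, 46], [42, 45, 46], .weyl [2, 0, 1, 0] 50),
  ([42, 45, 46, 47], [42, 45, 46, 47], .weyl [1, 2, 3, 2, 0, 1] 57),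
  ([42, 45, 46, 47], [42, 45, 46], .split 47 74 75),
  ([42, 45, 46, 47], [42, 45], .split 46 73 76),
  ([42, 45, 46, 47], [42], .split 45 70 77),
  ([42, 44, 45, 46, 47], [42], .kill 28 44 0 78),
  ([42, 43, 44, 45, 46, 47], [42], .kill 25 43 0 79),
  ([42, 43, 44, 45, 46, 47], [], .split 42 63 80),
  ([41], [41], .weyl [3, 2, 1, 2, 3] 1),
  ([41, 47], [41, 47], .weyl [1, 0] 47),
  ([41, 47], [41], .split 47 82 83)]

/-- part 1 of the certificate -/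
def part1 : List Node := [
  ([41, 46], [41, 46], .weyl [2, 3] 5),
  ([41, 46, 47], [41, 46, 47], .weyl [2, 3, 0, 1, 2, 0] 50),
  ([41, 46, 47], [41, 46], .split 47 85 86),
  ([41, 46, 47], [41], .split 46 84 87),
  ([41, 45, 47], [41, 45, 47], .weyl [2, 3, 0, 1, 0] 50),
  ([41, 45, 47], [41, 45], .split 47 13 89),
  ([41, 45, 46], [41, 45, 46], .weyl [2, 1] 14),
  ([41, 45, 46, 47], [41, 45, 46, 47], .weyl [3, 1, 2, 0, 1] 57),
  ([41, 45, 46, 47], [41, 45, 46], .split 47 91 92),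
  ([41, 45, 46, 47], [41, 45], .split 46 90 93),
  ([41, 45, 46, 47], [41], .split 45 88 94),
  ([41, 44, 45, 46, 47], [41], .kill 29 44 0 95),
  ([41, 43, 44, 45, 46, 47], [41], .kill 26 43 0 96),
  ([41, 42, 43, 44, 45, 46, 47], [41], .kill 24 42 0 97),
  ([41, 42, 43, 44, 45, 46, 47], [], .split 41 81 98),
  ([40], [40], .weyl [0] 19),
  ([40, 47], [40, 47], .weyl [0] 20),
  ([40, 47], [40], .split 47 100 101),
  ([40, 46], [40, 46], .weyl [3, 0] 20),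
  ([40, 46, 47], [40, 46, 47], .weyl [3, 0, 1, 2] 24),
  ([40, 46, 47], [40, 46], .split 47 103 104),
  ([40, 46, 47], [40], .split 46 102 105),
  ([40, 45], [40, 45], .weyl [3, 2, 0] 20),
  ([40, 45, 47], [40, 45, 47], .weyl [3, 0, 1] 24),
  ([40, 45, 47], [40, 45], .split 47 107 108),
  ([40, 45, 46], [40, 45, 46], .weyl [0, 1] 24),
  ([40, 45, 46, 47], [40, 45, 46, 47], .weyl [1, 2, 3, 1, 2, 1] 33),
  ([40, 45, 46, 47], [40, 45, 46], .split 47 110 111),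
  ([40, 45, 46, 47], [40, 45], .split 46 109 112),
  ([40, 45, 46, 47], [40], .split 45 106 113),
  ([39, 45], [39, 45], .leaf),
  ([40, 43], [40, 43], .weyl [1] 115),
  ([38, 43], [38, 43], .weyl [2, 1, 2, 1] 115),
  ([38, 43, 47], [38, 43, 47], .kill 31 47 0 117),
  ([40, 43, 47], [40, 43, 47], .weyl [2, 1, 2] 118),
  ([40, 43, 47], [40, 43], .split 47 116 119),
  ([36, 43], [36, 43], .weyl [3, 0, 1, 2, 1] 20),
  ([34, 45], [34, 45], .weyl [0, 1, 2, 3, 1, 2] 20),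
  ([34, 38, 45], [34, 38, 45], .kill 29 38 0 122),
  ([36, 43, 44], [36, 43, 44], .weyl [2, 1, 2, 3, 0, 1] 123),
  ([36, 43, 44], [36, 43], .split 44 121 124),
  ([31, 39], [31, 39], .weyl [1, 2, 1, 0] 115),
  ([31, 39, 40], [31, 39, 40], .kill 27 40 0 126),
  ([36, 38, 43], [36, 38, 43], .weyl [2, 1, 2, 0, 1, 2, 0, 1, 0] 127),
  ([29, 32, 38], [29, 32, 38], .weyl [2, 1, 2, 0, 1, 2, 0, 1] 127),
  ([29, 32, 38, 40], [29, 32, 38, 40], .kill 28 40 0 129),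
  ([36, 38, 43, 44], [36, 38, 43, 44], .weyl [0] 130),
  ([36, 38, 43, 44], [36, 38, 43], .split 44 128 131),
  ([36, 38, 43, 44], [36, 43], .split 38 125 132),
  ([36, 43, 45], [36, 43, 45], .kill 27 45 1 133),
  ([40, 43, 45], [40, 43, 45], .weyl [2, 1, 2, 1] 134),
  ([36, 42, 46], [36, 42, 46], .weyl [2] 134),
  ([36, 42, 46, 47], [36, 42, 46, 47], .kill 24 47 0 136),
  ([40, 43, 45, 47], [40, 43, 45, 47], .weyl [1, 2, 1] 137),
  ([40, 43, 45, 47], [40, 43, 45], .split 47 135 138),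
  ([40, 43, 45, 47], [40, 43], .split 45 120 139),
  ([40, 43, 45, 46, 47], [40, 43], .kill 30 46 0 140),
  ([40, 43, 45, 46, 47], [40], .split 43 114 141),
  ([40, 42], [40, 42], .weyl [1, 2] 115),
  ([40, 42, 47], [40, 42, 47], .weyl [2, 1] 118),
  ([40, 42, 47], [40, 42], .split 47 143 144),
  ([40, 42, 46], [40, 42, 46], .weyl [1, 2, 1] 134),
  ([40, 42, 46, 47], [40, 42, 46, 47], .weyl [2, 1, 2, 1] 137),
  ([40, 42, 46, 47], [40, 42, 46], .split 47 146 147),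
  ([40, 42, 46, 47], [40, 42], .split 46 145 148),
  ([40, 42, 45, 46, 47], [40, 42], .kill 30 45 0 149),
  ([40, 42, 43, 45, 46, 47], [40, 42], .kill 25 43 0 150),
  ([40, 42, 43, 45, 46, 47], [40], .split 42 142 151),
  ([40, 41], [40, 41], .weyl [1, 2, 3] 115),
  ([40, 41, 47], [40, 41, 47], .weyl [1, 2, 3, 1] 134),
  ([40, 41, 47], [40, 41], .split 47 153 154),
  ([40, 41, 46], [40, 41, 46], .weyl [2, 3, 1] 118),
  ([40, 41, 46, 47], [40, 41, 46, 47], .weyl [2, 1, 2, 3, 1] 137),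
  ([40, 41, 46, 47], [40, 41, 46], .split 47 156 157),
  ([40, 41, 46, 47], [40, 41], .split 46 155 158),
  ([40, 41, 45, 46, 47], [40, 41], .kill 31 45 0 159),
  ([40, 41, 43, 45, 46, 47], [40, 41], .kill 26 43 0 160),
  ([40, 41, 42, 43, 45, 46, 47], [40, 41], .kill 24 42 0 161),
  ([40, 41, 42, 43, 45, 46, 47], [40], .split 41 152 162),
  ([40, 41, 42, 43, 44, 45, 46, 47], [40], .kill 33 44 0 163),
  ([40, 41, 42, 43, 44, 45, 46, 47], [], .split 40 99 164),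
  ([39], [39], .weyl [0, 1] 19),
  ([39, 47], [39, 47], .weyl [0, 1] 20),
  ([39, 47], [39], .split 47 166 167),
  ([39, 46], [39, 46], .weyl [3, 0, 1] 20)]

/-- part 2 of the certificate -/
def part2 : List Node := [
  ([39, 46, 47], [39, 46, 47], .weyl [3, 0, 1, 2, 1] 24),
  ([39, 46, 47], [39, 46], .split 47 169 170),
  ([39, 46, 47], [39], .split 46 168 171),
  ([39, 45, 47], [39, 45, 47], .weyl [2, 1, 2, 1] 118),
  ([39, 45, 47], [39, 45], .split 47 115 173),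
  ([39, 45, 46], [39, 45, 46], .weyl [2, 1, 2, 3, 1] 118),
  ([27, 30, 46], [27, 30, 46], .weyl [3, 2, 1, 2, 3, 1, 2, 1, 0] 118),
  ([27, 30, 45, 46], [27, 30, 45, 46], .kill 42 45 0 176),
  ([39, 45, 46, 47], [39, 45, 46, 47], .weyl [2, 3, 2, 0, 1, 2] 177),
  ([39, 45, 46, 47], [39, 45, 46], .split 47 175 178),
  ([39, 45, 46, 47], [39, 45], .split 46 174 179),
  ([39, 45, 46, 47], [39], .split 45 172 180),
  ([39, 43], [39, 43], .weyl [3, 2, 0, 1] 20),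
  ([39, 43, 47], [39, 43, 47], .weyl [3, 0] 24),
  ([39, 43, 47], [39, 43], .split 47 182 183),
  ([39, 43, 45], [39, 43, 45], .weyl [2, 1, 2] 134),
  ([39, 43, 45, 47], [39, 43, 45, 47], .weyl [1, 2] 137),
  ([39, 43, 45, 47], [39, 43, 45], .split 47 185 186),
  ([39, 43, 45, 47], [39, 43], .split 45 184 187),
  ([39, 43, 45, 46, 47], [39, 43], .kill 30 46 0 188),
  ([39, 43, 45, 46, 47], [39], .split 43 181 189),
  ([39, 42], [39, 42], .weyl [1, 2, 1] 115),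
  ([39, 42, 47], [39, 42, 47], .weyl [2] 118),
  ([39, 42, 47], [39, 42], .split 47 191 192),
  ([39, 42, 46], [39, 42, 46], .weyl [1, 2] 134),
  ([39, 42, 46, 47], [39, 42, 46, 47], .weyl [2, 1, 2] 137),
  ([39, 42, 46, 47], [39, 42, 46], .split 47 194 195),
  ([39, 42, 46, 47], [39, 42], .split 46 193 196),
  ([39, 42, 45, 46, 47], [39, 42], .kill 30 45 0 197),
  ([39, 42, 43, 45, 46, 47], [39, 42], .kill 25 43 0 198),
  ([39, 42, 43, 45, 46, 47], [39], .split 42 190 199),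
  ([39, 41], [39, 41], .weyl [1, 2, 3, 1] 115),
  ([39, 41, 47], [39, 41, 47], .weyl [1, 2, 3] 134),
  ([39, 41, 47], [39, 41], .split 47 201 202),
  ([39, 41, 46], [39, 41, 46], .weyl [2, 3] 118),
  ([39, 41, 46, 47], [39, 41, 46, 47], .weyl [2, 1, 2, 3] 137),
  ([39, 41, 46, 47], [39, 41, 46], .split 47 204 205),
  ([39, 41, 46, 47], [39, 41], .split 46 203 206),
  ([39, 41, 45, 46, 47], [39, 41], .kill 31 45 0 207),
  ([39, 41, 43, 45, 46, 47], [39, 41], .kill 26 43 0 208),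
  ([39, 41, 42, 43, 45, 46, 47], [39, 41], .kill 24 42 0 209),
  ([39, 41, 42, 43, 45, 46, 47], [39], .split 41 200 210),
  ([39, 41, 42, 43, 44, 45, 46, 47], [39], .kill 34 44 0 211),
  ([39, 40, 41, 42, 43, 44, 45, 46, 47], [39], .kill 27 40 0 212),
  ([39, 40, 41, 42, 43, 44, 45, 46, 47], [], .split 39 165 213),
  ([38], [38], .weyl [0, 1, 2] 19),
  ([38, 47], [38, 47], .weyl [0, 1, 2] 20),
  ([38, 47], [38], .split 47 215 216),
  ([38, 46], [38, 46], .weyl [2] 115),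
  ([38, 46, 47], [38, 46, 47], .weyl [1, 2, 1] 118),
  ([38, 46, 47], [38, 46], .split 47 218 219),
  ([38, 46, 47], [38], .split 46 217 220),
  ([38, 45], [38, 45], .weyl [3, 0, 1, 2] 20),
  ([38, 45, 47], [38, 45, 47], .weyl [3, 2, 0, 1, 2, 1] 24),
  ([38, 45, 47], [38, 45], .split 47 222 223),
  ([38, 45, 46], [38, 45, 46], .weyl [2, 1, 2, 3, 1, 2] 118),
  ([38, 45, 46, 47], [38, 45, 46, 47], .weyl [2, 3, 2, 0, 1] 177),
  ([38, 45, 46, 47], [38, 45, 46], .split 47 225 226),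
  ([38, 45, 46, 47], [38, 45], .split 46 224 227),
  ([38, 45, 46, 47], [38], .split 45 221 228),
  ([38, 43, 47], [38, 43], .split 47 117 118),
  ([38, 43, 45], [38, 43, 45], .weyl [1] 134),
  ([38, 43, 45, 47], [38, 43, 45, 47], .weyl [2, 1] 137),
  ([38, 43, 45, 47], [38, 43, 45], .split 47 231 232),
  ([38, 43, 45, 47], [38, 43], .split 45 230 233),
  ([38, 43, 45, 46, 47], [38, 43], .kill 30 46 0 234),
  ([38, 43, 45, 46, 47], [38], .split 43 229 235),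
  ([38, 42], [38, 42], .weyl [3, 2, 0, 1, 2] 20),
  ([38, 42, 46], [38, 42, 46], .weyl [2, 1] 134),
  ([38, 42, 46], [38, 42], .split 46 237 238),
  ([38, 42, 43], [38, 42, 43], .weyl [2, 1, 2, 3, 2, 1, 2] 118),
  ([24, 33], [24, 33], .weyl [2, 1, 2, 3, 1, 2, 0, 1, 2, 1] 115),
  ([24, 26, 33], [24, 26, 33], .kill 25 26 0 241),
  ([24, 40, 42], [24, 40, 42], .weyl [1, 2, 3, 1, 2, 0, 1, 2, 3, 0, 1, 2, 0] 242),
  ([26, 32, 35], [26, 32, 35], .weyl [1, 2] 242),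
  ([26, 32, 35, 39], [26, 32, 35, 39], .kill 29 39 0 244),
  ([24, 38, 40, 42], [24, 38, 40, 42], .weyl [3, 1, 2, 0, 1, 2, 3, 0, 1, 2, 0] 245),
  ([24, 38, 40, 42], [24, 40, 42], .split 38 243 246),
  ([24, 40, 42, 45], [24, 40, 42, 45], .kill 37 45 1 247),
  ([38, 42, 43, 46], [38, 42, 43, 46], .weyl [2, 1, 2, 0, 1, 2, 1] 248),
  ([38, 42, 43, 46], [38, 42, 43], .split 46 240 249),
  ([38, 42, 43, 46], [38, 42], .split 43 239 250),
  ([38, 42, 43, 46, 47], [38, 42], .kill 32 47 0 251),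
  ([38, 42, 43, 45, 46, 47], [38, 42], .kill 30 45 0 252),
  ([38, 42, 43, 45, 46, 47], [38], .split 42 236 253)]

/-- part 3 of the certificate -/
def part3 : List Node := [
  ([38, 41], [38, 41], .weyl [1, 2, 3, 1, 2] 115),
  ([38, 41, 47], [38, 41, 47], .weyl [1, 2, 3, 2] 134),
  ([38, 41, 47], [38, 41], .split 47 255 256),
  ([38, 41, 46], [38, 41, 46], .weyl [1, 2, 3, 0, 1, 2, 0, 1] 242),
  ([38, 41, 46, 47], [38, 41, 46, 47], .weyl [2, 3, 1, 2, 0] 248),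
  ([38, 41, 46, 47], [38, 41, 46], .split 47 258 259),
  ([38, 41, 46, 47], [38, 41], .split 46 257 260),
  ([38, 41, 45, 46, 47], [38, 41], .kill 31 45 0 261),
  ([38, 41, 43, 45, 46, 47], [38, 41], .kill 26 43 0 262),
  ([38, 41, 42, 43, 45, 46, 47], [38, 41], .kill 24 42 0 263),
  ([38, 41, 42, 43, 45, 46, 47], [38], .split 41 254 264),
  ([38, 41, 42, 43, 44, 45, 46, 47], [38], .kill 35 44 0 265),
  ([38, 40, 41, 42, 43, 44, 45, 46, 47], [38], .kill 28 40 0 266),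
  ([38, 39, 40, 41, 42, 43, 44, 45, 46, 47], [38], .kill 25 39 0 267),
  ([38, 39, 40, 41, 42, 43, 44, 45, 46, 47], [], .split 38 214 268),
  ([37], [37], .weyl [0, 1, 2, 3] 19),
  ([37, 47], [37, 47], .weyl [2, 3] 115),
  ([37, 47], [37], .split 47 270 271),
  ([37, 46], [37, 46], .weyl [0, 1, 2, 3] 20),
  ([37, 46, 47], [37, 46, 47], .weyl [1, 2, 3, 1] 118),
  ([37, 46, 47], [37, 46], .split 47 273 274),
  ([37, 46, 47], [37], .split 46 272 275),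
  ([37, 45], [37, 45], .weyl [0, 1, 2, 3, 2] 20),
  ([37, 45, 47], [37, 45, 47], .weyl [1, 2, 3, 1, 2] 118),
  ([37, 45, 47], [37, 45], .split 47 277 278),
  ([37, 45, 46], [37, 45, 46], .weyl [3, 2, 0, 1, 2, 3, 1] 24),
  ([37, 45, 46, 47], [37, 45, 46, 47], .weyl [3, 2, 0, 1] 177),
  ([37, 45, 46, 47], [37, 45, 46], .split 47 280 281),
  ([37, 45, 46, 47], [37, 45], .split 46 279 282),
  ([37, 45, 46, 47], [37], .split 45 276 283),
  ([37, 43], [37, 43], .weyl [2, 1, 2, 3, 1] 115),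
  ([37, 43, 47], [37, 43, 47], .weyl [1, 2, 0, 1, 2, 3, 2, 0, 1, 2] 242),
  ([37, 43, 47], [37, 43], .split 47 285 286),
  ([37, 43, 45], [37, 43, 45], .weyl [3, 1] 134),
  ([37, 43, 45, 47], [37, 43, 45, 47], .weyl [2, 1, 2, 3, 0] 248),
  ([37, 43, 45, 47], [37, 43, 45], .split 47 288 289),
  ([37, 43, 45, 47], [37, 43], .split 45 287 290),
  ([37, 43, 45, 46, 47], [37, 43], .kill 30 46 0 291),
  ([37, 43, 45, 46, 47], [37], .split 43 284 292),
  ([37, 42], [37, 42], .weyl [2, 1, 2, 3, 1, 2] 115),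
  ([37, 42, 47], [37, 42, 47], .weyl [1, 2, 0, 1, 2, 3, 2, 0, 1] 242),
  ([37, 42, 47], [37, 42], .split 47 294 295),
  ([37, 42, 46], [37, 42, 46], .weyl [3, 1, 2] 134),
  ([37, 42, 46, 47], [37, 42, 46, 47], .weyl [2, 1, 2, 3, 2, 0] 248),
  ([37, 42, 46, 47], [37, 42, 46], .split 47 297 298),
  ([37, 42, 46, 47], [37, 42], .split 46 296 299),
  ([37, 42, 45, 46, 47], [37, 42], .kill 30 45 0 300),
  ([37, 42, 43, 45, 46, 47], [37, 42], .kill 25 43 0 301),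
  ([37, 42, 43, 45, 46, 47], [37], .split 42 293 302),
  ([37, 41], [37, 41], .weyl [3, 2, 0, 1, 2, 3] 20),
  ([37, 41, 47], [37, 41, 47], .weyl [2, 3, 1] 134),
  ([37, 41, 47], [37, 41], .split 47 304 305),
  ([37, 41, 43], [37, 41, 43], .weyl [3, 2, 1, 2, 3, 2, 1, 2] 118),
  ([37, 41, 43, 47], [37, 41, 43, 47], .weyl [2, 1, 2, 0, 1, 2, 3, 1] 248),
  ([37, 41, 43, 47], [37, 41, 43], .split 47 307 308),
  ([37, 41, 43, 47], [37, 41], .split 43 306 309),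
  ([37, 41, 42], [37, 41, 42], .weyl [3, 2, 1, 2, 3, 2, 1] 118),
  ([37, 41, 42, 47], [37, 41, 42, 47], .weyl [2, 1, 2, 0, 1, 2, 3, 1, 2] 248),
  ([37, 41, 42, 47], [37, 41, 42], .split 47 311 312),
  ([37, 41, 42, 43, 47], [37, 41, 42], .kill 25 43 0 313),
  ([37, 41, 42, 43, 47], [37, 41], .split 42 310 314),
  ([37, 41, 42, 43, 46, 47], [37, 41], .kill 32 46 0 315),
  ([37, 41, 42, 43, 45, 46, 47], [37, 41], .kill 31 45 0 316),
  ([37, 41, 42, 43, 45, 46, 47], [37], .split 41 303 317),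
  ([37, 41, 42, 43, 44, 45, 46, 47], [37], .kill 36 44 0 318),
  ([37, 40, 41, 42, 43, 44, 45, 46, 47], [37], .kill 29 40 0 319),
  ([37, 39, 40, 41, 42, 43, 44, 45, 46, 47], [37], .kill 26 39 0 320),
  ([37, 38, 39, 40, 41, 42, 43, 44, 45, 46, 47], [37], .kill 24 38 0 321),
  ([37, 38, 39, 40, 41, 42, 43, 44, 45, 46, 47], [], .split 37 269 322),
  ([36], [36], .weyl [0, 1, 2, 1] 19),
  ([36, 47], [36, 47], .weyl [0, 1, 2, 1] 20),
  ([36, 47], [36], .split 47 324 325),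
  ([36, 46], [36, 46], .weyl [2, 1] 115),
  ([36, 46, 47], [36, 46, 47], .weyl [1, 2] 118),
  ([36, 46, 47], [36, 46], .split 47 327 328),
  ([36, 46, 47], [36], .split 46 326 329),
  ([36, 45], [36, 45], .weyl [2, 1, 2] 115),
  ([36, 45, 47], [36, 45, 47], .weyl [1] 118),
  ([36, 45, 47], [36, 45], .split 47 331 332),
  ([36, 45, 46], [36, 45, 46], .weyl [1, 2, 3, 1, 2, 0, 1, 2, 3, 1, 2, 1] 242),
  ([25, 29, 32], [25, 29, 32], .weyl [2, 3, 2, 0, 1, 0] 118),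
  ([25, 29, 32, 46], [25, 29, 32, 46], .kill 45 46 0 335),
  ([36, 45, 46, 47], [36, 45, 46, 47], .weyl [0, 1, 2, 3, 2, 0, 1] 336),
  ([36, 45, 46, 47], [36, 45, 46], .split 47 334 337),
  ([36, 45, 46, 47], [36, 45], .split 46 333 338)]

/-- part 4 of the certificate -/
def part4 : List Node := [
  ([36, 45, 46, 47], [36], .split 45 330 339),
  ([36, 43, 46], [36, 43, 46], .weyl [2, 1, 2, 3, 1, 2, 1] 118),
  ([36, 43, 46], [36, 43], .split 46 121 341),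
  ([36, 43, 45, 46], [36, 43, 45, 46], .weyl [2, 1, 2, 0, 1] 248),
  ([36, 43, 45, 46], [36, 43, 45], .split 46 134 343),
  ([36, 43, 45, 46], [36, 43], .split 45 342 344),
  ([36, 43, 45, 46, 47], [36, 43], .kill 31 47 0 345),
  ([36, 43, 45, 46, 47], [36], .split 43 340 346),
  ([36, 42], [36, 42], .weyl [3, 2, 0, 1, 2, 1] 20),
  ([36, 42, 46], [36, 42], .split 46 348 136),
  ([36, 42, 45], [36, 42, 45], .weyl [2, 1, 2, 3, 2, 1, 2, 1] 118),
  ([36, 42, 45, 46], [36, 42, 45, 46], .weyl [2, 1, 2, 0, 1, 2] 248),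
  ([36, 42, 45, 46], [36, 42, 45], .split 46 350 351),
  ([36, 42, 45, 46], [36, 42], .split 45 349 352),
  ([36, 42, 45, 46, 47], [36, 42], .kill 32 47 0 353),
  ([36, 42, 43, 45, 46, 47], [36, 42], .kill 25 43 0 354),
  ([36, 42, 43, 45, 46, 47], [36], .split 42 347 355),
  ([36, 41], [36, 41], .weyl [1, 2, 3, 1, 2, 1] 115),
  ([36, 41, 47], [36, 41, 47], .weyl [1, 2, 3, 2, 1] 134),
  ([36, 41, 47], [36, 41], .split 47 357 358),
  ([36, 41, 46], [36, 41, 46], .weyl [1, 2, 3, 0, 1, 2, 0] 242),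
  ([36, 41, 46, 47], [36, 41, 46, 47], .weyl [2, 3, 1, 2, 0, 1] 248),
  ([36, 41, 46, 47], [36, 41, 46], .split 47 360 361),
  ([36, 41, 46, 47], [36, 41], .split 46 359 362),
  ([36, 41, 45, 46, 47], [36, 41], .kill 31 45 0 363),
  ([36, 41, 43, 45, 46, 47], [36, 41], .kill 26 43 0 364),
  ([36, 41, 42, 43, 45, 46, 47], [36, 41], .kill 24 42 0 365),
  ([36, 41, 42, 43, 45, 46, 47], [36], .split 41 356 366),
  ([36, 41, 42, 43, 44, 45, 46, 47], [36], .kill 37 44 0 367),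
  ([36, 40, 41, 42, 43, 44, 45, 46, 47], [36], .kill 30 40 0 368),
  ([36, 39, 40, 41, 42, 43, 44, 45, 46, 47], [36], .kill 28 39 0 369),
  ([36, 38, 39, 40, 41, 42, 43, 44, 45, 46, 47], [36], .kill 27 38 0 370),
  ([36, 37, 38, 39, 40, 41, 42, 43, 44, 45, 46, 47], [36], .zero 44 37 371),
  ([36, 37, 38, 39, 40, 41, 42, 43, 44, 45, 46, 47], [], .split 36 323 372),
  ([35], [35], .weyl [0, 1, 2, 3, 1] 19),
  ([35, 47], [35, 47], .weyl [2, 3, 1] 115),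
  ([35, 47], [35], .split 47 374 375),
  ([35, 46], [35, 46], .weyl [0, 1, 2, 3, 1] 20),
  ([35, 46, 47], [35, 46, 47], .weyl [1, 2, 3] 118),
  ([35, 46, 47], [35, 46], .split 47 377 378),
  ([35, 46, 47], [35], .split 46 376 379),
  ([35, 45], [35, 45], .weyl [2, 1, 2, 3] 115),
  ([35, 45, 47], [35, 45, 47], .weyl [1, 2, 0, 1, 2, 3, 2, 0, 1, 2, 1] 242),
  ([35, 45, 47], [35, 45], .split 47 381 382),
  ([35, 45, 46], [35, 45, 46], .weyl [3, 1] 118),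
  ([35, 45, 46, 47], [35, 45, 46, 47], .weyl [3, 0, 1, 2, 0, 1] 336),
  ([35, 45, 46, 47], [35, 45, 46], .split 47 384 385),
  ([35, 45, 46, 47], [35, 45], .split 46 383 386),
  ([35, 45, 46, 47], [35], .split 45 380 387),
  ([35, 43], [35, 43], .weyl [0, 1, 2, 3, 2, 1] 20),
  ([35, 43, 47], [35, 43, 47], .weyl [1, 2, 3, 1, 2, 1] 118),
  ([35, 43, 47], [35, 43], .split 47 389 390),
  ([35, 43, 45], [35, 43, 45], .weyl [3] 134),
  ([35, 43, 45, 47], [35, 43, 45, 47], .weyl [2, 1, 2, 3, 0, 1] 248),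
  ([35, 43, 45, 47], [35, 43, 45], .split 47 392 393),
  ([35, 43, 45, 47], [35, 43], .split 45 391 394),
  ([35, 43, 45, 46, 47], [35, 43], .kill 30 46 0 395),
  ([35, 43, 45, 46, 47], [35], .split 43 388 396),
  ([35, 42], [35, 42], .weyl [2, 1, 2, 3, 1, 2, 1] 115),
  ([35, 42, 47], [35, 42, 47], .weyl [1, 2, 0, 1, 2, 3, 2, 0] 242),
  ([35, 42, 47], [35, 42], .split 47 398 399),
  ([35, 42, 46], [35, 42, 46], .weyl [3, 1, 2, 1] 134),
  ([35, 42, 46, 47], [35, 42, 46, 47], .weyl [2, 1, 2, 3, 2, 0, 1] 248),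
  ([35, 42, 46, 47], [35, 42, 46], .split 47 401 402),
  ([35, 42, 46, 47], [35, 42], .split 46 400 403),
  ([35, 42, 45, 46, 47], [35, 42], .kill 30 45 0 404),
  ([35, 42, 43, 45, 46, 47], [35, 42], .kill 25 43 0 405),
  ([35, 42, 43, 45, 46, 47], [35], .split 42 397 406),
  ([35, 41], [35, 41], .weyl [3, 2, 0, 1, 2, 3, 1] 20),
  ([35, 41, 47], [35, 41, 47], .weyl [2, 3] 134),
  ([35, 41, 47], [35, 41], .split 47 408 409),
  ([35, 41, 45], [35, 41, 45], .weyl [3, 2, 1, 2, 3, 2, 1, 2, 1] 118),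
  ([35, 41, 45, 47], [35, 41, 45, 47], .weyl [2, 1, 2, 0, 1, 2, 3] 248),
  ([35, 41, 45, 47], [35, 41, 45], .split 47 411 412),
  ([35, 41, 45, 47], [35, 41], .split 45 410 413),
  ([35, 41, 42], [35, 41, 42], .weyl [3, 2, 1, 2, 3, 2] 118),
  ([35, 41, 42, 47], [35, 41, 42, 47], .weyl [2, 1, 2, 0, 1, 2, 3, 1, 2, 1] 248),
  ([35, 41, 42, 47], [35, 41, 42], .split 47 415 416),
  ([35, 41, 42, 45, 47], [35, 41, 42], .kill 30 45 0 417),
  ([35, 41, 42, 45, 47], [35, 41], .split 42 414 418),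
  ([35, 41, 42, 45, 46, 47], [35, 41], .kill 32 46 0 419),
  ([35, 41, 42, 43, 45, 46, 47], [35, 41], .kill 26 43 0 420),
  ([35, 41, 42, 43, 45, 46, 47], [35], .split 41 407 421),
  ([35, 41, 42, 43, 44, 45, 46, 47], [35], .kill 38 44 0 422),
  ([35, 40, 41, 42, 43, 44, 45, 46, 47], [35], .kill 31 40 0 423)]

/-- part 5 of the certificate -/
def part5 : List Node := [
  ([35, 39, 40, 41, 42, 43, 44, 45, 46, 47], [35], .kill 29 39 0 424),
  ([35, 37, 39, 40, 41, 42, 43, 44, 45, 46, 47], [35], .kill 27 37 0 425),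
  ([35, 37, 38, 39, 40, 41, 42, 43, 44, 45, 46, 47], [35], .zero 44 38 426),
  ([35, 36, 37, 38, 39, 40, 41, 42, 43, 44, 45, 46, 47], [35], .kill 24 36 0 427),
  ([35, 36, 37, 38, 39, 40, 41, 42, 43, 44, 45, 46, 47], [], .split 35 373 428),
  ([34], [34], .weyl [0, 1, 2, 3, 1, 2] 19),
  ([34, 47], [34, 47], .weyl [2, 3, 1, 2] 115),
  ([34, 47], [34], .split 47 430 431),
  ([34, 46], [34, 46], .weyl [2, 1, 2, 3, 2] 115),
  ([34, 46, 47], [34, 46, 47], .weyl [1, 2, 0, 1, 2, 3, 0, 1, 2, 1] 242),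
  ([34, 46, 47], [34, 46], .split 47 433 434),
  ([34, 46, 47], [34], .split 46 432 435),
  ([34, 45, 47], [34, 45, 47], .weyl [1, 2, 3, 2] 118),
  ([34, 45, 47], [34, 45], .split 47 122 437),
  ([34, 45, 46], [34, 45, 46], .weyl [3, 1, 2] 118),
  ([34, 45, 46, 47], [34, 45, 46, 47], .weyl [3, 1, 2, 0, 1, 2, 1] 336),
  ([34, 45, 46, 47], [34, 45, 46], .split 47 439 440),
  ([34, 45, 46, 47], [34, 45], .split 46 438 441),
  ([34, 45, 46, 47], [34], .split 45 436 442),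
  ([34, 43], [34, 43], .weyl [2, 1, 2, 3, 2, 1, 2, 1] 115),
  ([34, 43, 47], [34, 43, 47], .weyl [1, 2, 0, 1, 2, 3, 0] 242),
  ([34, 43, 47], [34, 43], .split 47 444 445),
  ([34, 43, 45], [34, 43, 45], .weyl [3, 2, 1, 2, 1] 134),
  ([34, 43, 45, 47], [34, 43, 45, 47], .weyl [2, 1, 2, 3, 2, 0, 1, 2] 248),
  ([34, 43, 45, 47], [34, 43, 45], .split 47 447 448),
  ([34, 43, 45, 47], [34, 43], .split 45 446 449),
  ([34, 43, 45, 46, 47], [34, 43], .kill 30 46 0 450),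
  ([34, 43, 45, 46, 47], [34], .split 43 443 451),
  ([34, 42], [34, 42], .weyl [0, 1, 2, 3, 2, 1, 2] 20),
  ([34, 42, 47], [34, 42, 47], .weyl [1, 2, 3, 2, 1, 2, 1] 118),
  ([34, 42, 47], [34, 42], .split 47 453 454),
  ([34, 42, 46], [34, 42, 46], .weyl [3, 2] 134),
  ([34, 42, 46, 47], [34, 42, 46, 47], .weyl [2, 1, 2, 3, 0, 1, 2] 248),
  ([34, 42, 46, 47], [34, 42, 46], .split 47 456 457),
  ([34, 42, 46, 47], [34, 42], .split 46 455 458),
  ([34, 42, 43], [34, 42, 43], .weyl [3, 2, 1, 2] 118),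
  ([34, 42, 43, 46], [34, 42, 43, 46], .weyl [2, 3, 1, 2, 0, 1, 2, 3, 2, 1, 2, 1] 248),
  ([34, 42, 43, 46], [34, 42, 43], .split 46 460 461),
  ([34, 42, 43, 46, 47], [34, 42, 43], .kill 31 47 0 462),
  ([34, 42, 43, 46, 47], [34, 42], .split 43 459 463),
  ([34, 42, 43, 45, 46, 47], [34, 42], .kill 30 45 0 464),
  ([34, 42, 43, 45, 46, 47], [34], .split 42 452 465),
  ([34, 41], [34, 41], .weyl [3, 2, 0, 1, 2, 3, 1, 2] 20),
  ([34, 41, 47], [34, 41, 47], .weyl [2, 3, 2] 134),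
  ([34, 41, 47], [34, 41], .split 47 467 468),
  ([34, 41, 46], [34, 41, 46], .weyl [3, 2, 1, 2, 3, 1, 2, 1] 118),
  ([34, 41, 46, 47], [34, 41, 46, 47], .weyl [2, 1, 2, 0, 1, 2, 3, 2] 248),
  ([34, 41, 46, 47], [34, 41, 46], .split 47 470 471),
  ([34, 41, 46, 47], [34, 41], .split 46 469 472),
  ([34, 41, 43], [34, 41, 43], .weyl [3, 2, 1, 2, 3] 118),
  ([34, 41, 43, 47], [34, 41, 43, 47], .weyl [2, 1, 2, 0, 1, 2, 3, 2, 1, 2, 1] 248),
  ([34, 41, 43, 47], [34, 41, 43], .split 47 474 475),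
  ([34, 41, 43, 46, 47], [34, 41, 43], .kill 30 46 0 476),
  ([34, 41, 43, 46, 47], [34, 41], .split 43 473 477),
  ([34, 41, 43, 45, 46, 47], [34, 41], .kill 31 45 0 478),
  ([34, 41, 42, 43, 45, 46, 47], [34, 41], .kill 24 42 0 479),
  ([34, 41, 42, 43, 45, 46, 47], [34], .split 41 466 480),
  ([34, 41, 42, 43, 44, 45, 46, 47], [34], .kill 39 44 0 481),
  ([34, 40, 41, 42, 43, 44, 45, 46, 47], [34], .kill 32 40 0 482),
  ([34, 38, 40, 41, 42, 43, 44, 45, 46, 47], [34], .kill 29 38 0 483),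
  ([34, 37, 38, 40, 41, 42, 43, 44, 45, 46, 47], [34], .kill 28 37 0 484),
  ([34, 37, 38, 39, 40, 41, 42, 43, 44, 45, 46, 47], [34], .zero 44 39 485),
  ([34, 36, 37, 38, 39, 40, 41, 42, 43, 44, 45, 46, 47], [34], .kill 26 36 0 486),
  ([34, 35, 36, 37, 38, 39, 40, 41, 42, 43, 44, 45, 46, 47], [34], .kill 25 35 0 487),
  ([34, 35, 36, 37, 38, 39, 40, 41, 42, 43, 44, 45, 46, 47], [], .split 34 429 488),
  ([33], [33], .weyl [0, 1, 2, 3, 1, 2, 1] 19),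
  ([33, 47], [33, 47], .weyl [2, 3, 1, 2, 1] 115),
  ([33, 47], [33], .split 47 490 491),
  ([33, 46], [33, 46], .weyl [2, 1, 2, 3, 2, 1] 115),
  ([33, 46, 47], [33, 46, 47], .weyl [1, 2, 0, 1, 2, 3, 0, 1, 2] 242),
  ([33, 46, 47], [33, 46], .split 47 493 494),
  ([33, 46, 47], [33], .split 46 492 495),
  ([33, 45], [33, 45], .weyl [2, 1, 2, 3, 2, 1, 2] 115),
  ([33, 45, 47], [33, 45, 47], .weyl [1, 2, 0, 1, 2, 3, 0, 1] 242),
  ([33, 45, 47], [33, 45], .split 47 497 498),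
  ([33, 45, 46, 47], [33, 45], .kill 25 46 0 499),
  ([33, 45, 46, 47], [33], .split 45 496 500),
  ([33, 43], [33, 43], .weyl [0, 1, 2, 3, 1, 2, 1] 20),
  ([33, 43, 47], [33, 43, 47], .weyl [1, 2, 3, 2, 1] 118),
  ([33, 43, 47], [33, 43], .split 47 502 503),
  ([33, 43, 46], [33, 43, 46], .weyl [3, 1, 2, 1] 118),
  ([33, 43, 46, 47], [33, 43, 46, 47], .weyl [3, 1, 2, 0, 1, 2] 336),
  ([33, 43, 46, 47], [33, 43, 46], .split 47 505 506),
  ([33, 43, 46, 47], [33, 43], .split 46 504 507),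
  ([33, 43, 45], [33, 43, 45], .weyl [3, 2, 1, 2] 134)]

/-- part 6 of the certificate -/
def part6 : List Node := [
  ([33, 43, 45, 47], [33, 43, 45, 47], .weyl [2, 1, 2, 3, 2, 0, 1, 2, 1] 248),
  ([33, 43, 45, 47], [33, 43, 45], .split 47 509 510),
  ([33, 43, 45, 46, 47], [33, 43, 45], .kill 25 46 0 511),
  ([33, 43, 45, 46, 47], [33, 43], .split 45 508 512),
  ([33, 43, 45, 46, 47], [33], .split 43 501 513),
  ([33, 42], [33, 42], .weyl [0, 1, 2, 3, 2, 1, 2, 1] 20),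
  ([33, 42, 47], [33, 42, 47], .weyl [1, 2, 3, 2, 1, 2] 118),
  ([33, 42, 47], [33, 42], .split 47 515 516),
  ([33, 42, 46], [33, 42, 46], .weyl [3, 2, 1] 134),
  ([33, 42, 46, 47], [33, 42, 46, 47], .weyl [2, 1, 2, 3, 0, 1, 2, 1] 248),
  ([33, 42, 46, 47], [33, 42, 46], .split 47 518 519),
  ([33, 42, 46, 47], [33, 42], .split 46 517 520),
  ([33, 42, 45], [33, 42, 45], .weyl [3, 2, 1, 2, 1] 118),
  ([33, 42, 45, 46], [33, 42, 45, 46], .weyl [2, 3, 1, 2, 0, 1, 2, 3, 2, 1, 2] 248),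
  ([33, 42, 45, 46], [33, 42, 45], .split 46 522 523),
  ([33, 42, 45, 46, 47], [33, 42, 45], .kill 26 47 0 524),
  ([33, 42, 45, 46, 47], [33, 42], .split 45 521 525),
  ([33, 42, 43, 45, 46, 47], [33, 42], .kill 25 43 0 526),
  ([33, 42, 43, 45, 46, 47], [33], .split 42 514 527),
  ([33, 41], [33, 41], .weyl [3, 2, 0, 1, 2, 3, 1, 2, 1] 20),
  ([33, 41, 47], [33, 41, 47], .weyl [2, 3, 2, 1] 134),
  ([33, 41, 47], [33, 41], .split 47 529 530),
  ([33, 41, 46], [33, 41, 46], .weyl [3, 2, 1, 2, 3, 1, 2] 118),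
  ([33, 41, 46, 47], [33, 41, 46, 47], .weyl [2, 1, 2, 0, 1, 2, 3, 2, 1] 248),
  ([33, 41, 46, 47], [33, 41, 46], .split 47 532 533),
  ([33, 41, 46, 47], [33, 41], .split 46 531 534),
  ([33, 41, 45], [33, 41, 45], .weyl [3, 2, 1, 2, 3, 1] 118),
  ([33, 41, 45, 47], [33, 41, 45, 47], .weyl [2, 1, 2, 0, 1, 2, 3, 2, 1, 2] 248),
  ([33, 41, 45, 47], [33, 41, 45], .split 47 536 537),
  ([33, 41, 45, 46, 47], [33, 41, 45], .kill 25 46 0 538),
  ([33, 41, 45, 46, 47], [33, 41], .split 45 535 539),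
  ([33, 41, 43, 45, 46, 47], [33, 41], .kill 26 43 0 540),
  ([33, 41, 42, 43, 45, 46, 47], [33, 41], .kill 24 42 0 541),
  ([33, 41, 42, 43, 45, 46, 47], [33], .split 41 528 542),
  ([33, 41, 42, 43, 44, 45, 46, 47], [33], .kill 40 44 0 543),
  ([33, 39, 41, 42, 43, 44, 45, 46, 47], [33], .kill 32 39 0 544),
  ([33, 38, 39, 41, 42, 43, 44, 45, 46, 47], [33], .kill 31 38 0 545),
  ([33, 37, 38, 39, 41, 42, 43, 44, 45, 46, 47], [33], .kill 30 37 0 546),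
  ([33, 37, 38, 39, 40, 41, 42, 43, 44, 45, 46, 47], [33], .zero 44 40 547),
  ([33, 36, 37, 38, 39, 40, 41, 42, 43, 44, 45, 46, 47], [33], .kill 29 36 0 548),
  ([33, 35, 36, 37, 38, 39, 40, 41, 42, 43, 44, 45, 46, 47], [33], .kill 28 35 0 549),
  ([33, 34, 35, 36, 37, 38, 39, 40, 41, 42, 43, 44, 45, 46, 47], [33], .kill 27 34 0 550),
  ([33, 34, 35, 36, 37, 38, 39, 40, 41, 42, 43, 44, 45, 46, 47], [], .split 33 489 551),
  ([32], [32], .weyl [3, 2, 1, 0] 1),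
  ([32, 45], [32, 45], .weyl [3, 1, 2] 47),
  ([32, 45], [32], .split 45 553 554),
  ([32, 44], [32, 44], .weyl [1, 0] 115),
  ([32, 44, 45], [32, 44, 45], .weyl [2, 1, 2, 1, 0] 134),
  ([32, 44, 45], [32, 44], .split 45 556 557),
  ([32, 44, 45], [32], .split 44 555 558),
  ([32, 43], [32, 43], .weyl [3, 1, 2, 1] 47),
  ([24, 43], [24, 43], .weyl [3, 2, 1] 47),
  ([24, 43, 44], [24, 43, 44], .weyl [1, 2, 0, 1, 2, 0, 1] 134),
  ([24, 43, 44], [24, 43], .split 44 561 562),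
  ([24, 43, 45], [24, 43, 45], .kill 27 45 1 563),
  ([32, 43, 45], [32, 43, 45], .weyl [2, 1, 2] 564),
  ([32, 43, 45], [32, 43], .split 45 560 565),
  ([32, 43, 44], [32, 43, 44], .weyl [2, 1, 2, 0, 1, 0] 134),
  ([26, 46], [26, 46], .weyl [3] 47),
  ([26, 42, 46], [26, 42, 46], .weyl [2] 564),
  ([26, 42, 46], [26, 46], .split 42 568 569),
  ([26, 36, 42, 46], [26, 36, 42, 46], .kill 34 36 0 570),
  ([32, 43, 44, 45], [32, 43, 44, 45], .weyl [1, 2, 1, 0] 571),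
  ([32, 43, 44, 45], [32, 43, 44], .split 45 567 572),
  ([32, 43, 44, 45], [32, 43], .split 44 566 573),
  ([32, 43, 44, 45], [32], .split 43 559 574),
  ([32, 38], [32, 38], .weyl [2, 1, 2, 1, 0] 115),
  ([32, 38, 45], [32, 38, 45], .weyl [1, 0] 134),
  ([32, 38, 45], [32, 38], .split 45 576 577),
  ([32, 37], [32, 37], .weyl [2, 1, 2, 3, 1, 0] 115),
  ([26, 36], [26, 36], .weyl [3, 2, 0, 1, 2, 0, 1] 20),
  ([26, 36, 47], [26, 36, 47], .weyl [3, 2, 1] 24),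
  ([26, 36, 47], [26, 36], .split 47 580 581),
  ([26, 32, 36], [26, 32, 36], .weyl [2, 1, 2, 3, 2, 1, 2, 0, 1] 118),
  ([26, 32, 36, 47], [26, 32, 36, 47], .weyl [2, 3, 1, 0] 177),
  ([26, 32, 36, 47], [26, 32, 36], .split 47 583 584),
  ([26, 32, 36, 47], [26, 36], .split 32 582 585),
  ([26, 36, 40], [26, 36, 40], .kill 30 40 0 586),
  ([32, 37, 39], [32, 37, 39], .weyl [1, 2, 3] 587),
  ([32, 37, 39], [32, 37], .split 39 579 588),
  ([32, 37, 43], [32, 37, 43], .kill 33 43 1 589),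
  ([32, 38, 43], [32, 38, 43], .weyl [3] 590),
  ([24, 33, 45], [24, 33, 45], .weyl [2, 1, 2, 1] 590),
  ([24, 39, 45], [24, 39, 45], .weyl [3, 2, 1, 2, 1] 590),
  ([24, 39, 44, 45], [24, 39, 44, 45], .kill 34 44 0 593)]

/-- part 7 of the certificate -/
def part7 : List Node := [
  ([24, 33, 36, 45], [24, 33, 36, 45], .weyl [2, 1, 2, 3, 1, 2, 0, 1, 2, 1] 594),
  ([24, 33, 36, 45], [24, 33, 45], .split 36 592 595),
  ([24, 33, 43, 45], [24, 33, 43, 45], .kill 35 43 1 596),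
  ([32, 38, 43, 45], [32, 38, 43, 45], .weyl [2, 1, 2, 3, 1] 597),
  ([32, 38, 43, 45], [32, 38, 43], .split 45 591 598),
  ([32, 38, 43, 45], [32, 38], .split 43 578 599),
  ([32, 38, 43, 44, 45], [32, 38], .kill 35 44 0 600),
  ([32, 38, 43, 44, 45], [32], .split 38 575 601),
  ([32, 37, 45], [32, 37, 45], .weyl [3, 1, 0] 134),
  ([32, 37, 45], [32, 37], .split 45 579 603),
  ([32, 37, 43, 45], [32, 37, 43, 45], .weyl [2, 1, 2, 1] 597),
  ([32, 37, 43, 45], [32, 37, 43], .split 45 590 605),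
  ([32, 37, 43, 45], [32, 37], .split 43 604 606),
  ([32, 37, 43, 44, 45], [32, 37], .kill 36 44 0 607),
  ([32, 37, 38, 43, 44, 45], [32, 37], .kill 24 38 0 608),
  ([32, 37, 38, 43, 44, 45], [32], .split 37 602 609),
  ([32, 36], [32, 36], .weyl [2, 1, 2, 0, 1, 0] 115),
  ([32, 36, 45], [32, 36, 45], .weyl [3, 1] 590),
  ([32, 36, 45], [32, 36], .split 45 611 612),
  ([32, 36, 43], [32, 36, 43], .weyl [0, 1, 0] 134),
  ([32, 36, 43, 45], [32, 36, 43, 45], .weyl [2, 1, 2, 3] 597),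
  ([32, 36, 43, 45], [32, 36, 43], .split 45 614 615),
  ([32, 36, 43, 45], [32, 36], .split 43 613 616),
  ([32, 36, 43, 44, 45], [32, 36], .kill 37 44 0 617),
  ([32, 36, 38, 43, 44, 45], [32, 36], .kill 27 38 0 618),
  ([32, 36, 37, 38, 43, 44, 45], [32, 36], .zero 44 37 619),
  ([32, 36, 37, 38, 43, 44, 45], [32], .split 36 610 620),
  ([32, 35], [32, 35], .weyl [2, 1, 2, 3, 0, 1, 0] 115),
  ([32, 35, 45], [32, 35, 45], .weyl [1] 590),
  ([32, 35, 45], [32, 35], .split 45 622 623),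
  ([32, 35, 43], [32, 35, 43], .weyl [3, 0, 1, 0] 134),
  ([32, 35, 43, 45], [32, 35, 43, 45], .weyl [2, 1, 2] 597),
  ([32, 35, 43, 45], [32, 35, 43], .split 45 625 626),
  ([32, 35, 43, 45], [32, 35], .split 43 624 627),
  ([32, 35, 43, 44, 45], [32, 35], .kill 38 44 0 628),
  ([32, 35, 37, 43, 44, 45], [32, 35], .kill 27 37 0 629),
  ([32, 35, 37, 38, 43, 44, 45], [32, 35], .zero 44 38 630),
  ([32, 35, 36, 37, 38, 43, 44, 45], [32, 35], .kill 24 36 0 631),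
  ([32, 35, 36, 37, 38, 43, 44, 45], [32], .split 35 621 632),
  ([32, 35, 36, 37, 38, 43, 44, 45, 47], [32], .kill 42 47 0 633),
  ([32, 35, 36, 37, 38, 43, 44, 45, 46, 47], [32], .kill 41 46 0 634),
  ([32, 35, 36, 37, 38, 40, 43, 44, 45, 46, 47], [32], .kill 34 40 0 635),
  ([32, 35, 36, 37, 38, 39, 40, 43, 44, 45, 46, 47], [32], .kill 33 39 0 636),
  ([32, 35, 36, 37, 38, 39, 40, 42, 43, 44, 45, 46, 47], [32], .zero 47 42 637),
  ([32, 35, 36, 37, 38, 39, 40, 41, 42, 43, 44, 45, 46, 47], [32], .zero 46 41 638),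
  ([32, 34, 35, 36, 37, 38, 39, 40, 41, 42, 43, 44, 45, 46, 47], [32], .zero 40 34 639),
  ([32, 33, 34, 35, 36, 37, 38, 39, 40, 41, 42, 43, 44, 45, 46, 47], [32], .zero 39 33 640),
  ([32, 33, 34, 35, 36, 37, 38, 39, 40, 41, 42, 43, 44, 45, 46, 47], [], .split 32 552 641),
  ([31], [31], .weyl [3, 2, 1, 2, 0] 1),
  ([31, 46], [31, 46], .weyl [3, 1] 47),
  ([31, 46], [31], .split 46 643 644),
  ([31, 44], [31, 44], .weyl [1, 2, 0] 115),
  ([31, 44, 46], [31, 44, 46], .weyl [1, 2, 1, 0] 134),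
  ([31, 44, 46], [31, 44], .split 46 646 647),
  ([31, 44, 46], [31], .split 44 645 648),
  ([31, 42], [31, 42], .weyl [3, 2, 1, 2, 1] 47),
  ([31, 42, 46], [31, 42, 46], .weyl [2, 1] 564),
  ([31, 42, 46], [31, 42], .split 46 650 651),
  ([31, 42, 44], [31, 42, 44], .weyl [2, 1, 2, 0, 1, 2, 0] 134),
  ([31, 42, 44, 46], [31, 42, 44, 46], .weyl [2, 1, 2, 1, 0] 571),
  ([31, 42, 44, 46], [31, 42, 44], .split 46 653 654),
  ([31, 42, 44, 46], [31, 42], .split 44 652 655),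
  ([31, 42, 44, 46], [31], .split 42 649 656),
  ([31, 39, 46], [31, 39, 46], .weyl [1, 2, 0] 134),
  ([31, 39, 46], [31, 39], .split 46 126 658),
  ([31, 39, 42], [31, 39, 42], .weyl [3, 2] 590),
  ([31, 39, 42, 46], [31, 39, 42, 46], .weyl [2, 1, 2, 3, 1, 2] 597),
  ([31, 39, 42, 46], [31, 39, 42], .split 46 660 661),
  ([31, 39, 42, 46], [31, 39], .split 42 659 662),
  ([31, 39, 42, 44, 46], [31, 39], .kill 34 44 0 663),
  ([31, 39, 42, 44, 46], [31], .split 39 657 664),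
  ([31, 37], [31, 37], .weyl [2, 1, 2, 3, 1, 2, 0] 115),
  ([31, 37, 46], [31, 37, 46], .weyl [3, 1, 2, 0] 134),
  ([31, 37, 46], [31, 37], .split 46 666 667),
  ([31, 37, 42], [31, 37, 42], .weyl [2] 590),
  ([31, 37, 42, 46], [31, 37, 42, 46], .weyl [1, 2, 1] 597),
  ([31, 37, 42, 46], [31, 37, 42], .split 46 669 670),
  ([31, 37, 42, 46], [31, 37], .split 42 668 671),
  ([31, 37, 42, 44, 46], [31, 37], .kill 36 44 0 672),
  ([31, 37, 39, 42, 44, 46], [31, 37], .kill 26 39 0 673),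
  ([31, 37, 39, 42, 44, 46], [31], .split 37 665 674),
  ([31, 36], [31, 36], .weyl [2, 1, 2, 0, 1, 2, 0] 115),
  ([31, 36, 46], [31, 36, 46], .weyl [3, 1, 2] 590),
  ([31, 36, 46], [31, 36], .split 46 676 677),
  ([31, 36, 42], [31, 36, 42], .weyl [0, 1, 2, 0] 134)]

/-- part 8 of the certificate -/
def part8 : List Node := [
  ([31, 36, 42, 46], [31, 36, 42, 46], .weyl [2, 1, 2, 3, 2] 597),
  ([31, 36, 42, 46], [31, 36, 42], .split 46 679 680),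
  ([31, 36, 42, 46], [31, 36], .split 42 678 681),
  ([31, 36, 42, 44, 46], [31, 36], .kill 37 44 0 682),
  ([31, 36, 39, 42, 44, 46], [31, 36], .kill 28 39 0 683),
  ([31, 36, 37, 39, 42, 44, 46], [31, 36], .zero 44 37 684),
  ([31, 36, 37, 39, 42, 44, 46], [31], .split 36 675 685),
  ([31, 34], [31, 34], .weyl [2, 1, 2, 3, 0, 1, 2, 0] 115),
  ([31, 34, 46], [31, 34, 46], .weyl [1, 2] 590),
  ([31, 34, 46], [31, 34], .split 46 687 688),
  ([31, 34, 42], [31, 34, 42], .weyl [3, 0, 1, 2, 0] 134),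
  ([31, 34, 42, 46], [31, 34, 42, 46], .weyl [2, 1] 597),
  ([31, 34, 42, 46], [31, 34, 42], .split 46 690 691),
  ([31, 34, 42, 46], [31, 34], .split 42 689 692),
  ([31, 34, 42, 44, 46], [31, 34], .kill 39 44 0 693),
  ([31, 34, 37, 42, 44, 46], [31, 34], .kill 28 37 0 694),
  ([31, 34, 37, 39, 42, 44, 46], [31, 34], .zero 44 39 695),
  ([31, 34, 36, 37, 39, 42, 44, 46], [31, 34], .kill 26 36 0 696),
  ([31, 34, 36, 37, 39, 42, 44, 46], [31], .split 34 686 697),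
  ([31, 34, 36, 37, 39, 42, 44, 46, 47], [31], .kill 43 47 0 698),
  ([31, 34, 36, 37, 39, 42, 44, 45, 46, 47], [31], .kill 41 45 0 699),
  ([31, 34, 36, 37, 39, 40, 42, 44, 45, 46, 47], [31], .kill 35 40 0 700),
  ([31, 34, 36, 37, 38, 39, 40, 42, 44, 45, 46, 47], [31], .kill 33 38 0 701),
  ([31, 34, 36, 37, 38, 39, 40, 42, 43, 44, 45, 46, 47], [31], .zero 47 43 702),
  ([31, 34, 36, 37, 38, 39, 40, 41, 42, 43, 44, 45, 46, 47], [31], .zero 45 41 703),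
  ([31, 34, 35, 36, 37, 38, 39, 40, 41, 42, 43, 44, 45, 46, 47], [31], .zero 40 35 704),
  ([31, 32, 34, 35, 36, 37, 38, 39, 40, 41, 42, 43, 44, 45, 46, 47], [31], .kill 25 32 0 705),
  ([31, 32, 33, 34, 35, 36, 37, 38, 39, 40, 41, 42, 43, 44, 45, 46, 47], [31], .zero 38 33 706),
  ([31, 32, 33, 34, 35, 36, 37, 38, 39, 40, 41, 42, 43, 44, 45, 46, 47], [], .split 31 642 707),
  ([30], [30], .weyl [3, 2, 1, 2, 3, 0] 1),
  ([30, 47], [30, 47], .weyl [1] 47),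
  ([30, 47], [30], .split 47 709 710),
  ([30, 44], [30, 44], .weyl [1, 2, 3, 0] 115),
  ([30, 44, 47], [30, 44, 47], .weyl [1, 2, 3, 1, 0] 134),
  ([30, 44, 47], [30, 44], .split 47 712 713),
  ([30, 44, 47], [30], .split 44 711 714),
  ([30, 41], [30, 41], .weyl [3, 2, 1, 2, 3, 1] 47),
  ([30, 41, 47], [30, 41, 47], .weyl [2, 3, 1] 564),
  ([30, 41, 47], [30, 41], .split 47 716 717),
  ([30, 41, 44], [30, 41, 44], .weyl [2, 1, 2, 0, 1, 2, 3, 0] 134),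
  ([30, 41, 44, 47], [30, 41, 44, 47], .weyl [2, 1, 2, 3, 1, 0] 571),
  ([30, 41, 44, 47], [30, 41, 44], .split 47 719 720),
  ([30, 41, 44, 47], [30, 41], .split 44 718 721),
  ([30, 41, 44, 47], [30], .split 41 715 722),
  ([30, 39], [30, 39], .weyl [1, 2, 3, 1, 0] 115),
  ([30, 39, 47], [30, 39, 47], .weyl [1, 2, 3, 0] 134),
  ([30, 39, 47], [30, 39], .split 47 724 725),
  ([30, 39, 41], [30, 39, 41], .weyl [2, 3, 2] 590),
  ([30, 39, 41, 47], [30, 39, 41, 47], .weyl [1, 2, 3, 1, 2] 597),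
  ([30, 39, 41, 47], [30, 39, 41], .split 47 727 728),
  ([30, 39, 41, 47], [30, 39], .split 41 726 729),
  ([30, 39, 41, 44, 47], [30, 39], .kill 34 44 0 730),
  ([30, 39, 41, 44, 47], [30], .split 39 723 731),
  ([30, 38], [30, 38], .weyl [1, 2, 3, 1, 2, 0] 115),
  ([30, 38, 47], [30, 38, 47], .weyl [1, 2, 3, 2, 0] 134),
  ([30, 38, 47], [30, 38], .split 47 733 734),
  ([30, 38, 41], [30, 38, 41], .weyl [2, 3] 590),
  ([30, 38, 41, 47], [30, 38, 41, 47], .weyl [1, 2, 3, 1] 597),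
  ([30, 38, 41, 47], [30, 38, 41], .split 47 736 737),
  ([30, 38, 41, 47], [30, 38], .split 41 735 738),
  ([30, 38, 41, 44, 47], [30, 38], .kill 35 44 0 739),
  ([30, 38, 39, 41, 44, 47], [30, 38], .kill 25 39 0 740),
  ([30, 38, 39, 41, 44, 47], [30], .split 38 732 741),
  ([30, 35], [30, 35], .weyl [2, 1, 2, 0, 1, 2, 3, 0] 115),
  ([30, 35, 47], [30, 35, 47], .weyl [1, 2, 3, 2] 590),
  ([30, 35, 47], [30, 35], .split 47 743 744),
  ([30, 35, 41], [30, 35, 41], .weyl [0, 1, 2, 3, 0] 134),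
  ([30, 35, 41, 47], [30, 35, 41, 47], .weyl [2, 3, 1, 2] 597),
  ([30, 35, 41, 47], [30, 35, 41], .split 47 746 747),
  ([30, 35, 41, 47], [30, 35], .split 41 745 748),
  ([30, 35, 41, 44, 47], [30, 35], .kill 38 44 0 749),
  ([30, 35, 39, 41, 44, 47], [30, 35], .kill 29 39 0 750),
  ([30, 35, 38, 39, 41, 44, 47], [30, 35], .zero 44 38 751),
  ([30, 35, 38, 39, 41, 44, 47], [30], .split 35 742 752),
  ([30, 34], [30, 34], .weyl [2, 1, 2, 0, 1, 2, 3, 2, 0] 115),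
  ([30, 34, 47], [30, 34, 47], .weyl [1, 2, 3] 590),
  ([30, 34, 47], [30, 34], .split 47 754 755),
  ([30, 34, 41], [30, 34, 41], .weyl [0, 1, 2, 3, 2, 0] 134),
  ([30, 34, 41, 47], [30, 34, 41, 47], .weyl [2, 3, 1] 597),
  ([30, 34, 41, 47], [30, 34, 41], .split 47 757 758),
  ([30, 34, 41, 47], [30, 34], .split 41 756 759),
  ([30, 34, 41, 44, 47], [30, 34], .kill 39 44 0 760),
  ([30, 34, 38, 41, 44, 47], [30, 34], .kill 29 38 0 761),
  ([30, 34, 38, 39, 41, 44, 47], [30, 34], .zero 44 39 762),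
  ([30, 34, 35, 38, 39, 41, 44, 47], [30, 34], .kill 25 35 0 763)]

/-- part 9 of the certificate -/
def part9 : List Node := [
  ([30, 34, 35, 38, 39, 41, 44, 47], [30], .split 34 753 764),
  ([30, 34, 35, 38, 39, 41, 44, 46, 47], [30], .kill 43 46 0 765),
  ([30, 34, 35, 38, 39, 41, 44, 45, 46, 47], [30], .kill 42 45 0 766),
  ([30, 34, 35, 38, 39, 40, 41, 44, 45, 46, 47], [30], .kill 36 40 0 767),
  ([30, 34, 35, 37, 38, 39, 40, 41, 44, 45, 46, 47], [30], .kill 33 37 0 768),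
  ([30, 34, 35, 37, 38, 39, 40, 41, 43, 44, 45, 46, 47], [30], .zero 46 43 769),
  ([30, 34, 35, 37, 38, 39, 40, 41, 42, 43, 44, 45, 46, 47], [30], .zero 45 42 770),
  ([30, 34, 35, 36, 37, 38, 39, 40, 41, 42, 43, 44, 45, 46, 47], [30], .zero 40 36 771),
  ([30, 32, 34, 35, 36, 37, 38, 39, 40, 41, 42, 43, 44, 45, 46, 47], [30], .kill 26 32 0 772),
  ([30, 31, 32, 34, 35, 36, 37, 38, 39, 40, 41, 42, 43, 44, 45, 46, 47], [30], .kill 24 31 0 773),
  ([30, 31, 32, 33, 34, 35, 36, 37, 38, 39, 40, 41, 42, 43, 44, 45, 46, 47], [30], .zero 37 33 774),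
  ([30, 31, 32, 33, 34, 35, 36, 37, 38, 39, 40, 41, 42, 43, 44, 45, 46, 47], [], .split 30 708 775),
  ([29], [29], .weyl [0, 1, 2, 1, 0] 19),
  ([29, 47], [29, 47], .weyl [0, 1, 2, 1, 0] 20),
  ([29, 47], [29], .split 47 777 778),
  ([29, 46], [29, 46], .weyl [2, 1, 0] 115),
  ([29, 46, 47], [29, 46, 47], .weyl [1, 2, 0] 118),
  ([29, 46, 47], [29, 46], .split 47 780 781),
  ([29, 46, 47], [29], .split 46 779 782),
  ([29, 45], [29, 45], .weyl [2, 1, 2, 0] 115),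
  ([29, 45, 47], [29, 45, 47], .weyl [1, 0] 118),
  ([29, 45, 47], [29, 45], .split 47 784 785),
  ([29, 45, 46], [29, 45, 46], .weyl [1, 2, 3, 1, 2, 0, 1, 2, 3, 1, 2, 1, 0] 242),
  ([29, 45, 46, 47], [29, 45, 46, 47], .weyl [0, 1, 2, 3, 2, 0, 1, 0] 336),
  ([29, 45, 46, 47], [29, 45, 46], .split 47 787 788),
  ([29, 45, 46, 47], [29, 45], .split 46 786 789),
  ([29, 45, 46, 47], [29], .split 45 783 790),
  ([29, 43], [29, 43], .weyl [2, 1, 2, 0, 1] 115),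
  ([29, 43, 47], [29, 43, 47], .weyl [0, 1, 0] 118),
  ([29, 43, 47], [29, 43], .split 47 792 793),
  ([29, 43, 45], [29, 43, 45], .weyl [3, 1, 0] 590),
  ([31, 34, 45], [31, 34, 45], .weyl [3, 0, 1, 2] 118),
  ([28, 47], [28, 47], .weyl [2, 3, 1, 0] 115),
  ([28, 46, 47], [28, 46, 47], .weyl [1, 2, 3, 0] 118),
  ([28, 46, 47], [28, 47], .split 46 797 798),
  ([28, 44, 46, 47], [28, 44, 46, 47], .kill 42 44 0 799),
  ([31, 34, 40, 45], [31, 34, 40, 45], .weyl [2, 3, 2, 1, 2, 0] 800),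
  ([31, 34, 40, 45], [31, 34, 45], .split 40 796 801),
  ([31, 34, 45, 46], [31, 34, 45, 46], .kill 35 46 1 802),
  ([29, 43, 45, 47], [29, 43, 45, 47], .weyl [2, 3, 0] 803),
  ([29, 43, 45, 47], [29, 43, 45], .split 47 795 804),
  ([29, 43, 45, 47], [29, 43], .split 45 794 805),
  ([29, 43, 45, 46, 47], [29, 43], .kill 30 46 0 806),
  ([29, 43, 45, 46, 47], [29], .split 43 791 807),
  ([29, 42], [29, 42], .weyl [2, 1, 2, 0, 1, 2] 115),
  ([29, 42, 47], [29, 42, 47], .weyl [0, 1, 2, 0] 118),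
  ([29, 42, 47], [29, 42], .split 47 809 810),
  ([29, 42, 46], [29, 42, 46], .weyl [3, 1, 2, 0] 590),
  ([29, 42, 46, 47], [29, 42, 46, 47], .weyl [2, 3, 2, 0] 803),
  ([29, 42, 46, 47], [29, 42, 46], .split 47 812 813),
  ([29, 42, 46, 47], [29, 42], .split 46 811 814),
  ([29, 42, 45, 46, 47], [29, 42], .kill 30 45 0 815),
  ([29, 42, 43, 45, 46, 47], [29, 42], .kill 25 43 0 816),
  ([29, 42, 43, 45, 46, 47], [29], .split 42 808 817),
  ([29, 32], [29, 32], .weyl [3, 0, 1, 2, 1, 0] 20),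
  ([29, 32, 46], [29, 32, 46], .weyl [2, 1, 2, 3, 1, 2, 1, 0] 118),
  ([29, 32, 46], [29, 32], .split 46 819 820),
  ([29, 32, 45], [29, 32, 45], .weyl [0] 134),
  ([29, 32, 45, 46], [29, 32, 45, 46], .weyl [2, 1, 2, 0, 1, 0] 248),
  ([29, 32, 45, 46], [29, 32, 45], .split 46 822 823),
  ([29, 32, 45, 46], [29, 32], .split 45 821 824),
  ([29, 32, 43], [29, 32, 43], .weyl [0, 1] 134),
  ([29, 32, 43, 45], [29, 32, 43, 45], .weyl [2, 1, 2, 3, 0] 597),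
  ([29, 32, 43, 45], [29, 32, 43], .split 45 826 827),
  ([29, 32, 43, 45, 46], [29, 32, 43], .kill 30 46 0 828),
  ([29, 32, 43, 45, 46], [29, 32], .split 43 825 829),
  ([29, 32, 43, 45, 46, 47], [29, 32], .kill 42 47 0 830),
  ([29, 32, 42, 43, 45, 46, 47], [29, 32], .zero 47 42 831),
  ([29, 32, 42, 43, 45, 46, 47], [29], .split 32 818 832),
  ([29, 31], [29, 31], .weyl [3, 2, 0, 1, 2, 1, 0] 20),
  ([29, 31, 46], [29, 31, 46], .weyl [2, 0] 134),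
  ([29, 31, 46], [29, 31], .split 46 834 835),
  ([29, 31, 45], [29, 31, 45], .weyl [2, 1, 2, 3, 2, 1, 2, 1, 0] 118),
  ([29, 31, 45, 46], [29, 31, 45, 46], .weyl [2, 1, 2, 0, 1, 2, 0] 248),
  ([29, 31, 45, 46], [29, 31, 45], .split 46 837 838),
  ([29, 31, 45, 46], [29, 31], .split 45 836 839),
  ([29, 31, 42], [29, 31, 42], .weyl [0, 1, 2] 134),
  ([29, 31, 42, 46], [29, 31, 42, 46], .weyl [2, 1, 2, 3, 2, 0] 597),
  ([29, 31, 42, 46], [29, 31, 42], .split 46 841 842),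
  ([29, 31, 42, 45, 46], [29, 31, 42], .kill 30 45 0 843),
  ([29, 31, 42, 45, 46], [29, 31], .split 42 840 844),
  ([29, 31, 42, 45, 46, 47], [29, 31], .kill 43 47 0 845),
  ([29, 31, 42, 43, 45, 46, 47], [29, 31], .zero 47 43 846),
  ([29, 31, 32, 42, 43, 45, 46, 47], [29, 31], .kill 25 32 0 847),
  ([29, 31, 32, 42, 43, 45, 46, 47], [29], .split 31 833 848)]

/-- part 10 of the certificate -/
def part10 : List Node := [
  ([29, 30], [29, 30], .weyl [1, 2, 3, 1, 2, 1, 0] 115),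
  ([29, 30, 47], [29, 30, 47], .weyl [1, 2, 3, 2, 1, 0] 134),
  ([29, 30, 47], [29, 30], .split 47 850 851),
  ([29, 30, 46], [29, 30, 46], .weyl [1, 2, 3, 0, 1, 2] 242),
  ([29, 30, 46, 47], [29, 30, 46, 47], .weyl [2, 3, 1, 2, 0, 1, 0] 248),
  ([29, 30, 46, 47], [29, 30, 46], .split 47 853 854),
  ([29, 30, 46, 47], [29, 30], .split 46 852 855),
  ([29, 30, 45, 46, 47], [29, 30], .kill 42 45 0 856),
  ([29, 30, 32, 45, 46, 47], [29, 30], .kill 26 32 0 857),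
  ([29, 30, 31, 32, 45, 46, 47], [29, 30], .kill 24 31 0 858),
  ([29, 30, 31, 32, 43, 45, 46, 47], [29, 30], .zero 46 43 859),
  ([29, 30, 31, 32, 42, 43, 45, 46, 47], [29, 30], .zero 45 42 860),
  ([29, 30, 31, 32, 42, 43, 45, 46, 47], [29], .split 30 849 861),
  ([29, 30, 31, 32, 42, 43, 44, 45, 46, 47], [29], .kill 41 44 0 862),
  ([29, 30, 31, 32, 40, 42, 43, 44, 45, 46, 47], [29], .kill 37 40 0 863),
  ([29, 30, 31, 32, 39, 40, 42, 43, 44, 45, 46, 47], [29], .kill 35 39 0 864),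
  ([29, 30, 31, 32, 38, 39, 40, 42, 43, 44, 45, 46, 47], [29], .kill 34 38 0 865),
  ([29, 30, 31, 32, 38, 39, 40, 41, 42, 43, 44, 45, 46, 47], [29], .zero 44 41 866),
  ([29, 30, 31, 32, 37, 38, 39, 40, 41, 42, 43, 44, 45, 46, 47], [29], .zero 40 37 867),
  ([29, 30, 31, 32, 36, 37, 38, 39, 40, 41, 42, 43, 44, 45, 46, 47], [29], .kill 33 36 0 868),
  ([29, 30, 31, 32, 35, 36, 37, 38, 39, 40, 41, 42, 43, 44, 45, 46, 47], [29], .zero 39 35 869),
  ([29, 30, 31, 32, 34, 35, 36, 37, 38, 39, 40, 41, 42, 43, 44, 45, 46, 47], [29], .zero 38 34 870),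
  ([29, 30, 31, 32, 33, 34, 35, 36, 37, 38, 39, 40, 41, 42, 43, 44, 45, 46, 47], [29], .zero 36 33 871),
  ([29, 30, 31, 32, 33, 34, 35, 36, 37, 38, 39, 40, 41, 42, 43, 44, 45, 46, 47], [], .split 29 776 872),
  ([28], [28], .weyl [0, 1, 2, 3, 1, 0] 19),
  ([28, 47], [28], .split 47 874 797),
  ([28, 46], [28, 46], .weyl [0, 1, 2, 3, 1, 0] 20),
  ([28, 46, 47], [28, 46], .split 47 876 798),
  ([28, 46, 47], [28], .split 46 875 877),
  ([28, 45], [28, 45], .weyl [2, 1, 2, 3, 0] 115),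
  ([28, 45, 47], [28, 45, 47], .weyl [1, 2, 0, 1, 2, 3, 2, 0, 1, 2, 1, 0] 242),
  ([28, 45, 47], [28, 45], .split 47 879 880),
  ([28, 45, 46], [28, 45, 46], .weyl [3, 1, 0] 118),
  ([28, 45, 46, 47], [28, 45, 46, 47], .weyl [3, 0, 1, 2, 0, 1, 0] 336),
  ([28, 45, 46, 47], [28, 45, 46], .split 47 882 883),
  ([28, 45, 46, 47], [28, 45], .split 46 881 884),
  ([28, 45, 46, 47], [28], .split 45 878 885),
  ([28, 43], [28, 43], .weyl [2, 1, 2, 3, 0, 1] 115),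
  ([28, 43, 47], [28, 43, 47], .weyl [1, 2, 0, 1, 2, 3, 2, 0, 1, 2, 0, 1, 0] 242),
  ([28, 43, 47], [28, 43], .split 47 887 888),
  ([28, 43, 45], [28, 43, 45], .weyl [1, 0] 590),
  ([26, 33, 47], [26, 33, 47], .weyl [1, 2, 0, 1, 2, 3, 2, 1, 2, 0, 1, 2] 242),
  ([25, 32, 37], [25, 32, 37], .weyl [1, 2, 0, 1, 2, 3, 2, 1, 2, 0, 1, 2, 3, 1, 2, 1, 0] 242),
  ([25, 32, 37, 46], [25, 32, 37, 46], .weyl [3, 2, 0, 1, 2, 3, 1, 2, 1, 0] 336),
  ([25, 32, 37, 46], [25, 32, 37], .split 46 892 893),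
  ([25, 32, 37, 39], [25, 32, 37, 39], .kill 26 39 0 894),
  ([26, 33, 39, 47], [26, 33, 39, 47], .weyl [0, 1, 2, 3, 1] 895),
  ([26, 33, 39, 47], [26, 33, 47], .split 39 891 896),
  ([26, 33, 46, 47], [26, 33, 46, 47], .kill 37 46 1 897),
  ([28, 43, 45, 47], [28, 43, 45, 47], .weyl [1, 2, 0] 898),
  ([28, 43, 45, 47], [28, 43, 45], .split 47 890 899),
  ([28, 43, 45, 47], [28, 43], .split 45 889 900),
  ([28, 43, 45, 46, 47], [28, 43], .kill 30 46 0 901),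
  ([28, 43, 45, 46, 47], [28], .split 43 886 902),
  ([28, 41], [28, 41], .weyl [2, 1, 2, 0, 1, 2, 3] 115),
  ([28, 41, 47], [28, 41, 47], .weyl [1, 2, 3, 2, 0] 590),
  ([28, 41, 47], [28, 41], .split 47 904 905),
  ([28, 41, 46], [28, 41, 46], .weyl [0, 1, 2, 3, 0] 118),
  ([28, 41, 46, 47], [28, 41, 46, 47], .weyl [3, 2, 0] 803),
  ([28, 41, 46, 47], [28, 41, 46], .split 47 907 908),
  ([28, 41, 46, 47], [28, 41], .split 46 906 909),
  ([28, 41, 45, 46, 47], [28, 41], .kill 31 45 0 910),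
  ([28, 41, 43, 45, 46, 47], [28, 41], .kill 26 43 0 911),
  ([28, 41, 43, 45, 46, 47], [28], .split 41 903 912),
  ([28, 32], [28, 32], .weyl [0, 1, 2, 3, 2, 1, 0] 20),
  ([28, 32, 47], [28, 32, 47], .weyl [1, 2, 3, 1, 2, 1, 0] 118),
  ([28, 32, 47], [28, 32], .split 47 914 915),
  ([28, 32, 45], [28, 32, 45], .weyl [3, 0] 134),
  ([28, 32, 45, 47], [28, 32, 45, 47], .weyl [2, 1, 2, 3, 0, 1, 0] 248),
  ([28, 32, 45, 47], [28, 32, 45], .split 47 917 918),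
  ([28, 32, 45, 47], [28, 32], .split 45 916 919),
  ([28, 32, 43], [28, 32, 43], .weyl [3, 0, 1] 134),
  ([28, 32, 43, 45], [28, 32, 43, 45], .weyl [2, 1, 2, 0] 597),
  ([28, 32, 43, 45], [28, 32, 43], .split 45 921 922),
  ([28, 32, 43, 45, 47], [28, 32, 43], .kill 31 47 0 923),
  ([28, 32, 43, 45, 47], [28, 32], .split 43 920 924),
  ([28, 32, 43, 45, 46, 47], [28, 32], .kill 41 46 0 925),
  ([28, 32, 41, 43, 45, 46, 47], [28, 32], .zero 46 41 926),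
  ([28, 32, 41, 43, 45, 46, 47], [28], .split 32 913 927),
  ([28, 30], [28, 30], .weyl [3, 2, 0, 1, 2, 3, 1, 0] 20),
  ([28, 30, 47], [28, 30, 47], .weyl [2, 3, 0] 134),
  ([28, 30, 47], [28, 30], .split 47 929 930),
  ([28, 30, 45], [28, 30, 45], .weyl [3, 2, 1, 2, 3, 2, 1, 2, 1, 0] 118),
  ([28, 30, 45, 47], [28, 30, 45, 47], .weyl [2, 1, 2, 0, 1, 2, 3, 0] 248),
  ([28, 30, 45, 47], [28, 30, 45], .split 47 932 933)]

/-- part 11 of the certificate -/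
def part11 : List Node := [
  ([28, 30, 45, 47], [28, 30], .split 45 931 934),
  ([28, 30, 41], [28, 30, 41], .weyl [0, 1, 2, 3] 134),
  ([28, 30, 41, 47], [28, 30, 41, 47], .weyl [2, 3, 1, 2, 0] 597),
  ([28, 30, 41, 47], [28, 30, 41], .split 47 936 937),
  ([28, 30, 41, 45, 47], [28, 30, 41], .kill 31 45 0 938),
  ([28, 30, 41, 45, 47], [28, 30], .split 41 935 939),
  ([28, 30, 41, 45, 46, 47], [28, 30], .kill 43 46 0 940),
  ([28, 30, 41, 43, 45, 46, 47], [28, 30], .zero 46 43 941),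
  ([28, 30, 32, 41, 43, 45, 46, 47], [28, 30], .kill 26 32 0 942),
  ([28, 30, 32, 41, 43, 45, 46, 47], [28], .split 30 928 943),
  ([28, 31], [28, 31], .weyl [2, 1, 2, 3, 1, 2, 1, 0] 115),
  ([28, 31, 46], [28, 31, 46], .weyl [3, 1, 2, 1, 0] 134),
  ([28, 31, 46], [28, 31], .split 46 945 946),
  ([28, 30, 31], [28, 30, 31], .weyl [3, 2, 1, 2, 3, 2, 0] 118),
  ([28, 30, 31, 46], [28, 30, 31, 46], .weyl [3, 2, 1, 2, 3, 2, 1, 2, 0] 137),
  ([28, 30, 31, 46], [28, 30, 31], .split 46 948 949),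
  ([28, 30, 31, 46], [28, 31], .split 30 947 950),
  ([28, 30, 31, 46, 47], [28, 31], .kill 43 47 0 951),
  ([28, 30, 31, 45, 46, 47], [28, 31], .kill 41 45 0 952),
  ([28, 30, 31, 32, 45, 46, 47], [28, 31], .kill 25 32 0 953),
  ([28, 30, 31, 32, 43, 45, 46, 47], [28, 31], .zero 47 43 954),
  ([28, 30, 31, 32, 41, 43, 45, 46, 47], [28, 31], .zero 45 41 955),
  ([28, 30, 31, 32, 41, 43, 45, 46, 47], [28], .split 31 944 956),
  ([28, 30, 31, 32, 41, 43, 44, 45, 46, 47], [28], .kill 42 44 0 957),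
  ([28, 30, 31, 32, 40, 41, 43, 44, 45, 46, 47], [28], .kill 38 40 0 958),
  ([28, 30, 31, 32, 39, 40, 41, 43, 44, 45, 46, 47], [28], .kill 36 39 0 959),
  ([28, 30, 31, 32, 37, 39, 40, 41, 43, 44, 45, 46, 47], [28], .kill 34 37 0 960),
  ([28, 30, 31, 32, 37, 39, 40, 41, 42, 43, 44, 45, 46, 47], [28], .zero 44 42 961),
  ([28, 30, 31, 32, 37, 38, 39, 40, 41, 42, 43, 44, 45, 46, 47], [28], .zero 40 38 962),
  ([28, 30, 31, 32, 35, 37, 38, 39, 40, 41, 42, 43, 44, 45, 46, 47], [28], .kill 33 35 0 963),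
  ([28, 30, 31, 32, 35, 36, 37, 38, 39, 40, 41, 42, 43, 44, 45, 46, 47], [28], .zero 39 36 964),
  ([28, 29, 30, 31, 32, 35, 36, 37, 38, 39, 40, 41, 42, 43, 44, 45, 46, 47], [28], .kill 24 29 0 965),
  ([28, 29, 30, 31, 32, 34, 35, 36, 37, 38, 39, 40, 41, 42, 43, 44, 45, 46, 47], [28], .zero 37 34 966),
  ([28, 29, 30, 31, 32, 33, 34, 35, 36, 37, 38, 39, 40, 41, 42, 43, 44, 45, 46, 47], [28], .zero 35 33 967),
  ([28, 29, 30, 31, 32, 33, 34, 35, 36, 37, 38, 39, 40, 41, 42, 43, 44, 45, 46, 47], [], .split 28 873 968),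
  ([27], [27], .weyl [0, 1, 2, 3, 1, 2, 0] 19),
  ([27, 47], [27, 47], .weyl [2, 3, 1, 2, 0] 115),
  ([27, 47], [27], .split 47 970 971),
  ([27, 46], [27, 46], .weyl [2, 1, 2, 3, 2, 0] 115),
  ([27, 46, 47], [27, 46, 47], .weyl [1, 2, 0, 1, 2, 3, 0, 1, 2, 1, 0] 242),
  ([27, 46, 47], [27, 46], .split 47 973 974),
  ([27, 46, 47], [27], .split 46 972 975),
  ([27, 45], [27, 45], .weyl [0, 1, 2, 3, 1, 2, 0] 20),
  ([27, 45, 47], [27, 45, 47], .weyl [1, 2, 3, 2, 0] 118),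
  ([27, 45, 47], [27, 45], .split 47 977 978),
  ([27, 45, 46], [27, 45, 46], .weyl [3, 1, 2, 0] 118),
  ([27, 45, 46, 47], [27, 45, 46, 47], .weyl [3, 1, 2, 0, 1, 2, 1, 0] 336),
  ([27, 45, 46, 47], [27, 45, 46], .split 47 980 981),
  ([27, 45, 46, 47], [27, 45], .split 46 979 982),
  ([27, 45, 46, 47], [27], .split 45 976 983),
  ([27, 42], [27, 42], .weyl [2, 1, 2, 3, 0, 1, 2] 115),
  ([27, 42, 47], [27, 42, 47], .weyl [1, 2, 0, 1, 2, 3, 2, 1, 2, 0, 1, 2, 1, 0] 242),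
  ([27, 42, 47], [27, 42], .split 47 985 986),
  ([27, 42, 46], [27, 42, 46], .weyl [1, 2, 0] 590),
  ([27, 42, 46, 47], [27, 42, 46, 47], .weyl [1, 0] 898),
  ([27, 42, 46, 47], [27, 42, 46], .split 47 988 989),
  ([27, 42, 46, 47], [27, 42], .split 46 987 990),
  ([27, 42, 45, 46, 47], [27, 42], .kill 30 45 0 991),
  ([27, 42, 45, 46, 47], [27], .split 42 984 992),
  ([27, 41], [27, 41], .weyl [2, 1, 2, 0, 1, 2, 3, 2] 115),
  ([27, 41, 47], [27, 41, 47], .weyl [1, 2, 3, 0] 590),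
  ([27, 41, 47], [27, 41], .split 47 994 995),
  ([27, 41, 46], [27, 41, 46], .weyl [1, 2, 0, 1, 2, 3, 2, 1, 2, 0, 1, 2, 3, 1, 0] 242),
  ([27, 41, 46, 47], [27, 41, 46, 47], .weyl [3, 1, 0] 898),
  ([27, 41, 46, 47], [27, 41, 46], .split 47 997 998),
  ([27, 41, 46, 47], [27, 41], .split 46 996 999),
  ([27, 41, 45, 46, 47], [27, 41], .kill 31 45 0 1000),
  ([27, 41, 42, 45, 46, 47], [27, 41], .kill 24 42 0 1001),
  ([27, 41, 42, 45, 46, 47], [27], .split 41 993 1002),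
  ([27, 31], [27, 31], .weyl [0, 1, 2, 3, 2, 1, 2, 0] 20),
  ([27, 31, 47], [27, 31, 47], .weyl [1, 2, 3, 2, 1, 2, 1, 0] 118),
  ([27, 31, 47], [27, 31], .split 47 1004 1005),
  ([27, 31, 46], [27, 31, 46], .weyl [3, 2, 0] 134),
  ([27, 31, 46, 47], [27, 31, 46, 47], .weyl [2, 1, 2, 3, 0, 1, 2, 0] 248),
  ([27, 31, 46, 47], [27, 31, 46], .split 47 1007 1008),
  ([27, 31, 46, 47], [27, 31], .split 46 1006 1009),
  ([27, 31, 42], [27, 31, 42], .weyl [3, 0, 1, 2] 134),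
  ([27, 31, 42, 46], [27, 31, 42, 46], .weyl [2, 1, 0] 597),
  ([27, 31, 42, 46], [27, 31, 42], .split 46 1011 1012),
  ([27, 31, 42, 46, 47], [27, 31, 42], .kill 32 47 0 1013),
  ([27, 31, 42, 46, 47], [27, 31], .split 42 1010 1014),
  ([27, 31, 42, 45, 46, 47], [27, 31], .kill 41 45 0 1015),
  ([27, 31, 41, 42, 45, 46, 47], [27, 31], .zero 45 41 1016),
  ([27, 31, 41, 42, 45, 46, 47], [27], .split 31 1003 1017),
  ([27, 30], [27, 30], .weyl [3, 2, 0, 1, 2, 3, 1, 2, 0] 20)]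

/-- part 12 of the certificate -/
def part12 : List Node := [
  ([27, 30, 47], [27, 30, 47], .weyl [2, 3, 2, 0] 134),
  ([27, 30, 47], [27, 30], .split 47 1019 1020),
  ([27, 30, 46, 47], [27, 30, 46, 47], .weyl [2, 1, 2, 0, 1, 2, 3, 2, 0] 248),
  ([27, 30, 46, 47], [27, 30, 46], .split 47 176 1022),
  ([27, 30, 46, 47], [27, 30], .split 46 1021 1023),
  ([27, 30, 41], [27, 30, 41], .weyl [0, 1, 2, 3, 2] 134),
  ([27, 30, 41, 47], [27, 30, 41, 47], .weyl [2, 3, 1, 0] 597),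
  ([27, 30, 41, 47], [27, 30, 41], .split 47 1025 1026),
  ([27, 30, 41, 46, 47], [27, 30, 41], .kill 32 46 0 1027),
  ([27, 30, 41, 46, 47], [27, 30], .split 41 1024 1028),
  ([27, 30, 41, 45, 46, 47], [27, 30], .kill 42 45 0 1029),
  ([27, 30, 41, 42, 45, 46, 47], [27, 30], .zero 45 42 1030),
  ([27, 30, 31, 41, 42, 45, 46, 47], [27, 30], .kill 24 31 0 1031),
  ([27, 30, 31, 41, 42, 45, 46, 47], [27], .split 30 1018 1032),
  ([27, 32], [27, 32], .weyl [2, 1, 2, 3, 2, 1, 2, 1, 0] 115),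
  ([27, 32, 45], [27, 32, 45], .weyl [3, 2, 1, 2, 1, 0] 134),
  ([27, 32, 45], [27, 32], .split 45 1034 1035),
  ([27, 31, 32], [27, 31, 32], .weyl [3, 2, 1, 2, 0] 118),
  ([27, 31, 32, 45], [27, 31, 32, 45], .weyl [2, 3, 2, 1, 2, 1, 0] 137),
  ([27, 31, 32, 45], [27, 31, 32], .split 45 1037 1038),
  ([27, 31, 32, 45], [27, 32], .split 31 1036 1039),
  ([27, 30, 32], [27, 30, 32], .weyl [3, 2, 1, 2, 3, 0] 118),
  ([27, 30, 32, 45], [27, 30, 32, 45], .weyl [3, 2, 1, 2, 3, 2, 1, 0] 137),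
  ([27, 30, 32, 45], [27, 30, 32], .split 45 1041 1042),
  ([27, 30, 31, 32, 45], [27, 30, 32], .kill 24 31 0 1043),
  ([27, 30, 31, 32, 45], [27, 32], .split 30 1040 1044),
  ([27, 30, 31, 32, 45, 47], [27, 32], .kill 42 47 0 1045),
  ([27, 30, 31, 32, 45, 46, 47], [27, 32], .kill 41 46 0 1046),
  ([27, 30, 31, 32, 42, 45, 46, 47], [27, 32], .zero 47 42 1047),
  ([27, 30, 31, 32, 41, 42, 45, 46, 47], [27, 32], .zero 46 41 1048),
  ([27, 30, 31, 32, 41, 42, 45, 46, 47], [27], .split 32 1033 1049),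
  ([27, 30, 31, 32, 41, 42, 44, 45, 46, 47], [27], .kill 43 44 0 1050),
  ([27, 30, 31, 32, 40, 41, 42, 44, 45, 46, 47], [27], .kill 39 40 0 1051),
  ([27, 30, 31, 32, 38, 40, 41, 42, 44, 45, 46, 47], [27], .kill 36 38 0 1052),
  ([27, 30, 31, 32, 37, 38, 40, 41, 42, 44, 45, 46, 47], [27], .kill 35 37 0 1053),
  ([27, 30, 31, 32, 37, 38, 40, 41, 42, 43, 44, 45, 46, 47], [27], .zero 44 43 1054),
  ([27, 30, 31, 32, 37, 38, 39, 40, 41, 42, 43, 44, 45, 46, 47], [27], .zero 40 39 1055),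
  ([27, 30, 31, 32, 34, 37, 38, 39, 40, 41, 42, 43, 44, 45, 46, 47], [27], .kill 33 34 0 1056),
  ([27, 30, 31, 32, 34, 36, 37, 38, 39, 40, 41, 42, 43, 44, 45, 46, 47], [27], .zero 38 36 1057),
  ([27, 29, 30, 31, 32, 34, 36, 37, 38, 39, 40, 41, 42, 43, 44, 45, 46, 47], [27], .kill 26 29 0 1058),
  ([27, 29, 30, 31, 32, 34, 35, 36, 37, 38, 39, 40, 41, 42, 43, 44, 45, 46, 47], [27], .zero 37 35 1059),
  ([27, 28, 29, 30, 31, 32, 34, 35, 36, 37, 38, 39, 40, 41, 42, 43, 44, 45, 46, 47], [27], .kill 25 28 0 1060),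
  ([27, 28, 29, 30, 31, 32, 33, 34, 35, 36, 37, 38, 39, 40, 41, 42, 43, 44, 45, 46, 47], [27], .zero 34 33 1061),
  ([27, 28, 29, 30, 31, 32, 33, 34, 35, 36, 37, 38, 39, 40, 41, 42, 43, 44, 45, 46, 47], [], .split 27 969 1062),
  ([26], [26], .weyl [3, 2, 1, 2, 0, 1] 1),
  ([26, 46], [26], .split 46 1064 568),
  ([26, 44], [26, 44], .weyl [1, 2, 0, 1] 115),
  ([26, 44, 46], [26, 44, 46], .weyl [1, 2, 0, 1, 0] 134),
  ([26, 44, 46], [26, 44], .split 46 1066 1067),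
  ([26, 44, 46], [26], .split 44 1065 1068),
  ([26, 42], [26, 42], .weyl [3, 2, 1, 2] 47),
  ([26, 42, 46], [26, 42], .split 46 1070 569),
  ([26, 42, 44], [26, 42, 44], .weyl [2, 1, 2, 0, 1, 2, 0, 1] 134),
  ([26, 42, 44, 46], [26, 42, 44, 46], .weyl [2, 1, 2, 0, 1, 0] 571),
  ([26, 42, 44, 46], [26, 42, 44], .split 46 1072 1073),
  ([26, 42, 44, 46], [26, 42], .split 44 1071 1074),
  ([26, 42, 44, 46], [26], .split 42 1069 1075),
  ([26, 40], [26, 40], .weyl [1, 2, 0, 1, 0] 115),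
  ([26, 40, 46], [26, 40, 46], .weyl [1, 2, 0, 1] 134),
  ([26, 40, 46], [26, 40], .split 46 1077 1078),
  ([26, 40, 42], [26, 40, 42], .weyl [3, 2, 1] 590),
  ([26, 40, 42, 46], [26, 40, 42, 46], .weyl [2, 1, 2, 3, 1, 2, 1] 597),
  ([26, 40, 42, 46], [26, 40, 42], .split 46 1080 1081),
  ([26, 40, 42, 46], [26, 40], .split 42 1079 1082),
  ([26, 40, 42, 44, 46], [26, 40], .kill 33 44 0 1083),
  ([26, 40, 42, 44, 46], [26], .split 40 1076 1084),
  ([26, 38], [26, 38], .weyl [2, 1, 2, 0, 1, 2, 0, 1] 115),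
  ([26, 38, 46], [26, 38, 46], .weyl [3, 1, 2, 1] 590),
  ([26, 38, 46], [26, 38], .split 46 1086 1087),
  ([26, 38, 42], [26, 38, 42], .weyl [0, 1, 2, 0, 1] 134),
  ([26, 38, 42, 46], [26, 38, 42, 46], .weyl [2, 1, 2, 3, 2, 1] 597),
  ([26, 38, 42, 46], [26, 38, 42], .split 46 1089 1090),
  ([26, 38, 42, 46], [26, 38], .split 42 1088 1091),
  ([26, 38, 42, 44, 46], [26, 38], .kill 35 44 0 1092),
  ([26, 38, 40, 42, 44, 46], [26, 38], .kill 28 40 0 1093),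
  ([26, 38, 40, 42, 44, 46], [26], .split 38 1085 1094),
  ([26, 35], [26, 35], .weyl [2, 1, 2, 3, 1, 2, 0, 1] 115),
  ([26, 35, 46], [26, 35, 46], .weyl [3, 1, 2, 0, 1] 134),
  ([26, 35, 46], [26, 35], .split 46 1096 1097),
  ([26, 35, 42], [26, 35, 42], .weyl [2, 1] 590),
  ([26, 35, 42, 46], [26, 35, 42, 46], .weyl [1, 2] 597),
  ([26, 35, 42, 46], [26, 35, 42], .split 46 1099 1100),
  ([26, 35, 42, 46], [26, 35], .split 42 1098 1101),
  ([26, 35, 42, 44, 46], [26, 35], .kill 38 44 0 1102),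
  ([26, 35, 40, 42, 44, 46], [26, 35], .kill 31 40 0 1103)]

/-- part 13 of the certificate -/
def part13 : List Node := [
  ([26, 35, 38, 40, 42, 44, 46], [26, 35], .zero 44 38 1104),
  ([26, 35, 38, 40, 42, 44, 46], [26], .split 35 1095 1105),
  ([26, 33], [26, 33], .weyl [2, 1, 2, 3, 0, 1, 2, 0, 1] 115),
  ([26, 33, 46], [26, 33, 46], .weyl [1, 2, 1] 590),
  ([26, 33, 46], [26, 33], .split 46 1107 1108),
  ([26, 33, 42], [26, 33, 42], .weyl [3, 0, 1, 2, 0, 1] 134),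
  ([26, 33, 42, 46], [26, 33, 42, 46], .weyl [2] 597),
  ([26, 33, 42, 46], [26, 33, 42], .split 46 1110 1111),
  ([26, 33, 42, 46], [26, 33], .split 42 1109 1112),
  ([26, 33, 42, 44, 46], [26, 33], .kill 40 44 0 1113),
  ([26, 33, 38, 42, 44, 46], [26, 33], .kill 31 38 0 1114),
  ([26, 33, 38, 40, 42, 44, 46], [26, 33], .zero 44 40 1115),
  ([26, 33, 35, 38, 40, 42, 44, 46], [26, 33], .kill 28 35 0 1116),
  ([26, 33, 35, 38, 40, 42, 44, 46], [26], .split 33 1106 1117),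
  ([26, 31], [26, 31], .weyl [3, 2, 1, 2, 0] 47),
  ([26, 31, 46], [26, 31, 46], .weyl [2, 0] 564),
  ([26, 31, 46], [26, 31], .split 46 1119 1120),
  ([26, 31, 44], [26, 31, 44], .weyl [3, 2, 1, 0] 590),
  ([26, 31, 44, 46], [26, 31, 44, 46], .weyl [2, 1, 2, 3, 1, 2, 1, 0] 597),
  ([26, 31, 44, 46], [26, 31, 44], .split 46 1122 1123),
  ([26, 31, 44, 46], [26, 31], .split 44 1121 1124),
  ([26, 31, 42], [26, 31, 42], .weyl [0, 1, 2] 564),
  ([26, 29, 42, 46], [26, 29, 42, 46], .weyl [2, 1, 2, 3, 2, 0, 1] 597),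
  ([26, 29, 42, 46], [26, 42, 46], .split 29 569 1127),
  ([26, 31, 42, 46], [26, 31, 42, 46], .kill 27 31 1 1128),
  ([26, 31, 42, 46], [26, 31, 42], .split 46 1126 1129),
  ([26, 31, 42, 44, 46], [26, 31, 42], .kill 28 44 0 1130),
  ([26, 31, 42, 44, 46], [26, 31], .split 42 1125 1131),
  ([26, 31, 40, 42, 44, 46], [26, 31], .kill 35 40 0 1132),
  ([26, 31, 38, 40, 42, 44, 46], [26, 31], .kill 33 38 0 1133),
  ([26, 31, 35, 38, 40, 42, 44, 46], [26, 31], .zero 40 35 1134),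
  ([26, 31, 33, 35, 38, 40, 42, 44, 46], [26, 31], .zero 38 33 1135),
  ([26, 31, 33, 35, 38, 40, 42, 44, 46], [26], .split 31 1118 1136),
  ([26, 28], [26, 28], .weyl [2, 1, 2, 3, 1, 2, 0, 1, 0] 115),
  ([26, 28, 46], [26, 28, 46], .weyl [3, 1, 2, 0, 1, 0] 134),
  ([26, 28, 46], [26, 28], .split 46 1138 1139),
  ([26, 28, 31], [26, 28, 31], .weyl [2, 1, 0] 590),
  ([26, 28, 31, 46], [26, 28, 31, 46], .weyl [1, 2, 0] 597),
  ([26, 28, 31, 46], [26, 28, 31], .split 46 1141 1142),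
  ([26, 28, 31, 46], [26, 28], .split 31 1140 1143),
  ([26, 28, 31, 44, 46], [26, 28], .kill 42 44 0 1144),
  ([26, 28, 31, 40, 44, 46], [26, 28], .kill 38 40 0 1145),
  ([26, 28, 31, 40, 42, 44, 46], [26, 28], .zero 44 42 1146),
  ([26, 28, 31, 38, 40, 42, 44, 46], [26, 28], .zero 40 38 1147),
  ([26, 28, 31, 35, 38, 40, 42, 44, 46], [26, 28], .kill 33 35 0 1148),
  ([26, 28, 31, 33, 35, 38, 40, 42, 44, 46], [26, 28], .zero 35 33 1149),
  ([26, 28, 31, 33, 35, 38, 40, 42, 44, 46], [26], .split 28 1137 1150),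
  ([26, 28, 31, 33, 35, 38, 40, 42, 44, 46, 47], [26], .kill 45 47 0 1151),
  ([26, 28, 31, 33, 35, 38, 40, 42, 44, 45, 46, 47], [26], .zero 47 45 1152),
  ([26, 28, 31, 33, 35, 38, 40, 42, 43, 44, 45, 46, 47], [26], .kill 41 43 0 1153),
  ([26, 28, 31, 33, 35, 38, 39, 40, 42, 43, 44, 45, 46, 47], [26], .kill 37 39 0 1154),
  ([26, 28, 31, 33, 35, 37, 38, 39, 40, 42, 43, 44, 45, 46, 47], [26], .zero 39 37 1155),
  ([26, 28, 31, 33, 35, 36, 37, 38, 39, 40, 42, 43, 44, 45, 46, 47], [26], .kill 34 36 0 1156),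
  ([26, 28, 31, 33, 35, 36, 37, 38, 39, 40, 41, 42, 43, 44, 45, 46, 47], [26], .zero 43 41 1157),
  ([26, 28, 31, 32, 33, 35, 36, 37, 38, 39, 40, 41, 42, 43, 44, 45, 46, 47], [26], .kill 30 32 0 1158),
  ([26, 28, 31, 32, 33, 34, 35, 36, 37, 38, 39, 40, 41, 42, 43, 44, 45, 46, 47], [26], .zero 36 34 1159),
  ([26, 28, 29, 31, 32, 33, 34, 35, 36, 37, 38, 39, 40, 41, 42, 43, 44, 45, 46, 47], [26], .kill 27 29 0 1160),
  ([26, 28, 29, 30, 31, 32, 33, 34, 35, 36, 37, 38, 39, 40, 41, 42, 43, 44, 45, 46, 47], [26], .zero 32 30 1161),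
  ([26, 27, 28, 29, 30, 31, 32, 33, 34, 35, 36, 37, 38, 39, 40, 41, 42, 43, 44, 45, 46, 47], [26], .zero 29 27 1162),
  ([26, 27, 28, 29, 30, 31, 32, 33, 34, 35, 36, 37, 38, 39, 40, 41, 42, 43, 44, 45, 46, 47], [], .split 26 1063 1163),
  ([25, 47], [25], .split 47 44 47),
  ([25, 44], [25, 44], .weyl [1, 2, 3, 0, 1] 115),
  ([25, 44, 47], [25, 44, 47], .weyl [1, 2, 3, 0, 1, 0] 134),
  ([25, 44, 47], [25, 44], .split 47 1166 1167),
  ([25, 44, 47], [25], .split 44 1165 1168),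
  ([25, 41], [25, 41], .weyl [3, 2, 1, 2, 3] 47),
  ([25, 41, 47], [25, 41, 47], .weyl [2, 3] 564),
  ([25, 41, 47], [25, 41], .split 47 1170 1171),
  ([25, 41, 44], [25, 41, 44], .weyl [2, 1, 2, 0, 1, 2, 3, 0, 1] 134),
  ([25, 41, 44, 47], [25, 41, 44, 47], .weyl [2, 1, 2, 3, 0, 1, 0] 571),
  ([25, 41, 44, 47], [25, 41, 44], .split 47 1173 1174),
  ([25, 41, 44, 47], [25, 41], .split 44 1172 1175),
  ([25, 41, 44, 47], [25], .split 41 1169 1176),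
  ([25, 40], [25, 40], .weyl [1, 2, 3, 0, 1, 0] 115),
  ([25, 40, 47], [25, 40, 47], .weyl [1, 2, 3, 0, 1] 134),
  ([25, 40, 47], [25, 40], .split 47 1178 1179),
  ([25, 40, 41], [25, 40, 41], .weyl [2, 3, 2, 1] 590),
  ([25, 40, 41, 47], [25, 40, 41, 47], .weyl [1, 2, 3, 1, 2, 1] 597),
  ([25, 40, 41, 47], [25, 40, 41], .split 47 1181 1182),
  ([25, 40, 41, 47], [25, 40], .split 41 1180 1183),
  ([25, 40, 41, 44, 47], [25, 40], .kill 33 44 0 1184),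
  ([25, 40, 41, 44, 47], [25], .split 40 1177 1185),
  ([25, 37], [25, 37], .weyl [2, 1, 2, 0, 1, 2, 3, 0, 1] 115),
  ([25, 37, 47], [25, 37, 47], .weyl [1, 2, 3, 2, 1] 590),
  ([25, 37, 47], [25, 37], .split 47 1187 1188)]

/-- part 14 of the certificate -/
def part14 : List Node := [
  ([25, 37, 41], [25, 37, 41], .weyl [0, 1, 2, 3, 0, 1] 134),
  ([25, 37, 41, 47], [25, 37, 41, 47], .weyl [2, 3, 1, 2, 1] 597),
  ([25, 37, 41, 47], [25, 37, 41], .split 47 1190 1191),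
  ([25, 37, 41, 47], [25, 37], .split 41 1189 1192),
  ([25, 37, 41, 44, 47], [25, 37], .kill 36 44 0 1193),
  ([25, 37, 40, 41, 44, 47], [25, 37], .kill 29 40 0 1194),
  ([25, 37, 40, 41, 44, 47], [25], .split 37 1186 1195),
  ([25, 36], [25, 36], .weyl [1, 2, 3, 1, 2, 0, 1] 115),
  ([25, 36, 47], [25, 36, 47], .weyl [1, 2, 3, 2, 0, 1] 134),
  ([25, 36, 47], [25, 36], .split 47 1197 1198),
  ([25, 36, 41], [25, 36, 41], .weyl [2, 3, 1] 590),
  ([25, 36, 41, 47], [25, 36, 41, 47], .weyl [1, 2, 3] 597),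
  ([25, 36, 41, 47], [25, 36, 41], .split 47 1200 1201),
  ([25, 36, 41, 47], [25, 36], .split 41 1199 1202),
  ([25, 36, 41, 44, 47], [25, 36], .kill 37 44 0 1203),
  ([25, 36, 40, 41, 44, 47], [25, 36], .kill 30 40 0 1204),
  ([25, 36, 37, 40, 41, 44, 47], [25, 36], .zero 44 37 1205),
  ([25, 36, 37, 40, 41, 44, 47], [25], .split 36 1196 1206),
  ([25, 33], [25, 33], .weyl [2, 1, 2, 0, 1, 2, 3, 2, 0, 1] 115),
  ([25, 33, 47], [25, 33, 47], .weyl [1, 2, 3, 1] 590),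
  ([25, 33, 47], [25, 33], .split 47 1208 1209),
  ([25, 33, 41], [25, 33, 41], .weyl [0, 1, 2, 3, 2, 0, 1] 134),
  ([25, 33, 41, 47], [25, 33, 41, 47], .weyl [2, 3] 597),
  ([25, 33, 41, 47], [25, 33, 41], .split 47 1211 1212),
  ([25, 33, 41, 47], [25, 33], .split 41 1210 1213),
  ([25, 33, 41, 44, 47], [25, 33], .kill 40 44 0 1214),
  ([25, 33, 37, 41, 44, 47], [25, 33], .kill 30 37 0 1215),
  ([25, 33, 37, 40, 41, 44, 47], [25, 33], .zero 44 40 1216),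
  ([25, 33, 36, 37, 40, 41, 44, 47], [25, 33], .kill 29 36 0 1217),
  ([25, 33, 36, 37, 40, 41, 44, 47], [25], .split 33 1207 1218),
  ([25, 30], [25, 30], .weyl [3, 2, 1, 2, 3, 0] 47),
  ([25, 30, 47], [25, 30, 47], .weyl [2, 3, 0] 564),
  ([25, 30, 47], [25, 30], .split 47 1220 1221),
  ([25, 30, 44], [25, 30, 44], .weyl [2, 3, 2, 1, 0] 590),
  ([25, 30, 44, 47], [25, 30, 44, 47], .weyl [1, 2, 3, 1, 2, 1, 0] 597),
  ([25, 30, 44, 47], [25, 30, 44], .split 47 1223 1224),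
  ([25, 30, 44, 47], [25, 30], .split 44 1222 1225),
  ([25, 30, 41], [25, 30, 41], .weyl [0, 1, 2, 3] 564),
  ([25, 30, 41, 47], [25, 30, 41, 47], .weyl [3] 1129),
  ([25, 30, 41, 47], [25, 30, 41], .split 47 1227 1228),
  ([25, 30, 41, 44, 47], [25, 30, 41], .kill 29 44 0 1229),
  ([25, 30, 41, 44, 47], [25, 30], .split 41 1226 1230),
  ([25, 30, 40, 41, 44, 47], [25, 30], .kill 36 40 0 1231),
  ([25, 30, 37, 40, 41, 44, 47], [25, 30], .kill 33 37 0 1232),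
  ([25, 30, 36, 37, 40, 41, 44, 47], [25, 30], .zero 40 36 1233),
  ([25, 30, 33, 36, 37, 40, 41, 44, 47], [25, 30], .zero 37 33 1234),
  ([25, 30, 33, 36, 37, 40, 41, 44, 47], [25], .split 30 1219 1235),
  ([25, 29], [25, 29], .weyl [1, 2, 3, 1, 2, 0, 1, 0] 115),
  ([25, 29, 47], [25, 29, 47], .weyl [1, 2, 3, 2, 0, 1, 0] 134),
  ([25, 29, 47], [25, 29], .split 47 1237 1238),
  ([25, 29, 30], [25, 29, 30], .weyl [2, 3, 1, 0] 590),
  ([25, 29, 30, 47], [25, 29, 30, 47], .weyl [1, 2, 3, 0] 597),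
  ([25, 29, 30, 47], [25, 29, 30], .split 47 1240 1241),
  ([25, 29, 30, 47], [25, 29], .split 30 1239 1242),
  ([25, 29, 30, 44, 47], [25, 29], .kill 41 44 0 1243),
  ([25, 29, 30, 40, 44, 47], [25, 29], .kill 37 40 0 1244),
  ([25, 29, 30, 40, 41, 44, 47], [25, 29], .zero 44 41 1245),
  ([25, 29, 30, 37, 40, 41, 44, 47], [25, 29], .zero 40 37 1246),
  ([25, 29, 30, 36, 37, 40, 41, 44, 47], [25, 29], .kill 33 36 0 1247),
  ([25, 29, 30, 33, 36, 37, 40, 41, 44, 47], [25, 29], .zero 36 33 1248),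
  ([25, 29, 30, 33, 36, 37, 40, 41, 44, 47], [25], .split 29 1236 1249),
  ([25, 29, 30, 33, 36, 37, 40, 41, 44, 46, 47], [25], .kill 45 46 0 1250),
  ([25, 29, 30, 33, 36, 37, 40, 41, 44, 45, 46, 47], [25], .zero 46 45 1251),
  ([25, 29, 30, 33, 36, 37, 40, 41, 43, 44, 45, 46, 47], [25], .kill 42 43 0 1252),
  ([25, 29, 30, 33, 36, 37, 39, 40, 41, 43, 44, 45, 46, 47], [25], .kill 38 39 0 1253),
  ([25, 29, 30, 33, 36, 37, 38, 39, 40, 41, 43, 44, 45, 46, 47], [25], .zero 39 38 1254),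
  ([25, 29, 30, 33, 35, 36, 37, 38, 39, 40, 41, 43, 44, 45, 46, 47], [25], .kill 34 35 0 1255),
  ([25, 29, 30, 33, 35, 36, 37, 38, 39, 40, 41, 42, 43, 44, 45, 46, 47], [25], .zero 43 42 1256),
  ([25, 29, 30, 32, 33, 35, 36, 37, 38, 39, 40, 41, 42, 43, 44, 45, 46, 47], [25], .kill 31 32 0 1257),
  ([25, 29, 30, 32, 33, 34, 35, 36, 37, 38, 39, 40, 41, 42, 43, 44, 45, 46, 47], [25], .zero 35 34 1258),
  ([25, 28, 29, 30, 32, 33, 34, 35, 36, 37, 38, 39, 40, 41, 42, 43, 44, 45, 46, 47], [25], .kill 27 28 0 1259),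
  ([25, 28, 29, 30, 31, 32, 33, 34, 35, 36, 37, 38, 39, 40, 41, 42, 43, 44, 45, 46, 47], [25], .zero 32 31 1260),
  ([25, 26, 28, 29, 30, 31, 32, 33, 34, 35, 36, 37, 38, 39, 40, 41, 42, 43, 44, 45, 46, 47], [25], .kill 24 26 0 1261),
  ([25, 26, 27, 28, 29, 30, 31, 32, 33, 34, 35, 36, 37, 38, 39, 40, 41, 42, 43, 44, 45, 46, 47], [25], .zero 28 27 1262),
  ([25, 26, 27, 28, 29, 30, 31, 32, 33, 34, 35, 36, 37, 38, 39, 40, 41, 42, 43, 44, 45, 46, 47], [], .split 25 1164 1263),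
  ([24], [24], .weyl [3, 2, 1, 2, 0, 1, 2] 1),
  ([24, 45], [24], .split 45 1265 49),
  ([24, 44], [24, 44], .weyl [1, 2, 0, 1, 2] 115),
  ([24, 44, 45], [24, 44, 45], .weyl [1, 2, 0, 1, 2, 0] 134),
  ([24, 44, 45], [24, 44], .split 45 1267 1268),
  ([24, 44, 45], [24], .split 44 1266 1269),
  ([24, 43, 45], [24, 43], .split 45 561 564),
  ([24, 43, 44, 45], [24, 43, 44, 45], .weyl [2, 1, 2, 0, 1, 2, 0] 571),
  ([24, 43, 44, 45], [24, 43, 44], .split 45 562 1272),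
  ([24, 43, 44, 45], [24, 43], .split 44 1271 1273)]

/-- part 15 of the certificate -/
def part15 : List Node := [
  ([24, 43, 44, 45], [24], .split 43 1270 1274),
  ([24, 40], [24, 40], .weyl [1, 2, 0, 1, 2, 0] 115),
  ([24, 40, 45], [24, 40, 45], .weyl [1, 2, 0, 1, 2] 134),
  ([24, 40, 45], [24, 40], .split 45 1276 1277),
  ([24, 40, 43], [24, 40, 43], .weyl [3, 2, 1, 2] 590),
  ([24, 40, 43, 45], [24, 40, 43, 45], .weyl [2, 1, 2, 3, 2, 1, 2, 1] 597),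
  ([24, 40, 43, 45], [24, 40, 43], .split 45 1279 1280),
  ([24, 40, 43, 45], [24, 40], .split 43 1278 1281),
  ([24, 40, 43, 44, 45], [24, 40], .kill 33 44 0 1282),
  ([24, 40, 43, 44, 45], [24], .split 40 1275 1283),
  ([24, 39], [24, 39], .weyl [1, 2, 0, 1, 2, 0, 1] 115),
  ([24, 39, 45], [24, 39], .split 45 1285 593),
  ([24, 39, 43], [24, 39, 43], .weyl [1, 2, 0, 1, 2, 1] 134),
  ([24, 39, 43, 45], [24, 39, 43, 45], .weyl [2, 1, 2, 3, 2, 1, 2] 597),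
  ([24, 39, 43, 45], [24, 39, 43], .split 45 1287 1288),
  ([24, 39, 43, 45], [24, 39], .split 43 1286 1289),
  ([24, 39, 43, 44, 45], [24, 39], .kill 34 44 0 1290),
  ([24, 39, 40, 43, 44, 45], [24, 39], .kill 27 40 0 1291),
  ([24, 39, 40, 43, 44, 45], [24], .split 39 1284 1292),
  ([24, 34], [24, 34], .weyl [2, 1, 2, 3, 1, 2, 0, 1, 2] 115),
  ([24, 34, 45], [24, 34, 45], .weyl [3, 1, 2, 0, 1, 2] 134),
  ([24, 34, 45], [24, 34], .split 45 1294 1295),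
  ([24, 34, 43], [24, 34, 43], .weyl [2, 1, 2] 590),
  ([24, 34, 43, 45], [24, 34, 43, 45], .weyl [1] 597),
  ([24, 34, 43, 45], [24, 34, 43], .split 45 1297 1298),
  ([24, 34, 43, 45], [24, 34], .split 43 1296 1299),
  ([24, 34, 43, 44, 45], [24, 34], .kill 39 44 0 1300),
  ([24, 34, 40, 43, 44, 45], [24, 34], .kill 32 40 0 1301),
  ([24, 34, 39, 40, 43, 44, 45], [24, 34], .zero 44 39 1302),
  ([24, 34, 39, 40, 43, 44, 45], [24], .split 34 1293 1303),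
  ([24, 33, 45], [24, 33], .split 45 241 592),
  ([24, 33, 43], [24, 33, 43], .weyl [3, 1, 2, 0, 1, 2, 1] 134),
  ([24, 33, 43, 45], [24, 33, 43], .split 45 1306 597),
  ([24, 33, 43, 45], [24, 33], .split 43 1305 1307),
  ([24, 33, 43, 44, 45], [24, 33], .kill 40 44 0 1308),
  ([24, 33, 39, 43, 44, 45], [24, 33], .kill 32 39 0 1309),
  ([24, 33, 39, 40, 43, 44, 45], [24, 33], .zero 44 40 1310),
  ([24, 33, 34, 39, 40, 43, 44, 45], [24, 33], .kill 27 34 0 1311),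
  ([24, 33, 34, 39, 40, 43, 44, 45], [24], .split 33 1304 1312),
  ([24, 32], [24, 32], .weyl [3, 2, 1, 0] 47),
  ([24, 32, 45], [24, 32, 45], .weyl [0] 564),
  ([24, 32, 45], [24, 32], .split 45 1314 1315),
  ([24, 32, 44], [24, 32, 44], .weyl [3, 2, 1, 2, 0] 590),
  ([24, 32, 44, 45], [24, 32, 44, 45], .weyl [2, 1, 2, 3, 2, 1, 2, 1, 0] 597),
  ([24, 32, 44, 45], [24, 32, 44], .split 45 1317 1318),
  ([24, 32, 44, 45], [24, 32], .split 44 1316 1319),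
  ([24, 32, 43], [24, 32, 43], .weyl [0, 1] 564),
  ([24, 32, 43, 45], [24, 32, 43, 45], .weyl [2] 1129),
  ([24, 32, 43, 45], [24, 32, 43], .split 45 1321 1322),
  ([24, 32, 43, 44, 45], [24, 32, 43], .kill 27 44 0 1323),
  ([24, 32, 43, 44, 45], [24, 32], .split 43 1320 1324),
  ([24, 32, 40, 43, 44, 45], [24, 32], .kill 34 40 0 1325),
  ([24, 32, 39, 40, 43, 44, 45], [24, 32], .kill 33 39 0 1326),
  ([24, 32, 34, 39, 40, 43, 44, 45], [24, 32], .zero 40 34 1327),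
  ([24, 32, 33, 34, 39, 40, 43, 44, 45], [24, 32], .zero 39 33 1328),
  ([24, 32, 33, 34, 39, 40, 43, 44, 45], [24], .split 32 1313 1329),
  ([24, 27], [24, 27], .weyl [2, 1, 2, 3, 1, 2, 0, 1, 2, 0] 115),
  ([24, 27, 45], [24, 27, 45], .weyl [3, 1, 2, 0, 1, 2, 0] 134),
  ([24, 27, 45], [24, 27], .split 45 1331 1332),
  ([24, 27, 32], [24, 27, 32], .weyl [2, 1, 2, 0] 590),
  ([24, 27, 32, 45], [24, 27, 32, 45], .weyl [1, 0] 597),
  ([24, 27, 32, 45], [24, 27, 32], .split 45 1334 1335),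
  ([24, 27, 32, 45], [24, 27], .split 32 1333 1336),
  ([24, 27, 32, 44, 45], [24, 27], .kill 43 44 0 1337),
  ([24, 27, 32, 40, 44, 45], [24, 27], .kill 39 40 0 1338),
  ([24, 27, 32, 40, 43, 44, 45], [24, 27], .zero 44 43 1339),
  ([24, 27, 32, 39, 40, 43, 44, 45], [24, 27], .zero 40 39 1340),
  ([24, 27, 32, 34, 39, 40, 43, 44, 45], [24, 27], .kill 33 34 0 1341),
  ([24, 27, 32, 33, 34, 39, 40, 43, 44, 45], [24, 27], .zero 34 33 1342),
  ([24, 27, 32, 33, 34, 39, 40, 43, 44, 45], [24], .split 27 1330 1343),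
  ([24, 27, 32, 33, 34, 39, 40, 43, 44, 45, 47], [24], .kill 46 47 0 1344),
  ([24, 27, 32, 33, 34, 39, 40, 43, 44, 45, 46, 47], [24], .zero 47 46 1345),
  ([24, 27, 32, 33, 34, 39, 40, 42, 43, 44, 45, 46, 47], [24], .kill 41 42 0 1346),
  ([24, 27, 32, 33, 34, 38, 39, 40, 42, 43, 44, 45, 46, 47], [24], .kill 37 38 0 1347),
  ([24, 27, 32, 33, 34, 37, 38, 39, 40, 42, 43, 44, 45, 46, 47], [24], .zero 38 37 1348),
  ([24, 27, 32, 33, 34, 36, 37, 38, 39, 40, 42, 43, 44, 45, 46, 47], [24], .kill 35 36 0 1349),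
  ([24, 27, 32, 33, 34, 36, 37, 38, 39, 40, 41, 42, 43, 44, 45, 46, 47], [24], .zero 42 41 1350),
  ([24, 27, 31, 32, 33, 34, 36, 37, 38, 39, 40, 41, 42, 43, 44, 45, 46, 47], [24], .kill 30 31 0 1351),
  ([24, 27, 31, 32, 33, 34, 35, 36, 37, 38, 39, 40, 41, 42, 43, 44, 45, 46, 47], [24], .zero 36 35 1352),
  ([24, 27, 29, 31, 32, 33, 34, 35, 36, 37, 38, 39, 40, 41, 42, 43, 44, 45, 46, 47], [24], .kill 28 29 0 1353),
  ([24, 27, 29, 30, 31, 32, 33, 34, 35, 36, 37, 38, 39, 40, 41, 42, 43, 44, 45, 46, 47], [24], .zero 31 30 1354),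
  ([24, 27, 28, 29, 30, 31, 32, 33, 34, 35, 36, 37, 38, 39, 40, 41, 42, 43, 44, 45, 46, 47], [24], .zero 29 28 1355),
  ([24, 26, 27, 28, 29, 30, 31, 32, 33, 34, 35, 36, 37, 38, 39, 40, 41, 42, 43, 44, 45, 46, 47], [24], .kill 25 26 0 1356),
  ([24, 25, 26, 27, 28, 29, 30, 31, 32, 33, 34, 35, 36, 37, 38, 39, 40, 41, 42, 43, 44, 45, 46, 47], [24], .zero 26 25 1357),
  ([24, 25, 26, 27, 28, 29, 30, 31, 32, 33, 34, 35, 36, 37, 38, 39, 40, 41, 42, 43, 44, 45, 46, 47], [], .split 24 1264 1358)]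

/-- the certificate -/
def cert : Array Node := (part0 ++ part1 ++ part2 ++ part3 ++ part4 ++ part5 ++ part6 ++ part7 ++ part8 ++ part9 ++ part10 ++ part11 ++ part12 ++ part13 ++ part14 ++ part15).toArray

/-- the target supports -/
def targets : List (List ℕ) := [[], [47], [44], [44, 47], [39, 45]]
theorem cert_size : cert.size = 1360 := by decide +kernel

theorem cert_root : (cert[1359]?.map fun x => (x.1, x.2.1)) = some (List.range' 24 24, []) := by decide +kernel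

end Cfsg.Agent.ChevF4PeelCert
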