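import Cfsg.Agent.Lib.ChevF4PeelCert

/-!
Kernel checks of the certificate for F₄, part A.
-/

set_option autoImplicit false
set_option maxRecDepth 100000

namespace Cfsg.Agent.ChevF4PeelCheckA

open Cfsg.Agent.ChevPeelEngine Cfsg.Agent.ChevF4PeelCert

theorem check0 : checkRange Cfsg.Lie.chevF4 300 targets cert 0 85 = true := by decide +kernel
theorem check4 : checkRange Cfsg.Lie.chevF4 300 targets cert 340 85 = true := by decide +kernel
theorem check8 : checkRange Cfsg.Lie.chevF4 300 targets cert 680 85 = true := by decide +kernel
theorem check12 : checkRange Cfsg.Lie.chevF4 300 targets cert 1020 85 = true := by decide +kernel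

end Cfsg.Agent.ChevF4PeelCheckA
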