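import Cfsg.Agent.Lib.ChevBorelCriterion

/-!
The points of a Chevalley group fixed by a field endomorphism: `L · H_fixed`.
-/

set_option autoImplicit false
set_option linter.unusedSectionVars false

namespace Cfsg.Agent.ChevFrobeniusFixed

open Cfsg.Lie Cfsg.Agent.ChevalleyEngine Cfsg.Agent.ChevalleyCert Cfsg.Agent.ChevalleyRoots
open Cfsg.Agent.ChevalleyCore Cfsg.Agent.ChevalleyTorus Cfsg.Agent.ChevWeyl Cfsg.Agent.ChevBruhat
open Cfsg.Agent.ChevRootCentralizer Cfsg.Agent.ChevBorelCriterion Cfsg.Agent.ChevalleyUnipotent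

variable {D : ChevalleyDatum} {F : Type*} [Field F] (σ : F →+* F)

/-- a field endomorphism applied to every entry -/
noncomputable def fr : GL D.Idx F →* GL D.Idx F := Units.map σ.mapMatrix.toMonoidHom

theorem coe_fr (g : GL D.Idx F) :
    ((fr (D := D) σ g : GL D.Idx F) : Matrix D.Idx D.Idx F) = (g : Matrix D.Idx D.Idx F).map σ := rfl

theorem fr_eq_iff (g : GL D.Idx F) :
    fr (D := D) σ g = g ↔ ∀ i j : D.Idx, σ ((g : Matrix D.Idx D.Idx F) i j) = (g : Matrix D.Idx D.Idx F) i j := by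
  rw [Units.ext_iff, coe_fr]
  exact ⟨fun h i j => congrFun (congrFun h i) j, fun h => by ext i j; exact h i j⟩

/-- generated by the root elements with fixed parameter -/
def fixedRoots (D : ChevalleyDatum) (σ : F →+* F) : Subgroup (GL D.Idx F) :=
  Subgroup.closure {g | ∃ (s : ℕ) (t : F), σ t = t ∧ (g : Matrix D.Idx D.Idx F) = D.x F s t}

variable (C : Cert D)

include C

theorem fr_xg (r : ℕ) (t : F) : fr σ (xg C r t) = xg C r (σ t) := by
  apply Units.ext
  rw [coe_fr, coe_xg, coe_xg]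
  by_cases hr : r < D.nroots
  · rw [x_eq_xR C hr, x_eq_xR C hr, ChevalleyExp.xR_map]
  · rw [x_out hr, x_out hr, Matrix.map_one _ (map_zero σ) (map_one σ)]

theorem fr_hg (r : ℕ) (t : F) : fr σ (hg C r t) = hg C r (σ t) := by
  simp [hg, ng, fr_xg σ C, map_mul, map_neg, map_inv₀]

theorem xg_mem_fixedRoots (r : ℕ) {t : F} (ht : σ t = t) : xg C r t ∈ fixedRoots D σ :=
  Subgroup.subset_closure ⟨r, t, ht, coe_xg C r t⟩

theorem fixedRoots_induction {p : GL D.Idx F → Prop} (gen : ∀ r t, σ t = t → p (xg C r t)) (one : p 1)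
    (mul : ∀ a b, p a → p b → p (a * b)) (inv : ∀ a, p a → p a⁻¹) {g : GL D.Idx F}
    (hg : g ∈ fixedRoots D σ) : p g := by
  refine Subgroup.closure_induction (p := fun y _ => p y) ?_ one (fun a b _ _ => mul a b) (fun a _ => inv a) hg
  rintro y ⟨r, t, ht, hy⟩
  exact (xg_eq_iff C).1 hy ▸ gen r t ht

theorem fr_fixedRoots {g : GL D.Idx F} (hg : g ∈ fixedRoots D σ) : fr σ g = g :=
  fixedRoots_induction σ C (p := fun y => fr σ y = y) (fun r t ht => by rw [fr_xg σ C, ht]) (map_one _)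
    (fun a b ha hb => by rw [map_mul, ha, hb]) (fun a ha => by rw [map_inv, ha]) hg

theorem fr_group {g : GL D.Idx F} (hg : g ∈ D.group F) : fr σ g ∈ D.group F := by
  refine Subgroup.closure_induction (p := fun y _ => fr σ y ∈ D.group F) ?_ (by simp)
    (fun a b _ _ ha hb => by rw [map_mul]; exact mul_mem ha hb)
    (fun a _ ha => by rw [map_inv]; exact inv_mem ha) hg
  rintro y ⟨r, t, hy⟩
  have : y = xg C r.val t := Units.ext (by rw [hy, coe_xg, ChevalleyDatum.x, dif_pos r.isLt])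
  rw [this, fr_xg σ C]
  exact xg_mem_group C _ _

theorem fr_U {g : GL D.Idx F} (hg : g ∈ D.posUnipotent F) : fr σ g ∈ D.posUnipotent F := by
  refine Subgroup.closure_induction (p := fun y _ => fr σ y ∈ D.posUnipotent F) ?_ (by simp)
    (fun a b _ _ ha hb => by rw [map_mul]; exact mul_mem ha hb)
    (fun a _ ha => by rw [map_inv]; exact inv_mem ha) hg
  rintro y ⟨r, t, hr, hy⟩
  rw [(xg_eq_iff C).1 hy, fr_xg σ C]
  exact Subgroup.subset_closure ⟨r, _, hr, coe_xg C _ _⟩

variable (S : Sys D F)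

include S in
theorem fr_H {g : GL D.Idx F} (hg : g ∈ D.diagonalSubgroup F) : fr σ g ∈ D.diagonalSubgroup F := by
  refine S.H_induction (p := fun y => fr σ y ∈ D.diagonalSubgroup F) ?_ (by simp)
    (fun a b ha hb => by rw [map_mul]; exact mul_mem ha hb)
    (fun a ha => by rw [map_inv]; exact inv_mem ha) hg
  intro r t hr ht
  have : S.hh r t = ChevalleyCore.hg C r t := by simp only [Sys.hh, hOf, nOf, ChevalleyCore.hg, ng, sysXg C S]
  rw [this, fr_hg σ C]
  exact hg_mem_H C hr ((map_ne_zero σ).mpr ht)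

theorem fr_Uw (w : S.X.W) {g : GL D.Idx F} (hg : g ∈ S.Uw w) : fr σ g ∈ S.Uw w := by
  refine Subgroup.closure_induction (p := fun y _ => fr σ y ∈ S.Uw w) ?_ (by simp)
    (fun a b _ _ ha hb => by rw [map_mul]; exact mul_mem ha hb)
    (fun a _ ha => by rw [map_inv]; exact inv_mem ha) hg
  rintro y ⟨r, t, hr, rfl⟩
  rw [sysXg C S, fr_xg σ C, ← sysXg C S]
  exact Subgroup.subset_closure ⟨r, _, hr, rfl⟩

/-- fixed elements of `U` are products of fixed root elements -/
theorem fixed_U {v : GL D.Idx F} (hv : v ∈ D.posUnipotent F) (hf : fr σ v = v) : v ∈ fixedRoots D σ := by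
  rw [posUnipotent_eq C] at hv
  obtain ⟨t, -, rfl⟩ := exists_uProd C le_rfl hv
  have h : fr σ (uProd C (D.nroots / 2) t) = uProd C (D.nroots / 2) (fun r => σ (t r)) := by
    simp only [uProd, map_list_prod, List.map_map]
    congr 1
    exact List.map_congr_left fun r _ => fr_xg σ C r (t r)
  rw [h] at hf
  refine list_prod_mem fun g hg => ?_
  obtain ⟨r, hr, rfl⟩ := List.mem_map.1 hg
  rw [List.mem_range'_1] at hr
  exact xg_mem_fixedRoots σ C r (uProd_inj C le_rfl hf r hr.1 (by omega))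

include S in
/-- a fixed point is a fixed torus element times a product of fixed root elements -/
theorem fixed_decomp {g : GL D.Idx F} (hg : g ∈ D.group F) (hf : fr σ g = g) :
    ∃ h ∈ D.diagonalSubgroup F, fr σ h = h ∧ ∃ l ∈ fixedRoots D σ, g = h * l := by
  obtain ⟨b, hb, n, u, hu, rfl⟩ := S.exists_cell_form hg
  obtain ⟨m, hm, hmw⟩ := stab_lift C S [] (by simp) (fixedRoots D σ) (fun i _ =>
    mul_mem (mul_mem (xg_mem_fixedRoots σ C _ (map_one σ))
      (xg_mem_fixedRoots σ C _ (by simp))) (xg_mem_fixedRoots σ C _ (map_one σ))) (S.toW n) (by simp)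
  have hker : (n : GL D.Idx F) * (m : GL D.Idx F)⁻¹ ∈ D.diagonalSubgroup F :=
    S.toW_ker.le (show n * m⁻¹ ∈ S.toW.ker by simp [MonoidHom.mem_ker, hmw])
  set b' := b * ((n : GL D.Idx F) * (m : GL D.Idx F)⁻¹) with hb'
  have hbB : b' ∈ D.borelSubgroup F := mul_mem hb (Sys.H_le_B hker)
  have hg' : b * (n : GL D.Idx F) * u = b' * m * u := by rw [hb']; group
  rw [hg'] at hf ⊢
  obtain ⟨h, hh, v, hv, hbv⟩ := S.mem_B_iff.mp hbB
  have hfb : fr σ b' ∈ D.borelSubgroup F := by
    rw [hbv, map_mul]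
    exact mul_mem (Sys.H_le_B (fr_H σ C S hh)) (Sys.U_le_B (fr_U σ C hv))
  rw [← hmw] at hu
  simp only [map_mul, fr_fixedRoots σ C hm] at hf
  obtain ⟨e1, e2⟩ := S.form_unique m hfb hbB (fr_Uw σ C S _ hu) hu hf
  rw [hbv, map_mul] at e1
  have hfh : h⁻¹ * fr σ h = v * (fr σ v)⁻¹ := by
    rw [eq_mul_inv_iff_mul_eq, mul_assoc, e1, inv_mul_cancel_left]
  have h1 := Subgroup.mem_inf.mpr
    ⟨hfh ▸ mul_mem hv (inv_mem (fr_U σ C hv)), mul_mem (inv_mem hh) (fr_H σ C S hh)⟩
  rw [S.U_inf_H, Subgroup.mem_bot, inv_mul_eq_one] at h1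
  rw [← h1] at e1
  refine ⟨h, hh, h1.symm, v * m * u, mul_mem (mul_mem (fixed_U σ C hv (mul_left_cancel e1)) hm)
    (fixed_U σ C (S.Uw_le_U _ hu) e2), ?_⟩
  rw [hbv]; group

/-- a fixed torus element normalises the subgroup generated by the fixed root elements -/
theorem fixed_H_conj {h : GL D.Idx F} (hh : h ∈ D.diagonalSubgroup F) (hf : fr σ h = h) {l : GL D.Idx F}
    (hl : l ∈ fixedRoots D σ) : h * l * h⁻¹ ∈ fixedRoots D σ := by
  refine fixedRoots_induction σ C (p := fun y => h * y * h⁻¹ ∈ fixedRoots D σ) ?_ (by simp)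
    (fun a b ha hb => by simpa [mul_assoc] using mul_mem ha hb)
    (fun a ha => by simpa [mul_assoc] using inv_mem ha) hl
  intro r t ht
  by_cases hr : r < D.nroots
  · obtain ⟨a, ha, h1⟩ := H_conj_xg C hr hh (F := F)
    rw [h1]
    refine xg_mem_fixedRoots σ C r ?_
    have h2 := congrArg (fr σ) (h1 t)
    simp only [map_mul, map_inv, hf, fr_xg σ C, ht] at h2
    rw [h1] at h2
    by_cases h0 : a * t = 0
    · rw [h0, map_zero]
    · rw [map_mul, ht]
      exact (ChevBruhatInstance.xg_injective C hr hr h0 h2).2.symm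
  · have : xg C r t = 1 := Units.ext (x_out hr t)
    simp [this]

end Cfsg.Agent.ChevFrobeniusFixed
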