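import Cfsg.Agent.Lib.ChevBruhatInstance

/-!
Standard parabolic subgroups, their Levi decomposition and normalisers.
-/

set_option autoImplicit false
set_option linter.unusedSimpArgs false
set_option linter.unusedSectionVars false

namespace Cfsg.Agent.ChevalleyParabolic

open Cfsg.Lie Cfsg.Agent.ChevalleyEngine Cfsg.Agent.ChevalleyCert Cfsg.Agent.ChevalleyRoots
  Cfsg.Agent.ChevalleyAdjoint Cfsg.Agent.ChevalleyExp Cfsg.Agent.ChevalleyCore Cfsg.Agent.ChevalleyUnipotent
  Cfsg.Agent.ChevalleyTorus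
open scoped Classical

variable {D : ChevalleyDatum} {F : Type*} [Field F] (C : Cert D)
include C

theorem inRootSub_iff {J : Set ℕ} {r : ℕ} (hr : r < D.nroots) :
    D.InRootSub J r ↔ ∀ j < D.rank, j ∉ J → C.coef r j = 0 := by
  refine ⟨fun h j hj hJ => (C.cc_zero_iff r j hr hj).1 (h.2 j hj hJ), fun h => ⟨hr, fun j hj hJ => ?_⟩⟩
  exact (C.cc_zero_iff r j hr hj).2 (h j hj hJ)

theorem inRootSub_simple {J : Set ℕ} {j : ℕ} (hj : j ∈ J) (hjr : j < D.rank) : D.InRootSub J (D.simple j) := by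
  rw [inRootSub_iff C (simple_lt C hjr)]
  intro k hk hkJ
  rw [C.coef_simple j k hjr hk, if_neg (fun h : k = j => hkJ (by rw [h]; exact hj))]

theorem inRootSub_neg {J : Set ℕ} {r : ℕ} (hr : r < D.nroots) (h : D.InRootSub J r) : D.InRootSub J (D.neg r) := by
  rw [inRootSub_iff C (C.neg_lt r)]
  intro j hj hJ
  rw [C.coef_neg r j hr hj, (inRootSub_iff C hr).1 h j hj hJ, neg_zero]

/-- the degree of a root outside `J` -/
noncomputable def deg (J : Set ℕ) (r : ℕ) : ℤ := ∑ j ∈ Finset.range D.rank, if j ∈ J then 0 else C.coef r j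

/-- the degree of a basis vector outside `J` -/
noncomputable def wJ (J : Set ℕ) (q : D.Idx) : ℤ := ∑ j ∈ Finset.range D.rank, if j ∈ J then 0 else cf C q j

theorem xm_wJ {J : Set ℕ} {k r : ℕ} (hk : 1 ≤ k) (hr : r < D.nroots) {a b : D.Idx} (h : xm D k r a b ≠ 0) :
    wJ C J a = wJ C J b + k * deg C J r := by
  rw [wJ, wJ, deg, Finset.mul_sum, ← Finset.sum_add_distrib]
  refine Finset.sum_congr rfl fun j hj => ?_
  split
  · simp
  · exact xm_cf C hk hr h (Finset.mem_range.1 hj)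

theorem xg_mem_weight {w : D.Idx → ℤ} {r d : ℕ} (hr : r < D.nroots)
    (hk : ∀ k, 1 ≤ k → ∀ a b, xm D k r a b ≠ 0 → w b + d ≤ w a) (t : F) : xg C r t ∈ upperAt w d := by
  have h : ∀ u : F, Raise w d (D.x F r u - 1) := by
    intro u
    rw [x_eq_xR C hr, xR, show (1 : Matrix D.Idx D.Idx F) + u • castM F (xm D 1 r) + u ^ 2 • castM F (xm D 2 r) +
      u ^ 3 • castM F (xm D 3 r) - 1 =
        u • castM F (xm D 1 r) + (u ^ 2 • castM F (xm D 2 r) + u ^ 3 • castM F (xm D 3 r)) by abel]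
    have hR : ∀ k, 1 ≤ k → Raise w d (castM F (xm D k r)) := fun k h1 a b hab =>
      hk k h1 a b fun h0 => hab (by simp [castM, h0])
    exact raise_add _ (raise_smul _ _ (hR 1 le_rfl))
      (raise_add _ (raise_smul _ _ (hR 2 (by norm_num))) (raise_smul _ _ (hR 3 (by norm_num))))
  exact ⟨by rw [coe_xg]; exact h t, by rw [xg_inv, coe_xg]; exact h (-t)⟩

theorem H_mem_weight {w : D.Idx → ℤ} {g : GL D.Idx F} (hg' : g ∈ D.diagonalSubgroup F) : g ∈ upperAt w 0 := by
  have h : ∀ g ∈ D.diagonalSubgroup F, Raise w 0 ((g : Matrix D.Idx D.Idx F) - 1) := by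
    intro g hg a b hab
    by_cases e : a = b
    · subst e; simp
    · exact absurd (by rw [Matrix.sub_apply, H_diag C hg e, Matrix.one_apply_ne e, sub_zero]) hab
  exact ⟨h g hg', h g⁻¹ (inv_mem hg')⟩

theorem deg_in {J : Set ℕ} {r : ℕ} (h : D.InRootSub J r) : deg C J r = 0 := by
  refine Finset.sum_eq_zero fun j hj => ?_
  split
  · rfl
  · rename_i hJ; exact (inRootSub_iff C h.1).1 h j (Finset.mem_range.1 hj) hJ

theorem exists_coef {J : Set ℕ} {s : ℕ} (hs : D.IsPosRoot s) (hJ : ¬ D.InRootSub J s) :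
    ∃ j, j < D.rank ∧ j ∉ J ∧ 0 < C.coef s j := by
  obtain ⟨hp, hlt⟩ := (isPos C).1 hs
  rw [inRootSub_iff C hlt] at hJ
  push Not at hJ
  obtain ⟨j, hj, hjJ, hne⟩ := hJ
  exact ⟨j, hj, hjJ, lt_of_le_of_ne (C.coef_pos s j hp hlt hj) (Ne.symm hne)⟩

theorem deg_out {J : Set ℕ} {r : ℕ} (hp : D.IsPosRoot r) (hJ : ¬ D.InRootSub J r) : 1 ≤ deg C J r := by
  obtain ⟨j, hj, hjJ, hpos⟩ := exists_coef C hp hJ
  obtain ⟨hp', hlt⟩ := (isPos C).1 hp
  refine le_trans ?_ (Finset.single_le_sum (f := fun j => if j ∈ J then 0 else C.coef r j) ?_ (Finset.mem_range.2 hj))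
  · simp only [if_neg hjJ]; omega
  · intro i hi
    split
    · rfl
    · exact C.coef_pos r i hp' hlt (Finset.mem_range.1 hi)

theorem levi_le (J : Set ℕ) : D.leviSubgroup F J ≤ upperAt (fun q => - wJ C J q) 0 := by
  refine sup_le (fun g hg' => H_mem_weight C hg') ((Subgroup.closure_le _).2 ?_)
  rintro g ⟨r, t, hr, hg'⟩
  obtain rfl := (xg_eq_iff C).1 hg'
  refine xg_mem_weight C hr.1 (fun k hk a b hab => ?_) t
  have := xm_wJ C (J := J) hk hr.1 hab
  rw [deg_in C hr] at this
  push_cast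
  omega

theorem radical_le (J : Set ℕ) : D.unipotentRadical F J ≤ upperAt (wJ C J) 1 := by
  refine (Subgroup.closure_le _).2 ?_
  rintro g ⟨r, t, hr, hJ, hg'⟩
  obtain rfl := (xg_eq_iff C).1 hg'
  refine xg_mem_weight C hr.1 (fun k hk a b hab => ?_) t
  have h1 := xm_wJ C (J := J) hk hr.1 hab
  have h2 := deg_out C hr hJ
  have : (1 : ℤ) ≤ k * deg C J r := by nlinarith [show (1 : ℤ) ≤ k by exact_mod_cast hk]
  push_cast
  omega

theorem radical_inf_levi (J : Set ℕ) : D.unipotentRadical F J ⊓ D.leviSubgroup F J = ⊥ := by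
  rw [eq_bot_iff]
  rintro g ⟨hU, hL⟩
  rw [Subgroup.mem_bot]
  apply Units.ext
  ext a b
  by_contra hne
  have h1 := (radical_le C J hU).1 a b (by rw [Matrix.sub_apply]; exact sub_ne_zero.2 hne)
  have h2 := (levi_le C J hL).1 a b (by rw [Matrix.sub_apply]; exact sub_ne_zero.2 hne)
  simp only at h2
  push_cast at h1 h2
  omega

/-! ### the parabolic subgroup as generated by root subgroups -/

theorem ns_mem_parabolic {J : Set ℕ} {j : ℕ} (hj : j ∈ J) (hjr : j < D.rank) :
    ns C (F := F) j ∈ D.parabolicSubgroup F J :=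
  (le_sup_right : _ ≤ D.parabolicSubgroup F J) (Subgroup.subset_closure ⟨j, hj, hjr, coe_ng C _ _⟩)

theorem neg_root_mem {J : Set ℕ} : ∀ r, D.nroots / 2 ≤ r → r < D.nroots → D.InRootSub J r →
    ∀ t : F, xg C (D.neg r) t ∈ D.parabolicSubgroup F J := by
  intro r
  induction r using Nat.strong_induction_on with
  | _ r ih =>
    intro h0 hr hJ t
    by_cases hs : ∃ i, i < D.rank ∧ r = D.simple i
    · obtain ⟨i, hi, rfl⟩ := hs
      have hiJ : i ∈ J := by
        by_contra hiJ
        have := (inRootSub_iff C hr).1 hJ i hi hiJ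
        rw [C.coef_simple i i hi hi, if_pos rfl] at this
        exact one_ne_zero this
      have hc := ng_simple_conj C hi hr ((C.eta i (D.simple i) : F) * t)
      rw [← mul_assoc, eta_cast_sq C, one_mul] at hc
      rw [show D.neg (D.simple i) = D.reflectRoot i (D.simple i) from (w_simple C hi).symm, ← hc]
      exact mul_mem (mul_mem (ns_mem_parabolic C hiJ hi)
        ((le_sup_left : D.borelSubgroup F ≤ _) ((le_sup_left : D.posUnipotent F ≤ _) (xg_mem_U C h0 hr _))))
        (inv_mem (ns_mem_parabolic C hiJ hi))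
    · obtain ⟨i, hi, h1, h2⟩ := C.descend r h0 hr fun i hi h => hs ⟨i, hi, h⟩
      have hlt := C.w_lt i r hi hr
      have hiJ : i ∈ J := by
        by_contra hiJ
        have h3 := (inRootSub_iff C hr).1 hJ i hi hiJ
        have h4 := C.coef_w i r i hi hr hi
        rw [if_pos rfl, h3] at h4
        have h5 := C.coef_pos _ i h1 hlt hi
        have h6 : key C (wr D i r) = 1 * key C r + (-D.cartan i r) * key C (D.simple i) :=
          key_lin C 1 (-D.cartan i r) fun j hj => by
            rw [C.coef_w i r j hi hr hj, C.coef_simple i j hi hj]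
            split <;> ring
        have h7 := key_lt C hr h2
        have h8 := (key_pos C (simple_lt C hi)).2 (C.simple_mem i hi).1
        nlinarith
      have hJ' : D.InRootSub J (wr D i r) := by
        rw [inRootSub_iff C hlt]
        intro j hj hjJ
        rw [C.coef_w i r j hi hr hj, (inRootSub_iff C hr).1 hJ j hj hjJ,
          if_neg (fun h : j = i => hjJ (by rw [h]; exact hiJ)), sub_zero]
      have hk := C.neg_lt (wr D i r)
      have hc := ng_simple_conj C hi hk ((C.eta i (D.neg (wr D i r)) : F) * t)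
      rw [← mul_assoc, eta_cast_sq C, one_mul] at hc
      have e : D.reflectRoot i (D.neg (wr D i r)) = D.neg r := by
        show wr D i _ = _
        rw [w_neg C hi hlt, w_invol C hi hr]
      rw [← e, ← hc]
      exact mul_mem (mul_mem (ns_mem_parabolic C hiJ hi) (ih _ h2 h1 hlt hJ' _)) (inv_mem (ns_mem_parabolic C hiJ hi))

theorem root_mem_parabolic {J : Set ℕ} {r : ℕ} (h : D.IsPosRoot r ∨ D.InRootSub J r) (t : F) :
    xg C r t ∈ D.parabolicSubgroup F J := by
  by_cases hp : D.IsPosRoot r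
  · exact (le_sup_left : D.borelSubgroup F ≤ _) ((le_sup_left : D.posUnipotent F ≤ _)
      (Subgroup.subset_closure ⟨r, t, hp, rfl⟩))
  · have hJ := h.resolve_left hp
    have hr := hJ.1
    have hlow : r < D.nroots / 2 := by
      by_contra hc; exact hp ((isPos C).2 ⟨by omega, hr⟩)
    have := neg_root_mem C _ ((neg_pos C hr).2 hlow) (C.neg_lt r) (inRootSub_neg C hr hJ) t
    rwa [neg_neg' C hr] at this

theorem parabolic_eq (J : Set ℕ) :
    D.parabolicSubgroup F J = D.diagonalSubgroup F ⊔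
      Subgroup.closure {g : GL D.Idx F | ∃ (r : ℕ) (t : F), (D.IsPosRoot r ∨ D.InRootSub J r) ∧
        (g : Matrix D.Idx D.Idx F) = D.x F r t} := by
  apply le_antisymm
  · refine sup_le (sup_le ?_ le_sup_left) ((Subgroup.closure_le _).2 ?_)
    · refine le_trans ?_ le_sup_right
      refine Subgroup.closure_mono ?_
      rintro g ⟨r, t, h, hg'⟩
      exact ⟨r, t, Or.inl h, hg'⟩
    · rintro g ⟨j, hj, hjr, hg'⟩
      obtain rfl : g = ng C (D.simple j) 1 := Units.ext (hg'.trans (coe_ng C _ _).symm)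
      refine (le_sup_right : _ ≤ D.diagonalSubgroup F ⊔ _) ?_
      have h1 := inRootSub_simple C hj hjr
      exact mul_mem (mul_mem (Subgroup.subset_closure ⟨_, _, Or.inr h1, coe_xg C _ _⟩)
        (Subgroup.subset_closure ⟨_, _, Or.inr (inRootSub_neg C h1.1 h1), coe_xg C _ _⟩))
        (Subgroup.subset_closure ⟨_, _, Or.inr h1, coe_xg C _ _⟩)
  · refine sup_le (le_trans le_sup_right le_sup_left) ((Subgroup.closure_le _).2 ?_)
    rintro g ⟨r, t, h, hg'⟩
    obtain rfl := (xg_eq_iff C).1 hg'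
    exact root_mem_parabolic C h t

/-! ### the unipotent radical -/

theorem radical_eq (J : Set ℕ) : D.unipotentRadical F J =
    Subgroup.closure {g : GL D.Idx F | ∃ (r : ℕ) (t : F), (D.IsPosRoot r ∧ ¬ D.InRootSub J r) ∧
      (g : Matrix D.Idx D.Idx F) = D.x F r t} := by
  unfold ChevalleyDatum.unipotentRadical
  congr 1
  ext g
  simp only [Set.mem_ofPred_eq, and_assoc]

theorem conj_radical {J : Set ℕ} {r s : ℕ} (hr : D.IsPosRoot r ∨ D.InRootSub J r) (hs : D.IsPosRoot s)
    (hsJ : ¬ D.InRootSub J s) (t u : F) : xg C r t * xg C s u * (xg C r t)⁻¹ ∈ D.unipotentRadical F J := by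
  obtain ⟨hs1, hs2⟩ := (isPos C).1 hs
  have hrl : r < D.nroots := by rcases hr with h | h <;> exact h.1
  by_cases h1 : s = r
  · subst h1
    rw [xg_inv, xg_mul, xg_mul, show t + u + -t = u by ring]
    exact Subgroup.subset_closure ⟨s, u, hs, hsJ, coe_xg C _ _⟩
  have h2 : s ≠ D.neg r := by
    rintro rfl
    rcases hr with h | h
    · have := ((isPos C).1 h).1
      have := (neg_pos C hrl).1 hs1
      omega
    · exact hsJ (inRootSub_neg C hrl h)
  have h := comm_formula C hrl hs2 h1 h2 (-t) u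
  have e : xg C r t * xg C s u * (xg C r t)⁻¹ = xg C s u * wg C (D.commWord F r s (-t) u) := by
    rw [xg_inv, mul_assoc, h, ← mul_assoc, ← mul_assoc, xg_mul, add_neg_cancel, xg_zero, one_mul]
  rw [e]
  refine mul_mem (Subgroup.subset_closure ⟨s, u, hs, hsJ, coe_xg C _ _⟩) (Subgroup.list_prod_mem _ ?_)
  intro g hg'
  simp only [ChevalleyDatum.commWord, List.map_map, List.mem_map] at hg'
  obtain ⟨c, hc, rfl⟩ := hg'
  obtain ⟨c1, _, c3, c4⟩ := commTerms_mem C hrl hs2 hc
  obtain ⟨j, hj, hjJ, hjs⟩ := exists_coef C hs hsJ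
  have hrj : 0 ≤ C.coef r j := by
    rcases hr with h | h
    · exact C.coef_pos r j ((isPos C).1 h).1 hrl hj
    · rw [(inRootSub_iff C hrl).1 h j hj hjJ]
  have hpos : 0 < C.coef c.1 j := by
    rw [c4 j hj]
    have : (1 : ℤ) ≤ c.2.2.2 := by exact_mod_cast c3
    nlinarith
  have hge : D.nroots / 2 ≤ c.1 := by
    by_contra hcn
    have := C.coef_pos (D.neg c.1) j ((neg_pos C c1).2 (by omega)) (C.neg_lt c.1) hj
    rw [C.coef_neg c.1 j c1 hj] at this
    omega
  refine Subgroup.subset_closure ⟨c.1, _, (isPos C).2 ⟨hge, c1⟩, fun hin => ?_, coe_xg C _ _⟩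
  rw [(inRootSub_iff C c1).1 hin j hj hjJ] at hpos
  omega

theorem parabolic_le_normalizer (J : Set ℕ) :
    D.parabolicSubgroup F J ≤ Subgroup.normalizer (D.unipotentRadical F J : Set (GL D.Idx F)) := by
  rw [parabolic_eq C, radical_eq C]
  refine sup_le (H_le_normalizer C _) ((Subgroup.closure_le _).2 ?_)
  rintro g ⟨r, t, hr, hg'⟩
  obtain rfl := (xg_eq_iff C).1 hg'
  refine closure_le_normalizer (H := (Subgroup.closure (Set.range fun u : F => xg C r u))) ?_
    (Subgroup.subset_closure ⟨t, rfl⟩)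
  intro k hk x hx
  obtain ⟨s, u, ⟨hs, hsJ⟩, hx'⟩ := hx
  obtain rfl := (xg_eq_iff C).1 hx'
  have hk' : ∃ v : F, xg C r v = k := by
    induction hk using Subgroup.closure_induction with
    | mem g hg => exact hg
    | one => exact ⟨0, xg_zero C r⟩
    | mul a b _ _ ha hb =>
      obtain ⟨v, rfl⟩ := ha; obtain ⟨v', rfl⟩ := hb; exact ⟨v + v', (xg_mul C r v v').symm⟩
    | inv a _ ha => obtain ⟨v, rfl⟩ := ha; exact ⟨-v, (xg_inv C r v).symm⟩
  obtain ⟨v, rfl⟩ := hk'
  rw [← radical_eq C]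
  exact conj_radical C hr hs hsJ v u

theorem radical_sup_levi (J : Set ℕ) :
    D.unipotentRadical F J ⊔ D.leviSubgroup F J = D.parabolicSubgroup F J := by
  rw [parabolic_eq C]
  apply le_antisymm
  · refine sup_le (le_trans ?_ le_sup_right) (sup_le le_sup_left (le_trans ?_ le_sup_right))
    · exact Subgroup.closure_mono fun g ⟨r, t, h, _, hg'⟩ => ⟨r, t, Or.inl h, hg'⟩
    · exact Subgroup.closure_mono fun g ⟨r, t, h, hg'⟩ => ⟨r, t, Or.inr h, hg'⟩
  · refine sup_le (le_trans le_sup_left le_sup_right) ((Subgroup.closure_le _).2 ?_)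
    rintro g ⟨r, t, h, hg'⟩
    by_cases hJ : D.InRootSub J r
    · exact (le_sup_right : D.leviSubgroup F J ≤ _) ((le_sup_right : _ ≤ D.leviSubgroup F J)
        (Subgroup.subset_closure ⟨r, t, hJ, hg'⟩))
    · exact (le_sup_left : D.unipotentRadical F J ≤ _)
        (Subgroup.subset_closure ⟨r, t, h.resolve_right hJ, hJ, hg'⟩)

end Cfsg.Agent.ChevalleyParabolic
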