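import Cfsg.Agent.Lib.ChevG2Gauss77
import Cfsg.Agent.Lib.ChevalleyParabolic

/-!
`G₂(q)`: the product of a class of regular semisimple elements with itself contains the nontrivial elements.
Split torus for `q ≥ 7`, the torus of order `q² - 1` in a Levi subgroup for small `q`.
-/

set_option autoImplicit false
set_option linter.unusedSectionVars false
set_option maxRecDepth 100000

namespace Cfsg.Agent.ChevG2Cover77

open Cfsg.Lie Cfsg.Agent.ChevalleyEngine Cfsg.Agent.ChevalleyCert Cfsg.Agent.ChevalleyRoots Cfsg.Agent.ChevalleyCore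
  Cfsg.Agent.ChevalleyTorus Cfsg.Agent.ChevalleyUnipotent Cfsg.Agent.ChevalleyRankOne
  Cfsg.Agent.GaussPrescribed77 Cfsg.Agent.ChevGauss77 Cfsg.Agent.ChevG2Gauss77
open scoped MatrixGroups

variable {F : Type*} [Field F]

/-- conjugates in the Chevalley group -/
def Conj (x y : GL chevG2.Idx F) : Prop := ∃ k ∈ chevG2.group F, y = k * x * k⁻¹

/-- the product of two conjugates -/
def InCC (x g : GL chevG2.Idx F) : Prop := ∃ y z, Conj x y ∧ Conj x z ∧ g = y * z

theorem Conj.trans {x y z : GL chevG2.Idx F} (h1 : Conj x y) (h2 : Conj y z) : Conj x z := by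
  obtain ⟨k, hk, rfl⟩ := h1
  obtain ⟨l, hl, rfl⟩ := h2
  exact ⟨l * k, mul_mem hl hk, by group⟩

theorem InCC.of_conj {x g k : GL chevG2.Idx F} (hk : k ∈ chevG2.group F) (h : InCC x (k * g * k⁻¹)) :
    InCC x g := by
  obtain ⟨y, z, hy, hz, e⟩ := h
  refine ⟨k⁻¹ * y * k, k⁻¹ * z * k, hy.trans ⟨k⁻¹, inv_mem hk, by group⟩, hz.trans ⟨k⁻¹, inv_mem hk, by group⟩, ?_⟩
  calc g = k⁻¹ * (k * g * k⁻¹) * k := by group
    _ = _ := by rw [e]; group

/-- a coset `S y` of a finite normalised subgroup consists of conjugates of `y` when `C_S(y) = 1` -/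
theorem coset_conj {M : Type*} [Group M] [Finite M] {S : Subgroup M} {y : M}
    (hn : ∀ w ∈ S, y * w * y⁻¹ ∈ S) (hc : ∀ w ∈ S, y * w = w * y → w = 1) {v : M} (hv : v ∈ S) :
    ∃ w ∈ S, v * y = w * y * w⁻¹ := by
  let f : S → S := fun w => ⟨(w : M) * (y * (w : M)⁻¹ * y⁻¹), mul_mem w.2 (hn _ (inv_mem w.2))⟩
  have hf : Function.Injective f := by
    intro a b h
    have h' : (a : M) * (y * (a : M)⁻¹ * y⁻¹) = (b : M) * (y * (b : M)⁻¹ * y⁻¹) := congrArg Subtype.val h
    have h2 : y * ((b : M)⁻¹ * a) = ((b : M)⁻¹ * a) * y := by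
      calc y * ((b : M)⁻¹ * a) = (b : M)⁻¹ * ((b : M) * (y * (b : M)⁻¹ * y⁻¹)) * y * a := by group
        _ = (b : M)⁻¹ * ((a : M) * (y * (a : M)⁻¹ * y⁻¹)) * y * a := by rw [h']
        _ = _ := by group
    have h3 := hc _ (mul_mem (inv_mem b.2) a.2) h2
    exact Subtype.ext (inv_mul_eq_one.1 h3).symm
  obtain ⟨w, hw⟩ := (Finite.injective_iff_surjective.1 hf) ⟨v, hv⟩
  have hw' : (w : M) * (y * (w : M)⁻¹ * y⁻¹) = v := congrArg Subtype.val hw
  exact ⟨w, w.2, by rw [← hw']; group⟩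

/-- the covering step -/
theorem cover_core [Finite F] {x y1 y2 v u : GL chevG2.Idx F} {S T : Subgroup (GL chevG2.Idx F)}
    (hS : S ≤ chevG2.group F) (hT : T ≤ chevG2.group F) (h1 : Conj x y1) (h2 : Conj x y2)
    (n1 : ∀ w ∈ S, y1 * w * y1⁻¹ ∈ S) (c1 : ∀ w ∈ S, y1 * w = w * y1 → w = 1)
    (n2 : ∀ w ∈ T, y2 * w * y2⁻¹ ∈ T) (c2 : ∀ w ∈ T, y2 * w = w * y2 → w = 1)
    (hv : v ∈ S) (hu : u ∈ T) : InCC x (v * (y1 * y2) * u) := by
  obtain ⟨w, hw, ew⟩ := coset_conj n1 c1 hv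
  obtain ⟨z, hz, ez⟩ := coset_conj n2 c2 (n2 u hu)
  refine ⟨v * y1, y2 * u, h1.trans ⟨w, hS hw, ew⟩, h2.trans ⟨z, hT hz, ?_⟩, by group⟩
  rw [← ez]; group

theorem U_le : chevG2.posUnipotent F ≤ chevG2.group F := by
  refine (Subgroup.closure_le _).2 ?_
  rintro y ⟨r, t, _, hy⟩
  obtain rfl := (xg_eq_iff C).1 hy
  exact xg_mem_group C r t

theorem V_le : chevG2.negUnipotent F ≤ chevG2.group F := by
  refine (Subgroup.closure_le _).2 ?_
  rintro y ⟨r, t, _, hy⟩
  obtain rfl := (xg_eq_iff C).1 hy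
  exact xg_mem_group C r t

theorem norm_mem {G : Type*} [Group G] {S : Subgroup G} {y w : G} (h : y ∈ Subgroup.normalizer (S : Set G))
    (hw : w ∈ S) : y * w * y⁻¹ ∈ S := (Subgroup.mem_normalizer_iff.1 h w).1 hw

/-- fixed unipotent elements in coordinates -/
theorem fixed_coeff (A B : Fˣ) {u : GL chevG2.Idx F} (hu : u ∈ chevG2.posUnipotent F)
    (h : tor A B * u = u * tor A B) :
    ∃ t : ℕ → F, u = xg C 6 (t 6) * xg C 7 (t 7) * xg C 8 (t 8) * xg C 9 (t 9) * xg C 10 (t 10) * xg C 11 (t 11) ∧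
      ∀ r, 6 ≤ r → r < 12 → tchar chevG2 (par A B) r ≠ 1 → t r = 0 := by
  obtain ⟨t, ⟨-, rfl⟩, -⟩ := U_normal_form C hu
  have hh : chevG2.nroots / 2 = 6 := by decide
  have hn : chevG2.nroots = 12 := by decide
  have e : tor A B * uProd C (chevG2.nroots / 2) t * (tor A B)⁻¹ =
      uProd C (chevG2.nroots / 2) fun r => (tchar chevG2 (par A B) r : F) * t r := by
    rw [uProd, uProd, ← MulAut.conj_apply, map_list_prod, List.map_map]
    refine congrArg List.prod (List.map_congr_left fun r hr => ?_)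
    rw [List.mem_range'_1] at hr
    exact torus_conj_xg C (by omega) (par A B) (t r)
  rw [h, mul_inv_cancel_right] at e
  refine ⟨t, ?_, fun r h6 h12 hne => ?_⟩
  · rw [uProd, show List.range' (chevG2.nroots / 2) (chevG2.nroots - chevG2.nroots / 2) = [6, 7, 8, 9, 10, 11] by
      decide]
    simp [mul_assoc]
  · have h2 := uProd_inj C le_rfl e r (hh ▸ h6) (hn ▸ h12)
    by_contra ht
    exact hne (Units.ext (mul_right_cancel₀ ht ((one_mul _).trans h2).symm))

theorem fix_U {A B : Fˣ} (h0 : A ≠ 1) (h1 : B ≠ 1) (h2 : A * B ≠ 1) (h3 : A ^ 2 * B ≠ 1) (h4 : A ^ 3 * B ≠ 1)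
    (h5 : A ^ 3 * B ^ 2 ≠ 1) {u : GL chevG2.Idx F} (hu : u ∈ chevG2.posUnipotent F)
    (h : tor A B * u = u * tor A B) : u = 1 := by
  obtain ⟨t, rfl, ht⟩ := fixed_coeff A B hu h
  have hne : ∀ r, 6 ≤ r → r < 12 → tchar chevG2 (par A B) r ≠ 1 := by
    intro r a b
    rw [tchar_pos A B r a b]
    interval_cases r <;> simpa
  simp [ht 6 (by norm_num) (by norm_num) (hne 6 (by norm_num) (by norm_num)),
    ht 7 (by norm_num) (by norm_num) (hne 7 (by norm_num) (by norm_num)),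
    ht 8 (by norm_num) (by norm_num) (hne 8 (by norm_num) (by norm_num)),
    ht 9 (by norm_num) (by norm_num) (hne 9 (by norm_num) (by norm_num)),
    ht 10 (by norm_num) (by norm_num) (hne 10 (by norm_num) (by norm_num)),
    ht 11 (by norm_num) (by norm_num) (hne 11 (by norm_num) (by norm_num))]

/-- `q ≥ 7` -/
theorem cover_split [Fintype F] (h7 : 7 ≤ Fintype.card F) :
    ∃ x ∈ chevG2.group F, x ^ (Fintype.card F - 1) = 1 ∧
      ∀ g ∈ chevG2.group F, g ≠ 1 → InCC x g := by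
  classical
  obtain ⟨γ, hγ⟩ := IsCyclic.exists_generator (α := Fˣ)
  have ho : orderOf γ = Fintype.card F - 1 := by
    rw [orderOf_eq_card_of_forall_mem_zpowers hγ, Nat.card_eq_fintype_card, Fintype.card_units]
  have hne : ∀ k : ℕ, 1 ≤ k → k ≤ 5 → γ ^ k ≠ 1 := fun k h1 h2 => pow_ne_one_of_lt_orderOf (by omega) (by omega)
  have g1 := hne 1 (by norm_num) (by norm_num)
  rw [pow_one] at g1
  have g2 : γ * γ ≠ 1 := by rw [← sq]; exact hne 2 (by norm_num) (by norm_num)
  have g3 : γ ^ 2 * γ ≠ 1 := by rw [← pow_succ]; exact hne 3 (by norm_num) (by norm_num)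
  have g4 : γ ^ 3 * γ ≠ 1 := by rw [← pow_succ]; exact hne 4 (by norm_num) (by norm_num)
  have g5 : γ ^ 3 * γ ^ 2 ≠ 1 := by rw [← pow_add]; exact hne 5 (by norm_num) (by norm_num)
  refine ⟨tor γ γ, tor_mem_group γ γ, by rw [tor_pow, ← ho, pow_orderOf_eq_one, tor_one], fun g hg hne1 => ?_⟩
  obtain ⟨k, hk, v, hv, u, hu, e⟩ := exists_form_any h7 hg hne1 (γ * γ) (γ * γ)
  refine InCC.of_conj hk ?_
  rw [e, ← tor_mul]
  have hinv : ∀ z : Fˣ, z ≠ 1 → z⁻¹ ≠ 1 := fun z hz h => hz (inv_eq_one.1 h)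
  refine cover_core V_le U_le ⟨1, one_mem _, by group⟩ ⟨1, one_mem _, by group⟩
    (fun w hw => norm_mem (H_le_normalizer_V C (tor_mem γ γ)) hw) (fun w hw hcm => ?_)
    (fun w hw => norm_mem (H_le_normalizer_U C (tor_mem γ γ)) hw) (fun w hw hcm => fix_U g1 g1 g2 g3 g4 g5 hw hcm)
    hv hu
  have hu' := n0_V hw
  have hcm' : tor γ⁻¹ γ⁻¹ * ((n0 F)⁻¹ * w * n0 F) = ((n0 F)⁻¹ * w * n0 F) * tor γ⁻¹ γ⁻¹ := by
    rw [← n0_tor]
    calc (n0 F)⁻¹ * tor γ γ * n0 F * ((n0 F)⁻¹ * w * n0 F) = (n0 F)⁻¹ * (tor γ γ * w) * n0 F := by group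
      _ = _ := by rw [hcm]; group
  have := fix_U (hinv _ g1) (hinv _ g1) (by rw [← mul_inv]; exact hinv _ g2)
    (by rw [inv_pow, ← mul_inv]; exact hinv _ g3) (by rw [inv_pow, ← mul_inv]; exact hinv _ g4)
    (by rw [inv_pow, inv_pow, ← mul_inv]; exact hinv _ g5) hu' hcm'
  calc w = n0 F * ((n0 F)⁻¹ * w * n0 F) * (n0 F)⁻¹ := by group
    _ = 1 := by rw [this]; group

/-- the short-root rank-one map -/
noncomputable abbrev φa (F : Type*) [Field F] : SL(2, F) →* GL chevG2.Idx F := (node C ia (F := F)).φ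

/-- the element `n` of the root `3a + 2b` -/
noncomputable def nr (F : Type*) [Field F] : GL chevG2.Idx F := ng C 11 1

theorem nr_mem : nr F ∈ chevG2.group F :=
  mul_mem (mul_mem (xg_mem_group C _ _) (xg_mem_group C _ _)) (xg_mem_group C _ _)

theorem terms_nil : chevG2.commTerms 7 11 = [] ∧ chevG2.commTerms 4 11 = [] ∧ chevG2.commTerms 7 0 = [] ∧
    chevG2.commTerms 4 0 = [] := by decide +kernel

theorem comm_root {r s : ℕ} (hr : r = 7 ∨ r = 4) (hs : s = 11 ∨ s = 0) (t u : F) :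
    Commute (xg C r t) (xg C s u) := by
  have hrl : r < chevG2.nroots := by rcases hr with rfl | rfl <;> decide
  have hsl : s < chevG2.nroots := by rcases hs with rfl | rfl <;> decide
  have h1 : s ≠ r := by rcases hr with rfl | rfl <;> rcases hs with rfl | rfl <;> decide
  have h2 : s ≠ chevG2.neg r := by rcases hr with rfl | rfl <;> rcases hs with rfl | rfl <;> decide +kernel
  have he : chevG2.commTerms r s = [] := by
    rcases hr with rfl | rfl <;> rcases hs with rfl | rfl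
    exacts [terms_nil.1, terms_nil.2.2.1, terms_nil.2.1, terms_nil.2.2.2]
  have h := comm_formula C hrl hsl h1 h2 t u
  simp only [ChevalleyDatum.commWord, he, List.map_nil, wg, List.prod_nil] at h
  have h' : xg C s u * xg C r t = xg C r t * xg C s u := by simpa using h
  exact h'.symm

theorem phi_comm (P : SL(2, F)) {s : ℕ} (hs : s = 11 ∨ s = 0) (u : F) : Commute (φa F P) (xg C s u) := by
  have hP : φa F P ∈ Subgroup.centralizer ({xg C s u} : Set (GL chevG2.Idx F)) := by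
    have hle : (φa F).range ≤ Subgroup.centralizer ({xg C s u} : Set (GL chevG2.Idx F)) := by
      show (ChevalleySL2.phi (rels C (simple_lt C ia.isLt))).range ≤ _
      rw [ChevalleySL2.range_phi, Subgroup.closure_le]
      rintro y (⟨t, rfl⟩ | ⟨t, rfl⟩) <;> rw [SetLike.mem_coe, Subgroup.mem_centralizer_singleton_iff]
      · exact (comm_root (Or.inl simple_a) hs t u).eq
      · exact (comm_root (Or.inr (by rw [simple_a]; decide +kernel)) hs t u).eq
    exact hle ⟨P, rfl⟩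
  exact Subgroup.mem_centralizer_singleton_iff.1 hP

theorem phi_comm_nr (P : SL(2, F)) : Commute (φa F P) (nr F) := by
  have h0 : chevG2.neg 11 = 0 := by decide +kernel
  unfold nr ng
  rw [h0]
  exact ((phi_comm P (Or.inl rfl) _).mul_right (phi_comm P (Or.inr rfl) _)).mul_right (phi_comm P (Or.inl rfl) _)

theorem phi_mem (P : SL(2, F)) : φa F P ∈ chevG2.group F := range_le_group ia ⟨P, rfl⟩

theorem phi_dia' (t : Fˣ) : φa F (dia t) = tor (t ^ 2) (t⁻¹ ^ 3) := dia_a t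

theorem cc_top : ∀ i : Fin chevG2.rank, cc chevG2 11 i.val = if i.val = 0 then 1 else 2 := by decide +kernel

theorem hg_top (t : Fˣ) : hg C 11 (t : F) = tor 1 t := by
  rw [hg_eq_torus C (by decide), tor]
  congr 1
  funext i
  rw [cc_top i]
  rcases index_cases i with rfl | rfl <;> simp [par]

/-- an element of the twisted torus -/
structure Good (y : GL chevG2.Idx F) : Prop where
  form : ∃ (P : SL(2, F)) (A B : Fˣ) (m : ℕ) (A' B' : Fˣ), y = φa F P * tor A B ∧ y ^ m = tor A' B' ∧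
    B' ≠ 1 ∧ A' * B' ≠ 1 ∧ A' ^ 2 * B' ≠ 1 ∧ A' ^ 3 * B' ≠ 1 ∧ A ^ 3 * B ^ 2 ≠ 1

theorem Good.fix_uP {y : GL chevG2.Idx F} (hy : Good y) {u : GL chevG2.Idx F}
    (hu : u ∈ uP (D := chevG2) (F := F) ia.val) (h : y * u = u * y) : u = 1 := by
  obtain ⟨P, A, B, m, A', B', rfl, hm, b1, b2, b3, b4, bD⟩ := hy.form
  have hu' : u ∈ chevG2.posUnipotent F := (node C ia).Ui_le hu
  have hcm : tor A' B' * u = u * tor A' B' := by
    rw [← hm]; exact ((show Commute (φa F P * tor A B) u from h).pow_left m).eq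
  obtain ⟨t, ht, hz⟩ := fixed_coeff A' B' hu' hcm
  have z : ∀ r, 6 ≤ r → r < 11 → r ≠ 7 → t r = 0 := by
    intro r a b c
    refine hz r a (by omega) ?_
    rw [tchar_pos A' B' r a (by omega)]
    interval_cases r <;> first | (exact absurd rfl c) | simpa
  rw [z 6 (by norm_num) (by norm_num) (by norm_num), z 8 (by norm_num) (by norm_num) (by norm_num),
    z 9 (by norm_num) (by norm_num) (by norm_num), z 10 (by norm_num) (by norm_num) (by norm_num),
    xg_zero, xg_zero, xg_zero, xg_zero, one_mul, mul_one, mul_one, mul_one] at ht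
  have hp : ∀ r : Fin 12, chevG2.IsPosRoot r.val → r.val ≠ 7 → (chevG2.coroot.getD r.val #[]).getD 1 0 ≠ 0 := by
    decide +kernel
  have hrad : uP (D := chevG2) (F := F) ia.val ≤ chevG2.unipotentRadical F {0} := by
    refine (Subgroup.closure_le _).2 ?_
    rintro g ⟨s, c, hs, hne, hg⟩
    refine Subgroup.subset_closure ⟨s, c, hs, fun hin => ?_, hg⟩
    exact hp ⟨s, hs.1⟩ hs (fun e => hne (by rw [simple_a]; exact e)) (hin.2 1 (by decide) (by simp))
  have h11 : xg C 11 (t 11) ∈ uP (D := chevG2) (F := F) ia.val :=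
    Subgroup.subset_closure ⟨11, t 11, (isPos C).2 ⟨by decide, by decide⟩, by rw [simple_a]; decide, rfl⟩
  have h7m : xg C 7 (t 7) ∈ chevG2.unipotentRadical F {0} := by
    have : xg C 7 (t 7) = u * (xg C 11 (t 11))⁻¹ := by rw [ht]; group
    rw [this]; exact hrad (mul_mem hu (inv_mem h11))
  have h7l : xg C 7 (t 7) ∈ chevG2.leviSubgroup F {0} := by
    refine Subgroup.mem_sup_right (Subgroup.subset_closure ⟨7, t 7, ?_, rfl⟩)
    have := ChevalleyParabolic.inRootSub_simple C (J := ({0} : Set ℕ)) (j := 0) (by simp) (by decide)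
    rwa [simple_a] at this
  have h7 : xg C 7 (t 7) = 1 := by
    have := Subgroup.mem_inf.2 ⟨h7m, h7l⟩
    rwa [ChevalleyParabolic.radical_inf_levi C, Subgroup.mem_bot] at this
  rw [h7, one_mul] at ht
  subst ht
  have e1 : φa F P * tor A B * xg C 11 (t 11) * (φa F P * tor A B)⁻¹ =
      xg C 11 ((tchar chevG2 (par A B) 11 : F) * t 11) := by
    rw [← torus_conj_xg C (by decide) (par A B) (t 11)]
    show _ = tor A B * _ * (tor A B)⁻¹
    calc φa F P * tor A B * xg C 11 (t 11) * (φa F P * tor A B)⁻¹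
        = φa F P * (tor A B * xg C 11 (t 11) * (tor A B)⁻¹) * (φa F P)⁻¹ := by group
      _ = _ := by
        rw [tor, torus_conj_xg C (by decide) (par A B) (t 11), (phi_comm P (Or.inl rfl) _).eq, mul_inv_cancel_right]
  rw [h, mul_inv_cancel_right, tchar_pos A B 11 (by norm_num) (by norm_num)] at e1
  by_contra hne
  have hne' : t 11 ≠ 0 := fun h0 => hne (by rw [h0, xg_zero])
  have h2 := (ChevBruhatInstance.xg_injective C (by decide) (by decide) hne' e1).2
  exact bD (Units.ext (mul_right_cancel₀ hne' ((one_mul _).trans h2).symm))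

theorem Good.norm_uP {y : GL chevG2.Idx F} (hy : Good y) {u : GL chevG2.Idx F}
    (hu : u ∈ uP (D := chevG2) (F := F) ia.val) : y * u * y⁻¹ ∈ uP (D := chevG2) (F := F) ia.val := by
  obtain ⟨P, A, B, _, _, _, rfl, -⟩ := hy.form
  have h1 : tor A B * u * (tor A B)⁻¹ ∈ uP (D := chevG2) (F := F) ia.val := by
    have hH := ChevalleyTorus.H_le_normalizer C (fun s => chevG2.IsPosRoot s ∧ s ≠ chevG2.simple ia.val) (tor_mem A B)
    simp only [and_assoc] at hH
    exact norm_mem hH hu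
  have h2 : φa F P * tor A B * u * (φa F P * tor A B)⁻¹ = φa F P * (tor A B * u * (tor A B)⁻¹) * (φa F P)⁻¹ := by
    group
  rw [h2]
  exact (node C ia).normU P _ h1

theorem Good.norm_vP {y : GL chevG2.Idx F} (hy : Good y) {u : GL chevG2.Idx F}
    (hu : u ∈ vP (D := chevG2) (F := F) ia.val) : y * u * y⁻¹ ∈ vP (D := chevG2) (F := F) ia.val := by
  obtain ⟨P, A, B, _, _, _, rfl, -⟩ := hy.form
  have h1 : tor A B * u * (tor A B)⁻¹ ∈ vP (D := chevG2) (F := F) ia.val := by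
    have hH := ChevalleyTorus.H_le_normalizer C
      (fun s => chevG2.IsNegRoot s ∧ s ≠ chevG2.neg (chevG2.simple ia.val)) (tor_mem A B)
    simp only [and_assoc] at hH
    exact norm_mem hH hu
  have h2 : φa F P * tor A B * u * (φa F P * tor A B)⁻¹ = φa F P * (tor A B * u * (tor A B)⁻¹) * (φa F P)⁻¹ := by
    group
  rw [h2]
  exact (node C ia).normV P _ h1

theorem n0_range {k : GL chevG2.Idx F} (hk : k ∈ (φa F).range) : (n0 F)⁻¹ * k * n0 F ∈ (φa F).range := by
  have h7 : ∀ t : F, xg C 7 t ∈ (φa F).range := fun t => ⟨up t, by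
    show ChevalleySL2.phi (rels C (simple_lt C ia.isLt)) (up t) = _
    rw [phi_up C (simple_lt C ia.isLt), simple_a]⟩
  have h4 : ∀ t : F, xg C 4 t ∈ (φa F).range := fun t => ⟨lo t, by
    show ChevalleySL2.phi (rels C (simple_lt C ia.isLt)) (lo t) = _
    rw [phi_lo C (simple_lt C ia.isLt), simple_a, show chevG2.neg 7 = 4 by decide +kernel]⟩
  have hle : (φa F).range = Subgroup.closure
      (Set.range (fun t : F => xg C (chevG2.simple 0) t) ∪
        Set.range fun t : F => xg C (chevG2.neg (chevG2.simple 0)) t) :=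
    ChevalleySL2.range_phi (rels C (simple_lt C ia.isLt))
  rw [hle] at hk
  induction hk using Subgroup.closure_induction with
  | mem x hx =>
    rcases hx with ⟨t, rfl⟩ | ⟨t, rfl⟩
    · obtain ⟨e, _, h⟩ := n0_conj (F := F) (r := 7) (by norm_num)
      simp only [simple_a, h, show chevG2.neg 7 = 4 by decide +kernel]
      exact h4 _
    · obtain ⟨e, _, h⟩ := n0_conj (F := F) (r := 4) (by norm_num)
      simp only [simple_a, show chevG2.neg 7 = 4 by decide +kernel, h, show chevG2.neg 4 = 7 by decide +kernel]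
      exact h7 _
  | one => simp
  | mul a b _ _ ha hb =>
    have := mul_mem ha hb
    simpa [mul_assoc] using this
  | inv a _ ha =>
    have := inv_mem ha
    simpa [mul_assoc] using this

theorem Good.n0 {y : GL chevG2.Idx F} (hy : Good y) : Good ((n0 F)⁻¹ * y * n0 F) := by
  obtain ⟨P, A, B, m, A', B', rfl, hm, b1, b2, b3, b4, bD⟩ := hy.form
  obtain ⟨P', hP'⟩ := n0_range (F := F) ⟨P, rfl⟩
  have hinv : ∀ z : Fˣ, z ≠ 1 → z⁻¹ ≠ 1 := fun z hz h => hz (inv_eq_one.1 h)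
  refine ⟨P', A⁻¹, B⁻¹, m, A'⁻¹, B'⁻¹, ?_, ?_, hinv _ b1, ?_, ?_, ?_, ?_⟩
  · rw [hP', ← n0_tor]; group
  · rw [← n0_tor, ← hm]
    have := map_pow (MulAut.conj ((ChevG2Gauss77.n0 F)⁻¹)) (φa F P * tor A B) m
    simp only [MulAut.conj_apply, inv_inv] at this
    exact this.symm
  · rw [← mul_inv]; exact hinv _ b2
  · rw [inv_pow, ← mul_inv]; exact hinv _ b3
  · rw [inv_pow, ← mul_inv]; exact hinv _ b4
  · rw [inv_pow, inv_pow, ← mul_inv]; exact hinv _ bD

theorem Good.fix_vP {y : GL chevG2.Idx F} (hy : Good y) {v : GL chevG2.Idx F}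
    (hv : v ∈ vP (D := chevG2) (F := F) ia.val) (h : y * v = v * y) : v = 1 := by
  have hu := n0_vP hv
  have hc : (ChevG2Gauss77.n0 F)⁻¹ * y * ChevG2Gauss77.n0 F * ((ChevG2Gauss77.n0 F)⁻¹ * v * ChevG2Gauss77.n0 F) =
      (ChevG2Gauss77.n0 F)⁻¹ * v * ChevG2Gauss77.n0 F * ((ChevG2Gauss77.n0 F)⁻¹ * y * ChevG2Gauss77.n0 F) := by
    calc _ = (ChevG2Gauss77.n0 F)⁻¹ * (y * v) * ChevG2Gauss77.n0 F := by group
      _ = _ := by rw [h]; group
  have := hy.n0.fix_uP hu hc
  calc v = ChevG2Gauss77.n0 F * ((ChevG2Gauss77.n0 F)⁻¹ * v * ChevG2Gauss77.n0 F) * (ChevG2Gauss77.n0 F)⁻¹ := by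
        group
    _ = 1 := by rw [this]; group

theorem cover_ell [Finite F] {x y1 y2 v u : GL chevG2.Idx F} (g1 : Good y1) (g2 : Good y2) (h1 : Conj x y1)
    (h2 : Conj x y2) (hv : v ∈ vP (D := chevG2) (F := F) ia.val) (hu : u ∈ uP (D := chevG2) (F := F) ia.val) :
    InCC x (v * (y1 * y2) * u) :=
  cover_core (le_trans (node C ia).Vi_le V_le) (le_trans (node C ia).Ui_le U_le) h1 h2
    (fun _ hw => g1.norm_vP hw) (fun _ hw => g1.fix_vP hw) (fun _ hw => g2.norm_uP hw) (fun _ hw => g2.fix_uP hw)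
    hv hu

/-- when the diagonal value at `3a + 2b` can be made trivial, the middle lies in the rank-one image -/
theorem exists_middle [Fintype F] (hF : ∀ B : Fˣ, ∃ s : Fˣ, s ^ 3 ≠ B) {g : GL chevG2.Idx F}
    (hg : g ∈ chevG2.group F) (hne : g ≠ 1) :
    ∃ k ∈ chevG2.group F, ∃ P : SL(2, F), ∃ v ∈ vP (D := chevG2) (F := F) ia.val,
      ∃ u ∈ uP (D := chevG2) (F := F) ia.val, k * g * k⁻¹ = v * φa F P * u := by
  have main : ∀ {A B : Fˣ}, FormN ib g A B → Form g (A * (A ^ 3 * B ^ 2)) ((A ^ 3 * B ^ 2)⁻¹ ^ 2 * B) := by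
    intro A B h
    have := step_b h (A ^ 3 * B ^ 2)⁻¹
    rwa [inv_inv, mul_comm (A ^ 3 * B ^ 2) A] at this
  have hform : ∃ A B : Fˣ, A ^ 3 * B ^ 2 = 1 ∧ Form g A B := by
    obtain ⟨A, B, h | h⟩ := start hg hne
    · obtain ⟨s, hs⟩ := hF B
      have h' := (step_a h s).nondeg_b (by
        intro hb; apply hs; rw [inv_pow, inv_mul_eq_one] at hb; exact hb)
      refine ⟨_, _, ?_, main h'⟩
      apply Units.ext; simp [Units.val_inv_eq_inv_val]; field_simp
    · refine ⟨_, _, ?_, main h⟩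
      apply Units.ext; simp [Units.val_inv_eq_inv_val]; field_simp
  obtain ⟨A, B, hD, k, hk, v, hv, u, hu, e⟩ := hform
  obtain ⟨c, d, v', hv', u', hu', eq, -⟩ := (node C ia).middle hv (tor_mem A B) hu
  have hA : (A : F) ^ 3 * (B : F) ^ 2 = 1 := by simpa using congrArg Units.val hD
  have htor : tor A B = φa F (dia (A ^ 2 * B)) := by
    rw [phi_dia']
    congr 1 <;> apply Units.ext <;> simp [Units.val_inv_eq_inv_val]
    · linear_combination (-(A : F)) * hA
    · field_simp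
      linear_combination ((A : F) ^ 3 * (B : F) ^ 2 + 1) * hA
  refine ⟨k, hk, lo c * dconj ((node C ia).α (tor A B)) (up d) * dia (A ^ 2 * B), v', hv', u', hu', ?_⟩
  rw [e, eq]
  conv_rhs => rw [map_mul, ← htor]

end Cfsg.Agent.ChevG2Cover77
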