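import Cfsg.Agent.Lib.ChevG2Four77

/-!
`G₂(4)`: the covering by the square of the class of an element of order fifteen in the long-root Levi subgroup.
-/

set_option autoImplicit false
set_option linter.unusedSectionVars false
set_option maxRecDepth 100000

namespace Cfsg.Agent.ChevG2CoverFour77

open Cfsg.Lie Cfsg.Agent.ChevalleyEngine Cfsg.Agent.ChevalleyCert Cfsg.Agent.ChevalleyRoots
  Cfsg.Agent.ChevalleyCore Cfsg.Agent.ChevalleyTorus Cfsg.Agent.ChevalleyUnipotent Cfsg.Agent.ChevalleyRankOne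
  Cfsg.Agent.GaussPrescribed77 Cfsg.Agent.ChevGauss77 Cfsg.Agent.ChevG2Gauss77 Cfsg.Agent.ChevG2Cover77
  Cfsg.Agent.ChevG2Four77
open scoped MatrixGroups

variable {F : Type*} [Field F] [Fintype F]

/-- the long-root rank-one map -/
noncomputable abbrev φb (F : Type*) [Field F] : SL(2, F) →* GL chevG2.Idx F := (node C ib (F := F)).φ

theorem phi_b_up (s : F) : φb F (up s) = xg C 6 s := by
  show ChevalleySL2.phi (rels C (simple_lt C ib.isLt)) (up s) = _
  rw [phi_up C (simple_lt C ib.isLt), simple_b]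

theorem phi_b_lo (s : F) : φb F (lo s) = xg C 5 s := by
  show ChevalleySL2.phi (rels C (simple_lt C ib.isLt)) (lo s) = _
  rw [phi_lo C (simple_lt C ib.isLt), simple_b, show chevG2.neg 6 = 5 by decide +kernel]

theorem phi_b_mem (P : SL(2, F)) : φb F P ∈ chevG2.group F := range_le_group ib ⟨P, rfl⟩

theorem tor_comm (A : Fˣ) (P : SL(2, F)) : Commute (tor A 1) (φb F P) := by
  have h := (node C ib (F := F)).H_conj _ (tor_mem A 1) P
  rw [show (node C ib (F := F)).α (tor A 1) = 1 from rootVal_b A 1] at h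
  have e : dconj (1 : Fˣ) P = P := by
    ext i j
    fin_cases i <;> fin_cases j <;> simp
  rw [e, mul_inv_eq_iff_eq_mul] at h
  exact h

/-- the two top root groups -/
noncomputable def X2 (a b : F) : GL chevG2.Idx F := xg C 10 a * xg C 11 b

theorem terms_top : chevG2.commTerms 10 11 = [] ∧ chevG2.commTerms 6 11 = [] ∧ chevG2.commTerms 5 10 = [] ∧
    (chevG2.commTerms 6 10).map (fun c => (c.1, c.2.2)) = [(11, 1, 1)] ∧
    (chevG2.commTerms 5 11).map (fun c => (c.1, c.2.2)) = [(10, 1, 1)] ∧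
    (chevG2.commTerms 6 10).map (fun c => (c.2.1 : ZMod 2)) = [1] ∧
    (chevG2.commTerms 5 11).map (fun c => (c.2.1 : ZMod 2)) = [1] := by decide +kernel

theorem comm_nil {r s : ℕ} (hr : r < 12) (hs : s < 12) (h1 : s ≠ r) (h2 : s ≠ chevG2.neg r)
    (he : chevG2.commTerms r s = []) (t u : F) : Commute (xg C r t) (xg C s u) := by
  have h := comm_formula C hr hs h1 h2 t u
  simp only [ChevalleyDatum.commWord, he, List.map_nil, wg, List.prod_nil] at h
  have h' : xg C s u * xg C r t = xg C r t * xg C s u := by simpa using h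
  exact h'.symm

theorem comm_one {r s w : ℕ} (hF : Fintype.card F = 4) (hr : r < 12) (hs : s < 12) (h1 : s ≠ r)
    (h2 : s ≠ chevG2.neg r) (he : (chevG2.commTerms r s).map (fun c => (c.1, c.2.2)) = [(w, 1, 1)])
    (hp : (chevG2.commTerms r s).map (fun c => (c.2.1 : ZMod 2)) = [1]) (t u : F) :
    xg C r t * xg C s u * (xg C r t)⁻¹ = xg C s u * xg C w (t * u) := by
  have h := comm_formula C hr hs h1 h2 (-t) u
  have e : xg C r t * xg C s u * (xg C r t)⁻¹ = xg C s u * wg C (chevG2.commWord F r s (-t) u) := by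
    rw [xg_inv, mul_assoc, h, ← mul_assoc, ← mul_assoc, xg_mul, add_neg_cancel, xg_zero, one_mul]
  rw [e]
  obtain ⟨⟨a1, z1, i1, j1⟩, L1, eL⟩ := List.exists_cons_of_length_pos (l := chevG2.commTerms r s) (by
    have := congrArg List.length he
    simp at this; omega)
  rw [eL] at he hp
  simp at he hp
  obtain ⟨⟨rfl, rfl, rfl⟩, rfl⟩ := he
  simp [ChevalleyDatum.commWord, eL, wg, cast_parity hF z1, hp]

theorem X2_mul (a b a' b' : F) : X2 a b * X2 a' b' = X2 (a + a') (b + b') := by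
  have hc := comm_nil (r := 10) (s := 11) (by norm_num) (by norm_num) (by norm_num) (by decide +kernel)
    terms_top.1 a' b
  calc xg C 10 a * xg C 11 b * (xg C 10 a' * xg C 11 b')
      = xg C 10 a * (xg C 11 b * xg C 10 a') * xg C 11 b' := by group
    _ = xg C 10 a * xg C 10 a' * (xg C 11 b * xg C 11 b') := by rw [← hc.eq]; group
    _ = _ := by rw [xg_mul, xg_mul]; rfl

theorem X2_zero : X2 (0 : F) 0 = (1 : GL chevG2.Idx F) := by simp [X2]

theorem X2_act (hF : Fintype.card F = 4) (P : SL(2, F)) (a b : F) :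
    φb F P * X2 a b * (φb F P)⁻¹ = X2 (P 1 1 * a + P 1 0 * b) (P 0 1 * a + P 0 0 * b) := by
  let Act : SL(2, F) → Prop := fun P => ∀ a b : F,
    φb F P * X2 a b * (φb F P)⁻¹ = X2 (P 1 1 * a + P 1 0 * b) (P 0 1 * a + P 0 0 * b)
  have hmul : ∀ P Q, Act P → Act Q → Act (P * Q) := by
    intro P Q hP hQ a b
    rw [map_mul, show φb F P * φb F Q * X2 a b * (φb F P * φb F Q)⁻¹ =
      φb F P * (φb F Q * X2 a b * (φb F Q)⁻¹) * (φb F P)⁻¹ by group, hQ a b, hP]
    congr 1 <;> simp [Matrix.mul_apply, Fin.sum_univ_two] <;> ring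
  have hup : ∀ s : F, Act (up s) := by
    intro s a b
    rw [phi_b_up, X2, show xg C 6 s * (xg C 10 a * xg C 11 b) * (xg C 6 s)⁻¹ =
        (xg C 6 s * xg C 10 a * (xg C 6 s)⁻¹) * (xg C 6 s * xg C 11 b * (xg C 6 s)⁻¹) by group,
      comm_one hF (by norm_num) (by norm_num) (by norm_num) (by decide +kernel) terms_top.2.2.2.1
        terms_top.2.2.2.2.2.1,
      (comm_nil (r := 6) (s := 11) (by norm_num) (by norm_num) (by norm_num) (by decide +kernel) terms_top.2.1 s b).eq,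
      mul_inv_cancel_right, mul_assoc, xg_mul, X2]
    simp
  have hlo : ∀ s : F, Act (lo s) := by
    intro s a b
    rw [phi_b_lo, X2, show xg C 5 s * (xg C 10 a * xg C 11 b) * (xg C 5 s)⁻¹ =
        (xg C 5 s * xg C 10 a * (xg C 5 s)⁻¹) * (xg C 5 s * xg C 11 b * (xg C 5 s)⁻¹) by group,
      comm_one hF (r := 5) (s := 11) (by norm_num) (by norm_num) (by norm_num) (by decide +kernel)
        terms_top.2.2.2.2.1 terms_top.2.2.2.2.2.2,
      (comm_nil (r := 5) (s := 10) (by norm_num) (by norm_num) (by norm_num) (by decide +kernel) terms_top.2.2.1 s a).eq,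
      mul_inv_cancel_right]
    have hc := comm_nil (r := 10) (s := 11) (by norm_num) (by norm_num) (by norm_num) (by decide +kernel)
      terms_top.1 (s * b) b
    rw [← hc.eq, ← mul_assoc, xg_mul]
    simp [X2]
  have hdia : ∀ t : Fˣ, Act (dia t) := by
    intro t a b
    rw [show φb F (dia t) = tor t⁻¹ (t ^ 2) from dia_b t, X2,
      show tor t⁻¹ (t ^ 2) * (xg C 10 a * xg C 11 b) * (tor t⁻¹ (t ^ 2))⁻¹ =
        (tor t⁻¹ (t ^ 2) * xg C 10 a * (tor t⁻¹ (t ^ 2))⁻¹) *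
          (tor t⁻¹ (t ^ 2) * xg C 11 b * (tor t⁻¹ (t ^ 2))⁻¹) by group,
      tor, torus_conj_xg C (by decide), torus_conj_xg C (by decide), tchar_pos _ _ 10 (by norm_num) (by norm_num),
      tchar_pos _ _ 11 (by norm_num) (by norm_num)]
    have hne : (t : F) ≠ 0 := t.ne_zero
    simp [X2]
    congr 2 <;> field_simp
  obtain ⟨p, q, t, r, rfl⟩ := uldu P
  exact hmul _ _ (hmul _ _ (hmul _ _ (hup p) (hlo q)) (hdia t)) (hup r) a b

/-- an element of order fifteen of the long-root Levi subgroup -/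
def Good4 (y : GL chevG2.Idx F) : Prop :=
  ∃ (P : SL(2, F)) (A : Fˣ), y = φb F P * tor A 1 ∧ A ≠ 1 ∧ P 0 0 + P 1 1 ≠ 0 ∧ P ^ 5 = 1

theorem Good4.fix_uP (hF : Fintype.card F = 4) {y : GL chevG2.Idx F} (hy : Good4 y) {u : GL chevG2.Idx F}
    (hu : u ∈ uP (D := chevG2) (F := F) ib.val) (h : y * u = u * y) : u = 1 := by
  obtain ⟨P, A, rfl, hA, htr, h5⟩ := hy
  have hu' : u ∈ chevG2.posUnipotent F := (node C ib).Ui_le hu
  have hpow : (φb F P * tor A 1) ^ 5 = tor (A ^ 2) 1 := by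
    rw [(tor_comm A P).symm.mul_pow, ← map_pow, h5, map_one, one_mul, tor_pow, one_pow,
      show (5 : ℕ) = 3 + 2 by norm_num, pow_add, pow_three hF, one_mul]
  have hcm : tor (A ^ 2) 1 * u = u * tor (A ^ 2) 1 := by
    rw [← hpow]; exact ((show Commute (φb F P * tor A 1) u from h).pow_left 5).eq
  obtain ⟨t, ht, hz⟩ := fixed_coeff (A ^ 2) 1 hu' hcm
  have hA2 : A ^ 2 ≠ 1 := fun h2 => hA (by
    have h3 := pow_three hF A
    rw [pow_succ, h2, one_mul] at h3
    exact h3)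
  have hA4 : (A ^ 2) ^ 2 ≠ 1 := by
    rw [← pow_mul, show 2 * 2 = 3 + 1 by norm_num, pow_succ, pow_three hF, one_mul]; exact hA
  have z : ∀ r, 7 ≤ r → r < 10 → t r = 0 := by
    intro r a b
    refine hz r (by omega) (by omega) ?_
    rw [tchar_pos _ _ r (by omega) (by omega)]
    interval_cases r <;> simpa
  rw [z 7 le_rfl (by norm_num), z 8 (by norm_num) (by norm_num), z 9 (by norm_num) (by norm_num),
    xg_zero, xg_zero, xg_zero, mul_one, mul_one, mul_one, mul_assoc] at ht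
  have hp : ∀ r : Fin 12, chevG2.IsPosRoot r.val → r.val ≠ 6 → (chevG2.coroot.getD r.val #[]).getD 0 0 ≠ 0 := by
    decide +kernel
  have hrad : uP (D := chevG2) (F := F) ib.val ≤ chevG2.unipotentRadical F {1} := by
    refine (Subgroup.closure_le _).2 ?_
    rintro g ⟨s, c, hs, hne, hg⟩
    refine Subgroup.subset_closure ⟨s, c, hs, fun hin => ?_, hg⟩
    exact hp ⟨s, hs.1⟩ hs (fun e => hne (by rw [simple_b]; exact e)) (hin.2 0 (by decide) (by simp))
  have h10 : X2 (t 10) (t 11) ∈ uP (D := chevG2) (F := F) ib.val :=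
    mul_mem (Subgroup.subset_closure ⟨10, t 10, (isPos C).2 ⟨by decide, by decide⟩, by rw [simple_b]; decide, rfl⟩)
      (Subgroup.subset_closure ⟨11, t 11, (isPos C).2 ⟨by decide, by decide⟩, by rw [simple_b]; decide, rfl⟩)
  have h6m : xg C 6 (t 6) ∈ chevG2.unipotentRadical F {1} := by
    have : xg C 6 (t 6) = u * (X2 (t 10) (t 11))⁻¹ := by rw [ht, X2]; group
    rw [this]; exact hrad (mul_mem hu (inv_mem h10))
  have h6l : xg C 6 (t 6) ∈ chevG2.leviSubgroup F {1} := by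
    refine Subgroup.mem_sup_right (Subgroup.subset_closure ⟨6, t 6, ?_, rfl⟩)
    have := ChevalleyParabolic.inRootSub_simple C (J := ({1} : Set ℕ)) (j := 1) (by simp) (by decide)
    rwa [simple_b] at this
  have h6 : xg C 6 (t 6) = 1 := by
    have := Subgroup.mem_inf.2 ⟨h6m, h6l⟩
    rwa [ChevalleyParabolic.radical_inf_levi C, Subgroup.mem_bot] at this
  rw [h6, one_mul] at ht
  subst ht
  have e1 : φb F P * tor A 1 * X2 (t 10) (t 11) * (φb F P * tor A 1)⁻¹ =
      X2 (P 1 1 * t 10 + P 1 0 * t 11) (P 0 1 * t 10 + P 0 0 * t 11) := by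
    rw [← X2_act hF, show φb F P * tor A 1 * X2 (t 10) (t 11) * (φb F P * tor A 1)⁻¹ =
      φb F P * (tor A 1 * X2 (t 10) (t 11) * (tor A 1)⁻¹) * (φb F P)⁻¹ by group]
    congr 2
    rw [X2, show tor A 1 * (xg C 10 (t 10) * xg C 11 (t 11)) * (tor A 1)⁻¹ =
        (tor A 1 * xg C 10 (t 10) * (tor A 1)⁻¹) * (tor A 1 * xg C 11 (t 11) * (tor A 1)⁻¹) by group,
      tor, torus_conj_xg C (by decide), torus_conj_xg C (by decide), tchar_pos _ _ 10 (by norm_num) (by norm_num),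
      tchar_pos _ _ 11 (by norm_num) (by norm_num)]
    have h3 := congrArg Units.val (pow_three hF A)
    simp at h3
    simp [h3]
  have hne : chevG2.nroots = 12 := by decide
  have h' : φb F P * tor A 1 * X2 (t 10) (t 11) = X2 (t 10) (t 11) * (φb F P * tor A 1) := h
  rw [h', mul_inv_cancel_right] at e1
  obtain ⟨a, ha⟩ : ∃ a, a = t 10 := ⟨_, rfl⟩
  obtain ⟨b, hb⟩ : ∃ b, b = t 11 := ⟨_, rfl⟩
  rw [← ha, ← hb] at e1
  have e2 : X2 ((P 1 1 + 1) * a + P 1 0 * b) (P 0 1 * a + (P 0 0 + 1) * b) = (1 : GL chevG2.Idx F) := by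
    have h2 := two_eq_zero hF
    have e3 := X2_mul a b a b
    nth_rw 2 [e1] at e3
    rw [X2_mul] at e3
    rw [show a + a = (0 : F) by linear_combination a * h2, show b + b = (0 : F) by linear_combination b * h2,
      X2_zero] at e3
    rw [← e3]
    congr 1 <;> ring
  obtain ⟨c1, hc1⟩ : ∃ c, c = (P 1 1 + 1) * a + P 1 0 * b := ⟨_, rfl⟩
  obtain ⟨c2, hc2⟩ : ∃ c, c = P 0 1 * a + (P 0 0 + 1) * b := ⟨_, rfl⟩
  rw [← hc1, ← hc2, X2] at e2
  have hz1 : c1 = 0 ∧ c2 = 0 := by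
    by_cases h1 : c1 = 0
    · refine ⟨h1, ?_⟩
      by_contra h2
      rw [h1, xg_zero, one_mul] at e2
      exact h2 (ChevBruhatInstance.xg_injective C (r := 11) (r' := 11) (by decide) (by decide) h2
        (e2.trans (xg_zero C 11).symm)).2
    · exfalso
      have e4 : xg C 10 c1 = xg C 11 (-c2) := by rw [← xg_inv]; exact eq_inv_of_mul_eq_one_left e2
      exact absurd (ChevBruhatInstance.xg_injective C (by decide) (by decide) h1 e4).1 (by norm_num)
  have hd := P.2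
  rw [Matrix.det_fin_two] at hd
  have h2 := two_eq_zero hF
  have ka : (P 0 0 + P 1 1) * a = 0 := by
    linear_combination (P 0 0 + 1) * (hc1.symm.trans hz1.1) - P 1 0 * (hc2.symm.trans hz1.2) - a * hd - a * h2
  have kb : (P 0 0 + P 1 1) * b = 0 := by
    linear_combination (P 1 1 + 1) * (hc2.symm.trans hz1.2) - P 0 1 * (hc1.symm.trans hz1.1) - b * hd - b * h2
  rw [← ha, ← hb, (mul_eq_zero.1 ka).resolve_left htr, (mul_eq_zero.1 kb).resolve_left htr]
  exact X2_zero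

theorem Good4.norm_uP {y : GL chevG2.Idx F} (hy : Good4 y) {u : GL chevG2.Idx F}
    (hu : u ∈ uP (D := chevG2) (F := F) ib.val) : y * u * y⁻¹ ∈ uP (D := chevG2) (F := F) ib.val := by
  obtain ⟨P, A, rfl, -⟩ := hy
  have h1 : tor A 1 * u * (tor A 1)⁻¹ ∈ uP (D := chevG2) (F := F) ib.val := by
    have hH := ChevalleyTorus.H_le_normalizer C (fun s => chevG2.IsPosRoot s ∧ s ≠ chevG2.simple ib.val) (tor_mem A 1)
    simp only [and_assoc] at hH
    exact norm_mem hH hu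
  rw [show φb F P * tor A 1 * u * (φb F P * tor A 1)⁻¹ = φb F P * (tor A 1 * u * (tor A 1)⁻¹) * (φb F P)⁻¹ by group]
  exact (node C ib).normU P _ h1

theorem Good4.norm_vP {y : GL chevG2.Idx F} (hy : Good4 y) {u : GL chevG2.Idx F}
    (hu : u ∈ vP (D := chevG2) (F := F) ib.val) : y * u * y⁻¹ ∈ vP (D := chevG2) (F := F) ib.val := by
  obtain ⟨P, A, rfl, -⟩ := hy
  have h1 : tor A 1 * u * (tor A 1)⁻¹ ∈ vP (D := chevG2) (F := F) ib.val := by
    have hH := ChevalleyTorus.H_le_normalizer C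
      (fun s => chevG2.IsNegRoot s ∧ s ≠ chevG2.neg (chevG2.simple ib.val)) (tor_mem A 1)
    simp only [and_assoc] at hH
    exact norm_mem hH hu
  rw [show φb F P * tor A 1 * u * (φb F P * tor A 1)⁻¹ = φb F P * (tor A 1 * u * (tor A 1)⁻¹) * (φb F P)⁻¹ by group]
  exact (node C ib).normV P _ h1

theorem n0_phi (hF : Fintype.card F = 4) (P : SL(2, F)) :
    (n0 F)⁻¹ * φb F P * n0 F = φb F (welm * P * welm⁻¹) := by
  have he : ∀ e : F, e * e = 1 → e = 1 := fun e h => by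
    have h' : (e + 1) * (e + 1) = 0 := by linear_combination h + (e + 1) * two_eq_zero hF
    linear_combination (mul_self_eq_zero.1 h') - two_eq_zero hF
  have hw : ((welm : SL(2, F)) : Matrix (Fin 2) (Fin 2) F) = !![0, 1; -1, 0] := rfl
  have hup : ∀ a : F, (n0 F)⁻¹ * φb F (up a) * n0 F = φb F (welm * up a * welm⁻¹) := fun a => by
    obtain ⟨e, h1, h2⟩ := n0_conj (F := F) (r := 6) (by norm_num)
    have e1 : welm * up a * welm⁻¹ = lo a := by
      rw [mul_inv_eq_iff_eq_mul]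
      ext i j
      fin_cases i <;> fin_cases j <;> simp [hw, Matrix.mul_apply, Fin.sum_univ_two, neg_eq hF]
    rw [phi_b_up, h2, he e h1, one_mul, e1, phi_b_lo, show chevG2.neg 6 = 5 by decide +kernel]
  have hlo : ∀ a : F, (n0 F)⁻¹ * φb F (lo a) * n0 F = φb F (welm * lo a * welm⁻¹) := fun a => by
    obtain ⟨e, h1, h2⟩ := n0_conj (F := F) (r := 5) (by norm_num)
    have e1 : welm * lo a * welm⁻¹ = up a := by
      rw [mul_inv_eq_iff_eq_mul]
      ext i j
      fin_cases i <;> fin_cases j <;> simp [hw, Matrix.mul_apply, Fin.sum_univ_two, neg_eq hF]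
    rw [phi_b_lo, h2, he e h1, one_mul, e1, phi_b_up, show chevG2.neg 5 = 6 by decide +kernel]
  have hdia : ∀ t : Fˣ, (n0 F)⁻¹ * φb F (dia t) * n0 F = φb F (welm * dia t * welm⁻¹) := fun t => by
    have e1 : welm * dia t * welm⁻¹ = dia t⁻¹ := by
      rw [mul_inv_eq_iff_eq_mul]
      ext i j
      fin_cases i <;> fin_cases j <;> simp [hw, Matrix.mul_apply, Fin.sum_univ_two]
    rw [show φb F (dia t) = tor t⁻¹ (t ^ 2) from dia_b t, n0_tor, e1,
      show φb F (dia t⁻¹) = tor t⁻¹⁻¹ (t⁻¹ ^ 2) from dia_b t⁻¹, inv_pow]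
  obtain ⟨p, q, t, r, rfl⟩ := uldu P
  calc (n0 F)⁻¹ * φb F (up p * lo q * dia t * up r) * n0 F
      = ((n0 F)⁻¹ * φb F (up p) * n0 F) * ((n0 F)⁻¹ * φb F (lo q) * n0 F) *
          ((n0 F)⁻¹ * φb F (dia t) * n0 F) * ((n0 F)⁻¹ * φb F (up r) * n0 F) := by
        rw [map_mul, map_mul, map_mul]; group
    _ = _ := by rw [hup, hlo, hdia, hup, ← map_mul, ← map_mul, ← map_mul]; congr 1; group

theorem trace_conj (K P : SL(2, F)) : (K * P * K⁻¹) 0 0 + (K * P * K⁻¹) 1 1 = P 0 0 + P 1 1 := by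
  have hd := K.2
  rw [Matrix.det_fin_two] at hd
  simp [Matrix.mul_apply, Fin.sum_univ_two, Matrix.adjugate_fin_two]
  linear_combination (P 0 0 + P 1 1) * hd

theorem Good4.n0 (hF : Fintype.card F = 4) {y : GL chevG2.Idx F} (hy : Good4 y) :
    Good4 ((n0 F)⁻¹ * y * n0 F) := by
  obtain ⟨P, A, rfl, hA, htr, h5⟩ := hy
  refine ⟨welm * P * welm⁻¹, A⁻¹, ?_, fun h => hA (inv_eq_one.1 h), by rwa [trace_conj],
    by rw [conj_pow, h5, mul_one, mul_inv_cancel]⟩
  have ht := n0_tor A (1 : Fˣ)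
  rw [inv_one] at ht
  rw [← n0_phi hF, ← ht]
  group

theorem n0_vP_b {v : GL chevG2.Idx F} (hv : v ∈ vP (D := chevG2) (F := F) ib.val) :
    (n0 F)⁻¹ * v * n0 F ∈ uP (D := chevG2) (F := F) ib.val := by
  induction hv using Subgroup.closure_induction with
  | mem x hx =>
    obtain ⟨r, t, hr, hne, hx⟩ := hx
    obtain rfl := (xg_eq_iff C).1 hx
    obtain ⟨e, _, h⟩ := n0_conj (F := F) hr.1
    rw [h]
    refine Subgroup.subset_closure ⟨chevG2.neg r, e * t,
      (isPos C).2 ⟨(neg_pos C hr.1).2 ((isNeg C).1 hr), C.neg_lt r⟩, fun h' => hne ?_, rfl⟩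
    rw [← h', neg_neg' C hr.1]
  | one => simp
  | mul a b _ _ ha hb =>
    have := mul_mem ha hb
    simpa [mul_assoc] using this
  | inv a _ ha =>
    have := inv_mem ha
    simpa [mul_assoc] using this

theorem Good4.fix_vP (hF : Fintype.card F = 4) {y : GL chevG2.Idx F} (hy : Good4 y) {v : GL chevG2.Idx F}
    (hv : v ∈ vP (D := chevG2) (F := F) ib.val) (h : y * v = v * y) : v = 1 := by
  have hu := n0_vP_b hv
  have hc : (ChevG2Gauss77.n0 F)⁻¹ * y * ChevG2Gauss77.n0 F * ((ChevG2Gauss77.n0 F)⁻¹ * v * ChevG2Gauss77.n0 F) =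
      (ChevG2Gauss77.n0 F)⁻¹ * v * ChevG2Gauss77.n0 F * ((ChevG2Gauss77.n0 F)⁻¹ * y * ChevG2Gauss77.n0 F) := by
    calc _ = (ChevG2Gauss77.n0 F)⁻¹ * (y * v) * ChevG2Gauss77.n0 F := by group
      _ = _ := by rw [h]; group
  have := (hy.n0 hF).fix_uP hF hu hc
  calc v = ChevG2Gauss77.n0 F * ((ChevG2Gauss77.n0 F)⁻¹ * v * ChevG2Gauss77.n0 F) * (ChevG2Gauss77.n0 F)⁻¹ := by
        group
    _ = 1 := by rw [this]; group

/-- the element `n` of the root `2a + b` -/
noncomputable def n9 (F : Type*) [Field F] : GL chevG2.Idx F := ng C 9 1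

theorem n9_mem : n9 F ∈ chevG2.group F :=
  mul_mem (mul_mem (xg_mem_group C _ _) (xg_mem_group C _ _)) (xg_mem_group C _ _)

theorem terms_nine : chevG2.commTerms 6 9 = [] ∧ chevG2.commTerms 6 2 = [] ∧ chevG2.commTerms 5 9 = [] ∧
    chevG2.commTerms 5 2 = [] := by decide +kernel

theorem n9_comm (P : SL(2, F)) : Commute (φb F P) (n9 F) := by
  have h : ∀ r, r = 6 ∨ r = 5 → ∀ t : F, Commute (xg C r t) (n9 F) := by
    intro r hr t
    have h2 : chevG2.neg 9 = 2 := by decide +kernel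
    unfold n9 ng
    rw [h2]
    have hs : ∀ s, s = 9 ∨ s = 2 → ∀ u : F, Commute (xg C r t) (xg C s u) := by
      intro s hs u
      rcases hr with rfl | rfl <;> rcases hs with rfl | rfl <;>
        exact comm_nil (by norm_num) (by norm_num) (by norm_num) (by decide +kernel)
          (by first | exact terms_nine.1 | exact terms_nine.2.1 | exact terms_nine.2.2.1 | exact terms_nine.2.2.2) t u
    exact ((hs 9 (Or.inl rfl) _).mul_right (hs 2 (Or.inr rfl) _)).mul_right (hs 9 (Or.inl rfl) _)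
  obtain ⟨p, q, t, r, rfl⟩ := uldu P
  have hdia : Commute (φb F (dia t)) (n9 F) := by
    have e : φb F (dia t) = φb F (up (t : F)) * φb F (lo (-((t⁻¹ : Fˣ) : F))) * φb F (up (t : F)) *
        (φb F (up 1) * φb F (lo (-1)) * φb F (up 1))⁻¹ := by
      rw [← map_mul, ← map_mul, ← map_mul, ← map_mul, ← map_inv, ← map_mul]
      congr 1
      rw [eq_mul_inv_iff_mul_eq]
      ext i j
      fin_cases i <;> fin_cases j <;> simp [Matrix.mul_apply, Fin.sum_univ_two]
    rw [e, phi_b_up, phi_b_lo, phi_b_up, phi_b_lo]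
    exact (((h 6 (Or.inl rfl) _).mul_left (h 5 (Or.inr rfl) _)).mul_left (h 6 (Or.inl rfl) _)).mul_left
      ((((h 6 (Or.inl rfl) _).mul_left (h 5 (Or.inr rfl) _)).mul_left (h 6 (Or.inl rfl) _)).inv_left)
  rw [map_mul, map_mul, map_mul]
  refine ((Commute.mul_left ?_ ?_).mul_left hdia).mul_left ?_
  · rw [phi_b_up]; exact h 6 (Or.inl rfl) _
  · rw [phi_b_lo]; exact h 5 (Or.inr rfl) _
  · rw [phi_b_up]; exact h 6 (Or.inl rfl) _

theorem cc_nine : ∀ i : Fin chevG2.rank, cc chevG2 9 i.val = if i.val = 0 then 2 else 3 := by decide +kernel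

theorem hg_nine (t : Fˣ) : hg C 9 (t : F) = tor t 1 := by
  rw [hg_eq_torus C (by decide), tor]
  congr 1
  funext i
  rw [cc_nine i]
  rcases index_cases i with rfl | rfl
  · simp [par]; try rfl
  · simp [par]; try rfl

theorem n9_torus (t : Fˣ) : n9 F * tor t 1 * (n9 F)⁻¹ = tor t⁻¹ 1 := by
  have hr : 9 < chevG2.nroots := by decide
  have hn : n9 F = ChevalleySL2.phi (rels C hr) (ChevalleySL2.wel) := (ChevalleySL2.phi_wel (rels C hr)).symm
  have e : (ChevalleySL2.wel : SL(2, F)) * dia t * (ChevalleySL2.wel : SL(2, F))⁻¹ = dia t⁻¹ := by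
    rw [mul_inv_eq_iff_eq_mul]
    have hw : ((ChevalleySL2.wel : SL(2, F)) : Matrix (Fin 2) (Fin 2) F) = !![0, 1; -1, 0] := rfl
    ext i j
    fin_cases i <;> fin_cases j <;> simp [hw, Matrix.mul_apply, Fin.sum_univ_two]
  rw [hn, ← hg_nine, ← hg_nine, ← phi_dia C hr, ← phi_dia C hr, ← map_inv, ← map_mul, ← map_mul, e]

/-- companion matrix with determinant one -/
def comp (hF : Fintype.card F = 4) (τ : F) : SL(2, F) :=
  ⟨!![0, 1; 1, τ], by rw [Matrix.det_fin_two_of]; linear_combination (-1 : F) * two_eq_zero hF⟩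

theorem coe_comp (hF : Fintype.card F = 4) (τ : F) :
    ((comp hF τ : SL(2, F)) : Matrix (Fin 2) (Fin 2) F) = !![0, 1; 1, τ] := rfl

theorem to_companion (hF : Fintype.card F = 4) (P : SL(2, F)) (h : P 0 0 + P 1 1 ≠ 0) :
    ∃ K : SL(2, F), K * P * K⁻¹ = comp hF (P 0 0 + P 1 1) := by
  have h2 := two_eq_zero hF
  obtain ⟨K, hK⟩ := exists_corner (P : Matrix (Fin 2) (Fin 2) F) (fun hns => h (by
    rw [hns.2.2]; linear_combination (P 1 1) * h2)) 0
  obtain ⟨Q, hQ⟩ : ∃ Q, Q = K * P * K⁻¹ := ⟨_, rfl⟩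
  have h00 : Q 0 0 = 0 := by rw [hQ]; simpa only [Matrix.SpecialLinearGroup.coe_mul] using hK
  have htr : Q 1 1 = P 0 0 + P 1 1 := by
    have := trace_conj K P
    rw [← hQ, h00, zero_add] at this
    exact this
  have hd := Q.2
  rw [Matrix.det_fin_two, h00] at hd
  have hq : Q 0 1 ≠ 0 := fun h0 => by rw [h0] at hd; simp at hd
  have hq3 : Q 0 1 ^ 3 = 1 := by
    have := congrArg Units.val (pow_three hF (Units.mk0 _ hq))
    simpa using this
  obtain ⟨l, hl⟩ : ∃ l : Fˣ, (l : F) = Q 0 1 := ⟨Units.mk0 _ hq, rfl⟩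
  refine ⟨dia l * K, ?_⟩
  rw [show dia l * K * P * (dia l * K)⁻¹ = dia l * Q * (dia l)⁻¹ by rw [hQ]; group, mul_inv_eq_iff_eq_mul]
  ext i j
  fin_cases i <;> fin_cases j <;> simp [coe_comp, Matrix.mul_apply, Fin.sum_univ_two, h00, htr, hl] <;>
    field_simp <;> grobner

theorem comp_pow (hF : Fintype.card F = 4) {w : F} (hw : w ^ 2 + w + 1 = 0) : comp hF w ^ 5 = 1 := by
  have h2 := two_eq_zero hF
  ext i j
  fin_cases i <;> fin_cases j <;>
    simp [coe_comp, pow_succ, Matrix.mul_apply, Fin.sum_univ_two] <;> grobner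

theorem prod_companion (hF : Fintype.card F = 4) {w τ : F} (hw : w ^ 2 + w + 1 = 0) (hτ : τ ≠ 0) :
    ∃ Y : SL(2, F), Y 0 0 + Y 1 1 = w ∧ (Y⁻¹ * comp hF τ) 0 0 + (Y⁻¹ * comp hF τ) 1 1 = w := by
  have h2 := two_eq_zero hF
  have hneg := neg_eq hF (F := F)
  have h3 : τ ^ 3 = 1 := by
    have := congrArg Units.val (pow_three hF (Units.mk0 _ hτ))
    simpa using this
  have hfac : (τ - 1) * ((τ - w) * (τ - w ^ 2)) = 0 := by grobner
  have build : ∀ x b c : F, x * (x + w) + b * c = 1 → b + c + x * τ = w →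
      ∃ Y : SL(2, F), Y 0 0 + Y 1 1 = w ∧ (Y⁻¹ * comp hF τ) 0 0 + (Y⁻¹ * comp hF τ) 1 1 = w := by
    intro x b c h1 h1'
    have hdet : x * (x + w) - b * c = 1 := by linear_combination h1 - b * c * h2
    let Y : SL(2, F) := ⟨!![x, b; c, x + w], by rw [Matrix.det_fin_two_of]; exact hdet⟩
    have hY : ((Y : SL(2, F)) : Matrix (Fin 2) (Fin 2) F) = !![x, b; c, x + w] := rfl
    refine ⟨Y, ?_, ?_⟩
    · simp [hY]; linear_combination x * h2
    · simp [hY, coe_comp, Matrix.mul_apply, Fin.sum_univ_two, Matrix.adjugate_fin_two, hneg]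
      linear_combination h1'
  rcases mul_eq_zero.1 hfac with h1 | h1
  · exact build 1 1 w (by grobner) (by grobner)
  rcases mul_eq_zero.1 h1 with h1 | h1
  · exact build 1 (w ^ 2) (w ^ 2) (by grobner) (by grobner)
  · exact build (w ^ 2) (w ^ 2) (w ^ 2) (by grobner) (by grobner)

/-- `G₂(4)` -/
theorem cover_four (hF : Fintype.card F = 4) :
    ∃ x ∈ chevG2.group F, x ^ 15 = 1 ∧ ∀ g ∈ chevG2.group F, g ≠ 1 → InCC x g := by
  obtain ⟨w, hw⟩ := exists_omega hF (F := F)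
  have hw0 : w ≠ 0 := by rintro rfl; simp at hw
  have hw1 : w ≠ 1 := by
    rintro rfl
    exact one_ne_zero (α := F) (by linear_combination hw - two_eq_zero hF)
  obtain ⟨δ, hδ⟩ : ∃ δ : Fˣ, δ = Units.mk0 w hw0 := ⟨_, rfl⟩
  have hδ1 : δ ≠ 1 := fun h => hw1 (by rw [hδ] at h; simpa using congrArg Units.val h)
  obtain ⟨S, hS⟩ : ∃ S, S = comp hF w := ⟨_, rfl⟩
  have hS5 : S ^ 5 = 1 := hS ▸ comp_pow hF hw
  have hStr : S 0 0 + S 1 1 = w := by rw [hS]; simp [coe_comp]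
  have two_vals : ∀ β : Fˣ, β ≠ 1 → β = δ ∨ β = δ⁻¹ := by
    intro β hβ
    have hb3 := congrArg Units.val (pow_three hF β)
    simp at hb3
    have h1 : ((β : F) - 1) * ((β : F) ^ 2 + (β : F) + 1) = 0 := by linear_combination hb3
    have h2 := (mul_eq_zero.1 h1).resolve_left fun h => hβ (Units.ext (show (β : F) = 1 by linear_combination h))
    have h3 : ((β : F) - w) * ((β : F) + w + 1) = 0 := by linear_combination h2 - hw
    rcases mul_eq_zero.1 h3 with h | h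
    · exact Or.inl (Units.ext (show (β : F) = (δ : F) by rw [hδ]; simp; linear_combination h))
    · refine Or.inr (eq_inv_of_mul_eq_one_left (Units.ext ?_))
      rw [hδ]
      simp
      linear_combination w * h - hw
  let x0 : GL chevG2.Idx F := φb F S * tor δ 1
  have key : ∀ (Y : SL(2, F)) (β : Fˣ), Y 0 0 + Y 1 1 = w → β ≠ 1 →
      Good4 (φb F Y * tor β 1) ∧ Conj x0 (φb F Y * tor β 1) := by
    intro Y β hY hβ
    obtain ⟨K, hK⟩ := to_companion hF Y (by rw [hY]; exact hw0)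
    rw [hY, ← hS] at hK
    have hY5 : Y ^ 5 = 1 := by
      have : Y = K⁻¹ * S * K⁻¹⁻¹ := by rw [← hK]; group
      rw [this, conj_pow, hS5, mul_one, mul_inv_cancel]
    refine ⟨⟨Y, β, rfl, hβ, by rw [hY]; exact hw0, hY5⟩, ?_⟩
    have hY' : φb F Y = (φb F K)⁻¹ * φb F S * φb F K := by
      rw [← hK, map_mul, map_mul, map_inv]; group
    rcases two_vals β hβ with rfl | rfl
    · refine ⟨(φb F K)⁻¹, inv_mem (phi_b_mem _), ?_⟩
      rw [hY', inv_inv]
      calc (φb F K)⁻¹ * φb F S * φb F K * tor β 1 = (φb F K)⁻¹ * φb F S * (φb F K * tor β 1) := by group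
        _ = _ := by rw [← (tor_comm β K).eq]; simp only [x0]; group
    · refine ⟨(φb F K)⁻¹ * n9 F, mul_mem (inv_mem (phi_b_mem _)) n9_mem, ?_⟩
      rw [hY']
      calc (φb F K)⁻¹ * φb F S * φb F K * tor δ⁻¹ 1
          = (φb F K)⁻¹ * φb F S * (φb F K * tor δ⁻¹ 1) := by group
        _ = (φb F K)⁻¹ * φb F S * (tor δ⁻¹ 1 * φb F K) := by rw [← (tor_comm δ⁻¹ K).eq]
        _ = (φb F K)⁻¹ * ((φb F S * n9 F) * (n9 F)⁻¹ * tor δ⁻¹ 1) * φb F K := by group
        _ = (φb F K)⁻¹ * ((n9 F * φb F S) * (n9 F)⁻¹ * (n9 F * tor δ 1 * (n9 F)⁻¹)) * φb F K := by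
            rw [(n9_comm S).eq, n9_torus]
        _ = _ := by simp only [x0]; group
  refine ⟨x0, mul_mem (phi_b_mem _) (tor_mem_group _ _), ?_, fun g hg _ => ?_⟩
  · show (φb F S * tor δ 1) ^ 15 = 1
    rw [(tor_comm δ S).symm.mul_pow, ← map_pow, show 15 = 5 * 3 by norm_num, pow_mul, hS5, one_pow, map_one,
      one_mul, show 5 * 3 = 3 * 5 by norm_num, tor_pow, one_pow, pow_mul, pow_three hF, one_pow, tor_one]
  obtain ⟨k, hk, v, hv, u, hu, M, A, hM, he⟩ := exists_good_form hF hg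
  refine InCC.of_conj hk ?_
  rw [he]
  obtain ⟨Y, Y', hY, hY', hYY⟩ : ∃ Y Y' : SL(2, F), Y 0 0 + Y 1 1 = w ∧ Y' 0 0 + Y' 1 1 = w ∧ M = Y * Y' := by
    rcases hM with rfl | htr
    · refine ⟨S, S⁻¹, hStr, ?_, (mul_inv_cancel S).symm⟩
      rw [← hStr]
      simp [Matrix.adjugate_fin_two]
      ring
    · obtain ⟨K, hK⟩ := to_companion hF M htr
      obtain ⟨Y, h1, h2⟩ := prod_companion hF hw htr
      refine ⟨K⁻¹ * Y * K⁻¹⁻¹, K⁻¹ * (Y⁻¹ * comp hF (M 0 0 + M 1 1)) * K⁻¹⁻¹, ?_, ?_, ?_⟩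
      · rw [trace_conj]; exact h1
      · rw [trace_conj]; exact h2
      · rw [← hK]; group
  obtain ⟨A1, A2, hA1, hA2, hAA⟩ : ∃ A1 A2 : Fˣ, A1 ≠ 1 ∧ A2 ≠ 1 ∧ A = A1 * A2 := by
    by_cases hA : A = 1
    · exact ⟨δ, δ⁻¹, hδ1, fun h => hδ1 (inv_eq_one.1 h), by rw [hA, mul_inv_cancel]⟩
    · refine ⟨A⁻¹, A⁻¹, fun h => hA (inv_eq_one.1 h), fun h => hA (inv_eq_one.1 h), ?_⟩
      rw [← mul_inv]
      refine eq_inv_of_mul_eq_one_left ?_
      rw [← mul_assoc, ← pow_three hF A]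
      simp [pow_succ, mul_assoc]
  have e1 : φb F M * tor A 1 = (φb F Y * tor A1 1) * (φb F Y' * tor A2 1) := by
    rw [mul_assoc (φb F Y), ← mul_assoc (tor A1 1), (tor_comm A1 Y').eq, mul_assoc (φb F Y'), tor_mul, one_mul,
      ← hAA, ← mul_assoc, ← map_mul, ← hYY]
  rw [e1]
  exact cover_core (le_trans (node C ib).Vi_le V_le) (le_trans (node C ib).Ui_le U_le) (key Y A1 hY hA1).2
    (key Y' A2 hY' hA2).2 (fun _ hx => (key Y A1 hY hA1).1.norm_vP hx)
    (fun _ hx => (key Y A1 hY hA1).1.fix_vP hF hx) (fun _ hx => (key Y' A2 hY' hA2).1.norm_uP hx)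
    (fun _ hx => (key Y' A2 hY' hA2).1.fix_uP hF hx) hv hu

end Cfsg.Agent.ChevG2CoverFour77
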