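import Cfsg.Agent.Lib.ChevG2Cover77

/-!
`G₂(3)` and `G₂(5)`: the middle of a form is a product of two conjugates of an element of the twisted torus.
-/

set_option autoImplicit false
set_option linter.unusedSectionVars false
set_option maxRecDepth 100000

namespace Cfsg.Agent.ChevG2CoverSmall77

open Cfsg.Lie Cfsg.Agent.ChevalleyEngine Cfsg.Agent.ChevalleyCert Cfsg.Agent.ChevalleyRoots
  Cfsg.Agent.ChevalleyCore Cfsg.Agent.ChevalleyTorus Cfsg.Agent.ChevalleyUnipotent Cfsg.Agent.ChevalleyRankOne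
  Cfsg.Agent.GaussPrescribed77 Cfsg.Agent.ChevGauss77 Cfsg.Agent.ChevG2Gauss77 Cfsg.Agent.ChevG2Cover77
open scoped MatrixGroups

/-- the element with given entries -/
def sl2 {R : Type*} [CommRing R] (a b c d : R) (h : a * d - b * c = 1) : SL(2, R) :=
  ⟨!![a, b; c, d], by rw [Matrix.det_fin_two_of]; exact h⟩

@[simp] theorem coe_sl2 {R : Type*} [CommRing R] (a b c d : R) (h : a * d - b * c = 1) :
    ((sl2 a b c d h : SL(2, R)) : Matrix (Fin 2) (Fin 2) R) = !![a, b; c, d] := rfl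

section Five

/-- entries of the conjugation fact -/
theorem five_conj_entries : ∀ x y z : ZMod 5, x * (-1 - x) - y * z = 1 →
    ∃ a b c d : ZMod 5, a * d - b * c = 1 ∧ b = x * a + y * c ∧ -a - b = x * b + y * d ∧
      d = z * a + (-1 - x) * c ∧ -c - d = z * b + (-1 - x) * d := by
  decide +kernel

/-- entries of the product fact -/
theorem five_prod_entries : ∀ a b c d : ZMod 5, a * d - b * c = 1 →
    ∃ x y z : ZMod 5, x * (-1 - x) - y * z = 1 ∧
      ((-1 - x) * a - y * c - z * b + x * d = -1 ∨ (-1 - x) * a - y * c - z * b + x * d = 1) := by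
  decide +kernel

instance : Fact (Nat.Prime 5) := ⟨by norm_num⟩

/-- an element of order three -/
def S5 : SL(2, ZMod 5) := sl2 0 (-1) 1 (-1) (by decide +kernel)

theorem five_conj (Y : SL(2, ZMod 5)) (h : Y 0 0 + Y 1 1 = -1) : ∃ K : SL(2, ZMod 5), K * S5 * K⁻¹ = Y := by
  have h11 : Y 1 1 = -1 - Y 0 0 := by rw [← h]; ring
  have hd := Y.2
  rw [Matrix.det_fin_two, h11] at hd
  obtain ⟨a, b, c, d, hK, e1, e2, e3, e4⟩ := five_conj_entries _ _ _ hd
  refine ⟨(sl2 a b c (d) hK), ?_⟩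
  rw [mul_inv_eq_iff_eq_mul]
  ext i j
  fin_cases i <;> fin_cases j <;> simp [S5, Matrix.mul_apply, Fin.sum_univ_two, h11]
  · exact e1
  · linear_combination e2
  · exact e3
  · linear_combination e4

theorem five_prod (M : SL(2, ZMod 5)) : ∃ Y Y' : SL(2, ZMod 5), Y 0 0 + Y 1 1 = -1 ∧ Y' 0 0 + Y' 1 1 = -1 ∧
    (M = Y * Y' ∨ M = Y * Y' * dia (-1)) := by
  have hd := M.2
  rw [Matrix.det_fin_two] at hd
  obtain ⟨x, y, z, hY, h⟩ := five_prod_entries _ _ _ _ hd
  let Y : SL(2, ZMod 5) := (sl2 x y z (-1 - x) hY)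
  rcases h with h | h
  · refine ⟨Y, Y⁻¹ * M, by simp [Y], ?_, Or.inl (by group)⟩
    simp [Y, Matrix.mul_apply, Fin.sum_univ_two, Matrix.adjugate_fin_two]
    linear_combination h
  · refine ⟨Y, Y⁻¹ * M * (dia (-1))⁻¹, by simp [Y], ?_, Or.inr (by group)⟩
    simp [Y, Matrix.mul_apply, Fin.sum_univ_two, Matrix.adjugate_fin_two, Matrix.vecMul, dotProduct]
    linear_combination -h

end Five

section Three

/-- entries of the conjugation fact -/
theorem three_conj_entries : ∀ a b c d : ZMod 3, a * d - b * c = 1 → (-a + d = 1 ∨ -a + d = -1) →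
    ∃ k l m n : ZMod 3, k * n - l * m = 1 ∧
      ((-l = a * k - b * m ∧ k + l = -a * l + b * n ∧ -n = c * k - d * m ∧ m + n = -c * l + d * n) ∨
        (l = a * k - b * m ∧ -k - l = -a * l + b * n ∧ n = c * k - d * m ∧ -m - n = -c * l + d * n)) := by
  decide +kernel

/-- entries of the product fact -/
theorem three_prod_entries : ∀ a b c d : ZMod 3, a * d - b * c = 1 →
    ∃ x y z w : ZMod 3, x * w - y * z = 1 ∧ (-x + w = 1 ∨ -x + w = -1) ∧
      (-(w * a - y * c) + (-(z * b) + x * d) = 1 ∨ -(w * a - y * c) + (-(z * b) + x * d) = -1) := by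
  decide +kernel

theorem three_quad_entries : ∀ a b c d : ZMod 3, a * d - b * c = 1 → (-a + d = 1 ∨ -a + d = -1) →
    (a * a - b * c) * (a * a - b * c) + (-a * b + b * d) * (c * a - d * c) = -1 ∧
      (a * a - b * c) * (-a * b + b * d) + (-a * b + b * d) * (-c * b + d * d) = 0 ∧
      (c * a - d * c) * (a * a - b * c) + (-c * b + d * d) * (c * a - d * c) = 0 ∧
      (c * a - d * c) * (-a * b + b * d) + (-c * b + d * d) * (-c * b + d * d) = -1 := by
  decide +kernel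

instance : Fact (Nat.Prime 3) := ⟨Nat.prime_three⟩

/-- the base element -/
def P3 : SL(2, ZMod 3) := sl2 0 1 (-1) 1 (by decide +kernel)

/-- the trace condition -/
def Tr3 (P : SL(2, ZMod 3)) : Prop := -P 0 0 + P 1 1 = 1 ∨ -P 0 0 + P 1 1 = -1

theorem three_conj (P : SL(2, ZMod 3)) (h : Tr3 P) :
    ∃ K : SL(2, ZMod 3), K * P3 = P * dconj (-1) K ∨ K * (P3 * dia (-1)) = P * dconj (-1) K := by
  have hd := P.2
  rw [Matrix.det_fin_two] at hd
  obtain ⟨k, l, m, n, hK, ⟨e1, e2, e3, e4⟩ | ⟨e1, e2, e3, e4⟩⟩ := three_conj_entries _ _ _ _ hd h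
  · refine ⟨(sl2 k l m (n) hK), Or.inl ?_⟩
    ext i j
    fin_cases i <;> fin_cases j <;> simp [P3, Matrix.mul_apply, Fin.sum_univ_two]
    · linear_combination e1
    · linear_combination e2
    · linear_combination e3
    · linear_combination e4
  · refine ⟨(sl2 k l m (n) hK), Or.inr ?_⟩
    ext i j
    fin_cases i <;> fin_cases j <;> simp [P3, Matrix.mul_apply, Fin.sum_univ_two]
    · linear_combination e1
    · linear_combination e2
    · linear_combination e3
    · linear_combination e4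

theorem three_prod (M : SL(2, ZMod 3)) : ∃ P P' : SL(2, ZMod 3), Tr3 P ∧ Tr3 P' ∧ M = P * dconj (-1) P' := by
  have hd := M.2
  rw [Matrix.det_fin_two] at hd
  obtain ⟨x, y, z, w, hP, h1, h2⟩ := three_prod_entries _ _ _ _ hd
  let P : SL(2, ZMod 3) := (sl2 x y z (w) hP)
  refine ⟨P, dconj (-1) (P⁻¹ * M), by simpa [P, Tr3] using h1, ?_, ?_⟩
  · simp [P, Tr3, Matrix.mul_apply, Fin.sum_univ_two, Matrix.adjugate_fin_two]
    rcases h2 with h2 | h2
    · exact Or.inl (by linear_combination h2)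
    · exact Or.inr (by linear_combination h2)
  · have e : ∀ A : SL(2, ZMod 3), dconj (-1) (dconj (-1) A) = A := fun A => by
      ext i j
      fin_cases i <;> fin_cases j <;> simp
    rw [e]; group

theorem three_quad (P : SL(2, ZMod 3)) (h : Tr3 P) :
    (P * dconj (-1) P) * (P * dconj (-1) P) = dia (-1) := by
  have hd := P.2
  rw [Matrix.det_fin_two] at hd
  obtain ⟨e1, e2, e3, e4⟩ := three_quad_entries _ _ _ _ hd h
  ext i j
  fin_cases i <;> fin_cases j <;> simp [Matrix.mul_apply, Fin.sum_univ_two]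
  · linear_combination e1
  · linear_combination e2
  · linear_combination e3
  · linear_combination e4

end Three

variable {F : Type*} [Field F]

theorem dconj_one (A : SL(2, F)) : dconj (1 : Fˣ) A = A := by
  ext i j
  fin_cases i <;> fin_cases j <;> simp

theorem tor_phi (A B : Fˣ) (P : SL(2, F)) : tor A B * φa F P = φa F (dconj A P) * tor A B := by
  have h := (node C ia (F := F)).H_conj _ (tor_mem A B) P
  rw [show (node C ia (F := F)).α (tor A B) = A from rootVal_a A B] at h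
  rw [← h]; group

theorem tor_phi_comm (B : Fˣ) (P : SL(2, F)) : Commute (tor 1 B) (φa F P) := by
  have := tor_phi 1 B P
  rwa [dconj_one] at this

theorem nr_sq : nr F * nr F = tor 1 (-1) := by
  apply Units.ext
  rw [nr, ng_pair C (show 11 < chevG2.nroots by decide) 1 1 one_ne_zero one_ne_zero, div_one]
  rw [← coe_hg_eq C (show 11 < chevG2.nroots by decide) (neg_ne_zero.2 one_ne_zero)]
  exact congrArg Units.val (by simpa using hg_top (F := F) (-1))

theorem nr_torus (t : Fˣ) : nr F * tor 1 t * (nr F)⁻¹ = tor 1 t⁻¹ := by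
  have hr : 11 < chevG2.nroots := by decide
  have hn : nr F = ChevalleySL2.phi (rels C hr) (ChevalleySL2.wel) := (ChevalleySL2.phi_wel (rels C hr)).symm
  have e : (ChevalleySL2.wel : SL(2, F)) * dia t * (ChevalleySL2.wel : SL(2, F))⁻¹ = dia t⁻¹ := by
    rw [mul_inv_eq_iff_eq_mul]
    ext i j
    have hw : ((ChevalleySL2.wel : SL(2, F)) : Matrix (Fin 2) (Fin 2) F) = !![0, 1; -1, 0] := rfl
    fin_cases i <;> fin_cases j <;> simp [hw, Matrix.mul_apply, Fin.sum_univ_two]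
  rw [hn, ← hg_top, ← hg_top, ← phi_dia C hr, ← phi_dia C hr, ← map_inv, ← map_mul, ← map_mul, e]

theorem nr_flip : nr F * tor (-1) 1 * (nr F)⁻¹ = φa F (dia (-1)) * tor (-1) 1 := by
  have h11 : tchar chevG2 (par (-1 : Fˣ) 1) 11 = -1 := by
    rw [tchar_pos _ _ 11 (by norm_num) (by norm_num)]
    show (-1 : Fˣ) ^ 3 * 1 ^ 2 = -1
    apply Units.ext; simp
    ring
  have h0 : tchar chevG2 (par (-1 : Fˣ) 1) 0 = -1 := by
    have := tchar_neg C (par (-1 : Fˣ) 1) (show 11 < chevG2.nroots by decide)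
    rw [show chevG2.neg 11 = 0 by decide +kernel, h11] at this
    rw [this]
    apply Units.ext; simp
  have e : tor (-1 : Fˣ) 1 * (nr F)⁻¹ * (tor (-1) 1)⁻¹ = nr F := by
    have e1 : ∀ r, r < 12 → tchar chevG2 (par (-1 : Fˣ) 1) r = -1 → ∀ u : F,
        MulAut.conj (tor (-1 : Fˣ) 1) (xg C r u) = xg C r (-u) := fun r hr hv u => by
      rw [MulAut.conj_apply, tor, torus_conj_xg C hr, hv]; simp
    have : MulAut.conj (tor (-1 : Fˣ) 1) (nr F)⁻¹ = nr F := by
      rw [nr, ng_inv C, ng, ng, show chevG2.neg 11 = 0 by decide +kernel]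
      simp only [map_mul, e1 11 (by norm_num) h11, e1 0 (by norm_num) h0]
      congr 2 <;> simp [inv_neg]
    simpa [MulAut.conj_apply] using this
  calc nr F * tor (-1) 1 * (nr F)⁻¹ = nr F * (tor (-1) 1 * (nr F)⁻¹ * (tor (-1) 1)⁻¹) * tor (-1) 1 := by group
    _ = _ := by
      rw [e, nr_sq, phi_dia']
      congr 1
      congr 1 <;> apply Units.ext <;> simp
      ring

/-- `G₂(5)` -/
theorem cover_five [Fintype F] (hF : Fintype.card F = 5) :
    ∃ x ∈ chevG2.group F, x ^ 12 = 1 ∧ ∀ g ∈ chevG2.group F, g ≠ 1 → InCC x g := by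
  obtain ⟨e⟩ : Nonempty (ZMod 5 ≃+* F) := ⟨ZMod.ringEquivOfPrime F (by norm_num) hF⟩
  let ψ : SL(2, ZMod 5) →* SL(2, F) := Matrix.SpecialLinearGroup.map e.toRingHom
  have ψsurj : ∀ P : SL(2, F), ∃ Q, ψ Q = P := fun P =>
    ⟨Matrix.SpecialLinearGroup.map e.symm.toRingHom P, by ext i j; simp [ψ]⟩
  have ψdia : ψ (dia (-1)) = dia (-1) := by
    ext i j
    fin_cases i <;> fin_cases j <;> simp [ψ]
  let δ : Fˣ := Units.map e.toRingHom.toMonoidHom (Units.mk0 2 (by decide))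
  have hδ2 : δ ^ 2 = -1 := by
    apply Units.ext
    have : e ((2 : ZMod 5) ^ 2) = e (-1) := congrArg e (by decide)
    simpa [δ] using this
  have hne1 : (-1 : Fˣ) ≠ 1 := by
    intro h
    have h' : e (-1 : ZMod 5) = e 1 := by simpa using congrArg Units.val h
    exact absurd (e.injective h') (by decide)
  have hδ4 : δ ^ 4 = 1 := by rw [show 4 = 2 * 2 by norm_num, pow_mul, hδ2]; simp
  have hδi : δ⁻¹ ^ 2 = -1 := by rw [inv_pow, hδ2, inv_neg, inv_one]
  have cube_ne : ∀ β : Fˣ, β ^ 2 = -1 → β ^ 3 ≠ 1 := fun β h h3 => by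
    rw [pow_succ, h] at h3
    have hb : β = -1 := by
      calc β = (-1) * (-1 * β) := by simp
        _ = -1 := by rw [h3, mul_one]
    rw [hb] at h
    exact hne1 (by simpa using h.symm)
  let x0 : GL chevG2.Idx F := φa F (ψ S5) * tor 1 δ
  have hS : S5 ^ 3 = 1 := by apply Subtype.ext; decide +kernel
  have key : ∀ (Y : SL(2, ZMod 5)) (β : Fˣ), Y 0 0 + Y 1 1 = -1 → (β = δ ∨ β = δ⁻¹) →
      Good (φa F (ψ Y) * tor 1 β) ∧ Conj x0 (φa F (ψ Y) * tor 1 β) := by
    intro Y β hY hβ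
    obtain ⟨K, hK⟩ := five_conj Y hY
    have hY3 : Y ^ 3 = 1 := by rw [← hK, conj_pow, hS, mul_one, mul_inv_cancel]
    have hb2 : β ^ 2 = -1 := by rcases hβ with rfl | rfl <;> assumption
    constructor
    · refine ⟨ψ Y, 1, β, 3, 1, β ^ 3, rfl, ?_, cube_ne β hb2, ?_, ?_, ?_, ?_⟩
      · rw [((tor_phi_comm β (ψ Y)).symm).mul_pow, ← map_pow, ← map_pow, hY3, map_one, map_one, one_mul, tor_pow,
          one_pow]
      · rw [one_mul]; exact cube_ne β hb2
      · rw [one_pow, one_mul]; exact cube_ne β hb2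
      · rw [one_pow, one_mul]; exact cube_ne β hb2
      · rw [one_pow, one_mul, hb2]; exact hne1
    · rcases hβ with rfl | rfl
      · refine ⟨φa F (ψ K), phi_mem _, ?_⟩
        rw [← hK, map_mul, map_mul, map_mul, map_mul, map_inv, map_inv]
        show _ = _ * (φa F (ψ S5) * tor 1 δ) * _
        rw [← mul_assoc, mul_assoc _ (tor 1 δ) _, (tor_phi_comm δ (ψ K)).inv_right.eq]
        group
      · refine ⟨φa F (ψ K) * nr F, mul_mem (phi_mem _) nr_mem, ?_⟩
        rw [← hK, map_mul, map_mul, map_mul, map_mul, map_inv, map_inv]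
        calc φa F (ψ K) * φa F (ψ S5) * (φa F (ψ K))⁻¹ * tor 1 δ⁻¹
            = φa F (ψ K) * φa F (ψ S5) * ((φa F (ψ K))⁻¹ * tor 1 δ⁻¹) := by group
          _ = φa F (ψ K) * φa F (ψ S5) * (tor 1 δ⁻¹ * (φa F (ψ K))⁻¹) := by
              rw [((tor_phi_comm δ⁻¹ (ψ K)).inv_right).eq]
          _ = φa F (ψ K) * ((φa F (ψ S5) * nr F) * (nr F)⁻¹ * tor 1 δ⁻¹) * (φa F (ψ K))⁻¹ := by group
          _ = φa F (ψ K) * ((nr F * φa F (ψ S5)) * (nr F)⁻¹ * (nr F * tor 1 δ * (nr F)⁻¹)) *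
              (φa F (ψ K))⁻¹ := by rw [(phi_comm_nr (ψ S5)).eq, nr_torus]
          _ = _ := by simp only [x0]; group
  refine ⟨x0, mul_mem (phi_mem _) (tor_mem_group _ _), ?_, fun g hg hne => ?_⟩
  · show (φa F (ψ S5) * tor 1 δ) ^ 12 = 1
    rw [((tor_phi_comm δ (ψ S5)).symm).mul_pow, ← map_pow, ← map_pow, show 12 = 3 * 4 by norm_num, pow_mul, hS,
      one_pow, map_one, map_one, one_mul, tor_pow, one_pow, pow_mul, ← pow_mul, show 3 * 4 = 4 * 3 by norm_num,
      pow_mul, hδ4, one_pow, tor_one]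
  obtain ⟨k, hk, P, v, hv, u, hu, he⟩ := exists_middle (fun B => by
    by_contra hc
    push Not at hc
    have h1 := hc 1
    have h2 := hc δ
    rw [one_pow] at h1
    exact cube_ne δ hδ2 (by rw [h2, ← h1])) hg hne
  refine InCC.of_conj hk ?_
  rw [he]
  obtain ⟨M, rfl⟩ := ψsurj P
  obtain ⟨Y, Y', hY, hY', hM | hM⟩ := five_prod M
  · have e1 : φa F (ψ M) = (φa F (ψ Y) * tor 1 δ) * (φa F (ψ Y') * tor 1 δ⁻¹) := by
      rw [mul_assoc, ← mul_assoc (tor 1 δ), (tor_phi_comm δ (ψ Y')).eq, mul_assoc (φa F (ψ Y')), tor_mul, one_mul,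
        mul_inv_cancel, tor_one, mul_one, ← map_mul, ← map_mul, ← hM]
    rw [e1]
    exact cover_ell (key Y δ hY (Or.inl rfl)).1 (key Y' δ⁻¹ hY' (Or.inr rfl)).1 (key Y δ hY (Or.inl rfl)).2
      (key Y' δ⁻¹ hY' (Or.inr rfl)).2 hv hu
  · have e1 : φa F (ψ M) = (φa F (ψ Y) * tor 1 δ) * (φa F (ψ Y') * tor 1 δ) := by
      rw [mul_assoc, ← mul_assoc (tor 1 δ), (tor_phi_comm δ (ψ Y')).eq, mul_assoc (φa F (ψ Y')), tor_mul, one_mul,
        ← sq, hδ2, hM, map_mul, map_mul, map_mul, map_mul, ψdia, phi_dia', mul_assoc]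
      congr 3 <;> apply Units.ext <;> simp
      ring
    rw [e1]
    exact cover_ell (key Y δ hY (Or.inl rfl)).1 (key Y' δ hY' (Or.inl rfl)).1 (key Y δ hY (Or.inl rfl)).2
      (key Y' δ hY' (Or.inl rfl)).2 hv hu

/-- `G₂(3)` -/
theorem cover_three [Fintype F] (hF : Fintype.card F = 3) :
    ∃ x ∈ chevG2.group F, x ^ 8 = 1 ∧ ∀ g ∈ chevG2.group F, g ≠ 1 → InCC x g := by
  obtain ⟨e⟩ : Nonempty (ZMod 3 ≃+* F) := ⟨ZMod.ringEquivOfPrime F (by norm_num) hF⟩
  let ψ : SL(2, ZMod 3) →* SL(2, F) := Matrix.SpecialLinearGroup.map e.toRingHom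
  have ψsurj : ∀ P : SL(2, F), ∃ Q, ψ Q = P := fun P =>
    ⟨Matrix.SpecialLinearGroup.map e.symm.toRingHom P, by ext i j; simp [ψ]⟩
  have ψdia : ψ (dia (-1)) = dia (-1) := by
    ext i j
    fin_cases i <;> fin_cases j <;> simp [ψ]
  have ψd : ∀ P : SL(2, ZMod 3), ψ (dconj (-1) P) = dconj (-1) (ψ P) := fun P => by
    ext i j
    fin_cases i <;> fin_cases j <;> simp [ψ]
  have hne1 : (-1 : Fˣ) ≠ 1 := by
    intro h
    have h' : e (-1 : ZMod 3) = e 1 := by simpa using congrArg Units.val h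
    exact absurd (e.injective h') (by decide)
  have h11 : tor (-1 : Fˣ) 1 * tor (-1) 1 = 1 := by rw [tor_mul, neg_mul_neg, one_mul, tor_one]
  have hd1 : φa F (dia (-1)) = tor 1 (-1) := by
    rw [phi_dia']
    congr 1 <;> apply Units.ext <;> simp
    ring
  let y : SL(2, ZMod 3) → GL chevG2.Idx F := fun P => φa F (ψ P) * tor (-1) 1
  have ysq : ∀ P P', y P * y P' = φa F (ψ (P * dconj (-1) P')) := fun P P' => by
    show φa F (ψ P) * tor (-1) 1 * (φa F (ψ P') * tor (-1) 1) = _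
    rw [mul_assoc, ← mul_assoc (tor (-1 : Fˣ) 1), tor_phi, mul_assoc (φa F (dconj (-1) (ψ P'))), h11, mul_one,
      ← map_mul, ← ψd, ← map_mul]
  have key : ∀ P, Tr3 P → Good (y P) ∧ Conj (y P3) (y P) := by
    intro P hP
    constructor
    · refine ⟨ψ P, -1, 1, 4, 1, -1, rfl, ?_, hne1, ?_, ?_, ?_, ?_⟩
      · show y P ^ 4 = _
        rw [show y P ^ 4 = (y P * y P) * (y P * y P) by simp [pow_succ, mul_assoc], ysq, ← map_mul, ← map_mul, three_quad P hP, ψdia,
          hd1]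
      · rw [one_mul]; exact hne1
      · rw [one_pow, one_mul]; exact hne1
      · rw [one_pow, one_mul]; exact hne1
      · intro h
        have h' := congrArg Units.val h
        simp at h'
        exact hne1 (Units.ext (by simp; linear_combination h'))
    · obtain ⟨K, hK | hK⟩ := three_conj P hP
      · refine ⟨φa F (ψ K), phi_mem _, ?_⟩
        show φa F (ψ P) * tor (-1) 1 = φa F (ψ K) * (φa F (ψ P3) * tor (-1) 1) * (φa F (ψ K))⁻¹
        rw [eq_mul_inv_iff_mul_eq, mul_assoc, tor_phi, ← mul_assoc, ← mul_assoc, ← map_mul, ← map_mul, ← ψd,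
          ← map_mul, ← map_mul, hK]
      · refine ⟨φa F (ψ K) * nr F, mul_mem (phi_mem _) nr_mem, ?_⟩
        have hn : nr F * (φa F (ψ P3) * tor (-1) 1) * (nr F)⁻¹ = φa F (ψ (P3 * dia (-1))) * tor (-1) 1 := by
          rw [← mul_assoc, ← (phi_comm_nr (ψ P3)).eq, mul_assoc (φa F (ψ P3)), mul_assoc (φa F (ψ P3)), nr_flip,
            ← mul_assoc, ← map_mul, ← ψdia, ← map_mul]
        show φa F (ψ P) * tor (-1) 1 = φa F (ψ K) * nr F * (φa F (ψ P3) * tor (-1) 1) * (φa F (ψ K) * nr F)⁻¹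
        rw [show φa F (ψ K) * nr F * (φa F (ψ P3) * tor (-1) 1) * (φa F (ψ K) * nr F)⁻¹ =
            φa F (ψ K) * (nr F * (φa F (ψ P3) * tor (-1) 1) * (nr F)⁻¹) * (φa F (ψ K))⁻¹ by group, hn,
          eq_mul_inv_iff_mul_eq, mul_assoc, tor_phi, ← mul_assoc, ← mul_assoc, ← map_mul, ← map_mul, ← ψd,
          ← map_mul, ← map_mul, hK]
  refine ⟨y P3, mul_mem (phi_mem _) (tor_mem_group _ _), ?_, fun g hg hne => ?_⟩
  · rw [show y P3 ^ 8 = ((y P3 * y P3) * (y P3 * y P3)) * ((y P3 * y P3) * (y P3 * y P3)) by simp [pow_succ, mul_assoc], ysq,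
      ← map_mul, ← map_mul, ← map_mul ψ, three_quad P3 (Or.inl (by decide +kernel)), ψdia, map_mul, hd1, tor_mul,
      neg_mul_neg, one_mul, tor_one]
  obtain ⟨k, hk, P, v, hv, u, hu, he⟩ := exists_middle (fun B => by
    by_cases hB : B = 1
    · refine ⟨-1, fun h => hne1 ?_⟩
      have h' := congrArg Units.val h
      simp [hB] at h'
      exact Units.ext (by simp; linear_combination h')
    · exact ⟨1, fun h => hB (by rw [← h, one_pow])⟩) hg hne
  refine InCC.of_conj hk ?_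
  rw [he]
  obtain ⟨M, rfl⟩ := ψsurj P
  obtain ⟨Q, Q', hQ, hQ', hM⟩ := three_prod M
  rw [hM, ← ysq]
  exact cover_ell (key Q hQ).1 (key Q' hQ').1 (key Q hQ).2 (key Q' hQ').2 hv hu

end Cfsg.Agent.ChevG2CoverSmall77
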