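import Cfsg.Agent.Lib.ChevG2Cover77

/-!
`G₂(4)`: the first layer of the radical of the short-root parabolic as a binary cubic, and the existence of a form
whose middle at the long fundamental root is not a transvection.
-/

set_option autoImplicit false
set_option linter.unusedSectionVars false
set_option maxRecDepth 100000

namespace Cfsg.Agent.ChevG2Four77

open Cfsg.Lie Cfsg.Agent.ChevalleyExp Cfsg.Agent.ChevalleyEngine Cfsg.Agent.ChevalleyCert Cfsg.Agent.ChevalleyRoots
  Cfsg.Agent.ChevalleyCore Cfsg.Agent.ChevalleyTorus Cfsg.Agent.ChevalleyUnipotent Cfsg.Agent.ChevalleyRankOne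
  Cfsg.Agent.GaussPrescribed77 Cfsg.Agent.ChevGauss77 Cfsg.Agent.ChevG2Gauss77 Cfsg.Agent.ChevG2Cover77
open scoped MatrixGroups

/-! ### the finite fact on binary cubics -/

/-- a model of the field with four elements -/
abbrev Q4 : Type := ZMod 2 × ZMod 2

/-- its product -/
def mul4 (x y : Q4) : Q4 := (x.1 * y.1 + x.2 * y.2, x.1 * y.2 + x.2 * y.1 + x.2 * y.2)

/-- the value of a cubic -/
def val4 (v : Q4 × Q4 × Q4 × Q4) (s : Q4) : Q4 :=
  v.1 + mul4 v.2.1 s + mul4 v.2.2.1 (mul4 s s) + mul4 v.2.2.2 (mul4 (mul4 s s) s)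

/-- constant nonzero away from one point -/
def fam4 (v : Q4 × Q4 × Q4 × Q4) : Prop :=
  ∃ c : Q4, c ≠ 0 ∧ ∃ s0 : Q4, ∀ s : Q4, s ≠ s0 → val4 v s = c

instance (v : Q4 × Q4 × Q4 × Q4) : Decidable (fam4 v) := by unfold fam4; infer_instance

theorem cubic_table : ∀ f w g h : Q4, h ≠ 0 → (∀ s : Q4, val4 (f, w, g, h) s ≠ 0) →
    ¬ (fam4 (f, w, g, h) ∧ fam4 (h, g, w, f) ∧ fam4 (f, w + f, g + f, h + g + w + f)) := by
  decide +kernel

variable {F : Type*} [Field F] [Fintype F]

theorem two_eq_zero (hF : Fintype.card F = 4) : (2 : F) = 0 := by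
  have h := FiniteField.cast_card_eq_zero F
  rw [hF] at h
  have h' : (2 : F) * 2 = 0 := by norm_num; exact_mod_cast h
  rcases mul_eq_zero.1 h' with h | h <;> exact h

theorem pow_three (hF : Fintype.card F = 4) (t : Fˣ) : t ^ 3 = 1 := by
  classical
  have := pow_card_eq_one (x := t)
  rwa [Fintype.card_units, hF] at this

theorem neg_eq (hF : Fintype.card F = 4) (a : F) : -a = a := by
  have h := two_eq_zero hF
  linear_combination (-a) * h

/-- an element of order three -/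
theorem exists_omega (hF : Fintype.card F = 4) : ∃ w : F, w ^ 2 + w + 1 = 0 := by
  classical
  obtain ⟨γ, hγ⟩ : ∃ γ : Fˣ, γ ≠ 1 := by
    have : Nontrivial Fˣ := Fintype.one_lt_card_iff_nontrivial.1 (by rw [Fintype.card_units, hF]; norm_num)
    exact exists_ne 1
  refine ⟨γ, ?_⟩
  have h := congrArg Units.val (pow_three hF γ)
  simp at h
  have h1 : ((γ : F) - 1) * ((γ : F) ^ 2 + (γ : F) + 1) = 0 := by linear_combination h
  rcases mul_eq_zero.1 h1 with h2 | h2
  · exact absurd (Units.ext (show (γ : F) = 1 by linear_combination h2)) hγ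
  · exact h2

/-- the cubic is not constant nonzero away from one point in three coordinate systems -/
theorem cubic_fact (hF : Fintype.card F = 4) (f w g h : F) (hh : h ≠ 0)
    (hnz : ∀ s : F, f + w * s + g * (s * s) + h * (s * s * s) ≠ 0)
    (fam : ∀ v ∈ [(f, w, g, h), (h, g, w, f), (f, w + f, g + f, h + g + w + f)],
      ∃ c : F, c ≠ 0 ∧ ∃ s0 : F, ∀ s : F, s ≠ s0 →
        v.1 + v.2.1 * s + v.2.2.1 * (s * s) + v.2.2.2 * (s * s * s) = c) : False := by
  classical
  obtain ⟨om, hom⟩ := exists_omega hF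
  have h2 := two_eq_zero hF
  let ι : Q4 → F := fun x => (if x.1 = 0 then 0 else 1) + (if x.2 = 0 then 0 else om)
  have hz : ∀ a : ZMod 2, a = 0 ∨ a = 1 := by decide
  have e11 : (1 : ZMod 2) + 1 = 0 := by decide
  have ι_add : ∀ x y : Q4, ι (x + y) = ι x + ι y := by
    rintro ⟨a, b⟩ ⟨c, d⟩
    rcases hz a with rfl | rfl <;> rcases hz b with rfl | rfl <;> rcases hz c with rfl | rfl <;>
      rcases hz d with rfl | rfl <;> simp [ι, e11] <;> first | ring1 | grobner
  have ι_mul : ∀ x y : Q4, ι (mul4 x y) = ι x * ι y := by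
    rintro ⟨a, b⟩ ⟨c, d⟩
    rcases hz a with rfl | rfl <;> rcases hz b with rfl | rfl <;> rcases hz c with rfl | rfl <;>
      rcases hz d with rfl | rfl <;> simp [ι, mul4, e11] <;> first | ring1 | grobner
  have hne : om ≠ 0 := by rintro rfl; simp at hom
  have hne1 : (1 : F) + om ≠ 0 := by
    intro h'
    exact one_ne_zero (α := F) (by linear_combination hom + (-om) * h')
  have ι_inj : Function.Injective ι := by
    have h0 : ∀ x : Q4, ι x = 0 → x = 0 := by
      rintro ⟨a, b⟩ hx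
      rcases hz a with rfl | rfl <;> rcases hz b with rfl | rfl <;> simp [ι, hne, hne1] at hx ⊢
    intro x y hxy
    have : ι (x + y) = 0 := by rw [ι_add, hxy, ← two_mul, h2, zero_mul]
    have := h0 _ this
    calc x = x + y + y := by
          rw [add_assoc, show y + y = 0 by
            rcases y with ⟨a, b⟩; rcases hz a with rfl | rfl <;> rcases hz b with rfl | rfl <;> decide, add_zero]
      _ = y := by rw [this, zero_add]
  have ι_surj : Function.Surjective ι :=
    ((Fintype.bijective_iff_injective_and_card ι).2 ⟨ι_inj, by rw [hF]; rfl⟩).surjective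
  obtain ⟨f', rfl⟩ := ι_surj f
  obtain ⟨w', rfl⟩ := ι_surj w
  obtain ⟨g', rfl⟩ := ι_surj g
  obtain ⟨h', rfl⟩ := ι_surj h
  have key : ∀ v : Q4 × Q4 × Q4 × Q4,
      (∃ c : F, c ≠ 0 ∧ ∃ s0 : F, ∀ s : F, s ≠ s0 →
        ι v.1 + ι v.2.1 * s + ι v.2.2.1 * (s * s) + ι v.2.2.2 * (s * s * s) = c) → fam4 v := by
    rintro v ⟨c, hc, s0, hs⟩
    obtain ⟨c', rfl⟩ := ι_surj c
    obtain ⟨s0', rfl⟩ := ι_surj s0
    refine ⟨c', fun h0 => hc (by rw [h0]; simp [ι]), s0', fun s hne' => ι_inj ?_⟩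
    simp only [val4, ι_add, ι_mul]
    exact hs _ fun e => hne' (ι_inj e)
  refine cubic_table f' w' g' h' (fun e => hh (by rw [e]; simp [ι]))
    (fun s e => hnz (ι s) (by
      have := congrArg ι e
      simp only [val4, ι_add, ι_mul] at this
      rw [this]; simp [ι])) ⟨key (f', w', g', h') (fam (ι f', ι w', ι g', ι h') (by simp)),
    key (h', g', w', f') (fam (ι h', ι g', ι w', ι f') (by simp)),
    key (f', w' + f', g' + f', h' + g' + w' + f') ?_⟩
  simp only [ι_add]
  exact fam (ι f', ι w' + ι f', ι g' + ι f', ι h' + ι g' + ι w' + ι f') (by simp)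

/-! ### the coordinates of the first layer -/

/-- the entry of a group element at a coroot row and a root column -/
def ent (j : Fin chevG2.rank) (s : Fin chevG2.nroots) (g : GL chevG2.Idx F) : F :=
  (g : Matrix chevG2.Idx chevG2.Idx F) (Sum.inl j) (Sum.inr s)

/-- coordinate of `-b` -/
def c5 (g : GL chevG2.Idx F) : F := ent ib ⟨6, by decide⟩ g

/-- coordinate of `-a-b` -/
def c3 (g : GL chevG2.Idx F) : F := ent ia ⟨8, by decide⟩ g

/-- coordinate of `-2a-b` -/
def c2 (g : GL chevG2.Idx F) : F := ent ib ⟨9, by decide⟩ g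

/-- coordinate of `-3a-b` -/
def c1 (g : GL chevG2.Idx F) : F := ent ia ⟨10, by decide⟩ g

/-- coordinate of `b` -/
def c6 (g : GL chevG2.Idx F) : F := ent ib ⟨5, by decide⟩ g

theorem coef_facts : ∀ s r : Fin 12, ∀ k : Fin 3,
    (∀ j : Fin 2, C.coef s.val j.val + ((k.val + 1 : ℕ) : ℤ) * C.coef r.val j.val = 0) →
      s.val = chevG2.neg r.val := by
  decide +kernel

theorem ent_other (j : Fin chevG2.rank) (s : Fin chevG2.nroots) {r : ℕ} (hr : r < chevG2.nroots)
    (hne : s.val ≠ chevG2.neg r) (t : F) : ent j s (xg C r t) = 0 := by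
  have hz : ∀ k, 1 ≤ k → k ≤ 3 → ChevalleyEngine.xm chevG2 k r (Sum.inl j) (Sum.inr s) = 0 := by
    intro k h1 h3
    by_contra h
    apply hne
    refine coef_facts ⟨s.val, s.isLt⟩ ⟨r, hr⟩ ⟨k - 1, by omega⟩ fun i => ?_
    have := ChevalleyAdjoint.xm_cf C h1 hr h (j := i.val) i.isLt
    simp only [ChevalleyAdjoint.cf, Sum.elim_inl, Sum.elim_inr] at this
    rw [show ((⟨k - 1, by omega⟩ : Fin 3).val + 1 : ℕ) = k by simp; omega]
    linarith
  rw [ent, coe_xg, x_eq_xR C hr, xR]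
  simp [castM, hz 1 le_rfl (by norm_num), hz 2 (by norm_num) (by norm_num), hz 3 (by norm_num) le_rfl]

/-- the weight counting the long fundamental root -/
noncomputable def wb : chevG2.Idx → ℤ := ChevalleyParabolic.wJ C ({0} : Set ℕ)

theorem deg_vals : ∀ r : Fin 12,
    ((r.val < 6 ∧ r.val ≠ 4) → ∑ j : Fin 2, (if j.val = 0 then 0 else C.coef r.val j.val) ≤ -1) ∧
    ((6 ≤ r.val ∧ r.val ≠ 7) → 1 ≤ ∑ j : Fin 2, (if j.val = 0 then 0 else C.coef r.val j.val)) := by
  decide +kernel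

theorem deg_eq (r : ℕ) : ChevalleyParabolic.deg C ({0} : Set ℕ) r =
    ∑ j : Fin 2, (if j.val = 0 then 0 else C.coef r j.val) := by
  rw [ChevalleyParabolic.deg, show chevG2.rank = 2 by decide]
  simp [Finset.sum_range_succ, Fin.sum_univ_two]

theorem vP_le : vP (D := chevG2) (F := F) ia.val ≤ upperAt (fun q => -wb q) 1 := by
  refine (Subgroup.closure_le _).2 ?_
  rintro g ⟨s, t, hs, hne, hg⟩
  obtain rfl := (xg_eq_iff C).1 hg
  refine ChevalleyParabolic.xg_mem_weight C hs.1 (fun k hk a b h => ?_) t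
  have h' := ChevalleyParabolic.xm_wJ C (J := ({0} : Set ℕ)) hk hs.1 h
  have hd := (deg_vals ⟨s, hs.1⟩).1 ⟨by
      have := (isNeg C).1 hs
      rwa [show chevG2.nroots / 2 = 6 by decide] at this, fun e => hne (by rw [simple_a]; simp at e; subst e; decide +kernel)⟩
  rw [← deg_eq] at hd
  simp only [wb]
  simp only at hd
  rw [h']
  have : (1 : ℤ) ≤ k := by exact_mod_cast hk
  have := mul_le_mul_of_nonneg_left hd (show (0 : ℤ) ≤ k by omega)
  push_cast
  linarith

theorem uP_le : uP (D := chevG2) (F := F) ia.val ≤ upperAt wb 1 := by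
  refine (Subgroup.closure_le _).2 ?_
  rintro g ⟨s, t, hs, hne, hg⟩
  obtain rfl := (xg_eq_iff C).1 hg
  refine ChevalleyParabolic.xg_mem_weight C hs.1 (fun k hk a b h => ?_) t
  have h' := ChevalleyParabolic.xm_wJ C (J := ({0} : Set ℕ)) hk hs.1 h
  have hd := (deg_vals ⟨s, hs.1⟩).2 ⟨by
      have := ((isPos C).1 hs).1
      rwa [show chevG2.nroots / 2 = 6 by decide] at this, fun e => hne (by rw [simple_a]; exact e)⟩
  rw [← deg_eq] at hd
  simp only [wb]
  simp only at hd
  rw [h']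
  have : (1 : ℤ) ≤ k := by exact_mod_cast hk
  have := mul_le_mul_of_nonneg_left hd (show (0 : ℤ) ≤ k by omega)
  push_cast
  linarith

theorem wb_val : ∀ s : Fin 12, ∑ j : Fin 2, (if j.val = 0 then 0 else C.coef s.val j.val) =
    (![-2, -1, -1, -1, 0, -1, 1, 0, 1, 1, 1, 2] : Fin 12 → ℤ) s := by decide +kernel

theorem wb_inl (j : Fin chevG2.rank) : wb (Sum.inl j) = 0 := by
  simp [wb, ChevalleyParabolic.wJ, ChevalleyAdjoint.cf]

theorem wb_inr (s : Fin chevG2.nroots) :
    wb (Sum.inr s) = ∑ j : Fin 2, (if j.val = 0 then 0 else C.coef s.val j.val) := by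
  rw [← deg_eq, wb, ChevalleyParabolic.wJ, ChevalleyParabolic.deg]
  rfl

theorem entry_mul {w : chevG2.Idx → ℤ} {a b : GL chevG2.Idx F} (ha : a ∈ upperAt w 1) (hb : b ∈ upperAt w 1)
    {i j : chevG2.Idx} (hij : w i = w j + 1) :
    ((a * b : GL chevG2.Idx F) : Matrix chevG2.Idx chevG2.Idx F) i j =
      (a : Matrix chevG2.Idx chevG2.Idx F) i j + (b : Matrix chevG2.Idx chevG2.Idx F) i j := by
  have hne : i ≠ j := by rintro rfl; omega
  have h2 : Raise w 2 (((a : Matrix chevG2.Idx chevG2.Idx F) - 1) * ((b : Matrix chevG2.Idx chevG2.Idx F) - 1)) :=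
    raise_mul w ha.1 hb.1
  have h3 : (((a : Matrix chevG2.Idx chevG2.Idx F) - 1) * ((b : Matrix chevG2.Idx chevG2.Idx F) - 1)) i j = 0 := by
    by_contra h
    have := h2 i j h
    omega
  have e : ((a * b : GL chevG2.Idx F) : Matrix chevG2.Idx chevG2.Idx F) =
      ((a : Matrix chevG2.Idx chevG2.Idx F) - 1) * ((b : Matrix chevG2.Idx chevG2.Idx F) - 1) +
        (a : Matrix chevG2.Idx chevG2.Idx F) + (b : Matrix chevG2.Idx chevG2.Idx F) - 1 := by
    rw [Units.val_mul]; noncomm_ring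
  rw [e, Matrix.sub_apply, Matrix.add_apply, Matrix.add_apply, h3, Matrix.one_apply_ne hne]
  ring

theorem ent_mul_v (j : Fin chevG2.rank) {s : Fin chevG2.nroots} (hs : wb (Sum.inr s) = 1) {a b : GL chevG2.Idx F}
    (ha : a ∈ vP (D := chevG2) (F := F) ia.val) (hb : b ∈ vP (D := chevG2) (F := F) ia.val) :
    ent j s (a * b) = ent j s a + ent j s b :=
  entry_mul (vP_le ha) (vP_le hb) (by rw [wb_inl, hs]; norm_num)

/-- the four coordinates -/
def cvec (g : GL chevG2.Idx F) : F × F × F × F := (c5 g, c3 g, c2 g, c1 g)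

theorem cvec_mul {a b : GL chevG2.Idx F} (ha : a ∈ vP (D := chevG2) (F := F) ia.val)
    (hb : b ∈ vP (D := chevG2) (F := F) ia.val) : cvec (a * b) = cvec a + cvec b := by
  simp only [cvec, c5, c3, c2, c1, Prod.mk_add_mk]
  refine Prod.ext ?_ (Prod.ext ?_ (Prod.ext ?_ ?_)) <;>
    exact ent_mul_v _ (by rw [wb_inr]; exact (wb_val ⟨_, by decide⟩).trans rfl) ha hb

theorem cvec_one : cvec (1 : GL chevG2.Idx F) = 0 := by
  simp [cvec, c5, c3, c2, c1, ent]

theorem cvec_inv (hF : Fintype.card F = 4) {a : GL chevG2.Idx F} (ha : a ∈ vP (D := chevG2) (F := F) ia.val) :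
    cvec a⁻¹ = cvec a := by
  have h := cvec_mul ha (inv_mem ha)
  rw [mul_inv_cancel, cvec_one] at h
  have h' : cvec a⁻¹ = -cvec a := eq_neg_of_add_eq_zero_right h.symm
  rw [h']
  simp [cvec, neg_eq hF]

theorem cc_vals : cc chevG2 5 1 = -1 ∧ cc chevG2 3 0 = -1 ∧ cc chevG2 2 1 = -3 ∧ cc chevG2 1 0 = -1 ∧
    cc chevG2 6 1 = 1 := by decide +kernel

theorem ent_self (j : Fin chevG2.rank) (s : Fin chevG2.nroots) {r : ℕ} (hr : r < chevG2.nroots)
    (hs : s.val = chevG2.neg r) (t : F) : ent j s (xg C r t) = (cc chevG2 r j.val : F) * t := by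
  have : s = ⟨chevG2.neg r, C.neg_lt r⟩ := Fin.ext hs
  subst this
  exact x_entry C hr t j

theorem cvec_xg (hF : Fintype.card F = 4) {r : ℕ} (hr : r < 6) (t : F) :
    cvec (xg C r t : GL chevG2.Idx F) =
      (if r = 5 then t else 0, if r = 3 then t else 0, if r = 2 then t else 0, if r = 1 then t else 0) := by
  have h2 := two_eq_zero hF
  obtain ⟨e5, e3, e2, e1, -⟩ := cc_vals
  have hn : ∀ r : Fin 6, chevG2.neg r.val = 11 - r.val := by decide +kernel
  have hr' : r < chevG2.nroots := lt_trans hr (by decide)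
  have hnr := hn ⟨r, hr⟩
  simp only at hnr
  refine Prod.ext ?_ (Prod.ext ?_ (Prod.ext ?_ ?_))
  · show c5 (xg C r t : GL chevG2.Idx F) = if r = 5 then t else 0
    split_ifs with h
    · subst h; rw [c5, ent_self _ _ hr' (by rw [hnr]), e5]; simp [neg_eq hF]
    · exact ent_other _ _ hr' (by rw [hnr]; simp only; omega) t
  · show c3 (xg C r t : GL chevG2.Idx F) = if r = 3 then t else 0
    split_ifs with h
    · subst h; rw [c3, ent_self _ _ hr' (by rw [hnr]), e3]; simp [neg_eq hF]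
    · exact ent_other _ _ hr' (by rw [hnr]; simp only; omega) t
  · show c2 (xg C r t : GL chevG2.Idx F) = if r = 2 then t else 0
    split_ifs with h
    · subst h; rw [c2, ent_self _ _ hr' (by rw [hnr]), e2]; simp; linear_combination (-2 * t) * h2
    · exact ent_other _ _ hr' (by rw [hnr]; simp only; omega) t
  · show c1 (xg C r t : GL chevG2.Idx F) = if r = 1 then t else 0
    split_ifs with h
    · subst h; rw [c1, ent_self _ _ hr' (by rw [hnr]), e1]; simp [neg_eq hF]
    · exact ent_other _ _ hr' (by rw [hnr]; simp only; omega) t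

theorem vP_gen {g : GL chevG2.Idx F}
    (hg : g ∈ {g : GL chevG2.Idx F | ∃ (s : ℕ) (t : F), chevG2.IsNegRoot s ∧ s ≠ chevG2.neg (chevG2.simple ia.val) ∧
      (g : Matrix chevG2.Idx chevG2.Idx F) = chevG2.x F s t}) :
    ∃ (r : ℕ) (t : F), r < 6 ∧ r ≠ 4 ∧ g = xg C r t := by
  obtain ⟨s, t, hs, hne, hg⟩ := hg
  refine ⟨s, t, ?_, fun e => hne (by rw [simple_a, e]; decide +kernel), (xg_eq_iff C).1 hg⟩
  have := (isNeg C).1 hs
  rwa [show chevG2.nroots / 2 = 6 by decide] at this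

theorem terms_up : chevG2.commTerms 7 5 = [] ∧ chevG2.commTerms 7 0 = [] ∧
    chevG2.commTerms 7 3 = [(5, 3, 1, 1)] ∧
    (chevG2.commTerms 7 2).map (fun c => (c.1, c.2.2)) = [(3, 1, 1), (5, 2, 1), (0, 1, 2)] ∧
    (chevG2.commTerms 7 1).map (fun c => (c.1, c.2.2)) = [(2, 1, 1), (3, 2, 1), (5, 3, 1), (0, 3, 2)] := by
  decide +kernel

theorem terms_coef : ((chevG2.commTerms 7 2).map (fun c => (c.2.1 : ZMod 2))).take 2 = [0, 1] ∧
    ((chevG2.commTerms 7 1).map (fun c => (c.2.1 : ZMod 2))).take 3 = [1, 1, 1] := by decide +kernel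

theorem cast_parity (hF : Fintype.card F = 4) (z : ℤ) : (z : F) = if (z : ZMod 2) = 0 then 0 else 1 := by
  have h2 := two_eq_zero hF
  rcases Int.even_or_odd z with ⟨k, rfl⟩ | ⟨k, rfl⟩
  · have hz : ((k + k : ℤ) : ZMod 2) = 0 := by
      push_cast
      rcases (show ∀ a : ZMod 2, a = 0 ∨ a = 1 by decide) (k : ZMod 2) with h | h <;> rw [h] <;> decide
    rw [if_pos hz]; push_cast; linear_combination (k : F) * h2
  · have hz : ((2 * k + 1 : ℤ) : ZMod 2) ≠ 0 := by
      push_cast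
      rcases (show ∀ a : ZMod 2, a = 0 ∨ a = 1 by decide) (k : ZMod 2) with h | h <;> rw [h] <;> decide
    rw [if_neg hz]; push_cast; linear_combination (k : F) * h2

/-- the coordinate map of `x_a(s)` -/
def Tup (s : F) (v : F × F × F × F) : F × F × F × F :=
  (v.1 + v.2.1 * s + v.2.2.1 * (s * s) + v.2.2.2 * (s * s * s), v.2.1 + v.2.2.2 * (s * s),
    v.2.2.1 + v.2.2.2 * s, v.2.2.2)

theorem Tup_add (s : F) (v w : F × F × F × F) : Tup s (v + w) = Tup s v + Tup s w := by
  simp only [Tup, Prod.mk_add_mk, Prod.fst_add, Prod.snd_add]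
  refine Prod.ext ?_ (Prod.ext ?_ (Prod.ext ?_ ?_)) <;> simp only <;> ring

theorem phi_a_up (s : F) : φa F (up s) = xg C 7 s := by
  show ChevalleySL2.phi (rels C (simple_lt C ia.isLt)) (up s) = _
  rw [phi_up C (simple_lt C ia.isLt), simple_a]

theorem phi_a_lo (s : F) : φa F (lo s) = xg C 4 s := by
  show ChevalleySL2.phi (rels C (simple_lt C ia.isLt)) (lo s) = _
  rw [phi_lo C (simple_lt C ia.isLt), simple_a, show chevG2.neg 7 = 4 by decide +kernel]

/-- induction over the first layer -/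
theorem cvec_conj (hF : Fintype.card F = 4) (P : SL(2, F)) (T : F × F × F × F → F × F × F × F)
    (hT : ∀ v w, T (v + w) = T v + T w)
    (hgen : ∀ r t, r < 6 → r ≠ 4 → cvec (φa F P * xg C r t * (φa F P)⁻¹) = T (cvec (xg C r t)))
    {v : GL chevG2.Idx F} (hv : v ∈ vP (D := chevG2) (F := F) ia.val) :
    cvec (φa F P * v * (φa F P)⁻¹) = T (cvec v) := by
  have T0 : T 0 = 0 := by
    have h := hT 0 0
    rw [add_zero] at h
    exact left_eq_add.1 h
  induction hv using Subgroup.closure_induction with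
  | mem x hx =>
    obtain ⟨r, t, h1, h2, rfl⟩ := vP_gen hx
    exact hgen r t h1 h2
  | one => rw [mul_one, mul_inv_cancel, cvec_one, T0]
  | mul a b ha hb iha ihb =>
    rw [show φa F P * (a * b) * (φa F P)⁻¹ = (φa F P * a * (φa F P)⁻¹) * (φa F P * b * (φa F P)⁻¹) by group,
      cvec_mul ((node C ia).normV P a ha) ((node C ia).normV P b hb), iha, ihb, cvec_mul ha hb, hT]
  | inv a ha iha =>
    rw [show φa F P * a⁻¹ * (φa F P)⁻¹ = (φa F P * a * (φa F P)⁻¹)⁻¹ by group,
      cvec_inv hF ((node C ia).normV P a ha), iha, cvec_inv hF ha]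

theorem cvec_up (hF : Fintype.card F = 4) (s : F) {v : GL chevG2.Idx F}
    (hv : v ∈ vP (D := chevG2) (F := F) ia.val) :
    cvec (φa F (up s) * v * (φa F (up s))⁻¹) = Tup s (cvec v) := by
  refine cvec_conj hF _ _ (Tup_add s) (fun r t h1 h4 => ?_) hv
  have hmem : ∀ r u, r < 6 → r ≠ 4 → xg C r u ∈ vP (D := chevG2) (F := F) ia.val := fun r u a b =>
    Subgroup.subset_closure ⟨r, u, (isNeg C).2 (by rwa [show chevG2.nroots / 2 = 6 by decide]),
      by rw [simple_a, show chevG2.neg 7 = 4 by decide +kernel]; exact b, rfl⟩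
  have hrl : r < chevG2.nroots := lt_trans h1 (by decide)
  have hd : ∀ r : Fin 6, r.val ≠ 4 → r.val ≠ 7 ∧ r.val ≠ chevG2.neg 7 := by decide +kernel
  have h := comm_formula C (r := 7) (s := r) (by decide) hrl (hd ⟨r, h1⟩ h4).1 (hd ⟨r, h1⟩ h4).2 (-s) t
  have e : φa F (up s) * xg C r t * (φa F (up s))⁻¹ = xg C r t * wg C (chevG2.commWord F 7 r (-s) t) := by
    rw [phi_a_up, xg_inv, mul_assoc, h, ← mul_assoc, ← mul_assoc, xg_mul, add_neg_cancel, xg_zero, one_mul]
  rw [e]
  obtain ⟨t5, t0, t3, t2, t1⟩ := terms_up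
  obtain ⟨p2, p1⟩ := terms_coef
  interval_cases r
  · simp [ChevalleyDatum.commWord, t0, wg, Tup, cvec_xg hF]
  · obtain ⟨⟨a1, z1, i1, j1⟩, L1, eL⟩ := List.exists_cons_of_length_pos (l := chevG2.commTerms 7 1)
      (by decide +kernel)
    obtain ⟨⟨a2, z2, i2, j2⟩, L2, eL2⟩ := List.exists_cons_of_length_pos (l := L1) (by
      have := congrArg List.length t1
      rw [eL] at this; simp at this; omega)
    obtain ⟨⟨a3, z3, i3, j3⟩, L3, eL3⟩ := List.exists_cons_of_length_pos (l := L2) (by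
      have := congrArg List.length t1
      rw [eL, eL2] at this; simp at this; omega)
    obtain ⟨⟨a4, z4, i4, j4⟩, L4, eL4⟩ := List.exists_cons_of_length_pos (l := L3) (by
      have := congrArg List.length t1
      rw [eL, eL2, eL3] at this; simp at this; omega)
    subst eL4 eL3 eL2
    rw [eL] at t1 p1
    simp at t1 p1
    obtain ⟨⟨rfl, rfl, rfl⟩, ⟨rfl, rfl, rfl⟩, ⟨rfl, rfl, rfl⟩, ⟨rfl, rfl, rfl⟩, rfl⟩ := t1
    obtain ⟨q1, q2, q3⟩ := p1
    simp only [ChevalleyDatum.commWord, eL, wg, List.map_cons, List.map_nil, List.prod_cons, List.prod_nil, mul_one,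
      neg_neg, pow_one]
    rw [cvec_mul (hmem _ _ (by norm_num) (by norm_num))
        (mul_mem (hmem _ _ (by norm_num) (by norm_num)) (mul_mem (hmem _ _ (by norm_num) (by norm_num))
          (mul_mem (hmem _ _ (by norm_num) (by norm_num)) (hmem _ _ (by norm_num) (by norm_num))))),
      cvec_mul (hmem _ _ (by norm_num) (by norm_num)) (mul_mem (hmem _ _ (by norm_num) (by norm_num))
          (mul_mem (hmem _ _ (by norm_num) (by norm_num)) (hmem _ _ (by norm_num) (by norm_num)))),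
      cvec_mul (hmem _ _ (by norm_num) (by norm_num))
          (mul_mem (hmem _ _ (by norm_num) (by norm_num)) (hmem _ _ (by norm_num) (by norm_num))),
      cvec_mul (hmem _ _ (by norm_num) (by norm_num)) (hmem _ _ (by norm_num) (by norm_num)),
      cvec_xg hF (by norm_num), cvec_xg hF (by norm_num), cvec_xg hF (by norm_num), cvec_xg hF (by norm_num),
      cvec_xg hF (by norm_num), cast_parity hF z1, cast_parity hF z2, cast_parity hF z3]
    simp [q1, q2, q3, Tup]
    refine ⟨?_, ?_, ?_⟩ <;> ring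
  · obtain ⟨⟨a1, z1, i1, j1⟩, L1, eL⟩ := List.exists_cons_of_length_pos (l := chevG2.commTerms 7 2)
      (by decide +kernel)
    obtain ⟨⟨a2, z2, i2, j2⟩, L2, eL2⟩ := List.exists_cons_of_length_pos (l := L1) (by
      have := congrArg List.length t2
      rw [eL] at this; simp at this; omega)
    obtain ⟨⟨a3, z3, i3, j3⟩, L3, eL3⟩ := List.exists_cons_of_length_pos (l := L2) (by
      have := congrArg List.length t2
      rw [eL, eL2] at this; simp at this; omega)
    subst eL3 eL2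
    rw [eL] at t2 p2
    simp at t2 p2
    obtain ⟨⟨rfl, rfl, rfl⟩, ⟨rfl, rfl, rfl⟩, ⟨rfl, rfl, rfl⟩, rfl⟩ := t2
    obtain ⟨q1, q2⟩ := p2
    simp only [ChevalleyDatum.commWord, eL, wg, List.map_cons, List.map_nil, List.prod_cons, List.prod_nil, mul_one,
      neg_neg, pow_one]
    rw [cvec_mul (hmem _ _ (by norm_num) (by norm_num)) (mul_mem (hmem _ _ (by norm_num) (by norm_num))
          (mul_mem (hmem _ _ (by norm_num) (by norm_num)) (hmem _ _ (by norm_num) (by norm_num)))),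
      cvec_mul (hmem _ _ (by norm_num) (by norm_num))
          (mul_mem (hmem _ _ (by norm_num) (by norm_num)) (hmem _ _ (by norm_num) (by norm_num))),
      cvec_mul (hmem _ _ (by norm_num) (by norm_num)) (hmem _ _ (by norm_num) (by norm_num)),
      cvec_xg hF (by norm_num), cvec_xg hF (by norm_num), cvec_xg hF (by norm_num), cvec_xg hF (by norm_num),
      cast_parity hF z1, cast_parity hF z2]
    simp [q1, q2, Tup]
    ring
  · simp only [ChevalleyDatum.commWord, t3, wg, List.map_cons, List.map_nil, List.prod_cons, List.prod_nil, mul_one,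
      neg_neg, pow_one]
    rw [cvec_mul (hmem _ _ (by norm_num) (by norm_num)) (hmem _ _ (by norm_num) (by norm_num)),
      cvec_xg hF (by norm_num), cvec_xg hF (by norm_num), cast_parity hF 3]
    simp [Tup, show (3 : ZMod 2) ≠ 0 by decide]
    ring
  · omega
  · simp [ChevalleyDatum.commWord, t5, wg, Tup, cvec_xg hF]

/-- the coordinate map of the Weyl element -/
def Trev (v : F × F × F × F) : F × F × F × F := (v.2.2.2, v.2.2.1, v.2.1, v.1)

/-- the Weyl matrix in characteristic two -/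
def welm : SL(2, F) := ChevalleySL2.wel

theorem wact_a : ∀ r : Fin 6, chevG2.reflectRoot 0 r.val = (![0, 5, 3, 2, 7, 1] : Fin 6 → ℕ) r := by decide +kernel

theorem cvec_wel (hF : Fintype.card F = 4) {v : GL chevG2.Idx F}
    (hv : v ∈ vP (D := chevG2) (F := F) ia.val) :
    cvec (φa F welm * v * (φa F welm)⁻¹) = Trev (cvec v) := by
  refine cvec_conj hF _ _ (fun v w => rfl) (fun r t h1 h4 => ?_) hv
  have hn : φa F welm = ns C 0 := ChevalleySL2.phi_wel (rels C (simple_lt C ia.isLt))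
  have he : (C.eta 0 r : F) = 1 := by
    rcases C.eta_sq 0 r with h | h <;> rw [h] <;> simp [neg_eq hF]
  rw [hn, ns, ng_simple_conj C (by decide) (lt_trans h1 (by decide)), he, one_mul]
  have hw := wact_a ⟨r, h1⟩
  simp only at hw
  rw [show chevG2.reflectRoot 0 r = _ from hw]
  interval_cases r <;> first | omega | simp [cvec_xg hF, Trev]

/-- the `-b` coordinate splits off -/
theorem vP_split (hF : Fintype.card F = 4) {v : GL chevG2.Idx F} (hv : v ∈ vP (D := chevG2) (F := F) ia.val) :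
    ∃ w ∈ vP (D := chevG2) (F := F) ib.val, v = w * (node C ib (F := F)).φ (lo (c5 v)) := by
  have hlo : ∀ a : F, (node C ib (F := F)).φ (lo a) = xg C 5 a := fun a => by
    show ChevalleySL2.phi (rels C (simple_lt C ib.isLt)) (lo a) = _
    rw [phi_lo C (simple_lt C ib.isLt), simple_b, show chevG2.neg 6 = 5 by decide +kernel]
  induction hv using Subgroup.closure_induction with
  | mem x hx =>
    obtain ⟨r, t, h1, h2, rfl⟩ := vP_gen hx
    have hc : c5 (xg C r t : GL chevG2.Idx F) = if r = 5 then t else 0 := congrArg Prod.fst (cvec_xg hF h1 t)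
    rw [hc]
    by_cases h : r = 5
    · subst h
      exact ⟨1, one_mem _, by rw [if_pos rfl, hlo, one_mul]⟩
    · refine ⟨xg C r t, Subgroup.subset_closure ⟨r, t, (isNeg C).2 (by rwa [show chevG2.nroots / 2 = 6 by decide]),
        by rw [simple_b, show chevG2.neg 6 = 5 by decide +kernel]; exact h, rfl⟩, ?_⟩
      rw [if_neg h, hlo, xg_zero, mul_one]
  | one => exact ⟨1, one_mem _, by simp [c5, ent, hlo]⟩
  | mul a b ha hb iha ihb =>
    obtain ⟨w1, hw1, e1⟩ := iha
    obtain ⟨w2, hw2, e2⟩ := ihb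
    have hc : c5 (a * b) = c5 a + c5 b := congrArg Prod.fst (cvec_mul ha hb)
    refine ⟨_, mul_mem hw1 ((node C ib).normV (lo (c5 a)) w2 hw2), ?_⟩
    rw [hc, show (node C ib (F := F)).φ (lo (c5 a + c5 b)) =
        (node C ib (F := F)).φ (lo (c5 a)) * (node C ib (F := F)).φ (lo (c5 b)) by simp only [hlo, xg_mul]]
    conv_lhs => rw [e1, e2]
    group
  | inv a ha iha =>
    obtain ⟨w, hw, e⟩ := iha
    have hc : c5 a⁻¹ = c5 a := congrArg Prod.fst (cvec_inv hF ha)
    refine ⟨_, (node C ib).normV (lo (c5 a))⁻¹ _ (inv_mem hw), ?_⟩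
    have hself : (node C ib (F := F)).φ (lo (c5 a)) = ((node C ib (F := F)).φ (lo (c5 a)))⁻¹ := by
      rw [hlo, xg_inv, neg_eq hF]
    rw [hc, map_inv]
    conv_lhs => rw [e]
    simp only [mul_inv_rev, inv_inv]
    have hsq : (node C ib (F := F)).φ (lo (c5 a)) * (node C ib (F := F)).φ (lo (c5 a)) = 1 := by
      nth_rw 2 [hself]; rw [mul_inv_cancel]
    simp only [mul_assoc, hsq, mul_one]

theorem uP_gen {g : GL chevG2.Idx F}
    (hg : g ∈ {g : GL chevG2.Idx F | ∃ (s : ℕ) (t : F), chevG2.IsPosRoot s ∧ s ≠ chevG2.simple ia.val ∧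
      (g : Matrix chevG2.Idx chevG2.Idx F) = chevG2.x F s t}) :
    ∃ (r : ℕ) (t : F), 6 ≤ r ∧ r < 12 ∧ r ≠ 7 ∧ g = xg C r t := by
  obtain ⟨s, t, hs, hne, hg⟩ := hg
  refine ⟨s, t, ?_, hs.1, fun e => hne (by rw [simple_a, e]), (xg_eq_iff C).1 hg⟩
  have := ((isPos C).1 hs).1
  rwa [show chevG2.nroots / 2 = 6 by decide] at this

theorem c6_mul {a b : GL chevG2.Idx F} (ha : a ∈ uP (D := chevG2) (F := F) ia.val)
    (hb : b ∈ uP (D := chevG2) (F := F) ia.val) : c6 (a * b) = c6 a + c6 b :=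
  entry_mul (uP_le ha) (uP_le hb) (by rw [wb_inl, wb_inr]; exact ((wb_val ⟨5, by decide⟩).trans rfl) ▸ by norm_num)

theorem c6_inv (hF : Fintype.card F = 4) {a : GL chevG2.Idx F} (ha : a ∈ uP (D := chevG2) (F := F) ia.val) :
    c6 a⁻¹ = c6 a := by
  have h := c6_mul ha (inv_mem ha)
  rw [mul_inv_cancel] at h
  have h1 : c6 (1 : GL chevG2.Idx F) = 0 := by simp [c6, ent]
  rw [h1] at h
  rw [eq_neg_of_add_eq_zero_right h.symm, neg_eq hF]

theorem c6_xg {r : ℕ} (hr : r < 12) (h6 : 6 ≤ r) (t : F) :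
    c6 (xg C r t : GL chevG2.Idx F) = if r = 6 then t else 0 := by
  split_ifs with h
  · subst h
    rw [c6, ent_self _ _ (by decide) (by decide +kernel), cc_vals.2.2.2.2]
    simp
  · refine ent_other _ _ hr ?_ t
    have hn : ∀ r : Fin 12, 6 ≤ r.val → r.val ≠ 6 → (5 : ℕ) ≠ chevG2.neg r.val := by decide +kernel
    exact hn ⟨r, hr⟩ h6 h

/-- the `b` coordinate splits off -/
theorem uP_split (hF : Fintype.card F = 4) {u : GL chevG2.Idx F} (hu : u ∈ uP (D := chevG2) (F := F) ia.val) :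
    ∃ w ∈ uP (D := chevG2) (F := F) ib.val, u = (node C ib (F := F)).φ (up (c6 u)) * w := by
  have hup : ∀ a : F, (node C ib (F := F)).φ (up a) = xg C 6 a := fun a => by
    show ChevalleySL2.phi (rels C (simple_lt C ib.isLt)) (up a) = _
    rw [phi_up C (simple_lt C ib.isLt), simple_b]
  induction hu using Subgroup.closure_induction with
  | mem x hx =>
    obtain ⟨r, t, h6, h12, h7, rfl⟩ := uP_gen hx
    rw [c6_xg h12 h6]
    by_cases h : r = 6
    · subst h
      exact ⟨1, one_mem _, by rw [if_pos rfl, hup, mul_one]⟩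
    · refine ⟨xg C r t, Subgroup.subset_closure ⟨r, t,
        (isPos C).2 ⟨by rwa [show chevG2.nroots / 2 = 6 by decide], h12⟩, by rw [simple_b]; exact h, rfl⟩, ?_⟩
      rw [if_neg h, hup, xg_zero, one_mul]
  | one => exact ⟨1, one_mem _, by simp [c6, ent, hup]⟩
  | mul a b ha hb iha ihb =>
    obtain ⟨w1, hw1, e1⟩ := iha
    obtain ⟨w2, hw2, e2⟩ := ihb
    refine ⟨_, mul_mem ((node C ib).normU (up (c6 b))⁻¹ w1 hw1) hw2, ?_⟩
    rw [c6_mul ha hb, show (node C ib (F := F)).φ (up (c6 a + c6 b)) =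
        (node C ib (F := F)).φ (up (c6 a)) * (node C ib (F := F)).φ (up (c6 b)) by simp only [hup, xg_mul], map_inv]
    conv_lhs => rw [e1, e2]
    group
  | inv a ha iha =>
    obtain ⟨w, hw, e⟩ := iha
    refine ⟨_, (node C ib).normU (up (c6 a)) _ (inv_mem hw), ?_⟩
    have hself : (node C ib (F := F)).φ (up (c6 a)) = ((node C ib (F := F)).φ (up (c6 a)))⁻¹ := by
      rw [hup, xg_inv, neg_eq hF]
    rw [c6_inv hF ha]
    conv_lhs => rw [e]
    simp only [mul_inv_rev]
    have hsq : (node C ib (F := F)).φ (up (c6 a)) * (node C ib (F := F)).φ (up (c6 a)) = 1 := by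
      nth_rw 2 [hself]; rw [mul_inv_cancel]
    simp only [← mul_assoc, hsq, one_mul]

theorem terms_six : chevG2.commTerms 7 9 = [(10, 3, 1, 1)] ∧ chevG2.commTerms 7 10 = [] ∧
    chevG2.commTerms 7 11 = [] ∧
    (∀ c ∈ chevG2.commTerms 7 6, 7 < c.1 ∧ c.1 < 12) ∧ (∀ c ∈ chevG2.commTerms 7 8, 7 < c.1 ∧ c.1 < 12) := by
  decide +kernel

theorem c6_up (hF : Fintype.card F = 4) (s : F) {u : GL chevG2.Idx F}
    (hu : u ∈ uP (D := chevG2) (F := F) ia.val) : c6 (φa F (up s) * u * (φa F (up s))⁻¹) = c6 u := by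
  induction hu using Subgroup.closure_induction with
  | mem x hx =>
    obtain ⟨r, t, h6, h12, h7, rfl⟩ := uP_gen hx
    have hd : ∀ r : Fin 12, 6 ≤ r.val → r.val ≠ 7 → r.val ≠ chevG2.neg 7 ∧
        ∀ c ∈ chevG2.commTerms 7 r.val, 7 < c.1 ∧ c.1 < 12 := by decide +kernel
    obtain ⟨hne, hterm⟩ := hd ⟨r, h12⟩ h6 h7
    have h := comm_formula C (r := 7) (s := r) (by decide) h12 h7 hne (-s) t
    have e : φa F (up s) * xg C r t * (φa F (up s))⁻¹ = xg C r t * wg C (chevG2.commWord F 7 r (-s) t) := by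
      rw [phi_a_up, xg_inv, mul_assoc, h, ← mul_assoc, ← mul_assoc, xg_mul, add_neg_cancel, xg_zero, one_mul]
    rw [e]
    have hw : ∀ L : List (ℕ × F), (∀ c ∈ L, 7 < c.1 ∧ c.1 < 12) →
        wg C L ∈ uP (D := chevG2) (F := F) ia.val ∧ c6 (wg C L : GL chevG2.Idx F) = 0 := by
      intro L
      induction L with
      | nil => intro _; simp [wg, c6, ent]
      | cons a L ih =>
        intro hL
        obtain ⟨ih1, ih2⟩ := ih fun c hc => hL c (List.mem_cons_of_mem _ hc)
        obtain ⟨ha1, ha2⟩ := hL a List.mem_cons_self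
        have hm : (xg C a.1 a.2 : GL chevG2.Idx F) ∈ uP (D := chevG2) (F := F) ia.val :=
          Subgroup.subset_closure ⟨a.1, a.2,
            (isPos C).2 ⟨by rw [show chevG2.nroots / 2 = 6 by decide]; omega, ha2⟩, by rw [simple_a]; omega, rfl⟩
        have e' : wg C (a :: L) = xg C a.1 a.2 * wg C L := by simp [wg]
        rw [e']
        exact ⟨mul_mem hm ih1, by rw [c6_mul hm ih1, ih2, c6_xg ha2 (by omega), if_neg (by omega), add_zero]⟩
    obtain ⟨w1, w2⟩ := hw (chevG2.commWord F 7 r (-s) t) (by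
      intro c hc
      simp only [ChevalleyDatum.commWord, List.mem_map] at hc
      obtain ⟨d, hd, rfl⟩ := hc
      exact hterm d hd)
    rw [c6_mul (Subgroup.subset_closure ⟨r, t,
      (isPos C).2 ⟨by rwa [show chevG2.nroots / 2 = 6 by decide], h12⟩, by rw [simple_a]; exact h7, rfl⟩) w1, w2,
      add_zero]
  | one => rw [mul_one, mul_inv_cancel]
  | mul a b ha hb iha ihb =>
    rw [show φa F (up s) * (a * b) * (φa F (up s))⁻¹ =
        (φa F (up s) * a * (φa F (up s))⁻¹) * (φa F (up s) * b * (φa F (up s))⁻¹) by group,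
      c6_mul ((node C ia).normU _ a ha) ((node C ia).normU _ b hb), iha, ihb, c6_mul ha hb]
  | inv a ha iha =>
    rw [show φa F (up s) * a⁻¹ * (φa F (up s))⁻¹ = (φa F (up s) * a * (φa F (up s))⁻¹)⁻¹ by group,
      c6_inv hF ((node C ia).normU _ a ha), iha, c6_inv hF ha]

/-- a form with a nice middle at the long fundamental root -/
theorem exists_good_form (hF : Fintype.card F = 4) {g : GL chevG2.Idx F} (hg : g ∈ chevG2.group F) :
    ∃ k ∈ chevG2.group F, ∃ v ∈ vP (D := chevG2) (F := F) ib.val, ∃ u ∈ uP (D := chevG2) (F := F) ib.val,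
      ∃ (M : SL(2, F)) (A : Fˣ), (M = 1 ∨ M 0 0 + M 1 1 ≠ 0) ∧
        k * g * k⁻¹ = v * ((node C ib (F := F)).φ M * tor A 1) * u := by
  classical
  have hU : chevG2.posUnipotent F ≤ gen (node C (F := F)) := by
    rw [gen_eq C]; exact U_le
  obtain ⟨k, hk, v, hv, h, hh, u, hu, e⟩ :=
    GaussPrescribed77.exists_form (node C (F := F)) hU (g := g) (by rw [gen_eq C]; exact hg)
  rw [gen_eq C] at hk
  obtain ⟨A, B, rfl⟩ := eq_tor hh
  by_cases hn : (node C ib).Nondeg v (tor A B) u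
  swap
  · simp only [Node.Nondeg, not_or, not_not] at hn
    obtain ⟨hB, hv', hu'⟩ := hn
    rw [show (node C ib (F := F)).α (tor A B) = B from rootVal_b A B] at hB
    subst hB
    exact ⟨k, hk, v, hv', u, hu', 1, A, Or.inl rfl, by rw [map_one, one_mul]; exact e⟩
  obtain ⟨A, B, hB1, k, hk, v, hv, u, hu, e⟩ : ∃ A B : Fˣ, B ≠ 1 ∧ Form g A B := by
    obtain ⟨t, ht⟩ : ∃ t : Fˣ, t ^ 2 * B ≠ 1 := by
      by_contra hc
      push Not at hc
      have h1 := hc 1
      rw [one_pow, one_mul] at h1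
      subst h1
      obtain ⟨γ, hγ⟩ : ∃ γ : Fˣ, γ ≠ 1 := by
        have : Nontrivial Fˣ := Fintype.one_lt_card_iff_nontrivial.1 (by rw [Fintype.card_units, hF]; norm_num)
        exact exists_ne 1
      have h2 := hc γ
      rw [mul_one] at h2
      exact hγ (by
        calc γ = γ ^ 3 * (γ ^ 2)⁻¹ := by group
          _ = 1 := by rw [h2, pow_three hF]; simp)
    exact ⟨_, _, ht, step_b (⟨k, hk, v, hv, u, hu, e, hn⟩ : FormN ib g A B) t⟩
  obtain ⟨c, d, v', hv', u', hu', eq, -⟩ := (node C ia).middle hv (tor_mem A B) hu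
  rw [show (node C ia (F := F)).α (tor A B) = A from rootVal_a A B] at eq
  obtain ⟨A0, hA0⟩ : ∃ A0, A0 = lo c * dconj A (up d) := ⟨_, rfl⟩
  rw [← hA0] at eq
  obtain ⟨T, hT⟩ : ∃ T, T = B ^ 2 := ⟨_, rfl⟩
  have hT2 : T ^ 2 = B := by
    rw [hT, ← pow_mul, show 2 * 2 = 3 + 1 by norm_num, pow_succ, pow_three hF, one_mul]
  obtain ⟨kap, hkap⟩ : ∃ kap : F, kap = ((B : F) + 1) / (B : F) := ⟨_, rfl⟩
  have hgood : ∀ K : SL(2, F), (K * A0 * dconj A K⁻¹) 0 0 ≠ 0 →
      c5 (φa F K * v' * (φa F K)⁻¹) * c6 (φa F K * u' * (φa F K)⁻¹) ≠ kap →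
      ∃ k ∈ chevG2.group F, ∃ v ∈ vP (D := chevG2) (F := F) ib.val, ∃ u ∈ uP (D := chevG2) (F := F) ib.val,
        ∃ (M : SL(2, F)) (A : Fˣ), (M = 1 ∨ M 0 0 + M 1 1 ≠ 0) ∧
          k * g * k⁻¹ = v * ((node C ib (F := F)).φ M * tor A 1) * u := by
    intro K hne hprod
    obtain ⟨c', e', hce⟩ := ldu (K * A0 * dconj A K⁻¹) (Units.mk0 _ hne) rfl
    obtain ⟨w5, hw5, ev⟩ := vP_split hF ((node C ia).normV K v' hv')
    obtain ⟨w6, hw6, eu⟩ := uP_split hF ((node C ia).normU K u' hu')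
    obtain ⟨f, hf⟩ : ∃ f, f = c5 (φa F K * v' * (φa F K)⁻¹) := ⟨_, rfl⟩
    obtain ⟨ee, hee⟩ : ∃ ee, ee = c6 (φa F K * u' * (φa F K)⁻¹) := ⟨_, rfl⟩
    rw [← hf] at ev hprod
    rw [← hee] at eu hprod
    obtain ⟨D0, hD0⟩ : ∃ D0, D0 = φa F (dia (Units.mk0 _ hne)) * tor A B := ⟨_, rfl⟩
    obtain ⟨A1, hA1⟩ : ∃ A1, D0 = tor A1 B := by
      refine ⟨(Units.mk0 _ hne) ^ 2 * A, ?_⟩
      rw [hD0, phi_dia', tor_mul, inv_pow, pow_three hF, inv_one, one_mul]
    have hx4 : φa F (lo c') ∈ vP (D := chevG2) (F := F) ib.val := by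
      rw [phi_a_lo]
      exact Subgroup.subset_closure ⟨4, c', (isNeg C).2 (by decide),
        by rw [simple_b]; decide +kernel, rfl⟩
    have hx7 : φa F (up (((A⁻¹ : Fˣ) : F) * e')) ∈ uP (D := chevG2) (F := F) ib.val := by
      rw [phi_a_up]
      exact Subgroup.subset_closure ⟨7, _, (isPos C).2 (by decide), by rw [simple_b]; decide, rfl⟩
    obtain ⟨X6, hX6⟩ : ∃ X6, X6 = (node C ib (F := F)).φ (up ee) := ⟨_, rfl⟩
    obtain ⟨X5, hX5⟩ : ∃ X5, X5 = (node C ib (F := F)).φ (lo f) := ⟨_, rfl⟩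
    have conjform : φa F K * k * g * (φa F K * k)⁻¹ =
        (w5 * (X5 * φa F (lo c') * X5⁻¹)) * (X5 * D0 * X6) *
          ((X6⁻¹ * φa F (up (((A⁻¹ : Fˣ) : F) * e')) * X6) * w6) := by
      have hcm : tor A B * (φa F K)⁻¹ = φa F (dconj A K⁻¹) * tor A B := by
        rw [← map_inv]
        have h := (node C ia (F := F)).H_conj _ (tor_mem A B) K⁻¹
        rw [show (node C ia (F := F)).α (tor A B) = A from rootVal_a A B] at h
        rw [← h]; group
      have hup : φa F (up e') * tor A B = tor A B * φa F (up (((A⁻¹ : Fˣ) : F) * e')) := by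
        rw [← (node C ia (F := F)).up_comm (tor_mem A B),
          show (node C ia (F := F)).α (tor A B) = A from rootVal_a A B, ← mul_assoc, Units.mul_inv, one_mul]
      calc φa F K * k * g * (φa F K * k)⁻¹ = φa F K * (k * g * k⁻¹) * (φa F K)⁻¹ := by group
        _ = φa F K * (v' * (φa F A0 * tor A B) * u') * (φa F K)⁻¹ := by rw [e, eq]
        _ = (φa F K * v' * (φa F K)⁻¹) * (φa F K * φa F A0 * (tor A B * (φa F K)⁻¹)) *
            (φa F K * u' * (φa F K)⁻¹) := by group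
        _ = (w5 * X5) * (φa F (lo c' * dia (Units.mk0 _ hne) * up e') * tor A B) * (X6 * w6) := by
            rw [ev, eu, hcm, ← hX5, ← hX6, ← hce, map_mul, map_mul]; group
        _ = (w5 * X5) * (φa F (lo c') * φa F (dia (Units.mk0 _ hne)) * (φa F (up e') * tor A B)) * (X6 * w6) := by
            rw [map_mul, map_mul]; group
        _ = _ := by rw [hup, hD0]; group
    have hXmid : X5 * D0 * X6 = (node C ib (F := F)).φ (lo f * dconj B (up ee) * dia T) * tor (T * A1) 1 := by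
      have h := (node C ib (F := F)).H_conj _ (tor_mem A1 B) (up ee)
      rw [show (node C ib (F := F)).α (tor A1 B) = B from rootVal_b A1 B] at h
      have htor : tor A1 B = (node C ib (F := F)).φ (dia T) * tor (T * A1) 1 := by
        rw [dia_b, tor_mul, inv_mul_cancel_left, mul_one, hT2]
      rw [map_mul, map_mul, ← h, hA1, hX5, hX6]
      conv_rhs => rw [mul_assoc ((node C ib (F := F)).φ (lo f) * _), ← htor]
      group
    refine ⟨φa F K * k, mul_mem (phi_mem _) hk, _, mul_mem hw5 ?_, _, mul_mem ?_ hw6,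
      lo f * dconj B (up ee) * dia T, T * A1, Or.inr ?_, by rw [conjform, hXmid]⟩
    · rw [hX5]; exact (node C ib).normV (lo f) _ hx4
    · rw [hX6]
      have := (node C ib).normU (up ee)⁻¹ _ hx7
      simp only [map_inv, inv_inv] at this
      exact this
    · intro h0
      apply hprod
      have h2 := two_eq_zero hF
      have hT' : (T : F) ^ 2 = (B : F) := by simpa using congrArg Units.val hT2
      have hTne : (T : F) ≠ 0 := T.ne_zero
      have hBne : (B : F) ≠ 0 := B.ne_zero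
      simp [Matrix.mul_apply, Fin.sum_univ_two] at h0
      field_simp at h0
      rw [hkap, eq_div_iff hBne]
      linear_combination h0 - hT' + (-(1 : F) - (B : F)) * h2
  by_contra hfail
  have hkne : kap ≠ 0 := by
    rw [hkap]
    intro h0
    rw [div_eq_zero_iff] at h0
    rcases h0 with h0 | h0
    · exact hB1 (Units.ext (show (B : F) = 1 by linear_combination h0 - two_eq_zero hF))
    · exact B.ne_zero h0
  have fam : ∀ K0 : SL(2, F), ∃ c : F, c ≠ 0 ∧ ∃ s0 : F, ∀ s : F, s ≠ s0 →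
      (Tup s (cvec (φa F K0 * v' * (φa F K0)⁻¹))).1 = c := by
    intro K0
    obtain ⟨ec, hec⟩ : ∃ ec, ec = c6 (φa F K0 * u' * (φa F K0)⁻¹) := ⟨_, rfl⟩
    obtain ⟨Q, hQ⟩ : ∃ Q, Q = K0 * A0 * dconj A K0⁻¹ := ⟨_, rfl⟩
    have hall : ∀ s : F, Q 0 0 + s * Q 1 0 ≠ 0 →
        (Tup s (cvec (φa F K0 * v' * (φa F K0)⁻¹))).1 * ec = kap := by
      intro s hs
      by_contra hp
      apply hfail
      refine hgood (up s * K0) ?_ ?_
      · have e1 : up s * K0 * A0 * dconj A (up s * K0)⁻¹ = up s * Q * dconj A (up s)⁻¹ := by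
          rw [mul_inv_rev, dconj_mul, hQ]; group
        have e2 : (up s * Q * dconj A (up s)⁻¹) 0 0 = Q 0 0 + s * Q 1 0 := by
          simp [Matrix.mul_apply, Fin.sum_univ_two, Matrix.adjugate_fin_two, Matrix.vecMul, dotProduct]
        rw [e1, e2]; exact hs
      · have e1 : ∀ w : GL chevG2.Idx F, φa F (up s * K0) * w * (φa F (up s * K0))⁻¹ =
            φa F (up s) * (φa F K0 * w * (φa F K0)⁻¹) * (φa F (up s))⁻¹ := fun w => by
          rw [map_mul]; group
        rw [e1, e1, c6_up hF s ((node C ia).normU K0 u' hu'), ← hec]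
        rw [← cvec_up hF s ((node C ia).normV K0 v' hv')] at hp
        exact hp
    have hQd := Q.2
    rw [Matrix.det_fin_two] at hQd
    obtain ⟨s0, hs0⟩ : ∃ s0 : F, ∀ s, s ≠ s0 → Q 0 0 + s * Q 1 0 ≠ 0 := by
      by_cases h10 : Q 1 0 = 0
      · refine ⟨0, fun s _ h => ?_⟩
        rw [h10, mul_zero, add_zero] at h
        rw [h, h10] at hQd
        simp at hQd
      · exact ⟨-Q 0 0 / Q 1 0, fun s hs h => hs (by field_simp; linear_combination h)⟩
    obtain ⟨s1, hs1⟩ : ∃ s1 : F, s1 ≠ s0 := exists_ne s0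
    have hec0 : ec ≠ 0 := by
      intro h0
      have := hall s1 (hs0 s1 hs1)
      rw [h0, mul_zero] at this
      exact hkne this.symm
    refine ⟨kap / ec, div_ne_zero hkne hec0, s0, fun s hs => ?_⟩
    rw [eq_div_iff hec0]
    exact hall s (hs0 s hs)
  have f1 := fam 1
  have f2 := fam welm
  have f3 := fam (welm * up 1 * welm)
  rw [map_one, one_mul, inv_one, mul_one] at f1
  rw [cvec_wel hF hv'] at f2
  have e3 : φa F (welm * up 1 * welm) * v' * (φa F (welm * up 1 * welm))⁻¹ =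
      φa F welm * (φa F (up 1) * (φa F welm * v' * (φa F welm)⁻¹) * (φa F (up 1))⁻¹) * (φa F welm)⁻¹ := by
    rw [map_mul, map_mul]; group
  rw [e3, cvec_wel hF ((node C ia).normV _ _ ((node C ia).normV _ _ hv')),
    cvec_up hF 1 ((node C ia).normV _ _ hv'), cvec_wel hF hv'] at f3
  obtain ⟨f, w, g', h, hv4⟩ : ∃ f w g' h, cvec v' = (f, w, g', h) := ⟨_, _, _, _, rfl⟩
  rw [hv4] at f1 f2 f3
  have lo_eq : ∀ a : F, (lo a : SL(2, F)) = welm * up a * welm := fun a => by
    have hw : ((welm : SL(2, F)) : Matrix (Fin 2) (Fin 2) F) = !![0, 1; -1, 0] := rfl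
    ext i j
    fin_cases i <;> fin_cases j <;> simp [hw, Matrix.mul_apply, Fin.sum_univ_two, neg_eq hF]
  have nz : ∀ K0 : SL(2, F), c5 (φa F K0 * v' * (φa F K0)⁻¹) ≠ 0 := by
    intro K0 h0
    obtain ⟨Q, hQ⟩ : ∃ Q, Q = K0 * A0 * dconj A K0⁻¹ := ⟨_, rfl⟩
    have hQd := Q.2
    rw [Matrix.det_fin_two] at hQd
    obtain ⟨a, ha⟩ : ∃ a : F, Q 0 0 + Q 0 1 * (((A⁻¹ : Fˣ) : F) * a) ≠ 0 := by
      by_cases h00 : Q 0 0 = 0
      · refine ⟨1, ?_⟩
        rw [h00, zero_add, mul_one]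
        refine mul_ne_zero (fun h01 => ?_) (Units.ne_zero _)
        rw [h00, h01] at hQd
        simp at hQd
      · exact ⟨0, by rw [mul_zero, mul_zero, add_zero]; exact h00⟩
    apply hfail
    refine hgood (lo a * K0) ?_ ?_
    · have e1 : lo a * K0 * A0 * dconj A (lo a * K0)⁻¹ = lo a * Q * dconj A (lo a)⁻¹ := by
        rw [mul_inv_rev, dconj_mul, hQ]; group
      have e2 : (lo a * Q * dconj A (lo a)⁻¹) 0 0 = Q 0 0 + Q 0 1 * (((A⁻¹ : Fˣ) : F) * a) := by
        simp [Matrix.mul_apply, Fin.sum_univ_two, Matrix.adjugate_fin_two, Matrix.vecMul, dotProduct, neg_eq hF]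
      rw [e1, e2]; exact ha
    · have e1 : φa F (lo a * K0) * v' * (φa F (lo a * K0))⁻¹ =
          φa F welm * (φa F (up a) * (φa F welm * (φa F K0 * v' * (φa F K0)⁻¹) * (φa F welm)⁻¹) * (φa F (up a))⁻¹) *
            (φa F welm)⁻¹ := by
        rw [map_mul, lo_eq a, map_mul, map_mul]; group
      have hm := (node C ia).normV K0 v' hv'
      have e2 : c5 (φa F (lo a * K0) * v' * (φa F (lo a * K0))⁻¹) = c5 (φa F K0 * v' * (φa F K0)⁻¹) := by
        have h3 := congrArg Prod.fst (cvec_wel hF ((node C ia).normV (up a) _ ((node C ia).normV welm _ hm)))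
        rw [cvec_up hF a ((node C ia).normV welm _ hm), cvec_wel hF hm] at h3
        rw [e1]
        exact h3
      rw [e2, h0, zero_mul]
      exact hkne.symm
  have hh : h ≠ 0 := by
    have := nz welm
    have h3 := congrArg Prod.fst (cvec_wel hF hv')
    rw [hv4] at h3
    exact fun e => this (h3.trans e)
  have hnz : ∀ s : F, f + w * s + g' * (s * s) + h * (s * s * s) ≠ 0 := fun s e => by
    have := nz (up s)
    have h3 := congrArg Prod.fst (cvec_up hF s hv')
    rw [hv4] at h3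
    exact this (h3.trans e)
  refine cubic_fact hF f w g' h hh hnz fun x hx => ?_
  simp only [List.mem_cons, List.not_mem_nil, or_false] at hx
  rcases hx with rfl | rfl | rfl
  · simpa [Tup] using f1
  · simpa [Tup, Trev] using f2
  · obtain ⟨c, hc, s0, hs⟩ := f3
    refine ⟨c, hc, s0, fun s hne => ?_⟩
    rw [← hs s hne]
    simp [Tup, Trev]

end Cfsg.Agent.ChevG2Four77
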