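import Cfsg.Agent.Lib.ChevGauss77
import Cfsg.Agent.Lib.ChevTorusCentralizer77
import Cfsg.Agent.Lib.ChevBorelCriterion
import Cfsg.Agent.Lib.ChevalleyDataG2

/-!
`G₂(q)`: torus coordinates at the two fundamental roots, prescribed diagonal parts, fixed unipotent elements.
-/

set_option autoImplicit false
set_option linter.unusedSectionVars false

namespace Cfsg.Agent.ChevG2Gauss77

open Cfsg.Lie Cfsg.Agent.ChevalleyCert Cfsg.Agent.ChevalleyRoots Cfsg.Agent.ChevalleyCore
  Cfsg.Agent.ChevalleyTorus Cfsg.Agent.ChevalleyUnipotent Cfsg.Agent.ChevalleyRankOne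
  Cfsg.Agent.GaussPrescribed77 Cfsg.Agent.ChevGauss77
open scoped MatrixGroups

variable {F : Type*} [Field F]

abbrev C : Cert chevG2 := ChevalleyDataG2.cert

/-- the short fundamental root -/
abbrev ia : Fin chevG2.rank := ⟨0, by decide⟩

/-- the long fundamental root -/
abbrev ib : Fin chevG2.rank := ⟨1, by decide⟩

theorem simple_a : chevG2.simple 0 = 7 := by decide +kernel

theorem simple_b : chevG2.simple 1 = 6 := by decide +kernel

theorem index_cases (i : Fin chevG2.rank) : i = ia ∨ i = ib := by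
  revert i; decide +kernel

/-- the parameters of the torus element with given values at the fundamental roots -/
def par (A B : Fˣ) : Fin chevG2.rank → Fˣ := fun i => if i.val = 0 then A ^ 2 * B else A ^ 3 * B ^ 2

/-- the torus element with given values at the fundamental roots -/
def tor (A B : Fˣ) : GL chevG2.Idx F := torus chevG2 (par A B)

theorem par_mul (A B A' B' : Fˣ) : par A B * par A' B' = par (A * A') (B * B') := by
  funext i
  simp only [Pi.mul_apply, par]
  split <;> simp [mul_pow, mul_mul_mul_comm]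

theorem tor_mul (A B A' B' : Fˣ) : tor A B * tor A' B' = tor (A * A') (B * B') := by
  rw [tor, tor, tor, ← map_mul, par_mul]

theorem tor_one : tor (1 : Fˣ) 1 = (1 : GL chevG2.Idx F) := by
  have : par (1 : Fˣ) 1 = 1 := by funext i; simp [par]
  rw [tor, this, map_one]

theorem tor_pow (A B : Fˣ) (n : ℕ) : tor A B ^ n = tor (A ^ n) (B ^ n) := by
  induction n with
  | zero => simp [tor_one]
  | succ n ih => rw [pow_succ, ih, tor_mul, pow_succ, pow_succ]

theorem tor_inv (A B : Fˣ) : (tor A B)⁻¹ = tor A⁻¹ B⁻¹ := by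
  refine inv_eq_of_mul_eq_one_right ?_
  rw [tor_mul, mul_inv_cancel, mul_inv_cancel, tor_one]

theorem tor_mem (A B : Fˣ) : tor A B ∈ chevG2.diagonalSubgroup F := torus_mem_H C _

theorem tor_mem_group (A B : Fˣ) : tor A B ∈ chevG2.group F := by
  have h : chevG2.diagonalSubgroup F ≤ chevG2.group F := by
    refine (Subgroup.closure_le _).2 ?_
    rintro y ⟨r, t, _, _, hy⟩
    have : y = hg C r t := Units.ext (hy.trans (coe_hg C r t).symm)
    rw [this]
    exact mul_mem (mul_mem (mul_mem (xg_mem_group C _ _) (xg_mem_group C _ _)) (xg_mem_group C _ _))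
      (mul_mem (mul_mem (xg_mem_group C _ _) (xg_mem_group C _ _)) (xg_mem_group C _ _))
  exact h (tor_mem A B)

theorem tchar_par (A B : Fˣ) (r : ℕ) :
    tchar chevG2 (par A B) r = (A ^ 2 * B) ^ chevG2.cartan 0 r * (A ^ 3 * B ^ 2) ^ chevG2.cartan 1 r := by
  have e : (Finset.univ : Finset (Fin chevG2.rank)) = {ia, ib} := by decide
  rw [tchar, e, Finset.prod_pair (by decide)]
  rfl

theorem tchar_a (A B : Fˣ) : tchar chevG2 (par A B) 7 = A := by
  rw [tchar_par, show chevG2.cartan 0 7 = 2 by decide +kernel, show chevG2.cartan 1 7 = -1 by decide +kernel]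
  apply Units.ext
  simp only [Units.val_mul, Units.val_pow_eq_pow_val, Units.val_zpow_eq_zpow_val]
  field_simp

theorem tchar_b (A B : Fˣ) : tchar chevG2 (par A B) 6 = B := by
  rw [tchar_par, show chevG2.cartan 0 6 = -3 by decide +kernel, show chevG2.cartan 1 6 = 2 by decide +kernel]
  apply Units.ext
  simp only [Units.val_mul, Units.val_pow_eq_pow_val, Units.val_zpow_eq_zpow_val]
  field_simp

theorem rootVal_a (A B : Fˣ) : rootVal chevG2 (chevG2.simple ia.val) (tor A B) = A := by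
  rw [simple_a, tor, rootVal_torus (by decide), tchar_a]

theorem rootVal_b (A B : Fˣ) : rootVal chevG2 (chevG2.simple ib.val) (tor A B) = B := by
  rw [simple_b, tor, rootVal_torus (by decide), tchar_b]

/-- the values at the positive roots -/
theorem tchar_pos (A B : Fˣ) (r : ℕ) (h1 : 6 ≤ r) (h2 : r < 12) : tchar chevG2 (par A B) r =
    (![B, A, A * B, A ^ 2 * B, A ^ 3 * B, A ^ 3 * B ^ 2] : Fin 6 → Fˣ) ⟨r - 6, by omega⟩ := by
  interval_cases r
  · exact tchar_b A B
  · exact tchar_a A B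
  all_goals
    apply Units.ext
    rw [tchar_par]
    simp only [Units.val_mul, Units.val_zpow_eq_zpow_val, Units.val_pow_eq_pow_val]
  · rw [show chevG2.cartan 0 8 = -1 by decide +kernel, show chevG2.cartan 1 8 = 1 by decide +kernel]
    simp; field_simp
  · rw [show chevG2.cartan 0 9 = 1 by decide +kernel, show chevG2.cartan 1 9 = 0 by decide +kernel]
    simp
  · rw [show chevG2.cartan 0 10 = 3 by decide +kernel, show chevG2.cartan 1 10 = -1 by decide +kernel]
    simp; field_simp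
  · rw [show chevG2.cartan 0 11 = 0 by decide +kernel, show chevG2.cartan 1 11 = 1 by decide +kernel]
    simp

theorem eq_tor {h : GL chevG2.Idx F} (hh : h ∈ chevG2.diagonalSubgroup F) : ∃ A B, h = tor A B := by
  obtain ⟨c, rfl⟩ := (mem_H_iff C).1 hh
  refine ⟨c ia ^ 2 * (c ib)⁻¹, (c ia)⁻¹ ^ 3 * c ib ^ 2, ?_⟩
  rw [tor]
  congr 1
  funext i
  apply Units.ext
  rcases index_cases i with rfl | rfl <;>
    simp only [par, if_true, if_false, Nat.one_ne_zero, Units.val_mul, Units.val_pow_eq_pow_val, Units.val_inv_eq_inv_val] <;>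
    field_simp

theorem triv_of_values (c : Fin chevG2.rank → Fˣ)
    (h : ∀ i : Fin chevG2.rank, tchar chevG2 c (chevG2.simple i.val) = 1) : torus chevG2 c = 1 := by
  obtain ⟨A, B, e⟩ := eq_tor (torus_mem_H C c)
  have hA := rootVal_a A B
  have hB := rootVal_b A B
  rw [← e, rootVal_torus (simple_lt C ia.isLt), h] at hA
  rw [← e, rootVal_torus (simple_lt C ib.isLt), h] at hB
  rw [e, ← hA, ← hB, tor_one]

theorem dia_a (t : Fˣ) : (node C ia (F := F)).φ (dia t) = tor (t ^ 2) (t⁻¹ ^ 3) := by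
  show ChevalleySL2.phi (rels C (simple_lt C ia.isLt)) (dia t) = _
  rw [phi_dia C (simple_lt C ia.isLt), hg_simple C, tor]
  congr 1
  funext i
  apply Units.ext
  rcases index_cases i with rfl | rfl <;>
    simp [par, Units.val_inv_eq_inv_val] <;> field_simp

theorem dia_b (t : Fˣ) : (node C ib (F := F)).φ (dia t) = tor t⁻¹ (t ^ 2) := by
  show ChevalleySL2.phi (rels C (simple_lt C ib.isLt)) (dia t) = _
  rw [phi_dia C (simple_lt C ib.isLt), hg_simple C, tor]
  congr 1
  funext i
  apply Units.ext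
  rcases index_cases i with rfl | rfl <;>
    simp [par, Units.val_inv_eq_inv_val] <;> field_simp

/-- `g` is conjugate to a form with diagonal values `A`, `B` -/
def Form (g : GL chevG2.Idx F) (A B : Fˣ) : Prop :=
  ∃ k ∈ chevG2.group F, ∃ v ∈ chevG2.negUnipotent F, ∃ u ∈ chevG2.posUnipotent F, k * g * k⁻¹ = v * tor A B * u

/-- the same with nondegeneracy at a node -/
def FormN (i : Fin chevG2.rank) (g : GL chevG2.Idx F) (A B : Fˣ) : Prop :=
  ∃ k ∈ chevG2.group F, ∃ v ∈ chevG2.negUnipotent F, ∃ u ∈ chevG2.posUnipotent F,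
    k * g * k⁻¹ = v * tor A B * u ∧ (node C i).Nondeg v (tor A B) u

theorem FormN.form {i : Fin chevG2.rank} {g : GL chevG2.Idx F} {A B : Fˣ} (h : FormN i g A B) : Form g A B := by
  obtain ⟨k, hk, v, hv, u, hu, e, -⟩ := h
  exact ⟨k, hk, v, hv, u, hu, e⟩

theorem Form.nondeg_a {g : GL chevG2.Idx F} {A B : Fˣ} (h : Form g A B) (hA : A ≠ 1) : FormN ia g A B := by
  obtain ⟨k, hk, v, hv, u, hu, e⟩ := h
  exact ⟨k, hk, v, hv, u, hu, e, Or.inl (show rootVal chevG2 (chevG2.simple ia.val) (tor A B) ≠ 1 by rwa [rootVal_a])⟩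

theorem Form.nondeg_b {g : GL chevG2.Idx F} {A B : Fˣ} (h : Form g A B) (hB : B ≠ 1) : FormN ib g A B := by
  obtain ⟨k, hk, v, hv, u, hu, e⟩ := h
  exact ⟨k, hk, v, hv, u, hu, e, Or.inl (show rootVal chevG2 (chevG2.simple ib.val) (tor A B) ≠ 1 by rwa [rootVal_b])⟩

theorem range_le_group (i : Fin chevG2.rank) : (node C (F := F) i).φ.range ≤ chevG2.group F := by
  rw [← gen_eq C]; exact range_le (node C) i

theorem step_form {i : Fin chevG2.rank} {g : GL chevG2.Idx F} {A B : Fˣ} (h : FormN i g A B) (t : Fˣ)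
    {A' B' : Fˣ} (he : (node C i (F := F)).φ (dia t) * tor A B = tor A' B') : Form g A' B' := by
  obtain ⟨k, hk, v, hv, u, hu, e, hn⟩ := h
  obtain ⟨k', hk', v', hv', u', hu', e'⟩ := (node C i).step hv (tor_mem A B) hu hn t
  refine ⟨k' * k, mul_mem (range_le_group i hk') hk, v', hv', u', hu', ?_⟩
  calc k' * k * g * (k' * k)⁻¹ = k' * (k * g * k⁻¹) * k'⁻¹ := by group
    _ = _ := by rw [e, e', he]

theorem step_a {g : GL chevG2.Idx F} {A B : Fˣ} (h : FormN ia g A B) (t : Fˣ) :
    Form g (t ^ 2 * A) (t⁻¹ ^ 3 * B) :=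
  step_form h t (by rw [dia_a, tor_mul])

theorem step_b {g : GL chevG2.Idx F} {A B : Fˣ} (h : FormN ib g A B) (t : Fˣ) :
    Form g (t⁻¹ * A) (t ^ 2 * B) :=
  step_form h t (by rw [dia_b, tor_mul])

theorem start {g : GL chevG2.Idx F} (hg : g ∈ chevG2.group F) (hne : g ≠ 1) :
    ∃ A B, FormN ia g A B ∨ FormN ib g A B := by
  obtain ⟨i, k, hk, v, hv, h, hh, u, hu, e, hn⟩ := ChevGauss77.exists_nondeg C hg hne triv_of_values
  obtain ⟨A, B, rfl⟩ := eq_tor hh
  refine ⟨A, B, ?_⟩
  rcases index_cases i with rfl | rfl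
  · exact Or.inl ⟨k, hk, v, hv, u, hu, e, hn⟩
  · exact Or.inr ⟨k, hk, v, hv, u, hu, e, hn⟩

open Classical in
theorem card_pow_eq [Fintype F] {n : ℕ} (hn : 0 < n) (a : Fˣ) :
    (Finset.univ.filter fun s : Fˣ => s ^ n = a).card ≤ n := by
  have h := (Polynomial.nthRoots n (a : F)).toFinset_card_le
  have h2 : (Finset.univ.filter fun s : Fˣ => s ^ n = a).card ≤ (Polynomial.nthRoots n (a : F)).toFinset.card := by
    refine Finset.card_le_card_of_injOn (fun s : Fˣ => (s : F)) (fun s hs => ?_) (fun s _ t _ e => Units.ext e)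
    simp only [Finset.coe_filter, Set.mem_ofPred_eq, Finset.mem_univ, true_and] at hs
    simp [Polynomial.mem_nthRoots hn, ← hs]
  exact h2.trans (h.trans (Polynomial.card_nthRoots n (a : F)))

/-- for `q ≥ 7` any diagonal part can be prescribed -/
theorem exists_form_any [Fintype F] (h7 : 7 ≤ Fintype.card F) {g : GL chevG2.Idx F}
    (hg : g ∈ chevG2.group F) (hne : g ≠ 1) (A' B' : Fˣ) : Form g A' B' := by
  classical
  have hcard : 6 ≤ Fintype.card Fˣ := by rw [Fintype.card_units]; omega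
  have main : ∀ {A B : Fˣ}, FormN ia g A B → Form g A' B' := by
    intro A B h
    obtain ⟨S, hS⟩ : ∃ S, S = (A' * A⁻¹) ^ 2 * (B' * B⁻¹) := ⟨_, rfl⟩
    obtain ⟨T, hT⟩ : ∃ T, T = A * S ^ 2 * A'⁻¹ := ⟨_, rfl⟩
    obtain ⟨s, hs⟩ : ∃ s : Fˣ, s ^ 3 ≠ B ∧ s ^ 2 ≠ T * A⁻¹ := by
      by_contra hc
      push Not at hc
      have h1 := card_pow_eq (n := 3) (by norm_num) B
      have h2 := card_pow_eq (n := 2) (by norm_num) (T * A⁻¹)
      have h3 : (Finset.univ : Finset Fˣ) ⊆ (Finset.univ.filter fun s : Fˣ => s ^ 3 = B) ∪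
          (Finset.univ.filter fun s : Fˣ => s ^ 2 = T * A⁻¹) := by
        intro s _
        by_cases hs : s ^ 3 = B
        · simp [hs]
        · simp [hc s hs]
      have h4 := (Finset.card_le_card h3).trans (Finset.card_union_le _ _)
      rw [Finset.card_univ] at h4
      omega
    have e1 : Form g (s ^ 2 * A) (s⁻¹ ^ 3 * B) := step_a h s
    have e2 := step_b (e1.nondeg_b (by
      intro hb
      apply hs.1
      rw [inv_pow, inv_mul_eq_one] at hb
      exact hb)) T
    have e3 := step_a (e2.nondeg_a (by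
      intro ha
      apply hs.2
      rw [inv_mul_eq_one] at ha
      rw [ha, mul_inv_cancel_right])) (S * s⁻¹)
    have eA : (S * s⁻¹) ^ 2 * (T⁻¹ * (s ^ 2 * A)) = A' := by
      rw [hT]; apply Units.ext; simp [Units.val_inv_eq_inv_val]; field_simp
    have eB : (S * s⁻¹)⁻¹ ^ 3 * (T ^ 2 * (s⁻¹ ^ 3 * B)) = B' := by
      rw [hT, hS]; apply Units.ext; simp [Units.val_inv_eq_inv_val]; field_simp
    rwa [eA, eB] at e3
  obtain ⟨A, B, h | h⟩ := start hg hne
  · exact main h
  · obtain ⟨t, ht⟩ : ∃ t : Fˣ, t ≠ A := by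
      have : Nontrivial Fˣ := Fintype.one_lt_card_iff_nontrivial.1 (by omega)
      exact exists_ne A
    exact main ((step_b h t).nondeg_a (fun h1 => ht (inv_mul_eq_one.1 h1)))

/-- the long word -/
def w0 : List ℕ := [0, 1, 0, 1, 0, 1]

theorem w0_lt : ∀ i ∈ w0, i < chevG2.rank := by decide

theorem wact_w0 : ∀ r : Fin 12, ChevalleyTorus.wact (D := chevG2) w0 r.val = chevG2.neg r.val := by decide +kernel

/-- the element of the long word -/
noncomputable def n0 (F : Type*) [Field F] : GL chevG2.Idx F := nword C w0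

theorem n0_mem : n0 F ∈ chevG2.group F := by
  refine Subgroup.list_prod_mem _ fun g hg => ?_
  obtain ⟨i, _, rfl⟩ := List.mem_map.1 hg
  exact mul_mem (mul_mem (xg_mem_group C _ _) (xg_mem_group C _ _)) (xg_mem_group C _ _)

theorem n0_conj {r : ℕ} (hr : r < 12) :
    ∃ e : F, e * e = 1 ∧ ∀ t : F, (n0 F)⁻¹ * xg C r t * n0 F = xg C (chevG2.neg r) (e * t) := by
  have hr' : chevG2.neg r < chevG2.nroots := C.neg_lt r
  obtain ⟨e, he, h⟩ := nword_conj C (F := F) w0_lt hr'
  refine ⟨e, he, fun t => ?_⟩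
  have h1 := h (e * t)
  rw [show ChevalleyTorus.wact (D := chevG2) w0 (chevG2.neg r) = r by
      have := wact_w0 ⟨chevG2.neg r, hr'⟩
      simp only at this
      rw [this, neg_neg' C hr], ← mul_assoc, he, one_mul] at h1
  rw [n0, ← h1]
  group

theorem n0_tor (A B : Fˣ) : (n0 F)⁻¹ * tor A B * n0 F = tor A⁻¹ B⁻¹ := by
  have hN : n0 F ∈ chevG2.monomialSubgroup F := nword_mem C w0_lt
  have hH : (n0 F)⁻¹ * tor A B * n0 F ∈ chevG2.diagonalSubgroup F := by
    have := (Subgroup.mem_normalizer_iff.1 (N_le_normalizer_H C (inv_mem hN)) (tor A B)).1 (tor_mem A B)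
    simpa using this
  obtain ⟨A', B', e⟩ := eq_tor hH
  have key : ∀ r, r < 12 → tchar chevG2 (par A' B') r = tchar chevG2 (par A B) (chevG2.neg r) := by
    intro r hr
    obtain ⟨ee, he, h⟩ := n0_conj (F := F) (C.neg_lt r)
    rw [neg_neg' C hr] at h
    have h1 : tor A' B' * xg C r ee * (tor A' B')⁻¹ =
        xg C r (ee * (tchar chevG2 (par A B) (chevG2.neg r) : F)) := by
      rw [← e, ← mul_one ee, ← h 1, mul_one ee, ← h, ← mul_one (tchar chevG2 (par A B) (chevG2.neg r) : F),
        ← torus_conj_xg C (C.neg_lt r) (par A B) 1, tor]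
      group
    rw [tor, torus_conj_xg C hr] at h1
    have hee : ee ≠ 0 := by intro h0; rw [h0, mul_zero] at he; exact zero_ne_one he
    have h2 := (ChevBruhatInstance.xg_injective C hr hr (mul_ne_zero (Units.ne_zero _) hee) h1).2
    exact Units.ext (mul_right_cancel₀ hee (by rw [h2, mul_comm]))
  have ha := key 7 (by norm_num)
  have hb := key 6 (by norm_num)
  rw [tchar_a, tchar_neg C _ (show 7 < chevG2.nroots by decide), tchar_a] at ha
  rw [tchar_b, tchar_neg C _ (show 6 < chevG2.nroots by decide), tchar_b] at hb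
  rw [e, ha, hb]

theorem n0_V {v : GL chevG2.Idx F} (hv : v ∈ chevG2.negUnipotent F) :
    (n0 F)⁻¹ * v * n0 F ∈ chevG2.posUnipotent F := by
  induction hv using Subgroup.closure_induction with
  | mem x hx =>
    obtain ⟨r, t, hr, hx⟩ := hx
    obtain rfl := (xg_eq_iff C).1 hx
    obtain ⟨e, _, h⟩ := n0_conj (F := F) hr.1
    rw [h]
    exact xg_mem_U C ((neg_pos C hr.1).2 ((isNeg C).1 hr)) (C.neg_lt r) _
  | one => simp
  | mul a b _ _ ha hb =>
    have := mul_mem ha hb
    simpa [mul_assoc] using this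
  | inv a _ ha =>
    have := inv_mem ha
    simpa [mul_assoc] using this

theorem n0_vP {v : GL chevG2.Idx F} (hv : v ∈ vP (D := chevG2) (F := F) ia.val) :
    (n0 F)⁻¹ * v * n0 F ∈ uP (D := chevG2) (F := F) ia.val := by
  induction hv using Subgroup.closure_induction with
  | mem x hx =>
    obtain ⟨r, t, hr, hne, hx⟩ := hx
    obtain rfl := (xg_eq_iff C).1 hx
    obtain ⟨e, _, h⟩ := n0_conj (F := F) hr.1
    rw [h]
    refine Subgroup.subset_closure ⟨chevG2.neg r, e * t,
      (isPos C).2 ⟨(neg_pos C hr.1).2 ((isNeg C).1 hr), C.neg_lt r⟩, fun h' => hne ?_, rfl⟩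
    rw [← h', neg_neg' C hr.1]
  | one => simp
  | mul a b _ _ ha hb =>
    have := mul_mem ha hb
    simpa [mul_assoc] using this
  | inv a _ ha =>
    have := inv_mem ha
    simpa [mul_assoc] using this

end Cfsg.Agent.ChevG2Gauss77
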