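import Cfsg.Agent.Lib.ChevInvolClassBase
import Cfsg.Agent.Lib.ChevSubfieldPairs
import Cfsg.Agent.Lib.ChevSubfieldConfig

/-!
The involutions of G₂ in characteristic two up to conjugation.
-/

set_option autoImplicit false
set_option linter.unusedSectionVars false

namespace Cfsg.Agent.ChevG2InvolClasses

open Cfsg.Lie Cfsg.Agent.ChevalleyEngine Cfsg.Agent.ChevalleyCert Cfsg.Agent.ChevalleyRoots
open Cfsg.Agent.ChevalleyCore Cfsg.Agent.ChevalleyTorus Cfsg.Agent.ChevBruhat Cfsg.Agent.ChevalleyUnipotent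
open Cfsg.Agent.ChevRootCentralizer Cfsg.Agent.ChevInvolClassBase Cfsg.Agent.ChevSubfieldSpecial

theorem nroots_eq : chevG2.nroots = 12 ∧ chevG2.rank = 2 := by decide +kernel

theorem terms :
    chevG2.commTerms 6 7 = [(8, 1, 1, 1), (9, 1, 1, 2), (10, -1, 1, 3), (11, -2, 2, 3)] ∧
    chevG2.commTerms 7 6 = [(8, -1, 1, 1), (9, 1, 2, 1), (10, 1, 3, 1), (11, 1, 3, 2)] ∧
    chevG2.commTerms 7 8 = [(9, -2, 1, 1), (10, -3, 2, 1), (11, 3, 1, 2)] ∧
    chevG2.commTerms 7 9 = [(10, 3, 1, 1)] ∧ chevG2.commTerms 9 7 = [(10, -3, 1, 1)] ∧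
    chevG2.commTerms 9 8 = [(11, -3, 1, 1)] ∧ chevG2.commTerms 8 9 = [(11, 3, 1, 1)] ∧
    chevG2.commTerms 6 10 = [(11, 1, 1, 1)] ∧ chevG2.commTerms 10 6 = [(11, -1, 1, 1)] := by
  refine ⟨?_, ?_, ?_, ?_, ?_, ?_, ?_, ?_, ?_⟩ <;> decide +kernel

theorem nils :
    ([(6, 8), (6, 9), (6, 11), (7, 10), (7, 11), (8, 10), (8, 11), (9, 10), (9, 11), (10, 11), (8, 6), (9, 6),
      (10, 7), (10, 8), (10, 9), (11, 6), (11, 7), (11, 8), (11, 9), (11, 10)] : List (ℕ × ℕ)).all
      (fun q => (chevG2.commTerms q.1 q.2).isEmpty && q.2 != chevG2.neg q.1) = true ∧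
    ([(6, 7), (7, 6), (7, 8), (7, 9), (9, 7), (9, 8), (8, 9), (6, 10), (10, 6)] : List (ℕ × ℕ)).all
      (fun q => q.2 != chevG2.neg q.1) = true := by
  decide +kernel

theorem words :
    wact (D := chevG2) [0] 9 = 8 ∧ wact (D := chevG2) [0] 6 = 10 ∧ wact (D := chevG2) [0] 11 = 11 ∧
    wact (D := chevG2) [0] 8 = 9 ∧ wact (D := chevG2) [0] 10 = 6 ∧ wact (D := chevG2) [1, 0] 6 = 11 ∧
    wact (D := chevG2) [0, 1] 7 = 9 ∧ wact (D := chevG2) [0, 1] 11 = 6 ∧
    chevG2.pairing 10 9 = 1 ∧ chevG2.pairing 10 11 = 1 := by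
  decide +kernel

variable (C : Cert chevG2) {F : Type*} [Field F] [CharP F 2]

/-- an element of the radical of the short simple root -/
def R (c d e f : F) : GL chevG2.Idx F := xg C 8 c * xg C 9 d * xg C 10 e * xg C 11 f

include C

theorem comm' {s r : ℕ} (h : (s, r) ∈ ([(6, 8), (6, 9), (6, 11), (7, 10), (7, 11), (8, 10), (8, 11), (9, 10),
    (9, 11), (10, 11), (8, 6), (9, 6), (10, 7), (10, 8), (10, 9), (11, 6), (11, 7), (11, 8), (11, 9), (11, 10)] :
      List (ℕ × ℕ))) (c d : F) : Commute (xg C s c) (xg C r d) := by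
  have h1 := List.all_eq_true.1 nils.1 (s, r) h
  simp only [Bool.and_eq_true, List.isEmpty_iff, bne_iff_ne] at h1
  have hb : s < 12 ∧ r < 12 ∧ r ≠ s := by
    simp only [List.mem_cons, Prod.mk.injEq, List.not_mem_nil, or_false] at h
    omega
  exact comm_nil C (by rw [nroots_eq.1]; exact hb.1) (by rw [nroots_eq.1]; exact hb.2.1) hb.2.2 h1.2 h1.1 c d

theorem conj' {s r : ℕ} (h : (s, r) ∈ ([(6, 7), (7, 6), (7, 8), (7, 9), (9, 7), (9, 8), (8, 9), (6, 10), (10, 6)] :
    List (ℕ × ℕ))) (c d : F) :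
    xg C s c * xg C r d * (xg C s c)⁻¹ =
      xg C r d * wg C ((chevG2.commTerms s r).map fun q => (q.1, (q.2.1 : F) * c ^ q.2.2.1 * d ^ q.2.2.2)) := by
  have h1 := List.all_eq_true.1 nils.2 (s, r) h
  simp only [bne_iff_ne] at h1
  have hb : s < 12 ∧ r < 12 ∧ r ≠ s := by
    simp only [List.mem_cons, Prod.mk.injEq, List.not_mem_nil, or_false] at h
    omega
  exact conj_two C (by rw [nroots_eq.1]; exact hb.1) (by rw [nroots_eq.1]; exact hb.2.1) hb.2.2 h1 c d

omit C in
theorem casts : (2 : F) = 0 ∧ (3 : F) = 1 := by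
  have h : (2 : F) = 0 := CharTwo.two_eq_zero
  exact ⟨h, by linear_combination h⟩

theorem inv_self (r : ℕ) (c : F) : (xg C r c)⁻¹ = xg C r c := by rw [xg_inv, CharTwo.neg_eq]

theorem sq_one (r : ℕ) (c : F) : xg C r c * xg C r c = 1 := by rw [xg_mul, CharTwo.add_self_eq_zero, xg_zero]

theorem c98 (d c : F) : xg C 9 d * xg C 8 c = xg C 8 c * xg C 9 d * xg C 11 (d * c) := by
  have h := conj' C (s := 9) (r := 8) (by simp) d c
  rw [mul_inv_eq_iff_eq_mul] at h
  rw [h, terms.2.2.2.2.2.1]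
  simp [wg, CharTwo.neg_eq, (casts (F := F)).2, mul_assoc, (comm' C (s := 11) (r := 9) (by simp) (d * c) d).eq]

theorem R_mul (c d e f c' d' e' f' : F) :
    R C c d e f * R C c' d' e' f' = R C (c + c') (d + d') (e + e') (f + f' + d * c') := by
  have h1 := (comm' C (s := 11) (r := 8) (by simp) f c').eq
  have h2 := (comm' C (s := 10) (r := 8) (by simp) e c').eq
  have h3 := fun u v : F => (comm' C (s := 11) (r := 9) (by simp) u v).eq
  have h4 := (comm' C (s := 10) (r := 9) (by simp) e d').eq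
  have h5 := fun u v : F => (comm' C (s := 11) (r := 10) (by simp) u v).eq
  simp only [R]
  calc xg C 8 c * xg C 9 d * xg C 10 e * xg C 11 f * (xg C 8 c' * xg C 9 d' * xg C 10 e' * xg C 11 f')
      = xg C 8 c * xg C 9 d * xg C 10 e * (xg C 11 f * xg C 8 c') * xg C 9 d' * xg C 10 e' * xg C 11 f' := by
        group
    _ = xg C 8 c * xg C 9 d * (xg C 10 e * xg C 8 c') * (xg C 11 f * xg C 9 d') * xg C 10 e' * xg C 11 f' := by
        rw [h1]; group
    _ = xg C 8 c * (xg C 9 d * xg C 8 c') * (xg C 10 e * xg C 9 d') * (xg C 11 f * xg C 10 e') * xg C 11 f' := by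
        rw [h2, h3]; group
    _ = xg C 8 c * (xg C 8 c' * xg C 9 d * xg C 11 (d * c')) * (xg C 9 d' * xg C 10 e) * (xg C 10 e' * xg C 11 f) *
          xg C 11 f' := by rw [c98, h4, h5]
    _ = xg C 8 c * xg C 8 c' * xg C 9 d * (xg C 11 (d * c') * xg C 9 d') * xg C 10 e * xg C 10 e' *
          (xg C 11 f * xg C 11 f') := by group
    _ = xg C 8 c * xg C 8 c' * xg C 9 d * xg C 9 d' * (xg C 11 (d * c') * xg C 10 e) * xg C 10 e' *
          (xg C 11 f * xg C 11 f') := by rw [h3]; group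
    _ = xg C 8 c * xg C 8 c' * xg C 9 d * xg C 9 d' * xg C 10 e * (xg C 11 (d * c') * xg C 10 e') *
          (xg C 11 f * xg C 11 f') := by rw [h5]; group
    _ = (xg C 8 c * xg C 8 c') * (xg C 9 d * xg C 9 d') * (xg C 10 e * xg C 10 e') *
          (xg C 11 (d * c') * (xg C 11 f * xg C 11 f')) := by rw [h5]; group
    _ = _ := by
        simp only [xg_mul]
        rw [show d * c' + (f + f') = f + f' + d * c' by ring]

theorem R8 (c : F) : R C c 0 0 0 = xg C 8 c := by simp [R, xg_zero]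
theorem R9 (d : F) : R C 0 d 0 0 = xg C 9 d := by simp [R, xg_zero]
theorem R10 (e : F) : R C 0 0 e 0 = xg C 10 e := by simp [R, xg_zero]
theorem R11 (f : F) : R C 0 0 0 f = xg C 11 f := by simp [R, xg_zero]

theorem R_congr {c d e f c' d' e' f' : F} (h1 : c = c') (h2 : d = d') (h3 : e = e') (h4 : f = f') :
    R C c d e f = R C c' d' e' f' := by rw [h1, h2, h3, h4]

theorem R_split (c d e f : F) : R C c d e f = R C c 0 0 0 * R C 0 d 0 0 * R C 0 0 e 0 * R C 0 0 0 f := by
  rw [R8, R9, R10, R11]; rfl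

omit C in
/-- conjugating a product -/
theorem conj_four {G : Type*} [Group G] (z a b c d : G) :
    z * (a * b * c * d) * z⁻¹ = (z * a * z⁻¹) * (z * b * z⁻¹) * (z * c * z⁻¹) * (z * d * z⁻¹) := by group

theorem c7R (k c d e f : F) :
    xg C 7 k * R C c d e f * (xg C 7 k)⁻¹ = R C c d (e + k ^ 2 * c + k * d) (f + k * c ^ 2) := by
  rw [R_split, R8, R9, R10, R11, conj_four,
    show xg C 7 k * xg C 10 e * (xg C 7 k)⁻¹ = xg C 10 e by rw [(comm' C (by simp) k e).eq, mul_inv_cancel_right],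
    show xg C 7 k * xg C 11 f * (xg C 7 k)⁻¹ = xg C 11 f by rw [(comm' C (by simp) k f).eq, mul_inv_cancel_right],
    conj' C (s := 7) (r := 8) (by simp), conj' C (s := 7) (r := 9) (by simp), terms.2.2.1, terms.2.2.2.1]
  simp only [wg, List.map_cons, List.map_nil, List.prod_cons, List.prod_nil, mul_one, Int.cast_ofNat,
    Int.cast_neg, CharTwo.neg_eq, (casts (F := F)).1, (casts (F := F)).2, zero_mul, one_mul, pow_one, xg_zero]
  simp only [← R8 C, ← R9 C, ← R10 C, ← R11 C]
  simp only [R_mul]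
  refine R_congr C ?_ ?_ ?_ ?_ <;> ring

theorem c6R (k c d e f : F) : xg C 6 k * R C c d e f * (xg C 6 k)⁻¹ = R C c d e (f + k * e) := by
  rw [R_split, R8, R9, R10, R11, conj_four,
    show xg C 6 k * xg C 8 c * (xg C 6 k)⁻¹ = xg C 8 c by rw [(comm' C (by simp) k c).eq, mul_inv_cancel_right],
    show xg C 6 k * xg C 9 d * (xg C 6 k)⁻¹ = xg C 9 d by rw [(comm' C (by simp) k d).eq, mul_inv_cancel_right],
    show xg C 6 k * xg C 11 f * (xg C 6 k)⁻¹ = xg C 11 f by rw [(comm' C (by simp) k f).eq, mul_inv_cancel_right],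
    conj' C (s := 6) (r := 10) (by simp), terms.2.2.2.2.2.2.2.1]
  simp only [wg, List.map_cons, List.map_nil, List.prod_cons, List.prod_nil, mul_one, Int.cast_one, one_mul,
    pow_one]
  simp only [← R8 C, ← R9 C, ← R10 C, ← R11 C]
  simp only [R_mul]
  refine R_congr C ?_ ?_ ?_ ?_ <;> ring

theorem c67 (t s : F) :
    xg C 6 t * xg C 7 s * (xg C 6 t)⁻¹ = xg C 7 s * R C (t * s) (t * s ^ 2) (t * s ^ 3) 0 := by
  rw [conj' C (by simp), terms.1]
  simp only [R, wg, List.map_cons, List.map_nil, List.prod_cons, List.prod_nil, mul_one, Int.cast_one, one_mul,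
    Int.cast_ofNat, Int.cast_neg, CharTwo.neg_eq, (casts (F := F)).1, zero_mul, xg_zero, pow_one, mul_assoc]

theorem c76 (k t : F) :
    xg C 7 k * xg C 6 t * (xg C 7 k)⁻¹ = xg C 6 t * R C (k * t) (k ^ 2 * t) (k ^ 3 * t) (k ^ 3 * t ^ 2) := by
  rw [conj' C (by simp), terms.2.1]
  simp only [R, wg, List.map_cons, List.map_nil, List.prod_cons, List.prod_nil, mul_one, Int.cast_one, one_mul,
    Int.cast_neg, CharTwo.neg_eq, pow_one, mul_assoc]

theorem mem_uGe {q k : ℕ} (hk : k ≤ q) (h6 : 6 ≤ q) (hq : q < 12) (c : F) :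
    xg C q c ∈ uGe C (F := F) k :=
  xg_mem_uGe C hk (by rw [nroots_eq.1]; exact h6) (by rw [nroots_eq.1]; exact hq) c

theorem R_one {c d e f : F} (h : R C c d e f = 1) : c = 0 ∧ d = 0 ∧ e = 0 ∧ f = 0 := by
  have hb : ∀ q, 6 ≤ q → q < 12 → chevG2.nroots / 2 ≤ q ∧ q < chevG2.nroots := fun q h1 h2 => by
    rw [nroots_eq.1]; exact ⟨h1, h2⟩
  have h8 := coeff_unique C (hb 8 (by omega) (by omega)).1 (hb 8 (by omega) (by omega)).2 (t := c) (t' := 0)
    (v := xg C 9 d * xg C 10 e * xg C 11 f) (v' := 1)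
    (mul_mem (mul_mem (mem_uGe C (by omega) (by omega) (by omega) d) (mem_uGe C (by omega) (by omega) (by omega) e))
      (mem_uGe C (by omega) (by omega) (by omega) f)) (one_mem _)
    (by rw [xg_zero, one_mul, ← h]; simp [R, mul_assoc])
  have h9 := coeff_unique C (hb 9 (by omega) (by omega)).1 (hb 9 (by omega) (by omega)).2 (t := d) (t' := 0)
    (v := xg C 10 e * xg C 11 f) (v' := 1)
    (mul_mem (mem_uGe C (by omega) (by omega) (by omega) e) (mem_uGe C (by omega) (by omega) (by omega) f))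
    (one_mem _) (by rw [xg_zero, one_mul, ← h8.2]; simp [mul_assoc])
  have h10 := coeff_unique C (hb 10 (by omega) (by omega)).1 (hb 10 (by omega) (by omega)).2 (t := e) (t' := 0)
    (v := xg C 11 f) (v' := 1) (mem_uGe C (by omega) (by omega) (by omega) f) (one_mem _)
    (by rw [xg_zero, one_mul, ← h9.2])
  refine ⟨h8.1, h9.1, h10.1, ?_⟩
  by_contra hf
  exact hf (ChevBruhatInstance.xg_injective C (hb 11 (by omega) (by omega)).2 (hb 11 (by omega) (by omega)).2 hf
    (h10.2.trans (xg_zero C 11).symm)).2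

/-- a short root element in company of an orthogonal long one -/
theorem long_short [Fintype F] (t : F) {d : F} (hd : d ≠ 0) : Cj chevG2 (xg C 6 t * xg C 9 d) (xg C 9 1) := by
  obtain ⟨k, hk⟩ := (bijective_frobenius F 2).2 (t / d)
  simp only [frobenius_def] at hk
  have hl : ∀ i ∈ ([0] : List ℕ), i < chevG2.rank := by simp [nroots_eq.2]
  have hlt : ∀ {r : ℕ}, r < 12 → r < chevG2.nroots := fun h => by rw [nroots_eq.1]; exact h
  obtain ⟨w9, w6, w11, w8, w10, -, -, -, p9, -⟩ := words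
  refine (cj_word C (l := [0]) (w := xg C 10 t * xg C 8 d) ?_).trans ?_
  · rw [← MulAut.conj_apply, map_mul, MulAut.conj_apply, MulAut.conj_apply, word_conj_two C hl (hlt (by omega)),
      word_conj_two C hl (hlt (by omega)), w6, w9]
  refine (cj_xg C 7 k (w := xg C 8 d * xg C 11 (k * d ^ 2)) ?_).trans ?_
  · rw [show xg C 10 t * xg C 8 d = R C d 0 t 0 by simp [R, xg_zero, (comm' C (s := 10) (r := 8) (by simp) t d).eq],
      c7R, show xg C 8 d * xg C 11 (k * d ^ 2) = R C d 0 0 (k * d ^ 2) by simp [R, xg_zero]]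
    refine R_congr C rfl rfl ?_ (zero_add _)
    rw [mul_zero, add_zero, hk, div_mul_cancel₀ _ hd, CharTwo.add_self_eq_zero]
  refine (cj_word C (l := [0]) (w := xg C 9 d * xg C 11 (k * d ^ 2)) ?_).trans ?_
  · rw [← MulAut.conj_apply, map_mul, MulAut.conj_apply, MulAut.conj_apply, word_conj_two C hl (hlt (by omega)),
      word_conj_two C hl (hlt (by omega)), w8, w11]
  refine (cj_xg C 8 (k * d) (w := xg C 9 d) ?_).trans (cj_scale C (hlt (by omega)) (hlt (by omega)) p9 hd)
  rw [← MulAut.conj_apply, map_mul, MulAut.conj_apply, MulAut.conj_apply, conj' C (by simp),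
    terms.2.2.2.2.2.2.1, (comm' C (s := 8) (r := 11) (by simp) (k * d) (k * d ^ 2)).eq, mul_inv_cancel_right]
  simp only [wg, List.map_cons, List.map_nil, List.prod_cons, List.prod_nil, mul_one, Int.cast_ofNat,
    (casts (F := F)).2, one_mul, pow_one, mul_assoc, xg_mul]
  rw [show k * (d * d) + k * d ^ 2 = 0 by rw [← sq, CharTwo.add_self_eq_zero], xg_zero, mul_one]

set_option maxHeartbeats 2000000 in
/-- the two classes -/
theorem classify [Fintype F] {u : GL chevG2.Idx F} (hu : u ∈ chevG2.posUnipotent F) (h2 : u * u = 1) (h1 : u ≠ 1) :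
    Cj chevG2 u (xg C 11 1) ∨ Cj chevG2 u (xg C 9 1) := by
  have hlt : ∀ {r : ℕ}, r < 12 → r < chevG2.nroots := fun h => by rw [nroots_eq.1]; exact h
  have hge : ∀ {r : ℕ}, 6 ≤ r → chevG2.nroots / 2 ≤ r := fun h => by rw [nroots_eq.1]; exact h
  obtain ⟨w9, w6, w11, w8, w10, w61, w7, w116, p9, p11⟩ := words
  have hl : ∀ i ∈ ([0] : List ℕ), i < chevG2.rank := by simp [nroots_eq.2]
  have hl1 : ∀ i ∈ ([1, 0] : List ℕ), i < chevG2.rank := by simp [nroots_eq.2]
  have hl2 : ∀ i ∈ ([0, 1] : List ℕ), i < chevG2.rank := by simp [nroots_eq.2]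
  -- coordinates
  obtain ⟨t, s, c, d, e, f, rfl⟩ : ∃ t s c d e f, u = xg C 6 t * (xg C 7 s * R C c d e f) := by
    rw [posUnipotent_eq C, show chevG2.nroots / 2 = 6 by rw [nroots_eq.1]] at hu
    obtain ⟨t, v0, hv0, rfl⟩ := uGe_split C (hge (by omega)) (hlt (by omega)) hu
    obtain ⟨s, v1, hv1, rfl⟩ := uGe_split C (hge (by omega)) (hlt (by omega)) hv0
    obtain ⟨c, v2, hv2, rfl⟩ := uGe_split C (hge (by omega)) (hlt (by omega)) hv1
    obtain ⟨d, v3, hv3, rfl⟩ := uGe_split C (hge (by omega)) (hlt (by omega)) hv2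
    obtain ⟨e, v4, hv4, rfl⟩ := uGe_split C (hge (by omega)) (hlt (by omega)) hv3
    obtain ⟨f, v5, hv5, rfl⟩ := uGe_split C (hge (by omega)) (hlt (by omega)) hv4
    rw [uGe_top C (by rw [nroots_eq.1]), Subgroup.mem_bot] at hv5
    exact ⟨t, s, c, d, e, f, by simp [R, hv5, mul_assoc]⟩
  have hsq : xg C 6 t * (xg C 7 s * R C c d e f) * (xg C 6 t * (xg C 7 s * R C c d e f)) =
      (xg C 6 t * xg C 7 s * (xg C 6 t)⁻¹) * (xg C 6 t * R C c d e f * (xg C 6 t)⁻¹) *
        (xg C 7 s * R C c d e f) := by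
    conv_rhs => rw [inv_self C 6 t]
    simp only [← mul_assoc]
    rw [mul_assoc (xg C 6 t * xg C 7 s) (xg C 6 t) (xg C 6 t), sq_one, mul_one]
  have hsq' := h2
  rw [hsq, c67, c6R, mul_assoc (xg C 7 s), R_mul,
    show ∀ A B : GL chevG2.Idx F, xg C 7 s * A * (xg C 7 s * B) = (xg C 7 s * A * (xg C 7 s)⁻¹) * B from
      fun A B => by rw [inv_self C 7 s]; group, c7R, R_mul] at hsq'
  obtain ⟨hc, hd, he, hf⟩ := R_one C hsq'
  have hts : t * s = 0 := by linear_combination hc - c * CharTwo.two_eq_zero (R := F)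
  by_cases ht : t = 0
  swap
  · -- the root `b` occurs
    have hs : s = 0 := (mul_eq_zero.1 hts).resolve_left ht
    subst hs
    rw [xg_zero, one_mul] at *
    set k := c / t
    have hu' : Cj chevG2 (xg C 6 t * R C c d e f)
        (xg C 6 t * R C 0 (k ^ 2 * t + d) (k ^ 3 * t + (e + k ^ 2 * c + k * d))
          (k ^ 3 * t ^ 2 + (f + k * c ^ 2) + k ^ 2 * t * c)) := by
      refine cj_xg C 7 k ?_
      rw [← MulAut.conj_apply, map_mul, MulAut.conj_apply, MulAut.conj_apply, c76, c7R, mul_assoc, R_mul]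
      congr 1
      refine R_congr C ?_ rfl rfl rfl
      rw [show k * t = c from div_mul_cancel₀ c ht, CharTwo.add_self_eq_zero]
    set d' := k ^ 2 * t + d
    set e' := k ^ 3 * t + (e + k ^ 2 * c + k * d)
    set f' := k ^ 3 * t ^ 2 + (f + k * c ^ 2) + k ^ 2 * t * c
    have he' : e' = 0 := by
      obtain ⟨h, hh, eh⟩ := hu'
      have h3 : xg C 6 t * R C 0 d' e' f' * (xg C 6 t * R C 0 d' e' f') = 1 := by
        rw [← eh]
        calc _ = h * ((xg C 6 t * R C c d e f) * (xg C 6 t * R C c d e f)) * h⁻¹ := by group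
          _ = 1 := by rw [h2, mul_one, mul_inv_cancel]
      rw [show xg C 6 t * R C 0 d' e' f' * (xg C 6 t * R C 0 d' e' f') =
        (xg C 6 t * R C 0 d' e' f' * (xg C 6 t)⁻¹) * R C 0 d' e' f' by rw [inv_self C 6 t]; group, c6R, R_mul] at h3
      obtain ⟨-, -, -, h4⟩ := R_one C h3
      have h5 : t * e' = 0 := by linear_combination h4 - f' * CharTwo.two_eq_zero (R := F)
      exact (mul_eq_zero.1 h5).resolve_left ht
    rw [he'] at hu'
    have hu'' : Cj chevG2 (xg C 6 t * R C c d e f) (xg C 6 t * xg C 9 d') := by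
      refine hu'.trans (cj_xg C 10 (f' / t) ?_)
      rw [← MulAut.conj_apply, map_mul, MulAut.conj_apply, MulAut.conj_apply, conj' C (by simp),
        terms.2.2.2.2.2.2.2.2, ← R10]
      simp only [wg, List.map_cons, List.map_nil, List.prod_cons, List.prod_nil, mul_one, Int.cast_neg,
        Int.cast_one, CharTwo.neg_eq, one_mul, pow_one]
      rw [← R11, R10, inv_self C 10, ← R10, ← R9, R_mul, R_mul, mul_assoc (xg C 6 t), R_mul]
      congr 1
      refine R_congr C (by ring) (by ring) ?_ ?_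
      · linear_combination (f' / t) * CharTwo.two_eq_zero (R := F)
      · rw [div_mul_cancel₀ _ ht]; linear_combination f' * CharTwo.two_eq_zero (R := F)
    by_cases hd' : d' = 0
    · refine Or.inl ?_
      rw [hd', xg_zero, mul_one] at hu''
      refine hu''.trans ((cj_word C (l := [1, 0]) (w := xg C 11 t) ?_).trans
        (cj_scale C (hlt (by omega)) (hlt (by omega)) p11 ht))
      rw [word_conj_two C hl1 (hlt (by omega)), w61]
    · exact Or.inr (hu''.trans (long_short C t hd'))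
  subst ht
  rw [xg_zero, one_mul] at *
  by_cases hs : s = 0
  swap
  · -- the root `a` occurs
    set k := c / s
    have hu' : Cj chevG2 (xg C 7 s * R C c d e f)
        (xg C 7 s * R C 0 (k * s ^ 2 + d) (k * s ^ 3 + e) (f + k * e + k * s ^ 2 * c)) := by
      refine cj_xg C 6 k ?_
      rw [← MulAut.conj_apply, map_mul, MulAut.conj_apply, MulAut.conj_apply, c67, c6R, mul_assoc, R_mul]
      congr 1
      refine R_congr C ?_ rfl rfl (by ring)
      rw [show k * s = c from div_mul_cancel₀ c hs, CharTwo.add_self_eq_zero]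
    set d' := k * s ^ 2 + d
    set e' := k * s ^ 3 + e
    set f' := f + k * e + k * s ^ 2 * c
    have hd' : d' = 0 := by
      obtain ⟨h, hh, eh⟩ := hu'
      have h3 : xg C 7 s * R C 0 d' e' f' * (xg C 7 s * R C 0 d' e' f') = 1 := by
        rw [← eh]
        calc _ = h * ((xg C 7 s * R C c d e f) * (xg C 7 s * R C c d e f)) * h⁻¹ := by group
          _ = 1 := by rw [h2, mul_one, mul_inv_cancel]
      rw [show xg C 7 s * R C 0 d' e' f' * (xg C 7 s * R C 0 d' e' f') =
        (xg C 7 s * R C 0 d' e' f' * (xg C 7 s)⁻¹) * R C 0 d' e' f' by rw [inv_self C 7 s]; group, c7R, R_mul] at h3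
      obtain ⟨-, -, h4, -⟩ := R_one C h3
      have h5 : s * d' = 0 := by linear_combination h4 - e' * CharTwo.two_eq_zero (R := F)
      exact (mul_eq_zero.1 h5).resolve_left hs
    rw [hd'] at hu'
    have hu'' : Cj chevG2 (xg C 7 s * R C c d e f) (xg C 7 s * xg C 11 f') := by
      refine hu'.trans (cj_xg C 9 (e' / s) ?_)
      rw [← MulAut.conj_apply, map_mul, MulAut.conj_apply, MulAut.conj_apply, conj' C (by simp),
        terms.2.2.2.2.1]
      simp only [wg, List.map_cons, List.map_nil, List.prod_cons, List.prod_nil, mul_one, Int.cast_neg,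
        Int.cast_ofNat, (casts (F := F)).2, CharTwo.neg_eq, one_mul, pow_one]
      rw [inv_self C 9, ← R9, ← R10, ← R11, R_mul, R_mul, mul_assoc (xg C 7 s), R_mul]
      congr 1
      refine R_congr C (by ring) ?_ ?_ (by ring)
      · linear_combination (e' / s) * CharTwo.two_eq_zero (R := F)
      · rw [div_mul_cancel₀ _ hs]; linear_combination e' * CharTwo.two_eq_zero (R := F)
    refine Or.inr (hu''.trans ((cj_word C (l := [0, 1]) (w := xg C 6 f' * xg C 9 s) ?_).trans (long_short C f' hs)))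
    rw [← MulAut.conj_apply, map_mul, MulAut.conj_apply, MulAut.conj_apply, word_conj_two C hl2 (hlt (by omega)),
      word_conj_two C hl2 (hlt (by omega)), w7, w116, (comm' C (s := 9) (r := 6) (by simp) s f').eq]
  subst hs
  rw [xg_zero, one_mul] at *
  have hdc : d * c = 0 := by linear_combination hf - f * CharTwo.two_eq_zero (R := F)
  by_cases hc0 : c = 0
  swap
  · have hd0 : d = 0 := (mul_eq_zero.1 hdc).resolve_right hc0
    subst hd0
    refine Or.inr ((cj_word C (l := [0]) (w := xg C 9 c * xg C 6 e * xg C 11 f) ?_).trans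
      ((cj_xg C 8 (f / c) (w := xg C 6 e * xg C 9 c) ?_).trans (long_short C e hc0)))
    · simp only [R, xg_zero, mul_one]
      rw [← MulAut.conj_apply, map_mul, map_mul, MulAut.conj_apply, MulAut.conj_apply, MulAut.conj_apply,
        word_conj_two C hl (hlt (by omega)), word_conj_two C hl (hlt (by omega)),
        word_conj_two C hl (hlt (by omega)), w8, w10, w11]
    · rw [← MulAut.conj_apply, map_mul, map_mul, MulAut.conj_apply, MulAut.conj_apply, MulAut.conj_apply,
        conj' C (by simp), terms.2.2.2.2.2.2.1, (comm' C (s := 8) (r := 6) (by simp) (f / c) e).eq,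
        mul_inv_cancel_right, (comm' C (s := 8) (r := 11) (by simp) (f / c) f).eq, mul_inv_cancel_right]
      simp only [wg, List.map_cons, List.map_nil, List.prod_cons, List.prod_nil, mul_one, Int.cast_ofNat,
        (casts (F := F)).2, one_mul, pow_one]
      rw [div_mul_cancel₀ _ hc0, mul_assoc (xg C 9 c), (comm' C (s := 11) (r := 6) (by simp) f e).eq,
        ← mul_assoc, mul_assoc (xg C 9 c * xg C 6 e), sq_one, mul_one,
        (comm' C (s := 9) (r := 6) (by simp) c e).eq]
  subst hc0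
  by_cases hd0 : d = 0
  swap
  · refine Or.inr ((cj_xg C 7 (e / d) (w := xg C 9 d * xg C 11 f) ?_).trans
      ((cj_xg C 8 (f / d) (w := xg C 9 d) ?_).trans (cj_scale C (hlt (by omega)) (hlt (by omega)) p9 hd0)))
    · rw [c7R, show xg C 9 d * xg C 11 f = R C 0 d 0 f by simp [R, xg_zero]]
      refine R_congr C rfl rfl ?_ (by ring)
      rw [div_mul_cancel₀ _ hd0]
      linear_combination e * CharTwo.two_eq_zero (R := F)
    · rw [← MulAut.conj_apply, map_mul, MulAut.conj_apply, MulAut.conj_apply, conj' C (by simp),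
        terms.2.2.2.2.2.2.1, (comm' C (s := 8) (r := 11) (by simp) (f / d) f).eq, mul_inv_cancel_right]
      simp only [wg, List.map_cons, List.map_nil, List.prod_cons, List.prod_nil, mul_one, Int.cast_ofNat,
        (casts (F := F)).2, one_mul, pow_one]
      rw [div_mul_cancel₀ _ hd0, mul_assoc, sq_one, mul_one]
  subst hd0
  refine Or.inl ?_
  by_cases he0 : e = 0
  · subst he0
    rw [R11] at h1 ⊢
    have hf0 : f ≠ 0 := fun h => h1 (by rw [h, xg_zero])
    exact cj_scale C (hlt (by omega)) (hlt (by omega)) p11 hf0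
  · refine (cj_word C (l := [0]) (w := xg C 6 e * xg C 11 f) ?_).trans
      ((cj_xg C 10 (f / e) (w := xg C 6 e) ?_).trans
        ((cj_word C (l := [1, 0]) (w := xg C 11 e) ?_).trans (cj_scale C (hlt (by omega)) (hlt (by omega)) p11 he0)))
    · simp only [R, xg_zero, one_mul]
      rw [← MulAut.conj_apply, map_mul, MulAut.conj_apply, MulAut.conj_apply,
        word_conj_two C hl (hlt (by omega)), word_conj_two C hl (hlt (by omega)), w10, w11]
    · rw [← MulAut.conj_apply, map_mul, MulAut.conj_apply, MulAut.conj_apply, conj' C (by simp),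
        terms.2.2.2.2.2.2.2.2, (comm' C (s := 10) (r := 11) (by simp) (f / e) f).eq, mul_inv_cancel_right]
      simp only [wg, List.map_cons, List.map_nil, List.prod_cons, List.prod_nil, mul_one, Int.cast_neg,
        Int.cast_one, CharTwo.neg_eq, one_mul, pow_one]
      rw [div_mul_cancel₀ _ he0, mul_assoc, sq_one, mul_one]
    · rw [word_conj_two C hl1 (hlt (by omega)), w61]

/-- the short root involution is not a long one -/
theorem not_cj (S : Sys chevG2 F) : ¬ Cj chevG2 (xg C 11 (1 : F)) (xg C 9 1) := by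
  rintro ⟨g, hg, e⟩
  have hT : ChevSubfieldData.top chevG2 = 11 := by rw [ChevSubfieldData.top, nroots_eq.1]
  have hlt : ∀ {r : ℕ}, r < 12 → r < chevG2.nroots := fun h => by rw [nroots_eq.1]; exact h
  have hge : ∀ {r : ℕ}, 6 ≤ r → chevG2.nroots / 2 ≤ r := fun h => by rw [nroots_eq.1]; exact h
  obtain ⟨r, c, n, b, v, hr, hlong, hc0, -, hv, -, ez⟩ :=
    ChevSubfieldPairs.conj_form C S ChevSubfieldData.common_g2 (fun r hr hl i hi => by
      have h := ChevSubfieldConfig.closed_g2
      simp only [ChevSubfieldConfig.longClosed, List.all_eq_true, List.mem_range, Bool.or_eq_true,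
        Bool.not_eq_true', Bool.and_eq_true] at h
      rcases h r hr with h | h
      · rw [hl] at h; exact Bool.noConfusion h
      · exact h.2 i hi) hg
  rw [hT, e] at ez
  have hvU : v ∈ chevG2.posUnipotent F := S.Uw_le_U _ hv
  obtain ⟨z, hz, hlead⟩ := ChevRadicalCentralizer.conj_leading C (hge (show 6 ≤ 9 by omega))
    (hlt (show 9 < 12 by omega)) hvU (1 : F)
  have hx : xg C r c = xg C 9 1 * z := by rw [← hlead, ez]; group
  have hpos : chevG2.nroots / 2 ≤ r := by
    by_contra hcon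
    have hxU : xg C r c ∈ chevG2.posUnipotent F := by
      rw [hx]
      exact mul_mem (xg_mem_U C (hge (by omega)) (hlt (by omega)) 1)
        (ChevSubfieldUnipotent.uGe_le_U C (by rw [nroots_eq.1]; omega) hz)
    have h3 := Subgroup.mem_inf.mpr
      ⟨Sys.U_le_B hxU, ChevalleyUnipotent.xg_mem_V C (show r < _ by omega) c⟩
    rw [S.B_inf_V, Subgroup.mem_bot] at h3
    exact hc0 (by
      by_contra hc
      exact hc (ChevBruhatInstance.xg_injective C hr hr hc (h3.trans (xg_zero C r).symm)).2)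
  rw [nroots_eq.1] at hpos hr
  rcases lt_trichotomy r 9 with h | h | h
  · refine hc0 ((coeff_unique C (hge hpos) (hlt (by omega)) (v := 1) (v' := xg C 9 1 * z) (t := c) (t' := 0)
      (one_mem _) (mul_mem (mem_uGe C (by omega) (by omega) (by omega) 1) ?_) (by rw [mul_one, xg_zero, one_mul, hx])).1)
    exact uGe_mono C (by omega) hz
  · subst h
    exact Bool.false_ne_true ((show ChevSubfieldData.isLong chevG2 9 = false by decide +kernel).symm.trans hlong)
  · have h4 := coeff_unique C (hge (show 6 ≤ 9 by omega)) (hlt (show 9 < 12 by omega)) (t := 1) (t' := 0)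
      (v := z) (v' := xg C r c) hz (mem_uGe C (by omega) (by omega) hr c) (by rw [xg_zero, one_mul, hx])
    exact one_ne_zero h4.1

end Cfsg.Agent.ChevG2InvolClasses
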