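import Cfsg.Agent.Lib.ChevRootLists

/-!
The centralizer of a short root involution in G₂ in characteristic two.
-/

set_option autoImplicit false
set_option linter.unusedSectionVars false

namespace Cfsg.Agent.ChevG2Involutions

open Cfsg.Lie Cfsg.Agent.ChevalleyEngine Cfsg.Agent.ChevalleyCert Cfsg.Agent.ChevalleyRoots
open Cfsg.Agent.ChevalleyCore Cfsg.Agent.ChevalleyTorus Cfsg.Agent.ChevBruhat
open Cfsg.Agent.ChevRootCentralizer Cfsg.Agent.ChevRootLists

theorem sizes : chevG2.nroots = 12 ∧ chevG2.rank = 2 := by decide +kernel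

/-- the commuting checks -/
theorem tables :
    normOK chevG2 [5, 6, 7, 8, 9, 10, 11] [10, 11] = true ∧
    ([5, 6, 7, 8, 9, 10, 11].all fun s =>
      9 == s || (9 != chevG2.neg s && termsOK chevG2 s 9 [10, 11])) = true ∧
    ([5, 6, 9, 10, 11].all fun s => 9 == s || (9 != chevG2.neg s && termsOK chevG2 s 9 [])) = true ∧
    ([7, 8, 9, 10, 11].all fun s => [10, 11].all fun r =>
      r == s || (r != chevG2.neg s && termsOK chevG2 s r [])) = true ∧
    normOK chevG2 [6, 5] [7, 8, 9, 10, 11] = true ∧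
    normOK chevG2 [7] [8, 9, 10, 11] = true ∧ normOK chevG2 [8] [9, 10, 11] = true ∧
    normOK chevG2 [10] [11] = true ∧
    chevG2.commTerms 7 9 = [(10, 3, 1, 1)] ∧ chevG2.commTerms 8 9 = [(11, 3, 1, 1)] := by
  decide +kernel

theorem lt_of_mem {r : ℕ} (h : r ∈ [4, 5, 6, 7, 8, 9, 10, 11]) : r < chevG2.nroots := by
  rw [sizes.1]; revert r; decide

variable (C : Cert chevG2) {F : Type*} [Field F]

include C

theorem isPos_iff_mem {r : ℕ} : chevG2.IsPosRoot r ↔ r ∈ [6, 7, 8, 9, 10, 11] := by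
  rw [isPos C, sizes.1]; simp; omega

theorem posUnipotent_eq_rootsSub : chevG2.posUnipotent F = rootsSub C [6, 7, 8, 9, 10, 11] := by
  rw [rootsSub, ChevalleyDatum.posUnipotent]
  congr 1
  ext g
  constructor
  · rintro ⟨r, t, hr, hg⟩; exact ⟨r, (isPos_iff_mem C).1 hr, t, (xg_eq_iff C).1 hg⟩
  · rintro ⟨r, hr, t, rfl⟩; exact ⟨r, t, (isPos_iff_mem C).2 hr, rfl⟩

variable [CharP F 2]

theorem comm_ok {s r : ℕ} (hs : s < chevG2.nroots) (hr : r < chevG2.nroots)
    (h : (r == s || (r != chevG2.neg s && termsOK chevG2 s r [])) = true) (c d : F) :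
    Commute (xg C s c) (xg C r d) := by
  by_cases he : r = s
  · subst he
    show _ * _ = _ * _
    rw [xg_mul, xg_mul, add_comm]
  simp only [Bool.or_eq_true, beq_iff_eq, he, false_or, Bool.and_eq_true, bne_iff_ne] at h
  refine comm_of_terms C hs hr he h.1 (fun t ht => ?_) c d
  have := h.2
  simp only [termsOK, List.all_eq_true, Bool.or_eq_true, beq_iff_eq, List.contains_nil,
    Bool.false_eq_true, or_false] at this
  exact (CharP.intCast_eq_zero_iff F 2 _).2 (Int.dvd_of_emod_eq_zero (this t ht))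

theorem k_comm {s r : ℕ} (hs : s ∈ [7, 8, 9, 10, 11]) (hr : r ∈ [10, 11]) (c d : F) :
    Commute (xg C s c) (xg C r d) := by
  have h := tables.2.2.2.1
  simp only [List.all_eq_true] at h
  have hs' : ∀ s ∈ [7, 8, 9, 10, 11], s ∈ [4, 5, 6, 7, 8, 9, 10, 11] := by decide
  have hr' : ∀ s ∈ [10, 11], s ∈ [4, 5, 6, 7, 8, 9, 10, 11] := by decide
  exact comm_ok C (lt_of_mem (hs' s hs)) (lt_of_mem (hr' r hr)) (h s hs r hr) c d

theorem tri_comm {s r : ℕ} (hs : s ∈ [9, 10, 11]) (hr : r ∈ [9, 10, 11]) (c d : F) :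
    Commute (xg C s c) (xg C r d) := by
  have h1 : ∀ s ∈ [9, 10, 11], s = 9 ∨ s ∈ [10, 11] := by decide
  have h2 : ∀ s ∈ [9, 10, 11], s ∈ [7, 8, 9, 10, 11] := by decide
  rcases h1 r hr with rfl | h
  · rcases h1 s hs with rfl | h'
    · show _ * _ = _ * _
      rw [xg_mul, xg_mul, add_comm]
    · exact (k_comm C (h2 9 (by decide)) h' d c).symm
  · exact k_comm C (h2 s hs) h c d

theorem comm_t {s : ℕ} (hs : s ∈ [5, 6, 9, 10, 11]) (c : F) : Commute (xg C 9 (1 : F)) (xg C s c) := by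
  have h := tables.2.2.1
  simp only [List.all_eq_true] at h
  have hs' : ∀ s ∈ [5, 6, 9, 10, 11], s ∈ [4, 5, 6, 7, 8, 9, 10, 11] := by decide
  exact (comm_ok C (lt_of_mem (hs' s hs)) (lt_of_mem (by simp)) (h s hs) c 1).symm

theorem k_form {k : GL chevG2.Idx F} (hk : k ∈ rootsSub C [10, 11]) :
    ∃ a b : F, k = xg C 10 a * xg C 11 b := by
  have l : ∀ r ∈ [11], r < chevG2.nroots := fun r hr => lt_of_mem (by revert r; decide)
  obtain ⟨a, k1, hk1, rfl⟩ := split_cons C tables.2.2.2.2.2.2.2.1 (lt_of_mem (by simp)) l hk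
  obtain ⟨b, k2, hk2, rfl⟩ := split_cons C (R := []) (by decide +kernel) (lt_of_mem (by simp)) (by simp) hk1
  rw [rootsSub_nil, Subgroup.mem_bot] at hk2
  exact ⟨a, b, by rw [hk2, mul_one]⟩

/-- conjugation by the parabolic subgroup moves `t` inside `tK` -/
theorem par_orbit {g : GL chevG2.Idx F} (hg : g ∈ rootsSub C [5, 6, 7, 8, 9, 10, 11]) :
    (∀ k ∈ rootsSub C [10, 11], g * k * g⁻¹ ∈ rootsSub C [10, 11]) ∧
    (xg C 9 (1 : F))⁻¹ * (g * xg C 9 (1 : F) * g⁻¹) ∈ rootsSub C [10, 11] := by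
  have gen : ∀ s ∈ [5, 6, 7, 8, 9, 10, 11], ∀ c : F,
      (∀ k ∈ rootsSub C [10, 11], xg C s c * k * (xg C s c)⁻¹ ∈ rootsSub C [10, 11]) ∧
      (xg C 9 (1 : F))⁻¹ * (xg C s c * xg C 9 (1 : F) * (xg C s c)⁻¹) ∈ rootsSub C [10, 11] := by
    intro s hs c
    have hsub : ∀ s ∈ [5, 6, 7, 8, 9, 10, 11], s < chevG2.nroots := fun r hr => lt_of_mem (by revert r; decide)
    have hk : ∀ r ∈ [10, 11], r < chevG2.nroots := fun r hr => lt_of_mem (by revert r; decide)
    refine ⟨fun k hk' => conj_mem C tables.1 hsub hk hs c hk', ?_⟩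
    have h := tables.2.1
    simp only [List.all_eq_true] at h
    by_cases he : 9 = s
    · subst he
      rw [show xg C 9 c * xg C 9 (1 : F) * (xg C 9 c)⁻¹ = xg C 9 1 by
        rw [xg_mul, xg_inv, xg_mul, add_neg_cancel_comm], inv_mul_cancel]
      exact one_mem _
    · have := h s hs
      simp only [Bool.or_eq_true, beq_iff_eq, he, false_or, Bool.and_eq_true, bne_iff_ne] at this
      rw [conj_xg C (hsub s hs) (lt_of_mem (by simp)) he this.1, inv_mul_cancel_left]
      exact wg_mem C this.2 _ _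
  induction hg using Subgroup.closure_induction'' with
  | mem x hx => obtain ⟨s, hs, c, rfl⟩ := hx; exact gen s hs c
  | inv_mem x hx => obtain ⟨s, hs, c, rfl⟩ := hx; rw [xg_inv]; exact gen s hs (-c)
  | one => exact ⟨fun k hk => by simpa using hk, by simp⟩
  | mul a b _ _ ha hb =>
    refine ⟨fun k hk => ?_, ?_⟩
    · have := ha.1 _ (hb.1 k hk)
      simpa [mul_assoc] using this
    · set v := xg C 9 (1 : F)
      rw [show v⁻¹ * (a * b * v * (a * b)⁻¹) =
        (v⁻¹ * (a * v * a⁻¹)) * (a * (v⁻¹ * (b * v * b⁻¹)) * a⁻¹) by group]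
      exact mul_mem ha.2 (ha.1 _ hb.2)

theorem y_facts (a b : F) :
    (([(9, 1), (10, a), (11, b)] : List (ℕ × F)).map Prod.fst).Nodup ∧
    (∀ p ∈ ([(9, 1), (10, a), (11, b)] : List (ℕ × F)), chevG2.nroots / 2 ≤ p.1 ∧ p.1 < chevG2.nroots) ∧
    (∀ p ∈ ([(9, 1), (10, a), (11, b)] : List (ℕ × F)), ∀ q ∈ ([(9, 1), (10, a), (11, b)] : List (ℕ × F)),
      Commute (xg C p.1 p.2) (xg C q.1 q.2)) ∧
    lprod C [(9, 1), (10, a), (11, b)] = xg C 9 (1 : F) * (xg C 10 a * xg C 11 b) := by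
  refine ⟨by simp, fun p hp => ?_, fun p hp q hq => ?_, by simp [lprod]⟩
  · rw [sizes.1]
    simp only [List.mem_cons, List.not_mem_nil, or_false] at hp
    rcases hp with rfl | rfl | rfl <;> norm_num
  · simp only [List.mem_cons, List.not_mem_nil, or_false] at hp hq
    rcases hp with rfl | rfl | rfl <;> rcases hq with rfl | rfl | rfl <;> exact tri_comm C (by simp) (by simp) _ _

variable (S : Sys chevG2 F)

include S in
theorem centralizer_le {g : GL chevG2.Idx F} (hg : g ∈ chevG2.group F)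
    (hgv : Commute (xg C 9 (1 : F)) g) : g ∈ rootsSub C [9, 10, 11, 6, 5] := by
  set v := xg C 9 (1 : F)
  obtain ⟨u, hu, m, u', hu', rfl⟩ := decomp C S hg
  rw [posUnipotent_eq_rootsSub C] at hu hu'
  have hpar : rootsSub C (F := F) [6, 7, 8, 9, 10, 11] ≤ rootsSub C [5, 6, 7, 8, 9, 10, 11] :=
    rootsSub_mono C (by decide)
  obtain ⟨-, hy⟩ := par_orbit C (hpar hu')
  obtain ⟨-, hy'⟩ := par_orbit C (inv_mem (hpar hu))
  rw [inv_inv] at hy'
  have hconj : (m : GL chevG2.Idx F) * (v * (v⁻¹ * (u' * v * u'⁻¹))) * (m : GL chevG2.Idx F)⁻¹ =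
      v * (v⁻¹ * (u⁻¹ * v * u)) := by
    rw [mul_inv_cancel_left, mul_inv_cancel_left]
    calc (m : GL chevG2.Idx F) * (u' * v * u'⁻¹) * (m : GL chevG2.Idx F)⁻¹
        = u⁻¹ * ((u * m * u') * v) * u'⁻¹ * (m : GL chevG2.Idx F)⁻¹ := by group
      _ = u⁻¹ * (v * (u * m * u')) * u'⁻¹ * (m : GL chevG2.Idx F)⁻¹ := by rw [hgv.eq]
      _ = u⁻¹ * v * u := by group
  obtain ⟨a0, b0, e0⟩ := k_form C hy
  obtain ⟨a1, b1, e1⟩ := k_form C hy'
  rw [e0, e1] at hconj
  obtain ⟨n1, n2, n3, n4⟩ := y_facts C a0 b0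
  obtain ⟨n1', n2', n3', n4'⟩ := y_facts C a1 b1
  rw [← n4, ← n4'] at hconj
  obtain ⟨q, hq, -, e9⟩ := conj_supp C S m n1 n1' n2 n2' n3 n3' hconj (9, 1) (by simp) one_ne_zero
  simp only at e9
  have h10 : (10 : ℕ) < chevG2.nroots := lt_of_mem (by simp)
  have hp := pairing_img C S (S.toW m) (n2 q hq).2 (S.X.img_lt (S.toW m)⁻¹ h10)
  rw [S.X.img_img_inv, e9] at hp
  have hq9 : q.1 = 9 := by
    have t : ∀ r ∈ [9, 10, 11], ∀ x, x < chevG2.nroots → chevG2.pairing 9 10 = chevG2.pairing r x → r = 9 := by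
      decide +kernel
    refine t q.1 ?_ _ (S.X.img_lt _ h10) hp
    simp only [List.mem_cons, List.not_mem_nil, or_false] at hq ⊢
    rcases hq with rfl | rfl | rfl <;> simp
  rw [hq9] at e9
  have hlev : ∀ i : Fin chevG2.rank, (∀ a ∈ [9], chevG2.cartan i a = 0) →
      chevG2.simple i ∈ [6, 5] ∧ chevG2.neg (chevG2.simple i) ∈ [6, 5] := by decide +kernel
  obtain ⟨m', hm', hw⟩ := stab_lift C S [9] (by decide +kernel) (rootsSub C [6, 5])
    (fun i h0 => mul_mem (mul_mem (mem_rootsSub C (hlev i h0).1 _) (mem_rootsSub C (hlev i h0).2 _))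
      (mem_rootsSub C (hlev i h0).1 _))
    (S.toW m) (by simpa using e9)
  have hker : (m : GL chevG2.Idx F) * (m' : GL chevG2.Idx F)⁻¹ ∈ chevG2.diagonalSubgroup F :=
    S.toW_ker.le (show m * m'⁻¹ ∈ S.toW.ker by simp [MonoidHom.mem_ker, hw])
  obtain ⟨c, hc⟩ := (ChevalleyTorus.mem_H_iff C).1 hker
  have commList : ∀ R : List ℕ, (∀ s ∈ R, s ∈ [5, 6, 9, 10, 11]) →
      ∀ y ∈ rootsSub C R, Commute v y := by
    intro R hR y hy
    refine Subgroup.closure_induction (p := fun y _ => Commute v y) ?_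
      (Commute.one_right _) (fun a b _ _ ha hb => ha.mul_right hb) (fun a _ ha => ha.inv_right) hy
    rintro x ⟨r, hr, t, rfl⟩
    exact comm_t C (hR r hr) t
  have hm'v : Commute v (m' : GL chevG2.Idx F) := commList [6, 5] (by decide) _ hm'
  -- the torus coordinate at node 0
  have hcc : tchar chevG2 c 9 = 1 := by
    have hlp : rootsSub C (F := F) [6, 5] ≤ rootsSub C [5, 6, 7, 8, 9, 10, 11] :=
      rootsSub_mono C (by decide)
    obtain ⟨hK3, -⟩ := par_orbit C (hlp hm')
    have hk2 := hK3 _ hy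
    rw [e0] at hk2
    obtain ⟨a2, b2, e2⟩ := k_form C hk2
    have htor : torus chevG2 c * (v * (xg C 10 a2 * xg C 11 b2)) * (torus chevG2 c)⁻¹ =
        lprod C [(9, 1), (10, a1), (11, b1)] := by
      rw [← hconj, n4, hc, ← e2]
      calc (m : GL chevG2.Idx F) * (m' : GL chevG2.Idx F)⁻¹ *
            (v * ((m' : GL chevG2.Idx F) * (xg C 10 a0 * xg C 11 b0) * (m' : GL chevG2.Idx F)⁻¹)) *
            ((m : GL chevG2.Idx F) * (m' : GL chevG2.Idx F)⁻¹)⁻¹
          = (m : GL chevG2.Idx F) * ((m' : GL chevG2.Idx F)⁻¹ * v * (m' : GL chevG2.Idx F)) *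
              (xg C 10 a0 * xg C 11 b0) * (m : GL chevG2.Idx F)⁻¹ := by group
        _ = _ := by rw [mul_assoc (m' : GL chevG2.Idx F)⁻¹, hm'v.eq, inv_mul_cancel_left]; simp only [v]; group
    have hl9 : (9 : ℕ) < chevG2.nroots := lt_of_mem (by simp)
    have e : torus chevG2 c * (v * (xg C 10 a2 * xg C 11 b2)) * (torus chevG2 c)⁻¹ =
        lprod C [(9, (tchar chevG2 c 9 : F)), (10, (tchar chevG2 c 10 : F) * a2),
          (11, (tchar chevG2 c 11 : F) * b2)] := by
      have h9 := torus_conj_xg C hl9 c 1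
      have h10' := torus_conj_xg C h10 c a2
      have h11 := torus_conj_xg C (show 11 < chevG2.nroots from lt_of_mem (by simp)) c b2
      rw [mul_one] at h9
      simp only [v, lprod, List.map_cons, List.map_nil, List.prod_cons, List.prod_nil, mul_one, ← h9, ← h10', ← h11]
      group
    rw [e] at htor
    have hmem := lprod_inj C (l := [(9, (tchar chevG2 c 9 : F)), (10, (tchar chevG2 c 10 : F) * a2),
        (11, (tchar chevG2 c 11 : F) * b2)]) (by simp) n1' ?_ n2' ?_ n3' htor (9, (tchar chevG2 c 9 : F))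
      (by simp) (Units.ne_zero _)
    · simpa using hmem
    · intro p hp
      rw [sizes.1]
      simp only [List.mem_cons, List.not_mem_nil, or_false] at hp
      rcases hp with rfl | rfl | rfl <;> norm_num
    · intro p hp q hq
      simp only [List.mem_cons, List.not_mem_nil, or_false] at hp hq
      rcases hp with rfl | rfl | rfl <;> rcases hq with rfl | rfl | rfl <;> exact tri_comm C (by simp) (by simp) _ _
  have hH : torus chevG2 c ∈ rootsSub C [6, 5] := by
    have hc0 : c ⟨0, by decide +kernel⟩ = 1 := by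
      rw [← tchar_eq_coord C c (a := 9) (k := ⟨0, by decide +kernel⟩) (by decide +kernel) (by decide +kernel)]
      exact hcc
    rw [← Finset.univ_prod_mulSingle c]
    induction (Finset.univ : Finset (Fin chevG2.rank)) using Finset.induction_on with
    | empty => simp
    | insert i T hi ih =>
      rw [Finset.prod_insert hi, map_mul]
      refine mul_mem ?_ ih
      have t : ∀ i : Fin chevG2.rank, i.val = 0 ∨
          (chevG2.simple i ∈ [6, 5] ∧ chevG2.neg (chevG2.simple i) ∈ [6, 5]) := by decide +kernel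
      rcases t i with h | ⟨h1, h2⟩
      · rw [show c i = 1 from by rw [show i = ⟨0, by decide +kernel⟩ from Fin.ext h]; exact hc0,
          Pi.mulSingle_one, map_one]
        exact one_mem _
      · rw [← hg_simple C]
        exact mul_mem (mul_mem (mul_mem (mem_rootsSub C h1 _) (mem_rootsSub C h2 _)) (mem_rootsSub C h1 _))
          (mul_mem (mul_mem (mem_rootsSub C h1 _) (mem_rootsSub C h2 _)) (mem_rootsSub C h1 _))
  have hmL : (m : GL chevG2.Idx F) ∈ rootsSub C [6, 5] := by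
    have := mul_mem hH hm'
    rwa [hc, inv_mul_cancel_right] at this
  have hgp : u * (m : GL chevG2.Idx F) * u' ∈ rootsSub C [6, 5] ⊔ rootsSub C [7, 8, 9, 10, 11] := by
    have hU : rootsSub C (F := F) [6, 7, 8, 9, 10, 11] ≤ rootsSub C [6, 5] ⊔ rootsSub C [7, 8, 9, 10, 11] := by
      refine (Subgroup.closure_le _).2 ?_
      rintro y ⟨r, hr, t, rfl⟩
      have hrl : ∀ r ∈ [6, 7, 8, 9, 10, 11], r ∈ [6, 5] ∨ r ∈ [7, 8, 9, 10, 11] := by decide
      rcases hrl r hr with h | h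
      · exact Subgroup.mem_sup_left (mem_rootsSub C h t)
      · exact Subgroup.mem_sup_right (mem_rootsSub C h t)
    exact mul_mem (mul_mem (hU hu) (Subgroup.mem_sup_left hmL)) (hU hu')
  have hnorm : rootsSub C (F := F) [6, 5] ≤
      Subgroup.normalizer (rootsSub C (F := F) [7, 8, 9, 10, 11] : Set (GL chevG2.Idx F)) :=
    le_normalizer C tables.2.2.2.2.1 (fun r hr => lt_of_mem (by revert r; decide))
      (fun r hr => lt_of_mem (by revert r; decide))
  rw [← SetLike.mem_coe, Subgroup.coe_mul_of_left_le_normalizer_right _ _ hnorm] at hgp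
  obtain ⟨p, hp', μ, hμ, eg⟩ := hgp
  obtain ⟨a, μ1, hμ1, rfl⟩ := split_cons C tables.2.2.2.2.2.1 (lt_of_mem (by simp))
    (fun r hr => lt_of_mem (by revert r; decide)) hμ
  obtain ⟨b, lam, hlam, rfl⟩ := split_cons C tables.2.2.2.2.2.2.1 (lt_of_mem (by simp))
    (fun r hr => lt_of_mem (by revert r; decide)) hμ1
  have hpv : Commute v p := commList [6, 5] (by decide) p hp'
  have hlv : Commute v lam := commList [9, 10, 11] (by decide) lam hlam
  have eg' : u * (m : GL chevG2.Idx F) * u' = p * (xg C 7 a * xg C 8 b) * lam := by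
    rw [← eg]; simp [mul_assoc]
  have hzv : Commute v (xg C 7 a * xg C 8 b) := by
    have h := (hpv.inv_right.mul_right (eg' ▸ hgv)).mul_right hlv.inv_right
    simpa [mul_assoc] using h
  have three : (3 : F) = 1 := by
    have h2 : (2 : F) = 0 := by exact_mod_cast CharP.cast_eq_zero F 2
    linear_combination h2
  have l9 : (9 : ℕ) < chevG2.nroots := lt_of_mem (by simp)
  have h7 : xg C 7 a * v * (xg C 7 a)⁻¹ = v * xg C 10 a := by
    rw [conj_xg C (lt_of_mem (by simp)) l9 (by norm_num) (by decide +kernel)]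
    simp [ChevalleyDatum.commWord, tables.2.2.2.2.2.2.2.2.1, wg, v, three]
  have h8 : xg C 8 b * v * (xg C 8 b)⁻¹ = v * xg C 11 b := by
    rw [conj_xg C (lt_of_mem (by simp)) l9 (by norm_num) (by decide +kernel)]
    simp [ChevalleyDatum.commWord, tables.2.2.2.2.2.2.2.2.2, wg, v, three]
  have hp2 : xg C 7 a * xg C 8 b * v * (xg C 7 a * xg C 8 b)⁻¹ = v * (xg C 10 a * xg C 11 b) := by
    have hkc : xg C 7 a * xg C 11 b * (xg C 7 a)⁻¹ = xg C 11 b := by
      rw [(k_comm C (s := 7) (r := 11) (by simp) (by simp) a b).eq, mul_inv_cancel_right]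
    calc xg C 7 a * xg C 8 b * v * (xg C 7 a * xg C 8 b)⁻¹
        = xg C 7 a * (xg C 8 b * v * (xg C 8 b)⁻¹) * (xg C 7 a)⁻¹ := by group
      _ = (xg C 7 a * v * (xg C 7 a)⁻¹) * (xg C 7 a * xg C 11 b * (xg C 7 a)⁻¹) := by rw [h8]; group
      _ = _ := by rw [h7, hkc, mul_assoc]
  rw [← hzv.eq, mul_inv_cancel_right, left_eq_mul] at hp2
  have hz0 : ∀ p ∈ ([(10, a), (11, b)] : List (ℕ × F)), p.2 = 0 := by
    intro p hpm
    by_contra h0
    obtain ⟨f1, f2, f3, -⟩ := y_facts C a b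
    have := lprod_inj C (l := [(10, a), (11, b)]) (l' := []) (by simp) (by simp)
      (fun q hq => f2 q (List.mem_cons_of_mem _ hq)) (by simp)
      (fun q hq r hr => f3 q (List.mem_cons_of_mem _ hq) r (List.mem_cons_of_mem _ hr)) (by simp)
      (by simpa [lprod] using hp2) p hpm h0
    simp at this
  have ha : a = 0 := hz0 (10, a) (by simp)
  have hb : b = 0 := hz0 (11, b) (by simp)
  rw [eg', ha, hb]
  simp only [xg_zero, mul_one]
  exact mul_mem (rootsSub_mono C (by decide) hp') (rootsSub_mono C (by decide) hlam)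

include S in
theorem centralizer_eq_cand :
    chevG2.group F ⊓ Subgroup.centralizer {xg C 9 (1 : F)} = rootsSub C [9, 10, 11, 6, 5] := by
  refine le_antisymm (fun g hg => centralizer_le C S hg.1
    (Subgroup.mem_centralizer_singleton_iff.1 hg.2).symm) (le_inf ?_ ?_)
  · refine (Subgroup.closure_le _).2 ?_
    rintro y ⟨r, -, t, rfl⟩
    exact xg_mem_group C r t
  · refine (Subgroup.closure_le _).2 ?_
    rintro y ⟨r, hr, t, rfl⟩
    have h : ∀ r ∈ [9, 10, 11, 6, 5], r ∈ [5, 6, 9, 10, 11] := by decide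
    exact Subgroup.mem_centralizer_singleton_iff.2 (comm_t C (h r hr) t).eq.symm

end Cfsg.Agent.ChevG2Involutions
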