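import Cfsg.Agent.Lib.GaussPrescribed77
import Cfsg.Agent.Lib.ChevalleyRankOne
import Cfsg.Agent.Lib.ChevSimpleGen
import Cfsg.Agent.Lib.ChevalleyTorus

/-!
The Gauss decomposition with prescribed diagonal part for the split Chevalley groups: the data of the nodes.
-/

set_option autoImplicit false
set_option linter.unusedSectionVars false

namespace Cfsg.Agent.ChevGauss77

open Cfsg.Lie Cfsg.Agent.ChevalleyCert Cfsg.Agent.ChevalleyRoots Cfsg.Agent.ChevalleyCore
  Cfsg.Agent.ChevalleyTorus Cfsg.Agent.ChevalleyUnipotent Cfsg.Agent.ChevalleyRankOne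
  Cfsg.Agent.GaussPrescribed77
open scoped MatrixGroups

variable {D : ChevalleyDatum} (C : Cert D) {F : Type*} [Field F]

/-- the negative analogue of `U_p` -/
def vP (i : ℕ) : Subgroup (GL D.Idx F) :=
  Subgroup.closure {g : GL D.Idx F | ∃ (s : ℕ) (t : F), D.IsNegRoot s ∧ s ≠ D.neg (D.simple i) ∧
    (g : Matrix D.Idx D.Idx F) = D.x F s t}

include C

theorem vP_conj {i r : ℕ} (hi : i < D.rank) (hr : r = D.simple i ∨ r = D.neg (D.simple i)) (t : F)
    {s : ℕ} (hs : D.IsNegRoot s) (hne : s ≠ D.neg (D.simple i)) (u : F) :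
    xg C r t * xg C s u * (xg C r t)⁻¹ ∈ vP (D := D) (F := F) i := by
  have hs2 : s < D.nroots := hs.1
  have hs1 : s < D.nroots / 2 := (isNeg C).1 hs
  have hne' : D.neg s ≠ D.simple i := fun h => hne (by rw [← h, neg_neg' C hs2])
  obtain ⟨j, hj, hji, hjs⟩ := exists_other C hi ((neg_pos C hs2).2 hs1) (C.neg_lt s) hne'
  rw [C.coef_neg s j hs2 hj] at hjs
  have hpl := simple_lt C hi
  have hrl : r < D.nroots := by rcases hr with rfl | rfl <;> first | exact hpl | exact C.neg_lt _
  have hcr : C.coef r j = 0 := by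
    rcases hr with rfl | rfl
    · rw [C.coef_simple i j hi hj, if_neg hji]
    · rw [C.coef_neg _ j hpl hj, C.coef_simple i j hi hj, if_neg hji, neg_zero]
  have h1 : s ≠ r := fun h => by rw [h, hcr] at hjs; omega
  have h2 : s ≠ D.neg r := fun h => by rw [h, C.coef_neg r j hrl hj, hcr] at hjs; omega
  have h := comm_formula C hrl hs2 h1 h2 (-t) u
  have e : xg C r t * xg C s u * (xg C r t)⁻¹ = xg C s u * wg C (D.commWord F r s (-t) u) := by
    rw [xg_inv, mul_assoc, h, ← mul_assoc, ← mul_assoc, xg_mul, add_neg_cancel, xg_zero, one_mul]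
  rw [e]
  refine mul_mem (Subgroup.subset_closure ⟨s, u, hs, hne, rfl⟩) (Subgroup.list_prod_mem _ ?_)
  intro g hg'
  simp only [ChevalleyDatum.commWord, List.map_map, List.mem_map] at hg'
  obtain ⟨c, hc, rfl⟩ := hg'
  obtain ⟨c1, _, c3, c4⟩ := commTerms_mem C hrl hs2 hc
  have hneg : C.coef c.1 j < 0 := by
    rw [c4 j hj, hcr]
    have : (1 : ℤ) ≤ c.2.2.2 := by exact_mod_cast c3
    nlinarith
  refine Subgroup.subset_closure ⟨c.1, _, (isNeg C).2 ?_, ?_, rfl⟩
  · by_contra hc'
    have := C.coef_pos c.1 j (by omega) c1 hj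
    omega
  · intro h
    rw [h, C.coef_neg _ j hpl hj, C.coef_simple i j hi hj, if_neg hji] at hneg
    omega

/-- a rank-one image normalises a subgroup closed under its generators -/
theorem conj_mem_of_gen {i : ℕ} (hi : i < D.rank) {S : Set (GL D.Idx F)}
    (h : ∀ r, (r = D.simple i ∨ r = D.neg (D.simple i)) → ∀ t : F, ∀ g ∈ S,
      xg C r t * g * (xg C r t)⁻¹ ∈ Subgroup.closure S)
    (A : SL(2, F)) {v : GL D.Idx F} (hv : v ∈ Subgroup.closure S) :
    ChevalleySL2.phi (rels C (simple_lt C hi)) A * v * (ChevalleySL2.phi (rels C (simple_lt C hi)) A)⁻¹ ∈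
      Subgroup.closure S := by
  have hA : ChevalleySL2.phi (rels C (simple_lt C hi)) A ∈
      Subgroup.closure (Set.range (fun t : F => xg C (D.simple i) t) ∪
        Set.range fun t : F => xg C (D.neg (D.simple i)) t) := by
    rw [← ChevalleySL2.range_phi (rels C (simple_lt C hi))]; exact ⟨A, rfl⟩
  generalize ChevalleySL2.phi (rels C (simple_lt C hi)) A = k at hA
  have gen : ∀ r, (r = D.simple i ∨ r = D.neg (D.simple i)) → ∀ t : F, ∀ v ∈ Subgroup.closure S,
      xg C r t * v * (xg C r t)⁻¹ ∈ Subgroup.closure S := by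
    intro r hr t v hv
    induction hv using Subgroup.closure_induction with
    | mem w hw => exact h r hr t w hw
    | one => simp
    | mul a b _ _ ha hb => simpa [mul_assoc] using mul_mem ha hb
    | inv a _ ha => simpa [mul_assoc] using inv_mem ha
  have main : (∀ v ∈ Subgroup.closure S, k * v * k⁻¹ ∈ Subgroup.closure S) ∧
      ∀ v ∈ Subgroup.closure S, k⁻¹ * v * k ∈ Subgroup.closure S := by
    clear hv
    induction hA using Subgroup.closure_induction with
    | mem x hx =>
      rcases hx with ⟨t, rfl⟩ | ⟨t, rfl⟩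
      · exact ⟨gen _ (Or.inl rfl) t, fun v hv => by
          have := gen _ (Or.inl rfl) (-t) v hv; rwa [← xg_inv, inv_inv] at this⟩
      · exact ⟨gen _ (Or.inr rfl) t, fun v hv => by
          have := gen _ (Or.inr rfl) (-t) v hv; rwa [← xg_inv, inv_inv] at this⟩
    | one => simp
    | mul a b _ _ ha hb =>
      exact ⟨fun v hv => by simpa [mul_assoc] using ha.1 _ (hb.1 v hv),
        fun v hv => by simpa [mul_assoc] using hb.2 _ (ha.2 v hv)⟩
    | inv a _ ha => exact ⟨fun v hv => by simpa using ha.2 v hv, fun v hv => by simpa using ha.1 v hv⟩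
  exact main.1 v hv

theorem tchar_neg (c : Fin D.rank → Fˣ) {s : ℕ} (hs : s < D.nroots) :
    tchar D c (D.neg s) = (tchar D c s)⁻¹ := by
  simp only [tchar, ← Finset.prod_inv_distrib]
  refine Finset.prod_congr rfl fun i _ => ?_
  rw [cartan_lin' C i.isLt (C.neg_lt s), cartan_lin' C i.isLt hs, ← zpow_neg, ← Finset.sum_neg_distrib]
  refine congrArg _ (Finset.sum_congr rfl fun j hj => ?_)
  rw [C.coef_neg s j hs (Finset.mem_range.1 hj), neg_mul]

omit C

open Classical in
/-- the value of a diagonal matrix at a root -/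
noncomputable def rootVal (D : ChevalleyDatum) (r : ℕ) (g : GL D.Idx F) : Fˣ :=
  if hr : r < D.nroots then
    if h : (g : Matrix D.Idx D.Idx F) (Sum.inr ⟨r, hr⟩) (Sum.inr ⟨r, hr⟩) = 0 then 1 else Units.mk0 _ h
  else 1

theorem rootVal_torus {r : ℕ} (hr : r < D.nroots) (c : Fin D.rank → Fˣ) :
    rootVal D r (torus D c : GL D.Idx F) = tchar D c r := by
  have e : ((torus D c : GL D.Idx F) : Matrix D.Idx D.Idx F) (Sum.inr ⟨r, hr⟩) (Sum.inr ⟨r, hr⟩) =
      (tchar D c r : F) := by
    rw [coe_torus, tmat, Matrix.diagonal_apply_eq]; rfl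
  rw [rootVal, dif_pos hr, dif_neg (by rw [e]; exact Units.ne_zero _)]
  exact Units.ext e

include C

theorem rootVal_mul {r : ℕ} (hr : r < D.nroots) {g h : GL D.Idx F} (hg : g ∈ D.diagonalSubgroup F)
    (hh : h ∈ D.diagonalSubgroup F) : rootVal D r (g * h) = rootVal D r g * rootVal D r h := by
  obtain ⟨c, rfl⟩ := (mem_H_iff C).1 hg
  obtain ⟨d, rfl⟩ := (mem_H_iff C).1 hh
  rw [← map_mul, rootVal_torus hr, rootVal_torus hr, rootVal_torus hr, tchar_mul]

theorem phi_up {r : ℕ} (hr : r < D.nroots) (t : F) : ChevalleySL2.phi (rels C hr) (up t) = xg C r t :=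
  ChevalleySL2.phi_upper (rels C hr) t

theorem phi_lo {r : ℕ} (hr : r < D.nroots) (t : F) : ChevalleySL2.phi (rels C hr) (lo t) = xg C (D.neg r) t :=
  ChevalleySL2.phi_lower (rels C hr) t

theorem phi_dia {r : ℕ} (hr : r < D.nroots) (t : Fˣ) :
    ChevalleySL2.phi (rels C hr) (dia t) = hg C r (t : F) := by
  show ChevalleySL2.phiFun _ _ (dia t) = _
  simp [ChevalleySL2.phiFun, ChevalleySL2.phiE, xg_zero]
  rfl

/-- the node of a fundamental root -/
noncomputable def node (i : Fin D.rank) :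
    Node (D.posUnipotent F) (D.negUnipotent F) (D.diagonalSubgroup F) F where
  φ := ChevalleySL2.phi (rels C (simple_lt C i.isLt))
  Ui := uP (D := D) i.val
  Vi := vP (D := D) i.val
  α := rootVal D (D.simple i.val)
  Ui_le := Subgroup.closure_mono fun _ ⟨s, t, hs, _, h⟩ => ⟨s, t, hs, h⟩
  Vi_le := Subgroup.closure_mono fun _ ⟨s, t, hs, _, h⟩ => ⟨s, t, hs, h⟩
  up_mem e := by
    rw [phi_up C (simple_lt C i.isLt)]
    exact xg_mem_U C (C.simple_mem _ i.isLt).1 (C.simple_mem _ i.isLt).2 e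
  lo_mem c := by
    rw [phi_lo C (simple_lt C i.isLt)]
    refine xg_mem_V C ?_ c
    by_contra hc
    have h1 := (neg_pos C (simple_lt C i.isLt)).1 (by omega)
    have := (C.simple_mem _ i.isLt).1
    omega
  dia_mem t := by rw [phi_dia C (simple_lt C i.isLt)]; exact hg_mem_H C (simple_lt C i.isLt) t.ne_zero
  U_split u hu := by
    have key : ∀ e : F, ∀ w ∈ uP (D := D) (F := F) i.val,
        (xg C (D.simple i.val) e)⁻¹ * w * xg C (D.simple i.val) e ∈ uP (D := D) (F := F) i.val := by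
      intro e w hw
      have := conj_mem_of_gen C i.isLt (S := {g : GL D.Idx F | ∃ (s : ℕ) (t : F), D.IsPosRoot s ∧
        s ≠ D.simple i.val ∧ (g : Matrix D.Idx D.Idx F) = D.x F s t})
        (fun r hr t g ⟨s, u, hs, hne, hg'⟩ => by
          obtain rfl := (xg_eq_iff C).1 hg'
          exact uP_conj C i.isLt hr t hs hne u) (up e)⁻¹ hw
      simpa [map_inv, phi_up C (simple_lt C i.isLt), uP] using this
    rw [← uP_sup C i.isLt] at hu
    rw [rootSubgroup_eq C, uP, ← Subgroup.closure_union] at hu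
    induction hu using Subgroup.closure_induction with
    | mem x hx =>
      rcases hx with ⟨s, t, hs, hne, hx⟩ | ⟨t, rfl⟩
      · exact ⟨0, x, Subgroup.subset_closure ⟨s, t, hs, hne, hx⟩, by rw [phi_up C (simple_lt C i.isLt), xg_zero, one_mul]⟩
      · exact ⟨t, 1, one_mem _, by rw [phi_up C (simple_lt C i.isLt), mul_one]⟩
    | one => exact ⟨0, 1, one_mem _, by rw [phi_up C (simple_lt C i.isLt), xg_zero, one_mul]⟩
    | mul a b _ _ ha hb =>
      obtain ⟨e1, w1, hw1, rfl⟩ := ha
      obtain ⟨e2, w2, hw2, rfl⟩ := hb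
      exact ⟨e1 + e2, _, mul_mem (key e2 w1 hw1) hw2, by simp only [phi_up C (simple_lt C i.isLt), ← xg_mul C]; group⟩
    | inv a _ ha =>
      obtain ⟨e, w, hw, rfl⟩ := ha
      exact ⟨-e, _, key (-e) _ (inv_mem hw), by simp only [phi_up C (simple_lt C i.isLt), ← xg_inv C]; group⟩
  V_split v hv := by
    have key : ∀ c : F, ∀ w ∈ vP (D := D) (F := F) i.val,
        xg C (D.neg (D.simple i.val)) c * w * (xg C (D.neg (D.simple i.val)) c)⁻¹ ∈
          vP (D := D) (F := F) i.val := by
      intro c w hw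
      have := conj_mem_of_gen C i.isLt (S := {g : GL D.Idx F | ∃ (s : ℕ) (t : F), D.IsNegRoot s ∧
        s ≠ D.neg (D.simple i.val) ∧ (g : Matrix D.Idx D.Idx F) = D.x F s t})
        (fun r hr t g ⟨s, u, hs, hne, hg'⟩ => by
          obtain rfl := (xg_eq_iff C).1 hg'
          exact vP_conj C i.isLt hr t hs hne u) (lo c) hw
      simpa [phi_lo C (simple_lt C i.isLt), vP] using this
    induction hv using Subgroup.closure_induction with
    | mem x hx =>
      obtain ⟨s, t, hs, hx⟩ := hx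
      by_cases h : s = D.neg (D.simple i.val)
      · subst h
        obtain rfl := (xg_eq_iff C).1 hx
        exact ⟨t, 1, one_mem _, by rw [phi_lo C (simple_lt C i.isLt), one_mul]⟩
      · exact ⟨0, x, Subgroup.subset_closure ⟨s, t, hs, h, hx⟩, by rw [phi_lo C (simple_lt C i.isLt), xg_zero, mul_one]⟩
    | one => exact ⟨0, 1, one_mem _, by rw [phi_lo C (simple_lt C i.isLt), xg_zero, mul_one]⟩
    | mul a b _ _ ha hb =>
      obtain ⟨c1, w1, hw1, rfl⟩ := ha
      obtain ⟨c2, w2, hw2, rfl⟩ := hb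
      exact ⟨c1 + c2, _, mul_mem hw1 (key c1 w2 hw2), by simp only [phi_lo C (simple_lt C i.isLt), ← xg_mul C]; group⟩
    | inv a _ ha =>
      obtain ⟨c, w, hw, rfl⟩ := ha
      exact ⟨-c, _, key (-c) _ (inv_mem hw), by simp only [phi_lo C (simple_lt C i.isLt), ← xg_inv C]; group⟩
  normU A u hu :=
    conj_mem_of_gen C i.isLt (S := {g : GL D.Idx F | ∃ (s : ℕ) (t : F), D.IsPosRoot s ∧
      s ≠ D.simple i.val ∧ (g : Matrix D.Idx D.Idx F) = D.x F s t}) (fun r hr t g ⟨s, u, hs, hne, hg'⟩ => by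
      obtain rfl := (xg_eq_iff C).1 hg'
      exact uP_conj C i.isLt hr t hs hne u) A hu
  normV A v hv :=
    conj_mem_of_gen C i.isLt (S := {g : GL D.Idx F | ∃ (s : ℕ) (t : F), D.IsNegRoot s ∧
      s ≠ D.neg (D.simple i.val) ∧ (g : Matrix D.Idx D.Idx F) = D.x F s t}) (fun r hr t g ⟨s, u, hs, hne, hg'⟩ => by
      obtain rfl := (xg_eq_iff C).1 hg'
      exact vP_conj C i.isLt hr t hs hne u) A hv
  H_conj h hh A := by
    obtain ⟨c, rfl⟩ := (mem_H_iff C).1 hh
    have hs := simple_lt C i.isLt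
    rw [rootVal_torus hs]
    have h1 : ∀ e : F, torus D c * ChevalleySL2.phi (rels C hs) (up e) * (torus D c)⁻¹ =
        ChevalleySL2.phi (rels C hs) (dconj (tchar D c (D.simple i.val)) (up e)) := fun e => by
      rw [dconj_up, phi_up C hs, phi_up C hs, torus_conj_xg C hs]
    have h2 : ∀ e : F, torus D c * ChevalleySL2.phi (rels C hs) (lo e) * (torus D c)⁻¹ =
        ChevalleySL2.phi (rels C hs) (dconj (tchar D c (D.simple i.val)) (lo e)) := fun e => by
      have e1 : dconj (tchar D c (D.simple i.val)) (lo e) =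
          lo ((((tchar D c (D.simple i.val))⁻¹ : Fˣ) : F) * e) := by
        ext a b
        fin_cases a <;> fin_cases b <;> simp
      rw [e1, phi_lo C (simple_lt C i.isLt), phi_lo C (simple_lt C i.isLt), torus_conj_xg C (C.neg_lt _), tchar_neg C c hs]
    have h3 : ∀ t : Fˣ, torus D c * ChevalleySL2.phi (rels C hs) (dia t) * (torus D c)⁻¹ =
        ChevalleySL2.phi (rels C hs) (dconj (tchar D c (D.simple i.val)) (dia t)) := fun t => by
      rw [dconj_dia, phi_dia C (simple_lt C i.isLt), H_comm C hh (hg_mem_H C hs t.ne_zero), mul_inv_cancel_right]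
    obtain ⟨a, b, t, e, rfl⟩ := uldu A
    simp only [dconj_mul, map_mul, ← h1, ← h2, ← h3]
    group

/-- the nodes generate the group -/
theorem gen_eq : gen (node C (F := F)) = D.group F := by
  refine le_antisymm ?_ ?_
  · rw [gen, Subgroup.closure_le]
    rintro g hg'
    obtain ⟨i, hi⟩ := Set.mem_iUnion.1 hg'
    have h : ((node C (F := F) i).φ).range ≤ D.group F := by
      show (ChevalleySL2.phi (rels C (simple_lt C i.isLt))).range ≤ _
      rw [ChevalleySL2.range_phi, Subgroup.closure_le]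
      rintro _ (⟨t, rfl⟩ | ⟨t, rfl⟩) <;> exact xg_mem_group C _ _
    exact h hi
  · refine (Subgroup.closure_le _).2 ?_
    rintro y ⟨r, t, hy⟩
    have hy' : y = xg C r.val t := Units.ext (by rw [hy, coe_xg, ChevalleyDatum.x, dif_pos r.isLt])
    rw [hy']
    refine ChevSimpleGen.xg_mem C _ (fun i hi s => ⟨?_, ?_⟩) r.val r.isLt t
    · exact range_le (node C) ⟨i, hi⟩ ⟨up s, phi_up C (simple_lt C hi) s⟩
    · exact range_le (node C) ⟨i, hi⟩ ⟨lo s, phi_lo C (simple_lt C hi) s⟩

/-- every nontrivial element has a form nondegenerate at some node -/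
theorem exists_nondeg {g : GL D.Idx F} (hg' : g ∈ D.group F) (hne : g ≠ 1)
    (hH : ∀ c : Fin D.rank → Fˣ, (∀ i : Fin D.rank, tchar D c (D.simple i.val) = 1) → torus D c = 1) :
    ∃ i, ∃ k ∈ D.group F, ∃ v ∈ D.negUnipotent F, ∃ h ∈ D.diagonalSubgroup F, ∃ u ∈ D.posUnipotent F,
      k * g * k⁻¹ = v * h * u ∧ (node C i).Nondeg v h u := by
  have hU : D.posUnipotent F ≤ gen (node C (F := F)) := by
    rw [gen_eq C]
    refine (Subgroup.closure_le _).2 ?_
    rintro y ⟨r, t, _, hy⟩
    obtain rfl := (xg_eq_iff C).1 hy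
    exact xg_mem_group C r t
  obtain ⟨n, hn, hmap⟩ := U_conj_V C (F := F)
  have hnG : n ∈ D.group F := by
    revert hn
    have hle : D.monomialSubgroup F ≤ D.group F := by
      rw [N_eq C]
      refine sup_le ?_ ?_
      · refine (Subgroup.closure_le _).2 ?_
        rintro y ⟨r, t, _, _, hy⟩
        have : y = hg C r t := Units.ext (hy.trans (coe_hg C r t).symm)
        rw [this]
        exact mul_mem (mul_mem (mul_mem (xg_mem_group C _ _) (xg_mem_group C _ _)) (xg_mem_group C _ _))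
          (mul_mem (mul_mem (xg_mem_group C _ _) (xg_mem_group C _ _)) (xg_mem_group C _ _))
      · refine (Subgroup.closure_le _).2 ?_
        rintro y ⟨i, rfl⟩
        exact mul_mem (mul_mem (xg_mem_group C _ _) (xg_mem_group C _ _)) (xg_mem_group C _ _)
    exact fun hn => hle hn
  have h := GaussPrescribed77.exists_nondeg (node C (F := F)) hU (g := g) (by rw [gen_eq C]; exact hg') hne
    (fun h hh hα => by
      obtain ⟨c, rfl⟩ := (mem_H_iff C).1 hh
      exact hH c fun i => by rw [← rootVal_torus (simple_lt C i.isLt)]; exact hα i)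
    (by
      rw [eq_bot_iff, ← B_inf_V C]
      exact inf_le_inf_right _ le_sup_left)
    ⟨n, by rw [gen_eq C]; exact hnG, fun u hu => by
      rw [← hmap]; exact ⟨u, hu, rfl⟩, fun v hv => by
      rw [← hmap] at hv
      obtain ⟨u, hu, rfl⟩ := hv
      simpa [mul_assoc] using hu⟩
  rwa [gen_eq C] at h

end Cfsg.Agent.ChevGauss77
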