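import Mathlib
import Cfsg.Prelude.Def_ParabolicCharacters
import Cfsg.Agent.Lib.CharAverage
import Cfsg.Agent.Lib.CharBasicOrth
import Cfsg.Agent.Lib.CharBasicDecomp
import Cfsg.Agent.Lib.CharBasicPerm

/-!
The double coset algebra of a subgroup `B` of a finite group: the trace matrix has rank `k` and the
commutator matrix has rank `#(B\G/B) - k`, where `k` counts the irreducible constituents of the
permutation character on `G/B`.
-/

set_option autoImplicit false
set_option linter.unusedSectionVars false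
set_option linter.unusedVariables false

namespace Cfsg.Agent.HeckeCornerRank

open scoped ComplexConjugate
open Cfsg.Agent.CharBasic Cfsg.Agent.CharBasicOrth Cfsg.Agent.CharBasicDecomp Cfsg.Agent.CharBasicPerm

open scoped Classical

noncomputable section

variable {G : Type*} [Group G] [Fintype G]

/-- group elements in the algebra -/
abbrev δ (g : G) : MonoidAlgebra ℂ G := MonoidAlgebra.single g 1

/-- linear extension of a function on the group -/
def ev (f : G → ℂ) : MonoidAlgebra ℂ G →ₗ[ℂ] ℂ where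
  toFun a := ∑ g, a.coeff g * f g
  map_add' a b := by simp [add_mul, Finset.sum_add_distrib]
  map_smul' r a := by simp [Finset.mul_sum, mul_assoc]

lemma ev_δ (f : G → ℂ) (g : G) : ev f (δ g) = f g := by
  classical
  simp [ev, δ, MonoidAlgebra.coeff_single, Finsupp.single_apply]

lemma sum_δ (a : MonoidAlgebra ℂ G) : a = ∑ g, a.coeff g • δ g := by
  classical
  ext h
  simp [δ, MonoidAlgebra.coeff_sum, Finsupp.single_apply]

lemma δ_mul (g h : G) : δ g * δ h = δ (g * h) := by simp [δ, MonoidAlgebra.single_mul_single]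

variable (ψ χ : Cfsg.IrrCharacter G)

lemma ev_mul_comm (a b : MonoidAlgebra ℂ G) : ev (ψ : G → ℂ) (a * b) = ev (ψ : G → ℂ) (b * a) := by
  rw [sum_δ a, sum_δ b]
  simp only [Finset.sum_mul, Finset.mul_sum, map_sum, smul_mul_assoc, mul_smul_comm, δ_mul,
    map_smul, ev_δ, smul_eq_mul]
  rw [Finset.sum_comm]
  refine Finset.sum_congr rfl fun g _ => Finset.sum_congr rfl fun h _ => ?_
  have e : (ψ : G → ℂ) (h * g) = (ψ : G → ℂ) (g * h) := by
    rw [← CharAverage.irr_conj_apply ψ h (g * h)]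
    congr 1; group
  rw [e]; ring

lemma irr_one_conj : conj ((χ : G → ℂ) 1) = (χ : G → ℂ) 1 := by
  obtain ⟨n, -, hn⟩ := isIrrCharacter_apply_one χ.2
  rw [hn, map_natCast]

/-- elements are determined by the values of the irreducible characters on their translates -/
lemma eq_zero_of_ev {a : MonoidAlgebra ℂ G}
    (h : ∀ (ψ : Cfsg.IrrCharacter G) (g : G), ev (ψ : G → ℂ) (a * δ g) = 0) : a = 0 := by
  classical
  ext g
  have h1 : ∑ ψ : Cfsg.IrrCharacter G, (ψ : G → ℂ) 1 * ev (ψ : G → ℂ) (a * δ g⁻¹) =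
      ∑ u, a.coeff u * ∑ ψ : Cfsg.IrrCharacter G, (ψ : G → ℂ) (u * g⁻¹) * conj ((ψ : G → ℂ) 1) := by
    simp only [Finset.mul_sum]
    rw [Finset.sum_comm]
    refine Finset.sum_congr rfl fun ψ _ => ?_
    conv_lhs => rw [sum_δ a]
    simp only [Finset.sum_mul, map_sum, smul_mul_assoc, δ_mul, map_smul, ev_δ, Finset.mul_sum,
      smul_eq_mul]
    refine Finset.sum_congr rfl fun u _ => ?_
    rw [irr_one_conj]; ring
  simp only [h, mul_zero, Finset.sum_const_zero, sum_irr_mul_conj, isConj_one_left, isConj_one_right,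
    mul_ite, mul_zero] at h1
  rw [Finset.sum_eq_single g] at h1
  · rw [if_pos (by simp)] at h1
    rcases mul_eq_zero.1 h1.symm with h2 | h2
    · simpa using h2
    · exact absurd h2 (Nat.cast_ne_zero.2 Nat.card_pos.ne')
  · intro u _ hu
    rw [if_neg (by rw [mul_inv_eq_one]; exact hu)]
  · simp

/-- `Σ χ(x) ψ(x⁻¹ h)` -/
lemma orth (h : G) : ∑ x, (χ : G → ℂ) x * (ψ : G → ℂ) (x⁻¹ * h) =
    Cfsg.classInner (χ : G → ℂ) ψ * ((Nat.card G : ℂ) * (ψ : G → ℂ) h / (ψ : G → ℂ) 1) := by
  classical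
  obtain ⟨n, ρ, hi, hρ⟩ := ψ.2
  have hcl : Cfsg.IsClassFunction G (χ : G → ℂ) :=
    isClassFunction_of_isCharacter (isCharacter_of_isIrrCharacter χ.2)
  obtain ⟨c, hc, -⟩ := exists_scalar_of_commute ρ (∑ x, (χ : G → ℂ) x • ρ x⁻¹)
    (fun g v => smul_sum_commute hcl ρ g v)
  have key : ∀ h, ∑ x, (χ : G → ℂ) x * (ψ : G → ℂ) (x⁻¹ * h) = c * (ψ : G → ℂ) h := by
    intro h
    rw [← hρ]
    calc ∑ x, (χ : G → ℂ) x * ρ.character (x⁻¹ * h)
        = LinearMap.trace ℂ (Fin n → ℂ) ((∑ x, (χ : G → ℂ) x • ρ x⁻¹) * ρ h) := by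
          simp only [Finset.sum_mul, map_sum, smul_mul_assoc, map_smul, smul_eq_mul,
            Representation.character, map_mul]
      _ = c * ρ.character h := by rw [hc, smul_mul_assoc, map_smul, smul_eq_mul]; rfl
  have h1 := key 1
  have h2 : ∑ x, (χ : G → ℂ) x * (ψ : G → ℂ) (x⁻¹ * 1) =
      (Nat.card G : ℂ) * Cfsg.classInner (χ : G → ℂ) ψ := by
    rw [card_mul_classInner]
    refine Finset.sum_congr rfl fun x _ => ?_
    rw [mul_one, isCharacter_inv (isCharacter_of_isIrrCharacter ψ.2)]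
  rw [h2] at h1
  rw [key h, ← mul_div_assoc, eq_div_iff (CharAverage.irr_one_ne_zero ψ)]
  linear_combination -(ψ : G → ℂ) h * h1

/-- the central idempotent of a character -/
def P : MonoidAlgebra ℂ G :=
  ((χ : G → ℂ) 1 / (Nat.card G : ℂ)) • ∑ x, (χ : G → ℂ) x • δ x⁻¹

open Classical in
lemma ev_P (a : MonoidAlgebra ℂ G) :
    ev (ψ : G → ℂ) (P χ * a) = if χ = ψ then ev (ψ : G → ℂ) a else 0 := by
  rw [sum_δ a]
  simp only [Finset.mul_sum, mul_smul_comm, map_sum, map_smul, ev_δ, smul_eq_mul]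
  have h1 : ∀ g : G, ev (ψ : G → ℂ) (P χ * δ g) = if χ = ψ then (ψ : G → ℂ) g else 0 := by
    intro g
    simp only [P, Finset.sum_mul, smul_mul_assoc, δ_mul, map_smul, map_sum, ev_δ, smul_eq_mul]
    rw [orth, classInner_irrCharacter]
    by_cases h : χ = ψ
    · subst h
      rw [if_pos rfl, if_pos rfl, one_mul]
      have := CharAverage.irr_one_ne_zero χ
      have : (Nat.card G : ℂ) ≠ 0 := Nat.cast_ne_zero.2 Nat.card_pos.ne'
      field_simp
    · rw [if_neg h, if_neg h, zero_mul, mul_zero]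
  simp only [h1]
  split <;> simp

lemma P_comm (a : MonoidAlgebra ℂ G) : P χ * a = a * P χ := by
  classical
  rw [← sub_eq_zero]
  refine eq_zero_of_ev fun ψ g => ?_
  rw [sub_mul, map_sub, sub_eq_zero, mul_assoc, mul_assoc a (P χ) (δ g),
    ev_mul_comm ψ a (P χ * δ g), mul_assoc (P χ) (δ g) a, ev_P, ev_P, ev_mul_comm ψ a (δ g)]

/-- averaging over conjugates -/
def Z (a : MonoidAlgebra ℂ G) : MonoidAlgebra ℂ G := ∑ g, δ g * a * δ g⁻¹

lemma ev_Z (a w : MonoidAlgebra ℂ G) : ev (ψ : G → ℂ) (Z a * w) =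
    (Nat.card G : ℂ) * ev (ψ : G → ℂ) a * ev (ψ : G → ℂ) w / (ψ : G → ℂ) 1 := by
  have hxy : ∀ x y : G, ev (ψ : G → ℂ) (Z (δ x) * δ y) =
      (Nat.card G : ℂ) * (ψ : G → ℂ) x * (ψ : G → ℂ) y / (ψ : G → ℂ) 1 := by
    intro x y
    simp only [Z, Finset.sum_mul, δ_mul, map_sum, ev_δ, CharAverage.sum_conj_mul]
  have hZ : ∀ c : G → ℂ, Z (∑ x, c x • δ x) = ∑ x, c x • Z (δ x) := by
    intro c
    simp only [Z, Finset.mul_sum, Finset.sum_mul, mul_smul_comm, smul_mul_assoc, Finset.smul_sum]
    exact Finset.sum_comm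
  rw [sum_δ a, sum_δ w, hZ]
  simp only [Finset.mul_sum, Finset.sum_mul, map_sum, smul_mul_assoc, mul_smul_comm,
    map_smul, ev_δ, hxy, smul_eq_mul, Finset.sum_div]
  exact Finset.sum_congr rfl fun _ _ => Finset.sum_congr rfl fun _ _ => by ring

/-! ### the corner -/

variable (B : Subgroup G)

/-- the idempotent of `B` -/
def e : MonoidAlgebra ℂ G := (Nat.card B : ℂ)⁻¹ • ∑ b : B, δ (b : G)

lemma cB_ne : (Nat.card B : ℂ) ≠ 0 := Nat.cast_ne_zero.2 Nat.card_pos.ne'

variable {B}

lemma δ_mul_e {b : G} (hb : b ∈ B) : δ b * e B = e B := by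
  classical
  simp only [e, mul_smul_comm, Finset.mul_sum, δ_mul]
  congr 1
  exact Fintype.sum_equiv (Equiv.mulLeft (⟨b, hb⟩ : B)) _ _ fun x => rfl

lemma e_mul_δ {b : G} (hb : b ∈ B) : e B * δ b = e B := by
  classical
  simp only [e, smul_mul_assoc, Finset.sum_mul, δ_mul]
  congr 1
  exact Fintype.sum_equiv (Equiv.mulRight (⟨b, hb⟩ : B)) _ _ fun x => rfl

lemma e_mul_of {a : MonoidAlgebra ℂ G} (h : ∀ b ∈ B, δ b * a = a) : e B * a = a := by
  classical
  rw [e, smul_mul_assoc, Finset.sum_mul, Finset.sum_congr rfl (fun (b : B) _ => h (b : G) b.2),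
    Finset.sum_const, Finset.card_univ, ← Nat.card_eq_fintype_card, ← Nat.cast_smul_eq_nsmul ℂ,
    smul_smul, inv_mul_cancel₀ (cB_ne B), one_smul]

lemma mul_e_of {a : MonoidAlgebra ℂ G} (h : ∀ b ∈ B, a * δ b = a) : a * e B = a := by
  classical
  rw [e, mul_smul_comm, Finset.mul_sum, Finset.sum_congr rfl (fun (b : B) _ => h (b : G) b.2),
    Finset.sum_const, Finset.card_univ, ← Nat.card_eq_fintype_card, ← Nat.cast_smul_eq_nsmul ℂ,
    smul_smul, inv_mul_cancel₀ (cB_ne B), one_smul]

lemma e_mul_e : e B * e B = e B := e_mul_of fun b hb => δ_mul_e hb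

variable (B)

/-- the constituents of the permutation character on `G/B` -/
abbrev Constit : Type _ := {χ : Cfsg.IrrCharacter G // ev (χ : G → ℂ) (e B) ≠ 0}

variable {B}

lemma ev_e (χ : Cfsg.IrrCharacter G) :
    ev (χ : G → ℂ) (e B) = (Nat.card B : ℂ)⁻¹ * ∑ b : B, (χ : G → ℂ) (b : G) := by
  simp [e, map_sum, ev_δ]

lemma ev_mul_e_eq_zero {χ : Cfsg.IrrCharacter G} (h : ev (χ : G → ℂ) (e B) = 0)
    (a : MonoidAlgebra ℂ G) : ev (χ : G → ℂ) (a * e B) = 0 := by
  classical
  have hs : ∑ b : B, (χ : G → ℂ) (b : G) = 0 := by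
    rw [ev_e] at h
    exact (mul_eq_zero.1 h).resolve_left (inv_ne_zero (cB_ne B))
  set f : G → ℂ := fun g => ∑ b : B, (χ : G → ℂ) (g * b) with hf
  have h0 : ∑ g, f g * conj (f g) = 0 := by
    have h2 : ∀ b b' : B, ∑ g, (χ : G → ℂ) (g * b) * conj ((χ : G → ℂ) (g * b')) =
        (Nat.card G : ℂ) * (χ : G → ℂ) ((b' : G)⁻¹ * b) / (χ : G → ℂ) 1 := by
      intro b b'
      have ho := orth χ χ ((b' : G)⁻¹ * b)
      rw [classInner_irr_self χ.2, one_mul] at ho
      rw [← ho]
      refine (Fintype.sum_equiv ((Equiv.inv G).trans (Equiv.mulRight (b' : G)⁻¹)) _ _ fun x => ?_).symm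
      simp only [Equiv.trans_apply, Equiv.inv_apply, Equiv.coe_mulRight, inv_mul_cancel_right]
      rw [← isCharacter_inv (isCharacter_of_isIrrCharacter χ.2), inv_inv, mul_comm,
        mul_assoc x⁻¹ (b' : G)⁻¹]
    simp only [hf, map_sum, Finset.sum_mul, Finset.mul_sum]
    rw [Finset.sum_comm]
    refine Eq.trans (Finset.sum_congr rfl fun b _ => Finset.sum_comm) ?_
    rw [Finset.sum_comm]
    simp only [h2, ← Finset.sum_div, ← Finset.mul_sum]
    rw [Finset.sum_eq_zero (s := (Finset.univ : Finset B)), mul_zero, zero_div]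
    intro b' _
    rw [← hs]
    exact Fintype.sum_equiv ((Equiv.inv B).trans (Equiv.mulRight b')) _ _ fun b => rfl
  have hf0 : ∀ g, f g = 0 := by
    intro g
    simp only [Complex.mul_conj, ← Complex.ofReal_sum, Complex.ofReal_eq_zero] at h0
    exact Complex.normSq_eq_zero.1
      ((Finset.sum_eq_zero_iff_of_nonneg fun x _ => Complex.normSq_nonneg _).1 h0 g (Finset.mem_univ g))
  rw [sum_δ a]
  simp only [e, Finset.sum_mul, mul_smul_comm, Finset.mul_sum, smul_mul_assoc, δ_mul, map_sum,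
    map_smul, ev_δ, smul_eq_mul]
  rw [Finset.sum_comm]
  refine Finset.sum_eq_zero fun g _ => ?_
  rw [← Finset.mul_sum, ← Finset.mul_sum, show ∑ b : B, (χ : G → ℂ) (g * b) = 0 from hf0 g,
    mul_zero, mul_zero]

/-! ### double cosets indexed by a finite type -/

/-- an indexing of the double cosets of `B` -/
structure Cells (G : Type*) [Group G] (B : Subgroup G) (W : Type*) where
  cell : G → W
  rep : W → G
  cell_rep : ∀ x, cell (rep x) = x
  cell_eq : ∀ g h, cell g = cell h ↔ ∃ b ∈ B, ∃ b' ∈ B, h = b * g * b'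

variable {W : Type*} [Fintype W] (K : Cells G B W)

lemma Cells.cell_left (g : G) {b : G} (hb : b ∈ B) : K.cell (b * g) = K.cell g :=
  ((K.cell_eq g (b * g)).2 ⟨b, hb, 1, one_mem _, by group⟩).symm

lemma Cells.cell_right (g : G) {b : G} (hb : b ∈ B) : K.cell (g * b) = K.cell g :=
  ((K.cell_eq g (g * b)).2 ⟨1, one_mem _, b, hb, by group⟩).symm

open Classical in
/-- the normalised indicator of a double coset -/
def T (x : W) : MonoidAlgebra ℂ G :=
  (Nat.card B : ℂ)⁻¹ • ∑ g ∈ Finset.univ.filter (fun g => K.cell g = x), δ g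

open Classical in
lemma T_coeff (x : W) (g : G) :
    (T K x).coeff g = if K.cell g = x then (Nat.card B : ℂ)⁻¹ else 0 := by
  simp [T, δ, MonoidAlgebra.coeff_sum, Finsupp.single_apply, Finset.sum_ite_eq']

lemma δ_mul_T {b : G} (hb : b ∈ B) (x : W) : δ b * T K x = T K x := by
  classical
  simp only [T, mul_smul_comm, Finset.mul_sum, δ_mul]
  congr 1
  refine Finset.sum_equiv (Equiv.mulLeft b) (fun g => ?_) (fun g _ => rfl)
  simp [K.cell_left g hb]

lemma T_mul_δ {b : G} (hb : b ∈ B) (x : W) : T K x * δ b = T K x := by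
  classical
  simp only [T, smul_mul_assoc, Finset.sum_mul, δ_mul]
  congr 1
  refine Finset.sum_equiv (Equiv.mulRight b) (fun g => ?_) (fun g _ => rfl)
  simp [K.cell_right g hb]

lemma e_T (x : W) : e B * T K x = T K x := e_mul_of fun b hb => δ_mul_T K hb x

lemma T_e (x : W) : T K x * e B = T K x := mul_e_of fun b hb => T_mul_δ K hb x

lemma T_one : T K (K.cell 1) = e B := by
  classical
  unfold T e
  congr 1
  rw [← Finset.sum_subtype (Finset.univ.filter fun g => g ∈ B) (by simp) (fun g => δ g)]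
  refine Finset.sum_congr (Finset.filter_congr fun g _ => ?_) fun _ _ => rfl
  rw [eq_comm, K.cell_eq 1 g]
  exact ⟨fun ⟨b, hb, b', hb', h⟩ => by rw [h, mul_one]; exact mul_mem hb hb',
    fun h => ⟨g, h, 1, one_mem _, by group⟩⟩

/-- coordinates in the basis `T` -/
def coord (a : MonoidAlgebra ℂ G) (x : W) : ℂ := (Nat.card B : ℂ) * a.coeff (K.rep x)

lemma coord_T [DecidableEq W] (x y : W) : coord K (T K x) y = if y = x then 1 else 0 := by
  classical
  rw [coord, T_coeff, K.cell_rep]
  split <;> simp [mul_inv_cancel₀ (cB_ne B)]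

/-- bi-invariant elements are combinations of the `T` -/
lemma expand {a : MonoidAlgebra ℂ G} (h1 : e B * a = a) (h2 : a * e B = a) :
    a = ∑ x, coord K a x • T K x := by
  classical
  ext g
  simp only [MonoidAlgebra.coeff_sum, MonoidAlgebra.coeff_smul, Finsupp.finsetSum_apply,
    Finsupp.smul_apply, T_coeff, smul_eq_mul, mul_ite, mul_zero, Finset.sum_ite_eq, Finset.mem_univ,
    if_true]
  obtain ⟨b, hb, b', hb', h⟩ := (K.cell_eq g (K.rep (K.cell g))).1 (by rw [K.cell_rep])
  have h3 : δ b * a * δ b' = a := by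
    conv_lhs => rw [← h1, ← h2]
    rw [show δ b * (e B * (a * e B)) * δ b' = (δ b * e B) * a * (e B * δ b') by noncomm_ring,
      δ_mul_e hb, e_mul_δ hb', mul_assoc, h2, h1]
  have h4 := congrArg (fun t : MonoidAlgebra ℂ G => t.coeff (K.rep (K.cell g))) h3
  simp only [MonoidAlgebra.coeff_mul_single_apply, MonoidAlgebra.coeff_single_mul_apply, one_mul,
    mul_one, δ] at h4
  rw [coord, ← h4, h, show (b⁻¹ * (b * g * b' * b'⁻¹)) = g by group]
  field_simp [cB_ne B]

lemma coord_unique [DecidableEq W] (c : W → ℂ) (z : W) : coord K (∑ x, c x • T K x) z = c z := by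
  classical
  have h : ∀ x, coord K (c x • T K x) z = if z = x then c x else 0 := fun x => by
    rw [coord, MonoidAlgebra.coeff_smul, Finsupp.smul_apply, smul_eq_mul, mul_left_comm]
    rw [show (Nat.card B : ℂ) * (T K x).coeff (K.rep z) = coord K (T K x) z from rfl, coord_T]
    simp
  have hs : coord K (∑ x, c x • T K x) z = ∑ x, coord K (c x • T K x) z := by
    simp only [coord, MonoidAlgebra.coeff_sum, Finsupp.finsetSum_apply, Finset.mul_sum]
  rw [hs]
  simp [h]

/-- `v χ x` -/
def V : Matrix (Constit B) W ℂ := Matrix.of fun χ x => ev (χ.1 : G → ℂ) (T K x)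

lemma ev_T_eq_zero {χ : Cfsg.IrrCharacter G} (h : ev (χ : G → ℂ) (e B) = 0) (x : W) :
    ev (χ : G → ℂ) (T K x) = 0 := by
  rw [← T_e K x]; exact ev_mul_e_eq_zero h _

lemma ev_comb (χ : Cfsg.IrrCharacter G) (c : W → ℂ) :
    ev (χ : G → ℂ) (∑ x, c x • T K x) = ∑ x, c x * ev (χ : G → ℂ) (T K x) := by
  simp [map_sum, map_smul]

/-- preimages of values at the constituents, central in the corner -/
lemma exists_central (f : Constit B → ℂ) : ∃ a : MonoidAlgebra ℂ G,
    e B * a = a ∧ a * e B = a ∧ (∀ x, T K x * a = a * T K x) ∧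
      ∀ χ : Constit B, ev (χ.1 : G → ℂ) a = f χ := by
  classical
  refine ⟨∑ φ : Constit B, (f φ / ev (φ.1 : G → ℂ) (e B)) • (P φ.1 * e B), ?_, ?_, ?_, ?_⟩
  · rw [Finset.mul_sum]
    refine Finset.sum_congr rfl fun φ _ => ?_
    rw [mul_smul_comm, ← mul_assoc, ← P_comm, mul_assoc, e_mul_e]
  · rw [Finset.sum_mul]
    refine Finset.sum_congr rfl fun φ _ => ?_
    rw [smul_mul_assoc, mul_assoc, e_mul_e]
  · intro x
    rw [Finset.mul_sum, Finset.sum_mul]
    refine Finset.sum_congr rfl fun φ _ => ?_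
    rw [mul_smul_comm, smul_mul_assoc, ← mul_assoc, ← P_comm, mul_assoc, T_e, mul_assoc, e_T]
  · intro χ
    simp only [map_sum, map_smul, ev_P, smul_eq_mul]
    rw [Finset.sum_eq_single χ]
    · rw [if_pos rfl, div_mul_cancel₀ _ χ.2]
    · intro φ _ hne
      rw [if_neg fun h => hne (Subtype.ext h), mul_zero]
    · simp

lemma V_surjective : Function.Surjective (V K).mulVecLin := by
  intro f
  obtain ⟨a, h1, h2, -, h4⟩ := exists_central K f
  refine ⟨coord K a, funext fun χ => ?_⟩
  rw [Matrix.mulVecLin_apply, Matrix.mulVec, dotProduct, ← h4 χ]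
  conv_rhs => rw [expand K h1 h2, ev_comb]
  exact Finset.sum_congr rfl fun x _ => mul_comm _ _

lemma rank_VtV : ((V K).transpose * V K).rank = Fintype.card (Constit B) := by
  have hV : (V K).rank = Fintype.card (Constit B) := by
    rw [Matrix.rank, LinearMap.range_eq_top.2 (V_surjective K), finrank_top, Module.finrank_pi]
  rw [Matrix.rank, Matrix.mulVecLin_mul, LinearMap.range_comp_of_range_eq_top _
    (LinearMap.range_eq_top.2 (V_surjective K))]
  show (V K).transpose.rank = _
  rw [Matrix.rank_transpose, hV]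

lemma sum_irr_mul (u h : G) : ∑ χ : Cfsg.IrrCharacter G, (χ : G → ℂ) u * (χ : G → ℂ) h =
    (Nat.card {b : G // b * u * b⁻¹ = h⁻¹} : ℂ) := by
  classical
  rw [card_conjugators, Nat.cast_ite, Nat.cast_zero, ← sum_irr_mul_conj]
  refine Finset.sum_congr rfl fun χ _ => ?_
  rw [← isCharacter_inv (isCharacter_of_isIrrCharacter χ.2), inv_inv]

lemma trace_sum (x y : W) :
    ∑ z, coord K (T K x * T K z * T K y) z = ∑ u, (T K x * δ u * T K y).coeff u := by
  classical
  have hinv : ∀ u, (T K x * δ (K.rep (K.cell u)) * T K y) = (T K x * δ u * T K y) ∧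
      (T K x * δ u * T K y).coeff u = (T K x * δ u * T K y).coeff (K.rep (K.cell u)) := by
    intro u
    obtain ⟨b, hb, b', hb', h⟩ := (K.cell_eq u (K.rep (K.cell u))).1 (by rw [K.cell_rep])
    have h1 : δ b * (T K x * δ u * T K y) * δ b' = T K x * δ u * T K y := by
      rw [show δ b * (T K x * δ u * T K y) * δ b' = (δ b * T K x) * δ u * (T K y * δ b') by noncomm_ring,
        δ_mul_T K hb, T_mul_δ K hb']
    refine ⟨?_, ?_⟩
    · rw [h, ← δ_mul, ← δ_mul, show T K x * (δ b * δ u * δ b') * T K y =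
        (T K x * δ b) * δ u * (δ b' * T K y) by noncomm_ring, T_mul_δ K hb, δ_mul_T K hb']
    · have h4 := congrArg (fun t : MonoidAlgebra ℂ G => t.coeff (K.rep (K.cell u))) h1
      simp only [MonoidAlgebra.coeff_mul_single_apply, MonoidAlgebra.coeff_single_mul_apply, one_mul,
        mul_one, δ] at h4
      rw [h, show (b⁻¹ * (b * u * b' * b'⁻¹)) = u by group] at h4
      rw [h]; exact h4
  rw [← Finset.sum_fiberwise Finset.univ K.cell]
  refine Finset.sum_congr rfl fun z _ => ?_
  have hu : ∀ u ∈ Finset.univ.filter (fun u => K.cell u = z),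
      (T K x * δ u * T K y).coeff u = (T K x * δ (K.rep z) * T K y).coeff (K.rep z) := by
    intro u hu
    rw [Finset.mem_filter] at hu
    obtain ⟨h1, h2⟩ := hinv u
    rw [h2, ← h1, hu.2]
  rw [Finset.sum_congr rfl hu, coord]
  conv_lhs => rw [show T K z = (Nat.card B : ℂ)⁻¹ •
    ∑ g ∈ Finset.univ.filter (fun g => K.cell g = z), δ g by unfold T; congr]
  rw [mul_smul_comm, smul_mul_assoc, Finset.mul_sum, Finset.sum_mul, MonoidAlgebra.coeff_smul,
    Finsupp.smul_apply, smul_eq_mul, ← mul_assoc, mul_inv_cancel₀ (cB_ne B), one_mul,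
    MonoidAlgebra.coeff_sum, Finsupp.finsetSum_apply]
  refine Finset.sum_congr rfl fun u hu' => ?_
  rw [Finset.mem_filter] at hu'
  obtain ⟨h1, -⟩ := hinv u
  rw [← h1, hu'.2]

lemma trace_eq_VtV (x y : W) :
    ∑ z, coord K (T K x * T K z * T K y) z = ((V K).transpose * V K) x y := by
  classical
  rw [trace_sum]
  have key : ∀ a b : MonoidAlgebra ℂ G, ∑ u, (a * δ u * b).coeff u =
      ∑ χ : Cfsg.IrrCharacter G, ev (χ : G → ℂ) a * ev (χ : G → ℂ) b := by
    intro a b
    rw [sum_δ a, sum_δ b]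
    simp only [Finset.sum_mul, Finset.mul_sum, smul_mul_assoc, mul_smul_comm, δ_mul,
      MonoidAlgebra.coeff_sum, Finsupp.finsetSum_apply, MonoidAlgebra.coeff_smul, Finsupp.smul_apply,
      smul_eq_mul, δ, MonoidAlgebra.coeff_single, Finsupp.single_apply, map_sum, map_smul, ev_δ]
    rw [Finset.sum_comm]
    conv_rhs => rw [Finset.sum_comm]
    refine Finset.sum_congr rfl fun h _ => ?_
    rw [Finset.sum_comm]
    conv_rhs => rw [Finset.sum_comm]
    refine Finset.sum_congr rfl fun g _ => ?_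
    have e1 : ∀ χ : Cfsg.IrrCharacter G, a.coeff g * (χ : G → ℂ) g * (b.coeff h * (χ : G → ℂ) h) =
        a.coeff g * b.coeff h * ((χ : G → ℂ) h * (χ : G → ℂ) g) := fun χ => by ring
    simp only [e1, ← Finset.mul_sum, sum_irr_mul, Nat.card_eq_fintype_card, Fintype.card_subtype,
      ← Finset.sum_boole]
    simp only [Finset.mul_sum]
    refine Finset.sum_congr rfl fun u _ => ?_
    have hiff : (g * u * h = u) ↔ (u * h * u⁻¹ = g⁻¹) := by
      refine ⟨fun e1 => ?_, fun e1 => ?_⟩
      · rw [eq_inv_iff_mul_eq_one]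
        calc u * h * u⁻¹ * g = u * h * (u⁻¹ * g) := by group
          _ = u * h * (g * u * h)⁻¹ * g := by rw [e1]; group
          _ = 1 := by group
      · rw [eq_inv_iff_mul_eq_one] at e1
        calc g * u * h = g * (u * h * u⁻¹ * g) * g⁻¹ * u := by group
          _ = u := by rw [e1]; group
    simp only [hiff]
    ring
  rw [key, Matrix.mul_apply]
  simp only [Matrix.transpose_apply, V, Matrix.of_apply]
  rw [← Finset.sum_subtype (Finset.univ.filter fun χ : Cfsg.IrrCharacter G => ev (χ : G → ℂ) (e B) ≠ 0)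
    (by simp) (fun χ : Cfsg.IrrCharacter G => ev (χ : G → ℂ) (T K x) * ev (χ : G → ℂ) (T K y)),
    Finset.sum_filter_of_ne]
  intro χ _ hne h0
  exact hne (by rw [ev_T_eq_zero K h0, zero_mul])

/-- a central element of the corner killed by all constituents vanishes -/
lemma central_eq_zero {a : MonoidAlgebra ℂ G} (h1 : e B * a = a) (h2 : a * e B = a)
    (hc : ∀ x, T K x * a = a * T K x) (h0 : ∀ χ : Constit B, ev (χ.1 : G → ℂ) a = 0) : a = 0 := by
  classical
  refine eq_zero_of_ev fun ψ g => ?_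
  have hval : ev (ψ : G → ℂ) (a * δ g) = ev (ψ : G → ℂ) (a * (e B * δ g * e B)) := by
    conv_lhs => rw [← h1, ← h2]
    rw [show e B * (a * e B) * δ g = e B * (a * (e B * δ g)) by noncomm_ring, ev_mul_comm,
      show a * (e B * δ g) * e B = a * (e B * δ g * e B) by noncomm_ring]
  rw [hval]
  set y := e B * δ g * e B with hy
  have hy1 : e B * y = y := by rw [hy, ← mul_assoc, ← mul_assoc, e_mul_e]
  have hy2 : y * e B = y := by rw [hy, mul_assoc, e_mul_e]
  by_cases hψ : ev (ψ : G → ℂ) (e B) = 0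
  · rw [← hy2, ← mul_assoc]; exact ev_mul_e_eq_zero hψ _
  have hcomm : ∀ t, (e B * t * e B) * a = a * (e B * t * e B) := by
    intro t
    rw [expand K (a := e B * t * e B) (by rw [← mul_assoc, ← mul_assoc, e_mul_e])
      (by rw [mul_assoc, e_mul_e]), Finset.sum_mul, Finset.mul_sum]
    refine Finset.sum_congr rfl fun x _ => ?_
    rw [smul_mul_assoc, mul_smul_comm, hc]
  have hZ : e B * Z a * e B = a * (e B * Z (e B) * e B) := by
    simp only [Z, Finset.mul_sum, Finset.sum_mul]
    refine Finset.sum_congr rfl fun u _ => ?_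
    conv_lhs => rw [← h1, ← h2]
    rw [show e B * (δ u * (e B * (a * e B)) * δ u⁻¹) * e B =
      (e B * δ u * e B) * a * (e B * δ u⁻¹ * e B) by noncomm_ring, hcomm,
      show a * (e B * (δ u * e B * δ u⁻¹) * e B) = a * (e B * δ u * (e B * e B) * δ u⁻¹ * e B) by
        rw [e_mul_e]; noncomm_ring]
    noncomm_ring
  have hl : ev (ψ : G → ℂ) (e B * Z a * e B * y) = ev (ψ : G → ℂ) (Z a * y) := by
    rw [show e B * Z a * e B * y = e B * (Z a * (e B * y)) by noncomm_ring, hy1, ev_mul_comm,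
      mul_assoc, hy2]
  have hr : ev (ψ : G → ℂ) (a * (e B * Z (e B) * e B) * y) =
      ev (ψ : G → ℂ) (Z (e B) * (y * a)) := by
    rw [show a * (e B * Z (e B) * e B) * y = (a * e B) * (Z (e B) * (e B * y)) by noncomm_ring, h2, hy1,
      ev_mul_comm, mul_assoc]
  rw [hZ, hr, ev_Z, ev_Z, h0 ⟨ψ, hψ⟩, mul_zero, zero_mul, zero_div, div_eq_zero_iff] at hl
  rcases hl with h | h
  · rcases mul_eq_zero.1 h with h | h
    · exact absurd h (mul_ne_zero (Nat.cast_ne_zero.2 Nat.card_pos.ne') hψ)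
    · rw [ev_mul_comm]; exact h
  · exact absurd h (CharAverage.irr_one_ne_zero ψ)

/-- commutators on the basis -/
def comm (c : W → W → W → ℂ) : Matrix (W × W) W ℂ :=
  Matrix.of fun p y => c p.1 y p.2 - c y p.1 p.2

variable [DecidableEq W]

lemma finrank_ker (c : W → W → W → ℂ) (hc : ∀ x y, T K x * T K y = ∑ z, c x y z • T K z) :
    Module.finrank ℂ (LinearMap.ker (comm c).mulVecLin) = Fintype.card (Constit B) := by
  classical
  have hker : ∀ v : W → ℂ, v ∈ LinearMap.ker (comm c).mulVecLin ↔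
      ∀ x, T K x * (∑ y, v y • T K y) = (∑ y, v y • T K y) * T K x := by
    intro v
    rw [LinearMap.mem_ker]
    constructor
    · intro h x
      simp only [Finset.mul_sum, Finset.sum_mul, mul_smul_comm, smul_mul_assoc, hc, Finset.smul_sum,
        smul_smul]
      rw [Finset.sum_comm]
      conv_rhs => rw [Finset.sum_comm]
      refine Finset.sum_congr rfl fun z _ => ?_
      rw [← Finset.sum_smul, ← Finset.sum_smul]
      congr 1
      have := congrFun h (x, z)
      simp only [Matrix.mulVecLin_apply, Matrix.mulVec, dotProduct, comm, Matrix.of_apply,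
        Pi.zero_apply, sub_mul, Finset.sum_sub_distrib, sub_eq_zero] at this
      convert this using 1 <;> exact Finset.sum_congr rfl fun y _ => mul_comm _ _
    · intro h
      funext ⟨x, z⟩
      simp only [Matrix.mulVecLin_apply, Matrix.mulVec, dotProduct, comm, Matrix.of_apply,
        Pi.zero_apply, sub_mul, Finset.sum_sub_distrib, sub_eq_zero]
      have h1 := congrArg (fun t => coord K t z) (h x)
      simp only [Finset.mul_sum, Finset.sum_mul, mul_smul_comm, smul_mul_assoc, hc, Finset.smul_sum,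
        smul_smul] at h1
      rw [Finset.sum_comm, Finset.sum_comm (f := fun y w => (v y * c y x w) • T K w)] at h1
      simp only [← Finset.sum_smul, coord_unique] at h1
      convert h1 using 1 <;> exact Finset.sum_congr rfl fun y _ => mul_comm _ _
  let Ψ : ↥(LinearMap.ker (comm c).mulVecLin) →ₗ[ℂ] (Constit B → ℂ) :=
    (V K).mulVecLin.comp (Submodule.subtype _)
  have hval : ∀ (v : ↥(LinearMap.ker (comm c).mulVecLin)) (χ : Constit B),
      Ψ v χ = ev (χ.1 : G → ℂ) (∑ y, v.1 y • T K y) := by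
    intro v χ
    rw [ev_comb]
    exact Finset.sum_congr rfl fun x _ => mul_comm _ _
  have hb : Function.Bijective Ψ := by
    constructor
    · rw [injective_iff_map_eq_zero]
      intro v hv
      have he : ∀ y, e B * T K y = T K y := e_T K
      have h0 := central_eq_zero K (a := ∑ y, v.1 y • T K y)
        (by simp [Finset.mul_sum, e_T]) (by simp [Finset.sum_mul, T_e]) ((hker v.1).1 v.2)
        fun χ => by rw [← hval, hv]; rfl
      apply Subtype.ext; funext z
      have := coord_unique K v.1 z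
      rw [h0] at this
      rw [← this]; simp [coord]
    · intro f
      obtain ⟨a, h1, h2, h3, h4⟩ := exists_central K f
      refine ⟨⟨coord K a, (hker _).2 ?_⟩, funext fun χ => ?_⟩
      · rw [← expand K h1 h2]; exact h3
      · rw [hval, ← expand K h1 h2, h4]
  rw [(LinearEquiv.ofBijective Ψ hb).finrank_eq, Module.finrank_pi]

/-- the two ranks -/
theorem ranks (c : W → W → W → ℂ) (hc : ∀ x y, T K x * T K y = ∑ z, c x y z • T K z) :
    (Matrix.of fun x y => ∑ z, ∑ u, c x z u * c u y z : Matrix W W ℂ).rank =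
        Fintype.card (Constit B) ∧
      (comm c).rank + Fintype.card (Constit B) = Fintype.card W := by
  classical
  constructor
  · rw [← rank_VtV K]
    congr 1
    ext x y
    rw [← trace_eq_VtV]
    refine Finset.sum_congr rfl fun z _ => ?_
    rw [hc x z, Finset.sum_mul]
    simp only [smul_mul_assoc, hc, Finset.smul_sum, smul_smul]
    rw [Finset.sum_comm]
    simp only [← Finset.sum_smul, coord_unique]
  · rw [← finrank_ker K c hc, Matrix.rank, LinearMap.finrank_range_add_finrank_ker, Module.finrank_pi]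

omit K in
lemma fixedPoint_inner (χ : Cfsg.IrrCharacter G) :
    Cfsg.classInner (Cfsg.fixedPointCharacter B) (χ : G → ℂ) = conj (ev (χ : G → ℂ) (e B)) := by
  classical
  have hfix : ∀ g : G, (Cfsg.fixedPointCharacter B g) * (Nat.card B : ℂ) =
      ∑ a : G, if a⁻¹ * g * a ∈ B then 1 else 0 := by
    intro g
    rw [Finset.sum_boole, ← Fintype.card_subtype, ← Nat.card_eq_fintype_card]
    unfold Cfsg.fixedPointCharacter
    rw [← Nat.cast_mul, mul_comm, ← Nat.card_prod]
    congr 1
    refine Nat.card_congr ((QuotientGroup.preimageMkEquivSubgroupProdSet B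
      (MulAction.fixedBy (G ⧸ B) g)).symm.trans (Equiv.subtypeEquivRight fun a => ?_))
    rw [Set.mem_preimage, MulAction.mem_fixedBy, MulAction.Quotient.smul_mk, eq_comm, QuotientGroup.eq,
      smul_eq_mul, mul_assoc]
  refine mul_left_cancel₀ (cB_ne B) ?_
  refine mul_left_cancel₀ (Nat.cast_ne_zero.2 (Nat.card_pos (α := G)).ne' : (Nat.card G : ℂ) ≠ 0) ?_
  rw [mul_left_comm, card_mul_classInner, Finset.mul_sum]
  simp only [← mul_assoc (Nat.card B : ℂ), mul_comm (Nat.card B : ℂ) (Cfsg.fixedPointCharacter B _),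
    hfix, Finset.sum_mul, ite_mul, one_mul, zero_mul]
  rw [Finset.sum_comm]
  have h1 : ∀ a : G, (∑ g : G, if a⁻¹ * g * a ∈ B then conj ((χ : G → ℂ) g) else 0) =
      ∑ b : B, conj ((χ : G → ℂ) (b : G)) := by
    intro a
    rw [← Finset.sum_filter, ← Finset.sum_subtype (Finset.univ.filter fun g => g ∈ B) (by simp)
      (fun g => conj ((χ : G → ℂ) g))]
    refine Finset.sum_equiv ((MulAut.conj a⁻¹).toEquiv) (fun g => by simp) fun g _ => ?_
    simp only [MulEquiv.toEquiv_eq_coe, MulEquiv.coe_toEquiv, MulAut.conj_apply]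
    rw [CharAverage.irr_conj_apply]
  rw [Finset.sum_congr rfl fun a _ => h1 a, Finset.sum_const, Finset.card_univ, nsmul_eq_mul,
    ← Nat.card_eq_fintype_card, ev_e, map_mul, map_inv₀, map_natCast, map_sum, ← mul_assoc (Nat.card B : ℂ),
    mul_inv_cancel₀ (cB_ne B), one_mul]

omit K in
/-- the constituents of the permutation character -/
theorem card_constituents :
    Nat.card {χ : Cfsg.IrrCharacter G // ∃ φ : G → ℂ, Cfsg.IsCharacter G φ ∧
      Cfsg.fixedPointCharacter B = (χ : G → ℂ) + φ} = Fintype.card (Constit B) := by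
  classical
  rw [← Nat.card_eq_fintype_card]
  refine Nat.card_congr (Equiv.subtypeEquivRight fun χ => ?_)
  have hπ : Cfsg.IsCharacter G (Cfsg.fixedPointCharacter B) := isCharacter_fixedBy (G ⧸ B)
  constructor
  · rintro ⟨φ, hφ, he⟩ h0
    have h := fixedPoint_inner (B := B) χ
    rw [h0, map_zero, he, classInner_add_left, classInner_irr_self χ.2] at h
    obtain ⟨n, hn⟩ := classInner_isCharacter hφ (isCharacter_of_isIrrCharacter χ.2)
    rw [hn] at h
    have : ((n + 1 : ℕ) : ℂ) = 0 := by push_cast; linear_combination h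
    exact n.succ_ne_zero (Nat.cast_eq_zero.1 this)
  · intro h0
    obtain ⟨m, hm, hsum⟩ := exists_mult hπ
    have h1 : m χ ≠ 0 := by
      intro hz
      have h := hm χ
      rw [fixedPoint_inner, hz, Nat.cast_zero, map_eq_zero] at h
      exact h0 h
    refine ⟨∑ ψ, ((if ψ = χ then m ψ - 1 else m ψ : ℕ) : ℂ) • (ψ : G → ℂ),
      isCharacter_sum _ _ fun ψ _ => isCharacter_nsmul (isCharacter_of_isIrrCharacter ψ.2) _, ?_⟩
    rw [hsum, ← Finset.add_sum_erase _ _ (Finset.mem_univ χ),
      ← Finset.add_sum_erase _ _ (Finset.mem_univ χ), if_pos rfl, ← add_assoc]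
    congr 1
    · rw [Nat.cast_sub (Nat.one_le_iff_ne_zero.2 h1), Nat.cast_one, sub_smul, one_smul]
      abel
    · exact Finset.sum_congr rfl fun ψ hψ => by rw [if_neg (Finset.ne_of_mem_erase hψ)]

end

end Cfsg.Agent.HeckeCornerRank
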