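import Cfsg.Agent.Lib.ChevBruhatInstance
import Cfsg.Agent.Lib.HeckeCornerRank

/-!
Structure constants of the double coset algebra of a Chevalley group are polynomials in `q` that
specialise at `q = 1` to the Weyl group algebra; the count of constituents of the permutation
character on `G/B`.
-/

set_option autoImplicit false
set_option linter.unusedSectionVars false

namespace Cfsg.Agent.ChevHecke

open Cfsg.Lie Cfsg.Agent.ChevWeyl Cfsg.Agent.ChevBruhat
open scoped Classical

noncomputable section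

/-- a polynomial matrix can lose rank only at roots of one polynomial -/
theorem rank_semicont {m n : Type*} [Fintype m] [Fintype n] (A : Matrix m n (Polynomial ℂ)) (t₀ : ℂ) :
    ∃ P : Polynomial ℂ, P ≠ 0 ∧ ∀ t, P.eval t ≠ 0 →
      (A.map (Polynomial.eval t₀)).rank ≤ (A.map (Polynomial.eval t)).rank := by
  set A0 := A.map (Polynomial.eval t₀) with hA0
  let b := Module.finBasis ℂ (LinearMap.range A0.mulVecLin)
  choose c hc using fun i => (b i).2
  let Cm : Matrix n (Fin (Module.finrank ℂ (LinearMap.range A0.mulVecLin))) ℂ :=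
    Matrix.of fun j i => c i j
  have hli : LinearIndependent ℂ (A0 * Cm).col := by
    have e : (A0 * Cm).col = fun i => ((b i : LinearMap.range A0.mulVecLin) : m → ℂ) := by
      funext i
      rw [← hc i]
      funext x
      simp [Matrix.mul_apply, Matrix.mulVec, dotProduct, Cm, Matrix.col]
    rw [e]
    exact b.linearIndependent.map' (Submodule.subtype _) (Submodule.ker_subtype _)
  obtain ⟨L, hL⟩ := LinearMap.exists_leftInverse_of_injective (A0 * Cm).mulVecLin
    (LinearMap.ker_eq_bot.2 (Matrix.mulVec_injective_iff.2 hli))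
  let Bm := LinearMap.toMatrix' L
  have hBAC : Bm * A0 * Cm = 1 := by
    apply (Matrix.toLin' : _ ≃ₗ[ℂ] _).injective
    rw [Matrix.mul_assoc, Matrix.toLin'_mul, Matrix.toLin'_toMatrix', Matrix.toLin'_one]
    exact hL
  refine ⟨((Bm.map Polynomial.C) * A * (Cm.map Polynomial.C)).det, ?_, ?_⟩
  · intro h0
    have h1 := congrArg (Polynomial.eval t₀) h0
    rw [← Polynomial.coe_evalRingHom, RingHom.map_det, map_zero] at h1
    simp only [RingHom.mapMatrix_apply, Matrix.map_mul, Matrix.map_map] at h1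
    simp only [Function.comp_def, Polynomial.coe_evalRingHom, Polynomial.eval_C, Matrix.map_id'] at h1
    rw [← hA0, hBAC, Matrix.det_one] at h1
    exact one_ne_zero h1
  · intro t ht
    rw [← Polynomial.coe_evalRingHom, RingHom.map_det] at ht
    simp only [RingHom.mapMatrix_apply, Matrix.map_mul, Matrix.map_map] at ht
    simp only [Function.comp_def, Polynomial.coe_evalRingHom, Polynomial.eval_C, Matrix.map_id'] at ht
    have h2 := Matrix.rank_of_isUnit _ ((Matrix.isUnit_iff_isUnit_det _).2 (isUnit_iff_ne_zero.2 ht))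
    rw [Fintype.card_fin] at h2
    exact h2.ge.trans ((Matrix.rank_mul_le_left _ _).trans (Matrix.rank_mul_le_right _ _))

section Generic

variable {D : ChevalleyDatum} (X : Weyl D)

/-- `l(s_i w) > l(w)` -/
def Up (i : Fin D.rank) (w : X.W) : Prop := D.IsPosRoot (X.img w⁻¹ (D.simple i))

lemma sq (i : Fin D.rank) : X.C.simple i * X.C.simple i = 1 :=
  X.C.toCoxeterSystem.simple_mul_simple_self i

lemma up_inv {i : Fin D.rank} {w : X.W} (h : Up X i w) :
    X.inv (X.C.simple i * w) = X.inv w + 1 := X.inv_simple_mul_of_pos i h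

lemma up_one (i : Fin D.rank) : Up X i 1 := by
  rw [Up, inv_one, X.img_one]; exact X.simple_pos i.isLt

lemma up_of_not {i : Fin D.rank} {w : X.W} (h : ¬ Up X i w) : Up X i (X.C.simple i * w) := by
  have hn := (X.pos_or_neg (X.img_lt w⁻¹ (X.simple_lt i.isLt))).resolve_left h
  rw [Up, mul_inv_rev, inv_eq_of_mul_eq_one_right (sq X i), X.img_mul,
    X.img_simple i (X.simple_lt i.isLt), X.reflect_simple i.isLt,
    X.img_neg _ (X.simple_lt i.isLt), X.pos_neg_iff hn.1]
  exact hn

/-- reduced words -/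
inductive Red : List (Fin D.rank) → X.W → Prop
  | nil : Red [] 1
  | cons {l w} (i : Fin D.rank) : Red l w → Up X i w → Red (i :: l) (X.C.simple i * w)

lemma exists_red (w : X.W) : ∃ l, Red X l w := by
  suffices h : ∀ k, ∀ w : X.W, X.inv w = k → ∃ l, Red X l w from h _ w rfl
  intro k
  induction k using Nat.strong_induction_on with
  | _ k ih =>
    intro w hk
    by_cases h1 : w = 1
    · exact ⟨[], h1 ▸ Red.nil⟩
    obtain ⟨i, hi⟩ := X.exists_descent h1
    have hinv := X.inv_simple_mul_of_neg i hi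
    obtain ⟨l, hl⟩ := ih (X.inv (X.C.simple i * w)) (by omega) _ rfl
    refine ⟨i :: l, ?_⟩
    have := Red.cons i hl (up_of_not X fun hu => X.not_pos_and_neg hu hi)
    rwa [← mul_assoc, sq, one_mul] at this

variable [Fintype X.W]

/-- left multiplication by the generator at `i` in the generic algebra -/
def Ls (i : Fin D.rank) : Matrix X.W X.W (Polynomial ℂ) :=
  Matrix.of fun z w =>
    if Up X i w then (if z = X.C.simple i * w then 1 else 0)
    else (if z = X.C.simple i * w then Polynomial.X else 0) +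
      (if z = w then Polynomial.X - 1 else 0)

/-- a chosen reduced word -/
def word (w : X.W) : List (Fin D.rank) := Classical.choose (exists_red X w)

/-- the generic structure constants -/
def sc (x y z : X.W) : Polynomial ℂ := ((word X x).map (Ls X)).prod z y

/-- the relations of the algebra at the parameter `t` -/
def Rel {A : Type*} [Ring A] [Algebra ℂ A] (T : X.W → A) (t : ℂ) : Prop :=
  (∀ y, T 1 * T y = T y) ∧
    ∀ i y, T (X.C.simple i) * T y = ∑ z, (Ls X i z y).eval t • T z

lemma rel_of_rules {A : Type*} [Ring A] [Algebra ℂ A] (T : X.W → A) (t : ℂ)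
    (h1 : ∀ y, T 1 * T y = T y) (h1' : ∀ y, T y * T 1 = T y)
    (hup : ∀ i w, Up X i w → T (X.C.simple i) * T w = T (X.C.simple i * w))
    (hsq : ∀ i, T (X.C.simple i) * T (X.C.simple i) = t • T 1 + (t - 1) • T (X.C.simple i)) :
    Rel X T t := by
  refine ⟨h1, fun i y => ?_⟩
  by_cases h : Up X i y
  · simp [Ls, h, hup i y h, apply_ite (Polynomial.eval t)]
  · have hu := up_of_not X h
    have hy : T (X.C.simple i) * T (X.C.simple i * y) = T y := by
      rw [hup i _ hu, ← mul_assoc, sq, one_mul]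
    conv_lhs => rw [← hy, ← mul_assoc, hsq, add_mul, smul_mul_assoc, smul_mul_assoc, h1, hy]
    simp [Ls, h, apply_ite (Polynomial.eval t), Finset.sum_add_distrib, add_smul]

lemma rel_struct {A : Type*} [Ring A] [Algebra ℂ A] {T : X.W → A} {t : ℂ} (hR : Rel X T t)
    (x y : X.W) : T x * T y = ∑ z, (sc X x y z).eval t • T z := by
  have hup : ∀ i w, Up X i w → T (X.C.simple i) * T w = T (X.C.simple i * w) := by
    intro i w h
    rw [hR.2 i w]
    simp [Ls, h, apply_ite (Polynomial.eval t)]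
  suffices h : ∀ l x, Red X l x → T x * T y =
      ∑ z, ((l.map (Ls X)).prod z y).eval t • T z from
    h _ _ (Classical.choose_spec (exists_red X x))
  intro l x hl
  induction hl with
  | nil => simp [hR.1, Matrix.one_apply, apply_ite (Polynomial.eval t)]
  | @cons l w i _ hu ih =>
    rw [← hup i w hu, mul_assoc, ih, Finset.mul_sum]
    simp only [mul_smul_comm, hR.2, Finset.smul_sum, smul_smul]
    rw [Finset.sum_comm]
    refine Finset.sum_congr rfl fun z _ => ?_
    rw [← Finset.sum_smul, List.map_cons, List.prod_cons, Matrix.mul_apply, Polynomial.eval_finset_sum]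
    congr 1
    exact Finset.sum_congr rfl fun u _ => by rw [Polynomial.eval_mul, mul_comm]

/-- the generic trace matrix -/
def Mg : Matrix X.W X.W (Polynomial ℂ) :=
  Matrix.of fun x y => ∑ z, ∑ u, sc X x z u * sc X u y z

/-- the generic commutator matrix -/
def Cg : Matrix (X.W × X.W) X.W (Polynomial ℂ) :=
  Matrix.of fun p y => sc X p.1 y p.2 - sc X y p.1 p.2

lemma ranks_at {G : Type*} [Group G] [Fintype G] {B : Subgroup G}
    (K : HeckeCornerRank.Cells G B X.W) (t : ℂ) (hR : Rel X (HeckeCornerRank.T K) t) :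
    ((Mg X).map (Polynomial.eval t)).rank = Fintype.card (HeckeCornerRank.Constit B) ∧
      ((Cg X).map (Polynomial.eval t)).rank + Fintype.card (HeckeCornerRank.Constit B) =
        Fintype.card X.W := by
  obtain ⟨h1, h2⟩ := HeckeCornerRank.ranks K (fun x y z => (sc X x y z).eval t) (rel_struct X hR)
  constructor
  · rw [← h1]
    congr 1
    ext x y
    simp [Mg, Polynomial.eval_finset_sum]
  · rw [← h2]
    congr 2
    ext p y
    simp [Cg, HeckeCornerRank.comm]

/-- the Weyl group, with trivial subgroup -/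
def trivCells : HeckeCornerRank.Cells X.W (⊥ : Subgroup X.W) X.W where
  cell := id
  rep := id
  cell_rep _ := rfl
  cell_eq g h := by simp [eq_comm]

lemma triv_T (x : X.W) : HeckeCornerRank.T (trivCells X) x = HeckeCornerRank.δ x := by
  unfold HeckeCornerRank.T
  rw [Finset.sum_filter, Finset.sum_eq_single x]
  · rw [if_pos (show (trivCells X).cell x = x from rfl)]; simp
  · intro g _ hg; exact if_neg (show ¬ (trivCells X).cell g = x from hg)
  · simp

lemma rel_triv : Rel X (HeckeCornerRank.T (trivCells X)) 1 := by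
  have hT : ∀ x, HeckeCornerRank.T (trivCells X) x = HeckeCornerRank.δ x := triv_T X
  refine rel_of_rules X _ 1 ?_ ?_ ?_ ?_ <;> intros <;>
    simp [hT, HeckeCornerRank.δ_mul, sq]

lemma card_triv : Fintype.card (HeckeCornerRank.Constit (⊥ : Subgroup X.W)) =
    Nat.card (ConjClasses X.W) := by
  rw [← CharBasicOrth.card_irrCharacter, ← Nat.card_eq_fintype_card]
  refine Nat.card_congr (Equiv.subtypeUnivEquiv fun χ => ?_)
  have h : HeckeCornerRank.e (⊥ : Subgroup X.W) = HeckeCornerRank.δ 1 := by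
    rw [← HeckeCornerRank.T_one (trivCells X)]
    exact triv_T X 1
  rw [h, HeckeCornerRank.ev_δ]
  exact CharAverage.irr_one_ne_zero χ

end Generic

section Group

variable {D : ChevalleyDatum} {F : Type*} [Field F] [Fintype F] (S : Sys D F)

set_option quotPrecheck false

local notation "G₀" => ↥(D.group F)
local notation "B₀" => (D.borelSubgroup F).subgroupOf (D.group F)

/-- `g ∈ B n B` for some `n` over `w` -/
def InW (g : GL D.Idx F) (w : S.X.W) : Prop :=
  ∃ b ∈ D.borelSubgroup F, ∃ n : ↥(D.monomialSubgroup F), S.toW n = w ∧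
    ∃ b' ∈ D.borelSubgroup F, g = b * n * b'

lemma inW_exists (g : G₀) : ∃ w, InW S (g : GL D.Idx F) w := by
  obtain ⟨b, hb, n, u, hu, e⟩ := S.exists_cell_form g.2
  exact ⟨_, b, hb, n, rfl, u, Sys.U_le_B (S.Uw_le_U _ hu), e⟩

lemma inW_unique {g : GL D.Idx F} {w w' : S.X.W} (h : InW S g w) (h' : InW S g w') : w = w' := by
  obtain ⟨b, hb, n, rfl, c, hc, rfl⟩ := h
  obtain ⟨b', hb', n', rfl, c', hc', e⟩ := h'
  exact S.toW_unique hb hb' hc hc' e

/-- the double cosets of `B` -/
def cells : HeckeCornerRank.Cells G₀ B₀ S.X.W where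
  cell g := Classical.choose (inW_exists S g)
  rep w := ⟨((Classical.choose (S.toW_surjective w) : ↥(D.monomialSubgroup F)) : GL D.Idx F),
    S.N_le_group (Classical.choose (S.toW_surjective w)).2⟩
  cell_rep w := inW_unique S (Classical.choose_spec (inW_exists S _))
    ⟨1, one_mem _, _, Classical.choose_spec (S.toW_surjective w), 1, one_mem _, by simp⟩
  cell_eq g h := by
    constructor
    · intro e
      obtain ⟨b, hb, n, hn, c, hc, eg⟩ := Classical.choose_spec (inW_exists S g)
      obtain ⟨b', hb', n', hn', c', hc', eh⟩ := Classical.choose_spec (inW_exists S h)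
      have hH : (n : GL D.Idx F)⁻¹ * n' ∈ D.borelSubgroup F :=
        Sys.H_le_B (S.toW_eq_iff.1 (hn.trans (e.trans hn'.symm)))
      have m1 : b' * b⁻¹ ∈ D.borelSubgroup F := mul_mem hb' (inv_mem hb)
      have m2 : c⁻¹ * ((n : GL D.Idx F)⁻¹ * n') * c' ∈ D.borelSubgroup F :=
        mul_mem (mul_mem (inv_mem hc) hH) hc'
      refine ⟨⟨_, S.B_le_group m1⟩, m1, ⟨_, S.B_le_group m2⟩, m2, Subtype.ext ?_⟩
      simp only [Subgroup.coe_mul]
      rw [eg, eh]; group
    · rintro ⟨x, hx, y, hy, rfl⟩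
      obtain ⟨b, hb, n, hn, c, hc, eg⟩ := Classical.choose_spec (inW_exists S g)
      refine inW_unique S ⟨(x : GL D.Idx F) * b, mul_mem hx hb, n, hn, c * y, mul_mem hc hy, ?_⟩
        (Classical.choose_spec (inW_exists S (x * g * y)))
      simp only [Subgroup.coe_mul]
      rw [eg]; group

lemma cell_spec (g : G₀) : InW S (g : GL D.Idx F) ((cells S).cell g) :=
  Classical.choose_spec (inW_exists S g)

lemma cell_of {g : G₀} {w : S.X.W} (h : InW S (g : GL D.Idx F) w) : (cells S).cell g = w :=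
  inW_unique S (cell_spec S g) h

lemma cell_one : (cells S).cell 1 = 1 :=
  cell_of S ⟨1, one_mem _, 1, map_one _, 1, one_mem _, by simp⟩

lemma mul_up {i : Fin D.rank} {w : S.X.W} (h : Up S.X i w) {g k : G₀}
    (hg : (cells S).cell g = S.X.C.simple i) (hk : (cells S).cell k = w) :
    (cells S).cell (g * k) = S.X.C.simple i * w := by
  obtain ⟨b, hb, n₁, hn₁, c, hc, eg⟩ := hg ▸ cell_spec S g
  obtain ⟨b', hb', n, rfl, c', hc', ek⟩ := hk ▸ cell_spec S k
  set N₀ := S.nn (D.simple i) 1 with hN₀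
  have hH : N₀⁻¹ * (n₁ : GL D.Idx F) ∈ D.borelSubgroup F :=
    Sys.H_le_B (S.toW_eq_iff.1 ((S.toW_sN i).trans hn₁.symm))
  obtain ⟨hh, hhH, v, hv, a, hdec⟩ := S.B_decomp i.isLt (mul_mem (mul_mem hH hc) hb')
  obtain ⟨z, -, hz, -⟩ := (S.acts_toW n).inv S (D.simple i) (S.X.simple_lt i.isLt)
  refine cell_of S ⟨b * (N₀ * hh * N₀⁻¹ * (N₀ * v * N₀⁻¹)),
    mul_mem hb (mul_mem (Sys.H_le_B (S.conj_H (S.acts_simple i) hhH))
      (Sys.U_le_B (Sys.upSub_le_U _ (S.nn_conj_upSub i hv)))),
    S.sN i * n, by rw [map_mul, S.toW_sN],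
    (n : GL D.Idx F)⁻¹ * S.xg (D.simple i) a * (n : GL D.Idx F) * c', mul_mem ?_ hc', ?_⟩
  · have h1 := hz a
    rw [inv_inv] at h1
    rw [h1]
    exact Sys.U_le_B (S.xg_mem_U h _)
  · rw [Subgroup.coe_mul, eg, ek]
    calc b * (n₁ : GL D.Idx F) * c * (b' * n * c')
        = b * N₀ * (N₀⁻¹ * n₁ * c * b') * n * c' := by group
      _ = b * N₀ * (hh * v * S.xg (D.simple i) a) * n * c' := by rw [hdec]
      _ = _ := by
        show _ = b * (N₀ * hh * N₀⁻¹ * (N₀ * v * N₀⁻¹)) * (N₀ * (n : GL D.Idx F)) * _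
        group

lemma mul_sq {i : Fin D.rank} {g k : G₀}
    (hg : (cells S).cell g = S.X.C.simple i) (hk : (cells S).cell k = S.X.C.simple i) :
    (cells S).cell (g * k) = 1 ∨ (cells S).cell (g * k) = S.X.C.simple i := by
  obtain ⟨b, hb, n₁, hn₁, c, hc, eg⟩ := hg ▸ cell_spec S g
  obtain ⟨b', hb', n, hn, c', hc', ek⟩ := hk ▸ cell_spec S k
  have hH : (S.nn (D.simple i) 1)⁻¹ * (n₁ : GL D.Idx F) ∈ D.borelSubgroup F :=
    Sys.H_le_B (S.toW_eq_iff.1 ((S.toW_sN i).trans hn₁.symm))
  have e0 : (g : GL D.Idx F) * k =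
      b * (S.nn (D.simple i) 1 * ((S.nn (D.simple i) 1)⁻¹ * n₁ * c * b') * n) * c' := by
    rw [eg, ek]; group
  rcases S.rule i n (mul_mem (mul_mem hH hc) hb') with ⟨b₁, h1, b₂, h2, e⟩ | ⟨b₁, h1, b₂, h2, e⟩
  · refine Or.inl (cell_of S ⟨b * b₁, mul_mem hb h1, S.sN i * n,
      by rw [map_mul, S.toW_sN, hn, sq], b₂ * c', mul_mem h2 hc', ?_⟩)
    rw [Subgroup.coe_mul, e0, e]
    show _ = b * b₁ * (S.nn (D.simple i) 1 * (n : GL D.Idx F)) * _
    group
  · refine Or.inr (cell_of S ⟨b * b₁, mul_mem hb h1, n, hn, b₂ * c', mul_mem h2 hc', ?_⟩)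
    rw [Subgroup.coe_mul, e0, e]; group

lemma card_cell (w : S.X.W) :
    (Finset.univ.filter fun g : G₀ => (cells S).cell g = w).card =
      Nat.card ↥(D.borelSubgroup F) * Nat.card F ^ S.X.inv w := by
  rw [← Fintype.card_subtype, ← Nat.card_eq_fintype_card, ← S.card_Uw w, ← Nat.card_prod]
  obtain ⟨n, rfl⟩ := S.toW_surjective w
  let f : ↥(D.borelSubgroup F) × ↥(S.Uw (S.toW n)) →
      {g : G₀ // (cells S).cell g = S.toW n} := fun p =>
    ⟨⟨p.1 * n * p.2, mul_mem (mul_mem (S.B_le_group p.1.2) (S.N_le_group n.2))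
      (S.U_le_group (S.Uw_le_U _ p.2.2))⟩,
      cell_of S ⟨p.1, p.1.2, n, rfl, p.2, Sys.U_le_B (S.Uw_le_U _ p.2.2), rfl⟩⟩
  refine (Nat.card_eq_of_bijective f ⟨?_, ?_⟩).symm
  · rintro ⟨b, u⟩ ⟨b', u'⟩ he
    have he' : (b : GL D.Idx F) * n * u = b' * n * u' :=
      congrArg (fun g : {g : G₀ // (cells S).cell g = S.toW n} => ((g.1 : G₀) : GL D.Idx F)) he
    obtain ⟨h1, h2⟩ := S.form_unique n b.2 b'.2 u.2 u'.2 he'
    exact Prod.ext (Subtype.ext h1) (Subtype.ext h2)
  · rintro ⟨g, hg⟩
    obtain ⟨b, hb, m, hm, c, hc, eg⟩ := hg ▸ cell_spec S g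
    have hH : (n : GL D.Idx F)⁻¹ * m ∈ D.borelSubgroup F :=
      Sys.H_le_B (S.toW_eq_iff.1 hm.symm)
    obtain ⟨b₁, hb₁, u, hu, e⟩ := S.exists_form n (mul_mem hH hc)
    refine ⟨(⟨b * b₁, mul_mem hb hb₁⟩, ⟨u, hu⟩), Subtype.ext (Subtype.ext ?_)⟩
    show b * b₁ * (n : GL D.Idx F) * u = (g : GL D.Idx F)
    rw [eg, show b * b₁ * (n : GL D.Idx F) * u = b * (b₁ * n * u) by group, ← e]
    group

include S in
lemma card_B₀ : Nat.card ↥(B₀) = Nat.card ↥(D.borelSubgroup F) :=
  Nat.card_congr (Subgroup.subgroupOfEquivOfLe S.B_le_group).toEquiv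

open HeckeCornerRank in
lemma rel_group [Fintype S.X.W] : Rel S.X (T (cells S)) (Nat.card F : ℂ) := by
  set K := cells S with hK
  set q : ℂ := (Nat.card F : ℂ) with hq
  have hq0 : q ≠ 0 := Nat.cast_ne_zero.2 Nat.card_pos.ne'
  have hone : T K 1 = e B₀ := by rw [← cell_one S, T_one]
  have heps : ∀ x, ev (fun _ => (1 : ℂ)) (T K x) = q ^ S.X.inv x := by
    intro x
    unfold T
    rw [map_smul, map_sum, Finset.sum_congr rfl (fun g _ => ev_δ _ g), Finset.sum_const, card_cell S,
      card_B₀ S, nsmul_eq_mul, mul_one, smul_eq_mul, Nat.cast_mul, Nat.cast_pow, ← mul_assoc,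
      inv_mul_cancel₀ (Nat.cast_ne_zero.2 Nat.card_pos.ne'), one_mul]
  have hmul : ∀ a b : MonoidAlgebra ℂ G₀, ev (fun _ => (1 : ℂ)) (a * b) =
      ev (fun _ => (1 : ℂ)) a * ev (fun _ => (1 : ℂ)) b := by
    intro a b
    rw [sum_δ a, sum_δ b]
    simp only [Finset.mul_sum, Finset.sum_mul, map_sum, smul_mul_assoc, mul_smul_comm, δ_mul,
      map_smul, ev_δ, smul_eq_mul, mul_one]
    exact Finset.sum_congr rfl fun _ _ => Finset.sum_congr rfl fun _ _ => mul_comm _ _
  have hbi : ∀ x y, e B₀ * (T K x * T K y) = T K x * T K y ∧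
      T K x * T K y * e B₀ = T K x * T K y := fun x y =>
    ⟨by rw [← mul_assoc, e_T], by rw [mul_assoc, T_e]⟩
  have hsupp : ∀ x y z, (∀ g k, K.cell g = x → K.cell k = y → K.cell (g * k) ≠ z) →
      coord K (T K x * T K y) z = 0 := by
    intro x y z h
    rw [coord]
    refine mul_eq_zero_of_right _ ?_
    unfold T
    rw [smul_mul_assoc, mul_smul_comm, Finset.sum_mul, MonoidAlgebra.coeff_smul, Finsupp.smul_apply,
      MonoidAlgebra.coeff_smul, Finsupp.smul_apply, MonoidAlgebra.coeff_sum, Finsupp.finsetSum_apply]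
    rw [Finset.sum_eq_zero, smul_zero, smul_zero]
    intro g hg
    rw [Finset.mul_sum, MonoidAlgebra.coeff_sum, Finsupp.finsetSum_apply]
    refine Finset.sum_eq_zero fun k hk => ?_
    rw [Finset.mem_filter] at hg hk
    rw [δ_mul, δ, MonoidAlgebra.coeff_single, Finsupp.single_apply, if_neg]
    intro e1
    exact h g k hg.2 hk.2 (by rw [e1, K.cell_rep])
  refine rel_of_rules S.X _ q (fun y => by rw [hone, e_T]) (fun y => by rw [hone, T_e]) ?_ ?_
  · intro i w hu
    have hsingle : T K (S.X.C.simple i) * T K w =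
        coord K (T K (S.X.C.simple i) * T K w) (S.X.C.simple i * w) •
          T K (S.X.C.simple i * w) := by
      conv_lhs => rw [expand K (hbi _ _).1 (hbi _ _).2]
      refine Finset.sum_eq_single _ (fun z _ hz => ?_) (by simp)
      rw [hsupp _ _ _ (fun g k hg hk => by rw [mul_up S hu hg hk]; exact Ne.symm hz), zero_smul]
    set c := coord K (T K (S.X.C.simple i) * T K w) (S.X.C.simple i * w)
    have h1 := congrArg (ev (fun _ => (1 : ℂ))) hsingle
    have hs1 : S.X.inv (S.X.C.simple i) = 1 := by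
      have := up_inv S.X (up_one S.X i)
      rwa [mul_one, S.X.inv_eq_zero_iff.2 rfl] at this
    rw [hmul, map_smul, heps, heps, heps, up_inv S.X hu, hs1, pow_one, smul_eq_mul, pow_succ] at h1
    have hc : c = 1 := by
      have h2 : (c - 1) * (q ^ S.X.inv w * q) = 0 := by linear_combination -h1
      exact sub_eq_zero.1 ((mul_eq_zero.1 h2).resolve_right (mul_ne_zero (pow_ne_zero _ hq0) hq0))
    rw [hsingle, hc, one_smul]
  · intro i
    set s := S.X.C.simple i with hs
    have hs1 : S.X.inv s = 1 := by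
      have := up_inv S.X (up_one S.X i)
      rwa [mul_one, S.X.inv_eq_zero_iff.2 rfl] at this
    have hne : (1 : S.X.W) ≠ s := fun h => by
      rw [← h, S.X.inv_eq_zero_iff.2 rfl] at hs1
      exact zero_ne_one hs1
    have hexp : T K s * T K s =
        coord K (T K s * T K s) 1 • T K 1 + coord K (T K s * T K s) s • T K s := by
      conv_lhs => rw [expand K (hbi _ _).1 (hbi _ _).2]
      refine Finset.sum_eq_add 1 s hne (fun z _ hz => ?_) (by simp) (by simp)
      rw [hsupp _ _ _ (fun g k hg hk => by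
        rcases mul_sq S hg hk with h | h <;> rw [h]
        · exact Ne.symm hz.1
        · exact Ne.symm hz.2), zero_smul]
    set a := coord K (T K s * T K s) 1
    set b := coord K (T K s * T K s) s
    have h1 := congrArg (fun t : MonoidAlgebra ℂ G₀ => t.coeff 1) hexp
    have hc1 : K.cell 1 = 1 := cell_one S
    have hBne : (Nat.card ↥(B₀) : ℂ) ≠ 0 := cB_ne _
    have hlhs : (T K s * T K s).coeff 1 = (Nat.card ↥(B₀) : ℂ)⁻¹ * q := by
      have hinv : ∀ g : G₀, K.cell g = s → K.cell g⁻¹ = s := by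
        intro g hg
        obtain ⟨b, hb, n, hn, c, hc, eg⟩ := hg ▸ cell_spec S g
        refine cell_of S ⟨c⁻¹, inv_mem hc, n⁻¹, ?_, b⁻¹, inv_mem hb, ?_⟩
        · rw [map_inv, hn]; exact inv_eq_of_mul_eq_one_right (sq S.X i)
        · rw [Subgroup.coe_inv, eg]; simp [mul_assoc]
      unfold T
      rw [smul_mul_assoc, mul_smul_comm, Finset.sum_mul, MonoidAlgebra.coeff_smul, Finsupp.smul_apply,
        MonoidAlgebra.coeff_smul, Finsupp.smul_apply, MonoidAlgebra.coeff_sum, Finsupp.finsetSum_apply,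
        smul_eq_mul, smul_eq_mul]
      rw [Finset.sum_congr rfl (g := fun _ => (1 : ℂ)), Finset.sum_const, card_cell S, hs1, pow_one,
        card_B₀ S, nsmul_eq_mul, mul_one, Nat.cast_mul, ← mul_assoc _ (Nat.card ↥(D.borelSubgroup F) : ℂ),
        inv_mul_cancel₀ (Nat.cast_ne_zero.2 Nat.card_pos.ne'), one_mul, mul_comm]
      intro g hg
      rw [Finset.mem_filter] at hg
      simp only [Finset.mul_sum, MonoidAlgebra.coeff_sum, Finsupp.finsetSum_apply, δ_mul, δ,
        MonoidAlgebra.coeff_single, Finsupp.single_apply, mul_eq_one_iff_inv_eq]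
      rw [Finset.sum_ite_eq, if_pos (by rw [Finset.mem_filter]; exact ⟨Finset.mem_univ _, hinv g hg.2⟩)]
    simp only [hlhs, MonoidAlgebra.coeff_add, MonoidAlgebra.coeff_smul, Finsupp.add_apply,
      Finsupp.smul_apply, T_coeff, hc1, if_pos, if_neg hne, smul_eq_mul, mul_zero, add_zero,
      if_true] at h1
    have ha : a = q := by
      have h3 : (a - q) * (Nat.card ↥(B₀) : ℂ)⁻¹ = 0 := by linear_combination -h1
      exact sub_eq_zero.1 ((mul_eq_zero.1 h3).resolve_right (inv_ne_zero hBne))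
    have h2 := congrArg (ev (fun _ => (1 : ℂ))) hexp
    rw [hmul, map_add, map_smul, map_smul, heps, heps, hs1, S.X.inv_eq_zero_iff.2 rfl, pow_one,
      pow_zero, smul_eq_mul, smul_eq_mul, ha] at h2
    have hb : b = q - 1 := by
      have h3 : (b - (q - 1)) * q = 0 := by linear_combination -h2
      exact sub_eq_zero.1 ((mul_eq_zero.1 h3).resolve_right hq0)
    rw [hexp, ha, hb]

lemma ranks_group [Fintype S.X.W] :
    ((Mg S.X).map (Polynomial.eval (Nat.card F : ℂ))).rank =
        Fintype.card (HeckeCornerRank.Constit B₀) ∧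
      ((Cg S.X).map (Polynomial.eval (Nat.card F : ℂ))).rank +
          Fintype.card (HeckeCornerRank.Constit B₀) = Fintype.card S.X.W :=
  ranks_at S.X (cells S) _ (rel_group S)

end Group

lemma ranks_X {D : ChevalleyDatum} (C : ChevalleyCert.Cert D) (X : Weyl D) (hs : suppCheck D = true)
    [Fintype X.W] (F : Type*) [Field F] [Fintype F] :
    ((Mg X).map (Polynomial.eval (Nat.card F : ℂ))).rank =
        Fintype.card (HeckeCornerRank.Constit ((D.borelSubgroup F).subgroupOf (D.group F))) ∧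
      ((Cg X).map (Polynomial.eval (Nat.card F : ℂ))).rank +
          Fintype.card (HeckeCornerRank.Constit ((D.borelSubgroup F).subgroupOf (D.group F))) =
        Fintype.card X.W :=
  key (ChevBruhatInstance.mkSys (F := F) C X hs) X (by unfold ChevBruhatInstance.mkSys; rfl)
where
  key (S : Sys D F) (X' : Weyl D) (h : S.X = X') [Fintype X'.W] :
      ((Mg X').map (Polynomial.eval (Nat.card F : ℂ))).rank =
          Fintype.card (HeckeCornerRank.Constit ((D.borelSubgroup F).subgroupOf (D.group F))) ∧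
        ((Cg X').map (Polynomial.eval (Nat.card F : ℂ))).rank +
            Fintype.card (HeckeCornerRank.Constit ((D.borelSubgroup F).subgroupOf (D.group F))) =
          Fintype.card X'.W := by
    subst h
    exact ranks_group S

/-- the number of constituents of the permutation character on `G/B` -/
theorem card_constituents_eq {D : ChevalleyDatum} (C : ChevalleyCert.Cert D) (X : Weyl D)
    (hs : suppCheck D = true) (F : Type*) [Field F] [Fintype F] :
    Nat.card {χ : Cfsg.IrrCharacter ↥(D.group F) //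
      ∃ φ : ↥(D.group F) → ℂ, Cfsg.IsCharacter ↥(D.group F) φ ∧
        Cfsg.fixedPointCharacter ((D.borelSubgroup F).subgroupOf (D.group F)) =
          (χ : ↥(D.group F) → ℂ) + φ} = Nat.card (ConjClasses X.W) := by
  haveI : Finite X.W := Finite.of_injective X.ρ X.ρ_injective
  letI := Fintype.ofFinite X.W
  rw [HeckeCornerRank.card_constituents, ← card_triv X]
  set k := Fintype.card (HeckeCornerRank.Constit ((D.borelSubgroup F).subgroupOf (D.group F)))
  set k₁ := Fintype.card (HeckeCornerRank.Constit (⊥ : Subgroup X.W))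
  obtain ⟨hM, hC⟩ := ranks_X C X hs F
  obtain ⟨hM1, hC1⟩ := ranks_at X (trivCells X) _ (rel_triv X)
  obtain ⟨P1, hP1, hP1'⟩ := rank_semicont (Mg X) (Nat.card F : ℂ)
  obtain ⟨P2, hP2, hP2'⟩ := rank_semicont (Cg X) (Nat.card F : ℂ)
  obtain ⟨P3, hP3, hP3'⟩ := rank_semicont (Mg X) 1
  obtain ⟨P4, hP4, hP4'⟩ := rank_semicont (Cg X) 1
  set P := P1 * P2 * P3 * P4
  have hP : P ≠ 0 := mul_ne_zero (mul_ne_zero (mul_ne_zero hP1 hP2) hP3) hP4
  obtain ⟨p, hp, hpP⟩ : ∃ p : ℕ, p.Prime ∧ P.eval (p : ℂ) ≠ 0 := by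
    by_contra hc
    push Not at hc
    refine (Nat.infinite_setOf_prime.image Nat.cast_injective.injOn (f := ((↑) : ℕ → ℂ))) ?_
    exact (Polynomial.finite_setOfPred_isRoot hP).subset (by rintro _ ⟨p, hp, rfl⟩; exact hc p hp)
  simp only [P, Polynomial.eval_mul, mul_ne_zero_iff] at hpP
  haveI := Fact.mk hp
  obtain ⟨hMp, hCp⟩ := ranks_X C X hs (ZMod p)
  rw [Nat.card_zmod] at hMp hCp
  have a1 := hP1' (p : ℂ) hpP.1.1.1
  have a2 := hP2' (p : ℂ) hpP.1.1.2
  have a3 := hP3' (p : ℂ) hpP.1.2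
  have a4 := hP4' (p : ℂ) hpP.2
  change _ = k at hM
  change _ + k = _ at hC
  change _ = k₁ at hM1
  change _ + k₁ = _ at hC1
  omega

end

end Cfsg.Agent.ChevHecke
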