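import Cfsg.Agent.Lib.ChevSubfieldData
import Cfsg.Agent.Lib.ChevFrobeniusFixed

/-!
Unipotent elements normalising the fixed points of a field endomorphism in `U`.
-/

set_option autoImplicit false
set_option linter.unusedSectionVars false

namespace Cfsg.Agent.ChevSubfieldUnipotent

open Cfsg.Lie Cfsg.Agent.ChevalleyEngine Cfsg.Agent.ChevalleyCert Cfsg.Agent.ChevalleyRoots
open Cfsg.Agent.ChevalleyCore Cfsg.Agent.ChevalleyTorus Cfsg.Agent.ChevBruhat Cfsg.Agent.ChevalleyUnipotent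
open Cfsg.Agent.ChevFrobeniusFixed Cfsg.Agent.ChevSubfieldData

variable {D : ChevalleyDatum} (C : Cert D) {F : Type*} [Field F] (σ : F →+* F)

/-- the commutator of `x_k` with `x_r` leads at `q` with the coefficient `N`, invertible in `F` -/
def Lead (D : ChevalleyDatum) (F : Type*) [Field F] (k r q : ℕ) (N : ℤ) : Prop :=
  r ≠ k ∧ (N : F) ≠ 0 ∧
    ∃ rest, D.commTerms k r = (q, N, 1, 1) :: rest ∧ ∀ c ∈ rest, q < c.1

theorem lead_of_check {k r n : ℕ} (h : leadOK D k r n = true) (hn : (n : F) ≠ 0) :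
    ∃ q N, Lead D F k r q N := by
  rw [leadOK] at h
  simp only [Bool.and_eq_true, bne_iff_ne, ne_eq] at h
  obtain ⟨hne, h⟩ := h
  split at h
  · simp at h
  · rename_i q N a b rest he
    simp only [Bool.and_eq_true, beq_iff_eq, List.all_eq_true, decide_eq_true_eq] at h
    obtain ⟨⟨⟨hN, rfl⟩, rfl⟩, hr⟩ := h
    refine ⟨q, N, Ne.symm hne, fun h0 => hn ?_, rest, he, hr⟩
    rcases Int.natAbs_eq N with e | e <;> rw [e, hN] at h0 <;> simpa using h0

theorem exists_lead_of_step {k : ℕ} (hk : stepOK D k = true) :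
    ∃ r, D.nroots / 2 ≤ r ∧ r < D.nroots ∧ ∃ q N, Lead D F k r q N := by
  simp only [stepOK, Bool.or_eq_true, Bool.and_eq_true, List.any_eq_true, List.mem_range'_1] at hk
  rcases hk with ⟨r, hr, h⟩ | ⟨⟨r, hr, h⟩, ⟨r', hr', h'⟩⟩
  · exact ⟨r, hr.1, by omega, lead_of_check h (by simp)⟩
  · by_cases h2 : ((2 : ℕ) : F) = 0
    · refine ⟨r', hr'.1, by omega, lead_of_check h' fun h3 => one_ne_zero (α := F) ?_⟩
      have : ((3 : ℕ) : F) - ((2 : ℕ) : F) = 1 := by push_cast; ring
      rw [h3, h2, sub_zero] at this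
      exact this.symm
    · exact ⟨r, hr.1, by omega, lead_of_check h h2⟩

include C

theorem wg_cons (a : ℕ × F) (l : List (ℕ × F)) : wg C (a :: l) = xg C a.1 a.2 * wg C l := by
  simp [wg]

/-- conjugation by `U` preserves `uGe` -/
theorem conj_uGe {k : ℕ} (hk : D.nroots / 2 ≤ k) {v z : GL D.Idx F} (hv : v ∈ D.posUnipotent F)
    (hz : z ∈ uGe C (F := F) k) : v * z * v⁻¹ ∈ uGe C (F := F) k := by
  refine Sys.conj_closure_le (T := {g : GL D.Idx F | ∃ (q : ℕ) (d : F), k ≤ q ∧ D.nroots / 2 ≤ q ∧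
    q < D.nroots ∧ g = xg C q d}) _ ?_ hz
  rintro x ⟨q, d, h1, h2, h3, rfl⟩
  obtain ⟨z', hz', e⟩ := ChevRadicalCentralizer.conj_leading C h2 h3 hv d
  rw [e]
  exact mul_mem (xg_mem_uGe C h1 h2 h3 d) (uGe_mono C (by omega) hz')

theorem uGe_le_U {k : ℕ} (hk : D.nroots / 2 ≤ k) : uGe C (F := F) k ≤ D.posUnipotent F := by
  rw [posUnipotent_eq C]
  exact uGe_mono C hk

/-- the commutator of an element of `uGe k` with an element of `U` lies deeper -/
theorem comm_mem_succ {k : ℕ} (hk : D.nroots / 2 ≤ k) (hk' : k < D.nroots) {u y : GL D.Idx F}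
    (hu : u ∈ uGe C (F := F) k) (hy : y ∈ D.posUnipotent F) :
    u⁻¹ * y * u * y⁻¹ ∈ uGe C (F := F) (k + 1) := by
  obtain ⟨c, z, hz, rfl⟩ := uGe_split C hk hk' hu
  obtain ⟨z', hz', e⟩ := ChevRadicalCentralizer.conj_leading C hk hk' hy c
  have h : (xg C k c * z)⁻¹ * y * (xg C k c * z) * y⁻¹ = z⁻¹ * z' * (y * z * y⁻¹) := by
    have : y * xg C k c = xg C k c * z' * y := by rw [← e]; group
    calc (xg C k c * z)⁻¹ * y * (xg C k c * z) * y⁻¹
        = z⁻¹ * (xg C k c)⁻¹ * (y * xg C k c) * z * y⁻¹ := by group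
      _ = _ := by rw [this]; group
  rw [h]
  exact mul_mem (mul_mem (inv_mem hz) hz') (conj_uGe C (by omega) hy hz)

/-- the terms of the commutator of a root after `k` with `x_r` come after `q = k + r` -/
theorem deeper {k r q : ℕ} {N : ℤ} (hk : D.nroots / 2 ≤ k) (hk' : k < D.nroots) (hr : D.nroots / 2 ≤ r)
    (hr' : r < D.nroots) (hL : Lead D F k r q N) {z : GL D.Idx F} (hz : z ∈ uGe C (F := F) (k + 1)) :
    z⁻¹ * xg C r 1 * z * (xg C r 1)⁻¹ ∈ uGe C (F := F) (q + 1) := by
  obtain ⟨-, -, rest, he, -⟩ := hL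
  have hmem : (q, N, 1, 1) ∈ D.commTerms k r := by rw [he]; exact List.mem_cons_self ..
  have hkq := key_commTerm C hk' hr' hmem
  simp only [Nat.cast_one, one_mul] at hkq
  change key C q = key C k + key C r at hkq
  have hq : q < D.nroots := (commTerms_mem C hk' hr' hmem).1
  have hq2 : D.nroots / 2 ≤ q + 1 := by
    have := (key_pos C hk').2 hk
    have := (key_pos C hr').2 hr
    have := (key_pos C hq).1 (by omega)
    omega
  set y := xg C r (1 : F) with hy
  have hyU : y ∈ D.posUnipotent F := xg_mem_U C hr hr' 1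
  induction hz using Subgroup.closure_induction with
  | mem x hx =>
    obtain ⟨j, t, h1, h2, h3, rfl⟩ := hx
    by_cases hjr : j = r
    · subst hjr
      rw [hy, xg_inv, xg_inv, xg_mul, xg_mul, xg_mul, show -t + 1 + t + -1 = (0 : F) by ring, xg_zero]
      exact one_mem _
    have hne : r ≠ D.neg j := by
      have := C.neg_eq j h3; have := C.even; omega
    have hw : wg C (D.commWord F j r t 1) ∈ uGe C (F := F) (q + 1) := by
      refine Subgroup.list_prod_mem _ ?_
      intro g hg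
      simp only [ChevalleyDatum.commWord, List.map_map, List.mem_map] at hg
      obtain ⟨c, hc, rfl⟩ := hg
      obtain ⟨hc1, hi, hl, -⟩ := commTerms_mem C h3 hr' hc
      have hkc := key_commTerm C h3 hr' hc
      have p1 := (key_pos C h3).2 h2
      have p2 := (key_pos C hr').2 hr
      have p3 := key_lt C h3 (show k < j by omega)
      have i1 : (1 : ℤ) ≤ c.2.2.1 := by exact_mod_cast hi
      have l1 : (1 : ℤ) ≤ c.2.2.2 := by exact_mod_cast hl
      have hgt : key C q < key C c.1 := by rw [hkc, hkq]; nlinarith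
      have hlt : q < c.1 := by
        by_contra hle
        rcases eq_or_lt_of_le (not_lt.1 hle) with h | h
        · rw [h] at hgt; omega
        · have := key_lt C hq h; omega
      exact xg_mem_uGe C (by omega) (by omega) hc1 _
    have h := comm_formula C h3 hr' (fun h => hjr h.symm) hne t 1
    have : (xg C j t)⁻¹ * y * xg C j t * y⁻¹ = y * wg C (D.commWord F j r t 1) * y⁻¹ := by
      rw [mul_assoc (xg C j t)⁻¹, hy, h]; group
    rw [this]
    exact conj_uGe C hq2 hyU hw
  | one => simp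
  | mul a b ha hb iha ihb =>
    have haU : b⁻¹ ∈ D.posUnipotent F := inv_mem (uGe_le_U C (by omega) hb)
    rw [show (a * b)⁻¹ * y * (a * b) * y⁻¹ =
      b⁻¹ * (a⁻¹ * y * a * y⁻¹) * b⁻¹⁻¹ * (b⁻¹ * y * b * y⁻¹) by group]
    exact mul_mem (conj_uGe C hq2 haU iha) ihb
  | inv a ha iha =>
    have haU : a ∈ D.posUnipotent F := uGe_le_U C (by omega) ha
    rw [show a⁻¹⁻¹ * y * a⁻¹ * y⁻¹ = a * (a⁻¹ * y * a * y⁻¹)⁻¹ * a⁻¹ by group]
    exact conj_uGe C hq2 haU (inv_mem iha)

/-- the leading coefficient of the commutator with a root element -/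
theorem lead_comm {k r q : ℕ} {N : ℤ} (hk : D.nroots / 2 ≤ k) (hk' : k < D.nroots) (hr : D.nroots / 2 ≤ r)
    (hr' : r < D.nroots) (hL : Lead D F k r q N) (c : F) {z : GL D.Idx F}
    (hz : z ∈ uGe C (F := F) (k + 1)) :
    D.nroots / 2 ≤ q ∧ q < D.nroots ∧ ∃ z' ∈ uGe C (F := F) (q + 1),
      (xg C k c * z)⁻¹ * xg C r 1 * (xg C k c * z) * (xg C r 1)⁻¹ = xg C q (-((N : F) * c)) * z' := by
  have hdeep := deeper C hk hk' hr hr' hL hz
  obtain ⟨hne, -, rest, he, hrest⟩ := hL
  have hmem : (q, N, 1, 1) ∈ D.commTerms k r := by rw [he]; exact List.mem_cons_self ..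
  have hq : q < D.nroots := (commTerms_mem C hk' hr' hmem).1
  have hkq := key_commTerm C hk' hr' hmem
  simp only [Nat.cast_one, one_mul] at hkq
  change key C q = key C k + key C r at hkq
  have hq1 : D.nroots / 2 ≤ q := by
    have := (key_pos C hk').2 hk
    have := (key_pos C hr').2 hr
    exact (key_pos C hq).1 (by omega)
  refine ⟨hq1, hq, ?_⟩
  have hneg : r ≠ D.neg k := by
    have := C.neg_eq k hk'; have := C.even; omega
  have h := comm_formula C hk' hr' hne hneg c 1
  have hw : wg C (rest.map fun e => (e.1, (e.2.1 : F) * (-c) ^ e.2.2.1 * (1 : F) ^ e.2.2.2)) ∈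
      uGe C (F := F) (q + 1) := by
    refine Subgroup.list_prod_mem _ ?_
    intro g hg
    simp only [List.map_map, List.mem_map] at hg
    obtain ⟨e, hc, rfl⟩ := hg
    have he1 := (commTerms_mem C hk' hr' (he ▸ List.mem_cons_of_mem _ hc)).1
    exact xg_mem_uGe C (hrest e hc) (by have := hrest e hc; omega) he1 _
  rw [ChevalleyDatum.commWord, he, List.map_cons, wg_cons C] at h
  set R := wg C (rest.map fun e => (e.1, (e.2.1 : F) * (-c) ^ e.2.2.1 * (1 : F) ^ e.2.2.2))
  set y := xg C r (1 : F)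
  have hyU : y ∈ D.posUnipotent F := xg_mem_U C hr hr' 1
  have hzU : z⁻¹ ∈ D.posUnipotent F := inv_mem (uGe_le_U C (by omega) hz)
  obtain ⟨w, hw2, ew⟩ := ChevRadicalCentralizer.conj_leading C hq1 hq (mul_mem hzU hyU) (-((N : F) * c))
  refine ⟨w * ((z⁻¹ * y) * R * (z⁻¹ * y)⁻¹) * (z⁻¹ * y * z * y⁻¹),
    mul_mem (mul_mem hw2 (conj_uGe C (by omega) (mul_mem hzU hyU) hw)) hdeep, ?_⟩
  have hx : (q, (N : F) * (-c) ^ 1 * (1 : F) ^ 1).2 = -((N : F) * c) := by simp
  simp only at h
  rw [show (N : F) * (-c) ^ 1 * (1 : F) ^ 1 = -((N : F) * c) by simp] at h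
  calc (xg C k c * z)⁻¹ * y * (xg C k c * z) * y⁻¹
      = z⁻¹ * ((xg C k c)⁻¹ * (y * xg C k c)) * z * y⁻¹ := by group
    _ = (z⁻¹ * y) * xg C q (-((N : F) * c)) * (z⁻¹ * y)⁻¹ * ((z⁻¹ * y) * R * (z⁻¹ * y)⁻¹) *
          (z⁻¹ * y * z * y⁻¹) := by rw [h]; group
    _ = _ := by rw [ew]; group

theorem fr_uGe {k : ℕ} {z : GL D.Idx F} (hz : z ∈ uGe C (F := F) k) : fr σ z ∈ uGe C (F := F) k := by
  induction hz using Subgroup.closure_induction with
  | mem x hx =>
    obtain ⟨j, t, h1, h2, h3, rfl⟩ := hx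
    rw [fr_xg σ C]
    exact xg_mem_uGe C h1 h2 h3 _
  | one => simp
  | mul a b _ _ ha hb => rw [map_mul]; exact mul_mem ha hb
  | inv a _ ha => rw [map_inv]; exact inv_mem ha

/-- a fixed element has fixed leading coefficient -/
theorem fixed_lead {q : ℕ} (hq : D.nroots / 2 ≤ q) (hq' : q < D.nroots) {a : F} {z : GL D.Idx F}
    (hz : z ∈ uGe C (F := F) (q + 1)) (h : fr σ (xg C q a * z) = xg C q a * z) :
    σ a = a ∧ fr σ z = z := by
  rw [map_mul, fr_xg σ C] at h
  exact coeff_unique C hq hq' (fr_uGe C σ hz) hz h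

/-- `u` conjugates every fixed element of `U` to a fixed element -/
def NormQ (u : GL D.Idx F) : Prop :=
  ∀ y ∈ D.posUnipotent F, fr σ y = y → fr σ (u⁻¹ * y * u) = u⁻¹ * y * u

/-- such elements are fixed up to the two exceptional root subgroups -/
theorem normQ_decomp {s : ℕ} (hcen : ∀ r, D.IsPosRoot r → ∀ a b : F, Commute (xg C s a) (xg C r b))
    (hstep : ∀ k, D.nroots / 2 ≤ k → k < D.nroots → k ≠ top D → k ≠ s →
      ∃ r, D.nroots / 2 ≤ r ∧ r < D.nroots ∧ ∃ q N, Lead D F k r q N)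
    {u : GL D.Idx F} (hu : u ∈ D.posUnipotent F) (h : NormQ σ u) :
    ∃ w ∈ D.posUnipotent F, fr σ w = w ∧ ∃ c d : F, u = w * (xg C s c * xg C (top D) d) := by
  suffices key : ∀ n k, D.nroots - k = n → D.nroots / 2 ≤ k → ∀ u ∈ uGe C (F := F) k, NormQ σ u →
      ∃ w ∈ D.posUnipotent F, fr σ w = w ∧ ∃ c d : F, u = w * (xg C s c * xg C (top D) d) by
    rw [posUnipotent_eq C] at hu
    exact key _ _ rfl le_rfl u hu h
  intro n
  induction n with
  | zero =>
    intro k hn hk u hu _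
    rw [uGe_top C (by omega), Subgroup.mem_bot] at hu
    exact ⟨1, one_mem _, map_one _, 0, 0, by rw [hu, xg_zero, xg_zero, one_mul, one_mul]⟩
  | succ n ih =>
    intro k hn hk u hu hN
    have hk' : k < D.nroots := by omega
    obtain ⟨a, z, hz, rfl⟩ := uGe_split C hk hk' hu
    by_cases htop : k = top D
    · subst htop
      rw [uGe_top C (by simp only [top]; omega), Subgroup.mem_bot] at hz
      exact ⟨1, one_mem _, map_one _, 0, a, by rw [hz, mul_one, xg_zero, one_mul, one_mul]⟩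
    have hzU : z ∈ D.posUnipotent F := uGe_le_U C (by omega) hz
    by_cases hks : k = s
    · subst hks
      have hc : ∀ y ∈ D.posUnipotent F, Commute (xg C k a) y := fun y hy =>
        ChevRootCentralizer.commute_U C (fun r h1 h2 b => hcen r ((isPos C).2 ⟨h1, h2⟩) a b) hy
      have hN' : NormQ σ z := fun y hy hf => by
        have := hN y hy hf
        rwa [show (xg C k a * z)⁻¹ * y * (xg C k a * z) = z⁻¹ * y * z by
          calc (xg C k a * z)⁻¹ * y * (xg C k a * z)
              = z⁻¹ * ((xg C k a)⁻¹ * (y * xg C k a)) * z := by group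
            _ = _ := by rw [← (hc y hy).eq, inv_mul_cancel_left]] at this
      obtain ⟨w, hw, hwf, c, d, rfl⟩ := ih (k + 1) (by omega) (by omega) z hz hN'
      refine ⟨w, hw, hwf, a + c, d, ?_⟩
      rw [← mul_assoc, (hc w hw).eq, mul_assoc, ← mul_assoc (xg C k a), xg_mul]
    obtain ⟨r, hr, hr', q, N, hL⟩ := hstep k hk hk' htop hks
    obtain ⟨hq, hq', z', hz', e⟩ := lead_comm C hk hk' hr hr' hL a hz
    have hfx : fr σ (xg C r (1 : F)) = xg C r 1 := by rw [fr_xg σ C, map_one]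
    have hrat : fr σ (xg C q (-((N : F) * a)) * z') = xg C q (-((N : F) * a)) * z' := by
      rw [← e, map_mul, hN _ (xg_mem_U C hr hr' 1) hfx, map_inv, hfx]
    obtain ⟨ha, -⟩ := fixed_lead C σ hq hq' hz' hrat
    have haf : σ a = a := by
      rw [map_neg, map_mul, map_intCast, _root_.neg_inj] at ha
      exact mul_left_cancel₀ hL.2.1 ha
    have hxf : fr σ (xg C k a) = xg C k a := by rw [fr_xg σ C, haf]
    have hxU : xg C k a ∈ D.posUnipotent F := xg_mem_U C hk hk' a
    have hN' : NormQ σ z := fun y hy hf => by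
      have := hN (xg C k a * y * (xg C k a)⁻¹) (mul_mem (mul_mem hxU hy) (inv_mem hxU))
        (by rw [map_mul, map_mul, map_inv, hxf, hf])
      rwa [show (xg C k a * z)⁻¹ * (xg C k a * y * (xg C k a)⁻¹) * (xg C k a * z) = z⁻¹ * y * z by group] at this
    obtain ⟨w, hw, hwf, c, d, rfl⟩ := ih (k + 1) (by omega) (by omega) z hz hN'
    exact ⟨xg C k a * w, mul_mem hxU hw, by rw [map_mul, hxf, hwf], c, d, by rw [mul_assoc]⟩

/-- the fixed part of `U` lies in the group of the fixed root elements -/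
theorem mem_fixedRoots_of_U {w : GL D.Idx F} (hw : w ∈ D.posUnipotent F) (hf : fr σ w = w) :
    w ∈ fixedRoots D σ :=
  fixed_U σ C hw hf

/-- the elements of a group containing the fixed root elements, lying in `U`, are fixed -/
theorem M_inf_U_fixed {s : ℕ} (hcen : ∀ r, D.IsPosRoot r → ∀ a b : F, Commute (xg C s a) (xg C r b))
    (hstep : ∀ k, D.nroots / 2 ≤ k → k < D.nroots → k ≠ top D → k ≠ s →
      ∃ r, D.nroots / 2 ≤ r ∧ r < D.nroots ∧ ∃ q N, Lead D F k r q N)
    {M : Subgroup (GL D.Idx F)} (hL : fixedRoots D σ ≤ M)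
    (hspec : ∀ c d : F, xg C s c * xg C (top D) d ∈ M → fr σ (xg C s c * xg C (top D) d) = xg C s c * xg C (top D) d)
    {u : GL D.Idx F} (huM : u ∈ M) (huU : u ∈ D.posUnipotent F) : fr σ u = u := by
  suffices key : ∀ n k, D.nroots - k = n → D.nroots / 2 ≤ k → ∀ u ∈ M, u ∈ uGe C (F := F) k → fr σ u = u by
    rw [posUnipotent_eq C] at huU
    exact key _ _ rfl le_rfl u huM huU
  intro n
  induction n with
  | zero =>
    intro k hn hk u _ hu
    rw [uGe_top C (by omega), Subgroup.mem_bot] at hu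
    rw [hu, map_one]
  | succ n ih =>
    intro k hn hk u huM hu
    have hk' : k < D.nroots := by omega
    have hN : NormQ σ u := fun y hy hf => by
      have hyM : y ∈ M := hL (fixed_U σ C hy hf)
      have h1 := ih (k + 1) (by omega) (by omega) _
        (mul_mem (mul_mem (mul_mem (inv_mem huM) hyM) huM) (inv_mem hyM)) (comm_mem_succ C hk hk' hu hy)
      rw [map_mul, map_inv, hf] at h1
      exact mul_right_cancel h1
    obtain ⟨w, hw, hwf, c, d, rfl⟩ := normQ_decomp C σ hcen hstep (uGe_le_U C hk hu) hN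
    have hwM : w ∈ M := hL (fixed_U σ C hw hwf)
    have hzM := mul_mem (inv_mem hwM) huM
    rw [inv_mul_cancel_left] at hzM
    rw [map_mul, hwf, hspec c d hzM]

end Cfsg.Agent.ChevSubfieldUnipotent
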