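import Cfsg.Agent.Lib.ChevInvolClassBase
import Cfsg.Agent.Lib.ChevSubfieldUnipotent

/-!
A checker for certificates which bring the involutions of `U` in characteristic two to a list of
target supports: symbolic collection, conjugation by root elements and by Weyl words.
-/

set_option autoImplicit false
set_option linter.unusedSectionVars false

namespace Cfsg.Agent.ChevPeelEngine

open Cfsg.Lie Cfsg.Agent.ChevalleyEngine Cfsg.Agent.ChevalleyCert Cfsg.Agent.ChevalleyRoots
open Cfsg.Agent.ChevalleyCore Cfsg.Agent.ChevalleyTorus Cfsg.Agent.ChevBruhat Cfsg.Agent.ChevalleyUnipotent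
open Cfsg.Agent.ChevRootCentralizer Cfsg.Agent.ChevInvolClassBase Cfsg.Agent.ChevSubfieldSpecial

/-! ### polynomials with coefficients modulo two -/

/-- a monomial: powers of variables -/
abbrev Mon := List (ℕ × ℕ)

/-- a polynomial: a sum of monomials -/
abbrev Poly := List Mon

/-- multiply a monomial by a power of a variable -/
def mInsert (x : ℕ × ℕ) : Mon → Mon
  | [] => [x]
  | y :: m => if x.1 < y.1 then x :: y :: m else if x.1 = y.1 then (y.1, x.2 + y.2) :: m else y :: mInsert x m

def mMul (a b : Mon) : Mon := a.foldr mInsert b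

/-- add a monomial, cancelling a repetition -/
def toggle (m : Mon) : Poly → Poly
  | [] => [m]
  | y :: p => if m = y then p else y :: toggle m p

def pAdd (a b : Poly) : Poly := a.foldr toggle b

def pMul (a b : Poly) : Poly := (a.flatMap fun x => b.map fun y => mMul x y).foldr toggle []

def pPow (a : Poly) : ℕ → Poly
  | 0 => [[]]
  | n + 1 => pMul (pPow a n) a

section Eval

variable {F : Type*} [Field F] (ν : ℕ → F)

def mEval (m : Mon) : F := (m.map fun x => ν x.1 ^ x.2).prod

def pEval (p : Poly) : F := (p.map (mEval ν)).sum

theorem mEval_insert (x : ℕ × ℕ) (m : Mon) : mEval ν (mInsert x m) = ν x.1 ^ x.2 * mEval ν m := by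
  induction m with
  | nil => simp [mInsert, mEval]
  | cons y m ih =>
    rw [mInsert]
    split_ifs with h1 h2
    · simp [mEval]
    · simp [mEval, h2, pow_add, mul_assoc]
    · simp only [mEval, List.map_cons, List.prod_cons] at ih ⊢
      rw [ih]; ring

theorem mEval_mul (a b : Mon) : mEval ν (mMul a b) = mEval ν a * mEval ν b := by
  induction a with
  | nil => simp [mMul, mEval]
  | cons x a ih =>
    simp only [mMul, List.foldr_cons] at ih ⊢
    rw [mEval_insert, ih]
    simp [mEval, mul_assoc]

theorem pEval_toggle [CharP F 2] (m : Mon) (p : Poly) : pEval ν (toggle m p) = mEval ν m + pEval ν p := by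
  induction p with
  | nil => simp [toggle, pEval]
  | cons y p ih =>
    rw [toggle]
    split_ifs with h
    · subst h
      simp only [pEval, List.map_cons, List.sum_cons]
      rw [← add_assoc, CharTwo.add_self_eq_zero, zero_add]
    · simp only [pEval, List.map_cons, List.sum_cons] at ih ⊢
      rw [ih]; ring

theorem pEval_foldr [CharP F 2] (a : List Mon) (b : Poly) :
    pEval ν (a.foldr toggle b) = (a.map (mEval ν)).sum + pEval ν b := by
  induction a with
  | nil => simp
  | cons x a ih => rw [List.foldr_cons, pEval_toggle, ih, List.map_cons, List.sum_cons, add_assoc]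

theorem pEval_add [CharP F 2] (a b : Poly) : pEval ν (pAdd a b) = pEval ν a + pEval ν b := by
  rw [pAdd, pEval_foldr]; rfl

theorem pEval_mul [CharP F 2] (a b : Poly) : pEval ν (pMul a b) = pEval ν a * pEval ν b := by
  rw [pMul, pEval_foldr, show pEval ν [] = (0 : F) from rfl, add_zero]
  induction a with
  | nil => simp [pEval]
  | cons x a ih =>
    simp only [List.flatMap_cons, List.map_append, List.sum_append, ih]
    simp only [pEval, List.map_cons, List.sum_cons, add_mul, List.map_map]
    congr 1
    clear ih
    induction b with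
    | nil => simp
    | cons y b ihb =>
      simp only [List.map_cons, List.sum_cons, Function.comp_apply, mul_add, mEval_mul] at ihb ⊢
      rw [← ihb]

theorem pEval_pow [CharP F 2] (a : Poly) (n : ℕ) : pEval ν (pPow a n) = pEval ν a ^ n := by
  induction n with
  | zero => simp [pPow, pEval, mEval]
  | succ n ih => rw [pPow, pEval_mul, ih, pow_succ]

theorem mEval_congr {ν' : ℕ → F} {m : Mon} (h : ∀ x ∈ m, ν x.1 = ν' x.1) : mEval ν m = mEval ν' m :=
  congrArg List.prod (List.map_congr_left fun x hx => by rw [h x hx])

theorem pEval_congr {ν' : ℕ → F} {p : Poly} (h : ∀ m ∈ p, ∀ x ∈ m, ν x.1 = ν' x.1) : pEval ν p = pEval ν' p :=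
  congrArg List.sum (List.map_congr_left fun m hm => mEval_congr ν (h m hm))

end Eval

/-! ### collection -/

/-- a word in root elements with symbolic parameters -/
abbrev Word := List (ℕ × Poly)

/-- the variable of a root -/
def var (r : ℕ) : Poly := [[(r, 1)]]

/-- the terms produced when `x_r(p)` passes `x_s(w)` -/
def swapTerms (D : ChevalleyDatum) (s r : ℕ) (w p : Poly) : Word :=
  ((D.commTerms s r).filter fun c => c.2.1 % 2 != 0).map fun c =>
    (c.1, pMul (pPow w c.2.2.1) (pPow p c.2.2.2))

/-- insert a root element on the left of a collected word -/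
def ins (D : ChevalleyDatum) : ℕ → ℕ × Poly → Word → Word
  | 0, x, L => x :: L
  | _ + 1, x, [] => if x.2 = [] then [] else [x]
  | fuel + 1, x, y :: L =>
    if x.2 = [] then y :: L
    else if x.1 = y.1 then
      (match pAdd x.2 y.2 with
      | [] => L
      | z => (y.1, z) :: L)
    else if x.1 < y.1 then x :: y :: L
    else if decide (D.nroots / 2 ≤ y.1) && decide (x.1 < D.nroots) then
      y :: ((x :: swapTerms D y.1 x.1 y.2 x.2).foldr (ins D fuel) L)
    else x :: y :: L

/-- collect a word -/
def norm (D : ChevalleyDatum) (fuel : ℕ) (w : Word) : Word := w.foldr (ins D fuel) []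

section Sound

variable {D : ChevalleyDatum} (C : Cert D) {F : Type*} [Field F] [CharP F 2] (ν : ℕ → F)

/-- the value of a word -/
def wEval (w : Word) : GL D.Idx F := wg C (w.map fun x => (x.1, pEval ν x.2))

include C

theorem wEval_cons (x : ℕ × Poly) (w : Word) : wEval C ν (x :: w) = xg C x.1 (pEval ν x.2) * wEval C ν w := by
  simp [wEval, wg]

theorem wEval_append (a b : Word) : wEval C ν (a ++ b) = wEval C ν a * wEval C ν b := by
  simp [wEval, wg]

theorem wEval_nil : wEval C ν ([] : Word) = (1 : GL D.Idx F) := by simp [wEval, wg]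

omit C in
theorem cast_mod_two (N : ℤ) : (N : F) = if N % 2 != 0 then 1 else 0 := by
  rcases Int.emod_two_eq N with h | h
  · rw [if_neg (by simp [h])]
    exact (CharP.intCast_eq_zero_iff F 2 N).2 (Int.dvd_of_emod_eq_zero h)
  · rw [if_pos (by simp [h]), ← Int.emod_add_mul_ediv N 2, h]
    push_cast
    rw [CharTwo.two_eq_zero, zero_mul, add_zero]

theorem wEval_swap {s r : ℕ} (hs : D.nroots / 2 ≤ s) (hsr : s < r) (hr : r < D.nroots) (w p : Poly) :
    xg C r (pEval ν p) * xg C s (pEval ν w) =
      xg C s (pEval ν w) * xg C r (pEval ν p) * wEval C ν (swapTerms D s r w p) := by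
  have hne : r ≠ D.neg s := by
    have := C.neg_eq s (hsr.trans hr); have := C.even; omega
  rw [comm_formula C (hsr.trans hr) hr (by omega) hne]
  congr 1
  simp only [ChevalleyDatum.commWord, swapTerms]
  induction D.commTerms s r with
  | nil => simp [wEval, wg]
  | cons c l ih =>
    have e := cast_mod_two (F := F) c.2.1
    by_cases h : (c.2.1 % 2 != 0) = true
    · rw [if_pos h] at e
      rw [List.filter_cons, if_pos h, List.map_cons, List.map_cons, wEval_cons, ← ih, pEval_mul, pEval_pow, pEval_pow]
      simp [wg, e, CharTwo.neg_eq]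
    · rw [if_neg h] at e
      rw [List.filter_cons, if_neg h, List.map_cons, ← ih]
      simp [wg, e]

theorem wEval_ins : ∀ (fuel : ℕ) (x : ℕ × Poly) (L : Word),
    wEval C ν (ins D fuel x L) = xg C x.1 (pEval ν x.2) * wEval C ν L := by
  intro fuel
  induction fuel with
  | zero => intro x L; rw [ins, wEval_cons]
  | succ fuel ih =>
    intro x L
    cases L with
    | nil =>
      rw [ins]
      split_ifs with h
      · simp [h, pEval, wEval, wg]
      · rw [wEval_cons]
    | cons y L =>
      rw [ins]
      split_ifs with h0 h1 h2 h3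
      · simp [h0, pEval]
      · have e : pEval ν (pAdd x.2 y.2) = pEval ν x.2 + pEval ν y.2 := pEval_add ν _ _
        split
        · rename_i h
          rw [h] at e
          rw [wEval_cons, h1, ← mul_assoc, xg_mul, ← e]
          simp [pEval]
        · rw [wEval_cons, wEval_cons, h1, ← mul_assoc, xg_mul, e]
      · rw [wEval_cons]
      · have fold : ∀ l : Word, wEval C ν (l.foldr (ins D fuel) L) = wEval C ν l * wEval C ν L := by
          intro l
          induction l with
          | nil => simp [wEval_nil C ν]
          | cons z l ihl => rw [List.foldr_cons, ih, ihl, wEval_cons, mul_assoc]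
        simp only [Bool.and_eq_true, decide_eq_true_eq] at h3
        rw [wEval_cons, fold, wEval_cons, wEval_cons, ← mul_assoc (xg C x.1 _) (xg C y.1 _),
          wEval_swap C ν h3.1 (by omega) h3.2 y.2 x.2]
        group
      · rw [wEval_cons]

theorem wEval_norm (fuel : ℕ) (w : Word) : wEval C ν (norm D fuel w) = wEval C ν w := by
  induction w with
  | nil => rfl
  | cons x w ih => rw [norm, List.foldr_cons, wEval_ins C, wEval_cons, ← ih]; rfl

end Sound

/-! ### certificates -/

/-- a step of a certificate; children are earlier nodes -/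
inductive Step where
  | contra (q : ℕ)
  | zero (q v child : ℕ)
  | split (v c0 c1 : ℕ)
  | kill (s q e child : ℕ)
  | weyl (l : List ℕ) (child : ℕ)
  | leaf

/-- a state: its support, the coefficients known to be nonzero, and the step -/
abbrev Node := List ℕ × List ℕ × Step

/-- strictly increasing roots in range -/
def rootsOK (D : ChevalleyDatum) (l : List ℕ) : Bool :=
  l.all (fun r => decide (D.nroots / 2 ≤ r) && decide (r < D.nroots)) && decide (l.Pairwise (· < ·))

/-- the coefficient of a root in a collected word -/
def coef (c : Word) (q : ℕ) : Poly := ((c.find? fun x => x.1 == q).map Prod.snd).getD []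

/-- the symbolic word of a support -/
def stWord (S : List ℕ) : Word := S.map fun r => (r, var r)

/-- the square of a support -/
def sqWord (D : ChevalleyDatum) (fuel : ℕ) (S : List ℕ) : Word := norm D fuel (stWord S ++ stWord S)

/-- variables lie in the given list -/
def monIn (P : List ℕ) (m : Mon) : Bool := m.all fun x => P.contains x.1

/-- a child state reads off the collected word -/
def childOK (P : List ℕ) (c : Word) (S' P' : List ℕ) : Bool :=
  decide (c.map Prod.fst = S') && P'.all fun r =>
    S'.contains r && match coef c r with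
      | [m] => monIn P m
      | _ => false

/-- the check of one node -/
def checkNode (D : ChevalleyDatum) (fuel : ℕ) (T : List (List ℕ)) (nodes : Array Node) (i : ℕ) : Bool :=
  match nodes[i]? with
  | none => false
  | some (S, P, st) =>
    rootsOK D S &&
    match st with
    | .contra q =>
      rootsOK D ((sqWord D fuel S).map Prod.fst) &&
      match coef (sqWord D fuel S) q with
      | [m] => monIn P m
      | _ => false
    | .zero q v j =>
      rootsOK D ((sqWord D fuel S).map Prod.fst) && decide (j < i) &&
      (match coef (sqWord D fuel S) q with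
      | [m] => monIn (v :: P) m
      | _ => false) &&
      match nodes[j]? with
      | some (S', P', _) => decide (S' = S.filter (· != v)) && decide (P' = P)
      | none => false
    | .split v j k =>
      decide (j < i) && decide (k < i) &&
      (match nodes[j]?, nodes[k]? with
      | some (S', P', _), some (S'', P'', _) =>
        decide (S' = S.filter (· != v)) && decide (P' = P) && decide (S'' = S) &&
          P''.all fun r => r == v || P.contains r
      | _, _ => false)
    | .kill s q e j =>
      decide (j < i ∧ D.nroots ∉ P) &&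
      let k := D.nroots
      let c := norm D fuel ((s, var k) :: (stWord S ++ [(s, var k)]))
      let c' := c.filter fun x => x.1 != q
      rootsOK D (c.map Prod.fst) &&
      (match (coef c q).filter (fun m => !monIn S m) with
      | [m] => monIn P (m.filter fun x => x.1 != k) &&
          decide (((m.filter fun x => x.1 == k).map Prod.snd).sum = 2 ^ e)
      | _ => false) &&
      match nodes[j]? with
      | some (S', P', _) => childOK P c' S' P'
      | none => false
    | .weyl l j =>
      decide (j < i) && l.all (fun x => decide (x < D.rank)) &&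
      let c := norm D fuel ((stWord S).map fun x => (wact (D := D) l x.1, x.2))
      match nodes[j]? with
      | some (S', P', _) => childOK P c S' P'
      | none => false
    | .leaf => T.contains S && decide (P = S)

/-- all nodes pass -/
def checkRange (D : ChevalleyDatum) (fuel : ℕ) (T : List (List ℕ)) (nodes : Array Node) (a n : ℕ) : Bool :=
  (List.range' a n).all (checkNode D fuel T nodes)

section Main

variable {D : ChevalleyDatum} (C : Cert D) {F : Type*} [Field F] [CharP F 2]

/-- the product of a support with parameters -/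
def stEval (S : List ℕ) (ν : ℕ → F) : GL D.Idx F := wg C (S.map fun r => (r, ν r))

/-- every involution of the state is conjugate to a target -/
def Good (T : List (List ℕ)) (S P : List ℕ) : Prop :=
  ∀ ν : ℕ → F, (∀ r ∈ P, ν r ≠ 0) → stEval C S ν * stEval C S ν = 1 →
    ∃ X ∈ T, ∃ μ : ℕ → F, (∀ r ∈ X, μ r ≠ 0) ∧ Cj D (stEval C S ν) (stEval C X μ)

include C

theorem stEval_eq (S : List ℕ) (ν : ℕ → F) : stEval C S ν = wEval C ν (stWord S) := by
  simp [stEval, wEval, stWord, var, pEval, mEval, Function.comp_def]

theorem erase_zero (S : List ℕ) (ν : ℕ → F) {v : ℕ} (hv : ν v = 0) :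
    stEval C (S.filter (· != v)) ν = stEval C S ν := by
  induction S with
  | nil => rfl
  | cons r S ih =>
    by_cases h : r = v
    · subst h
      rw [List.filter_cons_of_neg (by simp), ih]
      simp [stEval, wg, hv]
    · rw [List.filter_cons_of_pos (by simp [h])]
      simp only [stEval, List.map_cons, wg_cons' C] at ih ⊢
      rw [ih]
where
  wg_cons' (C : Cert D) (a : ℕ × F) (l : List (ℕ × F)) : wg C (a :: l) = xg C a.1 a.2 * wg C l := by simp [wg]

omit C in
theorem coef_of_mem {c : Word} (h : (c.map Prod.fst).Pairwise (· < ·)) {x : ℕ × Poly} (hx : x ∈ c) :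
    coef c x.1 = x.2 := by
  induction c with
  | nil => simp at hx
  | cons y c ih =>
    rw [List.map_cons, List.pairwise_cons] at h
    rcases List.mem_cons.1 hx with rfl | hx
    · simp [coef]
    · have hlt := h.1 x.1 (List.mem_map_of_mem hx)
      rw [coef, List.find?_cons_of_neg (by simp; omega)]
      exact ih h.2 hx

omit C in
theorem coef_notMem {c : Word} {q : ℕ} (h : q ∉ c.map Prod.fst) : coef c q = [] := by
  rw [coef, List.find?_eq_none.2 (fun x hx => by
    simp only [beq_iff_eq]
    exact fun e => h (e ▸ List.mem_map_of_mem hx))]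
  rfl

omit C in
theorem rootsOK_iff {l : List ℕ} (h : rootsOK D l = true) :
    (∀ r ∈ l, D.nroots / 2 ≤ r ∧ r < D.nroots) ∧ l.Pairwise (· < ·) := by
  simp only [rootsOK, Bool.and_eq_true, List.all_eq_true, decide_eq_true_eq] at h
  exact h

/-- a trivial collected word has trivial coefficients -/
theorem coeff_zero {c : Word} (h : rootsOK D (c.map Prod.fst) = true) (ν : ℕ → F) (h1 : wEval C ν c = 1) (q : ℕ) :
    pEval ν (coef c q) = 0 := by
  obtain ⟨hr, hp⟩ := rootsOK_iff h
  suffices ∀ x ∈ c, pEval ν x.2 = 0 by
    by_cases hq : q ∈ c.map Prod.fst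
    · obtain ⟨x, hx, rfl⟩ := List.mem_map.1 hq
      rw [coef_of_mem hp hx]
      exact this x hx
    · rw [coef_notMem hq]; rfl
  clear h q
  induction c with
  | nil => intro x hx; simp at hx
  | cons y c ih =>
    rw [List.map_cons, List.pairwise_cons] at hp
    obtain ⟨hy, hy'⟩ := hr y.1 (by simp)
    rw [wEval_cons] at h1
    have htail : wEval C ν c ∈ uGe C (F := F) (y.1 + 1) := by
      refine list_prod_mem fun g hg => ?_
      obtain ⟨p, hp', rfl⟩ := List.mem_map.1 hg
      obtain ⟨x, hx, rfl⟩ := List.mem_map.1 hp'
      have := hp.1 x.1 (List.mem_map_of_mem hx)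
      obtain ⟨h2, h3⟩ := hr x.1 (by simp only [List.map_cons, List.mem_cons]; exact Or.inr (List.mem_map_of_mem hx))
      exact xg_mem_uGe C (show y.1 + 1 ≤ x.1 by omega) h2 h3 _
    obtain ⟨e1, e2⟩ := coeff_unique C hy hy' htail (one_mem _) (t' := 0)
      (by rw [h1, xg_zero, one_mul])
    intro x hx
    rcases List.mem_cons.1 hx with rfl | hx
    · exact e1
    · exact ih e2 (fun r hr' => hr r (List.mem_cons_of_mem _ hr')) hp.2 x hx

/-- passing to a child state -/
theorem child {T : List (List ℕ)} {P : List ℕ} {c : Word} {S' P' : List ℕ} (hc : childOK P c S' P' = true)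
    (hp : (c.map Prod.fst).Pairwise (· < ·)) (ν : ℕ → F) (hν : ∀ r ∈ P, ν r ≠ 0)
    (hgood : Good C (F := F) T S' P') (h2 : wEval C ν c * wEval C ν c = 1) :
    ∃ X ∈ T, ∃ μ : ℕ → F, (∀ r ∈ X, μ r ≠ 0) ∧ Cj D (wEval C ν c) (stEval C X μ) := by
  simp only [childOK, Bool.and_eq_true, decide_eq_true_eq, List.all_eq_true] at hc
  obtain ⟨rfl, hP⟩ := hc
  set ν' : ℕ → F := fun r => pEval ν (coef c r)
  have e : stEval C (c.map Prod.fst) ν' = wEval C ν c := by
    simp only [stEval, wEval, List.map_map]
    exact congrArg (wg C) (List.map_congr_left fun x hx => by simp [ν', coef_of_mem hp hx])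
  rw [← e] at h2 ⊢
  refine hgood ν' (fun r hr => ?_) h2
  obtain ⟨-, h3⟩ := hP r hr
  split at h3
  · rename_i m hm
    simp only [ν', hm, pEval, List.map_cons, List.map_nil, List.sum_cons, List.sum_nil, add_zero, mEval]
    refine List.prod_ne_zero fun h0 => ?_
    obtain ⟨x, hx, h5⟩ := List.mem_map.1 h0
    simp only [monIn, List.all_eq_true, List.contains_eq_mem, decide_eq_true_eq] at h3
    exact hν x.1 (h3 x hx) (pow_eq_zero_iff'.1 h5).1
  · exact Bool.noConfusion h3

omit C in
theorem mon_ne_zero {P : List ℕ} {m : Mon} (h : monIn P m = true) (ν : ℕ → F) (hν : ∀ r ∈ P, ν r ≠ 0) :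
    mEval ν m ≠ 0 := by
  simp only [monIn, List.all_eq_true, List.contains_eq_mem, decide_eq_true_eq] at h
  refine List.prod_ne_zero fun h0 => ?_
  obtain ⟨x, hx, h5⟩ := List.mem_map.1 h0
  exact hν x.1 (h x hx) (pow_eq_zero_iff'.1 h5).1

omit C in
theorem mEval_split (ν : ℕ → F) (m : Mon) (k : ℕ) :
    mEval ν m = mEval ν (m.filter fun x => x.1 != k) * ν k ^ ((m.filter fun x => x.1 == k).map Prod.snd).sum := by
  induction m with
  | nil => simp [mEval]
  | cons x m ih =>
    by_cases h : x.1 = k
    · rw [List.filter_cons_of_neg (by simp [h]), List.filter_cons_of_pos (by simp [h]), List.map_cons,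
        List.sum_cons, pow_add]
      simp only [mEval, List.map_cons, List.prod_cons] at ih ⊢
      rw [ih, h]; ring
    · rw [List.filter_cons_of_pos (by simp [h]), List.filter_cons_of_neg (by simp [h])]
      simp only [mEval, List.map_cons, List.prod_cons] at ih ⊢
      rw [ih]; ring

theorem node_good [Finite F] (T : List (List ℕ)) (fuel : ℕ) (nodes : Array Node)
    (hall : ∀ i, i < nodes.size → checkNode D fuel T nodes i = true) :
    ∀ (i : ℕ) (S P : List ℕ) (st : Step), nodes[i]? = some (S, P, st) → Good C (F := F) T S P := by
  intro i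
  induction i using Nat.strong_induction_on with
  | _ i ih =>
  intro S P st hi ν hν h2
  have hlt : i < nodes.size := (Array.getElem?_eq_some_iff.1 hi).1
  have hchk := hall i hlt
  rw [checkNode, hi] at hchk
  simp only [Bool.and_eq_true] at hchk
  obtain ⟨hS, hchk⟩ := hchk
  obtain ⟨hSr, hSp⟩ := rootsOK_iff hS
  have hsq : wEval C ν (sqWord D fuel S) = 1 := by
    rw [sqWord, wEval_norm, wEval_append, ← stEval_eq, h2]
  cases st with
  | contra q =>
    simp only [Bool.and_eq_true] at hchk
    obtain ⟨hr, hq⟩ := hchk
    have h0 := coeff_zero C hr ν hsq q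
    split at hq
    · rename_i m hm
      rw [hm] at h0
      simp only [pEval, List.map_cons, List.map_nil, List.sum_cons, List.sum_nil, add_zero] at h0
      exact absurd h0 (mon_ne_zero hq ν hν)
    · exact Bool.noConfusion hq
  | zero q v j =>
    simp only [Bool.and_eq_true, decide_eq_true_eq] at hchk
    obtain ⟨⟨⟨hr, hj⟩, hq⟩, hchild⟩ := hchk
    have h0 := coeff_zero C hr ν hsq q
    have hv : ν v = 0 := by
      by_contra hv
      split at hq
      · rename_i m hm
        rw [hm] at h0
        simp only [pEval, List.map_cons, List.map_nil, List.sum_cons, List.sum_nil, add_zero] at h0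
        exact mon_ne_zero hq ν (fun r hr => by
          rcases List.mem_cons.1 hr with rfl | hr
          · exact hv
          · exact hν r hr) h0
      · exact Bool.noConfusion hq
    split at hchild
    · rename_i S' P' st' hj'
      simp only [Bool.and_eq_true, decide_eq_true_eq] at hchild
      obtain ⟨rfl, rfl⟩ := hchild
      rw [← erase_zero C S ν hv] at h2 ⊢
      exact ih j hj _ _ st' hj' ν hν h2
    · exact Bool.noConfusion hchild
  | split v j k =>
    simp only [Bool.and_eq_true, decide_eq_true_eq] at hchk
    obtain ⟨⟨hj, hk⟩, hchild⟩ := hchk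
    split at hchild
    · rename_i S' P' st' S'' P'' st'' hj' hk'
      simp only [Bool.and_eq_true, decide_eq_true_eq, List.all_eq_true, Bool.or_eq_true, beq_iff_eq,
        List.contains_eq_mem] at hchild
      obtain ⟨⟨⟨rfl, rfl⟩, rfl⟩, hP''⟩ := hchild
      by_cases hv : ν v = 0
      · rw [← erase_zero C _ ν hv] at h2 ⊢
        exact ih j hj _ _ st' hj' ν hν h2
      · refine ih k hk _ _ st'' hk' ν (fun r hr => ?_) h2
        rcases hP'' r hr with rfl | h
        · exact hv
        · exact hν r (by simpa using h)
    · exact Bool.noConfusion hchild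
  | kill s q e j =>
    simp only [Bool.and_eq_true, decide_eq_true_eq] at hchk
    obtain ⟨hj, ⟨hr, hm⟩, hchild⟩ := hchk
    set c := norm D fuel ((s, var D.nroots) :: (stWord S ++ [(s, var D.nroots)])) with hc
    obtain ⟨hcr, hcp⟩ := rootsOK_iff hr
    have hkS : D.nroots ∉ S := fun h => (lt_irrefl _) (hSr _ h).2
    have hkP : ∀ m : Mon, monIn S m = true → ∀ x ∈ m, x.1 ≠ D.nroots := fun m h x hx e => hkS (by
      simp only [monIn, List.all_eq_true, List.contains_eq_mem, decide_eq_true_eq] at h
      exact e ▸ h x hx)
    split at hm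
    swap
    · exact Bool.noConfusion hm
    rename_i m0 hm0
    simp only [Bool.and_eq_true, decide_eq_true_eq] at hm
    obtain ⟨hmP, hme⟩ := hm
    set B := mEval ν (m0.filter fun x => x.1 != D.nroots) with hB
    set R := pEval ν ((coef c q).filter fun m => monIn S m) with hR
    have hB0 : B ≠ 0 := mon_ne_zero hmP ν hν
    haveI : PerfectRing F 2 := PerfectRing.ofFiniteOfIsReduced 2 F
    obtain ⟨kk, hkk⟩ := (bijective_iterateFrobenius (R := F) (p := 2) e).2 (R / B)
    rw [iterateFrobenius_def] at hkk
    set μ : ℕ → F := Function.update ν D.nroots kk with hμ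
    have hμν : ∀ r, r ≠ D.nroots → μ r = ν r := fun r hr => Function.update_of_ne hr _ _
    have hμk : μ D.nroots = kk := Function.update_self ..
    have hSμ : wEval C μ (stWord S) = stEval C S ν := by
      rw [← stEval_eq]
      exact congrArg (wg C) (List.map_congr_left fun r hr => by rw [hμν r (fun e => hkS (e ▸ hr))])
    have hceval : wEval C μ c = xg C s kk * stEval C S ν * (xg C s kk)⁻¹ := by
      rw [hc, wEval_norm, wEval_cons, wEval_append, hSμ, xg_inv, CharTwo.neg_eq]
      simp [var, pEval, mEval, wEval, wg, hμk, mul_assoc]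
    have hq0 : pEval μ (coef c q) = 0 := by
      have hsplit : ∀ p : Poly, pEval μ p =
          pEval μ (p.filter fun m => monIn S m) + pEval μ (p.filter fun m => !monIn S m) := by
        intro p
        induction p with
        | nil => simp [pEval]
        | cons m p ihp =>
          by_cases h : monIn S m = true
          · rw [List.filter_cons_of_pos h, List.filter_cons_of_neg (by simp [h])]
            simp only [pEval, List.map_cons, List.sum_cons] at ihp ⊢
            rw [ihp]; ring
          · rw [List.filter_cons_of_neg h, List.filter_cons_of_pos (by simp [h])]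
            simp only [pEval, List.map_cons, List.sum_cons] at ihp ⊢
            rw [ihp]; ring
      have hRμ : pEval μ ((coef c q).filter fun m => monIn S m) = R :=
        pEval_congr μ fun m hm x hx => hμν _ (hkP m (List.mem_filter.1 hm).2 x hx)
      have hBμ : mEval μ (m0.filter fun x => x.1 != D.nroots) = B :=
        mEval_congr μ fun x hx => hμν _ (by simpa using (List.mem_filter.1 hx).2)
      rw [hsplit, hm0, hRμ]
      simp only [pEval, List.map_cons, List.map_nil, List.sum_cons, List.sum_nil, add_zero]
      rw [mEval_split μ m0 D.nroots, hBμ, hme, hμk, hkk, mul_div_cancel₀ _ hB0, CharTwo.add_self_eq_zero]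
    set c' := c.filter fun x => x.1 != q with hc'
    have hc'p : (c'.map Prod.fst).Pairwise (· < ·) := hcp.sublist ((List.filter_sublist).map Prod.fst)
    have hdrop : wEval C μ c' = wEval C μ c := by
      have : ∀ l : Word, (∀ x ∈ l, x.1 = q → pEval μ x.2 = 0) →
          wEval C μ (l.filter fun x => x.1 != q) = wEval C μ l := by
        intro l
        induction l with
        | nil => intro _; rfl
        | cons x l ihl =>
          intro hx
          have ihl' := ihl fun y hy => hx y (List.mem_cons_of_mem _ hy)
          by_cases h : x.1 = q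
          · rw [List.filter_cons_of_neg (by simp [h]), ihl', wEval_cons, hx x (List.mem_cons_self ..) h, xg_zero,
              one_mul]
          · rw [List.filter_cons_of_pos (by simp [h]), wEval_cons, wEval_cons, ihl']
      refine this c fun x hx h => ?_
      rw [← coef_of_mem hcp hx, h]
      exact hq0
    have hsq2 : wEval C μ c' * wEval C μ c' = 1 := by
      rw [hdrop, hceval]
      calc _ = xg C s kk * (stEval C S ν * stEval C S ν) * (xg C s kk)⁻¹ := by group
        _ = 1 := by rw [h2, mul_one, mul_inv_cancel]
    split at hchild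
    · rename_i S' P' st' hj'
      obtain ⟨X, hX, η, hη, hcj⟩ := child C hchild hc'p μ (fun r hr => by
        by_cases h : r = D.nroots
        · subst h
          exact absurd hr hj.2
        · rw [hμν r h]; exact hν r hr) (ih j hj.1 _ _ st' hj') hsq2
      refine ⟨X, hX, η, hη, Cj.trans (cj_xg C s kk rfl) ?_⟩
      rwa [← hceval, ← hdrop]
    · exact Bool.noConfusion hchild
  | weyl l j =>
    simp only [Bool.and_eq_true, decide_eq_true_eq, List.all_eq_true] at hchk
    obtain ⟨⟨hj, hl⟩, hchild⟩ := hchk
    set c := norm D fuel ((stWord S).map fun x => (wact (D := D) l x.1, x.2)) with hc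
    have hceval : wEval C ν c = nword C l * stEval C S ν * (nword C l)⁻¹ := by
      rw [hc, wEval_norm, stEval_eq]
      clear hc hchild hsq hS h2 hi hSp
      induction S with
      | nil => simp [stWord, wEval, wg]
      | cons r S ihS =>
        simp only [stWord, List.map_cons] at ihS ⊢
        rw [wEval_cons, wEval_cons, ihS fun x hx => hSr x (List.mem_cons_of_mem _ hx),
          ← word_conj_two C hl (hSr r (List.mem_cons_self ..)).2]
        group
    have hsq2 : wEval C ν c * wEval C ν c = 1 := by
      rw [hceval]
      calc _ = nword C l * (stEval C S ν * stEval C S ν) * (nword C l)⁻¹ := by group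
        _ = 1 := by rw [h2, mul_one, mul_inv_cancel]
    split at hchild
    · rename_i S' P' st' hj'
      have hS' : rootsOK D S' = true := by
        have h7 := hall j (Array.getElem?_eq_some_iff.1 hj').1
        rw [checkNode, hj'] at h7
        simp only [Bool.and_eq_true] at h7
        exact h7.1
      have hc1 : c.map Prod.fst = S' := by
        have h8 := hchild
        simp only [childOK, Bool.and_eq_true, decide_eq_true_eq] at h8
        exact h8.1
      obtain ⟨X, hX, η, hη, hcj⟩ := child C hchild (hc1 ▸ (rootsOK_iff hS').2) ν hν (ih j hj _ _ st' hj') hsq2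
      refine ⟨X, hX, η, hη, Cj.trans (cj_word C (l := l) rfl) ?_⟩
      rwa [← hceval]
    · exact Bool.noConfusion hchild
  | leaf =>
    simp only [Bool.and_eq_true, decide_eq_true_eq, List.contains_eq_mem] at hchk
    obtain ⟨hT, rfl⟩ := hchk
    exact ⟨_, hT, ν, hν, Cj.refl _⟩

end Main

end Cfsg.Agent.ChevPeelEngine
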