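import Cfsg.Agent.Lib.ChevalleyAll
import Cfsg.Prelude.Def_ChevAutomorphisms

/-!
The permutation of the roots induced by a symmetry of a simply laced diagram commutes with reflections.
-/

set_option autoImplicit false

namespace Cfsg.Agent.ChevPermRoot

open Cfsg.Lie Cfsg.Agent.ChevalleyEngine Cfsg.Agent.ChevalleyCert Cfsg.Agent.ChevalleyRoots

variable {D : ChevalleyDatum} (C : Cert D)

/-- one root length: symmetric Cartan matrix, off-diagonal entries read from the bonds -/
def Laced (D : ChevalleyDatum) : Prop :=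
  ∀ i j : Fin D.rank, D.cartan i (D.simple j) = D.cartan j (D.simple i) ∧
    (i ≠ j → D.cartan i (D.simple j) = -D.bonds i j)

include C

theorem cc_eq_coef (hL : Laced D) : ∀ r, r < D.nroots → ∀ j, j < D.rank → cc D r j = C.coef r j := by
  refine root_induction C (P := fun r => ∀ j, j < D.rank → cc D r j = C.coef r j) ?_ ?_
  · intro i hi j hj
    rw [C.cc_simple i j hi hj, C.coef_simple i j hi hj]
  · intro i r hi hr ih j hj
    have e : D.pairing r (D.simple i) = D.cartan i r := by
      rw [pairing_eq C, cartan_lin' C hi hr]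
      exact Finset.sum_congr rfl fun k hk => by
        rw [ih k (Finset.mem_range.1 hk), (hL ⟨k, Finset.mem_range.1 hk⟩ ⟨i, hi⟩).1]
    rw [C.cc_w i r j hi hr hj, C.coef_w i r j hi hr hj, ih j hj, e]

variable (π : Equiv.Perm (Fin D.rank)) (hπ : D.IsDiagramSymmetry π) (hL : Laced D)

theorem permRoot_eq {r s : ℕ} (hL : Laced D) (hr : r < D.nroots) (hs : s < D.nroots)
    (h : ∀ j : Fin D.rank, C.coef s (π j).val = C.coef r j.val) : D.permRoot π r = s := by
  unfold ChevalleyDatum.permRoot
  cases hf : (List.range D.nroots).find? (fun s => (List.finRange D.rank).all fun i =>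
      (D.coroot.getD s #[]).getD (π i).val 0 == (D.coroot.getD r #[]).getD i.val 0) with
  | none =>
    have h1 := List.find?_eq_none.1 hf s (List.mem_range.2 hs)
    simp only [List.all_eq_true, List.mem_finRange, forall_const, beq_iff_eq] at h1
    refine absurd (fun j => ?_) h1
    show cc D s (π j).val = cc D r j.val
    rw [cc_eq_coef C hL s hs _ (π j).isLt, cc_eq_coef C hL r hr _ j.isLt, h j]
  | some u =>
    have hu := List.mem_range.1 (List.mem_of_find?_eq_some hf)
    have h1 := List.find?_some hf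
    simp only [List.all_eq_true, List.mem_finRange, forall_const, beq_iff_eq] at h1
    show u = s
    refine coef_inj C hu hs fun k hk => ?_
    have h2 : cc D u (π (π.symm ⟨k, hk⟩)).val = cc D r (π.symm ⟨k, hk⟩).val := h1 (π.symm ⟨k, hk⟩)
    rw [cc_eq_coef C hL u hu _ (π _).isLt, cc_eq_coef C hL r hr _ (π.symm ⟨k, hk⟩).isLt, ← h] at h2
    simpa using h2

include hπ hL

theorem cartan_perm (i j : Fin D.rank) :
    D.cartan (π i).val (D.simple (π j).val) = D.cartan i.val (D.simple j.val) := by
  by_cases h : i = j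
  · subst h
    rw [cartan_self C (π i).isLt, cartan_self C i.isLt]
  · rw [(hL _ _).2 (π.injective.ne h), (hL _ _).2 h, hπ i j h]

theorem perm_step {r s : ℕ} (i : Fin D.rank) (hr : r < D.nroots) (hs : s < D.nroots)
    (h : ∀ j : Fin D.rank, C.coef s (π j).val = C.coef r j.val) :
    ∀ j : Fin D.rank, C.coef (wr D (π i).val s) (π j).val = C.coef (wr D i.val r) j.val := by
  intro j
  have e : D.cartan (π i).val s = D.cartan i.val r := by
    rw [cartan_lin' C (π i).isLt hs, cartan_lin' C i.isLt hr, Finset.sum_range, Finset.sum_range,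
      ← Equiv.sum_comp π]
    exact Finset.sum_congr rfl fun k _ => by rw [h k, cartan_perm C π hπ hL]
  rw [C.coef_w _ s _ (π i).isLt hs (π j).isLt, C.coef_w _ r _ i.isLt hr j.isLt, h j, e]
  by_cases hij : j = i
  · subst hij; simp
  · rw [if_neg (fun hh => hij (π.injective (Fin.ext hh))), if_neg (fun hh => hij (Fin.ext hh))]

theorem perm_simple (i : Fin D.rank) : D.permRoot π (D.simple i.val) = D.simple (π i).val := by
  refine permRoot_eq C π hL (simple_lt C i.isLt) (simple_lt C (π i).isLt) fun j => ?_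
  rw [C.coef_simple _ _ (π i).isLt (π j).isLt, C.coef_simple _ _ i.isLt j.isLt]
  simp [Fin.val_inj]

theorem perm_spec : ∀ r, r < D.nroots →
    D.permRoot π r < D.nroots ∧ ∀ j : Fin D.rank, C.coef (D.permRoot π r) (π j).val = C.coef r j.val := by
  refine root_induction C ?_ ?_
  · intro i hi
    rw [perm_simple C π hπ hL ⟨i, hi⟩]
    refine ⟨simple_lt C (π ⟨i, hi⟩).isLt, fun j => ?_⟩
    rw [C.coef_simple _ _ (π ⟨i, hi⟩).isLt (π j).isLt, C.coef_simple _ _ hi j.isLt]
    simp [Fin.val_inj, Fin.ext_iff]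
  · intro i r hi hr ⟨h1, h2⟩
    have h3 := perm_step C π hπ hL ⟨i, hi⟩ hr h1 h2
    have h4 := C.w_lt _ _ (π ⟨i, hi⟩).isLt h1
    rw [permRoot_eq C π hL (C.w_lt i r hi hr) h4 h3]
    exact ⟨h4, h3⟩

theorem perm_w (i : Fin D.rank) {r : ℕ} (hr : r < D.nroots) :
    D.permRoot π (wr D i.val r) = wr D (π i).val (D.permRoot π r) := by
  obtain ⟨h1, h2⟩ := perm_spec C π hπ hL r hr
  exact permRoot_eq C π hL (C.w_lt _ r i.isLt hr) (C.w_lt _ _ (π i).isLt h1)
    (perm_step C π hπ hL i hr h1 h2)

end Cfsg.Agent.ChevPermRoot
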