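import Cfsg.Agent.Lib.ChevBorelCriterion
import Cfsg.Agent.Lib.ChevalleyParabolic
import Cfsg.Agent.Lib.ComponentsFitting

/-!
The centralizer of the unipotent radical of a proper parabolic subgroup lies in `U`.
-/

set_option autoImplicit false
set_option linter.unusedSectionVars false

namespace Cfsg.Agent.ChevRadicalCentralizer

open Cfsg.Lie Cfsg.Agent.ChevalleyEngine Cfsg.Agent.ChevalleyCert Cfsg.Agent.ChevalleyRoots
open Cfsg.Agent.ChevalleyCore Cfsg.Agent.ChevalleyTorus Cfsg.Agent.ChevWeyl Cfsg.Agent.ChevBruhat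
open Cfsg.Agent.ChevRootCentralizer Cfsg.Agent.ChevalleyUnipotent

/-- each fundamental root is the difference of two roots with positive coefficient at any other node -/
def diffCheck (D : ChevalleyDatum) : Bool :=
  (List.range D.rank).all fun j => (List.range D.rank).all fun k => j == k ||
    (List.range D.nroots).any fun r =>
      decide (D.nroots / 2 ≤ r) && decide (cc D r k ≠ 0) && (hdN D r (D.simple j)).isSome

/-- a group whose normal p-subgroup has a p-group as centralizer has a p-group as `F*` -/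
theorem genFitting_pGroup {G : Type*} [Group G] [Finite G] (p : ℕ) [Fact p.Prime] (Q : Subgroup G) [Q.Normal]
    (hQ : IsPGroup p ↥Q) (hC : IsPGroup p ↥(Subgroup.centralizer (Q : Set G))) :
    IsPGroup p ↥(Cfsg.generalizedFittingSubgroup G) := by
  haveI : Group.IsNilpotent ↥Q := hQ.isNilpotent
  haveI : Group.IsSolvable ↥Q := inferInstance
  have hsn : Q.IsSubnormal := Subgroup.Normal.isSubnormal inferInstance
  have hlay : Cfsg.layer G ≤ Subgroup.centralizer (Q : Set G) :=
    Subgroup.commutator_eq_bot_iff_le_centralizer.mp (ComponentsBasic.layer_commute_solvable hsn)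
  have hfit : Cfsg.fittingSubgroup G ≤ Cfsg.pCore p G ⊔ Subgroup.centralizer (Q : Set G) := by
    rw [ComponentsFitting.fittingSubgroup_eq_iSup]
    refine iSup_le fun q => ?_
    by_cases h : (q : ℕ) = p
    · rw [h]; exact le_sup_left
    · refine le_trans (fun x hx => ?_) le_sup_right
      refine Subgroup.mem_centralizer_iff.2 fun y hy => ?_
      exact (ComponentsFitting.commute_pCore (Nat.prime_of_mem_primeFactors q.2) Fact.out h x y hx
        (ComponentsCores.le_pCore' hQ hy)).eq.symm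
  haveI : (Subgroup.centralizer (Q : Set G)).Normal := inferInstance
  exact (IsPGroup.to_sup_of_normal_right (ComponentsCores.isPGroup_pCore p) hC).to_le
    (sup_le (hlay.trans le_sup_right) hfit)

variable {D : ChevalleyDatum} (C : Cert D) {F : Type*} [Field F] (S : Sys D F)

include C

theorem coef_img (w : S.X.W) : ∀ {r : ℕ}, r < D.nroots → ∀ j, j < D.rank →
    C.coef (S.X.img w r) j =
      ∑ k ∈ Finset.range D.rank, C.coef r k * C.coef (S.X.img w (D.simple k)) j := by
  induction w using S.X.w_induction with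
  | one =>
    intro r _ j hj
    rw [Finset.sum_eq_single j]
    · simp [C.coef_simple j j hj hj]
    · intro k hk hkj
      simp [C.coef_simple k j (Finset.mem_range.mp hk) hj, Ne.symm hkj]
    · intro h; exact absurd (Finset.mem_range.mpr hj) h
  | step i w ih =>
    intro r hr j hj
    have hwr := S.X.img_lt w hr
    have hstep : ∀ k ∈ Finset.range D.rank, C.coef (S.X.img (S.X.C.simple i * w) (D.simple k)) j =
        C.coef (S.X.img w (D.simple k)) j -
          if j = i.val then D.cartan i (S.X.img w (D.simple k)) else 0 := by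
      intro k hk
      have hk' := S.X.img_lt w (S.X.simple_lt (Finset.mem_range.mp hk))
      rw [S.X.img_mul, S.X.img_simple i hk', C.coef_w i _ j i.isLt hk' hj]
    rw [S.X.img_mul, S.X.img_simple i hwr, C.coef_w i _ j i.isLt hwr hj,
      Finset.sum_congr rfl (fun k hk => by rw [hstep k hk]), ih hr j hj]
    simp only [mul_sub, Finset.sum_sub_distrib]
    congr 1
    split
    · rw [cartan_lin' C i.isLt hwr]
      calc ∑ l ∈ Finset.range D.rank, C.coef (S.X.img w r) l * D.cartan i (D.simple l)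
          = ∑ l ∈ Finset.range D.rank, ∑ k ∈ Finset.range D.rank,
              C.coef r k * (C.coef (S.X.img w (D.simple k)) l * D.cartan i (D.simple l)) :=
            Finset.sum_congr rfl fun l hl => by
              rw [ih hr l (Finset.mem_range.mp hl), Finset.sum_mul]
              exact Finset.sum_congr rfl fun k _ => by ring
        _ = ∑ k ∈ Finset.range D.rank, ∑ l ∈ Finset.range D.rank,
              C.coef r k * (C.coef (S.X.img w (D.simple k)) l * D.cartan i (D.simple l)) := Finset.sum_comm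
        _ = _ := Finset.sum_congr rfl fun k hk => by
              rw [cartan_lin' C i.isLt (S.X.img_lt w (S.X.simple_lt (Finset.mem_range.mp hk))), Finset.mul_sum]
    · simp

/-- a root with positive coefficient outside `J` is outside `Φ_J` -/
theorem notIn_of_coef {J : Set ℕ} {r k : ℕ} (hr : r < D.nroots) (hk : k < D.rank) (hkJ : k ∉ J)
    (h : C.coef r k ≠ 0) : ¬ D.InRootSub J r :=
  fun hin => h ((ChevalleyParabolic.inRootSub_iff C hr).1 hin k hk hkJ)

theorem exists_pair (hcheck : diffCheck D = true) {J : Set ℕ} (hJ : ∃ i, i < D.rank ∧ i ∉ J) {j : ℕ}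
    (hj : j < D.rank) (hjJ : j ∈ J) :
    ∃ r r' : ℕ, r < D.nroots ∧ r' < D.nroots ∧ D.IsPosRoot r ∧ D.IsPosRoot r' ∧
      ¬ D.InRootSub J r ∧ ¬ D.InRootSub J r' ∧
      ∀ l, l < D.rank → C.coef r' l = C.coef r l + C.coef (D.simple j) l := by
  obtain ⟨k, hk, hkJ⟩ := hJ
  simp only [diffCheck, List.all_eq_true, List.mem_range, Bool.or_eq_true, beq_iff_eq, List.any_eq_true,
    Bool.and_eq_true, decide_eq_true_eq] at hcheck
  rcases hcheck j hj k hk with h | ⟨r, hr, ⟨hp, hck⟩, hs⟩
  · exact absurd (h ▸ hjJ) hkJ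
  obtain ⟨q, hq⟩ := Option.isSome_iff_exists.1 hs
  have hadd := C.coef_add r (D.simple j) q hr (simple_lt C hj) hq
  have hq' : (D.chainEntry r (D.simple j))[0]? = some q := by rw [← hdN_eq C]; exact hq
  have hql := (entry_getElem C hr hq').2.2.2.2.1
  have hkey : key C q.1 = key C r + key C (D.simple j) := by
    have := key_lin C (r := r) (s := D.simple j) (k := q.1) 1 1 (fun l hl => by rw [hadd l hl]; ring)
    linarith
  have hqpos : D.nroots / 2 ≤ q.1 := by
    rw [← key_pos C hql, hkey]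
    have := (key_pos C hr).2 hp
    have := (key_pos C (simple_lt C hj)).2 (C.simple_mem j hj).1
    omega
  have hcr : C.coef r k ≠ 0 := fun h => hck ((C.cc_zero_iff r k hr hk).2 h)
  have hne : j ≠ k := fun h => hkJ (h ▸ hjJ)
  refine ⟨r, q.1, hr, hql, (isPos C).2 ⟨hp, hr⟩, (isPos C).2 ⟨hqpos, hql⟩,
    notIn_of_coef C hr hk hkJ hcr, notIn_of_coef C hql hk hkJ ?_, hadd⟩
  rwa [hadd k hk, C.coef_simple j k hj hk, if_neg (Ne.symm hne), add_zero]

theorem coef_simple_notIn {J : Set ℕ} {j : ℕ} (hj : j < D.rank) (hjJ : j ∉ J) :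
    D.IsPosRoot (D.simple j) ∧ ¬ D.InRootSub J (D.simple j) :=
  ⟨(isPos C).2 (C.simple_mem j hj), notIn_of_coef C (simple_lt C hj) hj hjJ
    (by rw [C.coef_simple j j hj hj]; simp)⟩

/-- a Weyl element fixing the roots outside `Φ_J` is trivial -/
theorem eq_one_of_fix (hcheck : diffCheck D = true) {J : Set ℕ} (hJ : ∃ i, i < D.rank ∧ i ∉ J) {w : S.X.W}
    (hw : ∀ r, D.IsPosRoot r → ¬ D.InRootSub J r → S.X.img w r = r) : w = 1 := by
  have hsimple : ∀ j, j < D.rank → S.X.img w (D.simple j) = D.simple j := by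
    intro j hj
    by_cases hjJ : j ∈ J
    · obtain ⟨r, r', hr, hr', hp, hp', hn, hn', hadd⟩ := exists_pair C hcheck hJ hj hjJ
      refine coef_inj C (S.X.img_lt w (simple_lt C hj)) (simple_lt C hj) fun l hl => ?_
      have e1 := coef_img C S w hr' l hl
      have e2 := coef_img C S w hr l hl
      rw [hw r' hp' hn'] at e1
      rw [hw r hp hn] at e2
      have e3 : C.coef r' l = C.coef r l + C.coef (S.X.img w (D.simple j)) l := by
        conv_lhs => rw [e1]
        conv_rhs => rw [e2]
        rw [Finset.sum_congr rfl fun k hk => by rw [hadd k (Finset.mem_range.1 hk), add_mul],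
          Finset.sum_add_distrib, add_right_inj, Finset.sum_eq_single j]
        · rw [C.coef_simple j j hj hj, if_pos rfl, one_mul]
        · intro k hk hkj
          rw [C.coef_simple j k hj (Finset.mem_range.1 hk), if_neg hkj, zero_mul]
        · intro h; exact absurd (Finset.mem_range.mpr hj) h
      rw [hadd l hl] at e3
      omega
    · exact hw _ (coef_simple_notIn C hj hjJ).1 (coef_simple_notIn C hj hjJ).2
  rw [← S.X.inv_eq_zero_iff, Weyl.inv, Finset.card_eq_zero, Finset.eq_empty_iff_forall_notMem]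
  intro r hr
  rw [S.X.mem_invSet] at hr
  refine S.X.not_pos_and_neg (S.X.pos_img_of_simples w hr.1 fun k hk _ => ?_) hr.2
  rw [hsimple k hk]
  exact S.X.simple_pos hk

/-- conjugating a positive root element by `U` keeps it as the leading term -/
theorem conj_leading {r : ℕ} (hr : D.nroots / 2 ≤ r) (hr' : r < D.nroots) {v : GL D.Idx F}
    (hv : v ∈ D.posUnipotent F) (t : F) :
    ∃ z ∈ uGe C (F := F) (r + 1), v * xg C r t * v⁻¹ = xg C r t * z := by
  have gen : ∀ s, D.nroots / 2 ≤ s → s < D.nroots → ∀ c : F,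
      (∀ z ∈ uGe C (F := F) (r + 1), xg C s c * z * (xg C s c)⁻¹ ∈ uGe C (F := F) (r + 1)) ∧
      ∃ z ∈ uGe C (F := F) (r + 1), xg C s c * xg C r t * (xg C s c)⁻¹ = xg C r t * z := by
    intro s hs hs' c
    have one : ∀ q, D.nroots / 2 ≤ q → q < D.nroots → ∀ d : F,
        ∃ z ∈ uGe C (F := F) (q + 1), xg C s c * xg C q d * (xg C s c)⁻¹ = xg C q d * z := by
      intro q hq hq' d
      by_cases he : q = s
      · subst he
        exact ⟨1, one_mem _, by rw [xg_mul, xg_inv, xg_mul, mul_one, add_neg_cancel_comm]⟩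
      obtain ⟨z, hz, e⟩ := comm_higher C hs hs' hq hq' he (-c) d
      refine ⟨z, uGe_mono C (by omega) hz, ?_⟩
      rw [xg_inv, mul_assoc, e, ← mul_assoc, ← mul_assoc, xg_mul, add_neg_cancel, xg_zero, one_mul]
    refine ⟨fun z hz => ?_, one r hr hr' t⟩
    refine Sys.conj_closure_le (T := {g : GL D.Idx F | ∃ (q : ℕ) (d : F), r + 1 ≤ q ∧ D.nroots / 2 ≤ q ∧
      q < D.nroots ∧ g = xg C q d}) _ ?_ hz
    rintro x ⟨q, d, h1, h2, h3, rfl⟩
    obtain ⟨z', hz', e⟩ := one q h2 h3 d
    rw [e]
    exact mul_mem (xg_mem_uGe C h1 h2 h3 d) (uGe_mono C (by omega) hz')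
  have key : (∀ z ∈ uGe C (F := F) (r + 1), v * z * v⁻¹ ∈ uGe C (F := F) (r + 1)) ∧
      ∃ z ∈ uGe C (F := F) (r + 1), v * xg C r t * v⁻¹ = xg C r t * z := by
    induction hv using Subgroup.closure_induction'' with
    | mem x hx =>
      obtain ⟨s, c, hs, hx⟩ := hx
      obtain ⟨h1, h2⟩ := (isPos C).1 hs
      exact (xg_eq_iff C).1 hx ▸ gen s h1 h2 c
    | inv_mem x hx =>
      obtain ⟨s, c, hs, hx⟩ := hx
      obtain ⟨h1, h2⟩ := (isPos C).1 hs
      rw [(xg_eq_iff C).1 hx, xg_inv]
      exact gen s h1 h2 (-c)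
    | one => exact ⟨fun z hz => by simpa using hz, 1, one_mem _, by simp⟩
    | mul a b _ _ ha hb =>
      refine ⟨fun z hz => ?_, ?_⟩
      · have := ha.1 _ (hb.1 z hz)
        simpa [mul_assoc] using this
      · obtain ⟨z1, hz1, e1⟩ := ha.2
        obtain ⟨z2, hz2, e2⟩ := hb.2
        refine ⟨z1 * (a * z2 * a⁻¹), mul_mem hz1 (ha.1 z2 hz2), ?_⟩
        calc a * b * xg C r t * (a * b)⁻¹ = a * (b * xg C r t * b⁻¹) * a⁻¹ := by group
          _ = (a * xg C r t * a⁻¹) * (a * z2 * a⁻¹) := by rw [e2]; group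
          _ = _ := by rw [e1, mul_assoc]
  exact key.2

include S in
/-- the centralizer of the radical inside the parabolic subgroup lies in `U` -/
theorem centralizer_le_U (hcheck : diffCheck D = true) {J : Set ℕ} (hJ : ∃ i, i < D.rank ∧ i ∉ J)
    {g : GL D.Idx F} (hg : g ∈ D.parabolicSubgroup F J)
    (hc : ∀ x ∈ D.unipotentRadical F J, Commute g x) : g ∈ D.posUnipotent F := by
  have hPG : D.parabolicSubgroup F J ≤ D.group F := by
    refine sup_le S.B_le_group ((Subgroup.closure_le _).2 ?_)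
    rintro y ⟨j, -, hj, hy⟩
    have : y = S.nn (D.simple j) 1 := Units.ext (hy.trans (S.coe_nn _ _).symm)
    exact this ▸ S.nn_mem_group (S.X.simple_lt hj) 1
  obtain ⟨u, hu, m, u', hu', rfl⟩ := decomp C S (hPG hg)
  have hUP : D.posUnipotent F ≤ D.parabolicSubgroup F J := le_trans Sys.U_le_B le_sup_left
  have hxr : ∀ r, D.IsPosRoot r → ¬ D.InRootSub J r → ∀ t : F, xg C r t ∈ D.unipotentRadical F J :=
    fun r hp hn t => Subgroup.subset_closure ⟨r, t, hp, hn, coe_xg C r t⟩
  -- move `u` to the right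
  have hc' : ∀ x ∈ D.unipotentRadical F J, Commute ((m : GL D.Idx F) * (u' * u)) x := by
    intro x hx
    have hn := Subgroup.mem_normalizer_iff.1 (ChevalleyParabolic.parabolic_le_normalizer C J (hUP hu)) x
    have h1 := hc _ (hn.1 hx)
    have h2 := h1.map (MulAut.conj u⁻¹)
    simpa [mul_assoc] using h2
  set v := u' * u
  have hv : v ∈ D.posUnipotent F := mul_mem hu' hu
  have hfix : ∀ r, D.IsPosRoot r → ¬ D.InRootSub J r →
      S.X.img (S.toW m) r = r ∧ ∃ c : F, c ≠ 0 ∧ v * xg C r 1 * v⁻¹ = xg C r c := by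
    intro r hp hn
    obtain ⟨hr1, hr2⟩ := (isPos C).1 hp
    obtain ⟨c, hc0, h1, -⟩ := (S.acts_toW m).inv S r hr2
    simp only [sysXg C S] at h1
    set s := S.X.img (S.toW m)⁻¹ r
    have hs : s < D.nroots := S.X.img_lt _ hr2
    obtain ⟨z, hz, e⟩ := conj_leading C hr1 hr2 hv (1 : F)
    have e2 : v * xg C r 1 * v⁻¹ = xg C s c := by
      rw [← mul_one c, ← h1 1, inv_inv]
      calc v * xg C r 1 * v⁻¹
          = (m : GL D.Idx F)⁻¹ * ((m : GL D.Idx F) * v * xg C r 1) * v⁻¹ := by group
        _ = (m : GL D.Idx F)⁻¹ * (xg C r 1 * ((m : GL D.Idx F) * v)) * v⁻¹ := by rw [(hc' _ (hxr r hp hn 1)).eq]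
        _ = _ := by group
    have hsU : xg C s c ∈ D.posUnipotent F :=
      e2 ▸ mul_mem (mul_mem hv (ChevalleyUnipotent.xg_mem_U C hr1 hr2 1)) (inv_mem hv)
    have hsp : D.nroots / 2 ≤ s := by
      by_contra hcon
      have h3 := Subgroup.mem_inf.mpr ⟨Sys.U_le_B hsU, ChevalleyUnipotent.xg_mem_V C (show s < _ by omega) c⟩
      rw [S.B_inf_V, Subgroup.mem_bot] at h3
      exact hc0 (ChevBruhatInstance.xg_injective C hs hs hc0 (h3.trans (xg_zero C s).symm)).2
    rw [e] at e2
    have hsr : s = r := by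
      rcases Nat.lt_trichotomy s r with h | h | h
      · have := coeff_unique C hsp hs (t := 0) (t' := c) (v := xg C r 1 * z) (v' := 1)
          (mul_mem (xg_mem_uGe C (by omega) hr1 hr2 1) (uGe_mono C (by omega) hz)) (one_mem _)
          (by rw [xg_zero, one_mul, mul_one]; exact e2)
        exact absurd this.1.symm hc0
      · exact h
      · have := coeff_unique C hr1 hr2 (t := 1) (t' := 0) (v := z) (v' := xg C s c) hz
          (xg_mem_uGe C (by omega) hsp hs c) (by rw [xg_zero, one_mul]; exact e2)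
        exact absurd this.1 one_ne_zero
    refine ⟨?_, c, hc0, ?_⟩
    · conv_lhs => rw [← hsr, S.X.img_img_inv]
    · rw [e, e2, hsr]
  have hH : (m : GL D.Idx F) ∈ D.diagonalSubgroup F :=
    S.toW_ker.le (eq_one_of_fix C S hcheck hJ fun r hp hn => (hfix r hp hn).1)
  obtain ⟨c, hcT⟩ := (ChevalleyTorus.mem_H_iff C).1 hH
  have hch : ∀ r, D.IsPosRoot r → ¬ D.InRootSub J r → tchar D c r = 1 := by
    intro r hp hn
    obtain ⟨hr1, hr2⟩ := (isPos C).1 hp
    obtain ⟨z, hz, e⟩ := conj_leading C hr1 hr2 hv (1 : F)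
    obtain ⟨-, d, hd, ed⟩ := hfix r hp hn
    have hd1 : d = 1 := ((coeff_unique C hr1 hr2 hz (one_mem _) (t := 1) (t' := d)
      (by rw [mul_one, ← ed, e])).1).symm
    have h1 := (hc' _ (hxr r hp hn 1)).eq
    have h2 : (m : GL D.Idx F) * xg C r 1 * (m : GL D.Idx F)⁻¹ = xg C r 1 := by
      calc (m : GL D.Idx F) * xg C r 1 * (m : GL D.Idx F)⁻¹
          = (m : GL D.Idx F) * (v * xg C r 1 * v⁻¹) * (m : GL D.Idx F)⁻¹ := by rw [ed, hd1]
        _ = (m : GL D.Idx F) * v * xg C r 1 * v⁻¹ * (m : GL D.Idx F)⁻¹ := by group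
        _ = xg C r 1 := by rw [h1]; group
    rw [← hcT, torus_conj_xg C hr2, mul_one] at h2
    exact Units.ext (ChevBruhatInstance.xg_injective C hr2 hr2 (Units.ne_zero _) h2).2
  have hall : ∀ j : Fin D.rank, tchar D c (D.simple j) = 1 := by
    intro j
    by_cases hjJ : (j : ℕ) ∈ J
    · obtain ⟨r, r', hr, hr', hp, hp', hn, hn', hadd⟩ := exists_pair C hcheck hJ j.isLt hjJ
      have e : tchar D c r' = tchar D c r * tchar D c (D.simple j) := by
        simp only [tchar]
        rw [← Finset.prod_mul_distrib]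
        refine Finset.prod_congr rfl fun i _ => ?_
        rw [← zpow_add, cartan_comb C i.isLt hr (simple_lt C j.isLt) hr' 1 1
          (fun l hl => by rw [hadd l hl]; ring), one_mul, one_mul]
      rw [hch r' hp' hn', hch r hp hn, one_mul] at e
      exact e.symm
    · exact hch _ (coef_simple_notIn C j.isLt hjJ).1 (coef_simple_notIn C j.isLt hjJ).2
  have hm1 : (m : GL D.Idx F) = 1 := by
    rw [← hcT]
    apply Units.ext
    rw [coe_torus, tmat, Units.val_one, ← Matrix.diagonal_one]
    congr 1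
    funext q
    rcases q with a | s
    · rfl
    · simp [ChevBorelCriterion.tchar_eq_one C hall s.val s.isLt]
  rw [hm1, mul_one]
  exact mul_mem hu hu'

end Cfsg.Agent.ChevRadicalCentralizer
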