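import Cfsg.Agent.Lib.ChevBruhatInstance

/-!
Centralizers of products of dominant root elements in a Chevalley group.
-/

set_option autoImplicit false
set_option linter.unusedSectionVars false

namespace Cfsg.Agent.ChevRootCentralizer

open Cfsg.Lie Cfsg.Agent.ChevalleyEngine Cfsg.Agent.ChevalleyCert Cfsg.Agent.ChevalleyRoots
open Cfsg.Agent.ChevalleyCore Cfsg.Agent.ChevalleyTorus Cfsg.Agent.ChevalleyUnipotent
open Cfsg.Agent.ChevWeyl Cfsg.Agent.ChevBruhat

variable {D : ChevalleyDatum} (C : Cert D) {F : Type*} [Field F] (S : Sys D F)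

include C

theorem sysXg (r : ℕ) (t : F) : S.xg r t = xg C r t := Units.ext (S.coe_xg r t)

include S in
/-- `g = u m u'` with `u, u' ∈ U`, `m ∈ N` -/
theorem decomp {g : GL D.Idx F} (hg : g ∈ D.group F) :
    ∃ u ∈ D.posUnipotent F, ∃ m : ↥(D.monomialSubgroup F), ∃ u' ∈ D.posUnipotent F,
      g = u * m * u' := by
  obtain ⟨b, hb, n, u', hu', rfl⟩ := S.exists_cell_form hg
  obtain ⟨h, hh, u, hu, rfl⟩ := S.mem_B_iff.mp hb
  refine ⟨h * u * h⁻¹, S.H_conj_U hh hu, ⟨h, Sys.H_le_N hh⟩ * n, u', S.Uw_le_U _ hu', ?_⟩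
  simp [mul_assoc]

/-! ### commuting root elements -/

theorem comm_of_terms {r s : ℕ} (hr : r < D.nroots) (hs : s < D.nroots) (h1 : s ≠ r) (h2 : s ≠ D.neg r)
    (h : ∀ c ∈ D.commTerms r s, (c.2.1 : F) = 0) (t u : F) : Commute (xg C r t) (xg C s u) := by
  have hw : wg C (D.commWord F r s t u) = 1 := by
    refine List.prod_eq_one fun g hg => ?_
    obtain ⟨p, hp, rfl⟩ := List.mem_map.1 hg
    obtain ⟨c, hc, rfl⟩ := List.mem_map.1 hp
    simp [h c hc]
  have e := comm_formula C hr hs h1 h2 t u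
  rw [hw, mul_one] at e
  exact e.symm

/-- the highest root element commutes with every positive root element -/
theorem top_comm {s : ℕ} (hs : D.nroots / 2 ≤ s) (hs' : s < D.nroots) (t u : F) :
    Commute (xg C (D.nroots - 1) t) (xg C s u) := by
  have := C.even
  by_cases h : s = D.nroots - 1
  · subst h
    show _ * _ = _ * _
    rw [xg_mul, xg_mul, add_comm]
  have hr : D.nroots - 1 < D.nroots := by omega
  refine comm_of_terms C hr hs' h (by rw [C.neg_eq _ hr]; omega) (fun c hc => ?_) t u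
  exfalso
  obtain ⟨hc1, hi, hj, -⟩ := commTerms_mem C hr hs' hc
  have hk := key_commTerm C hr hs' hc
  have p1 := (key_pos C hr).2 (by omega)
  have p2 := (key_pos C hs').2 hs
  have i1 : (1 : ℤ) ≤ c.2.2.1 := by exact_mod_cast hi
  have j1 : (1 : ℤ) ≤ c.2.2.2 := by exact_mod_cast hj
  have hle : key C c.1 ≤ key C (D.nroots - 1) := by
    rcases eq_or_lt_of_le (show c.1 ≤ D.nroots - 1 by omega) with e | e
    · rw [e]
    · exact (key_lt C hr e).le
  rw [hk] at hle
  nlinarith

/-- what commutes with all positive root elements commutes with `U` -/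
theorem commute_U {t : GL D.Idx F}
    (h : ∀ s, D.nroots / 2 ≤ s → s < D.nroots → ∀ c : F, Commute t (xg C s c))
    {u : GL D.Idx F} (hu : u ∈ D.posUnipotent F) : Commute t u := by
  refine Subgroup.closure_induction (p := fun y _ => Commute t y) ?_ (Commute.one_right t)
    (fun a b _ _ ha hb => ha.mul_right hb) (fun a _ ha => ha.inv_right) hu
  rintro y ⟨r, c, hr, hy⟩
  obtain ⟨h1, h2⟩ := (isPos C).1 hr
  exact (xg_eq_iff C).1 hy ▸ h r h1 h2 c

/-! ### the stabiliser of dominant roots in `W` -/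

theorem pairing_img (w : S.X.W) : ∀ {r s : ℕ}, r < D.nroots → s < D.nroots →
    D.pairing (S.X.img w r) (S.X.img w s) = D.pairing r s := by
  induction w using S.X.w_induction with
  | one => intro r s _ _; simp
  | step i w ih =>
    intro r s hr hs
    rw [S.X.img_mul, S.X.img_mul, S.X.img_simple i (S.X.img_lt w hr), S.X.img_simple i (S.X.img_lt w hs),
      ← ih hr hs]
    exact pairing_w C i.isLt (S.X.img_lt w hr) (S.X.img_lt w hs)

theorem descent_orth {w : S.X.W} {a : ℕ} (ha : a < D.nroots) (hfix : S.X.img w a = a)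
    (hdom : ∀ i, i < D.rank → 0 ≤ D.cartan i a) {i : Fin D.rank}
    (hi : D.IsNegRoot (S.X.img w⁻¹ (D.simple i))) : D.cartan i a = 0 := by
  refine le_antisymm ?_ (hdom _ i.isLt)
  have hfix' : S.X.img w⁻¹ a = a := by conv_lhs => rw [← hfix, S.X.img_inv_img]
  rw [← pairing_simple C i.isLt, ← pairing_img C S w⁻¹ (simple_lt C i.isLt) ha, hfix',
    ChevalleyRoots.pairing_eq C]
  exact Finset.sum_nonpos fun j hj => mul_nonpos_of_nonpos_of_nonneg
    ((S.X.neg_iff hi.1).mp hi j (Finset.mem_range.1 hj)) (hdom j (Finset.mem_range.1 hj))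

/-- Weyl elements fixing a set of roots are realised inside `L` when their descents are orthogonal to it -/
theorem stab_lift_of_descent (A : List ℕ) (hA : ∀ a ∈ A, a < D.nroots)
    (hdesc : ∀ (w : S.X.W), (∀ a ∈ A, S.X.img w a = a) → ∀ i : Fin D.rank,
      D.IsNegRoot (S.X.img w⁻¹ (D.simple i)) → ∀ a ∈ A, D.cartan i a = 0)
    (L : Subgroup (GL D.Idx F))
    (hL : ∀ i : Fin D.rank, (∀ a ∈ A, D.cartan i a = 0) → ng C (D.simple i) (1 : F) ∈ L)
    (w : S.X.W) (hw : ∀ a ∈ A, S.X.img w a = a) :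
    ∃ m : ↥(D.monomialSubgroup F), (m : GL D.Idx F) ∈ L ∧ S.toW m = w := by
  induction hn : S.X.inv w using Nat.strong_induction_on generalizing w with
  | _ k ih =>
    by_cases h1 : w = 1
    · exact ⟨1, by simp, by rw [h1, map_one]⟩
    obtain ⟨i, hi⟩ := S.X.exists_descent h1
    have h0 : ∀ a ∈ A, D.cartan i a = 0 := hdesc w hw i hi
    have hlen := S.X.inv_simple_mul_of_neg i hi
    obtain ⟨m, hm, hmw⟩ := ih _ (by omega) (S.X.C.simple i * w) (fun a ha => by
      rw [S.X.img_mul, hw a ha, S.X.img_simple i (hA a ha)]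
      exact w_fix C i.isLt (hA a ha) (h0 a ha)) rfl
    refine ⟨S.sN i * m, ?_, ?_⟩
    · have e : S.nn (D.simple i.val) 1 = ng C (D.simple i.val) (1 : F) := by
        simp only [Sys.nn, nOf, ng, sysXg C S]
      rw [Subgroup.coe_mul]
      exact mul_mem (show S.nn (D.simple i.val) 1 ∈ L from e ▸ hL i h0) hm
    · have hs : S.X.C.simple i * S.X.C.simple i = 1 :=
        S.X.C.toCoxeterSystem.simple_mul_simple_self i
      rw [map_mul, S.toW_sN, hmw, ← mul_assoc, hs, one_mul]

/-- Weyl elements fixing dominant roots are realised inside `L` -/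
theorem stab_lift (A : List ℕ) (hA : ∀ a ∈ A, a < D.nroots ∧ ∀ i, i < D.rank → 0 ≤ D.cartan i a)
    (L : Subgroup (GL D.Idx F))
    (hL : ∀ i : Fin D.rank, (∀ a ∈ A, D.cartan i a = 0) → ng C (D.simple i) (1 : F) ∈ L)
    (w : S.X.W) (hw : ∀ a ∈ A, S.X.img w a = a) :
    ∃ m : ↥(D.monomialSubgroup F), (m : GL D.Idx F) ∈ L ∧ S.toW m = w :=
  stab_lift_of_descent C S A (fun a ha => (hA a ha).1)
    (fun _ hfix _ hi a ha => descent_orth C S (hA a ha).1 (hfix a ha) (hA a ha).2 hi) L hL w hw

/-! ### the centralizer -/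

/-- `U` extended by the negative fundamental root subgroups orthogonal to `A` -/
def levi (A : List ℕ) : Subgroup (GL D.Idx F) :=
  D.posUnipotent F ⊔ Subgroup.closure
    {g | ∃ i, i < D.rank ∧ (∀ a ∈ A, D.cartan i a = 0) ∧ ∃ c : F, g = xg C (D.neg (D.simple i)) c}

theorem U_le_levi (A : List ℕ) : D.posUnipotent F ≤ levi C A := le_sup_left

theorem xg_mem_levi (A : List ℕ) {i : ℕ} (hi : i < D.rank) (h0 : ∀ a ∈ A, D.cartan i a = 0) (c : F) :
    xg C (D.neg (D.simple i)) c ∈ levi C A :=
  Subgroup.mem_sup_right (Subgroup.subset_closure ⟨i, hi, h0, c, rfl⟩)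

theorem ng_mem_levi (A : List ℕ) {i : ℕ} (hi : i < D.rank) (h0 : ∀ a ∈ A, D.cartan i a = 0) (c : F) :
    ng C (D.simple i) c ∈ levi C A :=
  mul_mem (mul_mem (U_le_levi C A (ChevalleyUnipotent.xg_mem_U C (C.simple_mem i hi).1 (C.simple_mem i hi).2 _))
    (xg_mem_levi C A hi h0 _))
    (U_le_levi C A (ChevalleyUnipotent.xg_mem_U C (C.simple_mem i hi).1 (C.simple_mem i hi).2 _))

theorem levi_le_group (A : List ℕ) : levi C (F := F) A ≤ D.group F := by
  refine sup_le ?_ ((Subgroup.closure_le _).2 ?_)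
  · refine (Subgroup.closure_le _).2 ?_
    rintro g ⟨r, t, -, hg⟩
    exact (xg_eq_iff C).1 hg ▸ xg_mem_group C r t
  · rintro g ⟨i, -, -, c, rfl⟩
    exact xg_mem_group C _ _

theorem torus_mem_levi (A : List ℕ) (c : Fin D.rank → Fˣ)
    (hc : ∀ i : Fin D.rank, (∀ a ∈ A, D.cartan i a = 0) ∨ c i = 1) : torus D c ∈ levi C A := by
  rw [← Finset.univ_prod_mulSingle c]
  induction (Finset.univ : Finset (Fin D.rank)) using Finset.induction_on with
  | empty => simp
  | insert a T ha ih =>
    rw [Finset.prod_insert ha, map_mul]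
    refine mul_mem ?_ ih
    rcases hc a with h0 | h0
    · rw [← hg_simple C]
      exact mul_mem (ng_mem_levi C A a.isLt h0 _) (ng_mem_levi C A a.isLt h0 _)
    · rw [h0, Pi.mulSingle_one, map_one]; exact one_mem _

include S in
/-- the centralizer of an element attached to the dominant roots `A` -/
theorem centralizer_eq (A : List ℕ) (hA : ∀ a ∈ A, a < D.nroots ∧ ∀ i, i < D.rank → 0 ≤ D.cartan i a)
    (t : GL D.Idx F)
    (hU : ∀ s, D.nroots / 2 ≤ s → s < D.nroots → ∀ c : F, Commute t (xg C s c))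
    (hJ : ∀ i, i < D.rank → (∀ a ∈ A, D.cartan i a = 0) → ∀ c : F, Commute t (xg C (D.neg (D.simple i)) c))
    (hfix : ∀ m : ↥(D.monomialSubgroup F), Commute t (m : GL D.Idx F) → ∀ a ∈ A, S.X.img (S.toW m) a = a)
    (hH : ∀ c : Fin D.rank → Fˣ, Commute t (torus D c) →
      ∀ i : Fin D.rank, (∀ a ∈ A, D.cartan i a = 0) ∨ c i = 1) :
    D.group F ⊓ Subgroup.centralizer {t} = levi C A := by
  have hle : levi C A ≤ Subgroup.centralizer {t} := by
    refine sup_le ?_ ((Subgroup.closure_le _).2 ?_)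
    · intro u hu
      exact Subgroup.mem_centralizer_singleton_iff.2 (commute_U C hU hu).eq.symm
    · rintro g ⟨i, hi, h0, c, rfl⟩
      exact Subgroup.mem_centralizer_singleton_iff.2 (hJ i hi h0 c).eq.symm
  refine le_antisymm ?_ (le_inf (levi_le_group C A) hle)
  rintro g ⟨hg, hgt⟩
  have hgt' : Commute t g := (Subgroup.mem_centralizer_singleton_iff.1 hgt).symm
  obtain ⟨u, hu, m, u', hu', rfl⟩ := decomp C S hg
  have hm : Commute t (m : GL D.Idx F) := by
    have := ((commute_U C hU hu).inv_right.mul_right hgt').mul_right (commute_U C hU hu').inv_right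
    simpa [mul_assoc] using this
  obtain ⟨m', hm', hw⟩ := stab_lift C S A hA (levi C A)
    (fun i h0 => ng_mem_levi C A i.isLt h0 1) (S.toW m) (hfix m hm)
  have hker : (m : GL D.Idx F) * (m' : GL D.Idx F)⁻¹ ∈ D.diagonalSubgroup F :=
    S.toW_ker.le (show m * m'⁻¹ ∈ S.toW.ker by simp [MonoidHom.mem_ker, hw])
  obtain ⟨c, hc⟩ := (ChevalleyTorus.mem_H_iff C).1 hker
  have hcomm : Commute t (torus D c) := by
    rw [hc]
    exact hm.mul_right (Commute.inv_right (Subgroup.mem_centralizer_singleton_iff.1 (hle hm')).symm)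
  have hmem : (m : GL D.Idx F) ∈ levi C A := by
    have := mul_mem (torus_mem_levi C A c (hH c hcomm)) hm'
    rwa [hc, inv_mul_cancel_right] at this
  exact mul_mem (mul_mem (U_le_levi C A hu) hmem) (U_le_levi C A hu')

/-! ### one root -/

/-- an element of `N` commuting with a root element fixes the root -/
theorem single_fix {a : ℕ} (ha : a < D.nroots) (m : ↥(D.monomialSubgroup F))
    (hm : Commute (xg C a (1 : F)) (m : GL D.Idx F)) : S.X.img (S.toW m) a = a := by
  obtain ⟨c, hc, h1, -⟩ := S.acts_toW m a ha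
  have h2 := h1 1
  rw [mul_one, sysXg C S, sysXg C S, ← hm.eq, mul_inv_cancel_right] at h2
  exact (ChevBruhatInstance.xg_injective C ha (S.X.img_lt _ ha) one_ne_zero h2).1.symm

/-- the torus character at a root elements commute with is trivial -/
theorem single_tchar {a : ℕ} (ha : a < D.nroots) (c : Fin D.rank → Fˣ)
    (hc : Commute (xg C a (1 : F)) (torus D c)) : tchar D c a = 1 := by
  have h1 := torus_conj_xg C ha c 1
  rw [← hc.eq, mul_inv_cancel_right, mul_one] at h1
  exact Units.ext (ChevBruhatInstance.xg_injective C ha ha one_ne_zero h1).2.symm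

/-- a root with a single non-zero Cartan integer equal to one determines that torus coordinate -/
theorem tchar_eq_coord (c : Fin D.rank → Fˣ) {a : ℕ} {k : Fin D.rank} (hk : D.cartan k a = 1)
    (h0 : ∀ i : Fin D.rank, i ≠ k → D.cartan i a = 0) : tchar D c a = c k := by
  rw [tchar, Finset.prod_eq_single k]
  · rw [hk, zpow_one]
  · intro i _ hi; rw [h0 i hi, zpow_zero]
  · simp

/-! ### two roots -/

/-- the ordered product of two positive root elements determines them -/
theorem pair_unique {a b p q : ℕ} (ha : D.nroots / 2 ≤ a) (hab : a < b) (hb : b < D.nroots)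
    (hp : D.nroots / 2 ≤ p) (hpq : p < q) (hq : q < D.nroots) {x y : F} (hx : x ≠ 0) (hy : y ≠ 0)
    (h : xg C a (1 : F) * xg C b 1 = xg C p x * xg C q y) : p = a ∧ q = b ∧ x = 1 ∧ y = 1 := by
  have one : ∀ k, k < D.nroots → ∀ z : F, z ≠ 0 → xg C k z ≠ 1 := by
    intro k hk z hz e
    exact hz (ChevBruhatInstance.xg_injective C hk hk hz (e.trans (xg_zero C k).symm)).2
  rcases Nat.lt_trichotomy p a with h1 | rfl | h1
  · have e : xg C p (0 : F) * (xg C a 1 * xg C b 1) = xg C p x * xg C q y := by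
      rw [xg_zero, one_mul]; exact h
    exact absurd (coeff_unique C hp (by omega)
      (mul_mem (xg_mem_uGe C (by omega) ha (by omega) _) (xg_mem_uGe C (by omega) (by omega) hb _))
      (xg_mem_uGe C (by omega) (by omega) hq _) e).1.symm hx
  · obtain ⟨e1, e2⟩ := coeff_unique C hp (by omega) (xg_mem_uGe C (by omega) (by omega) hb _)
      (xg_mem_uGe C (by omega) (by omega) hq _) h
    obtain ⟨e3, e4⟩ := ChevBruhatInstance.xg_injective C hb hq one_ne_zero e2
    exact ⟨rfl, e3.symm, e1.symm, e4.symm⟩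
  · have e : xg C a (1 : F) * xg C b 1 = xg C a 0 * (xg C p x * xg C q y) := by
      rw [xg_zero, one_mul]; exact h
    exact absurd (coeff_unique C ha (by omega) (xg_mem_uGe C (by omega) (by omega) hb _)
      (mul_mem (xg_mem_uGe C (by omega) hp (by omega) _) (xg_mem_uGe C (by omega) (by omega) hq _)) e).1
      one_ne_zero

/-- an element of `N` commuting with a product of two commuting positive root elements -/
theorem pair_fix {a b : ℕ} (ha : D.nroots / 2 ≤ a) (hab : a < b) (hb : b < D.nroots)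
    (hcomm : ∀ x y : F, Commute (xg C a x) (xg C b y)) (hpair : D.pairing a b ≠ D.pairing b a)
    (m : ↥(D.monomialSubgroup F))
    (hm : Commute (xg C a (1 : F) * xg C b 1) (m : GL D.Idx F)) :
    S.X.img (S.toW m) a = a ∧ S.X.img (S.toW m) b = b := by
  have hal : a < D.nroots := by omega
  obtain ⟨x, hx, h1, -⟩ := S.acts_toW m a hal
  obtain ⟨y, hy, h2, -⟩ := S.acts_toW m b hb
  have h1' := h1 1
  have h2' := h2 1
  rw [mul_one, sysXg C S, sysXg C S] at h1' h2'
  set p := S.X.img (S.toW m) a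
  set q := S.X.img (S.toW m) b
  have hp : p < D.nroots := S.X.img_lt _ hal
  have hq : q < D.nroots := S.X.img_lt _ hb
  have hpq : p ≠ q := fun e => (ne_of_lt hab) (S.X.img_injective _ e)
  have key : xg C a (1 : F) * xg C b 1 = xg C p x * xg C q y := by
    rw [← h1', ← h2']
    calc xg C a (1 : F) * xg C b 1 = (m : GL D.Idx F) * (xg C a (1 : F) * xg C b 1) * (m : GL D.Idx F)⁻¹ := by
          rw [← hm.eq, mul_inv_cancel_right]
      _ = _ := by group
  have hcomm' : Commute (xg C p x) (xg C q y) := by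
    have := (hcomm 1 1).map (MulAut.conj (m : GL D.Idx F))
    simpa only [MulAut.conj_apply, h1', h2'] using this
  have habU : xg C a (1 : F) * xg C b 1 ∈ D.posUnipotent F :=
    mul_mem (ChevalleyUnipotent.xg_mem_U C ha hal _) (ChevalleyUnipotent.xg_mem_U C (by omega) hb _)
  have one : ∀ k, k < D.nroots → ∀ z : F, z ≠ 0 → xg C k z ≠ 1 := by
    intro k hk z hz e
    exact hz (ChevBruhatInstance.xg_injective C hk hk hz (e.trans (xg_zero C k).symm)).2
  have neg_out : ∀ k, k < D.nroots / 2 → ∀ z : F, z ≠ 0 → xg C k z ∉ D.posUnipotent F := by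
    intro k hk z hz hmem
    refine one k (by omega) z hz ?_
    have := Subgroup.mem_inf.mpr ⟨Sys.U_le_B hmem, ChevalleyUnipotent.xg_mem_V C hk z⟩
    rwa [S.B_inf_V, Subgroup.mem_bot] at this
  have hpp : D.nroots / 2 ≤ p := by
    by_contra hc
    by_cases hqq : D.nroots / 2 ≤ q
    · refine neg_out p (by omega) x hx ?_
      have := mul_mem (key ▸ habU) (inv_mem (ChevalleyUnipotent.xg_mem_U C hqq hq y))
      rwa [mul_inv_cancel_right] at this
    · have h3 : xg C p x * xg C q y = 1 := by
        have := Subgroup.mem_inf.mpr ⟨Sys.U_le_B (key ▸ habU),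
          mul_mem (ChevalleyUnipotent.xg_mem_V C (show p < _ by omega) x)
            (ChevalleyUnipotent.xg_mem_V C (show q < _ by omega) y)⟩
        rwa [S.B_inf_V, Subgroup.mem_bot] at this
      rw [mul_eq_one_iff_eq_inv, xg_inv] at h3
      exact hpq (ChevBruhatInstance.xg_injective C hp hq hx h3).1
  have hqq : D.nroots / 2 ≤ q := by
    by_contra hc
    refine neg_out q (by omega) y hy ?_
    have := mul_mem (inv_mem (ChevalleyUnipotent.xg_mem_U C hpp hp x)) (key ▸ habU)
    rwa [inv_mul_cancel_left] at this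
  rcases lt_or_gt_of_ne hpq with h | h
  · obtain ⟨e1, e2, -, -⟩ := pair_unique C ha hab hb hpp h hq hx hy key
    exact ⟨e1, e2⟩
  · rw [hcomm'.eq] at key
    obtain ⟨e1, e2, -, -⟩ := pair_unique C ha hab hb hqq h hp hy hx key
    refine absurd ?_ hpair
    rw [← pairing_img C S (S.toW m) hal hb]
    show D.pairing p q = _
    rw [e1, e2]

/-- torus coordinates of an element commuting with the product of two root elements -/
theorem pair_tchar {a b : ℕ} (ha : D.nroots / 2 ≤ a) (hab : a < b) (hb : b < D.nroots)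
    (c : Fin D.rank → Fˣ) (hc : Commute (xg C a (1 : F) * xg C b 1) (torus D c)) :
    tchar D c a = 1 ∧ tchar D c b = 1 := by
  have key : xg C a (1 : F) * xg C b 1 = xg C a (tchar D c a : F) * xg C b (tchar D c b : F) := by
    have h1 := torus_conj_xg C (show a < D.nroots by omega) c 1
    have h2 := torus_conj_xg C hb c 1
    rw [mul_one] at h1 h2
    rw [← h1, ← h2]
    calc xg C a (1 : F) * xg C b 1 = torus D c * (xg C a (1 : F) * xg C b 1) * (torus D c)⁻¹ := by
          rw [← hc.eq, mul_inv_cancel_right]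
      _ = _ := by group
  obtain ⟨-, -, e1, e2⟩ := pair_unique C ha hab hb ha hab hb (tchar D c a).ne_zero (tchar D c b).ne_zero key
  exact ⟨Units.ext e1, Units.ext e2⟩

include S in
/-- the centralizer of one dominant root element with a single Cartan integer one -/
theorem single_centralizer {a k : ℕ} (ha : D.nroots / 2 ≤ a) (ha' : a < D.nroots) (hk : k < D.rank)
    (hcart : ∀ i, i < D.rank → D.cartan i a = if i = k then 1 else 0)
    (hU : ∀ s, D.nroots / 2 ≤ s → s < D.nroots → s ≠ a → ∀ c ∈ D.commTerms a s, (c.2.1 : F) = 0)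
    (hJ : ∀ i, i < D.rank → i ≠ k → ∀ c ∈ D.commTerms a (D.neg (D.simple i)), (c.2.1 : F) = 0) :
    D.group F ⊓ Subgroup.centralizer {xg C a (1 : F)} = levi C [a] := by
  have := C.even
  refine centralizer_eq C S [a] ?_ _ ?_ ?_ ?_ ?_
  · intro b hb
    obtain rfl := List.mem_singleton.1 hb
    exact ⟨ha', fun i hi => by rw [hcart i hi]; split <;> omega⟩
  · intro s hs hs' c
    by_cases h : s = a
    · subst h
      show _ * _ = _ * _
      rw [xg_mul, xg_mul, add_comm]
    exact comm_of_terms C ha' hs' h (by rw [C.neg_eq _ ha']; omega) (hU s hs hs' h) 1 c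
  · intro i hi h0 c
    have hik : i ≠ k := by
      intro e
      have := h0 a (List.mem_singleton_self a)
      rw [hcart i hi, if_pos e] at this
      exact one_ne_zero this
    have hp := C.simple_mem i hi
    refine comm_of_terms C ha' (C.neg_lt _) ?_ ?_ (hJ i hi hik) 1 c
    · rw [C.neg_eq _ hp.2]; omega
    · intro e
      have h2 := cartan_self C hi
      rw [neg_inj C hp.2 ha' e, h0 a (List.mem_singleton_self a)] at h2
      omega
  · intro m hm b hb
    obtain rfl := List.mem_singleton.1 hb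
    exact single_fix C S ha' m hm
  · intro c hc i
    by_cases hik : i.val = k
    · right
      rw [← tchar_eq_coord C c (k := i) (a := a) (by rw [hcart _ i.isLt, if_pos hik]) (fun j hj => by
        rw [hcart _ j.isLt, if_neg]; exact fun e => hj (Fin.ext (e.trans hik.symm)))]
      exact single_tchar C ha' c hc
    · left
      intro b hb
      obtain rfl := List.mem_singleton.1 hb
      rw [hcart _ i.isLt, if_neg hik]

/-- `x_r(c)` lies in the root subgroup -/
theorem xg_mem_rootSub (r : ℕ) (c : F) : xg C r c ∈ D.rootSubgroup F r :=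
  Subgroup.subset_closure ⟨c, coe_xg C r c⟩

/-- `levi` from an enumeration of the orthogonal nodes -/
theorem levi_eq_closure (A : List ℕ) (l : List ℕ)
    (hl : l = ((List.range D.rank).filter fun i => A.all fun a => D.cartan i a == 0).map
      fun i => D.neg (D.simple i)) :
    levi C (F := F) A = D.posUnipotent F ⊔ Subgroup.closure
      {g : GL D.Idx F | ∃ s ∈ l, ∃ c : F, (g : Matrix D.Idx D.Idx F) = D.x F s c} := by
  unfold levi
  congr 2
  ext g
  subst hl
  simp only [Set.mem_setOf_eq, List.mem_map, List.mem_filter, List.mem_range, List.all_eq_true,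
    beq_iff_eq]
  constructor
  · rintro ⟨i, hi, h0, c, rfl⟩
    exact ⟨_, ⟨i, ⟨hi, h0⟩, rfl⟩, c, rfl⟩
  · rintro ⟨s, ⟨i, ⟨hi, h0⟩, rfl⟩, c, hc⟩
    exact ⟨i, hi, h0, c, (xg_eq_iff C).1 hc⟩

/-- closure of a list of root subgroups as a supremum -/
theorem closure_list (l : List ℕ) :
    Subgroup.closure {g : GL D.Idx F | ∃ s ∈ l, ∃ c : F, (g : Matrix D.Idx D.Idx F) = D.x F s c} =
      l.foldr (fun s K => D.rootSubgroup F s ⊔ K) ⊥ := by
  induction l with
  | nil => simp
  | cons a l ih =>
    rw [List.foldr_cons, ← ih, ChevalleyDatum.rootSubgroup, ← Subgroup.closure_union]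
    congr 1
    ext g
    simp [List.exists_mem_cons_iff]

theorem closure_three (a b c : ℕ) :
    D.posUnipotent F ⊔ Subgroup.closure
      {g : GL D.Idx F | ∃ s ∈ [a, b, c], ∃ x : F, (g : Matrix D.Idx D.Idx F) = D.x F s x} =
    D.posUnipotent F ⊔ D.rootSubgroup F a ⊔ D.rootSubgroup F b ⊔ D.rootSubgroup F c := by
  rw [closure_list C]
  simp [sup_assoc]

theorem closure_two (a b : ℕ) :
    D.posUnipotent F ⊔ Subgroup.closure
      {g : GL D.Idx F | ∃ s ∈ [a, b], ∃ x : F, (g : Matrix D.Idx D.Idx F) = D.x F s x} =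
    D.posUnipotent F ⊔ D.rootSubgroup F a ⊔ D.rootSubgroup F b := by
  rw [closure_list C]
  simp [sup_assoc]

end Cfsg.Agent.ChevRootCentralizer
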