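import Cfsg.Agent.Lib.ChevBruhatInstance

/-!
Coordinates on the fundamental roots: the action of the Weyl group on functionals, a reduced normal
form of a functional modulo a lattice, and two consequences (no vanishing root value, trivial
stabiliser).
-/

set_option autoImplicit false

namespace Cfsg.Agent.ChevRootCoord68

open Cfsg.Lie Cfsg.Agent.ChevalleyCert Cfsg.Agent.ChevWeyl Cfsg.Agent.ChevBruhat

variable {D : ChevalleyDatum} (C : Cert D)

section General

variable {M : Type*} [AddCommGroup M]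

/-- the value at the root `s` of the functional with values `f` on the fundamental roots -/
def ev (f : Fin D.rank → M) (s : ℕ) : M := ∑ j : Fin D.rank, C.coef s j.val • f j

theorem ev_add (f g : Fin D.rank → M) (s : ℕ) : ev C (f + g) s = ev C f s + ev C g s := by
  simp [ev, Finset.sum_add_distrib]

theorem ev_sub (f g : Fin D.rank → M) (s : ℕ) : ev C (f - g) s = ev C f s - ev C g s := by
  simp [ev, Finset.sum_sub_distrib, smul_sub]

theorem ev_zero (s : ℕ) : ev C (0 : Fin D.rank → M) s = 0 := by simp [ev]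

theorem ev_zsmul (n : ℤ) (f : Fin D.rank → M) (s : ℕ) : ev C (n • f) s = n • ev C f s := by
  simp only [ev, Finset.smul_sum, Pi.smul_apply]
  exact Finset.sum_congr rfl fun j _ => smul_comm _ _ _

theorem ev_nsmul (n : ℕ) (f : Fin D.rank → M) (s : ℕ) : ev C (n • f) s = n • ev C f s := by
  rw [← natCast_zsmul, ev_zsmul, natCast_zsmul]

theorem ev_smul_const (f : Fin D.rank → ℤ) (z : M) (s : ℕ) :
    ev C (fun j => f j • z) s = ev C f s • z := by
  simp only [ev, Finset.sum_smul, smul_eq_mul, mul_smul]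

theorem ev_simple (f : Fin D.rank → M) (i : Fin D.rank) : ev C f (D.simple i.val) = f i := by
  rw [ev, Finset.sum_eq_single i]
  · rw [C.coef_simple _ _ i.isLt i.isLt, if_pos rfl, one_smul]
  · intro j _ hj
    rw [C.coef_simple _ _ i.isLt j.isLt, if_neg (Fin.val_ne_of_ne hj), zero_smul]
  · simp

theorem ev_neg (f : Fin D.rank → M) {s : ℕ} (hs : s < D.nroots) : ev C f (D.neg s) = - ev C f s := by
  rw [ev, ev, ← Finset.sum_neg_distrib]
  exact Finset.sum_congr rfl fun j _ => by rw [C.coef_neg s j hs j.isLt, neg_smul]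

theorem sum_coef_cartan (i : Fin D.rank) {s : ℕ} (hs : s < D.nroots) :
    D.cartan i.val s = ∑ j : Fin D.rank, C.coef s j.val * D.cartan i.val (D.simple j.val) := by
  rw [ChevalleyRoots.cartan_lin' C i.isLt hs, ← Fin.sum_univ_eq_sum_range]

theorem ev_reflect (f : Fin D.rank → M) (i : Fin D.rank) {s : ℕ} (hs : s < D.nroots) :
    ev C f (D.reflectRoot i.val s) = ev C f s - D.cartan i.val s • f i := by
  have : ∀ j : Fin D.rank, C.coef (D.reflectRoot i.val s) j.val • f j =
      C.coef s j.val • f j - if j = i then D.cartan i.val s • f i else 0 := by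
    intro j
    rw [C.coef_w i.val s j.val i.isLt hs j.isLt, sub_smul]
    by_cases h : j = i
    · subst h; simp
    · simp [h, Fin.val_ne_of_ne h]
  simp [ev, this, Finset.sum_sub_distrib]

variable (X : Weyl D)

/-- the functional `f` composed with `w` -/
noncomputable def wact (w : X.W) (f : Fin D.rank → M) : Fin D.rank → M :=
  fun j => ev C f (X.img w (D.simple j.val))

theorem ev_wact (w : X.W) : ∀ (f : Fin D.rank → M) {s : ℕ}, s < D.nroots →
    ev C (wact C X w f) s = ev C f (X.img w s) := by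
  induction w using X.w_induction with
  | one =>
    intro f s _
    have : wact C X 1 f = f := funext fun j => by rw [wact, X.img_one, ev_simple]
    rw [this, X.img_one]
  | step i w ih =>
    intro f s hs
    have hlin : ∀ (g : Fin D.rank → M) {r : ℕ}, r < D.nroots →
        ev C (fun k => ev C g (D.reflectRoot i.val (D.simple k.val))) r =
          ev C g (D.reflectRoot i.val r) := by
      intro g r hr
      rw [ev_reflect C g i hr]
      have e : (fun k : Fin D.rank => ev C g (D.reflectRoot i.val (D.simple k.val))) =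
          g - fun k : Fin D.rank => D.cartan i.val (D.simple k.val) • g i :=
        funext fun k => by rw [Pi.sub_apply, ev_reflect C g i (X.simple_lt k.isLt), ev_simple]
      rw [e, ev_sub, ev_smul_const]
      congr 1
      rw [sum_coef_cartan C i hr]
      simp [ev]
    have e : wact C X (X.C.simple i * w) f =
        wact C X w (fun k => ev C f (D.reflectRoot i.val (D.simple k.val))) := by
      funext j
      rw [wact, wact, X.img_mul, X.img_simple i (X.img_lt w (X.simple_lt j.isLt)),
        hlin f (X.img_lt w (X.simple_lt j.isLt))]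
    rw [e, ih _ hs, hlin f (X.img_lt w hs), X.img_mul, X.img_simple i (X.img_lt w hs)]

theorem wact_one (f : Fin D.rank → M) : wact C X 1 f = f :=
  funext fun j => by rw [wact, X.img_one, ev_simple]

theorem wact_mul (v w : X.W) (f : Fin D.rank → M) :
    wact C X (v * w) f = wact C X w (wact C X v f) :=
  funext fun j => by
    rw [wact, X.img_mul, ← ev_wact C X v f (X.img_lt w (X.simple_lt j.isLt))]; rfl

theorem wact_inv (v : X.W) (f : Fin D.rank → M) : wact C X v (wact C X v⁻¹ f) = f := by
  rw [← wact_mul, inv_mul_cancel, wact_one]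

theorem wact_inv' (v : X.W) (f : Fin D.rank → M) : wact C X v⁻¹ (wact C X v f) = f := by
  rw [← wact_mul, mul_inv_cancel, wact_one]

theorem wact_zero (w : X.W) : wact C X w (0 : Fin D.rank → M) = 0 :=
  funext fun j => ev_zero C _

theorem wact_ne_zero (w : X.W) {f : Fin D.rank → M} (hf : f ≠ 0) : wact C X w f ≠ 0 := fun h =>
  hf (by rw [← wact_inv' C X w f, h, wact_zero])

theorem sum_img {β : Type*} [AddCommMonoid β] (w : X.W) (g : ℕ → β) :
    ∑ s : Fin D.nroots, g (X.img w s.val) = ∑ s : Fin D.nroots, g s.val := by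
  rw [← Equiv.sum_comp (X.ρ w) (fun s : Fin D.nroots => g s.val)]
  exact Finset.sum_congr rfl fun s _ => by rw [Weyl.img, dif_pos s.isLt]

end General

/-- numerical properties of the root tables, to be checked by computation -/
structure Num (m : ℕ) : Prop where
  rank_pos : 0 < D.rank
  orth : ∀ i j : Fin D.rank, i ≠ j →
    ∑ s : Fin D.nroots, C.coef s.val j.val * D.cartan i.val s.val = 0
  norm_pos : ∀ i : Fin D.rank, 0 < ∑ s : Fin D.nroots, C.coef s.val i.val * D.cartan i.val s.val
  pos_sum : ∀ i : Fin D.rank,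
    ∑ s : Fin D.nroots, (if D.nroots / 2 ≤ s.val then D.cartan i.val s.val else 0) = 2
  two_le_top : ∀ j : Fin D.rank, 2 ≤ C.coef (D.nroots - 1) j.val
  top_le : ∀ j : Fin D.rank, C.coef (D.nroots - 1) j.val ≤ m
  le_top : ∀ (s : Fin D.nroots) (j : Fin D.rank), C.coef s.val j.val ≤ C.coef (D.nroots - 1) j.val

variable {C} {m : ℕ} (nm : Num C m) (X : Weyl D) (hs : suppCheck D = true)

include nm in
theorem sum_ev_cartan (g : Fin D.rank → ℤ) (i : Fin D.rank) :
    ∑ s : Fin D.nroots, ev C g s.val * D.cartan i.val s.val =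
      g i * ∑ s : Fin D.nroots, C.coef s.val i.val * D.cartan i.val s.val := by
  simp only [ev, smul_eq_mul, Finset.sum_mul]
  rw [Finset.sum_comm, Finset.sum_eq_single i]
  · rw [Finset.mul_sum]; exact Finset.sum_congr rfl fun s _ => by ring
  · intro j _ hj
    rw [← mul_zero (g j), ← nm.orth i j (Ne.symm hj), Finset.mul_sum]
    exact Finset.sum_congr rfl fun s _ => by ring
  · simp

include nm hs in
/-- Up to the Weyl group and translation by `N`, a functional lies in the closure of the fundamental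
alcove scaled by `N`. -/
theorem normal_form (f : Fin D.rank → ℤ) {N : ℤ} (hN : 0 < N) :
    ∃ (v : X.W) (f2 : Fin D.rank → ℤ), (∀ j, 0 ≤ f2 j) ∧
      (∀ s, s < D.nroots → |ev C f2 s| ≤ N) ∧
      ∀ s, s < D.nroots → N ∣ ev C f2 s - ev C f (X.img v s) := by
  classical
  let Φ : (Fin D.rank → ℤ) → ℤ := fun g => ∑ s : Fin D.nroots, (ev C (f + N • g) s.val) ^ 2
  set g0 := Function.argmin fun g => (Φ g).toNat with hg0
  have hmin : ∀ g, Φ g0 ≤ Φ g := by
    intro g
    have h := Function.not_lt_argmin (fun g => (Φ g).toNat) g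
    have h0 : ∀ g, 0 ≤ Φ g := fun g => Finset.sum_nonneg fun s _ => sq_nonneg _
    have := h0 g
    have := h0 g0
    rw [← hg0] at h
    omega
  obtain ⟨f', hf'⟩ : ∃ f', f + N • g0 = f' := ⟨_, rfl⟩
  have hle : ∀ s, s < D.nroots → ev C f' s ≤ N := by
    intro r hr
    obtain ⟨v, i, hvi⟩ :=
      Sys.exists_root_img (ChevBruhatInstance.mkSys (F := ℚ) C X hs) hr
    change X.W at v
    change X.img v (D.simple i.val) = r at hvi
    let a : Fin D.rank → ℤ := fun j => D.cartan i.val (D.simple j.val)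
    have ha : ∀ s, s < D.nroots → ev C a s = D.cartan i.val s := fun s hs' =>
      (sum_coef_cartan C i hs').symm
    let g := wact C X v f'
    have hgi : g i = ev C f' r := by rw [← hvi]; rfl
    set k := ∑ s : Fin D.nroots, C.coef s.val i.val * D.cartan i.val s.val with hk
    have hkpos : 0 < k := nm.norm_pos i
    have e1 : Φ g0 = ∑ s : Fin D.nroots, (ev C g s.val) ^ 2 := by
      show ∑ s : Fin D.nroots, (ev C (f + N • g0) s.val) ^ 2 = _
      rw [hf', ← sum_img X v fun s => (ev C f' s) ^ 2]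
      exact Finset.sum_congr rfl fun s _ => by rw [ev_wact C X v f' s.isLt]
    have e2 : Φ (g0 - wact C X v⁻¹ a) =
        ∑ s : Fin D.nroots, (ev C g s.val - N * D.cartan i.val s.val) ^ 2 := by
      show ∑ s : Fin D.nroots, (ev C (f + N • (g0 - wact C X v⁻¹ a)) s.val) ^ 2 = _
      rw [← sum_img X v fun s => (ev C (f + N • (g0 - wact C X v⁻¹ a)) s) ^ 2]
      refine Finset.sum_congr rfl fun s _ => ?_
      rw [smul_sub, ← add_sub_assoc, hf', ev_sub, ev_zsmul, ← ev_wact C X v f' s.isLt,
        ← ev_wact C X v (wact C X v⁻¹ a) s.isLt, wact_inv, ha _ s.isLt, smul_eq_mul]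
    have e3 : ∑ s : Fin D.nroots, D.cartan i.val s.val ^ 2 = 2 * k := by
      have := sum_ev_cartan nm a i
      rw [show a i = 2 from ChevalleyRoots.cartan_self C i.isLt] at this
      rw [← this]
      exact Finset.sum_congr rfl fun s _ => by rw [ha _ s.isLt, sq]
    have e4 : ∑ s : Fin D.nroots, (ev C g s.val - N * D.cartan i.val s.val) ^ 2 =
        (∑ s : Fin D.nroots, (ev C g s.val) ^ 2) - 2 * N * (g i * k) + N ^ 2 * (2 * k) := by
      rw [← e3, hk, ← sum_ev_cartan nm g i, Finset.mul_sum, Finset.mul_sum, ← Finset.sum_sub_distrib,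
        ← Finset.sum_add_distrib]
      exact Finset.sum_congr rfl fun s _ => by ring
    have h := hmin (g0 - wact C X v⁻¹ a)
    rw [e1, e2, e4] at h
    rw [← hgi]
    by_contra hcon
    have : N < g i := not_le.1 hcon
    have : 0 < (2 * N * k) * (g i - N) := by
      apply mul_pos <;> [positivity; omega]
    linarith
  have : Nonempty X.W := ⟨1⟩
  let R : X.W → ℤ := fun v =>
    ∑ s : Fin D.nroots, if D.nroots / 2 ≤ s.val then ev C f' (X.img v s.val) else 0
  obtain ⟨v, hv⟩ := Finite.exists_max R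
  refine ⟨v, wact C X v f', fun i => ?_, fun s hs' => ?_, fun s hs' => ?_⟩
  · have h := hv (v * X.C.simple i)
    have e : R (v * X.C.simple i) = R v - wact C X v f' i * 2 := by
      simp only [R]
      rw [← nm.pos_sum i, Finset.mul_sum, ← Finset.sum_sub_distrib]
      refine Finset.sum_congr rfl fun s _ => ?_
      by_cases hp : D.nroots / 2 ≤ s.val
      · rw [if_pos hp, if_pos hp, if_pos hp, X.img_mul, X.img_simple i s.isLt,
          ← ev_wact C X v f' (X.root_facts' s.isLt i.isLt).2.2.1, ev_reflect C _ i s.isLt,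
          ← ev_wact C X v f' s.isLt, smul_eq_mul]
        ring
      · rw [if_neg hp, if_neg hp, if_neg hp]; simp
    omega
  · rw [ev_wact C X v f' hs', abs_le]
    have h1 := hle _ (X.img_lt v hs')
    have h2 := hle _ (C.neg_lt (X.img v s))
    rw [ev_neg C f' (X.img_lt v hs')] at h2
    omega
  · rw [ev_wact C X v f' hs', ← hf', ev_add, ev_zsmul, add_sub_cancel_left, smul_eq_mul]
    exact dvd_mul_right N _

include nm in
theorem top_lt : D.nroots - 1 < D.nroots := by
  rcases Nat.eq_zero_or_pos D.nroots with h | h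
  · have : IsEmpty (Fin D.nroots) := by rw [h]; infer_instance
    have := nm.pos_sum ⟨0, nm.rank_pos⟩
    rw [Fintype.sum_empty] at this
    norm_num at this
  · omega

include nm in
theorem ev_le_top {f : Fin D.rank → ℤ} (hf : ∀ j, 0 ≤ f j) {s : ℕ} (hs' : s < D.nroots) :
    ev C f s ≤ ev C f (D.nroots - 1) :=
  Finset.sum_le_sum fun j _ => by
    simp only [smul_eq_mul]
    exact mul_le_mul_of_nonneg_right (nm.le_top ⟨s, hs'⟩ j) (hf j)

include nm hs in
/-- An eigenfunctional modulo a prime of an element without invariant proper root subsystem has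
no vanishing root value. -/
theorem no_zero {ℓ : ℕ} (hℓ : ℓ.Prime) (hm : m < ℓ) (f : Fin D.rank → ℤ)
    (hf : ¬ ∀ j, (ℓ : ℤ) ∣ f j) (w : X.W) (q : ℤ)
    (heig : ∀ s, s < D.nroots → (ℓ : ℤ) ∣ ev C f (X.img w s) - q * ev C f s)
    (hirr : ∀ φ : Fin D.rank → ℤ, φ ≠ 0 → ∀ s, s < D.nroots → ∃ k : ℕ, ev C φ (X.img (w ^ k) s) ≠ 0)
    {s : ℕ} (hs' : s < D.nroots) : ¬ (ℓ : ℤ) ∣ ev C f s := by
  intro h0
  have hℓ0 : (0 : ℤ) < ℓ := Int.natCast_pos.2 hℓ.pos
  obtain ⟨v, f2, hnn, hbd, hcg⟩ := normal_form nm X hs f hℓ0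
  have horb : ∀ k : ℕ, (ℓ : ℤ) ∣ ev C f (X.img (w ^ k) s) := by
    intro k
    induction k with
    | zero => simpa using h0
    | succ k ih =>
      rw [pow_succ', X.img_mul]
      have := heig _ (X.img_lt (w ^ k) hs')
      have h2 := dvd_add this (dvd_mul_of_dvd_right ih q)
      simpa using h2
  suffices h : ∃ φ : Fin D.rank → ℤ, φ ≠ 0 ∧
      ∀ r, r < D.nroots → (ℓ : ℤ) ∣ ev C f2 r → ev C φ r = 0 by
    obtain ⟨φ, hφ, hker⟩ := h
    obtain ⟨k, hk⟩ := hirr (wact C X v⁻¹ φ) (wact_ne_zero C X _ hφ) s hs'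
    apply hk
    rw [ev_wact C X v⁻¹ φ (X.img_lt _ hs')]
    refine hker _ (X.img_lt _ (X.img_lt _ hs')) ?_
    have h1 := hcg _ (X.img_lt v⁻¹ (X.img_lt (w ^ k) hs'))
    rw [X.img_img_inv] at h1
    simpa using dvd_add h1 (horb k)
  obtain ⟨i, hi⟩ : ∃ i, 0 < f2 i := by
    by_contra hcon
    push Not at hcon
    have hz : ∀ r, r < D.nroots → ev C f2 r = 0 := fun r _ =>
      Finset.sum_eq_zero fun j _ => by rw [le_antisymm (hcon j) (hnn j), smul_zero]
    refine hf fun j => ?_
    have h1 := hcg _ (X.img_lt v⁻¹ (X.simple_lt j.isLt))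
    rw [X.img_img_inv, hz _ (X.img_lt _ (X.simple_lt j.isLt)), zero_sub, dvd_neg, ev_simple] at h1
    exact h1
  suffices h : ∃ φ : Fin D.rank → ℤ, φ ≠ 0 ∧
      ∀ r, r < D.nroots → D.nroots / 2 ≤ r → (ℓ : ℤ) ∣ ev C f2 r → ev C φ r = 0 by
    obtain ⟨φ, hφ, hker⟩ := h
    refine ⟨φ, hφ, fun r hr hd => ?_⟩
    rcases le_or_gt (D.nroots / 2) r with hp | hp
    · exact hker r hr hp hd
    · have h2 := hker _ (C.neg_lt r) (by rw [C.neg_eq r hr]; have := C.even; omega)
        (by rw [ev_neg C f2 hr, dvd_neg]; exact hd)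
      rwa [ev_neg C φ hr, neg_eq_zero] at h2
  have hcoef : ∀ r, r < D.nroots → D.nroots / 2 ≤ r → ∀ j : Fin D.rank, 0 ≤ C.coef r j.val :=
    fun r hr hp j => C.coef_pos r j hp hr j.isLt
  have hval : ∀ r, r < D.nroots → D.nroots / 2 ≤ r → (ℓ : ℤ) ∣ ev C f2 r →
      ev C f2 r = 0 ∨ ev C f2 r = ℓ := by
    intro r hr hp hd
    have h1 := hbd r hr
    have h2 : 0 ≤ ev C f2 r := Finset.sum_nonneg fun j _ => mul_nonneg (hcoef r hr hp j) (hnn j)
    rw [abs_of_nonneg h2] at h1
    obtain ⟨c, hc⟩ := hd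
    rw [hc] at h1 h2 ⊢
    have : 0 ≤ c := nonneg_of_mul_nonneg_right h2 hℓ0
    have : c ≤ 1 := by nlinarith
    interval_cases c <;> simp
  have hzero : ∀ r, r < D.nroots → D.nroots / 2 ≤ r → ev C f2 r = 0 → ∀ j, 0 < f2 j →
      C.coef r j.val = 0 := by
    intro r hr hp he j hj
    have := (Finset.sum_eq_zero_iff_of_nonneg
      fun k _ => mul_nonneg (hcoef r hr hp k) (hnn k)).1 he j (Finset.mem_univ j)
    exact (mul_eq_zero.1 this).resolve_right (by omega)
  have hfull : ∀ r, r < D.nroots → D.nroots / 2 ≤ r → ev C f2 r = ℓ → ∀ j, 0 < f2 j →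
      C.coef r j.val = C.coef (D.nroots - 1) j.val := by
    intro r hr hp he j hj
    have ht := hbd _ (top_lt nm)
    have h1 := le_trans (le_abs_self _) ht
    have h2 := ev_le_top nm hnn hr
    have h3 : ev C f2 r = ev C f2 (D.nroots - 1) := by omega
    have := (Finset.sum_eq_sum_iff_of_le fun k _ =>
      mul_le_mul_of_nonneg_right (nm.le_top ⟨r, hr⟩ k) (hnn k)).1 h3 j (Finset.mem_univ j)
    exact mul_right_cancel₀ (by omega) this
  have hsingle : ∀ (k : Fin D.rank) (c : ℤ) (r : ℕ), ev C (Pi.single k c) r = C.coef r k.val * c := by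
    intro k c r
    rw [ev, Finset.sum_eq_single k]
    · simp
    · intro b _ hb; simp [hb]
    · simp
  by_cases hj : ∃ j, j ≠ i ∧ 0 < f2 j
  · obtain ⟨j, hji, hj⟩ := hj
    set a := C.coef (D.nroots - 1) i.val with ha
    set b := C.coef (D.nroots - 1) j.val with hb
    refine ⟨Pi.single i b - Pi.single j a, fun h => ?_, fun r hr hp hd => ?_⟩
    · have := congrFun h i
      simp [Pi.single_apply, Ne.symm hji] at this
      have := nm.two_le_top j
      omega
    · rw [ev_sub, hsingle, hsingle]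
      rcases hval r hr hp hd with he | he
      · rw [hzero r hr hp he i hi, hzero r hr hp he j hj]; simp
      · rw [hfull r hr hp he i hi, hfull r hr hp he j hj]; ring
  · push Not at hj
    refine ⟨Pi.single i 1, by simp, fun r hr hp hd => ?_⟩
    rw [hsingle, mul_one]
    rcases hval r hr hp hd with he | he
    · exact hzero r hr hp he i hi
    · exfalso
      have hone : ∀ k, k ≠ i → f2 k = 0 := fun k hk => le_antisymm (hj k hk) (hnn k)
      have he' : C.coef r i.val * f2 i = ℓ := by
        rw [← he, ev, Finset.sum_eq_single i]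
        · rfl
        · intro b _ hb; rw [hone b hb, smul_zero]
        · simp
      have hc0 := hcoef r hr hp i
      have hcm : C.coef r i.val ≤ m := (nm.le_top ⟨r, hr⟩ i).trans (nm.top_le i)
      have hdiv : (C.coef r i.val).natAbs ∣ ℓ := by
        have : C.coef r i.val ∣ (ℓ : ℤ) := ⟨_, he'.symm⟩
        simpa using Int.natAbs_dvd_natAbs.2 this
      rcases hℓ.eq_one_or_self_of_dvd _ hdiv with h1 | h1
      · have hfi : f2 i = ℓ := by
          have : C.coef r i.val = 1 := by omega
          rwa [this, one_mul] at he'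
        refine hf fun j => ?_
        have h1 := hcg _ (X.img_lt v⁻¹ (X.simple_lt j.isLt))
        rw [X.img_img_inv, ev_simple] at h1
        have h2 : (ℓ : ℤ) ∣ ev C f2 (X.img v⁻¹ (D.simple j.val)) :=
          Finset.dvd_sum fun k _ => by
            by_cases hk : k = i
            · rw [hk, hfi]; exact dvd_mul_left _ _
            · rw [hone k hk, smul_zero]; exact dvd_zero _
        simpa using dvd_sub h2 h1
      · omega

include nm hs in
/-- A functional with no root value divisible by `N` has trivial stabiliser modulo `N`. -/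
theorem no_fix {N : ℤ} (hN : 0 < N) (f : Fin D.rank → ℤ)
    (hf : ∀ s, s < D.nroots → ¬ N ∣ ev C f s) (v : X.W)
    (hv : ∀ s, s < D.nroots → N ∣ ev C f (X.img v s) - ev C f s) : v = 1 := by
  obtain ⟨u, f2, hnn, hbd, hcg⟩ := normal_form nm X hs f hN
  have hnd : ∀ s, s < D.nroots → ¬ N ∣ ev C f2 s := fun s hs' hd =>
    hf _ (X.img_lt u hs') (by simpa using dvd_sub hd (hcg s hs'))
  have hlt : ∀ s, s < D.nroots → -N < ev C f2 s ∧ ev C f2 s < N := by
    intro s hs'
    have h1 := abs_le.1 (hbd s hs')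
    refine ⟨lt_of_le_of_ne h1.1 fun h => hnd s hs' ?_, lt_of_le_of_ne h1.2 fun h => hnd s hs' ?_⟩
    · rw [← h]; exact dvd_neg.2 dvd_rfl
    · rw [h]
  set v' := u⁻¹ * v * u with hv'
  have hfix : ∀ s, s < D.nroots → N ∣ ev C f2 (X.img v' s) - ev C f2 s := by
    intro s hs'
    have h1 := hcg _ (X.img_lt v' hs')
    have h2 := hv _ (X.img_lt u hs')
    have h3 := hcg s hs'
    have e : X.img u (X.img v' s) = X.img v (X.img u s) := by
      rw [hv', X.img_mul, X.img_mul, X.img_img_inv]
    rw [e] at h1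
    simpa using dvd_sub (dvd_add h1 h2) h3
  have hpos : ∀ i, 0 < f2 i := fun i => lt_of_le_of_ne (hnn i) fun h =>
    hnd _ (X.simple_lt i.isLt) (by rw [ev_simple, ← h]; exact dvd_zero N)
  have hsign : ∀ s, s < D.nroots → D.nroots / 2 ≤ s → 0 < ev C f2 s := by
    intro s hs' hp
    refine lt_of_le_of_ne (Finset.sum_nonneg fun j _ =>
      mul_nonneg (C.coef_pos s j hp hs' j.isLt) (hnn j)) fun h => hnd s hs' ?_
    rw [show ev C f2 s = 0 from h.symm]; exact dvd_zero N
  choose g hg using fun i : Fin D.rank => hfix _ (X.simple_lt i.isLt)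
  have hlin : ∀ s, s < D.nroots → ev C f2 (X.img v' s) - ev C f2 s = N * ev C g s := by
    intro s hs'
    have e : wact C X v' f2 = f2 + N • g := funext fun i => by
      have := hg i
      rw [ev_simple] at this
      simp only [wact, Pi.add_apply, Pi.smul_apply, smul_eq_mul]
      linarith
    rw [← ev_wact C X v' f2 hs', e, ev_add, ev_zsmul, smul_eq_mul, add_sub_cancel_left]
  have hg01 : ∀ i, g i = 0 ∨ g i = -1 := by
    intro i
    have h1 := hlin _ (X.simple_lt i.isLt)
    rw [ev_simple, ev_simple] at h1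
    have h2 := hlt _ (X.img_lt v' (X.simple_lt i.isLt))
    have h3 := hlt _ (X.simple_lt i.isLt)
    rw [ev_simple] at h3
    have h4 := hpos i
    have : g i < 1 := by nlinarith
    have : -2 < g i := by nlinarith
    omega
  have hg0 : g = 0 := by
    funext i
    rcases hg01 i with h | h
    · exact h
    exfalso
    have h1 := hlin _ (top_lt nm)
    have h2 := hlt _ (X.img_lt v' (top_lt nm))
    have h3 := hlt _ (top_lt nm)
    have h4 : ev C g (D.nroots - 1) ≤ -2 := by
      rw [ev, ← Finset.add_sum_erase _ _ (Finset.mem_univ i), h]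
      have h5 : ∑ j ∈ (Finset.univ : Finset (Fin D.rank)).erase i,
          C.coef (D.nroots - 1) j.val • g j ≤ 0 := Finset.sum_nonpos fun j _ => by
        have := nm.two_le_top j
        rcases hg01 j with e | e <;> simp [e] <;> omega
      have := nm.two_le_top i
      simp only [smul_eq_mul] at h5 ⊢
      linarith
    nlinarith
  have hv1 : v' = 1 := by
    refine X.inv_eq_zero_iff.mp (Finset.card_eq_zero.2 (Finset.eq_empty_of_forall_notMem fun r hr => ?_))
    obtain ⟨hr1, hr2⟩ := X.mem_invSet.1 hr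
    have h1 := hlin r hr1.1
    rw [hg0, ev_zero, mul_zero] at h1
    have h2 := hsign r hr1.1 ((X.pos_iff_le hr1.1).1 hr1)
    have h3 := hsign _ (C.neg_lt (X.img v' r))
      ((X.pos_iff_le (C.neg_lt _)).1 ((X.pos_neg_iff (X.img_lt v' hr1.1)).2 hr2))
    rw [ev_neg C f2 (X.img_lt v' hr1.1)] at h3
    omega
  rw [hv', show u⁻¹ * v * u = u⁻¹ * v * (u⁻¹)⁻¹ by rw [inv_inv], conj_eq_one_iff] at hv1
  exact hv1

end Cfsg.Agent.ChevRootCoord68
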