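import Cfsg.Agent.Lib.ChevCoxTorus68

/-!
Integer functionals on root systems with minuscule nodes: dominant representatives, vanishing sets of
eigenfunctionals modulo a prime, and stabilisers modulo the coroot lattice.
-/

set_option autoImplicit false

namespace Cfsg.Agent.ChevRootFn14

open Cfsg.Lie Cfsg.Agent.ChevalleyCert Cfsg.Agent.ChevWeyl Cfsg.Agent.ChevBruhat
  Cfsg.Agent.ChevRootCoord68
open Cfsg.Agent.ChevalleyTorusCard (Smith act act_mul act_one act_add)
open Cfsg.Agent.ChevCoxTorus68 (Pm act_Pm Pm_pow)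

variable {D : ChevalleyDatum} (C : Cert D)

/-- numerical properties of the root tables -/
structure Tab (m : ℕ) : Prop where
  rank_pos : 0 < D.rank
  orth : ∀ i j : Fin D.rank, i ≠ j →
    ∑ s : Fin D.nroots, C.coef s.val j.val * D.cartan i.val s.val = 0
  norm_pos : ∀ i : Fin D.rank, 0 < ∑ s : Fin D.nroots, C.coef s.val i.val * D.cartan i.val s.val
  pos_sum : ∀ i : Fin D.rank,
    ∑ s : Fin D.nroots, (if D.nroots / 2 ≤ s.val then D.cartan i.val s.val else 0) = 2
  one_le_top : ∀ j : Fin D.rank, 1 ≤ C.coef (D.nroots - 1) j.val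
  top_le : ∀ j : Fin D.rank, C.coef (D.nroots - 1) j.val ≤ m
  le_top : ∀ (s : Fin D.nroots) (j : Fin D.rank), C.coef s.val j.val ≤ C.coef (D.nroots - 1) j.val

variable {C} {m : ℕ} (nm : Tab C m) (X : Weyl D) (hs : suppCheck D = true)

include nm in
theorem sum_ev_cartan (g : Fin D.rank → ℤ) (i : Fin D.rank) :
    ∑ s : Fin D.nroots, ev C g s.val * D.cartan i.val s.val =
      g i * ∑ s : Fin D.nroots, C.coef s.val i.val * D.cartan i.val s.val := by
  simp only [ev, smul_eq_mul, Finset.sum_mul]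
  rw [Finset.sum_comm, Finset.sum_eq_single i]
  · rw [Finset.mul_sum]; exact Finset.sum_congr rfl fun s _ => by ring
  · intro j _ hj
    rw [← mul_zero (g j), ← nm.orth i j (Ne.symm hj), Finset.mul_sum]
    exact Finset.sum_congr rfl fun s _ => by ring
  · simp

include nm hs in
/-- Up to the Weyl group and translation by `N`, a functional lies in the closure of the fundamental
alcove scaled by `N`. -/
theorem normal_form (f : Fin D.rank → ℤ) {N : ℤ} (hN : 0 < N) :
    ∃ (v : X.W) (f2 : Fin D.rank → ℤ), (∀ j, 0 ≤ f2 j) ∧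
      (∀ s, s < D.nroots → |ev C f2 s| ≤ N) ∧
      ∀ s, s < D.nroots → N ∣ ev C f2 s - ev C f (X.img v s) := by
  classical
  let Φ : (Fin D.rank → ℤ) → ℤ := fun g => ∑ s : Fin D.nroots, (ev C (f + N • g) s.val) ^ 2
  set g0 := Function.argmin fun g => (Φ g).toNat with hg0
  have hmin : ∀ g, Φ g0 ≤ Φ g := by
    intro g
    have h := Function.not_lt_argmin (fun g => (Φ g).toNat) g
    have h0 : ∀ g, 0 ≤ Φ g := fun g => Finset.sum_nonneg fun s _ => sq_nonneg _
    have := h0 g
    have := h0 g0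
    rw [← hg0] at h
    omega
  obtain ⟨f', hf'⟩ : ∃ f', f + N • g0 = f' := ⟨_, rfl⟩
  have hle : ∀ s, s < D.nroots → ev C f' s ≤ N := by
    intro r hr
    obtain ⟨v, i, hvi⟩ :=
      Sys.exists_root_img (ChevBruhatInstance.mkSys (F := ℚ) C X hs) hr
    change X.W at v
    change X.img v (D.simple i.val) = r at hvi
    let a : Fin D.rank → ℤ := fun j => D.cartan i.val (D.simple j.val)
    have ha : ∀ s, s < D.nroots → ev C a s = D.cartan i.val s := fun s hs' =>
      (sum_coef_cartan C i hs').symm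
    let g := wact C X v f'
    have hgi : g i = ev C f' r := by rw [← hvi]; rfl
    set k := ∑ s : Fin D.nroots, C.coef s.val i.val * D.cartan i.val s.val with hk
    have hkpos : 0 < k := nm.norm_pos i
    have e1 : Φ g0 = ∑ s : Fin D.nroots, (ev C g s.val) ^ 2 := by
      show ∑ s : Fin D.nroots, (ev C (f + N • g0) s.val) ^ 2 = _
      rw [hf', ← sum_img X v fun s => (ev C f' s) ^ 2]
      exact Finset.sum_congr rfl fun s _ => by rw [ev_wact C X v f' s.isLt]
    have e2 : Φ (g0 - wact C X v⁻¹ a) =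
        ∑ s : Fin D.nroots, (ev C g s.val - N * D.cartan i.val s.val) ^ 2 := by
      show ∑ s : Fin D.nroots, (ev C (f + N • (g0 - wact C X v⁻¹ a)) s.val) ^ 2 = _
      rw [← sum_img X v fun s => (ev C (f + N • (g0 - wact C X v⁻¹ a)) s) ^ 2]
      refine Finset.sum_congr rfl fun s _ => ?_
      rw [smul_sub, ← add_sub_assoc, hf', ev_sub, ev_zsmul, ← ev_wact C X v f' s.isLt,
        ← ev_wact C X v (wact C X v⁻¹ a) s.isLt, wact_inv, ha _ s.isLt, smul_eq_mul]
    have e3 : ∑ s : Fin D.nroots, D.cartan i.val s.val ^ 2 = 2 * k := by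
      have := sum_ev_cartan nm a i
      rw [show a i = 2 from ChevalleyRoots.cartan_self C i.isLt] at this
      rw [← this]
      exact Finset.sum_congr rfl fun s _ => by rw [ha _ s.isLt, sq]
    have e4 : ∑ s : Fin D.nroots, (ev C g s.val - N * D.cartan i.val s.val) ^ 2 =
        (∑ s : Fin D.nroots, (ev C g s.val) ^ 2) - 2 * N * (g i * k) + N ^ 2 * (2 * k) := by
      rw [← e3, hk, ← sum_ev_cartan nm g i, Finset.mul_sum, Finset.mul_sum, ← Finset.sum_sub_distrib,
        ← Finset.sum_add_distrib]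
      exact Finset.sum_congr rfl fun s _ => by ring
    have h := hmin (g0 - wact C X v⁻¹ a)
    rw [e1, e2, e4] at h
    rw [← hgi]
    by_contra hcon
    have : N < g i := not_le.1 hcon
    have : 0 < (2 * N * k) * (g i - N) := by
      apply mul_pos <;> [positivity; omega]
    linarith
  have : Nonempty X.W := ⟨1⟩
  let R : X.W → ℤ := fun v =>
    ∑ s : Fin D.nroots, if D.nroots / 2 ≤ s.val then ev C f' (X.img v s.val) else 0
  obtain ⟨v, hv⟩ := Finite.exists_max R
  refine ⟨v, wact C X v f', fun i => ?_, fun s hs' => ?_, fun s hs' => ?_⟩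
  · have h := hv (v * X.C.simple i)
    have e : R (v * X.C.simple i) = R v - wact C X v f' i * 2 := by
      simp only [R]
      rw [← nm.pos_sum i, Finset.mul_sum, ← Finset.sum_sub_distrib]
      refine Finset.sum_congr rfl fun s _ => ?_
      by_cases hp : D.nroots / 2 ≤ s.val
      · rw [if_pos hp, if_pos hp, if_pos hp, X.img_mul, X.img_simple i s.isLt,
          ← ev_wact C X v f' (X.root_facts' s.isLt i.isLt).2.2.1, ev_reflect C _ i s.isLt,
          ← ev_wact C X v f' s.isLt, smul_eq_mul]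
        ring
      · rw [if_neg hp, if_neg hp, if_neg hp]; simp
    omega
  · rw [ev_wact C X v f' hs', abs_le]
    have h1 := hle _ (X.img_lt v hs')
    have h2 := hle _ (C.neg_lt (X.img v s))
    rw [ev_neg C f' (X.img_lt v hs')] at h2
    omega
  · rw [ev_wact C X v f' hs', ← hf', ev_add, ev_zsmul, add_sub_cancel_left, smul_eq_mul]
    exact dvd_mul_right N _

include nm in
theorem top_lt : D.nroots - 1 < D.nroots := by
  rcases Nat.eq_zero_or_pos D.nroots with h | h
  · have : IsEmpty (Fin D.nroots) := by rw [h]; infer_instance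
    have := nm.pos_sum ⟨0, nm.rank_pos⟩
    rw [Fintype.sum_empty] at this
    norm_num at this
  · omega

include nm in
theorem ev_le_top {f : Fin D.rank → ℤ} (hf : ∀ j, 0 ≤ f j) {s : ℕ} (hs' : s < D.nroots) :
    ev C f s ≤ ev C f (D.nroots - 1) :=
  Finset.sum_le_sum fun j _ => by
    simp only [smul_eq_mul]
    exact mul_le_mul_of_nonneg_right (nm.le_top ⟨s, hs'⟩ j) (hf j)


include nm in
/-- every functional has a dominant conjugate -/
theorem exists_dom (f : Fin D.rank → ℤ) : ∃ v : X.W, ∀ j, 0 ≤ wact C X v f j := by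
  classical
  have : Nonempty X.W := ⟨1⟩
  let R : X.W → ℤ := fun v =>
    ∑ s : Fin D.nroots, if D.nroots / 2 ≤ s.val then ev C f (X.img v s.val) else 0
  obtain ⟨v, hv⟩ := Finite.exists_max R
  refine ⟨v, fun i => ?_⟩
  have h := hv (v * X.C.simple i)
  have e : R (v * X.C.simple i) = R v - wact C X v f i * 2 := by
    simp only [R]
    rw [← nm.pos_sum i, Finset.mul_sum, ← Finset.sum_sub_distrib]
    refine Finset.sum_congr rfl fun s _ => ?_
    by_cases hp : D.nroots / 2 ≤ s.val
    · rw [if_pos hp, if_pos hp, if_pos hp, X.img_mul, X.img_simple i s.isLt,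
        ← ev_wact C X v f (X.root_facts' s.isLt i.isLt).2.2.1, ev_reflect C _ i s.isLt,
        ← ev_wact C X v f s.isLt, smul_eq_mul]
      ring
    · rw [if_neg hp, if_neg hp, if_neg hp]; simp
  omega

include nm X hs in
/-- The roots on which a functional vanishes modulo a large prime are the roots on which an integer
functional vanishes, which is congruent to a nonzero multiple of the given one. -/
theorem exists_int_zero {ℓ : ℕ} (hℓ : ℓ.Prime) (hm : m < ℓ) (f : Fin D.rank → ℤ) :
    ∃ (φ : Fin D.rank → ℤ) (c : ℤ), ¬ (ℓ : ℤ) ∣ c ∧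
      (∀ s, s < D.nroots → (ℓ : ℤ) ∣ ev C φ s - c * ev C f s) ∧
      ∀ s, s < D.nroots → ((ℓ : ℤ) ∣ ev C f s ↔ ev C φ s = 0) := by
  have hℓ0 : (0 : ℤ) < ℓ := Int.natCast_pos.2 hℓ.pos
  have hℓ1 : ¬ (ℓ : ℤ) ∣ 1 := fun h => by
    have h' := Int.le_of_dvd one_pos h
    have := hℓ.two_le
    omega
  obtain ⟨v, f2, hnn, hbd, hcg⟩ := normal_form nm X hs f hℓ0
  suffices h : ∃ (φ : Fin D.rank → ℤ) (c : ℤ), ¬ (ℓ : ℤ) ∣ c ∧
      (∀ s, s < D.nroots → (ℓ : ℤ) ∣ ev C φ s - c * ev C f2 s) ∧
      ∀ s, s < D.nroots → (ℓ : ℤ) ∣ ev C f2 s → ev C φ s = 0 by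
    obtain ⟨φ, c, hc, h1, h2⟩ := h
    have hiff : ∀ s, s < D.nroots → ((ℓ : ℤ) ∣ ev C f2 s ↔ (ℓ : ℤ) ∣ ev C f (X.img v s)) :=
      fun s hs' => dvd_iff_dvd_of_dvd_sub (hcg s hs')
    have h0 : ∀ s, s < D.nroots →
        (ℓ : ℤ) ∣ ev C (wact C X v⁻¹ φ) s - c * ev C f s := by
      intro s hs'
      have hl := X.img_lt v⁻¹ hs'
      have e := hcg _ hl
      rw [X.img_img_inv] at e
      rw [ev_wact C X v⁻¹ φ hs']
      have := dvd_add (h1 _ hl) (e.mul_left c)
      rwa [mul_sub, sub_add_sub_cancel] at this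
    refine ⟨wact C X v⁻¹ φ, c, hc, h0, fun s hs' => ⟨fun hd => ?_, fun hz => ?_⟩⟩
    · rw [ev_wact C X v⁻¹ φ hs']
      refine h2 _ (X.img_lt _ hs') ((hiff _ (X.img_lt _ hs')).2 ?_)
      rwa [X.img_img_inv]
    · have := h0 s hs'
      rw [hz, zero_sub, dvd_neg] at this
      exact ((Nat.prime_iff_prime_int.1 hℓ).dvd_or_dvd this).resolve_left hc
  have habs : ∀ s, s < D.nroots → (ℓ : ℤ) ∣ ev C f2 s →
      ev C f2 s = 0 ∨ ev C f2 s = ℓ ∨ ev C f2 s = -ℓ := by
    intro s hs' hd
    obtain ⟨k, hk⟩ := hd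
    have h1 := abs_le.1 (hbd s hs')
    have : -1 ≤ k := by nlinarith
    have : k ≤ 1 := by nlinarith
    interval_cases k <;> simp [hk]
  rcases lt_or_ge (ev C f2 (D.nroots - 1)) (ℓ : ℤ) with htop | htop
  · refine ⟨f2, 1, hℓ1, fun s _ => by simp, fun s hs' hd => ?_⟩
    have h1 := ev_le_top nm hnn hs'
    have h2 := ev_le_top nm hnn (C.neg_lt s)
    rw [ev_neg C f2 hs'] at h2
    rcases habs s hs' hd with e | e | e <;> omega
  · obtain ⟨i, hi⟩ : ∃ i, 0 < f2 i := by
      by_contra hcon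
      push Not at hcon
      have : ev C f2 (D.nroots - 1) = 0 := Finset.sum_eq_zero fun j _ => by
        rw [le_antisymm (hcon j) (hnn j), smul_zero]
      omega
    set t := C.coef (D.nroots - 1) i.val with ht
    have ht1 : 1 ≤ t := nm.one_le_top i
    have ht2 : t ≤ m := nm.top_le i
    have htc : ¬ (ℓ : ℤ) ∣ t := fun h => by
      have := Int.le_of_dvd (by omega) h
      omega
    have hev : ∀ s, ev C (t • f2 - (ℓ : ℤ) • Pi.single i 1) s = t * ev C f2 s - ℓ * C.coef s i.val := by
      intro s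
      rw [ev_sub, ev_zsmul, ev_zsmul, smul_eq_mul, smul_eq_mul]
      congr 2
      rw [ev, Finset.sum_eq_single i]
      · simp
      · intro b _ hb; simp [hb]
      · simp
    refine ⟨t • f2 - (ℓ : ℤ) • Pi.single i 1, t, htc, fun s _ => by rw [hev]; simp, ?_⟩
    have hpos : ∀ s, s < D.nroots → D.nroots / 2 ≤ s → (ℓ : ℤ) ∣ ev C f2 s →
        ev C (t • f2 - (ℓ : ℤ) • Pi.single i 1) s = 0 := by
      intro r hr hp hd
      have hcoef : ∀ j : Fin D.rank, 0 ≤ C.coef r j.val := fun j => C.coef_pos r j hp hr j.isLt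
      have h0 : 0 ≤ ev C f2 r := Finset.sum_nonneg fun k _ => mul_nonneg (hcoef k) (hnn k)
      rcases habs r hr hd with e | e | e
      · have := (Finset.sum_eq_zero_iff_of_nonneg
          fun k _ => mul_nonneg (hcoef k) (hnn k)).1 e i (Finset.mem_univ i)
        rw [hev, e, (mul_eq_zero.1 this).resolve_right (by omega), mul_zero, mul_zero, sub_zero]
      · have h1 := le_trans (le_abs_self _) (hbd _ (top_lt nm))
        have h3 : ev C f2 r = ev C f2 (D.nroots - 1) := by omega
        have := (Finset.sum_eq_sum_iff_of_le fun k _ =>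
          mul_le_mul_of_nonneg_right (nm.le_top ⟨r, hr⟩ k) (hnn k)).1 h3 i (Finset.mem_univ i)
        rw [hev, e, mul_right_cancel₀ (by omega) this, ← ht]
        ring
      · omega
    intro s hs' hd
    rcases le_or_gt (D.nroots / 2) s with hp | hp
    · exact hpos s hs' hp hd
    · have := hpos _ (C.neg_lt s) (by rw [C.neg_eq s hs']; have := C.even; omega)
        (by rw [ev_neg C f2 hs', dvd_neg]; exact hd)
      rwa [ev_neg C _ hs', neg_eq_zero] at this

section Lattice

variable {d : ℕ} (Sm : Smith D d 1)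

theorem Pm_mul (v w : X.W) : Pm C X (v * w) = Pm C X w * Pm C X v := by
  have hext : ∀ A B : Matrix (Fin D.rank) (Fin D.rank) ℤ,
      (∀ f : Fin D.rank → ℤ, act A f = act B f) → A = B := fun A B h => Matrix.ext fun j k => by
    simpa [act, Pi.single_apply] using congrFun (h (Pi.single k 1)) j
  refine hext _ _ fun f => ?_
  rw [act_Pm, wact_mul, act_mul, act_Pm, act_Pm]

theorem Pm_one : Pm C X 1 = 1 := by
  simpa using Pm_pow C X 1 0

theorem Pm_simple (i : Fin D.rank) :
    Pm C X (X.C.simple i) = 1 + Sm.A * (- Matrix.single i i 1) := by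
  ext j k
  rw [Matrix.add_apply, Matrix.mul_neg, Matrix.neg_apply]
  have h : Pm C X (X.C.simple i) j k =
      ev C (Pi.single k 1) (D.reflectRoot i.val (D.simple j.val)) := by
    rw [Pm, Matrix.of_apply, X.img_simple i (X.simple_lt j.isLt), ev, Finset.sum_eq_single k]
    · simp
    · intro b _ hb; simp [hb]
    · simp
  rw [h, ev_reflect C _ i (X.simple_lt j.isLt), ev_simple, smul_eq_mul, ← Sm.hA]
  by_cases hk : k = i
  · subst hk
    simp [Matrix.one_apply, Pi.single_apply, sub_eq_add_neg]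
  · simp [hk, Matrix.one_apply, Pi.single_apply, Ne.symm hk]

/-- `w - 1` maps into the image of the Cartan matrix. -/
theorem exists_K (w : X.W) : ∃ K, Pm C X w = 1 + Sm.A * K := by
  induction w using X.w_induction with
  | one => exact ⟨0, by simp [Pm_one]⟩
  | step i w ih =>
    obtain ⟨K, hK⟩ := ih
    set E : Matrix (Fin D.rank) (Fin D.rank) ℤ := - Matrix.single i i 1
    refine ⟨K + E + K * Sm.A * E, ?_⟩
    rw [Pm_mul, hK, Pm_simple X Sm]
    simp only [Matrix.mul_add, Matrix.add_mul, Matrix.one_mul, Matrix.mul_one, Matrix.mul_assoc]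
    abel

include nm hs in
/-- A functional from the coroot lattice without root value divisible by `N` has trivial stabiliser
modulo `N` times the coroot lattice. -/
theorem no_fix (hmin : ∀ i : Fin D.rank, C.coef (D.nroots - 1) i.val = 1 → ¬ (d : ℤ) ∣ Sm.U 0 i)
    {N : ℤ} (hN : 0 < N) (f : Fin D.rank → ℤ)
    (hf : ∀ s, s < D.nroots → ¬ N ∣ ev C f s) (v : X.W) (z : Fin D.rank → ℤ)
    (hv : wact C X v f = f + N • act Sm.A z) : v = 1 := by
  obtain ⟨u, f2, hnn, hbd, hcg⟩ := normal_form nm X hs f hN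
  have hnd : ∀ s, s < D.nroots → ¬ N ∣ ev C f2 s := fun s hs' hd =>
    hf _ (X.img_lt u hs') (by simpa using dvd_sub hd (hcg s hs'))
  have hlt : ∀ s, s < D.nroots → -N < ev C f2 s ∧ ev C f2 s < N := by
    intro s hs'
    have h1 := abs_le.1 (hbd s hs')
    refine ⟨lt_of_le_of_ne h1.1 fun h => hnd s hs' ?_, lt_of_le_of_ne h1.2 fun h => hnd s hs' ?_⟩
    · rw [← h]; exact dvd_neg.2 dvd_rfl
    · rw [h]
  have hpos : ∀ i, 0 < f2 i := fun i => lt_of_le_of_ne (hnn i) fun h =>
    hnd _ (X.simple_lt i.isLt) (by rw [ev_simple, ← h]; exact dvd_zero N)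
  have hsign : ∀ s, s < D.nroots → D.nroots / 2 ≤ s → 0 < ev C f2 s := by
    intro s hs' hp
    refine lt_of_le_of_ne (Finset.sum_nonneg fun j _ =>
      mul_nonneg (C.coef_pos s j hp hs' j.isLt) (hnn j)) fun h => hnd s hs' ?_
    rw [show ev C f2 s = 0 from h.symm]; exact dvd_zero N
  set v' := u⁻¹ * v * u with hv'
  -- `f2` differs from the conjugate of `f` by a multiple of `N`
  choose h hh using fun j : Fin D.rank => hcg _ (X.simple_lt j.isLt)
  have hf2 : f2 = wact C X u f + N • h := funext fun j => by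
    have := hh j
    rw [ev_simple] at this
    simp only [Pi.add_apply, Pi.smul_apply, smul_eq_mul, wact]
    linarith
  have hlin : ∀ w : X.W, ∀ a b : Fin D.rank → ℤ, wact C X w (a + N • b) = wact C X w a + N • wact C X w b := by
    intro w a b; funext j; simp only [wact, Pi.add_apply, Pi.smul_apply, ev_add, ev_zsmul]
  obtain ⟨Ku, hKu⟩ := exists_K (C := C) X Sm u
  obtain ⟨Kv, hKv⟩ := exists_K (C := C) X Sm v'
  obtain ⟨g, hgA, hg⟩ : ∃ g, (∃ y, g = act Sm.A y) ∧ wact C X v' f2 = f2 + N • g := by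
    refine ⟨wact C X u (act Sm.A z) + (wact C X v' h - h), ⟨z + act (Ku * Sm.A) z + act Kv h, ?_⟩, ?_⟩
    · rw [← act_Pm, ← act_Pm, hKu, hKv]
      simp only [act_add, act_one, act_mul, add_sub_cancel_left]
      funext j
      simp [act, Finset.sum_add_distrib, mul_add]
    · have e : wact C X v' (wact C X u f) = wact C X u f + N • wact C X u (act Sm.A z) := by
        rw [hv', wact_mul, wact_mul, wact_inv' C X u f, hv, hlin]
      rw [hf2, hlin, e, smul_add, smul_sub]
      abel
  have hevg : ∀ s, s < D.nroots → ev C f2 (X.img v' s) - ev C f2 s = N * ev C g s := by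
    intro s hs'
    rw [← ev_wact C X v' f2 hs', hg, ev_add, ev_zsmul, smul_eq_mul, add_sub_cancel_left]
  have hg01 : ∀ i, g i = 0 ∨ g i = -1 := by
    intro i
    have h1 := hevg _ (X.simple_lt i.isLt)
    rw [ev_simple, ev_simple] at h1
    have h2 := hlt _ (X.img_lt v' (X.simple_lt i.isLt))
    have h3 := hlt _ (X.simple_lt i.isLt)
    rw [ev_simple] at h3
    have h4 := hpos i
    have : g i < 1 := by nlinarith
    have : -2 < g i := by nlinarith
    omega
  have hg0 : g = 0 := by
    funext i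
    rcases hg01 i with h' | h'
    · exact h'
    exfalso
    have h1 := hevg _ (top_lt nm)
    have h2 := hlt _ (X.img_lt v' (top_lt nm))
    have h3 := hlt _ (top_lt nm)
    have h4 : -2 < ev C g (D.nroots - 1) := by nlinarith
    have hterm : ∀ j, C.coef (D.nroots - 1) j.val • g j ≤ 0 := fun j => by
      have := nm.one_le_top j
      rcases hg01 j with e | e <;> simp [e]
      omega
    rw [ev, ← Finset.add_sum_erase _ _ (Finset.mem_univ i), h'] at h4
    have h5 : ∑ j ∈ (Finset.univ : Finset (Fin D.rank)).erase i,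
        C.coef (D.nroots - 1) j.val • g j ≤ 0 := Finset.sum_nonpos fun j _ => hterm j
    have := nm.one_le_top i
    simp only [smul_eq_mul] at h4 h5 hterm
    have ht1 : C.coef (D.nroots - 1) i.val = 1 := by omega
    have hrest := (Finset.sum_eq_zero_iff_of_nonpos fun j _ => hterm j).1
      (show ∑ j ∈ (Finset.univ : Finset (Fin D.rank)).erase i, C.coef (D.nroots - 1) j.val * g j = 0
        by omega)
    have hgi : g = - Pi.single i 1 := funext fun j => by
      by_cases hj : j = i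
      · subst hj; simp [h']
      · have h7 := hrest j (Finset.mem_erase.2 ⟨hj, Finset.mem_univ _⟩)
        have := nm.one_le_top j
        simpa [hj] using (mul_eq_zero.1 h7).resolve_left (by omega)
    obtain ⟨y, hy⟩ := hgA
    refine hmin i ht1 ⟨- (act Sm.P y) 0, ?_⟩
    have h6 := congrFun (congrArg (fun B : Matrix (Fin 1) (Fin D.rank) ℤ => act B y) Sm.h3) (0 : Fin 1)
    simp only [act_mul] at h6
    rw [← hy, hgi] at h6
    simp [act, Pi.single_apply, Finset.mul_sum] at h6 ⊢
    simp only [← mul_assoc]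
    linarith
  have hv1 : v' = 1 := by
    refine X.inv_eq_zero_iff.mp (Finset.card_eq_zero.2 (Finset.eq_empty_of_forall_notMem fun r hr => ?_))
    obtain ⟨hr1, hr2⟩ := X.mem_invSet.1 hr
    have h1 := hevg r hr1.1
    rw [hg0, ev_zero, mul_zero] at h1
    have h2 := hsign r hr1.1 ((X.pos_iff_le hr1.1).1 hr1)
    have h3 := hsign _ (C.neg_lt (X.img v' r))
      ((X.pos_iff_le (C.neg_lt _)).1 ((X.pos_neg_iff (X.img_lt v' hr1.1)).2 hr2))
    rw [ev_neg C f2 (X.img_lt v' hr1.1)] at h3
    omega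
  rw [hv', show u⁻¹ * v * u = u⁻¹ * v * (u⁻¹)⁻¹ by rw [inv_inv], conj_eq_one_iff] at hv1
  exact hv1

end Lattice

/-- A permutation whose periods are all multiples of `d` acts on a set of cardinality divisible by
`d`. -/
theorem dvd_card_of_periods {α : Type*} [Finite α] (π : Equiv.Perm α) {d : ℕ}
    (h : ∀ (x : α) (k : ℕ), (π ^ k) x = x → d ∣ k) : d ∣ Nat.card α := by
  classical
  have := Fintype.ofFinite α
  rw [Nat.card_congr (MulAction.selfEquivSigmaOrbits (Subgroup.zpowers π) α), Nat.card_sigma]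
  refine Finset.dvd_sum fun ω _ => ?_
  rw [Nat.card_eq_fintype_card, ← MulAction.minimalPeriod_eq_card]
  refine h ω.out _ ?_
  have := MulAction.pow_smul_eq_iff_minimalPeriod_dvd (a := π) (b := ω.out)
    (n := Function.minimalPeriod (π • ·) ω.out)
  exact this.2 dvd_rfl

include nm in
/-- A stable set of roots of nonzero value modulo `ℓ` has cardinality divisible by the order of the
eigenvalue. -/
theorem dvd_card_stable {ℓ : ℕ} [Fact ℓ.Prime] (f : Fin D.rank → ℤ) (w : X.W) (q : ℕ) {d : ℕ}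
    (hq : orderOf (q : ZMod ℓ) = d)
    (heig : ∀ s, s < D.nroots → (ℓ : ℤ) ∣ ev C f (X.img w s) - q * ev C f s)
    (T : Finset (Fin D.nroots)) (hT : ∀ s : Fin D.nroots, X.ρ w s ∈ T ↔ s ∈ T)
    (hne : ∀ s ∈ T, ¬ (ℓ : ℤ) ∣ ev C f s.val) : d ∣ T.card := by
  classical
  have := top_lt nm
  let π : Equiv.Perm T := (X.ρ w).subtypePerm hT
  rw [← Fintype.card_coe, ← Nat.card_eq_fintype_card]
  refine dvd_card_of_periods π fun x k hk => ?_
  have hpow : ∀ (k : ℕ), ((π ^ k) x).1 = (X.ρ w ^ k) x.1 := fun k => by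
    rw [Equiv.Perm.subtypePerm_pow, Equiv.Perm.subtypePerm_apply]
  have hev : ∀ k : ℕ, ((ev C f ((X.ρ w ^ k) x.1).val : ℤ) : ZMod ℓ) = (q : ZMod ℓ) ^ k * ((ev C f x.1.val : ℤ) : ZMod ℓ) := by
    intro k
    induction k with
    | zero => simp
    | succ k ih =>
      have h1 := heig _ ((X.ρ w ^ k) x.1).isLt
      rw [← ZMod.intCast_zmod_eq_zero_iff_dvd, Int.cast_sub, sub_eq_zero, Int.cast_mul,
        Int.cast_natCast] at h1
      rw [pow_succ' (X.ρ w), Equiv.Perm.mul_apply]
      have e : ((X.ρ w) ((X.ρ w ^ k) x.1)).val = X.img w ((X.ρ w ^ k) x.1).val := by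
        rw [Weyl.img, dif_pos ((X.ρ w ^ k) x.1).isLt]
      rw [e, h1, ih, pow_succ', mul_assoc]
  have h1 := hev k
  rw [← hpow, hk] at h1
  rw [← hq]
  refine orderOf_dvd_of_pow_eq_one ?_
  have hne' : ((ev C f x.1.val : ℤ) : ZMod ℓ) ≠ 0 := fun h =>
    hne _ x.2 ((ZMod.intCast_zmod_eq_zero_iff_dvd _ ℓ).1 h)
  exact (mul_left_eq_self₀.1 h1.symm).resolve_right hne'

end Cfsg.Agent.ChevRootFn14
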