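import Cfsg.Agent.Lib.ChevBruhatInstance
import Cfsg.Agent.Lib.BNPair
import Cfsg.Agent.S1051

/-!
Simplicity of the Chevalley groups from the (B,N)-pair: a group with solvable `B`, trivial normal
core of `B`, an irreducible Weyl group and equal to its commutator subgroup is simple.
-/

set_option autoImplicit false

namespace Cfsg.Agent.ChevSimplicity
open Cfsg.Lie Cfsg.Agent.ChevBruhat Cfsg.Agent.ChevWeyl

/-- the fundamental nodes cannot be split into two orthogonal non-empty parts -/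
def NodesLinked (D : ChevalleyDatum) : Prop :=
  ∀ J : Finset (Fin D.rank), J.Nonempty → J ≠ Finset.univ →
    ∃ i ∈ J, ∃ j, j ∉ J ∧ D.pairing (D.simple i) (D.simple j) ≠ 0

variable {D : ChevalleyDatum} {F : Type*} [Field F] (S : Sys D F)

/-- the subgroup of `W` generated by the reflections at the nodes in `J` -/
def parJ (J : Finset (Fin D.rank)) : Subgroup S.X.W :=
  Subgroup.closure (S.X.C.simple '' (J : Set (Fin D.rank)))

lemma cor_parJ {J : Finset (Fin D.rank)} {x : S.X.W} (hx : x ∈ parJ S J) {j : Fin D.rank}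
    (hj : j ∉ J) : ∀ {r : ℕ}, r < D.nroots → cor D (S.X.img x r) j = cor D r j := by
  refine Subgroup.closure_induction
    (p := fun y _ => ∀ {r : ℕ}, r < D.nroots → cor D (S.X.img y r) j = cor D r j) ?_ ?_ ?_ ?_ hx
  · rintro _ ⟨s, hs, rfl⟩ r hr
    rw [S.X.img_simple s hr, (S.X.root_facts' hr s.isLt).2.2.2.2.2 j j.isLt,
      if_neg (fun h => hj (by rw [Fin.ext h]; exact hs)), sub_zero]
  · intro r _; simp
  · intro a b _ _ ha hb r hr
    rw [S.X.img_mul, ha (S.X.img_lt b hr), hb hr]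
  · intro a _ ha r hr
    have := ha (S.X.img_lt a⁻¹ hr)
    rw [S.X.img_img_inv] at this
    exact this.symm

/-- the map from the Weyl group of the (B,N)-pair to the Coxeter group -/
noncomputable def toX : ↥S.bnPair.N →* S.X.W :=
  S.toW.comp (Subgroup.subgroupOfEquivOfLe S.N_le_group).toMonoidHom

lemma toX_apply (n : ↥S.bnPair.N) :
    toX S n = S.toW ⟨((n : ↥(D.group F)) : GL D.Idx F), Subgroup.mem_subgroupOf.mp n.2⟩ := rfl

/-- the induced map on the quotient -/
noncomputable def φ : BNPairLib.W S.bnPair →* S.X.W :=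
  QuotientGroup.lift _ (toX S) (by
    intro n hn
    rw [Subgroup.mem_subgroupOf] at hn
    rw [MonoidHom.mem_ker, toX_apply]
    exact S.toW_ker.ge (S.B_inf_N.le (Subgroup.mem_inf.mpr
      ⟨Subgroup.mem_subgroupOf.mp hn.1, Subgroup.mem_subgroupOf.mp hn.2⟩)))

lemma φ_π (n : ↥S.bnPair.N) : φ S (BNPairLib.π S.bnPair n) = toX S n := rfl

/-- the distinguished representative at the node `i` -/
noncomputable def rep (i : Fin D.rank) : ↥S.bnPair.S :=
  ⟨⟨S.nn (D.simple i) 1, S.nn_mem_group (S.X.simple_lt i.isLt) _⟩, i, i.isLt, S.coe_nn _ _⟩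

lemma rep_surjective (s : ↥S.bnPair.S) : ∃ i, rep S i = s := by
  obtain ⟨i, hi⟩ := S.sSet_eq s.2
  exact ⟨i, Subtype.ext (Subtype.ext hi.symm)⟩

lemma φ_σ (i : Fin D.rank) : φ S (BNPairLib.σ S.bnPair (rep S i)) = S.X.C.simple i := by
  rw [BNPairLib.σ, φ_π, toX_apply]
  exact S.toW_eq (S.acts_simple i)

lemma not_linked_conj {J : Finset (Fin D.rank)} {i j : Fin D.rank} (hi : i ∈ J) (hj : j ∉ J)
    (hp : D.pairing (D.simple i) (D.simple j) ≠ 0) :
    S.X.C.simple j * S.X.C.simple i * S.X.C.simple j ∉ parJ S J ∧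
      S.X.C.simple j * S.X.C.simple i ∉ parJ S J := by
  have hpi := S.X.simple_lt i.isLt
  have hpj := S.X.simple_lt j.isLt
  have hji : j.val ≠ i.val := fun h => hj (by rw [Fin.ext h]; exact hi)
  have hsq : ∀ k, S.X.C.simple k * S.X.C.simple k = 1 :=
    fun k => S.X.C.toCoxeterSystem.simple_mul_simple_self k
  constructor
  · intro h
    have hq := (S.X.root_facts' hpi j.isLt).2.2.1
    have hcq : cor D (D.reflectRoot j (D.simple i)) j = - D.pairing (D.simple i) (D.simple j) := by
      rw [(S.X.root_facts' hpi j.isLt).2.2.2.2.2 j j.isLt, S.X.cor_simple i.isLt j.isLt,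
        if_neg hji, if_pos rfl, zero_sub]
    have he : S.X.img (S.X.C.simple j * S.X.C.simple i * S.X.C.simple j)
        (D.reflectRoot j (D.simple i)) = D.neg (D.reflectRoot j (D.simple i)) := by
      rw [← S.X.img_simple j hpi, ← S.X.img_mul, mul_assoc _ (S.X.C.simple j) (S.X.C.simple j),
        hsq, mul_one, S.X.img_mul, S.X.img_simple i hpi, S.X.reflect_simple i.isLt,
        S.X.img_neg _ hpi]
    have h1 := cor_parJ S h hj hq
    rw [he, (S.X.root_facts' hq j.isLt).1, hcq] at h1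
    omega
  · intro h
    have h2 : S.X.C.simple j ∈ parJ S J := by
      have hsi : S.X.C.simple i ∈ parJ S J := Subgroup.subset_closure (Set.mem_image_of_mem _ hi)
      have := mul_mem h hsi
      rwa [mul_assoc, hsq, mul_one] at this
    have h1 := cor_parJ S h2 hj hpj
    rw [S.X.img_simple j hpj, S.X.reflect_simple j.isLt, (S.X.root_facts' hpj j.isLt).1,
      S.X.cor_simple j.isLt j.isLt, if_pos rfl] at h1
    omega

lemma solvable_subgroup (hB : Group.IsSolvable ↥(D.borelSubgroup F)) :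
    Group.IsSolvable ↥S.bnPair.B := by
  have hinj : Function.Injective
      ⇑((Subgroup.subgroupOfEquivOfLe S.B_le_group).toMonoidHom) :=
    (Subgroup.subgroupOfEquivOfLe S.B_le_group).injective
  exact @Group.isSolvable_of_isSolvable_injective _ _ _ _ _ hinj hB

include S

lemma nontrivial_group (hr : 0 < D.rank) : Nontrivial ↥(D.group F) := by
  refine ⟨⟨⟨S.xg (D.simple 0) 1, S.xg_mem_group (S.X.simple_lt hr) 1⟩, 1, fun h => ?_⟩⟩
  exact one_ne_zero (S.xg_eq_one (S.X.simple_lt hr) (congrArg Subtype.val h))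

/-- simplicity of the Chevalley group -/
theorem simple_and_noncomm (C : ChevalleyCert.Cert D) (hr : 0 < D.rank) (hl : NodesLinked D)
    (hB : Group.IsSolvable ↥(D.borelSubgroup F)) (hperf : commutator ↥(D.group F) = ⊤) :
    IsSimpleGroup ↥(D.group F) ∧ ¬ IsMulCommutative ↥(D.group F) := by
  classical
  haveI := nontrivial_group S hr
  haveI := solvable_subgroup S hB
  have hnc : ¬ IsMulCommutative ↥(D.group F) := by
    intro hc
    have h : commutator ↥(D.group F) = ⊥ := by
      rw [eq_bot_iff, commutator_def, Subgroup.commutator_le]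
      intro a _ b _
      rw [Subgroup.mem_bot, commutatorElement_eq_one_iff_commute]
      exact hc.is_comm.comm a b
    rw [hperf] at h
    exact top_ne_bot h
  refine ⟨⟨fun N₀ hN₀ => ?_⟩, hnc⟩
  by_contra hcon
  push Not at hcon
  obtain ⟨hbot, htop⟩ := hcon
  set P := S.bnPair with hP
  set M : Subgroup ↥(D.group F) := N₀ ⊔ P.B with hM
  have hBM : P.B ≤ M := le_sup_right
  have hMP := BNPairLib.eq_parabolic P hBM
  set J : Finset (Fin D.rank) :=
    Finset.univ.filter fun i => ((rep S i : ↥(D.group F)) ∈ M) with hJ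
  have hJmem : ∀ i, i ∈ J ↔ (rep S i : ↥(D.group F)) ∈ M := fun i => by simp [hJ]
  -- the image in the Coxeter group of a representative lying in `M`
  have himg : ∀ w ∈ BNPairLib.WJ P {s : P.S | (s : ↥(D.group F)) ∈ {s | s ∈ P.S ∧ s ∈ M}},
      φ S w ∈ parJ S J := by
    intro w hw
    refine (Subgroup.closure_le (K := (parJ S J).comap (φ S))).2 ?_ hw
    rintro _ ⟨s, hs, rfl⟩
    obtain ⟨i, rfl⟩ := rep_surjective S s
    show φ S (BNPairLib.σ P (rep S i)) ∈ parJ S J
    rw [φ_σ]
    exact Subgroup.subset_closure ⟨i, (hJmem i).2 hs.2, rfl⟩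
  by_cases hJ0 : J = ∅
  · -- `N₀ ≤ B`
    apply hbot
    rw [eq_bot_iff]
    intro g hg
    have hMB : M ≤ P.B := by
      intro x hx
      rw [hMP, BNPairLib.mem_parabolic P (fun s hs => hs.1)] at hx
      obtain ⟨w, hw, hxw⟩ := hx
      have hw1 : w = 1 := by
        refine (Subgroup.closure_le (K := (⊥ : Subgroup (BNPairLib.W P)))).2 ?_ hw
        rintro _ ⟨s, hs, rfl⟩
        obtain ⟨i, rfl⟩ := rep_surjective S s
        exact absurd ((hJmem i).2 hs.2) (by simp [hJ0])
      subst hw1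
      exact (BNPairLib.mem_cell_one P).1 hxw
    rw [Subgroup.mem_bot]
    apply Subtype.ext
    refine S1051.eq_one_of_conj C S fun x hx => ?_
    exact hMB (Subgroup.mem_sup_left (hN₀.conj_mem g hg ⟨x, hx⟩) : (⟨x, hx⟩ : ↥(D.group F)) * g * ⟨x, hx⟩⁻¹ ∈ M)
  by_cases hJu : J = Finset.univ
  · -- `N₀ B = G`
    apply htop
    have hMtop : M = ⊤ := by
      rw [eq_top_iff, ← BNPairLib.parabolic_S P, hMP]
      refine sup_le le_sup_left ((Subgroup.closure_le _).2 fun s hs => ?_)
      obtain ⟨i, hi⟩ := rep_surjective S ⟨s, hs⟩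
      have h1 : (rep S i : ↥(D.group F)) ∈ M := (hJmem i).1 (by simp [hJu])
      rw [hi] at h1
      exact BNPairLib.rep_mem_parabolic P ⟨hs, h1⟩
    have hsurj : Function.Surjective ((QuotientGroup.mk' N₀).comp P.B.subtype) := by
      intro q
      obtain ⟨g, rfl⟩ := QuotientGroup.mk'_surjective N₀ q
      have hg : g ∈ N₀ ⊔ P.B := by rw [← hM, hMtop]; trivial
      obtain ⟨a, ha, b, hb, rfl⟩ := Subgroup.mem_sup_of_normal_left.1 hg
      refine ⟨⟨b, hb⟩, ?_⟩
      simp only [MonoidHom.comp_apply, Subgroup.coe_subtype, map_mul]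
      rw [show QuotientGroup.mk' N₀ a = 1 from (QuotientGroup.eq_one_iff a).2 ha, one_mul]
    haveI : Group.IsSolvable (↥(D.group F) ⧸ N₀) := Group.isSolvable_of_surjective hsurj
    by_contra hne
    haveI : Nontrivial (↥(D.group F) ⧸ N₀) := by
      rw [QuotientGroup.nontrivial_iff]; exact hne
    refine (Group.IsSolvable.commutator_lt_top_of_nontrivial (↥(D.group F) ⧸ N₀)).ne ?_
    have := Subgroup.map_commutator (⊤ : Subgroup ↥(D.group F)) ⊤ (QuotientGroup.mk' N₀)
    rw [← commutator_def, hperf, Subgroup.map_top_of_surjective _ (QuotientGroup.mk'_surjective N₀),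
      ← commutator_def] at this
    exact this.symm
  -- a linked pair
  obtain ⟨i, hiJ, j, hjJ, hp⟩ := hl J (Finset.nonempty_iff_ne_empty.2 hJ0) hJu
  obtain ⟨hno1, hno2⟩ := not_linked_conj S hiJ hjJ hp
  have hi : (rep S i : ↥(D.group F)) ∈ M := (hJmem i).1 hiJ
  obtain ⟨m, hm, b, hb, hmb⟩ := Subgroup.mem_sup_of_normal_left.1 hi
  set t : ↥(D.group F) := (rep S j : ↥(D.group F)) with ht
  have htS : t ∈ P.S := (rep S j).2
  have htt : t * t ∈ P.B := P.sq_mem t htS
  let nW : ↥P.N := ⟨t, P.subset htS⟩ * ⟨(rep S i : ↥(D.group F)), P.subset (rep S i).2⟩ *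
    ⟨t, P.subset htS⟩
  have hnW : φ S (BNPairLib.π P nW) = S.X.C.simple j * S.X.C.simple i * S.X.C.simple j := by
    simp only [nW, map_mul]
    exact congrArg₂ (· * ·) (congrArg₂ (· * ·) (φ_σ S j) (φ_σ S i)) (φ_σ S j)
  have hdec : (nW : ↥(D.group F)) = (t * m * t⁻¹) * (t * t) * ((t * t)⁻¹ * (t * b * t)) := by
    show t * (rep S i : ↥(D.group F)) * t = _
    rw [← hmb]; group
  have hA : (t * m * t⁻¹) * (t * t) * (t * t)⁻¹ ∈ M :=
    mul_mem (mul_mem (Subgroup.mem_sup_left (hN₀.conj_mem m hm t)) (hBM htt)) (inv_mem (hBM htt))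
  have hdec' : (nW : ↥(D.group F)) = ((t * m * t⁻¹) * (t * t) * (t * t)⁻¹) * (t * b * t) := by
    rw [hdec]; group
  rcases P.mul_mem_union t htS t (P.subset htS) b hb with h | h
  · obtain ⟨x, hx, y, hy, e⟩ := DoubleCoset.mem_doubleCoset.1 h
    have hmemM : (nW : ↥(D.group F)) ∈ M := by
      rw [hdec', e]
      exact mul_mem hA (mul_mem (mul_mem (hBM hx) (hBM htt)) (hBM hy))
    rw [hMP, BNPairLib.mem_parabolic P (fun s hs => hs.1)] at hmemM
    obtain ⟨w, hw, hwc⟩ := hmemM
    have := himg w hw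
    rw [← BNPairLib.cell_unique P (BNPairLib.self_mem_cell P nW) hwc, hnW] at this
    exact hno1 this
  · obtain ⟨x, hx, y, hy, e⟩ := DoubleCoset.mem_doubleCoset.1 h
    have hzM : ((t * m * t⁻¹) * (t * t) * (t * t)⁻¹) * x ∈ M := mul_mem hA (hBM hx)
    rw [hMP, BNPairLib.mem_parabolic P (fun s hs => hs.1)] at hzM
    obtain ⟨w, hw, hwc⟩ := hzM
    have hmem : φ S (BNPairLib.π P nW) * (S.X.C.simple j)⁻¹ ∈ parJ S J ∨
        φ S (BNPairLib.π P nW) ∈ parJ S J := by
      have hn : (nW : ↥(D.group F)) =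
          ((t * m * t⁻¹) * (t * t) * (t * t)⁻¹ * x) * (rep S j : ↥(D.group F)) * y := by
        rw [hdec', e, ← ht]; group
      rcases BNPairLib.cell_mul_rep P (rep S j) hwc with hc | hc <;>
        have hc' := BNPairLib.cell_mul_right P hy hc <;>
        rw [← hn] at hc' <;>
        have he := BNPairLib.cell_unique P (BNPairLib.self_mem_cell P nW) hc'
      · left
        rw [he, map_mul, φ_σ, mul_inv_cancel_right]
        exact himg w hw
      · right
        rw [he]
        exact himg w hw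
    rw [hnW] at hmem
    rcases hmem with hm1 | hm1
    · rw [mul_inv_cancel_right] at hm1
      exact hno2 hm1
    · exact hno1 hm1

end Cfsg.Agent.ChevSimplicity
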