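import Cfsg.Agent.Lib.ChevSubfieldSpecial

/-!
A group over the fixed root elements meets the Borel subgroup in fixed elements.
-/

set_option autoImplicit false
set_option linter.unusedSectionVars false

namespace Cfsg.Agent.ChevSubfieldBorel

open Cfsg.Lie Cfsg.Agent.ChevalleyEngine Cfsg.Agent.ChevalleyCert Cfsg.Agent.ChevalleyRoots
open Cfsg.Agent.ChevalleyCore Cfsg.Agent.ChevalleyTorus Cfsg.Agent.ChevBruhat Cfsg.Agent.ChevalleyUnipotent
open Cfsg.Agent.ChevFrobeniusFixed Cfsg.Agent.ChevSubfieldData Cfsg.Agent.ChevRootCentralizer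
open Cfsg.Agent.ChevSubfieldUnipotent

variable {D : ChevalleyDatum} (C : Cert D) {F : Type*} [Field F] (σ : F →+* F) (M : Subgroup (GL D.Idx F))

/-- the exceptional root `s` -/
structure SpecRoot (s : ℕ) : Prop where
  pos : D.nroots / 2 ≤ s ∧ s ≤ top D
  cen : ∀ r, D.IsPosRoot r → ∀ a b : F, Commute (xg C s a) (xg C r b)
  step : ∀ k, D.nroots / 2 ≤ k → k < D.nroots → k ≠ top D → k ≠ s →
    ∃ r, D.nroots / 2 ≤ r ∧ r < D.nroots ∧ ∃ q N, Lead D F k r q N
  spec : ∀ c d : F, xg C s c * xg C (top D) d ∈ M →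
    fr σ (xg C s c * xg C (top D) d) = xg C s c * xg C (top D) d
  moveS : s = top D ∨ ∃ i, i < D.rank ∧ D.reflectRoot i (top D) = top D ∧ D.reflectRoot i s ≠ s ∧
    s ≠ D.simple i
  moveT : ∃ i, i < D.rank ∧ D.reflectRoot i (top D) ≠ top D ∧ D.reflectRoot i (top D) ≠ s ∧
    top D ≠ D.simple i ∧ s ≠ D.simple i

/-- the standing hypotheses: a finite group between the fixed root elements and `G`, whose highest root
parameters are fixed -/
structure Ctx : Prop where
  fin : Finite ↥M
  le : M ≤ D.group F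
  fixed_le : fixedRoots D σ ≤ M
  top_fixed : ∀ c, xg C (top D) c ∈ M → σ c = c
  data : common D = true
  root : ∃ s, SpecRoot C σ M s

variable {C σ M}

theorem top_lt (C : Cert D) (h : common D = true) : top D < D.nroots ∧ D.nroots / 2 ≤ top D := by
  have := C.even
  simp only [common, hasOrth, Bool.and_eq_true, List.any_eq_true, List.mem_range'_1] at h
  obtain ⟨r, hr, -⟩ := h.1.1.1.1.1.1.2
  simp only [top]
  omega

theorem M_inf_U (X : Ctx C σ M) {u : GL D.Idx F} (huM : u ∈ M) (huU : u ∈ D.posUnipotent F) : fr σ u = u := by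
  obtain ⟨s, hs⟩ := X.root
  exact M_inf_U_fixed C σ hs.cen hs.step X.fixed_le hs.spec huM huU

/-- equal products of two exceptional and highest root elements -/
theorem pair_zero (C : Cert D) {j k : ℕ} {a b a' b' : F} (hk : D.nroots / 2 ≤ k) (hkt : k < top D)
    (hj : D.nroots / 2 ≤ j) (hjt : j ≤ top D) (hjk : j ≠ k)
    (h : xg C k a * xg C (top D) b = xg C j a' * xg C (top D) b') : a = 0 := by
  have hT : top D < D.nroots := by simp only [top] at hkt ⊢; omega
  have hin : ∀ {q m : ℕ} (x : F), m ≤ q → D.nroots / 2 ≤ q → q < D.nroots → xg C q x ∈ uGe C (F := F) m :=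
    fun x h1 h2 h3 => xg_mem_uGe C h1 h2 h3 x
  rcases Nat.lt_or_gt_of_ne hjk with hlt | hlt
  · have h1 := coeff_unique C hj (show j < D.nroots by omega) (t := a') (t' := 0)
      (v := xg C (top D) b') (v' := xg C k a * xg C (top D) b) (hin b' (by omega) (by omega) hT)
      (mul_mem (hin a (by omega) hk (by omega)) (hin b (by omega) (by omega) hT))
      (by rw [xg_zero, one_mul]; exact h.symm)
    obtain ⟨-, h2⟩ := h1
    have h3 := coeff_unique C hk (show k < D.nroots by omega) (t := 0) (t' := a)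
      (v := xg C (top D) b') (v' := xg C (top D) b) (hin b' (by omega) (by omega) hT)
      (hin b (by omega) (by omega) hT) (by rw [xg_zero, one_mul]; exact h2)
    exact h3.1.symm
  · have h3 := coeff_unique C hk (show k < D.nroots by omega) (t := a) (t' := 0)
      (v := xg C (top D) b) (v' := xg C j a' * xg C (top D) b') (hin b (by omega) (by omega) hT)
      (mul_mem (hin a' (by omega) hj (by omega)) (hin b' (by omega) (by omega) hT))
      (by rw [xg_zero, one_mul]; exact h)
    exact h3.1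

theorem torus_fixed (C : Cert D) {c : Fin D.rank → Fˣ}
    (h : ∀ i : Fin D.rank, σ (tchar D c (D.simple i) : F) = (tchar D c (D.simple i) : F)) :
    fr σ (torus D c) = torus D c := by
  set c' : Fin D.rank → Fˣ := fun i => Units.map σ.toMonoidHom (c i) * (c i)⁻¹
  have e : ∀ r, tchar D c' r = Units.map σ.toMonoidHom (tchar D c r) * (tchar D c r)⁻¹ := by
    intro r
    simp only [tchar, c', mul_zpow, inv_zpow, Finset.prod_mul_distrib, Finset.prod_inv_distrib, map_prod, map_zpow]
  have h1 := ChevBorelCriterion.tchar_eq_one C (c := c') fun i => by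
    rw [e, mul_inv_eq_one]
    exact Units.ext (h i)
  apply Units.ext
  rw [coe_fr, coe_torus, tmat, Matrix.diagonal_map (map_zero σ)]
  congr 1
  funext q
  rcases q with a | r
  · simp
  · have h2 := h1 r.val r.isLt
    rw [e, mul_inv_eq_one] at h2
    exact congrArg Units.val h2

variable (S : Sys D F)
include S

/-- the two factors of an element of `M ∩ B` -/
theorem uh_decomp (X : Ctx C σ M) {s : ℕ} (hs : SpecRoot C σ M s) {u h : GL D.Idx F}
    (hu : u ∈ D.posUnipotent F) (hh : h ∈ D.diagonalSubgroup F) (hM : u * h ∈ M) :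
    fr σ h = h ∧ ∃ w ∈ D.posUnipotent F, fr σ w = w ∧ ∃ c d : F, u = w * (xg C s c * xg C (top D) d) := by
  obtain ⟨c, rfl⟩ := (ChevalleyTorus.mem_H_iff C).1 hh
  have hfix : fr σ (torus D c) = torus D c := by
    refine torus_fixed C fun i => ?_
    obtain ⟨h1, h2⟩ := C.simple_mem i.val i.isLt
    have hy : fr σ (xg C (D.simple i) (1 : F)) = xg C (D.simple i) 1 := by rw [fr_xg σ C, map_one]
    have hyU := xg_mem_U C h1 h2 (1 : F)
    have hm : u * torus D c * xg C (D.simple i) 1 * (u * torus D c)⁻¹ ∈ M :=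
      mul_mem (mul_mem hM (X.fixed_le (xg_mem_fixedRoots σ C _ (map_one σ)))) (inv_mem hM)
    obtain ⟨z, hz, e⟩ := ChevRadicalCentralizer.conj_leading C h1 h2 hu ((tchar D c (D.simple i) : F) * 1)
    have e' : u * torus D c * xg C (D.simple i) 1 * (u * torus D c)⁻¹ =
        xg C (D.simple i) ((tchar D c (D.simple i) : F) * 1) * z := by
      rw [← e, ← torus_conj_xg C h2]; group
    rw [e'] at hm
    have hU : xg C (D.simple i) ((tchar D c (D.simple i) : F) * 1) * z ∈ D.posUnipotent F :=
      mul_mem (xg_mem_U C h1 h2 _) (uGe_le_U C (by omega) hz)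
    have := (fixed_lead C σ h1 h2 hz (M_inf_U X hm hU)).1
    simpa using this
  refine ⟨hfix, normQ_decomp C σ hs.cen hs.step hu fun y hy hf => ?_⟩
  have hm : (u * torus D c)⁻¹ * y * (u * torus D c) ∈ M :=
    mul_mem (mul_mem (inv_mem hM) (X.fixed_le (fixed_U σ C hy hf))) hM
  have hU : (u * torus D c)⁻¹ * y * (u * torus D c) ∈ D.posUnipotent F := by
    have := (Subgroup.mem_normalizer_iff.1 (H_le_normalizer_U C (inv_mem hh)) (u⁻¹ * y * u)).1
      (mul_mem (mul_mem (inv_mem hu) hy) hu)
    simpa [mul_assoc] using this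
  have h3 := M_inf_U X hm hU
  have e : u⁻¹ * y * u = torus D c * ((u * torus D c)⁻¹ * y * (u * torus D c)) * (torus D c)⁻¹ := by group
  rw [e, map_mul, map_mul, map_inv, hfix, h3]

/-- elements of `M ∩ B` are fixed -/
theorem M_inf_B (X : Ctx C σ M) {b : GL D.Idx F} (hbM : b ∈ M) (hbB : b ∈ D.borelSubgroup F) : fr σ b = b := by
  obtain ⟨s, hs⟩ := X.root
  obtain ⟨hT, hT2⟩ := top_lt C X.data
  obtain ⟨u, hu, h, hh, rfl⟩ := (ChevalleyTorus.mem_B_iff C).1 hbB
  obtain ⟨hfh, w, hw, hwf, c, d, rfl⟩ := uh_decomp S X hs hu hh hbM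
  have hwM : w ∈ M := X.fixed_le (fixed_U σ C hw hwf)
  have hzM : xg C s c * xg C (top D) d * h ∈ M := by
    have := mul_mem (inv_mem hwM) hbM
    rwa [mul_assoc w, inv_mul_cancel_left] at this
  -- conjugation by a fundamental reflection
  have key : ∀ (i : ℕ) (a e : F), i < D.rank → s ≠ D.simple i → top D ≠ D.simple i →
      xg C s a * xg C (top D) e * h ∈ M →
      ∀ a' e' : F, ns C i * xg C s a * (ns C i)⁻¹ = xg C (D.reflectRoot i s) a' →
      ns C i * xg C (top D) e * (ns C i)⁻¹ = xg C (D.reflectRoot i (top D)) e' →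
      ∃ c₁ d₁ : F, (xg C (D.reflectRoot i s) a' * xg C (D.reflectRoot i (top D)) e')⁻¹ *
        (xg C (D.reflectRoot i s) (σ a') * xg C (D.reflectRoot i (top D)) (σ e')) =
          xg C s c₁ * xg C (top D) d₁ := by
    intro i a e hi hsi hti hm a' e' h1 h2
    have hn : ns C (F := F) i ∈ M := X.fixed_le (ChevSubfieldSpecial.ns_mem_fixedRoots C σ i)
    have hm' := mul_mem (mul_mem hn hm) (inv_mem hn)
    have eq1 : ns C i * (xg C s a * xg C (top D) e * h) * (ns C i)⁻¹ =
        xg C (D.reflectRoot i s) a' * xg C (D.reflectRoot i (top D)) e' * (ns C i * h * (ns C i)⁻¹) := by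
      rw [← h1, ← h2]; group
    rw [eq1] at hm'
    have hU : xg C (D.reflectRoot i s) a' * xg C (D.reflectRoot i (top D)) e' ∈ D.posUnipotent F :=
      mul_mem (xg_mem_U C (simple_perm C hi hs.pos.1 (by have := hs.pos.2; omega) hsi)
          (C.w_lt i s hi (by have := hs.pos.2; omega)) _)
        (xg_mem_U C (simple_perm C hi hT2 hT hti) (C.w_lt i _ hi hT) _)
    obtain ⟨-, w', -, hw'f, c', d', e3⟩ :=
      uh_decomp S X hs hU ((Subgroup.mem_normalizer_iff.1 (ns_mem_normalizer C hi) h).1 hh) hm'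
    refine ⟨σ c' - c', σ d' - d', ?_⟩
    have hc : ∀ x y : F, Commute (xg C s x) (xg C (top D) y) := fun x y => hs.cen _ ((isPos C).2 ⟨hT2, hT⟩) x y
    calc (xg C (D.reflectRoot i s) a' * xg C (D.reflectRoot i (top D)) e')⁻¹ *
          (xg C (D.reflectRoot i s) (σ a') * xg C (D.reflectRoot i (top D)) (σ e'))
        = (w' * (xg C s c' * xg C (top D) d'))⁻¹ * fr σ (w' * (xg C s c' * xg C (top D) d')) := by
          rw [← e3, map_mul, fr_xg σ C, fr_xg σ C]
      _ = (xg C (top D) d')⁻¹ * (xg C s c')⁻¹ * (xg C s (σ c') * xg C (top D) (σ d')) := by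
          rw [map_mul, map_mul, hw'f, fr_xg σ C, fr_xg σ C]; group
      _ = (xg C (top D) d')⁻¹ * xg C s (σ c' - c') * xg C (top D) (σ d') := by
          rw [xg_inv C s, ← mul_assoc, mul_assoc _ (xg C s (-c')), xg_mul, neg_add_eq_sub]
      _ = _ := by
          rw [← ((hc _ _).inv_right).eq, mul_assoc, xg_inv, xg_mul, neg_add_eq_sub]
  -- the exceptional coordinate
  have hc : s ≠ top D → σ c = c := by
    intro hst
    obtain ⟨i, hi, hti, hsi, hsne⟩ := hs.moveS.resolve_left hst
    have htn : top D ≠ D.simple i := by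
      intro h
      rw [h, S.X.reflect_simple hi] at hti
      exact neg_ne C (simple_lt C hi) hti
    obtain ⟨c₁, d₁, e⟩ := key i c d hi hsne htn hzM _ _
      (ng_simple_conj C hi (by have := hs.pos.2; omega) c) (ng_simple_conj C hi hT d)
    rw [hti] at e
    set s' := D.reflectRoot i s with hs'
    have hs'lt : s' < D.nroots := C.w_lt i s hi (by have := hs.pos.2; omega)
    have hs'pos : D.nroots / 2 ≤ s' := simple_perm C hi hs.pos.1 (by have := hs.pos.2; omega) hsne
    have hs't : s' < top D := by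
      refine lt_of_le_of_ne (by simp only [top] at *; omega) fun h => hst ?_
      have h2 := w_invol C hi (show s < D.nroots by have := hs.pos.2; omega)
      change D.reflectRoot i s' = s at h2
      rw [h, hti] at h2
      exact h2.symm
    set ε := (C.eta i s : F)
    set η := (C.eta i (top D) : F)
    have hcomm : Commute (xg C (top D) (η * d)) (xg C s' (σ (ε * c) - ε * c)) := top_comm C hs'pos hs'lt _ _
    have e2 : (xg C s' (ε * c) * xg C (top D) (η * d))⁻¹ * (xg C s' (σ (ε * c)) * xg C (top D) (σ (η * d))) =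
        xg C s' (σ (ε * c) - ε * c) * xg C (top D) (σ (η * d) - η * d) := by
      rw [mul_inv_rev, mul_assoc, ← mul_assoc (xg C s' (ε * c))⁻¹, xg_inv C s', xg_mul, neg_add_eq_sub,
        ← mul_assoc, hcomm.inv_left.eq, mul_assoc, xg_inv, xg_mul, neg_add_eq_sub]
    rw [e2] at e
    have h0 := pair_zero C hs'pos hs't hs.pos.1 hs.pos.2 (Ne.symm hsi) e
    rw [sub_eq_zero, map_mul, map_intCast] at h0
    exact mul_left_cancel₀ (eta_cast_ne C i s) h0
  obtain ⟨a, hzM', hza⟩ : ∃ a, xg C s (0 : F) * xg C (top D) a * h ∈ M ∧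
      (σ a = a → fr σ (xg C s c * xg C (top D) d) = xg C s c * xg C (top D) d) := by
    by_cases hst : s = top D
    · refine ⟨c + d, ?_, fun ha => ?_⟩
      · rw [hst, xg_mul] at hzM
        rwa [xg_zero, one_mul]
      · rw [hst, xg_mul, fr_xg σ C, ha]
    · refine ⟨d, ?_, fun ha => by rw [map_mul, fr_xg σ C, fr_xg σ C, hc hst, ha]⟩
      have := mul_mem (inv_mem (X.fixed_le (xg_mem_fixedRoots σ C s (hc hst)))) hzM
      rw [xg_zero, one_mul]
      rwa [mul_assoc (xg C s c), inv_mul_cancel_left] at this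
  obtain ⟨i, hi, hti, hts, htn, hsn⟩ := hs.moveT
  obtain ⟨c₁, d₁, e⟩ := key i 0 a hi hsn htn hzM' _ _
    (ng_simple_conj C hi (by have := hs.pos.2; omega) 0) (ng_simple_conj C hi hT a)
  set t' := D.reflectRoot i (top D)
  have ht'lt : t' < D.nroots := C.w_lt i _ hi hT
  have ht'pos : D.nroots / 2 ≤ t' := simple_perm C hi hT2 hT htn
  set η := (C.eta i (top D) : F)
  rw [mul_zero, map_zero, xg_zero, one_mul, one_mul, xg_inv, xg_mul, neg_add_eq_sub,
    ← mul_one (xg C t' _), ← xg_zero C (top D) (F := F)] at e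
  have h0 := pair_zero C ht'pos (lt_of_le_of_ne (by simp only [top] at *; omega) hti) hs.pos.1 hs.pos.2
    (Ne.symm hts) e
  rw [sub_eq_zero, map_mul, map_intCast] at h0
  rw [map_mul, map_mul, hwf, hza (mul_left_cancel₀ (eta_cast_ne C i (top D)) h0), hfh]

end Cfsg.Agent.ChevSubfieldBorel
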