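import Cfsg.Agent.Lib.ChevalleyAll
import Cfsg.Agent.Lib.ChevRadicalCentralizer

/-!
Finite checks on the root data used for subfield subgroups.
-/

set_option autoImplicit false

namespace Cfsg.Agent.ChevSubfieldData

open Cfsg.Lie

/-- the highest root -/
abbrev top (D : ChevalleyDatum) : ℕ := D.nroots - 1

/-- the short roots -/
def shortRoots (D : ChevalleyDatum) : List ℕ :=
  if D.nroots = 12 then [2, 3, 4, 7, 8, 9]
  else if D.nroots = 8 then [1, 2, 5, 6]
  else if D.nroots = 48 ∧ D.rank = 4 then
    [3, 7, 8, 9, 10, 11, 12, 13, 14, 18, 19, 20, 27, 28, 29, 33, 34, 35, 36, 37, 38, 39, 40, 44]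
  else []

/-- a root conjugate to the highest root -/
def isLong (D : ChevalleyDatum) (r : ℕ) : Bool := !(shortRoots D).contains r

/-- every long root other than the highest has a higher long neighbour -/
def longUp (D : ChevalleyDatum) : Bool :=
  (List.range D.nroots).all fun r => !isLong D r || r == top D ||
    (List.range D.rank).any fun i => decide (r < D.reflectRoot i r) && isLong D (D.reflectRoot i r)

/-- the commutator of `x_k` with `x_r` leads with coefficient of absolute value `n` -/
def leadOK (D : ChevalleyDatum) (k r n : ℕ) : Bool :=
  k != r &&
    match D.commTerms k r with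
    | [] => false
    | (q, N, a, b) :: rest => N.natAbs == n && a == 1 && b == 1 && rest.all (fun c => decide (q < c.1))

/-- the positive root `k` can be tested by commutators, unless it is one of `E` -/
def stepOK (D : ChevalleyDatum) (k : ℕ) : Bool :=
  let P := List.range' (D.nroots / 2) (D.nroots / 2)
  P.any (fun r => leadOK D k r 1) || (P.any (fun r => leadOK D k r 2) && P.any (fun r => leadOK D k r 3))

/-- the exceptional short root and its prime -/
def specOK (D : ChevalleyDatum) (s m : ℕ) : Bool :=
  let P := List.range' (D.nroots / 2) (D.nroots / 2)
  decide (D.nroots / 2 ≤ s) && decide (s < top D) &&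
    P.any (fun r => leadOK D s r m) &&
    P.all (fun r => (D.commTerms s r).all fun c => decide ((m : ℤ) ∣ c.2.1)) &&
    (List.range D.rank).any (fun i => D.cartan i (top D) == 0 && D.reflectRoot i s != s) &&
    (List.range D.rank).any (fun i =>
      D.reflectRoot i (top D) != top D && D.reflectRoot i (top D) != s)

/-- all positive roots except the highest and those of `E` are testable -/
def allSteps (D : ChevalleyDatum) (E : List ℕ) : Bool :=
  (List.range' (D.nroots / 2) (D.nroots / 2)).all fun k => k == top D || E.contains k || stepOK D k

/-- pairs with the highest root: commuting, opposite, or Heisenberg -/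
def topPairs (D : ChevalleyDatum) : Bool :=
  (List.range (D.nroots / 2)).all fun r => !isLong D r || r == D.neg (top D) || (D.commTerms (top D) r).isEmpty ||
    match D.commTerms (top D) r with
    | [(q, N, a, b)] => N.natAbs == 1 && a == 1 && b == 1 && (D.commTerms (top D) q).isEmpty &&
        (D.commTerms r q).isEmpty && q != r && q != top D && q != D.neg r && q != D.neg (top D)
    | _ => false

/-- even pairing with the highest root forces commutation with both its root subgroups -/
def evenPairs (D : ChevalleyDatum) : Bool :=
  (List.range D.nroots).all fun r => D.pairing (top D) r % 2 != 0 || r == top D || r == D.neg (top D) ||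
    ((D.commTerms (top D) r).isEmpty && (D.commTerms (D.neg (top D)) r).isEmpty)

/-- a positive root commuting with both `X_top` and `X_{-top}` -/
def hasOrth (D : ChevalleyDatum) : Bool :=
  (List.range' (D.nroots / 2) (D.nroots / 2)).any fun r => r != top D &&
    (D.commTerms (top D) r).isEmpty && (D.commTerms (D.neg (top D)) r).isEmpty

/-- every root is long or pairs to `±1` with a long coroot -/
def torusCover (D : ChevalleyDatum) : Bool :=
  (List.range D.nroots).all fun s => isLong D s ||
    (List.range D.nroots).any fun r => isLong D r && (D.pairing r s).natAbs == 1

/-- an involution not conjugate to a long root element -/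
def hasSecond (D : ChevalleyDatum) : Bool :=
  (List.range D.rank).any (fun i => !isLong D (D.simple i)) ||
    (List.range D.rank).any (fun i => (List.range D.rank).any fun j =>
      i != j && (D.commTerms (D.simple i) (D.simple j)).isEmpty)

/-- every positive root which is not fundamental descends -/
def descends (D : ChevalleyDatum) : Bool :=
  (List.range' (D.nroots / 2) (D.nroots / 2)).all fun k =>
    (List.range D.rank).any fun i => D.simple i == k || decide (D.reflectRoot i k < k)

/-- the checks common to the seven data -/
def common (D : ChevalleyDatum) : Bool :=
  decide (2 ≤ D.rank) && topPairs D && evenPairs D && hasOrth D && torusCover D && hasSecond D && descends D &&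
    isLong D (top D) && longUp D && ChevRadicalCentralizer.diffCheck D

theorem common_g2 : common chevG2 = true := by decide +kernel
theorem common_b2 : common chevB2 = true := by decide +kernel
theorem common_d4 : common chevD4 = true := by decide +kernel
theorem common_f4 : common chevF4 = true := by decide +kernel
theorem common_e6 : common chevE6 = true := by decide +kernel
theorem common_e7 : common chevE7 = true := by decide +kernel

theorem topPairs_e8 : topPairs chevE8 = true := by decide +kernel
theorem evenPairs_e8 : evenPairs chevE8 = true := by decide +kernel
theorem others_e8 : (decide (2 ≤ chevE8.rank) && hasOrth chevE8 && torusCover chevE8 && hasSecond chevE8 &&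
    isLong chevE8 (top chevE8)) = true := by decide +kernel
theorem descends_e8 : descends chevE8 = true := by decide +kernel
theorem longUp_e8 : longUp chevE8 = true := by decide +kernel
theorem diff_e8 : ChevRadicalCentralizer.diffCheck chevE8 = true := by decide +kernel

theorem common_e8 : common chevE8 = true := by
  have h := others_e8
  simp only [Bool.and_eq_true] at h
  simp only [common, Bool.and_eq_true]
  exact ⟨⟨⟨⟨⟨⟨⟨⟨⟨h.1.1.1.1, topPairs_e8⟩, evenPairs_e8⟩, h.1.1.1.2⟩, h.1.1.2⟩, h.1.2⟩, descends_e8⟩, h.2⟩,
    longUp_e8⟩, diff_e8⟩

theorem steps_g2 : allSteps chevG2 [9] = true ∧ specOK chevG2 9 3 = true := by decide +kernel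
theorem steps_b2 : allSteps chevB2 [6] = true ∧ specOK chevB2 6 2 = true := by decide +kernel
theorem steps_f4 : allSteps chevF4 [44] = true ∧ specOK chevF4 44 2 = true := by decide +kernel
theorem steps_d4 : allSteps chevD4 [] = true := by decide +kernel
theorem steps_e6 : allSteps chevE6 [] = true := by decide +kernel
theorem steps_e7 : allSteps chevE7 [] = true := by decide +kernel
theorem steps_e8 : allSteps chevE8 [] = true := by decide +kernel

/-- an `A₂` of long roots summing to the highest root -/
def prodPair (D : ChevalleyDatum) (r s : ℕ) : Bool :=
  decide (r < D.nroots) && decide (s < D.nroots) && isLong D r && isLong D s && s != r && s != D.neg r &&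
    match D.commTerms r s with
    | [(q, N, a, b)] => q == top D && N.natAbs == 1 && a == 1 && b == 1
    | _ => false

theorem prod_g2 : prodPair chevG2 6 10 = true := by decide +kernel
theorem prod_d4 : prodPair chevD4 14 22 = true := by decide +kernel
theorem prod_f4 : prodPair chevF4 24 46 = true := by decide +kernel
theorem prod_e6 : prodPair chevE6 46 70 = true := by decide +kernel
theorem prod_e7 : prodPair chevE7 97 120 = true := by decide +kernel

/-- some `A₂` of long roots in `E₈` -/
def prodE8 : Bool :=
  (List.range' 120 120).any fun r => false ||
    (List.range' 120 120).any fun s => prodPair chevE8 r s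

theorem prod_e8 : prodE8 = true := by decide +kernel

end Cfsg.Agent.ChevSubfieldData
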