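import Cfsg.Agent.Lib.ChevSubfieldPairs
import Cfsg.Agent.Lib.ChevSubfieldConfig
import Mathlib.FieldTheory.Finite.GaloisField

/-!
The parameters of the long root elements in a finite group over a subfield group form a field.
-/

set_option autoImplicit false
set_option linter.unusedSectionVars false

namespace Cfsg.Agent.ChevSubfieldField

open Cfsg.Lie Cfsg.Agent.ChevalleyEngine Cfsg.Agent.ChevalleyCert Cfsg.Agent.ChevalleyRoots
open Cfsg.Agent.ChevalleyCore Cfsg.Agent.ChevalleyTorus Cfsg.Agent.ChevBruhat Cfsg.Agent.ChevalleyUnipotent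
open Cfsg.Agent.ChevFrobeniusFixed Cfsg.Agent.ChevSubfieldData Cfsg.Agent.ChevRootCentralizer
open Cfsg.Agent.ChevSubfieldSpecial Cfsg.Agent.ChevSubfieldBorel Cfsg.Agent.ChevSubfieldConfig
open Cfsg.Agent.ChevSubfieldUnipotent

/-! ### finite sets of field elements -/

section Sets

variable {F : Type*} [Field F]

theorem card_fixed_le {m : ℕ} (hm : 2 ≤ m) (S : Finset F) (h : ∀ x ∈ S, x ^ m = x) : S.card ≤ m := by
  classical
  have hne : (Polynomial.X ^ m - Polynomial.X : Polynomial F) ≠ 0 :=
    FiniteField.X_pow_card_sub_X_ne_zero F (by omega)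
  calc S.card ≤ (Polynomial.X ^ m - Polynomial.X : Polynomial F).roots.toFinset.card := by
        refine Finset.card_le_card fun x hx => ?_
        rw [Multiset.mem_toFinset, Polynomial.mem_roots hne]
        simp [h x hx]
    _ ≤ (Polynomial.X ^ m - Polynomial.X : Polynomial F).roots.card := Multiset.toFinset_card_le _
    _ ≤ (Polynomial.X ^ m - Polynomial.X : Polynomial F).natDegree := Polynomial.card_roots' _
    _ = m := FiniteField.X_pow_card_sub_X_natDegree_eq F (by omega)

/-- a finite set closed under the ring operations is the set of fixed points of a power of Frobenius -/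
theorem closed_set_eq_fixed (p : ℕ) [Fact p.Prime] [CharP F p] {a : ℕ} (ha : 1 ≤ a) (A : Set F) (hA : A.Finite)
    (h0 : (0 : F) ∈ A) (h1 : (1 : F) ∈ A) (hadd : ∀ x ∈ A, ∀ y ∈ A, x + y ∈ A) (hneg : ∀ x ∈ A, -x ∈ A)
    (hmul : ∀ x ∈ A, ∀ y ∈ A, x * y ∈ A) (S : Finset F) (hS : S.card = p ^ a)
    (hSA : ∀ x ∈ S, x ^ (p ^ a) = x ∧ x ∈ A) :
    ∃ r, 1 ≤ r ∧ ∀ x, x ∈ A ↔ x ^ ((p ^ a) ^ r) = x := by
  classical
  have hinv : ∀ x ∈ A, x⁻¹ ∈ A := by
    intro x hx
    by_cases hx0 : x = 0
    · rw [hx0, inv_zero]; exact h0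
    have hsur : Set.SurjOn (fun y => x * y) A A :=
      (Finset.surjOn_of_injOn_of_card_le (s := hA.toFinset) (t := hA.toFinset) (fun y => x * y)
        (fun y hy => by
          simp only [Finset.mem_coe, Set.Finite.mem_toFinset] at hy ⊢
          exact hmul x hx y hy)
        (fun y _ z _ h => mul_left_cancel₀ hx0 h) le_rfl).mono (by simp) (by simp)
    obtain ⟨y, hy, hxy⟩ := hsur h1
    rw [inv_eq_of_mul_eq_one_right hxy]
    exact hy
  let R : Subfield F :=
    { carrier := A
      mul_mem' := fun hx hy => hmul _ hx _ hy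
      one_mem' := h1
      add_mem' := fun hx hy => hadd _ hx _ hy
      zero_mem' := h0
      neg_mem' := fun hx => hneg _ hx
      inv_mem' := hinv }
  haveI : Fintype ↥R := hA.fintype
  haveI : CharP ↥R p := (RingHom.charP_iff R.subtype R.subtype.injective p).2 inferInstance
  obtain ⟨n, -, hn⟩ := FiniteField.card ↥R p
  have hfix : ∀ x ∈ A, x ^ (p ^ (n : ℕ)) = x := fun x hx => by
    have := congrArg Subtype.val (FiniteField.pow_card (⟨x, hx⟩ : ↥R))
    rwa [hn, SubmonoidClass.coe_pow] at this
  have hp := (Fact.out : p.Prime)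
  have hn2 : 2 ≤ p ^ (n : ℕ) := le_trans hp.two_le (Nat.le_self_pow n.pos.ne' p)
  have hcard : hA.toFinset.card = p ^ (n : ℕ) := by
    rw [← hn]
    exact (Fintype.card_of_subtype hA.toFinset (fun x => hA.mem_toFinset)).symm
  have hiff : ∀ x, x ∈ A ↔ x ^ (p ^ (n : ℕ)) = x := by
    refine fun x => ⟨hfix x, fun hx => ?_⟩
    by_contra hxA
    have := card_fixed_le hn2 (insert x hA.toFinset) (fun y hy => by
      rcases Finset.mem_insert.1 hy with rfl | hy
      · exact hx
      · exact hfix y (hA.mem_toFinset.1 hy))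
    rw [Finset.card_insert_of_notMem (by simpa using hxA), hcard] at this
    omega
  -- `a` divides `n`
  obtain ⟨k, b, hb, hkb⟩ : ∃ k b, b < a ∧ (n : ℕ) = a * k + b :=
    ⟨n / a, n % a, Nat.mod_lt _ ha, (Nat.div_add_mod _ _).symm⟩
  have hb0 : b = 0 := by
    by_contra hb0
    have hle := card_fixed_le (le_trans hp.two_le (Nat.le_self_pow hb0 p)) S (fun x hx => by
      obtain ⟨h2, h3⟩ := hSA x hx
      have h4 : x ^ (p ^ (a * k)) = x := by
        clear hkb
        induction k with
        | zero => simp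
        | succ j ih => rw [Nat.mul_succ, pow_add, pow_mul, ih, h2]
      have h5 := hfix x h3
      rwa [hkb, pow_add, pow_mul, h4] at h5)
    rw [hS] at hle
    exact absurd hle (not_le.2 (Nat.pow_lt_pow_right hp.one_lt hb))
  refine ⟨k, ?_, fun x => ?_⟩
  · rcases Nat.eq_zero_or_pos k with rfl | hk
    · have := n.pos; simp [hb0] at hkb
    · exact hk
  · rw [hiff, hkb, hb0, add_zero, pow_mul]

/-- in characteristic two the two rules give closure under products -/
theorem mul_closed_two [CharP F 2] (A : Set F) (hA : A.Finite) (h0 : (0 : F) ∈ A) (h1 : (1 : F) ∈ A)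
    (hadd : ∀ x ∈ A, ∀ y ∈ A, x + y ∈ A) (hsq : ∀ x ∈ A, x * x ∈ A)
    (hrule : ∀ t ∈ A, ∀ u ∈ A, t * t * u + t * t * (u * u) ∈ A) : ∀ x ∈ A, ∀ y ∈ A, x * y ∈ A := by
  classical
  have hroot : ∀ s ∈ A, ∃ t ∈ A, t * t = s := by
    intro s hs
    have hsur := Finset.surjOn_of_injOn_of_card_le (s := hA.toFinset) (t := hA.toFinset) (fun y => y * y)
      (fun y hy => by
        simp only [Finset.mem_coe, Set.Finite.mem_toFinset] at hy ⊢
        exact hsq y hy)
      (fun y _ z _ h => by
        have h0 : (y + z) * (y + z) = 0 := by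
          rw [CharTwo.add_mul_self, show y * y = z * z from h, CharTwo.add_self_eq_zero]
        exact CharTwo.add_eq_zero.1 (mul_self_eq_zero.1 h0)) le_rfl
    obtain ⟨t, ht, e⟩ := hsur (show s ∈ (hA.toFinset : Set F) by simpa using hs)
    exact ⟨t, by simpa using ht, e⟩
  set St : Set F := {c | ∀ s ∈ A, c * s ∈ A}
  have hP : ∀ u ∈ A, u * u + u ∈ St := fun u hu s hs => by
    obtain ⟨t, ht, rfl⟩ := hroot s hs
    have := hrule t ht u hu
    rwa [show t * t * u + t * t * (u * u) = (u * u + u) * (t * t) by ring] at this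
  have hStA : St ⊆ A := fun c hc => by simpa using hc 1 h1
  have hStf : St.Finite := hA.subset hStA
  have hSt0 : (0 : F) ∈ St := fun s _ => by rw [zero_mul]; exact h0
  have hSt1 : (1 : F) ∈ St := fun s hs => by rwa [one_mul]
  have hStadd : ∀ x ∈ St, ∀ y ∈ St, x + y ∈ St := fun x hx y hy s hs => by
    rw [add_mul]; exact hadd _ (hx s hs) _ (hy s hs)
  have hStmul : ∀ x ∈ St, ∀ y ∈ St, x * y ∈ St := fun x hx y hy s hs => by
    rw [mul_assoc]; exact hx _ (hy s hs)
  by_cases hall : A ⊆ St
  · exact fun x hx y hy => hall hx y hy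
  by_cases hsmall : ∀ u ∈ A, u * u + u = 0 ∨ u * u + u = 1
  · intro x hx y hy
    have key : ∀ u ∈ A, u = 0 ∨ u = 1 ∨ u * u + u = 1 := fun u hu => by
      rcases hsmall u hu with h | h
      · rw [← mul_add_one, mul_eq_zero] at h
        rcases h with h | h
        · exact Or.inl h
        · exact Or.inr (Or.inl (CharTwo.add_eq_zero.1 h))
      · exact Or.inr (Or.inr h)
    rcases key x hx with rfl | rfl | hx'
    · rw [zero_mul]; exact h0
    · rwa [one_mul]
    rcases key y hy with rfl | rfl | hy'
    · rw [mul_zero]; exact h0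
    · rwa [mul_one]
    have h2 : (x + y) * (x + y + 1) = 0 := by
      rw [mul_add, mul_one, CharTwo.add_mul_self,
        show x * x + y * y + (x + y) = (x * x + x) + (y * y + y) by ring, hx', hy', CharTwo.add_self_eq_zero]
    rcases mul_eq_zero.1 h2 with h | h
    · rw [CharTwo.add_eq_zero.1 h]; exact hsq y hy
    · have : y = x + 1 := by linear_combination h - x * CharTwo.two_eq_zero (R := F) - CharTwo.two_eq_zero (R := F)
      rw [this, mul_add_one, hx']
      exact h1
  exfalso
  obtain ⟨c, hcA, hcSt⟩ := Set.not_subset.1 hall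
  simp only [not_forall, not_or] at hsmall
  obtain ⟨u, hu, hu0, hu1⟩ := hsmall
  set T := hStf.toFinset
  have hTinv : ∀ x ∈ St, x ≠ 0 → ∃ y ∈ St, x * y = 1 := fun x hx hx0 => by
    have hsur := Finset.surjOn_of_injOn_of_card_le (s := T) (t := T) (fun y => x * y)
      (fun y hy => by
        simp only [T, Finset.mem_coe, Set.Finite.mem_toFinset] at hy ⊢
        exact hStmul x hx y hy)
      (fun y _ z _ h => mul_left_cancel₀ hx0 h) le_rfl
    obtain ⟨y, hy, e⟩ := hsur (show (1 : F) ∈ (T : Set F) by simpa [T] using hSt1)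
    exact ⟨y, by simpa [T] using hy, e⟩
  have hbig : T.card * T.card ≤ hA.toFinset.card := by
    rw [← Finset.card_product]
    refine Finset.card_le_card_of_injOn (fun q => q.1 + q.2 * c) (fun q hq => ?_) (fun q hq q' hq' h => ?_)
    · simp only [Finset.mem_coe, Finset.mem_product, T, Set.Finite.mem_toFinset] at hq ⊢
      exact hadd _ (hStA hq.1) _ (hq.2 c hcA)
    · simp only [Finset.mem_coe, Finset.mem_product, T, Set.Finite.mem_toFinset] at hq hq'
      have h3 : (q.2 + q'.2) * c = q.1 + q'.1 := by
        linear_combination h + (q'.2 * c - q.1) * CharTwo.two_eq_zero (R := F)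
      by_cases h4 : q.2 + q'.2 = 0
      · rw [h4, zero_mul] at h3
        exact Prod.ext (CharTwo.add_eq_zero.1 h3.symm) (CharTwo.add_eq_zero.1 h4)
      · obtain ⟨y, hy, e⟩ := hTinv _ (hStadd _ hq.2 _ hq'.2) h4
        refine absurd ?_ hcSt
        rw [show c = y * (q.1 + q'.1) by rw [← h3, ← mul_assoc, mul_comm y, e, one_mul]]
        exact hStmul _ hy _ (hStadd _ hq.1 _ hq'.1)
  have hsmall' : hA.toFinset.card ≤ T.card * 2 := by
    rw [mul_comm]
    refine Finset.card_le_mul_card_image_of_maps_to (f := fun x => x * x + x) (fun x hx => ?_) 2 (fun b _ => ?_)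
    · simp only [T, Set.Finite.mem_toFinset] at hx ⊢
      exact hP x hx
    · rcases (hA.toFinset.filter fun x => x * x + x = b).eq_empty_or_nonempty with h | ⟨x, hx⟩
      · rw [h]; simp
      · refine le_trans (Finset.card_le_card (t := {x, x + 1}) fun y hy => ?_) Finset.card_le_two
        simp only [Finset.mem_filter] at hx hy
        have h5 : (x + y) * (x + y + 1) = 0 := by
          rw [mul_add, mul_one, CharTwo.add_mul_self,
            show x * x + y * y + (x + y) = (x * x + x) + (y * y + y) by ring, hx.2, hy.2, CharTwo.add_self_eq_zero]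
        rcases mul_eq_zero.1 h5 with h6 | h6
        · simp [CharTwo.add_eq_zero.1 h6]
        · have : y = x + 1 := by
            linear_combination h6 - x * CharTwo.two_eq_zero (R := F) - CharTwo.two_eq_zero (R := F)
          simp [this]
  have h3 : 3 ≤ T.card := by
    refine le_trans (le_of_eq ?_) (Finset.card_le_card (s := {0, 1, u * u + u}) ?_)
    · rw [Finset.card_insert_of_notMem (by simp [Ne.symm hu0]), Finset.card_pair (Ne.symm hu1)]
    · intro x hx
      simp only [Finset.mem_insert, Finset.mem_singleton] at hx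
      simp only [T, Set.Finite.mem_toFinset]
      rcases hx with rfl | rfl | rfl
      exacts [hSt0, hSt1, hP u hu]
  nlinarith

/-- the fixed field in an algebraically closed field -/
theorem fixed_card_closed [IsAlgClosed F] (p : ℕ) [Fact p.Prime] [CharP F p] {a : ℕ} (ha : 1 ≤ a) :
    ∃ S : Finset F, S.card = p ^ a ∧ ∀ x ∈ S, x ^ (p ^ a) = x := by
  classical
  have h2 : 1 < p ^ a := Nat.one_lt_pow (by omega) (Fact.out : p.Prime).one_lt
  set f : Polynomial F := Polynomial.X ^ (p ^ a) - Polynomial.X
  have hne : f ≠ 0 := FiniteField.X_pow_card_sub_X_ne_zero F h2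
  have hsep : f.Separable := galois_poly_separable p _ (dvd_pow_self p (by omega))
  refine ⟨f.roots.toFinset, ?_, fun x hx => ?_⟩
  · rw [Multiset.toFinset_card_of_nodup (Polynomial.nodup_roots hsep),
      ← (IsAlgClosed.splits f).natDegree_eq_card_roots, FiniteField.X_pow_card_sub_X_natDegree_eq F h2]
  · rw [Multiset.mem_toFinset, Polynomial.mem_roots hne] at hx
    simpa [f, sub_eq_zero] using hx

/-- the fixed field in a finite field -/
theorem fixed_card_finite [Fintype F] {q r : ℕ} (hq : 2 ≤ q) (hr : 1 ≤ r) (hF : Fintype.card F = q ^ r) :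
    ∃ S : Finset F, S.card = q ∧ ∀ x ∈ S, x ^ q = x := by
  classical
  obtain ⟨g, hg⟩ := IsCyclic.exists_generator (α := Fˣ)
  have hord : orderOf g = q ^ r - 1 := by
    rw [orderOf_eq_card_of_forall_mem_zpowers hg, Nat.card_eq_fintype_card, Fintype.card_units, hF]
  obtain ⟨w, hw⟩ : q - 1 ∣ q ^ r - 1 := by simpa using Nat.sub_dvd_pow_sub_pow q 1 r
  have hpos : 0 < q ^ r - 1 := by have := Nat.le_self_pow (show r ≠ 0 by omega) q; omega
  have hw0 : w ≠ 0 := by rintro rfl; omega
  have hh : orderOf (g ^ w) = q - 1 := by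
    rw [orderOf_pow_of_dvd hw0 (by rw [hord]; exact ⟨q - 1, by rw [hw, mul_comm]⟩), hord, hw,
      Nat.mul_div_cancel _ (Nat.pos_of_ne_zero hw0)]
  set h := g ^ w
  refine ⟨insert 0 ((Finset.range (q - 1)).image fun i => ((h ^ i : Fˣ) : F)), ?_, fun x hx => ?_⟩
  · rw [Finset.card_insert_of_notMem (by simp), Finset.card_image_of_injOn, Finset.card_range]
    · omega
    · intro i hi j hj e
      simp only [Finset.coe_range, Set.mem_Iio] at hi hj
      exact pow_injOn_Iio_orderOf (by rw [hh]; exact hi) (by rw [hh]; exact hj) (Units.ext e)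
  · rcases Finset.mem_insert.1 hx with rfl | hx
    · rw [zero_pow (by omega)]
    · obtain ⟨i, -, rfl⟩ := Finset.mem_image.1 hx
      have h1 : (h ^ i) ^ q = h ^ i := by
        rw [show q = (q - 1) + 1 by omega, pow_succ, ← pow_mul, mul_comm i, pow_mul, ← hh, pow_orderOf_eq_one,
          one_pow, one_mul]
      exact_mod_cast congrArg Units.val h1

end Sets

/-! ### root elements in `M` -/

variable {D : ChevalleyDatum} (C : Cert D) {F : Type*} [Field F] (σ : F →+* F) {M : Subgroup (GL D.Idx F)}

/-- the parameters of the highest root elements in `M` -/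
def params (M : Subgroup (GL D.Idx F)) : Set F := {t | xg C (top D) t ∈ M}

include C

theorem params_finite (hT : top D < D.nroots) [Finite ↥M] : (params C M).Finite := by
  have : Finite ↥(params C M) := Finite.of_injective (fun t : ↥(params C M) => (⟨xg C (top D) t.1, t.2⟩ : ↥M))
    fun t u h => by
      have h1 : xg C (top D) t.1 = xg C (top D) u.1 := congrArg Subtype.val h
      refine Subtype.ext ?_
      by_cases ht : t.1 = 0
      · rw [ht]
        by_contra hu
        rw [ht, xg_zero] at h1
        exact hu ((ChevBruhatInstance.xg_injective C hT hT (Ne.symm hu) (h1.symm.trans (xg_zero C _).symm)).2).symm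
      · exact (ChevBruhatInstance.xg_injective C hT hT ht h1).2
  exact Set.toFinite _

theorem params_zero : (0 : F) ∈ params C M := by simp [params]

theorem params_add : ∀ x ∈ params C M, ∀ y ∈ params C M, x + y ∈ params C M := fun x hx y hy => by
  show xg C _ (x + y) ∈ M
  rw [← xg_mul]
  exact mul_mem hx hy

theorem params_neg : ∀ x ∈ params C M, -x ∈ params C M := fun x hx => by
  show xg C _ (-x) ∈ M
  rw [← xg_inv]
  exact inv_mem hx

theorem unit_mem {r : ℕ} {t e : F} (he : e * e = 1) (h : xg C r t ∈ M) : xg C r (e * t) ∈ M := by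
  rcases mul_self_eq_one_iff.1 he with rfl | rfl
  · rwa [one_mul]
  · rw [neg_one_mul, ← xg_inv]; exact inv_mem h

variable (hL : fixedRoots D σ ≤ M)
include hL

/-- moving a root element inside `M` along a word -/
theorem word_mem {l : List ℕ} (hl : ∀ i ∈ l, i < D.rank) {r : ℕ} (hr : r < D.nroots) {t : F} :
    xg C r t ∈ M ↔ xg C (wact (D := D) l r) t ∈ M := by
  obtain ⟨e, he, h⟩ := nword_conj C hl hr (F := F)
  have hn : nword C (F := F) l ∈ M := hL (nword_mem_fixedRoots C σ l)
  constructor
  · intro hm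
    have h1 := conj_word_mem C σ hL l (unit_mem C he hm)
    rwa [h, ← mul_assoc, he, one_mul] at h1
  · intro hm
    have h1 : nword C l * xg C r t * (nword C l)⁻¹ ∈ M := by rw [h]; exact unit_mem C he hm
    simpa [mul_assoc] using mul_mem (mul_mem (inv_mem hn) h1) hn

/-- long root elements in `M` have the parameters of the highest root -/
theorem long_iff (hup : longUp D = true) {t : F} :
    ∀ r, r < D.nroots → isLong D r = true → (xg C r t ∈ M ↔ t ∈ params C M) := by
  suffices ∀ d r, D.nroots - r ≤ d → r < D.nroots → isLong D r = true → (xg C r t ∈ M ↔ t ∈ params C M) from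
    fun r => this _ r le_rfl
  intro d
  induction d with
  | zero => intro r hd hr; omega
  | succ d ih =>
    intro r hd hr hlong
    simp only [longUp, List.all_eq_true, List.mem_range, Bool.or_eq_true, Bool.not_eq_true', beq_iff_eq,
      List.any_eq_true, Bool.and_eq_true, decide_eq_true_eq] at hup
    rcases hup r hr with (h | rfl) | ⟨i, hi, hlt, hlong'⟩
    · rw [hlong] at h; exact Bool.noConfusion h
    · rfl
    · have h1 := word_mem C σ hL (t := t) (l := [i]) (by simp [hi]) hr
      have hw : wact (D := D) [i] r = D.reflectRoot i r := rfl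
      rw [hw] at h1
      rw [h1]
      exact ih _ (by omega) (C.w_lt i r hi hr) hlong'

omit hL in
/-- a commutator relation with one term -/
theorem single_comm {r s q : ℕ} {N : ℤ} (hr : r < D.nroots) (hs : s < D.nroots) (h1 : s ≠ r) (h2 : s ≠ D.neg r)
    (hterms : D.commTerms r s = [(q, N, 1, 1)]) {t u : F} (ht : xg C r t ∈ M) (hu : xg C s u ∈ M) :
    xg C q ((N : F) * t * u) ∈ M := by
  have h := comm_formula C hr hs h1 h2 t u
  have hm : (xg C r t * xg C s u)⁻¹ * (xg C s u * xg C r t) ∈ M :=
    mul_mem (inv_mem (mul_mem ht hu)) (mul_mem hu ht)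
  rw [h, inv_mul_cancel_left] at hm
  simp only [ChevalleyDatum.commWord, hterms, wg, List.map_cons, List.map_nil, List.prod_cons, List.prod_nil,
    mul_one, pow_one] at hm
  have h3 := inv_mem hm
  rwa [xg_inv, show -((N : F) * -t * u) = (N : F) * t * u by ring] at h3

/-- products of parameters from an `A₂` -/
theorem mul_of_prod (hup : longUp D = true) {r s : ℕ} (h : prodPair D r s = true) :
    ∀ x ∈ params C M, ∀ y ∈ params C M, x * y ∈ params C M := by
  intro x hx y hy
  simp only [prodPair, Bool.and_eq_true, decide_eq_true_eq, bne_iff_ne] at h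
  obtain ⟨⟨⟨⟨⟨⟨hr, hs⟩, hlr⟩, hls⟩, hsr⟩, hsn⟩, h⟩ := h
  split at h
  · rename_i q N a b hterms
    simp only [Bool.and_eq_true, beq_iff_eq] at h
    obtain ⟨⟨⟨rfl, hN⟩, rfl⟩, rfl⟩ := h
    have := single_comm C hr hs hsr hsn hterms ((long_iff C σ hL hup r hr hlr).2 hx)
      ((long_iff C σ hL hup s hs hls).2 hy)
    rw [mul_assoc] at this
    rcases Int.natAbs_eq N with e | e <;> rw [e, hN] at this
    · show xg C _ (x * y) ∈ M
      simpa using this
    · show xg C _ (x * y) ∈ M
      have := inv_mem this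
      simpa [xg_inv] using this
  · exact Bool.noConfusion h

/-- products of parameters from a `B₂` -/
theorem mul_of_b (p : ℕ) [Fact p.Prime] [CharP F p] [Finite ↥M] (hup : longUp D = true) (hT : top D < D.nroots)
    {s a b : ℕ} {l₁ l₂ l₃ : List ℕ} (hB : BConfig D s a b l₁ l₂ l₃) (hlb : isLong D b = true)
    {N₂ : ℤ} (hN₂ : N₂.natAbs = 2) (has : D.commTerms a s = [(top D, N₂, 1, 1)]) (hsa : s ≠ a) (hsna : s ≠ D.neg a) :
    ∀ x ∈ params C M, ∀ y ∈ params C M, x * y ∈ params C M := by
  obtain ⟨⟨hs, ha, hb⟩, ⟨hsp, -, hbp⟩, ⟨hba, hbna, -⟩, ⟨N, N', hN, hN', hterms⟩, -, ⟨hl, hw1, hw1', -⟩⟩ := hB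
  have hl1 : ∀ i ∈ l₁, i < D.rank := fun i hi => hl i (by simp [hi])
  have hsign : ∀ {n : ℤ}, n.natAbs = 1 → (n : F) * (n : F) = 1 := fun {n} hn => by
    rcases Int.natAbs_eq n with e | e <;> rw [e, hn] <;> simp
  have lb : ∀ {u : F}, xg C b u ∈ M ↔ u ∈ params C M := fun {u} => long_iff C σ hL hup b hb hlb
  have pair : ∀ {x y : F}, xg C a x ∈ M → xg C b y ∈ M →
      xg C s ((N : F) * -x * y) * xg C (top D) ((N' : F) * (x * x * y)) ∈ M := by
    intro x y hx hy
    have h := comm_formula C ha hb hba hbna x y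
    have hm : (xg C a x * xg C b y)⁻¹ * (xg C b y * xg C a x) ∈ M :=
      mul_mem (inv_mem (mul_mem hx hy)) (mul_mem hy hx)
    rw [h, inv_mul_cancel_left] at hm
    simpa [ChevalleyDatum.commWord, hterms, wg, sq, mul_assoc] using hm
  have ha1 : xg C a (1 : F) ∈ M := hL (xg_mem_fixedRoots σ C a (map_one σ))
  have short : ∀ {u : F}, u ∈ params C M → xg C a u ∈ M := by
    intro u hu
    have h1 := pair ha1 (lb.2 hu)
    have h2 : xg C (top D) ((N' : F) * (1 * 1 * u)) ∈ M := by
      rw [one_mul, one_mul]; exact unit_mem C (hsign hN') hu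
    have h3 := mul_mem h1 (inv_mem h2)
    rw [mul_inv_cancel_right] at h3
    have h4 := unit_mem C (t := (N : F) * -1 * u) (e := -(N : F)) (by linear_combination hsign hN) h3
    rw [show -(N : F) * ((N : F) * -1 * u) = u by linear_combination u * hsign hN] at h4
    have h5 := (word_mem C σ hL hl1 hs).1 h4
    rwa [hw1] at h5
  intro x hx y hy
  by_cases hp : p = 2
  · subst hp
    have u1 : ∀ {n : ℤ}, n.natAbs = 1 → (n : F) = 1 := fun h => cast_unit_two h
    have rule : ∀ {c d : F}, xg C s c * xg C (top D) d ∈ M → d + c * c ∈ params C M := by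
      intro c d hcd
      have hP : xg C a c * xg C (top D) d ∈ M := by
        have := conj_word_mem C σ hL l₁ hcd
        rwa [← MulAut.conj_apply, map_mul, MulAut.conj_apply, MulAut.conj_apply, word_conj_two C hl1 hs,
          word_conj_two C hl1 hT, hw1, hw1'] at this
      have hb1 : xg C b (1 : F) ∈ M := hL (xg_mem_fixedRoots σ C b (map_one σ))
      have hf : xg C b (1 : F) * xg C a c = xg C a c * xg C b 1 * (xg C s c * xg C (top D) (c * c)) := by
        rw [comm_formula C ha hb hba hbna c 1]
        congr 1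
        simp [ChevalleyDatum.commWord, hterms, wg, u1 hN, u1 hN', CharTwo.neg_eq, sq]
      have hW : xg C s c * xg C (top D) (c * c) ∈ M := by
        have hm := mul_mem (mul_mem (mul_mem (inv_mem hb1) (inv_mem hP)) hb1) hP
        have hT2 : D.nroots / 2 ≤ top D := by simp only [top] at *; omega
        have hcc : ∀ {r : ℕ}, D.nroots / 2 ≤ r → r < D.nroots → ∀ v : F, Commute (xg C (top D) d) (xg C r v) :=
          fun h1 h2 v => top_comm C h1 h2 d v
        rwa [show (xg C b (1 : F))⁻¹ * (xg C a c * xg C (top D) d)⁻¹ * xg C b 1 * (xg C a c * xg C (top D) d) =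
          xg C s c * xg C (top D) (c * c) by
            have c1 : Commute (xg C (top D) d) (xg C b (1 : F)) := hcc hbp hb 1
            have c2 : Commute (xg C (top D) d) (xg C s c * xg C (top D) (c * c)) :=
              (hcc hsp hs c).mul_right (hcc hT2 hT _)
            calc (xg C b (1 : F))⁻¹ * (xg C a c * xg C (top D) d)⁻¹ * xg C b 1 * (xg C a c * xg C (top D) d)
                = ((xg C b (1 : F))⁻¹ * (xg C (top D) d)⁻¹) * (xg C a c)⁻¹ * (xg C b 1 * xg C a c) *
                    xg C (top D) d := by group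
              _ = (xg C (top D) d)⁻¹ * (xg C s c * xg C (top D) (c * c)) * xg C (top D) d := by
                    rw [← c1.inv_left.inv_right.eq, hf]; group
              _ = _ := by rw [mul_assoc, ← c2.eq, inv_mul_cancel_left]] at hm
      have h3 := mul_mem (inv_mem hW) hcd
      rw [mul_inv_rev, mul_assoc, inv_mul_cancel_left, xg_inv, xg_mul] at h3
      show xg C _ (d + c * c) ∈ M
      rwa [add_comm, CharTwo.neg_eq] at h3
    have p2 : ∀ {t u : F}, t ∈ params C M → u ∈ params C M → xg C s (t * u) * xg C (top D) (t * t * u) ∈ M :=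
      fun {t u} ht hu => by
        have := pair (short ht) (lb.2 hu)
        simpa [u1 hN, u1 hN', CharTwo.neg_eq] using this
    have hsq : ∀ t ∈ params C M, t * t ∈ params C M := fun t ht => by
      have h6 : xg C s t ∈ M := by
        have h5 := short ht
        rw [← hw1] at h5
        exact (word_mem C σ hL hl1 hs).2 h5
      have := rule (c := t) (d := 0) (by rwa [xg_zero, mul_one])
      simpa using this
    refine mul_closed_two (params C M) (params_finite C hT) (params_zero C)
      (hL (xg_mem_fixedRoots σ C _ (map_one σ))) (params_add C) hsq (fun t ht u hu => ?_) x hx y hy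
    have := rule (p2 ht hu)
    rwa [show t * u * (t * u) = t * t * (u * u) by ring] at this
  · have hys : xg C s y ∈ M := by
      have h5 := short hy
      rw [← hw1] at h5
      exact (word_mem C σ hL hl1 hs).2 h5
    have h := single_comm C ha hs hsa hsna has (short hx) hys
    have h2 : xg C (top D) ((2 : F) * (x * y)) ∈ M := by
      rcases Int.natAbs_eq N₂ with e | e <;> rw [e, hN₂] at h
      · simpa [mul_assoc] using h
      · simpa [mul_assoc, xg_inv] using inv_mem h
    obtain ⟨j, hj⟩ := (Fact.out : p.Prime).odd_of_ne_two hp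
    have h3 := pow_mem h2 (j + 1)
    rw [ChevSubfieldPairs.xg_pow] at h3
    show xg C _ (x * y) ∈ M
    have : ((2 * j + 1 : ℕ) : F) = 0 := by rw [← hj]; exact CharP.cast_eq_zero F p
    push_cast at this h3
    rwa [show ((j : F) + 1) * (2 * (x * y)) = x * y by linear_combination (x * y) * this] at h3

/-- all root elements with parameters closed under inversion lie in `M` -/
theorem roots_mem (hup : longUp D = true) (hcl : longClosed D = true) (hcov : torusCover D = true) (s : ℕ) {t : F}
    (ht : t ∈ params C M) (hti : t⁻¹ ∈ params C M) : xg C s t ∈ M := by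
  by_cases hs : s < D.nroots
  swap
  · rw [show xg C s t = 1 from Units.ext (x_out hs t)]; exact one_mem _
  simp only [torusCover, List.all_eq_true, List.mem_range, Bool.or_eq_true, List.any_eq_true, Bool.and_eq_true,
    beq_iff_eq] at hcov
  rcases hcov s hs with h | ⟨r, hr, hlr, hpair⟩
  · exact (long_iff C σ hL hup s hs h).2 ht
  by_cases ht0 : t = 0
  · rw [ht0, xg_zero]; exact one_mem _
  simp only [longClosed, List.all_eq_true, List.mem_range, Bool.or_eq_true, Bool.not_eq_true', Bool.and_eq_true]
    at hcl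
  have hln : isLong D (D.neg r) = true := by
    rcases hcl r hr with h | h
    · rw [hlr] at h; exact Bool.noConfusion h
    · exact h.1
  have hgm : ∀ {u : F}, u ∈ params C M → u⁻¹ ∈ params C M → hg C r u ∈ M := by
    intro u hu hui
    have hng : ∀ {v : F}, v ∈ params C M → v⁻¹ ∈ params C M → ng C r v ∈ M := fun {v} hv hvi =>
      mul_mem (mul_mem ((long_iff C σ hL hup r hr hlr).2 hv)
        ((long_iff C σ hL hup _ (C.neg_lt r) hln).2 (params_neg C _ hvi))) ((long_iff C σ hL hup r hr hlr).2 hv)
    have h1 : (1 : F) ∈ params C M := hL (xg_mem_fixedRoots σ C _ (map_one σ))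
    exact mul_mem (hng hu hui) (hng (params_neg C _ h1) (by rw [inv_neg, inv_one]; exact params_neg C _ h1))
  have h1 : xg C s (1 : F) ∈ M := hL (xg_mem_fixedRoots σ C s (map_one σ))
  have conj : ∀ {u : F}, u ≠ 0 → u ∈ params C M → u⁻¹ ∈ params C M → xg C s (u ^ D.pairing r s) ∈ M := by
    intro u hu0 hu hui
    have := mul_mem (mul_mem (hgm hu hui) h1) (inv_mem (hgm hu hui))
    rwa [hg_conj_xg C hr hs hu0, mul_inv_cancel_right, mul_one] at this
  rcases Int.natAbs_eq (D.pairing r s) with e | e
  · have := conj ht0 ht hti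
    rwa [e, hpair, Nat.cast_one, zpow_one] at this
  · have := conj (inv_ne_zero ht0) hti (by rwa [inv_inv])
    rwa [e, hpair, Nat.cast_one, zpow_neg, zpow_one, inv_inv] at this

end Cfsg.Agent.ChevSubfieldField
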