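import Cfsg.Agent.Lib.ChevSubfieldParabolic
import Cfsg.Agent.Lib.ChevBorelTits

/-!
Centralisers of fixed unipotent elements in a group over the fixed root elements.
-/

set_option autoImplicit false
set_option linter.unusedSectionVars false

namespace Cfsg.Agent.ChevSubfieldLocal

open Cfsg.Lie Cfsg.Agent.ChevalleyEngine Cfsg.Agent.ChevalleyCert Cfsg.Agent.ChevalleyRoots
open Cfsg.Agent.ChevalleyCore Cfsg.Agent.ChevalleyTorus Cfsg.Agent.ChevBruhat Cfsg.Agent.ChevalleyUnipotent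
open Cfsg.Agent.ChevFrobeniusFixed Cfsg.Agent.ChevSubfieldData Cfsg.Agent.ChevRootCentralizer
open Cfsg.Agent.ChevSubfieldUnipotent Cfsg.Agent.ChevSubfieldBorel Cfsg.Agent.ChevalleyAdjoint

variable {D : ChevalleyDatum} (C : Cert D) {F : Type*} [Field F] (p : ℕ) [Fact p.Prime] [CharP F p]

include C

/-- elements of `U` are `p`-elements -/
theorem U_pow {u : GL D.Idx F} (hu : u ∈ D.posUnipotent F) : ∃ N, u ^ p ^ N = 1 := by
  set K : ℤ := ∑ q : D.Idx, |kq C q| with hK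
  have hbound : ∀ q : D.Idx, |kq C q| ≤ K := fun q =>
    Finset.single_le_sum (f := fun q => |kq C q|) (fun q _ => abs_nonneg _) (Finset.mem_univ q)
  have hpow : ∀ n : ℕ, Raise (kq C) n (((u : Matrix D.Idx D.Idx F) - 1) ^ n) := by
    intro n
    induction n with
    | zero =>
      intro a b h
      by_cases hab : a = b
      · subst hab; simp
      · simp [Matrix.one_apply_ne hab] at h
    | succ n ih =>
      rw [pow_succ, Nat.cast_succ]
      exact raise_mul _ ih (U_le_upper C hu).1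
  obtain ⟨N, hN⟩ := pow_unbounded_of_one_lt (R := ℕ) (2 * K.toNat + 1) (Fact.out : p.Prime).one_lt
  refine ⟨N, ?_⟩
  have h0 : ((u : Matrix D.Idx D.Idx F) - 1) ^ p ^ N = 0 := by
    ext a b
    by_contra hne
    have h := hpow (p ^ N) a b hne
    have ha := abs_le.1 (hbound a)
    have hb := abs_le.1 (hbound b)
    push_cast at h
    have hN' : (2 * (K.toNat : ℤ) + 1) < (p : ℤ) ^ N := by exact_mod_cast hN
    omega
  rcases isEmpty_or_nonempty D.Idx with hI | hI
  · exact Units.ext (Subsingleton.elim _ _)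
  rw [sub_pow_char_pow_of_commute p N (Commute.one_right (u : Matrix D.Idx D.Idx F)), one_pow, sub_eq_zero] at h0
  exact Units.ext (by rwa [Units.val_pow_eq_pow_val, Units.val_one])

variable (S : Sys D F)
include S

/-- a `p`-element of the Borel subgroup lies in `U` -/
theorem mem_U_of_pow {b : GL D.Idx F} (hb : b ∈ D.borelSubgroup F) {N : ℕ} (h : b ^ p ^ N = 1) :
    b ∈ D.posUnipotent F := by
  obtain ⟨u, hu, t, ht, rfl⟩ := (ChevalleyTorus.mem_B_iff C).1 hb
  have hpow : ∀ n : ℕ, ∃ v ∈ D.posUnipotent F, (u * t) ^ n = v * t ^ n := by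
    intro n
    induction n with
    | zero => exact ⟨1, one_mem _, by simp⟩
    | succ n ih =>
      obtain ⟨v, hv, e⟩ := ih
      refine ⟨v * (t ^ n * u * (t ^ n)⁻¹), mul_mem hv
        ((Subgroup.mem_normalizer_iff.1 (H_le_normalizer_U C (pow_mem ht n)) u).1 hu), ?_⟩
      rw [pow_succ, e, pow_succ]; group
  obtain ⟨v, hv, e⟩ := hpow (p ^ N)
  rw [h] at e
  have h1 : t ^ p ^ N ∈ D.posUnipotent F ⊓ D.diagonalSubgroup F := by
    refine ⟨?_, pow_mem ht _⟩
    have h2 : t ^ p ^ N = v⁻¹ := eq_inv_of_mul_eq_one_right e.symm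
    exact h2 ▸ Subgroup.inv_mem _ hv
  rw [ChevalleyTorus.U_inf_H C, Subgroup.mem_bot] at h1
  obtain ⟨c, rfl⟩ := (ChevalleyTorus.mem_H_iff C).1 ht
  have ht1 : torus D c = 1 := by
    rcases isEmpty_or_nonempty D.Idx with hI | hI
    · exact Units.ext (Subsingleton.elim _ _)
    have e2 := congrArg (fun g : GL D.Idx F => (g : Matrix D.Idx D.Idx F)) h1
    simp only [Units.val_pow_eq_pow_val, Units.val_one, coe_torus, tmat, Matrix.diagonal_pow] at e2
    apply Units.ext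
    rw [coe_torus, tmat, Units.val_one, ← Matrix.diagonal_one]
    congr 1
    funext q
    have e3 := congrFun (congrFun e2 q) q
    rw [Matrix.diagonal_apply_eq, Matrix.one_apply_eq, Pi.pow_apply] at e3
    exact iterateFrobenius_inj F p N (by rw [iterateFrobenius_def, iterateFrobenius_def, one_pow]; exact e3)
  rw [ht1, mul_one]
  exact hu

variable (σ : F →+* F)

/-- a fixed coset of a parabolic subgroup has a representative among the fixed root elements -/
theorem fixed_coset {J : Set ℕ} {g : GL D.Idx F} (hg : g ∈ D.group F)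
    (hσ : g⁻¹ * fr σ g ∈ D.parabolicSubgroup F J) :
    ∃ g₀ ∈ fixedRoots D σ, g₀⁻¹ * g ∈ D.parabolicSubgroup F J := by
  classical
  have hBP : D.borelSubgroup F ≤ D.parabolicSubgroup F J := le_sup_left
  have hex : ∃ k, ∃ u ∈ D.posUnipotent F, ∃ n : ↥(D.monomialSubgroup F), ∃ q ∈ D.parabolicSubgroup F J,
      g = u * (n : GL D.Idx F)⁻¹ * q ∧ S.X.inv (S.toW n) = k := by
    obtain ⟨b, hb, n, v, hv, e⟩ := S.exists_cell_form (inv_mem hg)
    refine ⟨_, v⁻¹, inv_mem (S.Uw_le_U _ hv), n, b⁻¹, hBP (inv_mem hb), ?_, rfl⟩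
    rw [← inv_inv g, e]; group
  obtain ⟨u, hu, n, q, hq, e, hk⟩ := Nat.find_spec hex
  have hmin : ∀ j ∈ J, j < D.rank → D.IsPosRoot (S.X.img (S.toW n)⁻¹ (D.simple j)) := by
    intro j hjJ hj
    refine (S.X.pos_or_neg (S.X.img_lt _ (S.X.simple_lt hj))).resolve_right fun hneg => ?_
    have hlen := S.X.inv_simple_mul_of_neg ⟨j, hj⟩ hneg
    refine Nat.find_min hex (show S.X.inv (S.X.C.simple ⟨j, hj⟩ * S.toW n) < Nat.find hex by omega)
      ⟨u, hu, S.sN ⟨j, hj⟩ * n, (S.sN ⟨j, hj⟩ : GL D.Idx F) * q, mul_mem ?_ hq, ?_, by rw [map_mul, S.toW_sN]⟩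
    · exact Subgroup.mem_sup_right (Subgroup.subset_closure ⟨j, hjJ, hj, S.coe_nn _ _⟩)
    · rw [e, Subgroup.coe_mul, mul_inv_rev]; group
  obtain ⟨b', hb', u', hu', e'⟩ := S.exists_form n (Sys.U_le_B (inv_mem hu))
  have e2 : g = u'⁻¹ * (n : GL D.Idx F)⁻¹ * (b'⁻¹ * q) := by
    have : u * (n : GL D.Idx F)⁻¹ = ((n : GL D.Idx F) * u⁻¹)⁻¹ := by group
    rw [e, this, e']; group
  obtain ⟨m, hm, hmw⟩ := stab_lift C S [] (by simp) (fixedRoots D σ)
    (fun i _ => ChevSubfieldSpecial.ns_mem_fixedRoots C σ i.val) (S.toW n) (by simp)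
  have hker : (m : GL D.Idx F) * (n : GL D.Idx F)⁻¹ ∈ D.diagonalSubgroup F :=
    S.toW_ker.le (show m * n⁻¹ ∈ S.toW.ker by simp [MonoidHom.mem_ker, hmw])
  set q' := (m : GL D.Idx F) * (n : GL D.Idx F)⁻¹ * (b'⁻¹ * q)
  have hq' : q' ∈ D.parabolicSubgroup F J := mul_mem (hBP (Sys.H_le_B hker)) (mul_mem (hBP (inv_mem hb')) hq)
  have e3 : g = u'⁻¹ * (m : GL D.Idx F)⁻¹ * q' := by rw [e2]; simp only [q']; group
  have hfm : fr σ (m : GL D.Idx F) = m := fr_fixedRoots σ C hm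
  have hfq : fr σ q' ∈ D.parabolicSubgroup F J := by
    suffices h : D.parabolicSubgroup F J ≤ (D.parabolicSubgroup F J).comap (fr σ) from h hq'
    refine sup_le (fun b hb => ?_) ((Subgroup.closure_le _).2 ?_)
    · obtain ⟨v, hv, t, ht, rfl⟩ := (ChevalleyTorus.mem_B_iff C).1 hb
      rw [Subgroup.mem_comap, map_mul]
      exact hBP (mul_mem (Sys.U_le_B (fr_U σ C hv)) (Sys.H_le_B (fr_H σ C S ht)))
    · rintro y ⟨j, hjJ, hj, hy⟩
      obtain rfl : y = ns C j := Units.ext (hy.trans (coe_ng C _ _).symm)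
      rw [SetLike.mem_coe, Subgroup.mem_comap,
        fr_fixedRoots σ C (ChevSubfieldSpecial.ns_mem_fixedRoots C σ j)]
      exact ChevalleyParabolic.ns_mem_parabolic C hjJ hj
  have hu'' : (m : GL D.Idx F) * (u' * (fr σ u')⁻¹) * (m : GL D.Idx F)⁻¹ ∈ D.parabolicSubgroup F J := by
    have h1 := mul_mem (mul_mem hq' hσ) (inv_mem hfq)
    rwa [e3, map_mul, map_mul, map_inv, map_inv, hfm, show q' * ((u'⁻¹ * (m : GL D.Idx F)⁻¹ * q')⁻¹ *
      ((fr σ u')⁻¹ * (m : GL D.Idx F)⁻¹ * fr σ q')) * (fr σ q')⁻¹ =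
        (m : GL D.Idx F) * (u' * (fr σ u')⁻¹) * (m : GL D.Idx F)⁻¹ by group] at h1
  have hopp : (m : GL D.Idx F) * (u' * (fr σ u')⁻¹) * (m : GL D.Idx F)⁻¹ ∈
      upperAt (fun x => - ChevalleyParabolic.wJ C J x) 1 := by
    rw [← hmw] at hu'
    refine Sys.conj_closure_le (T := {g : GL D.Idx F | ∃ r t, r ∈ S.X.invSet (S.toW m) ∧ g = S.xg r t}) _ ?_
      (mul_mem hu' (inv_mem (fr_Uw σ C S _ hu')))
    rintro y ⟨r, t, hr, rfl⟩
    rw [S.X.mem_invSet] at hr
    obtain ⟨c, -, h1, -⟩ := S.acts_toW m r hr.1.1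
    rw [h1, sysXg C S]
    set s := S.X.img (S.toW m) r with hs
    have hsn : s < D.nroots := hr.2.1
    have hpos := (isPos C).2 ⟨(ChevalleyRoots.neg_pos C hsn).2 ((ChevalleyRoots.isNeg C).1 hr.2), C.neg_lt s⟩
    have hout : ¬ D.InRootSub J (D.neg s) := by
      intro hin
      have h2 : D.IsPosRoot (S.X.img (S.toW m)⁻¹ (D.neg s)) := by
        refine S.X.pos_img_of_simples _ hpos fun k hk hck => ?_
        have hkJ : k ∈ J := by
          by_contra hkJ
          exact hck (hin.2 k hk hkJ)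
        rw [hmw]
        exact hmin k hkJ hk
      rw [S.X.img_neg _ hsn, hs, S.X.img_inv_img] at h2
      exact S.X.not_pos_and_neg hr.1 ((S.X.pos_neg_iff hr.1.1).1 h2)
    refine ChevalleyParabolic.xg_mem_weight C hsn (fun k hk a b hab => ?_) _
    have h2 := ChevalleyParabolic.xm_wJ C (J := J) hk hsn hab
    have h3 := ChevalleyParabolic.deg_out C hpos hout
    have h4 : ChevalleyParabolic.deg C J (D.neg s) = - ChevalleyParabolic.deg C J s := by
      rw [ChevalleyParabolic.deg, ChevalleyParabolic.deg, ← Finset.sum_neg_distrib]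
      refine Finset.sum_congr rfl fun j hj => ?_
      split
      · simp
      · rw [C.coef_neg s j hsn (Finset.mem_range.1 hj)]
    have hk1 : (1 : ℤ) ≤ k := by exact_mod_cast hk
    push_cast
    nlinarith
  have hup : D.parabolicSubgroup F J ≤ upperAt (ChevalleyParabolic.wJ C J) 0 := by
    rw [← ChevalleyParabolic.radical_sup_levi C J]
    refine sup_le (fun y hy => ?_) (fun y hy => ?_)
    · have h1 := ChevalleyParabolic.radical_le C J hy
      exact ⟨raise_mono _ (by norm_num) h1.1, raise_mono _ (by norm_num) h1.2⟩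
    · refine sup_le (fun g hg => ChevalleyParabolic.H_mem_weight C hg) ((Subgroup.closure_le _).2 ?_) hy
      rintro y ⟨r, t, hr, hy⟩
      obtain rfl := (xg_eq_iff C).1 hy
      refine ChevalleyParabolic.xg_mem_weight C hr.1 (fun k hk a b hab => ?_) t
      rw [ChevalleyParabolic.xm_wJ C hk hr.1 hab, ChevalleyParabolic.deg_in C hr]
      simp
  have h1 : (m : GL D.Idx F) * (u' * (fr σ u')⁻¹) * (m : GL D.Idx F)⁻¹ = 1 := by
    refine eq_one_of_diag _ le_rfl hopp fun i j hij => ?_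
    by_contra hne
    have a := (hup hu'').1 i j (by simpa [Matrix.one_apply_ne hij] using hne)
    have b := hopp.1 i j (by simpa [Matrix.one_apply_ne hij] using hne)
    simp only at b
    push_cast at a b
    omega
  have hfu : fr σ u' = u' := by
    have := congrArg (fun z => (m : GL D.Idx F)⁻¹ * z * (m : GL D.Idx F)) h1
    simp only [mul_one, inv_mul_cancel, mul_assoc, inv_mul_cancel_left] at this
    exact (mul_inv_eq_one.1 (by simpa using this)).symm
  refine ⟨u'⁻¹ * (m : GL D.Idx F)⁻¹, mul_mem (inv_mem (fixed_U σ C (S.Uw_le_U _ hu') hfu)) (inv_mem hm), ?_⟩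
  rw [e3, inv_mul_cancel_left]
  exact hq'

omit [Fact p.Prime] [CharP F p] in
/-- the starting parameter of a subgroup of `U` -/
theorem start_of_U {Q : Subgroup (GL D.Idx F)} (hQ : Q ≤ D.posUnipotent F) :
    ∃ g ∈ D.group F, ∃ v : Fin D.rank → ℝ, ChevBorelTits.Dominant v ∧ ChevBorelTits.Cond C Q g v := by
  refine ⟨1, one_mem _, fun _ => 1, fun _ => zero_le_one, fun q hq => ?_⟩
  have hle : D.posUnipotent F ≤
      ChevBorelTits.rGroup (ChevBorelTits.wv C fun _ : Fin D.rank => (1 : ℝ)) 1 zero_le_one := by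
    refine (Subgroup.closure_le _).2 ?_
    rintro y ⟨r, t, hr, hy⟩
    obtain ⟨h1, h2⟩ := (isPos C).1 hr
    refine (xg_eq_iff C).1 hy ▸ ChevBorelTits.xg_mem_rGroup C _ h2 zero_le_one ?_ t
    obtain ⟨j, hj⟩ : ∃ j : Fin D.rank, C.coef r j ≠ 0 := by
      by_contra hc
      push Not at hc
      refine key_ne_zero C h2 ?_
      have := key_lin C (r := r) (s := r) (k := r) 0 0 fun l hl => by rw [hc ⟨l, hl⟩]; simp
      simpa using this
    have hj1 : (1 : ℝ) ≤ (C.coef r j : ℝ) := by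
      exact_mod_cast (show (1 : ℤ) ≤ C.coef r j by have := C.coef_pos r j h1 h2 j.isLt; omega)
    refine hj1.trans ?_
    simp only [ChevBorelTits.val, mul_one]
    exact Finset.single_le_sum (f := fun l : Fin D.rank => (C.coef r l : ℝ))
      (fun l _ => by exact_mod_cast C.coef_pos r l h1 h2 l.isLt) (Finset.mem_univ j)
  rw [inv_one, one_mul, mul_one]
  exact (hle (hQ hq)).1

variable {M : Subgroup (GL D.Idx F)}

/-- the fixed elements of `M` -/
noncomputable def fixedPart (M : Subgroup (GL D.Idx F)) : Subgroup (GL D.Idx F) :=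
  M ⊓ MonoidHom.eqLocus (fr σ) (MonoidHom.id _)

omit C S [Fact p.Prime] [CharP F p] in
theorem mem_fixedPart {g : GL D.Idx F} : g ∈ fixedPart σ M ↔ g ∈ M ∧ fr σ g = g := Iff.rfl

/-- a `p`-element of the fixed part is conjugate there into `U` -/
theorem conj_into_U (X : Ctx C σ M) {e : GL D.Idx F} (he : e ∈ fixedPart σ M) {N : ℕ} (hp : e ^ p ^ N = 1) :
    ∃ m ∈ fixedPart σ M, m * e * m⁻¹ ∈ D.posUnipotent F := by
  haveI := X.fin
  set R := fixedPart σ M
  haveI : Finite ↥R := Finite.of_injective (fun x : ↥R => (⟨x.1, x.2.1⟩ : ↥M)) fun a b h => by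
    apply Subtype.ext
    exact congrArg (fun z : ↥M => (z : GL D.Idx F)) h
  let S0 : Subgroup ↥R := (D.posUnipotent F).subgroupOf R
  have hS0 : IsPGroup p ↥S0 := by
    intro x
    obtain ⟨k, hk⟩ := U_pow C p (show ((x : ↥R) : GL D.Idx F) ∈ D.posUnipotent F from x.2)
    exact ⟨k, Subtype.ext (Subtype.ext (by simpa using hk))⟩
  obtain ⟨Q, hQ⟩ := hS0.exists_le_sylow
  have hQS : (Q : Subgroup ↥R) = S0 := by
    refine le_antisymm ?_ hQ
    by_contra hnot
    haveI : Group.IsNilpotent ↥(Q : Subgroup ↥R) := Q.isPGroup'.isNilpotent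
    have hlt : S0.subgroupOf Q < ⊤ := lt_top_iff_ne_top.2 fun h => hnot (Subgroup.subgroupOf_eq_top.1 h)
    obtain ⟨y, hy, hy'⟩ := SetLike.exists_of_lt (normalizerCondition_of_isNilpotent _ hlt)
    set g : GL D.Idx F := ((y : ↥R) : GL D.Idx F)
    have hgB : g ∈ D.borelSubgroup F := by
      refine ChevBorelCriterion.mem_B_of_simple C S (X.le (y : ↥R).2.1) fun i hi => ⟨1, one_ne_zero, ?_⟩
      obtain ⟨h1, h2⟩ := C.simple_mem i hi
      have hxR : xg C (D.simple i) (1 : F) ∈ R :=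
        ⟨X.fixed_le (xg_mem_fixedRoots σ C _ (map_one σ)), (fr_xg σ C _ _).trans (by rw [map_one]; rfl)⟩
      have hxS : (⟨_, hxR⟩ : ↥R) ∈ S0 := xg_mem_U C h1 h2 1
      exact (Subgroup.mem_normalizer_iff.1 hy ⟨⟨_, hxR⟩, hQ hxS⟩).1 hxS
    obtain ⟨k, hk⟩ := Q.isPGroup' y
    refine hy' (mem_U_of_pow C p S hgB (N := k) ?_)
    have := congrArg (fun z : ↥(Q : Subgroup ↥R) => ((z : ↥R) : GL D.Idx F)) hk
    simpa [g] using this
  have hE : IsPGroup p ↥(Subgroup.zpowers (⟨e, he⟩ : ↥R)) := by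
    intro x
    obtain ⟨k, hk⟩ := Subgroup.mem_zpowers_iff.1 x.2
    refine ⟨N, Subtype.ext ?_⟩
    show (x : ↥R) ^ p ^ N = 1
    rw [← hk, ← zpow_natCast, ← zpow_mul, mul_comm, zpow_mul, zpow_natCast,
      show (⟨e, he⟩ : ↥R) ^ p ^ N = 1 from Subtype.ext (by simpa using hp), one_zpow]
  obtain ⟨P, hP⟩ := hE.exists_le_sylow
  obtain ⟨m, hm⟩ := MulAction.exists_smul_eq ↥R P Q
  refine ⟨(m : GL D.Idx F), m.2, ?_⟩
  have h1 : m * ⟨e, he⟩ * m⁻¹ ∈ (Q : Subgroup ↥R) := by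
    rw [← hm, Sylow.coe_subgroup_smul, Subgroup.mem_pointwise_smul_iff_inv_smul_mem]
    simpa [MulAut.smul_def, mul_assoc] using hP (Subgroup.mem_zpowers _)
  rw [hQS] at h1
  exact h1

/-- the centralizer in `M` of a fixed non-trivial `p`-element is fixed -/
theorem centralizer_fixed (X : Ctx C σ M) {e : GL D.Idx F} (he : e ∈ fixedPart σ M) {N : ℕ}
    (hp : e ^ p ^ N = 1) (hne : e ≠ 1) {h : GL D.Idx F} (hh : h ∈ M) (hcomm : Commute h e) :
    h ∈ fixedPart σ M := by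
  obtain ⟨m, hm, hmU⟩ := conj_into_U C p S σ X he hp
  suffices key : m * h * m⁻¹ ∈ fixedPart σ M by
    have := mul_mem (mul_mem (inv_mem hm) key) hm
    rwa [show m⁻¹ * (m * h * m⁻¹) * m = h by group] at this
  have hhM : m * h * m⁻¹ ∈ M := mul_mem (mul_mem hm.1 hh) (inv_mem hm.1)
  refine ⟨hhM, ?_⟩
  set u := m * e * m⁻¹ with hu
  have hu1 : u ≠ 1 := fun h1 => hne (by
    have := congrArg (fun z => m⁻¹ * z * m) h1
    simpa [hu, mul_assoc] using this)
  have huR : u ∈ fixedPart σ M := mul_mem (mul_mem hm he) (inv_mem hm)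
  have hQU : Subgroup.zpowers u ≤ D.posUnipotent F := Subgroup.zpowers_le.2 hmU
  obtain ⟨g, hg, v, -, hgv, hJ, huniq, hN⟩ := ChevBorelTits.optimal C S (Subgroup.zpowers u)
    (Subgroup.zpowers_ne_bot.2 hu1) (start_of_U C S hQU)
  set J : Set ℕ := {i | ∀ h : i < D.rank, v ⟨i, h⟩ = 0}
  have hfix : ∀ q ∈ Subgroup.zpowers u, fr σ q = q := fun q hq => by
    obtain ⟨k, rfl⟩ := Subgroup.mem_zpowers_iff.1 hq
    rw [map_zpow, huR.2]
    rfl
  have hσg : g⁻¹ * fr σ g ∈ D.parabolicSubgroup F J := by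
    refine huniq _ (fr_group σ C hg) fun q hq a b hab => hgv q hq a b fun h0 => hab ?_
    have e1 : (fr σ g)⁻¹ * q * fr σ g = fr σ (g⁻¹ * q * g) := by rw [map_mul, map_mul, map_inv, hfix q hq]
    rw [e1, coe_fr, Matrix.sub_apply, Matrix.map_apply]
    rw [Matrix.sub_apply] at h0
    by_cases hab' : a = b
    · subst hab'
      rw [Matrix.one_apply_eq] at h0 ⊢
      rw [← map_one σ, ← map_sub, h0, map_zero]
    · rw [Matrix.one_apply_ne hab', sub_zero] at h0 ⊢
      rw [h0, map_zero]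
  obtain ⟨g₀, hg₀, hg₀P⟩ := fixed_coset C S σ hg hσg
  have hcu : Commute (m * h * m⁻¹) u := by
    have := hcomm.map (MulAut.conj m)
    simpa [hu] using this
  have hnorm : m * h * m⁻¹ ∈ Subgroup.normalizer (Subgroup.zpowers u : Set (GL D.Idx F)) ⊓ D.group F := by
    refine ⟨Subgroup.mem_normalizer_iff.2 fun x => ?_, X.le hhM⟩
    have key : ∀ k : ℤ, m * h * m⁻¹ * u ^ k * (m * h * m⁻¹)⁻¹ = u ^ k := fun k => by
      rw [(hcu.zpow_right k).eq, mul_inv_cancel_right]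
    refine ⟨fun hx => ?_, fun hx => ?_⟩
    · obtain ⟨k, rfl⟩ := Subgroup.mem_zpowers_iff.1 hx
      exact Subgroup.mem_zpowers_iff.2 ⟨k, (key k).symm⟩
    · obtain ⟨k, hk⟩ := Subgroup.mem_zpowers_iff.1 hx
      refine Subgroup.mem_zpowers_iff.2 ⟨k, ?_⟩
      exact mul_left_cancel (mul_right_cancel ((key k).trans hk))
  have hP : g₀⁻¹ * (m * h * m⁻¹) * g₀ ∈ D.parabolicSubgroup F J := by
    have := mul_mem (mul_mem hg₀P (hN _ hnorm)) (inv_mem hg₀P)
    rwa [show g₀⁻¹ * g * (g⁻¹ * (m * h * m⁻¹) * g) * (g₀⁻¹ * g)⁻¹ = g₀⁻¹ * (m * h * m⁻¹) * g₀ by group] at this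
  have hg₀M := X.fixed_le hg₀
  have h3 := ChevSubfieldParabolic.M_inf_P S X hJ (mul_mem (mul_mem (inv_mem hg₀M) hhM) hg₀M) hP
  have hfg : fr σ g₀ = g₀ := fr_fixedRoots σ C hg₀
  rw [map_mul, map_mul _ g₀⁻¹, map_inv, hfg] at h3
  exact mul_left_cancel (mul_right_cancel h3)

end Cfsg.Agent.ChevSubfieldLocal
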