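import Cfsg.Agent.Lib.ChevSubfieldField

/-!
Finite overgroups of a Chevalley group over a finite subfield.
-/

set_option autoImplicit false
set_option linter.unusedSectionVars false

namespace Cfsg.Agent.ChevSubfieldMain

open Cfsg.Lie Cfsg.Agent.ChevalleyEngine Cfsg.Agent.ChevalleyCert Cfsg.Agent.ChevalleyRoots
open Cfsg.Agent.ChevalleyCore Cfsg.Agent.ChevalleyTorus Cfsg.Agent.ChevBruhat Cfsg.Agent.ChevalleyUnipotent
open Cfsg.Agent.ChevFrobeniusFixed Cfsg.Agent.ChevSubfieldData Cfsg.Agent.ChevRootCentralizer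
open Cfsg.Agent.ChevSubfieldSpecial Cfsg.Agent.ChevSubfieldBorel Cfsg.Agent.ChevSubfieldConfig
open Cfsg.Agent.ChevSubfieldUnipotent Cfsg.Agent.ChevSubfieldField

theorem data {D : ChevalleyDatum} (hD : D ∈ [chevG2, chevB2, chevD4, chevF4, chevE6, chevE7, chevE8]) :
    common D = true ∧ longClosed D = true := by
  simp only [List.mem_cons, List.not_mem_nil, or_false] at hD
  rcases hD with rfl | rfl | rfl | rfl | rfl | rfl | rfl
  exacts [⟨common_g2, closed_g2⟩, ⟨common_b2, closed_b2⟩, ⟨common_d4, closed_of_short short_d4⟩,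
    ⟨common_f4, closed_f4⟩, ⟨common_e6, closed_of_short short_e6⟩, ⟨common_e7, closed_of_short short_e7⟩,
    ⟨common_e8, closed_of_short short_e8⟩]

theorem longUp_of_common {D : ChevalleyDatum} (h : common D = true) : longUp D = true ∧ torusCover D = true := by
  simp only [common, Bool.and_eq_true] at h
  exact ⟨h.1.2, h.1.1.1.1.1.2⟩

theorem b2_facts : isLong chevB2 4 = true ∧ chevB2.nroots = 8 ∧ chevB2.neg 5 = 2 ∧
    chevB2.commTerms 5 6 = [(7, (chevB2.commTerms 5 6).headI.2.1, 1, 1)] ∧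
    (chevB2.commTerms 5 6).headI.2.1.natAbs = 2 := by decide +kernel

variable {D : ChevalleyDatum} {F : Type*} [Field F] (p : ℕ) [Fact p.Prime] [CharP F p]
  {M : Subgroup (GL D.Idx F)} [Finite ↥M]

include p in
theorem mul_closed (hD : D ∈ [chevG2, chevB2, chevD4, chevF4, chevE6, chevE7, chevE8]) (C : Cert D) (σ : F →+* F)
    (hL : fixedRoots D σ ≤ M) : ∀ x ∈ params C M, ∀ y ∈ params C M, x * y ∈ params C M := by
  have hup := (longUp_of_common (data hD).1).1
  simp only [List.mem_cons, List.not_mem_nil, or_false] at hD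
  rcases hD with rfl | rfl | rfl | rfl | rfl | rfl | rfl
  · exact mul_of_prod C σ hL hup prod_g2
  · obtain ⟨hlb, hn, hn5, hc, hN⟩ := b2_facts
    have e : top chevB2 = 7 := by rw [top, hn]
    exact mul_of_b C σ hL p hup (by rw [e, hn]; omega) (bconfig_of_check bcheck_b2) hlb hN (e ▸ hc) (by omega)
      (by rw [hn5]; omega)
  · exact mul_of_prod C σ hL hup prod_d4
  · exact mul_of_prod C σ hL hup prod_f4
  · exact mul_of_prod C σ hL hup prod_e6
  · exact mul_of_prod C σ hL hup prod_e7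
  · have h := prod_e8
    simp only [prodE8, List.any_eq_true, Bool.false_or] at h
    obtain ⟨r, -, s, -, h⟩ := h
    exact mul_of_prod C σ hL hup h

include p in
theorem root_exists (hD : D ∈ [chevG2, chevB2, chevD4, chevF4, chevE6, chevE7, chevE8]) (C : Cert D)
    (σ : F →+* F) (hL : fixedRoots D σ ≤ M) (hA : ∀ c, xg C (top D) c ∈ M → σ c = c) :
    ∃ s, SpecRoot C σ M s := by
  simp only [List.mem_cons, List.not_mem_nil, or_false] at hD
  have ne : ∀ {m : ℕ}, m.Prime → p ≠ m → (m : F) ≠ 0 := fun {m} hm hp h0 =>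
    hp ((Nat.prime_dvd_prime_iff_eq Fact.out hm).1 ((CharP.cast_eq_zero_iff F p m).1 h0))
  rcases hD with rfl | rfl | rfl | rfl | rfl | rfl | rfl
  · by_cases hp : p = 3
    · subst hp
      refine ⟨9, root_special (m := 3) common_g2 ⟨steps_g2.1, steps_g2.2, moves_g2.1⟩ fun c d h => ?_⟩
      have e : top chevG2 = 11 := by rw [top, g2_facts.1]
      rw [e] at h
      exact specG C σ hL (fun c hc => hA c (by rwa [e])) h
    · exact ⟨_, root_top common_g2 moves_g2.2 hA (step_special C steps_g2.1 steps_g2.2 (ne Nat.prime_three hp))⟩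
  · by_cases hp : p = 2
    · subst hp
      exact ⟨6, root_special (m := 2) common_b2 ⟨steps_b2.1, steps_b2.2, moves_b2.1⟩
        fun c d h => specB C σ (bconfig_of_check bcheck_b2) hL hA h⟩
    · exact ⟨_, root_top common_b2 moves_b2.2 hA (step_special C steps_b2.1 steps_b2.2 (ne Nat.prime_two hp))⟩
  · exact ⟨_, root_top common_d4 moves_d4 hA (step_plain C steps_d4)⟩
  · by_cases hp : p = 2
    · subst hp
      exact ⟨44, root_special (m := 2) common_f4 ⟨steps_f4.1, steps_f4.2, moves_f4.1⟩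
        fun c d h => specB C σ (bconfig_of_check bcheck_f4) hL hA h⟩
    · exact ⟨_, root_top common_f4 moves_f4.2 hA (step_special C steps_f4.1 steps_f4.2 (ne Nat.prime_two hp))⟩
  · exact ⟨_, root_top common_e6 moves_e6 hA (step_plain C steps_e6)⟩
  · exact ⟨_, root_top common_e7 moves_e7 hA (step_plain C steps_e7)⟩
  · exact ⟨_, root_top common_e8 moves_e8 hA (step_plain C steps_e8)⟩

/-- a finite group between the Chevalley group over the field of `p^a` elements and the Chevalley group -/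
theorem overgroup (hD : D ∈ [chevG2, chevB2, chevD4, chevF4, chevE6, chevE7, chevE8]) {a : ℕ} (ha : 1 ≤ a)
    (hle : M ≤ D.group F) (S₀ : Finset F) (hS₀ : S₀.card = p ^ a) (hS₁ : ∀ x ∈ S₀, x ^ (p ^ a) = x)
    (hL : Subgroup.closure {g : GL D.Idx F | ∃ (s : ℕ) (t : F), t ^ (p ^ a) = t ∧
      (g : Matrix D.Idx D.Idx F) = D.x F s t} ≤ M) :
    ∃ r, 1 ≤ r ∧
      Subgroup.closure {g : GL D.Idx F | ∃ (s : ℕ) (t : F), t ^ ((p ^ a) ^ r) = t ∧
        (g : Matrix D.Idx D.Idx F) = D.x F s t} ≤ M ∧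
      ∀ g ∈ M, ∀ i j : D.Idx,
        ((g : Matrix D.Idx D.Idx F) i j) ^ ((p ^ a) ^ r) = (g : Matrix D.Idx D.Idx F) i j := by
  obtain ⟨hdata, hcl⟩ := data hD
  obtain ⟨hup, hcov⟩ := longUp_of_common hdata
  let C := ChevalleyAll.cert D hD
  let S := ChevBruhatInstance.sys D hD F
  obtain ⟨hT, -⟩ := top_lt C hdata
  set σ₀ : F →+* F := iterateFrobenius F p a
  have hL₀ : fixedRoots D σ₀ ≤ M := by
    refine le_trans ?_ hL
    simp only [fixedRoots, σ₀, iterateFrobenius_def, le_refl]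
  have h1 : (1 : F) ∈ params C M := hL₀ (xg_mem_fixedRoots σ₀ C _ (map_one σ₀))
  obtain ⟨r, hr, hA⟩ := closed_set_eq_fixed p ha (params C M) (params_finite C hT) (params_zero C) h1
    (params_add C) (params_neg C) (mul_closed p hD C σ₀ hL₀) S₀ hS₀ fun x hx =>
      ⟨hS₁ x hx, hL₀ (xg_mem_fixedRoots σ₀ C _ (by simp only [σ₀, iterateFrobenius_def]; exact hS₁ x hx))⟩
  set σ : F →+* F := iterateFrobenius F p (a * r)
  have hσ : ∀ x, σ x = x ^ ((p ^ a) ^ r) := fun x => by rw [iterateFrobenius_def, pow_mul]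
  have hgen : Subgroup.closure {g : GL D.Idx F | ∃ (s : ℕ) (t : F), t ^ ((p ^ a) ^ r) = t ∧
      (g : Matrix D.Idx D.Idx F) = D.x F s t} ≤ M := by
    rw [Subgroup.closure_le]
    rintro g ⟨s, t, ht, hg⟩
    rw [(xg_eq_iff C).1 hg]
    exact roots_mem C σ₀ hL₀ hup hcl hcov s ((hA t).2 ht) ((hA t⁻¹).2 (by rw [inv_pow, ht]))
  refine ⟨r, hr, hgen, fun g hg => ?_⟩
  have hLσ : fixedRoots D σ ≤ M := by
    refine le_trans ?_ hgen
    simp only [fixedRoots, hσ, le_refl]
  have htop : ∀ c, xg C (top D) c ∈ M → σ c = c := fun c hc => by rw [hσ]; exact (hA c).1 hc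
  have X : Ctx C σ M := ⟨inferInstance, hle, hLσ, htop, hdata, root_exists p hD C σ hLσ htop⟩
  have hcl' : ∀ s, s < D.nroots → isLong D s = true → ∀ i, i < D.rank → isLong D (D.reflectRoot i s) = true := by
    intro s hs hl i hi
    simp only [longClosed, List.all_eq_true, List.mem_range, Bool.or_eq_true, Bool.not_eq_true',
      Bool.and_eq_true] at hcl
    rcases hcl s hs with h | h
    · rw [hl] at h; exact Bool.noConfusion h
    · exact h.2 i hi
  have hfix := (fr_eq_iff σ g).1 (ChevSubfieldPairs.all_fixed C p σ S X hcl' hg)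
  intro i j
  rw [← hσ]
  exact hfix i j

end Cfsg.Agent.ChevSubfieldMain
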