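import Cfsg.Agent.Lib.ChevSubfieldBorel

/-!
A group over the fixed root elements meets every proper parabolic subgroup in fixed elements.
-/

set_option autoImplicit false
set_option linter.unusedSectionVars false

namespace Cfsg.Agent.ChevSubfieldParabolic

open Cfsg.Lie Cfsg.Agent.ChevalleyEngine Cfsg.Agent.ChevalleyCert Cfsg.Agent.ChevalleyRoots
open Cfsg.Agent.ChevalleyCore Cfsg.Agent.ChevalleyTorus Cfsg.Agent.ChevBruhat Cfsg.Agent.ChevalleyUnipotent
open Cfsg.Agent.ChevFrobeniusFixed Cfsg.Agent.ChevSubfieldData Cfsg.Agent.ChevRootCentralizer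
open Cfsg.Agent.ChevSubfieldUnipotent Cfsg.Agent.ChevSubfieldBorel

variable {D : ChevalleyDatum} (C : Cert D) {F : Type*} [Field F]

include C

/-- the root subgroups of the positive roots from `m` on satisfying `P` -/
def gen (P : ℕ → Prop) (m : ℕ) : Subgroup (GL D.Idx F) :=
  Subgroup.closure {g | ∃ (q : ℕ) (d : F), (m ≤ q ∧ D.nroots / 2 ≤ q ∧ q < D.nroots ∧ P q) ∧ g = xg C q d}

theorem xg_mem_gen {P : ℕ → Prop} {m q : ℕ} (h1 : m ≤ q) (h2 : D.nroots / 2 ≤ q) (h3 : q < D.nroots) (h4 : P q)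
    (d : F) : xg C q d ∈ gen C (F := F) P m :=
  Subgroup.subset_closure ⟨q, d, ⟨h1, h2, h3, h4⟩, rfl⟩

theorem gen_mono {P : ℕ → Prop} {m n : ℕ} (h : m ≤ n) : gen C (F := F) P n ≤ gen C P m :=
  Subgroup.closure_mono fun _ ⟨q, d, ⟨h1, h2⟩, e⟩ => ⟨q, d, ⟨h.trans h1, h2⟩, e⟩

theorem gen_le_uGe {P : ℕ → Prop} {m : ℕ} : gen C (F := F) P m ≤ uGe C m :=
  Subgroup.closure_mono fun _ ⟨q, d, ⟨h1, h2, h3, _⟩, e⟩ => ⟨q, d, h1, h2, h3, e⟩

theorem gen_le_U {P : ℕ → Prop} {m : ℕ} : gen C (F := F) P m ≤ D.posUnipotent F :=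
  (Subgroup.closure_le _).2 fun _ ⟨_, d, ⟨_, h2, h3, _⟩, e⟩ => e ▸ xg_mem_U C h2 h3 d

/-- the commutator terms of a root in `Q` and a root in `P` lie in `P` -/
def Absorb (C : Cert D) (Q P : ℕ → Prop) : Prop :=
  ∀ a b, D.nroots / 2 ≤ a → a < D.nroots → D.nroots / 2 ≤ b → b < D.nroots → Q a → P b →
    ∀ c : ℕ, D.nroots / 2 ≤ c → c < D.nroots → ∀ i l : ℕ, 1 ≤ i → 1 ≤ l →
      (∀ j, j < D.rank → C.coef c j = (i : ℤ) * C.coef a j + (l : ℤ) * C.coef b j) → P c

theorem conj_one {Q P : ℕ → Prop} (h : Absorb C Q P) {s q : ℕ} (hs : D.nroots / 2 ≤ s) (hs' : s < D.nroots)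
    (hQ : Q s) (hq : D.nroots / 2 ≤ q) (hq' : q < D.nroots) (hP : P q) (c d : F) :
    ∃ z ∈ gen C (F := F) P (q + 1), xg C s c * xg C q d * (xg C s c)⁻¹ = xg C q d * z := by
  by_cases he : q = s
  · subst he
    exact ⟨1, one_mem _, by rw [xg_mul, xg_inv, xg_mul, mul_one, add_neg_cancel_comm]⟩
  have hne : q ≠ D.neg s := by
    have := C.neg_eq s hs'; have := C.even; omega
  refine ⟨wg C (D.commWord F s q (-c) d), ?_, ?_⟩
  · refine Subgroup.list_prod_mem _ fun g hg => ?_
    simp only [ChevalleyDatum.commWord, List.map_map, List.mem_map] at hg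
    obtain ⟨e, hc, rfl⟩ := hg
    obtain ⟨h1, h2, h3, h4⟩ := commTerms_mem C hs' hq' hc
    have hk := key_commTerm C hs' hq' hc
    have p1 := (key_pos C hs').2 hs
    have p2 := (key_pos C hq').2 hq
    have i1 : (1 : ℤ) ≤ e.2.2.1 := by exact_mod_cast h2
    have j1 : (1 : ℤ) ≤ e.2.2.2 := by exact_mod_cast h3
    have g2 : key C q < key C e.1 := by rw [hk]; nlinarith
    have l2 : q < e.1 := by
      rcases Nat.lt_trichotomy q e.1 with h | h | h
      · exact h
      · rw [h] at g2; omega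
      · have := key_lt C hq' h; omega
    exact xg_mem_gen C (by omega) (by omega) h1 (h s q hs hs' hq hq' hQ hP e.1 (by omega) h1 _ _ h2 h3 h4) _
  · rw [xg_inv, mul_assoc, comm_formula C hs' hq' he hne (-c) d, ← mul_assoc, ← mul_assoc, xg_mul,
      add_neg_cancel, xg_zero, one_mul]

theorem conj_gen {Q P : ℕ → Prop} (h : Absorb C Q P) {m : ℕ} {v z : GL D.Idx F}
    (hv : v ∈ gen C (F := F) Q (D.nroots / 2)) (hz : z ∈ gen C (F := F) P m) : v * z * v⁻¹ ∈ gen C (F := F) P m := by
  induction hv using Subgroup.closure_induction'' generalizing z with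
  | mem x hx =>
    obtain ⟨s, c, ⟨-, hs, hs', hQ⟩, rfl⟩ := hx
    refine Sys.conj_closure_le (T := {g : GL D.Idx F | ∃ (q : ℕ) (d : F),
      (m ≤ q ∧ D.nroots / 2 ≤ q ∧ q < D.nroots ∧ P q) ∧ g = xg C q d}) _ ?_ hz
    rintro y ⟨q, d, ⟨h1, h2, h3, h4⟩, rfl⟩
    obtain ⟨w, hw, e⟩ := conj_one C h hs hs' hQ h2 h3 h4 c d
    rw [e]
    exact mul_mem (xg_mem_gen C h1 h2 h3 h4 d) (gen_mono C (by omega) hw)
  | inv_mem x hx =>
    obtain ⟨s, c, ⟨-, hs, hs', hQ⟩, rfl⟩ := hx
    refine Sys.conj_closure_le (T := {g : GL D.Idx F | ∃ (q : ℕ) (d : F),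
      (m ≤ q ∧ D.nroots / 2 ≤ q ∧ q < D.nroots ∧ P q) ∧ g = xg C q d}) _ ?_ hz
    rintro y ⟨q, d, ⟨h1, h2, h3, h4⟩, rfl⟩
    obtain ⟨w, hw, e⟩ := conj_one C h hs hs' hQ h2 h3 h4 (-c) d
    rw [xg_inv, e]
    exact mul_mem (xg_mem_gen C h1 h2 h3 h4 d) (gen_mono C (by omega) hw)
  | one => simpa using hz
  | mul a b _ _ ha hb =>
    have := ha (hb hz)
    simpa [mul_assoc] using this

/-- conjugating a root element of `P` by `v` changes only later roots of `P` -/
theorem conj_lead {Q P : ℕ → Prop} (h : Absorb C Q P) {q : ℕ} (hq : D.nroots / 2 ≤ q) (hq' : q < D.nroots)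
    (hP : P q) (d : F) {v : GL D.Idx F} (hv : v ∈ gen C (F := F) Q (D.nroots / 2)) :
    ∃ z ∈ gen C (F := F) P (q + 1), v * xg C q d * v⁻¹ = xg C q d * z := by
  induction hv using Subgroup.closure_induction'' with
  | mem x hx =>
    obtain ⟨s, c, ⟨-, hs, hs', hQ⟩, rfl⟩ := hx
    exact conj_one C h hs hs' hQ hq hq' hP c d
  | inv_mem x hx =>
    obtain ⟨s, c, ⟨-, hs, hs', hQ⟩, rfl⟩ := hx
    rw [xg_inv]
    exact conj_one C h hs hs' hQ hq hq' hP (-c) d
  | one => exact ⟨1, one_mem _, by simp⟩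
  | mul a b ha' _ ha hb =>
    obtain ⟨z1, hz1, e1⟩ := ha
    obtain ⟨z2, hz2, e2⟩ := hb
    refine ⟨z1 * (a * z2 * a⁻¹), mul_mem hz1 (conj_gen C h ha' hz2), ?_⟩
    calc a * b * xg C q d * (a * b)⁻¹ = a * (b * xg C q d * b⁻¹) * a⁻¹ := by group
      _ = (a * xg C q d * a⁻¹) * (a * z2 * a⁻¹) := by rw [e2]; group
      _ = _ := by rw [e1, mul_assoc]

theorem gen_skip {P : ℕ → Prop} {m : ℕ} (h : ¬ (D.nroots / 2 ≤ m ∧ m < D.nroots ∧ P m)) :
    gen C (F := F) P m = gen C P (m + 1) := by
  refine le_antisymm ((Subgroup.closure_le _).2 ?_) (gen_mono C (by omega))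
  rintro g ⟨q, d, ⟨h1, h2, h3, h4⟩, rfl⟩
  rcases eq_or_lt_of_le h1 with rfl | hlt
  · exact absurd ⟨h2, h3, h4⟩ h
  · exact xg_mem_gen C hlt h2 h3 h4 d

theorem gen_split {P : ℕ → Prop} (h : Absorb C P P) {m : ℕ} (hm : D.nroots / 2 ≤ m) (hm' : m < D.nroots)
    (hP : P m) {g : GL D.Idx F} (hg : g ∈ gen C (F := F) P m) :
    ∃ t : F, ∃ v ∈ gen C (F := F) P (m + 1), g = xg C m t * v := by
  have hconj : ∀ (t : F) (v : GL D.Idx F), v ∈ gen C (F := F) P (m + 1) →
      xg C m t * v * (xg C m t)⁻¹ ∈ gen C (F := F) P (m + 1) :=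
    fun t v hv => conj_gen C h (xg_mem_gen C hm hm hm' hP t) hv
  induction hg using Subgroup.closure_induction with
  | mem x hx =>
    obtain ⟨r, u, ⟨h1, h2, h3, h4⟩, rfl⟩ := hx
    by_cases he : r = m
    · subst he; exact ⟨u, 1, one_mem _, by simp⟩
    · exact ⟨0, xg C r u, xg_mem_gen C (by omega) h2 h3 h4 u, by simp⟩
  | one => exact ⟨0, 1, one_mem _, by simp⟩
  | mul a b _ _ ha hb =>
    obtain ⟨t, v, hv, rfl⟩ := ha
    obtain ⟨u, w, hw, rfl⟩ := hb
    refine ⟨t + u, (xg C m u)⁻¹ * v * xg C m u * w, mul_mem ?_ hw, ?_⟩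
    · have := hconj (-u) v hv
      rwa [← xg_inv, inv_inv] at this
    · rw [← xg_mul]; group
  | inv a _ ha =>
    obtain ⟨t, v, hv, rfl⟩ := ha
    refine ⟨-t, xg C m t * v⁻¹ * (xg C m t)⁻¹, hconj t _ (inv_mem hv), ?_⟩
    rw [← xg_inv]; group

/-- intersection with the tail of `U` -/
theorem gen_inf {P : ℕ → Prop} (h : Absorb C P P) : ∀ d m γ, γ - m = d → D.nroots / 2 ≤ m → m ≤ γ → γ ≤ D.nroots →
    ∀ g ∈ gen C (F := F) P m, g ∈ uGe C (F := F) γ → g ∈ gen C (F := F) P γ := by
  intro d
  induction d with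
  | zero => intro m γ hd _ hle _ g hg _; rwa [show γ = m by omega]
  | succ d ih =>
    intro m γ hd hm hle hγ g hg hgu
    by_cases hP : P m
    · obtain ⟨t, v, hv, rfl⟩ := gen_split C h hm (by omega) hP hg
      obtain ⟨ht, -⟩ := coeff_unique C hm (show m < D.nroots by omega) (t := t) (t' := 0) (gen_le_uGe C hv)
        (uGe_mono C (by omega) hgu) (by rw [xg_zero, one_mul])
      rw [ht, xg_zero, one_mul] at hgu ⊢
      exact ih (m + 1) γ (by omega) (by omega) (by omega) hγ v hv hgu
    · rw [gen_skip C (by tauto)] at hg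
      exact ih (m + 1) γ (by omega) (by omega) (by omega) hγ g hg hgu

variable (J : Set ℕ)

theorem absorb_rad : Absorb C (fun _ => True) (fun q => ¬ D.InRootSub J q) := by
  intro a b ha ha' hb hb' _ hP c hc hc' i l hi hl he
  obtain ⟨j, hj, hjJ, hpos⟩ := ChevalleyParabolic.exists_coef C ((isPos C).2 ⟨hb, hb'⟩) hP
  refine ChevRadicalCentralizer.notIn_of_coef C hc' hj hjJ ?_
  rw [he j hj]
  have := C.coef_pos a j ha ha' hj
  have h2 : (1 : ℤ) ≤ l := by exact_mod_cast hl
  have h3 : (0 : ℤ) ≤ i := by positivity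
  nlinarith

theorem absorb_levi : Absorb C (fun q => D.InRootSub J q) (fun q => D.InRootSub J q) := by
  intro a b _ ha' _ hb' hQ hP c hc hc' i l _ _ he
  rw [ChevalleyParabolic.inRootSub_iff C hc']
  intro j hj hjJ
  rw [he j hj, (ChevalleyParabolic.inRootSub_iff C ha').1 hQ j hj hjJ,
    (ChevalleyParabolic.inRootSub_iff C hb').1 hP j hj hjJ, mul_zero, mul_zero, add_zero]

theorem gen_rad_eq : gen C (F := F) (fun q => ¬ D.InRootSub J q) (D.nroots / 2) = D.unipotentRadical F J := by
  refine le_antisymm ((Subgroup.closure_le _).2 ?_) ((Subgroup.closure_le _).2 ?_)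
  · rintro g ⟨q, d, ⟨-, h2, h3, h4⟩, rfl⟩
    exact Subgroup.subset_closure ⟨q, d, (isPos C).2 ⟨h2, h3⟩, h4, coe_xg C q d⟩
  · rintro g ⟨q, d, hq, hqJ, hg⟩
    obtain ⟨h2, h3⟩ := (isPos C).1 hq
    exact (xg_eq_iff C).1 hg ▸ xg_mem_gen C h2 h2 h3 hqJ d

theorem U_le_gen_true : D.posUnipotent F ≤ gen C (F := F) (fun _ => True) (D.nroots / 2) := by
  refine (Subgroup.closure_le _).2 ?_
  rintro g ⟨q, d, hq, hg⟩
  obtain ⟨h2, h3⟩ := (isPos C).1 hq
  exact (xg_eq_iff C).1 hg ▸ xg_mem_gen C h2 h2 h3 trivial d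

theorem gen_levi_le : gen C (F := F) (fun q => D.InRootSub J q) (D.nroots / 2) ≤ D.leviSubgroup F J := by
  refine le_trans ((Subgroup.closure_le _).2 ?_) le_sup_right
  rintro g ⟨q, d, ⟨-, -, -, h⟩, rfl⟩
  exact Subgroup.subset_closure ⟨q, d, h, coe_xg C q d⟩

theorem U_decompose {u : GL D.Idx F} (hu : u ∈ D.posUnipotent F) :
    ∃ v ∈ D.unipotentRadical F J, ∃ l ∈ gen C (F := F) (fun q => D.InRootSub J q) (D.nroots / 2), u = v * l := by
  have hle : D.posUnipotent F ≤
      D.unipotentRadical F J ⊔ gen C (F := F) (fun q => D.InRootSub J q) (D.nroots / 2) := by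
    refine (Subgroup.closure_le _).2 ?_
    rintro g ⟨q, d, hq, hg⟩
    by_cases hJ : D.InRootSub J q
    · obtain ⟨h2, h3⟩ := (isPos C).1 hq
      exact Subgroup.mem_sup_right ((xg_eq_iff C).1 hg ▸ xg_mem_gen C h2 h2 h3 hJ d)
    · exact Subgroup.mem_sup_left (Subgroup.subset_closure ⟨q, d, hq, hJ, hg⟩)
  have hn : gen C (F := F) (fun q => D.InRootSub J q) (D.nroots / 2) ≤
      Subgroup.normalizer (D.unipotentRadical F J : Set (GL D.Idx F)) :=
    (gen_le_U C).trans (le_trans (le_trans Sys.U_le_B le_sup_left) (ChevalleyParabolic.parabolic_le_normalizer C J))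
  have h := hle hu
  rw [← SetLike.mem_coe, Subgroup.coe_mul_of_right_le_normalizer_left _ _ hn] at h
  obtain ⟨v, hv, l, hl, e⟩ := h
  exact ⟨v, hv, l, hl, e.symm⟩

variable (S : Sys D F)
include S

/-- an element of `P_J` commuting with the unit root elements of the radical lies in `U` -/
theorem commute_radical_mem_U (hcheck : ChevRadicalCentralizer.diffCheck D = true)
    (hJ : ∃ i, i < D.rank ∧ i ∉ J) {g : GL D.Idx F} (hg : g ∈ D.group F)
    (hc : ∀ r, D.IsPosRoot r → ¬ D.InRootSub J r → Commute g (xg C r 1)) : g ∈ D.posUnipotent F := by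
  obtain ⟨u, hu, m, u', hu', rfl⟩ := decomp C S hg
  have key : ∀ d r, D.nroots - r = d → D.IsPosRoot r → ¬ D.InRootSub J r →
      S.X.img (S.toW m) r = r ∧ (m : GL D.Idx F) * xg C r 1 * (m : GL D.Idx F)⁻¹ = xg C r 1 := by
    intro d
    induction d using Nat.strong_induction_on with
    | _ d ih =>
      intro r hd hp hn
      obtain ⟨hr1, hr2⟩ := (isPos C).1 hp
      have hmgen : ∀ z ∈ gen C (F := F) (fun q => ¬ D.InRootSub J q) (r + 1),
          (m : GL D.Idx F) * z * (m : GL D.Idx F)⁻¹ ∈ gen C (F := F) (fun q => ¬ D.InRootSub J q) (r + 1) := by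
        intro z hz
        refine Sys.conj_closure_le (T := {g : GL D.Idx F | ∃ (q : ℕ) (d : F),
          (r + 1 ≤ q ∧ D.nroots / 2 ≤ q ∧ q < D.nroots ∧ ¬ D.InRootSub J q) ∧ g = xg C q d}) _ ?_ hz
        rintro y ⟨q, e, ⟨h1, h2, h3, h4⟩, rfl⟩
        obtain ⟨c, -, hc1, -⟩ := S.acts_toW m q h3
        simp only [sysXg C S] at hc1
        rw [hc1, (ih (D.nroots - q) (by omega) q rfl ((isPos C).2 ⟨h2, h3⟩) h4).1]
        exact xg_mem_gen C h1 h2 h3 h4 _
      obtain ⟨z1, hz1, e1⟩ := conj_lead C (absorb_rad C J) hr1 hr2 hn (1 : F) (U_le_gen_true C hu')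
      obtain ⟨z2, hz2, e2⟩ := conj_lead C (absorb_rad C J) hr1 hr2 hn (1 : F) (U_le_gen_true C (inv_mem hu))
      obtain ⟨c, hc0, h1, -⟩ := S.acts_toW m r hr2
      simp only [sysXg C S] at h1
      set s := S.X.img (S.toW m) r
      have hs : s < D.nroots := S.X.img_lt _ hr2
      have hzG : z2 * ((m : GL D.Idx F) * z1 * (m : GL D.Idx F)⁻¹)⁻¹ ∈
          gen C (F := F) (fun q => ¬ D.InRootSub J q) (r + 1) := mul_mem hz2 (inv_mem (hmgen z1 hz1))
      set z := z2 * ((m : GL D.Idx F) * z1 * (m : GL D.Idx F)⁻¹)⁻¹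
      have e : xg C s c = xg C r 1 * z := by
        have h2 : (m : GL D.Idx F) * (u' * xg C r 1 * u'⁻¹) * (m : GL D.Idx F)⁻¹ = u⁻¹ * xg C r 1 * u⁻¹⁻¹ := by
          calc (m : GL D.Idx F) * (u' * xg C r 1 * u'⁻¹) * (m : GL D.Idx F)⁻¹
              = u⁻¹ * ((u * (m : GL D.Idx F) * u') * xg C r 1) * (u * (m : GL D.Idx F) * u')⁻¹ * u := by group
            _ = _ := by rw [(hc r hp hn).eq]; group
        rw [e1, e2] at h2
        have h3 : xg C s c * ((m : GL D.Idx F) * z1 * (m : GL D.Idx F)⁻¹) = xg C r 1 * z2 := by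
          rw [← h2, ← mul_one c, ← h1 1]; group
        simp only [z]
        rw [← mul_assoc, ← h3, mul_inv_cancel_right]
      have hsU : xg C s c ∈ D.posUnipotent F := e ▸ mul_mem (xg_mem_U C hr1 hr2 1) (gen_le_U C hzG)
      have hsp : D.nroots / 2 ≤ s := by
        by_contra hcon
        have h3 := Subgroup.mem_inf.mpr ⟨Sys.U_le_B hsU, ChevalleyUnipotent.xg_mem_V C (show s < _ by omega) c⟩
        rw [S.B_inf_V, Subgroup.mem_bot] at h3
        exact hc0 (ChevBruhatInstance.xg_injective C hs hs hc0 (h3.trans (xg_zero C s).symm)).2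
      have hz : z ∈ uGe C (F := F) (r + 1) := gen_le_uGe C hzG
      rcases Nat.lt_trichotomy s r with h | h | h
      · have := coeff_unique C hsp hs (t := 0) (t' := c) (v := xg C r 1 * z) (v' := 1)
          (mul_mem (xg_mem_uGe C (by omega) hr1 hr2 1) (uGe_mono C (by omega) hz)) (one_mem _)
          (by rw [xg_zero, one_mul, mul_one]; exact e.symm)
        exact absurd this.1.symm hc0
      · refine ⟨h, ?_⟩
        rw [h] at h1 e
        have := coeff_unique C hr1 hr2 (t := c) (t' := 1) (v := 1) (one_mem _) hz (by rw [mul_one]; exact e)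
        rw [h1, mul_one, this.1]
      · have := coeff_unique C hr1 hr2 (t := 1) (t' := 0) (v := z) (v' := xg C s c) hz
          (xg_mem_uGe C (by omega) hsp hs c) (by rw [xg_zero, one_mul]; exact e.symm)
        exact absurd this.1 one_ne_zero
  have hH : (m : GL D.Idx F) ∈ D.diagonalSubgroup F :=
    S.toW_ker.le (ChevRadicalCentralizer.eq_one_of_fix C S hcheck hJ fun r hp hn => (key _ r rfl hp hn).1)
  obtain ⟨c, hcT⟩ := (ChevalleyTorus.mem_H_iff C).1 hH
  have hch : ∀ r, D.IsPosRoot r → ¬ D.InRootSub J r → tchar D c r = 1 := by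
    intro r hp hn
    obtain ⟨hr1, hr2⟩ := (isPos C).1 hp
    have h2 := (key _ r rfl hp hn).2
    rw [← hcT, torus_conj_xg C hr2, mul_one] at h2
    exact Units.ext (ChevBruhatInstance.xg_injective C hr2 hr2 (Units.ne_zero _) h2).2
  have hall : ∀ j : Fin D.rank, tchar D c (D.simple j) = 1 := by
    intro j
    by_cases hjJ : (j : ℕ) ∈ J
    · obtain ⟨r, r', hr, hr', hp, hp', hn, hn', hadd⟩ :=
        ChevRadicalCentralizer.exists_pair C hcheck hJ j.isLt hjJ
      have e : tchar D c r' = tchar D c r * tchar D c (D.simple j) := by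
        simp only [tchar]
        rw [← Finset.prod_mul_distrib]
        refine Finset.prod_congr rfl fun i _ => ?_
        rw [← zpow_add, cartan_comb C i.isLt hr (simple_lt C j.isLt) hr' 1 1
          (fun l hl => by rw [hadd l hl]; ring), one_mul, one_mul]
      rw [hch r' hp' hn', hch r hp hn, one_mul] at e
      exact e.symm
    · exact hch _ (ChevRadicalCentralizer.coef_simple_notIn C j.isLt hjJ).1
        (ChevRadicalCentralizer.coef_simple_notIn C j.isLt hjJ).2
  have hm1 : (m : GL D.Idx F) = 1 := by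
    rw [← hcT]
    apply Units.ext
    rw [coe_torus, tmat, Units.val_one, ← Matrix.diagonal_one]
    congr 1
    funext q
    rcases q with a | s
    · rfl
    · simp [ChevBorelCriterion.tchar_eq_one C hall s.val s.isLt]
  rw [hm1, mul_one]
  exact mul_mem hu hu'

/-- such an element lies in the radical -/
theorem commute_radical_mem (hcheck : ChevRadicalCentralizer.diffCheck D = true) (hdesc : descends D = true)
    (hJ : ∃ i, i < D.rank ∧ i ∉ J) {g : GL D.Idx F} (hg : g ∈ D.group F) (hgP : g ∈ D.parabolicSubgroup F J)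
    (hc : ∀ r, D.IsPosRoot r → ¬ D.InRootSub J r → Commute g (xg C r 1)) :
    g ∈ D.unipotentRadical F J := by
  let Z : Set (GL D.Idx F) := {x | x ∈ D.group F ∧ ∀ r, D.IsPosRoot r → ¬ D.InRootSub J r → Commute x (xg C r 1)}
  let I : Set (GL D.Idx F) := {l | l ∈ gen C (F := F) (fun q => D.InRootSub J q) (D.nroots / 2) ∧
    ∃ v ∈ D.unipotentRadical F J, v * l ∈ Z}
  have hZU : ∀ x ∈ Z, x ∈ D.posUnipotent F := fun x hx => commute_radical_mem_U C J S hcheck hJ hx.1 hx.2
  have rad_le : D.unipotentRadical F J ≤ D.posUnipotent F :=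
    Subgroup.closure_mono fun _ ⟨r, t, h, _, e⟩ => ⟨r, t, h, e⟩
  have hI : ∀ l ∈ I, ∀ j ∈ J, j < D.rank → ns C j * l * (ns C j)⁻¹ ∈ I := by
    rintro l ⟨hl, v, hv, hz⟩ j hjJ hj
    set n := ns C (F := F) j
    have hnP : n ∈ D.parabolicSubgroup F J := ChevalleyParabolic.ns_mem_parabolic C hjJ hj
    have hnL : n ∈ D.leviSubgroup F J :=
      Subgroup.mem_sup_right (mul_mem (mul_mem
        (Subgroup.subset_closure ⟨_, _, ChevalleyParabolic.inRootSub_simple C hjJ hj, coe_xg C _ _⟩)
        (Subgroup.subset_closure ⟨_, _, ChevalleyParabolic.inRootSub_neg C (simple_lt C hj)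
          (ChevalleyParabolic.inRootSub_simple C hjJ hj), coe_xg C _ _⟩))
        (Subgroup.subset_closure ⟨_, _, ChevalleyParabolic.inRootSub_simple C hjJ hj, coe_xg C _ _⟩))
    have hnG : n ∈ D.group F := mul_mem (mul_mem (xg_mem_group C _ _) (xg_mem_group C _ _)) (xg_mem_group C _ _)
    have hZ' : n * (v * l) * n⁻¹ ∈ Z := by
      refine ⟨mul_mem (mul_mem hnG hz.1) (inv_mem hnG), fun r hp hn => ?_⟩
      obtain ⟨h1, h2⟩ := (isPos C).1 hp
      have hne : r ≠ D.simple j := fun h => hn (h ▸ ChevalleyParabolic.inRootSub_simple C hjJ hj)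
      set r' := D.reflectRoot j r
      have hr' : r' < D.nroots := C.w_lt j r hj h2
      have hp' : D.nroots / 2 ≤ r' := simple_perm C hj h1 h2 hne
      have hn' : ¬ D.InRootSub J r' := by
        obtain ⟨k, hk, hkJ, hpos⟩ := ChevalleyParabolic.exists_coef C hp hn
        refine ChevRadicalCentralizer.notIn_of_coef C hr' hk hkJ ?_
        rw [C.coef_w j r k hj h2 hk, if_neg (fun h : k = j => hkJ (h ▸ hjJ)), sub_zero]
        omega
      have h3 := ng_simple_conj C hj hr' (C.eta j r' : F) (F := F)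
      rw [eta_cast_sq C, show D.reflectRoot j r' = r from w_invol C hj h2] at h3
      have h4 : Commute (v * l) (xg C r' (C.eta j r' : F)) := by
        have h5 := hz.2 r' ((isPos C).2 ⟨hp', hr'⟩) hn'
        rcases mul_self_eq_one_iff.1 (eta_cast_sq C (F := F) j r') with h | h <;> rw [h]
        · exact h5
        · rw [← xg_inv]; exact h5.inv_right
      have h6 := h4.map (MulAut.conj n)
      simp only [MulAut.conj_apply] at h6
      rwa [h3] at h6
    have hv' : n * v * n⁻¹ ∈ D.unipotentRadical F J :=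
      (Subgroup.mem_normalizer_iff.1 (ChevalleyParabolic.parabolic_le_normalizer C J hnP) v).1 hv
    have e : n * (v * l) * n⁻¹ = n * v * n⁻¹ * (n * l * n⁻¹) := by group
    have hlU : n * l * n⁻¹ ∈ D.posUnipotent F := by
      have := mul_mem (inv_mem (rad_le hv')) (hZU _ hZ')
      rwa [e, inv_mul_cancel_left] at this
    refine ⟨?_, n * v * n⁻¹, hv', by rwa [← e]⟩
    obtain ⟨v2, hv2, l2, hl2, e2⟩ := U_decompose C J hlU
    have hv21 : v2 = 1 := by
      have : v2 ∈ D.unipotentRadical F J ⊓ D.leviSubgroup F J := by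
        refine ⟨hv2, ?_⟩
        have : v2 = n * l * n⁻¹ * l2⁻¹ := by rw [e2]; group
        rw [this]
        exact mul_mem (mul_mem (mul_mem hnL (gen_levi_le C J hl)) (Subgroup.inv_mem _ hnL)) (Subgroup.inv_mem _ (gen_levi_le C J hl2))
      rwa [ChevalleyParabolic.radical_inf_levi C J, Subgroup.mem_bot] at this
    rw [e2, hv21, one_mul]
    exact hl2
  -- `I` is trivial
  have hI1 : ∀ k, D.nroots / 2 ≤ k → ∀ l ∈ I, l ∈ gen C (F := F) (fun q => D.InRootSub J q) k := by
    intro k hk
    induction k, hk using Nat.le_induction with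
    | base => exact fun l hl => hl.1
    | succ k hk ih =>
      intro l hl
      by_cases hmem : k < D.nroots ∧ D.InRootSub J k
      swap
      · rw [← gen_skip C (fun h => hmem h.2)]; exact ih l hl
      obtain ⟨hk', hkJ⟩ := hmem
      obtain ⟨a, v, hv, e⟩ := gen_split C (absorb_levi C J) hk hk' hkJ (ih l hl)
      suffices ha : a = 0 by rwa [e, ha, xg_zero, one_mul]
      simp only [descends, List.all_eq_true, List.mem_range'_1, List.any_eq_true, List.mem_range, Bool.or_eq_true,
        beq_iff_eq, decide_eq_true_eq] at hdesc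
      obtain ⟨j, hj, hjk⟩ := hdesc k ⟨hk, by have := C.even; omega⟩
      have hjJ : j ∈ J := by
        by_contra hjJ
        have h0 := (ChevalleyParabolic.inRootSub_iff C hk').1 hkJ j hj hjJ
        rcases hjk with h | h
        · rw [← h, C.coef_simple j j hj hj] at h0; simp at h0
        · have hne : k ≠ D.simple j := fun he => by
            rw [he, C.coef_simple j j hj hj] at h0; simp at h0
          have hp' := simple_perm C hj hk hk' hne
          have hlt' := C.w_lt j k hj hk'
          have hco := C.coef_pos _ j hp' hlt' hj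
          have hA : C.coef (D.reflectRoot j k) j = - D.cartan j k := by
            rw [C.coef_w j k j hj hk' hj, if_pos rfl, h0, zero_sub]
          have hkey : key C (D.reflectRoot j k) < key C k := key_lt C hk' h
          have : key C (D.reflectRoot j k) = 1 * key C k + (- D.cartan j k) * key C (D.simple j) :=
            key_lin C _ _ fun q hq => by
              rw [C.coef_w j k q hj hk' hq, C.coef_simple j q hj hq]
              split <;> ring
          have hks := (key_pos C (simple_lt C hj)).2 (C.simple_mem j hj).1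
          change 0 ≤ C.coef (D.reflectRoot j k) j at hco
          nlinarith
      set n := ns C (F := F) j
      by_cases hsimp : D.simple j = k
      · -- a fundamental root
        have hvup : v ∈ upSub D F j := by
          refine (Subgroup.closure_le _).2 ?_ hv
          rintro y ⟨q, d, ⟨h1, h2, h3, -⟩, rfl⟩
          exact Subgroup.subset_closure ⟨q, d, (isPos C).2 ⟨h2, h3⟩, by omega, coe_xg C q d⟩
        have hnn : S.nn (D.simple j) 1 = n := by
          simp only [n, Sys.nn, nOf, ns, ng, sysXg C S]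
        have hv' : n * v * n⁻¹ ∈ D.posUnipotent F := by
          rw [← hnn]
          exact Sys.upSub_le_U _ (S.nn_conj_upSub ⟨j, hj⟩ hvup)
        have hl' : n * l * n⁻¹ ∈ D.posUnipotent F := gen_le_U C (hI l hl j hjJ hj).1
        have hx : n * xg C k a * n⁻¹ ∈ D.posUnipotent F := by
          have := mul_mem hl' (inv_mem hv')
          rwa [e, show n * (xg C k a * v) * n⁻¹ * (n * v * n⁻¹)⁻¹ = n * xg C k a * n⁻¹ by group] at this
        rw [ng_simple_conj C hj hk', ← hsimp, S.X.reflect_simple hj] at hx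
        by_contra ha
        have hnr : D.neg (D.simple j) < D.nroots / 2 := by
          have := C.neg_eq _ (simple_lt C hj); have := (C.simple_mem j hj); have := C.even; omega
        have h3 := Subgroup.mem_inf.mpr ⟨Sys.U_le_B hx, ChevalleyUnipotent.xg_mem_V C hnr _⟩
        rw [S.B_inf_V, Subgroup.mem_bot] at h3
        exact mul_ne_zero (eta_cast_ne C j _) ha (ChevBruhatInstance.xg_injective C (C.neg_lt _) (C.neg_lt _)
          (mul_ne_zero (eta_cast_ne C j _) ha) (h3.trans (xg_zero C (D.neg (D.simple j))).symm)).2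
      · have hlt : D.reflectRoot j k < k := hjk.resolve_left hsimp
        set γ := D.reflectRoot j k
        have hγ : γ < D.nroots := C.w_lt j k hj hk'
        have hγp : D.nroots / 2 ≤ γ := simple_perm C hj hk hk' (Ne.symm hsimp)
        let P : ℕ → Prop := fun q => q ≠ D.simple j ∧ k < D.reflectRoot j q
        have wlin : ∀ q, q < D.nroots → key C (D.reflectRoot j q) =
            key C q + (- D.cartan j q) * key C (D.simple j) := by
          intro q hq
          rw [key_lin C (k := D.reflectRoot j q) (r := q) (s := D.simple j) 1 (- D.cartan j q) fun i hi => by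
            rw [C.coef_w j q i hj hq hi, C.coef_simple j i hj hi]
            split <;> ring, one_mul]
        have hPabs : Absorb C P P := by
          intro x y hx hx' hy hy' hPx hPy c hc hc' i l hi hl he
          have hlin := key_lin C (i : ℤ) (l : ℤ) he
          have hcart : D.cartan j c = (i : ℤ) * D.cartan j x + (l : ℤ) * D.cartan j y :=
            cartan_comb C hj hx' hy' hc' _ _ he
          have h1 := key_lt C (C.w_lt j x hj hx') hPx.2
          have h2 := key_lt C (C.w_lt j y hj hy') hPy.2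
          have hkp := (key_pos C hk').2 hk
          have hi1 : (1 : ℤ) ≤ i := by exact_mod_cast hi
          have hl1 : (1 : ℤ) ≤ l := by exact_mod_cast hl
          have e2 : key C (D.reflectRoot j c) =
              (i : ℤ) * key C (D.reflectRoot j x) + (l : ℤ) * key C (D.reflectRoot j y) := by
            rw [wlin c hc', wlin x hx', wlin y hy', hlin, hcart]; ring
          have h3 : key C k < key C (D.reflectRoot j c) := by rw [e2]; nlinarith
          refine ⟨fun heq => ?_, ?_⟩
          · rw [heq, S.X.reflect_simple hj, key_neg C (simple_lt C hj)] at h3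
            have := (key_pos C (simple_lt C hj)).2 (C.simple_mem j hj).1
            omega
          · by_contra hle
            rcases eq_or_lt_of_le (not_lt.1 hle) with h | h
            · rw [h] at h3; omega
            · have := key_lt C hk' h; omega
        have hv' : n * v * n⁻¹ ∈ gen C (F := F) P (D.nroots / 2) := by
          refine Sys.conj_closure_le (T := {g : GL D.Idx F | ∃ (q : ℕ) (d : F),
            (k + 1 ≤ q ∧ D.nroots / 2 ≤ q ∧ q < D.nroots ∧ D.InRootSub J q) ∧ g = xg C q d}) _ ?_ hv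
          rintro y ⟨q, d, ⟨h1, h2, h3, -⟩, rfl⟩
          have hqne : q ≠ D.simple j := fun he => by
            rw [he] at h1
            -- a fundamental root after `k` cannot be the reflected one
            have hw : key C γ = key C k + (- D.cartan j k) * key C (D.simple j) := wlin k hk'
            have hkey : key C γ < key C k := key_lt C hk' hlt
            have hks := (key_pos C (simple_lt C hj)).2 (C.simple_mem j hj).1
            have hsk : key C k < key C (D.simple j) := key_lt C (simple_lt C hj) (by omega)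
            have hγk := (key_pos C hγ).2 hγp
            have h1c : 1 ≤ D.cartan j k := by
              by_contra h
              have hprod : 0 ≤ (- D.cartan j k) * key C (D.simple j) := mul_nonneg (by omega) hks.le
              omega
            nlinarith
          rw [ng_simple_conj C hj h3]
          refine xg_mem_gen C (simple_perm C hj h2 h3 hqne) (simple_perm C hj h2 h3 hqne) (C.w_lt j q hj h3)
            ⟨fun he => ?_, ?_⟩ _
          · have h4 := w_invol C hj h3
            change D.reflectRoot j (D.reflectRoot j q) = q at h4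
            rw [show D.reflectRoot j q = D.simple j from he, S.X.reflect_simple hj] at h4
            have := C.neg_eq _ (simple_lt C hj); have := (C.simple_mem j hj); have := C.even; omega
          · rw [show D.reflectRoot j (D.reflectRoot j q) = q from w_invol C hj h3]; omega
        have hl' : n * l * n⁻¹ ∈ uGe C (F := F) γ :=
          uGe_mono C hlt.le (gen_le_uGe C (ih _ (hI l hl j hjJ hj)))
        have hl2 : n * l * n⁻¹ ∈ uGe C (F := F) (γ + 1) :=
          uGe_mono C hlt (gen_le_uGe C (ih _ (hI l hl j hjJ hj)))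
        have e3 : n * l * n⁻¹ = xg C γ ((C.eta j k : F) * a) * (n * v * n⁻¹) := by
          rw [← ng_simple_conj C hj hk', e]; simp only [n, ns]; group
        have hvγ : n * v * n⁻¹ ∈ uGe C (F := F) γ := by
          have := mul_mem (inv_mem (xg_mem_uGe C le_rfl hγp hγ ((C.eta j k : F) * a))) hl'
          rwa [e3, inv_mul_cancel_left] at this
        have hnP : ¬ P γ := fun h => by
          have h2 := h.2
          rw [show D.reflectRoot j γ = k from w_invol C hj hk'] at h2
          omega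
        have hv2 : n * v * n⁻¹ ∈ uGe C (F := F) (γ + 1) := by
          have h4 := gen_inf C hPabs _ _ γ rfl le_rfl hγp hγ.le _ hv' hvγ
          rw [gen_skip C fun h => hnP h.2.2] at h4
          exact gen_le_uGe C h4
        have h5 := coeff_unique C hγp hγ (t := (C.eta j k : F) * a) (t' := 0) hv2 hl2
          (by rw [xg_zero, one_mul, ← e3])
        exact (mul_eq_zero.1 h5.1).resolve_left (eta_cast_ne C j k)
  obtain ⟨v, hv, l, hl, rfl⟩ := U_decompose C J (hZU g ⟨hg, hc⟩)
  have hl1 := hI1 D.nroots (by omega) l ⟨hl, v, hv, hg, hc⟩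
  have : l = 1 := by
    have := gen_le_uGe C hl1
    rwa [uGe_top C le_rfl, Subgroup.mem_bot] at this
  rw [this, mul_one]
  exact hv

end Cfsg.Agent.ChevSubfieldParabolic

namespace Cfsg.Agent.ChevSubfieldParabolic

open Cfsg.Lie Cfsg.Agent.ChevalleyCert Cfsg.Agent.ChevalleyRoots Cfsg.Agent.ChevBruhat
open Cfsg.Agent.ChevalleyCore Cfsg.Agent.ChevFrobeniusFixed Cfsg.Agent.ChevSubfieldData
open Cfsg.Agent.ChevSubfieldBorel

variable {D : ChevalleyDatum} {C : Cert D} {F : Type*} [Field F] {σ : F →+* F} {M : Subgroup (GL D.Idx F)}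
variable (S : Sys D F)

theorem fr_radical (C : Cert D) (σ : F →+* F) (J : Set ℕ) {g : GL D.Idx F} (hg : g ∈ D.unipotentRadical F J) :
    fr σ g ∈ D.unipotentRadical F J := by
  induction hg using Subgroup.closure_induction with
  | mem y hy =>
    obtain ⟨r, t, hr, hn, hy⟩ := hy
    rw [(xg_eq_iff C).1 hy, fr_xg σ C]
    exact Subgroup.subset_closure ⟨r, _, hr, hn, coe_xg C _ _⟩
  | one => simp
  | mul a b _ _ ha hb => rw [map_mul]; exact mul_mem ha hb
  | inv a _ ha => rw [map_inv]; exact inv_mem ha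

include S in
theorem fr_levi (C : Cert D) (σ : F →+* F) (J : Set ℕ) {g : GL D.Idx F} (hg : g ∈ D.leviSubgroup F J) :
    fr σ g ∈ D.leviSubgroup F J := by
  suffices h : D.leviSubgroup F J ≤ (D.leviSubgroup F J).comap (fr σ) from h hg
  refine sup_le (fun y hy => Subgroup.mem_sup_left (fr_H σ C S hy)) ((Subgroup.closure_le _).2 ?_)
  rintro y ⟨r, t, hr, hy⟩
  rw [(xg_eq_iff C).1 hy, SetLike.mem_coe, Subgroup.mem_comap, fr_xg σ C]
  exact Subgroup.mem_sup_right (Subgroup.subset_closure ⟨r, _, hr, coe_xg C _ _⟩)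

include S in
/-- elements of `M` in a proper parabolic subgroup are fixed -/
theorem M_inf_P (X : Ctx C σ M) {J : Set ℕ} (hJ : ∃ i, i < D.rank ∧ i ∉ J) {h : GL D.Idx F}
    (hM : h ∈ M) (hP : h ∈ D.parabolicSubgroup F J) : fr σ h = h := by
  have hdata := X.data
  simp only [common, Bool.and_eq_true] at hdata
  have hcheck : ChevRadicalCentralizer.diffCheck D = true := hdata.2
  have hdesc : descends D = true := hdata.1.1.1.2
  have hnorm : D.leviSubgroup F J ≤ Subgroup.normalizer (D.unipotentRadical F J : Set (GL D.Idx F)) := by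
    refine le_trans ?_ (ChevalleyParabolic.parabolic_le_normalizer C J)
    rw [← ChevalleyParabolic.radical_sup_levi C J]
    exact le_sup_right
  have hP' := hP
  rw [← ChevalleyParabolic.radical_sup_levi C J, ← SetLike.mem_coe,
    Subgroup.coe_mul_of_right_le_normalizer_left _ _ hnorm] at hP'
  obtain ⟨v, hv, l, hl, rfl⟩ := hP'
  have radP : D.unipotentRadical F J ≤ D.parabolicSubgroup F J := by
    rw [← ChevalleyParabolic.radical_sup_levi C J]; exact le_sup_left
  have levP : D.leviSubgroup F J ≤ D.parabolicSubgroup F J := by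
    rw [← ChevalleyParabolic.radical_sup_levi C J]; exact le_sup_right
  have rad_le : D.unipotentRadical F J ≤ D.posUnipotent F :=
    Subgroup.closure_mono fun _ ⟨r, t, h, _, e⟩ => ⟨r, t, h, e⟩
  set z := (v * l)⁻¹ * fr σ (v * l)
  have hzG : z ∈ D.group F := mul_mem (inv_mem (X.le hM)) (fr_group σ C (X.le hM))
  have hzP : z ∈ D.parabolicSubgroup F J := by
    refine mul_mem (inv_mem (mul_mem (radP hv) (levP hl))) ?_
    rw [map_mul]
    exact mul_mem (radP (fr_radical C σ J hv)) (levP (fr_levi S C σ J hl))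
  have hc : ∀ r, D.IsPosRoot r → ¬ D.InRootSub J r → Commute z (xg C r 1) := by
    intro r hp hn
    have hx : xg C r (1 : F) ∈ D.unipotentRadical F J := Subgroup.subset_closure ⟨r, 1, hp, hn, coe_xg C r 1⟩
    have h1 : v * l * xg C r 1 * (v * l)⁻¹ ∈ D.unipotentRadical F J :=
      (Subgroup.mem_normalizer_iff.1 (ChevalleyParabolic.parabolic_le_normalizer C J hP) _).1 hx
    have h2 := M_inf_U X (mul_mem (mul_mem hM (X.fixed_le (xg_mem_fixedRoots σ C r (map_one σ)))) (inv_mem hM))
      (rad_le h1)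
    rw [map_mul, map_mul (fr σ) (v * l) (xg C r 1), map_inv, fr_xg σ C, map_one] at h2
    show z * xg C r 1 = xg C r 1 * z
    calc z * xg C r 1 = (v * l)⁻¹ * (fr σ (v * l) * xg C r 1 * (fr σ (v * l))⁻¹) * fr σ (v * l) := by
          simp only [z]; group
      _ = _ := by rw [h2]; simp only [z]; group
  have hz := commute_radical_mem C J S hcheck hdesc hJ hzG hzP hc
  -- the Levi component is fixed
  have hlfix : fr σ l = l := by
    have h1 : l⁻¹ * fr σ l ∈ D.unipotentRadical F J ⊓ D.leviSubgroup F J := by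
      refine ⟨?_, mul_mem (Subgroup.inv_mem _ hl) (fr_levi S C σ J hl)⟩
      have e : l⁻¹ * fr σ l = (l⁻¹ * (v⁻¹ * fr σ v)⁻¹ * l⁻¹⁻¹) * z := by
        simp only [z, map_mul]; group
      rw [e]
      exact mul_mem ((Subgroup.mem_normalizer_iff.1 (inv_mem (hnorm hl)) _).1
        (inv_mem (mul_mem (inv_mem hv) (fr_radical C σ J hv)))) hz
    rw [ChevalleyParabolic.radical_inf_levi C J, Subgroup.mem_bot, inv_mul_eq_one] at h1
    exact h1.symm
  have hlG : l ∈ D.group F := by
    have := mul_mem (inv_mem (show v ∈ D.group F from S.B_le_group (Sys.U_le_B (rad_le hv)))) (X.le hM)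
    rwa [inv_mul_cancel_left] at this
  obtain ⟨t, ht, htf, f, hf, rfl⟩ := fixed_decomp σ C S hlG hlfix
  beta_reduce at hM ⊢
  have hvt : v * t ∈ M := by
    have := mul_mem hM (inv_mem (X.fixed_le hf))
    rwa [← mul_assoc v, mul_inv_cancel_right] at this
  have h3 := M_inf_B S X hvt (mul_mem (Sys.U_le_B (rad_le hv)) (Sys.H_le_B ht))
  rw [← mul_assoc, map_mul, h3, fr_fixedRoots σ C hf]

end Cfsg.Agent.ChevSubfieldParabolic
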