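import Cfsg.Prelude.Def_ChevStructure
import Cfsg.Prelude.Def_ChevG2
import Cfsg.Prelude.Def_ChevB2
import Cfsg.Prelude.Def_ChevD4
import Cfsg.Prelude.Def_ChevF4
import Cfsg.Prelude.Def_ChevE6
import Cfsg.Prelude.Def_ChevE7
import Cfsg.Prelude.Def_ChevE8
import Mathlib

/-!
Triangularity of the subgroup U of the tabulated Chevalley data: in the basis
(negative roots, coroots, positive roots) the generators are lower unitriangular.
-/

set_option autoImplicit false

namespace Cfsg.Agent.ChevTriangular32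

open Matrix

/-- matrices supported at level `≥ a` for the weight `w` -/
def Lev {ι : Type*} {F : Type*} [Zero F] (w : ι → ℕ) (a : ℕ) (A : Matrix ι ι F) : Prop :=
  ∀ i j, A i j ≠ 0 → w j + a ≤ w i

section general

variable {ι : Type*} [Fintype ι] [DecidableEq ι] {F : Type*} [Field F] {w : ι → ℕ}

omit [Fintype ι] in
theorem lev_one : Lev w 0 (1 : Matrix ι ι F) := by
  intro i j h
  by_cases hij : i = j
  · subst hij; omega
  · simp [Matrix.one_apply_ne hij] at h

omit [Fintype ι] [DecidableEq ι] in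
theorem lev_zero (a : ℕ) : Lev w a (0 : Matrix ι ι F) := by
  intro i j h; simp at h

omit [Fintype ι] [DecidableEq ι] in
theorem lev_add {a : ℕ} {A B : Matrix ι ι F} (hA : Lev w a A) (hB : Lev w a B) :
    Lev w a (A + B) := by
  intro i j h
  by_cases h1 : A i j = 0
  · exact hB i j (by simpa [h1] using h)
  · exact hA i j h1

omit [Fintype ι] [DecidableEq ι] in
theorem lev_neg {a : ℕ} {A : Matrix ι ι F} (hA : Lev w a A) : Lev w a (-A) := by
  intro i j h; exact hA i j (by simpa using h)

omit [Fintype ι] [DecidableEq ι] in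
theorem lev_mono {a b : ℕ} (hab : b ≤ a) {A : Matrix ι ι F} (hA : Lev w a A) : Lev w b A := by
  intro i j h; have := hA i j h; omega

omit [Fintype ι] [DecidableEq ι] in
theorem lev_sub {a : ℕ} {A B : Matrix ι ι F} (hA : Lev w a A) (hB : Lev w a B) :
    Lev w a (A - B) := by
  rw [sub_eq_add_neg]; exact lev_add hA (lev_neg hB)

omit [DecidableEq ι] in
theorem lev_mul {a b : ℕ} {A B : Matrix ι ι F} (hA : Lev w a A) (hB : Lev w b B) :
    Lev w (a + b) (A * B) := by
  intro i j h
  rw [Matrix.mul_apply] at h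
  obtain ⟨k, -, hk⟩ := Finset.exists_ne_zero_of_sum_ne_zero h
  have h1 := hA i k (left_ne_zero_of_mul hk)
  have h2 := hB k j (right_ne_zero_of_mul hk)
  omega

theorem lev_pow {a : ℕ} {A : Matrix ι ι F} (hA : Lev w a A) (n : ℕ) : Lev w (a * n) (A ^ n) := by
  induction n with
  | zero => simpa using lev_one
  | succ k ih =>
    rw [pow_succ, Nat.mul_succ]
    exact lev_mul ih hA

omit [Fintype ι] [DecidableEq ι] in
theorem eq_zero_of_lev {N a : ℕ} (hw : ∀ i, w i ≤ N) (ha : N < a) {A : Matrix ι ι F}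
    (hA : Lev w a A) : A = 0 := by
  ext i j
  by_contra h
  have := hA i j h
  have := hw i
  omega

theorem lev_inv {N : ℕ} (hw : ∀ i, w i ≤ N) {g : GL ι F}
    (hg : Lev w 1 ((g : Matrix ι ι F) - 1)) : Lev w 0 ((g⁻¹ : GL ι F) : Matrix ι ι F) := by
  set A : Matrix ι ι F := 1 - (g : Matrix ι ι F) with hA
  have hA1 : Lev w 1 A := by
    have := lev_neg hg
    rwa [neg_sub] at this
  have hz : A ^ (N + 1) = 0 := by
    refine eq_zero_of_lev hw (show N < 1 * (N + 1) by omega) (lev_pow hA1 _)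
  have hgeom := mul_neg_geom_sum A (N + 1)
  rw [hz, sub_zero, hA, sub_sub_cancel, ← hA] at hgeom
  have heq : ((g⁻¹ : GL ι F) : Matrix ι ι F) = ∑ i ∈ Finset.range (N + 1), A ^ i := by
    calc ((g⁻¹ : GL ι F) : Matrix ι ι F)
        = ((g⁻¹ : GL ι F) : Matrix ι ι F) * ((g : Matrix ι ι F) * ∑ i ∈ Finset.range (N + 1), A ^ i) := by
          rw [hgeom, mul_one]
      _ = _ := by rw [← mul_assoc, Units.inv_mul, one_mul]
  rw [heq]
  suffices ∀ n : ℕ, Lev w 0 (∑ i ∈ Finset.range n, A ^ i) from this _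
  intro n
  induction n with
  | zero => simpa using lev_zero 0
  | succ k ih =>
    rw [Finset.sum_range_succ]
    exact lev_add ih (lev_mono (Nat.zero_le _) (lev_pow hA1 k))

/-- unipotent subgroup of level `≥ a + 1` -/
def levGroup (N : ℕ) (hw : ∀ i, w i ≤ N) (a : ℕ) : Subgroup (GL ι F) where
  carrier := {g | Lev w (a + 1) ((g : Matrix ι ι F) - 1)}
  one_mem' := by simpa using lev_zero (a + 1)
  mul_mem' := by
    intro g h hg hh
    show Lev w (a + 1) _
    have : ((g * h : GL ι F) : Matrix ι ι F) - 1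
        = ((g : Matrix ι ι F) - 1) * ((h : Matrix ι ι F) - 1)
          + (((g : Matrix ι ι F) - 1) + ((h : Matrix ι ι F) - 1)) := by
      rw [Units.val_mul]; noncomm_ring
    rw [this]
    exact lev_add (lev_mono (show a + 1 ≤ a + 1 + (a + 1) by omega) (lev_mul hg hh)) (lev_add hg hh)
  inv_mem' := by
    intro g hg
    show Lev w (a + 1) _
    have h0 := lev_inv hw (lev_mono (show 1 ≤ a + 1 by omega) hg)
    have : ((g⁻¹ : GL ι F) : Matrix ι ι F) - 1
        = -(((g : Matrix ι ι F) - 1) * ((g⁻¹ : GL ι F) : Matrix ι ι F)) := by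
      rw [sub_mul, ← Units.val_mul, mul_inv_cancel, Units.val_one]; noncomm_ring
    rw [this]
    simpa using lev_neg (lev_mul hg h0)

theorem mem_levGroup {N : ℕ} {hw : ∀ i, w i ≤ N} {a : ℕ} {g : GL ι F} :
    g ∈ levGroup N hw a ↔ Lev w (a + 1) ((g : Matrix ι ι F) - 1) := Iff.rfl

theorem commutator_mem {N : ℕ} (hw : ∀ i, w i ≤ N) {a : ℕ} {g h : GL ι F}
    (hg : g ∈ levGroup N hw a) (hh : h ∈ levGroup N hw 0) :
    g * h * g⁻¹ * h⁻¹ ∈ levGroup N hw (a + 1) := by
  rw [mem_levGroup] at hg hh ⊢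
  have hgi := lev_inv hw (lev_mono (show 1 ≤ a + 1 by omega) hg)
  have hhi := lev_inv hw hh
  have : ((g * h * g⁻¹ * h⁻¹ : GL ι F) : Matrix ι ι F) - 1
      = (((g : Matrix ι ι F) - 1) * ((h : Matrix ι ι F) - 1)
          - ((h : Matrix ι ι F) - 1) * ((g : Matrix ι ι F) - 1))
        * (((g⁻¹ : GL ι F) : Matrix ι ι F) * ((h⁻¹ : GL ι F) : Matrix ι ι F)) := by
    have e : ((g : Matrix ι ι F) - 1) * ((h : Matrix ι ι F) - 1)
          - ((h : Matrix ι ι F) - 1) * ((g : Matrix ι ι F) - 1)
        = (g : Matrix ι ι F) * h - (h : Matrix ι ι F) * g := by noncomm_ring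
    rw [e, sub_mul]
    have e2 : ((h : Matrix ι ι F) * g) * (((g⁻¹ : GL ι F) : Matrix ι ι F) * ((h⁻¹ : GL ι F) : Matrix ι ι F)) = 1 := by
      rw [← Units.val_mul, ← Units.val_mul, ← Units.val_mul]; simp [mul_assoc]
    rw [e2]
    simp only [Units.val_mul, mul_assoc]
  rw [this]
  have h1 : Lev w (a + 1 + 1) (((g : Matrix ι ι F) - 1) * ((h : Matrix ι ι F) - 1)
          - ((h : Matrix ι ι F) - 1) * ((g : Matrix ι ι F) - 1)) := by
    refine lev_sub (lev_mul hg hh) ?_
    have := lev_mul hh hg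
    rwa [show (0 : ℕ) + 1 + (a + 1) = a + 1 + 1 by omega] at this
  simpa using lev_mul h1 (lev_mul hgi hhi)

theorem isNilpotent_of_le_levGroup {N : ℕ} (hw : ∀ i, w i ≤ N) (U : Subgroup (GL ι F))
    (hU : U ≤ levGroup N hw 0) : Group.IsNilpotent U := by
  rw [Subgroup.nilpotent_iff_finite_descending_central_series]
  refine ⟨N, fun n => (levGroup N hw n).subgroupOf U, ⟨?_, ?_⟩, ?_⟩
  · exact Subgroup.subgroupOf_eq_top.mpr hU
  · intro x n hx g
    exact commutator_mem hw hx (hU g.2)
  · rw [eq_bot_iff]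
    intro x hx
    have h0 := eq_zero_of_lev hw (show N < N + 1 by omega) (show Lev w (N + 1) (((x : GL ι F) : Matrix ι ι F) - 1) from hx)
    exact Subgroup.mem_bot.mpr (Subtype.ext (Units.ext (sub_eq_zero.mp h0)))

end general

open Cfsg.Lie

variable (D : ChevalleyDatum)

/-- weight: negative roots, then coroots, then positive roots -/
def wt : D.Idx → ℕ := Sum.elim (fun _ => D.nroots / 2)
  (fun s => if s.val < D.nroots / 2 then s.val else s.val + 1)

theorem wt_le (i : D.Idx) : wt D i ≤ D.nroots := by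
  rcases i with i | s
  · exact Nat.div_le_self _ _
  · simp only [wt, Sum.elim_inr]
    have := s.isLt
    split_ifs <;> omega

/-- the table condition -/
def Tri : Prop :=
  ∀ r < D.nroots, D.IsPosRoot r →
    D.nroots / 2 ≤ r ∧ D.negIdx.getD r 0 < D.nroots / 2 ∧
    ∀ e ∈ (D.chain.getD r #[]).toList, ∀ q ∈ e.2.toList, e.1 < q.1

instance decTri : Decidable (Tri D) := by unfold Tri; infer_instance

theorem tri_tables (hD : D ∈ [chevG2, chevB2, chevD4, chevF4, chevE6, chevE7, chevE8]) : Tri D := by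
  fin_cases hD <;> decide +kernel

variable {D} {F : Type*} [Field F]

theorem lev_x (hT : Tri D) {r : ℕ} (hr : D.IsPosRoot r) (t : F) :
    Lev (wt D) 1 (D.x F r t - 1) := by
  obtain ⟨hN, hneg, hch⟩ := hT r hr.1 hr
  intro row col h
  rcases col with i | s <;> rcases row with i' | u <;>
    simp only [ChevalleyDatum.x, dif_pos hr.1, ChevalleyDatum.xMat, Matrix.sub_apply, Matrix.of_apply,
      Matrix.one_apply, Sum.inl.injEq, Sum.inr.injEq, reduceCtorEq, if_false, sub_zero] at h
  · simp at h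
  · split_ifs at h with hu
    · subst hu
      simp only [wt, Sum.elim_inl, Sum.elim_inr]
      rw [if_neg (show ¬ r < D.nroots / 2 by omega)]
      omega
    · simp at h
  · split_ifs at h with hs1 hs2
    · simp at h
    · simp only [wt, Sum.elim_inl, Sum.elim_inr]
      rw [if_pos (by omega)]
      omega
    · simp at h
  · by_cases hs1 : s = ⟨r, hr.1⟩
    · subst hs1; simp at h
    rw [if_neg hs1] at h
    by_cases hs2 : s.val = D.negIdx.getD r 0
    · rw [if_pos hs2] at h
      by_cases hus : u = s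
      · simp [hus] at h
      rw [if_neg hus, if_neg hus, sub_zero] at h
      by_cases hur : u = ⟨r, hr.1⟩
      · subst hur
        simp only [wt, Sum.elim_inr]
        rw [if_pos (show s.val < D.nroots / 2 by omega), if_neg (show ¬ r < D.nroots / 2 by omega)]
        omega
      · simp [hur] at h
    · rw [if_neg hs2, add_comm, add_sub_assoc, sub_self, add_zero] at h
      obtain ⟨z, hz⟩ : ∃ z, z ∈ D.chainCoeff r s.val u.val := by
        by_contra hne
        apply h
        have : D.chainCoeff r s.val u.val = [] := List.eq_nil_iff_forall_not_mem.mpr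
          (fun a ha => hne ⟨a, ha⟩)
        simp [this]
      simp only [ChevalleyDatum.chainCoeff, List.mem_flatMap, List.mem_map, List.mem_filter,
        decide_eq_true_eq] at hz
      obtain ⟨e, ⟨he, hes⟩, q, ⟨hq, hqu⟩, -⟩ := hz
      have := hch e he q.1 (List.mem_zipIdx' hq |>.2 ▸ List.getElem_mem _)
      rw [hes, hqu] at this
      simp only [wt, Sum.elim_inr]
      split_ifs <;> omega

theorem posUnipotent_le (hT : Tri D) :
    D.posUnipotent F ≤ levGroup D.nroots (wt_le D) 0 := by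
  refine (Subgroup.closure_le _).mpr ?_
  rintro g ⟨r, t, hr, hg⟩
  rw [SetLike.mem_coe, mem_levGroup, hg]
  exact lev_x hT hr t

theorem sub_one_pow_eq_zero (hT : Tri D) {g : GL D.Idx F} (hg : g ∈ D.posUnipotent F)
    {n : ℕ} (hn : D.nroots < n) : ((g : Matrix D.Idx D.Idx F) - 1) ^ n = 0 :=
  eq_zero_of_lev (wt_le D) (show D.nroots < 1 * n by omega)
    (lev_pow (mem_levGroup.mp (posUnipotent_le hT hg)) n)

theorem posUnipotent_isNilpotent (hT : Tri D) : Group.IsNilpotent (D.posUnipotent F) :=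
  isNilpotent_of_le_levGroup (wt_le D) _ (posUnipotent_le hT)

end Cfsg.Agent.ChevTriangular32
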