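import Cfsg.Agent.Lib.ChevRootCentralizer
import Cfsg.Agent.Lib.ChevTriangular32

/-!
Pairs of conjugates of the highest root subgroup.
-/

set_option autoImplicit false
set_option linter.unusedSectionVars false

namespace Cfsg.Agent.ChevTopPairs

open Cfsg.Lie Cfsg.Agent.ChevalleyEngine Cfsg.Agent.ChevalleyCert Cfsg.Agent.ChevalleyRoots
open Cfsg.Agent.ChevalleyCore Cfsg.Agent.ChevWeyl Cfsg.Agent.ChevBruhat Cfsg.Agent.ChevRootCentralizer

/-- greedy search for reflections making both roots positive -/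
def raise (D : ChevalleyDatum) : ℕ → ℕ → ℕ → Bool
  | 0, _, _ => false
  | k + 1, q, r =>
    if D.nroots / 2 ≤ r then true
    else
      match (List.range D.rank).find? (fun i => decide (D.cartan i r < 0) && (D.simple i != q)) with
      | none => false
      | some i => raise D k (D.reflectRoot i q) (D.reflectRoot i r)

/-- every negative root other than the lowest can be made positive together with the highest -/
def topCheck (D : ChevalleyDatum) : Bool :=
  (List.range (D.nroots / 2)).all fun r => r == 0 || raise D D.nroots (D.nroots - 1) r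

variable {D : ChevalleyDatum} (C : Cert D) {F : Type*} [Field F] (S : Sys D F)

include C

include S in
theorem raise_sound : ∀ k q r, D.IsPosRoot q → r < D.nroots → raise D k q r = true →
    ∃ w : S.X.W, D.IsPosRoot (S.X.img w q) ∧ D.IsPosRoot (S.X.img w r) := by
  intro k
  induction k with
  | zero => intro q r _ _ h; simp [raise] at h
  | succ k ih =>
    intro q r hq hr h
    rw [raise] at h
    by_cases hp : D.nroots / 2 ≤ r
    · exact ⟨1, by simpa using hq, by simpa using (isPos C).2 ⟨hp, hr⟩⟩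
    rw [if_neg hp] at h
    split at h
    · simp at h
    · rename_i i hf
      have hi := List.mem_range.1 (List.mem_of_find?_eq_some hf)
      have hp' := List.find?_some hf
      simp only [Bool.and_eq_true, decide_eq_true_eq, bne_iff_ne] at hp'
      obtain ⟨w, h1, h2⟩ := ih _ _ ((S.X.root_facts' hq.1 hi).2.2.2.2.1 hq (Ne.symm hp'.2))
        (S.X.root_facts' hr hi).2.2.1 h
      exact ⟨w * S.X.C.simple ⟨i, hi⟩, by rwa [S.X.img_mul, S.X.img_simple ⟨i, hi⟩ hq.1],
        by rwa [S.X.img_mul, S.X.img_simple ⟨i, hi⟩ hr]⟩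

theorem mem_rootSub {r : ℕ} {y : GL D.Idx F} (hy : y ∈ D.rootSubgroup F r) : ∃ t, y = xg C r t := by
  refine Subgroup.closure_induction (p := fun y _ => ∃ t, y = xg C r t) ?_ ⟨0, (xg_zero C r).symm⟩ ?_ ?_ hy
  · rintro y ⟨t, ht⟩; exact ⟨t, (xg_eq_iff C).1 ht⟩
  · rintro a b - - ⟨t, rfl⟩ ⟨u, rfl⟩; exact ⟨t + u, xg_mul C r t u⟩
  · rintro a - ⟨t, rfl⟩; exact ⟨-t, xg_inv C r t⟩

theorem map_rootSub {r r' : ℕ} (n : GL D.Idx F) {c : F} (hc : c ≠ 0)
    (h : ∀ t, n * xg C r t * n⁻¹ = xg C r' (c * t)) :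
    (D.rootSubgroup F r).map (MulAut.conj n).toMonoidHom = D.rootSubgroup F r' := by
  apply le_antisymm
  · rintro y ⟨z, hz, rfl⟩
    obtain ⟨t, rfl⟩ := mem_rootSub C hz
    rw [MulEquiv.coe_toMonoidHom, MulAut.conj_apply, h]
    exact xg_mem_rootSub C r' _
  · intro y hy
    obtain ⟨t, rfl⟩ := mem_rootSub C hy
    refine ⟨xg C r (c⁻¹ * t), xg_mem_rootSub C r _, ?_⟩
    rw [MulEquiv.coe_toMonoidHom, MulAut.conj_apply, h, ← mul_assoc, mul_inv_cancel₀ hc, one_mul]

theorem rootSub_le_U {r : ℕ} (hr : D.IsPosRoot r) : D.rootSubgroup F r ≤ D.posUnipotent F := by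
  refine (Subgroup.closure_le _).2 ?_
  rintro y ⟨t, ht⟩
  exact Subgroup.subset_closure ⟨r, t, hr, ht⟩

/-- in characteristic 2 the subgroup `U` is a 2-group -/
theorem isPGroup_U [CharP F 2] (hT : ChevTriangular32.Tri D) : IsPGroup 2 ↥(D.posUnipotent F) := by
  rintro ⟨u, hu⟩
  refine ⟨D.nroots + 1, Subtype.ext ?_⟩
  rcases isEmpty_or_nonempty D.Idx with hI | hI
  · exact Units.ext (Subsingleton.elim _ _)
  apply Units.ext
  have h := ChevTriangular32.sub_one_pow_eq_zero (D := D) hT hu
    (n := 2 ^ (D.nroots + 1)) (by have := Nat.lt_two_pow_self (n := D.nroots + 1); omega)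
  haveI : Fact (Nat.Prime 2) := ⟨Nat.prime_two⟩
  rw [sub_pow_char_pow_of_commute 2 (D.nroots + 1) (Commute.one_right (u : Matrix D.Idx D.Idx F)), one_pow,
    sub_eq_zero] at h
  simpa using h

include S in
/-- the subgroup generated by two conjugates of the highest root subgroup -/
theorem top_pair [CharP F 2] (hT : ChevTriangular32.Tri D) (htop : topCheck D = true)
    {g : GL D.Idx F} (hg : g ∈ D.group F) :
    IsPGroup 2 ↥(D.rootSubgroup F (D.nroots - 1) ⊔
        (D.rootSubgroup F (D.nroots - 1)).map (MulAut.conj g).toMonoidHom) ∨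
    ∃ h ∈ D.group F, (D.rootSubgroup F (D.nroots - 1) ⊔
        (D.rootSubgroup F (D.nroots - 1)).map (MulAut.conj g).toMonoidHom).map (MulAut.conj h).toMonoidHom =
      D.rootSubgroup F (D.nroots - 1) ⊔ D.rootSubgroup F 0 := by
  by_cases hn : D.nroots = 0
  · left
    have hle : ∀ H : Subgroup (GL D.Idx F), H ≤ D.group F → IsPGroup 2 ↥H := by
      intro H hH
      rintro ⟨y, hy⟩
      have hbot : D.group F = ⊥ := by
        rw [ChevalleyDatum.group, Subgroup.closure_eq_bot_iff]
        rintro z ⟨r, -, -⟩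
        exact absurd r.isLt (by omega)
      exact ⟨0, by simpa [hbot] using hH hy⟩
    have hX : D.rootSubgroup F (D.nroots - 1) ≤ D.group F := by
      refine (Subgroup.closure_le _).2 ?_
      rintro y ⟨t, ht⟩
      exact (xg_eq_iff C).1 ht ▸ xg_mem_group C _ t
    refine hle _ (sup_le hX ?_)
    rintro y ⟨z, hz, rfl⟩
    exact mul_mem (mul_mem hg (hX hz)) (inv_mem hg)
  have he := C.even
  set top := D.nroots - 1 with htopdef
  have htlt : top < D.nroots := by omega
  have htp : D.IsPosRoot top := (isPos C).2 ⟨by omega, htlt⟩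
  set X := D.rootSubgroup F top with hX
  obtain ⟨u, hu, m, u', hu', rfl⟩ := decomp C S hg
  have fixU : ∀ v ∈ D.posUnipotent F, X.map (MulAut.conj v).toMonoidHom = X := by
    intro v hv
    refine map_rootSub C v one_ne_zero fun t => ?_
    rw [one_mul, ← (commute_U C (fun s h1 h2 c => top_comm C h1 h2 t c) hv).eq, mul_inv_cancel_right]
  have mapmap : ∀ (a b : GL D.Idx F) (K : Subgroup (GL D.Idx F)),
      (K.map (MulAut.conj b).toMonoidHom).map (MulAut.conj a).toMonoidHom =
        K.map (MulAut.conj (a * b)).toMonoidHom := by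
    intro a b K
    rw [Subgroup.map_map]
    congr 1
    ext y
    simp [mul_assoc]
  obtain ⟨c, hc, h1, -⟩ := S.acts_toW m top htlt
  simp only [sysXg C S] at h1
  set r := S.X.img (S.toW m) top
  have hr : r < D.nroots := S.X.img_lt _ htlt
  have e1 : X.map (MulAut.conj (u * m * u')).toMonoidHom =
      (D.rootSubgroup F r).map (MulAut.conj u).toMonoidHom := by
    rw [← mapmap, fixU u' hu', ← mapmap, map_rootSub C (m : GL D.Idx F) hc h1]
  have hK : X ⊔ X.map (MulAut.conj (u * m * u')).toMonoidHom =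
      (X ⊔ D.rootSubgroup F r).map (MulAut.conj u).toMonoidHom := by
    rw [Subgroup.map_sup, fixU u hu, e1]
  rw [hK]
  have pg : ∀ (a : GL D.Idx F) (K : Subgroup (GL D.Idx F)), K ≤ D.posUnipotent F →
      IsPGroup 2 ↥(K.map (MulAut.conj a).toMonoidHom) := fun a K hle =>
    ((isPGroup_U C hT).to_le hle).map _
  by_cases hp : D.IsPosRoot r
  · exact Or.inl (pg u _ (sup_le (rootSub_le_U C htp) (rootSub_le_U C hp)))
  by_cases h0 : r = 0
  · refine Or.inr ⟨u⁻¹, inv_mem (S.U_le_group hu), ?_⟩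
    rw [mapmap, inv_mul_cancel, h0]
    ext y
    simp
  left
  have hrn : r < D.nroots / 2 := by
    by_contra hcon
    exact hp ((isPos C).2 ⟨by omega, hr⟩)
  simp only [topCheck, List.all_eq_true, List.mem_range, Bool.or_eq_true, beq_iff_eq] at htop
  obtain ⟨w, hw1, hw2⟩ := raise_sound C S _ _ _ htp hr ((htop r hrn).resolve_left h0)
  obtain ⟨n, hn', hnw⟩ := S.exists_lift w
  obtain ⟨c1, hc1, k1, -⟩ := hnw top htlt
  obtain ⟨c2, hc2, k2, -⟩ := hnw r hr
  simp only [sysXg C S] at k1 k2
  have hle : (X ⊔ D.rootSubgroup F r).map (MulAut.conj n).toMonoidHom ≤ D.posUnipotent F := by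
    rw [Subgroup.map_sup, map_rootSub C n hc1 k1, map_rootSub C n hc2 k2]
    exact sup_le (rootSub_le_U C hw1) (rootSub_le_U C hw2)
  have := pg (u * n⁻¹) _ hle
  rwa [mapmap, inv_mul_cancel_right] at this

end Cfsg.Agent.ChevTopPairs
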