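import Cfsg.Agent.Lib.StMultiplier

/-!
The Steinberg groups of types E6 and E7 map into the Chevalley group of type E8; so their centres have order
`gcd(3, q-1)` and `gcd(2, q-1)`.
-/

set_option autoImplicit false
set_option linter.unusedSectionVars false
set_option maxRecDepth 100000

namespace Cfsg.Agent.StEmbedE8

open Cfsg.Lie Cfsg.Agent.ChevalleyEngine Cfsg.Agent.ChevalleyCert Cfsg.Agent.ChevalleyRoots
open Cfsg.Agent.ChevalleyCore Cfsg.Agent.ChevalleyTorus Cfsg.Agent.ChevalleyCheck Cfsg.Agent.ChevalleyCheckSound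
open Cfsg.Agent.StBasic Cfsg.Agent.StClosedADE Cfsg.Agent.StCheckADE

/-- `l` maps the roots of `D` to roots of type E8, respecting the fundamental roots and the constants -/
def chkEmb (D : ChevalleyDatum) (T : Tables) (l : List ℕ) : Bool :=
  Nat.ble D.rank 8 &&
  ((List.range D.rank).all fun i => Nat.beq (l.getD (D.simple i) 0) (chevE8.simple i)) &&
  ((List.range D.nroots).all fun r =>
    let a := l.getD r 0
    Nat.blt a 240 && Nat.beq (l.getD (negA D r) 0) (239 - a) &&
    (List.range D.nroots).all fun s =>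
      Nat.beq s r || Nat.beq s (negA D r) ||
        (let b := l.getD s 0
         let c := hd T r s
         !Nat.beq b a && !Nat.beq b (239 - a) && Nat.beq (hd ChevalleyDataE8.tables a b)
          (cond (Nat.beq c 0) 0 ((l.getD (c / 16 - 1) 0 + 1) * 16 + c % 16))))

variable {D : ChevalleyDatum} {T : Tables} {l : List ℕ}

section Emb

variable (C : Cert D) (hT : chkRows D T 0 D.nroots = true) (hl : chkEmb D T l = true)

include C hl in
theorem emb_root {r : ℕ} (hr : r < D.nroots) :
    l.getD r 0 < chevE8.nroots ∧ l.getD (D.neg r) 0 = chevE8.neg (l.getD r 0) := by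
  simp only [chkEmb, Bool.and_eq_true] at hl
  have h := allR hl.2 hr
  simp only [Bool.and_eq_true, Nat.blt_eq, Nat.beq_eq, negA, ← C.neg_eq r hr] at h
  refine ⟨h.1.1, h.1.2.trans ?_⟩
  rw [ChevalleyDataE8.cert.neg_eq _ (show l.getD r 0 < chevE8.nroots from h.1.1)]
  rfl

include hl in
theorem emb_simple {i : ℕ} (hi : i < D.rank) : l.getD (D.simple i) 0 = chevE8.simple i := by
  simp only [chkEmb, Bool.and_eq_true] at hl
  simpa using allR hl.1.2 hi

include hl in
theorem rank_le : D.rank ≤ chevE8.rank := by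
  simp only [chkEmb, Bool.and_eq_true, Nat.ble_eq] at hl
  exact hl.1.1

include C hT hl in
theorem emb_pair {r s : ℕ} (hr : r < D.nroots) (hs : s < D.nroots) (h1 : s ≠ r) (h2 : s ≠ D.neg r) :
    l.getD s 0 ≠ l.getD r 0 ∧ l.getD s 0 ≠ chevE8.neg (l.getD r 0) ∧
      hdN chevE8 (l.getD r 0) (l.getD s 0) = (hdN D r s).map fun q => (l.getD q.1 0, q.2) := by
  have ha := (emb_root C hl hr).1
  simp only [chkEmb, Bool.and_eq_true] at hl
  have h0 := allR hl.2 hr
  simp only [Bool.and_eq_true] at h0
  have h := allR h0.2 hs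
  simp only [Bool.or_eq_true, Bool.and_eq_true, Bool.not_eq_true', Bool.eq_false_iff, ne_eq, Nat.beq_eq,
    negA, ← C.neg_eq r hr, h1, h2, false_or] at h
  obtain ⟨⟨g1, g2⟩, g3⟩ := h
  refine ⟨g1, ?_, ?_⟩
  · rw [ChevalleyDataE8.cert.neg_eq _ ha]
    exact g2
  rw [← hd_spec (T := ChevalleyDataE8.tables) ChevalleyDataE8.rows ha, ← hd_spec hT hr s, g3, dec, dec]
  by_cases hc : hd T r s = 0
  · simp [hc]
  rw [show Nat.beq (hd T r s) 0 = false from Bool.eq_false_iff.2 (by simpa using hc), Bool.cond_false,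
    if_neg hc, if_neg (by omega), Option.map_some]
  refine congrArg some (Prod.ext ?_ ?_)
  · simp only; omega
  · simp only; omega

include C hT hl in
theorem emb_commWord (hD : Data C) {F : Type*} [Field F] {r s : ℕ} (hr : r < D.nroots) (hs : s < D.nroots)
    (h1 : s ≠ r) (h2 : s ≠ D.neg r) (t u : F) :
    chevE8.commWord F (l.getD r 0) (l.getD s 0) t u =
      (D.commWord F r s t u).map fun p => (l.getD p.1 0, p.2) := by
  obtain ⟨g1, g2, g3⟩ := emb_pair C hT hl hr hs h1 h2
  have ha := (emb_root C hl hr).1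
  have hb := (emb_root C hl hs).1
  have hD8 := StDataADE.data_E8 ChevalleyDataE8.cert
  rcases h : hdN D r s with _ | ⟨k, q⟩ <;> rw [h] at g3
  · rw [Option.map_none] at g3
    simp only [ChevalleyDatum.commWord, commTerms_orth C hr hs ⟨h, h1, h2⟩,
      commTerms_orth ChevalleyDataE8.cert ha hb ⟨g3, g1, g2⟩, List.map_nil]
  · rw [Option.map_some] at g3
    simp only [ChevalleyDatum.commWord, commTerms_pair hD hr h, commTerms_pair hD8 ha g3, List.map_cons,
      List.map_nil]

variable (hD : Data C) (K : Type*) [Field K]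

/-- images of the generators -/
def gens (l : List ℕ) (p : Fin D.nroots × K) : GL chevE8.Idx K :=
  xg ChevalleyDataE8.cert (l.getD p.1.val 0) p.2

theorem lift_stX {r : ℕ} (hr : r < D.nroots) (t : K) :
    FreeGroup.lift (gens K l) (D.stX r t) = xg ChevalleyDataE8.cert (l.getD r 0) t := by
  rw [ChevalleyDatum.stX, dif_pos hr, FreeGroup.lift_apply_of]
  rfl

include C hl in
theorem lift_stH {r : ℕ} (hr : r < D.nroots) (t : K) :
    FreeGroup.lift (gens K l) (D.stH r t) = hg ChevalleyDataE8.cert (l.getD r 0) t := by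
  simp only [ChevalleyDatum.stH, ChevalleyDatum.hWord, ChevalleyDatum.nWord, ChevalleyDatum.stWord,
    List.cons_append, List.nil_append, List.map_cons, List.map_nil, List.prod_cons, List.prod_nil,
    mul_one, map_mul, lift_stX K hr, lift_stX K (C.neg_lt r), (emb_root C hl hr).2, hg, ng, mul_assoc]

include C hT hl hD in
theorem gens_rels : ∀ g ∈ D.steinbergRels K, FreeGroup.lift (gens K l) g = 1 := by
  rintro g ((⟨r, a, b, hr, rfl⟩ | ⟨r, s, t, u, hr, hs, h1, h2, rfl⟩) | ⟨r, a, b, hr, ha, hb, rfl⟩)
  · rw [map_mul, map_mul, map_inv, lift_stX K hr, lift_stX K hr, lift_stX K hr, xg_mul, mul_inv_cancel]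
  · obtain ⟨g1, g2, -⟩ := emb_pair C hT hl hr hs h1 h2
    have e : FreeGroup.lift (gens K l) (D.stWord (D.commWord K r s t u)) =
        wg ChevalleyDataE8.cert (chevE8.commWord K (l.getD r 0) (l.getD s 0) t u) := by
      rw [ChevalleyDatum.stWord, map_list_prod, List.map_map, emb_commWord C hT hl hD hr hs h1 h2, wg,
        List.map_map]
      exact congrArg List.prod (List.map_congr_left fun p hp =>
        lift_stX K (StGroup.commWord_lt C K hr hs t u p hp) _)
    simp only [map_mul, map_inv, lift_stX K hr, lift_stX K hs, e]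
    rw [mul_inv_eq_one, mul_assoc _ (xg ChevalleyDataE8.cert (l.getD s 0) u),
      comm_formula ChevalleyDataE8.cert (emb_root C hl hr).1 (emb_root C hl hs).1 g1 g2 t u]
    group
  · rw [map_mul, map_mul, map_inv, lift_stH C hl K hr, lift_stH C hl K hr, lift_stH C hl K hr,
      hg_mul _ (emb_root C hl hr).1 ha hb, mul_inv_cancel]

/-- padding with ones -/
def pad (D : ChevalleyDatum) (K : Type*) [Field K] : (Fin D.rank → Kˣ) →* (Fin chevE8.rank → Kˣ) where
  toFun c j := if h : j.val < D.rank then c ⟨j.val, h⟩ else 1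
  map_one' := by funext j; split <;> simp_all
  map_mul' c d := by funext j; simp only [Pi.mul_apply]; split <;> simp_all

include C hT hl hD in
/-- the torus of the Steinberg group is faithful -/
theorem tor_injective (hG : Gen D) :
    Function.Injective (StTorus.tor (StGroup.sysSt C K) hG (StGroupTorus.hMul_st C K)) := by
  set S := StGroup.sysSt C K
  set T' := StTorus.tor S hG (StGroupTorus.hMul_st C K)
  set f : D.SteinbergGroup K →* GL chevE8.Idx K :=
    PresentedGroup.toGroup (f := gens K l) (gens_rels C hT hl hD K)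
  have hsingle : ∀ (i : Fin D.rank) (a : Kˣ),
      f (T' (Pi.mulSingle i a)) = torus chevE8 (pad D K (Pi.mulSingle i a)) := by
    intro i a
    have hi8 : i.val < chevE8.rank := lt_of_lt_of_le i.isLt (rank_le hl)
    rw [StTorus.tor_single,
      show pad D K (Pi.mulSingle i a) = Pi.mulSingle (⟨i.val, hi8⟩ : Fin chevE8.rank) a from ?_,
      ← hg_simple ChevalleyDataE8.cert, ← emb_simple hl i.isLt, ← lift_stH C hl K (simple_lt C i.isLt),
      ← StGroup.mk_stH C K (StGroup.relsAB_subset K) subset_rfl]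
    · rfl
    · funext j
      simp only [pad, MonoidHom.coe_mk, OneHom.coe_mk, Pi.mulSingle_apply, Fin.ext_iff]
      by_cases hj : j.val < D.rank
      · rw [dif_pos hj]
      · rw [dif_neg hj, if_neg (fun (e : j.val = i.val) => hj (e.trans_lt i.isLt))]
  have hcomp : f.comp T' = (torus chevE8).comp (pad D K) := by
    refine MonoidHom.ext fun c => ?_
    rw [← Finset.univ_prod_mulSingle c]
    induction (Finset.univ : Finset (Fin D.rank)) using Finset.induction_on with
    | empty => simp
    | insert a T ha ih =>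
      rw [Finset.prod_insert ha, map_mul, map_mul, ih]
      exact congrArg (· * _) (hsingle a (c a))
  rw [injective_iff_map_eq_one]
  intro c hc
  have h := DFunLike.congr_fun hcomp c
  rw [MonoidHom.comp_apply, MonoidHom.comp_apply, hc, map_one] at h
  have h' : pad D K c = 1 := by
    have := StGroupTorus.torus_ker_bot ChevalleyDataE8.cert K ChevalleyTorusCard.smithE8
    rw [Subgroup.eq_bot_iff_forall] at this
    exact this _ h.symm
  funext i
  have := congrFun h' ⟨i.val, lt_of_lt_of_le i.isLt (rank_le hl)⟩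
  simpa [pad] using this

end Emb

theorem emb_E6 : chkEmb chevE6 ChevalleyDataE6.tables
    [35, 45, 51, 54, 55, 61, 64, 65, 68, 69, 70, 73, 74, 75, 76, 77, 83, 86, 87, 90, 91, 92, 95, 96, 97, 98,
      101, 102, 103, 104, 107, 108, 109, 112, 113, 116, 123, 126, 127, 130, 131, 132, 135, 136, 137, 138, 141,
      142, 143, 144, 147, 148, 149, 152, 153, 156, 162, 163, 164, 165, 166, 169, 170, 171, 174, 175, 178, 184,
      185, 188, 194, 204] = true := by
  decide +kernel

theorem emb_E7 : chkEmb chevE7 ChevalleyDataE7.tables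
    [13, 20, 25, 29, 32, 34, 35, 39, 42, 44, 45, 48, 50, 51, 53, 54, 55, 58, 60, 61, 63, 64, 65, 67, 68, 69,
      70, 72, 73, 74, 75, 76, 77, 80, 82, 83, 85, 86, 87, 89, 90, 91, 92, 94, 95, 96, 97, 98, 100, 101, 102,
      103, 104, 106, 107, 108, 109, 111, 112, 113, 115, 116, 118, 121, 123, 124, 126, 127, 128, 130, 131, 132,
      133, 135, 136, 137, 138, 139, 141, 142, 143, 144, 145, 147, 148, 149, 150, 152, 153, 154, 156, 157, 159,
      162, 163, 164, 165, 166, 167, 169, 170, 171, 172, 174, 175, 176, 178, 179, 181, 184, 185, 186, 188, 189,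
      191, 194, 195, 197, 200, 204, 205, 207, 210, 214, 219, 226] = true := by
  decide +kernel

theorem card_torus_ker {d : ℕ} (C : Cert D) (S : ChevalleyTorusCard.Smith D d 1) (K : Type*) [Field K]
    [Fintype K] : Nat.card (torus D (F := K)).ker = Nat.gcd d (Fintype.card K - 1) := by
  classical
  have hu : Nat.card Kˣ = Fintype.card K - 1 := by rw [Nat.card_eq_fintype_card, Fintype.card_units]
  have h : Nat.card {x : Additive Kˣ // d • x = 0} = Nat.gcd (Fintype.card K - 1) d := by
    rw [← hu, ← IsCyclic.card_powMonoidHom_ker (G := Kˣ) d]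
    exact Nat.card_congr (Equiv.subtypeEquiv Additive.toMul fun x => Iff.rfl)
  rw [Nat.gcd_comm, ← pow_one (Nat.gcd (Fintype.card K - 1) d), ← h,
    ← ChevalleyTorusCard.card_kernel (X := Additive Kˣ) S.A S.M S.R S.P S.U S.T S.h1 S.h2 S.h3 S.h4]
  exact Nat.card_congr (Equiv.subtypeEquiv (Equiv.arrowCongr (Equiv.refl _) Additive.ofMul)
    fun c => ChevalleyTorusCard.mem_ker C S.hA c)

theorem card_center_of_emb (C : Cert D) (hT : chkRows D T 0 D.nroots = true) (hl : chkEmb D T l = true)
    (hD : Data C) (hG : Gen D) {d : ℕ} (S : ChevalleyTorusCard.Smith D d 1) (K : Type*) [Field K] [Fintype K] :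
    Nat.card (Subgroup.center (D.SteinbergGroup K)) = Nat.gcd d (Fintype.card K - 1) := by
  rw [← StBruhat.ker_eq_center (StGroup.sysSt C K) hG,
    StTorus.ker_eq_map (StGroup.sysSt C K) hG (StGroupTorus.hMul_st C K),
    Subgroup.card_map_of_injective (tor_injective C hT hl hD K hG), card_torus_ker C S]

theorem card_center_E6 (K : Type*) [Field K] [Fintype K] :
    Nat.card (Subgroup.center (chevE6.SteinbergGroup K)) = Nat.gcd 3 (Fintype.card K - 1) :=
  card_center_of_emb ChevalleyDataE6.cert ChevalleyDataE6.rows emb_E6 (StDataADE.data_E6 _) StGen.gen_E6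
    ChevalleyTorusCard.smithE6 K

theorem card_center_E7 (K : Type*) [Field K] [Fintype K] :
    Nat.card (Subgroup.center (chevE7.SteinbergGroup K)) = Nat.gcd 2 (Fintype.card K - 1) :=
  card_center_of_emb ChevalleyDataE7.cert ChevalleyDataE7.rows emb_E7 (StDataADE.data_E7 _) StGen.gen_E7
    ChevalleyTorusCard.smithE7 K

end Cfsg.Agent.StEmbedE8
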