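import Cfsg.Agent.Lib.ChevRootFn14
import Cfsg.Agent.Lib.ChevEigen14
import Cfsg.Agent.Lib.StEmbedE8

/-!
Twisted maximal tori in adjoint Chevalley groups whose torus parametrisation may have a kernel of
prime exponent; the Steinberg group decides which elements come from the ground field.
-/

set_option autoImplicit false

namespace Cfsg.Agent.ChevTorusTwist14

open Cfsg.Lie Cfsg.Agent.ChevalleyCert Cfsg.Agent.ChevWeyl Cfsg.Agent.ChevBruhat
  Cfsg.Agent.ChevRootCoord68 Cfsg.Agent.CyclotomicCharpoly68 Cfsg.Agent.ChevRootFn14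
open Cfsg.Agent.ChevalleyTorus (torus tchar tmat)
open Cfsg.Agent.ChevalleyTorusCard (Smith act act_mul act_one act_add act_smul act_nsmul act_zero tchar_ofMul)
open Cfsg.Agent.ChevCoxTorus68 (Pm act_Pm)

variable {D : ChevalleyDatum} (C : Cert D) {δ : ℕ} (Sm : Smith D δ 1)

include C Sm in
theorem ev_act_A {M : Type*} [AddCommGroup M] (v : Fin D.rank → M) {s : ℕ} (hs : s < D.nroots) :
    ev C (act Sm.A v) s = ∑ i : Fin D.rank, D.cartan i.val s • v i := by
  simp only [ev, act, Finset.smul_sum]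
  rw [Finset.sum_comm]
  refine Finset.sum_congr rfl fun k _ => ?_
  rw [sum_coef_cartan C k hs, Finset.sum_smul]
  exact Finset.sum_congr rfl fun j _ => by rw [Sm.hA, ← mul_smul]

/-- a left inverse of the Cartan matrix up to the exponent -/
def Binv : Matrix (Fin D.rank) (Fin D.rank) ℤ := (δ : ℤ) • Sm.T + Sm.M * Sm.U

theorem Binv_mul_A : Binv Sm * Sm.A = (δ : ℤ) • 1 := by
  rw [Binv, Matrix.add_mul, Matrix.smul_mul, Matrix.mul_assoc, Sm.h3, Matrix.mul_smul, ← smul_add, Sm.h4]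

theorem A_mul_Binv (hδ : δ ≠ 0) : Sm.A * Binv Sm = (δ : ℤ) • 1 := by
  let c := (Int.castRingHom ℚ).mapMatrix (m := Fin D.rank)
  have h1 : ((δ : ℚ)⁻¹ • c (Binv Sm)) * c Sm.A = 1 := by
    rw [Matrix.smul_mul, ← map_mul, Binv_mul_A, map_zsmul, map_one, ← Int.cast_smul_eq_zsmul ℚ,
      smul_smul, Int.cast_natCast, inv_mul_cancel₀ (Nat.cast_ne_zero.2 hδ), one_smul]
  have h2 := mul_eq_one_comm.1 h1
  rw [Matrix.mul_smul, inv_smul_eq_iff₀ (Nat.cast_ne_zero.2 hδ), ← map_mul] at h2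
  have h3 : c ((δ : ℤ) • 1) = (δ : ℚ) • 1 := by
    rw [map_zsmul, map_one, ← Int.cast_smul_eq_zsmul ℚ, Int.cast_natCast]
  exact (Matrix.map_injective Int.cast_injective) (h2.trans h3.symm)

theorem act_A_inj (hδ : δ ≠ 0) {v : Fin D.rank → ℤ} (h : act Sm.A v = 0) : v = 0 := by
  have h1 := congrArg (fun N => act N v) (Binv_mul_A Sm)
  simp only [act_mul, h, act_zero, act_smul, act_one] at h1
  funext i
  show v i = 0
  simpa [hδ] using congrFun h1 i

theorem det_A_ne (hδ : δ ≠ 0) : Sm.A.det ≠ 0 := by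
  intro h
  have := congrArg Matrix.det (Binv_mul_A Sm)
  rw [Matrix.det_mul, h, mul_zero, Matrix.det_smul, Matrix.det_one, mul_one] at this
  exact hδ (by exact_mod_cast (pow_eq_zero_iff'.1 this.symm).1)

theorem A_cancel (hδ : δ ≠ 0) {X Y : Matrix (Fin D.rank) (Fin D.rank) ℤ} (h : Sm.A * X = Sm.A * Y) :
    X = Y := by
  have h1 := congrArg (Binv Sm * ·) h
  simp only [← Matrix.mul_assoc, Binv_mul_A, Matrix.smul_mul, Matrix.one_mul] at h1
  exact smul_right_injective _ (Int.natCast_ne_zero.2 hδ) h1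

section Torus

variable {K : Type*} [Field K]

/-- the root values of a torus parameter -/
def chi (c : Fin D.rank → Kˣ) : Fin D.rank → Additive Kˣ :=
  act Sm.A fun i => Additive.ofMul (c i)

include C in
theorem tchar_eq (c : Fin D.rank → Kˣ) {s : ℕ} (hs : s < D.nroots) :
    tchar D c s = (ev C (chi Sm c) s).toMul := by
  apply Additive.ofMul.injective
  rw [tchar_ofMul]
  exact (ev_act_A C Sm _ hs).symm

include C in
theorem chi_congr {c c' : Fin D.rank → Kˣ} (h : torus D c = torus D c') : chi Sm c = chi Sm c' := by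
  funext i
  have hi := (ChevalleyRoots.simple_lt C i.isLt)
  have h1 := congrArg (fun g : GL D.Idx K => (g : Matrix D.Idx D.Idx K)
    (Sum.inr ⟨_, hi⟩) (Sum.inr ⟨_, hi⟩)) h
  simp only [ChevalleyTorus.coe_torus, tmat, Matrix.diagonal_apply_eq, Sum.elim_inr,
    tchar_eq C Sm _ hi, ev_simple] at h1
  exact Additive.toMul.injective (Units.ext h1)

include C in
theorem torus_congr {c c' : Fin D.rank → Kˣ} (h : chi Sm c = chi Sm c') : torus D c = torus D c' := by
  apply Units.ext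
  rw [ChevalleyTorus.coe_torus, ChevalleyTorus.coe_torus, tmat, tmat]
  congr 1
  funext q
  rcases q with a | s
  · simp
  · simp [tchar_eq C Sm _ s.isLt, h]

include C in
theorem torus_conj (c : Fin D.rank → Kˣ) {s : ℕ} (hs : s < D.nroots) (t : K) :
    torus D c * ChevalleyCore.xg C s t * (torus D c)⁻¹ =
      ChevalleyCore.xg C s (((ev C (chi Sm c) s).toMul : Kˣ) * t) := by
  rw [ChevalleyTorus.torus_conj_xg C hs, tchar_eq C Sm c hs]

theorem chi_one : chi Sm (1 : Fin D.rank → Kˣ) = 0 := act_zero Sm.A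

theorem chi_mul (c c' : Fin D.rank → Kˣ) : chi Sm (c * c') = chi Sm c + chi Sm c' :=
  (actHom Sm.A).map_add (fun i => Additive.ofMul (c i)) fun i => Additive.ofMul (c' i)

theorem chi_pow (c : Fin D.rank → Kˣ) (k : ℕ) : chi Sm (c ^ k) = k • chi Sm c := by
  rw [chi, chi, ← act_nsmul]
  rfl

variable (X : Weyl D) (hs : suppCheck D = true)

/-- the Bruhat hypotheses over `K` -/
abbrev sysK : Sys D K := ChevBruhatInstance.mkSys C X hs

/-- conjugation of a torus element by a monomial element -/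
theorem conj_torus (n : ↥(D.monomialSubgroup K)) (c : Fin D.rank → Kˣ) :
    ∃ c'', (n : GL D.Idx K) * torus D c * (n : GL D.Idx K)⁻¹ = torus D c'' ∧
      wact C X ((sysK C X hs).toW n) (chi Sm c'') = chi Sm c := by
  let S : Sys D K := sysK C X hs
  obtain ⟨c'', hc''⟩ := (ChevalleyTorus.mem_H_iff C).1
    (S.conj_H (S.acts_toW n) ((ChevalleyTorus.mem_H_iff C).2 ⟨c, rfl⟩))
  refine ⟨c'', hc''.symm, funext fun j => ?_⟩
  show ev C (chi Sm c'') (X.img (S.toW n) (D.simple j.val)) = chi Sm c j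
  have hj := X.simple_lt j.isLt
  set s := D.simple j.val
  obtain ⟨a, ha, h1, -⟩ := S.acts_toW n s hj
  have e1 : ∀ b, torus D c'' * S.xg (S.X.img (S.toW n) s) b * (torus D c'')⁻¹ =
      S.xg (S.X.img (S.toW n) s) (((ev C (chi Sm c'') (S.X.img (S.toW n) s)).toMul : Kˣ) * b) :=
    fun b => torus_conj C Sm c'' (S.X.img_lt _ hj) b
  have e2 : ∀ b, torus D c * S.xg s b * (torus D c)⁻¹ =
      S.xg s (((ev C (chi Sm c) s).toMul : Kˣ) * b) := fun b => torus_conj C Sm c hj b
  have k := e1 (a * 1)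
  rw [← h1, hc''] at k
  rw [show (n : GL D.Idx K) * torus D c * (n : GL D.Idx K)⁻¹ * (n * S.xg s 1 * (n : GL D.Idx K)⁻¹) *
      ((n : GL D.Idx K) * torus D c * (n : GL D.Idx K)⁻¹)⁻¹ =
      n * (torus D c * S.xg s 1 * (torus D c)⁻¹) * (n : GL D.Idx K)⁻¹ by group, e2, h1] at k
  have k2 := (S.xg_inj _ _ (S.X.img_lt _ hj) (S.X.img_lt _ hj) _ _
    (mul_ne_zero ha (mul_ne_zero (Units.ne_zero _) one_ne_zero)) k).2
  rw [mul_one, mul_one, mul_comm a] at k2
  rw [← ev_simple C (chi Sm c) j]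
  exact (Additive.toMul.injective (Units.ext (mul_right_cancel₀ ha k2))).symm

/-- An element conjugating one torus element to another. -/
theorem transporter {c c' : Fin D.rank → Kˣ} {y : GL D.Idx K} (hy : y ∈ D.group K)
    (h : y * torus D c' = torus D c * y) :
    ∃ w : X.W, wact C X w (chi Sm c) = chi Sm c' ∧
      ((∀ s, s < D.nroots → ev C (chi Sm c) s ≠ 0) →
        ∃ n : ↥(D.monomialSubgroup K), (n : GL D.Idx K) = y ∧ (sysK C X hs).toW n = w) := by
  let S : Sys D K := sysK C X hs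
  set t := torus D c with ht
  set t' := torus D c' with ht'
  have htH : t ∈ D.diagonalSubgroup K := (ChevalleyTorus.mem_H_iff C).2 ⟨c, rfl⟩
  obtain ⟨b, hb, n, u, hu, rfl⟩ := S.exists_cell_form hy
  have h' : t * (b * n * u) * t'⁻¹ = b * n * u := by rw [← h]; group
  obtain ⟨cn, hcn, hevn⟩ := conj_torus C Sm X hs n c'
  set h₁ := t * (torus D cn)⁻¹ with hh₁
  have hcnH : torus D cn ∈ D.diagonalSubgroup K := (ChevalleyTorus.mem_H_iff C).2 ⟨cn, rfl⟩
  have hh : h₁ ∈ D.diagonalSubgroup K := mul_mem htH (inv_mem hcnH)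
  have hu' : t' * u * t'⁻¹ ∈ S.Uw (S.toW n) := by
    refine Sys.conj_closure_le
      (T := {g : GL D.Idx K | ∃ r a, r ∈ S.X.invSet (S.toW n) ∧ g = S.xg r a}) t' ?_ hu
    rintro x ⟨r, a, hr, rfl⟩
    exact Subgroup.subset_closure ⟨r, _, hr, torus_conj C Sm c' (S.X.mem_invSet.mp hr).1.1 a⟩
  have hbB : t * b * t⁻¹ * h₁ ∈ D.borelSubgroup K :=
    mul_mem (mul_mem (mul_mem (Sys.H_le_B htH) hb) (inv_mem (Sys.H_le_B htH))) (Sys.H_le_B hh)
  have he : (t * b * t⁻¹ * h₁) * n * (t' * u * t'⁻¹) = b * n * u := by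
    conv_rhs => rw [← h']
    rw [hh₁, ← hcn, ← ht']; group
  obtain ⟨e1, e2⟩ := S.form_unique n hbB hb hu' hu he
  obtain ⟨u₀, hu₀, h₀, hh₀, rfl⟩ := (ChevalleyTorus.mem_B_iff C).1 hb
  have e3 : (t * u₀ * t⁻¹) * (h₀ * h₁) = u₀ * h₀ := by
    conv_rhs => rw [← e1]
    rw [show t * (u₀ * h₀) * t⁻¹ = t * u₀ * t⁻¹ * h₀ by
      rw [show t * (u₀ * h₀) * t⁻¹ = t * u₀ * (h₀ * t⁻¹) by group,
        ChevalleyTorus.H_comm C hh₀ (inv_mem htH)]
      group]
    group
  have hU : t * u₀ * t⁻¹ ∈ D.posUnipotent K :=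
    (Subgroup.mem_normalizer_iff.1 (ChevalleyTorus.H_le_normalizer_U C htH) u₀).1 hu₀
  have e4 : u₀⁻¹ * (t * u₀ * t⁻¹) = h₀ * (h₀ * h₁)⁻¹ := by
    rw [eq_mul_inv_iff_mul_eq, mul_assoc, e3]; group
  have e5 : u₀⁻¹ * (t * u₀ * t⁻¹) = 1 := by
    have := Subgroup.mem_inf.2 ⟨mul_mem (inv_mem hu₀) hU,
      e4 ▸ mul_mem hh₀ (inv_mem (mul_mem hh₀ hh))⟩
    rwa [ChevalleyTorus.U_inf_H C, Subgroup.mem_bot] at this
  have h11 : h₁ = 1 := by
    have e6 := e5
    rw [e4, mul_inv_rev, ← mul_assoc] at e6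
    have : h₀ * h₁⁻¹ = h₀ := by rw [← mul_inv_eq_one]; exact e6
    simpa using this
  have hχ : chi Sm c = chi Sm cn := chi_congr C Sm (mul_inv_eq_one.1 (hh₁.symm.trans h11))
  refine ⟨S.toW n, by rw [hχ]; exact hevn, fun hne => ?_⟩
  have hne' : ∀ s, s < D.nroots → ev C (chi Sm c') s ≠ 0 := fun s hs' => by
    rw [← hevn]
    intro h0
    refine hne _ (X.img_lt (S.toW n) hs') ?_
    rw [hχ]
    exact (ev_wact C X (S.toW n) _ hs').symm.trans h0
  have hnz : ∀ a : Fin D.rank → Kˣ, (∀ s, s < D.nroots → ev C (chi Sm a) s ≠ 0) →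
      ∀ r, r < D.nroots → tchar D a r ≠ 1 := fun a ha r hr h1 => by
    rw [tchar_eq C Sm a hr] at h1
    exact ha r hr (Additive.toMul.injective h1)
  have hu1 : u = 1 :=
    ChevRegularCentralizer68.fixed_U C _ (hnz c' hne') (S.Uw_le_U _ hu) e2
  have hu₀1 : u₀ = 1 :=
    ChevRegularCentralizer68.fixed_U C _ (hnz c hne) hu₀ (inv_mul_eq_one.1 e5).symm
  refine ⟨⟨h₀, Sys.H_le_N hh₀⟩ * n, ?_, ?_⟩
  · simp [hu1, hu₀1]
  · rw [map_mul, S.toW_eq (S.acts_H hh₀), one_mul]

include C Sm in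
/-- An element of prime order prime to the index of the torus is conjugate into the torus. -/
theorem exists_conj_mem_torus [Fintype K] (X : Weyl D)
    (hs : suppCheck D = true) (ds : List ℕ) (hpoly : ChevOrder.polyOK X.chain D.rank ds = true)
    (hlen : ds.length = D.rank) {ℓ : ℕ} [Fact ℓ.Prime] (hcong : (Fintype.card K : ZMod ℓ) = 1)
    (hds : ∀ e ∈ ds, ¬ ℓ ∣ e) {h : GL D.Idx K} (hh : h ∈ D.group K) (hord : h ^ ℓ = 1) :
    ∃ g ∈ D.group K, g * h * g⁻¹ ∈ D.diagonalSubgroup K := by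
  classical
  let S : Sys D K := ChevBruhatInstance.mkSys C X hs
  set Q := Fintype.card K with hQ
  have hQ1 : 1 < Q := Fintype.one_lt_card
  set γ := Nat.gcd (Q - 1) δ ^ 1 with hγ
  have hH : γ * Nat.card ↥(D.diagonalSubgroup K) = (Q - 1) ^ D.rank :=
    ChevalleyTorusCard.card_H (F := K) C Sm
  have hG := ChevOrder.order_eq (F := K) C X hs ds hpoly hH
  rw [← hQ] at hG
  set R := (ds.map fun e => ∑ i ∈ Finset.range e, Q ^ i).prod with hR
  have hprod : (ds.map fun e => Q ^ e - 1).prod = R * (Q - 1) ^ ds.length := by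
    rw [hR]
    clear hpoly hlen hds hG hR R
    induction ds with
    | nil => simp
    | cons a l ih =>
      rw [List.map_cons, List.prod_cons, ih, List.map_cons, List.prod_cons, List.length_cons, pow_succ,
        ← geom_sum_mul_of_one_le hQ1.le a]
      ring
  let T : Subgroup ↥(D.group K) := (D.diagonalSubgroup K).subgroupOf (D.group K)
  have hT : γ * Nat.card ↥T = (Q - 1) ^ D.rank := by
    rw [← hH]
    exact congrArg (γ * ·) (Nat.card_congr (Subgroup.subgroupOfEquivOfLe S.H_le_group).toEquiv)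
  have hidx : T.index = Q ^ (D.nroots / 2) * R := by
    have h1 := congrArg (γ * ·) T.card_mul_index
    simp only [← mul_assoc, hT, hG, hprod, hlen] at h1
    apply Nat.eq_of_mul_eq_mul_left (pow_pos (show 0 < Q - 1 by omega) D.rank)
    rw [h1]; ring
  have hℓ : ℓ.Prime := Fact.out
  have hnd : ¬ ℓ ∣ T.index := by
    rw [hidx, hℓ.dvd_mul]
    rintro (h1 | h1)
    · have := (ZMod.natCast_eq_zero_iff _ ℓ).2 (hℓ.dvd_of_dvd_pow h1)
      rw [hcong] at this
      exact one_ne_zero this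
    · rw [hR] at h1
      obtain ⟨a, ha, hdvd⟩ := hℓ.prime.dvd_prod_iff.1 h1
      obtain ⟨e, he, rfl⟩ := List.mem_map.1 ha
      refine hds e he ((ZMod.natCast_eq_zero_iff _ ℓ).1 ?_)
      rw [← (ZMod.natCast_eq_zero_iff _ ℓ).2 hdvd]
      simp [hcong]
  let x : ↥(D.group K) := ⟨h, hh⟩
  have hx : x ^ ℓ = 1 := Subtype.ext hord
  have hp : IsPGroup ℓ ↥(Subgroup.zpowers x) := by
    intro y
    obtain ⟨y, k, rfl⟩ := y
    refine ⟨1, Subtype.ext ?_⟩
    show (x ^ k) ^ (ℓ ^ 1) = 1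
    rw [pow_one, ← zpow_natCast, ← zpow_mul, mul_comm, zpow_mul, zpow_natCast, hx, one_zpow]
  obtain ⟨a, ha⟩ := hp.nonempty_fixed_point_of_prime_not_dvd_card (↥(D.group K) ⧸ T) hnd
  induction a using QuotientGroup.induction_on with
  | _ a =>
    have h1 : (QuotientGroup.mk (x * a) : ↥(D.group K) ⧸ T) = QuotientGroup.mk a :=
      ha ⟨x, Subgroup.mem_zpowers x⟩
    have h2 := QuotientGroup.eq.1 h1.symm
    refine ⟨((a⁻¹ : ↥(D.group K)) : GL D.Idx K), SetLike.coe_mem _, ?_⟩
    rw [Subgroup.mem_subgroupOf] at h2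
    rw [Subgroup.coe_inv, inv_inv]
    simpa [mul_assoc, x] using h2

end Torus

section Descent

variable {K : Type*} [Field K] [Finite K] (X : Weyl D) (hs : suppCheck D = true) (σ : K ≃+* K) {q : ℕ}
  (hσ : ∀ x, σ x = x ^ q)

open Cfsg.Agent.ChevFieldAut77 (psi fixGen psi_xg psi_fixGen xg_mem_fixGen)

include hσ in
omit [Finite K] in
theorem psi_torus_pow (c : Fin D.rank → Kˣ) : psi σ (torus D c) = torus D (c ^ q) := by
  rw [ChevFieldAut77.psi_torus]
  exact congrArg _ (funext fun i => Units.ext (by simp [hσ]))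

include hσ Sm in
/-- A fixed point of the field automorphism has its `δ`-th power generated by fixed root elements. -/
theorem pow_fixed_mem {g : GL D.Idx K} (hg : g ∈ D.group K) (hfix : psi σ g = g) :
    g ^ δ ∈ fixGen (sysK C X hs) σ := by
  let S : Sys D K := sysK C X hs
  obtain ⟨b, hb, n, u, hu, rfl⟩ := S.exists_cell_form hg
  obtain ⟨m, hm, hmn⟩ := ChevFieldAut77.exists_rep S σ (S.toW n)
  have hh : (n : GL D.Idx K) * (m : GL D.Idx K)⁻¹ ∈ D.diagonalSubgroup K := by
    have : n * m⁻¹ ∈ S.toW.ker := by simp [MonoidHom.mem_ker, hmn]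
    exact S.toW_ker.le this
  set b' := b * ((n : GL D.Idx K) * (m : GL D.Idx K)⁻¹) with hb'def
  have hb' : b' ∈ D.borelSubgroup K := mul_mem hb (Sys.H_le_B hh)
  have e : b * (n : GL D.Idx K) * u = b' * (m : GL D.Idx K) * u := by rw [hb'def]; group
  rw [e] at hfix ⊢
  rw [← hmn] at hu
  rw [map_mul, map_mul, psi_fixGen C S σ hm] at hfix
  obtain ⟨hbfix, hufix⟩ := S.form_unique m (ChevFieldAut77.psi_mem_B C S σ hb') hb'
    (ChevFieldAut77.psi_mem_Uw C S σ hu) hu hfix
  obtain ⟨w0, hw0⟩ := ChevFieldAut77.posUnipotent_eq_Uw S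
  obtain ⟨h, hh', v, hv, hbv⟩ := S.mem_B_iff.mp hb'
  obtain ⟨c, rfl⟩ := (ChevalleyTorus.mem_H_iff C).1 hh'
  rw [hbv, map_mul, psi_torus_pow σ hσ] at hbfix
  have hψv : psi σ v ∈ D.posUnipotent K := by
    rw [hw0] at hv ⊢; exact ChevFieldAut77.psi_mem_Uw C S σ hv
  have hboth : (torus D c)⁻¹ * torus D (c ^ q) = v * (psi σ v)⁻¹ := by
    rw [inv_mul_eq_iff_eq_mul, eq_comm, ← mul_assoc, mul_inv_eq_iff_eq_mul, hbfix]
  have h1 : v * (psi σ v)⁻¹ ∈ D.posUnipotent K ⊓ D.diagonalSubgroup K :=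
    Subgroup.mem_inf.mpr ⟨mul_mem hv (inv_mem hψv),
      hboth ▸ mul_mem (inv_mem (ChevalleyTorus.torus_mem_H C c)) (ChevalleyTorus.torus_mem_H C _)⟩
  rw [S.U_inf_H, Subgroup.mem_bot] at h1
  rw [h1, inv_mul_eq_one] at hboth
  rw [mul_inv_eq_one] at h1
  have hv' : v ∈ fixGen S σ := ChevFieldAut77.fixed_Uw C S σ _ w0 rfl v (hw0 ▸ hv) h1.symm
  have hu' : u ∈ fixGen S σ := ChevFieldAut77.fixed_Uw C S σ _ _ rfl u hu hufix
  rw [hbv]
  set t := torus D c
  have hnorm : ∀ x ∈ fixGen S σ, t * x * t⁻¹ ∈ fixGen S σ := by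
    intro x hx
    induction hx using Subgroup.closure_induction with
    | mem x hx =>
      obtain ⟨r, a, hr, ha, rfl⟩ := hx
      have e1 := torus_conj C Sm c hr a
      have e2 := torus_conj C Sm (c ^ q) hr a
      rw [← hboth] at e2
      have e3 : ((ev C (chi Sm (c ^ q)) r).toMul : Kˣ) = (ev C (chi Sm c) r).toMul := by
        rw [← chi_congr C Sm hboth]
      refine (show t * S.xg r a * t⁻¹ = S.xg r _ from e1) ▸ xg_mem_fixGen S σ hr ?_
      rw [map_mul, ha, hσ, ← Units.val_pow_eq_pow_val, ← toMul_nsmul]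
      congr 2
      rw [← ev_nsmul, ← chi_pow]
      exact e3
    | one => simp
    | mul a b _ _ h1 h2 =>
      rw [show t * (a * b) * t⁻¹ = (t * a * t⁻¹) * (t * b * t⁻¹) by group]
      exact mul_mem h1 h2
    | inv a _ h1 =>
      rw [show t * a⁻¹ * t⁻¹ = (t * a * t⁻¹)⁻¹ by group]
      exact inv_mem h1
  have key : ∀ (f : GL D.Idx K), f ∈ fixGen S σ → ∀ k : ℕ, ∃ f' ∈ fixGen S σ, (t * f) ^ k = f' * t ^ k := by
    intro f hf k
    induction k with
    | zero => exact ⟨1, one_mem _, by simp⟩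
    | succ k ih =>
      obtain ⟨f', hf', e⟩ := ih
      refine ⟨(t * f * t⁻¹) * (t * f' * t⁻¹), mul_mem (hnorm f hf) (hnorm f' hf'), ?_⟩
      rw [pow_succ' (t * f), e, pow_succ' t]; group
  obtain ⟨f', hf', e'⟩ := key (v * m * u) (mul_mem (mul_mem hv' hm) hu') δ
  rw [show t * v * (m : GL D.Idx K) * u = t * (v * m * u) by group, e']
  refine mul_mem hf' ?_
  have hfixc : ∀ i, σ (((c ^ δ) i : Kˣ) : K) = ((c ^ δ) i : K) := by
    intro i
    have h2 := congrArg (act (Binv Sm)) (chi_congr C Sm hboth.symm)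
    rw [chi, chi, ← act_mul, ← act_mul, Binv_mul_A, act_smul, act_smul, act_one, act_one] at h2
    have h3 : ((c ^ q) i) ^ δ = (c i) ^ δ := Additive.ofMul.injective (congrFun h2 i)
    rw [hσ, ← Units.val_pow_eq_pow_val, Pi.pow_apply, ← pow_mul, mul_comm, pow_mul]
    exact congrArg Units.val h3
  rw [← map_pow, ← Finset.univ_prod_mulSingle (c ^ δ)]
  induction (Finset.univ : Finset (Fin D.rank)) using Finset.induction_on with
  | empty => simp
  | insert a T ha ih =>
    rw [Finset.prod_insert ha, map_mul]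
    exact mul_mem (ChevFieldAut77.torus_single_mem C S σ a _ (hfixc a)) ih

end Descent

section Cover

open Cfsg.Agent.ChevFieldAut77 (psi)

variable {K : Type*} [Field K] [Finite K] (σ : K ≃+* K)

/-- the field automorphism on the generators of the Steinberg group -/
def gensMap (p : Fin D.nroots × K) : D.SteinbergGroup K := (StGroup.sysSt C K).x p.1.val (σ p.2)

omit [Finite K] in
theorem lift_gensMap_stX {r : ℕ} (hr : r < D.nroots) (t : K) :
    FreeGroup.lift (gensMap C σ) (D.stX r t) = (StGroup.sysSt C K).x r (σ t) := by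
  rw [ChevalleyDatum.stX, dif_pos hr, FreeGroup.lift_apply_of]
  rfl

omit [Finite K] in
theorem lift_gensMap_stH {r : ℕ} (hr : r < D.nroots) (t : K) :
    FreeGroup.lift (gensMap C σ) (D.stH r t) =
      PresentedGroup.mk (D.steinbergRels K) (D.stH r (σ t)) := by
  simp only [ChevalleyDatum.stH, ChevalleyDatum.hWord, ChevalleyDatum.nWord, ChevalleyDatum.stWord,
    List.cons_append, List.nil_append, List.map_cons, List.map_nil, List.prod_cons, List.prod_nil,
    mul_one, map_mul, lift_gensMap_stX C σ hr, lift_gensMap_stX C σ (C.neg_lt r), map_neg, map_inv₀, map_one]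
  rfl

omit [Finite K] in
theorem commWord_map (r s : ℕ) (t u : K) :
    D.commWord K r s (σ t) (σ u) = (D.commWord K r s t u).map fun p => (p.1, σ p.2) := by
  simp [ChevalleyDatum.commWord, List.map_map, Function.comp_def]

omit [Finite K] in
theorem gensMap_rels : ∀ g ∈ D.steinbergRels K, FreeGroup.lift (gensMap C σ) g = 1 := by
  let S := StGroup.sysSt C K
  rintro g ((⟨r, a, b, hr, rfl⟩ | ⟨r, s, t, u, hr, hs, h1, h2, rfl⟩) | ⟨r, a, b, hr, ha, hb, rfl⟩)
  · rw [map_mul, map_mul, map_inv, lift_gensMap_stX C σ hr, lift_gensMap_stX C σ hr,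
      lift_gensMap_stX C σ hr, S.x_add r hr, map_add, mul_inv_cancel]
  · have e : FreeGroup.lift (gensMap C σ) (D.stWord (D.commWord K r s t u)) =
        ((D.commWord K r s (σ t) (σ u)).map fun p => S.x p.1 p.2).prod := by
      rw [commWord_map, ChevalleyDatum.stWord, map_list_prod, List.map_map, List.map_map]
      exact congrArg List.prod (List.map_congr_left fun p hp =>
        lift_gensMap_stX C σ (StGroup.commWord_lt C K hr hs t u p hp) _)
    simp only [map_mul, map_inv, lift_gensMap_stX C σ hr, lift_gensMap_stX C σ hs, e]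
    simp only [show StGroup.sysSt C K = S from rfl]
    rw [mul_inv_eq_one, mul_assoc _ (S.x s (σ u)), S.comm r s hr hs h1 h2]
    group
  · rw [map_mul, map_mul, map_inv, lift_gensMap_stH C σ hr, lift_gensMap_stH C σ hr,
      lift_gensMap_stH C σ hr, map_mul σ, ← map_mul, ← map_inv, ← map_mul]
    exact PresentedGroup.one_of_mem (Or.inr ⟨r, σ a, σ b, hr, by simpa using ha, by simpa using hb, rfl⟩)

/-- the field automorphism of the Steinberg group -/
def stPsi : D.SteinbergGroup K →* D.SteinbergGroup K :=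
  PresentedGroup.toGroup (f := gensMap C σ) (gensMap_rels C σ)

omit [Finite K] in
theorem stPsi_x {r : ℕ} (hr : r < D.nroots) (t : K) :
    stPsi C σ ((StGroup.sysSt C K).x r t) = (StGroup.sysSt C K).x r (σ t) :=
  (congrArg _ rfl).trans (lift_gensMap_stX C σ hr t)

omit [Finite K] in
theorem θ_stPsi : (StGroup.sysSt C K).θ.comp (stPsi C σ) = (psi σ).comp (StGroup.sysSt C K).θ := by
  let S := StGroup.sysSt C K
  refine MonoidHom.eq_of_eqOn_dense S.gen ?_
  rintro _ ⟨r, hr, t, rfl⟩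
  rw [MonoidHom.comp_apply, MonoidHom.comp_apply, stPsi_x C σ hr, S.θ_x r hr, S.θ_x r hr]
  apply Units.ext
  rw [ChevFieldAut77.coe_map, ChevalleyCore.coe_xg, ChevalleyCore.coe_xg]
  exact (ChevFieldAut77.map_x C σ.toRingHom hr t).symm

variable (X : Weyl D) (hs : suppCheck D = true) (hG : StBasic.Gen D) {q : ℕ} (hσ : ∀ x, σ x = x ^ q)

/-- the torus of the Steinberg group -/
noncomputable abbrev stTor : (Fin D.rank → Kˣ) →* D.SteinbergGroup K :=
  StTorus.tor (StGroup.sysSt C K) hG (StGroupTorus.hMul_st C K)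

include hσ in
omit [Finite K] in
theorem stPsi_tor (c : Fin D.rank → Kˣ) : stPsi C σ (stTor C hG c) = stTor C hG (c ^ q) := by
  let S := StGroup.sysSt C K
  have h : ∀ (i : Fin D.rank) (a : Kˣ), stPsi C σ (stTor C hG (Pi.mulSingle i a)) =
      stTor C hG (Pi.mulSingle i (a ^ q)) := by
    intro i a
    have hi := ChevalleyRoots.simple_lt C i.isLt
    rw [stTor, StTorus.tor_single, StTorus.tor_single]
    simp only [StBasic.h, StBasic.n, map_mul, stPsi_x C σ hi, stPsi_x C σ (C.neg_lt _), map_neg,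
      map_inv₀, map_one, hσ (a : K), Units.val_pow_eq_pow_val]
  rw [← Finset.univ_prod_mulSingle c]
  induction (Finset.univ : Finset (Fin D.rank)) using Finset.induction_on with
  | empty => simp
  | insert a T ha ih => rw [Finset.prod_insert ha, mul_pow, map_mul, map_mul, map_mul, ih, h, Pi.mulSingle_pow]

/-- the reflection on torus parameters -/
def reflHom (i : Fin D.rank) : (Fin D.rank → Kˣ) →* (Fin D.rank → Kˣ) where
  toFun c := c * Pi.mulSingle i ((∏ j, c j ^ D.cartan j.val (D.simple i.val))⁻¹)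
  map_one' := by funext k; simp
  map_mul' c d := by
    funext k
    simp only [Pi.mul_apply, mul_zpow, Finset.prod_mul_distrib, mul_inv, Pi.mulSingle_apply]
    split
    · rw [mul_mul_mul_comm]
    · simp

omit [Finite K] in
theorem reflHom_apply (i : Fin D.rank) (c : Fin D.rank → Kˣ) :
    reflHom i c = c * Pi.mulSingle i ((∏ j, c j ^ D.cartan j.val (D.simple i.val))⁻¹) := rfl

include hG in
omit [Finite K] in
theorem n_conj_single (i a : Fin D.rank) (x : Kˣ) :
    StBasic.n (StGroup.sysSt C K) i.val 1 * stTor C hG (Pi.mulSingle a x) *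
        (StBasic.n (StGroup.sysSt C K) i.val 1)⁻¹ =
      stTor C hG (Pi.mulSingle i ((x ^ D.cartan a.val (D.simple i.val))⁻¹)) * stTor C hG (Pi.mulSingle a x) := by
  have e0 := StTorus.h_conj_n (StGroup.sysSt C K) hG i.isLt a.isLt (Units.ne_zero x) (1 : K)
  rw [mul_one] at e0
  have e1 : StBasic.h (StGroup.sysSt C K) i.val (((x ^ D.cartan a.val (D.simple i.val))⁻¹ : Kˣ) : K) =
      StBasic.n (StGroup.sysSt C K) i.val 1 *
        (StBasic.n (StGroup.sysSt C K) i.val ((x : K) ^ D.cartan a.val (D.simple i.val)))⁻¹ := by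
    have h1 := map_inv (StTorus.hHom (StGroup.sysSt C K) (StGroupTorus.hMul_st C K) i.isLt)
      (x ^ D.cartan a.val (D.simple i.val))
    refine h1.trans ?_
    show (StBasic.h (StGroup.sysSt C K) i.val _)⁻¹ = _
    rw [StBasic.h, mul_inv_rev, StBasic.n_inv (StGroup.sysSt C K) i.isLt (-1), neg_neg,
      Units.val_zpow_eq_zpow_val]
  rw [stTor, StTorus.tor_single, StTorus.tor_single, e1, ← e0]
  group

include hG in
omit [Finite K] in
theorem n_conj_tor (i : Fin D.rank) (c : Fin D.rank → Kˣ) :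
    StBasic.n (StGroup.sysSt C K) i.val 1 * stTor C hG c * (StBasic.n (StGroup.sysSt C K) i.val 1)⁻¹ =
      stTor C hG (reflHom i c) := by
  rw [← Finset.univ_prod_mulSingle c]
  induction (Finset.univ : Finset (Fin D.rank)) using Finset.induction_on with
  | empty => simp
  | insert a T ha ih =>
    have hp : reflHom i (Pi.mulSingle a (c a)) =
        Pi.mulSingle i ((c a ^ D.cartan a.val (D.simple i.val))⁻¹) * Pi.mulSingle a (c a) := by
      rw [reflHom_apply, mul_comm]
      congr 3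
      rw [Finset.prod_eq_single a]
      · simp
      · intro b _ hb; simp [hb]
      · simp
    rw [Finset.prod_insert ha, map_mul (reflHom i), map_mul, map_mul, ← ih, hp, map_mul, ← n_conj_single C hG i a]
    group

include hG in
omit [Finite K] in
/-- Conjugation of the Steinberg torus by a lift of a Weyl element. -/
theorem conj_lift (w : X.W) : ∃ (m : D.SteinbergGroup K) (n : ↥(D.monomialSubgroup K))
    (L : Matrix (Fin D.rank) (Fin D.rank) ℤ), (StGroup.sysSt C K).θ m = (n : GL D.Idx K) ∧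
      (sysK C X hs).toW n = w ∧ Pm C X w⁻¹ = 1 + Sm.A * L ∧
      ∀ c, ∃ c', m * stTor C hG c * m⁻¹ = stTor C hG c' ∧
        (fun i => Additive.ofMul (c' i)) =
          (fun i => Additive.ofMul (c i)) + act L (act Sm.A fun i => Additive.ofMul (c i)) := by
  let S := StGroup.sysSt C K
  let B : Sys D K := sysK C X hs
  induction w using X.w_induction with
  | one =>
    refine ⟨1, 1, 0, by simp, map_one _, by simp [Pm_one], fun c => ⟨c, by simp, ?_⟩⟩
    funext i; simp [act]
  | step i w ih =>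
    obtain ⟨m, n, L, hm, hn, hL, hconj⟩ := ih
    set E : Matrix (Fin D.rank) (Fin D.rank) ℤ := - Matrix.single i i 1 with hE
    refine ⟨StBasic.n S i.val 1 * m, B.sN i * n, E + L + E * (Sm.A * L), ?_, ?_, ?_, ?_⟩
    · rw [map_mul, hm, StBasic.θ_n S i.isLt]
      rfl
    · rw [map_mul, hn]
      exact congrArg (· * w) (B.toW_sN i)
    · rw [mul_inv_rev, show (X.C.simple i)⁻¹ = X.C.simple i from
        inv_eq_of_mul_eq_one_right (X.C.toCoxeterSystem.simple_mul_simple_self i), Pm_mul, hL, Pm_simple X Sm i, ← hE]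
      simp only [Matrix.mul_add, Matrix.add_mul, Matrix.one_mul, Matrix.mul_one, Matrix.mul_assoc]
      abel
    · intro c
      obtain ⟨c', h1, h2⟩ := hconj c
      have key := n_conj_tor C hG (K := K) i
      refine ⟨c' * Pi.mulSingle i ((∏ j, c' j ^ D.cartan j.val (D.simple i.val))⁻¹), ?_, ?_⟩
      · rw [← reflHom_apply, ← key, ← h1]
        simp only [show StGroup.sysSt C K = S from rfl]
        group
      · rw [act_add, act_add, act_mul E, act_mul]
        have h3 : (fun k => Additive.ofMul ((c' * Pi.mulSingle (M := fun _ => Kˣ) i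
            ((∏ j, c' j ^ D.cartan j.val (D.simple i.val))⁻¹)) k)) =
            (fun k => Additive.ofMul (c' k)) + act E (act Sm.A fun k => Additive.ofMul (c' k)) := by
          funext k
          rw [Pi.mul_apply, ofMul_mul, Pi.add_apply]
          congr 1
          by_cases hk : k = i
          · subst hk
            simp [act, hE, Matrix.single, Sm.hA, ofMul_prod]
          · simp [act, hE, hk, Matrix.single, Ne.symm hk]
        have hadd : ∀ (M : Matrix (Fin D.rank) (Fin D.rank) ℤ) (v w : Fin D.rank → Additive Kˣ),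
            act M (v + w) = act M v + act M w := fun M => (actHom M).map_add
        rw [h3, h2, hadd Sm.A, hadd E]
        abel

include hG hσ in
/-- An element over the ground field lifts to a fixed element of the Steinberg group, so a torus
parameter for it can be chosen fixed by the twisted Frobenius on the simply connected torus. -/
theorem exists_sc_lift {F : Type*} [Field F] (ι : F →+* K) (hσι : ∀ t, σ (ι t) = ι t)
    {g : GL D.Idx K} (hg : g ∈ D.group K) (n : ↥(D.monomialSubgroup K))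
    (hn : (n : GL D.Idx K) = g * (psi σ g)⁻¹) (hδ : δ ≠ 0)
    (hinj : Function.Injective (stTor (K := K) C hG)) {y : GL D.Idx F} (hy : y ∈ D.group F) {c : Fin D.rank → Kˣ}
    (hyc : g * Matrix.GeneralLinearGroup.map ι y * g⁻¹ = torus D c)
    {L : Matrix (Fin D.rank) (Fin D.rank) ℤ} (hL : Pm C X ((sysK C X hs).toW n) = 1 + Sm.A * L) :
    ∃ v : Fin D.rank → Additive Kˣ, act (1 + L * Sm.A - (q : ℤ) • 1) v = 0 ∧ act Sm.A v = chi Sm c := by
  let S := StGroup.sysSt C K
  let B : Sys D K := sysK C X hs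
  obtain ⟨yt, hyt, hyfix⟩ : ∃ yt : D.SteinbergGroup K,
      S.θ yt = Matrix.GeneralLinearGroup.map ι y ∧ stPsi C σ yt = yt := by
    clear hyc
    induction hy using Subgroup.closure_induction with
    | mem x hx =>
      obtain ⟨r, t, hx⟩ := hx
      refine ⟨S.x r.val (ι t), ?_, by rw [stPsi_x C σ r.isLt, hσι]⟩
      rw [S.θ_x r.val r.isLt]
      apply Units.ext
      rw [ChevFieldAut77.coe_map, ChevalleyCore.coe_xg, hx]
      have e := ChevFieldAut77.map_x C ι r.2 t
      rw [ChevalleyDatum.x, dif_pos r.2, ChevalleyDatum.x, dif_pos r.2] at e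
      rw [ChevalleyDatum.x, dif_pos r.2]
      exact e.symm
    | one => exact ⟨1, by rw [map_one, map_one], map_one _⟩
    | mul a b _ _ ha hb =>
      obtain ⟨a', ha1, ha2⟩ := ha
      obtain ⟨b', hb1, hb2⟩ := hb
      exact ⟨a' * b', by rw [map_mul, map_mul, ha1, hb1], by rw [map_mul, ha2, hb2]⟩
    | inv a _ ha =>
      obtain ⟨a', ha1, ha2⟩ := ha
      exact ⟨a'⁻¹, by rw [map_inv, map_inv, ha1], by rw [map_inv, ha2]⟩
  obtain ⟨gt, hgt⟩ : g ∈ S.θ.range := by rw [StGroup.range_sys C K S]; exact hg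
  have hk : ∀ z, S.θ z = 1 → z ∈ Subgroup.center (D.SteinbergGroup K) :=
    fun z hz => StBruhat.mem_center_of_ker S hG hz
  set t := gt * yt * gt⁻¹ with htdef
  have hθt : S.θ t = torus D c := by rw [htdef, map_mul, map_mul, map_inv, hgt, hyt, hyc]
  obtain ⟨c0, hc0, hchi⟩ : ∃ c0, stTor C hG c0 = t ∧ chi Sm c0 = chi Sm c := by
    have hz : t * (stTor C hG c)⁻¹ ∈ S.θ.ker := by
      rw [MonoidHom.mem_ker, map_mul, map_inv, hθt, StTorus.θ_tor, mul_inv_cancel]
    rw [StTorus.ker_eq_map S hG (StGroupTorus.hMul_st C K)] at hz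
    obtain ⟨k, hk1, hk2⟩ := hz
    refine ⟨k * c, by rw [map_mul]; exact (congrArg (· * _) hk2).trans (by rw [inv_mul_cancel_right]), ?_⟩
    rw [chi_mul, chi_congr C Sm (show torus D k = torus D 1 by rw [map_one]; exact hk1), chi_one, zero_add]
  set nt := gt * (stPsi C σ gt)⁻¹ with hnt
  have hθnt : S.θ nt = n := by
    rw [hnt, map_mul, map_inv, hgt, hn]
    congr 2
    rw [← MonoidHom.comp_apply, θ_stPsi, MonoidHom.comp_apply, hgt]
  have e1 : nt * stTor C hG (c0 ^ q) * nt⁻¹ = stTor C hG c0 := by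
    rw [← stPsi_tor C σ hG hσ, hc0, hnt, htdef, map_mul, map_mul, map_inv, hyfix]
    group
  obtain ⟨m, n', L', hm, hn', hL', hconj⟩ := conj_lift C Sm X hs hG (K := K) (B.toW n)
  have hdiag : (n' : GL D.Idx K)⁻¹ * (n : GL D.Idx K) ∈ D.diagonalSubgroup K := by
    have : n'⁻¹ * n ∈ B.toW.ker := by
      rw [MonoidHom.mem_ker, map_mul, map_inv, hn', inv_mul_cancel]
    exact B.toW_ker.le this
  obtain ⟨c2, hc2⟩ := (ChevalleyTorus.mem_H_iff C).1 hdiag
  obtain ⟨c', h1, h2⟩ := hconj (c0 ^ q)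
  set z := (m * stTor C hG c2)⁻¹ * nt with hz
  have hzc : z ∈ Subgroup.center (D.SteinbergGroup K) := hk _ (by
    rw [hz, map_mul, map_inv, map_mul, hθnt, hm, StTorus.θ_tor, hc2]
    group)
  have hzcomm := fun a => (Subgroup.mem_center_iff.1 hzc a)
  have e2 : stTor C hG c0 = stTor C hG c' := by
    rw [← e1, ← h1, show nt = m * stTor C hG c2 * z by rw [hz]; group]
    have e3 : stTor C hG c2 * stTor C hG (c0 ^ q) = stTor C hG (c0 ^ q) * stTor C hG c2 := by
      rw [← map_mul, ← map_mul, mul_comm]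
    calc m * stTor C hG c2 * z * stTor C hG (c0 ^ q) * (m * stTor C hG c2 * z)⁻¹
        = m * (stTor C hG c2 * (z * stTor C hG (c0 ^ q) * z⁻¹) * (stTor C hG c2)⁻¹) * m⁻¹ := by group
      _ = m * stTor C hG (c0 ^ q) * m⁻¹ := by
          rw [← hzcomm, mul_inv_cancel_right, e3, mul_inv_cancel_right]
  let v : Fin D.rank → Additive Kˣ := fun i => Additive.ofMul (c0 i)
  refine ⟨v, ?_, hchi⟩
  -- `v` and the image of `v` under the twist have equal root values, so differ by kernel elements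
  have hv : v = (q : ℤ) • v + act (L' * Sm.A) ((q : ℤ) • v) := by
    have hp : (fun i => Additive.ofMul ((c0 ^ q) i)) = (q : ℤ) • v := by
      funext i; simp [v, ofMul_pow]
    rw [← hinj e2] at h2
    rw [act_mul]
    rw [hp] at h2
    exact h2
  have hinvM : (1 + L * Sm.A) * (1 + L' * Sm.A) = 1 := by
    apply A_cancel Sm hδ
    have h : ∀ Y : Matrix (Fin D.rank) (Fin D.rank) ℤ, Sm.A * (1 + Y * Sm.A) = (1 + Sm.A * Y) * Sm.A := by
      intro Y
      rw [Matrix.mul_add, Matrix.add_mul, Matrix.mul_one, Matrix.one_mul, Matrix.mul_assoc]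
    rw [← Matrix.mul_assoc, h, Matrix.mul_assoc, h, ← Matrix.mul_assoc, ← hL, ← hL',
      Matrix.mul_one]
    have hone : Pm C X (B.toW n) * Pm C X (B.toW n)⁻¹ = 1 :=
      (Pm_mul (C := C) X (B.toW n)⁻¹ (B.toW n)).symm.trans
        ((congrArg (Pm C X) (inv_mul_cancel (G := X.W) (B.toW n))).trans (Pm_one (C := C) X))
    refine Eq.trans (congrArg (· * Sm.A) hone) (Matrix.one_mul _)
  have h5 := congrArg (act (1 + L * Sm.A)) hv
  rw [show (q : ℤ) • v + act (L' * Sm.A) ((q : ℤ) • v) = act (1 + L' * Sm.A) ((q : ℤ) • v) by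
    rw [act_add, act_one], ← act_mul, hinvM, act_one] at h5
  rw [show act (1 + L * Sm.A - (q : ℤ) • 1) v = act (1 + L * Sm.A) v - (q : ℤ) • v by
    funext j
    simp only [act, Matrix.sub_apply, Matrix.smul_apply, Matrix.one_apply, smul_eq_mul, mul_ite, mul_one,
      mul_zero, sub_smul, ite_smul, zero_smul, Finset.sum_sub_distrib, Finset.sum_ite_eq, Finset.mem_univ,
      if_true, Pi.sub_apply, Pi.smul_apply],
    h5, sub_self]

end Cover

section Core

open Cfsg.Agent.ChevFieldAut77 (psi fixGen)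

theorem act_sub_smul_one {M : Type*} [AddCommGroup M] (B : Matrix (Fin D.rank) (Fin D.rank) ℤ) (a : ℤ)
    (v : Fin D.rank → M) : act (B - a • 1) v = act B v - a • v := by
  funext j
  simp only [act, Matrix.sub_apply, Matrix.smul_apply, Matrix.one_apply, smul_eq_mul, mul_ite, mul_one,
    mul_zero, sub_smul, ite_smul, zero_smul, Finset.sum_sub_distrib, Finset.sum_ite_eq, Finset.mem_univ,
    if_true, Pi.sub_apply, Pi.smul_apply]

theorem act_smul_const {M : Type*} [AddCommGroup M] (B : Matrix (Fin D.rank) (Fin D.rank) ℤ)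
    (f : Fin D.rank → ℤ) (u : M) (j : Fin D.rank) : act B f j • u = act B (fun k => f k • u) j := by
  simp only [act, smul_eq_mul, Finset.sum_smul, mul_smul]

theorem nsmul_zsmul_comm {M : Type*} [AddCommGroup M] (a : ℕ) (j : ℤ) (x : M) :
    a • j • x = j • a • x := smul_comm _ _ _

theorem det_twist (hδ : δ ≠ 0) {P L : Matrix (Fin D.rank) (Fin D.rank) ℤ} (hL : P = 1 + Sm.A * L) (a : ℤ) :
    (1 + L * Sm.A - a • 1).det = (P - a • 1).det := by
  have h : Sm.A * (1 + L * Sm.A - a • 1) = (P - a • 1) * Sm.A := by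
    rw [hL]
    simp only [Matrix.mul_sub, Matrix.sub_mul, Matrix.mul_add, Matrix.add_mul, Matrix.mul_one, Matrix.one_mul,
      Matrix.mul_assoc, Matrix.mul_smul, Matrix.smul_mul]
  have h1 := congrArg Matrix.det h
  rw [Matrix.det_mul, Matrix.det_mul, mul_comm (P - a • 1).det] at h1
  exact mul_left_cancel₀ (det_A_ne Sm hδ) h1

include C Sm in
/-- **Cyclic self-centralising subgroups from twisted tori.** `g` twists the torus by the Weyl
element of `n`; the twisted torus has cyclic fixed point group `A` of order `N`, of which the index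
`g₀` part comes from the ground field. -/
theorem exists_selfCentralizing_of_twist (X : Weyl D) (hs : suppCheck D = true) (hG : StBasic.Gen D)
    {m : ℕ} (nm : Tab C m)
    (hmin : ∀ i : Fin D.rank, C.coef (D.nroots - 1) i.val = 1 → ¬ (δ : ℤ) ∣ Sm.U 0 i) (hδp : δ.Prime)
    {F : Type*} [Field F] [Fintype F] {K : Type*} [Field K] [Finite K] (ι : F →+* K) (σ : K ≃+* K)
    (hσ : ∀ x, σ x = x ^ Fintype.card F) (hinj : Function.Injective (stTor (K := K) C hG))
    {g : GL D.Idx K} (hg : g ∈ D.group K) (n : ↥(D.monomialSubgroup K))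
    (hn : (n : GL D.Idx K) = g * (psi σ g)⁻¹) {w : X.W} (hw : (sysK C X hs).toW n = w)
    {N : ℕ} [NeZero N] (hdet : (Pm C X w - (Fintype.card F : ℤ) • 1).det.natAbs = N)
    {u : Additive Kˣ} (hu : addOrderOf u = N) (hgen : ∀ x : Additive Kˣ, N • x = 0 → ∃ i : ℤ, i • u = x)
    (hdiv : ∀ a : Additive Kˣ, N • a = 0 → ∃ b, δ • b = a)
    {g₀ : ℕ} (hg₀ : Nat.gcd δ N = g₀) (hg₁ : Nat.gcd δ (Fintype.card F - 1) = g₀)
    (hcyc : IsAddCyclic ↥(actHom (M := Additive Kˣ) (Pm C X w - (Fintype.card F : ℤ) • 1)).ker)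
    (hreg : ∀ s, s < D.nroots → ∃ χ : Fin D.rank → Additive Kˣ,
      act (Pm C X w - (Fintype.card F : ℤ) • 1) χ = 0 ∧ (δ * g₀) • ev C χ s ≠ 0) :
    ∃ H : Subgroup ↥(D.group F), IsCyclic ↥H ∧ Nat.card ↥H = N / g₀ ∧
      Subgroup.centralizer (H : Set ↥(D.group F)) = H := by
  classical
  let S : Sys D K := sysK C X hs
  set q := Fintype.card F with hq
  have hq1 : 1 < q := Fintype.one_lt_card
  set P := Pm C X w with hP
  set A := (actHom (M := Additive Kˣ) (P - (q : ℤ) • 1)).ker with hA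
  have hmemA : ∀ χ, χ ∈ A ↔ act P χ = (q : ℤ) • χ := fun χ => by
    show act (P - (q : ℤ) • 1) χ = 0 ↔ _
    rw [act_sub_smul_one, sub_eq_zero]
  have hcardA : Nat.card ↥A = N :=
    Eq.trans (Nat.card_congr (Equiv.subtypeEquivRight fun χ => Iff.rfl)) (card_ker' _ hdet hu hgen)
  have hNA : ∀ χ ∈ A, N • χ = 0 := fun χ hχ => by
    have := card_nsmul_eq_zero' (G := ↥A) (x := ⟨χ, hχ⟩)
    rw [hcardA] at this
    exact congrArg Subtype.val this
  obtain ⟨⟨χ₀, hχ₀⟩, hgenA⟩ := IsAddCyclic.exists_generator (α := ↥A)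
  have hgen₀ : ∀ χ ∈ A, ∃ j : ℤ, j • χ₀ = χ := fun χ hχ => by
    obtain ⟨j, hj⟩ := AddSubgroup.mem_zmultiples_iff.1 (hgenA ⟨χ, hχ⟩)
    exact ⟨j, congrArg Subtype.val hj⟩
  have hord₀ : addOrderOf χ₀ = N := by
    have := addOrderOf_eq_card_of_forall_mem_zmultiples hgenA
    rw [hcardA] at this
    rwa [← AddSubgroup.addOrderOf_coe] at this
  have hσι : ∀ t : F, σ (ι t) = ι t := fun t => by rw [hσ, ← map_pow, hq, FiniteField.pow_card]
  let mp : GL D.Idx F →* GL D.Idx K := Matrix.GeneralLinearGroup.map ι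
  have hmp : Function.Injective mp := by
    intro a b hab
    apply Units.ext
    have h := congrArg (fun g : GL D.Idx K => (g : Matrix D.Idx D.Idx K)) hab
    simp only [mp, ChevFieldAut77.coe_map] at h
    exact Matrix.map_injective ι.injective h
  let Φ : ↥(D.group F) →* GL D.Idx K :=
    (MulAut.conj g).toMonoidHom.comp (mp.comp (D.group F).subtype)
  have hΦinj : Function.Injective Φ :=
    (MulAut.conj g).injective.comp (hmp.comp (D.group F).subtype_injective)
  -- fixed root elements come from the ground field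
  have hdesc : ∀ x ∈ fixGen S σ, ∃ y ∈ D.group F, mp y = x := by
    intro x hx
    induction hx using Subgroup.closure_induction with
    | mem x hx =>
      obtain ⟨r, t, hr, ht, rfl⟩ := hx
      rw [hσ] at ht
      obtain ⟨t₀, rfl⟩ := ChevCoxTorus68.mem_range_of_pow_card ι (hq ▸ ht)
      refine ⟨ChevalleyCore.xg C r t₀,
        (ChevBruhatInstance.mkSys (F := F) C X hs).xg_mem_group hr t₀, Units.ext ?_⟩
      rw [ChevFieldAut77.coe_map, ChevalleyCore.coe_xg, S.coe_xg]
      exact ChevFieldAut77.map_x C ι hr t₀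
    | one => exact ⟨1, one_mem _, map_one mp⟩
    | mul a b _ _ ha hb =>
      obtain ⟨y, hy, rfl⟩ := ha
      obtain ⟨z, hz, rfl⟩ := hb
      exact ⟨y * z, mul_mem hy hz, map_mul mp y z⟩
    | inv a _ ha =>
      obtain ⟨y, hy, rfl⟩ := ha
      exact ⟨y⁻¹, inv_mem hy, map_inv mp y⟩
  -- an element of the ground field group on the torus, at `δ • χ₀`
  obtain ⟨ya, ca, hΦa, hca⟩ : ∃ (ya : ↥(D.group F)) (ca : Fin D.rank → Kˣ),
      Φ ya = torus D ca ∧ chi Sm ca = δ • χ₀ := by
    choose b hb using fun j => hdiv (χ₀ j) (congrFun (hNA χ₀ hχ₀) j)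
    let c : Fin D.rank → Kˣ := fun i => (act (Binv Sm) b i).toMul
    have hc : chi Sm c = χ₀ := by
      show act Sm.A (act (Binv Sm) b) = χ₀
      rw [← act_mul, A_mul_Binv Sm hδp.ne_zero, act_smul, act_one]
      exact funext hb
    obtain ⟨c'', h1, h2⟩ := conj_torus C Sm X hs n (c ^ q)
    have he : chi Sm c'' = chi Sm c := by
      rw [chi_pow, hw] at h2
      have h3 : wact C X w (chi Sm c) = q • chi Sm c := by
        rw [← act_Pm, hc, ← hP, (hmemA χ₀).1 hχ₀, natCast_zsmul]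
      have h4 := congrArg (wact C X w⁻¹) (h2.trans h3.symm)
      rwa [wact_inv', wact_inv'] at h4
    rw [torus_congr C Sm he] at h1
    have hfix : psi σ (g⁻¹ * torus D c * g) = g⁻¹ * torus D c * g := by
      rw [map_mul, map_mul, map_inv, psi_torus_pow σ hσ, ← h1, hn]
      group
    have hmem : g⁻¹ * torus D c * g ∈ D.group K :=
      mul_mem (mul_mem (inv_mem hg) (S.H_le_group (ChevalleyTorus.torus_mem_H C c))) hg
    obtain ⟨y, hy, he'⟩ := hdesc _ (pow_fixed_mem C Sm X hs σ hσ hmem hfix)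
    refine ⟨⟨y, hy⟩, c ^ δ, ?_, by rw [chi_pow, hc]⟩
    show g * mp y * g⁻¹ = _
    rw [he', ← conj_pow, map_pow]
    congr 1
    group
  set χ₁ := g₀ • χ₀ with hχ₁
  obtain ⟨y₁, c₁, hΦ₁, hc₁⟩ : ∃ (y₁ : ↥(D.group F)) (c₁ : Fin D.rank → Kˣ),
      Φ y₁ = torus D c₁ ∧ chi Sm c₁ = χ₁ := by
    refine ⟨ya ^ Nat.gcdA δ N, ca ^ Nat.gcdA δ N, by rw [map_zpow, map_zpow, hΦa], ?_⟩
    have : chi Sm (ca ^ Nat.gcdA δ N) = Nat.gcdA δ N • chi Sm ca := by
      exact (congrArg (act Sm.A) (funext fun i => rfl)).trans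
        (map_zsmul (actHom (M := Additive Kˣ) Sm.A) (Nat.gcdA δ N) fun i => Additive.ofMul (ca i))
    have hb : (g₀ : ℤ) = Nat.gcdA δ N * δ + Nat.gcdB δ N * N := by rw [← hg₀, Nat.gcd_eq_gcd_ab]; ring
    rw [this, hca, hχ₁]
    funext k
    have hk : N • χ₀ k = 0 := congrFun (hNA χ₀ hχ₀) k
    show Nat.gcdA δ N • δ • χ₀ k = g₀ • χ₀ k
    rw [← natCast_zsmul (χ₀ k) g₀, hb, add_zsmul, mul_zsmul, mul_zsmul, natCast_zsmul, natCast_zsmul,
      hk, smul_zero, add_zero]
  obtain ⟨L, hL⟩ := exists_K (C := C) X Sm w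
  have hL' : Pm C X (S.toW n) = 1 + Sm.A * L := by
    have e : Pm C X (S.toW n) = Pm C X w := congrArg (Pm C X) hw
    exact e.trans hL
  set M' := 1 + L * Sm.A - (q : ℤ) • 1 with hM'
  have hdet' : M'.det.natAbs = N := by rw [hM', det_twist Sm hδp.ne_zero hL]; exact hdet
  have hlift : ∀ (y : ↥(D.group F)) (c : Fin D.rank → Kˣ), Φ y = torus D c →
      ∃ v, act M' v = 0 ∧ act Sm.A v = chi Sm c := fun y c hyc =>
    exists_sc_lift C Sm σ X hs hG hσ ι hσι hg n hn hδp.ne_zero hinj y.2 hyc hL'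
  have hbound : ∀ (y : ↥(D.group F)) (c : Fin D.rank → Kˣ), Φ y = torus D c →
      (N / g₀) • chi Sm c = 0 := by
    intro y c hyc
    obtain ⟨v, hv, hvc⟩ := hlift y c hyc
    have hcardV : Nat.card ↥(actHom (M := Additive Kˣ) M').ker = N :=
      Eq.trans (Nat.card_congr (Equiv.subtypeEquivRight fun χ => Iff.rfl)) (card_ker' _ hdet' hu hgen)
    let f : ↥(actHom (M := Additive Kˣ) M').ker →+ (Fin D.rank → Additive Kˣ) :=
      (actHom Sm.A).comp (actHom (M := Additive Kˣ) M').ker.subtype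
    have h1 := f.ker.card_mul_index
    rw [AddSubgroup.index_ker, hcardV] at h1
    have hrange : Nat.card ↥f.range • chi Sm c = 0 := by
      have := card_nsmul_eq_zero' (G := ↥f.range) (x := ⟨chi Sm c, ⟨v, hv⟩, hvc⟩)
      exact congrArg Subtype.val this
    suffices hg₀k : g₀ ∣ Nat.card ↥f.ker by
      obtain ⟨e, he⟩ := hg₀k
      have hpos : 0 < g₀ := hg₀ ▸ Nat.gcd_pos_of_pos_left _ hδp.pos
      rw [← h1, he, mul_assoc, Nat.mul_div_cancel_left _ hpos, mul_smul, hrange, smul_zero]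
    rcases (Nat.dvd_prime hδp).1 (hg₀ ▸ Nat.gcd_dvd_left δ N) with e | e
    · rw [e]; exact one_dvd _
    · have hδN : δ ∣ N := by rw [← Nat.gcd_eq_left_iff_dvd, hg₀, e]
      have hδq : δ ∣ q - 1 := by rw [← Nat.gcd_eq_left_iff_dvd, hg₁, e]
      set a := (N / δ) • u with ha
      have haord : addOrderOf a = δ := by
        rw [ha, addOrderOf_nsmul' _ (Nat.div_pos (Nat.le_of_dvd (Nat.pos_of_ne_zero (NeZero.ne N)) hδN)
          hδp.pos).ne', hu, Nat.gcd_eq_right (Nat.div_dvd_of_dvd hδN),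
          Nat.div_div_self hδN (NeZero.ne N)]
      have ha0 : δ • a = 0 := haord ▸ addOrderOf_nsmul_eq_zero a
      let k : Fin D.rank → Additive Kˣ := act Sm.M fun _ => a
      have hk0 : δ • k = 0 := by
        rw [← act_nsmul]
        rw [show δ • (fun _ : Fin 1 => a) = 0 from funext fun _ => ha0, act_zero]
      have hAk : act Sm.A k = 0 := by
        rw [← act_mul, Sm.h2, act_smul, ← act_nsmul,
          show δ • (fun _ : Fin 1 => a) = 0 from funext fun _ => ha0, act_zero]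
      have hk : act M' k = 0 := by
        rw [hM', act_sub_smul_one, act_add, act_one, act_mul, hAk, act_zero, add_zero]
        obtain ⟨e', he'⟩ := hδq
        have : (q : ℤ) = 1 + δ * e' := by
          have : (q : ℤ) - 1 = ((q - 1 : ℕ) : ℤ) := by omega
          rw [he', Nat.cast_mul] at this; omega
        rw [this, add_zsmul, one_zsmul, mul_comm, mul_zsmul, natCast_zsmul, natCast_zsmul, hk0, nsmul_zero, add_zero, sub_self]
      have hkne : k ≠ 0 := by
        intro h0
        have h2 := congrArg (act Sm.P) h0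
        rw [← act_mul, Sm.h1, act_one, act_zero] at h2
        have : a = 0 := congrFun h2 0
        rw [this, addOrderOf_zero] at haord
        exact hδp.one_lt.ne haord
      have hkord : addOrderOf (⟨⟨k, hk⟩, hAk⟩ : ↥f.ker) = δ := by
        have : Fact δ.Prime := ⟨hδp⟩
        exact addOrderOf_eq_prime (Subtype.ext (Subtype.ext hk0))
          fun h0 => hkne (congrArg (fun z : ↥f.ker => (z.1.1 : Fin D.rank → Additive Kˣ)) h0)
      rw [e, ← hkord]
      exact addOrderOf_dvd_natCard _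
  have hord₁ : addOrderOf χ₁ = N / g₀ := by
    rw [hχ₁, addOrderOf_nsmul' _ (hg₀ ▸ (Nat.gcd_pos_of_pos_left _ hδp.pos).ne'), hord₀,
      Nat.gcd_eq_right (hg₀ ▸ Nat.gcd_dvd_right δ N)]
  have hordy : orderOf y₁ = N / g₀ := by
    rw [← orderOf_injective Φ hΦinj y₁, hΦ₁, ← hord₁]
    refine Nat.dvd_antisymm (orderOf_dvd_of_pow_eq_one ?_) (addOrderOf_dvd_iff_nsmul_eq_zero.2 ?_)
    · rw [← map_pow, ← map_one (torus D (F := K))]
      apply torus_congr C Sm
      rw [chi_pow, hc₁, addOrderOf_nsmul_eq_zero, chi_one]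
    · rw [← hc₁, ← chi_pow, ← chi_one Sm (K := K)]
      apply chi_congr C Sm
      rw [map_pow, pow_orderOf_eq_one, map_one]
  have hreg₁ : ∀ s, s < D.nroots → δ • ev C χ₁ s ≠ 0 := by
    intro s hs' h0
    obtain ⟨χ, hχ, hne⟩ := hreg s hs'
    obtain ⟨j, rfl⟩ := hgen₀ χ hχ
    apply hne
    rw [ev_zsmul, nsmul_zsmul_comm, mul_nsmul', ← ev_nsmul C g₀, ← hχ₁, h0, zsmul_zero]
  refine ⟨Subgroup.zpowers y₁, inferInstance, by rw [Nat.card_zpowers, hordy],
    le_antisymm (fun y hy => ?_) ?_⟩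
  · have hcomm : Φ y * torus D c₁ = torus D c₁ * Φ y := by
      rw [← hΦ₁, ← map_mul, ← map_mul,
        (Subgroup.mem_centralizer_iff.1 hy y₁ (Subgroup.mem_zpowers y₁)).symm]
    have hΦG : Φ y ∈ D.group K := mul_mem (mul_mem hg (ChevCoxTorus68.map_mem_group C ι y.2)) (inv_mem hg)
    obtain ⟨v, hv, hvN⟩ := transporter C Sm X hs hΦG hcomm
    obtain ⟨n₁, hn₁, hn₁w⟩ := hvN fun s hs' h0 => hreg₁ s hs' (by rw [← hc₁, h0, smul_zero])
    -- the Weyl element is trivial
    have hv1 : v = 1 := by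
      obtain ⟨v₁, hv₁, hv₁c⟩ := hlift y₁ c₁ hΦ₁
      rw [hc₁] at hv₁c
      have hNv : N • v₁ = 0 := by
        have h1 := det_smul_eq_zero _ hv₁
        rcases Int.natAbs_eq M'.det with e | e <;> rw [e, hdet'] at h1
        · rwa [natCast_zsmul] at h1
        · rwa [neg_smul, neg_eq_zero, natCast_zsmul] at h1
      choose fc hfc using fun j => hgen ((δ • v₁) j) (by
        show N • δ • v₁ j = 0
        rw [smul_comm, show N • v₁ j = 0 from congrFun hNv j, smul_zero])
      have hdvd : ∀ a : ℤ, a • u = 0 ↔ (N : ℤ) ∣ a := fun a => by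
        rw [← hu, addOrderOf_dvd_iff_zsmul_eq_zero]
      have hfu : ∀ (B : Matrix (Fin D.rank) (Fin D.rank) ℤ) j, act B fc j • u = act B (δ • v₁) j := by
        intro B j
        rw [act_smul_const, show (fun k => fc k • u) = δ • v₁ from funext hfc]
      obtain ⟨Kv, hKv⟩ := exists_K (C := C) X Sm v
      have hAK : act Sm.A (act Kv χ₁) = 0 := by
        have h1 : act (Pm C X v) χ₁ = χ₁ := by rw [act_Pm, ← hc₁]; exact hv
        rw [hKv, act_add, act_one, act_mul, add_eq_left] at h1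
        exact h1
      have hz : ∀ j, (N : ℤ) ∣ act Kv (act Sm.A fc) j := by
        intro j
        refine (hdvd _).1 ?_
        rw [← act_mul, hfu, act_mul, act_nsmul, hv₁c, act_nsmul]
        have h1 := congrArg (act (Binv Sm)) hAK
        rw [← act_mul, Binv_mul_A, act_smul, act_one, act_zero] at h1
        exact congrFun h1 j
      choose z hz using hz
      refine no_fix nm X hs Sm hmin (N := (N : ℤ)) (by exact_mod_cast Nat.pos_of_ne_zero (NeZero.ne N))
        (act Sm.A fc) (fun s hs' hd' => hreg₁ s hs' ?_) v z ?_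
      · rw [← ev_nsmul, ← hv₁c, ← act_nsmul,
          show act Sm.A (δ • v₁) = fun j => act Sm.A fc j • u from funext fun j => (hfu _ j).symm,
          ev_smul_const]
        exact (hdvd _).2 hd'
      · rw [← act_Pm, hKv, act_add, act_one, act_mul]
        congr 1
        rw [show act Kv (act Sm.A fc) = (N : ℤ) • z from funext hz]
        exact map_zsmul (actHom (M := ℤ) Sm.A) (N : ℤ) z
    have hH : Φ y ∈ D.diagonalSubgroup K := by
      rw [← hn₁]
      exact S.toW_ker.le (MonoidHom.mem_ker.2 (hn₁w.trans hv1))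
    obtain ⟨c, hc⟩ := (ChevalleyTorus.mem_H_iff C).1 hH
    obtain ⟨v', hv', hv'c⟩ := hlift y c hc.symm
    have hχA : chi Sm c ∈ A := by
      rw [hmemA, ← hv'c, hP, hL, act_add, act_one, act_mul]
      rw [hM', act_sub_smul_one, sub_eq_zero, act_add, act_one, act_mul] at hv'
      have h2 := congrArg (act Sm.A) hv'
      rw [show act Sm.A ((q : ℤ) • v') = (q : ℤ) • act Sm.A v' from map_zsmul (actHom (M := Additive Kˣ) Sm.A) (q : ℤ) v'] at h2
      rw [← h2]
      exact ((actHom (M := Additive Kˣ) Sm.A).map_add v' _).symm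
    obtain ⟨j, hj⟩ := hgen₀ _ hχA
    have hjd : (g₀ : ℤ) ∣ j := by
      have h1 := hbound y c hc.symm
      rw [← hj, ← natCast_zsmul, ← mul_smul, ← addOrderOf_dvd_iff_zsmul_eq_zero, hord₀] at h1
      have hg₀N : g₀ ∣ N := hg₀ ▸ Nat.gcd_dvd_right δ N
      obtain ⟨e, he⟩ := hg₀N
      have hpos : 0 < g₀ := hg₀ ▸ Nat.gcd_pos_of_pos_left _ hδp.pos
      have he0 : (e : ℤ) ≠ 0 := by
        intro h0
        exact NeZero.ne N (by rw [he, show e = 0 by omega, mul_zero])
      rw [he, Nat.mul_div_cancel_left _ hpos, Nat.cast_mul, mul_comm (g₀ : ℤ)] at h1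
      exact (mul_dvd_mul_iff_left he0).1 h1
    obtain ⟨k, rfl⟩ := hjd
    refine Subgroup.mem_zpowers_iff.2 ⟨k, hΦinj ?_⟩
    rw [map_zpow, hΦ₁, ← hc, ← map_zpow]
    apply torus_congr C Sm
    rw [← hj, mul_comm, mul_smul, natCast_zsmul, ← hχ₁, ← hc₁]
    exact map_zsmul (actHom (M := Additive Kˣ) Sm.A) k fun i => Additive.ofMul (c₁ i)
  · intro y hy
    obtain ⟨i, rfl⟩ := Subgroup.mem_zpowers_iff.1 hy
    refine Subgroup.mem_centralizer_iff.2 fun z hz => ?_
    obtain ⟨j, rfl⟩ := Subgroup.mem_zpowers_iff.1 hz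
    rw [← zpow_add, ← zpow_add, add_comm]

end Core

end Cfsg.Agent.ChevTorusTwist14
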