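import Cfsg.Agent.Lib.ChevRootCoord68
import Cfsg.Agent.Lib.ChevRegularCentralizer68
import Cfsg.Agent.Lib.ChevFieldAut77

/-!
Torus elements of a Chevalley group through their values on the fundamental roots: conjugation by
monomial elements, the cell data of an element transporting torus elements, and fixed points of a
field automorphism up to the index of the torus.
-/

set_option autoImplicit false

namespace Cfsg.Agent.ChevTorusValues68

open Cfsg.Lie Cfsg.Agent.ChevalleyCert Cfsg.Agent.ChevWeyl Cfsg.Agent.ChevBruhat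
  Cfsg.Agent.ChevRootCoord68
open Cfsg.Agent.ChevalleyTorus (torus tchar tmat)
open Cfsg.Agent.ChevalleyTorusCard (Smith act act_mul act_add act_smul act_one act_zero tchar_ofMul)

variable {D : ChevalleyDatum} (C : Cert D) {K : Type*} [Field K]

/-- the values of a torus parameter on the fundamental roots -/
def cv (c : Fin D.rank → Kˣ) : Fin D.rank → Additive Kˣ :=
  fun j => Additive.ofMul (tchar D c (D.simple j.val))

theorem ev_cartan {M : Type*} [AddCommGroup M] (v : Fin D.rank → M) {s : ℕ} (hs : s < D.nroots) :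
    ev C (fun j : Fin D.rank => ∑ i : Fin D.rank, D.cartan i.val (D.simple j.val) • v i) s =
      ∑ i : Fin D.rank, D.cartan i.val s • v i := by
  simp only [ev, Finset.smul_sum]
  rw [Finset.sum_comm]
  refine Finset.sum_congr rfl fun i _ => ?_
  rw [sum_coef_cartan C i hs, Finset.sum_smul]
  exact Finset.sum_congr rfl fun j _ => (mul_smul _ _ _).symm

theorem ev_cv (c : Fin D.rank → Kˣ) {s : ℕ} (hs : s < D.nroots) :
    ev C (cv c) s = Additive.ofMul (tchar D c s) := by
  rw [show cv c = fun j : Fin D.rank => ∑ i : Fin D.rank,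
      D.cartan i.val (D.simple j.val) • Additive.ofMul (c i) from funext fun j => tchar_ofMul c _,
    ev_cartan C (fun i => Additive.ofMul (c i)) hs, tchar_ofMul]

theorem cv_mul (c c' : Fin D.rank → Kˣ) : cv (c * c') = cv c + cv c' :=
  funext fun j => by simp [cv, ChevalleyTorus.tchar_mul]

include C in
theorem torus_ext {c c' : Fin D.rank → Kˣ} (h : cv c = cv c') : torus D c = torus D c' := by
  apply Units.ext
  rw [ChevalleyTorus.coe_torus, ChevalleyTorus.coe_torus, tmat, tmat]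
  congr 1
  funext x
  rcases x with a | s
  · rfl
  · have h1 := ev_cv C c s.isLt
    rw [h, ev_cv C c' s.isLt] at h1
    simp only [Sum.elim_inr]
    rw [Additive.ofMul.injective h1]

include C in
theorem cv_eq_of_torus_eq {c c' : Fin D.rank → Kˣ} (h : torus D c = torus D c') : cv c = cv c' := by
  funext i
  have hi := (ChevalleyRoots.simple_lt C i.isLt)
  have h1 := congrArg (fun g : GL D.Idx K => (g : Matrix D.Idx D.Idx K)
    (Sum.inr ⟨_, hi⟩) (Sum.inr ⟨_, hi⟩)) h
  simp only [ChevalleyTorus.coe_torus, tmat, Matrix.diagonal_apply_eq, Sum.elim_inr] at h1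
  exact congrArg Additive.ofMul (Units.ext h1)

variable (X : Weyl D) (hs : suppCheck D = true)

/-- conjugation of a torus element by a monomial element -/
theorem conj_torus (n : ↥(D.monomialSubgroup K)) (c' : Fin D.rank → Kˣ) :
    ∃ c'', (n : GL D.Idx K) * torus D c' * (n : GL D.Idx K)⁻¹ = torus D c'' ∧
      ∀ s, s < D.nroots →
        ev C (cv c'') (X.img ((ChevBruhatInstance.mkSys (F := K) C X hs).toW n) s) =
          ev C (cv c') s := by
  let S : Sys D K := ChevBruhatInstance.mkSys C X hs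
  obtain ⟨c'', hc''⟩ := (ChevalleyTorus.mem_H_iff C).1
    (S.conj_H (S.acts_toW n) (ChevalleyTorus.torus_mem_H C c'))
  refine ⟨c'', hc''.symm, fun s hs' => ?_⟩
  obtain ⟨e, he, h1, -⟩ := S.acts_toW n s hs'
  have e1 : ∀ a, torus D c'' * S.xg (S.X.img (S.toW n) s) a * (torus D c'')⁻¹ =
      S.xg (S.X.img (S.toW n) s) ((tchar D c'' (S.X.img (S.toW n) s) : K) * a) :=
    fun a => ChevalleyTorus.torus_conj_xg C (S.X.img_lt _ hs') c'' a
  have e2 : ∀ a, torus D c' * S.xg s a * (torus D c')⁻¹ = S.xg s ((tchar D c' s : K) * a) :=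
    fun a => ChevalleyTorus.torus_conj_xg C hs' c' a
  have k := e1 (e * 1)
  rw [← h1, hc''] at k
  rw [show (n : GL D.Idx K) * torus D c' * (n : GL D.Idx K)⁻¹ * (n * S.xg s 1 * (n : GL D.Idx K)⁻¹) *
      ((n : GL D.Idx K) * torus D c' * (n : GL D.Idx K)⁻¹)⁻¹ =
      n * (torus D c' * S.xg s 1 * (torus D c')⁻¹) * (n : GL D.Idx K)⁻¹ by group, e2, h1] at k
  have k2 := (S.xg_inj _ _ (S.X.img_lt _ hs') (S.X.img_lt _ hs') _ _
    (mul_ne_zero he (mul_ne_zero (Units.ne_zero _) one_ne_zero)) k).2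
  rw [mul_one, mul_one, mul_comm e] at k2
  refine (ev_cv C c'' (X.img_lt _ hs')).trans (Eq.trans ?_ (ev_cv C c' hs').symm)
  exact congrArg Additive.ofMul (Units.ext (mul_right_cancel₀ he k2)).symm

include C X hs in
/-- The cell factors of an element conjugating torus elements to torus elements commute with them. -/
theorem cell_data {y : GL D.Idx K} (hy : y ∈ D.group K) :
    ∃ (u₀ u : GL D.Idx K) (n : ↥(D.monomialSubgroup K)), y = u₀ * n * u ∧
      u₀ ∈ D.posUnipotent K ∧ u ∈ D.posUnipotent K ∧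
      ∀ c c', y * torus D c' = torus D c * y →
        torus D c * u₀ * (torus D c)⁻¹ = u₀ ∧ torus D c' * u * (torus D c')⁻¹ = u ∧
          (n : GL D.Idx K) * torus D c' * (n : GL D.Idx K)⁻¹ = torus D c := by
  let S : Sys D K := ChevBruhatInstance.mkSys C X hs
  obtain ⟨b, hb, n, u, hu, rfl⟩ := S.exists_cell_form hy
  obtain ⟨u₀, hu₀, h₀, hh₀, rfl⟩ := (ChevalleyTorus.mem_B_iff C).1 hb
  refine ⟨u₀, u, ⟨h₀, Sys.H_le_N hh₀⟩ * n, ?_, hu₀, S.Uw_le_U _ hu, fun c c' h => ?_⟩
  · simp [mul_assoc]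
  set t := torus D c with ht
  set t' := torus D c' with ht'
  have htH : t ∈ D.diagonalSubgroup K := ChevalleyTorus.torus_mem_H C c
  have h' : t * (u₀ * h₀ * n * u) * t'⁻¹ = u₀ * h₀ * n * u := by rw [← h]; group
  obtain ⟨cn, hcn, -⟩ := conj_torus C X hs n c'
  set h₁ := t * (torus D cn)⁻¹ with hh₁
  have hh : h₁ ∈ D.diagonalSubgroup K := mul_mem htH (inv_mem (ChevalleyTorus.torus_mem_H C cn))
  have hu' : t' * u * t'⁻¹ ∈ S.Uw (S.toW n) := by
    refine Sys.conj_closure_le
      (T := {g : GL D.Idx K | ∃ r a, r ∈ S.X.invSet (S.toW n) ∧ g = S.xg r a}) t' ?_ hu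
    rintro x ⟨r, a, hr, rfl⟩
    exact Subgroup.subset_closure
      ⟨r, _, hr, ChevalleyTorus.torus_conj_xg C (S.X.mem_invSet.mp hr).1.1 c' a⟩
  have hbB : t * (u₀ * h₀) * t⁻¹ * h₁ ∈ D.borelSubgroup K :=
    mul_mem (mul_mem (mul_mem (Sys.H_le_B htH) hb) (inv_mem (Sys.H_le_B htH))) (Sys.H_le_B hh)
  have he : (t * (u₀ * h₀) * t⁻¹ * h₁) * n * (t' * u * t'⁻¹) = u₀ * h₀ * n * u := by
    conv_rhs => rw [← h']
    rw [hh₁, ← hcn, ← ht']; group
  obtain ⟨e1, e2⟩ := S.form_unique n hbB hb hu' hu he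
  have e3 : (t * u₀ * t⁻¹) * (h₀ * h₁) = u₀ * h₀ := by
    conv_rhs => rw [← e1]
    rw [show t * (u₀ * h₀) * t⁻¹ = t * u₀ * t⁻¹ * h₀ by
      rw [show t * (u₀ * h₀) * t⁻¹ = t * u₀ * (h₀ * t⁻¹) by group,
        ChevalleyTorus.H_comm C hh₀ (inv_mem htH)]
      group]
    group
  have hU : t * u₀ * t⁻¹ ∈ D.posUnipotent K :=
    (Subgroup.mem_normalizer_iff.1 (ChevalleyTorus.H_le_normalizer_U C htH) u₀).1 hu₀
  have e4 : u₀⁻¹ * (t * u₀ * t⁻¹) = h₀ * (h₀ * h₁)⁻¹ := by
    rw [eq_mul_inv_iff_mul_eq, mul_assoc, e3]; group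
  have e5 : u₀⁻¹ * (t * u₀ * t⁻¹) = 1 := by
    have := Subgroup.mem_inf.2 ⟨mul_mem (inv_mem hu₀) hU,
      e4 ▸ mul_mem hh₀ (inv_mem (mul_mem hh₀ hh))⟩
    rwa [ChevalleyTorus.U_inf_H C, Subgroup.mem_bot] at this
  have h11 : h₁ = 1 := by
    have e6 := e5
    rw [e4, mul_inv_rev, ← mul_assoc] at e6
    have : h₀ * h₁⁻¹ = h₀ := by rw [← mul_inv_eq_one]; exact e6
    simpa using this
  refine ⟨(inv_mul_eq_one.1 e5).symm, e2, ?_⟩
  have htn : t = torus D cn := mul_inv_eq_one.1 (hh₁.symm.trans h11)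
  rw [Subgroup.coe_mul, mul_inv_rev]
  show h₀ * (n : GL D.Idx K) * t' * ((n : GL D.Idx K)⁻¹ * h₀⁻¹) = t
  rw [show h₀ * (n : GL D.Idx K) * t' * ((n : GL D.Idx K)⁻¹ * h₀⁻¹) =
    h₀ * ((n : GL D.Idx K) * t' * (n : GL D.Idx K)⁻¹) * h₀⁻¹ by group, hcn, ← htn,
    ChevalleyTorus.H_comm C hh₀ htH, mul_inv_cancel_right]

include C in
/-- A unipotent element commuting with a set of torus elements commutes with every torus element
trivial on their common kernel of roots. -/
theorem commute_of_commute {u : GL D.Idx K} (hu : u ∈ D.posUnipotent K)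
    {P : (Fin D.rank → Kˣ) → Prop} (hP : ∀ c, P c → torus D c * u * (torus D c)⁻¹ = u)
    {c' : Fin D.rank → Kˣ}
    (hc' : ∀ r, r < D.nroots → (∀ c, P c → tchar D c r = 1) → tchar D c' r = 1) :
    torus D c' * u * (torus D c')⁻¹ = u := by
  obtain ⟨t, ⟨h0, rfl⟩, -⟩ := ChevalleyUnipotent.U_normal_form C hu
  have e : ∀ c : Fin D.rank → Kˣ,
      torus D c * ChevalleyUnipotent.uProd C (D.nroots / 2) t * (torus D c)⁻¹ =
      ChevalleyUnipotent.uProd C (D.nroots / 2) fun r => (tchar D c r : K) * t r := by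
    intro c
    rw [ChevalleyUnipotent.uProd, ChevalleyUnipotent.uProd, ← MulAut.conj_apply, map_list_prod,
      List.map_map]
    refine congrArg List.prod (List.map_congr_left fun r hr => ?_)
    rw [List.mem_range'_1] at hr
    have := C.even
    exact ChevalleyTorus.torus_conj_xg C (by omega) c (t r)
  rw [e c']
  congr 1
  funext r
  by_cases ht : t r = 0
  · rw [ht, mul_zero]
  · have hr : D.IsPosRoot r := by
      by_contra h
      exact ht (h0 r h)
    obtain ⟨hr1, hr2⟩ := (ChevalleyRoots.isPos C).1 hr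
    have h1 : tchar D c' r = 1 := hc' r hr2 fun c hc => by
      have h2 := hP c hc
      rw [e c] at h2
      have h3 := ChevalleyUnipotent.uProd_inj C le_rfl h2 r hr1 hr2
      exact Units.ext (mul_right_cancel₀ ht (h3.trans (one_mul _).symm))
    rw [h1, Units.val_one, one_mul]

/-- A fixed point of a field automorphism has its `d`-th power in the group over the fixed field. -/
theorem fixed_pow_mem [Finite K] (σ : K ≃+* K) {d m : ℕ} (Sm : Smith D d m)
    {x : GL D.Idx K} (hx : x ∈ D.group K)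
    (hfix : ChevFieldAut77.psi σ x = x) :
    x ^ d ∈ ChevFieldAut77.fixGen (ChevBruhatInstance.mkSys (F := K) C X hs) σ := by
  let S : Sys D K := ChevBruhatInstance.mkSys C X hs
  obtain ⟨b, hb, n, u, hu, rfl⟩ := S.exists_cell_form hx
  obtain ⟨k, hk, hkn⟩ := ChevFieldAut77.exists_rep S σ (S.toW n)
  have hh : (n : GL D.Idx K) * (k : GL D.Idx K)⁻¹ ∈ D.diagonalSubgroup K := by
    have : n * k⁻¹ ∈ S.toW.ker := by simp [MonoidHom.mem_ker, hkn]
    exact S.toW_ker.le this
  set b' := b * ((n : GL D.Idx K) * (k : GL D.Idx K)⁻¹) with hb'def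
  have hb' : b' ∈ D.borelSubgroup K := mul_mem hb (Sys.H_le_B hh)
  have e : b * (n : GL D.Idx K) * u = b' * (k : GL D.Idx K) * u := by rw [hb'def]; group
  rw [e] at hfix ⊢
  rw [← hkn] at hu
  rw [map_mul, map_mul, ChevFieldAut77.psi_fixGen C S σ hk] at hfix
  obtain ⟨hbfix, hufix⟩ := S.form_unique k (ChevFieldAut77.psi_mem_B C S σ hb') hb'
    (ChevFieldAut77.psi_mem_Uw C S σ hu) hu hfix
  obtain ⟨w0, hw0⟩ := ChevFieldAut77.posUnipotent_eq_Uw S
  obtain ⟨h, hh', v, hv, hbv⟩ := S.mem_B_iff.mp hb'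
  obtain ⟨c, rfl⟩ := (ChevalleyTorus.mem_H_iff C).1 hh'
  rw [hbv, map_mul, ChevFieldAut77.psi_torus] at hbfix
  have hψv : ChevFieldAut77.psi σ v ∈ D.posUnipotent K := by
    rw [hw0] at hv ⊢; exact ChevFieldAut77.psi_mem_Uw C S σ hv
  set σc : Fin D.rank → Kˣ := fun i => Units.map σ.toRingHom.toMonoidHom (c i) with hσc
  have hboth : (torus D c)⁻¹ * torus D σc = v * (ChevFieldAut77.psi σ v)⁻¹ := by
    rw [inv_mul_eq_iff_eq_mul, eq_comm, ← mul_assoc, mul_inv_eq_iff_eq_mul, hbfix]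
  have h1 : v * (ChevFieldAut77.psi σ v)⁻¹ ∈ D.posUnipotent K ⊓ D.diagonalSubgroup K :=
    Subgroup.mem_inf.mpr ⟨mul_mem hv (inv_mem hψv),
      hboth ▸ mul_mem (inv_mem (ChevalleyTorus.torus_mem_H C c)) (ChevalleyTorus.torus_mem_H C _)⟩
  rw [S.U_inf_H, Subgroup.mem_bot] at h1
  rw [h1, inv_mul_eq_one] at hboth
  -- the `d`-th power of the parameter is fixed
  have hker : σc * c⁻¹ ∈ (torus D (F := K)).ker := by
    rw [MonoidHom.mem_ker, map_mul, map_inv, ← hboth, mul_inv_cancel]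
  rw [ChevalleyTorusCard.mem_ker C Sm.hA] at hker
  have hpow : ∀ i, σc i ^ d = c i ^ d := by
    intro i
    have hTA : (d : ℤ) • (1 : Matrix (Fin D.rank) (Fin D.rank) ℤ) =
        ((d : ℤ) • Sm.T + Sm.M * Sm.U) * Sm.A := by
      rw [Matrix.add_mul, Matrix.smul_mul, Matrix.mul_assoc, Sm.h3, Matrix.mul_smul, ← smul_add, Sm.h4]
    set z := fun i => Additive.ofMul ((σc * c⁻¹) i) with hz
    have h2 := act_smul d (1 : Matrix (Fin D.rank) (Fin D.rank) ℤ) z
    rw [act_one, hTA, act_mul, hker, act_zero] at h2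
    have h3 : d • Additive.ofMul ((σc * c⁻¹) i) = 0 := (congrFun h2 i).symm
    rw [← ofMul_pow, ofMul_eq_zero, Pi.mul_apply, Pi.inv_apply, mul_pow, inv_pow,
      mul_inv_eq_one] at h3
    exact h3
  have hcd : torus D (c ^ d) ∈ ChevFieldAut77.fixGen S σ := by
    rw [← Finset.univ_prod_mulSingle (c ^ d)]
    induction (Finset.univ : Finset (Fin D.rank)) using Finset.induction_on with
    | empty => simp
    | insert a T ha ih =>
      rw [Finset.prod_insert ha, map_mul]
      refine mul_mem (ChevFieldAut77.torus_single_mem C S σ a _ ?_) ih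
      have h4 := congrArg (fun z : Kˣ => (z : K)) (hpow a)
      simp only [Units.val_pow_eq_pow_val, Pi.pow_apply] at h4 ⊢
      rw [map_pow]
      exact h4
  have hchar : ∀ r, r < D.nroots → σ ((tchar D c r : Kˣ) : K) = (tchar D c r : K) := by
    intro r hr
    have h5 := congrArg (fun g : GL D.Idx K => (g : Matrix D.Idx D.Idx K)
      (Sum.inr ⟨r, hr⟩) (Sum.inr ⟨r, hr⟩)) hboth
    simp only [ChevalleyTorus.coe_torus, tmat, Matrix.diagonal_apply_eq, Sum.elim_inr] at h5
    have h6 : Units.map σ.toRingHom.toMonoidHom (tchar D c r) = tchar D σc r := by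
      simp [tchar, hσc]
    exact (congrArg (fun z : Kˣ => (z : K)) h6).trans h5.symm
  have hnorm : ∀ y ∈ ChevFieldAut77.fixGen S σ,
      (torus D c)⁻¹ * y * torus D c ∈ ChevFieldAut77.fixGen S σ := by
    intro y hy
    induction hy using Subgroup.closure_induction with
    | mem y hy =>
      obtain ⟨r, a, hr, ha, rfl⟩ := hy
      have hinv : torus D c⁻¹ = (torus D c)⁻¹ := map_inv _ c
      have e7 := ChevalleyTorus.torus_conj_xg C hr c⁻¹ a
      rw [hinv, inv_inv] at e7
      refine e7 ▸ ChevFieldAut77.xg_mem_fixGen S σ hr ?_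
      have h8 : tchar D c⁻¹ r = (tchar D c r)⁻¹ := by
        simp [tchar, inv_zpow]
      rw [map_mul, ha, h8, Units.val_inv_eq_inv_val, map_inv₀, hchar r hr]
    | one => simp
    | mul a b _ _ ha hb =>
      rw [show (torus D c)⁻¹ * (a * b) * torus D c =
        ((torus D c)⁻¹ * a * torus D c) * ((torus D c)⁻¹ * b * torus D c) by group]
      exact mul_mem ha hb
    | inv a _ ha =>
      rw [show (torus D c)⁻¹ * a⁻¹ * torus D c = ((torus D c)⁻¹ * a * torus D c)⁻¹ by group]
      exact inv_mem ha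
  rw [hbv]
  rw [mul_inv_eq_one] at h1
  have hy : v * (k : GL D.Idx K) * u ∈ ChevFieldAut77.fixGen S σ :=
    mul_mem (mul_mem (ChevFieldAut77.fixed_Uw C S σ _ w0 rfl v (hw0 ▸ hv) h1.symm) hk)
      (ChevFieldAut77.fixed_Uw C S σ _ _ rfl u hu hufix)
  rw [show torus D c * v * (k : GL D.Idx K) * u = torus D c * (v * (k : GL D.Idx K) * u) by group]
  obtain ⟨y, hy, hyd⟩ : ∃ y ∈ ChevFieldAut77.fixGen S σ,
      (torus D c * (v * (k : GL D.Idx K) * u)) ^ d = torus D c ^ d * y := by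
    clear hpow hcd hker Sm
    induction d with
    | zero => exact ⟨1, one_mem _, by simp⟩
    | succ j ih =>
      obtain ⟨y, hy', hyd⟩ := ih
      refine ⟨(torus D c)⁻¹ * y * torus D c * (v * (k : GL D.Idx K) * u),
        mul_mem (hnorm y hy') hy, ?_⟩
      rw [pow_succ, hyd, pow_succ]
      group
  rw [hyd, ← map_pow]
  exact mul_mem hcd hy

end Cfsg.Agent.ChevTorusValues68
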