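import Cfsg.Agent.Lib.ChevTwistSetup14

/-!
Arithmetic of the twisted torus: field extension, cyclicity, the value of the cyclotomic polynomial.
-/

set_option autoImplicit false

open Polynomial

namespace Cfsg.Agent.ChevTwistArith14

open Cfsg.Agent.ChevalleyTorusCard (act)
open Cfsg.Agent.CyclotomicCharpoly68

theorem eval_cyclotomic_twelve (x : ℤ) : (cyclotomic 12 ℤ).eval x = x ^ 4 - x ^ 2 + 1 := by
  rw [show (12 : ℕ) = 6 * 2 by norm_num, ← cyclotomic_expand_eq_cyclotomic Nat.prime_two (by norm_num) ℤ,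
    cyclotomic_six, expand_eval]
  simp only [eval_add, eval_sub, eval_pow, eval_X, eval_one]
  ring

/-- An extension of degree `d` with its Frobenius. -/
theorem exists_ext {F : Type*} [Field F] [Fintype F] {d : ℕ} (hd : 0 < d) :
    ∃ (K : Type) (_ : Field K) (_ : Fintype K) (ι : F →+* K) (σ : K ≃+* K),
      Fintype.card K = Fintype.card F ^ d ∧ ∀ x, σ x = x ^ Fintype.card F := by
  classical
  obtain ⟨p, hp⟩ := CharP.exists F
  obtain ⟨⟨k, hk0⟩, hpp, hk⟩ := FiniteField.card F p
  have : Fact p.Prime := ⟨hpp⟩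
  let F₀ := GaloisField p k
  let : Fintype F₀ := Fintype.ofFinite F₀
  have hcard : Fintype.card F₀ = Fintype.card F := by
    rw [hk, ← Nat.card_eq_fintype_card, GaloisField.card p k (by omega)]; rfl
  let e : F ≃+* F₀ := (FiniteField.ringEquivOfCardEq hcard).symm
  have : CharP F₀ p := inferInstance
  have : NeZero d := ⟨hd.ne'⟩
  let K := FiniteField.Extension F₀ p d
  let : Fintype K := Fintype.ofFinite _
  refine ⟨K, inferInstance, inferInstance, (algebraMap F₀ K).comp e.toRingHom,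
    (FiniteField.frobeniusAlgEquivOfAlgebraic F₀ K).toRingEquiv, ?_, fun x => ?_⟩
  · rw [← Nat.card_eq_fintype_card, FiniteField.natCard_extension, Nat.card_eq_fintype_card, hcard]
  · show x ^ Fintype.card F₀ = _
    rw [hcard]

/-- The twisted fixed point group is cyclic if for each prime dividing its order the eigenvalue is a
simple root modulo that prime or the prime divides the order only once. -/
theorem isAddCyclic_ker {l : ℕ} {M : Type*} [AddCommGroup M] [Finite M] (P : Matrix (Fin l) (Fin l) ℤ)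
    (q : ℤ) {N : ℕ} [NeZero N] (hdet : (P - q • 1).det.natAbs = N) {u : M} (hu : addOrderOf u = N)
    (hgen : ∀ x : M, N • x = 0 → ∃ i : ℤ, i • u = x)
    (hp : ∀ (p : ℕ) (_ : p.Prime), p ∣ N →
      (P.charpoly.map (Int.castRingHom (ZMod p))).rootMultiplicity (q : ZMod p) ≤ 1 ∨ ¬ p ^ 2 ∣ N) :
    IsAddCyclic ↥(actHom (M := M) (P - q • 1)).ker := by
  classical
  have hcard : Nat.card ↥(actHom (M := M) (P - q • 1)).ker = N :=
    Eq.trans (Nat.card_congr (Equiv.subtypeEquivRight fun χ => Iff.rfl)) (card_ker' _ hdet hu hgen)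
  refine ChevEigen14.isAddCyclic_of_torsion fun p hpp hpN => ?_
  rw [hcard] at hpN
  have : Fact p.Prime := ⟨hpp⟩
  rcases hp p hpp hpN with hmult | hsq
  · have hpu : addOrderOf ((N / p) • u) = p := by
      rw [addOrderOf_nsmul' _ (Nat.div_pos (Nat.le_of_dvd (Nat.pos_of_ne_zero (NeZero.ne N)) hpN)
        hpp.pos).ne', hu, Nat.gcd_eq_right (Nat.div_dvd_of_dvd hpN), Nat.div_div_self hpN (NeZero.ne N)]
    have hgen' : ∀ x : M, p • x = 0 → ∃ k : ℤ, k • ((N / p) • u) = x := by
      intro x hx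
      obtain ⟨e, he⟩ := hpN
      obtain ⟨i, hi⟩ := hgen x (by rw [he, mul_comm, mul_nsmul', hx, nsmul_zero])
      have h1 : (N : ℤ) ∣ p * i := by
        rw [← hu, addOrderOf_dvd_iff_zsmul_eq_zero, mul_zsmul, hi, natCast_zsmul, hx]
      rw [he, Nat.cast_mul] at h1
      obtain ⟨j, hj⟩ := (mul_dvd_mul_iff_left (Int.natCast_ne_zero.2 hpp.ne_zero)).1 h1
      refine ⟨j, ?_⟩
      rw [he, Nat.mul_div_cancel_left _ hpp.pos, ← natCast_zsmul u e, ← mul_zsmul, mul_comm, ← hj, hi]
    have h := ChevEigen14.card_torsion_le P q hpu hgen'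
    rw [show (P.map (Int.castRingHom (ZMod p))).charpoly = P.charpoly.map (Int.castRingHom (ZMod p)) from
      Matrix.charpoly_map _ _] at h
    refine le_trans (le_of_eq_of_le (Nat.card_congr ?_) (h.trans (Nat.pow_le_pow_right hpp.pos hmult))) (pow_one p).le
    exact ⟨fun a => ⟨a.1.1, a.1.2, congrArg Subtype.val a.2⟩,
      fun a => ⟨⟨a.1, a.2.1⟩, Subtype.ext a.2.2⟩, fun a => rfl, fun a => rfl⟩
  · let T : AddSubgroup ↥(actHom (M := M) (P - q • 1)).ker :=
      (nsmulAddMonoidHom (α := ↥(actHom (M := M) (P - q • 1)).ker) p).ker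
    show Nat.card ↥T ≤ p
    have hT : IsPGroup p (Multiplicative ↥T) := fun x => ⟨1, by
      apply Multiplicative.toAdd.injective
      rw [pow_one, toAdd_pow, toAdd_one]
      exact Subtype.ext x.toAdd.2⟩
    obtain ⟨k, hk⟩ := IsPGroup.iff_card.1 hT
    have hk' : Nat.card ↥T = p ^ k := (Nat.card_congr Multiplicative.ofAdd).trans hk
    have hdvd := AddSubgroup.card_addSubgroup_dvd_card T
    rw [hk', hcard] at hdvd
    have : k ≤ 1 := by
      by_contra hcon
      exact hsq ((pow_dvd_pow p (show 2 ≤ k by omega)).trans hdvd)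
    rw [hk']
    exact (Nat.pow_le_pow_right hpp.pos this).trans (pow_one p).le

theorem cyclotomic_mul_dvd {a b n : ℕ} (hab : a ≠ b) (hn : 0 < n) (ha : a ∣ n) (hb : b ∣ n) :
    cyclotomic a ℤ * cyclotomic b ℤ ∣ X ^ n - 1 := by
  rw [← prod_cyclotomic_eq_X_pow_sub_one hn ℤ, ← Finset.prod_pair (f := fun i => cyclotomic i ℤ) hab]
  exact Finset.prod_dvd_prod_of_subset _ _ _ (by
    intro x hx
    rcases Finset.mem_insert.1 hx with rfl | hx
    · exact Nat.mem_divisors.2 ⟨ha, hn.ne'⟩
    · rw [Finset.mem_singleton.1 hx]; exact Nat.mem_divisors.2 ⟨hb, hn.ne'⟩)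

end Cfsg.Agent.ChevTwistArith14
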