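import Cfsg.Agent.Lib.ChevTorusTwist14

/-!
Twisting elements from an element of prime order, and the vanishing roots of the eigenfunctional.
-/

set_option autoImplicit false

namespace Cfsg.Agent.ChevTwistSetup14

open Cfsg.Lie Cfsg.Agent.ChevalleyCert Cfsg.Agent.ChevWeyl Cfsg.Agent.ChevBruhat
  Cfsg.Agent.ChevRootCoord68 Cfsg.Agent.CyclotomicCharpoly68 Cfsg.Agent.ChevRootFn14
  Cfsg.Agent.ChevTorusTwist14
open Cfsg.Agent.ChevalleyTorus (torus)
open Cfsg.Agent.ChevalleyTorusCard (Smith act act_mul act_one act_zero)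
open Cfsg.Agent.ChevCoxTorus68 (Pm act_Pm Pm_pow)
open Cfsg.Agent.ChevFieldAut77 (psi)

variable {D : ChevalleyDatum} (C : Cert D) {δ : ℕ} (Sm : Smith D δ 1) (X : Weyl D) (hs : suppCheck D = true)

include hs in
/-- An element of prime order of the ground field group gives a twisting element and an eigenfunctional. -/
theorem exists_twist (ds : List ℕ) (hpoly : ChevOrder.polyOK X.chain D.rank ds = true)
    (hlen : ds.length = D.rank) {d : ℕ} (hd : d ∈ ds) {F : Type*} [Field F] [Fintype F]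
    {K : Type*} [Field K] [Fintype K] (hcardK : Fintype.card K = Fintype.card F ^ d)
    (ι : F →+* K) (σ : K ≃+* K) (hσ : ∀ x, σ x = x ^ Fintype.card F) {ℓ : ℕ} [Fact ℓ.Prime]
    (hℓq : (Fintype.card F : ZMod ℓ) ^ d = 1) (hℓδ : ¬ ℓ ∣ δ) (hds : ∀ e ∈ ds, ¬ ℓ ∣ e) :
    ∃ g ∈ D.group K, ∃ (w : X.W) (c : Fin D.rank → Kˣ), chi Sm c ≠ 0 ∧ ℓ • chi Sm c = 0 ∧
      wact C X w (chi Sm c) = Fintype.card F • chi Sm c ∧
      g * (psi σ g)⁻¹ * torus D (c ^ Fintype.card F) = torus D c * (g * (psi σ g)⁻¹) ∧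
      ((∀ s, s < D.nroots → ev C (chi Sm c) s ≠ 0) →
        ∃ n : ↥(D.monomialSubgroup K), (n : GL D.Idx K) = g * (psi σ g)⁻¹ ∧ (sysK C X hs).toW n = w) := by
  classical
  have hℓ : ℓ.Prime := Fact.out
  set q := Fintype.card F with hq
  have hq1 : 1 < q := Fintype.one_lt_card
  have hℓG : ℓ ∣ Nat.card ↥(D.group F) := by
    set γ := Nat.gcd (q - 1) δ ^ 1 with hγ
    have hH : γ * Nat.card ↥(D.diagonalSubgroup F) = (q - 1) ^ D.rank :=
      ChevalleyTorusCard.card_H (F := F) C Sm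
    have hG := ChevOrder.order_eq (F := F) C X hs ds hpoly hH
    have h1 : ℓ ∣ q ^ d - 1 := by
      rw [← ZMod.natCast_eq_zero_iff, Nat.cast_sub (Nat.one_le_pow _ _ (by omega)), Nat.cast_pow, hℓq,
        Nat.cast_one, sub_self]
    have h2 : ℓ ∣ γ * Nat.card ↥(D.group F) := by
      rw [hG]
      exact dvd_mul_of_dvd_right (h1.trans (List.dvd_prod (List.mem_map.2 ⟨d, hd, rfl⟩))) _
    refine (hℓ.dvd_mul.1 h2).resolve_left fun h3 => hℓδ ?_
    exact (hℓ.dvd_of_dvd_pow h3).trans (Nat.gcd_dvd_right _ _)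
  obtain ⟨h₀, hh₀⟩ := exists_prime_orderOf_dvd_card' ℓ hℓG
  let mp : GL D.Idx F →* GL D.Idx K := Matrix.GeneralLinearGroup.map ι
  have hmp : Function.Injective mp := by
    intro a b hab
    apply Units.ext
    have h := congrArg (fun g : GL D.Idx K => (g : Matrix D.Idx D.Idx K)) hab
    simp only [mp, ChevFieldAut77.coe_map] at h
    exact Matrix.map_injective ι.injective h
  set h := mp (h₀ : GL D.Idx F) with hh_def
  have hordh : orderOf h = ℓ := by rw [hh_def, orderOf_injective mp hmp, Subgroup.orderOf_coe, hh₀]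
  have hcong : (Fintype.card K : ZMod ℓ) = 1 := by rw [hcardK, Nat.cast_pow, hℓq]
  obtain ⟨g, hg, hgt⟩ := exists_conj_mem_torus C Sm X hs ds hpoly hlen hcong hds
    (ChevCoxTorus68.map_mem_group C ι h₀.2) (by rw [← hordh]; exact pow_orderOf_eq_one h)
  obtain ⟨c, hc⟩ := (ChevalleyTorus.mem_H_iff C).1 hgt
  have hψh : psi σ h = h := by
    apply Units.ext
    rw [hh_def, ChevFieldAut77.coe_map, ChevFieldAut77.coe_map]
    ext i j
    show σ (ι _) = ι _
    rw [hσ, ← map_pow, hq, FiniteField.pow_card]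
  have hψG : psi σ g ∈ D.group K := ChevCoxTorus68.map_mem_group C σ.toRingHom hg
  have hn't : g * (psi σ g)⁻¹ * torus D (c ^ q) = torus D c * (g * (psi σ g)⁻¹) := by
    rw [← psi_torus_pow σ hσ, hc, map_mul, map_mul, map_inv, hψh]
    simp [mul_assoc, hh_def, mp]
  obtain ⟨w, hw, hn⟩ := transporter C Sm X hs (mul_mem hg (inv_mem hψG)) hn't
  refine ⟨g, hg, w, c, fun h0 => ?_, ?_, by rw [hw, chi_pow], hn't, hn⟩
  · have h1 := torus_congr C Sm (h0.trans (chi_one Sm).symm)
    rw [map_one, hc] at h1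
    have : h = 1 := conj_eq_one_iff.1 h1
    rw [this, orderOf_one] at hordh
    exact hℓ.one_lt.ne hordh
  · rw [← chi_pow, ← chi_one Sm (K := K)]
    apply chi_congr C Sm
    rw [map_pow, map_one, hc, conj_pow, ← hordh]
    simp [pow_orderOf_eq_one, hh_def, mp]

/-- Integer eigenfunctional attached to an element killed by `ℓ`. -/
theorem exists_int_eigen {K : Type*} [Field K] [Fintype K] {ℓ : ℕ} [Fact ℓ.Prime] (hℓK : ℓ ∣ Fintype.card K - 1)
    {χ : Fin D.rank → Additive Kˣ} (hχ0 : χ ≠ 0) (hχℓ : ℓ • χ = 0) {w : X.W} {q : ℕ}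
    (hw : wact C X w χ = q • χ) :
    ∃ f : Fin D.rank → ℤ, (¬ ∀ j, (ℓ : ℤ) ∣ f j) ∧
      (∀ s, s < D.nroots → ((ℓ : ℤ) ∣ ev C f s ↔ ev C χ s = 0)) ∧
      (∀ s, s < D.nroots → (ℓ : ℤ) ∣ ev C f (X.img w s) - q * ev C f s) ∧
      (ℓ : ℤ) ∣ (Pm C X w).charpoly.eval (q : ℤ) := by
  classical
  obtain ⟨v, hv, hvgen⟩ := ChevCoxTorus68.exists_prim (K := K) hℓK
  choose f hf using fun j => hvgen (χ j) (congrFun hχℓ j)
  have hev : ∀ a, ev C χ a = ev C f a • v := fun a => by
    rw [← ev_smul_const]; exact congrArg (ev C · a) (funext hf).symm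
  have hdvd : ∀ a : ℤ, a • v = 0 ↔ (ℓ : ℤ) ∣ a := fun a => by
    rw [← hv, addOrderOf_dvd_iff_zsmul_eq_zero]
  refine ⟨f, fun hall => hχ0 (funext fun j => ?_), fun s _ => by rw [hev, hdvd], fun s hs' => (hdvd _).1 ?_, ?_⟩
  · rw [← hf j]; exact (hdvd _).2 (hall j)
  · rw [sub_zsmul, mul_zsmul, ← hev, ← hev, ← ev_wact C X w χ hs', hw, ev_nsmul, natCast_zsmul, add_neg_cancel]
  · have h0 : act (Pm C X w - (q : ℤ) • 1) χ = 0 := by
      rw [act_sub_smul_one, act_Pm, hw, natCast_zsmul, sub_self]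
    obtain ⟨j, hj⟩ := Function.ne_iff.1 hχ0
    have hordj : addOrderOf (χ j) = ℓ := addOrderOf_eq_prime (congrFun hχℓ j) hj
    have h2 : (ℓ : ℤ) ∣ (Pm C X w - (q : ℤ) • 1).det := by
      rw [← hordj, addOrderOf_dvd_iff_zsmul_eq_zero]
      exact congrFun (det_smul_eq_zero _ h0) j
    rw [Matrix.eval_charpoly, Matrix.scalar_apply, ← Matrix.smul_one_eq_diagonal, ← neg_sub, Matrix.det_neg]
    exact dvd_mul_of_dvd_right h2 _

theorem eigen_iff {ℓ : ℕ} [Fact ℓ.Prime] (f : Fin D.rank → ℤ) (w : X.W) (q : ℕ) (hq : (q : ZMod ℓ) ≠ 0)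
    (heig : ∀ s, s < D.nroots → (ℓ : ℤ) ∣ ev C f (X.img w s) - q * ev C f s) {s : ℕ} (hs' : s < D.nroots) :
    (ℓ : ℤ) ∣ ev C f (X.img w s) ↔ (ℓ : ℤ) ∣ ev C f s := by
  rw [dvd_iff_dvd_of_dvd_sub (heig s hs')]
  refine ⟨fun h => ?_, fun h => h.mul_left _⟩
  refine ((Nat.prime_iff_prime_int.1 Fact.out).dvd_or_dvd h).resolve_left fun h1 => hq ?_
  exact (ZMod.natCast_eq_zero_iff _ _).2 (Int.natCast_dvd_natCast.1 h1)

/-- The number of nonvanishing roots of an eigenfunctional is a multiple of the order of the eigenvalue. -/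
theorem dvd_card_nonzero {m : ℕ} (nm : Tab C m) {ℓ : ℕ} [Fact ℓ.Prime] (f : Fin D.rank → ℤ) (w : X.W)
    (q : ℕ) {d : ℕ} (hq : (q : ZMod ℓ) ≠ 0) (hord : orderOf (q : ZMod ℓ) = d)
    (heig : ∀ s, s < D.nroots → (ℓ : ℤ) ∣ ev C f (X.img w s) - q * ev C f s) :
    d ∣ (Finset.univ.filter fun s : Fin D.nroots => ¬ (ℓ : ℤ) ∣ ev C f s.val).card := by
  refine dvd_card_stable nm X f w q hord heig _ (fun s => ?_) fun s h => (Finset.mem_filter.1 h).2
  simp only [Finset.mem_filter, Finset.mem_univ, true_and]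
  rw [← eigen_iff C X f w q hq heig s.isLt, Weyl.img, dif_pos s.isLt]

include hs in
/-- The vanishing roots of an eigenfunctional are, up to the Weyl group, the roots supported away from
a set of at least `φ(d)` fundamental roots. -/
theorem exists_zero_support {m : ℕ} (nm : Tab C m) {ℓ : ℕ} [Fact ℓ.Prime] (hm : m < ℓ)
    (f : Fin D.rank → ℤ) (hf : ¬ ∀ j, (ℓ : ℤ) ∣ f j) (w : X.W) (q : ℕ) (hq : (q : ZMod ℓ) ≠ 0)
    (heig : ∀ s, s < D.nroots → (ℓ : ℤ) ∣ ev C f (X.img w s) - q * ev C f s)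
    {d : ℕ} (hd0 : 0 < d) {R : Polynomial ℤ} (hR : (Pm C X w).charpoly = Polynomial.cyclotomic d ℤ * R)
    (hRq : ¬ (ℓ : ℤ) ∣ R.eval (q : ℤ)) :
    ∃ (v : X.W) (S : Finset (Fin D.rank)), d.totient ≤ S.card ∧
      ∀ s, s < D.nroots → ((ℓ : ℤ) ∣ ev C f (X.img v s) ↔ ∀ j ∈ S, C.coef s j.val = 0) := by
  classical
  have hℓ : ℓ.Prime := Fact.out
  have hℓi := Nat.prime_iff_prime_int.1 hℓ
  obtain ⟨φ, c, hc, hφf, hzero⟩ := exists_int_zero nm X hs hℓ hm f
  set P := Pm C X w with hP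
  have hφeig : ∀ j, (ℓ : ℤ) ∣ (P.mulVec φ) j - q * φ j := by
    intro j
    have hj := X.simple_lt j.isLt
    have h1 := hφf _ (X.img_lt w hj)
    have h2 := hφf _ hj
    have h3 := heig _ hj
    rw [← act_int, hP, act_Pm]
    rw [ev_simple] at h2 h3
    show (ℓ : ℤ) ∣ ev C φ (X.img w (D.simple j.val)) - q * φ j
    have := dvd_add (dvd_sub h1 (h2.mul_left (q : ℤ))) (h3.mul_left c)
    rwa [ev_simple, show ev C φ (X.img w (D.simple j.val)) - c * ev C f (X.img w (D.simple j.val)) -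
      q * (φ j - c * f j) + c * (ev C f (X.img w (D.simple j.val)) - q * f j) =
      ev C φ (X.img w (D.simple j.val)) - q * φ j by ring] at this
  set b := (Polynomial.aeval P R).mulVec φ with hb
  have hb0 : b ≠ 0 := by
    intro h0
    refine hf fun j => ?_
    have h1 := ChevEigen14.aeval_mod P (q : ℤ) φ hφeig R j
    rw [← hb, h0] at h1
    simp only [Pi.zero_apply, zero_sub, dvd_neg] at h1
    have h2 := (hℓi.dvd_or_dvd h1).resolve_left hRq
    have h3 := hφf _ (X.simple_lt j.isLt)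
    rw [ev_simple, ev_simple] at h3
    exact (hℓi.dvd_or_dvd ((dvd_sub_right h2).1 h3)).resolve_left hc
  have hkill : (Polynomial.aeval P (Polynomial.cyclotomic d ℤ)).mulVec b = 0 := by
    rw [hb, Matrix.mulVec_mulVec, ← map_mul, ← hR, Matrix.aeval_self_charpoly, Matrix.zero_mulVec]
  -- the iterates of `b` vanish on the vanishing roots of `f`
  have hvan : ∀ k s, s < D.nroots → (ℓ : ℤ) ∣ ev C f s → ev C ((P ^ k).mulVec b) s = 0 := by
    intro k s hs' hz
    have hφ : ∀ i : ℕ, ev C ((P ^ i).mulVec φ) s = 0 := by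
      intro i
      rw [← act_int, hP, ← Pm_pow, act_Pm, ev_wact C X _ φ hs', ← hzero _ (X.img_lt _ hs')]
      induction i with
      | zero => simpa using hz
      | succ i ih => rw [pow_succ', X.img_mul]; exact (eigen_iff C X f w q hq heig (X.img_lt _ hs')).2 ih
    rw [hb, Matrix.mulVec_mulVec]
    clear hkill hRq hR hb0 hb b
    induction R using Polynomial.induction_on' with
    | add a b' ha hb' => rw [map_add, Matrix.mul_add, Matrix.add_mulVec, ev_add, ha, hb', add_zero]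
    | monomial i a =>
      rw [Polynomial.aeval_monomial, Algebra.algebraMap_eq_smul_one, smul_mul_assoc, one_mul,
        mul_smul_comm, ← pow_add, Matrix.smul_mulVec]
      rw [ev_zsmul, hφ, smul_zero]
  obtain ⟨v, hv⟩ := exists_dom nm X φ
  set φ' := wact C X v φ with hφ'
  refine ⟨v, Finset.univ.filter fun j => 0 < φ' j, ?_, ?_⟩
  · -- independence of the iterates
    let cq := Int.castRingHom ℚ
    set g := Polynomial.cyclotomic d ℚ
    have hkill' : (Polynomial.aeval (cq.mapMatrix P) g).mulVec (cq ∘ b) = 0 := by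
      have h1 := congrArg (fun x => cq ∘ x) hkill
      have h2 : Polynomial.aeval (cq.mapMatrix P) g = cq.mapMatrix (Polynomial.aeval P (Polynomial.cyclotomic d ℤ)) := by
        have := Polynomial.map_aeval_eq_aeval_map (φ := cq) (ψ := cq.mapMatrix (m := Fin D.rank))
          (RingHom.ext fun z => by simp) (Polynomial.cyclotomic d ℤ) P
        rw [this, Polynomial.map_cyclotomic_int]
      rw [h2]
      funext i
      rw [RingHom.mapMatrix_apply, ← RingHom.map_mulVec]
      simpa using congrFun h1 i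
    have hind := ChevEigen14.indep_of_kill (cq.mapMatrix P) (Polynomial.cyclotomic.irreducible_rat hd0)
      (b := cq ∘ b) (fun h0 => hb0 (funext fun i => by simpa [cq] using congrFun h0 i)) hkill'
    have hinv : cq.mapMatrix (Pm C X v⁻¹) * cq.mapMatrix (Pm C X v) = 1 := by
      rw [← map_mul, ← Pm_mul, mul_inv_cancel, Pm_one, map_one]
    have hinj : Function.Injective (Matrix.mulVecLin (cq.mapMatrix (Pm C X v))) := fun x y hxy => by
      have := congrArg (Matrix.mulVecLin (cq.mapMatrix (Pm C X v⁻¹))) hxy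
      simp only [Matrix.mulVecLin_apply, Matrix.mulVec_mulVec, hinv, Matrix.one_mulVec] at this
      exact this
    set S := Finset.univ.filter fun j => 0 < φ' j
    let res : (Fin D.rank → ℚ) →ₗ[ℚ] (↥S → ℚ) := LinearMap.funLeft ℚ ℚ Subtype.val
    have h4 := hind.map' (Matrix.mulVecLin (cq.mapMatrix (Pm C X v))) (LinearMap.ker_eq_bot.2 hinj)
    have h5 : LinearIndependent ℚ (fun i => res ((Matrix.mulVecLin (cq.mapMatrix (Pm C X v)))
        ((cq.mapMatrix P ^ i.val).mulVec (cq ∘ b))) : Fin g.natDegree → (↥S → ℚ)) := by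
      rw [Fintype.linearIndependent_iff] at h4 ⊢
      intro a ha
      refine h4 a (funext fun j => ?_)
      by_cases hj : j ∈ S
      · have := congrFun ha ⟨j, hj⟩
        simpa [res, LinearMap.funLeft_apply, Finset.sum_apply] using this
      · have hz : φ' j = 0 := le_antisymm (not_lt.1 fun h => hj (Finset.mem_filter.2 ⟨Finset.mem_univ _, h⟩)) (hv j)
        simp only [Finset.sum_apply, Pi.smul_apply, Pi.zero_apply, Function.comp_apply]
        refine Finset.sum_eq_zero fun i _ => ?_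
        have hev := hvan i.val _ (X.img_lt v (X.simple_lt j.isLt)) ((hzero _ (X.img_lt v (X.simple_lt j.isLt))).2 hz)
        rw [Matrix.mulVecLin_apply, ← map_pow]
        simp only [RingHom.mapMatrix_apply]
        have e : ((P ^ i.val).map cq).mulVec (cq ∘ b) = cq ∘ (P ^ i.val).mulVec b :=
          funext fun t => (RingHom.map_mulVec cq _ _ t).symm
        rw [e, ← RingHom.map_mulVec, ← act_int (Pm C X v), act_Pm]
        show a i • cq (ev C _ (X.img v (D.simple j.val))) = 0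
        rw [hev, map_zero, smul_zero]
    have h6 := h5.fintype_card_le_finrank
    rwa [Fintype.card_fin, Polynomial.natDegree_cyclotomic, Module.finrank_pi, Fintype.card_coe] at h6
  · intro s hs'
    rw [hzero _ (X.img_lt v hs'), ← ev_wact C X v φ hs', ← hφ']
    have hpos : ∀ r, r < D.nroots → D.nroots / 2 ≤ r →
        (ev C φ' r = 0 ↔ ∀ j ∈ Finset.univ.filter (fun j => 0 < φ' j), C.coef r j.val = 0) := by
      intro r hr hp
      simp only [ev, smul_eq_mul]
      rw [Finset.sum_eq_zero_iff_of_nonneg fun (k : Fin D.rank) _ => mul_nonneg (C.coef_pos r k.val hp hr k.isLt) (hv k)]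
      simp only [Finset.mem_univ, forall_true_left, Finset.mem_filter, true_and, smul_eq_mul, mul_eq_zero]
      refine forall_congr' fun j => ⟨fun h hj => h.resolve_right hj.ne', fun h => ?_⟩
      rcases (hv j).lt_or_eq with h' | h'
      · exact Or.inl (h h')
      · exact Or.inr h'.symm
    rcases le_or_gt (D.nroots / 2) s with hp | hp
    · exact hpos s hs' hp
    · have h1 := hpos _ (C.neg_lt s) (by rw [C.neg_eq s hs']; have := C.even; omega)
      rw [ev_neg C φ' hs', neg_eq_zero] at h1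
      simpa [C.coef_neg s _ hs' (Fin.isLt _)] using h1

end Cfsg.Agent.ChevTwistSetup14
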