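import Cfsg.Agent.Lib.ChevBruhatInstance
import Cfsg.Agent.Lib.ChevExtract
import Cfsg.Agent.Lib.ChevExtractData
import Cfsg.Agent.Lib.ChevalleyParabolic

/-!
Subgroups of `U` weakly closed with respect to the Chevalley group are unipotent radicals.
-/

set_option autoImplicit false
set_option linter.unusedSectionVars false

namespace Cfsg.Agent.ChevWeakClosed

open Cfsg.Lie Cfsg.Agent.ChevalleyCert Cfsg.Agent.ChevalleyCore Cfsg.Agent.ChevalleyRoots
  Cfsg.Agent.ChevalleyTorus Cfsg.Agent.ChevExtract Cfsg.Agent.ChevBruhat Cfsg.Agent.ChevWeyl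
  Cfsg.Agent.ChevBruhatInstance
open scoped Classical

/-- two nodes give a cocharacter trivial on `r` and small non-zero on `s` -/
def sepB (D : ChevalleyDatum) (ds : List ℕ) (r s : ℕ) : Bool :=
  (List.range D.rank).any fun a => (List.range D.rank).any fun b =>
    let g : ℕ := Int.gcd (D.cartan a r) (D.cartan b r)
    let va : ℤ := D.cartan b r / (g : ℤ)
    let vb : ℤ := -(D.cartan a r / (g : ℤ))
    decide (a ≠ b ∧ va * D.cartan a r + vb * D.cartan b r = 0 ∧
      (va * D.cartan a s + vb * D.cartan b s).natAbs ∈ ds)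

variable {D : ChevalleyDatum} (C : Cert D) {F : Type*} [Field F] [Fintype F]

theorem sepB_sound {ds : List ℕ} (hds : ∀ d ∈ ds, ¬ (Fintype.card F - 1) ∣ d) (r s : ℕ)
    (h : sepB D ds r s = true) : Sep D F r s := by
  simp only [sepB, List.any_eq_true, List.mem_range, decide_eq_true_eq] at h
  obtain ⟨a, ha, b, hb, hab, h0, hd⟩ := h
  set va : ℤ := D.cartan b r / ((Int.gcd (D.cartan a r) (D.cartan b r) : ℕ) : ℤ)
  set vb : ℤ := -(D.cartan a r / ((Int.gcd (D.cartan a r) (D.cartan b r) : ℕ) : ℤ))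
  obtain ⟨g, hg⟩ := IsCyclic.exists_generator (α := Fˣ)
  let c : Fin D.rank → Fˣ := Pi.mulSingle ⟨a, ha⟩ (g ^ va) * Pi.mulSingle ⟨b, hb⟩ (g ^ vb)
  have hc : ∀ x, tchar D c x = g ^ (va * D.cartan a x + vb * D.cartan b x) := by
    intro x
    simp only [c, tchar_mul, zpow_add, zpow_mul]
    congr 1
    · rw [tchar, Finset.prod_eq_single ⟨a, ha⟩] <;> simp +contextual [Pi.mulSingle_eq_of_ne]
    · rw [tchar, Finset.prod_eq_single ⟨b, hb⟩] <;> simp +contextual [Pi.mulSingle_eq_of_ne]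
  refine ⟨c, by rw [hc, h0, zpow_zero], fun h1 => hds _ hd ?_⟩
  rw [hc, ← orderOf_dvd_iff_zpow_eq_one, orderOf_eq_card_of_forall_mem_zpowers hg,
    Nat.card_eq_fintype_card, Fintype.card_units, Int.natCast_dvd] at h1
  exact h1

variable (X : Weyl D) (hs : suppCheck D = true)

local notation "S₀" => ChevBruhatInstance.mkSys (F := F) C X hs

/-- the positive roots involving node `i` are reached from it -/
def genOK (D : ChevalleyDatum) (ds us : List ℕ) (steps : List (List (ℕ × ℕ))) : Bool :=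
  (List.range D.rank).all fun i =>
    let Kn := (steps.getD i []).foldl (ChevExtract.step D (sepB D ds) us) [D.simple i]
    (List.range D.nroots).all fun r =>
      decide (r < D.nroots / 2) || decide (cor D r i = 0) || decide (r ∈ Kn)

/-- every root subgroup is separated from the fundamental ones -/
def bootOK (D : ChevalleyDatum) (ds : List ℕ) (i : ℕ) : Bool :=
  (List.range D.nroots).all fun s =>
    decide (s < D.nroots / 2) || decide (s = D.simple i) || sepB D ds (D.simple i) s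

include C in
/-- above every height -/
theorem exists_high : ∃ K : ℤ, ∀ s, s < D.nroots → ht C s < K :=
  ⟨1 + ∑ s ∈ Finset.range D.nroots, |ht C s|, fun s hs => by
    have h1 := Finset.single_le_sum (f := fun s => |ht C s|) (fun x _ => abs_nonneg _)
      (Finset.mem_range.2 hs)
    have h2 := le_abs_self (ht C s)
    omega⟩

theorem upSub_le_Y {i : ℕ} (hi : i < D.rank) :
    upSub D F i ≤ ChevExtract.Y D F fun s =>
      D.IsPosRoot s ∧ s ≠ D.simple i ∧ ht C (D.simple i) ≤ ht C s := by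
  refine Subgroup.closure_mono ?_
  rintro g ⟨s, t, hs, hne, hg⟩
  refine ⟨s, t, ⟨hs, hne, ?_⟩, hg⟩
  have h1 : ht C (D.simple i) = 1 := by
    rw [ht, Finset.sum_eq_single i]
    · rw [C.coef_simple i i hi hi, if_pos rfl]
    · intro j hj hne'
      rw [C.coef_simple i j hi (Finset.mem_range.1 hj), if_neg hne']
    · simp [hi]
  rw [h1]; exact ht_pos C hs

theorem boot_simple {ds : List ℕ} (hds : ∀ d ∈ ds, ¬ (Fintype.card F - 1) ∣ d) {i : ℕ}
    (hi : i < D.rank) (hb : bootOK D ds i = true) {Xs : Subgroup (GL D.Idx F)} (hX : ChevExtract.Inv Xs)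
    {a : F} (ha : a ≠ 0) {v : GL D.Idx F} (hv : v ∈ upSub D F i)
    (hx : xg C (D.simple i) a * v ∈ Xs) : Known C Xs (D.simple i) := by
  obtain ⟨K, hK⟩ := exists_high C
  have hp : D.IsPosRoot (D.simple i) := (isPos C).2 (C.simple_mem i hi)
  simp only [bootOK, List.all_eq_true, List.mem_range, Bool.or_eq_true, decide_eq_true_eq] at hb
  obtain ⟨a', ha', y, hy, hx'⟩ := boot C hX hp K
    (fun s hs' hne _ => Or.inr (sepB_sound hds _ _ (by
      obtain ⟨h1, h2⟩ := (isPos C).1 hs'
      rcases hb s h2 with (h | h) | h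
      · omega
      · exact absurd h hne
      · exact h)))
    ha (upSub_le_Y C hi hv) hx
  rw [Y_empty (fun s hs' => absurd hs'.2.2 (not_le.2 (hK s hs'.1.1))) hy, mul_one] at hx'
  exact known_of_mem C hX hp.1 ha' hx'

include C X hs in
/-- the weakly closed subgroups of `U` -/
theorem main {ds us : List ℕ} (hds : ∀ d ∈ ds, ¬ (Fintype.card F - 1) ∣ d)
    (hus : ∀ n ∈ us, (n : F) ≠ 0) (steps : List (List (ℕ × ℕ)))
    (hgen : genOK D ds us steps = true)
    (hboot : ∀ i, i < D.rank → ∀ (Xs : Subgroup (GL D.Idx F)), ChevExtract.Inv Xs → ∀ a : F, a ≠ 0 →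
      ∀ v ∈ upSub D F i, xg C (D.simple i) a * v ∈ Xs → Known C Xs (D.simple i))
    (Xs : Subgroup (GL D.Idx F)) (hXU : Xs ≤ D.posUnipotent F)
    (hwc : ∀ g ∈ D.group F, Xs.map (MulAut.conj g).toMonoidHom ≤ D.posUnipotent F →
      Xs.map (MulAut.conj g).toMonoidHom = Xs) :
    ∃ J : Set ℕ, (∀ j ∈ J, j < D.rank) ∧ Xs = D.unipotentRadical F J := by
  set S := ChevBruhatInstance.mkSys (F := F) C X hs with hS
  -- conjugates inside `U` stay in `Xs`
  have hconj : ∀ g ∈ D.group F, (∀ x ∈ Xs, g * x * g⁻¹ ∈ D.posUnipotent F) →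
      ∀ x ∈ Xs, g * x * g⁻¹ ∈ Xs := by
    intro g hg h x hx
    have hle : Xs.map (MulAut.conj g).toMonoidHom ≤ D.posUnipotent F := by
      rintro _ ⟨z, hz, rfl⟩; exact h z hz
    rw [← hwc g hg hle]
    exact ⟨x, hx, rfl⟩
  have hInv : ChevExtract.Inv Xs := ⟨fun u hu x hx => hconj u (S.U_le_group hu)
      (fun z hz => mul_mem (mul_mem hu (hXU hz)) (inv_mem hu)) x hx,
    fun h hh x hx => hconj h (S.H_le_group hh) (fun z hz => S.H_conj_U hh (hXU hz)) x hx⟩
  refine ⟨{j | j < D.rank ∧ Xs ≤ upSub D F j}, fun j hj => hj.1, ?_⟩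
  set J : Set ℕ := {j | j < D.rank ∧ Xs ≤ upSub D F j} with hJ
  have hn : ∀ j : Fin D.rank, j.val ∈ J → ∀ x ∈ Xs,
      S.nn (D.simple j) 1 * x * (S.nn (D.simple j) 1)⁻¹ ∈ Xs := fun j hj =>
    hconj _ (S.nn_mem_group (S.X.simple_lt j.isLt) _)
      (fun z hz => Sys.upSub_le_U _ (S.nn_conj_upSub j (hj.2 hz)))
  apply le_antisymm
  · -- `Xs ≤ U_J`
    let P : Subgroup S.X.W := Subgroup.closure (S.X.C.simple '' {j | j.val ∈ J})
    have hlift : ∀ w ∈ P, ∃ n : ↥(D.monomialSubgroup F), S.toW n = w ∧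
        (∀ x ∈ Xs, (n : GL D.Idx F) * x * (n : GL D.Idx F)⁻¹ ∈ Xs) := by
      intro w hw
      induction hw using Subgroup.closure_induction_left with
      | one => exact ⟨1, map_one _, fun x hx => by simpa using hx⟩
      | mul_left y hy z _ ih =>
        obtain ⟨j, hj, rfl⟩ := hy
        obtain ⟨n, hn', hnX⟩ := ih
        refine ⟨S.sN j * n, by rw [map_mul, S.toW_sN, hn'], fun x hx => ?_⟩
        have := hn j hj _ (hnX x hx)
        simpa [Sys.sN, mul_assoc] using this
      | inv_mul_cancel y hy z _ ih =>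
        obtain ⟨j, hj, rfl⟩ := hy
        obtain ⟨n, hn', hnX⟩ := ih
        refine ⟨S.sN j * n, ?_, fun x hx => ?_⟩
        · have hsq : S.X.C.simple j * S.X.C.simple j = 1 :=
            S.X.C.toCoxeterSystem.simple_mul_simple_self j
          rw [map_mul, S.toW_sN, hn', inv_eq_of_mul_eq_one_right hsq]
        · have := hn j hj _ (hnX x hx)
          simpa [Sys.sN, mul_assoc] using this
    haveI : Finite S.X.W := Finite.of_injective S.X.ρ S.X.ρ_injective
    obtain ⟨v, hvP, hmax⟩ := (Set.toFinite (P : Set S.X.W)).exists_maximalFor (fun w => S.X.inv w) _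
      ⟨1, P.one_mem⟩
    have hneg : ∀ j : Fin D.rank, j.val ∈ J → D.IsNegRoot (S.X.img v⁻¹ (D.simple j)) := by
      intro j hj
      refine (S.X.pos_or_neg (S.X.img_lt _ (S.X.simple_lt j.isLt))).resolve_left fun hpos => ?_
      have h1 := S.X.inv_simple_mul_of_pos j hpos
      have h2 := hmax (P.mul_mem (Subgroup.subset_closure (Set.mem_image_of_mem _ hj)) hvP)
        (by show S.X.inv v ≤ S.X.inv (S.X.C.simple j * v); omega)
      simp only at h2
      omega
    obtain ⟨n, hnv, hnX⟩ := hlift v⁻¹ (P.inv_mem hvP)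
    intro x hx
    have hdec : ∀ u ∈ D.posUnipotent F, ∃ z ∈ D.unipotentRadical F J, ∃ l,
        (n : GL D.Idx F) * l * (n : GL D.Idx F)⁻¹ ∈ D.negUnipotent F ∧ u = z * l := by
      intro u hu
      have hUn : D.posUnipotent F ≤
          Subgroup.normalizer (D.unipotentRadical F J : Set (GL D.Idx F)) :=
        (Sys.U_le_B.trans le_sup_left).trans (ChevalleyParabolic.parabolic_le_normalizer C J)
      refine (Subgroup.closure_induction (p := fun y hy => y ∈ D.posUnipotent F ∧
        ∃ z ∈ D.unipotentRadical F J, ∃ l,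
          (l ∈ D.posUnipotent F ∧ (n : GL D.Idx F) * l * (n : GL D.Idx F)⁻¹ ∈ D.negUnipotent F) ∧
          y = z * l) ?_ ?_ ?_ ?_ hu).2.imp fun z hz => ⟨hz.1, hz.2.imp fun l hl => ⟨hl.1.2, hl.2⟩⟩
      · rintro g ⟨r, t, hr, hg⟩
        obtain rfl := (xg_eq_iff C).1 hg
        refine ⟨ChevExtract.xg_mem_U C hr t, ?_⟩
        by_cases hJr : D.InRootSub J r
        · refine ⟨1, one_mem _, _, ⟨ChevExtract.xg_mem_U C hr t, ?_⟩, (one_mul _).symm⟩
          obtain ⟨c, -, h1, -⟩ := S.acts_toW n r hr.1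
          rw [show (n : GL D.Idx F) * xg C r t * (n : GL D.Idx F)⁻¹ = _ from h1 t, hnv]
          refine S.xg_mem_V ?_ _
          rw [S.X.neg_iff (S.X.img_lt _ hr.1)]
          intro m hm
          rw [S.X.cor_img _ hr.1 m hm]
          refine Finset.sum_nonpos fun k hk => ?_
          have hk := Finset.mem_range.1 hk
          by_cases hkJ : k ∈ J
          · exact mul_nonpos_of_nonneg_of_nonpos ((S.X.pos_iff hr.1).1 hr k hk)
              ((S.X.neg_iff (S.X.img_lt _ (S.X.simple_lt hk))).1 (hneg ⟨k, hk⟩ hkJ) m hm)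
          · rw [show cor D r k = 0 from hJr.2 k hk hkJ, zero_mul]
        · exact ⟨_, Subgroup.subset_closure ⟨r, t, hr, hJr, coe_xg C r t⟩, 1,
            ⟨one_mem _, by simp⟩, (mul_one _).symm⟩
      · exact ⟨one_mem _, 1, one_mem _, 1, ⟨one_mem _, by simp⟩, (mul_one 1).symm⟩
      · rintro a b - - ⟨ha, z, hz, l, ⟨hl, hlV⟩, rfl⟩ ⟨hb, z', hz', l', ⟨hl', hlV'⟩, rfl⟩
        refine ⟨mul_mem ha hb, z * (l * z' * l⁻¹),
          mul_mem hz ((Subgroup.mem_normalizer_iff.1 (hUn hl) z').1 hz'), l * l',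
          ⟨mul_mem hl hl', ?_⟩, by group⟩
        rw [show (n : GL D.Idx F) * (l * l') * (n : GL D.Idx F)⁻¹ = ((n : GL D.Idx F) * l *
          (n : GL D.Idx F)⁻¹) * ((n : GL D.Idx F) * l' * (n : GL D.Idx F)⁻¹) by group]
        exact mul_mem hlV hlV'
      · rintro a - ⟨ha, z, hz, l, ⟨hl, hlV⟩, rfl⟩
        refine ⟨inv_mem ha, l⁻¹ * z⁻¹ * l⁻¹⁻¹,
          (Subgroup.mem_normalizer_iff.1 (hUn (inv_mem hl)) z⁻¹).1 (inv_mem hz), l⁻¹,
          ⟨inv_mem hl, ?_⟩, by group⟩
        rw [show (n : GL D.Idx F) * l⁻¹ * (n : GL D.Idx F)⁻¹ =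
          ((n : GL D.Idx F) * l * (n : GL D.Idx F)⁻¹)⁻¹ by group]
        exact inv_mem hlV
    obtain ⟨z, hz, l, hl, rfl⟩ := hdec x (hXU hx)
    have hP : (n : GL D.Idx F) * z * (n : GL D.Idx F)⁻¹ ∈ D.posUnipotent F := by
      have hnP : (n : GL D.Idx F) ∈ D.parabolicSubgroup F J := mem_parabolic_of S J hnv (P.inv_mem hvP)
      have := (Subgroup.mem_normalizer_iff.1
        (ChevalleyParabolic.parabolic_le_normalizer C J hnP) z).1 hz
      exact radical_le_U J this
    have h1 := hXU (hnX _ hx)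
    have h2 : (n : GL D.Idx F) * l * (n : GL D.Idx F)⁻¹ ∈ D.posUnipotent F := by
      rw [show (n : GL D.Idx F) * l * (n : GL D.Idx F)⁻¹ =
        ((n : GL D.Idx F) * z * (n : GL D.Idx F)⁻¹)⁻¹ *
          ((n : GL D.Idx F) * (z * l) * (n : GL D.Idx F)⁻¹) by group]
      exact mul_mem (inv_mem hP) h1
    have h3 := Subgroup.mem_inf.mpr ⟨Sys.U_le_B h2, hl⟩
    rw [S.B_inf_V, Subgroup.mem_bot, conj_eq_one_iff] at h3
    rw [h3, mul_one]
    exact hz
  · -- `U_J ≤ Xs`
    refine (Subgroup.closure_le _).2 ?_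
    rintro g ⟨r, t, hr, hJr, hg⟩
    obtain rfl := (xg_eq_iff C).1 hg
    obtain ⟨i, hi, hiJ, hcor⟩ : ∃ i, i < D.rank ∧ i ∉ J ∧ cor D r i ≠ 0 := by
      by_contra hc
      push Not at hc
      exact hJr ⟨hr.1, fun i hi hiJ => hc i hi hiJ⟩
    have hnot : ¬ Xs ≤ upSub D F i := fun h => hiJ ⟨hi, h⟩
    obtain ⟨x, hx, hxn⟩ := SetLike.not_le_iff_exists.1 hnot
    obtain ⟨v, hv, a, rfl⟩ := S.U_decomp hi (hXU hx)
    have ha : a ≠ 0 := by
      rintro rfl
      exact hxn (by rwa [S.xg_zero, mul_one])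
    have hk : Known C Xs (D.simple i) := by
      refine hboot i hi Xs hInv a ha (S.xg (D.simple i) (-a) * v * (S.xg (D.simple i) (-a))⁻¹)
        (S.simple_mul_upSub hi hv _) ?_
      rw [show xg C (D.simple i) a * (S.xg (D.simple i) (-a) * v * (S.xg (D.simple i) (-a))⁻¹) =
        v * S.xg (D.simple i) a by
          rw [← S.xg_inv]
          show S.xg (D.simple i) a * _ = _
          group]
      exact hx
    simp only [genOK, List.all_eq_true, List.mem_range, Bool.or_eq_true, decide_eq_true_eq] at hgen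
    obtain ⟨hr1, hr2⟩ := (isPos C).1 hr
    rcases hgen i hi r hr2 with (h | h) | h
    · omega
    · exact absurd h hcor
    · exact derive_sound C (sepB_sound hds) hus hInv _ [D.simple i]
        (fun s hs' => by rw [List.mem_singleton.1 hs']; exact hk) r h t
where
  radical_le_U (J : Set ℕ) : D.unipotentRadical F J ≤ D.posUnipotent F :=
    Subgroup.closure_mono fun _ ⟨r, t, hr, _, hg⟩ => ⟨r, t, hr, hg⟩
  mem_parabolic_of (S : Sys D F) (J : Set ℕ) {w : S.X.W} {n : ↥(D.monomialSubgroup F)}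
      (hn : S.toW n = w) (hw : w ∈ Subgroup.closure (S.X.C.simple '' {j | j.val ∈ J})) :
      (n : GL D.Idx F) ∈ D.parabolicSubgroup F J := by
    have key : ∀ w ∈ Subgroup.closure (S.X.C.simple '' {j | j.val ∈ J}),
        ∀ n : ↥(D.monomialSubgroup F), S.toW n = w → (n : GL D.Idx F) ∈ D.parabolicSubgroup F J := by
      intro w hw
      have step : ∀ j : Fin D.rank, j.val ∈ J → ∀ z,
          (∀ n : ↥(D.monomialSubgroup F), S.toW n = z → (n : GL D.Idx F) ∈ D.parabolicSubgroup F J) →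
          ∀ n : ↥(D.monomialSubgroup F), S.toW n = S.X.C.simple j * z →
            (n : GL D.Idx F) ∈ D.parabolicSubgroup F J := by
        intro j hj z ih n hn
        have h1 := ih ((S.sN j)⁻¹ * n) (by rw [map_mul, map_inv, S.toW_sN, hn, inv_mul_cancel_left])
        have h2 : S.nn (D.simple j) 1 ∈ D.parabolicSubgroup F J :=
          Subgroup.mem_sup_right (Subgroup.subset_closure ⟨j, hj, j.isLt, S.coe_nn _ _⟩)
        have := mul_mem h2 h1
        simpa [Sys.sN] using this
      induction hw using Subgroup.closure_induction_left with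
      | one =>
        intro n hn
        exact Subgroup.mem_sup_left (Sys.H_le_B (S.toW_ker.le hn))
      | mul_left y hy z _ ih =>
        obtain ⟨j, hj, rfl⟩ := hy
        exact step j hj z ih
      | inv_mul_cancel y hy z _ ih =>
        obtain ⟨j, hj, rfl⟩ := hy
        have hsq : S.X.C.simple j * S.X.C.simple j = 1 :=
          S.X.C.toCoxeterSystem.simple_mul_simple_self j
        rw [inv_eq_of_mul_eq_one_right hsq]
        exact step j hj z ih
    exact key w hw n hn

end Cfsg.Agent.ChevWeakClosed
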