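import Cfsg.Agent.Lib.CoxeterData
import Cfsg.Prelude.Def_ChevStructure

/-! Orders, faithful root actions and Coxeter element orders for the exceptional Weyl groups. -/

set_option autoImplicit false

namespace Cfsg.Agent.CoxeterWeyl
open Cfsg.Agent.CoxeterTables Cfsg.Agent.CoxeterData

theorem b2_act : actOK (CoxeterMatrix.B 2) b2Perm 8 = true := by decide +kernel
theorem b2_chain : chainOK (natMatrix (CoxeterMatrix.B 2)) b2Perm 8 (List.range 2) b2Chain = true := by
  decide +kernel
theorem g2_act : actOK CoxeterMatrix.G₂ g2Perm 12 = true := by decide +kernel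
theorem g2_chain : chainOK (natMatrix CoxeterMatrix.G₂) g2Perm 12 (List.range 2) g2Chain = true := by
  decide +kernel
theorem d4_act : actOK Cfsg.Lie.coxeterD4 d4Perm 24 = true := by decide +kernel
theorem d4_chain : chainOK (natMatrix Cfsg.Lie.coxeterD4) d4Perm 24 (List.range 4) d4Chain = true := by
  decide +kernel
theorem f4_act : actOK CoxeterMatrix.F₄ f4Perm 48 = true := by decide +kernel
theorem f4_chain : chainOK (natMatrix CoxeterMatrix.F₄) f4Perm 48 (List.range 4) f4Chain = true := by
  decide +kernel
theorem e6_act : actOK CoxeterMatrix.E₆ e6Perm 72 = true := by decide +kernel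
theorem e6_chain : chainOK (natMatrix CoxeterMatrix.E₆) e6Perm 72 (List.range 6) e6Chain = true := by
  decide +kernel
theorem e7_act : actOK CoxeterMatrix.E₇ e7Perm 126 = true := by decide +kernel
theorem e7_chain : chainOK (natMatrix CoxeterMatrix.E₇) e7Perm 126 (List.range 7) e7Chain = true := by
  decide +kernel
theorem e8_act : actOK CoxeterMatrix.E₈ e8Perm 240 = true := by decide +kernel
theorem e8_chain : chainOK (natMatrix CoxeterMatrix.E₈) e8Perm 240 (List.range 8) e8Chain = true := by
  decide +kernel

end Cfsg.Agent.CoxeterWeyl
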