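import Cfsg.Agent.Lib.ChevWeyl
import Cfsg.Agent.Lib.CoxeterWeyl

/-!
Every element of the Weyl group of a tabulated datum is the product of one coset word per level
of the chain, so statements about all of them reduce to a finite check.
-/

set_option autoImplicit false

namespace Cfsg.Agent.ChevWeylWords68

open Cfsg.Lie Cfsg.Agent.CoxeterTables Cfsg.Agent.ChevWeyl

/-- the products of the coset words along a chain -/
def nforms : List Level → List (List ℕ)
  | [] => [[]]
  | L :: Ls => (List.range L.size).flatMap fun v => (nforms Ls).map fun w => L.word v ++ w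

variable {D : ChevalleyDatum} (X : Weyl D)

theorem par_form : ∀ (g : List ℕ) (Ls : List Level),
    chainOK (natMatrix X.C) X.P D.nroots g Ls = true → (∀ s ∈ g, s < D.rank) →
    ∀ w ∈ X.par g, ∃ l ∈ nforms Ls, (∀ s ∈ l, s < D.rank) ∧ w = wprod (gen X.C) l
  | g, [], h, _, w, hw => by
    simp only [chainOK, List.isEmpty_iff] at h
    subst h
    have hbot : X.par [] = ⊥ := by simp [Weyl.par, gSub]
    rw [hbot, Subgroup.mem_bot] at hw
    exact ⟨[], by simp [nforms], by simp, by simp [hw]⟩
  | g, L :: Ls, h, hg, w, hw => by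
    simp only [chainOK, Bool.and_eq_true, decide_eq_true_eq] at h
    obtain ⟨⟨⟨rfl, hT⟩, hS⟩, hrest⟩ := h
    have hsub : ∀ k ∈ L.sub, k ∈ L.gens := by
      have h := hT
      simp only [tableOK, Bool.and_eq_true, List.all_eq_true, decide_eq_true_eq] at h
      exact h.1.2
    obtain ⟨v, hv, x, hx, rfl⟩ := level_cover (gen_rels X.C) hT w hw
    obtain ⟨l, hl, hl', rfl⟩ := par_form L.sub Ls hrest (fun s hs => hg s (hsub s hs)) x hx
    refine ⟨L.word v ++ l, ?_, ?_, (wprod_append _ _ _).symm⟩
    · exact List.mem_flatMap.2 ⟨v, List.mem_range.2 hv, List.mem_map.2 ⟨l, hl, rfl⟩⟩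
    · intro s hs
      rcases List.mem_append.1 hs with h | h
      · exact hg s (X.word_letters hT hS v hv s h)
      · exact hl' s h

/-- every element is a normal form, and acts on the roots by its word -/
theorem exists_form (w : X.W) :
    ∃ l ∈ nforms X.chain, ∀ r, r < D.nroots → X.img w r = actWord X.P l r := by
  have htop : X.par (List.range D.rank) = ⊤ := gSub_range X.C
  obtain ⟨l, hl, hl', rfl⟩ := par_form X _ _ X.hchain (fun s hs => List.mem_range.1 hs) w
    (by rw [htop]; trivial)
  exact ⟨l, hl, fun r hr => X.img_wprod l hl' hr⟩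

end Cfsg.Agent.ChevWeylWords68
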