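import Cfsg.Agent.Lib.ChevalleyRoots

/-!
The integral adjoint representation of a certified datum: divided powers, derivation property, action of the `n_p`.
-/

set_option autoImplicit false
set_option linter.unusedSimpArgs false

namespace Cfsg.Agent.ChevalleyAdjoint

open Cfsg.Lie Cfsg.Agent.ChevalleyEngine Cfsg.Agent.ChevalleyCert Cfsg.Agent.ChevalleyRoots
open scoped Matrix

variable {D : ChevalleyDatum} (C : Cert D)

/-- coefficient at the fundamental root `j` of the weight of a basis vector -/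
def cf (q : D.Idx) (j : ℕ) : ℤ := Sum.elim (fun _ => 0) (fun s : Fin D.nroots => C.coef s.val j) q

/-- Cartan weight of a basis vector -/
def wgt (q : D.Idx) (i : ℕ) : ℤ := Sum.elim (fun _ => 0) (fun s : Fin D.nroots => D.cartan i s.val) q

/-- key of a basis vector -/
def kq (q : D.Idx) : ℤ := Sum.elim (fun _ => 0) (fun s : Fin D.nroots => key C s.val) q

include C

theorem wgt_eq {i : ℕ} (hi : i < D.rank) (q : D.Idx) :
    wgt q i = ∑ j ∈ Finset.range D.rank, cf C q j * D.cartan i (D.simple j) := by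
  rcases q with a | s
  · simp [wgt, cf]
  · simpa [wgt, cf] using cartan_lin' C hi s.isLt

/-- `xm k r` raises the weight by `k r` -/
theorem xm_cf {k r : ℕ} (hk : 1 ≤ k) (hr : r < D.nroots) {row col : D.Idx} (h : xm D k r row col ≠ 0) {j : ℕ}
    (hj : j < D.rank) : cf C row j = cf C col j + k * C.coef r j := by
  rcases col with i | s <;> rcases row with i' | u <;>
    simp only [xm, Matrix.of_apply, cf, Sum.elim_inl, Sum.elim_inr] at h ⊢
  · exact absurd rfl h
  · split at h
    · rename_i h1; rw [h1.1, h1.2]; simp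
    · exact absurd rfl h
  · split at h
    · exact absurd rfl h
    · split at h
      · rename_i hs
        split at h
        · rename_i h1; rw [hs, h1, C.coef_neg r j hr hj]; simp
        · exact absurd rfl h
      · exact absurd rfl h
  · split at h
    · exact absurd rfl h
    · split at h
      · rename_i hs
        split at h
        · rename_i h1; rw [hs, h1.1, h1.2, C.coef_neg r j hr hj]; ring
        · exact absurd rfl h
      · split at h
        · rename_i h1
          rw [(chainRoot_coef C hr hk h1).2 j hj]; ring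
        · exact absurd rfl h

theorem xm_kq {k r : ℕ} (hk : 1 ≤ k) (hr : r < D.nroots) {row col : D.Idx} (h : xm D k r row col ≠ 0) :
    kq C row = kq C col + k * key C r := by
  have hq : ∀ q : D.Idx, kq C q = (List.range D.rank).foldl (fun a j => 13 * a + cf C q j) 0 := by
    rintro (a | s)
    · have := fold_smul (List.range D.rank) (fun _ => (0 : ℤ)) 0 0
      simp only [zero_mul] at this
      simpa [kq, cf] using this.symm
    · rfl
  rw [hq row, hq col, fold_congr _ _ (fun j => cf C col j + (k : ℤ) * C.coef r j)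
    (fun j hj => xm_cf C hk hr h (List.mem_range.1 hj)),
    show (0 : ℤ) = 0 + (k : ℤ) * 0 by simp, fold_add, fold_smul]
  simp [key]

theorem xm_wgt {k r : ℕ} (hk : 1 ≤ k) (hr : r < D.nroots) {row col : D.Idx} (h : xm D k r row col ≠ 0) {i : ℕ}
    (hi : i < D.rank) : wgt row i = wgt col i + k * D.cartan i r := by
  rw [wgt_eq C hi, wgt_eq C hi, cartan_lin' C hi hr, Finset.mul_sum, ← Finset.sum_add_distrib]
  exact Finset.sum_congr rfl fun j hj => by rw [xm_cf C hk hr h (Finset.mem_range.1 hj)]; ring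

omit C in
/-- the coroot vector `h_r` -/
def hvec (D : ChevalleyDatum) (r : ℕ) : D.Idx → ℤ := Sum.elim (fun j => cc D r j.val) (fun _ => 0)

omit C in
/-- the root vector `e_r` (zero if `r` is out of range) -/
def evec (D : ChevalleyDatum) (r : ℕ) : D.Idx → ℤ := Sum.elim (fun _ => 0) (fun u => if u.val = r then 1 else 0)

omit C in
theorem evec_eq {r : ℕ} (hr : r < D.nroots) : evec D r = Pi.single (Sum.inr ⟨r, hr⟩) 1 := by
  funext q; rcases q with a | u <;> simp [evec, Pi.single_apply, Fin.ext_iff]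

omit C in
theorem xm_inl (k r : ℕ) (i : Fin D.rank) :
    xm D k r *ᵥ Pi.single (Sum.inl i) 1 = (if k = 1 then - D.cartan i.val r else 0) • evec D r := by
  funext q; rcases q with a | u
  · simp [xm, evec]
  · by_cases hk : k = 1 <;> by_cases hu : u.val = r <;> simp [xm, evec, hk, hu]

omit C in
theorem xm_self (k : ℕ) {r : ℕ} (hr : r < D.nroots) : xm D k r *ᵥ evec D r = 0 := by
  rw [evec_eq hr, Matrix.mulVec_single_one]
  funext q; simp [xm]

theorem xm_opp (k : ℕ) {r : ℕ} (hr : r < D.nroots) :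
    xm D k r *ᵥ evec D (D.neg r) =
      if k = 1 then hvec D r else if k = 2 then - evec D r else 0 := by
  rw [evec_eq (C.neg_lt r), Matrix.mulVec_single_one]
  have hne := neg_ne C hr
  funext q
  simp only [Matrix.col_apply, xm, Matrix.of_apply, hne, if_false, if_true]
  by_cases hk : k = 1
  · subst hk
    rcases q with a | u <;> simp [hvec]
  · by_cases hk2 : k = 2
    · subst hk2
      rcases q with a | u
      · simp [evec]
      · by_cases hu : u.val = r <;> simp [evec, hu]
    · rcases q with a | u <;> simp [hk, hk2]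

omit C in
theorem xm_other (k : ℕ) {r s : ℕ} (hs : s < D.nroots) (h1 : s ≠ r) (h2 : s ≠ D.neg r) :
    xm D k r *ᵥ evec D s =
      match (D.chainEntry r s)[k - 1]? with
      | none => 0
      | some q => q.2 • evec D q.1 := by
  rw [evec_eq hs, Matrix.mulVec_single_one]
  funext v
  rcases hq : (D.chainEntry r s)[k - 1]? with _ | q
  · rcases v with a | u <;> simp [xm, h1, h2, ChevalleyDatum.chainRoot, hq]
  · rcases v with a | u
    · simp [xm, h1, h2, evec]
    · by_cases hu : q.1 = u.val
      · simp [xm, h1, h2, evec, ChevalleyDatum.chainRoot, ChevalleyDatum.chainM, hq, hu]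
      · simp [xm, h1, h2, evec, ChevalleyDatum.chainRoot, ChevalleyDatum.chainM, hq, hu, Ne.symm hu]

omit C in
theorem ext_vec {A B : Matrix D.Idx D.Idx ℤ}
    (h1 : ∀ i : Fin D.rank, A *ᵥ Pi.single (Sum.inl i) 1 = B *ᵥ Pi.single (Sum.inl i) 1)
    (h2 : ∀ s, s < D.nroots → A *ᵥ evec D s = B *ᵥ evec D s) : A = B := by
  refine Matrix.ext_of_mulVec_single fun q => ?_
  rcases q with i | s
  · exact h1 i
  · simpa [evec_eq s.isLt] using h2 s.val s.isLt

omit C in
theorem hvec_eq_sum (r : ℕ) : hvec D r = ∑ j : Fin D.rank, cc D r j.val • Pi.single (Sum.inl j) (1 : ℤ) := by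
  funext q
  rcases q with a | u
  · simp [hvec, Pi.single_apply]
  · simp [hvec, Pi.single_apply]

theorem xm_hvec (k : ℕ) {r s : ℕ} :
    xm D k r *ᵥ hvec D s = (if k = 1 then - D.pairing s r else 0) • evec D r := by
  rw [hvec_eq_sum, Matrix.mulVec_sum]
  simp only [Matrix.mulVec_smul, xm_inl, smul_smul]
  rw [← Finset.sum_smul]
  congr 1
  split
  · rw [pairing_eq C, ← Fin.sum_univ_eq_sum_range (fun j => cc D s j * D.cartan j r)]
    simp [mul_neg, Finset.sum_neg_distrib]
  · simp

theorem xm_mul {k r : ℕ} (hk : 1 ≤ k) (hr : r < D.nroots) :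
    xm D 1 r * xm D k r = ((k : ℤ) + 1) • xm D (k + 1) r := by
  refine ext_vec (fun i => ?_) (fun s hs => ?_)
  · rw [← Matrix.mulVec_mulVec, Matrix.smul_mulVec, xm_inl, xm_inl, Matrix.mulVec_smul, xm_self 1 hr, smul_zero,
      if_neg (by omega : ¬ k + 1 = 1), zero_smul, smul_zero]
  · rw [← Matrix.mulVec_mulVec, Matrix.smul_mulVec]
    by_cases h1 : s = r
    · subst h1; rw [xm_self k hr, xm_self _ hr]; simp
    by_cases h2 : s = D.neg r
    · subst h2
      rw [xm_opp C k hr, xm_opp C _ hr, if_neg (by omega : ¬ k + 1 = 1)]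
      by_cases hk1 : k = 1
      · subst hk1
        rw [if_pos rfl, xm_hvec C, if_pos rfl, C.pair_self r hr]; simp
      · rw [if_neg hk1, if_neg (by omega : ¬ k + 1 = 2), smul_zero]
        split
        · rw [Matrix.mulVec_neg, xm_self 1 hr, neg_zero]
        · exact Matrix.mulVec_zero _
    rw [xm_other k hs h1 h2, xm_other (k + 1) hs h1 h2, show k + 1 - 1 = k from rfl]
    obtain ⟨k, rfl⟩ : ∃ m, k = m + 1 := ⟨k - 1, by omega⟩
    rw [show k + 1 - 1 = k from rfl]
    obtain ⟨o, hq⟩ : ∃ o, (D.chainEntry r s)[k]? = o := ⟨_, rfl⟩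
    rw [hq]
    rcases o with _ | q
    · have : (D.chainEntry r s)[k + 1]? = none := by
        rw [List.getElem?_eq_none_iff] at hq ⊢; omega
      simp [this]
    · obtain ⟨_, _, _, _, hq1, hq2, hq3⟩ := entry_getElem C hr hq
      simp only
      rw [Matrix.mulVec_smul, xm_other 1 hq1 hq2 hq3]
      have hst := step_next C hr hq
      rw [hdN_eq C] at hst
      obtain ⟨oa, ha⟩ : ∃ o, (D.chainEntry r q.1)[0]? = o := ⟨_, rfl⟩
      obtain ⟨ob, hb⟩ : ∃ o, (D.chainEntry r s)[k + 1]? = o := ⟨_, rfl⟩
      rw [ha, hb] at hst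
      rw [show (1 - 1 : ℕ) = 0 from rfl, ha, hb]
      rcases oa with _ | a <;> rcases ob with _ | b <;> simp only at hst
      · simp
      · simp only
        rw [smul_smul, smul_smul, hst.1, ← hst.2]
        push_cast
        ring_nf

theorem xm_high {k r : ℕ} (hk : 4 ≤ k) (hr : r < D.nroots) : xm D k r = 0 := by
  ext row col
  rcases col with i | s <;> rcases row with a | u <;>
    simp [xm, chainRoot_four C hr _ k hk, show k ≠ 1 by omega, show k ≠ 2 by omega]

theorem xm_sq {r : ℕ} (hr : r < D.nroots) : xm D 1 r ^ 2 = (2 : ℤ) • xm D 2 r := by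
  rw [pow_two, xm_mul C le_rfl hr]; norm_num

theorem xm_cube {r : ℕ} (hr : r < D.nroots) : xm D 1 r ^ 3 = (6 : ℤ) • xm D 3 r := by
  rw [pow_succ', xm_sq C hr, mul_smul_comm, xm_mul C (k := 2) (by norm_num) hr, smul_smul]; norm_num

theorem xm_pow_four {r : ℕ} (hr : r < D.nroots) : xm D 1 r ^ 4 = 0 := by
  rw [pow_succ', xm_cube C hr, mul_smul_comm, xm_mul C (k := 3) (by norm_num) hr, xm_high C le_rfl hr]; simp

omit C in
/-- `ad` as a linear map -/
noncomputable def adL (D : ChevalleyDatum) : (D.Idx → ℤ) →ₗ[ℤ] Matrix D.Idx D.Idx ℤ :=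
  Fintype.linearCombination ℤ (Sum.elim (fun j : Fin D.rank => hm D j.val) (fun s : Fin D.nroots => xm D 1 s.val))

omit C in
theorem adI_eq (v : D.Idx → ℤ) : adI D v = adL D v := by
  simp [adI, adL, Fintype.linearCombination_apply]

omit C in
theorem adI_inl (j : Fin D.rank) : adI D (Pi.single (Sum.inl j) 1) = hm D j.val := by
  simp [adI_eq, adL, Fintype.linearCombination_apply_single]

omit C in
theorem adI_evec {s : ℕ} (hs : s < D.nroots) : adI D (evec D s) = xm D 1 s := by
  simp [evec_eq hs, adI_eq, adL, Fintype.linearCombination_apply_single]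

omit C in
/-- the derivation property at a vector -/
def BrkV (D : ChevalleyDatum) (r : ℕ) (v : D.Idx → ℤ) : Prop :=
  xm D 1 r * adI D v - adI D v * xm D 1 r = adI D (xm D 1 r *ᵥ v)

theorem hm_comm {r j : ℕ} (hr : r < D.nroots) (hj : j < D.rank) :
    xm D 1 r * hm D j - hm D j * xm D 1 r = (- D.cartan j r) • xm D 1 r := by
  ext row col
  rw [Matrix.sub_apply, hm, Matrix.mul_diagonal, Matrix.diagonal_mul, Matrix.smul_apply, smul_eq_mul]
  by_cases h : xm D 1 r row col = 0
  · simp [h]
  · have := xm_wgt C le_rfl hr h hj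
    simp only [wgt, Nat.cast_one, one_mul] at this
    rw [this]; ring

theorem brkV_inl {r : ℕ} (hr : r < D.nroots) (j : Fin D.rank) : BrkV D r (Pi.single (Sum.inl j) 1) := by
  rw [BrkV, adI_inl, hm_comm C hr j.isLt, xm_inl, if_pos rfl, adI_eq, map_smul, ← adI_eq, adI_evec hr]

omit C in
theorem mn_inl (eta : ℕ → ℕ → ℤ) {i : ℕ} (hi : i < D.rank) (j : Fin D.rank) :
    mn D eta i *ᵥ Pi.single (Sum.inl j) 1 =
      Pi.single (Sum.inl j) 1 - D.cartan j.val (D.simple i) • Pi.single (Sum.inl ⟨i, hi⟩) 1 := by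
  funext q
  rcases q with a | u
  · by_cases h2 : a.val = i
    · have h3 : a = ⟨i, hi⟩ := Fin.ext h2
      subst h3
      simp [mn, Pi.single_apply, Fin.ext_iff, eq_comm]
    · have h3 : a ≠ ⟨i, hi⟩ := fun h => h2 (by rw [h])
      simp [mn, h2, h3, Ne.symm h2, Pi.single_apply, eq_comm]
  · simp [mn, Pi.single_apply]

theorem mn_evec {i s : ℕ} (hi : i < D.rank) (hs : s < D.nroots) :
    mn D C.eta i *ᵥ evec D s = C.eta i s • evec D (wr D i s) := by
  rw [evec_eq hs, Matrix.mulVec_single_one]
  funext q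
  rcases q with a | u
  · simp [mn, evec]
  · by_cases h : u.val = wr D i s <;> simp [mn, evec, wr, h]

theorem mn_hvec {i r : ℕ} (hi : i < D.rank) (hr : r < D.nroots) :
    mn D C.eta i *ᵥ hvec D r = hvec D (wr D i r) := by
  rw [hvec_eq_sum, Matrix.mulVec_sum]
  simp only [Matrix.mulVec_smul, mn_inl C.eta hi, smul_sub, Finset.sum_sub_distrib, smul_smul]
  rw [← Finset.sum_smul, ← hvec_eq_sum,
    Fin.sum_univ_eq_sum_range (fun j => cc D r j * D.cartan j (D.simple i)), ← pairing_eq C]
  funext q
  rcases q with a | u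
  · by_cases h : a.val = i
    · have h3 : a = ⟨i, hi⟩ := Fin.ext h
      subst h3
      simp [hvec, C.cc_w i r i hi hr hi]
    · have h3 : a ≠ ⟨i, hi⟩ := fun h' => h (by rw [h'])
      simp [hvec, C.cc_w i r a.val hi hr a.isLt, h, h3, Pi.single_apply]
  · simp [hvec]

theorem eta_mul_self (i s : ℕ) : C.eta i s * C.eta i s = 1 := by
  rcases C.eta_sq i s with h | h <;> rw [h] <;> norm_num

/-- the four fold product of the reflection matrix is the identity -/
theorem mn_pow_four {i : ℕ} (hi : i < D.rank) : mn D C.eta i ^ 4 = 1 := by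
  have hsq : ∀ s, s < D.nroots → (mn D C.eta i * mn D C.eta i) *ᵥ evec D s =
      ((-1 : ℤ) ^ (D.cartan i s).natAbs) • evec D s := by
    intro s hs
    rw [← Matrix.mulVec_mulVec, mn_evec C hi hs, Matrix.mulVec_smul, mn_evec C hi (C.w_lt i s hi hs),
      smul_smul, w_invol C hi hs, C.eta_mul i s hi hs]
  have hinl : ∀ j : Fin D.rank, (mn D C.eta i * mn D C.eta i) *ᵥ Pi.single (Sum.inl j) 1 =
      Pi.single (Sum.inl j) 1 := by
    intro j
    rw [← Matrix.mulVec_mulVec, mn_inl C.eta hi, Matrix.mulVec_sub, Matrix.mulVec_smul, mn_inl C.eta hi,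
      mn_inl C.eta hi, show ((⟨i, hi⟩ : Fin D.rank) : ℕ) = i from rfl, cartan_self C hi]
    module
  rw [show mn D C.eta i ^ 4 = (mn D C.eta i * mn D C.eta i) * (mn D C.eta i * mn D C.eta i) by
    simp only [pow_succ, pow_zero, one_mul, mul_assoc]]
  refine ext_vec (fun j => ?_) (fun s hs => ?_)
  · rw [← Matrix.mulVec_mulVec, hinl, hinl, Matrix.one_mulVec]
  · rw [← Matrix.mulVec_mulVec, hsq s hs, Matrix.mulVec_smul, hsq s hs, smul_smul, Matrix.one_mulVec,
      ← mul_pow]
    simp

theorem mn_hm {i : ℕ} (hi : i < D.rank) {j : ℕ} (hj : j < D.rank) :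
    mn D C.eta i * hm D j = (hm D j - D.cartan j (D.simple i) • hm D i) * mn D C.eta i := by
  ext row col
  rw [Matrix.sub_mul, Matrix.smul_mul, Matrix.sub_apply, Matrix.smul_apply, hm, hm, Matrix.mul_diagonal,
    Matrix.diagonal_mul, Matrix.diagonal_mul, smul_eq_mul]
  rcases row with a | u <;> rcases col with b | s <;> simp [mn]
  by_cases h : u.val = D.reflectRoot i s.val
  · simp only [if_pos h]
    rw [h, show D.reflectRoot i s.val = wr D i s.val from rfl, cartan_w C hi hj s.isLt,
      cartan_w_self C hi s.isLt]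
    ring
  · simp [h]

theorem mn_chain {i r s : ℕ} (hi : i < D.rank) (hr : r < D.nroots) (hs : s < D.nroots) :
    hdN D (wr D i r) (wr D i s) =
      (hdN D r s).map fun q => (wr D i q.1, C.eta i r * C.eta i s * C.eta i q.1 * q.2) := by
  rcases h : hdN D r s with _ | q
  · rcases h' : hdN D (wr D i r) (wr D i s) with _ | q'
    · rfl
    · have := C.equiv i _ _ q' hi (C.w_lt i r hi hr) (C.w_lt i s hi hs) h'
      rw [w_invol C hi hr, w_invol C hi hs, h] at this
      simp at this
  · simpa using C.equiv i r s q hi hr hs h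

theorem mn_xm_one {i r : ℕ} (hi : i < D.rank) (hr : r < D.nroots) :
    mn D C.eta i * xm D 1 r = C.eta i r • (xm D 1 (wr D i r) * mn D C.eta i) := by
  have hwr := C.w_lt i r hi hr
  refine ext_vec (fun j => ?_) (fun s hs => ?_)
  · rw [Matrix.smul_mulVec, ← Matrix.mulVec_mulVec, ← Matrix.mulVec_mulVec, mn_inl C.eta hi, xm_inl,
      Matrix.mulVec_smul, mn_evec C hi hr, Matrix.mulVec_sub, Matrix.mulVec_smul, xm_inl, xm_inl,
      if_pos rfl, if_pos rfl, if_pos rfl, cartan_w C hi j.isLt hr,
      show ((⟨i, hi⟩ : Fin D.rank) : ℕ) = i from rfl, cartan_w_self C hi hr]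
    module
  · rw [Matrix.smul_mulVec, ← Matrix.mulVec_mulVec, ← Matrix.mulVec_mulVec, mn_evec C hi hs, Matrix.mulVec_smul]
    by_cases h1 : s = r
    · subst h1; rw [xm_self 1 hr, xm_self 1 hwr]; simp
    by_cases h2 : s = D.neg r
    · subst h2
      rw [xm_opp C 1 hr, if_pos rfl, mn_hvec C hi hr, w_neg C hi hr, xm_opp C 1 hwr, if_pos rfl, smul_smul,
        C.eta_neg i r hi hr, one_smul]
    have hws := C.w_lt i s hi hs
    have h1' : wr D i s ≠ wr D i r := fun h => h1 (w_inj C hi hs hr h)
    have h2' : wr D i s ≠ D.neg (wr D i r) := fun h => by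
      rw [← w_neg C hi hr] at h; exact h2 (w_inj C hi hs (C.neg_lt r) h)
    rw [xm_other 1 hs h1 h2, xm_other 1 hws h1' h2', show (1 - 1 : ℕ) = 0 from rfl, ← hdN_eq C, ← hdN_eq C,
      mn_chain C hi hr hs]
    rcases hq : hdN D r s with _ | q
    · simp
    · have hk : q.1 < D.nroots := by
        rw [hdN_eq C] at hq; exact (entry_getElem C hr hq).2.2.2.2.1
      simp only [Option.map_some]
      rw [Matrix.mulVec_smul, mn_evec C hi hk, smul_smul, smul_smul, smul_smul]
      congr 1
      have e1 := eta_mul_self C i r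
      have e2 := eta_mul_self C i s
      linear_combination (- q.2 * C.eta i q.1 * C.eta i r * C.eta i r) * e2 + (- q.2 * C.eta i q.1) * e1

theorem mn_adI {i : ℕ} (hi : i < D.rank) (v : D.Idx → ℤ) :
    mn D C.eta i * adI D v = adI D (mn D C.eta i *ᵥ v) * mn D C.eta i := by
  have : (LinearMap.mulLeft ℤ (mn D C.eta i)).comp (adL D) =
      (LinearMap.mulRight ℤ (mn D C.eta i)).comp ((adL D).comp (Matrix.mulVecLin (mn D C.eta i))) := by
    refine (Pi.basisFun ℤ D.Idx).ext fun q => ?_
    simp only [Pi.basisFun_apply, LinearMap.comp_apply, LinearMap.mulLeft_apply, LinearMap.mulRight_apply,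
      Matrix.mulVecLin_apply, ← adI_eq]
    rcases q with j | s
    · rw [mn_inl C.eta hi, adI_eq (Pi.single (Sum.inl j) 1 - _), map_sub, map_smul, ← adI_eq, ← adI_eq, adI_inl,
        adI_inl, mn_hm C hi j.isLt]
    · rw [← evec_eq s.isLt, mn_evec C hi s.isLt, adI_eq (C.eta i s.val • _), map_smul, ← adI_eq,
        adI_evec s.isLt, adI_evec (C.w_lt i _ hi s.isLt), mn_xm_one C hi s.isLt, smul_mul_assoc]
  simpa only [LinearMap.comp_apply, LinearMap.mulLeft_apply, LinearMap.mulRight_apply, Matrix.mulVecLin_apply,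
    ← adI_eq] using LinearMap.congr_fun this v

theorem brkV_transport {i r : ℕ} (hi : i < D.rank) (hr : r < D.nroots) {v : D.Idx → ℤ} (h : BrkV D r v) :
    BrkV D (wr D i r) (mn D C.eta i *ᵥ v) := by
  set M := mn D C.eta i with hM
  have h1 : M * xm D 1 r = C.eta i r • (xm D 1 (wr D i r) * M) := mn_xm_one C hi hr
  have h2 : M * adI D v = adI D (M *ᵥ v) * M := mn_adI C hi v
  have h3 := mn_adI C hi (xm D 1 r *ᵥ v)
  rw [← hM, Matrix.mulVec_mulVec, h1, Matrix.smul_mulVec, adI_eq (C.eta i r • _), map_smul, ← adI_eq,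
    ← h, smul_mul_assoc, mul_sub, ← mul_assoc, ← mul_assoc, h1, h2, smul_mul_assoc, mul_assoc _ M, h2,
    mul_assoc (adI D (M *ᵥ v)) M, h1, mul_smul_comm, ← mul_assoc, ← mul_assoc, ← smul_sub] at h3
  have hs : ∀ {A B : Matrix D.Idx D.Idx ℤ}, C.eta i r • A = C.eta i r • B → A = B := by
    intro A B hAB
    rcases C.eta_sq i r with e | e <;> rw [e] at hAB <;> simpa using hAB
  have h4 := hs h3
  rw [← sub_mul, ← Matrix.mulVec_mulVec] at h4
  have hM4 := mn_pow_four C hi
  rw [BrkV]
  calc _ = (xm D 1 (wr D i r) * adI D (M *ᵥ v) - adI D (M *ᵥ v) * xm D 1 (wr D i r)) * M ^ 4 := by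
        rw [hM, hM4, mul_one]
    _ = _ := by
        rw [show M ^ 4 = M * M ^ 3 from pow_succ' M 3, ← mul_assoc, h4, mul_assoc, ← pow_succ', hM, hM4, mul_one]

/-- `ad e_r` is a derivation -/
theorem brk {r : ℕ} (hr : r < D.nroots) (v : D.Idx → ℤ) : BrkV D r v := by
  induction hn : D.nroots - r using Nat.strong_induction_on generalizing r v with
  | _ n ih =>
    subst hn
    rcases C.brk r hr with ⟨i, hi, hlt⟩ | hbase
    · have hwr := C.w_lt i r hi hr
      have h := ih (D.nroots - wr D i r) (by omega) hwr ((mn D C.eta i ^ 3) *ᵥ v) rfl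
      have := brkV_transport C hi hwr h
      rwa [w_invol C hi hr, Matrix.mulVec_mulVec, ← pow_succ', mn_pow_four C hi, Matrix.one_mulVec] at this
    · have hb : ∀ s, s < D.nroots → BrkV D r (evec D s) := by
        intro s
        induction s using Nat.strong_induction_on with
        | _ s ihs =>
          intro hs
          rcases hbase s hs with ⟨i, hi, hfix, hlt⟩ | hat
          · have hws := C.w_lt i s hi hs
            have := brkV_transport C hi hr (ihs _ hlt hws)
            rw [w_fix C hi hr hfix, mn_evec C hi hws, w_invol C hi hs] at this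
            rcases C.eta_sq i (wr D i s) with e | e <;> rw [e] at this
            · simpa using this
            · rw [BrkV, adI_eq ((-1 : ℤ) • _), map_smul, ← adI_eq, Matrix.mulVec_smul, adI_eq ((-1 : ℤ) • _),
                map_smul, ← adI_eq, neg_one_smul, neg_one_smul, mul_neg, neg_mul, sub_neg_eq_add] at this
              rw [BrkV]
              linear_combination (norm := abel) (-1 : ℤ) • this
          · rw [BrkV, adI_evec hs, evec_eq hs, Matrix.mulVec_single_one]
            exact hat hs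
      have : (LinearMap.mulLeft ℤ (xm D 1 r) - LinearMap.mulRight ℤ (xm D 1 r)).comp (adL D) =
          (adL D).comp (Matrix.mulVecLin (xm D 1 r)) := by
        refine (Pi.basisFun ℤ D.Idx).ext fun q => ?_
        simp only [Pi.basisFun_apply, LinearMap.comp_apply, LinearMap.sub_apply, LinearMap.mulLeft_apply,
          LinearMap.mulRight_apply, Matrix.mulVecLin_apply, ← adI_eq]
        rcases q with j | s
        · exact brkV_inl C hr j
        · rw [← evec_eq s.isLt]; exact hb s.val s.isLt
      simpa only [BrkV, LinearMap.comp_apply, LinearMap.sub_apply, LinearMap.mulLeft_apply,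
        LinearMap.mulRight_apply, Matrix.mulVecLin_apply, ← adI_eq] using LinearMap.congr_fun this v

theorem mn_xm {i r k : ℕ} (hi : i < D.rank) (hr : r < D.nroots) (hk : 1 ≤ k) :
    mn D C.eta i * xm D k r = C.eta i r ^ k • (xm D k (wr D i r) * mn D C.eta i) := by
  induction k, hk using Nat.le_induction with
  | base => simpa using mn_xm_one C hi hr
  | succ k hk ih =>
    have hwr := C.w_lt i r hi hr
    have h : ((k : ℤ) + 1) • (mn D C.eta i * xm D (k + 1) r) =
        ((k : ℤ) + 1) • (C.eta i r ^ (k + 1) • (xm D (k + 1) (wr D i r) * mn D C.eta i)) := by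
      rw [← mul_smul_comm, ← xm_mul C hk hr, ← mul_assoc, mn_xm_one C hi hr, smul_mul_assoc, mul_assoc, ih,
        mul_smul_comm, ← mul_assoc, xm_mul C hk hwr, smul_mul_assoc, pow_succ]
      module
    exact smul_right_injective _ (by omega : ((k : ℤ) + 1) ≠ 0) h

theorem mn_xz {i r : ℕ} (hi : i < D.rank) (hr : r < D.nroots) (c : ℤ) :
    mn D C.eta i * xz D r c = xz D (wr D i r) (C.eta i r * c) * mn D C.eta i := by
  simp only [xz, mul_add, add_mul, mul_one, one_mul, mul_smul_comm, smul_mul_assoc, mn_xm C hi hr le_rfl,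
    mn_xm C hi hr (show 1 ≤ 2 by norm_num), mn_xm C hi hr (show 1 ≤ 3 by norm_num), pow_one, smul_smul, mul_pow]
  module

end Cfsg.Agent.ChevalleyAdjoint
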