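import Cfsg.Agent.Lib.ChevalleyParabolicBN

/-!
Reduced representatives of the cosets and double cosets of standard parabolic subgroups.
-/

set_option autoImplicit false
set_option linter.unusedSectionVars false
set_option linter.unusedSimpArgs false

namespace Cfsg.Agent.ChevalleyCells

open Cfsg.Lie Cfsg.Agent.ChevalleyEngine Cfsg.Agent.ChevalleyCert Cfsg.Agent.ChevalleyRoots
  Cfsg.Agent.ChevalleyCore Cfsg.Agent.ChevalleyUnipotent Cfsg.Agent.ChevalleyParabolic
  Cfsg.Agent.ChevalleyParabolicBN Cfsg.Agent.ChevBruhat Cfsg.Agent.ChevBruhat.Sys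
open scoped Classical

variable {D : ChevalleyDatum} {F : Type*} [Field F] (C : Cert D) (S : ChevBruhat.Sys D F)
include C S

local notation "B₀" => D.borelSubgroup F
local notation "N₀" => D.monomialSubgroup F

theorem simple_mul_self (i : Fin D.rank) : S.X.C.simple i * S.X.C.simple i = 1 :=
  S.X.C.toCoxeterSystem.simple_mul_simple_self i

theorem img_simple_wr (i : Fin D.rank) {r : ℕ} (hr : r < D.nroots) : S.X.img (S.X.C.simple i) r = wr D i r :=
  S.X.img_simple i hr

/-- the Weyl group acts linearly on the coefficients of the roots -/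
theorem coef_img (w : S.X.W) : ∀ {r : ℕ}, r < D.nroots → ∀ j < D.rank,
    C.coef (S.X.img w r) j = ∑ k ∈ Finset.range D.rank, C.coef r k * C.coef (S.X.img w (D.simple k)) j := by
  induction w using S.X.w_induction with
  | one =>
    intro r hr j hj
    rw [Finset.sum_eq_single j]
    · simp [C.coef_simple j j hj hj]
    · intro k hk hkj
      simp [C.coef_simple k j (Finset.mem_range.mp hk) hj, Ne.symm hkj]
    · intro h; exact absurd (Finset.mem_range.mpr hj) h
  | step i w ih =>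
    intro r hr j hj
    have hlt : ∀ {x}, x < D.nroots → S.X.img w x < D.nroots := fun hx => S.X.img_lt w hx
    have step : ∀ {x}, x < D.nroots → C.coef (S.X.img (S.X.C.simple i * w) x) j =
        C.coef (S.X.img w x) j - if j = i.val then D.cartan i (S.X.img w x) else 0 := fun {x} hx => by
      rw [S.X.img_mul, img_simple_wr C S i (hlt hx), C.coef_w i.val _ j i.isLt (hlt hx) hj]
    rw [step hr, ih hr j hj,
      Finset.sum_congr rfl fun k (hk : k ∈ Finset.range D.rank) =>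
        show C.coef r k * C.coef (S.X.img (S.X.C.simple i * w) (D.simple k)) j = C.coef r k *
            (C.coef (S.X.img w (D.simple k)) j - if j = i.val then D.cartan i (S.X.img w (D.simple k)) else 0) by
          rw [step (ChevalleyRoots.simple_lt C (Finset.mem_range.mp hk))]]
    simp only [mul_sub, Finset.sum_sub_distrib]
    congr 1
    split
    · rw [cartan_lin' C i.isLt (hlt hr), Finset.sum_congr rfl fun k (hk : k ∈ Finset.range D.rank) => by
        rw [ih hr k (Finset.mem_range.mp hk)]]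
      simp only [Finset.sum_mul]
      rw [Finset.sum_comm]
      refine Finset.sum_congr rfl fun l hl => ?_
      rw [cartan_lin' C i.isLt (hlt (ChevalleyRoots.simple_lt C (Finset.mem_range.mp hl))), Finset.mul_sum]
      exact Finset.sum_congr rfl fun k _ => mul_assoc _ _ _
    · simp

theorem deg_img (K : Set ℕ) (w : S.X.W) {r : ℕ} (hr : r < D.nroots) :
    deg C K (S.X.img w r) = ∑ k ∈ Finset.range D.rank, C.coef r k * deg C K (S.X.img w (D.simple k)) := by
  simp only [deg, Finset.mul_sum, mul_ite, mul_zero]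
  rw [Finset.sum_comm]
  refine Finset.sum_congr rfl fun j hj => ?_
  by_cases h : j ∈ K
  · simp [h]
  · simp only [if_neg h]
    exact coef_img C S w hr j (Finset.mem_range.mp hj)

theorem deg_img_wr (K : Set ℕ) (w : S.X.W) (i : Fin D.rank) {r : ℕ} (hr : r < D.nroots) :
    deg C K (S.X.img w (wr D i r)) =
      deg C K (S.X.img w r) - D.cartan i r * deg C K (S.X.img w (D.simple i)) := by
  rw [deg_img C S K w (C.w_lt i r i.isLt hr), deg_img C S K w hr,
    Finset.sum_congr rfl fun k hk => by rw [C.coef_w i r k i.isLt hr (Finset.mem_range.mp hk), sub_mul, ite_mul, zero_mul]]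
  rw [Finset.sum_sub_distrib, Finset.sum_ite_eq' _ i.val, if_pos (Finset.mem_range.mpr i.isLt)]

theorem deg_nonneg (K : Set ℕ) {r : ℕ} (hr : D.IsPosRoot r) : 0 ≤ deg C K r := by
  obtain ⟨hp, hlt⟩ := (ChevalleyRoots.isPos C).1 hr
  refine Finset.sum_nonneg fun j hj => ?_
  split
  · exact le_rfl
  · exact C.coef_pos r j hp hlt (Finset.mem_range.mp hj)

theorem deg_neg_root (K : Set ℕ) {r : ℕ} (hr : r < D.nroots) : deg C K (D.neg r) = - deg C K r := by
  rw [deg, deg, ← Finset.sum_neg_distrib]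
  refine Finset.sum_congr rfl fun j hj => ?_
  rw [C.coef_neg r j hr (Finset.mem_range.mp hj)]
  split <;> simp

theorem deg_nonpos (K : Set ℕ) {r : ℕ} (hr : D.IsNegRoot r) : deg C K r ≤ 0 := by
  have h := deg_nonneg C S K ((S.X.pos_neg_iff hr.1).mpr hr)
  rw [deg_neg_root C S K hr.1] at h
  omega

theorem deg_zero_mem (K : Set ℕ) {r : ℕ} (hr : D.IsPosRoot r) (h : deg C K r = 0) : D.InRootSub K r := by
  by_contra hn
  have := deg_out C hr hn
  omega

theorem deg_simple_mem {K : Set ℕ} {i : ℕ} (hi : i ∈ K) (hir : i < D.rank) : deg C K (D.simple i) = 0 :=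
  deg_in C (inRootSub_simple C hi hir)

/-- the generators of the Weyl group of `J` -/
def WJ (J : Set ℕ) : Subgroup S.X.W := Subgroup.closure (Set.image S.X.C.simple {i | i.val ∈ J})

theorem simple_mem_WJ {J : Set ℕ} {i : Fin D.rank} (h : i.val ∈ J) : S.X.C.simple i ∈ WJ S J :=
  Subgroup.subset_closure ⟨i, h, rfl⟩

theorem deg_img_WJ {K : Set ℕ} {b : S.X.W} (hb : b ∈ WJ S K) :
    ∀ {r : ℕ}, r < D.nroots → deg C K (S.X.img b r) = deg C K r := by
  induction hb using Subgroup.closure_induction with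
  | mem x hx =>
    intro r hr
    obtain ⟨i, hi, rfl⟩ := hx
    have h := deg_img_wr C S K 1 i hr
    rw [S.X.img_one, S.X.img_one, S.X.img_one, deg_simple_mem C S (K := K) hi i.isLt, mul_zero, sub_zero] at h
    rw [img_simple_wr C S i hr, h]
  | one => intro r _; rw [S.X.img_one]
  | mul x y _ _ hx hy => intro r hr; rw [S.X.img_mul, hx (S.X.img_lt y hr), hy hr]
  | inv x _ hx =>
    intro r hr
    have := hx (S.X.img_lt x⁻¹ hr)
    rw [S.X.img_img_inv] at this
    exact this.symm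

/-- `w` keeps the fundamental roots of `K` positive -/
def PosOn (K : Set ℕ) (w : S.X.W) : Prop :=
  ∀ i : Fin D.rank, i.val ∈ K → D.IsPosRoot (S.X.img w (D.simple i))

theorem posOn_root {K : Set ℕ} {w : S.X.W} (hw : PosOn S K w) {r : ℕ} (hr : D.IsPosRoot r)
    (hK : D.InRootSub K r) : D.IsPosRoot (S.X.img w r) := by
  refine S.X.pos_img_of_simples w hr fun k hk h0 => hw ⟨k, hk⟩ ?_
  by_contra hkK
  exact h0 (hK.2 k hk hkK)

theorem neg_of_posOn {K : Set ℕ} {w : S.X.W} (hw : PosOn S K w) {r : ℕ} (hr : r < D.nroots)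
    (hK : D.InRootSub K r) (hn : D.IsNegRoot r) : D.IsNegRoot (S.X.img w r) := by
  have h := posOn_root C S hw ((S.X.pos_neg_iff hn.1).mpr hn) (inRootSub_neg C hr hK)
  rw [S.X.img_neg w hr] at h
  exact (S.X.pos_neg_iff (S.X.img_lt w hr)).mp h

/-- two reduced representatives of the same double coset are equal -/
theorem reduced_unique {J K : Set ℕ} {w w' a b : S.X.W} (hwJ : PosOn S J w⁻¹) (hwK : PosOn S K w)
    (hwJ' : PosOn S J w'⁻¹) (hwK' : PosOn S K w') (ha : a ∈ WJ S J) (hb : b ∈ WJ S K) (he : w' = a * w * b) :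
    w = w' := by
  set y : ℕ → ℤ := fun r => deg C K (S.X.img w⁻¹ r) with hy
  set y' : ℕ → ℤ := fun r => deg C K (S.X.img w'⁻¹ r) with hy'
  have hrel : ∀ r, r < D.nroots → y' r = y (S.X.img a⁻¹ r) := by
    intro r hr
    simp only [hy, hy', he, mul_inv_rev]
    rw [S.X.img_mul, S.X.img_mul, deg_img_WJ C S (inv_mem hb) (S.X.img_lt _ (S.X.img_lt _ hr))]
  -- a descent of `a⁻¹` inside `J` does not move `y'`
  have key : ∀ k, ∀ a : S.X.W, S.X.inv a = k → a ∈ WJ S J → (∀ r, r < D.nroots → y' r = y (S.X.img a⁻¹ r)) →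
      ∀ r, r < D.nroots → y' r = y r := by
    intro k
    induction k using Nat.strong_induction_on with
    | _ k ih =>
      intro a hk haJ hrel r hr
      by_cases h1 : a = 1
      · rw [hrel r hr, h1, inv_one, S.X.img_one]
      obtain ⟨i, hi⟩ := S.X.exists_descent h1
      have hp := S.X.simple_lt i.isLt
      have hiJ : i.val ∈ J := by
        by_contra hiJ
        have h2 := deg_img_WJ C S (inv_mem haJ) hp
        have h3 := deg_nonpos C S J hi
        have hnot : ¬ D.InRootSub J (D.simple i) := fun h => by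
          have := (inRootSub_iff C hp).1 h i.val i.isLt hiJ
          rw [C.coef_simple i.val i.val i.isLt i.isLt, if_pos rfl] at this
          exact one_ne_zero this
        have h4 := deg_out C (S.X.simple_pos i.isLt) hnot
        omega
      have hzero : y' (D.simple i) = 0 := by
        refine le_antisymm ?_ (deg_nonneg C S K (hwJ' i hiJ))
        rw [hrel _ hp]
        -- `y` is non-negative on the positive roots of `J`, `a⁻¹ p` is negative
        have h5 : D.InRootSub J (D.neg (S.X.img a⁻¹ (D.simple i))) := by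
          refine deg_zero_mem C S J ((S.X.pos_neg_iff hi.1).mpr hi) ?_
          rw [deg_neg_root C S J hi.1, deg_img_WJ C S (inv_mem haJ) hp, deg_simple_mem C S hiJ i.isLt, neg_zero]
        have h6 := deg_nonneg C S K (posOn_root C S hwJ ((S.X.pos_neg_iff hi.1).mpr hi) h5)
        rw [S.X.img_neg _ hi.1, deg_neg_root C S K (S.X.img_lt _ hi.1)] at h6
        simp only [hy]
        omega
      refine ih _ ?_ (S.X.C.simple i * a) rfl (mul_mem (simple_mem_WJ C S hiJ) haJ) ?_ r hr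
      · have := S.X.inv_simple_mul_of_neg i hi
        omega
      · intro r hr
        have hs : (S.X.C.simple i)⁻¹ = S.X.C.simple i := inv_eq_of_mul_eq_one_right (simple_mul_self C S i)
        rw [mul_inv_rev, hs, S.X.img_mul, img_simple_wr C S i hr, ← hrel _ (C.w_lt i r i.isLt hr)]
        simp only [hy'] at hzero ⊢
        rw [deg_img_wr C S K _ i hr, hzero, mul_zero, sub_zero]
  have hyy := key _ a rfl ha hrel
  have hv : ∀ r, r < D.nroots → deg C K (S.X.img (w⁻¹ * w') r) = deg C K r := by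
    intro r hr
    have h := hyy (S.X.img w' r) (S.X.img_lt _ hr)
    simp only [hy, hy', S.X.img_inv_img] at h
    rw [S.X.img_mul, ← h]
  rw [← inv_mul_eq_one]
  apply S.X.inv_eq_zero_iff.mp
  rw [ChevWeyl.Weyl.inv, Finset.card_eq_zero, Finset.eq_empty_iff_forall_notMem]
  intro r hr
  rw [S.X.mem_invSet] at hr
  obtain ⟨hp, hn⟩ := hr
  have h0 : deg C K r = 0 := by
    have := hv r hp.1
    have := deg_nonneg C S K hp
    have := deg_nonpos C S K hn
    omega
  have h1 := posOn_root C S hwK' hp (deg_zero_mem C S K hp h0)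
  have h3 : deg C K (D.neg (S.X.img (w⁻¹ * w') r)) = 0 := by
    rw [deg_neg_root C S K hn.1, hv r hp.1, h0, neg_zero]
  have h4 := deg_zero_mem C S K ((S.X.pos_neg_iff hn.1).mpr hn) h3
  have h5 := inRootSub_neg C (C.neg_lt _) h4
  rw [ChevalleyRoots.neg_neg' C hn.1] at h5
  have h2 := neg_of_posOn C S hwK hn.1 h5 hn
  rw [S.X.img_mul, S.X.img_img_inv] at h2
  exact S.X.not_pos_and_neg h1 h2

theorem inv_inv_eq (w : S.X.W) : S.X.inv w⁻¹ = S.X.inv w := by
  have key : ∀ v : S.X.W, ∀ r ∈ S.X.invSet v, D.neg (S.X.img v r) ∈ S.X.invSet v⁻¹ := by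
    intro v r hr
    rw [S.X.mem_invSet] at hr ⊢
    refine ⟨(S.X.pos_neg_iff hr.2.1).mpr hr.2, ?_⟩
    rw [S.X.img_neg _ hr.2.1, S.X.img_inv_img]
    refine (S.X.pos_neg_iff (C.neg_lt r)).mp ?_
    rw [ChevalleyRoots.neg_neg' C hr.1.1]
    exact hr.1
  have hle : ∀ v : S.X.W, S.X.inv v ≤ S.X.inv v⁻¹ := by
    intro v
    refine Finset.card_le_card_of_injOn (fun r => D.neg (S.X.img v r)) (fun r hr => key v r hr) ?_
    intro r hr r' hr' h
    rw [Finset.mem_coe, S.X.mem_invSet] at hr hr'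
    exact S.X.img_injective v (ChevalleyRoots.neg_inj C hr.2.1 hr'.2.1 h)
  have h1 := hle w
  have h2 := hle w⁻¹
  rw [inv_inv] at h2
  omega

/-! ### cells -/

/-- the double coset `B w B` -/
def InCell (g : GL D.Idx F) (w : S.X.W) : Prop :=
  ∃ b ∈ B₀, ∃ n : ↥(N₀), S.toW n = w ∧ ∃ b' ∈ B₀, g = b * n * b'

theorem cell_exists {g : GL D.Idx F} (hg' : g ∈ D.group F) : ∃ w, InCell S g w := by
  obtain ⟨b, hb, n, u, hu, rfl⟩ := S.exists_cell_form hg'
  exact ⟨_, b, hb, n, rfl, u, U_le_B (S.Uw_le_U _ hu), rfl⟩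

theorem cell_unique {g : GL D.Idx F} {w w' : S.X.W} (h : InCell S g w) (h' : InCell S g w') : w = w' := by
  obtain ⟨b, hb, n, rfl, u, hu, rfl⟩ := h
  obtain ⟨b', hb', n', rfl, u', hu', e⟩ := h'
  exact S.toW_unique hb hb' hu hu' e

theorem cell_mul_left {g b : GL D.Idx F} {w : S.X.W} (hb : b ∈ B₀) (h : InCell S g w) : InCell S (b * g) w := by
  obtain ⟨c, hc, n, rfl, u, hu, rfl⟩ := h
  exact ⟨b * c, mul_mem hb hc, n, rfl, u, hu, by group⟩

theorem cell_mul_right {g b : GL D.Idx F} {w : S.X.W} (hb : b ∈ B₀) (h : InCell S g w) : InCell S (g * b) w := by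
  obtain ⟨c, hc, n, rfl, u, hu, rfl⟩ := h
  exact ⟨c, hc, n, rfl, u * b, mul_mem hu hb, by group⟩

theorem cell_inv {g : GL D.Idx F} {w : S.X.W} (h : InCell S g w) : InCell S g⁻¹ w⁻¹ := by
  obtain ⟨c, hc, n, rfl, u, hu, rfl⟩ := h
  exact ⟨u⁻¹, inv_mem hu, n⁻¹, map_inv _ _, c⁻¹, inv_mem hc, by simp [mul_assoc]⟩

theorem cell_N (n : ↥(N₀)) : InCell S (n : GL D.Idx F) (S.toW n) :=
  ⟨1, one_mem _, n, rfl, 1, one_mem _, by group⟩

theorem cell_rule {g : GL D.Idx F} {w : S.X.W} (i : Fin D.rank) (h : InCell S g w) :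
    InCell S (S.nn (D.simple i) 1 * g) (S.X.C.simple i * w) ∨ InCell S (S.nn (D.simple i) 1 * g) w := by
  obtain ⟨b, hb, n, rfl, u, hu, rfl⟩ := h
  rcases S.rule i n hb with ⟨b₁, h1, b₂, h2, e⟩ | ⟨b₁, h1, b₂, h2, e⟩
  · refine Or.inl ⟨b₁, h1, S.sN i * n, by rw [map_mul, S.toW_sN], b₂ * u, mul_mem h2 hu, ?_⟩
    rw [← mul_assoc, ← mul_assoc, e]
    simp [ChevBruhat.Sys.sN, mul_assoc]
  · refine Or.inr ⟨b₁, h1, n, rfl, b₂ * u, mul_mem h2 hu, ?_⟩
    rw [← mul_assoc, ← mul_assoc, e]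
    simp [mul_assoc]

/-- left multiplication by `P_J` stays in the cells of `W_J w` -/
theorem parabolic_mul_cell {J : Set ℕ} {x : GL D.Idx F} (hx : x ∈ D.parabolicSubgroup F J) :
    ∀ {g : GL D.Idx F} {w : S.X.W}, InCell S g w → ∃ a ∈ WJ S J, InCell S (x * g) (a * w) := by
  let Q : GL D.Idx F → Prop := fun x => ∀ (g : GL D.Idx F) (w : S.X.W), InCell S g w →
    (∃ a ∈ WJ S J, InCell S (x * g) (a * w)) ∧ ∃ a ∈ WJ S J, InCell S (x⁻¹ * g) (a * w)
  suffices Q x from fun {g w} h => (this g w h).1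
  let M : Subgroup (GL D.Idx F) :=
    { carrier := {x | Q x}
      one_mem' := fun g w h => ⟨⟨1, one_mem _, by simpa using h⟩, ⟨1, one_mem _, by simpa using h⟩⟩
      mul_mem' := fun {x y} hx hy g w h => by
        obtain ⟨a, ha, h1⟩ := (hy g w h).1
        obtain ⟨a', ha', h2⟩ := (hx _ _ h1).1
        obtain ⟨c, hc, h3⟩ := (hx g w h).2
        obtain ⟨c', hc', h4⟩ := (hy _ _ h3).2
        exact ⟨⟨a' * a, mul_mem ha' ha, by simpa [mul_assoc] using h2⟩,
          ⟨c' * c, mul_mem hc' hc, by simpa [mul_assoc] using h4⟩⟩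
      inv_mem' := fun {x} hx g w h => ⟨(hx g w h).2, by simpa using (hx g w h).1⟩ }
  suffices D.parabolicSubgroup F J ≤ M from this hx
  refine sup_le (fun b hb g w h => ⟨⟨1, one_mem _, by simpa using cell_mul_left C S hb h⟩,
    ⟨1, one_mem _, by simpa using cell_mul_left C S (inv_mem hb) h⟩⟩) ((Subgroup.closure_le _).2 ?_)
  rintro z ⟨j, hj, hjr, hz⟩
  obtain rfl : z = S.nn (D.simple j) 1 := Units.ext (hz.trans (S.coe_nn _ _).symm)
  intro g w h
  have hs := simple_mem_WJ C S (i := ⟨j, hjr⟩) hj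
  refine ⟨?_, ?_⟩
  · rcases cell_rule C S ⟨j, hjr⟩ h with h1 | h1
    · exact ⟨_, hs, h1⟩
    · exact ⟨1, one_mem _, by simpa using h1⟩
  · have hsq := S.nn_mul_nn_mem (S.X.simple_lt hjr) (one_ne_zero (α := F)) (one_ne_zero (α := F))
    have e : (S.nn (D.simple j) (1 : F))⁻¹ * g =
        S.nn (D.simple j) 1 * ((S.nn (D.simple j) 1 * S.nn (D.simple j) 1)⁻¹ * g) := by group
    rw [e]
    rcases cell_rule C S ⟨j, hjr⟩ (cell_mul_left C S (inv_mem (H_le_B hsq)) h) with h1 | h1
    · exact ⟨_, hs, h1⟩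
    · exact ⟨1, one_mem _, by simpa using h1⟩

/-- the cells meeting a double coset of parabolic subgroups -/
theorem double_cell {J K : Set ℕ} {x y g : GL D.Idx F} {w : S.X.W} (hx : x ∈ D.parabolicSubgroup F J)
    (hy : y ∈ D.parabolicSubgroup F K) (h : InCell S g w) :
    ∃ a ∈ WJ S J, ∃ b ∈ WJ S K, InCell S (x * g * y) (a * w * b) := by
  obtain ⟨c, hc, h1⟩ := parabolic_mul_cell C S (inv_mem hy) (cell_inv C S h)
  have h2 := cell_inv C S h1
  rw [mul_inv_rev, inv_inv, inv_inv, mul_inv_rev, inv_inv] at h2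
  obtain ⟨a, ha, h3⟩ := parabolic_mul_cell C S hx h2
  exact ⟨a, ha, c⁻¹, inv_mem hc, by rwa [mul_assoc a, mul_assoc x]⟩

theorem H_le_parabolic (J : Set ℕ) : D.diagonalSubgroup F ≤ D.parabolicSubgroup F J :=
  le_trans H_le_B le_sup_left

theorem sN_mem_parabolic {J : Set ℕ} {i : Fin D.rank} (hi : i.val ∈ J) :
    (S.sN i : GL D.Idx F) ∈ D.parabolicSubgroup F J :=
  (le_sup_right : _ ≤ D.parabolicSubgroup F J)
    (Subgroup.subset_closure ⟨i.val, hi, i.isLt, S.coe_nn _ _⟩)

/-- each double coset contains a reduced cell -/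
theorem exists_reduced {g : GL D.Idx F} (hg' : g ∈ D.group F) (J K : Set ℕ) :
    ∃ n : ↥(N₀), PosOn S J (S.toW n)⁻¹ ∧ PosOn S K (S.toW n) ∧
      ∃ x ∈ D.parabolicSubgroup F J, ∃ y ∈ D.parabolicSubgroup F K, g = x * n * y := by
  obtain ⟨b, hb, n, u, hu, rfl⟩ := S.exists_cell_form hg'
  have h0 : ∃ k, ∃ m : ↥(N₀), S.X.inv (S.toW m) = k ∧
      ∃ x ∈ D.parabolicSubgroup F J, ∃ y ∈ D.parabolicSubgroup F K, b * n * u = x * m * y :=
    ⟨_, n, rfl, b, (le_sup_left : B₀ ≤ _) hb, u, (le_sup_left : B₀ ≤ _) (U_le_B (S.Uw_le_U _ hu)), rfl⟩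
  obtain ⟨m, hm, x, hx, y, hy, e⟩ := Nat.find_spec h0
  have hmin : ∀ m' : ↥(N₀), S.X.inv (S.toW m') < S.X.inv (S.toW m) →
      ¬ ∃ x ∈ D.parabolicSubgroup F J, ∃ y ∈ D.parabolicSubgroup F K, b * n * u = x * m' * y :=
    fun m' hlt h => Nat.find_min h0 (hm ▸ hlt) ⟨m', rfl, h⟩
  refine ⟨m, fun i hi => ?_, fun i hi => ?_, x, hx, y, hy, e⟩
  · by_contra hc
    have hn := (S.X.pos_or_neg (S.X.img_lt _ (S.X.simple_lt i.isLt))).resolve_left hc
    refine hmin (S.sN i * m) ?_ ⟨x * (S.sN i : GL D.Idx F)⁻¹,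
      mul_mem hx (inv_mem (sN_mem_parabolic C S hi)), y, hy, ?_⟩
    · have := S.X.inv_simple_mul_of_neg i hn
      rw [map_mul, S.toW_sN]
      omega
    · rw [e]; simp [mul_assoc]
  · by_contra hc
    have hn := (S.X.pos_or_neg (S.X.img_lt _ (S.X.simple_lt i.isLt))).resolve_left hc
    refine hmin (m * S.sN i) ?_ ⟨x, hx, (S.sN i : GL D.Idx F)⁻¹ * y,
      mul_mem (inv_mem (sN_mem_parabolic C S hi)) hy, ?_⟩
    · have h2 : D.IsNegRoot (S.X.img ((S.toW m)⁻¹)⁻¹ (D.simple i)) := by rw [inv_inv]; exact hn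
      have := S.X.inv_simple_mul_of_neg i h2
      rw [map_mul, S.toW_sN, ← inv_inv_eq C S (S.toW m * S.X.C.simple i), mul_inv_rev,
        inv_eq_of_mul_eq_one_right (simple_mul_self C S i), ← inv_inv_eq C S (S.toW m)]
      omega
    · rw [e]; simp [mul_assoc]

/-- reduced representatives in one double coset have the same Weyl group element -/
theorem reduced_eq {J K : Set ℕ} {x y : GL D.Idx F} {n n' : ↥(N₀)} (hx : x ∈ D.parabolicSubgroup F J)
    (hy : y ∈ D.parabolicSubgroup F K) (hJ : PosOn S J (S.toW n)⁻¹) (hK : PosOn S K (S.toW n))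
    (hJ' : PosOn S J (S.toW n')⁻¹) (hK' : PosOn S K (S.toW n'))
    (he : (n' : GL D.Idx F) = x * n * y) : S.toW n = S.toW n' := by
  obtain ⟨a, ha, b, hb, h⟩ := double_cell C S hx hy (cell_N C S n)
  rw [← he] at h
  exact reduced_unique C S hJ hK hJ' hK' ha hb (cell_unique C S (cell_N C S n') h)

/-- the parabolic subgroup only meets the opposite radical trivially -/
theorem parabolic_le_weight (J : Set ℕ) : D.parabolicSubgroup F J ≤ upperAt (wJ C J) 0 := by
  rw [parabolic_eq C]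
  refine sup_le (fun g hg' => H_mem_weight C hg') ((Subgroup.closure_le _).2 ?_)
  rintro g ⟨r, t, hr, hg'⟩
  obtain rfl := (xg_eq_iff C).1 hg'
  have hrl : r < D.nroots := by rcases hr with h | h <;> exact h.1
  refine xg_mem_weight C hrl (fun k hk a b hab => ?_) t
  have h1 := xm_wJ C (J := J) hk hrl hab
  have h2 : 0 ≤ deg C J r := by
    rcases hr with h | h
    · exact deg_nonneg C S J h
    · rw [deg_in C h]
  have : (0 : ℤ) ≤ k * deg C J r := mul_nonneg (by positivity) h2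
  push_cast
  omega

/-- a cell of a reduced element maps injectively to the cosets of the parabolic subgroup -/
theorem conj_mem_B {K : Set ℕ} {n : ↥(N₀)} (hn : PosOn S K (S.toW n)) {b : GL D.Idx F} (hb : b ∈ B₀)
    (h : (n : GL D.Idx F)⁻¹ * b * n ∈ D.parabolicSubgroup F K) : (n : GL D.Idx F)⁻¹ * b * n ∈ B₀ := by
  obtain ⟨c, hc, u, hu, e⟩ := S.exists_form n⁻¹ hb
  simp only [Subgroup.coe_inv] at e
  set v := (n : GL D.Idx F)⁻¹ * u * n with hv
  have e' : (n : GL D.Idx F)⁻¹ * b * n = c * v := by rw [e, hv]; group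
  have hv' : v ∈ upperAt (fun q => - wJ C K q) 1 := by
    have hvv : v = ((n⁻¹ : ↥(N₀)) : GL D.Idx F) * u * ((n⁻¹ : ↥(N₀)) : GL D.Idx F)⁻¹ := by
      simp [hv]
    rw [hvv]
    refine conj_closure_le (T := {g : GL D.Idx F | ∃ r t, r ∈ S.X.invSet (S.toW n⁻¹) ∧ g = S.xg r t}) _ ?_ hu
    rintro z ⟨r, t, hr, rfl⟩
    rw [S.X.mem_invSet] at hr
    obtain ⟨d, -, h1, -⟩ := S.acts_toW n⁻¹ r hr.1.1
    rw [h1, sys_xg C S]
    have hs := hr.2
    have hout : ¬ D.InRootSub K (D.neg (S.X.img (S.toW n⁻¹) r)) := by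
      intro hin
      have h3 := posOn_root C S hn ((S.X.pos_neg_iff hs.1).mpr hs) hin
      rw [S.X.img_neg _ hs.1, map_inv, S.X.img_img_inv] at h3
      exact S.X.not_pos_and_neg hr.1 ((S.X.pos_neg_iff hr.1.1).mp h3)
    have hdeg := deg_out C ((S.X.pos_neg_iff hs.1).mpr hs) hout
    rw [deg_neg_root C S K hs.1] at hdeg
    refine xg_mem_weight C hs.1 (fun k hk a b hab => ?_) _
    have h4 := xm_wJ C (J := K) hk hs.1 hab
    have : (k : ℤ) * deg C K (S.X.img (S.toW n⁻¹) r) ≤ -1 := by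
      nlinarith [show (1 : ℤ) ≤ k by exact_mod_cast hk]
    push_cast
    omega
  have hvP : v ∈ D.parabolicSubgroup F K := by
    have : v = c⁻¹ * ((n : GL D.Idx F)⁻¹ * b * n) := by rw [e']; group
    rw [this]
    exact mul_mem (inv_mem ((le_sup_left : B₀ ≤ _) hc)) h
  have hv1 : v = 1 := by
    have hP := parabolic_le_weight C S K hvP
    apply Units.ext
    ext i j
    by_contra hne
    have h1 := hP.1 i j (by rw [Matrix.sub_apply]; exact sub_ne_zero.2 hne)
    have h2 := hv'.1 i j (by rw [Matrix.sub_apply]; exact sub_ne_zero.2 hne)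
    simp only at h2
    push_cast at h1 h2
    omega
  rw [e', hv1, mul_one]
  exact hc

end Cfsg.Agent.ChevalleyCells
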