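import Cfsg.Agent.Lib.ChevalleyEngine

/-!
`Cert D`: the verified facts about the tables of a Chevalley datum from which the structure theory is derived.
-/

set_option autoImplicit false
set_option linter.unusedSimpArgs false

namespace Cfsg.Agent.ChevalleyCert

open Cfsg.Lie Cfsg.Agent.ChevalleyEngine

variable (D : ChevalleyDatum)

/-- first entry of the chain of `(r, s)`: the index of `r + s` and `N_{r,s}` -/
def hdN (r s : ℕ) : Option (ℕ × ℤ) := (D.chainEntry r s).head?

/-- reflection of roots in a fundamental root -/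
abbrev wr (i s : ℕ) : ℕ := D.reflectRoot i s

/-- the monomial `coef·x_r(c t^a u^b)` as a linear combination of operators -/
def xLin (r : ℕ) (c : ℤ) (a b : ℕ) : Lin :=
  [(1, 0, 0, []), (c, a, b, [Op.X 1 r]), (c ^ 2, 2 * a, 2 * b, [Op.X 2 r]), (c ^ 3, 3 * a, 3 * b, [Op.X 3 r])]

/-- integer matrix of `x_r(c)` -/
def xz (r : ℕ) (c : ℤ) : Matrix D.Idx D.Idx ℤ :=
  1 + c • xm D 1 r + c ^ 2 • xm D 2 r + c ^ 3 • xm D 3 r

/-- the monomial matrix of `n_{p_i}(1)` with signs `eta` -/
def mn (eta : ℕ → ℕ → ℤ) (i : ℕ) : Matrix D.Idx D.Idx ℤ :=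
  Matrix.of fun row col =>
    match row, col with
    | Sum.inl j', Sum.inl j =>
      (if j' = j then 1 else 0) - (if j'.val = i then D.cartan j.val (D.simple i) else 0)
    | Sum.inr s', Sum.inr s => if s'.val = D.reflectRoot i s.val then eta i s.val else 0
    | _, _ => 0

/-- integer linear extension of the adjoint representation -/
def adI (v : D.Idx → ℤ) : Matrix D.Idx D.Idx ℤ :=
  ∑ q : D.Idx, v q • Sum.elim (fun j : Fin D.rank => hm D j.val) (fun s : Fin D.nroots => xm D 1 s.val) q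

/-- `ad [e_r, e_s] = [ad e_r, ad e_s]` -/
def BrkAt (r s : ℕ) : Prop :=
  ∀ hs : s < D.nroots,
    xm D 1 r * xm D 1 s - xm D 1 s * xm D 1 r = adI D (fun q => xm D 1 r q (Sum.inr ⟨s, hs⟩))

/-- the commutator terms of `(r, s)` are those of the `r`-chain through `s` -/
def linTerms (r s : ℕ) : List (ℕ × ℤ × ℕ × ℕ) :=
  (D.chainEntry r s).zipIdx.map fun q => (q.1.1, q.1.2, q.2 + 1, 1)

/-- the roots `s, r + s, 2r + s, …` of the chain have commuting root vectors -/
def ChainComm (r s : ℕ) : Prop :=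
  ∀ a ∈ s :: (D.chainEntry r s).map Prod.fst, ∀ b ∈ s :: (D.chainEntry r s).map Prod.fst,
    a = b ∨ (b ≠ D.neg a ∧ hdN D a b = none)

/-- linear case of the commutator formula -/
def CaseA (r s : ℕ) : Prop := D.commTerms r s = linTerms D r s ∧ ChainComm D r s

/-- case reduced to the linear one by exchanging `r` and `s` -/
def CaseB (r s : ℕ) : Prop :=
  CaseA D s r ∧ ∃ (k m : ℕ) (C C' : ℤ), D.commTerms r s = [(k, C, 1, 1), (m, C', 1, 2)] ∧
    D.commTerms s r = [(k, -C, 1, 1), (m, C', 2, 1)]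

/-- left side of the commutator formula -/
def commLeft (r s : ℕ) : List Lin := [xLin s 1 0 1, xLin r 1 1 0]

/-- right side of the commutator formula -/
def commRight (r s : ℕ) : List Lin :=
  [xLin r 1 1 0, xLin s 1 0 1] ++
    (D.commTerms r s).map fun c => xLin c.1 (c.2.1 * (-1) ^ c.2.2.1) c.2.2.1 c.2.2.2

/-- the formula checked as an identity of polynomial matrices -/
def CaseC (r s : ℕ) : Prop :=
  ∀ (R : Type) [CommRing R] (t u : R), prodMat D t u (commLeft r s) = prodMat D t u (commRight D r s)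

/-- Facts about the tables of a datum. -/
structure Cert where
  /-- coefficients of the roots on the fundamental roots -/
  coef : ℕ → ℕ → ℤ
  /-- signs of the action of `n_{p_i}(1)` -/
  eta : ℕ → ℕ → ℤ
  neg_eq : ∀ r, r < D.nroots → D.neg r = D.nroots - 1 - r
  even : D.nroots % 2 = 0
  neg_lt : ∀ r, D.neg r < D.nroots
  simple_mem : ∀ i, i < D.rank → D.nroots / 2 ≤ D.simple i ∧ D.simple i < D.nroots
  row_sorted : ∀ r, r < D.nroots → ((D.chain.getD r #[]).toList.map Prod.fst).Nodup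
  row_ok : ∀ r, r < D.nroots → ∀ e ∈ (D.chain.getD r #[]).toList,
    e.1 < D.nroots ∧ e.1 ≠ r ∧ e.1 ≠ D.neg r ∧ e.2.toList ≠ [] ∧ e.2.toList.length ≤ 3 ∧
      ∀ q ∈ e.2.toList, q.1 < D.nroots ∧ q.1 ≠ r ∧ q.1 ≠ D.neg r
  step : ∀ r, r < D.nroots → ∀ e ∈ (D.chain.getD r #[]).toList, ∀ j (hj : j < e.2.toList.length),
    match hdN D r (e.2.toList[j]).1, e.2.toList[j + 1]? with
    | none, none => True
    | some a, some b => a.1 = b.1 ∧ ((j : ℤ) + 2) * b.2 = (e.2.toList[j]).2 * a.2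
    | _, _ => False
  antisym : ∀ r s, r < D.nroots → s < D.nroots → hdN D s r = (hdN D r s).map fun q => (q.1, -q.2)
  coef_add : ∀ r s q, r < D.nroots → s < D.nroots → hdN D r s = some q →
    ∀ j, j < D.rank → coef q.1 j = coef r j + coef s j
  coef_neg : ∀ r j, r < D.nroots → j < D.rank → coef (D.neg r) j = - coef r j
  coef_simple : ∀ i j, i < D.rank → j < D.rank → coef (D.simple i) j = if j = i then 1 else 0
  coef_bdd : ∀ r j, r < D.nroots → j < D.rank → -6 ≤ coef r j ∧ coef r j ≤ 6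
  coef_lex : ∀ r, r + 1 < D.nroots →
    ((List.range D.rank).foldl (fun a j => 13 * a + coef r j) 0) <
      ((List.range D.rank).foldl (fun a j => 13 * a + coef (r + 1) j) 0)
  coef_pos : ∀ r j, D.nroots / 2 ≤ r → r < D.nroots → j < D.rank → 0 ≤ coef r j
  isPos_iff : ∀ r, r < D.nroots → (D.IsPosRoot r ↔ D.nroots / 2 ≤ r)
  isNeg_iff : ∀ r, r < D.nroots → (D.IsNegRoot r ↔ r < D.nroots / 2)
  cc_zero_iff : ∀ r j, r < D.nroots → j < D.rank → (cc D r j = 0 ↔ coef r j = 0)
  cc_simple : ∀ i j, i < D.rank → j < D.rank → cc D (D.simple i) j = if j = i then 1 else 0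
  cc_gcd : ∀ r, r < D.nroots → ((List.range D.rank).map fun j => (cc D r j).natAbs).foldr Nat.gcd 0 = 1
  cartan_lin : ∀ i r, i < D.rank → r < D.nroots →
    D.cartan i r = ((List.range D.rank).map fun j => coef r j * D.cartan i (D.simple j)).sum
  pair_self : ∀ r, r < D.nroots → D.pairing r r = 2
  w_lt : ∀ i s, i < D.rank → s < D.nroots → wr D i s < D.nroots
  coef_w : ∀ i s j, i < D.rank → s < D.nroots → j < D.rank →
    coef (wr D i s) j = coef s j - if j = i then D.cartan i s else 0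
  cc_w : ∀ i s j, i < D.rank → s < D.nroots → j < D.rank →
    cc D (wr D i s) j = cc D s j - if j = i then D.pairing s (D.simple i) else 0
  eta_sq : ∀ i s, eta i s = 1 ∨ eta i s = -1
  eta_simple : ∀ i, i < D.rank → eta i (D.simple i) = -1
  eta_mul : ∀ i s, i < D.rank → s < D.nroots →
    eta i s * eta i (wr D i s) = (-1) ^ (D.cartan i s).natAbs
  eta_neg : ∀ i s, i < D.rank → s < D.nroots → eta i s * eta i (D.neg s) = 1
  equiv : ∀ i r s q, i < D.rank → r < D.nroots → s < D.nroots → hdN D r s = some q →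
    hdN D (wr D i r) (wr D i s) = some (wr D i q.1, eta i r * eta i s * eta i q.1 * q.2)
  nMat_eq : ∀ i, i < D.rank →
    xz D (D.simple i) 1 * xz D (D.neg (D.simple i)) (-1) * xz D (D.simple i) 1 = mn D eta i
  descend : ∀ r, D.nroots / 2 ≤ r → r < D.nroots → (∀ i, i < D.rank → r ≠ D.simple i) →
    ∃ i, i < D.rank ∧ D.nroots / 2 ≤ wr D i r ∧ wr D i r < r
  brk : ∀ r, r < D.nroots → (∃ i, i < D.rank ∧ r < wr D i r) ∨
    ∀ s, s < D.nroots → (∃ i, i < D.rank ∧ D.cartan i r = 0 ∧ wr D i s < s) ∨ BrkAt D r s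
  commOK : ∀ r s, r < D.nroots → s < D.nroots → s ≠ r → s ≠ D.neg r → D.chainEntry r s ≠ [] →
    CaseA D r s ∨ CaseB D r s ∨ CaseC D r s

end Cfsg.Agent.ChevalleyCert
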