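import Cfsg.Agent.Lib.ChevalleyCert

/-!
Boolean checks on fast packed copies of the tables, and their soundness.
-/

set_option autoImplicit false
set_option linter.unusedSimpArgs false

namespace Cfsg.Agent.ChevalleyCheck

open Cfsg.Lie Cfsg.Agent.ChevalleyEngine Cfsg.Agent.ChevalleyCert

/-- binary search tree of literals -/
inductive Tr where
  | leaf (v : ℕ)
  | node (m : ℕ) (a b : Tr)

def Tr.get : Tr → ℕ → ℕ
  | .leaf v, _ => v
  | .node m a b, r => cond (Nat.blt r m) (a.get r) (b.get r)

/-- packed tables -/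
structure Tables where
  heads : Tr
  coefs : Tr
  refl : Tr
  sgn : Tr
  cart : Tr
  coro : Tr

variable (D : ChevalleyDatum) (T : Tables)

def hd (r s : ℕ) : ℕ := Nat.land (T.heads.get r >>> (16 * s)) 65535

def dec (c : ℕ) : Option (ℕ × ℤ) := if c = 0 then none else some (c / 16 - 1, ((c % 16 : ℕ) : ℤ) - 8)

def coefT (r j : ℕ) : ℤ := (((T.coefs.get r >>> (5 * j)) % 32 : ℕ) : ℤ) - 16

def wT (i s : ℕ) : ℕ := (T.refl.get i >>> (8 * s)) % 256

def etaT (i s : ℕ) : ℤ := cond (Nat.beq ((T.sgn.get i >>> s) % 2) 1) (-1) 1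

def cartT (i s : ℕ) : ℤ := (((T.cart.get i >>> (4 * s)) % 16 : ℕ) : ℤ) - 8

def ccT (r j : ℕ) : ℤ := (((T.coro.get r >>> (5 * j)) % 32 : ℕ) : ℤ) - 16

def pairT (r s : ℕ) : ℤ := ((List.range D.rank).map fun j => ccT T r j * cartT T j s).sum

def negA (r : ℕ) : ℕ := D.nroots - 1 - r

/-- the chain of `(r, s)` recovered from the table of first entries -/
def chainT (r s : ℕ) : List (ℕ × ℤ) :=
  match dec (hd T r s) with
  | none => []
  | some a =>
    match dec (hd T r a.1) with
    | none => [a]
    | some b =>
      match dec (hd T r b.1) with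
      | none => [a, (b.1, a.2 * b.2 / 2)]
      | some c => [a, (b.1, a.2 * b.2 / 2), (c.1, a.2 * b.2 / 2 * c.2 / 3)]

def acc : Acc where
  neg := negA D
  cart := cartT T
  coro := ccT T
  entry := chainT T

abbrev row (r : ℕ) : List (ℕ × Array (ℕ × ℤ)) := (D.chain.getD r #[]).toList

def encHd (q : ℕ × ℤ) : ℕ := (q.1 + 1) * 16 + (q.2 + 8).toNat

def rowCode : List (ℕ × Array (ℕ × ℤ)) → ℕ → ℕ
  | [], _ => 0
  | e :: rest, base =>
    ((match e.2.toList with | [] => 0 | q :: _ => encHd q) + 65536 * rowCode rest (e.1 + 1)) <<< (16 * (e.1 - base))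

/-- increasing keys `≥ base`, non-empty chains with small entries -/
def rowShape : List (ℕ × Array (ℕ × ℤ)) → ℕ → Bool
  | [], _ => true
  | e :: rest, base =>
    Nat.ble base e.1 &&
    (match e.2.toList with
     | [] => false
     | q :: _ => decide (-7 ≤ q.2) && decide (q.2 ≤ 7) && Nat.blt q.1 4000) && rowShape rest (e.1 + 1)

/-! ### the checks -/

def chkBasic : Bool :=
  Nat.beq D.negIdx.size D.nroots && Nat.beq (D.nroots % 2) 0 && Nat.blt 0 D.nroots &&
  ((List.range D.nroots).all fun r => Nat.beq (D.neg r) (D.nroots - 1 - r)) &&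
  ((List.range D.rank).all fun i => Nat.ble (D.nroots / 2) (D.simple i) && Nat.blt (D.simple i) D.nroots)

def chkRows (lo len : ℕ) : Bool :=
  ((List.range' lo len).all fun r => rowShape (row D r) 0 && Nat.beq (rowCode (row D r) 0) (T.heads.get r)) &&
  ((List.range' lo len).all fun r => (row D r).all fun e =>
    Nat.blt e.1 D.nroots && !Nat.beq e.1 r && !Nat.beq e.1 (negA D r) && Nat.ble e.2.toList.length 3 &&
      e.2.toList.all fun q => Nat.blt q.1 D.nroots && !Nat.beq q.1 r && !Nat.beq q.1 (negA D r))

def stepL (r : ℕ) : List (ℕ × ℤ) → ℕ → Bool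
  | [], _ => true
  | q :: rest, j =>
    (match dec (hd T r q.1), rest with
     | none, [] => true
     | some a, b :: _ => Nat.beq a.1 b.1 && decide (((j : ℤ) + 2) * b.2 = q.2 * a.2)
     | _, _ => false) && stepL r rest (j + 1)

def chkStep (lo len : ℕ) : Bool :=
  (List.range' lo len).all fun r => (row D r).all fun e =>
    stepL T r e.2.toList 0 &&
    (match e.2.toList with
     | [] => false
     | q :: _ =>
       match dec (hd T e.1 r) with
       | none => false
       | some a => Nat.beq a.1 q.1 && decide (a.2 = -q.2))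

def biasOf : ℕ → ℕ
  | 0 => 0
  | l + 1 => 16 + 32 * biasOf l

/-- the packed copies of the Cartan integers and coroots are correct -/
def chkFast : Bool :=
  ((List.range D.rank).all fun i =>
    decide ((D.cartanSR.getD i #[]).toList = (List.range D.nroots).map (cartT T i))) &&
  ((List.range D.nroots).all fun r =>
    decide ((D.coroot.getD r #[]).toList = (List.range D.rank).map (ccT T r)))

def chkCoef : Bool :=
  ((List.range D.nroots).all fun r => (List.range D.rank).all fun j =>
    decide (-6 ≤ coefT T r j) && decide (coefT T r j ≤ 6) &&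
      decide (coefT T (negA D r) j = - coefT T r j) &&
      (Nat.blt r (D.nroots / 2) || decide (0 ≤ coefT T r j)) &&
      (decide (ccT T r j = 0) == decide (coefT T r j = 0))) &&
  ((List.range D.rank).all fun i => (List.range D.rank).all fun j =>
    decide (coefT T (D.simple i) j = if j = i then 1 else 0) && decide (ccT T (D.simple i) j = if j = i then 1 else 0)) &&
  ((List.range D.nroots).all fun r => (row D r).all fun e =>
    match e.2.toList with
    | [] => false
    | q :: _ => Nat.beq (T.coefs.get r + T.coefs.get e.1) (T.coefs.get q.1 + biasOf D.rank)) &&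
  ((List.range D.nroots).all fun r => Nat.ble D.nroots (r + 1) ||
    decide (((List.range D.rank).foldl (fun a j => 13 * a + coefT T r j) 0) <
      ((List.range D.rank).foldl (fun a j => 13 * a + coefT T (r + 1) j) 0)))

def chkLin (lo len : ℕ) : Bool :=
  (List.range' lo len).all fun r =>
    Nat.beq (((List.range D.rank).map fun j => (ccT T r j).natAbs).foldr Nat.gcd 0) 1 &&
    decide (pairT D T r r = 2) &&
    (decide (D.IsPosRoot r) == Nat.ble (D.nroots / 2) r) &&
    (decide (D.IsNegRoot r) == Nat.blt r (D.nroots / 2)) &&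
    (List.range D.rank).all fun i =>
      decide (cartT T i r = ((List.range D.rank).map fun j => coefT T r j * cartT T i (D.simple j)).sum)

def chkRefl (i : ℕ) : Bool :=
  decide (etaT T i (D.simple i) = -1) &&
  (List.range D.nroots).all fun s =>
    Nat.beq (wT T i s) (D.reflectRoot i s) && Nat.blt (wT T i s) D.nroots &&
    decide (etaT T i s * etaT T i (wT T i s) = (-1) ^ (cartT T i s).natAbs) &&
    decide (etaT T i s * etaT T i (negA D s) = 1) &&
    (List.range D.rank).all fun j =>
      decide (coefT T (wT T i s) j = coefT T s j - if j = i then cartT T i s else 0) &&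
      decide (ccT T (wT T i s) j = ccT T s j - if j = i then pairT D T s (D.simple i) else 0)

def chkEquivAt (i lo len : ℕ) : Bool :=
  (List.range' lo len).all fun r => (row D r).all fun e =>
    match e.2.toList with
    | [] => false
    | q :: _ =>
      match dec (hd T (wT T i r) (wT T i e.1)) with
      | none => false
      | some a => Nat.beq a.1 (wT T i q.1) &&
          decide (a.2 = etaT T i r * etaT T i e.1 * etaT T i q.1 * q.2)

def mnCol (i p : ℕ) : List Term :=
  if p < D.rank then [(p, 1, 0, 0), (i, - cartT T p (D.simple i), 0, 0)]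
  else [(D.rank + wT T i (p - D.rank), etaT T i (p - D.rank), 0, 0)]

def chkNMat (i : ℕ) : Bool :=
  colsEq D (acc D T) [xLin (D.simple i) 1 0 0, xLin (negA D (D.simple i)) (-1) 0 0, xLin (D.simple i) 1 0 0]
    (mnCol D T i)

def chkDescend : Bool :=
  (List.range D.nroots).all fun r => Nat.blt r (D.nroots / 2) ||
    (List.range D.rank).any (fun i => Nat.beq r (D.simple i)) ||
    (List.range D.rank).any fun i => Nat.ble (D.nroots / 2) (wT T i r) && Nat.blt (wT T i r) r

def basisOp (p : ℕ) : Op := if p < D.rank then Op.H p else Op.X 1 (p - D.rank)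

def brkLeft (r s : ℕ) : List Lin := [[(1, 0, 0, [Op.X 1 r, Op.X 1 s]), (-1, 0, 0, [Op.X 1 s, Op.X 1 r])]]

def brkRight (r s : ℕ) : List Lin :=
  [(colOp D (acc D T) (Op.X 1 r) (D.rank + s)).map fun pc => (pc.2, 0, 0, [basisOp D pc.1])]

def chkBrk : Bool :=
  (List.range D.nroots).all fun r =>
    (List.range D.rank).any (fun i => Nat.blt r (wT T i r)) ||
    (List.range D.nroots).all fun s =>
      (List.range D.rank).any (fun i => Nat.blt (wT T i s) s && decide (cartT T i r = 0)) ||
      prodEq D (acc D T) (brkLeft r s) (brkRight D T r s)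

def commA0 (r : ℕ) (e : ℕ × Array (ℕ × ℤ)) : Bool :=
  match e.2.toList with
  | [q] => Nat.beq (hd T e.1 q.1) 0 && !Nat.beq q.1 (negA D e.1) && !Nat.beq e.1 (negA D q.1)
  | _ => false

def caseAB (r s : ℕ) : Bool :=
  decide (D.commTerms r s = linTerms D r s) &&
    (s :: (D.chainEntry r s).map Prod.fst).all fun a => (s :: (D.chainEntry r s).map Prod.fst).all fun b =>
      Nat.beq a b || (!Nat.beq b (negA D a) && Nat.beq (hd T a b) 0)

def caseBB (r s : ℕ) : Bool :=
  (match D.commTerms r s with
   | [a, b] =>
      decide (D.commTerms r s = [(a.1, a.2.1, 1, 1), (b.1, b.2.1, 1, 2)]) &&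
      decide (D.commTerms s r = [(a.1, -a.2.1, 1, 1), (b.1, b.2.1, 2, 1)])
   | _ => false) && caseAB D T s r

def caseCB (r s : ℕ) : Bool :=
  ((D.commTerms r s).all fun c => Nat.blt c.1 D.nroots) && prodEq D (acc D T) (commLeft r s) (commRight D r s)

def chkComm (lo len : ℕ) : Bool :=
  (List.range' lo len).all fun r => (row D r).all fun e =>
    commA0 D T r e || caseAB D T r e.1 || caseBB D T r e.1 || caseCB D T r e.1

end Cfsg.Agent.ChevalleyCheck
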