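import Cfsg.Agent.Lib.ChevalleyCheck

/-!
Soundness of the checks: they produce a `Cert`.
-/

set_option autoImplicit false
set_option linter.unusedSimpArgs false

namespace Cfsg.Agent.ChevalleyCheckSound

open Cfsg.Lie Cfsg.Agent.ChevalleyEngine Cfsg.Agent.ChevalleyCert Cfsg.Agent.ChevalleyCheck

theorem allR {n : ℕ} {f : ℕ → Bool} (h : (List.range n).all f = true) {i : ℕ} (hi : i < n) : f i = true :=
  List.all_eq_true.1 h i (List.mem_range.2 hi)

theorem allR' {n : ℕ} {f : ℕ → Bool} (h : (List.range' 0 n).all f = true) {i : ℕ} (hi : i < n) : f i = true :=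
  List.all_eq_true.1 h i (by simp [List.mem_range'_1, hi])

theorem all_join {f : ℕ → Bool} (a m k : ℕ) (h1 : (List.range' a m).all f = true)
    (h2 : (List.range' (a + m) k).all f = true) : (List.range' a (m + k)).all f = true := by
  simp only [List.all_eq_true, List.mem_range'_1] at *
  intro x hx
  by_cases h : x < a + m
  · exact h1 x ⟨hx.1, h⟩
  · exact h2 x ⟨by omega, by omega⟩

theorem dec_encHd (q : ℕ × ℤ) (h1 : -7 ≤ q.2) (h2 : q.2 ≤ 7) : dec (encHd q) = some q := by
  obtain ⟨k, N⟩ := q
  simp only at h1 h2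
  obtain ⟨m, hm⟩ : ∃ m : ℕ, N + 8 = (m : ℤ) := ⟨(N + 8).toNat, by omega⟩
  have hm' : m < 16 := by omega
  have hN : N = (m : ℤ) - 8 := by omega
  simp only [encHd, dec, hm, Int.toNat_natCast]
  rw [if_neg (by omega)]
  congr 1
  refine Prod.ext ?_ ?_
  · simp only; omega
  · simp only
    have : ((k + 1) * 16 + m) % 16 = m := by omega
    rw [this, hN]

theorem rowCode_spec :
    ∀ (l : List (ℕ × Array (ℕ × ℤ))) (base s : ℕ), rowShape l base = true → base ≤ s →
      dec ((rowCode l base >>> (16 * (s - base))) % 65536) =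
        ((match l.find? (fun e => e.1 = s) with | none => [] | some e => e.2.toList) : List (ℕ × ℤ)).head? := by
  intro l
  induction l with
  | nil => intro base s _ _; simp [rowCode, dec]
  | cons e rest ih =>
    intro base s hsh hbs
    simp only [rowShape, Bool.and_eq_true, Nat.ble_eq] at hsh
    obtain ⟨⟨hbe, hhead⟩, hrest⟩ := hsh
    obtain ⟨el, hel⟩ : ∃ x, e.2.toList = x := ⟨_, rfl⟩
    rw [hel] at hhead
    rcases el with _ | ⟨q, qs⟩
    · simp at hhead
    simp only [Bool.and_eq_true, decide_eq_true_eq] at hhead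
    obtain ⟨⟨hq1, hq2⟩, hq3⟩ := hhead
    rw [Nat.blt_eq] at hq3
    have henc : encHd q < 65536 := by
      simp only [encHd]; omega
    simp only [rowCode, hel]
    rw [List.find?_cons]
    rcases Nat.lt_trichotomy s e.1 with h | h | h
    · rw [decide_eq_false (by omega : ¬ e.1 = s)]
      have hnone : rest.find? (fun e => decide (e.1 = s)) = none := by
        clear ih
        have : ∀ (l : List (ℕ × Array (ℕ × ℤ))) (b : ℕ), rowShape l b = true → s < b →
            l.find? (fun e => decide (e.1 = s)) = none := by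
          intro l
          induction l with
          | nil => intros; rfl
          | cons a l ih2 =>
            intro b hb hsb
            simp only [rowShape, Bool.and_eq_true, Nat.ble_eq] at hb
            rw [List.find?_cons_of_neg (by simp; omega)]
            exact ih2 (a.1 + 1) hb.2 (by omega)
        exact this rest (e.1 + 1) hrest (by omega)
      simp only [hnone, List.head?_nil]
      obtain ⟨d, hd'⟩ : ∃ d, 16 * (e.1 - base) = 16 * (s - base) + (d + 16) :=
        ⟨16 * (e.1 - base) - 16 * (s - base) - 16, by omega⟩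
      rw [hd', Nat.shiftLeft_eq, Nat.shiftRight_eq_div_pow]
      have : (encHd q + 65536 * rowCode rest (e.1 + 1)) * 2 ^ (16 * (s - base) + (d + 16)) / 2 ^ (16 * (s - base)) % 65536 = 0 := by
        rw [pow_add, pow_add, ← mul_assoc, mul_comm _ (2 ^ (16 * (s - base))), mul_assoc,
          Nat.mul_div_cancel_left _ (by positivity)]
        rw [show (2 : ℕ) ^ 16 = 65536 by norm_num, ← mul_assoc]
        exact Nat.mul_mod_left _ _
      rw [this]; simp [dec]
    · subst h
      simp only [decide_true, hel, List.head?_cons]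
      rw [Nat.shiftLeft_eq, Nat.shiftRight_eq_div_pow, Nat.mul_div_cancel _ (by positivity),
        Nat.add_mul_mod_self_left, Nat.mod_eq_of_lt henc, dec_encHd q hq1 hq2]
    · rw [decide_eq_false (by omega : ¬ e.1 = s)]
      simp only
      rw [← ih (e.1 + 1) s hrest (by omega)]
      congr 2
      rw [show 16 * (s - base) = 16 * (e.1 - base) + (16 + 16 * (s - (e.1 + 1))) by omega, Nat.shiftRight_add,
        Nat.shiftLeft_eq, Nat.shiftRight_eq_div_pow _ (16 * (e.1 - base)), Nat.mul_div_cancel _ (by positivity),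
        Nat.shiftRight_add]
      congr 1
      rw [Nat.shiftRight_eq_div_pow, show (2 : ℕ) ^ 16 = 65536 by norm_num,
        Nat.add_mul_div_left _ _ (by norm_num), Nat.div_eq_of_lt henc, zero_add]

variable {D : ChevalleyDatum} {T : Tables}

theorem basic_spec (h : chkBasic D = true) :
    D.nroots % 2 = 0 ∧ (∀ r, r < D.nroots → D.neg r = D.nroots - 1 - r) ∧ (∀ r, D.neg r < D.nroots) ∧
      (∀ i, i < D.rank → D.nroots / 2 ≤ D.simple i ∧ D.simple i < D.nroots) := by
  simp only [chkBasic, Bool.and_eq_true, Nat.beq_eq, Nat.blt_eq] at h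
  obtain ⟨⟨⟨⟨hsz, hev⟩, hpos⟩, hneg⟩, hsimp⟩ := h
  have hneg' : ∀ r, r < D.nroots → D.neg r = D.nroots - 1 - r := fun r hr => by
    simpa using allR hneg hr
  refine ⟨hev, hneg', fun r => ?_, fun i hi => ?_⟩
  · by_cases hr : r < D.nroots
    · rw [hneg' r hr]; omega
    · have : D.neg r = 0 := by
        simp only [ChevalleyDatum.neg]
        rw [Array.getD_eq_getD_getElem?, Array.getElem?_eq_none (by omega)]
        rfl
      omega
  · simpa using allR hsimp hi

theorem row_of (r : ℕ) (s : ℕ) : D.chainEntry r s =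
    match (row D r).find? (fun e => e.1 = s) with | none => [] | some e => e.2.toList := rfl

theorem hd_spec (h : chkRows D T 0 D.nroots = true) {r : ℕ} (hr : r < D.nroots) (s : ℕ) :
    dec (hd T r s) = hdN D r s := by
  simp only [chkRows, Bool.and_eq_true] at h
  have h1 := allR' h.1 hr
  simp only [Bool.and_eq_true, Nat.beq_eq] at h1
  have := rowCode_spec (row D r) 0 s h1.1 (Nat.zero_le _)
  rw [h1.2, Nat.sub_zero] at this
  rw [hdN, row_of, ← this, hd]
  congr 1
  exact Nat.and_two_pow_sub_one_eq_mod _ 16

theorem hd_zero (h : chkRows D T 0 D.nroots = true) {r : ℕ} (hr : r < D.nroots) {s : ℕ} (h0 : hd T r s = 0) :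
    hdN D r s = none := by
  rw [← hd_spec h hr s, h0]; simp [dec]

theorem rows_spec (hbas : chkBasic D = true) (h : chkRows D T 0 D.nroots = true) {r : ℕ} (hr : r < D.nroots) :
    ((row D r).map Prod.fst).Nodup ∧ ∀ e ∈ row D r,
      e.1 < D.nroots ∧ e.1 ≠ r ∧ e.1 ≠ D.neg r ∧ e.2.toList ≠ [] ∧ e.2.toList.length ≤ 3 ∧
        ∀ q ∈ e.2.toList, q.1 < D.nroots ∧ q.1 ≠ r ∧ q.1 ≠ D.neg r := by
  simp only [chkRows, Bool.and_eq_true] at h
  have h1 := allR' h.1 hr
  simp only [Bool.and_eq_true, Nat.beq_eq] at h1
  have hsorted : ∀ (l : List (ℕ × Array (ℕ × ℤ))) (b : ℕ), rowShape l b = true →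
      (l.map Prod.fst).Nodup ∧ ∀ e ∈ l, b ≤ e.1 ∧ e.2.toList ≠ [] := by
    intro l
    induction l with
    | nil => simp
    | cons e rest ih =>
      intro b hb
      simp only [rowShape, Bool.and_eq_true, Nat.ble_eq] at hb
      obtain ⟨i1, i2⟩ := ih (e.1 + 1) hb.2
      refine ⟨?_, ?_⟩
      · rw [List.map_cons, List.nodup_cons]
        refine ⟨fun hc => ?_, i1⟩
        obtain ⟨f, hf, he⟩ := List.mem_map.1 hc
        have := (i2 f hf).1; omega
      · intro f hf
        rcases List.mem_cons.1 hf with rfl | hf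
        · refine ⟨hb.1.1, fun hn => ?_⟩
          rw [hn] at hb; simp at hb
        · exact ⟨by have := (i2 f hf).1; omega, (i2 f hf).2⟩
  obtain ⟨g1, g2⟩ := hsorted _ _ h1.1
  refine ⟨g1, fun e he => ?_⟩
  have he' := List.all_eq_true.1 (allR' h.2 hr) e he
  simp only [Bool.and_eq_true, Bool.not_eq_true', Nat.blt_eq, Nat.ble_eq, List.all_eq_true,
    Bool.eq_false_iff, ne_eq, Nat.beq_eq, negA, ← (basic_spec hbas).2.1 r hr] at he'
  obtain ⟨⟨⟨⟨a, b⟩, c⟩, d⟩, e5⟩ := he'
  exact ⟨a, b, c, (g2 e he).2, d, fun q hq => ⟨(e5 q hq).1.1, (e5 q hq).1.2, (e5 q hq).2⟩⟩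

theorem entry_of_mem (hbas : chkBasic D = true) (h : chkRows D T 0 D.nroots = true) {r : ℕ} (hr : r < D.nroots)
    {e : ℕ × Array (ℕ × ℤ)} (he : e ∈ row D r) : D.chainEntry r e.1 = e.2.toList := by
  have hn := (rows_spec hbas h hr).1
  rw [row_of]
  have : ∀ l : List (ℕ × Array (ℕ × ℤ)), (l.map Prod.fst).Nodup → e ∈ l →
      l.find? (fun x => x.1 = e.1) = some e := by
    intro l
    induction l with
    | nil => simp
    | cons a l ih =>
      intro hnd hm
      rw [List.map_cons, List.nodup_cons] at hnd
      rcases List.mem_cons.1 hm with rfl | hm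
      · simp
      · have : a.1 ≠ e.1 := fun hc => hnd.1 (hc ▸ List.mem_map.2 ⟨e, hm, rfl⟩)
        rw [List.find?_cons_of_neg (by simp [this])]
        exact ih hnd.2 hm
  rw [this _ hn he]

theorem mem_of_entry {r s : ℕ} (hne : D.chainEntry r s ≠ []) :
    ∃ e ∈ row D r, e.1 = s ∧ D.chainEntry r s = e.2.toList := by
  rcases hf : (row D r).find? (fun e => e.1 = s) with _ | e
  · exact absurd (by rw [row_of, hf]) hne
  · exact ⟨e, List.mem_of_find?_eq_some hf, by simpa using List.find?_some hf, by rw [row_of, hf]⟩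

theorem bounded (hb : chkBasic D = true) (h : chkRows D T 0 D.nroots = true) : Bounded D := by
  intro r s k q hr _ hq
  have hne : D.chainEntry r s ≠ [] := by intro h0; rw [h0] at hq; simp at hq
  obtain ⟨e, he, _, heq⟩ := mem_of_entry hne
  rw [heq] at hq
  exact (((rows_spec hb h hr).2 e he).2.2.2.2.2 q (List.mem_of_getElem? hq)).1

theorem step_spec (hbas : chkBasic D = true) (h : chkRows D T 0 D.nroots = true) (hs : chkStep D T 0 D.nroots = true) {r : ℕ} (hr : r < D.nroots)
    {e : ℕ × Array (ℕ × ℤ)} (he : e ∈ row D r) :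
    (∀ j (hj : j < e.2.toList.length),
      match hdN D r (e.2.toList[j]).1, e.2.toList[j + 1]? with
      | none, none => True
      | some a, some b => a.1 = b.1 ∧ ((j : ℤ) + 2) * b.2 = (e.2.toList[j]).2 * a.2
      | _, _ => False) ∧
    ∀ q, e.2.toList.head? = some q → hdN D e.1 r = some (q.1, -q.2) := by
  have h1 := List.all_eq_true.1 (allR' hs hr) e he
  simp only [Bool.and_eq_true] at h1
  refine ⟨?_, ?_⟩
  · have gen : ∀ (l : List (ℕ × ℤ)) (j0 : ℕ), stepL T r l j0 = true → ∀ j (hj : j < l.length),
        match hdN D r (l[j]).1, l[j + 1]? with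
        | none, none => True
        | some a, some b => a.1 = b.1 ∧ (((j + j0 : ℕ) : ℤ) + 2) * b.2 = (l[j]).2 * a.2
        | _, _ => False := by
      intro l
      induction l with
      | nil => intro j0 _ j hj; simp at hj
      | cons q rest ih =>
        intro j0 hl j hj
        simp only [stepL, Bool.and_eq_true] at hl
        cases j with
        | zero =>
          have hd1 := hl.1
          rw [hd_spec h hr q.1] at hd1
          simp only [List.getElem_cons_zero, List.getElem?_cons_succ, Nat.zero_add]
          rcases hq : hdN D r q.1 with _ | a <;> rw [hq] at hd1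
          · cases rest <;> simp at hd1 ⊢
          · cases rest <;> simp at hd1 ⊢
            exact hd1
        | succ j =>
          simp only [List.getElem_cons_succ, List.getElem?_cons_succ]
          have := ih (j0 + 1) hl.2 j (by simpa using hj)
          rw [show j + 1 + j0 = j + (j0 + 1) by omega]
          exact this
    intro j hj
    simpa using gen _ 0 h1.1 j hj
  · intro q hq
    obtain ⟨el, hel⟩ : ∃ x, e.2.toList = x := ⟨_, rfl⟩
    rw [hel] at hq h1
    rcases el with _ | ⟨q', qs⟩
    · simp at hq
    simp only [List.head?_cons, Option.some.injEq] at hq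
    subst hq
    have h2 := h1.2
    simp only [hd_spec h ((rows_spec hbas h hr).2 e he).1] at h2
    rcases hx : hdN D e.1 r with _ | a <;> rw [hx] at h2 <;> simp at h2
    rw [← h2.1, ← h2.2]

theorem hdN_mem {r s : ℕ} {q : ℕ × ℤ} (h : hdN D r s = some q) :
    ∃ e ∈ row D r, e.1 = s ∧ e.2.toList.head? = some q := by
  have hne : D.chainEntry r s ≠ [] := by intro h0; rw [hdN, h0] at h; simp at h
  obtain ⟨e, he, h1, h2⟩ := mem_of_entry hne
  exact ⟨e, he, h1, by rw [← h2]; exact h⟩

theorem antisym_spec (hbas : chkBasic D = true) (h : chkRows D T 0 D.nroots = true) (hs : chkStep D T 0 D.nroots = true) {r s : ℕ} (hr : r < D.nroots)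
    (hs' : s < D.nroots) : hdN D s r = (hdN D r s).map fun q => (q.1, -q.2) := by
  rcases hq : hdN D r s with _ | q
  · rcases hq' : hdN D s r with _ | q'
    · rfl
    · obtain ⟨e, he, rfl, hh⟩ := hdN_mem hq'
      have := (step_spec hbas h hs hs' he).2 q' hh
      rw [hq] at this; simp at this
  · obtain ⟨e, he, rfl, hh⟩ := hdN_mem hq
    simpa using (step_spec hbas h hs hr he).2 q hh

theorem digits_add : ∀ (l a b c : ℕ), a + b = c + biasOf l →
    (∀ j, j < l → 10 ≤ a / 32 ^ j % 32 ∧ a / 32 ^ j % 32 ≤ 22) →
    (∀ j, j < l → 10 ≤ b / 32 ^ j % 32 ∧ b / 32 ^ j % 32 ≤ 22) →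
    (∀ j, j < l → 10 ≤ c / 32 ^ j % 32 ∧ c / 32 ^ j % 32 ≤ 22) →
    ∀ j, j < l → a / 32 ^ j % 32 + b / 32 ^ j % 32 = c / 32 ^ j % 32 + 16 := by
  intro l
  induction l with
  | zero => intro a b c _ _ _ _ j hj; omega
  | succ l ih =>
    intro a b c h ha hb hc j hj
    have a0 := ha 0 (by omega); have b0 := hb 0 (by omega); have c0 := hc 0 (by omega)
    simp only [pow_zero, Nat.div_one] at a0 b0 c0
    simp only [biasOf] at h
    cases j with
    | zero => simp only [pow_zero, Nat.div_one]; omega
    | succ j =>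
      have hdiv : a / 32 + b / 32 = c / 32 + biasOf l := by omega
      have key : ∀ x : ℕ, ∀ i, x / 32 ^ (i + 1) % 32 = x / 32 / 32 ^ i % 32 := fun x i => by
        rw [pow_succ', Nat.div_div_eq_div_mul]
      rw [key, key, key]
      exact ih _ _ _ hdiv (fun i hi => by rw [← key]; exact ha _ (by omega))
        (fun i hi => by rw [← key]; exact hb _ (by omega))
        (fun i hi => by rw [← key]; exact hc _ (by omega)) j (by omega)

theorem coefT_eq (r j : ℕ) : coefT T r j = ((T.coefs.get r / 32 ^ j % 32 : ℕ) : ℤ) - 16 := by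
  simp only [coefT, Nat.shiftRight_eq_div_pow, pow_mul]; norm_num

theorem coef_bdd (h : chkCoef D T = true) {r j : ℕ} (hr : r < D.nroots) (hj : j < D.rank) :
    -6 ≤ coefT T r j ∧ coefT T r j ≤ 6 := by
  simp only [chkCoef, Bool.and_eq_true] at h
  have := allR (allR h.1.1.1 hr) hj
  simp only [Bool.and_eq_true, decide_eq_true_eq] at this
  exact ⟨this.1.1.1.1, this.1.1.1.2⟩

theorem coef_add (hbas : chkBasic D = true) (hrows : chkRows D T 0 D.nroots = true) (h : chkCoef D T = true) {r s : ℕ} {q : ℕ × ℤ}
    (hr : r < D.nroots) (hs : s < D.nroots) (hq : hdN D r s = some q) {j : ℕ} (hj : j < D.rank) :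
    coefT T q.1 j = coefT T r j + coefT T s j := by
  obtain ⟨e, he, rfl, hh⟩ := hdN_mem hq
  have hqlt : q.1 < D.nroots := (((rows_spec hbas hrows hr).2 e he).2.2.2.2.2 q (List.mem_of_head? hh)).1
  have hb : ∀ x, x < D.nroots → ∀ i, i < D.rank →
      10 ≤ T.coefs.get x / 32 ^ i % 32 ∧ T.coefs.get x / 32 ^ i % 32 ≤ 22 := by
    intro x hx i hi
    have := coef_bdd h hx hi
    rw [coefT_eq] at this
    omega
  simp only [chkCoef, Bool.and_eq_true] at h
  have h1 := List.all_eq_true.1 (allR h.1.2 hr) e he
  obtain ⟨el, hel⟩ : ∃ x, e.2.toList = x := ⟨_, rfl⟩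
  rw [hel] at h1 hh
  rcases el with _ | ⟨q', qs⟩
  · simp at hh
  simp only [List.head?_cons, Option.some.injEq] at hh
  subst hh
  simp only [Nat.beq_eq] at h1
  have := digits_add D.rank _ _ _ h1 (hb r hr) (hb e.1 hs) (hb q'.1 hqlt) j hj
  simp only [coefT_eq]
  omega

theorem evalPairs_nil (q : D.Idx) : evalPairs D [] q = 0 := rfl

theorem basisOp_enc (q : D.Idx) :
    opMat D (basisOp D (enc D q)) =
      Sum.elim (fun j : Fin D.rank => hm D j.val) (fun s : Fin D.nroots => xm D 1 s.val) q := by
  rcases q with j | s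
  · simp [basisOp, enc, opMat, j.isLt]
  · simp [basisOp, enc, opMat]

theorem adI_eq_sum (ps : List (ℕ × ℤ)) (hps : ∀ pc ∈ ps, pc.1 < D.rank + D.nroots) :
    adI D (evalPairs D ps) = (ps.map fun pc => pc.2 • opMat D (basisOp D pc.1)).sum := by
  induction ps with
  | nil =>
    rw [List.map_nil, List.sum_nil, adI]
    exact Finset.sum_eq_zero fun q _ => by rw [evalPairs_nil, zero_smul]
  | cons pc ps ih =>
    have h1 : adI D (evalPairs D (pc :: ps)) =
        adI D (fun q => if pc.1 = enc D q then pc.2 else 0) + adI D (evalPairs D ps) := by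
      simp only [adI, ← Finset.sum_add_distrib, ← add_smul]
      exact Finset.sum_congr rfl fun q _ => by simp [evalPairs]
    rw [h1, ih fun x hx => hps x (List.mem_cons_of_mem _ hx), List.map_cons, List.sum_cons]
    congr 1
    obtain ⟨q₀, hq₀⟩ := exists_enc D (hps pc (List.mem_cons_self ..))
    rw [adI, Finset.sum_eq_single q₀]
    · rw [if_pos hq₀, hq₀, basisOp_enc]
    · intro q _ hne
      rw [if_neg (fun h => hne (enc_injective D (h.symm.trans hq₀))), zero_smul]
    · simp

theorem opR_int (o : Op) : opR D ℤ o = opMat D o := by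
  ext i j; simp [opR]

theorem brkAt_of (hA : AccOK D (acc D T)) (hb : Bounded D) (hneg : ∀ r, D.neg r < D.nroots) {r : ℕ} (hr : r < D.nroots) {s : ℕ}
    (h : prodEq D (acc D T) (brkLeft r s) (brkRight D T r s) = true) (hs0 : s < D.nroots) : BrkAt D r s := by
  intro hs
  have hin : ∀ pc ∈ colOp D (acc D T) (Op.X 1 r) (D.rank + s), pc.1 < D.rank + D.nroots := by
    intro pc hpc
    have := inRange_applyOp D hA hb (o := Op.X 1 r) hr (ts := [(D.rank + s, 1, 0, 0)])
      (by intro x hx; simp at hx; subst hx; simp; omega)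
    have := this (pc.1, pc.2 * 1, 0, 0) (by simp [applyOp]; exact hpc)
    exact this
  have okb : ∀ p, p < D.rank + D.nroots → OpOK D (basisOp D p) := by
    intro p hp
    unfold basisOp
    split
    · assumption
    · show p - D.rank < D.nroots; omega
  have hL : ProdOK D (brkLeft r s) := by
    intro L hL m hm o ho
    simp [brkLeft] at hL; subst hL
    simp at hm
    rcases hm with rfl | rfl <;> simp at ho <;> rcases ho with rfl | rfl <;> first | exact hr | exact hs0
  have hR : ProdOK D (brkRight D T r s) := by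
    intro L hL m hm o ho
    simp [brkRight] at hL; subst hL
    simp at hm
    obtain ⟨a, b, hab, rfl⟩ := hm
    simp at ho; subst ho
    exact okb a (hin _ hab)
  have key := prodMat_eq_of_prodEq D (1 : ℤ) 1 hA hb hL hR h
  simp only [prodMat, brkLeft, brkRight, linMat, monoMat, opR_int, List.map_cons, List.map_nil,
    List.map_map, List.prod_cons, List.prod_nil, mul_one, List.sum_cons, List.sum_nil, add_zero,
    pow_zero, Int.cast_one, one_smul, Int.cast_neg, neg_smul, opMat, Int.cast_id] at key
  rw [sub_eq_add_neg, key, show (fun q => xm D 1 r q (Sum.inr ⟨s, hs⟩)) =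
      evalPairs D (colOp D (acc D T) (Op.X 1 r) (D.rank + s)) from
    funext fun q => (evalPairs_colOp D hA (o := Op.X 1 r) hr q (Sum.inr ⟨s, hs⟩)).symm, adI_eq_sum _ hin]
  congr 1
  apply List.map_congr_left
  intro pc _
  simp only [Function.comp, monoMat, List.map_cons, List.map_nil, List.prod_cons, List.prod_nil, mul_one,
    pow_zero, opR_int, Int.cast_id]

theorem evalT_mnCol {i : ℕ} (hi : i < D.rank)
    (hc : ∀ p, p < D.rank → cartT T p (D.simple i) = D.cartan p (D.simple i)) (hw : ∀ s, s < D.nroots → wT T i s = D.reflectRoot i s)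
    (row col : D.Idx) : evalT D (1 : ℤ) 1 (mnCol D T i (enc D col)) row = mn D (etaT T) i row col := by
  rcases col with j | s
  · simp only [mnCol, enc, j.isLt, if_true, hc j.val j.isLt, evalT, termVal, List.map_cons, List.map_nil, List.sum_cons,
      List.sum_nil, add_zero, pow_zero, mul_one, Int.cast_id, mn, Matrix.of_apply]
    rcases row with j' | u
    · simp only [enc, Int.cast_one, Fin.ext_iff]
      by_cases h1 : j.val = j'.val <;> by_cases h2 : i = j'.val <;>
        simp [h1, h2, eq_comm, sub_eq_add_neg]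
    · have := j.isLt
      simp only [enc]
      rw [if_neg (by omega)]
      rw [if_neg (by omega : ¬ i = D.rank + u.val)]; simp
  · have hs : ¬ D.rank + s.val < D.rank := by omega
    simp only [mnCol, enc, hs, if_false, Nat.add_sub_cancel_left, evalT, termVal, List.map_cons, List.map_nil,
      List.sum_cons, List.sum_nil, add_zero, pow_zero, mul_one, Int.cast_id, mn, Matrix.of_apply]
    rcases row with j' | u
    · have := j'.isLt
      simp only [enc]; rw [if_neg (by omega)]
    · simp only [enc, hw s.val s.isLt]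
      by_cases h : u.val = D.reflectRoot i s.val
      · simp [h]
      · rw [if_neg (by omega), if_neg h]

theorem prodMat_xLin (R : Type) [CommRing R] (r : ℕ) (c : ℤ) :
    linMat D (1 : R) 1 (xLin r c 0 0) = (xz D r c).map Int.cast := by
  have hadd : ∀ A B : Matrix D.Idx D.Idx ℤ, (A + B).map (Int.cast : ℤ → R) = A.map Int.cast + B.map Int.cast :=
    fun A B => by ext; simp
  have hsmul : ∀ (k : ℤ) (A : Matrix D.Idx D.Idx ℤ),
      (k • A).map (Int.cast : ℤ → R) = (k : R) • A.map Int.cast := fun k A => by
        ext i j; simp only [Matrix.map_apply, Matrix.smul_apply, smul_eq_mul, Int.cast_mul]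
  simp only [xLin, linMat, monoMat, List.map_cons, List.map_nil, List.sum_cons, List.sum_nil, xz, hadd, hsmul,
    opR, opMat, List.prod_cons, List.prod_nil, mul_one, one_pow, Int.cast_one, one_smul, add_zero, pow_zero]
  rw [Matrix.map_one _ Int.cast_zero Int.cast_one]
  abel

theorem prodOK_xLin {r : ℕ} (hr : r < D.nroots) (c : ℤ) (a b : ℕ) :
    ∀ m ∈ xLin r c a b, ∀ o ∈ m.2.2.2, OpOK D o := by
  intro m hm o ho
  simp [xLin] at hm
  rcases hm with rfl | rfl | rfl | rfl <;> simp at ho <;> subst ho <;> exact hr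

/-- all checks succeed -/
structure AllChecks (D : ChevalleyDatum) (T : Tables) : Prop where
  basic : chkBasic D = true
  fast : chkFast D T = true
  rows : chkRows D T 0 D.nroots = true
  step : chkStep D T 0 D.nroots = true
  coef : chkCoef D T = true
  lin : chkLin D T 0 D.nroots = true
  refl : ∀ i, i < D.rank → chkRefl D T i = true
  equiv : ∀ i, i < D.rank → chkEquivAt D T i 0 D.nroots = true
  nmat : ∀ i, i < D.rank → chkNMat D T i = true
  descend : chkDescend D T = true
  brk : chkBrk D T = true
  comm : chkComm D T 0 D.nroots = true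

theorem rows_join (a m k : ℕ) (h1 : chkRows D T a m = true) (h2 : chkRows D T (a + m) k = true) :
    chkRows D T a (m + k) = true := by
  simp only [chkRows, Bool.and_eq_true] at *
  exact ⟨all_join a m k h1.1 h2.1, all_join a m k h1.2 h2.2⟩

theorem step_join (a m k : ℕ) (h1 : chkStep D T a m = true) (h2 : chkStep D T (a + m) k = true) :
    chkStep D T a (m + k) = true := all_join a m k h1 h2

theorem lin_join (a m k : ℕ) (h1 : chkLin D T a m = true) (h2 : chkLin D T (a + m) k = true) :
    chkLin D T a (m + k) = true := all_join a m k h1 h2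

theorem equiv_join (i a m k : ℕ) (h1 : chkEquivAt D T i a m = true) (h2 : chkEquivAt D T i (a + m) k = true) :
    chkEquivAt D T i a (m + k) = true := all_join a m k h1 h2

theorem comm_join (a m k : ℕ) (h1 : chkComm D T a m = true) (h2 : chkComm D T (a + m) k = true) :
    chkComm D T a (m + k) = true := all_join a m k h1 h2

theorem dec_eq_iff {P : Prop} [Decidable P] {b : Bool} (h : decide P = b) : P ↔ b = true := by
  subst h; simp

section OfChecks

variable (A : AllChecks D T)
include A

theorem bd : Bounded D := bounded A.basic A.rows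

theorem negA_eq {r : ℕ} (hr : r < D.nroots) : negA D r = D.neg r := ((basic_spec A.basic).2.1 r hr).symm

theorem cartT_eq {i s : ℕ} (hi : i < D.rank) (hs : s < D.nroots) : cartT T i s = D.cartan i s := by
  have h := A.fast; simp only [chkFast, Bool.and_eq_true] at h
  have h1 : (D.cartanSR.getD i #[]).toList = (List.range D.nroots).map (cartT T i) := by
    simpa using allR h.1 hi
  have h2 : (D.cartanSR.getD i #[]).getD s 0 = ((D.cartanSR.getD i #[]).toList).getD s 0 := by
    rw [Array.getD_eq_getD_getElem?, List.getD_eq_getElem?_getD, Array.getElem?_toList]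
  rw [ChevalleyDatum.cartan, h2, h1, List.getD_eq_getElem?_getD]
  simp [hs]

theorem ccT_eq {r j : ℕ} (hr : r < D.nroots) (hj : j < D.rank) : ccT T r j = cc D r j := by
  have h := A.fast; simp only [chkFast, Bool.and_eq_true] at h
  have h1 : (D.coroot.getD r #[]).toList = (List.range D.rank).map (ccT T r) := by simpa using allR h.2 hr
  have h2 : (D.coroot.getD r #[]).getD j 0 = ((D.coroot.getD r #[]).toList).getD j 0 := by
    rw [Array.getD_eq_getD_getElem?, List.getD_eq_getElem?_getD, Array.getElem?_toList]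
  rw [cc, h2, h1, List.getD_eq_getElem?_getD]
  simp [hj]

theorem pairT_eq {r s : ℕ} (hr : r < D.nroots) (hs : s < D.nroots) : pairT D T r s = D.pairing r s := by
  unfold pairT ChevalleyDatum.pairing
  congr 1
  exact List.map_congr_left fun j hj => by
    rw [ccT_eq A hr (List.mem_range.1 hj), cartT_eq A (List.mem_range.1 hj) hs]; rfl

theorem chainT_eq {r s : ℕ} (hr : r < D.nroots) : chainT T r s = D.chainEntry r s := by
  unfold chainT
  rw [hd_spec A.rows hr s]
  by_cases hne : D.chainEntry r s = []
  · simp [hdN, hne]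
  obtain ⟨e, he, rfl, hent⟩ := mem_of_entry hne
  have hlen := ((rows_spec A.basic A.rows hr).2 e he).2.2.2.2.1
  have hst := (step_spec A.basic A.rows A.step hr he).1
  rw [hdN, hent]
  rcases hl : e.2.toList with _ | ⟨a, rest⟩
  · rw [hent, hl] at hne; exact absurd rfl hne
  simp only [List.head?_cons, hd_spec A.rows hr]
  have h0 := hst 0 (by simp [hl])
  simp only [hl, List.getElem_cons_zero, List.getElem?_cons_succ] at h0
  rcases ha : hdN D r a.1 with _ | b <;> rw [ha] at h0
  · rcases rest with _ | ⟨c, rest⟩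
    · rfl
    · simp at h0
  rcases rest with _ | ⟨b', rest⟩
  · simp at h0
  simp only [List.getElem?_cons_zero] at h0
  have hb : b' = (b.1, a.2 * b.2 / 2) := by
    refine Prod.ext h0.1.symm ?_
    simp only; omega
  have h1 := hst 1 (by simp [hl])
  simp only [hl, List.getElem_cons_succ, List.getElem_cons_zero, List.getElem?_cons_succ] at h1
  simp only [hd_spec A.rows hr]
  rw [show b'.1 = b.1 by rw [hb]] at h1
  rcases hbb : hdN D r b.1 with _ | c <;> rw [hbb] at h1
  · rcases rest with _ | ⟨c', rest⟩
    · rw [hb]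
    · simp at h1
  rcases rest with _ | ⟨c', rest⟩
  · simp at h1
  simp only [List.getElem?_cons_zero] at h1
  rcases rest with _ | ⟨d, rest⟩
  swap
  · rw [hl] at hlen; simp at hlen; omega
  have hc : c' = (c.1, a.2 * b.2 / 2 * c.2 / 3) := by
    refine Prod.ext h1.1.symm ?_
    have : b'.2 = a.2 * b.2 / 2 := by rw [hb]
    simp only; rw [← this]; omega
  rw [hb, hc]

theorem accOK : AccOK D (acc D T) where
  neg r hr := negA_eq A hr
  cart i s hi hs := cartT_eq A hi hs
  coro r j hr hj := ccT_eq A hr hj
  entry r s hr _ := chainT_eq A hr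

theorem chainRoot_none {r s : ℕ} (h : D.chainEntry r s = []) (k : ℕ) : D.chainRoot r s k = none := by
  simp [ChevalleyDatum.chainRoot, h]

theorem caseA_of_A0 {r : ℕ} (hr : r < D.nroots) {e : ℕ × Array (ℕ × ℤ)} (he : e ∈ row D r)
    (h : commA0 D T r e = true) : CaseA D r e.1 := by
  obtain ⟨q, hel⟩ : ∃ q, e.2.toList = [q] := by
    unfold commA0 at h
    split at h
    · rename_i q heq; exact ⟨q, heq⟩
    · simp at h
  have hrow := (rows_spec A.basic A.rows hr).2 e he
  have hs : e.1 < D.nroots := hrow.1
  have hk : q.1 < D.nroots := (hrow.2.2.2.2.2 q (by simp [hel])).1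
  simp only [commA0, hel, Bool.and_eq_true, Nat.beq_eq, Bool.not_eq_true', Bool.eq_false_iff, ne_eq,
    negA_eq A hs, negA_eq A hk] at h
  have hent : D.chainEntry r e.1 = [q] := by rw [entry_of_mem A.basic A.rows hr he, hel]
  have hsk : hdN D e.1 q.1 = none := hd_zero A.rows hs h.1.1
  have hks : hdN D q.1 e.1 = none := by rw [antisym_spec A.basic A.rows A.step hs hk, hsk]; rfl
  have hrev : D.chainEntry e.1 r = [(q.1, -q.2)] := by
    have hh : hdN D e.1 r = some (q.1, -q.2) := by
      rw [antisym_spec A.basic A.rows A.step hr hs, hdN, hent]; rfl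
    obtain ⟨f, hf, hfr, hfh⟩ := hdN_mem hh
    rw [← hfr, entry_of_mem A.basic A.rows hs hf]
    rcases hfl : f.2.toList with _ | ⟨a, _ | ⟨b, tl⟩⟩
    · rw [hfl] at hfh; simp at hfh
    · rw [hfl] at hfh; simpa using hfh
    · exfalso
      have hst := (step_spec A.basic A.rows A.step hs hf).1 0 (by simp [hfl])
      simp only [hfl, List.getElem_cons_zero, List.getElem?_cons_succ, List.getElem?_cons_zero] at hst
      rw [hfl] at hfh
      simp only [List.head?_cons, Option.some.injEq] at hfh
      rw [hfh, hsk] at hst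
      exact hst
  refine ⟨?_, ?_⟩
  · simp [ChevalleyDatum.commTerms, ChevalleyDatum.chainRoot, ChevalleyDatum.chainM, linTerms, hent, hrev]
  · intro a ha b hb
    simp [hent] at ha hb
    rcases ha with rfl | rfl <;> rcases hb with rfl | rfl
    · exact Or.inl rfl
    · exact Or.inr ⟨h.1.2, hsk⟩
    · exact Or.inr ⟨h.2, hks⟩
    · exact Or.inl rfl

theorem caseA_of_AB {r s : ℕ} (hr : r < D.nroots) (hs : s < D.nroots) (h : caseAB D T r s = true) :
    CaseA D r s := by
  simp only [caseAB, Bool.and_eq_true, decide_eq_true_eq, List.all_eq_true, Bool.or_eq_true,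
    Bool.not_eq_true', Bool.eq_false_iff, ne_eq, Nat.beq_eq] at h
  refine ⟨h.1, fun a ha b hb => ?_⟩
  rcases h.2 a ha b hb with h' | h'
  · exact Or.inl h'
  · have han : a < D.nroots := by
      rcases List.mem_cons.1 ha with rfl | ha
      · exact hs
      · obtain ⟨q, hq, rfl⟩ := List.mem_map.1 ha
        obtain ⟨k, hk⟩ := List.getElem?_of_mem hq
        exact bd A _ _ _ _ hr hs hk
    rw [negA_eq A han] at h'
    exact Or.inr ⟨h'.1, hd_zero A.rows han h'.2⟩

theorem caseB_of_BB {r s : ℕ} (hr : r < D.nroots) (hs : s < D.nroots) (h : caseBB D T r s = true) :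
    CaseB D r s := by
  simp only [caseBB, Bool.and_eq_true] at h
  refine ⟨caseA_of_AB A hs hr h.2, ?_⟩
  have h1 := h.1
  split at h1
  · rename_i a b heq
    simp only [Bool.and_eq_true, decide_eq_true_eq] at h1
    exact ⟨a.1, b.1, a.2.1, b.2.1, h1.1, h1.2⟩
  · simp at h1

theorem caseC_of_CB {r s : ℕ} (hr : r < D.nroots) (hs : s < D.nroots) (h : caseCB D T r s = true) :
    CaseC D r s := by
  simp only [caseCB, Bool.and_eq_true, List.all_eq_true, Nat.blt_eq] at h
  intro R _ t u
  refine prodMat_eq_of_prodEq D t u (accOK A) (bd A) ?_ ?_ h.2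
  · intro L hL
    simp [commLeft] at hL
    rcases hL with rfl | rfl
    · exact prodOK_xLin hs _ _ _
    · exact prodOK_xLin hr _ _ _
  · intro L hL
    simp only [commRight, List.mem_append, List.mem_cons, List.not_mem_nil, or_false, List.mem_map] at hL
    rcases hL with (rfl | rfl) | ⟨c, hc, rfl⟩
    · exact prodOK_xLin hr _ _ _
    · exact prodOK_xLin hs _ _ _
    · exact prodOK_xLin (h.1 c hc) _ _ _

theorem wT_eq {i s : ℕ} (hi : i < D.rank) (hs : s < D.nroots) :
    wT T i s = D.reflectRoot i s ∧ D.reflectRoot i s < D.nroots := by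
  have h1 := A.refl i hi
  simp only [chkRefl, Bool.and_eq_true] at h1
  have h2 := allR h1.2 hs
  simp only [Bool.and_eq_true, Nat.beq_eq, Nat.blt_eq] at h2
  exact ⟨h2.1.1.1.1, h2.1.1.1.1 ▸ h2.1.1.1.2⟩

/-- The verified checks give a certificate. -/
def certOfChecks : Cert D where
  coef := coefT T
  eta := etaT T
  neg_eq := (basic_spec A.basic).2.1
  even := (basic_spec A.basic).1
  neg_lt := (basic_spec A.basic).2.2.1
  simple_mem := (basic_spec A.basic).2.2.2
  row_sorted r hr := (rows_spec A.basic A.rows hr).1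
  row_ok r hr := (rows_spec A.basic A.rows hr).2
  step r hr e he := (step_spec A.basic A.rows A.step hr he).1
  antisym r s hr hs := antisym_spec A.basic A.rows A.step hr hs
  coef_add r s q hr hs hq j hj := coef_add A.basic A.rows A.coef hr hs hq hj
  coef_neg r j hr hj := by
    have := A.coef; simp only [chkCoef, Bool.and_eq_true] at this
    have := allR (allR this.1.1.1 hr) hj
    simp only [Bool.and_eq_true, decide_eq_true_eq] at this
    rw [negA_eq A hr] at this
    exact this.1.1.2
  coef_simple i j hi hj := by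
    have := A.coef; simp only [chkCoef, Bool.and_eq_true] at this
    have := allR (allR this.1.1.2 hi) hj
    simp only [Bool.and_eq_true, decide_eq_true_eq] at this
    exact this.1
  coef_bdd r j hr hj := coef_bdd A.coef hr hj
  coef_lex r hr := by
    have := A.coef; simp only [chkCoef, Bool.and_eq_true] at this
    have := allR this.2 (show r < D.nroots by omega)
    simp only [Bool.or_eq_true, Nat.ble_eq, decide_eq_true_eq] at this
    exact this.resolve_left (by omega)
  coef_pos r j h0 hr hj := by
    have := A.coef; simp only [chkCoef, Bool.and_eq_true] at this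
    have := allR (allR this.1.1.1 hr) hj
    simp only [Bool.and_eq_true, Bool.or_eq_true, Nat.blt_eq, decide_eq_true_eq] at this
    exact this.1.2.resolve_left (by omega)
  isPos_iff r hr := by
    have := A.lin; simp only [chkLin] at this
    have := allR' this hr
    simp only [Bool.and_eq_true, beq_iff_eq] at this
    have := this.1.1.2
    exact (dec_eq_iff this).trans (by simp)
  isNeg_iff r hr := by
    have := A.lin; simp only [chkLin] at this
    have := allR' this hr
    simp only [Bool.and_eq_true, beq_iff_eq] at this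
    have := this.1.2
    exact (dec_eq_iff this).trans (by simp)
  cc_zero_iff r j hr hj := by
    have := A.coef; simp only [chkCoef, Bool.and_eq_true] at this
    have := allR (allR this.1.1.1 hr) hj
    simp only [Bool.and_eq_true, beq_iff_eq] at this
    rw [ccT_eq A hr hj] at this
    exact (dec_eq_iff this.2).trans (by simp)
  cc_simple i j hi hj := by
    have := A.coef; simp only [chkCoef, Bool.and_eq_true] at this
    have := allR (allR this.1.1.2 hi) hj
    simp only [Bool.and_eq_true, decide_eq_true_eq] at this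
    rw [ccT_eq A ((basic_spec A.basic).2.2.2 i hi).2 hj] at this
    exact this.2
  cc_gcd r hr := by
    have := A.lin; simp only [chkLin] at this
    have := allR' this hr
    simp only [Bool.and_eq_true, Nat.beq_eq] at this
    rw [List.map_congr_left (fun j hj => by rw [ccT_eq A hr (List.mem_range.1 hj)] :
      ∀ j ∈ List.range D.rank, (ccT T r j).natAbs = (cc D r j).natAbs)] at this
    exact this.1.1.1.1
  cartan_lin i r hi hr := by
    have := A.lin; simp only [chkLin] at this
    have := allR' this hr
    simp only [Bool.and_eq_true] at this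
    have h := allR this.2 hi
    simp only [decide_eq_true_eq] at h
    rw [cartT_eq A hi hr, List.map_congr_left (fun j hj => by
      rw [cartT_eq A hi ((basic_spec A.basic).2.2.2 j (List.mem_range.1 hj)).2] :
      ∀ j ∈ List.range D.rank, coefT T r j * cartT T i (D.simple j) = coefT T r j * D.cartan i (D.simple j))] at h
    exact h
  pair_self r hr := by
    have := A.lin; simp only [chkLin] at this
    have := allR' this hr
    simp only [Bool.and_eq_true, decide_eq_true_eq] at this
    rw [pairT_eq A hr hr] at this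
    exact this.1.1.1.2
  w_lt i s hi hs := (wT_eq A hi hs).2
  coef_w i s j hi hs hj := by
    have h1 := A.refl i hi
    simp only [chkRefl, Bool.and_eq_true] at h1
    have h2 := allR h1.2 hs
    simp only [Bool.and_eq_true] at h2
    have h3 := allR h2.2 hj
    simp only [Bool.and_eq_true, decide_eq_true_eq] at h3
    rw [(wT_eq A hi hs).1, cartT_eq A hi hs] at h3
    exact h3.1
  cc_w i s j hi hs hj := by
    have h1 := A.refl i hi
    simp only [chkRefl, Bool.and_eq_true] at h1
    have h2 := allR h1.2 hs
    simp only [Bool.and_eq_true] at h2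
    have h3 := allR h2.2 hj
    simp only [Bool.and_eq_true, decide_eq_true_eq] at h3
    rw [(wT_eq A hi hs).1, ccT_eq A (wT_eq A hi hs).2 hj, ccT_eq A hs hj,
      pairT_eq A hs ((basic_spec A.basic).2.2.2 i hi).2] at h3
    exact h3.2
  eta_sq i s := by
    unfold etaT; cases Nat.beq ((T.sgn.get i >>> s) % 2) 1 <;> simp
  eta_simple i hi := by
    have h1 := A.refl i hi
    simp only [chkRefl, Bool.and_eq_true, decide_eq_true_eq] at h1
    exact h1.1
  eta_mul i s hi hs := by
    have h1 := A.refl i hi
    simp only [chkRefl, Bool.and_eq_true] at h1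
    have h2 := allR h1.2 hs
    simp only [Bool.and_eq_true, decide_eq_true_eq] at h2
    rw [(wT_eq A hi hs).1, cartT_eq A hi hs] at h2
    exact h2.1.1.2
  eta_neg i s hi hs := by
    have h1 := A.refl i hi
    simp only [chkRefl, Bool.and_eq_true] at h1
    have h2 := allR h1.2 hs
    simp only [Bool.and_eq_true, decide_eq_true_eq] at h2
    rw [negA_eq A hs] at h2
    exact h2.1.2
  equiv i r s q hi hr hs hq := by
    have h0 := A.equiv i hi; simp only [chkEquivAt] at h0
    obtain ⟨e, he, rfl, hh⟩ := hdN_mem hq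
    have h1 := List.all_eq_true.1 (allR' h0 hr) e he
    obtain ⟨el, hel⟩ : ∃ x, e.2.toList = x := ⟨_, rfl⟩
    rw [hel] at h1 hh
    rcases el with _ | ⟨q', qs⟩
    · simp at hh
    simp only [List.head?_cons, Option.some.injEq] at hh
    subst hh
    have hk : q'.1 < D.nroots := (((rows_spec A.basic A.rows hr).2 e he).2.2.2.2.2 q' (by simp [hel])).1
    simp only [(wT_eq A hi hr).1, (wT_eq A hi hs).1, (wT_eq A hi hk).1,
      hd_spec A.rows (wT_eq A hi hr).2] at h1
    rcases hx : hdN D (D.reflectRoot i r) (D.reflectRoot i e.1) with _ | a <;> rw [hx] at h1 <;> simp at h1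
    simp only [wr]
    rw [← h1.1, ← h1.2]
  nMat_eq i hi := by
    have h0 := A.nmat i hi
    have hsi := ((basic_spec A.basic).2.2.2 i hi).2
    have hP : ProdOK D [xLin (D.simple i) 1 0 0, xLin (D.neg (D.simple i)) (-1) 0 0, xLin (D.simple i) 1 0 0] := by
      intro L hL
      simp at hL
      rcases hL with rfl | rfl | rfl
      · exact prodOK_xLin hsi _ _ _
      · exact prodOK_xLin ((basic_spec A.basic).2.2.1 _) _ _ _
      · exact prodOK_xLin hsi _ _ _
    ext row col
    have hmap : ∀ X : Matrix D.Idx D.Idx ℤ, X.map (Int.cast : ℤ → ℤ) = X := fun X => by ext; simp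
    rw [chkNMat, negA_eq A hsi] at h0
    have := col_of_colsEq D (1 : ℤ) 1 (accOK A) (bd A) hP h0 row col
    rw [evalT_mnCol hi (fun p hp => cartT_eq A hp hsi) (fun s hs => (wT_eq A hi hs).1)] at this
    simp only [prodMat, List.map_cons, List.map_nil, List.prod_cons, List.prod_nil, mul_one,
      prodMat_xLin, hmap, ← mul_assoc] at this
    exact this
  descend r h0 hr hns := by
    have := allR A.descend hr
    simp only [Bool.or_eq_true, Nat.blt_eq, List.any_eq_true, List.mem_range, Bool.and_eq_true, Nat.ble_eq,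
      Nat.beq_eq] at this
    rcases this with (h | ⟨i, hi, h⟩) | ⟨i, hi, h⟩
    · omega
    · exact absurd h (hns i hi)
    · simp only [(wT_eq A hi hr).1] at h
      exact ⟨i, hi, h.1, h.2⟩
  brk r hr := by
    have := allR A.brk hr
    simp only [Bool.or_eq_true, List.any_eq_true, List.mem_range, Nat.blt_eq] at this
    rcases this with ⟨i, hi, h⟩ | h
    · exact Or.inl ⟨i, hi, by rw [(wT_eq A hi hr).1] at h; exact h⟩
    · refine Or.inr fun s hs => ?_
      have := allR h hs
      simp only [Bool.or_eq_true, List.any_eq_true, List.mem_range, Bool.and_eq_true, Nat.blt_eq,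
        decide_eq_true_eq] at this
      rcases this with ⟨i, hi, h1, h2⟩ | h2
      · rw [cartT_eq A hi hr] at h2
        exact Or.inl ⟨i, hi, h2, by rw [(wT_eq A hi hs).1] at h1; exact h1⟩
      · exact Or.inr (brkAt_of (accOK A) (bd A) (basic_spec A.basic).2.2.1 hr h2 hs)
  commOK r s hr hs _ _ hne := by
    obtain ⟨e, he, rfl, _⟩ := mem_of_entry hne
    have := List.all_eq_true.1 (allR' A.comm hr) e he
    simp only [Bool.or_eq_true] at this
    rcases this with ((h | h) | h) | h
    · exact Or.inl (caseA_of_A0 A hr he h)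
    · exact Or.inl (caseA_of_AB A hr hs h)
    · exact Or.inr (Or.inl (caseB_of_BB A hr hs h))
    · exact Or.inr (Or.inr (caseC_of_CB A hr hs h))

end OfChecks

end Cfsg.Agent.ChevalleyCheckSound
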