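import Cfsg.Prelude.Def_ChevStructure
import Cfsg.Prelude.Def_ChevAutomorphisms

/-!
Integer matrices of the divided powers of `ad e_r` for a `ChevalleyDatum`, and a small reflective engine that
compares products of sparse polynomial matrices column by column.
-/

set_option autoImplicit false
set_option linter.unusedSimpArgs false

namespace Cfsg.Agent.ChevalleyEngine

open Cfsg.Lie
open scoped Matrix

variable (D : ChevalleyDatum)

/-- coefficient `c_j(r)` of the coroot -/
def cc (r j : ℕ) : ℤ := (D.coroot.getD r #[]).getD j 0

/-- the integer matrix of `(ad e_r)^k / k!` for `k ≥ 1` -/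
def xm (k r : ℕ) : Matrix D.Idx D.Idx ℤ :=
  Matrix.of fun row col =>
    match col with
    | Sum.inl i =>
      (match row with
       | Sum.inl _ => 0
       | Sum.inr u => if k = 1 ∧ u.val = r then - D.cartan i.val r else 0)
    | Sum.inr s =>
      if s.val = r then 0
      else if s.val = D.neg r then
        (match row with
         | Sum.inl j => if k = 1 then cc D r j.val else 0
         | Sum.inr u => if k = 2 ∧ u.val = r then -1 else 0)
      else
        (match row with
         | Sum.inl _ => 0
         | Sum.inr u => if D.chainRoot r s.val k = some u.val then D.chainM r s.val k else 0)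

/-- the integer diagonal matrix `ad h_{p_j}` -/
def hm (j : ℕ) : Matrix D.Idx D.Idx ℤ :=
  Matrix.diagonal (Sum.elim (fun _ => 0) (fun s : Fin D.nroots => D.cartan j s.val))

/-- position of a basis vector -/
def enc : D.Idx → ℕ
  | Sum.inl i => i.val
  | Sum.inr r => D.rank + r.val

theorem enc_injective : Function.Injective (enc D) := by
  rintro (i | r) (j | s) h <;> simp [enc] at h
  · simpa [Fin.ext_iff] using h
  · have := i.isLt; omega
  · have := j.isLt; omega
  · simpa [Fin.ext_iff] using h

theorem enc_lt (q : D.Idx) : enc D q < D.rank + D.nroots := by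
  rcases q with i | r
  · have := i.isLt; simp [enc]; omega
  · have := r.isLt; simp [enc]

/-- fast accessors of the tables used by the engine -/
structure Acc where
  neg : ℕ → ℕ
  cart : ℕ → ℕ → ℤ
  coro : ℕ → ℕ → ℤ
  entry : ℕ → ℕ → List (ℕ × ℤ)

/-- the accessors agree with the datum -/
structure AccOK (A : Acc) : Prop where
  neg : ∀ r, r < D.nroots → A.neg r = D.neg r
  cart : ∀ i s, i < D.rank → s < D.nroots → A.cart i s = D.cartan i s
  coro : ∀ r j, r < D.nroots → j < D.rank → A.coro r j = cc D r j
  entry : ∀ r s, r < D.nroots → s < D.nroots → A.entry r s = D.chainEntry r s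

/-- elementary operators of the engine -/
inductive Op where
  | X (k r : ℕ)
  | H (j : ℕ)

def opMat : Op → Matrix D.Idx D.Idx ℤ
  | .X k r => xm D k r
  | .H j => hm D j

/-- operators with in-range indices -/
def OpOK : Op → Prop
  | .X _ r => r < D.nroots
  | .H j => j < D.rank

/-- the column of an operator at a position, as a list of (position, coefficient) -/
def colOp (A : Acc) : Op → ℕ → List (ℕ × ℤ)
  | .X k r, p =>
    if p < D.rank then (if k = 1 then [(D.rank + r, - A.cart p r)] else [])
    else
      let s := p - D.rank
      if s = r then []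
      else if s = A.neg r then
        (if k = 1 then (List.range D.rank).map fun j => (j, A.coro r j)
         else if k = 2 then [(D.rank + r, -1)] else [])
      else
        match (A.entry r s)[k - 1]? with
        | none => []
        | some q => [(D.rank + q.1, q.2)]
  | .H j, p => if p < D.rank then [] else [(p, A.cart j (p - D.rank))]

/-- a term `coef · t^i u^j · e_pos` -/
abbrev Term := ℕ × ℤ × ℕ × ℕ

def evalPairs (ps : List (ℕ × ℤ)) (q : D.Idx) : ℤ :=
  (ps.map fun e => if e.1 = enc D q then e.2 else 0).sum

theorem sum_range_ite (n p : ℕ) (f : ℕ → ℤ) :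
    (((List.range n).map fun j => (j, f j)).map fun e : ℕ × ℤ => if e.1 = p then e.2 else 0).sum
      = if p < n then f p else 0 := by
  rw [List.map_map]
  induction n with
  | zero => simp
  | succ n ih =>
    rw [List.range_succ, List.map_append, List.sum_append, ih]
    simp only [List.map_cons, List.map_nil, List.sum_cons, List.sum_nil, add_zero, Function.comp]
    by_cases h : n = p
    · subst h; simp
    · by_cases h2 : p < n
      · have : p < n + 1 := by omega
        simp [h, h2, this]
      · have : ¬ p < n + 1 := by omega
        simp [h, h2, this]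

theorem evalPairs_colOp {A : Acc} (hA : AccOK D A) {o : Op} (ho : OpOK D o) (row col : D.Idx) :
    evalPairs D (colOp D A o (enc D col)) row = opMat D o row col := by
  cases o with
  | H j =>
    rcases col with i | s
    · have hi : enc D (Sum.inl i) < D.rank := i.isLt
      simp only [colOp, if_pos hi, evalPairs, List.map_nil, List.sum_nil, opMat, hm]
      rcases row with i' | u <;> simp [Matrix.diagonal]
    · have hs : ¬ D.rank + s.val < D.rank := by omega
      simp only [colOp, enc, if_neg hs, evalPairs, List.map_cons, List.map_nil, List.sum_cons, List.sum_nil,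
        add_zero, Nat.add_sub_cancel_left, opMat, hm, Matrix.diagonal, Matrix.of_apply, hA.cart j _ ho s.isLt]
      rcases row with i' | u
      · have := i'.isLt
        have h : ¬ D.rank + s.val = i'.val := by omega
        simp [enc, h]
      · by_cases h : u = s
        · subst h; simp [enc]
        · have : ¬ s.val = u.val := fun e => h (Fin.ext (by omega))
          simp [enc, h, this]
  | X k r =>
    rcases col with i | s
    · have hi : enc D (Sum.inl i) < D.rank := i.isLt
      simp only [colOp, if_pos hi, opMat, xm, Matrix.of_apply,
        hA.cart (enc D (Sum.inl i)) r i.isLt ho]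
      by_cases hk : k = 1
      · simp only [if_pos hk, evalPairs, List.map_cons, List.map_nil, List.sum_cons, List.sum_nil, add_zero]
        rcases row with i' | u
        · have := i'.isLt
          have h : ¬ D.rank + r = i'.val := by omega
          simp [enc, h]
        · by_cases h : u.val = r
          · simp [enc, h, hk]
          · have : ¬ r = u.val := by omega
            simp [enc, h, this]
      · rcases row with i' | u <;> simp [hk, evalPairs]
    · have hs : ¬ D.rank + s.val < D.rank := by omega
      simp only [colOp, enc, if_neg hs, Nat.add_sub_cancel_left, opMat, xm, Matrix.of_apply, hA.neg r ho,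
        hA.entry r _ ho s.isLt]
      by_cases h1 : s.val = r
      · simp [h1, evalPairs]
      simp only [if_neg h1]
      by_cases h2 : s.val = D.neg r
      · simp only [if_pos h2]
        by_cases hk : k = 1
        · simp only [if_pos hk]
          rw [List.map_congr_left (fun j hj => by rw [hA.coro r j ho (List.mem_range.1 hj)] :
            ∀ j ∈ List.range D.rank, ((j, A.coro r j) : ℕ × ℤ) = (j, cc D r j)), evalPairs, sum_range_ite]
          rcases row with i' | u
          · simp [enc, i'.isLt]
          · have : ¬ D.rank + u.val < D.rank := by omega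
            simp [enc, this, hk]
        · simp only [if_neg hk]
          by_cases hk2 : k = 2
          · rcases row with i' | u
            · have := i'.isLt
              have h : ¬ D.rank + r = i'.val := by omega
              simp [hk2, evalPairs, enc, h]
            · by_cases h : u.val = r
              · simp [hk2, evalPairs, enc, h]
              · have : ¬ r = u.val := by omega
                simp [hk2, evalPairs, enc, h, this]
          · rcases row with i' | u <;> simp [hk2, evalPairs]
      · simp only [if_neg h2, ChevalleyDatum.chainRoot, ChevalleyDatum.chainM]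
        obtain ⟨o, hq⟩ : ∃ o, (D.chainEntry r s.val)[k - 1]? = o := ⟨_, rfl⟩
        simp only [hq]
        rcases o with _ | q
        · rcases row with i' | u <;> simp [evalPairs]
        · rcases row with i' | u
          · have := i'.isLt
            have h : ¬ D.rank + q.1 = i'.val := by omega
            simp [evalPairs, enc, h]
          · by_cases h : q.1 = u.val
            · simp [evalPairs, enc, h]
            · simp [evalPairs, enc, h]

/-! ### Terms, linear combinations of monomials in the operators, products -/

/-- `coef · t^i u^j · (product of operators)` -/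
abbrev Mono := ℤ × ℕ × ℕ × List Op

/-- a linear combination of monomials -/
abbrev Lin := List Mono

def applyOp (A : Acc) (o : Op) (ts : List Term) : List Term :=
  ts.flatMap fun e => (colOp D A o e.1).map fun pc => (pc.1, pc.2 * e.2.1, e.2.2.1, e.2.2.2)

def applyMono (A : Acc) (m : Mono) (ts : List Term) : List Term :=
  (m.2.2.2.foldr (applyOp D A) ts).map fun e => (e.1, m.1 * e.2.1, m.2.1 + e.2.2.1, m.2.2.1 + e.2.2.2)

def addTerm (e : Term) : List Term → List Term
  | [] => [e]
  | f :: fs =>
    if e.1 = f.1 ∧ e.2.2.1 = f.2.2.1 ∧ e.2.2.2 = f.2.2.2 then (f.1, f.2.1 + e.2.1, f.2.2.1, f.2.2.2) :: fs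
    else f :: addTerm e fs

def normalize (ts : List Term) : List Term := (ts.foldr addTerm []).filter fun e => decide (e.2.1 ≠ 0)

def applyLin (A : Acc) (L : Lin) (ts : List Term) : List Term := normalize (L.flatMap fun m => applyMono D A m ts)

def applyProd (A : Acc) (P : List Lin) (ts : List Term) : List Term := P.foldr (applyLin D A) ts

def negTerms (ts : List Term) : List Term := ts.map fun e => (e.1, -e.2.1, e.2.2.1, e.2.2.2)

/-- two term lists have the same value -/
def sameTerms (a b : List Term) : Bool := (normalize (a ++ negTerms b)).isEmpty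

/-- a product of linear combinations has the given columns -/
def colsEq (A : Acc) (P : List Lin) (f : ℕ → List Term) : Bool :=
  (List.range (D.rank + D.nroots)).all fun p => sameTerms (applyProd D A P [(p, 1, 0, 0)]) (f p)

/-- two products of linear combinations are equal -/
def prodEq (A : Acc) (P Q : List Lin) : Bool := colsEq D A P fun p => applyProd D A Q [(p, 1, 0, 0)]

section Eval

variable {R : Type*} [CommRing R] (t u : R)

/-- value of one term at a coordinate -/
def termVal (e : Term) (q : D.Idx) : R :=
  if e.1 = enc D q then (e.2.1 : R) * t ^ e.2.2.1 * u ^ e.2.2.2 else 0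

def evalT (ts : List Term) : D.Idx → R := fun q => (ts.map fun e => termVal D t u e q).sum

def opR (R : Type*) [CommRing R] (o : Op) : Matrix D.Idx D.Idx R := (opMat D o).map (Int.cast)

def monoMat (m : Mono) : Matrix D.Idx D.Idx R :=
  ((m.1 : R) * t ^ m.2.1 * u ^ m.2.2.1) • (m.2.2.2.map (opR D R)).prod

def linMat (L : Lin) : Matrix D.Idx D.Idx R := (L.map (monoMat D t u)).sum

def prodMat (P : List Lin) : Matrix D.Idx D.Idx R := (P.map (linMat D t u)).prod

theorem evalT_nil : evalT D t u ([] : List Term) = 0 := rfl

theorem evalT_cons (e : Term) (ts : List Term) :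
    evalT D t u (e :: ts) = termVal D t u e + evalT D t u ts := by
  funext q; simp [evalT]

theorem evalT_append (a b : List Term) : evalT D t u (a ++ b) = evalT D t u a + evalT D t u b := by
  induction a with
  | nil => simp [evalT_nil]
  | cons e a ih => rw [List.cons_append, evalT_cons, ih, evalT_cons, add_assoc]

theorem evalT_flatMap {α : Type*} (l : List α) (f : α → List Term) :
    evalT D t u (l.flatMap f) = (l.map fun a => evalT D t u (f a)).sum := by
  induction l with
  | nil => simp [evalT_nil]
  | cons a l ih => rw [List.flatMap_cons, evalT_append, ih, List.map_cons, List.sum_cons]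

theorem evalT_pos {e : Term} {q : D.Idx} (h : e.1 = enc D q) :
    termVal D t u e = Pi.single q ((e.2.1 : R) * t ^ e.2.2.1 * u ^ e.2.2.2) := by
  funext q'
  by_cases hq : q' = q
  · subst hq; simp [termVal, h]
  · have : ¬ e.1 = enc D q' := fun h' => hq (enc_injective D (h'.symm.trans h))
    simp [termVal, hq, this]

theorem evalT_none {e : Term} (h : ∀ q, e.1 ≠ enc D q) : termVal D t u e = (0 : D.Idx → R) := by
  funext q; simp [termVal, h q]

theorem evalT_map_colOp {A : Acc} (hA : AccOK D A) {o : Op} (ho : OpOK D o) (e : Term) (q : D.Idx)
    (h : e.1 = enc D q) :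
    evalT D t u ((colOp D A o e.1).map fun pc => (pc.1, pc.2 * e.2.1, e.2.2.1, e.2.2.2))
      = opR D R o *ᵥ termVal D t u e := by
  rw [evalT_pos D t u h, Matrix.mulVec_single, h]
  funext row
  simp only [opR, Pi.smul_apply, Matrix.col_apply, Matrix.map_apply, op_smul_eq_mul]
  rw [← evalPairs_colOp D hA ho, evalPairs]
  unfold evalT
  induction colOp D A o (enc D q) with
  | nil => simp
  | cons a l ih =>
    simp only [List.map_cons, List.sum_cons, Int.cast_add, add_mul, ih]
    congr 1
    by_cases ha : a.1 = enc D row
    · simp [termVal, ha]; ring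
    · simp [termVal, ha]

end Eval

/-! Soundness for term lists supported on positions `< rank + nroots`. -/

def InRange (ts : List Term) : Prop := ∀ e ∈ ts, e.1 < D.rank + D.nroots

theorem exists_enc {p : ℕ} (hp : p < D.rank + D.nroots) : ∃ q : D.Idx, p = enc D q := by
  by_cases h : p < D.rank
  · exact ⟨Sum.inl ⟨p, h⟩, rfl⟩
  · exact ⟨Sum.inr ⟨p - D.rank, by omega⟩, by simp [enc]; omega⟩

section Sound

variable {R : Type*} [CommRing R] (t u : R) {A : Acc}

theorem termVal_mulVec (hA : AccOK D A) {o : Op} (ho : OpOK D o) (e : Term) (h : e.1 < D.rank + D.nroots) :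
    evalT D t u ((colOp D A o e.1).map fun pc => (pc.1, pc.2 * e.2.1, e.2.2.1, e.2.2.2))
      = opR D R o *ᵥ termVal D t u e := by
  obtain ⟨q, hq⟩ := exists_enc D h
  exact evalT_map_colOp D t u hA ho e q hq

theorem evalT_applyOp (hA : AccOK D A) {o : Op} (ho : OpOK D o) (ts : List Term) (h : InRange D ts) :
    evalT D t u (applyOp D A o ts) = opR D R o *ᵥ evalT D t u ts := by
  induction ts with
  | nil => simp [applyOp, evalT_nil]
  | cons e ts ih =>
    have h1 : InRange D ts := fun x hx => h x (List.mem_cons_of_mem _ hx)
    rw [applyOp, List.flatMap_cons, evalT_append, ← applyOp, ih h1, evalT_cons, Matrix.mulVec_add,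
      termVal_mulVec D t u hA ho e (h e (List.mem_cons_self ..))]

theorem evalT_addTerm (e : Term) (ts : List Term) :
    evalT D t u (addTerm e ts) = termVal D t u e + evalT D t u ts := by
  induction ts with
  | nil => simp [addTerm, evalT_cons]
  | cons f fs ih =>
    rw [addTerm]
    split
    · rename_i hk
      rw [evalT_cons, evalT_cons, ← add_assoc]
      congr 1
      funext q
      by_cases hq : f.1 = enc D q
      · have : e.1 = enc D q := hk.1.trans hq
        simp [termVal, hq, this, hk.2.1, hk.2.2]; ring
      · have : ¬ e.1 = enc D q := fun h' => hq (hk.1.symm.trans h')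
        simp [termVal, hq, this]
    · rw [evalT_cons, evalT_cons, ih]; abel

theorem evalT_normalize (ts : List Term) : evalT D t u (normalize ts) = evalT D t u ts := by
  have hfil : ∀ l : List Term, evalT D t u (l.filter fun e => decide (e.2.1 ≠ 0)) = evalT D t u l := by
    intro l
    induction l with
    | nil => rfl
    | cons e l ih =>
      by_cases he : e.2.1 = 0
      · have : termVal D t u e = (0 : D.Idx → R) := by funext q; simp [termVal, he]
        rw [List.filter_cons_of_neg (by simp [he]), evalT_cons, this, ih, zero_add]
      · rw [List.filter_cons_of_pos (by simp [he]), evalT_cons, evalT_cons, ih]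
  rw [normalize, hfil]
  induction ts with
  | nil => rfl
  | cons e ts ih => rw [List.foldr_cons, evalT_addTerm, ih, evalT_cons]

theorem addTerm_pos (e : Term) (ts : List Term) :
    ∀ x ∈ addTerm e ts, x.1 = e.1 ∨ ∃ f ∈ ts, x.1 = f.1 := by
  induction ts with
  | nil => simp [addTerm]
  | cons f fs ih =>
    intro x hx
    rw [addTerm] at hx
    split at hx
    · rcases List.mem_cons.1 hx with rfl | hx
      · exact Or.inr ⟨f, List.mem_cons_self .., rfl⟩
      · exact Or.inr ⟨x, List.mem_cons_of_mem _ hx, rfl⟩
    · rcases List.mem_cons.1 hx with rfl | hx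
      · exact Or.inr ⟨_, List.mem_cons_self .., rfl⟩
      · rcases ih x hx with h | ⟨g, hg, h⟩
        · exact Or.inl h
        · exact Or.inr ⟨g, List.mem_cons_of_mem _ hg, h⟩

theorem inRange_normalize {ts : List Term} (h : InRange D ts) : InRange D (normalize ts) := by
  suffices hs : ∀ x ∈ ts.foldr addTerm [], x.1 < D.rank + D.nroots from
    fun x hx => hs x (List.mem_filter.1 hx).1
  induction ts with
  | nil => simp
  | cons e ts ih =>
    intro x hx
    rw [List.foldr_cons] at hx
    rcases addTerm_pos e _ x hx with h' | ⟨f, hf, h'⟩
    · rw [h']; exact h e (List.mem_cons_self ..)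
    · rw [h']; exact ih (fun y hy => h y (List.mem_cons_of_mem _ hy)) f hf

/-- the chain targets stay in range -/
def Bounded : Prop :=
  ∀ (r s k : ℕ) (q : ℕ × ℤ), r < D.nroots → s < D.nroots →
    (D.chainEntry r s)[k]? = some q → q.1 < D.nroots

theorem inRange_applyOp (hA : AccOK D A) (hb : Bounded D) {o : Op} (ho : OpOK D o) {ts : List Term} (h : InRange D ts) :
    InRange D (applyOp D A o ts) := by
  intro x hx
  simp only [applyOp, List.mem_flatMap, List.mem_map] at hx
  obtain ⟨e, he, pc, hpc, rfl⟩ := hx
  have hp := h e he
  cases o with
  | H j =>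
    simp only [colOp] at hpc
    split at hpc
    · simp at hpc
    · simp at hpc; subst hpc; exact hp
  | X k r =>
    have hr : r < D.nroots := ho
    simp only [colOp] at hpc
    split at hpc
    · split at hpc
      · simp at hpc; subst hpc; simp; omega
      · simp at hpc
    · split at hpc
      · simp at hpc
      · split at hpc
        · split at hpc
          · simp only [List.mem_map, List.mem_range] at hpc
            obtain ⟨j, hj, rfl⟩ := hpc; simp; omega
          · split at hpc
            · simp at hpc; subst hpc; simp; omega
            · simp at hpc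
        · split at hpc
          · simp at hpc
          · rename_i q hq
            simp at hpc; subst hpc
            rw [hA.entry r _ hr (by omega)] at hq
            have := hb _ _ _ _ hr (by omega) hq
            simp; omega

/-- all operators of a product are in range -/
def ProdOK (P : List Lin) : Prop := ∀ L ∈ P, ∀ m ∈ L, ∀ o ∈ m.2.2.2, OpOK D o

theorem evalT_applyMono (hA : AccOK D A) (hb : Bounded D) (m : Mono) (hm : ∀ o ∈ m.2.2.2, OpOK D o)
    {ts : List Term} (h : InRange D ts) :
    InRange D (applyMono D A m ts) ∧ evalT D t u (applyMono D A m ts) = monoMat D t u m *ᵥ evalT D t u ts := by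
  obtain ⟨c, a, b, ops⟩ := m
  have key : InRange D (ops.foldr (applyOp D A) ts) ∧
      evalT D t u (ops.foldr (applyOp D A) ts) = (ops.map (opR D R)).prod *ᵥ evalT D t u ts := by
    induction ops with
    | nil => simp [h]
    | cons o ops ih =>
      obtain ⟨i1, i2⟩ := ih (fun x hx => hm x (List.mem_cons_of_mem _ hx))
      refine ⟨inRange_applyOp D hA hb (hm o (List.mem_cons_self ..)) i1, ?_⟩
      rw [List.foldr_cons, evalT_applyOp D t u hA (hm o (List.mem_cons_self ..)) _ i1, i2, List.map_cons, List.prod_cons, Matrix.mulVec_mulVec]
  refine ⟨?_, ?_⟩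
  · intro x hx
    simp only [applyMono, List.mem_map] at hx
    obtain ⟨e, he, rfl⟩ := hx
    exact key.1 e he
  · simp only [monoMat, Matrix.smul_mulVec, ← key.2, applyMono]
    funext q
    simp only [evalT, Pi.smul_apply, smul_eq_mul, List.map_map]
    rw [← List.sum_map_mul_left]
    congr 1
    apply List.map_congr_left
    intro e _
    by_cases he : e.1 = enc D q
    · simp [termVal, he, pow_add]; ring
    · simp [termVal, he]

theorem evalT_applyLin (hA : AccOK D A) (hb : Bounded D) (L : Lin) (hL : ∀ m ∈ L, ∀ o ∈ m.2.2.2, OpOK D o)
    {ts : List Term} (h : InRange D ts) :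
    InRange D (applyLin D A L ts) ∧ evalT D t u (applyLin D A L ts) = linMat D t u L *ᵥ evalT D t u ts := by
  constructor
  · apply inRange_normalize
    intro x hx
    simp only [List.mem_flatMap] at hx
    obtain ⟨m, hm, hx⟩ := hx
    exact (evalT_applyMono D t u hA hb m (hL m hm) h).1 x hx
  · rw [applyLin, evalT_normalize, evalT_flatMap, linMat]
    induction L with
    | nil => simp
    | cons m L ih =>
      rw [List.map_cons, List.sum_cons, List.map_cons, List.sum_cons, Matrix.add_mulVec,
        (evalT_applyMono D t u hA hb m (hL m (List.mem_cons_self ..)) h).2,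
        ih (fun x hx => hL x (List.mem_cons_of_mem _ hx))]

theorem evalT_applyProd (hA : AccOK D A) (hb : Bounded D) (P : List Lin) (hP : ProdOK D P)
    {ts : List Term} (h : InRange D ts) :
    InRange D (applyProd D A P ts) ∧ evalT D t u (applyProd D A P ts) = prodMat D t u P *ᵥ evalT D t u ts := by
  induction P with
  | nil => simp [applyProd, prodMat, h]
  | cons L P ih =>
    obtain ⟨i1, i2⟩ := ih (fun x hx => hP x (List.mem_cons_of_mem _ hx))
    obtain ⟨j1, j2⟩ := evalT_applyLin D t u hA hb L (hP L (List.mem_cons_self ..)) i1
    refine ⟨j1, ?_⟩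
    show evalT D t u (applyLin D A L (applyProd D A P ts)) = _
    rw [j2, i2, Matrix.mulVec_mulVec]; rfl

theorem evalT_negTerms (ts : List Term) : evalT D t u (negTerms ts) = - evalT D t u ts := by
  induction ts with
  | nil => simp [negTerms, evalT_nil]
  | cons e ts ih =>
    rw [negTerms, List.map_cons, ← negTerms, evalT_cons, ih, evalT_cons, neg_add]
    congr 1
    funext q
    by_cases hq : e.1 = enc D q <;> simp [termVal, hq]

theorem evalT_eq_of_sameTerms {a b : List Term} (h : sameTerms a b = true) :
    evalT D t u a = evalT D t u b := by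
  have h' : normalize (a ++ negTerms b) = [] := by simpa [sameTerms, List.isEmpty_iff] using h
  have := evalT_normalize D t u (a ++ negTerms b)
  rw [h', evalT_nil, evalT_append, evalT_negTerms, ← sub_eq_add_neg] at this
  exact sub_eq_zero.1 this.symm

theorem col_of_colsEq (hA : AccOK D A) (hb : Bounded D) {P : List Lin} {f : ℕ → List Term} (hP : ProdOK D P)
    (h : colsEq D A P f = true) (row col : D.Idx) :
    prodMat D t u P row col = evalT D t u (f (enc D col)) row := by
  have hc := List.all_eq_true.1 h (enc D col) (List.mem_range.2 (enc_lt D col))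
  have hin : InRange D [(enc D col, 1, 0, 0)] := by
    intro x hx; simp at hx; subst hx; exact enc_lt D col
  rw [← evalT_eq_of_sameTerms D t u hc, (evalT_applyProd D t u hA hb P hP hin).2, evalT_cons, evalT_nil, add_zero,
    evalT_pos D t u (q := col) rfl]
  simp

theorem prodMat_eq_of_prodEq (hA : AccOK D A) (hb : Bounded D) {P Q : List Lin} (hP : ProdOK D P) (hQ : ProdOK D Q)
    (h : prodEq D A P Q = true) : prodMat (R := R) D t u P = prodMat D t u Q := by
  ext row col
  rw [col_of_colsEq D t u hA hb hP h]
  have hin : InRange D [(enc D col, 1, 0, 0)] := by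
    intro x hx; simp at hx; subst hx; exact enc_lt D col
  rw [(evalT_applyProd D t u hA hb Q hQ hin).2, evalT_cons, evalT_nil, add_zero, evalT_pos D t u (q := col) rfl]
  simp

end Sound

end Cfsg.Agent.ChevalleyEngine
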