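import Cfsg.Agent.Lib.ChevalleyPerfect
import Cfsg.Prelude.Def_ChevAutomorphisms

/-!
Chevalley groups are generated by the monomial subgroup and one or two fundamental root subgroups.
-/

set_option autoImplicit false
set_option linter.unusedSimpArgs false

namespace Cfsg.Agent.ChevalleyGenN

open Cfsg.Lie Cfsg.Agent.ChevalleyEngine Cfsg.Agent.ChevalleyCert Cfsg.Agent.ChevalleyRoots
  Cfsg.Agent.ChevalleyCore Cfsg.Agent.ChevalleyTorus Cfsg.Agent.ChevalleyPerfect

/-- a way to reach a new root: a reflection of a known one, or a commutator of two known ones -/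
inductive Step where
  | refl (k r : ℕ)
  | comm (p r s : ℕ) (c : ℤ)

/-- the steps reach all fundamental roots from the known ones, with coefficients accepted by `good` -/
def check (D : ChevalleyDatum) (good : ℤ → Bool) : List ℕ → List Step → Bool
  | known, [] => (List.range D.rank).all fun i => known.contains (D.simple i)
  | known, .refl k r :: l =>
    decide (k < D.rank) && decide (r < D.nroots) && known.contains r && check D good (D.reflectRoot k r :: known) l
  | known, .comm p r s c :: l =>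
    known.contains r && known.contains s && good c &&
      decide (r < D.nroots ∧ s < D.nroots ∧ s ≠ r ∧ s ≠ D.neg r ∧ D.commTerms r s = [(p, c, 1, 1)]) &&
      check D good (p :: known) l

variable {D : ChevalleyDatum} {F : Type*} [Field F] (C : Cert D)
include C

theorem refl_mem {M : Subgroup (GL D.Idx F)} (hN : D.monomialSubgroup F ≤ M) {k r : ℕ} (hk : k < D.rank)
    (hr : r < D.nroots) (h : ∀ t, xg C r t ∈ M) (t : F) : xg C (D.reflectRoot k r) t ∈ M := by
  have hc := ng_simple_conj C hk hr ((C.eta k r : F) * t)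
  rw [← mul_assoc, eta_cast_sq C, one_mul] at hc
  rw [← hc]
  exact mul_mem (mul_mem (hN (ns_mem_N C hk)) (h _)) (inv_mem (hN (ns_mem_N C hk)))

theorem check_sound {M : Subgroup (GL D.Idx F)} (hN : D.monomialSubgroup F ≤ M) {good : ℤ → Bool}
    (hgood : ∀ c, good c = true → (c : F) ≠ 0) : ∀ (l : List Step) (known : List ℕ),
      check D good known l = true → (∀ r ∈ known, ∀ t, xg C r t ∈ M) → ∀ i < D.rank, ∀ t, xg C (D.simple i) t ∈ M
  | [], known, h, hk, i, hi, t => by
    simp only [check, List.all_eq_true, List.mem_range, List.contains_iff_mem] at h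
    exact hk _ (h i hi) t
  | .refl k r :: l, known, h, hk, i, hi, t => by
    simp only [check, Bool.and_eq_true, decide_eq_true_eq, List.contains_iff_mem] at h
    obtain ⟨⟨⟨h1, h2⟩, h3⟩, h4⟩ := h
    refine check_sound hN hgood l _ h4 ?_ i hi t
    intro x hx
    rcases List.mem_cons.1 hx with rfl | hx
    · exact fun t => refl_mem C hN h1 h2 (hk r h3) t
    · exact hk x hx
  | .comm p r s c :: l, known, h, hk, i, hi, t => by
    simp only [check, Bool.and_eq_true, decide_eq_true_eq, List.contains_iff_mem] at h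
    obtain ⟨⟨⟨⟨h1, h2⟩, h3⟩, hr, hs, hsr, hsn, hl⟩, h4⟩ := h
    refine check_sound hN hgood l _ h4 ?_ i hi t
    intro x hx
    rcases List.mem_cons.1 hx with rfl | hx
    swap; · exact hk x hx
    intro u
    have hc := hgood c h3
    have hf := comm_formula C hr hs hsr hsn (-(u / (c : F))) (1 : F)
    have he : wg C (D.commWord F r s (-(u / (c : F))) 1) = xg C x u := by
      simp only [ChevalleyDatum.commWord, hl, List.map_cons, List.map_nil, wg, List.prod_cons, List.prod_nil, mul_one,
        pow_one, neg_neg]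
      congr 1
      field_simp
    rw [he, ← inv_mul_eq_iff_eq_mul] at hf
    rw [← hf]
    exact mul_mem (inv_mem (mul_mem (hk r h1 _) (hk s h2 _))) (mul_mem (hk s h2 _) (hk r h1 _))

theorem group_le {M : Subgroup (GL D.Idx F)} (hN : D.monomialSubgroup F ≤ M)
    (h : ∀ i < D.rank, ∀ t, xg C (D.simple i) t ∈ M) : D.group F ≤ M := by
  have hall : ∀ r, r < D.nroots → ∀ t : F, xg C r t ∈ M :=
    root_induction C (P := fun r => ∀ t : F, xg C r t ∈ M) h fun k r hk hr ih t => refl_mem C hN hk hr ih t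
  conv_lhs => rw [ChevalleyDatum.group]
  rw [Subgroup.closure_le]
  rintro g ⟨⟨r, hr⟩, t, hg'⟩
  obtain rfl : g = xg C r t := Units.ext (hg'.trans (by simp [ChevalleyDatum.x, hr]))
  exact hall r hr t

omit C in
theorem good_unit (c : ℤ) (h : (decide (c = 1 ∨ c = -1)) = true) : (c : F) ≠ 0 := by
  rcases (of_decide_eq_true h) with rfl | rfl <;> simp

theorem gen_one {good : ℤ → Bool} (hgood : ∀ c, good c = true → (c : F) ≠ 0) {i : ℕ} {l : List Step}
    (h : check D good [D.simple i] l = true) :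
    D.group F ≤ D.monomialSubgroup F ⊔ D.rootSubgroup F (D.simple i) := by
  refine group_le C le_sup_left (check_sound C le_sup_left hgood l _ h fun r hr t => ?_)
  rw [List.mem_singleton] at hr
  subst hr
  exact Subgroup.mem_sup_right (Subgroup.subset_closure ⟨t, coe_xg C _ _⟩)

theorem gen_two {i j : ℕ} {l : List Step}
    (h : check D (fun c => decide (c = 1 ∨ c = -1)) [D.simple i, D.simple j] l = true) :
    D.group F ≤ D.monomialSubgroup F ⊔ D.rootSubgroup F (D.simple i) ⊔ D.rootSubgroup F (D.simple j) := by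
  refine group_le C (le_trans le_sup_left le_sup_left)
    (check_sound C (le_trans le_sup_left le_sup_left) good_unit l _ h fun r hr t => ?_)
  simp only [List.mem_cons, List.not_mem_nil, or_false] at hr
  rcases hr with rfl | rfl
  · exact Subgroup.mem_sup_left (Subgroup.mem_sup_right (Subgroup.subset_closure ⟨t, coe_xg C _ _⟩))
  · exact Subgroup.mem_sup_right (Subgroup.subset_closure ⟨t, coe_xg C _ _⟩)

omit C

/-! ### the certificates -/

def oneG2_0 : List Step := [.refl 0 7, .refl 1 7, .comm 6 4 8 (-3)]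

def twoG2_0_1 : List Step := []

def oneTabG2 : List (List Step) := [oneG2_0, []]

def twoTabG2 : List (List (List Step)) := [[[], twoG2_0_1], [[], []]]

def oneB2_0 : List Step := [.refl 0 5, .refl 1 5, .comm 4 2 6 (-2)]

def twoB2_0_1 : List Step := []

def oneTabB2 : List (List Step) := [oneB2_0, []]

def twoTabB2 : List (List (List Step)) := [[[], twoB2_0_1], [[], []]]

def oneD4_0 : List Step := [.refl 1 18, .refl 0 19, .refl 2 14, .refl 1 16, .refl 3 14, .refl 1 15]

def oneD4_1 : List Step := [.refl 0 14, .refl 1 19, .refl 2 14, .refl 1 16, .refl 3 14, .refl 1 15]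

def oneD4_2 : List Step := [.refl 1 13, .refl 0 16, .refl 2 21, .refl 1 19, .refl 2 16, .refl 3 14, .refl 1 15]

def oneD4_3 : List Step := [.refl 1 12, .refl 0 15, .refl 3 20, .refl 1 19, .refl 3 15, .refl 2 15, .refl 3 17, .refl 1 16]

def oneTabD4 : List (List Step) := [oneD4_0, oneD4_1, oneD4_2, oneD4_3]

def oneF4_0 : List Step := [.refl 1 33, .refl 0 34, .refl 0 33, .refl 1 14, .refl 2 13, .refl 1 12, .refl 3 10, .refl 2 34, .refl 1 35, .refl 3 37, .refl 2 38, .comm 25 9 39 (-2), .refl 3 25, .refl 2 26]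

def oneF4_1 : List Step := [.refl 0 27, .refl 1 34, .refl 1 27, .refl 0 20, .refl 2 13, .refl 1 12, .refl 3 10, .refl 2 34, .refl 1 35, .refl 3 37, .refl 2 38, .comm 25 9 39 (-2), .refl 3 25, .refl 2 26]

def twoF4_0_2 : List Step := [.refl 1 33, .refl 0 34, .refl 3 25, .refl 2 26]

def twoF4_0_3 : List Step := [.refl 1 33, .refl 0 34, .refl 2 24, .refl 3 26]

def twoF4_1_2 : List Step := [.refl 0 27, .refl 1 34, .refl 3 25, .refl 2 26]

def twoF4_1_3 : List Step := [.refl 0 27, .refl 1 34, .refl 2 24, .refl 3 26]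

def oneTabF4 : List (List Step) := [oneF4_0, oneF4_1, [], []]

def twoTabF4 : List (List (List Step)) := [[[], [], twoF4_0_2, twoF4_0_3], [[], [], twoF4_1_2, twoF4_1_3], [[], [], [], []], [[], [], [], []]]

def oneE6_0 : List Step := [.refl 2 56, .refl 0 57, .refl 3 42, .refl 1 43, .refl 2 50, .refl 3 47, .refl 2 43, .refl 4 39, .refl 3 40, .refl 5 37, .refl 4 38]

def oneE6_1 : List Step := [.refl 3 46, .refl 1 47, .refl 2 39, .refl 0 43, .refl 3 58, .refl 2 57, .refl 3 43, .refl 4 39, .refl 3 40, .refl 5 37, .refl 4 38]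

def oneE6_2 : List Step := [.refl 0 42, .refl 2 57, .refl 3 42, .refl 1 43, .refl 2 50, .refl 3 47, .refl 2 43, .refl 4 39, .refl 3 40, .refl 5 37, .refl 4 38]

def oneE6_3 : List Step := [.refl 2 39, .refl 0 43, .refl 3 58, .refl 2 57, .refl 1 39, .refl 3 47, .refl 3 43, .refl 4 39, .refl 3 40, .refl 5 37, .refl 4 38]

def oneE6_4 : List Step := [.refl 3 37, .refl 2 40, .refl 0 44, .refl 4 59, .refl 3 58, .refl 2 57, .refl 1 40, .refl 4 48, .refl 3 47, .refl 4 44, .refl 3 43, .refl 4 40, .refl 5 37, .refl 4 38]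

def oneE6_5 : List Step := [.refl 4 36, .refl 3 38, .refl 2 41, .refl 0 45, .refl 5 60, .refl 4 59, .refl 3 58, .refl 2 57, .refl 1 41, .refl 5 49, .refl 4 48, .refl 3 47, .refl 5 45, .refl 4 44, .refl 3 43, .refl 5 41, .refl 4 40, .refl 5 38]

def oneTabE6 : List (List Step) := [oneE6_0, oneE6_1, oneE6_2, oneE6_3, oneE6_4, oneE6_5]

def oneE7_0 : List Step := [.refl 2 93, .refl 0 94, .refl 3 73, .refl 1 74, .refl 2 83, .refl 3 79, .refl 2 74, .refl 4 69, .refl 3 70, .refl 5 66, .refl 4 67, .refl 6 64, .refl 5 65]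

def oneE7_1 : List Step := [.refl 3 78, .refl 1 79, .refl 2 69, .refl 0 74, .refl 3 95, .refl 2 94, .refl 3 74, .refl 4 69, .refl 3 70, .refl 5 66, .refl 4 67, .refl 6 64, .refl 5 65]

def oneE7_2 : List Step := [.refl 0 73, .refl 2 94, .refl 3 73, .refl 1 74, .refl 2 83, .refl 3 79, .refl 2 74, .refl 4 69, .refl 3 70, .refl 5 66, .refl 4 67, .refl 6 64, .refl 5 65]

def oneE7_3 : List Step := [.refl 2 69, .refl 0 74, .refl 3 95, .refl 2 94, .refl 1 69, .refl 3 79, .refl 3 74, .refl 4 69, .refl 3 70, .refl 5 66, .refl 4 67, .refl 6 64, .refl 5 65]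

def oneE7_4 : List Step := [.refl 3 66, .refl 2 70, .refl 0 75, .refl 4 96, .refl 3 95, .refl 2 94, .refl 1 70, .refl 4 80, .refl 3 79, .refl 4 75, .refl 3 74, .refl 4 70, .refl 5 66, .refl 4 67, .refl 6 64, .refl 5 65]

def oneE7_5 : List Step := [.refl 4 64, .refl 3 67, .refl 2 71, .refl 0 76, .refl 5 97, .refl 4 96, .refl 3 95, .refl 2 94, .refl 1 71, .refl 5 81, .refl 4 80, .refl 3 79, .refl 5 76, .refl 4 75, .refl 3 74, .refl 5 71, .refl 4 70, .refl 5 67, .refl 6 64, .refl 5 65]

def oneE7_6 : List Step := [.refl 5 63, .refl 4 65, .refl 3 68, .refl 2 72, .refl 0 77, .refl 6 98, .refl 5 97, .refl 4 96, .refl 3 95, .refl 2 94, .refl 1 72, .refl 6 82, .refl 5 81, .refl 4 80, .refl 3 79, .refl 6 77, .refl 5 76, .refl 4 75, .refl 3 74, .refl 6 72, .refl 5 71, .refl 4 70, .refl 6 68, .refl 5 67, .refl 6 65]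

def oneTabE7 : List (List Step) := [oneE7_0, oneE7_1, oneE7_2, oneE7_3, oneE7_4, oneE7_5, oneE7_6]

def oneE8_0 : List Step := [.refl 2 162, .refl 0 163, .refl 3 135, .refl 1 136, .refl 2 147, .refl 3 142, .refl 2 136, .refl 4 130, .refl 3 131, .refl 5 126, .refl 4 127, .refl 6 123, .refl 5 124, .refl 7 121, .refl 6 122]

def oneE8_1 : List Step := [.refl 3 141, .refl 1 142, .refl 2 130, .refl 0 136, .refl 3 164, .refl 2 163, .refl 3 136, .refl 4 130, .refl 3 131, .refl 5 126, .refl 4 127, .refl 6 123, .refl 5 124, .refl 7 121, .refl 6 122]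

def oneE8_2 : List Step := [.refl 0 135, .refl 2 163, .refl 3 135, .refl 1 136, .refl 2 147, .refl 3 142, .refl 2 136, .refl 4 130, .refl 3 131, .refl 5 126, .refl 4 127, .refl 6 123, .refl 5 124, .refl 7 121, .refl 6 122]

def oneE8_3 : List Step := [.refl 2 130, .refl 0 136, .refl 3 164, .refl 2 163, .refl 1 130, .refl 3 142, .refl 3 136, .refl 4 130, .refl 3 131, .refl 5 126, .refl 4 127, .refl 6 123, .refl 5 124, .refl 7 121, .refl 6 122]

def oneE8_4 : List Step := [.refl 3 126, .refl 2 131, .refl 0 137, .refl 4 165, .refl 3 164, .refl 2 163, .refl 1 131, .refl 4 143, .refl 3 142, .refl 4 137, .refl 3 136, .refl 4 131, .refl 5 126, .refl 4 127, .refl 6 123, .refl 5 124, .refl 7 121, .refl 6 122]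

def oneE8_5 : List Step := [.refl 4 123, .refl 3 127, .refl 2 132, .refl 0 138, .refl 5 166, .refl 4 165, .refl 3 164, .refl 2 163, .refl 1 132, .refl 5 144, .refl 4 143, .refl 3 142, .refl 5 138, .refl 4 137, .refl 3 136, .refl 5 132, .refl 4 131, .refl 5 127, .refl 6 123, .refl 5 124, .refl 7 121, .refl 6 122]

def oneE8_6 : List Step := [.refl 5 121, .refl 4 124, .refl 3 128, .refl 2 133, .refl 0 139, .refl 6 167, .refl 5 166, .refl 4 165, .refl 3 164, .refl 2 163, .refl 1 133, .refl 6 145, .refl 5 144, .refl 4 143, .refl 3 142, .refl 6 139, .refl 5 138, .refl 4 137, .refl 3 136, .refl 6 133, .refl 5 132, .refl 4 131, .refl 6 128, .refl 5 127, .refl 6 124, .refl 7 121, .refl 6 122]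

def oneE8_7 : List Step := [.refl 6 120, .refl 5 122, .refl 4 125, .refl 3 129, .refl 2 134, .refl 0 140, .refl 7 168, .refl 6 167, .refl 5 166, .refl 4 165, .refl 3 164, .refl 2 163, .refl 1 134, .refl 7 146, .refl 6 145, .refl 5 144, .refl 4 143, .refl 3 142, .refl 7 140, .refl 6 139, .refl 5 138, .refl 4 137, .refl 3 136, .refl 7 134, .refl 6 133, .refl 5 132, .refl 4 131, .refl 7 129, .refl 6 128, .refl 5 127, .refl 7 125, .refl 6 124, .refl 7 122]

def oneTabE8 : List (List Step) := [oneE8_0, oneE8_1, oneE8_2, oneE8_3, oneE8_4, oneE8_5, oneE8_6, oneE8_7]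

theorem oneD4_ok : ∀ i < chevD4.rank,
    check chevD4 (fun c => decide (c = 1 ∨ c = -1)) [chevD4.simple i] (oneTabD4.getD i []) = true := by
  decide +kernel

theorem oneE6_ok : ∀ i < chevE6.rank,
    check chevE6 (fun c => decide (c = 1 ∨ c = -1)) [chevE6.simple i] (oneTabE6.getD i []) = true := by
  decide +kernel

theorem oneE7_ok : ∀ i < chevE7.rank,
    check chevE7 (fun c => decide (c = 1 ∨ c = -1)) [chevE7.simple i] (oneTabE7.getD i []) = true := by
  decide +kernel

theorem oneE8_ok : ∀ i < chevE8.rank,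
    check chevE8 (fun c => decide (c = 1 ∨ c = -1)) [chevE8.simple i] (oneTabE8.getD i []) = true := by
  decide +kernel

theorem oneB2_ok : ∀ i < chevB2.rank, chevB2.isLong (chevB2.simple i) = false →
    check chevB2 (fun c => decide (c = 1 ∨ c = -1 ∨ c = 2 ∨ c = -2)) [chevB2.simple i] (oneTabB2.getD i []) = true := by
  decide +kernel

theorem oneF4_ok : ∀ i < chevF4.rank, chevF4.isLong (chevF4.simple i) = false →
    check chevF4 (fun c => decide (c = 1 ∨ c = -1 ∨ c = 2 ∨ c = -2)) [chevF4.simple i] (oneTabF4.getD i []) = true := by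
  decide +kernel

theorem oneG2_ok : ∀ i < chevG2.rank, chevG2.isLong (chevG2.simple i) = false →
    check chevG2 (fun c => decide (c = 1 ∨ c = -1 ∨ c = 3 ∨ c = -3)) [chevG2.simple i] (oneTabG2.getD i []) = true := by
  decide +kernel

theorem twoB2_ok : ∀ i < chevB2.rank, ∀ j < chevB2.rank, chevB2.isLong (chevB2.simple i) = false →
    chevB2.isLong (chevB2.simple j) = true →
    check chevB2 (fun c => decide (c = 1 ∨ c = -1)) [chevB2.simple i, chevB2.simple j]
      ((twoTabB2.getD i []).getD j []) = true := by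
  decide +kernel

theorem twoF4_ok : ∀ i < chevF4.rank, ∀ j < chevF4.rank, chevF4.isLong (chevF4.simple i) = false →
    chevF4.isLong (chevF4.simple j) = true →
    check chevF4 (fun c => decide (c = 1 ∨ c = -1)) [chevF4.simple i, chevF4.simple j]
      ((twoTabF4.getD i []).getD j []) = true := by
  decide +kernel

theorem twoG2_ok : ∀ i < chevG2.rank, ∀ j < chevG2.rank, chevG2.isLong (chevG2.simple i) = false →
    chevG2.isLong (chevG2.simple j) = true →
    check chevG2 (fun c => decide (c = 1 ∨ c = -1)) [chevG2.simple i, chevG2.simple j]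
      ((twoTabG2.getD i []).getD j []) = true := by
  decide +kernel

theorem good_two {F : Type*} [Field F] (h : ringChar F ≠ 2) (c : ℤ)
    (hc : decide (c = 1 ∨ c = -1 ∨ c = 2 ∨ c = -2) = true) : (c : F) ≠ 0 := by
  have h2 : (2 : F) ≠ 0 := Ring.two_ne_zero h
  rcases of_decide_eq_true hc with rfl | rfl | rfl | rfl <;> simp [h2]

theorem good_three {F : Type*} [Field F] (h : ringChar F ≠ 3) (c : ℤ)
    (hc : decide (c = 1 ∨ c = -1 ∨ c = 3 ∨ c = -3) = true) : (c : F) ≠ 0 := by
  have h3 : (3 : F) ≠ 0 := by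
    intro h0
    have hd : ringChar F ∣ 3 := ringChar.dvd (by exact_mod_cast h0)
    rcases (Nat.dvd_prime Nat.prime_three).1 hd with e | e
    · exact CharP.ringChar_ne_one e
    · exact h e
  rcases of_decide_eq_true hc with rfl | rfl | rfl | rfl <;> simp [h3]

end Cfsg.Agent.ChevalleyGenN
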