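import Cfsg.Agent.Lib.ChevalleyRelative
import Cfsg.Agent.Lib.BlockPrimeTools86

/-!
The Hecke operators of a Chevalley group on the vectors fixed by `U` of a representation in the defining characteristic.
-/

set_option autoImplicit false
set_option linter.unusedSectionVars false
set_option linter.unusedSimpArgs false
set_option linter.unusedFintypeInType false

namespace Cfsg.Agent.ChevalleyModularOps

open Cfsg.Lie Cfsg.Agent.ChevalleyCert Cfsg.Agent.ChevBruhat Cfsg.Agent.ChevBruhat.Sys Cfsg.Agent.ChevalleyCells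
open Cfsg.Agent.ChevalleyRelative
open scoped Classical

variable {D : ChevalleyDatum} {F : Type*} [Field F] [Fintype F] (C : Cert D) (S : ChevBruhat.Sys D F)
variable {k : Type*} [Field k] {V : Type*} [AddCommGroup V] [Module k V]
variable (ρ : ↥(D.group F) →* Module.End k V)

local notation "N₀" => D.monomialSubgroup F

/-- the action of an element of `GL` -/
noncomputable def act (g : GL D.Idx F) : Module.End k V := if h : g ∈ D.group F then ρ ⟨g, h⟩ else 0

theorem act_mul {a b : GL D.Idx F} (ha : a ∈ D.group F) (hb : b ∈ D.group F) :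
    act ρ (a * b) = act ρ a * act ρ b := by
  simp only [act, dif_pos ha, dif_pos hb, dif_pos (mul_mem ha hb)]
  exact ρ.map_mul ⟨a, ha⟩ ⟨b, hb⟩

theorem act_one : act ρ (1 : GL D.Idx F) = 1 := by
  simp only [act, dif_pos (one_mem (D.group F))]
  exact ρ.map_one

theorem act_coe (g : ↥(D.group F)) : act ρ (g : GL D.Idx F) = ρ g := by simp [act, g.2]

theorem act_mul_apply {a b : GL D.Idx F} (ha : a ∈ D.group F) (hb : b ∈ D.group F) (x : V) :
    act ρ (a * b) x = act ρ a (act ρ b x) := by rw [act_mul ρ ha hb]; rfl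

/-- fixed by the positive unipotent subgroup -/
def Fixed (x : V) : Prop := ∀ u ∈ D.posUnipotent F, act ρ u x = x

/-- fixed by `U` and an eigenvector of `H` with character `χ` -/
def Eig (χ : ↥(D.diagonalSubgroup F) →* k) (x : V) : Prop :=
  Fixed ρ x ∧ ∀ h : ↥(D.diagonalSubgroup F), act ρ (h : GL D.Idx F) x = χ h • x

/-- the operator of the fundamental reflection `i` -/
noncomputable def T (i : Fin D.rank) : Module.End k V :=
  ∑ t : F, act ρ (S.xg (D.simple i) t * S.nn (D.simple i) 1)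

/-- the sum over `U_v` of the translates of `n` -/
noncomputable def Psi' (v : S.X.W) (n : GL D.Idx F) : Module.End k V := ∑ u : ↥(S.Uw v), act ρ ((u : GL D.Idx F) * n)

/-- the operator of an element of `N` -/
noncomputable def Psi (n : ↥N₀) : Module.End k V := Psi' S ρ (S.toW n)⁻¹ (n : GL D.Idx F)

include C S

theorem xg_mem (r : ℕ) (t : F) : S.xg r t ∈ D.group F := by
  rw [ChevalleyParabolicBN.sys_xg C S]; exact ChevalleyCore.xg_mem_group C r t

theorem nn_mem (i : Fin D.rank) (t : F) : S.nn (D.simple i) t ∈ D.group F := S.nn_mem_group (S.X.simple_lt i.isLt) t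

theorem uw_mem {v : S.X.W} (u : ↥(S.Uw v)) : (u : GL D.Idx F) ∈ D.group F := S.U_le_group (S.Uw_le_U _ u.2)

theorem hg_eq (i : Fin D.rank) (t : F) :
    ChevalleyCore.hg C (D.simple i) t = S.nn (D.simple i) t * S.nn (D.simple i) (-1) := by
  rw [ChevalleyCore.hg, ChevalleyParabolicBN.sys_nn C S, ChevalleyParabolicBN.sys_nn C S]

/-! ### lengths -/

theorem inv_simple_le (i : Fin D.rank) (w : S.X.W) : S.X.inv (S.X.C.simple i * w) ≤ S.X.inv w + 1 := by
  rcases S.X.pos_or_neg (S.X.img_lt w⁻¹ (S.X.simple_lt i.isLt)) with h | h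
  · rw [S.X.inv_simple_mul_of_pos i h]
  · have := S.X.inv_simple_mul_of_neg i h; omega

theorem inv_mul_le : ∀ (m : ℕ) (a b : S.X.W), S.X.inv a = m → S.X.inv (a * b) ≤ S.X.inv a + S.X.inv b := by
  intro m
  induction m with
  | zero =>
    intro a b ha
    obtain rfl := S.X.inv_eq_zero_iff.1 ha
    simp
  | succ m ih =>
    intro a b ha
    obtain ⟨i, hi⟩ := S.X.exists_descent (w := a) (by rintro rfl; rw [S.X.inv_eq_zero_iff.2 rfl] at ha; omega)
    have h1 := S.X.inv_simple_mul_of_neg i hi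
    have h2 := ih (S.X.C.simple i * a) b (by omega)
    have h3 := inv_simple_le C S i (S.X.C.simple i * a * b)
    rw [← mul_assoc, ← mul_assoc, simple_mul_self C S i, one_mul] at h3
    omega

theorem inv_mul_simple_of_pos (i : Fin D.rank) {w : S.X.W} (h : D.IsPosRoot (S.X.img w (D.simple i))) :
    S.X.inv (w * S.X.C.simple i) = S.X.inv w + 1 := by
  rw [← inv_inv_eq C S, mul_inv_rev, inv_eq_of_mul_eq_one_right (simple_mul_self C S i),
    S.X.inv_simple_mul_of_pos i (by rwa [inv_inv]), inv_inv_eq C S]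

theorem inv_mul_simple_of_neg (i : Fin D.rank) {w : S.X.W} (h : D.IsNegRoot (S.X.img w (D.simple i))) :
    S.X.inv (w * S.X.C.simple i) + 1 = S.X.inv w := by
  rw [← inv_inv_eq C S, mul_inv_rev, inv_eq_of_mul_eq_one_right (simple_mul_self C S i),
    S.X.inv_simple_mul_of_neg i (by rwa [inv_inv]), inv_inv_eq C S]

/-! ### the operators -/

theorem Uw_one : S.Uw (1 : S.X.W) = ⊥ := by
  rw [ChevBruhat.Sys.Uw, Subgroup.closure_eq_bot_iff]
  rintro g ⟨r, t, hr, -⟩
  rw [S.X.mem_invSet, S.X.img_one] at hr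
  exact absurd hr.2 (S.X.not_pos_and_neg hr.1)

theorem Psi_H (n : ↥N₀) (hn : S.toW n = 1) : Psi S ρ n = act ρ (n : GL D.Idx F) := by
  rw [Psi, Psi', hn, inv_one]
  haveI : Subsingleton ↥(S.Uw (1 : S.X.W)) := by rw [Uw_one C S]; infer_instance
  rw [Fintype.sum_subsingleton _ (1 : ↥(S.Uw (1 : S.X.W)))]
  simp

theorem act_H_Psi {h : GL D.Idx F} (hh : h ∈ D.diagonalSubgroup F) (n : ↥N₀) :
    act ρ h * Psi S ρ n = Psi S ρ n * act ρ ((n : GL D.Idx F)⁻¹ * h * n) := by
  have hn := S.N_le_group n.2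
  have hc : (n : GL D.Idx F)⁻¹ * h * n ∈ D.group F := mul_mem (mul_mem (inv_mem hn) (S.H_le_group hh)) hn
  rw [Psi, Psi', Finset.mul_sum, Finset.sum_mul]
  let e : ↥(S.Uw (S.toW n)⁻¹) ≃ ↥(S.Uw (S.toW n)⁻¹) :=
    { toFun := fun u => ⟨h * u * h⁻¹, ChevalleyParabolicBN.Uw_conj C S _ hh u.2⟩
      invFun := fun u => ⟨h⁻¹ * u * h, by
        simpa using ChevalleyParabolicBN.Uw_conj C S _ (inv_mem hh) u.2⟩
      left_inv := fun u => Subtype.ext (by simp [mul_assoc])
      right_inv := fun u => Subtype.ext (by simp [mul_assoc]) }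
  refine Fintype.sum_bijective e e.bijective _ _ fun u => ?_
  rw [← act_mul ρ (S.H_le_group hh) (mul_mem (uw_mem C S u) hn),
    ← act_mul ρ (mul_mem (uw_mem C S (e u)) hn) hc]
  congr 1
  simp only [e, Equiv.coe_fn_mk]
  group

theorem Psi_mul_H (n : ↥N₀) {h : ↥N₀} (hh : (h : GL D.Idx F) ∈ D.diagonalSubgroup F) :
    Psi S ρ (n * h) = Psi S ρ n * act ρ (h : GL D.Idx F) := by
  have h1 : S.toW (n * h) = S.toW n := by
    rw [map_mul, show S.toW h = 1 from S.toW_ker.symm.le hh, mul_one]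
  rw [Psi, h1, Psi, Psi', Psi', Finset.sum_mul]
  refine Finset.sum_congr rfl fun u _ => ?_
  rw [← act_mul ρ (mul_mem (uw_mem C S u) (S.N_le_group n.2)) (S.H_le_group hh), Subgroup.coe_mul, mul_assoc]

/-- peeling a fundamental reflection on the left -/
theorem Psi_step (i : Fin D.rank) (n : ↥N₀) (h : D.IsPosRoot (S.X.img (S.toW n)⁻¹ (D.simple i))) :
    Psi S ρ (S.sN i * n) = T S ρ i * Psi S ρ n := by
  set v := S.toW n with hv
  have hw : S.toW (S.sN i * n) = S.X.C.simple i * v := by rw [map_mul, S.toW_sN]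
  rw [Psi, hw, Psi, ← hv, Psi', Psi', T, Finset.sum_mul_sum, ← Fintype.sum_prod_type']
  set P := D.simple i.val
  set N := S.nn P (1 : F) with hN
  have hp := S.X.simple_pos i.isLt
  have hmem : ∀ r ∈ S.X.invSet v⁻¹,
      r ≠ P ∧ S.X.img (S.X.C.simple i) r ∈ S.X.invSet (S.X.C.simple i * v)⁻¹ := by
    intro r hr
    rw [S.X.mem_invSet] at hr
    have hne : r ≠ P := fun he => S.X.not_pos_and_neg h (he ▸ hr.2)
    refine ⟨hne, S.X.mem_invSet.2 ⟨?_, ?_⟩⟩
    · rw [S.X.img_simple i hr.1.1]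
      exact (S.X.root_facts' hr.1.1 i.isLt).2.2.2.2.1 hr.1 hne
    · rw [mul_inv_rev, S.X.img_mul, inv_eq_of_mul_eq_one_right (simple_mul_self C S i), ← S.X.img_mul (S.X.C.simple i),
        simple_mul_self C S i, S.X.img_one]
      exact hr.2
  have hP : P ∈ S.X.invSet (S.X.C.simple i * v)⁻¹ := by
    refine S.X.mem_invSet.2 ⟨hp, ?_⟩
    rw [mul_inv_rev, S.X.img_mul, inv_eq_of_mul_eq_one_right (simple_mul_self C S i), S.X.img_simple i hp.1,
      S.X.reflect_simple i.isLt, S.X.img_neg _ hp.1]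
    have := h
    rw [← (S.X.root_facts h.1).2.1] at this
    exact (S.X.pos_neg_iff (C.neg_lt _)).1 this
  have hUv : ∀ u : ↥(S.Uw v⁻¹), N * u * N⁻¹ ∈ S.Uw (S.X.C.simple i * v)⁻¹ := fun u => by
    refine conj_closure_le (T := {g : GL D.Idx F | ∃ r t, r ∈ S.X.invSet v⁻¹ ∧ g = S.xg r t}) _ ?_ u.2
    rintro x ⟨r, t, hr, rfl⟩
    obtain ⟨c, -, h1, -⟩ := S.acts_simple i r (S.X.mem_invSet.1 hr).1.1
    rw [← hN] at h1
    rw [h1]
    exact Subgroup.subset_closure ⟨_, _, (hmem r hr).2, rfl⟩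
  let f : F × ↥(S.Uw v⁻¹) → ↥(S.Uw (S.X.C.simple i * v)⁻¹) := fun q =>
    ⟨S.xg P q.1 * (N * q.2 * N⁻¹), mul_mem (Subgroup.subset_closure ⟨P, q.1, hP, rfl⟩) (hUv q.2)⟩
  have hf : Function.Injective f := by
    rintro ⟨a, u⟩ ⟨a', u'⟩ he
    have he' : S.xg P a * (N * u * N⁻¹) = S.xg P a' * (N * u' * N⁻¹) := congrArg Subtype.val he
    have h2 : N⁻¹ * S.xg P (a - a') * N = (u' : GL D.Idx F) * (u : GL D.Idx F)⁻¹ := by
      calc N⁻¹ * S.xg P (a - a') * N
          = N⁻¹ * ((S.xg P a')⁻¹ * (S.xg P a * (N * u * N⁻¹))) * N * (u : GL D.Idx F)⁻¹ := by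
            rw [S.xg_inv, ← mul_assoc (S.xg P (-a')), ← S.xg_add, neg_add_eq_sub]; group
        _ = _ := by rw [he']; group
    obtain ⟨c, hc, h1, -⟩ := (S.acts_simple i).inv S P hp.1
    rw [inv_eq_of_mul_eq_one_right (simple_mul_self C S i), S.X.img_simple i hp.1, S.X.reflect_simple i.isLt] at h1
    have h3 := h1 (a - a')
    rw [inv_inv, ← hN, h2] at h3
    have h4 : S.xg (D.neg P) (c * (a - a')) = 1 := by
      have := Subgroup.mem_inf.mpr ⟨U_le_B (S.Uw_le_U _ (mul_mem u'.2 (inv_mem u.2))),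
        h3 ▸ S.xg_mem_V ((S.X.pos_neg_iff (C.neg_lt P)).1 (by rw [(S.X.root_facts hp.1).2.1]; exact hp))
          (c * (a - a'))⟩
      rw [S.B_inf_V, Subgroup.mem_bot] at this
      rw [← h3, this]
    obtain rfl : a = a' := sub_eq_zero.mp ((mul_eq_zero.mp (S.xg_eq_one (C.neg_lt P) h4)).resolve_left hc)
    rw [Subtype.ext (mul_left_cancel (mul_right_cancel (mul_left_cancel he')))]
  have hbij : Function.Bijective f := (Nat.bijective_iff_injective_and_card f).2 ⟨hf, by
    rw [Nat.card_prod, S.card_Uw, S.card_Uw, inv_inv_eq C S, inv_inv_eq C S, S.X.inv_simple_mul_of_pos i h,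
      pow_succ']⟩
  refine (Fintype.sum_bijective f hbij _ _ fun q => ?_).symm
  rw [← act_mul ρ (mul_mem (xg_mem C S _ _) (nn_mem C S i 1)) (mul_mem (uw_mem C S q.2) (S.N_le_group n.2))]
  congr 1
  show S.xg P q.1 * N * ((q.2 : GL D.Idx F) * n) = S.xg P q.1 * (N * q.2 * N⁻¹) * (N * n)
  group

theorem Psi_sN (i : Fin D.rank) : Psi S ρ (S.sN i) = T S ρ i := by
  have h : D.IsPosRoot (S.X.img (S.toW (1 : ↥N₀))⁻¹ (D.simple i)) := by
    rw [map_one, inv_one, S.X.img_one]; exact S.X.simple_pos i.isLt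
  have := Psi_step C S ρ i 1 h
  rwa [mul_one, Psi_H C S ρ 1 (map_one _), Subgroup.coe_one, act_one ρ, mul_one] at this

theorem Psi_mul : ∀ (j : ℕ) (n m : ↥N₀), S.X.inv (S.toW n) = j →
    S.X.inv (S.toW n * S.toW m) = S.X.inv (S.toW n) + S.X.inv (S.toW m) →
    Psi S ρ (n * m) = Psi S ρ n * Psi S ρ m := by
  intro j
  induction j with
  | zero =>
    intro n m hn _
    have hn1 := S.X.inv_eq_zero_iff.1 hn
    have hH : (n : GL D.Idx F) ∈ D.diagonalSubgroup F := S.toW_ker.le hn1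
    rw [Psi_H C S ρ n hn1, act_H_Psi C S ρ hH m]
    have hc : (((m⁻¹ * n * m : ↥N₀)) : GL D.Idx F) ∈ D.diagonalSubgroup F := by
      refine S.toW_ker.le (?_ : S.toW (m⁻¹ * n * m) = 1)
      rw [map_mul, map_mul, hn1, mul_one, ← map_mul, inv_mul_cancel, map_one]
    have := Psi_mul_H C S ρ m hc
    simp only [Subgroup.coe_mul, Subgroup.coe_inv] at this
    rw [← this]
    congr 1
    group
  | succ j ih =>
    intro n m hn hadd
    obtain ⟨i, hi⟩ := S.X.exists_descent (w := S.toW n)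
      (by intro h; rw [h, S.X.inv_eq_zero_iff.2 rfl] at hn; omega)
    obtain ⟨hinv, hpos, -, -⟩ := S.invSet_step i hi
    set n' := (S.sN i)⁻¹ * n with hn'
    have hw' : S.toW n' = S.X.C.simple i * S.toW n := by
      rw [hn', map_mul, map_inv, S.toW_sN, inv_eq_of_mul_eq_one_right (simple_mul_self C S i)]
    have e : n = S.sN i * n' := by rw [hn', mul_inv_cancel_left]
    rw [← hw'] at hinv hpos
    have h1 := inv_mul_le C S _ (S.toW n') (S.toW m) rfl
    have h2 := inv_simple_le C S i (S.toW n' * S.toW m)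
    rw [← mul_assoc, hw', ← mul_assoc, simple_mul_self C S i, one_mul, hadd, ← hw'] at h2
    have hpos2 : D.IsPosRoot (S.X.img (S.toW (n' * m))⁻¹ (D.simple i)) := by
      refine (S.X.pos_or_neg (S.X.img_lt _ (S.X.simple_lt i.isLt))).resolve_right fun hneg => ?_
      have h3 := S.X.inv_simple_mul_of_neg i hneg
      rw [map_mul, ← mul_assoc, hw', ← mul_assoc, simple_mul_self C S i, one_mul, hadd, ← hw'] at h3
      omega
    rw [e, mul_assoc, Psi_step C S ρ i _ hpos2, Psi_step C S ρ i _ hpos, ih n' m (by omega) (by omega), mul_assoc]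

theorem fixed_act_H {h : GL D.Idx F} (hh : h ∈ D.diagonalSubgroup F) {x : V} (hx : Fixed ρ x) :
    Fixed ρ (act ρ h x) := by
  intro u hu
  have hu' : h⁻¹ * u * h ∈ D.posUnipotent F := by
    simpa using (Subgroup.mem_normalizer_iff.1 (ChevalleyTorus.H_le_normalizer_U C (inv_mem hh)) u).1 hu
  have e : u * h = h * (h⁻¹ * u * h) := by group
  rw [← act_mul_apply ρ (S.U_le_group hu) (S.H_le_group hh), e,
    act_mul_apply ρ (S.H_le_group hh) (S.U_le_group hu'), hx _ hu']

theorem T_fixed (i : Fin D.rank) {x : V} (hx : Fixed ρ x) : Fixed ρ (T S ρ i x) := by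
  intro u hu
  have hp := S.X.simple_pos i.isLt
  obtain ⟨v, hv, a, rfl⟩ := S.U_decomp i.isLt hu
  rw [T, LinearMap.sum_apply, map_sum]
  refine Fintype.sum_bijective _ (Equiv.addLeft a).bijective _ _ fun t => ?_
  set n := S.nn (D.simple i) (1 : F) with hn
  have h1 := S.simple_mul_upSub i.isLt hv (-(a + t))
  set v' := S.xg (D.simple i) (-(a + t)) * v * (S.xg (D.simple i) (-(a + t)))⁻¹
  have hH : n * n ∈ D.diagonalSubgroup F := S.nn_mul_nn_mem hp.1 one_ne_zero one_ne_zero
  have h2 : n⁻¹ * v' * n ∈ D.posUnipotent F := by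
    have h3 := upSub_le_U (F := F) i.val (S.nn_conj_upSub i h1)
    rw [← hn] at h3
    have h4 := (Subgroup.mem_normalizer_iff.1 (ChevalleyTorus.H_le_normalizer_U C (inv_mem hH)) _).1 h3
    convert h4 using 1
    group
  have e : v * S.xg (D.simple i) a * (S.xg (D.simple i) t * n) =
      S.xg (D.simple i) (a + t) * n * (n⁻¹ * v' * n) := by
    simp only [v', ← S.xg_inv, inv_inv, S.xg_add, mul_inv_rev]
    group
  show act ρ (v * S.xg (D.simple i) a) _ = _
  rw [← act_mul_apply ρ (mul_mem (S.U_le_group (upSub_le_U _ hv)) (xg_mem C S _ _))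
      (mul_mem (xg_mem C S _ _) (nn_mem C S i 1)), e,
    act_mul_apply ρ (mul_mem (xg_mem C S _ _) (nn_mem C S i 1)) (S.U_le_group h2), hx _ h2]
  rfl

theorem Psi_fixed : ∀ (j : ℕ) (n : ↥N₀), S.X.inv (S.toW n) = j → ∀ x : V, Fixed ρ x → Fixed ρ (Psi S ρ n x) := by
  intro j
  induction j with
  | zero =>
    intro n hn x hx
    have hn1 := S.X.inv_eq_zero_iff.1 hn
    rw [Psi_H C S ρ n hn1]
    exact fixed_act_H C S ρ (S.toW_ker.le hn1) hx
  | succ j ih =>
    intro n hn x hx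
    obtain ⟨i, hi⟩ := S.X.exists_descent (w := S.toW n)
      (by intro h; rw [h, S.X.inv_eq_zero_iff.2 rfl] at hn; omega)
    obtain ⟨hinv, hpos, -, -⟩ := S.invSet_step i hi
    set n' := (S.sN i)⁻¹ * n with hn'
    have hw' : S.toW n' = S.X.C.simple i * S.toW n := by
      rw [hn', map_mul, map_inv, S.toW_sN, inv_eq_of_mul_eq_one_right (simple_mul_self C S i)]
    rw [← hw'] at hinv hpos
    rw [show n = S.sN i * n' by rw [hn', mul_inv_cancel_left], Psi_step C S ρ i _ hpos]
    exact T_fixed C S ρ i (ih n' (by omega) x hx)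

/-! ### the quadratic relation -/

variable (p : ℕ) [Fact p.Prime] [CharP F p] [CharP k p]

include p in
theorem T_T (i : Fin D.rank) {x : V} (hx : Fixed ρ x) :
    T S ρ i (T S ρ i x) = ∑ b : Fˣ, act ρ (ChevalleyCore.hg C (D.simple i) (b : F)) (T S ρ i x) := by
  have hp := S.X.simple_pos i.isLt
  set P := D.simple i.val
  set n := S.nn P (1 : F) with hn
  have hN : n ∈ D.group F := nn_mem C S i 1
  have hX : ∀ r t, S.xg r t ∈ D.group F := xg_mem C S
  have hnn : n * n ∈ D.diagonalSubgroup F := S.nn_mul_nn_mem hp.1 one_ne_zero one_ne_zero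
  obtain ⟨e, he, hep, -⟩ := S.acts_simple i P hp.1
  rw [S.X.img_simple i hp.1, S.X.reflect_simple i.isLt] at hep
  set z := act ρ (n * n) x with hz
  have hzf : Fixed ρ z := fixed_act_H C S ρ hnn hx
  set f : F → V := fun a => ∑ s : F, act ρ (S.xg P s * n * (S.xg P a * n)) x with hf
  have hTT : T S ρ i (T S ρ i x) = ∑ a : F, f a := by
    simp only [T, hf, LinearMap.sum_apply, map_sum]
    exact Fintype.sum_congr _ _ fun a => Fintype.sum_congr _ _ fun s =>
      (act_mul_apply ρ (mul_mem (hX _ _) hN) (mul_mem (hX _ _) hN) x).symm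
  have h0 : f 0 = 0 := by
    have : ∀ s, act ρ (S.xg P s * n * (S.xg P 0 * n)) x = z := fun s => by
      rw [S.xg_zero, one_mul, mul_assoc, act_mul_apply ρ (hX _ _) (mul_mem hN hN), ← hz]
      exact hzf _ (S.xg_mem_U hp s)
    simp only [hf, this, Finset.sum_const, Finset.card_univ]
    obtain ⟨m, _, hq⟩ := FiniteField.card F p
    rw [← Nat.cast_smul_eq_nsmul k, hq, Nat.cast_pow, CharP.cast_eq_zero k p, zero_pow m.pos.ne', zero_smul]
  have hne : ∀ a : F, a ≠ 0 →
      f a = act ρ (ChevalleyCore.hg C P (e * a)⁻¹) (T S ρ i x) := by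
    intro a ha
    set t := -(e * a)⁻¹ with ht_def
    have ht : t ≠ 0 := neg_ne_zero.mpr (inv_ne_zero (mul_ne_zero he ha))
    have key : n * S.xg P a * n⁻¹ = S.xg P (-t) * S.nn P t * S.xg P (-t) := by
      rw [hn, hep]
      have : -t⁻¹ = e * a := by rw [ht_def, inv_neg, inv_inv, neg_neg]
      simp only [Sys.nn, nOf, this, ← S.xg_inv]
      group
      all_goals rfl
    have hgP : ∀ u : F, ChevalleyCore.hg C P u = S.nn P u * S.nn P (-1) := hg_eq C S i
    have hm1 : S.nn P (-1) = n⁻¹ := by rw [hn, S.nn_inv]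
    set h := ChevalleyCore.hg C P (e * a)⁻¹ with hh
    have hh2 : S.nn P t * (n * n) = h * n := by
      have e1 : S.nn P t * n = h := by
        have hg1 : ChevalleyCore.hg C P t * ChevalleyCore.hg C P (-1 : F) = h := by
          rw [ChevalleyCore.hg_mul C hp.1 ht (neg_ne_zero.2 (one_ne_zero (α := F))), hh, ht_def]
          congr 1; ring
        have hg2 : ChevalleyCore.hg C P (-1 : F) = n * n := by
          have hg3 : ChevalleyCore.hg C P (-1 : F) * ChevalleyCore.hg C P (-1 : F) = 1 := by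
            rw [ChevalleyCore.hg_mul C hp.1 (neg_ne_zero.2 one_ne_zero) (neg_ne_zero.2 one_ne_zero), neg_mul_neg,
              one_mul, ChevalleyCore.hg_one C hp.1]
          rw [eq_inv_of_mul_eq_one_left hg3, hgP, hm1, mul_inv_rev, inv_inv]
        rw [← hg1, hg2, hgP, hm1]
        group
      rw [← mul_assoc, e1]
    have hH : h ∈ D.diagonalSubgroup F := ChevalleyTorus.hg_mem_H C hp.1 (inv_ne_zero (mul_ne_zero he ha))
    obtain ⟨γ, hγ, hγc⟩ := ChevalleyTorus.H_conj_xg C hp.1 hH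
    rw [T, LinearMap.sum_apply, map_sum]
    simp only [hf]
    refine (Fintype.sum_bijective _ ((Equiv.mulLeft₀ γ hγ).trans (Equiv.addRight t)).bijective _ _ fun s => ?_).symm
    show act ρ h (act ρ (S.xg P s * n) x) = act ρ (S.xg P (γ * s + t) * n * (S.xg P a * n)) x
    have e1 : S.xg P (γ * s + t) * n * (S.xg P a * n) = S.xg P (γ * s) * S.nn P t * S.xg P (-t) * (n * n) := by
      calc S.xg P (γ * s + t) * n * (S.xg P a * n)
          = S.xg P (γ * s + t) * (n * S.xg P a * n⁻¹) * (n * n) := by group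
        _ = _ := by rw [key, S.xg_add, ← S.xg_inv P t]; group
    have hc' : h * S.xg P s * h⁻¹ = S.xg P (γ * s) := by
      have := hγc s
      rwa [ChevalleyParabolicBN.sys_xg C S, ChevalleyParabolicBN.sys_xg C S]
    have e2 : S.xg P (γ * s) * S.nn P t * (n * n) = h * (S.xg P s * n) := by
      rw [mul_assoc (S.xg P (γ * s)), hh2, ← hc']; group
    have hnt : S.nn P t ∈ D.group F := nn_mem C S i t
    rw [e1, act_mul_apply ρ (mul_mem (mul_mem (hX _ _) hnt) (hX _ _)) (mul_mem hN hN), ← hz,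
      act_mul_apply ρ (mul_mem (hX _ _) hnt) (hX _ _), hzf _ (S.xg_mem_U hp _), hz,
      ← act_mul_apply ρ (mul_mem (hX _ _) hnt) (mul_mem hN hN), e2,
      ← act_mul_apply ρ (S.H_le_group hH) (mul_mem (hX _ _) hN)]
  have hs : ∑ a : F, f a = ∑ b : Fˣ, f ((e * (b : F))⁻¹) := by
    rw [← Finset.sum_erase (s := Finset.univ) (f := f) h0]
    refine (Finset.sum_bij (fun (b : Fˣ) _ => (e * (b : F))⁻¹) ?_ ?_ ?_ fun b _ => rfl).symm
    · exact fun b _ => Finset.mem_erase.2 ⟨inv_ne_zero (mul_ne_zero he b.ne_zero), Finset.mem_univ _⟩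
    · exact fun b _ b' _ h => Units.ext (mul_left_cancel₀ he (inv_injective h))
    · intro a ha
      have ha' := (Finset.mem_erase.1 ha).1
      exact ⟨Units.mk0 (e * a)⁻¹ (inv_ne_zero (mul_ne_zero he ha')), Finset.mem_univ _, by
        simp only [Units.val_mk0]; field_simp⟩
  rw [hTT, hs]
  refine Fintype.sum_congr _ _ fun b => ?_
  rw [hne _ (inv_ne_zero (mul_ne_zero he b.ne_zero))]
  congr 2
  field_simp

omit S in
/-- `h_i` as a homomorphism into `H` -/
noncomputable def hh (i : Fin D.rank) : Fˣ →* ↥(D.diagonalSubgroup F) :=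
  MonoidHom.mk' (fun b => ⟨ChevalleyCore.hg C (D.simple i) (b : F),
      ChevalleyTorus.hg_mem_H C (ChevalleyRoots.simple_lt C i.isLt) b.ne_zero⟩)
    fun a b => Subtype.ext (ChevalleyCore.hg_mul C (ChevalleyRoots.simple_lt C i.isLt) a.ne_zero b.ne_zero).symm

/-- the scalar of the quadratic relation -/
noncomputable def cval (χ : ↥(D.diagonalSubgroup F) →* k) (i : Fin D.rank) : k :=
  if χ.comp (hh C i) = 1 then -1 else 0

include p in
theorem sum_chi (χ : ↥(D.diagonalSubgroup F) →* k) (i : Fin D.rank) :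
    ∑ b : Fˣ, χ (hh C i b) = cval C χ i := by
  rw [cval]
  simp only [← MonoidHom.comp_apply]
  split_ifs with h
  · simp only [h, MonoidHom.one_apply, Finset.sum_const, Finset.card_univ, Fintype.card_units, nsmul_eq_mul,
      mul_one, Nat.cast_sub (Fintype.card_pos (α := F))]
    obtain ⟨m, _, hq⟩ := FiniteField.card F p
    rw [hq, Nat.cast_pow, CharP.cast_eq_zero k p, zero_pow m.pos.ne', Nat.cast_one, zero_sub]
  · exact sum_hom_units_eq_zero _ h

include p in
/-- `T_i` on a vector in its own image -/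
theorem T_on_image (i : Fin D.rank) {z : V} (hz : Fixed ρ z) {χ : ↥(D.diagonalSubgroup F) →* k}
    (hx : Eig ρ χ (T S ρ i z)) : T S ρ i (T S ρ i z) = cval C χ i • T S ρ i z := by
  rw [T_T C S ρ p i hz, ← sum_chi C S p χ i, Finset.sum_smul]
  exact Finset.sum_congr rfl fun b _ => hx.2 (hh C i b)

end Cfsg.Agent.ChevalleyModularOps
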