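import Cfsg.Agent.Lib.ChevalleyTorus
import Cfsg.Agent.Lib.ChevalleyAll

/-!
Perfectness of the Chevalley groups.
-/

set_option autoImplicit false
set_option linter.unusedSimpArgs false

namespace Cfsg.Agent.ChevalleyPerfect

open scoped commutatorElement
open Cfsg.Lie Cfsg.Agent.ChevalleyEngine Cfsg.Agent.ChevalleyCert Cfsg.Agent.ChevalleyRoots
  Cfsg.Agent.ChevalleyCore Cfsg.Agent.ChevalleyTorus

variable {D : ChevalleyDatum} {F : Type*} [Field F] (C : Cert D)
include C

theorem ng_mem_group (r : ℕ) (t : F) : ng C r t ∈ D.group F :=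
  mul_mem (mul_mem (xg_mem_group C _ _) (xg_mem_group C _ _)) (xg_mem_group C _ _)

theorem hg_mem_group (r : ℕ) (t : F) : hg C r t ∈ D.group F :=
  mul_mem (ng_mem_group C _ _) (ng_mem_group C _ _)

omit C in
/-- a commutator equal to `x_p(± c t u)` -/
def Single (D : ChevalleyDatum) (p : ℕ) (c : ℤ) (w : ℕ × ℕ) : Prop :=
  w.1 < D.nroots ∧ w.2 < D.nroots ∧ w.2 ≠ w.1 ∧ w.2 ≠ D.neg w.1 ∧ D.commTerms w.1 w.2 = [(p, c, 1, 1)]

omit C in
/-- how the fundamental root `i` is reached by commutators -/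
def Reach (D : ChevalleyDatum) (F : Type*) [Field F] (i : ℕ) : Prop :=
  (∃ c w, (c = 1 ∨ c = -1) ∧ Single D (D.simple i) c w) ∨
    ((∃ a : F, a ≠ 0 ∧ a ≠ 1) ∧
      ((∃ j, j < D.rank ∧ D.cartan j (D.simple i) = -1) ∨ ∃ c w, (c = 2 ∨ c = -2) ∧ Single D (D.simple i) c w))

theorem single_mem {p : ℕ} {c : ℤ} {w : ℕ × ℕ} (h : Single D p c w) (hc : (c : F) ≠ 0) (t : F) :
    xg C p t ∈ ⁅D.group F, D.group F⁆ := by
  obtain ⟨hr, hs, h1, h2, hl⟩ := h
  have hf := comm_formula C hr hs h1 h2 (-(t / (c : F))) (1 : F)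
  have he : wg C (D.commWord F w.1 w.2 (-(t / (c : F))) 1) = xg C p t := by
    simp only [ChevalleyDatum.commWord, hl, List.map_cons, List.map_nil, wg, List.prod_cons, List.prod_nil, mul_one,
      pow_one, neg_neg]
    congr 1
    field_simp
  rw [he] at hf
  have : xg C p t = ⁅(xg C w.2 (1 : F))⁻¹, (xg C w.1 (-(t / (c : F))))⁻¹⁆ := by
    rw [commutatorElement_def]
    simp only [inv_inv]
    rw [mul_assoc ((xg C w.2 (1 : F))⁻¹ * _), hf]
    group
  rw [this]
  exact Subgroup.commutator_mem_commutator (inv_mem (xg_mem_group C _ _)) (inv_mem (xg_mem_group C _ _))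

theorem torus_mem {j r : ℕ} (hj : j < D.rank) (hr : r < D.nroots) {a : F} (ha : a ≠ 0)
    (h : a ^ D.cartan j r ≠ 1) (t : F) : xg C r t ∈ ⁅D.group F, D.group F⁆ := by
  set u := t / (a ^ D.cartan j r - 1) with hu
  have hne : a ^ D.cartan j r - 1 ≠ 0 := sub_ne_zero.2 h
  have hc := hg_conj_xg C (simple_lt C hj) hr ha u
  rw [pairing_simple C hj] at hc
  have : xg C r t = ⁅hg C (D.simple j) a, xg C r u⁆ := by
    rw [commutatorElement_def, hc, mul_inv_cancel_right, xg_inv, xg_mul]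
    congr 1
    rw [hu]
    field_simp
    ring
  rw [this]
  exact Subgroup.commutator_mem_commutator (hg_mem_group C _ _) (xg_mem_group C _ _)

theorem simple_mem_comm {i : ℕ} (hi : i < D.rank) (h : Reach D F i) (t : F) :
    xg C (D.simple i) t ∈ ⁅D.group F, D.group F⁆ := by
  rcases h with ⟨c, w, hc, hs⟩ | ⟨⟨a, ha, ha1⟩, ⟨j, hj, hjc⟩ | ⟨c, w, hc, hs⟩⟩
  · exact single_mem C hs (by rcases hc with rfl | rfl <;> simp) t
  · refine torus_mem C hj (simple_lt C hi) ha ?_ t
    rw [hjc, zpow_neg_one]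
    exact fun h => ha1 (inv_eq_one.1 h)
  · by_cases h2 : (2 : F) = 0
    · refine torus_mem C hi (simple_lt C hi) ha ?_ t
      rw [cartan_self C hi]
      intro h
      have h3 : (a - 1) * (a - 1) = 0 := by
        rw [show ((2 : ℤ)) = ((2 : ℕ) : ℤ) from rfl, zpow_natCast] at h
        linear_combination h - (a - 1) * h2
      exact ha1 (sub_eq_zero.1 (mul_self_eq_zero.1 h3))
    · exact single_mem C hs (by rcases hc with rfl | rfl <;> simpa using h2) t

theorem perfect (h : ∀ i < D.rank, Reach D F i) : commutator ↥(D.group F) = ⊤ := by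
  have hall : ∀ r, r < D.nroots → ∀ t : F, xg C r t ∈ ⁅D.group F, D.group F⁆ := by
    refine root_induction C (P := fun r => ∀ t : F, xg C r t ∈ ⁅D.group F, D.group F⁆)
      (fun i hi => simple_mem_comm C hi (h i hi)) fun i r hi hr ih t => ?_
    have hc := ng_simple_conj C hi hr ((C.eta i r : F) * t)
    rw [← mul_assoc, eta_cast_sq C, one_mul] at hc
    show xg C (D.reflectRoot i r) t ∈ _
    rw [← hc]
    set k := xg C r ((C.eta i r : F) * t)
    set n := ng C (D.simple i) (1 : F)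
    have he : n * k * n⁻¹ = ⁅n, k⁆ * k := by rw [commutatorElement_def]; group
    rw [he]
    exact mul_mem (Subgroup.commutator_mem_commutator (ng_mem_group C _ _) (xg_mem_group C _ _)) (ih _)
  apply Subgroup.map_injective (D.group F).subtype_injective
  rw [commutator_def, Subgroup.map_commutator, ← MonoidHom.range_eq_map, Subgroup.range_subtype]
  apply le_antisymm (Subgroup.commutator_le_self _)
  conv_lhs => rw [ChevalleyDatum.group]
  rw [Subgroup.closure_le]
  rintro g ⟨⟨r, hr⟩, t, hg'⟩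
  obtain rfl : g = xg C r t := Units.ext (hg'.trans (by simp [ChevalleyDatum.x, hr]))
  exact hall r hr t

omit C in
/-- certificate for the perfectness at the fundamental roots -/
def chk (D : ChevalleyDatum) (l : List (ℤ × ℕ × ℕ)) : Prop :=
  ∀ i < D.rank, ((l.getD i (0, 0, 0)).1 = 1 ∨ (l.getD i (0, 0, 0)).1 = -1) ∧
    Single D (D.simple i) (l.getD i (0, 0, 0)).1 (l.getD i (0, 0, 0)).2

omit C in
theorem reach_of_chk {l : List (ℤ × ℕ × ℕ)} (h : chk D l) : ∀ i < D.rank, Reach D F i :=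
  fun i hi => Or.inl ⟨_, _, (h i hi).1, (h i hi).2⟩

omit C in
theorem reachD4 : ∀ i < chevD4.rank, Reach chevD4 F i :=
  reach_of_chk (l := [(1, 6, 22), (-1, 1, 23), (-1, 3, 22), (-1, 2, 22)]) (by unfold chk Single; decide +kernel)

omit C in
theorem reachF4 : ∀ i < chevF4.rank, Reach chevF4 F i :=
  reach_of_chk (l := [(-1, 7, 44), (-1, 8, 40), (-1, 2, 46), (-1, 1, 47)]) (by unfold chk Single; decide +kernel)

omit C in
theorem reachE6 : ∀ i < chevE6.rank, Reach chevE6 F i :=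
  reach_of_chk (l := [(1, 16, 66), (-1, 1, 71), (-1, 5, 69), (-1, 2, 70), (-1, 3, 69), (-1, 4, 68)])
    (by unfold chk Single; decide +kernel)

omit C in
theorem reachE7 : ∀ i < chevE7.rank, Reach chevE7 F i :=
  reach_of_chk (l := [(-1, 1, 125), (-1, 7, 122), (-1, 2, 124), (-1, 3, 123), (-1, 4, 122), (-1, 5, 121), (-1, 6, 120)])
    (by unfold chk Single; decide +kernel)

omit C in
theorem reachE8 : ∀ i < chevE8.rank, Reach chevE8 F i :=
  reach_of_chk (l := [(-1, 14, 233), (-1, 7, 234), (-1, 6, 234), (-1, 5, 235), (-1, 4, 236), (-1, 3, 237), (-1, 2, 238),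
    (-1, 1, 239)]) (by unfold chk Single; decide +kernel)

omit C in
theorem reachG2 (h : ∃ a : F, a ≠ 0 ∧ a ≠ 1) : ∀ i < chevG2.rank, Reach chevG2 F i := by
  intro i hi
  have : i = 0 ∨ i = 1 := by
    have : chevG2.rank = 2 := rfl
    omega
  rcases this with rfl | rfl
  · exact Or.inr ⟨h, Or.inl ⟨1, by decide, by decide +kernel⟩⟩
  · exact Or.inl ⟨-1, (1, 11), Or.inr rfl, by unfold Single; decide +kernel⟩

omit C in
theorem reachB2 (h : ∃ a : F, a ≠ 0 ∧ a ≠ 1) : ∀ i < chevB2.rank, Reach chevB2 F i := by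
  intro i hi
  have : i = 0 ∨ i = 1 := by
    have : chevB2.rank = 2 := rfl
    omega
  rcases this with rfl | rfl
  · exact Or.inr ⟨h, Or.inl ⟨1, by decide, by decide +kernel⟩⟩
  · exact Or.inr ⟨h, Or.inr ⟨-2, (2, 6), Or.inr rfl, by unfold Single; decide +kernel⟩⟩

end Cfsg.Agent.ChevalleyPerfect
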