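import Cfsg.Agent.Lib.ChevalleySteinbergChar

/-!
The Weyl group of a standard parabolic subgroup: longest element, cells, radical.
-/

set_option autoImplicit false
set_option linter.unusedSectionVars false
set_option linter.unusedSimpArgs false

namespace Cfsg.Agent.ChevalleyRelative

open Cfsg.Lie Cfsg.Agent.ChevalleyCert Cfsg.Agent.ChevalleyRoots Cfsg.Agent.ChevalleyParabolic
  Cfsg.Agent.ChevalleyCells Cfsg.Agent.ChevalleySteinbergChar Cfsg.Agent.ChevBruhat Cfsg.Agent.ChevBruhat.Sys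
open scoped Classical

variable {D : ChevalleyDatum} {F : Type*} [Field F] (C : Cert D) (S : ChevBruhat.Sys D F)
include C S

/-! ### roots -/

/-- `w` makes the fundamental roots of `J` negative -/
def NegOn (J : Set ℕ) (w : S.X.W) : Prop :=
  ∀ i : Fin D.rank, i.val ∈ J → D.IsNegRoot (S.X.img w (D.simple i))

theorem neg_of_cor (w : S.X.W) {r : ℕ} (hr : D.IsPosRoot r)
    (h : ∀ k < D.rank, ChevWeyl.cor D r k ≠ 0 → D.IsNegRoot (S.X.img w (D.simple k))) :
    D.IsNegRoot (S.X.img w r) := by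
  rw [S.X.neg_iff (S.X.img_lt w hr.1)]
  intro j hj
  rw [S.X.cor_img w hr.1 j hj]
  refine Finset.sum_nonpos fun k hk => ?_
  have hk := Finset.mem_range.mp hk
  by_cases h0 : ChevWeyl.cor D r k = 0
  · simp [h0]
  · exact mul_nonpos_of_nonneg_of_nonpos ((S.X.pos_iff hr.1).mp hr k hk)
      ((S.X.neg_iff (h k hk h0).1).mp (h k hk h0) j hj)

theorem negOn_root {J : Set ℕ} {w : S.X.W} (hw : NegOn S J w) {r : ℕ} (hr : D.IsPosRoot r)
    (hJ : D.InRootSub J r) : D.IsNegRoot (S.X.img w r) :=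
  neg_of_cor C S w hr fun k hk h0 => hw ⟨k, hk⟩ (by
    by_contra hkJ
    exact h0 (hJ.2 k hk hkJ))

theorem negOn_neg {J : Set ℕ} {w : S.X.W} (hw : NegOn S J w) {r : ℕ} (hr : D.IsNegRoot r)
    (hJ : D.InRootSub J r) : D.IsPosRoot (S.X.img w r) := by
  have h := negOn_root C S hw ((S.X.pos_neg_iff hr.1).mpr hr) (inRootSub_neg C hr.1 hJ)
  rw [S.X.img_neg w hr.1] at h
  have h2 := (S.X.pos_neg_iff h.1).mpr h
  rwa [(S.X.root_facts (S.X.img_lt w hr.1)).2.1] at h2

theorem inRootSub_img {J : Set ℕ} {b : S.X.W} (hb : b ∈ WJ S J) {r : ℕ} (h : D.InRootSub J r) :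
    D.InRootSub J (S.X.img b r) := by
  have hd : deg C J (S.X.img b r) = 0 := by rw [deg_img_WJ C S hb h.1, deg_in C h]
  rcases S.X.pos_or_neg (S.X.img_lt b h.1) with hp | hn
  · exact deg_zero_mem C S J hp hd
  · have h1 := deg_zero_mem C S J ((S.X.pos_neg_iff hn.1).mpr hn)
      (by rw [deg_neg_root C S J hn.1, hd, neg_zero])
    have h2 := inRootSub_neg C (C.neg_lt _) h1
    rwa [(S.X.root_facts hn.1).2.1] at h2

theorem not_inRootSub_img {J : Set ℕ} {b : S.X.W} (hb : b ∈ WJ S J) {r : ℕ} (hr : r < D.nroots)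
    (h : ¬ D.InRootSub J r) : ¬ D.InRootSub J (S.X.img b r) := fun h' => h (by
  have := inRootSub_img C S (inv_mem hb) h'
  rwa [S.X.img_inv_img] at this)

theorem pos_img_outside {J : Set ℕ} {b : S.X.W} (hb : b ∈ WJ S J) {r : ℕ} (hr : D.IsPosRoot r)
    (h : ¬ D.InRootSub J r) : D.IsPosRoot (S.X.img b r) := by
  refine (S.X.pos_or_neg (S.X.img_lt b hr.1)).resolve_right fun hn => ?_
  have h1 := deg_nonpos C S J hn
  rw [deg_img_WJ C S hb hr.1] at h1
  have := deg_out C hr h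
  omega

theorem invSet_inRootSub {J : Set ℕ} {b : S.X.W} (hb : b ∈ WJ S J) {r : ℕ} (hr : r ∈ S.X.invSet b) :
    D.InRootSub J r := by
  rw [S.X.mem_invSet] at hr
  by_contra h
  exact S.X.not_pos_and_neg (pos_img_outside C S hb hr.1 h) hr.2

theorem WJ_mono {K J : Set ℕ} (h : K ⊆ J) : WJ S K ≤ WJ S J :=
  Subgroup.closure_mono (Set.image_mono fun _ hi => h hi)

theorem eq_one_of_posOn {J : Set ℕ} {w : S.X.W} (hw : w ∈ WJ S J) (hp : PosOn S J w) : w = 1 := by
  rw [← S.X.inv_eq_zero_iff, ChevWeyl.Weyl.inv, Finset.card_eq_zero, Finset.eq_empty_iff_forall_notMem]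
  intro r hr
  have hJ := invSet_inRootSub C S hw hr
  rw [S.X.mem_invSet] at hr
  exact S.X.not_pos_and_neg (posOn_root C S hp hr.1 hJ) hr.2

theorem negOn_inv {J : Set ℕ} {w : S.X.W} (hw : w ∈ WJ S J) (h : NegOn S J w) : NegOn S J w⁻¹ := by
  intro i hi
  refine (S.X.pos_or_neg (S.X.img_lt _ (S.X.simple_lt i.isLt))).resolve_left fun hp => ?_
  have h1 := negOn_root C S h hp (inRootSub_img C S (inv_mem hw) (inRootSub_simple C hi i.isLt))
  rw [S.X.img_img_inv] at h1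
  exact S.X.not_pos_and_neg (S.X.simple_pos i.isLt) h1

theorem negOn_unique {J : Set ℕ} {w w' : S.X.W} (hw : w ∈ WJ S J) (hw' : w' ∈ WJ S J) (h : NegOn S J w)
    (h' : NegOn S J w') : w = w' := by
  rw [← inv_mul_eq_one]
  refine eq_one_of_posOn C S (mul_mem (inv_mem hw) hw') fun i hi => ?_
  rw [S.X.img_mul]
  exact negOn_neg C S (negOn_inv C S hw h) (h' i hi) (inRootSub_img C S hw' (inRootSub_simple C hi i.isLt))

theorem exists_negOn (J : Set ℕ) : ∃ w ∈ WJ S J, NegOn S J w := by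
  haveI : Finite S.X.W := Finite.of_injective _ S.X.ρ_injective
  letI : Fintype S.X.W := Fintype.ofFinite _
  obtain ⟨w, hw, hmax⟩ := Finset.exists_max_image (Finset.univ.filter (· ∈ WJ S J)) S.X.inv
    ⟨1, by simp [one_mem]⟩
  simp only [Finset.mem_filter, Finset.mem_univ, true_and] at hw hmax
  refine ⟨w⁻¹, inv_mem hw, fun i hi => ?_⟩
  refine (S.X.pos_or_neg (S.X.img_lt _ (S.X.simple_lt i.isLt))).resolve_left fun hp => ?_
  have := S.X.inv_simple_mul_of_pos i hp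
  have := hmax _ (mul_mem (simple_mem_WJ C S hi) hw)
  omega

/-- the longest element of `W_J` -/
noncomputable def lJ (J : Set ℕ) : S.X.W := Classical.choose (exists_negOn C S J)

theorem lJ_mem (J : Set ℕ) : lJ C S J ∈ WJ S J := (Classical.choose_spec (exists_negOn C S J)).1

theorem lJ_neg (J : Set ℕ) : NegOn S J (lJ C S J) := (Classical.choose_spec (exists_negOn C S J)).2

theorem lJ_inv (J : Set ℕ) : (lJ C S J)⁻¹ = lJ C S J :=
  negOn_unique C S (inv_mem (lJ_mem C S J)) (lJ_mem C S J) (negOn_inv C S (lJ_mem C S J) (lJ_neg C S J))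
    (lJ_neg C S J)

theorem negOn_mul_lJ {K : Set ℕ} {w : S.X.W} (hw : PosOn S K w) : NegOn S K (w * lJ C S K) := by
  intro i hi
  rw [S.X.img_mul]
  exact neg_of_posOn C S hw (S.X.img_lt _ (S.X.simple_lt i.isLt))
    (inRootSub_img C S (lJ_mem C S K) (inRootSub_simple C hi i.isLt)) (lJ_neg C S K i hi)

theorem posOn_mul_lJ {K : Set ℕ} {w : S.X.W} (hw : NegOn S K w) : PosOn S K (w * lJ C S K) := by
  intro i hi
  rw [S.X.img_mul]
  exact negOn_neg C S hw (lJ_neg C S K i hi)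
    (inRootSub_img C S (lJ_mem C S K) (inRootSub_simple C hi i.isLt))

theorem inv_mul_lJ {K : Set ℕ} {w : S.X.W} (hw : PosOn S K w) :
    S.X.inv (w * lJ C S K) = S.X.inv w + S.X.inv (lJ C S K) := by
  set a := lJ C S K with ha
  have hset : S.X.invSet (w * a) = (S.X.invSet w).image (S.X.img a⁻¹) ∪ S.X.invSet a := by
    ext r
    rw [Finset.mem_union, Finset.mem_image, S.X.mem_invSet]
    constructor
    · rintro ⟨hr, hn⟩
      rw [S.X.img_mul] at hn
      by_cases hK : D.InRootSub K r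
      · exact Or.inr (S.X.mem_invSet.mpr ⟨hr, negOn_root C S (lJ_neg C S K) hr hK⟩)
      · exact Or.inl ⟨S.X.img a r, S.X.mem_invSet.mpr ⟨pos_img_outside C S (lJ_mem C S K) hr hK, hn⟩,
          S.X.img_inv_img a r⟩
    · rintro (⟨s, hs, rfl⟩ | h)
      · rw [S.X.mem_invSet] at hs
        have hK : ¬ D.InRootSub K s := fun h => S.X.not_pos_and_neg (posOn_root C S hw hs.1 h) hs.2
        refine ⟨pos_img_outside C S (inv_mem (lJ_mem C S K)) hs.1 hK, ?_⟩
        rw [S.X.img_mul, S.X.img_img_inv]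
        exact hs.2
      · have hK := invSet_inRootSub C S (lJ_mem C S K) h
        rw [S.X.mem_invSet] at h
        refine ⟨h.1, ?_⟩
        rw [S.X.img_mul]
        exact neg_of_posOn C S hw h.2.1 (inRootSub_img C S (lJ_mem C S K) hK) h.2
  rw [ChevWeyl.Weyl.inv, hset, Finset.card_union_of_disjoint,
    Finset.card_image_of_injective _ fun x y h => S.X.img_injective _ h, ChevWeyl.Weyl.inv, ChevWeyl.Weyl.inv]
  rw [Finset.disjoint_left]
  intro r hr hr'
  rw [Finset.mem_image] at hr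
  obtain ⟨s, hs, rfl⟩ := hr
  have hK := invSet_inRootSub C S (lJ_mem C S K) hr'
  have hs' := inRootSub_img C S (lJ_mem C S K) hK
  rw [S.X.img_img_inv] at hs'
  rw [S.X.mem_invSet] at hs
  exact S.X.not_pos_and_neg (posOn_root C S hw hs.1 hs') hs.2

/-- the alternating sum of the Poincare sums of the reduced representatives -/
theorem poincare_alt [Fintype S.X.W] (q : ℤ) {J : Finset ℕ} (hJ : J ⊆ Finset.range D.rank) :
    ∑ K ∈ J.powerset, (-1 : ℤ) ^ K.card * (q ^ S.X.inv (lJ C S (↑K : Set ℕ)) *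
      ∑ w ∈ Finset.univ.filter (fun w => w ∈ WJ S (↑J : Set ℕ) ∧ PosOn S (↑K : Set ℕ) w), q ^ S.X.inv w) = 1 := by
  have hK : ∀ K ∈ J.powerset, q ^ S.X.inv (lJ C S (↑K : Set ℕ)) *
      ∑ w ∈ Finset.univ.filter (fun w => w ∈ WJ S (↑J : Set ℕ) ∧ PosOn S (↑K : Set ℕ) w), q ^ S.X.inv w =
      ∑ w ∈ Finset.univ.filter (fun w => w ∈ WJ S (↑J : Set ℕ) ∧ NegOn S (↑K : Set ℕ) w), q ^ S.X.inv w := by
    intro K hK
    have hle : WJ S (↑K : Set ℕ) ≤ WJ S (↑J : Set ℕ) :=
      WJ_mono C S (Finset.coe_subset.mpr (Finset.mem_powerset.mp hK))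
    have hinv : ∀ w : S.X.W, w * lJ C S (↑K : Set ℕ) * lJ C S (↑K : Set ℕ) = w := fun w => by
      rw [mul_assoc]
      nth_rewrite 1 [← lJ_inv C S]
      rw [inv_mul_cancel, mul_one]
    rw [Finset.mul_sum]
    refine Finset.sum_nbij' (fun w => w * lJ C S (↑K : Set ℕ)) (fun w => w * lJ C S (↑K : Set ℕ)) ?_ ?_
      (fun w _ => hinv w) (fun w _ => hinv w) ?_
    · intro w hw
      simp only [Finset.mem_filter, Finset.mem_univ, true_and] at hw ⊢
      exact ⟨mul_mem hw.1 (hle (lJ_mem C S _)), negOn_mul_lJ C S hw.2⟩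
    · intro w hw
      simp only [Finset.mem_filter, Finset.mem_univ, true_and] at hw ⊢
      exact ⟨mul_mem hw.1 (hle (lJ_mem C S _)), posOn_mul_lJ C S hw.2⟩
    · intro w hw
      simp only [Finset.mem_filter, Finset.mem_univ, true_and] at hw
      rw [inv_mul_lJ C S hw.2, pow_add, mul_comm]
  rw [Finset.sum_congr rfl fun K hK' => by rw [hK K hK']]
  set neg : S.X.W → Finset ℕ := fun w => J.filter fun k => D.IsNegRoot (S.X.img w (D.simple k))
  have hneg : ∀ K ∈ J.powerset, ∀ w, NegOn S (↑K : Set ℕ) w ↔ K ⊆ neg w := by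
    intro K hK w
    refine ⟨fun h k hk => Finset.mem_filter.mpr ⟨Finset.mem_powerset.mp hK hk,
      h ⟨k, Finset.mem_range.mp (hJ (Finset.mem_powerset.mp hK hk))⟩ hk⟩, fun h i hi => ?_⟩
    exact (Finset.mem_filter.mp (h hi)).2
  simp only [Finset.mul_sum, Finset.sum_filter, mul_ite, mul_zero]
  rw [Finset.sum_comm, Finset.sum_eq_single (1 : S.X.W)]
  · rw [Finset.sum_eq_single ∅]
    · have h0 : NegOn S (∅ : Set ℕ) (1 : S.X.W) := fun i hi => absurd hi (Set.notMem_empty i.val)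
      simp [h0, one_mem, S.X.inv_eq_zero_iff.mpr rfl]
    · intro K hK hne
      rw [if_neg]
      rintro ⟨-, h⟩
      obtain ⟨k, hk⟩ := Finset.nonempty_iff_ne_empty.mpr hne
      have := ((hneg K hK 1).mp h) hk
      rw [Finset.mem_filter, S.X.img_one] at this
      exact S.X.not_pos_and_neg (S.X.simple_pos (Finset.mem_range.mp (hJ this.1))) this.2
    · intro h; simp at h
  · intro w _ hw1
    by_cases hw : w ∈ WJ S (↑J : Set ℕ)
    · have hne : neg w ≠ ∅ := fun h => hw1 (eq_one_of_posOn C S hw fun i hi => by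
        refine (S.X.pos_or_neg (S.X.img_lt _ (S.X.simple_lt i.isLt))).resolve_right fun hn => ?_
        have hm : i.val ∈ neg w := Finset.mem_filter.mpr ⟨hi, hn⟩
        rw [h] at hm
        exact Finset.notMem_empty _ hm)
      refine Eq.trans (Finset.sum_congr rfl fun K hK => ?_)
        (show ∑ K ∈ J.powerset, q ^ S.X.inv w * (if K ⊆ neg w then (-1 : ℤ) ^ K.card else 0) = 0 by
          rw [← Finset.mul_sum, ← Finset.sum_filter, show J.powerset.filter (· ⊆ neg w) = (neg w).powerset by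
            ext K; simp only [Finset.mem_filter, Finset.mem_powerset]
            exact ⟨fun h => h.2, fun h => ⟨h.trans (Finset.filter_subset _ _), h⟩⟩,
            Finset.sum_powerset_neg_one_pow_card, if_neg hne, mul_zero])
      rw [hneg K hK]
      by_cases h : K ⊆ neg w <;> simp [h, hw, mul_comm]
    · exact Finset.sum_eq_zero fun K _ => by simp [hw]
  · intro h; exact absurd (Finset.mem_univ _) h

/-! ### cells of a parabolic subgroup -/

theorem rep_mem {J : Set ℕ} {b : S.X.W} (hb : b ∈ WJ S J) :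
    ∃ n : ↥(D.monomialSubgroup F), S.toW n = b ∧ (n : GL D.Idx F) ∈ D.parabolicSubgroup F J := by
  induction hb using Subgroup.closure_induction with
  | mem x hx =>
    obtain ⟨i, hi, rfl⟩ := hx
    exact ⟨S.sN i, S.toW_sN i, sN_mem_parabolic C S hi⟩
  | one => exact ⟨1, map_one _, one_mem _⟩
  | mul x y _ _ hx hy =>
    obtain ⟨n, rfl, hn⟩ := hx; obtain ⟨m, rfl, hm⟩ := hy
    exact ⟨n * m, map_mul _ _ _, mul_mem hn hm⟩
  | inv x _ hx =>
    obtain ⟨n, rfl, hn⟩ := hx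
    exact ⟨n⁻¹, map_inv _ _, inv_mem hn⟩

theorem mem_parabolic_of_cell {J : Set ℕ} {g : GL D.Idx F} {w : S.X.W} (hw : w ∈ WJ S J) (h : InCell S g w) :
    g ∈ D.parabolicSubgroup F J := by
  obtain ⟨b, hb, n, rfl, b', hb', rfl⟩ := h
  obtain ⟨m, hm, hmP⟩ := rep_mem C S hw
  have hH := (S.toW_eq_iff).1 hm
  have hn : (n : GL D.Idx F) ∈ D.parabolicSubgroup F J := by
    have : (n : GL D.Idx F) = m * ((m : GL D.Idx F)⁻¹ * n) := by group
    rw [this]
    exact mul_mem hmP (H_le_parabolic C S J hH)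
  exact mul_mem (mul_mem ((le_sup_left : D.borelSubgroup F ≤ _) hb) hn) ((le_sup_left : D.borelSubgroup F ≤ _) hb')

theorem cell_mem_WJ {J : Set ℕ} {g : GL D.Idx F} {w : S.X.W} (hg' : g ∈ D.parabolicSubgroup F J)
    (h : InCell S g w) : w ∈ WJ S J := by
  obtain ⟨a, ha, h1⟩ := parabolic_mul_cell C S hg' (g := 1) (w := 1)
    (by simpa using cell_N C S (1 : ↥(D.monomialSubgroup F)))
  rw [mul_one, mul_one] at h1
  rw [cell_unique C S h h1]
  exact ha

theorem mem_parabolic_iff {J : Set ℕ} (g : ↥(D.group F)) :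
    (g : GL D.Idx F) ∈ D.parabolicSubgroup F J ↔ wOf C S g ∈ WJ S J :=
  ⟨fun h => cell_mem_WJ C S h (wOf_spec C S g), fun h => mem_parabolic_of_cell C S h (wOf_spec C S g)⟩

theorem out_mem_iff {J : Set ℕ} (x : ↥(D.group F) ⧸ BS D F) :
    ((x.out : ↥(D.group F)) : GL D.Idx F) ∈ D.parabolicSubgroup F J ↔ wq C S x ∈ WJ S J :=
  mem_parabolic_iff C S x.out

/-- the cell of `n` in the flag space, parametrised by `U_w` -/
theorem cell_param (n : ↥(D.monomialSubgroup F)) :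
    Function.Bijective (fun u : ↥(S.Uw (S.toW n)⁻¹) =>
      (⟨((⟨(u : GL D.Idx F) * n, mul_mem (S.U_le_group (S.Uw_le_U _ u.2)) (S.N_le_group n.2)⟩ : ↥(D.group F)) :
          ↥(D.group F) ⧸ BS D F), by
        rw [wq_mk]
        exact wOf_eq C S (cell_mul_left C S (U_le_B (S.Uw_le_U _ u.2)) (cell_N C S n))⟩ :
        {x : ↥(D.group F) ⧸ BS D F // wq C S x = S.toW n})) := by
  constructor
  · intro u u' h
    have h1 := congrArg Subtype.val h
    simp only at h1
    rw [QuotientGroup.eq, Subgroup.mem_subgroupOf] at h1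
    simp only [Subgroup.coe_mul, Subgroup.coe_inv] at h1
    have hu : (u : GL D.Idx F)⁻¹ * u' ∈ S.Uw (S.toW n⁻¹) := by
      rw [map_inv]; exact mul_mem (inv_mem u.2) u'.2
    have h2 := S.conj_Uw_mem_V n⁻¹ hu
    have h3 := Subgroup.mem_inf.mpr (⟨by simpa [mul_assoc] using h1, h2⟩ :
      ((n⁻¹ : ↥(D.monomialSubgroup F)) : GL D.Idx F) * ((u : GL D.Idx F)⁻¹ * u') *
        ((n⁻¹ : ↥(D.monomialSubgroup F)) : GL D.Idx F)⁻¹ ∈ D.borelSubgroup F ∧ _)
    rw [S.B_inf_V, Subgroup.mem_bot] at h3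
    have h4 : (u : GL D.Idx F)⁻¹ * u' = 1 := conj_eq_one_iff.mp h3
    exact Subtype.ext (inv_mul_eq_one.mp h4)
  · rintro ⟨x, hx⟩
    induction x using QuotientGroup.induction_on with
    | H g =>
      rw [wq_mk] at hx
      obtain ⟨b, hb, m, hm, b', hb', e⟩ := wOf_spec C S g
      rw [hx] at hm
      have hk : (n : GL D.Idx F)⁻¹ * m ∈ D.borelSubgroup F := H_le_B ((S.toW_eq_iff).1 hm.symm)
      obtain ⟨c, hc, u, hu, e'⟩ := S.exists_form n⁻¹ (inv_mem hb)
      rw [map_inv] at hu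
      refine ⟨⟨u⁻¹, inv_mem hu⟩, Subtype.ext ?_⟩
      show _ = ((g : ↥(D.group F)) : ↥(D.group F) ⧸ BS D F)
      rw [QuotientGroup.eq, Subgroup.mem_subgroupOf]
      simp only [Subgroup.coe_mul, Subgroup.coe_inv, e, mul_inv_rev, inv_inv] at e' ⊢
      have e2 : (n : GL D.Idx F)⁻¹ * u * b = c⁻¹ * (n : GL D.Idx F)⁻¹ := by
        calc (n : GL D.Idx F)⁻¹ * u * b = c⁻¹ * (c * (n : GL D.Idx F)⁻¹ * u) * b := by group
          _ = _ := by rw [← e']; group
      convert mul_mem (mul_mem (inv_mem hc) hk) hb' using 1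
      simp only [← mul_assoc, e2]

theorem card_cell [Fintype F] (w : S.X.W) :
    Nat.card {x : ↥(D.group F) ⧸ BS D F // wq C S x = w} = Fintype.card F ^ S.X.inv w := by
  obtain ⟨n, rfl⟩ := S.toW_surjective w
  rw [← Nat.card_eq_of_bijective _ (cell_param C S n), S.card_Uw, inv_inv_eq C S, Nat.card_eq_fintype_card]

/-! ### the radical -/

theorem radical_le_U (J : Set ℕ) : D.unipotentRadical F J ≤ D.posUnipotent F :=
  (Subgroup.closure_le _).2 fun g ⟨r, t, hr, _, hg'⟩ => Subgroup.subset_closure ⟨r, t, hr, hg'⟩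

theorem radical_le_parabolic (J : Set ℕ) : D.unipotentRadical F J ≤ D.parabolicSubgroup F J :=
  le_trans (radical_le_U C S J) (le_trans U_le_B le_sup_left)

theorem radical_normal {J : Set ℕ} {x u : GL D.Idx F} (hx : x ∈ D.parabolicSubgroup F J)
    (hu : u ∈ D.unipotentRadical F J) : x * u * x⁻¹ ∈ D.unipotentRadical F J :=
  (Subgroup.mem_normalizer_iff.1 (parabolic_le_normalizer C J hx) u).1 hu

theorem radical_normal' {J : Set ℕ} {x u : GL D.Idx F} (hx : x ∈ D.parabolicSubgroup F J)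
    (hu : u ∈ D.unipotentRadical F J) : x⁻¹ * u * x ∈ D.unipotentRadical F J := by
  simpa using radical_normal C S (inv_mem hx) hu

theorem U_split (J : Set ℕ) {u : GL D.Idx F} (hu : u ∈ D.posUnipotent F) :
    ∃ r ∈ D.unipotentRadical F J, ∃ l ∈ S.Uw (lJ C S J), u = r * l := by
  have hle : D.posUnipotent F ≤ S.Uw (lJ C S J) ⊔ D.unipotentRadical F J := by
    refine (Subgroup.closure_le _).2 ?_
    rintro g ⟨r, t, hr, hg'⟩
    by_cases hJ : D.InRootSub J r
    · exact Subgroup.mem_sup_left (Subgroup.subset_closure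
        ⟨r, t, S.X.mem_invSet.mpr ⟨hr, negOn_root C S (lJ_neg C S J) hr hJ⟩, S.eq_xg.mp hg'⟩)
    · exact Subgroup.mem_sup_right (Subgroup.subset_closure ⟨r, t, hr, hJ, hg'⟩)
  have h := hle hu
  have hN : S.Uw (lJ C S J) ≤ Subgroup.normalizer (D.unipotentRadical F J : Set (GL D.Idx F)) :=
    le_trans (le_trans (S.Uw_le_U _) (le_trans U_le_B le_sup_left)) (parabolic_le_normalizer C J)
  rw [← SetLike.mem_coe, Subgroup.coe_mul_of_left_le_normalizer_right _ _ hN] at h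
  obtain ⟨l, hl, r, hr, rfl⟩ := h
  exact ⟨l * r * l⁻¹, radical_normal C S ((le_trans U_le_B le_sup_left) (S.Uw_le_U _ hl)) hr, l, hl, by group⟩

theorem mem_radical_of_conj {J : Set ℕ} {n : ↥(D.monomialSubgroup F)} (hn : S.toW n = lJ C S J)
    {u : GL D.Idx F} (hu : u ∈ D.posUnipotent F) (h : (n : GL D.Idx F)⁻¹ * u * n ∈ D.borelSubgroup F) :
    u ∈ D.unipotentRadical F J := by
  obtain ⟨r, hr, l, hl, rfl⟩ := U_split C S J hu
  have hnP : (n : GL D.Idx F) ∈ D.parabolicSubgroup F J :=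
    mem_parabolic_of_cell C S (hn ▸ lJ_mem C S J) (cell_N C S n)
  have h1 : (n : GL D.Idx F)⁻¹ * r * n ∈ D.borelSubgroup F :=
    U_le_B (radical_le_U C S J (radical_normal' C S hnP hr))
  have h2 : (n : GL D.Idx F)⁻¹ * l * n ∈ D.borelSubgroup F := by
    have := mul_mem (inv_mem h1) h
    convert this using 1
    group
  have hl' : l ∈ S.Uw (S.toW n⁻¹) := by rw [map_inv, hn, lJ_inv C S]; exact hl
  have h3 := Subgroup.mem_inf.mpr (⟨by simpa using h2, S.conj_Uw_mem_V n⁻¹ hl'⟩ :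
    ((n⁻¹ : ↥(D.monomialSubgroup F)) : GL D.Idx F) * l *
      ((n⁻¹ : ↥(D.monomialSubgroup F)) : GL D.Idx F)⁻¹ ∈ D.borelSubgroup F ∧ _)
  rw [S.B_inf_V, Subgroup.mem_bot] at h3
  have h4 : l = 1 := conj_eq_one_iff.mp h3
  simpa [h4] using hr

theorem card_radical [Fintype F] (J : Set ℕ) :
    Nat.card ↥(D.unipotentRadical F J) * Fintype.card F ^ S.X.inv (lJ C S J) =
      Fintype.card F ^ (D.nroots / 2) := by
  obtain ⟨n, hn⟩ := S.toW_surjective (lJ C S J)
  rw [← ChevalleyUnipotent.card_U C (F := F), ← Nat.card_eq_fintype_card (α := F), ← S.card_Uw, ← Nat.card_prod]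
  refine Nat.card_eq_of_bijective (fun p : ↥(D.unipotentRadical F J) × ↥(S.Uw (lJ C S J)) =>
    (⟨(p.1 : GL D.Idx F) * p.2, mul_mem (radical_le_U C S J p.1.2) (S.Uw_le_U _ p.2.2)⟩ : ↥(D.posUnipotent F)))
    ⟨?_, ?_⟩
  · rintro ⟨r, l⟩ ⟨r', l'⟩ h
    have h1 : (r : GL D.Idx F) * l = r' * l' := congrArg Subtype.val h
    have e : ((l : GL D.Idx F) * (l' : GL D.Idx F)⁻¹) = (r : GL D.Idx F)⁻¹ * r' := by
      calc (l : GL D.Idx F) * (l' : GL D.Idx F)⁻¹ = (r : GL D.Idx F)⁻¹ * (r * l) * (l' : GL D.Idx F)⁻¹ := by group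
        _ = _ := by rw [h1]; group
    have hnP : (n : GL D.Idx F) ∈ D.parabolicSubgroup F J :=
      mem_parabolic_of_cell C S (hn ▸ lJ_mem C S J) (cell_N C S n)
    have hl : (l : GL D.Idx F) * (l' : GL D.Idx F)⁻¹ ∈ S.Uw (S.toW n⁻¹) := by
      rw [map_inv, hn, lJ_inv C S]; exact mul_mem l.2 (inv_mem l'.2)
    have hB : (n : GL D.Idx F)⁻¹ * ((l : GL D.Idx F) * (l' : GL D.Idx F)⁻¹) * n ∈ D.borelSubgroup F :=
      U_le_B (radical_le_U C S J (radical_normal' C S hnP (e ▸ mul_mem (inv_mem r.2) r'.2)))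
    have h3 := Subgroup.mem_inf.mpr (⟨by simpa using hB, S.conj_Uw_mem_V n⁻¹ hl⟩ :
      ((n⁻¹ : ↥(D.monomialSubgroup F)) : GL D.Idx F) * ((l : GL D.Idx F) * (l' : GL D.Idx F)⁻¹) *
        ((n⁻¹ : ↥(D.monomialSubgroup F)) : GL D.Idx F)⁻¹ ∈ D.borelSubgroup F ∧ _)
    rw [S.B_inf_V, Subgroup.mem_bot] at h3
    have h4 : (l : GL D.Idx F) * (l' : GL D.Idx F)⁻¹ = 1 := conj_eq_one_iff.mp h3
    obtain rfl : l = l' := Subtype.ext (mul_inv_eq_one.mp h4)
    obtain rfl : r = r' := Subtype.ext (mul_right_cancel h1)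
    rfl
  · rintro ⟨u, hu⟩
    obtain ⟨r, hr, l, hl, rfl⟩ := U_split C S J hu
    exact ⟨(⟨r, hr⟩, ⟨l, hl⟩), rfl⟩

end Cfsg.Agent.ChevalleyRelative
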