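import Cfsg.Agent.Lib.ChevalleyCheckSound

/-!
Combinatorics of the roots of a certified Chevalley datum.
-/

set_option autoImplicit false
set_option linter.unusedSimpArgs false

namespace Cfsg.Agent.ChevalleyRoots

open Cfsg.Lie Cfsg.Agent.ChevalleyEngine Cfsg.Agent.ChevalleyCert

theorem sum_range_list (n : ℕ) (f : ℕ → ℤ) : ((List.range n).map f).sum = ∑ j ∈ Finset.range n, f j := by
  induction n with
  | zero => simp
  | succ n ih => rw [List.range_succ, List.map_append, List.sum_append, ih, Finset.sum_range_succ]; simp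

theorem fold_add (l : List ℕ) (f g : ℕ → ℤ) (a b : ℤ) :
    l.foldl (fun x j => 13 * x + (f j + g j)) (a + b) =
      l.foldl (fun x j => 13 * x + f j) a + l.foldl (fun x j => 13 * x + g j) b := by
  induction l generalizing a b with
  | nil => rfl
  | cons j l ih =>
    simp only [List.foldl_cons]
    rw [← ih]; congr 1; ring

theorem fold_smul (l : List ℕ) (f : ℕ → ℤ) (c a : ℤ) :
    l.foldl (fun x j => 13 * x + c * f j) (c * a) = c * l.foldl (fun x j => 13 * x + f j) a := by
  induction l generalizing a with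
  | nil => rfl
  | cons j l ih =>
    simp only [List.foldl_cons]
    rw [← ih]; congr 1; ring

theorem fold_congr (l : List ℕ) (f g : ℕ → ℤ) (h : ∀ j ∈ l, f j = g j) (a : ℤ) :
    l.foldl (fun x j => 13 * x + f j) a = l.foldl (fun x j => 13 * x + g j) a := by
  induction l generalizing a with
  | nil => rfl
  | cons j l ih =>
    simp only [List.foldl_cons]
    rw [h j (List.mem_cons_self ..), ih fun k hk => h k (List.mem_cons_of_mem _ hk)]

variable {D : ChevalleyDatum} (C : Cert D)

/-- lexicographic key of a root -/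
def key (r : ℕ) : ℤ := (List.range D.rank).foldl (fun a j => 13 * a + C.coef r j) 0

include C

/-- the number of positive roots -/
theorem two_half : D.nroots = 2 * (D.nroots / 2) := by
  have := C.even; omega

theorem neg_neg' {r : ℕ} (hr : r < D.nroots) : D.neg (D.neg r) = r := by
  rw [C.neg_eq r hr, C.neg_eq _ (by omega)]; omega

theorem neg_ne {r : ℕ} (hr : r < D.nroots) : D.neg r ≠ r := by
  have := C.even
  rw [C.neg_eq r hr]; omega

theorem neg_inj {r s : ℕ} (hr : r < D.nroots) (hs : s < D.nroots) (h : D.neg r = D.neg s) : r = s := by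
  rw [← neg_neg' C hr, h, neg_neg' C hs]

theorem neg_pos {r : ℕ} (hr : r < D.nroots) : D.nroots / 2 ≤ D.neg r ↔ r < D.nroots / 2 := by
  have := C.even
  rw [C.neg_eq r hr]; omega

theorem key_lt {r s : ℕ} (hs : s < D.nroots) (h : r < s) : key C r < key C s := by
  induction s with
  | zero => omega
  | succ s ih =>
    have h1 := C.coef_lex s hs
    rcases eq_or_lt_of_le (Nat.lt_succ_iff.1 h) with rfl | h'
    · exact h1
    · exact lt_trans (ih (by omega) h') h1

theorem key_congr {r s : ℕ} (h : ∀ j, j < D.rank → C.coef r j = C.coef s j) : key C r = key C s :=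
  fold_congr _ _ _ (fun j hj => h j (List.mem_range.1 hj)) 0

theorem coef_inj {r s : ℕ} (hr : r < D.nroots) (hs : s < D.nroots)
    (h : ∀ j, j < D.rank → C.coef r j = C.coef s j) : r = s := by
  have := key_congr C h
  rcases Nat.lt_trichotomy r s with h' | h' | h'
  · exact absurd this (ne_of_lt (key_lt C hs h'))
  · exact h'
  · exact absurd this.symm (ne_of_lt (key_lt C hr h'))

theorem key_lin {r s k : ℕ} (a b : ℤ)
    (h : ∀ j, j < D.rank → C.coef k j = a * C.coef r j + b * C.coef s j) :
    key C k = a * key C r + b * key C s := by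
  unfold key
  rw [fold_congr _ _ (fun j => a * C.coef r j + b * C.coef s j) (fun j hj => h j (List.mem_range.1 hj)),
    show (0 : ℤ) = a * 0 + b * 0 by simp, fold_add, fold_smul, fold_smul]
  simp

theorem key_neg {r : ℕ} (hr : r < D.nroots) : key C (D.neg r) = - key C r := by
  have := key_lin C (r := r) (s := r) (k := D.neg r) (-1) 0
    (fun j hj => by rw [C.coef_neg r j hr hj]; ring)
  linarith

theorem key_pos {r : ℕ} (hr : r < D.nroots) : 0 < key C r ↔ D.nroots / 2 ≤ r := by
  have hn := C.neg_lt r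
  have he := C.even
  have h1 := key_neg C hr
  constructor
  · intro h
    by_contra hc
    have := key_lt C hn (show r < D.neg r by rw [C.neg_eq r hr]; omega)
    omega
  · intro h
    have := key_lt C hr (show D.neg r < r by rw [C.neg_eq r hr]; omega)
    omega

theorem key_ne_zero {r : ℕ} (hr : r < D.nroots) : key C r ≠ 0 := by
  intro h
  by_cases hp : D.nroots / 2 ≤ r
  · have := (key_pos C hr).2 hp; omega
  · have h1 := (key_pos C (C.neg_lt r)).2 ((neg_pos C hr).2 (by omega))
    have := key_neg C hr; omega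

theorem isPos {r : ℕ} : D.IsPosRoot r ↔ D.nroots / 2 ≤ r ∧ r < D.nroots :=
  ⟨fun h => ⟨(C.isPos_iff r h.1).1 h, h.1⟩, fun h => (C.isPos_iff r h.2).2 h.1⟩

theorem isNeg {r : ℕ} : D.IsNegRoot r ↔ r < D.nroots / 2 :=
  ⟨fun h => (C.isNeg_iff r h.1).1 h, fun h => (C.isNeg_iff r (by omega)).2 h⟩

theorem simple_lt {i : ℕ} (hi : i < D.rank) : D.simple i < D.nroots := (C.simple_mem i hi).2

theorem simple_inj {i j : ℕ} (hi : i < D.rank) (hj : j < D.rank) (h : D.simple i = D.simple j) : i = j := by
  have h1 := C.coef_simple i i hi hi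
  rw [h, C.coef_simple j i hj hi] at h1
  by_contra hne
  simp [hne] at h1

/-! ### chains -/

theorem hdN_eq (r s : ℕ) : hdN D r s = (D.chainEntry r s)[0]? := by
  simp [hdN, List.head?_eq_getElem?]

theorem chainRoot_succ (r s k : ℕ) :
    D.chainRoot r s (k + 1) = ((D.chainEntry r s)[k]?).map Prod.fst := rfl

theorem chainM_succ (r s k : ℕ) :
    D.chainM r s (k + 1) = (((D.chainEntry r s)[k]?).map Prod.snd).getD 0 := rfl

theorem entry_info {r s : ℕ} (hr : r < D.nroots) (hne : D.chainEntry r s ≠ []) :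
    s < D.nroots ∧ s ≠ r ∧ s ≠ D.neg r ∧ (D.chainEntry r s).length ≤ 3 ∧
      ∀ q ∈ D.chainEntry r s, q.1 < D.nroots ∧ q.1 ≠ r ∧ q.1 ≠ D.neg r := by
  obtain ⟨e, he, rfl, h2⟩ := ChevalleyCheckSound.mem_of_entry hne
  obtain ⟨a, b, c, _, d, f⟩ := C.row_ok r hr e he
  rw [h2]
  exact ⟨a, b, c, d, f⟩

theorem entry_getElem {r s k : ℕ} {q : ℕ × ℤ} (hr : r < D.nroots) (hq : (D.chainEntry r s)[k]? = some q) :
    s < D.nroots ∧ s ≠ r ∧ s ≠ D.neg r ∧ k < 3 ∧ q.1 < D.nroots ∧ q.1 ≠ r ∧ q.1 ≠ D.neg r := by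
  have hne : D.chainEntry r s ≠ [] := by intro h; rw [h] at hq; simp at hq
  obtain ⟨a, b, c, d, f⟩ := entry_info C hr hne
  obtain ⟨hk, _⟩ := List.getElem?_eq_some_iff.1 hq
  exact ⟨a, b, c, by omega, f q (List.mem_of_getElem? hq)⟩

theorem entry_self {r : ℕ} (hr : r < D.nroots) : D.chainEntry r r = [] := by
  by_contra h; exact (entry_info C hr h).2.1 rfl

theorem entry_neg {r : ℕ} (hr : r < D.nroots) : D.chainEntry r (D.neg r) = [] := by
  by_contra h; exact (entry_info C hr h).2.2.1 rfl

theorem chainRoot_four {r : ℕ} (hr : r < D.nroots) (s k : ℕ) (hk : 4 ≤ k) : D.chainRoot r s k = none := by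
  by_cases h : D.chainEntry r s = []
  · simp [ChevalleyDatum.chainRoot, h]
  · have := (entry_info C hr h).2.2.2.1
    simp [ChevalleyDatum.chainRoot, List.getElem?_eq_none (show (D.chainEntry r s).length ≤ k - 1 by omega)]

/-- consecutive members of a chain -/
theorem step_next {r s k : ℕ} {q : ℕ × ℤ} (hr : r < D.nroots) (hq : (D.chainEntry r s)[k]? = some q) :
    match hdN D r q.1, (D.chainEntry r s)[k + 1]? with
    | none, none => True
    | some a, some b => a.1 = b.1 ∧ ((k : ℤ) + 2) * b.2 = q.2 * a.2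
    | _, _ => False := by
  have hne : D.chainEntry r s ≠ [] := by intro h; rw [h] at hq; simp at hq
  obtain ⟨e, he, rfl, h2⟩ := ChevalleyCheckSound.mem_of_entry hne
  rw [h2] at hq ⊢
  obtain ⟨hk, hqe⟩ := List.getElem?_eq_some_iff.1 hq
  have := C.step r hr e he k hk
  rw [hqe] at this
  exact this

theorem coef_chain {r s : ℕ} (hr : r < D.nroots) :
    ∀ {k : ℕ} {q : ℕ × ℤ}, (D.chainEntry r s)[k]? = some q →
      ∀ j, j < D.rank → C.coef q.1 j = ((k : ℤ) + 1) * C.coef r j + C.coef s j := by
  intro k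
  induction k with
  | zero =>
    intro q hq j hj
    have hs := (entry_getElem C hr hq).1
    rw [← hdN_eq C r s] at hq
    rw [C.coef_add r s q hr hs hq j hj]; simp
  | succ k ih =>
    intro q hq j hj
    obtain ⟨hk, hqe⟩ := List.getElem?_eq_some_iff.1 hq
    obtain ⟨q', hq'⟩ : ∃ q', (D.chainEntry r s)[k]? = some q' := ⟨_, List.getElem?_eq_getElem (by omega)⟩
    have hst := step_next C hr hq'
    rw [hq] at hst
    rcases ha : hdN D r q'.1 with _ | a <;> rw [ha] at hst
    · exact absurd hst (by simp)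
    · simp only at hst
      rw [← hst.1, C.coef_add r q'.1 a hr (entry_getElem C hr hq').2.2.2.2.1 ha j hj, ih hq' j hj]
      push_cast; ring

theorem chainRoot_coef {r s k u : ℕ} (hr : r < D.nroots) (hk : 1 ≤ k) (h : D.chainRoot r s k = some u) :
    u < D.nroots ∧ ∀ j, j < D.rank → C.coef u j = (k : ℤ) * C.coef r j + C.coef s j := by
  obtain ⟨k, rfl⟩ : ∃ m, k = m + 1 := ⟨k - 1, by omega⟩
  rw [chainRoot_succ C r s k] at h
  obtain ⟨q, hq, rfl⟩ := Option.map_eq_some_iff.1 h
  refine ⟨(entry_getElem C hr hq).2.2.2.2.1, fun j hj => ?_⟩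
  rw [coef_chain C hr hq j hj]; push_cast; ring

theorem antisym_entry {r s : ℕ} (hr : r < D.nroots) (hs : s < D.nroots) (h : D.chainEntry r s = []) :
    D.chainEntry s r = [] := by
  have := C.antisym r s hr hs
  rw [hdN, hdN, h] at this
  simpa using this

/-- the roots on the right side of the commutator formula -/
theorem commTerms_mem {r s : ℕ} (hr : r < D.nroots) (hs : s < D.nroots) {c : ℕ × ℤ × ℕ × ℕ}
    (hc : c ∈ D.commTerms r s) :
    c.1 < D.nroots ∧ 1 ≤ c.2.2.1 ∧ 1 ≤ c.2.2.2 ∧
      ∀ j, j < D.rank → C.coef c.1 j = (c.2.2.1 : ℤ) * C.coef r j + (c.2.2.2 : ℤ) * C.coef s j := by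
  simp only [ChevalleyDatum.commTerms, List.mem_filterMap, List.mem_cons, List.not_mem_nil, or_false,
    Option.map_eq_some_iff] at hc
  obtain ⟨d, hd, k, hk, rfl⟩ := hc
  rcases hd with rfl | rfl | rfl | rfl | rfl | rfl | rfl
  · obtain ⟨h1, h2⟩ := chainRoot_coef C hr (s := s) (k := 1) (by norm_num) hk
    exact ⟨h1, by norm_num, by norm_num, fun j hj => by rw [h2 j hj]; push_cast; ring⟩
  · obtain ⟨h1, h2⟩ := chainRoot_coef C hr (s := s) (k := 2) (by norm_num) hk
    exact ⟨h1, by norm_num, by norm_num, fun j hj => by rw [h2 j hj]; push_cast; ring⟩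
  · obtain ⟨h1, h2⟩ := chainRoot_coef C hs (s := r) (k := 2) (by norm_num) hk
    exact ⟨h1, by norm_num, by norm_num, fun j hj => by rw [h2 j hj]; push_cast; ring⟩
  · obtain ⟨h1, h2⟩ := chainRoot_coef C hr (s := s) (k := 3) (by norm_num) hk
    exact ⟨h1, by norm_num, by norm_num, fun j hj => by rw [h2 j hj]; push_cast; ring⟩
  · obtain ⟨h1, h2⟩ := chainRoot_coef C hs (s := r) (k := 3) (by norm_num) hk
    exact ⟨h1, by norm_num, by norm_num, fun j hj => by rw [h2 j hj]; push_cast; ring⟩
  · simp only [Option.bind_eq_some_iff] at hk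
    obtain ⟨m, hm, hk⟩ := hk
    obtain ⟨h1, h2⟩ := chainRoot_coef C hr (by norm_num) hm
    obtain ⟨h3, h4⟩ := chainRoot_coef C h1 (by norm_num) hk
    exact ⟨h3, by norm_num, by norm_num, fun j hj => by rw [h4 j hj, h2 j hj]; push_cast; ring⟩
  · simp only [Option.bind_eq_some_iff] at hk
    obtain ⟨m, hm, hk⟩ := hk
    obtain ⟨h1, h2⟩ := chainRoot_coef C hs (by norm_num) hm
    obtain ⟨h3, h4⟩ := chainRoot_coef C h1 (by norm_num) hk
    exact ⟨h3, by norm_num, by norm_num, fun j hj => by rw [h4 j hj, h2 j hj]; push_cast; ring⟩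

/-! ### reflections -/

theorem cartan_lin' {i r : ℕ} (hi : i < D.rank) (hr : r < D.nroots) :
    D.cartan i r = ∑ j ∈ Finset.range D.rank, C.coef r j * D.cartan i (D.simple j) := by
  rw [C.cartan_lin i r hi hr, sum_range_list]

theorem cartan_comb {i r s k : ℕ} (hi : i < D.rank) (hr : r < D.nroots) (hs : s < D.nroots) (hk : k < D.nroots)
    (a b : ℤ) (h : ∀ j, j < D.rank → C.coef k j = a * C.coef r j + b * C.coef s j) :
    D.cartan i k = a * D.cartan i r + b * D.cartan i s := by
  rw [cartan_lin' C hi hk, cartan_lin' C hi hr, cartan_lin' C hi hs, Finset.mul_sum, Finset.mul_sum,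
    ← Finset.sum_add_distrib]
  exact Finset.sum_congr rfl fun j hj => by rw [h j (Finset.mem_range.1 hj)]; ring

theorem cartan_neg {i r : ℕ} (hi : i < D.rank) (hr : r < D.nroots) :
    D.cartan i (D.neg r) = - D.cartan i r := by
  rw [cartan_comb C hi hr hr (C.neg_lt r) (-1) 0 fun j hj => by rw [C.coef_neg r j hr hj]; ring]
  ring

theorem pairing_eq (r s : ℕ) : D.pairing r s = ∑ j ∈ Finset.range D.rank, cc D r j * D.cartan j s := by
  rw [ChevalleyDatum.pairing, sum_range_list]; rfl

theorem pairing_simple {i : ℕ} (hi : i < D.rank) (s : ℕ) : D.pairing (D.simple i) s = D.cartan i s := by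
  rw [pairing_eq C, Finset.sum_eq_single i]
  · rw [C.cc_simple i i hi hi]; simp
  · intro j hj hne
    rw [C.cc_simple i j hi (Finset.mem_range.1 hj)]; simp [hne]
  · simp [hi]

theorem cartan_self {i : ℕ} (hi : i < D.rank) : D.cartan i (D.simple i) = 2 := by
  rw [← pairing_simple C hi, C.pair_self _ (simple_lt C hi)]

theorem cartan_w {i j s : ℕ} (hi : i < D.rank) (hj : j < D.rank) (hs : s < D.nroots) :
    D.cartan j (wr D i s) = D.cartan j s - D.cartan i s * D.cartan j (D.simple i) := by
  rw [cartan_comb C hj hs (simple_lt C hi) (C.w_lt i s hi hs) 1 (- D.cartan i s) fun k hk => by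
    rw [C.coef_w i s k hi hs hk, C.coef_simple i k hi hk]; split <;> ring]
  ring

theorem cartan_w_self {i s : ℕ} (hi : i < D.rank) (hs : s < D.nroots) :
    D.cartan i (wr D i s) = - D.cartan i s := by
  rw [cartan_w C hi hi hs, cartan_self C hi]; ring

theorem w_invol {i s : ℕ} (hi : i < D.rank) (hs : s < D.nroots) : wr D i (wr D i s) = s := by
  have h1 := C.w_lt i s hi hs
  refine coef_inj C (C.w_lt i _ hi h1) hs fun j hj => ?_
  rw [C.coef_w i _ j hi h1 hj, C.coef_w i s j hi hs hj, cartan_w_self C hi hs]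
  split <;> ring

theorem w_inj {i r s : ℕ} (hi : i < D.rank) (hr : r < D.nroots) (hs : s < D.nroots)
    (h : wr D i r = wr D i s) : r = s := by
  rw [← w_invol C hi hr, h, w_invol C hi hs]

theorem w_neg {i s : ℕ} (hi : i < D.rank) (hs : s < D.nroots) : wr D i (D.neg s) = D.neg (wr D i s) := by
  have h1 := C.w_lt i s hi hs
  refine coef_inj C (C.w_lt i _ hi (C.neg_lt s)) (C.neg_lt _) fun j hj => ?_
  rw [C.coef_w i _ j hi (C.neg_lt s) hj, C.coef_neg _ j h1 hj, C.coef_w i s j hi hs hj, C.coef_neg s j hs hj,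
    cartan_neg C hi hs]
  split <;> ring

theorem w_simple {i : ℕ} (hi : i < D.rank) : wr D i (D.simple i) = D.neg (D.simple i) := by
  refine coef_inj C (C.w_lt i _ hi (simple_lt C hi)) (C.neg_lt _) fun j hj => ?_
  rw [C.coef_w i _ j hi (simple_lt C hi) hj, C.coef_neg _ j (simple_lt C hi) hj, C.coef_simple i j hi hj,
    cartan_self C hi]
  split <;> ring

theorem w_fix {i r : ℕ} (hi : i < D.rank) (hr : r < D.nroots) (h : D.cartan i r = 0) : wr D i r = r := by
  refine coef_inj C (C.w_lt i r hi hr) hr fun j hj => ?_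
  rw [C.coef_w i r j hi hr hj, h]
  split <;> ring

theorem pairing_w {i r s : ℕ} (hi : i < D.rank) (hr : r < D.nroots) (hs : s < D.nroots) :
    D.pairing (wr D i r) (wr D i s) = D.pairing r s := by
  have h : ∀ j ∈ Finset.range D.rank, cc D (wr D i r) j * D.cartan j (wr D i s) =
      cc D r j * D.cartan j s - D.cartan i s * (cc D r j * D.cartan j (D.simple i)) -
        (if j = i then D.pairing r (D.simple i) * D.cartan j (wr D i s) else 0) := by
    intro j hj
    rw [C.cc_w i r j hi hr (Finset.mem_range.1 hj), cartan_w C hi (Finset.mem_range.1 hj) hs]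
    split <;> ring
  rw [pairing_eq C (wr D i r), Finset.sum_congr rfl h, Finset.sum_sub_distrib, Finset.sum_sub_distrib,
    ← Finset.mul_sum, ← pairing_eq C, ← pairing_eq C, Finset.sum_ite_eq' (Finset.range D.rank) i,
    if_pos (Finset.mem_range.2 hi), cartan_w_self C hi hs]
  ring

/-- induction along the Weyl group orbits of the fundamental roots -/
theorem root_induction {P : ℕ → Prop} (hsimple : ∀ i, i < D.rank → P (D.simple i))
    (hw : ∀ i r, i < D.rank → r < D.nroots → P r → P (wr D i r)) : ∀ r, r < D.nroots → P r := by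
  have hpos : ∀ r, D.nroots / 2 ≤ r → r < D.nroots → P r ∧ P (D.neg r) := by
    intro r
    induction r using Nat.strong_induction_on with
    | _ r ih =>
      intro h0 hr
      by_cases hs : ∃ i, i < D.rank ∧ r = D.simple i
      · obtain ⟨i, hi, rfl⟩ := hs
        exact ⟨hsimple i hi, w_simple C hi ▸ hw i _ hi hr (hsimple i hi)⟩
      · obtain ⟨i, hi, h1, h2⟩ := C.descend r h0 hr fun i hi h => hs ⟨i, hi, h⟩
        have hlt := C.w_lt i r hi hr
        obtain ⟨a, b⟩ := ih _ h2 h1 hlt
        constructor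
        · have := hw i _ hi hlt a
          rwa [w_invol C hi hr] at this
        · have := hw i _ hi (C.neg_lt _) b
          rwa [← w_neg C hi hr, w_invol C hi (C.neg_lt r)] at this
  intro r hr
  by_cases h : D.nroots / 2 ≤ r
  · exact (hpos r h hr).1
  · have := (hpos _ ((neg_pos C hr).2 (by omega)) (C.neg_lt r)).2
    rwa [neg_neg' C hr] at this

end Cfsg.Agent.ChevalleyRoots
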