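import Cfsg.Agent.Lib.BlockPrimeTools86
import Cfsg.Agent.Lib.OddCharGroup

/-!
Brauer's theorem: over an algebraically closed field of characteristic `p` there are as many irreducible
representations as classes of elements of order prime to `p`.
-/

set_option autoImplicit false
set_option linter.unusedSectionVars false

namespace Cfsg.Agent.ModularClassCount

open Cfsg.Agent.BlockPrime86

attribute [local instance] Classical.propDecidable

universe u

variable {G : Type u} [Group G] [Fintype G] {k : Type} [Field k] (p : ℕ) [hp : Fact p.Prime] [CharP k p]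

omit [Fintype G] hp in
/-- the classes of elements of order prime to `p` -/
abbrev RegClass (G : Type u) [Group G] (p : ℕ) :=
  {c : ConjClasses G // ∃ g : G, ConjClasses.mk g = c ∧ (orderOf g).Coprime p}

/-- the decomposition into a `p`-part and a part of order prime to `p` -/
theorem exists_parts (g : G) :
    ∃ x s : G, g = x * s ∧ Commute x s ∧ (∃ j, orderOf x = p ^ j) ∧ (orderOf s).Coprime p := by
  set m := ordCompl[p] (orderOf g)
  set a := (orderOf g).factorization p
  have hg : p ^ a * m = orderOf g := Nat.ordProj_mul_ordCompl_eq_self _ _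
  have hco : Nat.Coprime m (p ^ a) :=
    ((Nat.coprime_ordCompl hp.out (orderOf_pos g).ne').symm.pow_right a)
  obtain ⟨e, he1, he0⟩ := OddCharGroup.exists_exponent hco
  have hs : (g ^ e) ^ m = 1 := by
    rw [← pow_mul]
    refine orderOf_dvd_iff_pow_eq_one.1 ?_
    rw [← hg]
    exact Nat.mul_dvd_mul_right he0 m
  have hcomm : Commute (g * (g ^ e)⁻¹) (g ^ e) :=
    ((Commute.refl g).pow_right e).mul_left (Commute.refl (g ^ e)).inv_left
  refine ⟨g * (g ^ e)⁻¹, g ^ e, by group, hcomm, ?_,
    Nat.Coprime.coprime_dvd_left (orderOf_dvd_of_pow_eq_one hs) (Nat.coprime_ordCompl hp.out (orderOf_pos g).ne').symm⟩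
  have hx : (g * (g ^ e)⁻¹) ^ p ^ a = 1 := by
    rw [(((Commute.refl g).pow_right e).inv_right).mul_pow, inv_pow, mul_inv_eq_one, ← pow_mul,
      pow_eq_pow_iff_modEq, ← hg]
    have := Nat.ModEq.mul_left' (p ^ a) he1
    rw [mul_comm e]
    simpa using this.symm
  obtain ⟨j, -, hj⟩ := (Nat.dvd_prime_pow hp.out).1 (orderOf_dvd_of_pow_eq_one hx)
  exact ⟨j, hj⟩

/-- a trace only sees the part of order prime to `p` -/
theorem trace_parts {V : Type*} [AddCommGroup V] [Module k V] [FiniteDimensional k V]
    (ρ : G →* Module.End k V) {x s : G} (hx : ∃ j, orderOf x = p ^ j) (hc : Commute x s) :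
    LinearMap.trace k V (ρ (x * s)) = LinearMap.trace k V (ρ s) := by
  obtain ⟨j, hj⟩ := hx
  have hnil : IsNilpotent (ρ x - 1) := by
    refine ⟨p ^ j, ?_⟩
    have e : (ρ x - 1) ^ p ^ j =
        Polynomial.aeval (ρ x) ((Polynomial.X - 1 : Polynomial k) ^ p ^ j) := by simp
    rw [e, sub_pow_char_pow, one_pow]
    simp [← map_pow ρ, ← hj, pow_orderOf_eq_one]
  have h2 : IsNilpotent ((ρ x - 1) * ρ s) :=
    (((hc.map ρ).sub_left (Commute.one_left _))).isNilpotent_mul_right hnil
  have h3 := (LinearMap.isNilpotent_trace_of_isNilpotent h2).eq_zero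
  rw [sub_mul, one_mul, ← map_mul ρ, map_sub, sub_eq_zero] at h3
  exact h3

omit p hp [CharP k p] [Fintype G] in
theorem trace_conj {V : Type*} [AddCommGroup V] [Module k V] (ρ : G →* Module.End k V) {a b : G} (h : IsConj a b) :
    LinearMap.trace k V (ρ a) = LinearMap.trace k V (ρ b) := by
  obtain ⟨c, hc⟩ := isConj_iff.1 h
  rw [← hc, map_mul ρ, LinearMap.trace_mul_comm, ← map_mul ρ, ← mul_assoc, inv_mul_cancel, one_mul]

/-- the trace function on the classes -/
noncomputable def trReg {V : Type*} [AddCommGroup V] [Module k V] (ρ : G →* Module.End k V) : RegClass G p → k :=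
  fun c => LinearMap.trace k V (ρ (Classical.choose c.2))

theorem trReg_eq {V : Type*} [AddCommGroup V] [Module k V] (ρ : G →* Module.End k V) (c : RegClass G p) {g : G}
    (hg : ConjClasses.mk g = c.1) : trReg p ρ c = LinearMap.trace k V (ρ g) :=
  trace_conj ρ (ConjClasses.mk_eq_mk_iff_isConj.1 ((Classical.choose_spec c.2).1.trans hg.symm))

/-- the monomial representation induced from a linear character -/
noncomputable def ind (H : Subgroup G) (ξ : ↥H →* k) : G →* Module.End k ((G ⧸ H) → k) where
  toFun g := Matrix.toLin' (Matrix.of fun q' q : G ⧸ H =>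
    if h : q'.out⁻¹ * g * q.out ∈ H then ξ ⟨_, h⟩ else 0)
  map_one' := by
    rw [Module.End.one_eq_id, ← Matrix.toLin'_one]
    congr 1
    ext q' q
    simp only [Matrix.of_apply, mul_one, Matrix.one_apply]
    by_cases h : q' = q
    · subst h
      simp only [inv_mul_cancel, one_mem, dite_true, if_true]
      exact map_one ξ
    · rw [dif_neg, if_neg h]
      intro hm
      exact h (by rw [← QuotientGroup.out_eq' q', ← QuotientGroup.out_eq' q, QuotientGroup.eq]; exact hm)
  map_mul' a b := by
    rw [Module.End.mul_eq_comp, ← Matrix.toLin'_mul]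
    congr 1
    ext q'' q
    simp only [Matrix.of_apply, Matrix.mul_apply]
    rw [Finset.sum_eq_single (((b * q.out : G)) : G ⧸ H)]
    · obtain ⟨h₀, e⟩ := QuotientGroup.mk_out_eq_mul H (b * q.out)
      have h1 : (((b * q.out : G)) : G ⧸ H).out⁻¹ * b * q.out ∈ H := by
        rw [e]; simp [mul_assoc]
      rw [dif_pos h1]
      have e2 : q''.out⁻¹ * (a * b) * q.out = (q''.out⁻¹ * a * (((b * q.out : G)) : G ⧸ H).out) *
          ((((b * q.out : G)) : G ⧸ H).out⁻¹ * b * q.out) := by group
      by_cases h2 : q''.out⁻¹ * a * (((b * q.out : G)) : G ⧸ H).out ∈ H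
      · rw [dif_pos h2, dif_pos (e2 ▸ mul_mem h2 h1), ← map_mul]
        congr 1
        exact Subtype.ext e2
      · rw [dif_neg h2, zero_mul, dif_neg]
        rw [e2]
        exact fun h => h2 ((Subgroup.mul_mem_cancel_right _ h1).1 h)
    · intro q' _ hq
      rw [mul_eq_zero]
      right
      rw [dif_neg]
      intro h
      refine hq ?_
      rw [← QuotientGroup.out_eq' q', QuotientGroup.eq, ← mul_assoc]
      exact h
    · simp

theorem trace_ind (H : Subgroup G) (ξ : ↥H →* k) (g : G) :
    LinearMap.trace k _ (ind H ξ g) =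
      ∑ q : G ⧸ H, if h : q.out⁻¹ * g * q.out ∈ H then ξ ⟨_, h⟩ else 0 := by
  simp only [ind, MonoidHom.coe_mk, OneHom.coe_mk]
  rw [Matrix.trace_toLin'_eq, Matrix.trace]
  rfl

/-- a combination of monomial trace functions that separates `s` from the other elements of `H` -/
theorem combo_eq (H : Subgroup G) (χ : ↥H →* k) (z : k) (m : ℕ) {s : G} (hsH : s ∈ H)
    (hkey : ∀ t : G, (orderOf t).Coprime p → ∀ h : t ∈ H,
      ∑ i ∈ Finset.range m, z ^ i * χ ⟨t, h⟩ ^ i = if t = s then (m : k) else 0)
    (c : RegClass G p) {t : G} (htc : ConjClasses.mk t = c.1) (ht : (orderOf t).Coprime p) :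
    (∑ i ∈ Finset.range m, z ^ i • trReg p (ind H ((powMonoidHom i).comp χ))) c =
      (m : k) * (((Finset.univ : Finset (G ⧸ H)).filter fun q => q.out⁻¹ * t * q.out = s).card : k) := by
  simp only [Finset.sum_apply, Pi.smul_apply, smul_eq_mul]
  simp_rw [trReg_eq p _ c htc, trace_ind, Finset.mul_sum]
  rw [Finset.sum_comm, Finset.card_filter, Nat.cast_sum, Finset.mul_sum]
  refine Finset.sum_congr rfl fun q _ => ?_
  by_cases hq : q.out⁻¹ * t * q.out ∈ H
  · simp_rw [dif_pos hq, MonoidHom.comp_apply, powMonoidHom_apply]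
    rw [hkey _ ?_ hq]
    · split_ifs <;> simp
    · rwa [show q.out⁻¹ * t * q.out = (MulAut.conj q.out⁻¹) t by simp, MulEquiv.orderOf_eq]
  · simp_rw [dif_neg hq, mul_zero]
    rw [if_neg]
    · simp
    · exact fun e => hq (e.symm ▸ hsH)

section Span

variable [IsAlgClosed k] {Φ : Type*} [Fintype Φ] (d : Φ → ℕ) (ρ : ∀ i, G →* Module.End k (Fin (d i) → k))

/-- the span of the given trace functions -/
noncomputable def W : Submodule k (RegClass G p → k) := Submodule.span k (Set.range fun i => trReg p (ρ i))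

theorem trReg_mem
    (hall : ∀ n (σ : G →* Module.End k (Fin n → k)), Irred σ →
      ∃ i, ∀ g, LinearMap.trace k _ (σ g) = LinearMap.trace k _ (ρ i g)) :
    ∀ (n : ℕ) (V : Type u) [AddCommGroup V] [Module k V] [FiniteDimensional k V] (σ : G →* Module.End k V),
      Module.finrank k V = n → trReg p σ ∈ W p d ρ := by
  intro n
  induction n using Nat.strong_induction_on with
  | _ n ih =>
    intro V _ _ _ σ hn
    rcases subsingleton_or_nontrivial V with hV | hV
    · have : trReg p σ = 0 := by
        funext c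
        rw [trReg, Subsingleton.elim (σ _) 0, map_zero]
        rfl
      rw [this]; exact zero_mem _
    by_cases hirr : Irred σ
    · let b := Module.finBasis k V
      let e : V ≃ₗ[k] (Fin (Module.finrank k V) → k) := b.equivFun
      let σ' : G →* Module.End k (Fin (Module.finrank k V) → k) := e.conjAlgEquiv k |>.toMonoidHom.comp σ
      have hσ' : Irred σ' := by
        refine ⟨e.symm.toEquiv.nontrivial, fun U hU => ?_⟩
        rcases hirr.2 (U.comap e.toLinearMap) (fun g x hx => by
          have := hU g (e x) hx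
          simpa [σ'] using this) with h | h
        · left
          rw [eq_bot_iff]
          intro y hy
          have : e.symm y ∈ U.comap e.toLinearMap := by simpa using hy
          rw [h, Submodule.mem_bot] at this
          simpa using congrArg e this
        · right
          rw [eq_top_iff]
          intro y _
          have : e.symm y ∈ U.comap e.toLinearMap := h ▸ Submodule.mem_top
          simpa using this
      obtain ⟨i, hi⟩ := hall _ σ' hσ'
      have : trReg p σ = trReg p (ρ i) := by
        funext c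
        rw [trReg, trReg, ← hi]
        exact (LinearMap.trace_conj' _ e).symm
      rw [this]
      exact Submodule.subset_span ⟨i, rfl⟩
    · obtain ⟨U, hU, hU0, hU1⟩ : ∃ U : Submodule k V, (∀ g, ∀ x ∈ U, σ g x ∈ U) ∧ U ≠ ⊥ ∧ U ≠ ⊤ := by
        by_contra hc
        push Not at hc
        exact hirr ⟨hV, fun U hU => or_iff_not_imp_left.2 fun h => hc U hU h⟩
      obtain ⟨W', hW'⟩ := Submodule.exists_isCompl U
      let πU := U.projectionOnto W' hW'
      let πW := W'.projectionOnto U hW'.symm
      let σU : G →* Module.End k U :=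
        { toFun := fun g => (σ g).restrict (hU g)
          map_one' := by ext x; simp
          map_mul' := fun a b => by ext x; simp }
      have hdec : ∀ v, v = (πU v : V) + (πW v : V) := fun v => by
        rw [Submodule.coe_projectionOnto_apply, Submodule.coe_projectionOnto_apply]
        exact (Submodule.projection_add_projection_eq_self hW' v).symm
      let σW : G →* Module.End k W' :=
        { toFun := fun g => πW ∘ₗ σ g ∘ₗ W'.subtype
          map_one' := by
            refine LinearMap.ext fun x => ?_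
            simp only [map_one, LinearMap.comp_apply, Module.End.one_apply, Submodule.subtype_apply]
            exact Submodule.projectionOnto_apply_left hW'.symm x
          map_mul' := fun a b => by
            refine LinearMap.ext fun x => ?_
            simp only [map_mul, LinearMap.comp_apply, Module.End.mul_apply, Submodule.subtype_apply]
            conv_lhs => rw [hdec (σ b x)]
            rw [map_add, map_add, Submodule.projectionOnto_apply_of_mem_right hW'.symm (hU a _ (πU _).2), zero_add] }
      have htr : trReg p σ = trReg p σU + trReg p σW := by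
        funext c
        simp only [trReg, Pi.add_apply]
        set g := Classical.choose c.2
        have e : σ g = (σ g ∘ₗ U.subtype) ∘ₗ πU + (σ g ∘ₗ W'.subtype) ∘ₗ πW := by
          refine LinearMap.ext fun v => ?_
          simp only [LinearMap.add_apply, LinearMap.comp_apply, Submodule.subtype_apply]
          rw [← map_add, ← hdec]
        conv_lhs => rw [e]
        rw [map_add, LinearMap.trace_comp_comm' πU (σ g ∘ₗ U.subtype),
          LinearMap.trace_comp_comm' πW (σ g ∘ₗ W'.subtype)]
        congr 2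
        refine LinearMap.ext fun x => ?_
        exact Submodule.projectionOnto_apply_left hW' ((σ g).restrict (hU g) x)
      rw [htr]
      have h1 : Module.finrank k U < n := hn ▸ Submodule.finrank_lt hU1
      have h2 : Module.finrank k W' < n := by
        have := Submodule.finrank_add_eq_of_isCompl hW'
        have : 0 < Module.finrank k U := Submodule.one_le_finrank_iff.2 hU0
        omega
      exact add_mem (ih _ h1 U σU rfl) (ih _ h2 W' σW rfl)

theorem indicator_core
    (hall : ∀ n (σ : G →* Module.End k (Fin n → k)), Irred σ →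
      ∃ i, ∀ g, LinearMap.trace k _ (σ g) = LinearMap.trace k _ (ρ i g)) (c₀ : RegClass G p)
    (H : Subgroup G) (χ : ↥H →* k) (z : k) (m : ℕ) {s : G} (hs : ConjClasses.mk s = c₀.1)
    (hsp : (orderOf s).Coprime p) (hsH : s ∈ H)
    (hkey : ∀ t : G, (orderOf t).Coprime p → ∀ h : t ∈ H,
      ∑ i ∈ Finset.range m, z ^ i * χ ⟨t, h⟩ ^ i = if t = s then (m : k) else 0)
    (hN : (m : k) * (((Finset.univ : Finset (G ⧸ H)).filter fun q => q.out⁻¹ * s * q.out = s).card : k) ≠ 0) :
    (fun c => if c = c₀ then (1 : k) else 0) ∈ W p d ρ := by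
  set N := (m : k) * (((Finset.univ : Finset (G ⧸ H)).filter fun q => q.out⁻¹ * s * q.out = s).card : k) with hNdef
  have hfin : (fun c => if c = c₀ then (1 : k) else 0) =
      N⁻¹ • ∑ i ∈ Finset.range m, z ^ i • trReg p (ind H ((powMonoidHom i).comp χ)) := by
    funext c
    rw [Pi.smul_apply, smul_eq_mul]
    by_cases hc : c = c₀
    · rw [if_pos hc, hc, combo_eq p H χ z m hsH hkey c₀ hs hsp, inv_mul_cancel₀ hN]
    · rw [if_neg hc]
      obtain ⟨t, htc, ht⟩ := c.2
      rw [combo_eq p H χ z m hsH hkey c htc ht, Finset.filter_eq_empty_iff.2 ?_]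
      · simp
      · intro q _ e
        refine hc (Subtype.ext ?_)
        rw [← htc, ← hs, ConjClasses.mk_eq_mk_iff_isConj]
        exact isConj_iff.2 ⟨q.out⁻¹, by simpa using e⟩
  rw [hfin]
  exact Submodule.smul_mem _ _ (sum_mem fun i _ => Submodule.smul_mem _ _
    (trReg_mem p d ρ hall (Module.finrank k ((G ⧸ H) → k)) ((G ⧸ H) → k) (ind H ((powMonoidHom i).comp χ)) rfl))

set_option maxHeartbeats 1000000 in
theorem indicator_mem
    (hall : ∀ n (σ : G →* Module.End k (Fin n → k)), Irred σ →
      ∃ i, ∀ g, LinearMap.trace k _ (σ g) = LinearMap.trace k _ (ρ i g)) (c₀ : RegClass G p) :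
    (fun c => if c = c₀ then (1 : k) else 0) ∈ W p d ρ := by
  obtain ⟨s, hs, hsp⟩ := c₀.2
  set m := orderOf s with hm
  haveI : NeZero m := ⟨(orderOf_pos s).ne'⟩
  set Cz := Subgroup.centralizer ({s} : Set G)
  have P : Sylow p ↥Cz := default
  have hcomm : ∀ (x : Subgroup.zpowers s) (y : (P : Subgroup ↥Cz)),
      Commute ((Subgroup.zpowers s).subtype x) ((Cz.subtype.comp (P : Subgroup ↥Cz).subtype) y) := by
    rintro ⟨x, hx⟩ y
    obtain ⟨i, rfl⟩ := hx
    have : Commute s ((y : ↥Cz) : G) := (Subgroup.mem_centralizer_singleton_iff.1 (y : ↥Cz).2).symm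
    exact this.zpow_left i
  let φ := MonoidHom.noncommCoprod _ _ hcomm
  have hcop : ∀ y : (P : Subgroup ↥Cz), (orderOf ((y : ↥Cz) : G)).Coprime m := by
    intro y
    obtain ⟨j, hj⟩ := (IsPGroup.iff_orderOf.1 P.isPGroup') y
    rw [Subgroup.orderOf_coe, Subgroup.orderOf_coe, hj]
    exact (hsp.symm).pow_left j
  have hφinj : Function.Injective φ := by
    rw [injective_iff_map_eq_one]
    rintro ⟨⟨x, hx⟩, y⟩ h
    change x * ((y : ↥Cz) : G) = 1 at h
    have hy1 : orderOf ((y : ↥Cz) : G) ∣ m := by
      rw [show ((y : ↥Cz) : G) = x⁻¹ from eq_inv_of_mul_eq_one_right h, orderOf_inv, hm]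
      obtain ⟨i, rfl⟩ := hx
      exact orderOf_dvd_of_pow_eq_one (by rw [← zpow_natCast, ← zpow_mul, mul_comm, zpow_mul, zpow_natCast, pow_orderOf_eq_one, one_zpow])
    have hy : ((y : ↥Cz) : G) = 1 := orderOf_eq_one_iff.1 (Nat.Coprime.eq_one_of_dvd (hcop y) hy1)
    rw [hy, mul_one] at h
    exact Prod.ext (Subtype.ext h) (Subtype.ext (Subtype.ext hy))
  let H := φ.range
  let eH := MonoidHom.ofInjective hφinj
  haveI : NeZero (m : k) := ⟨fun h => by
    have h2 : p ∣ m := (CharP.cast_eq_zero_iff k p m).1 h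
    exact hp.out.ne_one (Nat.Coprime.eq_one_of_dvd hsp.symm h2)⟩
  obtain ⟨ζ, hζ⟩ := HasEnoughRootsOfUnity.exists_primitiveRoot k m
  have hζ0 : ζ ≠ 0 := hζ.ne_zero (orderOf_pos s).ne'
  let gen : Subgroup.zpowers s := ⟨s, Subgroup.mem_zpowers s⟩
  have hgen : ∀ x : Subgroup.zpowers s, x ∈ Subgroup.zpowers gen := by
    rintro ⟨x, hx⟩
    obtain ⟨j, rfl⟩ := Subgroup.mem_zpowers_iff.1 hx
    exact Subgroup.mem_zpowers_iff.2 ⟨j, Subtype.ext (by simp [gen])⟩
  set ζu : kˣ := Units.mk0 ζ hζ0
  have hζu : orderOf ζu = m := by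
    rw [← orderOf_units, Units.val_mk0]
    exact hζ.eq_orderOf.symm
  have hgo : orderOf gen = m := Subgroup.orderOf_mk s _
  let ψ : Subgroup.zpowers s →* k :=
    (Units.coeHom k).comp (monoidHomOfForallMemZpowers hgen (g' := ζu) (by rw [hζu, hgo]))
  have hψgen : ψ gen = ζ := by
    simp [ψ, ζu]
  have hψ : ∀ x, ψ x = ζ ↔ x = gen := by
    refine fun x => ⟨fun h => ?_, fun h => h ▸ hψgen⟩
    obtain ⟨j, rfl⟩ := Subgroup.mem_zpowers_iff.1 (hgen x)
    have h1 : ((monoidHomOfForallMemZpowers hgen (g' := ζu) (by rw [hζu, hgo])) (gen ^ j) : k) = (ζu : k) := h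
    rw [map_zpow, monoidHomOfForallMemZpowers_apply_gen, Units.val_inj] at h1
    have h2 : ζu ^ j = ζu ^ (1 : ℤ) := by rw [zpow_one]; exact h1
    rw [zpow_eq_zpow_iff_modEq, hζu, ← hgo] at h2
    conv_rhs => rw [← zpow_one gen]
    exact zpow_eq_zpow_iff_modEq.2 h2
  let χ : ↥H →* k := ψ.comp ((MonoidHom.fst _ _).comp eH.symm.toMonoidHom)
  have hkey : ∀ t : G, (orderOf t).Coprime p → ∀ h : t ∈ H,
      ∑ i ∈ Finset.range m, ζ⁻¹ ^ i * χ ⟨t, h⟩ ^ i = if t = s then (m : k) else 0 := by
    intro t ht h
    obtain ⟨⟨x, y⟩, rfl⟩ := id h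
    have hχ : χ ⟨φ (x, y), h⟩ = ψ x := by
      show ψ (eH.symm ⟨φ (x, y), h⟩).1 = ψ x
      rw [show (⟨φ (x, y), h⟩ : φ.range) = eH (x, y) from Subtype.ext rfl, MulEquiv.symm_apply_apply]
    have hy : y = 1 := by
      obtain ⟨j, hj⟩ := (IsPGroup.iff_orderOf.1 P.isPGroup') y
      rw [orderOf_injective φ hφinj, Prod.orderOf_mk] at ht
      have h1 := Nat.Coprime.coprime_dvd_left (Nat.dvd_lcm_right (orderOf x) (orderOf y)) ht
      rw [hj] at h1
      refine orderOf_eq_one_iff.1 ?_
      rcases Nat.eq_zero_or_pos j with rfl | hj0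
      · simpa using hj
      · exact absurd (Nat.Coprime.eq_one_of_dvd ((Nat.coprime_pow_left_iff hj0 _ _).1 h1) dvd_rfl) hp.out.ne_one
    subst hy
    have hφx : φ (x, 1) = (x : G) := by simp [φ]
    rw [hχ, hφx]
    simp_rw [← mul_pow]
    by_cases hxs : (x : G) = s
    · rw [if_pos hxs, show x = gen from Subtype.ext hxs, hψgen, inv_mul_cancel₀ hζ0]
      simp
    · rw [if_neg hxs]
      have hne : ζ⁻¹ * ψ x ≠ 1 := by
        intro he
        refine hxs (congrArg Subtype.val ((hψ x).1 ?_))
        exact (inv_mul_eq_one₀ hζ0).1 he |>.symm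
      have hm1 : (ζ⁻¹ * ψ x) ^ m = 1 := by
        rw [mul_pow, inv_pow, hζ.pow_eq_one, inv_one, one_mul, ← map_pow,
          show x ^ m = 1 from ?_, map_one]
        obtain ⟨j, rfl⟩ := Subgroup.mem_zpowers_iff.1 (hgen x)
        rw [← zpow_natCast, ← zpow_mul, mul_comm, zpow_mul, zpow_natCast, ← hgo, pow_orderOf_eq_one, one_zpow]
      rw [geom_sum_eq hne, hm1, sub_self, zero_div]
  let T : G → Finset (G ⧸ H) := fun t => Finset.univ.filter fun q => q.out⁻¹ * t * q.out = s
  have hsH : s ∈ H := ⟨(gen, 1), by simp [φ, gen]⟩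
  have hN : ((m : k) * ((T s).card : k)) ≠ 0 := by
    have hset : (QuotientGroup.mk ⁻¹' ((T s : Finset (G ⧸ H)) : Set (G ⧸ H))) = (Cz : Set G) := by
      ext g
      simp only [Set.mem_preimage, Finset.mem_coe, T, Finset.mem_filter, Finset.mem_univ, true_and,
        SetLike.mem_coe, Cz, Subgroup.mem_centralizer_singleton_iff]
      obtain ⟨⟨h₀, hh₀⟩, e⟩ := QuotientGroup.mk_out_eq_mul H g
      rw [e]
      obtain ⟨⟨x, y⟩, rfl⟩ := id hh₀
      have hc0 : φ (x, y) * s = s * φ (x, y) := by
        have h1 : Commute ((y : ↥Cz) : G) s := Subgroup.mem_centralizer_singleton_iff.1 (y : ↥Cz).2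
        obtain ⟨j, hj⟩ := Subgroup.mem_zpowers_iff.1 x.2
        have h2 : Commute (x : G) s := hj ▸ (Commute.refl s).zpow_left j
        exact h2.mul_left h1
      constructor
      · intro h
        simp only [mul_inv_rev, mul_assoc] at h
        rw [inv_mul_eq_iff_eq_mul, inv_mul_eq_iff_eq_mul] at h
        simp only [← mul_assoc] at h
        rw [mul_assoc g _ s, hc0, ← mul_assoc] at h
        exact (mul_right_cancel h).symm
      · intro h
        simp only [mul_inv_rev, mul_assoc]
        rw [inv_mul_eq_iff_eq_mul, inv_mul_eq_iff_eq_mul, ← mul_assoc, ← h, hc0]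
        simp [mul_assoc]
    have hcard : Nat.card H * (T s).card = Nat.card Cz := by
      have e := Nat.card_congr (QuotientGroup.preimageMkEquivSubgroupProdSet H ((T s : Finset (G ⧸ H)) : Set (G ⧸ H)))
      rw [hset, Nat.card_prod, Nat.card_coe_set_eq ((T s : Finset (G ⧸ H)) : Set (G ⧸ H)), Set.ncard_coe_finset] at e
      exact e.symm
    have hH : Nat.card H = m * Nat.card (P : Subgroup ↥Cz) := by
      rw [← Nat.card_congr eH.toEquiv, Nat.card_prod, Nat.card_zpowers]
    rw [← Nat.cast_mul, Ne, CharP.cast_eq_zero_iff k p]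
    intro hd
    refine P.not_dvd_index ?_
    have hP := Subgroup.card_mul_index (P : Subgroup ↥Cz)
    rw [← hcard, hH, mul_comm m, mul_assoc] at hP
    exact (Nat.mul_left_cancel Nat.card_pos hP) ▸ hd
  clear_value χ
  refine indicator_core p d ρ hall c₀ H χ ζ⁻¹ m hs hsp hsH hkey ?_
  convert hN using 6

theorem card_le
    (hirr : ∀ i, Irred (ρ i))
    (hdis : ∀ i j, i ≠ j → ∀ f : (Fin (d i) → k) →ₗ[k] (Fin (d j) → k), (∀ g x, f (ρ i g x) = ρ j g (f x)) → f = 0) :
    Fintype.card Φ ≤ Nat.card (RegClass G p) := by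
  haveI := Fintype.ofFinite (RegClass G p)
  have hli : LinearIndependent k fun i => trReg p (ρ i) := by
    rw [Fintype.linearIndependent_iff]
    intro a ha i
    refine congrFun (trace_independent (fun i => Fin (d i) → k) ρ hirr hdis a fun g => ?_) i
    obtain ⟨x, t, rfl, hc, hx, ht⟩ := exists_parts p g
    have h := congrFun ha ⟨ConjClasses.mk t, t, rfl, ht⟩
    simp only [Finset.sum_apply, Pi.smul_apply, smul_eq_mul, Pi.zero_apply] at h
    rw [← h]
    refine Finset.sum_congr rfl fun i _ => ?_
    rw [trace_parts p (ρ i) hx hc, trReg_eq p (ρ i) _ rfl]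
  have := hli.fintype_card_le_finrank
  rw [Module.finrank_fintype_fun_eq_card] at this
  rwa [Nat.card_eq_fintype_card]

theorem le_card
    (hall : ∀ n (σ : G →* Module.End k (Fin n → k)), Irred σ →
      ∃ i, ∀ g, LinearMap.trace k _ (σ g) = LinearMap.trace k _ (ρ i g)) :
    Nat.card (RegClass G p) ≤ Fintype.card Φ := by
  haveI := Fintype.ofFinite (RegClass G p)
  have htop : W p d ρ = ⊤ := by
    rw [eq_top_iff]
    intro f _
    have : f = ∑ c₀, f c₀ • fun c => if c = c₀ then (1 : k) else 0 := by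
      funext c; simp [Finset.sum_apply]
    rw [this]
    exact sum_mem fun c₀ _ => Submodule.smul_mem _ _ (indicator_mem p d ρ hall c₀)
  rw [Nat.card_eq_fintype_card, ← Module.finrank_fintype_fun_eq_card k, ← finrank_top k (RegClass G p → k), ← htop]
  exact finrank_range_le_card _

theorem card_eq
    (hirr : ∀ i, Irred (ρ i))
    (hdis : ∀ i j, i ≠ j → ∀ f : (Fin (d i) → k) →ₗ[k] (Fin (d j) → k), (∀ g x, f (ρ i g x) = ρ j g (f x)) → f = 0)
    (hall : ∀ n (σ : G →* Module.End k (Fin n → k)), Irred σ →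
      ∃ i, ∀ g, LinearMap.trace k _ (σ g) = LinearMap.trace k _ (ρ i g)) :
    Nat.card (RegClass G p) = Fintype.card Φ :=
  le_antisymm (le_card p d ρ hall) (card_le p d ρ hirr hdis)

end Span

end Cfsg.Agent.ModularClassCount
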