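import Cfsg.Agent.Lib.ChevalleyWeightsExist
import Cfsg.Agent.Lib.ModularClassCount
import Cfsg.Agent.Lib.ChevalleyTorusCard
import Cfsg.Agent.Lib.ChevBruhatInstance

/-!
Steinberg's count of the semisimple classes of a Chevalley group whose torus is simply connected.
-/

set_option autoImplicit false
set_option linter.unusedSectionVars false
set_option linter.unusedFintypeInType false

namespace Cfsg.Agent.ChevalleySemisimpleCount

open Cfsg.Lie Cfsg.Agent.ChevalleyCert Cfsg.Agent.ChevalleyModularOps Cfsg.Agent.ChevalleyWeights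
open Cfsg.Agent.BlockPrime86
open scoped Classical

universe u

variable {D : ChevalleyDatum} {F : Type u} [Field F] [Fintype F] (C : Cert D) (S : ChevBruhat.Sys D F)

/-- the admissible weights -/
abbrev Weight (F : Type u) [Field F] [Fintype F] (k : Type) [Field k] :=
  {P : (↥(D.diagonalSubgroup F) →* k) × Finset (Fin D.rank) //
    ∀ i ∈ P.2, P.1.comp (ChevalleyModularOps.hh C i) = 1}

/-- a simply connected torus parametrises `H` -/
noncomputable def eT (hT : Function.Injective (ChevalleyTorus.torus D (F := F))) :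
    (Fin D.rank → Fˣ) ≃* ↥(D.diagonalSubgroup F) :=
  MulEquiv.ofBijective ((ChevalleyTorus.torus D).codRestrict _ (ChevalleyTorus.torus_mem_H C))
    ⟨fun _ _ h => hT (congrArg Subtype.val h), fun h => by
      obtain ⟨c, hc⟩ := (ChevalleyTorus.mem_H_iff C).1 h.2
      exact ⟨c, Subtype.ext hc⟩⟩

theorem eT_single (hT : Function.Injective (ChevalleyTorus.torus D (F := F))) (i : Fin D.rank) (b : Fˣ) :
    eT C hT (Pi.mulSingle i b) = ChevalleyModularOps.hh C i b :=
  Subtype.ext (ChevalleyTorus.hg_simple C b).symm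

variable (p : ℕ) [hp : Fact p.Prime] [CharP F p]

theorem card_homs (k : Type) [Field k] [IsAlgClosed k] [CharP k p] :
    Finite (Fˣ →* k) ∧ Nat.card (Fˣ →* k) + 1 = Fintype.card F := by
  haveI : NeZero ((Monoid.exponent Fˣ : ℕ) : k) := ⟨fun h => by
    have h1 := ((CharP.cast_eq_zero_iff k p _).1 h).trans (Group.exponent_dvd_card (G := Fˣ))
    rw [Fintype.card_units] at h1
    obtain ⟨m, _, hq⟩ := FiniteField.card F p
    have h2 : p ∣ Fintype.card F := hq ▸ dvd_pow_self p m.pos.ne'
    have := Nat.dvd_sub h2 h1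
    rw [show Fintype.card F - (Fintype.card F - 1) = 1 by have := Fintype.card_pos (α := F); omega,
      Nat.dvd_one] at this
    exact hp.out.one_lt.ne' this⟩
  obtain ⟨e⟩ := CommGroup.monoidHom_mulEquiv_of_hasEnoughRootsOfUnity Fˣ k
  let e' : (Fˣ →* k) ≃ (Fˣ →* kˣ) :=
    { toFun := fun f => f.toHomUnits
      invFun := fun f => (Units.coeHom k).comp f
      left_inv := fun f => MonoidHom.ext fun x => rfl
      right_inv := fun f => MonoidHom.ext fun x => Units.ext rfl }
  refine ⟨Finite.of_equiv Fˣ (e'.trans e.toEquiv).symm, ?_⟩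
  rw [Nat.card_congr (e'.trans e.toEquiv), Nat.card_eq_fintype_card, Fintype.card_units]
  have := Fintype.card_pos (α := F)
  omega

theorem card_weight (k : Type) [Field k] [IsAlgClosed k] [CharP k p]
    (hT : Function.Injective (ChevalleyTorus.torus D (F := F))) :
    Finite (Weight C F k) ∧ Nat.card (Weight C F k) = Fintype.card F ^ D.rank := by
  obtain ⟨hfin, hcard⟩ := card_homs (F := F) p k
  let f : Weight C F k → (Fin D.rank → Option (Fˣ →* k)) :=
    fun P i => if i ∈ P.1.2 then none else some (P.1.1.comp (ChevalleyModularOps.hh C i))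
  have hA : ∀ P i, i ∈ P.1.2 ↔ f P i = none := fun P i => by
    by_cases h : i ∈ P.1.2 <;> simp [f, h]
  have hcomp : ∀ P i, P.1.1.comp (ChevalleyModularOps.hh C i) = (f P i).getD 1 := fun P i => by
    by_cases h : i ∈ P.1.2
    · simp [f, h, P.2 i h]
    · simp [f, h]
  have hf : Function.Bijective f := by
    refine ⟨fun P Q h => Subtype.ext (Prod.ext ?_ (Finset.ext fun i => by rw [hA, hA, h])), fun g => ?_⟩
    · refine MonoidHom.ext fun x => ?_
      obtain ⟨c, rfl⟩ := (eT C hT).surjective x
      refine DFunLike.congr_fun (?_ : P.1.1.comp (eT C hT).toMonoidHom = Q.1.1.comp (eT C hT).toMonoidHom) c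
      refine MonoidHom.functions_ext k _ _ fun i b => ?_
      simp only [MonoidHom.comp_apply, MulEquiv.coe_toMonoidHom, eT_single C hT]
      rw [← MonoidHom.comp_apply, ← MonoidHom.comp_apply Q.1.1, hcomp, hcomp, h]
    · let χ : ↥(D.diagonalSubgroup F) →* k :=
        (∏ i, ((g i).getD 1).comp (Pi.evalMonoidHom (fun _ : Fin D.rank => Fˣ) i)).comp
          (eT C hT).symm.toMonoidHom
      have hχ : ∀ i, χ.comp (ChevalleyModularOps.hh C i) = (g i).getD 1 := fun i => by
        refine MonoidHom.ext fun b => ?_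
        simp only [χ, MonoidHom.comp_apply, ← eT_single C hT, MulEquiv.coe_toMonoidHom,
          MulEquiv.symm_apply_apply, MonoidHom.finset_prod_apply, Pi.evalMonoidHom_apply]
        rw [Finset.prod_eq_single i]
        · rw [Pi.mulSingle_eq_same]
        · intro j _ hj
          rw [Pi.mulSingle_eq_of_ne hj, map_one]
        · simp
      refine ⟨⟨(χ, Finset.univ.filter fun i => g i = none), fun i hi => ?_⟩, funext fun i => ?_⟩
      · rw [hχ, (Finset.mem_filter.1 hi).2]; rfl
      · by_cases h : g i = none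
        · simp [f, h]
        · obtain ⟨φ, hφ⟩ := Option.ne_none_iff_exists'.1 h
          simp [f, h, hχ, hφ]
  haveI := hfin
  refine ⟨Finite.of_equiv _ (Equiv.ofBijective f hf).symm, ?_⟩
  rw [Nat.card_congr (Equiv.ofBijective f hf), Nat.card_pi, Finset.prod_const, Finset.card_univ, Fintype.card_fin,
    Finite.card_option, hcard]

include C S in
/-- the classes of semisimple elements -/
theorem card_classes (hT : Function.Injective (ChevalleyTorus.torus D (F := F))) :
    Nat.card (ModularClassCount.RegClass ↥(D.group F) p) = Fintype.card F ^ D.rank := by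
  let k := AlgebraicClosure (ZMod p)
  haveI : CharP k p := charP_of_injective_algebraMap (algebraMap (ZMod p) k).injective p
  obtain ⟨hfin, hcard⟩ := card_weight C p k hT
  haveI := hfin
  letI := Fintype.ofFinite (Weight C F k)
  choose d σ hirr x hx using fun P : Weight C F k => ChevalleyWeightsExist.exists_irred C S p P.1.1 P.1.2 P.2
  rw [ModularClassCount.card_eq p d σ hirr ?_ ?_, ← Nat.card_eq_fintype_card, hcard]
  · intro P Q hPQ f hf
    by_contra h0
    have hb := bijective_of_ne_zero (hirr P) (hirr Q) f hf h0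
    obtain ⟨h1, h2⟩ := param_unique C S (σ Q) p (hirr Q)
      (param_map C S (σ P) (σ Q) f hf (hx P) (fun h => (hx P).ne (hb.1 (h.trans (map_zero f).symm)))) (hx Q)
    exact hPQ (Subtype.ext (Prod.ext h1 h2))
  · intro n τ hτ
    haveI := hτ.1
    obtain ⟨χ, A, y, hy⟩ := exists_param C S τ p
    let P : Weight C F k := ⟨(χ, A), hy.triv⟩
    obtain ⟨e, he⟩ := iso_of_param C S τ p (σ P) hτ (hirr P) hy (hx P)
    refine ⟨P, fun g => ?_⟩
    rw [← LinearMap.trace_conj' (τ g) e]
    congr 1
    refine LinearMap.ext fun v => ?_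
    rw [LinearEquiv.conj_apply_apply, he, LinearEquiv.apply_symm_apply]

omit p hp [CharP F p]
include C

theorem torus_injective {d m : ℕ} (Sm : ChevalleyTorusCard.Smith D d m)
    (h : Nat.gcd (Fintype.card F - 1) d ^ m = 1) :
    Function.Injective (ChevalleyTorus.torus D (F := F)) := by
  have hc := ChevalleyTorusCard.card_H (F := F) C Sm
  rw [h, one_mul] at hc
  let f : (Fin D.rank → Fˣ) →* ↥(D.diagonalSubgroup F) :=
    (ChevalleyTorus.torus D).codRestrict _ (ChevalleyTorus.torus_mem_H C)
  have hf : Function.Bijective f := (Nat.bijective_iff_surjective_and_card f).2 ⟨fun g => by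
    obtain ⟨c, hc⟩ := (ChevalleyTorus.mem_H_iff C).1 g.2
    exact ⟨c, Subtype.ext hc⟩, by
    rw [hc, Nat.card_fun, Nat.card_fin, Nat.card_eq_fintype_card, Fintype.card_units]⟩
  exact fun a b h => hf.1 (Subtype.ext h)

end Cfsg.Agent.ChevalleySemisimpleCount
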