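import Cfsg.Agent.Lib.ChevalleyRelative
import Cfsg.Agent.Lib.ChevalleySylow
import Cfsg.Agent.Lib.CharBasicInt
import Cfsg.Agent.Lib.OddCharGroup

/-!
The values of the Steinberg character at the semisimple elements.
-/

set_option autoImplicit false
set_option linter.unusedSectionVars false
set_option linter.unusedSimpArgs false

namespace Cfsg.Agent.ChevalleyStValue

open Cfsg.Lie Cfsg.Agent.ChevalleyCert Cfsg.Agent.ChevalleyCells Cfsg.Agent.ChevalleyParabolic
  Cfsg.Agent.ChevalleySteinbergChar Cfsg.Agent.ChevalleyRelative Cfsg.Agent.ChevBruhat Cfsg.Agent.ChevBruhat.Sys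
open scoped Classical

variable {D : ChevalleyDatum} {F : Type*} [Field F] (C : Cert D) (S : ChevBruhat.Sys D F)
include C S

/-- `w` carries the fundamental roots of `J` into `Φ_K` -/
def Stab (J K : Set ℕ) (w : S.X.W) : Prop :=
  ∀ i : Fin D.rank, i.val ∈ J → D.InRootSub K (S.X.img w (D.simple i))

theorem stab_root {J K : Set ℕ} {w : S.X.W} (h : Stab S J K w) {r : ℕ} (hr : D.InRootSub J r) :
    D.InRootSub K (S.X.img w r) := by
  refine ⟨S.X.img_lt w hr.1, fun j hj hjK => ?_⟩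
  show ChevWeyl.cor D (S.X.img w r) j = 0
  rw [S.X.cor_img w hr.1 j hj]
  refine Finset.sum_eq_zero fun k hk => ?_
  have hk := Finset.mem_range.mp hk
  by_cases hkJ : k ∈ J
  · rw [show ChevWeyl.cor D (S.X.img w (D.simple k)) j = 0 from (h ⟨k, hk⟩ hkJ).2 j hj hjK, mul_zero]
  · rw [show ChevWeyl.cor D r k = 0 from hr.2 k hk hkJ, zero_mul]

theorem eq_one_of_mem_WJ_empty {a : S.X.W} (h : a ∈ WJ S (∅ : Set ℕ)) : a = 1 :=
  eq_one_of_posOn C S h (posOn_empty C S a)

theorem cell_mul {J : Set ℕ} {x : GL D.Idx F} {m : S.X.W} (hx : InCell S x m) (hm : m ∈ WJ S J)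
    {n : ↥(D.monomialSubgroup F)} (hv : PosOn S J (S.toW n)⁻¹) :
    InCell S (x * (n : GL D.Idx F)) (m * S.toW n) := by
  obtain ⟨b, hb, n', rfl, b', hb', rfl⟩ := hx
  obtain ⟨c, hc, u, hu, e⟩ := S.exists_form n' hb'
  have hu' : (n : GL D.Idx F)⁻¹ * u * n ∈ D.posUnipotent F := by
    rw [show (n : GL D.Idx F)⁻¹ * u * n = ((n⁻¹ : ↥(D.monomialSubgroup F)) : GL D.Idx F) * u *
      ((n⁻¹ : ↥(D.monomialSubgroup F)) : GL D.Idx F)⁻¹ by simp]
    refine conj_closure_le (T := {g : GL D.Idx F | ∃ r t, r ∈ S.X.invSet (S.toW n') ∧ g = S.xg r t}) _ ?_ hu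
    rintro z ⟨r, t, hr, rfl⟩
    have hJ := invSet_inRootSub C S hm hr
    rw [S.X.mem_invSet] at hr
    obtain ⟨d, -, h1, -⟩ := S.acts_toW n⁻¹ r hr.1.1
    rw [h1]
    exact S.xg_mem_U (by rw [map_inv]; exact posOn_root C S hv hr.1 hJ) _
  refine ⟨b * c, mul_mem hb hc, n' * n, map_mul _ _ _, _, U_le_B hu', ?_⟩
  rw [mul_assoc b, e, Subgroup.coe_mul]
  group

/-- the part of `P_J` moved into `P_K` lies in a smaller parabolic subgroup -/
theorem mem_small {J K : Set ℕ} {x : GL D.Idx F} (hx : x ∈ D.parabolicSubgroup F J) {n : ↥(D.monomialSubgroup F)}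
    (hv : PosOn S J (S.toW n)⁻¹) (h : (n : GL D.Idx F)⁻¹ * x * n ∈ D.parabolicSubgroup F K) :
    x ∈ D.parabolicSubgroup F
      {i | i ∈ J ∧ i < D.rank ∧ D.InRootSub K (S.X.img (S.toW n)⁻¹ (D.simple i))} := by
  set J' := {i | i ∈ J ∧ i < D.rank ∧ D.InRootSub K (S.X.img (S.toW n)⁻¹ (D.simple i))}
  obtain ⟨m, hmc⟩ := cell_exists C S (ChevalleyParabolicBN.parabolic_le_group C S J hx)
  have hm := cell_mem_WJ C S hx hmc
  obtain ⟨a, ha, k, hk, h1⟩ := double_cell C S (x := (1 : GL D.Idx F)) (J := (∅ : Set ℕ)) (one_mem _) h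
    (cell_N C S n)
  rw [eq_one_of_mem_WJ_empty C S ha, one_mul, one_mul,
    show (n : GL D.Idx F) * ((n : GL D.Idx F)⁻¹ * x * n) = x * n by group] at h1
  have he : m * S.toW n = S.toW n * k := cell_unique C S (cell_mul C S hmc hm hv) h1
  set v := S.toW n
  set y : ℕ → ℤ := fun r => deg C K (S.X.img v⁻¹ r) with hy
  have hrel : ∀ r, r < D.nroots → y (S.X.img m⁻¹ r) = y r := by
    intro r hr
    have : v⁻¹ * m⁻¹ = k⁻¹ * v⁻¹ := by rw [← mul_inv_rev, he, mul_inv_rev]
    simp only [hy]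
    rw [← S.X.img_mul, this, S.X.img_mul, deg_img_WJ C S (inv_mem hk) (S.X.img_lt _ hr)]
  have key : ∀ l, ∀ a : S.X.W, S.X.inv a = l → a ∈ WJ S J → (∀ r, r < D.nroots → y (S.X.img a⁻¹ r) = y r) →
      a ∈ WJ S J' := by
    intro l
    induction l using Nat.strong_induction_on with
    | _ l ih =>
      intro a hl haJ hrel
      by_cases h1 : a = 1
      · rw [h1]; exact one_mem _
      obtain ⟨i, hi⟩ := S.X.exists_descent h1
      have hp := S.X.simple_pos i.isLt
      have hiJ : i.val ∈ J := by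
        by_contra hiJ
        refine S.X.not_pos_and_neg (pos_img_outside C S (inv_mem haJ) hp fun hin => ?_) hi
        have := hin.2 i i.isLt hiJ
        change ChevWeyl.cor D (D.simple i) i = 0 at this
        rw [S.X.cor_simple i.isLt i.isLt, if_pos rfl] at this
        exact one_ne_zero this
      have hzero : y (D.simple i) = 0 := by
        refine le_antisymm ?_ (deg_nonneg C S K (hv i hiJ))
        rw [← hrel _ hp.1]
        exact deg_nonpos C S K (neg_of_posOn C S hv hi.1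
          (inRootSub_img C S (inv_mem haJ) (inRootSub_simple C hiJ i.isLt)) hi)
      have hiJ' : i.val ∈ J' := ⟨hiJ, i.isLt, deg_zero_mem C S K (hv i hiJ) hzero⟩
      have hs : (S.X.C.simple i)⁻¹ = S.X.C.simple i := inv_eq_of_mul_eq_one_right (simple_mul_self C S i)
      have h2 : S.X.C.simple i * a ∈ WJ S J' := by
        refine ih _ ?_ _ rfl (mul_mem (simple_mem_WJ C S hiJ) haJ) fun r hr => ?_
        · have := S.X.inv_simple_mul_of_neg i hi
          omega
        · rw [mul_inv_rev, hs, S.X.img_mul, img_simple_wr C S i hr, hrel _ (C.w_lt i r i.isLt hr)]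
          simp only [hy] at hzero ⊢
          rw [deg_img_wr C S K _ i hr, hzero, mul_zero, sub_zero]
      have := mul_mem (simple_mem_WJ C S hiJ') h2
      rwa [← mul_assoc, simple_mul_self C S i, one_mul] at this
  exact mem_parabolic_of_cell C S (key _ m rfl hm hrel) hmc

theorem conj_levi {J K : Set ℕ} {n : ↥(D.monomialSubgroup F)} (hs : Stab S J K (S.toW n)⁻¹) {l : GL D.Idx F}
    (hl : l ∈ D.leviSubgroup F J) : (n : GL D.Idx F)⁻¹ * l * n ∈ D.parabolicSubgroup F K := by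
  have hle : D.leviSubgroup F J ≤ (D.parabolicSubgroup F K).comap (MulAut.conj (n : GL D.Idx F)⁻¹).toMonoidHom := by
    refine sup_le (fun h hh => ?_) ((Subgroup.closure_le _).2 ?_)
    · show (n : GL D.Idx F)⁻¹ * h * ((n : GL D.Idx F)⁻¹)⁻¹ ∈ D.parabolicSubgroup F K
      exact H_le_parabolic C S K (by simpa using S.conj_H ((S.acts_toW n).inv S) hh)
    · rintro g ⟨r, t, hr, hg'⟩
      rw [S.eq_xg.mp hg']
      show (n : GL D.Idx F)⁻¹ * S.xg r t * ((n : GL D.Idx F)⁻¹)⁻¹ ∈ D.parabolicSubgroup F K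
      obtain ⟨d, -, h1, -⟩ := (S.acts_toW n).inv S r hr.1
      rw [h1, ChevalleyParabolicBN.sys_xg C S]
      exact root_mem_parabolic C (Or.inr (stab_root C S hs hr)) _
  simpa using hle hl

/-! ### the strata -/

/-- the chosen representative in `N` -/
noncomputable def nv (w : S.X.W) : ↥(D.monomialSubgroup F) := (S.toW_surjective w).choose

theorem nv_spec (w : S.X.W) : S.toW (nv S w) = w := (S.toW_surjective w).choose_spec

/-- the representative inside the group -/
noncomputable def gv (w : S.X.W) : ↥(D.group F) := ⟨nv S w, S.N_le_group (nv S w).2⟩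

/-- the moved points of the stratum of `w` -/
abbrev A (J : Set ℕ) (g : ↥(D.group F)) (w : S.X.W) :=
  {x : ↥(D.group F) ⧸ BS D F // ∃ r : ↥(D.group F), (r : GL D.Idx F) ∈ D.unipotentRadical F J ∧
    x = ((r * gv S w : ↥(D.group F)) : ↥(D.group F) ⧸ BS D F) ∧
    (nv S w : GL D.Idx F)⁻¹ * ((r : GL D.Idx F)⁻¹ * g * r * (g : GL D.Idx F)⁻¹) * nv S w ∈ D.borelSubgroup F}

/-- the strata meeting the fixed points -/
abbrev V (J K : Set ℕ) := {w : S.X.W // PosOn S J w⁻¹ ∧ PosOn S K w ∧ Stab S J K w⁻¹}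

theorem comm_mem_radical {J : Set ℕ} {g r : GL D.Idx F} (hg' : g ∈ D.parabolicSubgroup F J)
    (hr : r ∈ D.unipotentRadical F J) : r⁻¹ * g * r * g⁻¹ ∈ D.unipotentRadical F J := by
  have := mul_mem (inv_mem hr) (radical_normal C S hg' hr)
  simpa [mul_assoc] using this

theorem fix_iff {J K : Set ℕ} {g r : ↥(D.group F)} {w : S.X.W} (hgL : (g : GL D.Idx F) ∈ D.leviSubgroup F J)
    (hr : (r : GL D.Idx F) ∈ D.unipotentRadical F J) (hK : PosOn S K w) (hs : Stab S J K w⁻¹) :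
    g • ((r * gv S w : ↥(D.group F)) : ↥(D.group F) ⧸ PS D F K) = ((r * gv S w : ↥(D.group F)) : ↥(D.group F) ⧸ PS D F K) ↔
    (nv S w : GL D.Idx F)⁻¹ * ((r : GL D.Idx F)⁻¹ * g * r * (g : GL D.Idx F)⁻¹) * nv S w ∈ D.borelSubgroup F := by
  have hgP : (g : GL D.Idx F) ∈ D.parabolicSubgroup F J := by
    rw [← radical_sup_levi C J]; exact Subgroup.mem_sup_right hgL
  have h1 : (nv S w : GL D.Idx F)⁻¹ * g * nv S w ∈ D.parabolicSubgroup F K :=
    conj_levi C S (by rw [nv_spec C S]; exact hs) hgL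
  have hB : (r : GL D.Idx F)⁻¹ * g * r * (g : GL D.Idx F)⁻¹ ∈ D.borelSubgroup F :=
    U_le_B (radical_le_U C S J (comm_mem_radical C S hgP hr))
  have e : (nv S w : GL D.Idx F)⁻¹ * ((r : GL D.Idx F)⁻¹ * g * r * (g : GL D.Idx F)⁻¹) * nv S w =
      (((g * (r * gv S w))⁻¹ * (r * gv S w))⁻¹ : ↥(D.group F)) *
        ((nv S w : GL D.Idx F)⁻¹ * g * nv S w)⁻¹ := by
    simp only [gv, Subgroup.coe_mul, Subgroup.coe_inv]; group
  rw [MulAction.Quotient.smul_coe, QuotientGroup.eq, smul_eq_mul, Subgroup.mem_subgroupOf]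
  constructor
  · intro h
    refine conj_mem_B C S (K := K) (by rw [nv_spec C S]; exact hK) hB ?_
    rw [e]
    exact mul_mem (inv_mem h) (inv_mem h1)
  · intro h
    have h' : _ ∈ D.parabolicSubgroup F K := (le_sup_left : D.borelSubgroup F ≤ _) h
    rw [e] at h'
    simpa using inv_mem ((Subgroup.mul_mem_cancel_right _ (inv_mem h1)).1 h')

theorem card_fix_P {J : Finset ℕ} (hJ : J ⊆ Finset.range D.rank) {g : ↥(D.group F)}
    (hgL : (g : GL D.Idx F) ∈ D.leviSubgroup F (↑J : Set ℕ))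
    (hmin : ∀ J' : Finset ℕ, J' ⊂ J → ∀ x : ↥(D.group F), x⁻¹ * g * x ∉ PS D F (↑J' : Set ℕ)) (K : Set ℕ) :
    Nat.card (MulAction.fixedBy (↥(D.group F) ⧸ PS D F K) g) =
      Nat.card (Σ w : V S (↑J : Set ℕ) K, A S (↑J : Set ℕ) g w.1) := by
  symm
  set J₀ : Set ℕ := (↑J : Set ℕ)
  have hgP : (g : GL D.Idx F) ∈ D.parabolicSubgroup F J₀ := by
    rw [← radical_sup_levi C J₀]; exact Subgroup.mem_sup_right hgL
  have hout : ∀ (w : S.X.W) (x : A S J₀ g w), ∃ r : ↥(D.group F), (r : GL D.Idx F) ∈ D.unipotentRadical F J₀ ∧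
      ((x.1.out : ↥(D.group F)) : ↥(D.group F) ⧸ PS D F K) = ((r * gv S w : ↥(D.group F)) : ↥(D.group F) ⧸ PS D F K) ∧
      x.1 = ((r * gv S w : ↥(D.group F)) : ↥(D.group F) ⧸ BS D F) ∧
      (nv S w : GL D.Idx F)⁻¹ * ((r : GL D.Idx F)⁻¹ * g * r * (g : GL D.Idx F)⁻¹) * nv S w ∈ D.borelSubgroup F :=
    fun w x => by
      obtain ⟨r, hr, hx, hc⟩ := x.2
      exact ⟨r, hr, mkP_congr C S K (by rw [QuotientGroup.out_eq']; exact hx), hx, hc⟩
  refine Nat.card_eq_of_bijective (fun z => ⟨((z.2.1.out : ↥(D.group F)) : ↥(D.group F) ⧸ PS D F K), ?_⟩) ⟨?_, ?_⟩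
  · obtain ⟨⟨w, hwJ, hwK, hs⟩, x⟩ := z
    obtain ⟨r, hr, he, -, hc⟩ := hout w x
    rw [MulAction.mem_fixedBy, he]
    exact (fix_iff C S hgL hr hwK hs).2 hc
  · rintro ⟨⟨w, hwJ, hwK, hs⟩, x⟩ ⟨⟨w', hwJ', hwK', hs'⟩, x'⟩ h
    obtain ⟨r, hr, he, hx, -⟩ := hout w x
    obtain ⟨r', hr', he', hx', -⟩ := hout w' x'
    have h1 := congrArg Subtype.val h
    simp only at h1
    rw [he, he', QuotientGroup.eq, Subgroup.mem_subgroupOf] at h1
    simp only [Subgroup.coe_mul, Subgroup.coe_inv, gv] at h1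
    obtain rfl : w = w' := by
      rw [← nv_spec C S w, ← nv_spec C S w']
      refine reduced_eq C S (J := J₀) (K := K) (x := (r' : GL D.Idx F)⁻¹ * r)
        (y := ((r : GL D.Idx F) * nv S w)⁻¹ * ((r' : GL D.Idx F) * nv S w'))
        (radical_le_parabolic C S J₀ (mul_mem (inv_mem hr') hr)) h1
        (by rw [nv_spec C S]; exact hwJ) (by rw [nv_spec C S]; exact hwK) (by rw [nv_spec C S]; exact hwJ')
        (by rw [nv_spec C S]; exact hwK') ?_
      group
    have h2 := conj_mem_B C S (K := K) (n := nv S w) (by rw [nv_spec C S]; exact hwK)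
      (b := (r : GL D.Idx F)⁻¹ * r') (U_le_B (radical_le_U C S J₀ (mul_mem (inv_mem hr) hr')))
      (by simpa [mul_assoc] using h1)
    have h3 : x = x' := by
      apply Subtype.ext
      rw [hx, hx', QuotientGroup.eq, Subgroup.mem_subgroupOf]
      simpa [gv, mul_assoc] using h2
    subst h3
    rfl
  · rintro ⟨y, hy⟩
    induction y using QuotientGroup.induction_on with
    | H c =>
      obtain ⟨n, hn1, hn2, a, ha, b, hb, e⟩ := exists_reduced C S c.2 J₀ K
      set w := S.toW n with hw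
      have hH : (nv S w : GL D.Idx F)⁻¹ * n ∈ D.diagonalSubgroup F := (S.toW_eq_iff).1 (nv_spec C S w)
      set a' : ↥(D.group F) := ⟨a, ChevalleyParabolicBN.parabolic_le_group C S J₀ ha⟩
      have hc : ((c : ↥(D.group F)) : ↥(D.group F) ⧸ PS D F K) = ((a' * gv S w : ↥(D.group F)) : ↥(D.group F) ⧸ PS D F K) := by
        rw [QuotientGroup.eq, Subgroup.mem_subgroupOf]
        simp only [Subgroup.coe_mul, Subgroup.coe_inv, gv, a', e]
        have := inv_mem (mul_mem (H_le_parabolic C S K hH) hb)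
        convert this using 1
        group
      rw [MulAction.mem_fixedBy] at hy
      rw [hc, MulAction.Quotient.smul_coe, QuotientGroup.eq, smul_eq_mul, Subgroup.mem_subgroupOf] at hy
      simp only [Subgroup.coe_mul, Subgroup.coe_inv, gv, a'] at hy
      have hx0 : a⁻¹ * (g : GL D.Idx F) * a ∈ D.parabolicSubgroup F J₀ := mul_mem (mul_mem (inv_mem ha) hgP) ha
      have hsm := mem_small C S (K := K) hx0 (n := nv S w) (by rw [nv_spec C S]; exact hn1)
        (by simpa [mul_assoc] using inv_mem hy)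
      rw [nv_spec C S] at hsm
      set J' := J.filter fun i => D.InRootSub K (S.X.img w⁻¹ (D.simple i))
      have hJ' : {i | i ∈ J₀ ∧ i < D.rank ∧ D.InRootSub K (S.X.img w⁻¹ (D.simple i))} = (↑J' : Set ℕ) := by
        ext i
        simp only [J', J₀, Finset.coe_filter, Finset.mem_coe]
        exact ⟨fun h => ⟨h.1, h.2.2⟩, fun h => ⟨h.1, Finset.mem_range.1 (hJ h.1), h.2⟩⟩
      rw [hJ'] at hsm
      have hall : J' = J := by
        by_contra hne
        exact hmin J' (Finset.ssubset_iff_subset_ne.2 ⟨Finset.filter_subset _ _, hne⟩) a' hsm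
      have hs : Stab S J₀ K w⁻¹ := fun i hi => (Finset.filter_eq_self.1 hall) i.val hi
      have ha0 := ha
      rw [← radical_sup_levi C J₀, ← SetLike.mem_coe, sup_comm,
        Subgroup.coe_mul_of_left_le_normalizer_right _ _ (le_trans (le_trans le_sup_right
          (radical_sup_levi C J₀).le) (parabolic_le_normalizer C J₀))] at ha0
      obtain ⟨l, hl, r, hr, hlr⟩ := ha0
      have hlP : l ∈ D.parabolicSubgroup F J₀ := by
        rw [← radical_sup_levi C J₀]; exact Subgroup.mem_sup_right hl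
      have hr2 : l * r * l⁻¹ ∈ D.unipotentRadical F J₀ := radical_normal C S hlP hr
      let r' : ↥(D.group F) := ⟨l * r * l⁻¹, S.U_le_group (radical_le_U C S J₀ hr2)⟩
      have hc' : ((c : ↥(D.group F)) : ↥(D.group F) ⧸ PS D F K) = ((r' * gv S w : ↥(D.group F)) : ↥(D.group F) ⧸ PS D F K) := by
        rw [hc, QuotientGroup.eq, Subgroup.mem_subgroupOf]
        have := inv_mem (conj_levi C S (n := nv S w) (by rw [nv_spec C S]; exact hs) hl)
        convert this using 1
        simp only [gv, a', r', Subgroup.coe_mul, Subgroup.coe_inv, ← hlr]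
        group
      have hfix : g • ((r' * gv S w : ↥(D.group F)) : ↥(D.group F) ⧸ PS D F K) = ((r' * gv S w : ↥(D.group F)) : ↥(D.group F) ⧸ PS D F K) := by
        rw [← hc', hc, MulAction.Quotient.smul_coe, QuotientGroup.eq, smul_eq_mul, Subgroup.mem_subgroupOf]
        simpa [gv, a'] using hy
      refine ⟨⟨⟨w, hn1, hn2, hs⟩, ⟨((r' * gv S w : ↥(D.group F)) : ↥(D.group F) ⧸ BS D F), r', hr2, rfl,
        (fix_iff C S hgL hr2 hn2 hs).1 hfix⟩⟩, Subtype.ext ?_⟩
      show ((((r' * gv S w : ↥(D.group F)) : ↥(D.group F) ⧸ BS D F).out : ↥(D.group F)) : ↥(D.group F) ⧸ PS D F K) = _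
      exact (mkP_congr C S K (QuotientGroup.out_eq' _)).trans hc'.symm

/-! ### the surviving stratum -/

/-- the union of the supports of `w⁻¹ p_i`, `i ∈ J` -/
noncomputable def supp (J : Finset ℕ) (w : S.X.W) : Finset ℕ :=
  (Finset.range D.rank).filter fun k => ∃ i ∈ J, ChevWeyl.cor D (S.X.img w⁻¹ (D.simple i)) k ≠ 0

theorem stab_iff {J K : Finset ℕ} (hJ : J ⊆ Finset.range D.rank) (w : S.X.W) :
    Stab S (↑J : Set ℕ) (↑K : Set ℕ) w⁻¹ ↔ supp S J w ⊆ K := by
  constructor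
  · intro h k hk
    obtain ⟨hk, i, hi, hne⟩ := Finset.mem_filter.1 hk
    by_contra hkK
    exact hne ((h ⟨i, Finset.mem_range.1 (hJ hi)⟩ hi).2 k (Finset.mem_range.1 hk) hkK)
  · intro h i hi
    refine ⟨S.X.img_lt _ (S.X.simple_lt i.isLt), fun k hk hkK => ?_⟩
    by_contra hne
    exact hkK (h (Finset.mem_filter.2 ⟨Finset.mem_range.2 hk, i, hi, hne⟩))

theorem sum_interval (T M P : Finset ℕ) (hM : M ⊆ T) (hP : P ⊆ T) :
    (∑ K ∈ T.powerset, if M ⊆ K ∧ K ⊆ P then (-1 : ℤ) ^ K.card else 0) =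
      if M = P then (-1) ^ M.card else 0 := by
  rw [← Finset.sum_filter]
  by_cases hMP : M ⊆ P
  · rw [Finset.sum_nbij' (t := (P \ M).powerset) (g := fun L => (-1 : ℤ) ^ M.card * (-1) ^ L.card)
      (fun K => K \ M) (fun L => M ∪ L)]
    · rw [← Finset.mul_sum, Finset.sum_powerset_neg_one_pow_card, mul_ite, mul_one, mul_zero]
      exact if_congr ⟨fun h => subset_antisymm hMP (Finset.sdiff_eq_empty_iff_subset.1 h),
        fun h => by rw [h, sdiff_self]; rfl⟩ rfl rfl
    · intro K hK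
      simp only [Finset.mem_filter, Finset.mem_powerset] at hK ⊢
      exact Finset.sdiff_subset_sdiff hK.2.2 le_rfl
    · intro L hL
      simp only [Finset.mem_filter, Finset.mem_powerset] at hL ⊢
      have := hL.trans Finset.sdiff_subset
      exact ⟨Finset.union_subset hM (this.trans hP), Finset.subset_union_left, Finset.union_subset hMP this⟩
    · intro K hK
      simp only [Finset.mem_filter] at hK
      exact Finset.union_sdiff_of_subset hK.2.1
    · intro L hL
      simp only [Finset.mem_powerset] at hL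
      exact Finset.union_sdiff_cancel_left (Finset.disjoint_left.2 fun a ha hb => (Finset.mem_sdiff.1 (hL hb)).2 ha)
    · intro K hK
      simp only [Finset.mem_filter] at hK
      rw [← pow_add, Finset.card_sdiff_of_subset hK.2.1]
      have := Finset.card_le_card hK.2.1
      congr 1
      omega
  · rw [if_neg fun h : M = P => hMP (h ▸ subset_rfl)]
    exact Finset.sum_eq_zero fun K hK => absurd ((Finset.mem_filter.1 hK).2.1.trans (Finset.mem_filter.1 hK).2.2) hMP

/-- the surviving stratum -/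
noncomputable def v0 (J : Set ℕ) : S.X.W := lJ C S J * (Classical.choose S.exists_w0)⁻¹

theorem v0_pos (J : Set ℕ) : PosOn S J (v0 C S J)⁻¹ := by
  intro i hi
  rw [v0, mul_inv_rev, inv_inv, lJ_inv C S, S.X.img_mul]
  have hn := lJ_neg C S J i hi
  have := Classical.choose_spec S.exists_w0 _ ((S.X.pos_neg_iff hn.1).2 hn)
  rw [S.X.img_neg _ hn.1] at this
  have h2 := (S.X.pos_neg_iff this.1).2 this
  rwa [(S.X.root_facts (S.X.img_lt _ hn.1)).2.1] at h2

theorem v0_neg (J : Set ℕ) {r : ℕ} (hr : D.IsPosRoot r) (hJ : ¬ D.InRootSub J r) :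
    D.IsNegRoot (S.X.img (v0 C S J)⁻¹ r) := by
  rw [v0, mul_inv_rev, inv_inv, lJ_inv C S, S.X.img_mul]
  exact Classical.choose_spec S.exists_w0 _ (pos_img_outside C S (lJ_mem C S J) hr hJ)

theorem supp_eq_iff {J : Finset ℕ} (hJ : J ⊆ Finset.range D.rank) {w : S.X.W}
    (hw : PosOn S (↑J : Set ℕ) w⁻¹) : supp S J w = posSet S w ↔ w = v0 C S (↑J : Set ℕ) := by
  have hcor : ∀ i ∈ J, ∀ j, j < D.rank → j ∉ (↑J : Set ℕ) →
      ∑ k ∈ Finset.range D.rank, ChevWeyl.cor D (S.X.img w⁻¹ (D.simple i)) k *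
        ChevWeyl.cor D (S.X.img w (D.simple k)) j = 0 := by
    intro i hi j hj hjJ
    have hir := Finset.mem_range.1 (hJ hi)
    rw [← S.X.cor_img w (S.X.img_lt _ (S.X.simple_lt hir)) j hj, S.X.img_img_inv, S.X.cor_simple hir hj,
      if_neg fun h : j = i => hjJ (h ▸ hi)]
  constructor
  · intro h
    have hin : ∀ k ∈ posSet S w, D.InRootSub (↑J : Set ℕ) (S.X.img w (D.simple k)) := by
      intro k hk
      rw [← h] at hk
      obtain ⟨hkr, i, hi, hne⟩ := Finset.mem_filter.1 hk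
      refine ⟨S.X.img_lt _ (S.X.simple_lt (Finset.mem_range.1 hkr)), fun j hj hjJ => ?_⟩
      show ChevWeyl.cor D _ j = 0
      have hpi := hw ⟨i, Finset.mem_range.1 (hJ hi)⟩ hi
      have hz := (Finset.sum_eq_zero_iff_of_nonneg fun l hl => ?_).1 (hcor i hi j hj hjJ) k hkr
      · exact (mul_eq_zero.1 hz).resolve_left hne
      · have hl' := Finset.mem_range.1 hl
        have h1 := (S.X.pos_iff hpi.1).1 hpi l hl'
        by_cases h0 : ChevWeyl.cor D (S.X.img w⁻¹ (D.simple i)) l = 0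
        · simp [h0]
        · have hlp : l ∈ posSet S w := by
            rw [← h]
            exact Finset.mem_filter.2 ⟨hl, i, hi, h0⟩
          have h2 := (Finset.mem_filter.1 hlp).2
          exact mul_nonneg h1 ((S.X.pos_iff h2.1).1 h2 j hj)
    have hout : ∀ r, D.IsPosRoot r → ¬ D.InRootSub (↑J : Set ℕ) r → D.IsNegRoot (S.X.img w⁻¹ r) := by
      intro r hr hrJ
      refine (S.X.pos_or_neg (S.X.img_lt _ hr.1)).resolve_left fun hp => hrJ ⟨hr.1, fun j hj hjJ => ?_⟩
      show ChevWeyl.cor D r j = 0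
      refine le_antisymm ?_ ((S.X.pos_iff hr.1).1 hr j hj)
      rw [← S.X.img_img_inv w r, S.X.cor_img w hp.1 j hj]
      refine Finset.sum_nonpos fun k hk => ?_
      have hk' := Finset.mem_range.1 hk
      have h1 := (S.X.pos_iff hp.1).1 hp k hk'
      rcases S.X.pos_or_neg (S.X.img_lt w (S.X.simple_lt hk')) with h2 | h2
      · rw [show ChevWeyl.cor D (S.X.img w (D.simple k)) j = 0 from
          (hin k (Finset.mem_filter.2 ⟨hk, h2⟩)).2 j hj hjJ, mul_zero]
      · exact mul_nonpos_of_nonneg_of_nonpos h1 ((S.X.neg_iff h2.1).1 h2 j hj)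
    have hall : AllNeg S (w⁻¹ * lJ C S (↑J : Set ℕ)) := by
      intro r hr
      rw [S.X.img_mul]
      by_cases hrJ : D.InRootSub (↑J : Set ℕ) r
      · have hn := negOn_root C S (lJ_neg C S _) hr hrJ
        exact neg_of_posOn C S hw hn.1 (inRootSub_img C S (lJ_mem C S _) hrJ) hn
      · exact hout _ (pos_img_outside C S (lJ_mem C S _) hr hrJ)
          (not_inRootSub_img C S (lJ_mem C S _) hr.1 hrJ)
    have he := allNeg_unique C S hall (Classical.choose_spec S.exists_w0)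
    rw [v0, ← he, mul_inv_rev, inv_inv, ← mul_assoc, mul_inv_cancel, one_mul]
  · rintro rfl
    set v := v0 C S (↑J : Set ℕ)
    have hpin : ∀ k, k < D.rank → D.IsPosRoot (S.X.img v (D.simple k)) →
        D.InRootSub (↑J : Set ℕ) (S.X.img v (D.simple k)) := by
      intro k hk hp
      by_contra hnJ
      have := v0_neg C S (↑J : Set ℕ) hp hnJ
      rw [S.X.img_inv_img] at this
      exact S.X.not_pos_and_neg (S.X.simple_pos hk) this
    ext k
    simp only [supp, posSet, Finset.mem_filter]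
    refine ⟨fun ⟨hkr, i, hi, hne⟩ => ⟨hkr, ?_⟩, fun ⟨hkr, hp⟩ => ⟨hkr, ?_⟩⟩
    · have hk' := Finset.mem_range.1 hkr
      refine (S.X.pos_or_neg (S.X.img_lt v (S.X.simple_lt hk'))).resolve_right fun hn => ?_
      have hpi := hw ⟨i, Finset.mem_range.1 (hJ hi)⟩ hi
      have hinJ : D.InRootSub (↑J : Set ℕ) (S.X.img v (D.simple k)) := by
        refine ⟨hn.1, fun j hj hjJ => ?_⟩
        show ChevWeyl.cor D _ j = 0
        have hz := (Finset.sum_eq_zero_iff_of_nonpos fun l hl => ?_).1 (hcor i hi j hj hjJ) k hkr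
        · exact (mul_eq_zero.1 hz).resolve_left hne
        · have hl' := Finset.mem_range.1 hl
          refine mul_nonpos_of_nonneg_of_nonpos ((S.X.pos_iff hpi.1).1 hpi l hl') ?_
          rcases S.X.pos_or_neg (S.X.img_lt v (S.X.simple_lt hl')) with h2 | h2
          · rw [show ChevWeyl.cor D (S.X.img v (D.simple l)) j = 0 from (hpin l hl' h2).2 j hj hjJ]
          · exact (S.X.neg_iff h2.1).1 h2 j hj
      have := neg_of_posOn C S (v0_pos C S (↑J : Set ℕ)) hn.1 hinJ hn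
      rw [S.X.img_inv_img] at this
      exact S.X.not_pos_and_neg (S.X.simple_pos hk') this
    · have hk' := Finset.mem_range.1 hkr
      by_contra hcon
      push Not at hcon
      have h1 := S.X.cor_img v⁻¹ hp.1 k hk'
      rw [S.X.img_inv_img, S.X.cor_simple hk' hk', if_pos rfl] at h1
      refine one_ne_zero (h1.trans (Finset.sum_eq_zero fun i hi => ?_))
      by_cases hiJ : i ∈ J
      · rw [hcon i hiJ, mul_zero]
      · rw [show ChevWeyl.cor D (S.X.img v (D.simple k)) i = 0 from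
          (hpin k hk' hp).2 i (Finset.mem_range.1 hi) hiJ, zero_mul]

theorem radical_conj_trivial {J : Set ℕ} {u : GL D.Idx F} (hu : u ∈ D.unipotentRadical F J)
    (h : (nv S (v0 C S J) : GL D.Idx F)⁻¹ * u * nv S (v0 C S J) ∈ D.borelSubgroup F) : u = 1 := by
  have h2 : (nv S (v0 C S J) : GL D.Idx F)⁻¹ * u * ((nv S (v0 C S J) : GL D.Idx F)⁻¹)⁻¹ ∈ D.negUnipotent F := by
    refine conj_closure_le (T := {g : GL D.Idx F | ∃ (r : ℕ) (t : F), D.IsPosRoot r ∧ ¬ D.InRootSub J r ∧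
      (g : Matrix D.Idx D.Idx F) = D.x F r t}) _ ?_ hu
    rintro z ⟨r, t, hr, hJ, hz⟩
    rw [S.eq_xg.mp hz]
    obtain ⟨d, -, h1, -⟩ := (S.acts_toW (nv S (v0 C S J))).inv S r hr.1
    rw [h1, nv_spec C S]
    exact S.xg_mem_V (v0_neg C S J hr hJ) _
  rw [inv_inv] at h2
  have h3 := Subgroup.mem_inf.mpr ⟨h, h2⟩
  rw [S.B_inf_V, Subgroup.mem_bot] at h3
  calc u = (nv S (v0 C S J) : GL D.Idx F) * ((nv S (v0 C S J) : GL D.Idx F)⁻¹ * u * nv S (v0 C S J)) *
      (nv S (v0 C S J) : GL D.Idx F)⁻¹ := by group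
    _ = 1 := by rw [h3]; group

theorem card_A {J : Set ℕ} {g : ↥(D.group F)} (hgP : (g : GL D.Idx F) ∈ D.parabolicSubgroup F J) :
    Nat.card (A S J g (v0 C S J)) =
      Nat.card ↥(((D.unipotentRadical F J).subgroupOf (D.group F)) ⊓ Subgroup.centralizer ({g} : Set ↥(D.group F))) := by
  symm
  set v := v0 C S J
  refine Nat.card_eq_of_bijective (fun r => ⟨((r.1 * gv S v : ↥(D.group F)) : ↥(D.group F) ⧸ BS D F), r.1,
    Subgroup.mem_subgroupOf.1 r.2.1, rfl, ?_⟩) ⟨?_, ?_⟩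
  · have h := congrArg (fun z : ↥(D.group F) => (z : GL D.Idx F)) (Subgroup.mem_centralizer_singleton_iff.1 r.2.2)
    simp only [Subgroup.coe_mul] at h
    rw [show ((r.1 : GL D.Idx F))⁻¹ * g * (r.1 : GL D.Idx F) * (g : GL D.Idx F)⁻¹ = 1 by
      rw [mul_assoc _ (g : GL D.Idx F) (r.1 : GL D.Idx F), ← h]; group]
    simp [one_mem]
  · intro r r' h
    have h1 := congrArg Subtype.val h
    simp only at h1
    rw [QuotientGroup.eq, Subgroup.mem_subgroupOf] at h1
    have h2 := radical_conj_trivial C S (J := J) (u := (r.1 : GL D.Idx F)⁻¹ * r'.1)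
      (mul_mem (inv_mem (Subgroup.mem_subgroupOf.1 r.2.1)) (Subgroup.mem_subgroupOf.1 r'.2.1))
      (by simpa [gv, mul_assoc] using h1)
    exact Subtype.ext (Subtype.ext (inv_mul_eq_one.1 h2))
  · rintro ⟨x, r, hr, rfl, hc⟩
    have h2 := radical_conj_trivial C S (comm_mem_radical C S hgP hr) hc
    refine ⟨⟨r, Subgroup.mem_subgroupOf.2 hr, Subgroup.mem_centralizer_singleton_iff.2 (Subtype.ext ?_)⟩, rfl⟩
    simp only [Subgroup.coe_mul]
    calc (r : GL D.Idx F) * g = r * ((r : GL D.Idx F)⁻¹ * g * r * (g : GL D.Idx F)⁻¹) * g := by rw [h2]; group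
      _ = _ := by group

theorem st_levi [Fintype F] {J : Finset ℕ} (hJ : J ⊆ Finset.range D.rank) {g : ↥(D.group F)}
    (hgL : (g : GL D.Idx F) ∈ D.leviSubgroup F (↑J : Set ℕ))
    (hmin : ∀ J' : Finset ℕ, J' ⊂ J → ∀ x : ↥(D.group F), x⁻¹ * g * x ∉ PS D F (↑J' : Set ℕ)) :
    ∃ e : ℕ, D.steinbergCharacter F g = (-1 : ℂ) ^ e * (Nat.card ↥(((D.unipotentRadical F (↑J : Set ℕ)).subgroupOf
      (D.group F)) ⊓ Subgroup.centralizer ({g} : Set ↥(D.group F))) : ℂ) := by
  haveI : Finite S.X.W := Finite.of_injective _ S.X.ρ_injective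
  letI : Fintype S.X.W := Fintype.ofFinite _
  set v := v0 C S (↑J : Set ℕ) with hv
  refine ⟨(supp S J v).card, ?_⟩
  have hgP : (g : GL D.Idx F) ∈ D.parabolicSubgroup F (↑J : Set ℕ) := by
    rw [← radical_sup_levi C]; exact Subgroup.mem_sup_right hgL
  rw [← card_A C S hgP, ← hv]
  have hfix : ∀ K ∈ (Finset.range D.rank).powerset, (-1 : ℂ) ^ K.card * Cfsg.fixedPointCharacter (D.parabolicIn F K) g =
      ∑ w : S.X.W, (Nat.card (A S (↑J : Set ℕ) g w) : ℂ) *
        (((if PosOn S (↑J : Set ℕ) w⁻¹ then if supp S J w ⊆ K ∧ K ⊆ posSet S w then (-1 : ℤ) ^ K.card else 0 else 0) : ℤ) : ℂ) := by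
    intro K hK
    have h := card_fix_P C S hJ hgL hmin (↑K : Set ℕ)
    rw [Cfsg.fixedPointCharacter]
    refine (congrArg (fun z : ℕ => (-1 : ℂ) ^ K.card * (z : ℂ)) (h.trans Nat.card_sigma)).trans ?_
    rw [Nat.cast_sum, Finset.mul_sum]
    rw [← Finset.sum_subtype (Finset.univ.filter (fun w : S.X.W => PosOn S (↑J : Set ℕ) w⁻¹ ∧
      PosOn S (↑K : Set ℕ) w ∧ Stab S (↑J : Set ℕ) (↑K : Set ℕ) w⁻¹)) (by simp)
      (fun w => (-1 : ℂ) ^ K.card * (Nat.card (A S (↑J : Set ℕ) g w) : ℂ)), Finset.sum_filter]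
    refine Finset.sum_congr rfl fun w _ => ?_
    simp only [stab_iff C S hJ, posOn_iff C S (Finset.mem_powerset.1 hK)]
    by_cases h1 : PosOn S (↑J : Set ℕ) w⁻¹ <;> by_cases h2 : supp S J w ⊆ K <;>
      by_cases h3 : K ⊆ posSet S w <;> simp [h1, h2, h3, mul_comm]
  rw [ChevalleyDatum.steinbergCharacter, Finset.sum_congr rfl hfix, Finset.sum_comm, Finset.sum_eq_single v]
  · rw [← Finset.mul_sum, ← Int.cast_sum]
    simp only [v0_pos C S _, hv, if_true]
    rw [sum_interval C S (Finset.range D.rank) (supp S J (v0 C S (↑J : Set ℕ))) (posSet S (v0 C S (↑J : Set ℕ)))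
      (Finset.filter_subset _ _) (Finset.filter_subset _ _),
      if_pos ((supp_eq_iff C S hJ (v0_pos C S _)).2 rfl)]
    push_cast
    ring
  · intro w _ hne
    rw [← Finset.mul_sum, ← Int.cast_sum]
    by_cases hw : PosOn S (↑J : Set ℕ) w⁻¹
    · simp only [hw, if_true]
      rw [sum_interval C S (Finset.range D.rank) (supp S J w) (posSet S w)
        (Finset.filter_subset _ _) (Finset.filter_subset _ _),
        if_neg fun h => hne ((supp_eq_iff C S hJ hw).1 h), Int.cast_zero, mul_zero]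
    · simp [hw]
  · intro h; exact absurd (Finset.mem_univ _) h

variable (p : ℕ) [Fact p.Prime] [CharP F p]

theorem exists_levi [Fintype F] {g : ↥(D.group F)} (hg' : ¬ p ∣ orderOf g) :
    ∃ (J : Finset ℕ) (x : ↥(D.group F)), J ⊆ Finset.range D.rank ∧
      (((x⁻¹ * g * x : ↥(D.group F))) : GL D.Idx F) ∈ D.leviSubgroup F (↑J : Set ℕ) ∧
      ∀ J' : Finset ℕ, J' ⊂ J → ∀ y : ↥(D.group F), y⁻¹ * (x⁻¹ * g * x) * y ∉ PS D F (↑J' : Set ℕ) := by
  have hfull : g ∈ PS D F (↑(Finset.range D.rank) : Set ℕ) := by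
    have hle : D.group F ≤ D.parabolicSubgroup F (↑(Finset.range D.rank) : Set ℕ) := by
      rw [S.group_eq, Subgroup.closure_le]
      rintro z ⟨r, t, hr, rfl⟩
      rw [ChevalleyParabolicBN.sys_xg C S]
      exact root_mem_parabolic C (Or.inr ⟨hr, fun i hi hni => absurd (by simpa using hi) hni⟩) t
    exact Subgroup.mem_subgroupOf.2 (hle g.2)
  obtain ⟨J, hJmem, hJmin⟩ := Finset.exists_min_image
    ((Finset.range D.rank).powerset.filter fun J : Finset ℕ => ∃ x : ↥(D.group F), x⁻¹ * g * x ∈ PS D F (↑J : Set ℕ))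
    Finset.card ⟨Finset.range D.rank, Finset.mem_filter.2 ⟨Finset.mem_powerset_self _, 1, by simpa using hfull⟩⟩
  obtain ⟨hJr, x, hx⟩ := Finset.mem_filter.1 hJmem
  rw [Finset.mem_powerset] at hJr
  set g₁ := x⁻¹ * g * x with hg₁
  set J₀ : Set ℕ := (↑J : Set ℕ)
  set R := (D.unipotentRadical F J₀).subgroupOf (D.group F) with hR
  have hnorm : g₁ ∈ Subgroup.normalizer (R : Set ↥(D.group F)) := by
    rw [Subgroup.mem_normalizer_iff]
    intro u
    simp only [hR, Subgroup.mem_subgroupOf, Subgroup.coe_mul, Subgroup.coe_inv]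
    exact Subgroup.mem_normalizer_iff.1 (parabolic_le_normalizer C J₀ (Subgroup.mem_subgroupOf.1 hx)) _
  have hord : orderOf g₁ = orderOf g := by
    have h := (MulAut.conj x⁻¹).orderOf_eq g
    rw [MulAut.conj_apply, inv_inv] at h
    exact h
  obtain ⟨n, _, hq⟩ := FiniteField.card F p
  have hcop : Nat.Coprime (orderOf g₁) (Nat.card R) := by
    have hd : Nat.card R ∣ p ^ ((n : ℕ) * (D.nroots / 2)) := by
      rw [hR, Nat.card_congr (Subgroup.subgroupOfEquivOfLe
        (le_trans (radical_le_U C S J₀) S.U_le_group)).toEquiv, pow_mul, ← hq, ← ChevalleyUnipotent.card_U C]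
      exact Subgroup.card_dvd_of_le (radical_le_U C S J₀)
    refine Nat.Coprime.coprime_dvd_right hd (Nat.Coprime.pow_right _ ?_)
    rw [hord]
    exact ((Nat.Prime.coprime_iff_not_dvd Fact.out).2 hg').symm
  have h0 : (g₁ : GL D.Idx F) ∈ D.parabolicSubgroup F J₀ := Subgroup.mem_subgroupOf.1 hx
  rw [← radical_sup_levi C J₀, ← SetLike.mem_coe, sup_comm,
    Subgroup.coe_mul_of_left_le_normalizer_right _ _ (le_trans (le_trans le_sup_right
      (radical_sup_levi C J₀).le) (parabolic_le_normalizer C J₀))] at h0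
  obtain ⟨l, hl, r, hr, hlr⟩ := h0
  simp only at hlr
  have hlP : l ∈ D.parabolicSubgroup F J₀ := by rw [← radical_sup_levi C J₀]; exact Subgroup.mem_sup_right hl
  have hlG : l ∈ D.group F := ChevalleyParabolicBN.parabolic_le_group C S J₀ hlP
  let l' : ↥(D.group F) := ⟨l, hlG⟩
  have hh : l' * g₁⁻¹ ∈ R := by
    rw [hR, Subgroup.mem_subgroupOf]
    simp only [Subgroup.coe_mul, Subgroup.coe_inv, ← hlr, l', mul_inv_rev, ← mul_assoc]
    exact radical_normal C S hlP (inv_mem hr)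
  obtain ⟨z, hz, c, hc, hcg, he⟩ := OddCharGroup.coset_conj R g₁ hnorm hcop _ hh
  rw [inv_mul_cancel_right] at he
  obtain ⟨k, hk1, hk2⟩ := OddCharGroup.exists_exponent hcop
  have hpow : (c * g₁) ^ k = g₁ :=
    OddCharGroup.mul_pow_exponent hcg hk1 ((Subgroup.orderOf_dvd_natCard R hc).trans hk2)
  have he2 : z⁻¹ * g₁ * z = l' ^ k := by
    rw [← hpow, ← he, conj_pow]; group
  refine ⟨J, x * z, hJr, ?_, fun J' hJ' y hy => ?_⟩
  · rw [show (x * z)⁻¹ * g * (x * z) = z⁻¹ * g₁ * z by rw [hg₁]; group, he2, SubgroupClass.coe_pow]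
    exact pow_mem hl k
  · have h1 := hJmin J' (Finset.mem_filter.2 ⟨Finset.mem_powerset.2 (hJ'.subset.trans hJr), x * z * y, by
      convert hy using 1; group⟩)
    have := Finset.card_lt_card hJ'
    omega

/-- the congruence for a character of defect zero -/
theorem pow_dvd_value [Fintype F] (g : ↥(D.group F)) (m : ℤ) (hm : D.steinbergCharacter F g = (m : ℂ)) :
    (p : ℤ) ^ (Nat.card ↥(Subgroup.centralizer ({g} : Set ↥(D.group F)))).factorization p ∣ m := by
  haveI : Finite S.X.W := Finite.of_injective _ S.X.ρ_injective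
  letI : Fintype S.X.W := Fintype.ofFinite _
  obtain ⟨d, ρ, hρ, hst⟩ := ChevalleySteinbergChar.st_irr C S
  haveI := hρ
  set Cz := Subgroup.centralizer ({g} : Set ↥(D.group F))
  have hint := CharBasicInt.isIntegral_classSum ρ g
  have hd : (Module.finrank ℂ (Fin d → ℂ) : ℂ) = (Fintype.card F : ℂ) ^ (D.nroots / 2) := by
    rw [← ChevalleySteinbergChar.st_one C S, ← hst, Representation.char_one]
  rw [hd, hst, hm] at hint
  set r := Nat.card ↥(D.diagonalSubgroup F) * ∑ w : S.X.W, Fintype.card F ^ S.X.inv w with hr_def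
  have hp : p.Prime := Fact.out
  have hrp : ¬ p ∣ r := by
    rw [hr_def, hp.dvd_mul]
    push Not
    exact ⟨ChevalleySylow.prime_not_dvd_card_H C S p, ChevalleySylow.prime_not_dvd_sum C S p⟩
  have hG : Nat.card ↥Cz * Cz.index = Fintype.card F ^ (D.nroots / 2) * r := by
    rw [Subgroup.card_mul_index, ChevalleySylow.card_group_eq C S]
  set Q := Fintype.card F ^ (D.nroots / 2) with hQ
  have hQ0 : Q ≠ 0 := pow_ne_zero _ Fintype.card_ne_zero
  have h1 : ((Cz.index : ℂ) * (m : ℂ) / ((Fintype.card F : ℂ) ^ (D.nroots / 2))) =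
      algebraMap ℚ ℂ (((Cz.index : ℚ) * m) / (Q : ℚ)) := by
    simp [hQ]
  rw [h1, isIntegral_algebraMap_iff (algebraMap ℚ ℂ).injective] at hint
  obtain ⟨z, hz⟩ := IsIntegrallyClosed.isIntegral_iff.1 hint
  have hz' : (Cz.index : ℤ) * m = z * Q := by
    rw [show (algebraMap ℤ ℚ z) = (z : ℚ) from rfl, eq_div_iff (Nat.cast_ne_zero.2 hQ0)] at hz
    exact_mod_cast hz.symm
  set a := (Nat.card ↥Cz).factorization p
  have hdvd : (Nat.card ↥Cz : ℤ) ∣ (r : ℤ) * m := by
    refine ⟨z, mul_left_cancel₀ (Nat.cast_ne_zero.2 hQ0 : (Q : ℤ) ≠ 0) ?_⟩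
    have hG' : (Nat.card ↥Cz : ℤ) * Cz.index = (Q : ℤ) * r := by exact_mod_cast hG
    linear_combination (Nat.card ↥Cz : ℤ) * hz' - m * hG'
  have hpa : (p : ℤ) ^ a ∣ (r : ℤ) * m := by
    refine dvd_trans ?_ hdvd
    exact_mod_cast Nat.ordProj_dvd (Nat.card ↥Cz) p
  refine IsCoprime.dvd_of_dvd_mul_left ?_ hpa
  exact (Int.isCoprime_iff_nat_coprime.2 (by simpa using (Nat.Prime.coprime_iff_not_dvd hp).2 hrp)).pow_left

/-- Steinberg's formula -/
theorem st_semisimple [Fintype F] (g : ↥(D.group F)) (hg' : ¬ p ∣ orderOf g) :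
    D.steinbergCharacter F g = ((p ^ (Nat.card ↥(Subgroup.centralizer ({g} : Set ↥(D.group F)))).factorization p : ℕ) : ℂ) ∨
      D.steinbergCharacter F g = -((p ^ (Nat.card ↥(Subgroup.centralizer ({g} : Set ↥(D.group F)))).factorization p : ℕ) : ℂ) := by
  obtain ⟨J, x, hJ, hL, hmin⟩ := exists_levi C S p hg'
  set g₂ := x⁻¹ * g * x with hg₂
  have hcl : D.steinbergCharacter F g₂ = D.steinbergCharacter F g := by
    obtain ⟨d, ρ, -, hst⟩ := ChevalleySteinbergChar.st_irr C S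
    have := CharBasic.isClassFunction_character ρ g x⁻¹
    rw [inv_inv, hst] at this
    exact this
  have hC : Nat.card ↥(Subgroup.centralizer ({g₂} : Set ↥(D.group F))) =
      Nat.card ↥(Subgroup.centralizer ({g} : Set ↥(D.group F))) := by
    refine Nat.card_congr ((MulAut.conj x).toEquiv.subtypeEquiv fun y => ?_)
    show _ ↔ x * y * x⁻¹ ∈ Subgroup.centralizer _
    simp only [Subgroup.mem_centralizer_singleton_iff, hg₂]
    constructor <;> intro h
    · calc x * y * x⁻¹ * g = x * (y * (x⁻¹ * g * x)) * x⁻¹ := by group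
        _ = _ := by rw [h]; group
    · calc y * (x⁻¹ * g * x) = x⁻¹ * (x * y * x⁻¹ * g) * x := by group
        _ = _ := by rw [h]; group
  obtain ⟨e, he⟩ := st_levi C S hJ hL hmin
  set T := ((D.unipotentRadical F (↑J : Set ℕ)).subgroupOf (D.group F)) ⊓ Subgroup.centralizer ({g₂} : Set ↥(D.group F))
  have hp : p.Prime := Fact.out
  obtain ⟨n, _, hq⟩ := FiniteField.card F p
  obtain ⟨b, -, hb⟩ : ∃ b ≤ (n : ℕ) * (D.nroots / 2), Nat.card ↥T = p ^ b := by
    refine (Nat.dvd_prime_pow hp).1 ?_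
    rw [pow_mul, ← hq, ← ChevalleyUnipotent.card_U C]
    refine dvd_trans (Subgroup.card_dvd_of_le inf_le_left) ?_
    rw [Nat.card_congr (Subgroup.subgroupOfEquivOfLe
      (le_trans (radical_le_U C S (↑J : Set ℕ)) S.U_le_group)).toEquiv]
    exact Subgroup.card_dvd_of_le (radical_le_U C S _)
  set a := (Nat.card ↥(Subgroup.centralizer ({g₂} : Set ↥(D.group F)))).factorization p with ha
  have hba : b ≤ a := by
    rw [ha, ← hp.pow_dvd_iff_le_factorization Nat.card_pos.ne', ← hb]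
    exact Subgroup.card_dvd_of_le inf_le_right
  have hab : a ≤ b := by
    have hv := pow_dvd_value C S p g₂ ((-1) ^ e * (p : ℤ) ^ b) (by rw [he, hb]; push_cast; ring)
    rw [← ha, Int.dvd_natAbs.symm, Int.natAbs_mul, Int.natAbs_pow, Int.natAbs_pow, Int.natAbs_neg,
      Int.natAbs_one, one_pow, one_mul, Int.natAbs_natCast] at hv
    have hv' : p ^ a ∣ p ^ b := by exact_mod_cast hv
    exact (Nat.pow_dvd_pow_iff_le_right hp.one_lt).1 hv'
  obtain rfl : b = a := le_antisymm hba hab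
  rw [← hcl, he, hb, ← hC, ← ha]
  rcases neg_one_pow_eq_or ℂ e with h | h <;> simp [h]

end Cfsg.Agent.ChevalleyStValue
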