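import Cfsg.Agent.Lib.ChevalleyTorusInvolution
import Cfsg.Agent.Lib.ChevalleySemisimpleCount

/-!
Involutions of the torus of a Chevalley group over a finite field of odd order: fusion by the Weyl group and
the orders of the centralizers, from the Bruhat decomposition.
-/

set_option autoImplicit false
set_option linter.unusedSectionVars false
set_option linter.unusedSimpArgs false
set_option linter.unusedFintypeInType false

namespace Cfsg.Agent.ChevalleyTorusClasses

open Cfsg.Lie Cfsg.Agent.ChevalleyCert Cfsg.Agent.ChevBruhat Cfsg.Agent.ChevBruhat.Sys Cfsg.Agent.ChevWeyl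
  Cfsg.Agent.CoxeterTables
open scoped Classical

/-! ### computations on bit vectors -/

/-- the root `r` takes the value `-1` at the sign vector `b` -/
def oddAt (D : ChevalleyDatum) (b r : ℕ) : Bool :=
  decide (((List.range D.rank).map fun j => if b.testBit j then D.cartan j r else 0).sum % 2 ≠ 0)

/-- a fundamental reflection on sign vectors -/
def flip (D : ChevalleyDatum) (i b : ℕ) : ℕ := if oddAt D b (D.simple i) then b ^^^ 2 ^ i else b

/-- a word on sign vectors, the last letter acting first -/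
def flipW (D : ChevalleyDatum) (w : List ℕ) (b : ℕ) : ℕ := w.foldr (flip D) b

/-- the orbit listed by the words `O` -/
def orbit (D : ChevalleyDatum) (O : List (List ℕ)) (b : ℕ) : List ℕ := O.map fun w => flipW D w b

/-- the positive roots trivial at `b` made negative by the word `w` -/
def lenV (D : ChevalleyDatum) (P : List ℕ) (b : ℕ) (w : List ℕ) : ℕ :=
  ((List.range D.nroots).filter fun r => decide (D.nroots / 2 ≤ r) && !(oddAt D b r) &&
    decide (actWord P w r < D.nroots / 2)).length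

/-- the number of positive roots trivial at `b` -/
def numV (D : ChevalleyDatum) (b : ℕ) : ℕ :=
  ((List.range D.nroots).filter fun r => decide (D.nroots / 2 ≤ r) && !(oddAt D b r)).length

/-- data for a sign vector: a parabolic `J` fixing it, representatives `T`, words `O` listing its orbit -/
structure Data where
  b : ℕ
  J : List ℕ
  levels : List Level
  T : List (List ℕ)
  O : List (List ℕ)

/-- the checks on the data -/
def dataOK (D : ChevalleyDatum) (P : List ℕ) (chain : List Level) (d : Data) : Bool :=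
  decide (d.b < 2 ^ D.rank) && decide (d.b ≠ 0) &&
  d.O.all (fun w => w.all (fun i => decide (i < D.rank))) &&
  decide (orbit D d.O d.b).Nodup && decide (d.b ∈ orbit D d.O d.b) &&
  (orbit D d.O d.b).all (fun c => decide (c < 2 ^ D.rank) &&
    (List.range D.rank).all fun i => decide (flip D i c ∈ orbit D d.O d.b)) &&
  d.T.all (fun w => w.all (fun i => decide (i < D.rank)) && decide (flipW D w d.b = d.b) &&
    d.J.all fun j => decide (D.nroots / 2 ≤ actWord P w (D.simple j))) &&
  decide (d.T.map fun w => (List.range D.rank).map fun k => actWord P w (D.simple k)).Nodup &&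
  d.J.all (fun j => decide (j < D.rank)) &&
  (List.range D.nroots).all (fun r => !(suppIn D d.J r) || !(oddAt D d.b r)) &&
  decide (d.T.length * (d.levels.map Level.size).prod * d.O.length = (chain.map Level.size).prod)

/-- the sign vector as torus coordinates -/
def cvec (F : Type*) [Field F] (D : ChevalleyDatum) (b : ℕ) : Fin D.rank → Fˣ :=
  fun i => if b.testBit i then -1 else 1

/-- evaluation of the length generating functions -/
theorem gen_eval {D : ChevalleyDatum} {P : List ℕ} {d : Data} (q n : ℕ) {l : List ℕ} {ls : List (List ℕ)}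
    (hT : d.T.map (lenV D P d.b) = l) (hn : numV D d.b = n)
    (hL : (d.levels.map fun L => (List.range L.size).map fun v => (L.word v).length) = ls) :
    q ^ numV D d.b * ((d.T.map fun w => q ^ lenV D P d.b w).sum *
      (d.levels.map fun L => ∑ v ∈ Finset.range L.size, q ^ (L.word v).length).prod) =
      q ^ n * ((l.map (q ^ ·)).sum * (ls.map fun l => (l.map (q ^ ·)).sum).prod) := by
  subst hT hn hL
  simp only [List.map_map, Function.comp_def]
  rfl

variable {D : ChevalleyDatum} {F : Type*} [Field F] [Fintype F] (C : Cert D) (S : ChevBruhat.Sys D F)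

local notation "N₀" => D.monomialSubgroup F
local notation "B₀" => D.borelSubgroup F

theorem tchar_cvec (b r : ℕ) :
    ChevalleyTorus.tchar D (cvec F D b) r = if oddAt D b r then (-1 : Fˣ) else 1 := by
  have hsum : ∀ s : Finset (Fin D.rank), ∏ i ∈ s, (cvec F D b i) ^ D.cartan i r =
      (-1 : Fˣ) ^ ∑ i ∈ s, (if b.testBit i then D.cartan i r else 0) := by
    intro s
    induction s using Finset.induction_on with
    | empty => simp
    | @insert i s hi ih =>
      rw [Finset.prod_insert hi, Finset.sum_insert hi, zpow_add, ih, cvec]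
      by_cases h : b.testBit i <;> simp [h]
  rw [ChevalleyTorus.tchar, hsum]
  have he : (∑ i : Fin D.rank, if b.testBit i then D.cartan i r else 0) =
      ((List.range D.rank).map fun j => if b.testBit j then D.cartan j r else 0).sum := by
    rw [← Finset.sum_range (fun j => if b.testBit j then D.cartan j r else (0 : ℤ))]
    rfl
  rw [he, oddAt]
  generalize ((List.range D.rank).map fun j => if b.testBit j then D.cartan j r else 0).sum = n
  by_cases hn : n % 2 ≠ 0
  · rw [if_pos (by simpa using hn), Odd.neg_one_zpow (Int.odd_iff.2 (by omega))]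
  · rw [if_neg (by simpa using hn), Even.neg_one_zpow (Int.even_iff.2 (by omega))]

theorem neg_one_ne_one (hq : Odd (Fintype.card F)) : (-1 : F) ≠ 1 := by
  intro h
  have h2 : ringChar F = 2 := by
    refine ringChar.eq_iff.2 (CharTwo.of_one_ne_zero_of_two_eq_zero one_ne_zero ?_)
    linear_combination -h
  have := FiniteField.even_card_iff_char_two.1 h2
  have := Nat.odd_iff.1 hq
  omega

theorem cvec_inj (hq : Odd (Fintype.card F)) {b b' : ℕ} (hb : b < 2 ^ D.rank) (hb' : b' < 2 ^ D.rank)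
    (h : cvec F D b = cvec F D b') : b = b' := by
  refine Nat.eq_of_testBit_eq fun i => ?_
  by_cases hi : i < D.rank
  · have h1 := congrFun h ⟨i, hi⟩
    simp only [cvec] at h1
    have hne : (-1 : Fˣ) ≠ 1 := fun e => neg_one_ne_one hq (by simpa using congrArg Units.val e)
    cases hx : b.testBit i <;> cases hy : b'.testBit i <;> simp [hx, hy, hne, hne.symm] at h1 ⊢
  · have hle : 2 ^ D.rank ≤ 2 ^ i := Nat.pow_le_pow_right (by norm_num) (by omega)
    rw [Nat.testBit_lt_two_pow (by omega), Nat.testBit_lt_two_pow (by omega)]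

theorem cvec_flip (i : Fin D.rank) (b : ℕ) :
    cvec F D b * Pi.mulSingle i (ChevalleyTorus.tchar D (cvec F D b) (D.simple i))⁻¹ =
      cvec F D (flip D i b) := by
  rw [tchar_cvec, flip]
  funext j
  by_cases h : oddAt D b (D.simple i) = true
  · rw [if_pos h, if_pos h, Pi.mul_apply]
    simp only [cvec, Nat.testBit_xor, Nat.testBit_two_pow]
    by_cases hj : j = i
    · subst hj
      rw [Pi.mulSingle_eq_same]
      cases b.testBit j.val <;> simp
    · rw [Pi.mulSingle_eq_of_ne hj, mul_one]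
      have hne : ¬ i.val = j.val := fun h => hj (Fin.ext h.symm)
      cases hb : b.testBit j.val <;> simp [hne]
  · rw [if_neg h, if_neg h]; simp

/-- an involutory torus element is a sign vector -/
theorem exists_cvec {c : Fin D.rank → Fˣ} (h : c * c = 1) : ∃ b, b < 2 ^ D.rank ∧ cvec F D b = c := by
  let s : Finset ℕ := ((Finset.univ : Finset (Fin D.rank)).filter fun i => c i = -1).image Fin.val
  refine ⟨∑ i ∈ s, 2 ^ i, ?_, funext fun i => ?_⟩
  · exact Nat.geomSum_lt le_rfl fun k hk => by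
      obtain ⟨i, -, rfl⟩ := Finset.mem_image.1 hk
      exact i.isLt
  · have hbit : (∑ k ∈ s, 2 ^ k).testBit i = true ↔ i.val ∈ s := by
      rw [← Nat.mem_bitIndices, ← List.mem_toFinset, Finset.toFinset_bitIndices_sum_two_pow]
    have hs : i.val ∈ s ↔ c i = -1 := by
      simp only [s, Finset.mem_image, Finset.mem_filter, Finset.mem_univ, true_and]
      exact ⟨fun ⟨j, hj, e⟩ => Fin.ext e ▸ hj, fun hj => ⟨i, hj, rfl⟩⟩
    simp only [cvec]
    by_cases hc : c i = -1
    · rw [if_pos (hbit.2 (hs.2 hc)), hc]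
    · rw [if_neg (fun h' => hc (hs.1 (hbit.1 h')))]
      rcases mul_self_eq_one_iff.1 (show ((c i : F)) * c i = 1 by
        simpa using congrArg Units.val (congrFun h i)) with h1 | h1
      · exact (Units.ext h1).symm
      · exact absurd (Units.ext (by simpa using h1)) hc

include C S

theorem sgn_mem (b : ℕ) : ChevalleyTorus.torus D (cvec F D b) ∈ D.diagonalSubgroup F :=
  ChevalleyTorus.torus_mem_H C _

theorem sgn_sq (b : ℕ) : ChevalleyTorus.torus D (cvec F D b) * ChevalleyTorus.torus D (cvec F D b) = 1 := by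
  have h : cvec F D b * cvec F D b = 1 := funext fun i => by
    simp only [cvec, Pi.mul_apply, Pi.one_apply]; split <;> simp
  rw [← map_mul, h, map_one]

theorem sN_conj_sgn (i : Fin D.rank) (b : ℕ) :
    (S.sN i : GL D.Idx F) * ChevalleyTorus.torus D (cvec F D b) * (S.sN i : GL D.Idx F)⁻¹ =
      ChevalleyTorus.torus D (cvec F D (flip D i b)) := by
  show S.nn (D.simple i) 1 * _ * (S.nn (D.simple i) 1)⁻¹ = _
  rw [ChevalleyTorusInvolution.nn_conj_torus C S, cvec_flip]

theorem conj_eq_of_toW {n m : ↥N₀} (h : S.toW n = S.toW m) {x : GL D.Idx F} (hx : x ∈ D.diagonalSubgroup F) :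
    (n : GL D.Idx F) * x * (n : GL D.Idx F)⁻¹ = m * x * (m : GL D.Idx F)⁻¹ := by
  have hk : (m : GL D.Idx F)⁻¹ * n ∈ D.diagonalSubgroup F :=
    S.toW_ker.le (show S.toW (m⁻¹ * n) = 1 by rw [map_mul, map_inv, h, inv_mul_cancel])
  have hc := ChevalleyTorus.H_comm C hk hx
  calc (n : GL D.Idx F) * x * (n : GL D.Idx F)⁻¹
      = (m : GL D.Idx F) * (((m : GL D.Idx F)⁻¹ * n) * x) * ((m : GL D.Idx F)⁻¹ * n)⁻¹ * (m : GL D.Idx F)⁻¹ := by
        group
    _ = _ := by rw [hc]; group

theorem word_conj_sgn (w : List ℕ) (hw : ∀ i ∈ w, i < D.rank) (b : ℕ) :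
    ∃ n : ↥N₀, S.toW n = wprod (gen S.X.C) w ∧
      (n : GL D.Idx F) * ChevalleyTorus.torus D (cvec F D b) * (n : GL D.Idx F)⁻¹ =
        ChevalleyTorus.torus D (cvec F D (flipW D w b)) := by
  induction w with
  | nil => exact ⟨1, by simp, by simp [flipW]⟩
  | cons i w ih =>
    obtain ⟨n, hn, e⟩ := ih fun j hj => hw j (List.mem_cons_of_mem _ hj)
    have hi := hw i List.mem_cons_self
    refine ⟨S.sN ⟨i, hi⟩ * n, by rw [map_mul, S.toW_sN, hn, wprod_cons]; simp [gen, hi], ?_⟩
    have h := sN_conj_sgn C S ⟨i, hi⟩ (flipW D w b)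
    rw [← e] at h
    rw [show flipW D (i :: w) b = flip D i (flipW D w b) from rfl, ← h, Subgroup.coe_mul]
    group

/-- the stabiliser of a torus element in the Weyl group -/
noncomputable def stab (x : GL D.Idx F) : Subgroup S.X.W :=
  ((Subgroup.centralizer {x}).subgroupOf N₀).map S.toW

theorem mem_stab {x : GL D.Idx F} (hx : x ∈ D.diagonalSubgroup F) (n : ↥N₀) :
    S.toW n ∈ stab S x ↔ (n : GL D.Idx F) * x * (n : GL D.Idx F)⁻¹ = x := by
  constructor
  · rintro ⟨m, hm, e⟩
    rw [conj_eq_of_toW C S e.symm hx]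
    rw [SetLike.mem_coe, Subgroup.mem_subgroupOf, Subgroup.mem_centralizer_iff] at hm
    rw [← hm x rfl, mul_inv_cancel_right]
  · intro h
    refine ⟨n, ?_, rfl⟩
    rw [SetLike.mem_coe, Subgroup.mem_subgroupOf, Subgroup.mem_centralizer_iff]
    rintro y rfl
    exact (mul_inv_eq_iff_eq_mul.1 h).symm

/-- the positive roots trivial at `b` made negative by `w` -/
noncomputable def evSet (b : ℕ) (w : S.X.W) : Finset ℕ := (S.X.invSet w).filter fun r => oddAt D b r = false

theorem conj_sgn_xg {r : ℕ} (hr : r < D.nroots) (b : ℕ) (a : F) :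
    ChevalleyTorus.torus D (cvec F D b) * S.xg r a * (ChevalleyTorus.torus D (cvec F D b))⁻¹ =
      S.xg r ((if oddAt D b r then -1 else 1) * a) := by
  rw [ChevalleyParabolicBN.sys_xg C S, ChevalleyParabolicBN.sys_xg C S, ChevalleyTorus.torus_conj_xg C hr,
    tchar_cvec]
  by_cases h : oddAt D b r = true <;> simp [h]

theorem conj_sgn_Uw {b : ℕ} {w : S.X.W} {u : GL D.Idx F} (hu : u ∈ S.Uw w) :
    ChevalleyTorus.torus D (cvec F D b) * u * (ChevalleyTorus.torus D (cvec F D b))⁻¹ ∈ S.Uw w := by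
  refine conj_closure_le (T := {g : GL D.Idx F | ∃ r t, r ∈ S.X.invSet w ∧ g = S.xg r t}) _ ?_ hu
  rintro x ⟨r, t, hr, rfl⟩
  rw [conj_sgn_xg C S (S.X.mem_invSet.1 hr).1.1]
  exact Subgroup.subset_closure ⟨r, _, hr, rfl⟩

theorem card_Uw_centralizer (hq : Odd (Fintype.card F)) (b : ℕ) (w : S.X.W) :
    Nat.card {u : GL D.Idx F // u ∈ S.Uw w ∧
      ChevalleyTorus.torus D (cvec F D b) * u * (ChevalleyTorus.torus D (cvec F D b))⁻¹ = u} =
      Fintype.card F ^ (evSet S b w).card := by
  suffices h : ∀ k, ∀ w : S.X.W, S.X.inv w = k → Nat.card {u : GL D.Idx F // u ∈ S.Uw w ∧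
      ChevalleyTorus.torus D (cvec F D b) * u * (ChevalleyTorus.torus D (cvec F D b))⁻¹ = u} =
      Fintype.card F ^ (evSet S b w).card from h _ w rfl
  intro k
  induction k with
  | zero =>
    intro w hw
    have hset : S.X.invSet w = ∅ := Finset.card_eq_zero.1 hw
    have hU : S.Uw w = ⊥ := by
      rw [Uw, Subgroup.closure_eq_bot_iff]
      rintro g ⟨r, t, hr, -⟩
      simp [hset] at hr
    rw [evSet, hset, Finset.filter_empty, Finset.card_empty, pow_zero, Nat.card_eq_one_iff_unique]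
    refine ⟨⟨fun u v => Subtype.ext ?_⟩, ⟨⟨1, one_mem _, by simp⟩⟩⟩
    have e : ∀ z ∈ S.Uw w, z = 1 := fun z hz => by rwa [hU, Subgroup.mem_bot] at hz
    rw [e _ u.2.1, e _ v.2.1]
  | succ k ih =>
    intro w hw
    have h1 : w ≠ 1 := by
      rintro rfl
      rw [S.X.inv_eq_zero_iff.mpr rfl] at hw
      omega
    obtain ⟨i, hi⟩ := S.X.exists_descent h1
    obtain ⟨hinv, hpos, hmem, hsub⟩ := S.invSet_step i hi
    set w' := S.X.C.simple i * w with hw'
    set r := S.X.img w'⁻¹ (D.simple i) with hr_def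
    have hnot : r ∉ S.X.invSet w' := fun h => by
      have := (S.X.mem_invSet.1 h).2
      rw [hr_def, S.X.img_img_inv] at this
      exact S.X.not_pos_and_neg (S.X.simple_pos i.isLt) this
    have hset : S.X.invSet w = insert r (S.X.invSet w') := by
      refine (Finset.eq_of_subset_of_card_le (Finset.insert_subset hmem hsub) ?_).symm
      rw [Finset.card_insert_of_notMem hnot]
      show S.X.inv w ≤ S.X.inv w' + 1
      omega
    have hsub' : S.Uw w' ≤ S.Uw w := by
      refine Subgroup.closure_mono ?_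
      rintro g ⟨r, t, hr, rfl⟩
      exact ⟨r, t, hsub hr, rfl⟩
    let f : F × ↥(S.Uw w') → ↥(S.Uw w) := fun p =>
      ⟨S.xg r p.1 * p.2, mul_mem (Subgroup.subset_closure ⟨r, p.1, hmem, rfl⟩) (hsub' p.2.2)⟩
    have hfi : Function.Injective f := by
      rintro ⟨a, u⟩ ⟨a', u'⟩ he
      have he' : S.xg r a * (u : GL D.Idx F) = S.xg r a' * u' := congrArg Subtype.val he
      have h2 : S.xg r (a - a') ∈ S.Uw w' := by
        have : S.xg r (a - a') = (u' : GL D.Idx F) * (u : GL D.Idx F)⁻¹ := by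
          rw [eq_mul_inv_iff_mul_eq, sub_eq_add_neg, add_comm, S.xg_add, mul_assoc, he',
            ← mul_assoc, ← S.xg_add, neg_add_cancel, S.xg_zero, one_mul]
        rw [this]; exact mul_mem u'.2 (inv_mem u.2)
      obtain ⟨n', hn'⟩ := S.toW_surjective w'
      have h3 := S.conj_Uw_mem_V n' (hn'.symm ▸ h2)
      obtain ⟨c, hc, hcp, -⟩ := S.acts_toW n' r hpos.1
      rw [hcp, hn', hr_def, S.X.img_img_inv] at h3
      have h4 : S.xg (D.simple i) (c * (a - a')) = 1 := by
        have := Subgroup.mem_inf.mpr ⟨U_le_B (S.xg_mem_U (S.X.simple_pos i.isLt) _), h3⟩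
        rwa [S.B_inf_V, Subgroup.mem_bot] at this
      have h5 : a = a' :=
        sub_eq_zero.mp ((mul_eq_zero.mp (S.xg_eq_one (S.X.simple_lt i.isLt) h4)).resolve_left hc)
      subst h5
      rw [Subtype.ext (mul_left_cancel he')]
    have hf : Function.Bijective f := (Nat.bijective_iff_injective_and_card f).2 ⟨hfi, by
      rw [Nat.card_prod, S.card_Uw, S.card_Uw, show S.X.inv w = S.X.inv w' + 1 by omega, pow_succ, mul_comm]⟩
    set s := ChevalleyTorus.torus D (cvec F D b)
    set ε : F := if oddAt D b r then -1 else 1 with hε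
    have hfix : ∀ (a : F) (u : ↥(S.Uw w')), s * (f (a, u) : GL D.Idx F) * s⁻¹ = f (a, u) ↔
        (ε * a = a ∧ s * (u : GL D.Idx F) * s⁻¹ = u) := by
      intro a u
      have e : s * (f (a, u) : GL D.Idx F) * s⁻¹ =
          (f (ε * a, ⟨s * u * s⁻¹, conj_sgn_Uw C S u.2⟩) : GL D.Idx F) := by
        show s * (S.xg r a * u) * s⁻¹ = S.xg r (ε * a) * (s * u * s⁻¹)
        have h9 : s * S.xg r a * s⁻¹ = S.xg r (ε * a) := conj_sgn_xg C S hpos.1 b a
        rw [← h9]
        group
      rw [e, ← Subtype.ext_iff, hfi.eq_iff, Prod.ext_iff, Subtype.ext_iff]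
    let e : {a : F // ε * a = a} × {u : GL D.Idx F // u ∈ S.Uw w' ∧ s * u * s⁻¹ = u} →
        {u : GL D.Idx F // u ∈ S.Uw w ∧ s * u * s⁻¹ = u} := fun p =>
      ⟨f (p.1.1, ⟨p.2.1, p.2.2.1⟩), (f (p.1.1, ⟨p.2.1, p.2.2.1⟩)).2, (hfix _ _).2 ⟨p.1.2, p.2.2.2⟩⟩
    have he : Function.Bijective e := by
      constructor
      · rintro ⟨⟨a, ha⟩, ⟨u, hu⟩⟩ ⟨⟨a', ha'⟩, ⟨u', hu'⟩⟩ h
        have h0 : (f (a, ⟨u, hu.1⟩) : GL D.Idx F) = f (a', ⟨u', hu'.1⟩) :=
          congrArg (fun z : {u : GL D.Idx F // u ∈ S.Uw w ∧ s * u * s⁻¹ = u} => z.1) h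
        have h' := hfi (Subtype.ext h0)
        simp only [Prod.ext_iff, Subtype.ext_iff] at h'
        obtain ⟨rfl, rfl⟩ := h'
        rfl
      · rintro ⟨x, hx, hxf⟩
        obtain ⟨⟨a, u⟩, hau⟩ := hf.2 ⟨x, hx⟩
        have hx' : (f (a, u) : GL D.Idx F) = x := congrArg Subtype.val hau
        obtain ⟨h1, h2⟩ := (hfix a u).1 (by rw [hx']; exact hxf)
        exact ⟨(⟨a, h1⟩, ⟨u.1, u.2, h2⟩), Subtype.ext hx'⟩
    rw [← Nat.card_eq_of_bijective e he, Nat.card_prod, ih w' (by omega), evSet, evSet, hset,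
      Finset.filter_insert]
    by_cases hodd : oddAt D b r = true
    · rw [if_neg (by simp [hodd])]
      have : Unique {a : F // ε * a = a} := ⟨⟨⟨0, by simp⟩⟩, fun a => Subtype.ext (by
        by_contra hne
        exact neg_one_ne_one hq ((mul_eq_right₀ hne).1 (by simpa [hε, hodd] using a.2)))⟩
      rw [Nat.card_unique, one_mul]
    · rw [Bool.not_eq_true] at hodd
      rw [if_pos hodd, Finset.card_insert_of_notMem (fun h => hnot (Finset.mem_filter.1 h).1), pow_succ']
      congr 1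
      rw [show ε = 1 by simp [hε, hodd], ← Nat.card_eq_fintype_card]
      exact Nat.card_congr (Equiv.subtypeUnivEquiv fun a => one_mul a)

/-- conjugate torus elements are conjugate by the monomial subgroup -/
theorem form_conj {x y : GL D.Idx F} (hx : x ∈ D.diagonalSubgroup F) (hy : y ∈ D.diagonalSubgroup F)
    {b u : GL D.Idx F} {n : ↥N₀} (hb : b ∈ B₀) (hu : u ∈ S.Uw (S.toW n))
    (h : b * n * u * x = y * (b * n * u)) :
    (n : GL D.Idx F) * x * (n : GL D.Idx F)⁻¹ = y ∧ b * y = y * b ∧ x * u = u * x := by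
  have hu' : x⁻¹ * u * x ∈ S.Uw (S.toW n) := by
    have := conj_closure_le (T := {g : GL D.Idx F | ∃ r t, r ∈ S.X.invSet (S.toW n) ∧ g = S.xg r t})
      (K := S.Uw (S.toW n)) x⁻¹ (fun z hz => by
        obtain ⟨r, t, hr, rfl⟩ := hz
        obtain ⟨c, -, h1, -⟩ := S.acts_H (inv_mem hx) r (S.X.mem_invSet.1 hr).1.1
        rw [h1, S.X.img_one]
        exact Subgroup.subset_closure ⟨r, _, hr, rfl⟩) hu
    simpa using this
  have hbn : b * ((n : GL D.Idx F) * x * (n : GL D.Idx F)⁻¹) ∈ B₀ :=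
    mul_mem hb (H_le_B (S.conj_H (S.acts_toW n) hx))
  have e : b * ((n : GL D.Idx F) * x * (n : GL D.Idx F)⁻¹) * n * (x⁻¹ * u * x) = y * b * n * u := by
    calc b * ((n : GL D.Idx F) * x * (n : GL D.Idx F)⁻¹) * n * (x⁻¹ * u * x) = b * n * u * x := by group
      _ = y * b * n * u := by rw [h]; group
  obtain ⟨e1, e2⟩ := S.form_unique n hbn (mul_mem (H_le_B hy) hb) hu' hu e
  obtain ⟨v, hv, k, hk, rfl⟩ := (ChevalleyTorus.mem_B_iff C).1 hb
  set z := (n : GL D.Idx F) * x * (n : GL D.Idx F)⁻¹ with hz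
  have hzH : z ∈ D.diagonalSubgroup F := S.conj_H (S.acts_toW n) hx
  have e3 : z = v⁻¹ * y * v := by
    calc z = z * k * k⁻¹ := by group
      _ = k * z * k⁻¹ := by rw [ChevalleyTorus.H_comm C hzH hk]
      _ = v⁻¹ * (v * k * z) * k⁻¹ := by group
      _ = v⁻¹ * (y * (v * k)) * k⁻¹ := by rw [e1]
      _ = _ := by group
  have hzy : z = y := by
    have h1 : y⁻¹ * z ∈ D.posUnipotent F ⊓ D.diagonalSubgroup F := by
      refine Subgroup.mem_inf.2 ⟨?_, mul_mem (inv_mem hy) hzH⟩
      rw [e3, show y⁻¹ * (v⁻¹ * y * v) = (y⁻¹ * v⁻¹ * y) * v by group]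
      have h2 := S.H_conj_U (inv_mem hy) (inv_mem hv)
      rw [inv_inv] at h2
      exact mul_mem h2 hv
    rw [ChevalleyTorus.U_inf_H C, Subgroup.mem_bot] at h1
    exact (inv_mul_eq_one.1 h1).symm
  refine ⟨hzy, ?_, ?_⟩
  · rw [← e1, hzy]
  · calc x * u = x * (x⁻¹ * u * x) := by rw [e2]
      _ = u * x := by group

/-- the order of the centralizer -/
theorem card_centralizer [Fintype S.X.W] (hq : Odd (Fintype.card F)) (hT : Function.Injective (ChevalleyTorus.torus D (F := F)))
    (b : ℕ) (hs : ChevalleyTorus.torus D (cvec F D b) ∈ D.group F) :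
    Nat.card ↥(Subgroup.centralizer ({⟨_, hs⟩} : Set ↥(D.group F))) =
      (Fintype.card F - 1) ^ D.rank * Fintype.card F ^ numV D b *
        ∑ w : ↥(stab S (ChevalleyTorus.torus D (cvec F D b))), Fintype.card F ^ (evSet S b w).card := by
  set s := ChevalleyTorus.torus D (cvec F D b) with hsdef
  have hsH : s ∈ D.diagonalSubgroup F := ChevalleyTorus.torus_mem_H C _
  obtain ⟨w0, hw0⟩ := S.exists_w0
  have hU : D.posUnipotent F = S.Uw w0 := le_antisymm
    ((Subgroup.closure_le _).mpr fun g ⟨r, t, hr, hg⟩ => Subgroup.subset_closure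
      ⟨r, t, S.X.mem_invSet.mpr ⟨hr, hw0 r hr⟩, S.eq_xg.mp hg⟩) (S.Uw_le_U w0)
  have hev0 : (evSet S b w0).card = numV D b := by
    rw [numV, ← List.toFinset_card_of_nodup (List.nodup_range.filter _)]
    congr 1
    ext r
    simp only [evSet, Finset.mem_filter, S.X.mem_invSet, List.mem_toFinset, List.mem_filter, List.mem_range,
      Bool.and_eq_true, decide_eq_true_eq, Bool.not_eq_true']
    exact ⟨fun h => ⟨h.1.1.1, (S.X.pos_iff_le h.1.1.1).1 h.1.1, h.2⟩,
      fun h => ⟨⟨(S.X.pos_iff_le h.1).2 h.2.1, hw0 r ((S.X.pos_iff_le h.1).2 h.2.1)⟩, h.2.2⟩⟩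
  choose rep hrep using S.toW_surjective
  let f : (Σ w : ↥(stab S s), (↥(D.diagonalSubgroup F) × {u : GL D.Idx F // u ∈ S.Uw w0 ∧ s * u * s⁻¹ = u}) ×
      {u : GL D.Idx F // u ∈ S.Uw (w : S.X.W) ∧ s * u * s⁻¹ = u}) →
      {g : ↥(D.group F) // g ∈ Subgroup.centralizer ({⟨s, hs⟩} : Set ↥(D.group F))} := fun p =>
    ⟨⟨(p.2.1.2.1 * p.2.1.1.1) * rep p.1.1 * p.2.2.1,
      mul_mem (mul_mem (mul_mem (S.U_le_group (S.Uw_le_U _ p.2.1.2.2.1)) (S.H_le_group p.2.1.1.2))
        (S.N_le_group (rep p.1.1).2)) (S.U_le_group (S.Uw_le_U _ p.2.2.2.1))⟩, by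
      rw [Subgroup.mem_centralizer_iff]
      rintro y rfl
      refine Subtype.ext ?_
      show s * _ = _ * s
      have h1 := mul_inv_eq_iff_eq_mul.1 p.2.1.2.2.2
      have h2 := ChevalleyTorus.H_comm C hsH p.2.1.1.2
      have h3 := mul_inv_eq_iff_eq_mul.1 ((mem_stab C S hsH (rep p.1.1)).1 (by rw [hrep]; exact p.1.2))
      have h4 := mul_inv_eq_iff_eq_mul.1 p.2.2.2.2
      exact ((((Commute.mul_right (show Commute s _ from h1) (show Commute s _ from h2))).mul_right
        (show Commute s _ from h3.symm)).mul_right (show Commute s _ from h4)).eq⟩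
  have hf : Function.Bijective f := by
    constructor
    · rintro ⟨⟨w, hw⟩, ⟨h, v, hv⟩, u, hu⟩ ⟨⟨w', hw'⟩, ⟨h', v', hv'⟩, u', hu'⟩ he
      have he' : v * (h : GL D.Idx F) * rep w * u = v' * (h' : GL D.Idx F) * rep w' * u' :=
        congrArg (fun g => g.1.1) he
      have hvU : v ∈ D.posUnipotent F := hU.symm ▸ hv.1
      have hvU' : v' ∈ D.posUnipotent F := hU.symm ▸ hv'.1
      have hB : v * (h : GL D.Idx F) ∈ B₀ := mul_mem (U_le_B hvU) (H_le_B h.2)
      have hB' : v' * (h' : GL D.Idx F) ∈ B₀ := mul_mem (U_le_B hvU') (H_le_B h'.2)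
      have hww := S.toW_unique hB hB' (U_le_B (S.Uw_le_U _ hu.1)) (U_le_B (S.Uw_le_U _ hu'.1)) he'
      rw [hrep, hrep] at hww
      subst hww
      obtain ⟨h1, rfl⟩ := S.form_unique (rep w) hB hB' (by rw [hrep]; exact hu.1) (by rw [hrep]; exact hu'.1) he'
      have h2 : v'⁻¹ * v ∈ D.posUnipotent F ⊓ D.diagonalSubgroup F := by
        refine Subgroup.mem_inf.2 ⟨mul_mem (inv_mem hvU') hvU, ?_⟩
        rw [show v'⁻¹ * v = (h' : GL D.Idx F) * (h : GL D.Idx F)⁻¹ by
          rw [eq_mul_inv_iff_mul_eq, mul_assoc, h1, inv_mul_cancel_left]]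
        exact mul_mem h'.2 (inv_mem h.2)
      rw [ChevalleyTorus.U_inf_H C, Subgroup.mem_bot, inv_mul_eq_one] at h2
      subst h2
      rw [Subtype.ext (mul_left_cancel h1)]
    · rintro ⟨⟨g, hg⟩, hc⟩
      rw [Subgroup.mem_centralizer_iff] at hc
      have hc' : g * s = s * g := (congrArg Subtype.val (hc _ rfl)).symm
      obtain ⟨b₀, hb₀, n, u, hu, rfl⟩ := S.exists_cell_form hg
      obtain ⟨hn, hbs, hus⟩ := form_conj C S hsH hsH hb₀ hu hc'
      have hst : S.toW n ∈ stab S s := (mem_stab C S hsH n).2 hn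
      have hh : (n : GL D.Idx F) * (rep (S.toW n) : GL D.Idx F)⁻¹ ∈ D.diagonalSubgroup F := by
        have : n * (rep (S.toW n))⁻¹ ∈ S.toW.ker := by simp [MonoidHom.mem_ker, hrep]
        exact S.toW_ker.le this
      obtain ⟨v, hv, k, hk, rfl⟩ := (ChevalleyTorus.mem_B_iff C).1 hb₀
      refine ⟨⟨⟨_, hst⟩, (⟨_, mul_mem hk hh⟩, ⟨v, hU ▸ hv, ?_⟩), ⟨u, hu, ?_⟩⟩, Subtype.ext (Subtype.ext ?_)⟩
      · have h2 := ChevalleyTorus.H_comm C hsH hk
        calc s * v * s⁻¹ = s * (v * k) * (s * k)⁻¹ * (s * k) * k⁻¹ * s⁻¹ := by group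
          _ = (v * k) * s * k⁻¹ * s⁻¹ := by rw [← hbs]; group
          _ = v * (k * s) * k⁻¹ * s⁻¹ := by group
          _ = v := by rw [← h2]; group
      · rw [hus, mul_inv_cancel_right]
      · show v * (k * ((n : GL D.Idx F) * (rep (S.toW n) : GL D.Idx F)⁻¹)) * rep (S.toW n) * u = _
        group
  show Nat.card {g : ↥(D.group F) // g ∈ Subgroup.centralizer ({⟨s, hs⟩} : Set ↥(D.group F))} = _
  have hH : Nat.card ↥(D.diagonalSubgroup F) = (Fintype.card F - 1) ^ D.rank := by
    rw [ChevalleyTorus.H_eq_range C, ← Nat.card_congr (MonoidHom.ofInjective hT).toEquiv, Nat.card_fun,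
      Nat.card_fin, Nat.card_eq_fintype_card, Fintype.card_units]
  rw [← Nat.card_eq_of_bijective f hf, Nat.card_sigma, Finset.mul_sum]
  refine Finset.sum_congr rfl fun w _ => ?_
  rw [Nat.card_prod, Nat.card_prod, card_Uw_centralizer C S hq, card_Uw_centralizer C S hq, hev0, hH]

/-! ### the stabiliser from the data -/

variable (d : Data)

theorem card_stab_le (hq : Odd (Fintype.card F)) (hT : Function.Injective (ChevalleyTorus.torus D (F := F)))
    (hd : dataOK D S.X.P S.X.chain d = true) :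
    Nat.card ↥(stab S (ChevalleyTorus.torus D (cvec F D d.b))) * d.O.length ≤ Nat.card S.X.W := by
  simp only [dataOK, Bool.and_eq_true, List.all_eq_true, decide_eq_true_eq] at hd
  obtain ⟨⟨⟨⟨⟨⟨⟨⟨⟨⟨-, -⟩, hO⟩, hnd⟩, -⟩, hlt⟩, -⟩, -⟩, -⟩, -⟩, -⟩ := hd
  set K := stab S (ChevalleyTorus.torus D (cvec F D d.b)) with hK
  rw [← K.index_mul_card, mul_comm K.index]
  refine Nat.mul_le_mul_left _ ?_
  let g : Fin d.O.length → S.X.W ⧸ K := fun k => QuotientGroup.mk (wprod (gen S.X.C) d.O[k])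
  have hg : Function.Injective g := by
    intro k k' he
    rw [QuotientGroup.eq] at he
    obtain ⟨n, hn, e⟩ := word_conj_sgn C S d.O[k] (hO _ (List.getElem_mem _)) d.b
    obtain ⟨n', hn', e'⟩ := word_conj_sgn C S d.O[k'] (hO _ (List.getElem_mem _)) d.b
    rw [← hn, ← hn', ← map_inv, ← map_mul, mem_stab C S (ChevalleyTorus.torus_mem_H C _)] at he
    have h2 : ChevalleyTorus.torus D (cvec F D (flipW D d.O[k'] d.b)) =
        ChevalleyTorus.torus D (cvec F D (flipW D d.O[k] d.b)) := by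
      rw [← e, ← e']
      conv_rhs => rw [← he]
      simp only [Subgroup.coe_mul, Subgroup.coe_inv]
      group
    have hm : ∀ k : Fin d.O.length, flipW D d.O[k] d.b ∈ orbit D d.O d.b := fun k =>
      List.mem_map.2 ⟨_, List.getElem_mem _, rfl⟩
    have h3 := cvec_inj hq (hlt _ (hm k')).1 (hlt _ (hm k)).1 (hT h2)
    apply Fin.ext
    refine (hnd.getElem_inj_iff (hi := by simp [orbit]) (hj := by simp [orbit])).1 ?_
    simpa [orbit] using h3.symm
  have := Nat.card_le_card_of_injective g hg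
  rwa [Nat.card_fin] at this

/-- the length generating function of the stabiliser -/
theorem stab_sum [Fintype S.X.W] (hq : Odd (Fintype.card F)) (hT : Function.Injective (ChevalleyTorus.torus D (F := F)))
    (hd : dataOK D S.X.P S.X.chain d = true) (hchain : chainOK (natMatrix S.X.C) S.X.P D.nroots d.J d.levels = true)
    (hlen : chainLenOK D S.X.P d.levels = true) (q : ℕ) :
    ∑ w : ↥(stab S (ChevalleyTorus.torus D (cvec F D d.b))), q ^ (evSet S d.b w).card =
      (d.T.map fun t => q ^ lenV D S.X.P d.b t).sum *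
        (d.levels.map fun L => ∑ v ∈ Finset.range L.size, q ^ (L.word v).length).prod := by
  have hbound := card_stab_le C S d hq hT hd
  simp only [dataOK, Bool.and_eq_true, List.all_eq_true, decide_eq_true_eq] at hd
  obtain ⟨⟨⟨⟨⟨⟨⟨⟨⟨⟨-, -⟩, -⟩, -⟩, -⟩, -⟩, hTw⟩, hTnd⟩, hJ⟩, heven⟩, hprod⟩ := hd
  set s := ChevalleyTorus.torus D (cvec F D d.b) with hsdef
  have hsH : s ∈ D.diagonalSubgroup F := ChevalleyTorus.torus_mem_H C _
  set K := stab S s with hK
  set P := S.X.par d.J with hP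
  have hevenP : ∀ r < D.nroots, suppIn D d.J r = true → oddAt D d.b r = false := fun r hr h => by
    have := heven r (List.mem_range.2 hr)
    simpa [h] using this
  have hPK : P ≤ K := by
    refine (Subgroup.closure_le _).2 ?_
    rintro _ ⟨j, hj, rfl⟩
    have hjr := hJ j hj
    rw [show gen S.X.C j = S.toW (S.sN ⟨j, hjr⟩) by rw [S.toW_sN]; simp [gen, hjr], SetLike.mem_coe,
      mem_stab C S hsH, sN_conj_sgn C S, flip, hevenP _ (S.X.simple_lt hjr) ?_]
    · rfl
    · rw [S.X.suppIn_iff (S.X.simple_lt hjr)]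
      intro k hk hkJ
      rw [S.X.cor_simple hjr hk, if_neg (fun h : k = j => hkJ (by rw [h]; exact hj))]
  let tw : Fin d.T.length → S.X.W := fun k => wprod (gen S.X.C) d.T[k]
  have htwK : ∀ k, tw k ∈ K := fun k => by
    obtain ⟨⟨hw, hfix⟩, -⟩ := hTw _ (List.getElem_mem k.isLt)
    obtain ⟨n, hn, e⟩ := word_conj_sgn C S d.T[k] hw d.b
    rw [show tw k = S.toW n from hn.symm, hK, mem_stab C S hsH]
    exact e.trans (by rw [show flipW D d.T[k] d.b = d.b from hfix])
  have htwimg : ∀ k {r : ℕ}, r < D.nroots → S.X.img (tw k) r = actWord S.X.P d.T[k] r := fun k r hr =>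
    S.X.img_wprod _ (hTw _ (List.getElem_mem k.isLt)).1.1 hr
  have htwJ : ∀ k, ∀ r, D.IsPosRoot r → suppIn D d.J r = true → D.IsPosRoot (S.X.img (tw k) r) := by
    intro k r hr hs
    refine S.X.pos_img_of_simples _ hr fun j hj hne => ?_
    have hjJ : j ∈ d.J := by
      by_contra hc
      exact hne ((S.X.suppIn_iff hr.1).1 hs j hj hc)
    have hlt := S.X.simple_lt hj
    rw [S.X.pos_iff_le (S.X.img_lt _ hlt), htwimg k hlt]
    exact (hTw _ (List.getElem_mem k.isLt)).2 j hjJ
  have htwJn : ∀ k, ∀ r, D.IsNegRoot r → suppIn D d.J r = true → D.IsNegRoot (S.X.img (tw k) r) := by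
    intro k r hr hs
    have hs' : suppIn D d.J (D.neg r) = true := by
      rw [S.X.suppIn_iff hr.1] at hs
      rw [S.X.suppIn_iff (S.X.root_facts hr.1).1]
      intro j hj hjs
      rw [(S.X.root_facts' hr.1 hj).1, hs j hj hjs, neg_zero]
    have := htwJ k _ ((S.X.pos_neg_iff hr.1).2 hr) hs'
    rw [S.X.img_neg _ hr.1] at this
    exact (S.X.pos_neg_iff (S.X.img_lt _ hr.1)).1 this
  have hsupp : ∀ x ∈ P, ∀ r < D.nroots, suppIn D d.J r = true → suppIn D d.J (S.X.img x r) = true := by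
    intro x hx r hr h
    rw [S.X.suppIn_iff hr] at h
    rw [S.X.suppIn_iff (S.X.img_lt x hr)]
    intro j hj hjs
    rw [S.X.cor_par_outside hJ hx hr j hj hjs, h j hj hjs]
  have hout : ∀ x ∈ P, ∀ r, D.IsPosRoot r → suppIn D d.J r = false →
      D.IsPosRoot (S.X.img x r) ∧ suppIn D d.J (S.X.img x r) = false := by
    intro x hx r hr h
    have hlt := S.X.img_lt x hr.1
    have hj : ∃ j < D.rank, j ∉ d.J ∧ cor D r j ≠ 0 := by
      by_contra hc
      push Not at hc
      rw [(S.X.suppIn_iff hr.1).2 hc] at h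
      exact Bool.noConfusion h
    obtain ⟨j, hj, hjs, hne⟩ := hj
    have hcj := S.X.cor_par_outside hJ hx hr.1 j hj hjs
    constructor
    · rcases S.X.pos_or_neg hlt with h | h
      · exact h
      · have := (S.X.neg_iff hlt).1 h j hj
        have := (S.X.pos_iff hr.1).1 hr j hj
        omega
    · by_contra hc
      simp only [Bool.not_eq_false] at hc
      exact hne (hcj ▸ (S.X.suppIn_iff hlt).1 hc j hj hjs)
  have hpar : ∀ (x : S.X.W) (n : ↥N₀), S.toW n = x → x ∈ K → ∀ r < D.nroots,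
      oddAt D d.b (S.X.img x r) = oddAt D d.b r := by
    intro x n hn hx r hr
    subst hn
    have hfix := (mem_stab C S hsH n).1 hx
    obtain ⟨c, hc, h1, -⟩ := S.acts_toW n r hr
    have hlt := S.X.img_lt (S.toW n) hr
    have h2 : s * S.xg (S.X.img (S.toW n) r) c * s⁻¹ =
        S.xg (S.X.img (S.toW n) r) (c * (if oddAt D d.b r then -1 else 1)) := by
      have e := congrArg (fun y => (n : GL D.Idx F) * y * (n : GL D.Idx F)⁻¹) (conj_sgn_xg C S hr d.b (1 : F))
      simp only [mul_one] at e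
      rw [h1, show (n : GL D.Idx F) * (s * S.xg r 1 * s⁻¹) * (n : GL D.Idx F)⁻¹ =
        ((n : GL D.Idx F) * s * (n : GL D.Idx F)⁻¹) * ((n : GL D.Idx F) * S.xg r 1 * (n : GL D.Idx F)⁻¹) *
          ((n : GL D.Idx F) * s * (n : GL D.Idx F)⁻¹)⁻¹ by group, hfix, h1, mul_one] at e
      exact e
    rw [hsdef, conj_sgn_xg C S hlt] at h2
    have hne := neg_one_ne_one hq
    have h3 : ((if oddAt D d.b (S.X.img (S.toW n) r) then (-1 : F) else 1)) * c =
        c * (if oddAt D d.b r then -1 else 1) := by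
      refine (S.xg_inj _ _ hlt hlt _ _ ?_ h2).2
      split <;> simp [hc]
    have h3' := mul_right_cancel₀ hc (h3.trans (mul_comm _ _))
    cases hA : oddAt D d.b (S.X.img (S.toW n) r) <;> cases hB : oddAt D d.b r <;>
      simp [hA, hB, hne, hne.symm] at h3' ⊢
  let f : Fin d.T.length × ↥P → ↥K := fun p => ⟨tw p.1 * p.2, mul_mem (htwK _) (hPK p.2.2)⟩
  have hfi : Function.Injective f := by
    rintro ⟨k, x⟩ ⟨k', x'⟩ he
    have he' : tw k * (x : S.X.W) = tw k' * x' := congrArg Subtype.val he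
    set z := (x' : S.X.W) * (x : S.X.W)⁻¹ with hz
    have hzP : z ∈ P := mul_mem x'.2 (inv_mem x.2)
    have htk : tw k = tw k' * z := by rw [hz, ← mul_assoc, ← he', mul_inv_cancel_right]
    have hz1 : z = 1 := by
      rw [← S.X.inv_eq_zero_iff, Weyl.inv, Finset.card_eq_zero, Finset.eq_empty_iff_forall_notMem]
      intro r hr
      rw [S.X.mem_invSet] at hr
      cases hsr : suppIn D d.J r
      · exact S.X.not_pos_and_neg (hout z hzP r hr.1 hsr).1 hr.2
      · have h1 := htwJ k r hr.1 hsr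
        rw [htk, S.X.img_mul] at h1
        exact S.X.not_pos_and_neg h1 (htwJn k' _ hr.2 (hsupp z hzP r hr.1.1 hsr))
    rw [hz1, mul_one] at htk
    obtain rfl : k = k' := by
      apply Fin.ext
      refine (hTnd.getElem_inj_iff (hi := by simp) (hj := by simp)).1 ?_
      simp only [List.getElem_map]
      refine List.map_congr_left fun j hj => ?_
      have hlt := S.X.simple_lt (List.mem_range.1 hj)
      have := htwimg k hlt
      rw [htk, htwimg k' hlt] at this
      exact this.symm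
    rw [Subtype.ext (mul_left_cancel he')]
  haveI : Fintype ↥P := Fintype.ofFinite _
  have hcardP : Nat.card ↥P = (d.levels.map Level.size).prod := by
    have := S.X.par_poincare d.J d.levels hchain hlen hJ 1
    simpa [Nat.card_eq_fintype_card] using this
  have hcardW : Nat.card S.X.W = (S.X.chain.map Level.size).prod := by
    haveI : Fintype S.X.W := Fintype.ofFinite _
    have := S.X.poincare 1
    simpa [Nat.card_eq_fintype_card] using this
  have hOpos : 0 < d.O.length := by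
    rcases Nat.eq_zero_or_pos d.O.length with h | h
    · rw [h, mul_zero] at hprod
      have := Nat.card_pos (α := S.X.W)
      rw [hcardW, ← hprod] at this
      exact absurd this (lt_irrefl 0)
    · exact h
  have hf : Function.Bijective f := by
    refine (Nat.bijective_iff_injective_and_card f).2 ⟨hfi, le_antisymm (Nat.card_le_card_of_injective f hfi) ?_⟩
    refine Nat.le_of_mul_le_mul_right ?_ hOpos
    rw [Nat.card_prod, Nat.card_fin, hcardP, hprod, ← hcardW]
    exact hbound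
  have hev : ∀ p, (evSet S d.b (f p : S.X.W)).card = lenV D S.X.P d.b d.T[p.1] + S.X.inv (p.2 : S.X.W) := by
    rintro ⟨k, x, hx⟩
    show (evSet S d.b (tw k * x)).card = _
    obtain ⟨nx, hnx⟩ := S.toW_surjective x
    rw [← Finset.card_filter_add_card_filter_not (fun r => suppIn D d.J r = true), add_comm]
    congr 1
    · rw [lenV, ← List.toFinset_card_of_nodup (List.nodup_range.filter _)]
      refine Finset.card_bij (fun r _ => S.X.img x r) ?_ (fun a _ b _ h => S.X.img_injective x h) ?_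
      · intro r hr
        simp only [evSet, Finset.mem_filter, S.X.mem_invSet, Bool.not_eq_true] at hr
        obtain ⟨⟨⟨h1, h2⟩, h3⟩, h4⟩ := hr
        obtain ⟨h5, -⟩ := hout x hx r h1 h4
        rw [S.X.img_mul] at h2
        simp only [List.mem_toFinset, List.mem_filter, List.mem_range, Bool.and_eq_true, decide_eq_true_eq,
          Bool.not_eq_true']
        refine ⟨h5.1, ⟨(S.X.pos_iff_le h5.1).1 h5, ?_⟩, ?_⟩
        · rw [hpar x nx hnx (hPK hx) r h1.1]; exact h3
        · rw [← htwimg k h5.1]; exact (S.X.neg_iff_lt h2.1).1 h2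
      · intro y hy
        simp only [List.mem_toFinset, List.mem_filter, List.mem_range, Bool.and_eq_true, decide_eq_true_eq,
          Bool.not_eq_true'] at hy
        obtain ⟨h1, ⟨h2, h3⟩, h4⟩ := hy
        have hy1 := (S.X.pos_iff_le h1).2 h2
        have hyn : D.IsNegRoot (S.X.img (tw k) y) := by
          rw [S.X.neg_iff_lt (S.X.img_lt _ h1), htwimg k h1]; exact h4
        have hys : suppIn D d.J y = false := by
          by_contra hc
          exact S.X.not_pos_and_neg (htwJ k y hy1 (by simpa using hc)) hyn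
        obtain ⟨h5, h6⟩ := hout x⁻¹ (inv_mem hx) y hy1 hys
        refine ⟨S.X.img x⁻¹ y, ?_, S.X.img_img_inv x y⟩
        simp only [evSet, Finset.mem_filter, S.X.mem_invSet, Bool.not_eq_true]
        refine ⟨⟨⟨h5, by rw [S.X.img_mul, S.X.img_img_inv]; exact hyn⟩, ?_⟩, h6⟩
        rw [← hpar x nx hnx (hPK hx) _ h5.1, S.X.img_img_inv]; exact h3
    · rw [Weyl.inv]
      congr 1
      ext r
      simp only [evSet, Finset.mem_filter, S.X.mem_invSet]
      constructor
      · rintro ⟨⟨⟨h1, h2⟩, -⟩, h4⟩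
        refine ⟨h1, ?_⟩
        rcases S.X.pos_or_neg (S.X.img_lt x h1.1) with h | h
        · have := htwJ k _ h (hsupp x hx r h1.1 h4)
          rw [← S.X.img_mul] at this
          exact absurd h2 (S.X.not_pos_and_neg this)
        · exact h
      · rintro ⟨h1, h2⟩
        have h4 : suppIn D d.J r = true := by
          cases hs : suppIn D d.J r
          · exact absurd h2 (S.X.not_pos_and_neg (hout x hx r h1 hs).1)
          · rfl
        refine ⟨⟨⟨h1, ?_⟩, hevenP r h1.1 h4⟩, h4⟩
        rw [S.X.img_mul]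
        exact htwJn k _ h2 (hsupp x hx r h1.1 h4)
  rw [← Fintype.sum_bijective f hf (fun p => q ^ (evSet S d.b (f p : S.X.W)).card)
    (fun w => q ^ (evSet S d.b (w : S.X.W)).card) (fun p => rfl), Fintype.sum_prod_type,
    ← S.X.par_poincare d.J d.levels hchain hlen hJ q, ← Fin.sum_univ_fun_getElem, Finset.sum_mul]
  refine Finset.sum_congr rfl fun k _ => ?_
  rw [Finset.mul_sum]
  refine Finset.sum_congr rfl fun x _ => ?_
  rw [hev, pow_add]
  rfl

/-- the two classes of involutions and their centralizers -/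
theorem classes (hq : Odd (Fintype.card F)) (hT : Function.Injective (ChevalleyTorus.torus D (F := F)))
    (hO : ChevalleyTorusInvolution.nodesOK D = true) (d₁ d₂ : Data)
    (h₁ : dataOK D S.X.P S.X.chain d₁ = true) (h₂ : dataOK D S.X.P S.X.chain d₂ = true)
    (hc₁ : chainOK (natMatrix S.X.C) S.X.P D.nroots d₁.J d₁.levels = true) (hl₁ : chainLenOK D S.X.P d₁.levels = true)
    (hc₂ : chainOK (natMatrix S.X.C) S.X.P D.nroots d₂.J d₂.levels = true) (hl₂ : chainLenOK D S.X.P d₂.levels = true)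
    (hcov : ∀ b < 2 ^ D.rank, b = 0 ∨ b ∈ orbit D d₁.O d₁.b ∨ b ∈ orbit D d₂.O d₂.b)
    (hdisj : d₂.b ∉ orbit D d₁.O d₁.b) :
    ∃ s t : ↥(D.group F), orderOf s = 2 ∧ orderOf t = 2 ∧ ¬ IsConj s t ∧
      (∀ u : ↥(D.group F), orderOf u = 2 → IsConj u s ∨ IsConj u t) ∧
      Nat.card ↥(Subgroup.centralizer ({s} : Set ↥(D.group F))) = (Fintype.card F - 1) ^ D.rank *
        Fintype.card F ^ numV D d₁.b * ((d₁.T.map fun w => Fintype.card F ^ lenV D S.X.P d₁.b w).sum *
          (d₁.levels.map fun L => ∑ v ∈ Finset.range L.size, Fintype.card F ^ (L.word v).length).prod) ∧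
      Nat.card ↥(Subgroup.centralizer ({t} : Set ↥(D.group F))) = (Fintype.card F - 1) ^ D.rank *
        Fintype.card F ^ numV D d₂.b * ((d₂.T.map fun w => Fintype.card F ^ lenV D S.X.P d₂.b w).sum *
          (d₂.levels.map fun L => ∑ v ∈ Finset.range L.size, Fintype.card F ^ (L.word v).length).prod) := by
  haveI : Fintype S.X.W := Fintype.ofFinite _
  have hG : ∀ b, ChevalleyTorus.torus D (cvec F D b) ∈ D.group F := fun b =>
    S.H_le_group (ChevalleyTorus.torus_mem_H C _)
  have horder : ∀ b, b < 2 ^ D.rank → b ≠ 0 → orderOf (⟨_, hG b⟩ : ↥(D.group F)) = 2 := by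
    intro b hb hb0
    refine orderOf_eq_prime (Subtype.ext (by simp [pow_two, sgn_sq C S])) fun h => hb0 ?_
    refine cvec_inj (F := F) hq hb (Nat.two_pow_pos _) (hT ?_)
    rw [show cvec F D 0 = 1 from funext fun i => by simp [cvec], map_one]
    exact congrArg Subtype.val h
  have h₁' := h₁
  have h₂' := h₂
  simp only [dataOK, Bool.and_eq_true, List.all_eq_true, decide_eq_true_eq] at h₁' h₂'
  obtain ⟨⟨⟨⟨⟨⟨⟨⟨⟨⟨hb₁, hn₁⟩, hO₁⟩, -⟩, hm₁⟩, hcl₁⟩, -⟩, -⟩, -⟩, -⟩, -⟩ := h₁'
  obtain ⟨⟨⟨⟨⟨⟨⟨⟨⟨⟨hb₂, hn₂⟩, hO₂⟩, -⟩, hm₂⟩, -⟩, -⟩, -⟩, -⟩, -⟩, -⟩ := h₂'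
  refine ⟨⟨_, hG d₁.b⟩, ⟨_, hG d₂.b⟩, horder _ hb₁ hn₁, horder _ hb₂ hn₂, ?_, ?_, ?_, ?_⟩
  · intro h
    obtain ⟨g, hg⟩ := isConj_iff.1 h
    have hg' : (g : GL D.Idx F) * ChevalleyTorus.torus D (cvec F D d₁.b) =
        ChevalleyTorus.torus D (cvec F D d₂.b) * g := by
      rw [← mul_inv_eq_iff_eq_mul]
      exact congrArg Subtype.val hg
    obtain ⟨b, hb, n, u, hu, e⟩ := S.exists_cell_form g.2
    rw [e] at hg'
    obtain ⟨hn, -, -⟩ := form_conj C S (sgn_mem C S _) (sgn_mem C S _) hb hu hg'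
    have key : ∀ w : S.X.W, ∀ n : ↥N₀, S.toW n = w → ∃ c ∈ orbit D d₁.O d₁.b,
        (n : GL D.Idx F) * ChevalleyTorus.torus D (cvec F D d₁.b) * (n : GL D.Idx F)⁻¹ =
          ChevalleyTorus.torus D (cvec F D c) := by
      intro w
      induction w using S.X.w_induction with
      | one =>
        intro n hn
        refine ⟨d₁.b, hm₁, ?_⟩
        rw [conj_eq_of_toW C S (m := 1) (by rw [hn, map_one]) (sgn_mem C S _)]
        simp
      | step i w ih =>
        intro n hn
        obtain ⟨c, hc, e⟩ := ih ((S.sN i)⁻¹ * n) (by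
          rw [map_mul, map_inv, S.toW_sN, hn, ← mul_assoc, inv_mul_cancel, one_mul])
        refine ⟨flip D i c, (hcl₁ c hc).2 i (List.mem_range.2 i.isLt), ?_⟩
        rw [← sN_conj_sgn C S i c, ← e]
        simp only [Subgroup.coe_mul, Subgroup.coe_inv]
        group
    obtain ⟨c, hc, e'⟩ := key _ n rfl
    exact hdisj (cvec_inj hq hb₂ (hcl₁ c hc).1 (hT (hn ▸ e')) ▸ hc)
  · intro u hu
    have h2 : (u : GL D.Idx F) * u = 1 := by
      have := pow_orderOf_eq_one u
      rw [hu, pow_two] at this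
      exact congrArg Subtype.val this
    obtain ⟨g, hg, hgu⟩ := ChevalleyTorusInvolution.exists_conj_torus C S hq hT hO u.2 h2
    obtain ⟨c, hc⟩ := (ChevalleyTorus.mem_H_iff C).1 hgu
    have hcc : c * c = 1 := hT (by
      rw [map_mul, map_one, hc]
      calc _ = g * ((u : GL D.Idx F) * u) * g⁻¹ := by group
        _ = 1 := by rw [h2]; group)
    obtain ⟨b, hb, rfl⟩ := exists_cvec hcc
    have hmain : ∀ (d : Data), (∀ w ∈ d.O, ∀ i ∈ w, i < D.rank) → b ∈ orbit D d.O d.b →
        IsConj u ⟨_, hG d.b⟩ := by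
      intro d hdO hbd
      obtain ⟨w, hw, rfl⟩ := List.mem_map.1 hbd
      obtain ⟨n, -, e⟩ := word_conj_sgn C S w (hdO w hw) d.b
      refine isConj_iff.2 ⟨⟨(n : GL D.Idx F)⁻¹ * g, mul_mem (inv_mem (S.N_le_group n.2)) hg⟩, Subtype.ext ?_⟩
      show (n : GL D.Idx F)⁻¹ * g * u * ((n : GL D.Idx F)⁻¹ * g)⁻¹ = _
      rw [show (n : GL D.Idx F)⁻¹ * g * u * ((n : GL D.Idx F)⁻¹ * g)⁻¹ =
        (n : GL D.Idx F)⁻¹ * (g * u * g⁻¹) * n by group, ← hc, ← e]
      group
    rcases hcov b hb with rfl | h | h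
    · exfalso
      have h1 : g * (u : GL D.Idx F) * g⁻¹ = 1 := by
        rw [← hc, show cvec F D 0 = 1 from funext fun i => by simp [cvec], map_one]
      have : u = 1 := Subtype.ext (by simpa using h1)
      simp [this] at hu
    · exact Or.inl (hmain d₁ hO₁ h)
    · exact Or.inr (hmain d₂ hO₂ h)
  · rw [card_centralizer C S hq hT, stab_sum C S d₁ hq hT h₁ hc₁ hl₁]
  · rw [card_centralizer C S hq hT, stab_sum C S d₂ hq hT h₂ hc₂ hl₂]

end Cfsg.Agent.ChevalleyTorusClasses
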