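import Cfsg.Agent.Lib.ChevalleyRelative
import Cfsg.Agent.Lib.ChevalleyRankOne
import Cfsg.Agent.Lib.ChevalleyTorusCard

/-!
An involution of a Chevalley group with simply connected torus, over a finite field of odd order, is conjugate
into the diagonal subgroup.
-/

set_option autoImplicit false
set_option linter.unusedSectionVars false
set_option linter.unusedSimpArgs false
set_option linter.unusedFintypeInType false

namespace Cfsg.Agent.ChevalleyTorusInvolution

open Cfsg.Lie Cfsg.Agent.ChevalleyCert Cfsg.Agent.ChevBruhat Cfsg.Agent.ChevBruhat.Sys Cfsg.Agent.ChevalleyCells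
open Cfsg.Agent.ChevalleyParabolic Cfsg.Agent.ChevalleyRelative
open scoped Classical

/-- two adjacent nodes have an odd Cartan integer, two others commute -/
def nodesOK (D : ChevalleyDatum) : Bool :=
  (List.range D.rank).all fun i => (List.range D.rank).all fun j => i == j ||
    if D.cartan i (D.simple j) = 0 then
      [(D.simple i, D.simple j), (D.simple i, D.neg (D.simple j)), (D.neg (D.simple i), D.simple j),
        (D.neg (D.simple i), D.neg (D.simple j))].all fun p =>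
          (D.commTerms p.1 p.2).isEmpty && p.2 != p.1 && p.2 != D.neg p.1
    else decide (D.cartan i (D.simple j) % 2 = 1 ∨ D.cartan j (D.simple i) % 2 = 1)

/-- an element of odd order inverted by an involution -/
theorem exists_conj_of_inverted {G : Type*} [Group G] [Finite G] {u m : G} (hu : Odd (orderOf u)) (hm : m * m = 1)
    (h : (u * m) * (u * m) = 1) : ∃ j : ℕ, (u ^ j)⁻¹ * (u * m) * u ^ j = m := by
  obtain ⟨k, hk⟩ := hu
  refine ⟨k + 1, ?_⟩
  have hm' : m⁻¹ = m := inv_eq_of_mul_eq_one_right hm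
  have hinv : m * u * m⁻¹ = u⁻¹ := by
    rw [hm']
    calc m * u * m = u⁻¹ * ((u * m) * (u * m)) := by group
      _ = u⁻¹ := by rw [h, mul_one]
  have h3 : m * u ^ (k + 1) * m⁻¹ = (u ^ (k + 1))⁻¹ := by
    rw [← conj_pow, hinv, inv_pow]
  have h2 : u ^ (k + 1) * u ^ (k + 1) = u := by
    rw [← pow_add, show k + 1 + (k + 1) = (2 * k + 1) + 1 by ring, pow_succ, ← hk, pow_orderOf_eq_one, one_mul]
  calc (u ^ (k + 1))⁻¹ * (u * m) * u ^ (k + 1)
      = (u ^ (k + 1))⁻¹ * u * (m * u ^ (k + 1) * m⁻¹) * m := by group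
    _ = (u ^ (k + 1))⁻¹ * (u * (u ^ (k + 1))⁻¹) * m := by rw [h3]; group
    _ = (u ^ (k + 1))⁻¹ * u ^ (k + 1) * m := by
      rw [show u * (u ^ (k + 1))⁻¹ = u ^ (k + 1) by rw [mul_inv_eq_iff_eq_mul, h2]]
    _ = m := by group

theorem odd_orderOf_of_mem {G : Type*} [Group G] {H : Subgroup G} (h : Odd (Nat.card H)) {u : G} (hu : u ∈ H) :
    Odd (orderOf u) :=
  h.of_dvd_nat (by
    rw [show orderOf u = orderOf (⟨u, hu⟩ : H) from (Subgroup.orderOf_mk u hu).symm]
    exact orderOf_dvd_natCard _)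

theorem isSquare_mul_of_not {F : Type*} [Field F] [Fintype F] {a b : F} (ha : ¬ IsSquare a) (hb : ¬ IsSquare b) :
    IsSquare (a * b) := by
  have h0 : a * b ≠ 0 := mul_ne_zero (fun h => ha (h ▸ IsSquare.zero)) (fun h => hb (h ▸ IsSquare.zero))
  rw [← quadraticChar_one_iff_isSquare h0, map_mul, quadraticChar_neg_one_iff_not_isSquare.2 ha,
    quadraticChar_neg_one_iff_not_isSquare.2 hb]
  ring

variable {D : ChevalleyDatum} {F : Type*} [Field F] [Fintype F] (C : Cert D) (S : ChevBruhat.Sys D F)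

local notation "N₀" => D.monomialSubgroup F
local notation "B₀" => D.borelSubgroup F

include C S

theorem xg_mem (r : ℕ) (t : F) : S.xg r t ∈ D.group F := by
  rw [ChevalleyParabolicBN.sys_xg C S]; exact ChevalleyCore.xg_mem_group C r t

theorem odd_card_U (hq : Odd (Fintype.card F)) : Odd (Nat.card ↥(D.posUnipotent F)) := by
  rw [ChevalleyUnipotent.card_U C]; exact hq.pow

theorem inv_simple_le (i : Fin D.rank) (w : S.X.W) : S.X.inv (S.X.C.simple i * w) ≤ S.X.inv w + 1 := by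
  rcases S.X.pos_or_neg (S.X.img_lt w⁻¹ (S.X.simple_lt i.isLt)) with h | h
  · rw [S.X.inv_simple_mul_of_pos i h]
  · have := S.X.inv_simple_mul_of_neg i h; omega

theorem inv_lt_lJ {K : Set ℕ} {a : S.X.W} (ha : a ∈ WJ S K) (hne : a ≠ lJ C S K) :
    S.X.inv a < S.X.inv (lJ C S K) := by
  refine Finset.card_lt_card ⟨fun r hr => ?_, fun hsub => hne ?_⟩
  · exact S.X.mem_invSet.2 ⟨(S.X.mem_invSet.1 hr).1,
      negOn_root C S (lJ_neg C S K) (S.X.mem_invSet.1 hr).1 (invSet_inRootSub C S ha hr)⟩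
  · refine negOn_unique C S ha (lJ_mem C S K) (fun i hi => ?_) (lJ_neg C S K)
    exact (S.X.mem_invSet.1 (hsub (S.X.mem_invSet.2 ⟨S.X.simple_pos i.isLt, lJ_neg C S K i hi⟩))).2

/-! ### the shortest cell of the conjugates -/

/-- a conjugate of an involution in a shortest cell sits in `N` over a longest element acting as `-1` -/
theorem shape (hq : Odd (Fintype.card F)) {t : GL D.Idx F} (ht : t ∈ D.group F) (h2 : t * t = 1) :
    ∃ (K : Set ℕ) (g : GL D.Idx F) (n : ↥N₀), g ∈ D.group F ∧ g * t * g⁻¹ = n ∧ S.toW n = lJ C S K ∧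
      (∀ i : Fin D.rank, i.val ∈ K → S.X.img (lJ C S K) (D.simple i) = D.neg (D.simple i)) ∧
      (∀ g' ∈ D.group F, ∀ w, InCell S (g' * t * g'⁻¹) w → S.X.inv (lJ C S K) ≤ S.X.inv w) := by
  haveI : Finite S.X.W := Finite.of_injective _ S.X.ρ_injective
  letI : Fintype S.X.W := Fintype.ofFinite _
  obtain ⟨w, hw, hmin⟩ := Finset.exists_min_image
    (Finset.univ.filter fun w : S.X.W => ∃ g ∈ D.group F, InCell S (g * t * g⁻¹) w) S.X.inv
    (by
      obtain ⟨w, hw⟩ := cell_exists C S ht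
      exact ⟨w, Finset.mem_filter.2 ⟨Finset.mem_univ _, 1, one_mem _, by simpa using hw⟩⟩)
  have hmin' : ∀ g' ∈ D.group F, ∀ v, InCell S (g' * t * g'⁻¹) v → S.X.inv w ≤ S.X.inv v :=
    fun g' hg' v hv => hmin v (Finset.mem_filter.2 ⟨Finset.mem_univ _, g', hg', hv⟩)
  obtain ⟨g, hgG, hgw⟩ := (Finset.mem_filter.1 hw).2
  set t' := g * t * g⁻¹ with ht'
  have h2' : t' * t' = 1 := by
    calc t' * t' = g * (t * t) * g⁻¹ := by rw [ht']; group
      _ = 1 := by rw [h2]; group
  have ht'G : t' ∈ D.group F := mul_mem (mul_mem hgG ht) (inv_mem hgG)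
  have hw2 : w⁻¹ = w := by
    have h := cell_inv C S hgw
    rw [inv_eq_of_mul_eq_one_right h2'] at h
    exact cell_unique C S h hgw
  -- every descent is reversed by `w`
  have hdes : ∀ i : Fin D.rank, D.IsNegRoot (S.X.img w (D.simple i)) →
      S.X.img w (D.simple i) = D.neg (D.simple i) := by
    intro i hi
    by_contra hne
    have hp := S.X.simple_pos i.isLt
    have hi' : D.IsNegRoot (S.X.img w⁻¹ (D.simple i)) := by rwa [hw2]
    have h1 := S.X.inv_simple_mul_of_neg i hi'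
    obtain ⟨b, hb, n, hn, b', hb', e⟩ := hgw
    set N := S.nn (D.simple i) (1 : F) with hN
    have hNG : N ∈ D.group F := S.nn_mem_group hp.1 1
    set s := S.X.C.simple i
    have hs : s⁻¹ = s := inv_eq_of_mul_eq_one_right (simple_mul_self C S i)
    have hsw : InCell S (b'⁻¹ * ((n : GL D.Idx F)⁻¹) * (S.sN i : GL D.Idx F)⁻¹ * 1) (s * w)⁻¹ := by
      refine ⟨b'⁻¹, inv_mem hb', (S.sN i * n)⁻¹, by rw [map_inv, map_mul, S.toW_sN, hn], 1, one_mem _, ?_⟩
      simp [mul_assoc]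
    rw [mul_one] at hsw
    -- multiply on the left by `n_i`
    have hsw2 := cell_mul_left C S (b := b'⁻¹⁻¹) (by rw [inv_inv]; exact hb') hsw
    have key : N * (b' * b) * ((n : GL D.Idx F) * N⁻¹) = N * b' * t' * (N * b')⁻¹ := by
      rw [e]; group
    have hG2 : N * b' * g ∈ D.group F := mul_mem (mul_mem hNG (S.B_le_group hb')) hgG
    have hc1 : InCell S ((b' * b) * ((n : GL D.Idx F) * N⁻¹)) (w * s) := by
      refine ⟨b' * b, mul_mem hb' hb, n * (S.sN i)⁻¹, by rw [map_mul, map_inv, S.toW_sN, hn, hs], 1, one_mem _, ?_⟩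
      simp [hN, ChevBruhat.Sys.sN, mul_assoc]
    have hlen : S.X.inv (w * s) + 1 = S.X.inv w := by
      rw [← inv_inv_eq C S, mul_inv_rev, hs, hw2]
      exact h1
    have hfin : ∀ v, InCell S (N * ((b' * b) * ((n : GL D.Idx F) * N⁻¹))) v → S.X.inv w ≤ S.X.inv v := by
      intro v hv
      refine hmin' _ hG2 v ?_
      rw [show N * b' * g * t * (N * b' * g)⁻¹ = N * b' * t' * (N * b')⁻¹ by rw [ht']; group, ← key]
      rwa [mul_assoc N]
    rcases cell_rule C S i hc1 with h | h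
    · have := hfin _ h
      have h3 : D.IsNegRoot (S.X.img (w * s)⁻¹ (D.simple i)) := by
        rw [mul_inv_rev, hs, hw2, S.X.img_mul, S.X.img_simple i hi.1, S.X.neg_reflect i.isLt hi.1]
        exact Or.inl ⟨hi, hne⟩
      have := S.X.inv_simple_mul_of_neg i h3
      omega
    · have := hfin _ h
      omega
  set K : Set ℕ := {m | ∃ i : Fin D.rank, i.val = m ∧ D.IsNegRoot (S.X.img w (D.simple i))} with hK
  have hKi : ∀ i : Fin D.rank, i.val ∈ K ↔ D.IsNegRoot (S.X.img w (D.simple i)) := fun i =>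
    ⟨fun ⟨j, hj, h⟩ => by rwa [Fin.ext hj] at h, fun h => ⟨i, rfl, h⟩⟩
  have hneg : ∀ r, r < D.nroots → D.InRootSub K r → ∀ j < D.rank,
      ChevWeyl.cor D (S.X.img w r) j = - ChevWeyl.cor D r j := by
    intro r hr hin j hj
    rw [S.X.cor_img w hr j hj, Finset.sum_eq_single j]
    · by_cases hjK : j ∈ K
      · rw [hdes ⟨j, hj⟩ ((hKi ⟨j, hj⟩).1 hjK), (S.X.root_facts' (S.X.simple_lt hj) hj).1,
          S.X.cor_simple hj hj, if_pos rfl]
        ring
      · rw [show ChevWeyl.cor D r j = 0 from hin.2 j hj hjK]; ring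
    · intro k hk hkj
      have hk' := Finset.mem_range.mp hk
      by_cases hkK : k ∈ K
      · rw [hdes ⟨k, hk'⟩ ((hKi ⟨k, hk'⟩).1 hkK), (S.X.root_facts' (S.X.simple_lt hk') hj).1,
          S.X.cor_simple hk' hj, if_neg (Ne.symm hkj)]
        simp
      · rw [show ChevWeyl.cor D r k = 0 from hin.2 k hk' hkK, zero_mul]
    · simp [hj]
  have hwl : w = lJ C S K := by
    refine mul_inv_eq_one.1 (S.X.inv_eq_zero_iff.1 ?_)
    rw [lJ_inv C S K]
    by_contra h0
    obtain ⟨i, hi⟩ := S.X.exists_descent (w := (w * lJ C S K)⁻¹)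
      (fun h => h0 (by rw [inv_eq_one] at h; rw [h, S.X.inv_eq_zero_iff.2 rfl]))
    rw [inv_inv, S.X.img_mul] at hi
    have hp := S.X.simple_pos i.isLt
    by_cases hiK : i.val ∈ K
    · refine S.X.not_pos_and_neg ?_ hi
      have hn' := lJ_neg C S K i hiK
      have hin : D.InRootSub K (S.X.img (lJ C S K) (D.simple i)) :=
        inRootSub_img C S (lJ_mem C S K) (inRootSub_simple C hiK i.isLt)
      have hlt := S.X.img_lt w hn'.1
      rw [S.X.pos_iff hlt]
      intro j hj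
      rw [hneg _ hn'.1 hin j hj]
      have := (S.X.neg_iff hn'.1).mp hn' j hj
      omega
    · set r := S.X.img (lJ C S K) (D.simple i) with hr
      have hout : ¬ D.InRootSub K (D.simple i) := fun hin => by
        have := hin.2 i i.isLt hiK
        change ChevWeyl.cor D (D.simple i) i = 0 at this
        rw [S.X.cor_simple i.isLt i.isLt, if_pos rfl] at this
        exact one_ne_zero this
      have hrpos := pos_img_outside C S (lJ_mem C S K) hp hout
      rw [← hr] at hrpos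
      have hwi : D.IsPosRoot (S.X.img w (D.simple i)) :=
        (S.X.pos_or_neg (S.X.img_lt _ hp.1)).resolve_right fun h => hiK ((hKi i).2 h)
      have hwout : ¬ D.InRootSub K (S.X.img w (D.simple i)) := fun hin => by
        have hlt := S.X.img_lt w hp.1
        have e : ∀ j < D.rank, ChevWeyl.cor D (D.simple i) j = - ChevWeyl.cor D (S.X.img w (D.simple i)) j := by
          intro j hj
          have := hneg _ hlt hin j hj
          rwa [← S.X.img_mul, show w * w = 1 by nth_rewrite 1 [← hw2]; exact inv_mul_cancel w, S.X.img_one] at this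
        have h1 := e i i.isLt
        have h2 := (S.X.pos_iff hlt).1 hwi i i.isLt
        rw [S.X.cor_simple i.isLt i.isLt, if_pos rfl] at h1
        omega
      obtain ⟨j, hj, hjK, hne⟩ : ∃ j < D.rank, j ∉ K ∧ ChevWeyl.cor D (S.X.img w (D.simple i)) j ≠ 0 := by
        by_contra hc
        push Not at hc
        exact hwout ⟨S.X.img_lt _ hp.1, fun j hj hjK => hc j hj hjK⟩
      have hcr : ∀ k < D.rank, k ∉ K → ChevWeyl.cor D r k = ChevWeyl.cor D (D.simple i) k := by
        intro k hk hkK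
        rw [hr, S.X.cor_img _ hp.1 k hk, Finset.sum_eq_single i.val]
        · rw [S.X.cor_simple i.isLt i.isLt, if_pos rfl, one_mul]
          have h' : ∀ {b : S.X.W}, b ∈ WJ S K → ∀ m, m < D.nroots →
              ChevWeyl.cor D (S.X.img b m) k = ChevWeyl.cor D m k := by
            intro b hb
            induction hb using Subgroup.closure_induction'' with
            | mem x hx =>
              obtain ⟨j', hj', rfl⟩ := hx
              intro m hm
              rw [S.X.img_simple j' hm, (S.X.root_facts' hm j'.isLt).2.2.2.2.2 k hk,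
                if_neg (fun h => hkK (by rw [h]; exact hj')), sub_zero]
            | inv_mem x hx =>
              obtain ⟨j', hj', rfl⟩ := hx
              intro m hm
              rw [inv_eq_of_mul_eq_one_right (simple_mul_self C S j'), S.X.img_simple j' hm,
                (S.X.root_facts' hm j'.isLt).2.2.2.2.2 k hk,
                if_neg (fun h => hkK (by rw [h]; exact hj')), sub_zero]
            | one => intro m _; rw [S.X.img_one]
            | mul a b _ _ iha ihb => intro m hm; rw [S.X.img_mul, iha _ (S.X.img_lt b hm), ihb m hm]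
          exact h' (lJ_mem C S K) _ hp.1
        · intro m hm hmi
          rw [S.X.cor_simple i.isLt (Finset.mem_range.mp hm), if_neg hmi, zero_mul]
        · simp [i.isLt]
      have hlast : ChevWeyl.cor D (S.X.img w r) j = ChevWeyl.cor D (S.X.img w (D.simple i)) j := by
        rw [S.X.cor_img w hrpos.1 j hj, S.X.cor_img w hp.1 j hj]
        refine Finset.sum_congr rfl fun k hk => ?_
        have hk' := Finset.mem_range.mp hk
        by_cases hkK : k ∈ K
        · rw [hdes ⟨k, hk'⟩ ((hKi ⟨k, hk'⟩).1 hkK), (S.X.root_facts' (S.X.simple_lt hk') hj).1,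
            S.X.cor_simple hk' hj, if_neg (fun h : j = k => hjK (by rw [h]; exact hkK))]
          simp
        · rw [hcr k hk' hkK]
      have h1 := (S.X.neg_iff hi.1).1 hi j hj
      have h2 := (S.X.pos_iff hwi.1).1 hwi j hj
      rw [hlast] at h1
      omega
  -- normalise
  obtain ⟨b, hb, n, u, hu, e⟩ := S.exists_cell_form ht'G
  have hnw : S.toW n = w := cell_unique C S ⟨b, hb, n, rfl, u, U_le_B (S.Uw_le_U _ hu), e⟩ hgw
  have huG : u ∈ D.group F := S.U_le_group (S.Uw_le_U _ hu)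
  set b1 := u * b with hb1
  have hb1B : b1 ∈ B₀ := mul_mem (U_le_B (S.Uw_le_U _ hu)) hb
  have h3 : (b1 * (n : GL D.Idx F)) * (b1 * n) = 1 := by
    calc (b1 * (n : GL D.Idx F)) * (b1 * n) = u * (t' * t') * u⁻¹ := by rw [e, hb1]; group
      _ = 1 := by rw [h2']; group
  obtain ⟨v, hv, h, hh, hvh⟩ := (ChevalleyTorus.mem_B_iff C).1 hb1B
  obtain ⟨R, hR, l, hl, rfl⟩ := U_split C S K hv
  set m : ↥N₀ := ⟨h, H_le_N hh⟩ * n with hm
  have hmw : S.toW m = lJ C S K := by
    rw [hm, map_mul, show S.toW ⟨h, H_le_N hh⟩ = 1 from S.toW_ker.symm.le hh, one_mul, hnw, hwl]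
  have hmP : (m : GL D.Idx F) ∈ D.parabolicSubgroup F K :=
    mem_parabolic_of_cell C S (hmw ▸ lJ_mem C S K) (cell_N C S m)
  have hmsq : (m : GL D.Idx F) * m ∈ D.diagonalSubgroup F :=
    S.toW_ker.le (show S.toW (m * m) = 1 by
      rw [map_mul, hmw]; conv_lhs => arg 2; rw [← lJ_inv C S K]
      rw [mul_inv_cancel])
  have hRlm : (R * l * (m : GL D.Idx F)) * (R * l * m) = 1 := by
    rw [show R * l * (m : GL D.Idx F) = b1 * n by rw [← hvh, hm]; simp [mul_assoc]]
    exact h3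
  -- uniqueness of the form forces `l = 1`
  have hl1 : l = 1 := by
    set k := ((m : GL D.Idx F) * m)⁻¹
    set R' := (m : GL D.Idx F) * k * l⁻¹ * R⁻¹ * (m * k * l⁻¹)⁻¹
    have hR' : R' ∈ D.unipotentRadical F K := radical_normal C S
      (mul_mem (mul_mem hmP (H_le_parabolic C S K (inv_mem hmsq)))
        (inv_mem (le_trans U_le_B le_sup_left (S.Uw_le_U _ hl)))) (inv_mem hR)
    have e1 : R * l * (m : GL D.Idx F) * 1 =
        (R' * ((m : GL D.Idx F) * k * (m : GL D.Idx F)⁻¹)) * m * l⁻¹ := by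
      calc R * l * (m : GL D.Idx F) * 1 = (R * l * (m : GL D.Idx F))⁻¹ := by
            rw [mul_one, eq_inv_iff_mul_eq_one, hRlm]
        _ = _ := by simp only [R', k]; group
    have hbl : R' * ((m : GL D.Idx F) * k * (m : GL D.Idx F)⁻¹) ∈ B₀ :=
      mul_mem (U_le_B (radical_le_U C S K hR')) (H_le_B (S.conj_H (S.acts_toW m) (inv_mem hmsq)))
    have := (S.form_unique m (mul_mem (U_le_B (radical_le_U C S K hR)) (U_le_B (S.Uw_le_U _ hl))) hbl
      (one_mem _) (by rw [hmw]; exact inv_mem hl) e1).2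
    exact inv_eq_one.1 this.symm
  subst hl1
  rw [mul_one] at hRlm hvh
  have hm1 : (m : GL D.Idx F) * m = 1 := by
    have h4 : (m : GL D.Idx F) * R * (m : GL D.Idx F)⁻¹ ∈ D.unipotentRadical F K := radical_normal C S hmP hR
    have h5 : (m : GL D.Idx F) * m ∈ D.posUnipotent F := by
      have : (m : GL D.Idx F) * m = ((m : GL D.Idx F) * R * (m : GL D.Idx F)⁻¹)⁻¹ * R⁻¹ *
          ((R * (m : GL D.Idx F)) * (R * m)) := by group
      rw [this, hRlm, mul_one]
      exact mul_mem (inv_mem (radical_le_U C S K h4)) (inv_mem (radical_le_U C S K hR))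
    have := Subgroup.mem_inf.mpr (⟨h5, hmsq⟩ : (m : GL D.Idx F) * m ∈ D.posUnipotent F ∧ _)
    rwa [ChevalleyTorus.U_inf_H C, Subgroup.mem_bot] at this
  obtain ⟨j, hj⟩ := exists_conj_of_inverted
    (odd_orderOf_of_mem (odd_card_U C S hq) (radical_le_U C S K hR)) hm1 hRlm
  refine ⟨K, (R ^ j)⁻¹ * u * g, m, mul_mem (mul_mem (inv_mem (pow_mem (S.U_le_group (radical_le_U C S K hR)) _)) huG) hgG,
    ?_, hmw, fun i hi => by rw [← hwl]; exact hdes i ((hKi i).1 hi), fun g' hg' v hv' => by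
      rw [← hwl]; exact hmin' g' hg' v hv'⟩
  calc (R ^ j)⁻¹ * u * g * t * ((R ^ j)⁻¹ * u * g)⁻¹ = (R ^ j)⁻¹ * (u * t' * u⁻¹) * R ^ j := by rw [ht']; group
    _ = (R ^ j)⁻¹ * (R * (m : GL D.Idx F)) * R ^ j := by
      congr 2
      rw [e, hm, Subgroup.coe_mul, Subgroup.coe_mk, ← mul_assoc R, hvh, hb1]
      group
    _ = m := hj

/-! ### shortening -/

/-- the torus element moved past a representative of a fundamental root -/
theorem H_conj_nn (c : Fin D.rank → Fˣ) {r : ℕ} (hr : r < D.nroots) (t : F) :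
    ChevalleyTorus.torus D c * S.nn r t * (ChevalleyTorus.torus D c)⁻¹ =
      S.nn r ((ChevalleyTorus.tchar D c r : F) * t) := by
  have hneg : (ChevalleyTorus.tchar D c (D.neg r) : F) = (ChevalleyTorus.tchar D c r : F)⁻¹ := by
    rw [← Units.val_inv_eq_inv_val]
    congr 1
    rw [ChevalleyTorus.tchar, ChevalleyTorus.tchar, ← Finset.prod_inv_distrib]
    exact Finset.prod_congr rfl fun j _ => by rw [ChevalleyRoots.cartan_neg C j.isLt hr, zpow_neg]
  rw [ChevalleyParabolicBN.sys_nn C S, ChevalleyParabolicBN.sys_nn C S, ChevalleyCore.ng, ChevalleyCore.ng]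
  have h1 := ChevalleyTorus.torus_conj_xg C hr c t
  have h2 := ChevalleyTorus.torus_conj_xg C (C.neg_lt r) c (-t⁻¹)
  rw [hneg] at h2
  set T := ChevalleyTorus.torus D c
  calc T * (ChevalleyCore.xg C r t * ChevalleyCore.xg C (D.neg r) (-t⁻¹) * ChevalleyCore.xg C r t) * T⁻¹
      = (T * ChevalleyCore.xg C r t * T⁻¹) * (T * ChevalleyCore.xg C (D.neg r) (-t⁻¹) * T⁻¹) *
        (T * ChevalleyCore.xg C r t * T⁻¹) := by group
    _ = _ := by rw [h1, h2, mul_inv, mul_neg]

/-- a fundamental representative conjugating the torus -/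
theorem nn_conj_torus (i : Fin D.rank) (c : Fin D.rank → Fˣ) :
    S.nn (D.simple i) 1 * ChevalleyTorus.torus D c * (S.nn (D.simple i) 1)⁻¹ =
      ChevalleyTorus.torus D (c * Pi.mulSingle i (ChevalleyTorus.tchar D c (D.simple i))⁻¹) := by
  have h := H_conj_nn C S c⁻¹ (S.X.simple_lt i.isLt) (1 : F)
  have hinv : ChevalleyTorus.tchar D c⁻¹ (D.simple i) = (ChevalleyTorus.tchar D c (D.simple i))⁻¹ := by
    refine eq_inv_of_mul_eq_one_left ?_
    rw [← ChevalleyTorus.tchar_mul, inv_mul_cancel, ChevalleyTorus.tchar_one]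
  rw [mul_one, hinv, map_inv, inv_inv] at h
  rw [map_mul, ← ChevalleyTorus.hg_simple C, ChevalleyCore.hg, ← ChevalleyParabolicBN.sys_nn C S,
    ← ChevalleyParabolicBN.sys_nn C S, ← h, S.nn_inv]
  group

theorem node_commute (hO : nodesOK D = true) {i j : Fin D.rank} (hij : i ≠ j)
    (h0 : D.cartan i (D.simple j) = 0) {r s : ℕ} (hr : r = D.simple i ∨ r = D.neg (D.simple i))
    (hs : s = D.simple j ∨ s = D.neg (D.simple j)) (a b : F) : Commute (S.xg r a) (S.xg s b) := by
  simp only [nodesOK, List.all_eq_true, List.mem_range, Bool.or_eq_true, beq_iff_eq] at hO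
  have := (hO i i.isLt j j.isLt).resolve_left (fun h => hij (Fin.ext h))
  rw [if_pos h0] at this
  simp only [List.all_cons, List.all_nil, Bool.and_true, Bool.and_eq_true, List.isEmpty_iff, bne_iff_ne] at this
  have hi := S.X.simple_lt i.isLt
  have hj := S.X.simple_lt j.isLt
  have key : (D.commTerms r s = [] ∧ s ≠ r) ∧ s ≠ D.neg r := by
    rcases hr with rfl | rfl <;> rcases hs with rfl | rfl
    · exact this.1
    · exact this.2.1
    · exact this.2.2.1
    · exact this.2.2.2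
  have hr' : r < D.nroots := by rcases hr with rfl | rfl; exacts [hi, C.neg_lt _]
  have hs' : s < D.nroots := by rcases hs with rfl | rfl; exacts [hj, C.neg_lt _]
  have e := ChevalleyCore.comm_formula C hr' hs' key.1.2 key.2 a b
  rw [ChevalleyDatum.commWord, key.1.1] at e
  simp only [List.map_nil, ChevalleyCore.wg, List.prod_nil, mul_one] at e
  rw [ChevalleyParabolicBN.sys_xg C S, ChevalleyParabolicBN.sys_xg C S]
  exact e.symm

theorem nn_commute (hO : nodesOK D = true) {i j : Fin D.rank} (hij : i ≠ j)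
    (h0 : D.cartan i (D.simple j) = 0) {s : ℕ} (hs : s = D.simple j ∨ s = D.neg (D.simple j)) (t b : F) :
    Commute (S.nn (D.simple i) t) (S.xg s b) := by
  have h1 := node_commute C S hO hij h0 (Or.inl rfl) hs
  have h2 := node_commute C S hO hij h0 (Or.inr rfl) hs
  exact ((h1 t b).mul_left (h2 _ b)).mul_left (h1 t b)

theorem nn_nn_commute (hO : nodesOK D = true) {i j : Fin D.rank} (hij : i ≠ j)
    (h0 : D.cartan i (D.simple j) = 0) (t u : F) : Commute (S.nn (D.simple i) t) (S.nn (D.simple j) u) :=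
  ((nn_commute C S hO hij h0 (Or.inl rfl) t u).mul_right (nn_commute C S hO hij h0 (Or.inr rfl) t _)).mul_right
    (nn_commute C S hO hij h0 (Or.inl rfl) t u)

/-- facts about a product of representatives of orthogonal nodes -/
theorem orth_prod (hO : nodesOK D = true) : ∀ L : List (Fin D.rank), L.Nodup →
    (∀ i ∈ L, ∀ j ∈ L, i ≠ j → D.cartan i (D.simple j) = 0) →
    let T := (L.map fun i : Fin D.rank => S.nn (D.simple i) (1 : F)).prod
    (∀ c, ∃ f, T * ChevalleyTorus.torus D c * T⁻¹ = ChevalleyTorus.torus D f ∧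
      (∀ i ∈ L, f i = c i * (ChevalleyTorus.tchar D c (D.simple i))⁻¹) ∧ ∀ i ∉ L, f i = c i) ∧
    (∃ g, T * T = ChevalleyTorus.torus D g ∧ (∀ i ∈ L, g i = -1) ∧ ∀ i ∉ L, g i = 1) ∧
    (∀ i ∈ L, ∀ a, T * S.xg (D.simple i) a * T⁻¹ = S.xg (D.neg (D.simple i)) (-a)) ∧
    (∀ i ∈ L, S.X.img ((L.map S.X.C.simple).prod) (D.simple i) = D.neg (D.simple i)) ∧
    (∀ j : Fin D.rank, j ∉ L → (∀ i ∈ L, D.cartan i (D.simple j) = 0) →
      Commute T (S.nn (D.simple j) 1) ∧ (∀ s, (s = D.simple j ∨ s = D.neg (D.simple j)) → ∀ b, Commute T (S.xg s b)) ∧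
      ∀ s, (s = D.simple j ∨ s = D.neg (D.simple j)) → S.X.img ((L.map S.X.C.simple).prod) s = s) := by
  intro L
  induction L with
  | nil =>
    intro _ _
    refine ⟨fun c => ⟨c, by simp, by simp, fun i _ => rfl⟩, ⟨1, by simp, by simp, fun i _ => rfl⟩, by simp, by simp,
      fun j _ _ => ⟨by simp, fun s _ b => by simp, fun s _ => by simp⟩⟩
  | cons k L ih =>
    intro hnd horth
    obtain ⟨hk, hnd'⟩ := List.nodup_cons.1 hnd
    obtain ⟨ih1, ih2, ih3, ih4, ih5⟩ := ih hnd' fun i hi j hj =>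
      horth i (List.mem_cons_of_mem _ hi) j (List.mem_cons_of_mem _ hj)
    set T := (L.map fun i : Fin D.rank => S.nn (D.simple i) (1 : F)).prod
    have hLk : ∀ i ∈ L, D.cartan i (D.simple k) = 0 := fun i hi =>
      horth i (List.mem_cons_of_mem _ hi) k List.mem_cons_self fun h => hk (h ▸ hi)
    have hkL : ∀ i ∈ L, D.cartan k (D.simple i) = 0 := fun i hi =>
      horth k List.mem_cons_self i (List.mem_cons_of_mem _ hi) fun h => hk (h ▸ hi)
    obtain ⟨hck, hckx, hckw⟩ := ih5 k hk hLk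
    simp only [List.map_cons, List.prod_cons]
    set N := S.nn (D.simple k) (1 : F)
    have hkp := S.X.simple_lt k.isLt
    have hTc : ∀ c, ∀ i : Fin D.rank, i ∈ L → ∀ f : Fin D.rank → Fˣ,
        (∀ j, j ∉ L → f j = c j) → ChevalleyTorus.tchar D f (D.simple k) = ChevalleyTorus.tchar D c (D.simple k) := by
      intro c _ _ f hf
      rw [ChevalleyTorus.tchar, ChevalleyTorus.tchar]
      refine Finset.prod_congr rfl fun j _ => ?_
      by_cases hj : j ∈ L
      · rw [hLk j hj, zpow_zero, zpow_zero]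
      · rw [hf j hj]
    refine ⟨fun c => ?_, ?_, ?_, ?_, ?_⟩
    · obtain ⟨f, hf, hf1, hf2⟩ := ih1 c
      have hχ : ChevalleyTorus.tchar D f (D.simple k) = ChevalleyTorus.tchar D c (D.simple k) := by
        rw [ChevalleyTorus.tchar, ChevalleyTorus.tchar]
        refine Finset.prod_congr rfl fun j _ => ?_
        by_cases hj : j ∈ L
        · rw [hLk j hj, zpow_zero, zpow_zero]
        · rw [hf2 j hj]
      refine ⟨f * Pi.mulSingle k (ChevalleyTorus.tchar D f (D.simple k))⁻¹, ?_, fun i hi => ?_, fun i hi => ?_⟩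
      · rw [← nn_conj_torus C S k f, ← hf]; group; rfl
      · rcases List.mem_cons.1 hi with rfl | hi
        · rw [Pi.mul_apply, Pi.mulSingle_eq_same, hf2 _ hk, hχ]
        · rw [Pi.mul_apply, Pi.mulSingle_eq_of_ne (fun h : i = k => hk (by rwa [← h])), mul_one, hf1 i hi]
      · rw [List.mem_cons, not_or] at hi
        rw [Pi.mul_apply, Pi.mulSingle_eq_of_ne hi.1, mul_one, hf2 i hi.2]
    · obtain ⟨g, hg, hg1, hg2⟩ := ih2
      refine ⟨Pi.mulSingle k (-1) * g, ?_, fun i hi => ?_, fun i hi => ?_⟩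
      · rw [map_mul, ← hg, ← ChevalleyTorus.hg_simple C, Units.val_neg, Units.val_one, ChevalleyCore.hg,
          ← ChevalleyParabolicBN.sys_nn C S]
        have h2 : S.nn (D.simple k) (-1 : F) * S.nn (D.simple k) (-1) = N * N := by
          have h3 : ChevalleyCore.hg C (D.simple k) (-1 : F) * ChevalleyCore.hg C (D.simple k) (-1 : F) = 1 := by
            rw [ChevalleyCore.hg_mul C hkp (neg_ne_zero.2 one_ne_zero) (neg_ne_zero.2 one_ne_zero), neg_mul_neg,
              one_mul, ChevalleyCore.hg_one C hkp]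
          rw [ChevalleyCore.hg, ← ChevalleyParabolicBN.sys_nn C S] at h3
          rw [eq_inv_of_mul_eq_one_left h3, mul_inv_rev, S.nn_inv, neg_neg]
        rw [h2, show N * T * (N * T) = N * (T * N) * T by group, hck.eq]
        group
      · rcases List.mem_cons.1 hi with rfl | hi
        · rw [Pi.mul_apply, Pi.mulSingle_eq_same, hg2 _ hk, mul_one]
        · rw [Pi.mul_apply, Pi.mulSingle_eq_of_ne (fun h : i = k => hk (by rwa [← h])), one_mul, hg1 i hi]
      · rw [List.mem_cons, not_or] at hi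
        rw [Pi.mul_apply, Pi.mulSingle_eq_of_ne hi.1, one_mul, hg2 i hi.2]
    · intro i hi a
      rcases List.mem_cons.1 hi with rfl | hi
      · rw [show N * T * S.xg (D.simple i) a * (N * T)⁻¹ = N * (T * S.xg (D.simple i) a * T⁻¹) * N⁻¹ by group,
          show T * S.xg (D.simple i) a * T⁻¹ = S.xg (D.simple i) a by
            rw [(hckx _ (Or.inl rfl) a).eq, mul_inv_cancel_right]]
        simp only [N, ChevalleyParabolicBN.sys_nn C S, ChevalleyParabolicBN.sys_xg C S]
        exact ChevalleyRankOne.ng_conj_self C hkp a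
      · rw [show N * T * S.xg (D.simple i) a * (N * T)⁻¹ = N * (T * S.xg (D.simple i) a * T⁻¹) * N⁻¹ by group,
          ih3 i hi a, ((nn_commute C S hO (fun h : k = i => hk (h ▸ hi)) (hkL i hi) (Or.inr rfl) 1 (-a))).eq,
          mul_inv_cancel_right]
    · intro i hi
      rcases List.mem_cons.1 hi with rfl | hi
      · rw [S.X.img_mul, hckw _ (Or.inl rfl), S.X.img_simple i hkp, S.X.reflect_simple i.isLt]
      · rw [S.X.img_mul, ih4 i hi, S.X.img_simple k (C.neg_lt _)]
        exact ChevalleyRoots.w_fix C k.isLt (C.neg_lt _) (by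
          rw [ChevalleyRoots.cartan_neg C k.isLt (S.X.simple_lt i.isLt), hkL i hi, neg_zero])
    · intro j hj hjc
      rw [List.mem_cons, not_or] at hj
      obtain ⟨h1, h2, h3⟩ := ih5 j hj.2 fun i hi => hjc i (List.mem_cons_of_mem _ hi)
      have hc0 := hjc k List.mem_cons_self
      refine ⟨(nn_nn_commute C S hO (Ne.symm hj.1) hc0 1 1).mul_left h1,
        fun s hs b => (nn_commute C S hO (Ne.symm hj.1) hc0 hs 1 b).mul_left (h2 s hs b), fun s hs => ?_⟩
      have hlt : s < D.nroots := by rcases hs with rfl | rfl; exacts [S.X.simple_lt j.isLt, C.neg_lt _]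
      rw [S.X.img_mul, h3 s hs, S.X.img_simple k hlt]
      refine ChevalleyRoots.w_fix C k.isLt hlt ?_
      rcases hs with rfl | rfl
      · exact hc0
      · rw [ChevalleyRoots.cartan_neg C k.isLt (S.X.simple_lt j.isLt), hc0, neg_zero]

/-- some conjugate has a smaller cell unless all the eigenvalues are non-squares -/
theorem square_shorten {K : Set ℕ} {m : ↥N₀} (hm : S.toW m = lJ C S K) {i : Fin D.rank} (hi : i.val ∈ K)
    {e : F} (he : e ≠ 0) (hme : ∀ a, (m : GL D.Idx F) * S.xg (D.neg (D.simple i)) a * (m : GL D.Idx F)⁻¹ =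
      S.xg (D.simple i) (e⁻¹ * a)) (hsq : IsSquare e) :
    ∃ g ∈ D.group F, ∃ w, InCell S (g * m * g⁻¹) w ∧ S.X.inv w < S.X.inv (lJ C S K) := by
  obtain ⟨y, rfl⟩ := hsq
  have hy : y ≠ 0 := fun h => he (by rw [h, mul_zero])
  set P := D.simple i.val
  have hp := S.X.simple_pos i.isLt
  have hN' : S.nn P y⁻¹ ∈ N₀ := by
    rw [show S.nn P y⁻¹ = (S.nn P y⁻¹ * (S.nn P 1)⁻¹) * S.nn P 1 by group]
    refine mul_mem (H_le_N ?_) (S.sN i).2
    rw [S.nn_inv]
    exact S.nn_mul_nn_mem hp.1 (inv_ne_zero hy) (neg_ne_zero.2 one_ne_zero)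
  refine ⟨S.xg (D.neg P) (-y), xg_mem C S _ _, S.X.C.simple i * lJ C S K, ?_, ?_⟩
  · refine ⟨S.xg P (-y⁻¹), U_le_B (S.xg_mem_U hp _),
      ⟨S.nn P y⁻¹, hN'⟩ * m, ?_, 1, one_mem _, ?_⟩
    · rw [map_mul, hm]
      congr 1
      rw [← S.toW_sN i, S.toW_eq_iff]
      show (S.nn P y⁻¹)⁻¹ * S.nn P 1 ∈ D.diagonalSubgroup F
      rw [S.nn_inv]
      exact S.nn_mul_nn_mem hp.1 (neg_ne_zero.2 (inv_ne_zero hy)) one_ne_zero
    · have h1 : (m : GL D.Idx F) * S.xg (D.neg P) y = S.xg P y⁻¹ * m := by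
        rw [← mul_inv_eq_iff_eq_mul, hme]
        congr 1
        field_simp
      rw [S.xg_inv, neg_neg, mul_assoc, h1]
      simp only [Subgroup.coe_mul, mul_one]
      simp only [Sys.nn, nOf, inv_inv, ← S.xg_inv P]
      group
  · have hneg : D.IsNegRoot (S.X.img (lJ C S K)⁻¹ P) := by rw [lJ_inv C S K]; exact lJ_neg C S K i hi
    have := S.X.inv_simple_mul_of_neg i hneg
    omega

theorem exists_nonsquare_shift (hq : Odd (Fintype.card F)) {e : F} (he : ¬ IsSquare e) :
    ∃ a : F, a ≠ 0 ∧ 1 - a * a * e⁻¹ ≠ 0 ∧ ¬ IsSquare (1 - a * a * e⁻¹) := by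
  have he0 : e ≠ 0 := fun h => he (h ▸ IsSquare.zero)
  by_contra hc
  push Not at hc
  have hne : ∀ a : F, 1 - a * a * e⁻¹ ≠ 0 := fun a h => he ⟨a, by field_simp at h; linear_combination h⟩
  have hsq : ∀ a : F, IsSquare (1 - a * a * e⁻¹) := fun a => by
    by_cases ha : a = 0
    · subst ha; simp
    · exact hc a ha (hne a)
  -- the translates of the squares by the non-squares are squares: too many
  let A : Finset F := Finset.univ.filter fun x => IsSquare x
  let f : F → F := fun x => 1 - x * e⁻¹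
  have hsub : A.image f ⊆ A.erase 0 := by
    intro y hy
    obtain ⟨x, hx, rfl⟩ := Finset.mem_image.1 hy
    obtain ⟨a, rfl⟩ := (Finset.mem_filter.1 hx).2
    exact Finset.mem_erase.2 ⟨hne a, Finset.mem_filter.2 ⟨Finset.mem_univ _, hsq a⟩⟩
  have h1 := Finset.card_le_card hsub
  have hA0 : (0 : F) ∈ A := Finset.mem_filter.2 ⟨Finset.mem_univ _, IsSquare.zero⟩
  rw [Finset.card_image_of_injective _ (fun x y h => by simpa [f, he0] using h),
    Finset.card_erase_of_mem hA0] at h1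
  have : 0 < A.card := Finset.card_pos.2 ⟨0, hA0⟩
  omega

/-- a conjugate with another eigenvalue at an adjacent node -/
theorem shift {K : Set ℕ} {m : ↥N₀} (hm : S.toW m = lJ C S K) (hm2 : (m : GL D.Idx F) * m = 1)
    {i : Fin D.rank} (hi : i.val ∈ K) {e : F} (he : e ≠ 0)
    (hme : ∀ a, (m : GL D.Idx F) * S.xg (D.neg (D.simple i)) a * (m : GL D.Idx F)⁻¹ = S.xg (D.simple i) (e⁻¹ * a))
    (hme' : ∀ a, (m : GL D.Idx F) * S.xg (D.simple i) a * (m : GL D.Idx F)⁻¹ = S.xg (D.neg (D.simple i)) (e * a))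
    {a : F} (ha : a ≠ 0) {d : F} (hd : d = 1 - a * a * e⁻¹) (hd0 : d ≠ 0) :
    ∃ g ∈ D.group F, ∃ h : GL D.Idx F, h = ChevalleyCore.hg C (D.simple i) d⁻¹ ∧
      g * m * g⁻¹ = h * (m : GL D.Idx F) := by
  set P := D.simple i.val
  have hp := S.X.simple_pos i.isLt
  set b := d * a⁻¹ with hb
  have hb0 : b ≠ 0 := mul_ne_zero hd0 (inv_ne_zero ha)
  set M := (m : GL D.Idx F)
  set h := ChevalleyCore.hg C P d⁻¹ with hh
  have hhH : h ∈ D.diagonalSubgroup F := ChevalleyTorus.hg_mem_H C hp.1 (inv_ne_zero hd0)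
  have hnn : S.nn P (-a⁻¹) * S.nn P b = h := by
    rw [hh, show d⁻¹ = (-a⁻¹) * (-b)⁻¹ by rw [hb]; field_simp,
      ← ChevalleyCore.hg_mul C hp.1 (neg_ne_zero.2 (inv_ne_zero ha)) (inv_ne_zero (neg_ne_zero.2 hb0)),
      show ChevalleyCore.hg C P (-b)⁻¹ = (ChevalleyCore.hg C P (-b))⁻¹ from eq_inv_of_mul_eq_one_left (by
        rw [ChevalleyCore.hg_mul C hp.1 (inv_ne_zero (neg_ne_zero.2 hb0)) (neg_ne_zero.2 hb0),
          inv_mul_cancel₀ (neg_ne_zero.2 hb0), ChevalleyCore.hg_one C hp.1]),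
      ChevalleyCore.hg, ChevalleyCore.hg, ← ChevalleyParabolicBN.sys_nn C S, ← ChevalleyParabolicBN.sys_nn C S,
      ← ChevalleyParabolicBN.sys_nn C S, mul_inv_rev]
    simp only [S.nn_inv, neg_neg]
    rw [show S.nn P (1 : F) = (S.nn P (-1))⁻¹ by rw [S.nn_inv, neg_neg]]
    simp only [P]
    group
  obtain ⟨γ, hγ, hγc⟩ := ChevalleyTorus.H_conj_xg C hp.1 hhH
  have hγc' : ∀ x, h * S.xg P x * h⁻¹ = S.xg P (γ * x) := fun x => by
    simpa only [ChevalleyParabolicBN.sys_xg C S] using hγc x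
  set δ := e⁻¹ * b⁻¹
  set ε := a⁻¹ + γ * -b with hε
  have e1 : S.xg (D.neg P) a * M * (S.xg (D.neg P) a)⁻¹ = S.xg P ε * (h * M) * S.xg P δ := by
    calc S.xg (D.neg P) a * M * (S.xg (D.neg P) a)⁻¹
        = S.xg (D.neg P) a * (M * S.xg (D.neg P) (-a) * M⁻¹) * M := by rw [← S.xg_inv]; group
      _ = (S.xg P a⁻¹ * S.nn P (-a⁻¹) * S.xg P a⁻¹) * S.xg P (e⁻¹ * -a) * M := by
        rw [hme]
        simp only [Sys.nn, nOf, inv_neg, inv_inv, neg_neg, ← S.xg_inv]
        group
      _ = S.xg P a⁻¹ * S.nn P (-a⁻¹) * S.xg P b * M := by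
        rw [show b = a⁻¹ + e⁻¹ * -a by rw [hb, hd]; field_simp; ring, S.xg_add]
        group
      _ = S.xg P a⁻¹ * (h * S.xg P (-b) * h⁻¹) * h * (S.xg (D.neg P) b⁻¹ * M) := by
        rw [← hnn]
        simp only [Sys.nn, nOf, ← S.xg_inv, neg_neg]
        group
      _ = _ := by
        have e2 : S.xg (D.neg P) b⁻¹ * M = M * S.xg P δ := by
          have := hme' δ
          rw [show e * δ = b⁻¹ by simp only [δ]; field_simp] at this
          rw [← this]; group
        rw [hγc', e2, hε, S.xg_add]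
        group
  set κ := δ + ε
  have e3 : S.xg P δ * (S.xg (D.neg P) a * M * (S.xg (D.neg P) a)⁻¹) * (S.xg P δ)⁻¹ = S.xg P κ * (h * M) := by
    rw [e1, show κ = δ + ε from rfl, S.xg_add P δ ε]; group
  have hsq : (S.xg P κ * (h * M)) * (S.xg P κ * (h * M)) = 1 := by
    rw [← e3]
    calc _ = S.xg P δ * S.xg (D.neg P) a * (M * M) * (S.xg (D.neg P) a)⁻¹ * (S.xg P δ)⁻¹ := by group
      _ = 1 := by rw [hm2]; group
  set n' : ↥N₀ := ⟨h, H_le_N hhH⟩ * m with hn'
  have hn'w : S.toW n' = lJ C S K := by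
    rw [hn', map_mul, show S.toW ⟨h, H_le_N hhH⟩ = 1 from S.toW_ker.symm.le hhH, one_mul, hm]
  have hk : (n' : GL D.Idx F) * n' ∈ D.diagonalSubgroup F :=
    S.toW_ker.le (show S.toW (n' * n') = 1 by
      rw [map_mul, hn'w]; conv_lhs => arg 2; rw [← lJ_inv C S K]
      rw [mul_inv_cancel])
  have hκ : S.xg P κ = 1 := by
    have e4 : S.xg P κ * (n' : GL D.Idx F) * 1 =
        ((n' : GL D.Idx F) * ((n' : GL D.Idx F) * n')⁻¹ * (n' : GL D.Idx F)⁻¹) * n' * (S.xg P κ)⁻¹ := by
      calc S.xg P κ * (n' : GL D.Idx F) * 1 = (S.xg P κ * (n' : GL D.Idx F))⁻¹ := by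
            rw [mul_one, eq_inv_iff_mul_eq_one]
            simpa [hn'] using hsq
        _ = _ := by group
    have := (S.form_unique n' (U_le_B (S.xg_mem_U hp κ)) (H_le_B (S.conj_H (S.acts_toW n') (inv_mem hk)))
      (one_mem _) (inv_mem (Subgroup.subset_closure ⟨P, κ, S.X.mem_invSet.2 ⟨hp, by
        rw [hn'w]; exact lJ_neg C S K i hi⟩, rfl⟩)) e4).2
    exact inv_eq_one.1 this.symm
  refine ⟨S.xg P δ * S.xg (D.neg P) a, mul_mem (xg_mem C S _ _) (xg_mem C S _ _), h, hh, ?_⟩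
  rw [hκ, one_mul] at e3
  rw [← e3]
  group

/-- an involution lies in a torus -/
theorem exists_conj_torus (hq : Odd (Fintype.card F)) (hT : Function.Injective (ChevalleyTorus.torus D (F := F)))
    (hO : nodesOK D = true) {t : GL D.Idx F} (ht : t ∈ D.group F) (h2 : t * t = 1) :
    ∃ g ∈ D.group F, g * t * g⁻¹ ∈ D.diagonalSubgroup F := by
  obtain ⟨K, g, m, hg, hgm, hmw, hneg, hmin⟩ := shape C S hq ht h2
  by_cases hempty : ∀ i : Fin D.rank, i.val ∉ K
  · refine ⟨g, hg, hgm ▸ S.toW_ker.le (?_ : S.toW m = 1)⟩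
    rw [hmw]
    exact eq_one_of_posOn C S (lJ_mem C S K) fun i hi => absurd hi (hempty i)
  exfalso
  push Not at hempty
  have hm2 : (m : GL D.Idx F) * m = 1 := by
    rw [← hgm]
    calc g * t * g⁻¹ * (g * t * g⁻¹) = g * (t * t) * g⁻¹ := by group
      _ = 1 := by rw [h2]; group
  have hcontra : ∀ g₁ ∈ D.group F, ∀ w, InCell S (g₁ * m * g₁⁻¹) w → ¬ S.X.inv w < S.X.inv (lJ C S K) := by
    intro g₁ hg₁ w hw hlt
    have := hmin _ (mul_mem hg₁ hg) w (by rwa [show g₁ * g * t * (g₁ * g)⁻¹ = g₁ * (g * t * g⁻¹) * g₁⁻¹ by group, hgm])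
    omega
  have hE : ∀ (n : ↥N₀), S.toW n = lJ C S K → ∀ i : Fin D.rank, i.val ∈ K → ∃ e : F, e ≠ 0 ∧
      (∀ a, (n : GL D.Idx F) * S.xg (D.neg (D.simple i)) a * (n : GL D.Idx F)⁻¹ = S.xg (D.simple i) (e⁻¹ * a)) ∧
      ∀ a, (n : GL D.Idx F) * S.xg (D.simple i) a * (n : GL D.Idx F)⁻¹ = S.xg (D.neg (D.simple i)) (e * a) := by
    intro n hn i hi
    obtain ⟨e, he, h1, h2⟩ := S.acts_toW n (D.simple i) (S.X.simple_lt i.isLt)
    rw [hn, hneg i hi] at h1 h2
    refine ⟨e, he, fun a => ?_, h1⟩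
    rw [h2, (S.X.root_facts (S.X.simple_lt i.isLt)).2.1]
  have hnsq : ∀ (g₁ : GL D.Idx F) (n : ↥N₀), g₁ ∈ D.group F → g₁ * m * g₁⁻¹ = n → S.toW n = lJ C S K →
      ∀ i : Fin D.rank, i.val ∈ K → ∀ e : F, e ≠ 0 →
      (∀ a, (n : GL D.Idx F) * S.xg (D.neg (D.simple i)) a * (n : GL D.Idx F)⁻¹ = S.xg (D.simple i) (e⁻¹ * a)) →
      ¬ IsSquare e := by
    intro g₁ n hg₁ hn hnw i hi e he hne hsq
    obtain ⟨g₂, hg₂, w, hw, hlt⟩ := square_shorten C S hnw hi he hne hsq
    refine hcontra _ (mul_mem hg₂ hg₁) w ?_ hlt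
    rwa [show g₂ * g₁ * (m : GL D.Idx F) * (g₂ * g₁)⁻¹ = g₂ * (g₁ * m * g₁⁻¹) * g₂⁻¹ by group, hn]
  by_cases hadj : ∀ i j : Fin D.rank, i.val ∈ K → j.val ∈ K → i ≠ j → D.cartan i (D.simple j) = 0
  · -- orthogonal nodes
    set L := ((Finset.univ : Finset (Fin D.rank)).filter fun i => i.val ∈ K).toList
    have hL : ∀ i : Fin D.rank, i ∈ L ↔ i.val ∈ K := fun i => by simp [L]
    obtain ⟨h1, ⟨gg, hgg, hgg1, -⟩, h3, h4, -⟩ := orth_prod C S hO L (Finset.nodup_toList _)
      fun i hi j hj => hadj i j ((hL i).1 hi) ((hL j).1 hj)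
    set T := (L.map fun i : Fin D.rank => S.nn (D.simple i) (1 : F)).prod
    set TN : ↥N₀ := (L.map S.sN).prod
    have hTN : (TN : GL D.Idx F) = T := by
      rw [show (TN : GL D.Idx F) = (D.monomialSubgroup F).subtype TN from rfl, map_list_prod, List.map_map]
      rfl
    have hTW : S.toW TN = lJ C S K := by
      rw [map_list_prod, List.map_map, show (⇑S.toW ∘ S.sN) = S.X.C.simple from funext S.toW_sN]
      refine negOn_unique C S (list_prod_mem fun x hx => ?_) (lJ_mem C S K) (fun i hi => ?_) (lJ_neg C S K)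
      · obtain ⟨i, hi, rfl⟩ := List.mem_map.1 hx
        exact simple_mem_WJ C S ((hL i).1 hi)
      · rw [h4 i ((hL i).2 hi)]
        exact (S.X.pos_neg_iff (C.neg_lt _)).1 (by
          rw [(S.X.root_facts (S.X.simple_lt i.isLt)).2.1]; exact S.X.simple_pos i.isLt)
    obtain ⟨c, hc⟩ := (ChevalleyTorus.mem_H_iff C).1 (S.toW_ker.le (show S.toW (m * TN⁻¹) = 1 by
      rw [map_mul, map_inv, hmw, hTW, mul_inv_cancel]))
    have hmc : (m : GL D.Idx F) = ChevalleyTorus.torus D c * T := by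
      rw [hc, ← hTN]; simp
    obtain ⟨i, hi⟩ := hempty
    obtain ⟨f, hf, hf1, -⟩ := h1 c
    have heq : c * f * gg = 1 := hT (by
      rw [map_mul, map_mul, map_one, ← hf, ← hgg, ← hm2, hmc]; group)
    have h5 := congrFun heq i
    simp only [Pi.mul_apply, Pi.one_apply, hf1 i ((hL i).2 hi), hgg1 i ((hL i).2 hi)] at h5
    have h6 : ChevalleyTorus.tchar D c (D.simple i) = -(c i * c i) := by
      rw [← inv_inj, eq_comm, inv_eq_iff_mul_eq_one, ← h5, mul_neg_one, neg_mul, mul_assoc]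
    obtain ⟨e, he, hme, hme'⟩ := hE m hmw i hi
    refine hnsq 1 m (one_mem _) (by simp) hmw i hi e he hme ⟨((c i : F))⁻¹, ?_⟩
    have h7 : S.xg (D.neg (D.simple i)) e = S.xg (D.neg (D.simple i))
        ((ChevalleyTorus.tchar D c (D.neg (D.simple i)) : F) * -1) := by
      have := hme' 1
      rw [mul_one, hmc, show ChevalleyTorus.torus D c * T * S.xg (D.simple i) 1 * (ChevalleyTorus.torus D c * T)⁻¹ =
        ChevalleyTorus.torus D c * (T * S.xg (D.simple i) 1 * T⁻¹) * (ChevalleyTorus.torus D c)⁻¹ by group,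
        h3 i ((hL i).2 hi), ChevalleyParabolicBN.sys_xg C S,
        ChevalleyTorus.torus_conj_xg C (C.neg_lt _)] at this
      simp only [ChevalleyParabolicBN.sys_xg C S] at this ⊢
      exact this.symm
    have h8 := sub_eq_zero.1 (S.xg_eq_one (C.neg_lt _) (show S.xg (D.neg (D.simple i))
      (e - (ChevalleyTorus.tchar D c (D.neg (D.simple i)) : F) * -1) = 1 by
        rw [sub_eq_add_neg, S.xg_add, h7, ← S.xg_add, add_neg_cancel, S.xg_zero]))
    have h9 : ChevalleyTorus.tchar D c (D.neg (D.simple i)) = (ChevalleyTorus.tchar D c (D.simple i))⁻¹ := by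
      rw [ChevalleyTorus.tchar, ChevalleyTorus.tchar, ← Finset.prod_inv_distrib]
      exact Finset.prod_congr rfl fun j _ => by
        rw [ChevalleyRoots.cartan_neg C j.isLt (S.X.simple_lt i.isLt), zpow_neg]
    rw [h8, h9, h6]
    simp
  · -- two adjacent nodes
    push Not at hadj
    obtain ⟨i₀, j₀, hi₀, hj₀, hne₀, hc₀⟩ := hadj
    obtain ⟨i, j, hi, hj, hodd⟩ : ∃ i j : Fin D.rank, i.val ∈ K ∧ j.val ∈ K ∧
        D.cartan i (D.simple j) % 2 = 1 := by
      have := hO
      simp only [nodesOK, List.all_eq_true, List.mem_range, Bool.or_eq_true, beq_iff_eq] at this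
      have h := (this i₀ i₀.isLt j₀ j₀.isLt).resolve_left (fun h => hne₀ (Fin.ext h))
      rw [if_neg hc₀, decide_eq_true_eq] at h
      rcases h with h | h
      · exact ⟨i₀, j₀, hi₀, hj₀, h⟩
      · exact ⟨j₀, i₀, hj₀, hi₀, h⟩
    obtain ⟨e, he, hme, hme'⟩ := hE m hmw i hi
    obtain ⟨a, ha, hd0, hdns⟩ := exists_nonsquare_shift C S hq (hnsq 1 m (one_mem _) (by simp) hmw i hi e he hme)
    obtain ⟨g₁, hg₁, h, hh, hgh⟩ := shift C S hmw hm2 hi he hme hme' ha rfl hd0
    set d := 1 - a * a * e⁻¹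
    have hhH : h ∈ D.diagonalSubgroup F :=
      hh ▸ ChevalleyTorus.hg_mem_H C (S.X.simple_lt i.isLt) (inv_ne_zero hd0)
    obtain ⟨f, hf, hmf, -⟩ := hE m hmw j hj
    have hfns := hnsq 1 m (one_mem _) (by simp) hmw j hj f hf hmf
    set n' : ↥N₀ := ⟨h, H_le_N hhH⟩ * m with hn'
    have hn'w : S.toW n' = lJ C S K := by
      rw [hn', map_mul, show S.toW ⟨h, H_le_N hhH⟩ = 1 from S.toW_ker.symm.le hhH, one_mul, hmw]
    set π := D.cartan i (D.simple j) with hπ
    have hne' : ∀ x, (n' : GL D.Idx F) * S.xg (D.neg (D.simple j)) x * (n' : GL D.Idx F)⁻¹ =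
        S.xg (D.simple j) ((f * d ^ π)⁻¹ * x) := by
      intro x
      rw [show (n' : GL D.Idx F) * S.xg (D.neg (D.simple j)) x * (n' : GL D.Idx F)⁻¹ =
          h * ((m : GL D.Idx F) * S.xg (D.neg (D.simple j)) x * (m : GL D.Idx F)⁻¹) * h⁻¹ by
        simp [hn', mul_assoc], hmf, hh, ChevalleyParabolicBN.sys_xg C S, ChevalleyParabolicBN.sys_xg C S,
        ChevalleyCore.hg_conj_xg C (S.X.simple_lt i.isLt) (S.X.simple_lt j.isLt) (inv_ne_zero hd0),
        mul_inv_cancel_right, ChevalleyRoots.pairing_simple C i.isLt, ← hπ, inv_zpow, mul_inv, mul_assoc,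
        mul_left_comm]
    have hfd : f * d ^ π ≠ 0 := mul_ne_zero hf (zpow_ne_zero _ hd0)
    refine hnsq g₁ n' hg₁ (by rw [hgh, hn']; rfl) hn'w j hj _ hfd hne' ?_
    obtain ⟨k, hk⟩ : ∃ k, π = 2 * k + 1 := ⟨π / 2, by omega⟩
    rw [hk, zpow_add₀ hd0, zpow_one, mul_left_comm, two_mul, zpow_add₀ hd0]
    exact (IsSquare.mul ⟨d ^ k, rfl⟩ (isSquare_mul_of_not hfns hdns))

end Cfsg.Agent.ChevalleyTorusInvolution
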