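import Cfsg.Agent.Lib.ChevalleyRelative
import Cfsg.Agent.Lib.ChevalleySylow

/-!
Steinberg's count of the unipotent elements, by the alternating sums relative to the parabolic subgroups.
-/

set_option autoImplicit false
set_option linter.unusedSectionVars false
set_option linter.unusedSimpArgs false

namespace Cfsg.Agent.ChevalleyUnipotentCount

open Cfsg.Lie Cfsg.Agent.ChevalleyCert Cfsg.Agent.ChevalleyCells Cfsg.Agent.ChevalleySteinbergChar
  Cfsg.Agent.ChevalleyRelative Cfsg.Agent.ChevBruhat Cfsg.Agent.ChevBruhat.Sys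
open scoped Classical

variable {D : ChevalleyDatum} {F : Type*} [Field F] [Fintype F] (C : Cert D) (S : ChevBruhat.Sys D F)
variable (p : ℕ) [Fact p.Prime] [CharP F p]
include C S

omit C S [Fintype F] [CharP F p] in
/-- an element of `p`-power order -/
def Uni {G : Type*} [Monoid G] (p : ℕ) (g : G) : Prop := ∃ k : ℕ, orderOf g = p ^ k

omit C S [Fintype F] [CharP F p] in
theorem uni_conj {G : Type*} [Group G] {g : G} (x : G) (h : Uni p g) : Uni p (x * g * x⁻¹) := by
  obtain ⟨k, hk⟩ := h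
  exact ⟨k, ((MulAut.conj x).orderOf_eq g).trans hk⟩

theorem uni_of_mem_U {g : ↥(D.group F)} (h : (g : GL D.Idx F) ∈ D.posUnipotent F) : Uni p g := by
  obtain ⟨n, _, hq⟩ := FiniteField.card F p
  have hd : orderOf g ∣ p ^ ((n : ℕ) * (D.nroots / 2)) := by
    rw [← Subgroup.orderOf_coe, pow_mul, ← hq, ← ChevalleyUnipotent.card_U C]
    exact Subgroup.orderOf_dvd_natCard _ h
  obtain ⟨k, -, hk⟩ := (Nat.dvd_prime_pow Fact.out).1 hd
  exact ⟨k, hk⟩

theorem mem_U_of_uni {g : ↥(D.group F)} (hu : Uni p g) (h : (g : GL D.Idx F) ∈ D.borelSubgroup F) :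
    (g : GL D.Idx F) ∈ D.posUnipotent F := by
  obtain ⟨k, hk⟩ := hu
  set b : ↥(D.borelSubgroup F) := ⟨g, h⟩ with hb
  set U' := (D.posUnipotent F).subgroupOf (D.borelSubgroup F) with hU'
  haveI : U'.Normal := Subgroup.normal_subgroupOf_of_le_normalizer
    (sup_le Subgroup.le_normalizer (ChevalleyTorus.H_le_normalizer_U C))
  have hidx : U'.index = Nat.card ↥(D.diagonalSubgroup F) := by
    have h1 := Subgroup.card_mul_index U'
    rw [hU', Nat.card_congr (Subgroup.subgroupOfEquivOfLe (U_le_B (D := D) (F := F))).toEquiv, S.card_B] at h1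
    exact Nat.eq_of_mul_eq_mul_left Nat.card_pos h1
  have hord : orderOf b = p ^ k := by rw [← hk, ← Subgroup.orderOf_coe g, ← Subgroup.orderOf_coe b]
  have hco : (orderOf b).Coprime U'.index := by
    rw [hord, hidx]
    exact Nat.Coprime.pow_left _ ((Nat.Prime.coprime_iff_not_dvd Fact.out).2
      (ChevalleySylow.prime_not_dvd_card_H C S p))
  have hmem : b ^ U'.index ∈ U' := U'.pow_index_mem b
  obtain ⟨m, hm⟩ := exists_pow_eq_self_of_coprime hco.symm
  have : b ∈ U' := hm ▸ pow_mem hmem m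
  exact this

/-- the cosets of `P_K` inside `P_J` -/
abbrev Y (D : ChevalleyDatum) (F : Type*) [Field F] (J K : Set ℕ) :=
  {y : ↥(D.group F) ⧸ PS D F K // y.out ∈ PS D F J}

theorem out_mem {J K : Set ℕ} (hKJ : PS D F K ≤ PS D F J) (g : ↥(D.group F)) :
    ((g : ↥(D.group F)) : ↥(D.group F) ⧸ PS D F K).out ∈ PS D F J ↔ g ∈ PS D F J := by
  obtain ⟨z, hz⟩ := QuotientGroup.mk_out_eq_mul (PS D F K) g
  rw [hz]
  exact Subgroup.mul_mem_cancel_right _ (hKJ z.2)

theorem PS_mono {K J : Set ℕ} (h : K ⊆ J) : PS D F K ≤ PS D F J := fun g hg => by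
  rw [Subgroup.mem_subgroupOf] at hg ⊢
  rw [mem_parabolic_iff C S g] at hg ⊢
  exact WJ_mono C S h hg

theorem PS_out_iff (J : Set ℕ) (x : ↥(D.group F) ⧸ BS D F) : x.out ∈ PS D F J ↔ wq C S x ∈ WJ S J := by
  rw [Subgroup.mem_subgroupOf]
  exact out_mem_iff C S x

theorem card_fix {J K : Set ℕ} (hKJ : K ⊆ J) (b : ↥(BS D F)) :
    Nat.card {y : Y D F J K // (b : ↥(D.group F)) • y.1 = y.1} =
      Nat.card {x : ↥(D.group F) ⧸ BS D F //
        (b : ↥(D.group F)) • x = x ∧ PosOn S K (wq C S x) ∧ wq C S x ∈ WJ S J} := by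
  symm
  have hmem : ∀ x : {x : ↥(D.group F) ⧸ BS D F // PosOn S K (wq C S x)},
      (toP C S K x).out ∈ PS D F J ↔ wq C S x.1 ∈ WJ S J := fun x => by
    rw [toP, out_mem C S (PS_mono C S hKJ), PS_out_iff C S]
  refine Nat.card_eq_of_bijective (fun x => ⟨⟨toP C S K ⟨x.1, x.2.2.1⟩, (hmem _).2 x.2.2.2⟩, ?_⟩) ⟨?_, ?_⟩
  · show (b : ↥(D.group F)) • toP C S K ⟨x.1, x.2.2.1⟩ = _
    rw [← toP_smul C S K b x.1 x.2.2.1 (by rw [x.2.1]; exact x.2.2.1)]
    exact congrArg _ (Subtype.ext x.2.1)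
  · rintro ⟨x, hx⟩ ⟨x', hx'⟩ h
    have h2 := (toP_bij C S K).1 (congrArg (fun z => z.1.1) h)
    exact Subtype.ext (congrArg (fun z => z.val) h2)
  · rintro ⟨⟨y, hyJ⟩, hy⟩
    obtain ⟨⟨x, hx⟩, rfl⟩ := (toP_bij C S K).2 y
    refine ⟨⟨x, ?_, hx, (hmem ⟨x, hx⟩).1 hyJ⟩, rfl⟩
    simp only at hy
    rw [← toP_smul C S K b x hx (by rw [wq_smul]; exact hx)] at hy
    exact congrArg Subtype.val ((toP_bij C S K).1 hy)

theorem card_Y [Fintype S.X.W] {J K : Set ℕ} (hKJ : K ⊆ J) :
    Nat.card (Y D F J K) = ∑ w ∈ Finset.univ.filter (fun w => w ∈ WJ S J ∧ PosOn S K w),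
      Fintype.card F ^ S.X.inv w := by
  have h := card_fix C S hKJ (1 : ↥(BS D F))
  simp only [OneMemClass.coe_one, one_smul, true_and] at h
  rw [Nat.card_congr (Equiv.subtypeUnivEquiv (p := fun _ : Y D F J K => True) (fun _ => trivial))] at h
  rw [h]
  letI := Fintype.ofFinite (↥(D.group F) ⧸ BS D F)
  rw [Nat.card_eq_fintype_card, Fintype.card_subtype, Finset.card_eq_sum_card_fiberwise (f := wq C S)
    (t := Finset.univ.filter (fun w => w ∈ WJ S J ∧ PosOn S K w)) (fun x hx => by simp_all)]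
  refine Finset.sum_congr rfl fun w hw => ?_
  rw [Finset.mem_filter] at hw
  rw [← card_cell C S w, Nat.card_eq_fintype_card, Fintype.card_subtype, Finset.filter_filter]
  refine congrArg _ (Finset.filter_congr fun x _ => ⟨fun h => h.2, fun h => ⟨?_, h⟩⟩)
  rw [h]
  exact ⟨hw.2.2, hw.2.1⟩

theorem not_dvd_card_Y (J : Set ℕ) : ¬ p ∣ Nat.card (Y D F J ∅) := by
  haveI : Finite S.X.W := Finite.of_injective _ S.X.ρ_injective
  letI : Fintype S.X.W := Fintype.ofFinite _
  rw [card_Y C S (Set.empty_subset J)]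
  obtain ⟨n, _, hq⟩ := FiniteField.card F p
  rw [← Finset.sum_erase_add _ _ (show (1 : S.X.W) ∈ Finset.univ.filter (fun w => w ∈ WJ S J ∧ PosOn S ∅ w) by
    simp [one_mem, posOn_empty C S]), S.X.inv_eq_zero_iff.2 rfl, pow_zero]
  intro h
  have h1 : p ∣ ∑ w ∈ (Finset.univ.filter (fun w => w ∈ WJ S J ∧ PosOn S ∅ w)).erase 1,
      Fintype.card F ^ S.X.inv w := by
    refine Finset.dvd_sum fun w hw => dvd_pow (hq ▸ dvd_pow_self p n.pos.ne') ?_
    exact fun h0 => (Finset.mem_erase.1 hw).1 (S.X.inv_eq_zero_iff.1 h0)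
  exact (Fact.out : p.Prime).not_dvd_one ((Nat.dvd_add_right h1).1 h)

include p in
/-- a unipotent element of `P_J` is conjugate in `P_J` to an element of `U` -/
theorem exists_conj_U {J : Set ℕ} {g : ↥(D.group F)} (hg' : g ∈ PS D F J) (hu : Uni p g) :
    ∃ x ∈ PS D F J, ((x⁻¹ * g * x : ↥(D.group F)) : GL D.Idx F) ∈ D.posUnipotent F := by
  let P := PS D F J
  let B' := (BS D F).subgroupOf P
  have hBP : BS D F ≤ PS D F J := fun b hb => (le_sup_left : D.borelSubgroup F ≤ _) hb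
  have hcard : Nat.card (↥P ⧸ B') = Nat.card (Y D F J ∅) := by
    have hPe : PS D F ∅ = BS D F := by unfold PS BS; rw [parabolic_empty C S]
    refine Nat.card_eq_of_bijective (Quotient.lift
      (fun a : ↥P => (⟨((a : ↥(D.group F)) : ↥(D.group F) ⧸ PS D F ∅),
        (out_mem C S (PS_mono C S (Set.empty_subset J)) _).2 a.2⟩ : Y D F J ∅))
      (fun a b h => Subtype.ext ?_)) ⟨?_, ?_⟩
    · show ((a : ↥(D.group F)) : ↥(D.group F) ⧸ PS D F ∅) = ((b : ↥(D.group F)) : ↥(D.group F) ⧸ PS D F ∅)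
      rw [QuotientGroup.eq, hPe]
      have h' : a⁻¹ * b ∈ B' := QuotientGroup.leftRel_apply.1 h
      exact Subgroup.mem_subgroupOf.1 h'
    · intro a b
      induction a using Quotient.inductionOn with
      | h a =>
        induction b using Quotient.inductionOn with
        | h b =>
          intro h
          have h' : ((a : ↥(D.group F)) : ↥(D.group F) ⧸ PS D F ∅) = ((b : ↥(D.group F)) : ↥(D.group F) ⧸ PS D F ∅) :=
            congrArg Subtype.val h
          rw [QuotientGroup.eq, hPe] at h'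
          have h'' : a⁻¹ * b ∈ B' := Subgroup.mem_subgroupOf.2 h'
          exact Quotient.sound (QuotientGroup.leftRel_apply.2 h'')
    · rintro ⟨y, hy⟩
      exact ⟨Quotient.mk _ ⟨y.out, hy⟩, Subtype.ext (QuotientGroup.out_eq' y)⟩
  let g' : ↥P := ⟨g, hg'⟩
  obtain ⟨k, hk⟩ := hu
  have hP : IsPGroup p (Subgroup.zpowers g') := IsPGroup.of_card (n := k)
    (by rw [Nat.card_zpowers, ← Subgroup.orderOf_coe, hk])
  obtain ⟨y, hy⟩ := hP.nonempty_fixed_point_of_prime_not_dvd_card (↥P ⧸ B')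
    (by rw [hcard]; exact not_dvd_card_Y C S p J)
  induction y using QuotientGroup.induction_on with
  | H a =>
    have h := hy ⟨g', Subgroup.mem_zpowers g'⟩
    change g' • ((a : ↥P) : ↥P ⧸ B') = _ at h
    rw [MulAction.Quotient.smul_coe, QuotientGroup.eq] at h
    refine ⟨a, a.2, mem_U_of_uni C S p (by simpa using uni_conj p (a : ↥(D.group F))⁻¹ ⟨k, hk⟩) ?_⟩
    have h2 := inv_mem h
    simpa [B', g', Subgroup.mem_subgroupOf, mul_assoc] using h2

theorem fix_conj (J K : Set ℕ) {x : ↥(D.group F)} (hKJ : K ⊆ J) (hx : x ∈ PS D F J) (g : ↥(D.group F)) :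
    Nat.card {y : Y D F J K // g • y.1 = y.1} = Nat.card {y : Y D F J K // (x * g * x⁻¹) • y.1 = y.1} := by
  have hmem : ∀ z ∈ PS D F J, ∀ y : ↥(D.group F) ⧸ PS D F K, y.out ∈ PS D F J → (z • y).out ∈ PS D F J := by
    intro z hz y hy
    conv => arg 2; rw [← QuotientGroup.out_eq' y, MulAction.Quotient.smul_coe, smul_eq_mul]
    exact (out_mem C S (PS_mono C S hKJ) _).2 (mul_mem hz hy)
  refine Nat.card_congr
    { toFun := fun y => ⟨⟨x • y.1.1, hmem x hx _ y.1.2⟩, by
        show (x * g * x⁻¹) • x • y.1.1 = x • y.1.1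
        rw [smul_smul, inv_mul_cancel_right, mul_smul, y.2]⟩
      invFun := fun y => ⟨⟨x⁻¹ • y.1.1, hmem _ (inv_mem hx) _ y.1.2⟩, by
        show g • x⁻¹ • y.1.1 = x⁻¹ • y.1.1
        conv_rhs => rw [← y.2]
        rw [smul_smul, smul_smul, ← mul_assoc, ← mul_assoc, inv_mul_cancel, one_mul]⟩
      left_inv := fun y => by ext; simp
      right_inv := fun y => by ext; simp }

/-- the alternating sum relative to `P_J` on a unipotent element -/
theorem rel_U {J : Finset ℕ} (hJ : J ⊆ Finset.range D.rank) {u : ↥(D.group F)}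
    (hu : (u : GL D.Idx F) ∈ D.posUnipotent F) :
    ∑ K ∈ J.powerset, (-1 : ℤ) ^ K.card * (Nat.card {y : Y D F (↑J : Set ℕ) (↑K : Set ℕ) // u • y.1 = y.1} : ℤ) =
      if (u : GL D.Idx F) ∈ D.unipotentRadical F (↑J : Set ℕ) then
        (Fintype.card F : ℤ) ^ S.X.inv (lJ C S (↑J : Set ℕ)) else 0 := by
  letI := Fintype.ofFinite (↥(D.group F) ⧸ BS D F)
  set b : ↥(BS D F) := ⟨u, U_le_B hu⟩
  have hcard : ∀ K ∈ J.powerset, (Nat.card {y : Y D F (↑J : Set ℕ) (↑K : Set ℕ) // u • y.1 = y.1} : ℤ) =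
      ∑ x ∈ Finset.univ.filter (fun x : ↥(D.group F) ⧸ BS D F => u • x = x ∧ wq C S x ∈ WJ S (↑J : Set ℕ)),
        if PosOn S (↑K : Set ℕ) (wq C S x) then (1 : ℤ) else 0 := by
    intro K hK
    refine (congrArg (fun z : ℕ => (z : ℤ)) (card_fix C S (Finset.coe_subset.2 (Finset.mem_powerset.1 hK)) b)).trans ?_
    rw [Finset.sum_boole, Finset.filter_filter, Nat.card_eq_fintype_card, Fintype.card_subtype]
    refine congrArg (fun s : Finset (↥(D.group F) ⧸ BS D F) => (s.card : ℤ)) (Finset.filter_congr fun x _ => ?_)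
    exact ⟨fun h => ⟨⟨h.1, h.2.2⟩, h.2.1⟩, fun h => ⟨h.1.1, h.2, h.1.2⟩⟩
  rw [Finset.sum_congr rfl fun K hK => by rw [hcard K hK]]
  simp only [Finset.mul_sum, mul_ite, mul_one, mul_zero]
  rw [Finset.sum_comm]
  have hin : ∀ w ∈ WJ S (↑J : Set ℕ),
      (∑ K ∈ J.powerset, if PosOn S (↑K : Set ℕ) w then (-1 : ℤ) ^ K.card else 0) =
        if w = lJ C S (↑J : Set ℕ) then 1 else 0 := by
    intro w hw
    set pos := J.filter fun k => D.IsPosRoot (S.X.img w (D.simple k))
    have hp : ∀ K ∈ J.powerset, (PosOn S (↑K : Set ℕ) w ↔ K ⊆ pos) := fun K hK =>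
      ⟨fun h k hk => Finset.mem_filter.mpr ⟨Finset.mem_powerset.1 hK hk,
        h ⟨k, Finset.mem_range.1 (hJ (Finset.mem_powerset.1 hK hk))⟩ hk⟩,
       fun h i hi => (Finset.mem_filter.1 (h hi)).2⟩
    rw [Finset.sum_congr rfl fun K hK => by rw [if_congr (hp K hK) rfl rfl], ← Finset.sum_filter,
      show J.powerset.filter (· ⊆ pos) = pos.powerset by
        ext K; simp only [Finset.mem_filter, Finset.mem_powerset]
        exact ⟨fun h => h.2, fun h => ⟨h.trans (Finset.filter_subset _ _), h⟩⟩,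
      Finset.sum_powerset_neg_one_pow_card]
    refine if_congr ⟨fun h => ?_, fun h => ?_⟩ rfl rfl
    · refine negOn_unique C S hw (lJ_mem C S _) (fun i hi => ?_) (lJ_neg C S _)
      refine (S.X.pos_or_neg (S.X.img_lt _ (S.X.simple_lt i.isLt))).resolve_left fun hq => ?_
      have hm : i.val ∈ pos := Finset.mem_filter.mpr ⟨hi, hq⟩
      rw [h] at hm
      exact Finset.notMem_empty _ hm
    · refine Finset.filter_eq_empty_iff.2 fun k hk hq => ?_
      exact S.X.not_pos_and_neg hq (h ▸ lJ_neg C S _ ⟨k, Finset.mem_range.1 (hJ hk)⟩ hk)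
  rw [Finset.sum_congr rfl fun x hx => hin _ (Finset.mem_filter.1 hx).2.2, Finset.sum_boole, Finset.filter_filter]
  obtain ⟨n, hn⟩ := S.toW_surjective (lJ C S (↑J : Set ℕ))
  have hfil : Finset.univ.filter (fun x : ↥(D.group F) ⧸ BS D F => (u • x = x ∧ wq C S x ∈ WJ S (↑J : Set ℕ)) ∧
      wq C S x = lJ C S (↑J : Set ℕ)) =
      if (u : GL D.Idx F) ∈ D.unipotentRadical F (↑J : Set ℕ) then
        Finset.univ.filter (fun x => wq C S x = lJ C S (↑J : Set ℕ)) else ∅ := by
    split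
    · rename_i hR
      refine Finset.filter_congr fun x _ => ⟨fun h => h.2, fun h => ⟨⟨?_, by rw [h]; exact lJ_mem C S _⟩, h⟩⟩
      conv_lhs => rw [← QuotientGroup.out_eq' x]
      conv_rhs => rw [← QuotientGroup.out_eq' x]
      rw [MulAction.Quotient.smul_coe, QuotientGroup.eq, Subgroup.mem_subgroupOf]
      have hP : ((x.out : ↥(D.group F)) : GL D.Idx F) ∈ D.parabolicSubgroup F (↑J : Set ℕ) :=
        (out_mem_iff C S x).2 (by rw [h]; exact lJ_mem C S _)
      simp only [smul_eq_mul, mul_inv_rev, Subgroup.coe_mul, Subgroup.coe_inv]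
      exact U_le_B (radical_le_U C S _ (radical_normal' C S hP (inv_mem hR)))
    · rename_i hR
      refine Finset.filter_eq_empty_iff.2 fun x _ h => hR ?_
      obtain ⟨⟨h1, -⟩, h2⟩ := h
      obtain ⟨v, hv⟩ := (cell_param C S n).2 ⟨x, h2.trans hn.symm⟩
      have hx : _ = x := congrArg Subtype.val hv
      subst hx
      simp only [MulAction.Quotient.smul_coe, QuotientGroup.eq, Subgroup.mem_subgroupOf, smul_eq_mul,
        mul_inv_rev, Subgroup.coe_mul, Subgroup.coe_inv] at h1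
      have hv' : (v : GL D.Idx F) ∈ D.posUnipotent F := S.Uw_le_U _ v.2
      have h3 := mem_radical_of_conj C S hn
        (u := (v : GL D.Idx F)⁻¹ * (u : GL D.Idx F)⁻¹ * v)
        (mul_mem (mul_mem (inv_mem hv') (inv_mem hu)) hv') (by simpa [mul_assoc] using h1)
      have h4 := radical_normal C S (J := (↑J : Set ℕ)) ((le_trans U_le_B le_sup_left) hv') h3
      simpa [mul_assoc] using h4
  rw [hfil]
  split
  · have := card_cell C S (lJ C S (↑J : Set ℕ))
    rw [Nat.card_eq_fintype_card, Fintype.card_subtype] at this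
    rw [this, Nat.cast_pow]
  · simp

include p in
/-- the alternating sum relative to `P_J` on a unipotent element of `P_J` -/
theorem rel_uni {J : Finset ℕ} (hJ : J ⊆ Finset.range D.rank) {g : ↥(D.group F)}
    (hg' : g ∈ PS D F (↑J : Set ℕ)) (hu : Uni p g) :
    ∑ K ∈ J.powerset, (-1 : ℤ) ^ K.card * (Nat.card {y : Y D F (↑J : Set ℕ) (↑K : Set ℕ) // g • y.1 = y.1} : ℤ) =
      if (g : GL D.Idx F) ∈ D.unipotentRadical F (↑J : Set ℕ) then
        (Fintype.card F : ℤ) ^ S.X.inv (lJ C S (↑J : Set ℕ)) else 0 := by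
  obtain ⟨x, hx, hU⟩ := exists_conj_U C S p hg' hu
  rw [Finset.sum_congr rfl fun K hK => by
    rw [fix_conj C S _ _ (Finset.coe_subset.2 (Finset.mem_powerset.1 hK)) (inv_mem hx) g, inv_inv],
    rel_U C S hJ hU]
  refine if_congr ⟨fun h => ?_, fun h => ?_⟩ rfl rfl
  · simpa [mul_assoc] using radical_normal C S (Subgroup.mem_subgroupOf.1 hx) h
  · simpa [mul_assoc] using radical_normal' C S (Subgroup.mem_subgroupOf.1 hx) h

include p in
/-- the number of unipotent elements of `P_J` -/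
theorem card_uni : ∀ J : Finset ℕ, J ⊆ Finset.range D.rank →
    (Nat.card {g : ↥(D.group F) // Uni p g ∧ g ∈ PS D F (↑J : Set ℕ)} : ℤ) =
      (Fintype.card F : ℤ) ^ (D.nroots / 2) * (Fintype.card F : ℤ) ^ S.X.inv (lJ C S (↑J : Set ℕ)) := by
  haveI : Finite S.X.W := Finite.of_injective _ S.X.ρ_injective
  letI : Fintype S.X.W := Fintype.ofFinite _
  intro J
  induction J using Finset.strongInduction with
  | _ J ih =>
    intro hJ
    set q : ℤ := (Fintype.card F : ℤ) with hq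
    letI : Fintype ↥(D.group F) := Fintype.ofFinite _
    set A := Finset.univ.filter (fun g : ↥(D.group F) => Uni p g ∧ g ∈ PS D F (↑J : Set ℕ)) with hA
    have hpair : ∀ K ∈ J.powerset, ∑ g ∈ A, (Nat.card {y : Y D F (↑J : Set ℕ) (↑K : Set ℕ) // g • y.1 = y.1} : ℤ) =
        (Nat.card (Y D F (↑J : Set ℕ) (↑K : Set ℕ)) : ℤ) *
          (Nat.card {g : ↥(D.group F) // Uni p g ∧ g ∈ PS D F (↑K : Set ℕ)} : ℤ) := by
      intro K hK
      have hsub := PS_mono C S (F := F) (Finset.coe_subset.2 (Finset.mem_powerset.1 hK))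
      letI := Fintype.ofFinite (Y D F (↑J : Set ℕ) (↑K : Set ℕ))
      rw [Nat.card_eq_fintype_card (α := Y D F (↑J : Set ℕ) (↑K : Set ℕ)), ← Finset.card_univ]
      simp only [Nat.card_eq_fintype_card, Fintype.card_subtype, Finset.card_filter, Nat.cast_sum]
      rw [Finset.sum_comm, Finset.card_eq_sum_ones, Nat.cast_sum, Finset.sum_mul]
      refine Finset.sum_congr rfl fun y _ => ?_
      rw [Nat.cast_one, one_mul]
      simp only [Nat.cast_ite, Nat.cast_one, Nat.cast_zero, Finset.sum_boole]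
      refine congrArg (fun z : ℕ => (z : ℤ)) ?_
      have hconj : ∀ g, g • y.1 = y.1 ↔ y.1.out⁻¹ * g * y.1.out ∈ PS D F (↑K : Set ℕ) := by
        intro g
        conv_lhs => rw [← QuotientGroup.out_eq' y.1]
        rw [MulAction.Quotient.smul_coe, QuotientGroup.eq, smul_eq_mul, ← Subgroup.inv_mem_iff]
        simp [mul_assoc]
      refine Finset.card_bij (fun g _ => y.1.out⁻¹ * g * y.1.out) ?_ ?_ ?_
      · intro g hg''
        simp only [hA, Finset.mem_filter, Finset.mem_univ, true_and] at hg'' ⊢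
        refine ⟨by simpa using uni_conj p y.1.out⁻¹ hg''.1.1, (hconj g).1 hg''.2⟩
      · exact fun a _ b _ h => mul_left_cancel (mul_right_cancel h)
      · intro h hh
        simp only [Finset.mem_filter, Finset.mem_univ, true_and] at hh
        refine ⟨y.1.out * h * y.1.out⁻¹, ?_, by group⟩
        simp only [hA, Finset.mem_filter, Finset.mem_univ, true_and]
        refine ⟨⟨uni_conj p _ hh.1, mul_mem (mul_mem y.2 (hsub hh.2)) (inv_mem y.2)⟩, (hconj _).2 ?_⟩
        simpa [mul_assoc] using hh.2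
    have hsum : ∑ K ∈ J.powerset, (-1 : ℤ) ^ K.card * ((Nat.card (Y D F (↑J : Set ℕ) (↑K : Set ℕ)) : ℤ) *
        (Nat.card {g : ↥(D.group F) // Uni p g ∧ g ∈ PS D F (↑K : Set ℕ)} : ℤ)) = q ^ (D.nroots / 2) := by
      rw [Finset.sum_congr rfl fun K hK => by rw [← hpair K hK, Finset.mul_sum], Finset.sum_comm,
        Finset.sum_congr rfl fun g hg'' => rel_uni C S p hJ (Finset.mem_filter.1 hg'').2.2 (Finset.mem_filter.1 hg'').2.1,
        ← Finset.sum_filter, Finset.sum_const, nsmul_eq_mul]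
      have hfil : ((A.filter fun g : ↥(D.group F) => (g : GL D.Idx F) ∈ D.unipotentRadical F (↑J : Set ℕ)).card) =
          Nat.card ↥(D.unipotentRadical F (↑J : Set ℕ)) := by
        have hR : D.unipotentRadical F (↑J : Set ℕ) ≤ D.group F := le_trans (radical_le_U C S _) S.U_le_group
        rw [← Nat.card_congr (Subgroup.subgroupOfEquivOfLe hR).toEquiv, Nat.card_eq_fintype_card]
        refine (Fintype.card_of_subtype _ fun g => ?_).symm
        simp only [hA, Finset.mem_filter, Finset.mem_univ, true_and]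
        rw [Subgroup.mem_subgroupOf]
        exact ⟨fun h => h.2, fun h => ⟨⟨uni_of_mem_U C S p (radical_le_U C S _ h), radical_le_parabolic C S _ h⟩, h⟩⟩
      rw [hfil, hq, ← Nat.cast_pow, ← Nat.cast_mul, card_radical C S, Nat.cast_pow]
    have hY : ∀ K ∈ J.powerset, (Nat.card (Y D F (↑J : Set ℕ) (↑K : Set ℕ)) : ℤ) =
        ∑ w ∈ Finset.univ.filter (fun w => w ∈ WJ S (↑J : Set ℕ) ∧ PosOn S (↑K : Set ℕ) w), q ^ S.X.inv w := by
      intro K hK
      rw [card_Y C S (Finset.coe_subset.2 (Finset.mem_powerset.1 hK)), Nat.cast_sum]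
      simp only [Nat.cast_pow, hq]
    have hone : (Nat.card (Y D F (↑J : Set ℕ) (↑J : Set ℕ)) : ℤ) = 1 := by
      rw [hY J (Finset.mem_powerset_self J), Finset.sum_eq_single (1 : S.X.W)]
      · rw [S.X.inv_eq_zero_iff.2 rfl, pow_zero]
      · intro w hw hne
        rw [Finset.mem_filter] at hw
        exact absurd (eq_one_of_posOn C S hw.2.1 hw.2.2) hne
      · intro h
        refine absurd (Finset.mem_filter.2 ⟨Finset.mem_univ _, one_mem _, fun i _ => ?_⟩) h
        rw [S.X.img_one]; exact S.X.simple_pos i.isLt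
    have halt := congrArg (fun z : ℤ => q ^ (D.nroots / 2) * z) (poincare_alt C S q hJ)
    simp only [mul_one, Finset.mul_sum (a := q ^ (D.nroots / 2))] at halt
    rw [Finset.sum_congr rfl fun K hK => by rw [← hY K hK]] at halt
    rw [← Finset.sum_erase_add _ _ (Finset.mem_powerset_self J), hone] at halt hsum
    have hrest : ∑ K ∈ J.powerset.erase J, (-1 : ℤ) ^ K.card * ((Nat.card (Y D F (↑J : Set ℕ) (↑K : Set ℕ)) : ℤ) *
        (Nat.card {g : ↥(D.group F) // Uni p g ∧ g ∈ PS D F (↑K : Set ℕ)} : ℤ)) =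
        ∑ K ∈ J.powerset.erase J, q ^ (D.nroots / 2) * ((-1 : ℤ) ^ K.card *
          (q ^ S.X.inv (lJ C S (↑K : Set ℕ)) * (Nat.card (Y D F (↑J : Set ℕ) (↑K : Set ℕ)) : ℤ))) := by
      refine Finset.sum_congr rfl fun K hK => ?_
      rw [Finset.mem_erase, Finset.mem_powerset] at hK
      rw [ih K (Finset.ssubset_iff_subset_ne.2 ⟨hK.2, hK.1⟩) (hK.2.trans hJ)]
      ring
    rw [hrest] at hsum
    have hne : ((-1 : ℤ) ^ J.card) ≠ 0 := pow_ne_zero _ (by norm_num)
    refine mul_left_cancel₀ hne ?_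
    linear_combination hsum - halt

theorem group_le_parabolic : D.group F ≤ D.parabolicSubgroup F (↑(Finset.range D.rank) : Set ℕ) := by
  rw [S.group_eq, Subgroup.closure_le]
  rintro g ⟨r, t, hr, rfl⟩
  rw [ChevalleyParabolicBN.sys_xg C S]
  exact ChevalleyParabolic.root_mem_parabolic C (Or.inr ⟨hr, fun i hi hni => absurd (by simpa using hi) hni⟩) t

include p in
/-- the number of unipotent elements -/
theorem card_uni_all :
    Nat.card {g : ↥(D.group F) // Uni p g} = Fintype.card F ^ (2 * (D.nroots / 2)) := by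
  have h := card_uni C S p _ (Finset.Subset.refl (Finset.range D.rank))
  have hR : D.unipotentRadical F (↑(Finset.range D.rank) : Set ℕ) = ⊥ := by
    rw [ChevalleyParabolic.radical_eq C, Subgroup.closure_eq_bot_iff]
    rintro g ⟨r, t, ⟨hr, hJ⟩, -⟩
    exact absurd ⟨hr.1, fun i hi hni => absurd (by simpa using hi) hni⟩ hJ
  have h2 := card_radical C S (↑(Finset.range D.rank) : Set ℕ)
  rw [hR, Subgroup.card_bot, one_mul] at h2
  rw [← Nat.cast_pow, ← Nat.cast_pow, ← Nat.cast_mul, Nat.cast_inj, h2, ← pow_add, ← two_mul] at h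
  rw [← h]
  exact Nat.card_congr (Equiv.subtypeEquivRight fun g =>
    ⟨fun hu => ⟨hu, Subgroup.mem_subgroupOf.2 (group_le_parabolic C S g.2)⟩, fun hu => hu.1⟩)

end Cfsg.Agent.ChevalleyUnipotentCount
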