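import Cfsg.Agent.Lib.ChevalleyModularOps

/-!
The weights of the irreducible representations of a Chevalley group in the defining characteristic: each has a
line of `U`-fixed vectors, an eigenline of `H` and of the Hecke operators, and is determined by the eigenvalues.
-/

set_option autoImplicit false
set_option linter.unusedSectionVars false
set_option linter.unusedSimpArgs false
set_option linter.unusedFintypeInType false

namespace Cfsg.Agent.ChevalleyWeights

open Cfsg.Lie Cfsg.Agent.ChevalleyCert Cfsg.Agent.ChevBruhat Cfsg.Agent.ChevBruhat.Sys Cfsg.Agent.ChevalleyCells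
open Cfsg.Agent.ChevalleyRelative Cfsg.Agent.ChevalleyModularOps Cfsg.Agent.BlockPrime86
open scoped Classical

variable {D : ChevalleyDatum} {F : Type*} [Field F] [Fintype F] (C : Cert D) (S : ChevBruhat.Sys D F)
variable {k : Type*} [Field k] {V : Type*} [AddCommGroup V] [Module k V]
variable (ρ : ↥(D.group F) →* Module.End k V)

local notation "N₀" => D.monomialSubgroup F

/-- a weight vector with character `χ` and set `A` -/
structure IsParam (χ : ↥(D.diagonalSubgroup F) →* k) (A : Finset (Fin D.rank)) (x : V) : Prop where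
  ne : x ≠ 0
  eig : Eig ρ χ x
  op : ∀ i, T S ρ i x = (if i ∈ A then (-1 : k) else 0) • x
  triv : ∀ i ∈ A, χ.comp (hh C i) = 1

/-- `n⁻¹ h n` as an endomorphism of `H` -/
noncomputable def conjH (n : ↥N₀) : ↥(D.diagonalSubgroup F) →* ↥(D.diagonalSubgroup F) :=
  MonoidHom.mk' (fun h => ⟨(n : GL D.Idx F)⁻¹ * h * n, by
      simpa using S.conj_H (S.acts_toW n⁻¹) h.2⟩)
    fun a b => Subtype.ext (by simp [mul_assoc])

include C S

theorem Psi_eig (n : ↥N₀) {χ : ↥(D.diagonalSubgroup F) →* k} {x : V} (hx : Eig ρ χ x) :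
    Eig ρ (χ.comp (conjH S n)) (Psi S ρ n x) := by
  refine ⟨Psi_fixed C S ρ _ n rfl x hx.1, fun h => ?_⟩
  rw [← Module.End.mul_apply, act_H_Psi C S ρ h.2 n, Module.End.mul_apply,
    show (n : GL D.Idx F)⁻¹ * h * n = ((conjH S n h : ↥(D.diagonalSubgroup F)) : GL D.Idx F) from rfl,
    hx.2, map_smul]
  rfl

/-- some vector is fixed by `U` -/
theorem exists_fixed (p : ℕ) [Fact p.Prime] [CharP F p] [CharP k p] [Nontrivial V] :
    ∃ x : V, x ≠ 0 ∧ Fixed ρ x := by
  obtain ⟨v, hv0⟩ := exists_ne (0 : V)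
  set U := D.posUnipotent F
  let ψ : (↥U → ZMod p) →+ V :=
    { toFun := fun f => ∑ u : ↥U, ((ZMod.castHom (dvd_refl p) k) (f u)) • act ρ (u : GL D.Idx F) v
      map_zero' := by simp
      map_add' := fun f g => by simp [add_smul, Finset.sum_add_distrib] }
  haveI : NeZero p := ⟨(Fact.out : p.Prime).ne_zero⟩
  have hψ : ∀ f, ψ f = ∑ u : ↥U, ((ZMod.castHom (dvd_refl p) k) (f u)) • act ρ (u : GL D.Idx F) v := fun f => rfl
  clear_value ψ
  set W := ψ.range
  haveI : Finite W := Finite.of_surjective ψ.rangeRestrict ψ.rangeRestrict_surjective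
  have hst : ∀ u : ↥U, ∀ y ∈ W, act ρ (u : GL D.Idx F) y ∈ W := by
    rintro u _ ⟨f, rfl⟩
    refine ⟨fun a => f (u⁻¹ * a), ?_⟩
    simp only [hψ, map_sum, map_smul]
    rw [← Equiv.sum_comp (Equiv.mulLeft u)]
    refine Fintype.sum_congr _ _ fun a => ?_
    simp only [Equiv.coe_mulLeft, inv_mul_cancel_left, Subgroup.coe_mul]
    rw [act_mul_apply ρ (S.U_le_group u.2) (S.U_le_group a.2)]
  letI : MulAction ↥U W :=
    { smul := fun u y => ⟨act ρ (u : GL D.Idx F) y.1, hst u y.1 y.2⟩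
      one_smul := fun y => Subtype.ext (LinearMap.congr_fun (act_one ρ) y.1)
      mul_smul := fun a b y => Subtype.ext (act_mul_apply ρ (S.U_le_group a.2) (S.U_le_group b.2) y.1) }
  obtain ⟨n, _, hq⟩ := FiniteField.card F p
  have hU : IsPGroup p ↥U := IsPGroup.of_card (n := (n : ℕ) * (D.nroots / 2))
    (by rw [ChevalleyUnipotent.card_U C, hq, pow_mul])
  have hv : v ∈ W := ⟨Pi.single 1 1, by
    rw [hψ]
    rw [Finset.sum_eq_single 1]
    · simp [act_one]
    · intro b _ hb; rw [Pi.single_eq_of_ne hb, map_zero, zero_smul]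
    · simp⟩
  have hne : (⟨v, hv⟩ : W) ≠ 0 := fun h => hv0 (congrArg Subtype.val h)
  have hord : addOrderOf (⟨v, hv⟩ : W) = p := by
    refine addOrderOf_eq_prime (Subtype.ext ?_) hne
    show p • v = 0
    rw [← Nat.cast_smul_eq_nsmul k, CharP.cast_eq_zero k p, zero_smul]
  have hdvd : p ∣ Nat.card W := hord ▸ addOrderOf_dvd_natCard (⟨v, hv⟩ : W)
  have h0 : (0 : W) ∈ MulAction.fixedPoints ↥U W := fun u => Subtype.ext (map_zero _)
  obtain ⟨y, hy, hy0⟩ := hU.exists_fixed_point_of_prime_dvd_card_of_fixed_point W hdvd h0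
  refine ⟨y.1, fun h => hy0 (Subtype.ext h.symm), fun u hu => congrArg Subtype.val (hy ⟨u, hu⟩)⟩

section
variable (p : ℕ) [Fact p.Prime] [CharP F p] [CharP k p] [IsAlgClosed k]

include p in
/-- some fixed vector is an eigenvector of `H` -/
theorem exists_eig [FiniteDimensional k V] [Nontrivial V] : ∃ χ, ∃ y : V, y ≠ 0 ∧ Eig ρ χ y := by
  let Good : Submodule k V → Prop := fun E => E ≠ ⊥ ∧ (∀ y ∈ E, Fixed ρ y) ∧
    ∀ h ∈ D.diagonalSubgroup F, ∀ y ∈ E, act ρ h y ∈ E
  obtain ⟨x, hx0, hx⟩ := exists_fixed C S ρ p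
  let Fx : Submodule k V :=
    { carrier := {x | Fixed ρ x}
      zero_mem' := fun u _ => map_zero _
      add_mem' := fun {x y} hx hy u hu => by rw [map_add, hx u hu, hy u hu]
      smul_mem' := fun a x hx u hu => by rw [map_smul, hx u hu] }
  obtain ⟨E, ⟨hE0, hEf, hEs⟩, hmin⟩ := wellFounded_lt.has_min {E | Good E}
    ⟨Fx, fun h => hx0 ((Submodule.eq_bot_iff _).1 h x hx), fun y hy => hy, fun h hh y hy => fixed_act_H C S ρ hh hy⟩
  haveI : Nontrivial E := Submodule.nontrivial_iff_ne_bot.2 hE0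
  have key : ∀ h : ↥(D.diagonalSubgroup F), ∃ c : k, ∀ y ∈ E, act ρ (h : GL D.Idx F) y = c • y := by
    intro h
    obtain ⟨c, hc⟩ := Module.End.exists_eigenvalue ((act ρ (h : GL D.Idx F)).restrict (hEs _ h.2))
    obtain ⟨y, hy⟩ := hc.exists_hasEigenvector
    refine ⟨c, ?_⟩
    let E' : Submodule k V := E ⊓ Module.End.eigenspace (act ρ (h : GL D.Idx F)) c
    have hy' : (y : V) ∈ E' := Submodule.mem_inf.2 ⟨y.2, Module.End.mem_eigenspace_iff.2
      (congrArg Subtype.val (Module.End.mem_eigenspace_iff.1 hy.1) : _)⟩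
    have hG : Good E' := by
      refine ⟨fun hb => hy.2 (Subtype.ext ((Submodule.eq_bot_iff _).1 hb _ hy')),
        fun z hz => hEf z (Submodule.mem_inf.1 hz).1, fun g hg z hz => ?_⟩
      obtain ⟨h1, h2⟩ := Submodule.mem_inf.1 hz
      refine Submodule.mem_inf.2 ⟨hEs g hg z h1, Module.End.mem_eigenspace_iff.2 ?_⟩
      rw [← act_mul_apply ρ (S.H_le_group h.2) (S.H_le_group hg), ChevalleyTorus.H_comm C h.2 hg,
        act_mul_apply ρ (S.H_le_group hg) (S.H_le_group h.2), Module.End.mem_eigenspace_iff.1 h2, map_smul]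
    have hEE : E' = E := by
      by_contra hne
      exact hmin E' hG (lt_of_le_of_ne inf_le_left hne)
    intro z hz
    exact Module.End.mem_eigenspace_iff.1 (Submodule.mem_inf.1 (hEE.ge hz)).2
  choose c hc using key
  obtain ⟨y, hyE, hy0⟩ := Submodule.exists_mem_ne_zero_of_ne_bot hE0
  refine ⟨MonoidHom.mk ⟨c, smul_left_injective k hy0 ?_⟩ fun a b => smul_left_injective k hy0 ?_, y, hy0,
    hEf y hyE, fun h => hc h y hyE⟩
  · show c 1 • y = (1 : k) • y
    rw [← hc 1 y hyE, Subgroup.coe_one, act_one ρ, one_smul]; rfl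
  · show c (a * b) • y = (c a * c b) • y
    rw [← hc _ y hyE, Subgroup.coe_mul, act_mul_apply ρ (S.H_le_group a.2) (S.H_le_group b.2), hc b y hyE,
      map_smul, hc a y hyE, smul_smul, mul_comm]

include p in
/-- some vector is a weight vector -/
theorem exists_param [FiniteDimensional k V] [Nontrivial V] : ∃ χ A, ∃ x : V, IsParam C S ρ χ A x := by
  obtain ⟨χ, y, hy0, hy⟩ := exists_eig C S ρ p
  haveI : Finite S.X.W := Finite.of_injective _ S.X.ρ_injective
  letI : Fintype S.X.W := Fintype.ofFinite _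
  obtain ⟨w, hw, hmax⟩ := Finset.exists_max_image
    (Finset.univ.filter fun w : S.X.W => ∃ n, S.toW n = w ∧ Psi S ρ n y ≠ 0) S.X.inv
    ⟨1, Finset.mem_filter.2 ⟨Finset.mem_univ _, 1, map_one _, by
      rw [Psi_H C S ρ 1 (map_one _), Subgroup.coe_one, act_one ρ]; exact hy0⟩⟩
  obtain ⟨n, rfl, hn⟩ := (Finset.mem_filter.1 hw).2
  set χ' := χ.comp (conjH S n)
  have hx : Eig ρ χ' (Psi S ρ n y) := Psi_eig C S ρ n hy
  have key : ∀ i, T S ρ i (Psi S ρ n y) = 0 ∨
      T S ρ i (Psi S ρ n y) = cval C χ' i • Psi S ρ n y := by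
    intro i
    rcases S.X.pos_or_neg (S.X.img_lt (S.toW n)⁻¹ (S.X.simple_lt i.isLt)) with hpos | hneg
    · left
      by_contra hne
      rw [← Module.End.mul_apply, ← Psi_step C S ρ i n hpos] at hne
      have := hmax _ (Finset.mem_filter.2 ⟨Finset.mem_univ _, _, rfl, hne⟩)
      rw [map_mul, S.toW_sN, S.X.inv_simple_mul_of_pos i hpos] at this
      omega
    · right
      obtain ⟨-, hpos, -, -⟩ := S.invSet_step i hneg
      have hw' : S.toW ((S.sN i)⁻¹ * n) = S.X.C.simple i * S.toW n := by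
        rw [map_mul, map_inv, S.toW_sN, inv_eq_of_mul_eq_one_right (simple_mul_self C S i)]
      rw [← hw'] at hpos
      have e := Psi_step C S ρ i ((S.sN i)⁻¹ * n) hpos
      rw [mul_inv_cancel_left] at e
      rw [e, Module.End.mul_apply] at hx ⊢
      exact T_on_image C S ρ p i (Psi_fixed C S ρ _ _ rfl y hy.1) hx
  refine ⟨χ', Finset.univ.filter fun i => T S ρ i (Psi S ρ n y) ≠ 0, _, hn, hx, fun i => ?_, fun i hi => ?_⟩
  · by_cases h : T S ρ i (Psi S ρ n y) = 0
    · simp [h]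
    · rw [if_pos (by simpa using h)]
      have h2 := (key i).resolve_left h
      rw [cval] at h2
      split_ifs at h2 with h3
      · exact h2
      · exact absurd (h2.trans (zero_smul k _)) h
  · have h := (Finset.mem_filter.1 hi).2
    by_contra h3
    have h2 := (key i).resolve_left h
    rw [cval, if_neg h3, zero_smul] at h2
    exact h h2

end

/-! ### the span of the translates by `U n₀` -/

theorem simple_of_inv_one {w : S.X.W} (h : S.X.inv w = 1) : ∃ j : Fin D.rank, w = S.X.C.simple j := by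
  obtain ⟨j, hj⟩ := S.X.exists_descent (w := w) (by rintro rfl; rw [S.X.inv_eq_zero_iff.2 rfl] at h; omega)
  have := S.X.inv_simple_mul_of_neg j hj
  refine ⟨j, ?_⟩
  have h1 : S.X.C.simple j * w = 1 := S.X.inv_eq_zero_iff.1 (by omega)
  rw [← inv_eq_of_mul_eq_one_right h1, inv_eq_of_mul_eq_one_right (simple_mul_self C S j)]

theorem long_inv {w : S.X.W} (hw : ∀ r, D.IsPosRoot r → D.IsNegRoot (S.X.img w r)) :
    ∀ r, D.IsPosRoot r → D.IsNegRoot (S.X.img w⁻¹ r) := by
  intro r hr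
  refine (S.X.pos_or_neg (S.X.img_lt _ hr.1)).resolve_left fun hp => ?_
  have := hw _ hp
  rw [S.X.img_img_inv] at this
  exact S.X.not_pos_and_neg hr this

theorem neg_pos_long {w : S.X.W} (hw : ∀ r, D.IsPosRoot r → D.IsNegRoot (S.X.img w r)) (i : Fin D.rank) :
    D.IsPosRoot (S.X.img w (D.neg (D.simple i))) := by
  have hp := S.X.simple_pos i.isLt
  rw [S.X.img_neg _ hp.1, S.X.pos_neg_iff (S.X.img_lt _ hp.1)]
  exact hw _ hp

/-- the longest element permutes the fundamental reflections -/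
theorem long_conj {w : S.X.W} (hw : ∀ r, D.IsPosRoot r → D.IsNegRoot (S.X.img w r)) (i : Fin D.rank) :
    ∃ j : Fin D.rank, S.X.C.simple i * w = w * S.X.C.simple j := by
  have hp := S.X.simple_pos i.isLt
  have hset : S.X.invSet (w⁻¹ * S.X.C.simple i * w) = {S.X.img w⁻¹ (D.neg (D.simple i))} := by
    ext r
    rw [S.X.mem_invSet, Finset.mem_singleton, S.X.img_mul, S.X.img_mul]
    constructor
    · rintro ⟨hr, hn⟩
      by_contra hne
      have h1 := hw r hr
      have h2 : D.IsNegRoot (D.reflectRoot i (S.X.img w r)) := (S.X.neg_reflect i.isLt h1.1).2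
        (Or.inl ⟨h1, fun he => hne (by rw [← he, S.X.img_inv_img])⟩)
      rw [← S.X.img_simple i h1.1] at h2
      have h3 := (long_inv C S hw) _ ((S.X.pos_neg_iff h2.1).2 h2)
      rw [S.X.img_neg _ h2.1] at h3
      exact S.X.not_pos_and_neg ((S.X.pos_neg_iff (S.X.img_lt _ h2.1)).2 hn) h3
    · rintro rfl
      refine ⟨neg_pos_long C S (long_inv C S hw) i, ?_⟩
      rw [S.X.img_img_inv, S.X.img_simple i (C.neg_lt _), (S.X.root_facts' hp.1 i.isLt).2.2.2.1,
        S.X.reflect_simple i.isLt, (S.X.root_facts hp.1).2.1]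
      exact long_inv C S hw _ hp
  obtain ⟨j, hj⟩ := simple_of_inv_one C S (w := w⁻¹ * S.X.C.simple i * w)
    (by rw [ChevWeyl.Weyl.inv, hset, Finset.card_singleton])
  exact ⟨j, by rw [← hj]; group⟩

/-- the span of the translates of `x` by `U n₀` -/
def M₀ (n₀ : ↥N₀) (x : V) : Submodule k V :=
  Submodule.span k (Set.range fun u : ↥(D.posUnipotent F) => act ρ ((u : GL D.Idx F) * (n₀ : GL D.Idx F)) x)

theorem M₀_stable {n₀ : ↥N₀} (h₀ : ∀ r, D.IsPosRoot r → D.IsNegRoot (S.X.img (S.toW n₀) r))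
    {χ : ↥(D.diagonalSubgroup F) →* k} {c : Fin D.rank → k} {x : V} (hx : Eig ρ χ x)
    (hT : ∀ i, T S ρ i x = c i • x) (g : ↥(D.group F)) {y : V} (hy : y ∈ M₀ ρ n₀ x) : ρ g y ∈ M₀ ρ n₀ x := by
  set M := M₀ ρ n₀ x with hM
  have hN := S.N_le_group n₀.2
  have gen : ∀ u ∈ D.posUnipotent F, act ρ (u * (n₀ : GL D.Idx F)) x ∈ M := fun u hu =>
    Submodule.subset_span ⟨⟨u, hu⟩, rfl⟩
  have lift : ∀ g ∈ D.group F, (∀ u ∈ D.posUnipotent F, act ρ g (act ρ (u * (n₀ : GL D.Idx F)) x) ∈ M) →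
      ∀ y ∈ M, act ρ g y ∈ M := by
    intro g _ h y hy
    refine (Submodule.span_le.2 ?_ : M ≤ M.comap (act ρ g)) hy
    rintro _ ⟨u, rfl⟩
    exact h u u.2
  let Stab : Subgroup (GL D.Idx F) :=
    { carrier := {g | g ∈ D.group F ∧ (∀ y ∈ M, act ρ g y ∈ M) ∧ ∀ y ∈ M, act ρ g⁻¹ y ∈ M}
      one_mem' := ⟨one_mem _, fun y hy => by rwa [act_one ρ],
        fun y hy => by rwa [inv_one, act_one ρ]⟩
      mul_mem' := fun {a b} ha hb => ⟨mul_mem ha.1 hb.1,
        fun y hy => by rw [act_mul_apply ρ ha.1 hb.1]; exact ha.2.1 _ (hb.2.1 y hy),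
        fun y hy => by
          rw [mul_inv_rev, act_mul_apply ρ (inv_mem hb.1) (inv_mem ha.1)]
          exact hb.2.2 _ (ha.2.2 y hy)⟩
      inv_mem' := fun {a} ha => ⟨inv_mem ha.1, ha.2.2, by simpa using ha.2.1⟩ }
  have hU : ∀ v ∈ D.posUnipotent F, ∀ y ∈ M, act ρ v y ∈ M := fun v hv =>
    lift v (S.U_le_group hv) fun u hu => by
      rw [← act_mul_apply ρ (S.U_le_group hv) (mul_mem (S.U_le_group hu) hN), ← mul_assoc]
      exact gen _ (mul_mem hv hu)
  have hH : ∀ h ∈ D.diagonalSubgroup F, ∀ y ∈ M, act ρ h y ∈ M := fun h hh =>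
    lift h (S.H_le_group hh) fun u hu => by
      have hu' : h * u * h⁻¹ ∈ D.posUnipotent F :=
        (Subgroup.mem_normalizer_iff.1 (ChevalleyTorus.H_le_normalizer_U C hh) u).1 hu
      set h' := conjH S n₀ ⟨h, hh⟩ with hh'
      rw [← act_mul_apply ρ (S.H_le_group hh) (mul_mem (S.U_le_group hu) hN),
        show h * (u * (n₀ : GL D.Idx F)) = h * u * h⁻¹ * n₀ * (h' : GL D.Idx F) by simp [h', conjH, mul_assoc],
        act_mul_apply ρ (mul_mem (S.U_le_group hu') hN) (S.H_le_group h'.2), hx.2, map_smul]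
      exact M.smul_mem _ (gen _ hu')
  have hn : ∀ i : Fin D.rank, ∀ y ∈ M, act ρ (S.nn (D.simple i) 1) y ∈ M := by
    intro i
    set P := D.simple i.val
    set n := S.nn P (1 : F) with hndef
    have hp := S.X.simple_pos i.isLt
    have hn' : n ∈ D.group F := nn_mem C S i 1
    refine lift n hn' fun u hu => ?_
    obtain ⟨v, hv, a, rfl⟩ := S.U_decomp i.isLt hu
    have hv' : n * v * n⁻¹ ∈ D.posUnipotent F := upSub_le_U (F := F) i.val (S.nn_conj_upSub i hv)
    rw [← act_mul_apply ρ hn' (mul_mem (S.U_le_group hu) hN),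
      show n * (v * S.xg P a * (n₀ : GL D.Idx F)) = (n * v * n⁻¹) * (n * S.xg P a * n₀) by group,
      act_mul_apply ρ (S.U_le_group hv') (mul_mem (mul_mem hn' (xg_mem C S _ _)) hN)]
    refine hU _ hv' _ ?_
    by_cases ha : a = 0
    · subst ha
      rw [S.xg_zero, mul_one]
      obtain ⟨j, hj⟩ := long_conj C S h₀ i
      set Q := D.simple j.val
      have hQ := S.X.simple_pos j.isLt
      set m := S.nn Q (1 : F) with hm
      have hdiag : ((S.sN j)⁻¹ * n₀⁻¹ * S.sN i * n₀ : ↥N₀).1 ∈ D.diagonalSubgroup F := by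
        refine S.toW_ker.le (?_ : S.toW ((S.sN j)⁻¹ * n₀⁻¹ * S.sN i * n₀) = 1)
        rw [map_mul, map_mul, map_mul, map_inv, map_inv, S.toW_sN, S.toW_sN, mul_assoc _ (S.X.C.simple i), hj]
        group
      set h' : ↥(D.diagonalSubgroup F) := ⟨_, hdiag⟩ with hh'
      have e : n * (n₀ : GL D.Idx F) = (n₀ : GL D.Idx F) * m * (h' : GL D.Idx F) := by
        simp only [h', Subgroup.coe_mul, Subgroup.coe_inv, ChevBruhat.Sys.sN, m, n, P, Q, ← mul_assoc, mul_inv_cancel_right,
          mul_inv_cancel, one_mul]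
      rw [e, act_mul_apply ρ (mul_mem hN (nn_mem C S j 1)) (S.H_le_group h'.2), hx.2, map_smul,
        act_mul_apply ρ hN (nn_mem C S j 1)]
      refine M.smul_mem _ ?_
      have hTj := hT j
      rw [T, LinearMap.sum_apply, ← Finset.add_sum_erase _ _ (Finset.mem_univ (0 : F)), S.xg_zero, one_mul,
        ← hm, ← eq_sub_iff_add_eq] at hTj
      rw [hTj, map_sub, map_smul, map_sum]
      refine sub_mem (M.smul_mem _ (by simpa using gen 1 (one_mem _))) (sum_mem fun t ht => ?_)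
      have ht0 : t ≠ 0 := (Finset.mem_erase.1 ht).1
      set h'' : GL D.Idx F := (S.nn Q (-t))⁻¹ * m
      have hh'' : h'' ∈ D.diagonalSubgroup F := by
        simp only [h'', S.nn_inv, neg_neg, m]
        exact S.nn_mul_nn_mem hQ.1 ht0 one_ne_zero
      have e2 : S.xg Q t * m = S.xg (D.neg Q) t⁻¹ * (S.xg Q (-t) * h'') := by
        have : S.nn Q (-t) = S.xg Q (-t) * S.xg (D.neg Q) t⁻¹ * S.xg Q (-t) := by
          simp [Sys.nn, nOf, inv_neg]
        simp only [h'', this, ← S.xg_inv]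
        group
      obtain ⟨d, -, hd, -⟩ := S.acts_toW n₀ (D.neg Q) (C.neg_lt _)
      have e3 : (n₀ : GL D.Idx F) * S.xg (D.neg Q) t⁻¹ =
          S.xg (S.X.img (S.toW n₀) (D.neg Q)) (d * t⁻¹) * n₀ := by rw [← hd]; group
      rw [e2, ← act_mul_apply ρ hN (mul_mem (xg_mem C S _ _) (mul_mem (xg_mem C S _ _) (S.H_le_group hh''))),
        ← mul_assoc, e3, act_mul_apply ρ (mul_mem (xg_mem C S _ _) hN)
          (mul_mem (xg_mem C S _ _) (S.H_le_group hh'')),
        act_mul_apply ρ (xg_mem C S _ _) (S.H_le_group hh''), hx.2 ⟨h'', hh''⟩, map_smul,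
        hx.1 _ (S.xg_mem_U hQ _), map_smul]
      exact M.smul_mem _ (gen _ (S.xg_mem_U (neg_pos_long C S h₀ j) _))
    · obtain ⟨e, he, hep, -⟩ := S.acts_simple i P hp.1
      rw [S.X.img_simple i hp.1, S.X.reflect_simple i.isLt, ← hndef] at hep
      set t := -(e * a)⁻¹ with ht_def
      have ht : t ≠ 0 := neg_ne_zero.mpr (inv_ne_zero (mul_ne_zero he ha))
      have key : n * S.xg P a * n⁻¹ = S.xg P (-t) * S.nn P t * S.xg P (-t) := by
        rw [hep]
        have : -t⁻¹ = e * a := by rw [ht_def, inv_neg, inv_inv, neg_neg]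
        simp only [Sys.nn, nOf, this, ← S.xg_inv]
        group
        all_goals rfl
      set h' : GL D.Idx F := S.nn P t * n⁻¹
      have hh' : h' ∈ D.diagonalSubgroup F := by
        simp only [h', n, S.nn_inv]
        exact S.nn_mul_nn_mem hp.1 ht (neg_ne_zero.2 one_ne_zero)
      have hnn : n * n ∈ D.diagonalSubgroup F := S.nn_mul_nn_mem hp.1 one_ne_zero one_ne_zero
      set h'' := conjH S n₀ ⟨n * n, hnn⟩
      set r := S.X.img (S.toW n₀)⁻¹ (D.neg P)
      obtain ⟨d, -, hd, -⟩ := (S.acts_toW n₀).inv S (D.neg P) (C.neg_lt _)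
      have e1 : n * S.xg P a * (n₀ : GL D.Idx F) =
          S.xg P (-t) * h' * n₀ * (S.xg r (d * (e * -t)) * (h'' : GL D.Idx F)) := by
        calc n * S.xg P a * (n₀ : GL D.Idx F)
            = (n * S.xg P a * n⁻¹) * n * n₀ := by group
          _ = S.xg P (-t) * h' * (n * S.xg P (-t) * n⁻¹) * (n * n * n₀) := by
            rw [key]; simp only [h']; group
          _ = _ := by
            rw [hep, ← hd]
            show _ = S.xg P (-t) * h' * n₀ * (_ * ((n₀ : GL D.Idx F)⁻¹ * (n * n) * n₀))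
            simp only [P]
            group
      rw [e1, act_mul_apply ρ (mul_mem (mul_mem (xg_mem C S _ _) (S.H_le_group hh')) hN)
          (mul_mem (xg_mem C S _ _) (S.H_le_group h''.2)),
        act_mul_apply ρ (xg_mem C S _ _) (S.H_le_group h''.2), hx.2, map_smul,
        hx.1 _ (S.xg_mem_U (neg_pos_long C S (long_inv C S h₀) i) _), map_smul, mul_assoc,
        act_mul_apply ρ (xg_mem C S _ _) (mul_mem (S.H_le_group hh') hN), act_mul_apply ρ (S.H_le_group hh') hN]
      refine M.smul_mem _ (hU _ (S.xg_mem_U hp _) _ (hH _ hh' _ ?_))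
      simpa using gen 1 (one_mem _)
  have hle : D.group F ≤ Stab := by
    rw [← S.BN_sup, S.monomial_eq, Sys.Ns]
    refine sup_le (sup_le ?_ ?_) (sup_le ?_ ((Subgroup.closure_le _).2 ?_))
    · exact fun v hv => ⟨S.U_le_group hv, hU v hv, hU _ (inv_mem hv)⟩
    · exact fun v hv => ⟨S.H_le_group hv, hH v hv, hH _ (inv_mem hv)⟩
    · exact fun v hv => ⟨S.H_le_group hv, hH v hv, hH _ (inv_mem hv)⟩
    · rintro _ ⟨i, rfl⟩
      refine ⟨nn_mem C S i 1, hn i, fun y hy => ?_⟩
      have hnn := S.nn_mul_nn_mem (S.X.simple_pos i.isLt).1 (one_ne_zero (α := F)) one_ne_zero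
      rw [show (S.nn (D.simple i) (1 : F))⁻¹ =
          S.nn (D.simple i) 1 * (S.nn (D.simple i) 1 * S.nn (D.simple i) 1)⁻¹ by group,
        act_mul_apply ρ (nn_mem C S i 1) (S.H_le_group (inv_mem hnn))]
      exact hn i _ (hH _ (inv_mem hnn) _ hy)
  rw [← act_coe]
  exact (hle g.2).2.1 y hy

theorem mem_M₀ {n₀ : ↥N₀} (h₀ : ∀ r, D.IsPosRoot r → D.IsNegRoot (S.X.img (S.toW n₀) r))
    {χ : ↥(D.diagonalSubgroup F) →* k} {c : Fin D.rank → k} {x : V} (hx : Eig ρ χ x)
    (hT : ∀ i, T S ρ i x = c i • x) : x ∈ M₀ ρ n₀ x := by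
  have h1 : act ρ (n₀ : GL D.Idx F) x ∈ M₀ ρ n₀ x := Submodule.subset_span ⟨1, by simp⟩
  have hN := S.N_le_group n₀.2
  have := M₀_stable C S ρ h₀ hx hT ⟨_, inv_mem hN⟩ h1
  rwa [← act_coe, ← act_mul_apply ρ (inv_mem hN) hN, inv_mul_cancel, act_one ρ] at this

theorem M₀_eq_top (hirr : Irred ρ) {n₀ : ↥N₀} (h₀ : ∀ r, D.IsPosRoot r → D.IsNegRoot (S.X.img (S.toW n₀) r))
    {χ : ↥(D.diagonalSubgroup F) →* k} {c : Fin D.rank → k} {x : V} (h1 : x ≠ 0) (hx : Eig ρ χ x)
    (hT : ∀ i, T S ρ i x = c i • x) : M₀ ρ n₀ x = ⊤ :=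
  (hirr.2 _ fun g y hy => M₀_stable C S ρ h₀ hx hT g hy).resolve_left fun h =>
    h1 ((Submodule.eq_bot_iff _).1 h x (mem_M₀ C S ρ h₀ hx hT))

/-- the contragredient representation -/
noncomputable def dual : ↥(D.group F) →* Module.End k (Module.Dual k V) where
  toFun g := (ρ g⁻¹).dualMap
  map_one' := by simp [LinearMap.dualMap_id, Module.End.one_eq_id]
  map_mul' a b := by
    rw [mul_inv_rev, map_mul]
    exact LinearMap.dualMap_comp_dualMap _ _ |>.symm

theorem dual_irred [FiniteDimensional k V] (hirr : Irred ρ) : Irred (dual ρ) := by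
  haveI := hirr.1
  refine ⟨inferInstance, fun U hU => ?_⟩
  have hst : ∀ g, ∀ x ∈ U.dualCoannihilator, ρ g x ∈ U.dualCoannihilator := by
    intro g x hx
    rw [Submodule.mem_dualCoannihilator] at hx ⊢
    intro φ hφ
    have := hx _ (hU g⁻¹ φ hφ)
    simpa [dual] using this
  rcases hirr.2 _ hst with h | h
  · right
    have := Subspace.dualCoannihilator_dualAnnihilator_eq (W := U)
    rw [h, Submodule.dualAnnihilator_bot] at this
    exact this.symm
  · left
    have := Subspace.dualCoannihilator_dualAnnihilator_eq (W := U)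
    rw [h, Submodule.dualAnnihilator_top] at this
    exact this.symm

theorem exists_n₀ : ∃ n₀ : ↥N₀, ∀ r, D.IsPosRoot r → D.IsNegRoot (S.X.img (S.toW n₀) r) := by
  obtain ⟨w, hw⟩ := S.exists_w0
  obtain ⟨n, rfl⟩ := S.toW_surjective w
  exact ⟨n, hw⟩

section
variable (p : ℕ) [Fact p.Prime] [CharP F p] [CharP k p] [IsAlgClosed k]

include p in
/-- the fixed vectors of an irreducible representation form a line -/
theorem fixed_line [FiniteDimensional k V] (hirr : Irred ρ) {x z : V} (hx0 : x ≠ 0) (hx : Fixed ρ x)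
    (hz : Fixed ρ z) : ∃ a : k, z = a • x := by
  have hd := dual_irred C S ρ hirr
  haveI := hd.1
  obtain ⟨χ, A, ξ, hξ⟩ := exists_param C S (dual ρ) p
  obtain ⟨n₀, h₀⟩ := exists_n₀ C S
  have htop := M₀_eq_top C S (dual ρ) hd h₀ hξ.ne hξ.eig hξ.op
  set L : V →ₗ[k] k := ξ ∘ₗ ρ (⟨_, inv_mem (S.N_le_group n₀.2)⟩ : ↥(D.group F))
  have key : ∀ y, Fixed ρ y → L y = 0 → y = 0 := by
    intro y hy hL
    refine (Module.forall_dual_apply_eq_zero_iff k y).1 fun φ => ?_
    have hφ : φ ∈ M₀ (dual ρ) n₀ ξ := htop ▸ Submodule.mem_top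
    refine (Submodule.span_le.2 ?_ : _ ≤ LinearMap.ker (Module.Dual.eval k V y)) hφ
    rintro _ ⟨u, rfl⟩
    have hg : (u : GL D.Idx F) * n₀ ∈ D.group F := mul_mem (S.U_le_group u.2) (S.N_le_group n₀.2)
    show act (dual ρ) ((u : GL D.Idx F) * n₀) ξ y = 0
    rw [show (u : GL D.Idx F) * n₀ = ((⟨_, hg⟩ : ↥(D.group F)) : GL D.Idx F) from rfl, act_coe]
    show ξ (ρ _ y) = 0
    rw [← act_coe ρ, Subgroup.coe_inv, Subgroup.coe_mk, mul_inv_rev,
      act_mul_apply ρ (inv_mem (S.N_le_group n₀.2)) (inv_mem (S.U_le_group u.2)), hy _ (inv_mem u.2)]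
    rw [show L y = ξ (ρ _ y) from rfl, ← act_coe ρ] at hL
    exact hL
  have hLx : L x ≠ 0 := fun h => hx0 (key x hx h)
  refine ⟨L z / L x, sub_eq_zero.1 (key _ ?_ ?_)⟩
  · intro u hu
    rw [map_sub, map_smul, hx u hu, hz u hu]
  · rw [map_sub, map_smul, smul_eq_mul, div_mul_cancel₀ _ hLx, sub_self]

include p in
theorem param_unique [FiniteDimensional k V] (hirr : Irred ρ) {χ χ' : ↥(D.diagonalSubgroup F) →* k}
    {A A' : Finset (Fin D.rank)} {x x' : V} (h : IsParam C S ρ χ A x) (h' : IsParam C S ρ χ' A' x') :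
    χ = χ' ∧ A = A' := by
  obtain ⟨a, rfl⟩ := fixed_line C S ρ p hirr h.ne h.eig.1 h'.eig.1
  have ha : a ≠ 0 := fun h0 => h'.ne (by rw [h0, zero_smul])
  refine ⟨MonoidHom.ext fun g => ?_, Finset.ext fun i => ?_⟩
  · have e := h'.eig.2 g
    rw [map_smul, h.eig.2, smul_comm] at e
    exact smul_left_injective k h'.ne e
  · have e := h'.op i
    rw [map_smul, h.op, smul_comm] at e
    have e' := smul_left_injective k h'.ne e
    split_ifs at e' with h1 h2 h2 <;> simp_all

omit p [Fact p.Prime] [CharP F p] [CharP k p] [IsAlgClosed k] in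
theorem dual_fixed_apply {η : Module.Dual k V} (hη : Fixed (dual ρ) η) (u : ↥(D.posUnipotent F)) (w : V) :
    η (act ρ (u : GL D.Idx F) w) = η w := by
  have e := LinearMap.congr_fun (hη _ (inv_mem u.2)) w
  set g : ↥(D.group F) := ⟨(u : GL D.Idx F), S.U_le_group u.2⟩ with hg
  rw [show (u : GL D.Idx F)⁻¹ = ((g⁻¹ : ↥(D.group F)) : GL D.Idx F) from rfl, act_coe] at e
  rw [show act ρ (u : GL D.Idx F) = ρ g from act_coe ρ g, ← e]
  show η (ρ g w) = η (ρ (g⁻¹)⁻¹ w)
  rw [inv_inv]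

include p in
/-- the weight determines the representation -/
theorem iso_of_param [FiniteDimensional k V] {V' : Type*} [AddCommGroup V'] [Module k V'] [FiniteDimensional k V']
    (σ : ↥(D.group F) →* Module.End k V') (hirr : Irred ρ) (hirr' : Irred σ)
    {χ : ↥(D.diagonalSubgroup F) →* k} {A : Finset (Fin D.rank)} {x : V} {x' : V'}
    (h : IsParam C S ρ χ A x) (h' : IsParam C S σ χ A x') :
    ∃ f : V ≃ₗ[k] V', ∀ g v, f (ρ g v) = σ g (f v) := by
  obtain ⟨n₀, h₀⟩ := exists_n₀ C S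
  let τ : ↥(D.group F) →* Module.End k (V × V') :=
    { toFun := fun g => LinearMap.prodMap (ρ g) (σ g)
      map_one' := LinearMap.ext fun v => by simp
      map_mul' := fun a b => LinearMap.ext fun v => by simp }
  have hact : ∀ (g : GL D.Idx F) (v : V × V'), act τ g v = (act ρ g v.1, act σ g v.2) := by
    intro g v
    by_cases hg : g ∈ D.group F
    · simp [act, hg, τ]
    · simp [act, hg]; rfl
  have hE : Eig τ χ (x, x') := ⟨fun u hu => by rw [hact, h.eig.1 u hu, h'.eig.1 u hu],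
    fun a => by rw [hact, h.eig.2, h'.eig.2]; rfl⟩
  have hT : ∀ i, T S τ i (x, x') = (if i ∈ A then (-1 : k) else 0) • (x, x') := by
    intro i
    have e : T S τ i (x, x') = (T S ρ i x, T S σ i x') := by
      simp only [T, LinearMap.sum_apply, hact]
      exact Prod.ext (by simp [Prod.fst_sum]) (by simp [Prod.snd_sum])
    rw [e, h.op, h'.op]; rfl
  set N := M₀ τ n₀ (x, x') with hN
  have hst : ∀ g, ∀ v ∈ N, τ g v ∈ N := fun g v hv => M₀_stable C S τ h₀ hE hT g hv
  have hxN : (x, x') ∈ N := mem_M₀ C S τ h₀ hE hT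
  have hfst : ∀ v, ∃ v', (v, v') ∈ N := by
    intro v
    have : Submodule.map (LinearMap.fst k V V') N = ⊤ := by
      refine (hirr.2 _ ?_).resolve_left fun h0 => h.ne ((Submodule.eq_bot_iff _).1 h0 x ⟨_, hxN, rfl⟩)
      rintro g _ ⟨v, hv, rfl⟩
      exact ⟨τ g v, hst g v hv, rfl⟩
    obtain ⟨⟨a, b⟩, hab, rfl⟩ : v ∈ Submodule.map (LinearMap.fst k V V') N := this ▸ Submodule.mem_top
    exact ⟨b, hab⟩
  have hker : ∀ v', ((0 : V), v') ∈ N → v' = 0 := by
    rcases hirr'.2 (N.comap (LinearMap.inr k V V')) (fun g v hv => by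
      have := hst g _ hv
      simpa [τ] using this) with h0 | h0
    · intro v' hv'
      exact (Submodule.eq_bot_iff _).1 h0 v' hv'
    · exfalso
      have hNtop : ∀ w : V × V', w ∈ N := by
        rintro ⟨v, v'⟩
        obtain ⟨v'', hv''⟩ := hfst v
        have h2 : v' - v'' ∈ N.comap (LinearMap.inr k V V') := h0 ▸ Submodule.mem_top
        have := N.add_mem hv'' h2
        simpa using this
      have hd := dual_irred C S ρ hirr
      have hd' := dual_irred C S σ hirr'
      haveI := hd.1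
      haveI := hd'.1
      obtain ⟨ξ, hξ0, hξ⟩ := exists_fixed C S (dual ρ) p
      obtain ⟨ξ', hξ0', hξ'⟩ := exists_fixed C S (dual σ) p
      have hN₀ := S.N_le_group n₀.2
      set a := ξ' (act σ (n₀ : GL D.Idx F) x')
      set b := ξ (act ρ (n₀ : GL D.Idx F) x)
      let Λ : V × V' →ₗ[k] k := a • ξ ∘ₗ LinearMap.fst k V V' - b • ξ' ∘ₗ LinearMap.snd k V V'
      have hΛ : ∀ w, Λ w = 0 := fun w => by
        refine (Submodule.span_le.2 ?_ : N ≤ LinearMap.ker Λ) (hNtop w)
        rintro _ ⟨u, rfl⟩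
        simp only [hact, SetLike.mem_coe, LinearMap.mem_ker, Λ, LinearMap.sub_apply, LinearMap.smul_apply,
          LinearMap.comp_apply, LinearMap.fst_apply, LinearMap.snd_apply, smul_eq_mul]
        rw [act_mul_apply ρ (S.U_le_group u.2) hN₀, act_mul_apply σ (S.U_le_group u.2) hN₀,
          dual_fixed_apply C S ρ hξ, dual_fixed_apply C S σ hξ']
        ring
      have ha : a = 0 := by
        by_contra ha
        refine hξ0 (LinearMap.ext fun v => ?_)
        simpa [Λ, ha] using hΛ (v, 0)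
      refine hξ0' (LinearMap.ext fun v => ?_)
      have hv : v ∈ M₀ σ n₀ x' := (M₀_eq_top C S σ hirr' h₀ h'.ne h'.eig h'.op) ▸ Submodule.mem_top
      refine (Submodule.span_le.2 ?_ : _ ≤ LinearMap.ker ξ') hv
      rintro _ ⟨u, rfl⟩
      show ξ' (act σ ((u : GL D.Idx F) * (n₀ : GL D.Idx F)) x') = 0
      rw [act_mul_apply σ (S.U_le_group u.2) hN₀, dual_fixed_apply C S σ hξ']
      exact ha
  choose f hf using hfst
  have huniq : ∀ v v', (v, v') ∈ N → v' = f v := fun v v' hv => by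
    refine sub_eq_zero.1 (hker _ ?_)
    simpa using N.sub_mem hv (hf v)
  let fl : V →ₗ[k] V' :=
    { toFun := f
      map_add' := fun v w => (huniq _ _ (N.add_mem (hf v) (hf w))).symm
      map_smul' := fun c v => (huniq _ _ (N.smul_mem c (hf v))).symm }
  have hcomm : ∀ g v, fl (ρ g v) = σ g (fl v) := fun g v => (huniq _ _ (hst g _ (hf v))).symm
  have hne : fl ≠ 0 := fun h0 => h'.ne (by rw [huniq _ _ hxN]; exact LinearMap.congr_fun h0 x)
  exact ⟨LinearEquiv.ofBijective fl (bijective_of_ne_zero hirr hirr' fl hcomm hne), hcomm⟩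

end

/-- a weight vector is carried to a weight vector -/
theorem param_map {V' : Type*} [AddCommGroup V'] [Module k V'] (σ : ↥(D.group F) →* Module.End k V')
    (f : V →ₗ[k] V') (hf : ∀ g v, f (ρ g v) = σ g (f v)) {χ : ↥(D.diagonalSubgroup F) →* k}
    {A : Finset (Fin D.rank)} {x : V} (h : IsParam C S ρ χ A x) (h0 : f x ≠ 0) : IsParam C S σ χ A (f x) := by
  have hact : ∀ (g : GL D.Idx F) (v : V), f (act ρ g v) = act σ g (f v) := by
    intro g v
    by_cases hg : g ∈ D.group F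
    · simp only [act, dif_pos hg, hf]
    · simp [act, dif_neg hg]
  refine ⟨h0, ⟨fun u hu => by rw [← hact, h.eig.1 u hu], fun g => by rw [← hact, h.eig.2, map_smul]⟩,
    fun i => ?_, h.triv⟩
  rw [← map_smul, ← h.op i]
  simp only [T, LinearMap.sum_apply, map_sum, hact]

end Cfsg.Agent.ChevalleyWeights
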