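import Cfsg.Agent.Lib.ChevalleyWeights

/-!
Every admissible weight occurs in an irreducible representation in the defining characteristic.
-/

set_option autoImplicit false
set_option linter.unusedSectionVars false
set_option linter.unusedSimpArgs false
set_option linter.unusedFintypeInType false

namespace Cfsg.Agent.ChevalleyWeightsExist

open Cfsg.Lie Cfsg.Agent.ChevalleyCert Cfsg.Agent.ChevBruhat Cfsg.Agent.ChevBruhat.Sys Cfsg.Agent.ChevalleyCells
open Cfsg.Agent.ChevalleyRelative Cfsg.Agent.ChevalleyModularOps Cfsg.Agent.ChevalleyWeights Cfsg.Agent.BlockPrime86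
open scoped Classical

variable {D : ChevalleyDatum} {F : Type*} [Field F] [Fintype F] (C : Cert D) (S : ChevBruhat.Sys D F)
variable {k : Type*} [Field k]

local notation "N₀" => D.monomialSubgroup F

/-- the fundamental indices as a set of numbers -/
abbrev nset (K : Finset (Fin D.rank)) : Set ℕ := Fin.val '' (K : Set (Fin D.rank))

/-- a product of representatives of fundamental reflections -/
noncomputable def wordN (l : List (Fin D.rank)) : ↥N₀ := (l.map S.sN).prod

omit [Fintype F] in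
theorem wordN_append (a b : List (Fin D.rank)) : wordN S (a ++ b) = wordN S a * wordN S b := by simp [wordN]

omit [Fintype F] in
theorem wordN_cons (i : Fin D.rank) (a : List (Fin D.rank)) : wordN S (i :: a) = S.sN i * wordN S a := by simp [wordN]

omit [Fintype F] in
theorem mem_nset {K : Finset (Fin D.rank)} {i : Fin D.rank} : i.val ∈ nset K ↔ i ∈ K := by
  simp [nset, Fin.val_inj]

include C S

theorem sN_coe (i : Fin D.rank) : ((S.sN i : ↥N₀) : GL D.Idx F) = S.nn (D.simple i) 1 := rfl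

theorem inv_simple (i : Fin D.rank) : S.X.inv (S.X.C.simple i) = 1 := by
  have h := S.X.inv_simple_mul_of_pos i (w := 1) (by rw [inv_one, S.X.img_one]; exact S.X.simple_pos i.isLt)
  rwa [mul_one, S.X.inv_eq_zero_iff.2 rfl] at h

theorem img_simple_self (i : Fin D.rank) :
    S.X.img (S.X.C.simple i) (D.simple i) = D.neg (D.simple i) := by
  rw [S.X.img_simple i (S.X.simple_lt i.isLt), S.X.reflect_simple i.isLt]

/-! ### the character on products `n_i(a) n_i(b)` -/

theorem chi_pair {χ : ↥(D.diagonalSubgroup F) →* k} {i : Fin D.rank} (hi : χ.comp (ChevalleyModularOps.hh C i) = 1)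
    {a b : F} (ha : a ≠ 0) (hb : b ≠ 0) {h : ↥(D.diagonalSubgroup F)}
    (he : (h : GL D.Idx F) = S.nn (D.simple i) a * S.nn (D.simple i) b) : χ h = 1 := by
  have e : h = ChevalleyModularOps.hh C i (Units.mk0 a ha) * (ChevalleyModularOps.hh C i (Units.mk0 (-b) (neg_ne_zero.2 hb)))⁻¹ := by
    apply Subtype.ext
    rw [he]
    simp only [ChevalleyModularOps.hh, MonoidHom.mk'_apply, Subgroup.coe_mul, Subgroup.coe_inv, Units.val_mk0, hg_eq C S,
      mul_inv_rev, S.nn_inv, neg_neg]
    rw [show S.nn (D.simple i) (1 : F) = (S.nn (D.simple i) (-1))⁻¹ by rw [S.nn_inv, neg_neg]]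
    group
  rw [e, map_mul, ← map_inv (ChevalleyModularOps.hh C i), ← MonoidHom.comp_apply χ, ← MonoidHom.comp_apply χ (ChevalleyModularOps.hh C i), hi,
    MonoidHom.one_apply, MonoidHom.one_apply, one_mul]

theorem chi_conj_sN {χ : ↥(D.diagonalSubgroup F) →* k} {i : Fin D.rank} (hi : χ.comp (ChevalleyModularOps.hh C i) = 1)
    (h : ↥(D.diagonalSubgroup F)) : χ (conjH S (S.sN i) h) = χ h := by
  obtain ⟨γ, hγ, hn⟩ := S.conj_nn (S.acts_H h.2) (S.X.simple_lt i.isLt)
  have h1 := hn 1
  rw [mul_one, S.X.img_one] at h1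
  have e : χ (conjH S (S.sN i) h * h⁻¹) = 1 := by
    refine chi_pair C S hi (neg_ne_zero.2 one_ne_zero) hγ ?_
    rw [← h1, ← S.nn_inv]
    simp only [conjH, MonoidHom.mk'_apply, Subgroup.coe_mul, Subgroup.coe_inv, sN_coe C S]
    group
  calc χ (conjH S (S.sN i) h) = χ (conjH S (S.sN i) h * h⁻¹ * h) := by rw [inv_mul_cancel_right]
    _ = χ h := by rw [map_mul, e, one_mul]

theorem chi_conj_word {χ : ↥(D.diagonalSubgroup F) →* k} {K : Finset (Fin D.rank)}
    (hK : ∀ i ∈ K, χ.comp (ChevalleyModularOps.hh C i) = 1) :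
    ∀ l : List (Fin D.rank), (∀ i ∈ l, i ∈ K) → ∀ h, χ (conjH S (wordN S l) h) = χ h := by
  intro l
  induction l with
  | nil =>
    intro _ h
    congr 1
    exact Subtype.ext (by simp [conjH, wordN])
  | cons i l ih =>
    intro hl h
    rw [show conjH S (wordN S (i :: l)) h = conjH S (wordN S l) (conjH S (S.sN i) h) from Subtype.ext (by
      simp [conjH, wordN_cons, mul_assoc]), ih (fun j hj => hl j (List.mem_cons_of_mem _ hj)),
      chi_conj_sN C S (hK i (hl i List.mem_cons_self))]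

/-! ### words evaluating to `1` in `W` -/

theorem scan (i : Fin D.rank) : ∀ l : List (Fin D.rank),
    D.IsNegRoot (S.X.img (S.toW (wordN S l))⁻¹ (D.simple i)) →
    ∃ (a : List (Fin D.rank)) (j : Fin D.rank) (b : List (Fin D.rank)), l = a ++ j :: b ∧ ∃ c : F, c ≠ 0 ∧
      (wordN S a : GL D.Idx F) * S.nn (D.simple j) 1 * (wordN S a : GL D.Idx F)⁻¹ = S.nn (D.simple i) c := by
  intro l
  induction l using List.reverseRecOn with
  | nil =>
    intro h
    simp only [wordN, List.map_nil, List.prod_nil, map_one, inv_one, S.X.img_one] at h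
    exact absurd h (S.X.not_pos_and_neg (S.X.simple_pos i.isLt))
  | append_singleton l j ih =>
    intro h
    by_cases hn : D.IsNegRoot (S.X.img (S.toW (wordN S l))⁻¹ (D.simple i))
    · obtain ⟨a, j', b, rfl, hc⟩ := ih hn
      exact ⟨a, j', b ++ [j], by simp, hc⟩
    · have hlt := S.X.img_lt (S.toW (wordN S l))⁻¹ (S.X.simple_lt i.isLt)
      have hpos := (S.X.pos_or_neg hlt).resolve_right hn
      rw [wordN_append, map_mul, mul_inv_rev, S.X.img_mul, show wordN S [j] = S.sN j by simp [wordN],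
        S.toW_sN, inv_eq_of_mul_eq_one_right (simple_mul_self C S j), S.X.img_simple j hlt,
        S.X.neg_reflect j.isLt hlt] at h
      have ht := h.resolve_left fun h' => hn h'.1
      refine ⟨l, j, [], rfl, ?_⟩
      obtain ⟨c, hc, hconj⟩ := S.conj_nn (S.acts_toW (wordN S l)) (S.X.simple_lt j.isLt)
      refine ⟨c, hc, ?_⟩
      rw [hconj 1, mul_one, ← ht, S.X.img_img_inv]

theorem decomp : ∀ l : List (Fin D.rank), S.X.inv (S.toW (wordN S l)) = l.length ∨
    ∃ (p : List (Fin D.rank)) (i : Fin D.rank) (a : List (Fin D.rank)) (j : Fin D.rank) (b : List (Fin D.rank)), l = p ++ i :: (a ++ j :: b) ∧ ∃ c : F, c ≠ 0 ∧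
      (wordN S a : GL D.Idx F) * S.nn (D.simple j) 1 * (wordN S a : GL D.Idx F)⁻¹ = S.nn (D.simple i) c := by
  intro l
  induction l with
  | nil => left; simp [wordN, S.X.inv_eq_zero_iff.2 rfl]
  | cons i l ih =>
    rcases ih with h | ⟨p, i', a, j, b, rfl, hc⟩
    · rcases S.X.pos_or_neg (S.X.img_lt (S.toW (wordN S l))⁻¹ (S.X.simple_lt i.isLt)) with hp | hn
      · left
        rw [wordN_cons, map_mul, S.toW_sN, S.X.inv_simple_mul_of_pos i hp, h, List.length_cons]
      · obtain ⟨a, j, b, rfl, hc⟩ := scan C S i l hn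
        exact Or.inr ⟨[], i, a, j, b, rfl, hc⟩
    · exact Or.inr ⟨i :: p, i', a, j, b, rfl, hc⟩

theorem word_chi {χ : ↥(D.diagonalSubgroup F) →* k} {K : Finset (Fin D.rank)}
    (hK : ∀ i ∈ K, χ.comp (ChevalleyModularOps.hh C i) = 1) : ∀ (m : ℕ) (l : List (Fin D.rank)), l.length = m → (∀ i ∈ l, i ∈ K) →
      S.toW (wordN S l) = 1 → ∀ h : ↥(D.diagonalSubgroup F), (h : GL D.Idx F) = wordN S l → χ h = 1 := by
  intro m
  induction m using Nat.strong_induction_on with
  | _ m ih =>
    intro l hm hl hW h he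
    rcases decomp C S l with hred | ⟨p, i, a, j, b, rfl, c, hc, hcj⟩
    · rw [hW, S.X.inv_eq_zero_iff.2 rfl] at hred
      obtain rfl := List.length_eq_zero_iff.1 hred.symm
      rw [show h = 1 from Subtype.ext (by simpa [wordN] using he), map_one]
    · have hp : ∀ x ∈ p, x ∈ K := fun x hx => hl x (by simp [hx])
      have ha : ∀ x ∈ a ++ b, x ∈ K := fun x hx => hl x (by
        simp only [List.mem_append] at hx; rcases hx with hx | hx <;> simp [hx])
      have hi : i ∈ K := hl i (by simp)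
      have hlt := S.X.simple_lt i.isLt
      set y : GL D.Idx F := S.nn (D.simple i) 1 * S.nn (D.simple i) c with hy
      have hyH : y ∈ D.diagonalSubgroup F := S.nn_mul_nn_mem hlt one_ne_zero hc
      have e : (wordN S (p ++ i :: (a ++ j :: b)) : GL D.Idx F) =
          (wordN S p : GL D.Idx F) * y * (wordN S (a ++ b) : GL D.Idx F) := by
        simp only [wordN_append, wordN_cons, Subgroup.coe_mul, sN_coe C S, hy, ← hcj]
        group
      set y' : ↥(D.diagonalSubgroup F) := ⟨(wordN S p : GL D.Idx F) * y * (wordN S p : GL D.Idx F)⁻¹,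
        S.conj_H (S.acts_toW (wordN S p)) hyH⟩
      have hy' : χ y' = 1 := by
        rw [← chi_conj_word C S hK p hp y']
        refine chi_pair C S (hK i hi) one_ne_zero hc ?_
        rw [← hy]
        simp [y', conjH, mul_assoc]
      have e2 : (wordN S (p ++ i :: (a ++ j :: b)) : GL D.Idx F) =
          (y' : GL D.Idx F) * (wordN S (p ++ (a ++ b)) : GL D.Idx F) := by
        rw [e]; simp only [wordN_append, Subgroup.coe_mul, y']; group
      have hmem : (wordN S (p ++ (a ++ b)) : GL D.Idx F) ∈ D.diagonalSubgroup F := by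
        rw [show (wordN S (p ++ (a ++ b)) : GL D.Idx F) = (y' : GL D.Idx F)⁻¹ * (h : GL D.Idx F) by
          rw [he, e2, inv_mul_cancel_left]]
        exact mul_mem (inv_mem y'.2) h.2
      have h2 := ih (p ++ (a ++ b)).length (by rw [← hm]; simp only [List.length_append, List.length_cons]; omega) _ rfl
        (fun x hx => by
          rcases List.mem_append.1 hx with hx | hx
          · exact hp x hx
          · exact ha x hx) (S.toW_ker.symm.le hmem) ⟨_, hmem⟩ rfl
      rw [show h = y' * ⟨_, hmem⟩ from Subtype.ext (by rw [he, e2]; rfl), map_mul, hy', h2, one_mul]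

theorem exists_word {K : Finset (Fin D.rank)} {y : S.X.W} (hy : y ∈ WJ S (nset K)) :
    ∃ l : List (Fin D.rank), (∀ i ∈ l, i ∈ K) ∧ S.toW (wordN S l) = y := by
  rw [WJ] at hy
  refine Subgroup.closure_induction'' (p := fun y _ => ∃ l : List (Fin D.rank), (∀ i ∈ l, i ∈ K) ∧
    S.toW (wordN S l) = y) ?_ ?_ ⟨[], by simp, by simp [wordN]⟩ ?_ hy
  · rintro _ ⟨i, hi, rfl⟩
    exact ⟨[i], by simpa using mem_nset.1 hi, by simp [wordN, S.toW_sN]⟩
  · rintro _ ⟨i, hi, rfl⟩
    exact ⟨[i], by simpa using mem_nset.1 hi,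
      by simp [wordN, S.toW_sN, inv_eq_of_mul_eq_one_right (simple_mul_self C S i)]⟩
  · rintro a b _ _ ⟨la, ha, rfl⟩ ⟨lb, hb, rfl⟩
    exact ⟨la ++ lb, fun i hi => (List.mem_append.1 hi).elim (ha i) (hb i), by rw [wordN_append, map_mul]⟩

theorem wordN_reverse (l : List (Fin D.rank)) : S.toW (wordN S l.reverse) = (S.toW (wordN S l))⁻¹ := by
  induction l with
  | nil => simp [wordN]
  | cons i l ih =>
    rw [List.reverse_cons, wordN_append, map_mul, ih, show wordN S [i] = S.sN i by simp [wordN], wordN_cons, map_mul,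
      mul_inv_rev, S.toW_sN, inv_eq_of_mul_eq_one_right (simple_mul_self C S i)]

variable {V : Type*} [AddCommGroup V] [Module k V] (ρ : ↥(D.group F) →* Module.End k V)

/-- the operator of a word only depends on its element of `W` -/
theorem Psi_word_eq {χ : ↥(D.diagonalSubgroup F) →* k} {K : Finset (Fin D.rank)}
    (hK : ∀ i ∈ K, χ.comp (ChevalleyModularOps.hh C i) = 1) {x : V} (hx : Eig ρ χ x) {l l' : List (Fin D.rank)}
    (hl : ∀ i ∈ l, i ∈ K) (hl' : ∀ i ∈ l', i ∈ K) (he : S.toW (wordN S l) = S.toW (wordN S l')) :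
    Psi S ρ (wordN S l') x = Psi S ρ (wordN S l) x := by
  have hmem : ∀ l'' : List (Fin D.rank), (∀ i ∈ l'', i ∈ K) → S.toW (wordN S l'') = S.toW (wordN S l) →
      ∃ h : ↥(D.diagonalSubgroup F), χ h = 1 ∧
        (h : GL D.Idx F) = (wordN S (l.reverse ++ l'') : GL D.Idx F) := by
    intro l'' hl'' he''
    have h1 : S.toW (wordN S (l.reverse ++ l'')) = 1 := by
      rw [wordN_append, map_mul, wordN_reverse C S, he'', inv_mul_cancel]
    refine ⟨⟨_, S.toW_ker.le h1⟩, ?_, rfl⟩
    refine word_chi C S hK _ _ rfl (fun i hi => ?_) h1 _ rfl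
    rcases List.mem_append.1 hi with hi | hi
    · exact hl i (List.mem_reverse.1 hi)
    · exact hl'' i hi
  obtain ⟨h₁, hc₁, e₁⟩ := hmem l hl rfl
  obtain ⟨h₂, hc₂, e₂⟩ := hmem l' hl' he.symm
  set h : ↥(D.diagonalSubgroup F) := h₁⁻¹ * h₂
  set hN : ↥N₀ := (wordN S l)⁻¹ * wordN S l'
  have ehN : (hN : GL D.Idx F) = (h : GL D.Idx F) := by
    simp only [hN, h, Subgroup.coe_mul, Subgroup.coe_inv, e₁, e₂, wordN_append, mul_inv_rev]
    group
  have e3 := Psi_mul_H C S ρ (wordN S l) (h := hN) (by rw [ehN]; exact h.2)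
  rw [show wordN S l * hN = wordN S l' by simp [hN]] at e3
  rw [e3, Module.End.mul_apply, ehN, hx.2, show χ h = 1 by rw [map_mul, map_inv, hc₁, hc₂, inv_one, one_mul],
    one_smul]

/-! ### a vector killed by the operators of `K` -/

/-- a lift of an element of `W_K` by a word -/
noncomputable def lw (K : Finset (Fin D.rank)) (y : S.X.W) : List (Fin D.rank) :=
  if h : y ∈ WJ S (nset K) then Classical.choose (exists_word C S h) else []

theorem lw_spec {K : Finset (Fin D.rank)} {y : S.X.W} (h : y ∈ WJ S (nset K)) :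
    (∀ i ∈ lw C S K y, i ∈ K) ∧ S.toW (wordN S (lw C S K y)) = y := by
  rw [lw, dif_pos h]; exact Classical.choose_spec (exists_word C S h)

/-- the sum over `W_K` of the translates -/
noncomputable def EK [Fintype S.X.W] (K : Finset (Fin D.rank)) (e : V) : V :=
  ∑ y ∈ Finset.univ.filter (· ∈ WJ S (nset K)), Psi S ρ (wordN S (lw C S K y)) e

section
variable (p : ℕ) [Fact p.Prime] [CharP F p] [CharP k p]

theorem term_eig {χ : ↥(D.diagonalSubgroup F) →* k} {K : Finset (Fin D.rank)}
    (hK : ∀ i ∈ K, χ.comp (ChevalleyModularOps.hh C i) = 1) {e : V} (he : Eig ρ χ e) {l : List (Fin D.rank)}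
    (hl : ∀ i ∈ l, i ∈ K) : Eig ρ χ (Psi S ρ (wordN S l) e) := by
  have h := Psi_eig C S ρ (wordN S l) he
  rwa [show χ.comp (conjH S (wordN S l)) = χ from MonoidHom.ext (chi_conj_word C S hK l hl)] at h

theorem EK_eig [Fintype S.X.W] {χ : ↥(D.diagonalSubgroup F) →* k} {K : Finset (Fin D.rank)}
    (hK : ∀ i ∈ K, χ.comp (ChevalleyModularOps.hh C i) = 1) {e : V} (he : Eig ρ χ e) : Eig ρ χ (EK C S ρ K e) := by
  have h := fun y (hy : y ∈ WJ S (nset K)) => term_eig C S ρ hK he (lw_spec C S hy).1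
  refine ⟨fun u hu => ?_, fun g => ?_⟩
  · rw [EK, map_sum]
    exact Finset.sum_congr rfl fun y hy => (h y (Finset.mem_filter.1 hy).2).1 u hu
  · rw [EK, map_sum, Finset.smul_sum]
    exact Finset.sum_congr rfl fun y hy => (h y (Finset.mem_filter.1 hy).2).2 g

include p in
theorem T_EK [Fintype S.X.W] {χ : ↥(D.diagonalSubgroup F) →* k} {K : Finset (Fin D.rank)}
    (hK : ∀ i ∈ K, χ.comp (ChevalleyModularOps.hh C i) = 1) {e : V} (he : Eig ρ χ e) {i : Fin D.rank} (hi : i ∈ K) :
    T S ρ i (EK C S ρ K e) = 0 := by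
  set z := fun y => Psi S ρ (wordN S (lw C S K y)) e with hz
  set Ws := Finset.univ.filter (· ∈ WJ S (nset K)) with hWs
  have hWJ : ∀ y, y ∈ Ws ↔ y ∈ WJ S (nset K) := fun y => by simp [Ws]
  have hs := simple_mem_WJ C S (J := nset K) (mem_nset.2 hi)
  have up : ∀ y ∈ Ws, D.IsPosRoot (S.X.img y⁻¹ (D.simple i)) → T S ρ i (z y) = z (S.X.C.simple i * y) := by
    intro y hy hpos
    rw [hWJ] at hy
    obtain ⟨hl, hW⟩ := lw_spec C S hy
    obtain ⟨hl', hW'⟩ := lw_spec C S (mul_mem hs hy)
    simp only [z]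
    rw [← Module.End.mul_apply, ← Psi_step C S ρ i _ (by rw [hW]; exact hpos), ← wordN_cons]
    exact Psi_word_eq C S ρ hK he hl' (fun j hj => by
      rcases List.mem_cons.1 hj with rfl | hj
      · exact hi
      · exact hl j hj) (by rw [hW', wordN_cons, map_mul, S.toW_sN, hW])
  have down : ∀ y ∈ Ws, D.IsNegRoot (S.X.img y⁻¹ (D.simple i)) → T S ρ i (z y) = - z y := by
    intro y hy hneg
    obtain ⟨-, hpos, -, -⟩ := S.invSet_step i hneg
    have hy' : S.X.C.simple i * y ∈ Ws := (hWJ _).2 (mul_mem hs ((hWJ y).1 hy))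
    have h1 := up _ hy' hpos
    rw [← mul_assoc, simple_mul_self C S i, one_mul] at h1
    have heig : Eig ρ χ (z y) := term_eig C S ρ hK he (lw_spec C S ((hWJ y).1 hy)).1
    rw [← h1] at heig ⊢
    rw [T_on_image C S ρ p i (term_eig C S ρ hK he (lw_spec C S ((hWJ _).1 hy')).1).1 heig, cval,
      if_pos (hK i hi), neg_smul, one_smul]
  have e1 : ∑ y ∈ Ws.filter (fun y => D.IsPosRoot (S.X.img y⁻¹ (D.simple i))), T S ρ i (z y) =
      ∑ y ∈ Ws.filter (fun y => D.IsPosRoot (S.X.img y⁻¹ (D.simple i))), z (S.X.C.simple i * y) :=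
    Finset.sum_congr rfl fun y hy => up y (Finset.mem_filter.1 hy).1 (Finset.mem_filter.1 hy).2
  have e2 : ∑ y ∈ Ws.filter (fun y => ¬ D.IsPosRoot (S.X.img y⁻¹ (D.simple i))), T S ρ i (z y) =
      ∑ y ∈ Ws.filter (fun y => ¬ D.IsPosRoot (S.X.img y⁻¹ (D.simple i))), - z y :=
    Finset.sum_congr rfl fun y hy => down y (Finset.mem_filter.1 hy).1
      ((S.X.pos_or_neg (S.X.img_lt _ (S.X.simple_lt i.isLt))).resolve_left (Finset.mem_filter.1 hy).2)
  rw [EK, map_sum, ← Finset.sum_filter_add_sum_filter_not Ws (fun y => D.IsPosRoot (S.X.img y⁻¹ (D.simple i))),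
    e1, e2, Finset.sum_neg_distrib, ← sub_eq_add_neg, sub_eq_zero]
  · have hflip : ∀ y, D.IsPosRoot (S.X.img (S.X.C.simple i * y)⁻¹ (D.simple i)) ↔
        ¬ D.IsPosRoot (S.X.img y⁻¹ (D.simple i)) := by
      intro y
      have hlt := S.X.img_lt y⁻¹ (S.X.simple_lt i.isLt)
      rw [mul_inv_rev, S.X.img_mul, inv_eq_of_mul_eq_one_right (simple_mul_self C S i), img_simple_self C S i,
        S.X.img_neg _ (S.X.simple_lt i.isLt), S.X.pos_neg_iff hlt]
      exact ⟨fun h h' => S.X.not_pos_and_neg h' h, fun h => (S.X.pos_or_neg hlt).resolve_left h⟩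
    refine Finset.sum_nbij' (S.X.C.simple i * ·) (S.X.C.simple i * ·) ?_ ?_ ?_ ?_ fun y _ => rfl
    · intro y hy
      simp only [Finset.mem_coe, Finset.mem_filter, hWJ] at hy ⊢
      exact ⟨mul_mem hs hy.1, fun h => ((hflip y).1 h) hy.2⟩
    · intro y hy
      simp only [Finset.mem_coe, Finset.mem_filter, hWJ] at hy ⊢
      exact ⟨mul_mem hs hy.1, (hflip y).2 hy.2⟩
    · exact fun y _ => by rw [← mul_assoc, simple_mul_self C S i, one_mul]
    · exact fun y _ => by rw [← mul_assoc, simple_mul_self C S i, one_mul]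

end

theorem inv_mul_WJ {K : Finset (Fin D.rank)} {v : S.X.W} (hv : PosOn S (nset K) v) :
    ∀ (m : ℕ) (y : S.X.W), S.X.inv y = m → y ∈ WJ S (nset K) → S.X.inv (v * y) = S.X.inv v + S.X.inv y := by
  intro m
  induction m with
  | zero =>
    intro y hy _
    obtain rfl := S.X.inv_eq_zero_iff.1 hy
    rw [mul_one, hy, add_zero]
  | succ m ih =>
    intro y hy hyK
    have hne : ¬ PosOn S (nset K) y := fun h => by
      rw [eq_one_of_posOn C S hyK h, S.X.inv_eq_zero_iff.2 rfl] at hy; omega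
    simp only [PosOn] at hne
    push Not at hne
    obtain ⟨i, hi, hnot⟩ := hne
    have hneg := (S.X.pos_or_neg (S.X.img_lt y (S.X.simple_lt i.isLt))).resolve_left hnot
    have h1 := inv_mul_simple_of_neg C S i hneg
    have hs := simple_mem_WJ C S (J := nset K) hi
    set y' := y * S.X.C.simple i
    have e : y = y' * S.X.C.simple i := by rw [mul_assoc, simple_mul_self C S i, mul_one]
    have hpos : D.IsPosRoot (S.X.img y' (D.simple i)) := by
      rw [S.X.img_mul, img_simple_self C S i, S.X.img_neg _ (S.X.simple_lt i.isLt), S.X.pos_neg_iff hneg.1]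
      exact hneg
    have hsub : D.InRootSub (nset K) (S.X.img y' (D.simple i)) :=
      inRootSub_img C S (mul_mem hyK hs) (ChevalleyParabolic.inRootSub_simple C hi i.isLt)
    have hpos2 := posOn_root C S hv hpos hsub
    rw [← S.X.img_mul] at hpos2
    rw [e, ← mul_assoc, inv_mul_simple_of_pos C S i hpos2, inv_mul_simple_of_pos C S i hpos,
      ih y' (by omega) (mul_mem hyK hs)]
    omega

/-- the longest element of `W_J` permutes the fundamental reflections of `J` -/
theorem lJ_conj {J : Set ℕ} {i : Fin D.rank} (hi : i.val ∈ J) :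
    ∃ j : Fin D.rank, S.X.C.simple i * lJ C S J = lJ C S J * S.X.C.simple j := by
  have hp := S.X.simple_pos i.isLt
  set l := lJ C S J with hl
  have hlm := lJ_mem C S J
  have hin : D.InRootSub J (D.simple i) := ChevalleyParabolic.inRootSub_simple C hi i.isLt
  have hset : S.X.invSet (l⁻¹ * S.X.C.simple i * l) = {S.X.img l⁻¹ (D.neg (D.simple i))} := by
    ext r
    rw [S.X.mem_invSet, Finset.mem_singleton, S.X.img_mul, S.X.img_mul]
    constructor
    · rintro ⟨hr, hn⟩
      by_contra hne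
      have hne' : S.X.img l r ≠ D.neg (D.simple i) := fun he => hne (by rw [← he, S.X.img_inv_img])
      have hlt := S.X.img_lt l hr.1
      by_cases hJ : D.InRootSub J r
      · have h1 := negOn_root C S (lJ_neg C S J) hr hJ
        have h2 : D.IsNegRoot (S.X.img (S.X.C.simple i) (S.X.img l r)) := by
          rw [S.X.img_simple i hlt, S.X.neg_reflect i.isLt hlt]; exact Or.inl ⟨h1, hne'⟩
        have h3 := negOn_neg C S (lJ_neg C S J) h2
          (inRootSub_img C S (simple_mem_WJ C S hi) (inRootSub_img C S hlm hJ))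
        rw [lJ_inv C S J] at hn
        exact S.X.not_pos_and_neg h3 hn
      · have h1 := pos_img_outside C S hlm hr hJ
        have h2 := pos_img_outside C S (simple_mem_WJ C S hi) h1 (not_inRootSub_img C S hlm hr.1 hJ)
        have h3 := pos_img_outside C S (inv_mem hlm) h2
          (not_inRootSub_img C S (simple_mem_WJ C S hi) hlt (not_inRootSub_img C S hlm hr.1 hJ))
        exact S.X.not_pos_and_neg h3 hn
    · rintro rfl
      rw [S.X.img_img_inv, S.X.img_simple i (C.neg_lt _), (S.X.root_facts' hp.1 i.isLt).2.2.2.1,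
        S.X.reflect_simple i.isLt, (S.X.root_facts hp.1).2.1, hl, lJ_inv C S J, S.X.img_neg _ hp.1,
        S.X.pos_neg_iff (S.X.img_lt _ hp.1)]
      exact ⟨lJ_neg C S J i hi, lJ_neg C S J i hi⟩
  obtain ⟨j, hj⟩ := simple_of_inv_one C S (w := l⁻¹ * S.X.C.simple i * l)
    (by rw [ChevWeyl.Weyl.inv, hset, Finset.card_singleton])
  exact ⟨j, by rw [← hj]; group⟩

omit ρ

/-! ### the regular representation -/

omit S in
/-- left translation on functions -/
noncomputable def reg : ↥(D.group F) →* Module.End k (↥(D.group F) → k) where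
  toFun g := LinearMap.funLeft k k (fun x => g⁻¹ * x)
  map_one' := LinearMap.ext fun f => funext fun x => by simp
  map_mul' a b := LinearMap.ext fun f => funext fun x => by simp [mul_assoc]

theorem act_reg {g : GL D.Idx F} (hg : g ∈ D.group F) (f : ↥(D.group F) → k) (x : ↥(D.group F)) :
    act (reg (k := k)) g f x = f (⟨g, hg⟩⁻¹ * x) := by
  simp [act, hg, reg]

/-- the function on `B` given by a character of `H` -/
noncomputable def chiB (χ : ↥(D.diagonalSubgroup F) →* k) : ↥(D.group F) → k := fun x =>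
  if h : ∃ hu : ↥(D.diagonalSubgroup F), (x : GL D.Idx F) * (hu : GL D.Idx F)⁻¹ ∈ D.posUnipotent F
  then χ (Classical.choose h)⁻¹ else 0

theorem chiB_val (χ : ↥(D.diagonalSubgroup F) →* k) {x : ↥(D.group F)} {h : ↥(D.diagonalSubgroup F)}
    (hx : (x : GL D.Idx F) * (h : GL D.Idx F)⁻¹ ∈ D.posUnipotent F) : chiB χ x = χ h⁻¹ := by
  have he : ∃ hu : ↥(D.diagonalSubgroup F), (x : GL D.Idx F) * (hu : GL D.Idx F)⁻¹ ∈ D.posUnipotent F := ⟨h, hx⟩
  rw [chiB, dif_pos he]
  congr 2
  have h1 := Classical.choose_spec he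
  set h' := Classical.choose he
  have h2 : (h' : GL D.Idx F) * (h : GL D.Idx F)⁻¹ ∈ D.posUnipotent F ⊓ D.diagonalSubgroup F := by
    refine Subgroup.mem_inf.2 ⟨?_, mul_mem h'.2 (inv_mem h.2)⟩
    have := mul_mem (inv_mem h1) hx
    simpa [mul_assoc] using this
  rw [ChevalleyTorus.U_inf_H C, Subgroup.mem_bot, mul_inv_eq_one] at h2
  exact Subtype.ext h2

theorem chiB_zero (χ : ↥(D.diagonalSubgroup F) →* k) {x : ↥(D.group F)}
    (hx : (x : GL D.Idx F) ∉ D.borelSubgroup F) : chiB χ x = 0 := by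
  rw [chiB, dif_neg]
  rintro ⟨h, hh⟩
  exact hx (by simpa using mul_mem (U_le_B hh) (H_le_B h.2))

theorem chiB_eig (χ : ↥(D.diagonalSubgroup F) →* k) : Eig (reg (D := D) (F := F)) χ (chiB χ) := by
  refine ⟨fun u hu => funext fun x => ?_, fun g => funext fun x => ?_⟩
  · rw [act_reg C S (S.U_le_group hu)]
    by_cases hx : ∃ h : ↥(D.diagonalSubgroup F), (x : GL D.Idx F) * (h : GL D.Idx F)⁻¹ ∈ D.posUnipotent F
    · obtain ⟨h, hh⟩ := hx
      rw [chiB_val C S χ hh, chiB_val C S χ (h := h) ?_]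
      simpa [mul_assoc] using mul_mem (inv_mem hu) hh
    · rw [chiB, dif_neg, chiB, dif_neg hx]
      rintro ⟨h, hh⟩
      exact hx ⟨h, by simpa [mul_assoc] using mul_mem hu hh⟩
  · rw [act_reg C S (S.H_le_group g.2), Pi.smul_apply, smul_eq_mul]
    by_cases hx : ∃ h : ↥(D.diagonalSubgroup F), (x : GL D.Idx F) * (h : GL D.Idx F)⁻¹ ∈ D.posUnipotent F
    · obtain ⟨h, hh⟩ := hx
      rw [chiB_val C S χ hh, chiB_val C S χ (h := g⁻¹ * h) ?_, ← map_mul]
      · congr 1
        exact Subtype.ext (by simpa using (ChevalleyTorus.H_comm C g.2 (inv_mem h.2)).symm)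
      · have := (Subgroup.mem_normalizer_iff.1 (ChevalleyTorus.H_le_normalizer_U C (inv_mem g.2)) _).1 hh
        simpa [mul_assoc] using this
    · rw [chiB, dif_neg, chiB, dif_neg hx, mul_zero]
      rintro ⟨h, hh⟩
      refine hx ⟨g * h, ?_⟩
      have := (Subgroup.mem_normalizer_iff.1 (ChevalleyTorus.H_le_normalizer_U C g.2) _).1 hh
      simpa [mul_assoc] using this

theorem Psi_chiB (χ : ↥(D.diagonalSubgroup F) →* k) (n : ↥N₀) (m : ↥N₀)
    (h : S.toW n ≠ S.toW m) : Psi S (reg (D := D) (F := F)) n (chiB χ) ⟨_, S.N_le_group m.2⟩ = 0 := by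
  simp only [Psi, Psi', LinearMap.sum_apply, Finset.sum_apply]
  refine Finset.sum_eq_zero fun u _ => ?_
  rw [act_reg C S (mul_mem (uw_mem C S u) (S.N_le_group n.2))]
  refine chiB_zero C S χ fun hb => h ?_
  simp only [Subgroup.coe_mul, Subgroup.coe_inv] at hb
  refine cell_unique C S (g := (m : GL D.Idx F)) ?_ (cell_N C S m)
  exact ⟨(u : GL D.Idx F), U_le_B (S.Uw_le_U _ u.2), n, rfl, _, hb, by group⟩

theorem Psi_chiB_self (χ : ↥(D.diagonalSubgroup F) →* k) (n : ↥N₀) :
    Psi S (reg (D := D) (F := F)) n (chiB χ) ⟨_, S.N_le_group n.2⟩ = 1 := by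
  simp only [Psi, Psi', LinearMap.sum_apply, Finset.sum_apply]
  rw [Finset.sum_eq_single_of_mem (1 : ↥(S.Uw (S.toW n)⁻¹)) (Finset.mem_univ _)]
  · rw [act_reg C S (mul_mem (uw_mem C S _) (S.N_le_group n.2)), chiB_val C S χ (h := 1) (by simp), inv_one,
      map_one]
  · intro u _ hu
    rw [act_reg C S (mul_mem (uw_mem C S u) (S.N_le_group n.2))]
    refine chiB_zero C S χ fun hb => hu (Subtype.ext ?_)
    simp only [Subgroup.coe_mul, Subgroup.coe_inv] at hb
    have hV := S.conj_Uw_mem_V n⁻¹ (u := (u : GL D.Idx F)⁻¹) (by rw [map_inv]; exact inv_mem u.2)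
    have h3 := Subgroup.mem_inf.mpr (⟨by simpa [mul_assoc] using hb, hV⟩ :
      ((n⁻¹ : ↥N₀) : GL D.Idx F) * (u : GL D.Idx F)⁻¹ * ((n⁻¹ : ↥N₀) : GL D.Idx F)⁻¹ ∈ D.borelSubgroup F ∧ _)
    rw [S.B_inf_V, Subgroup.mem_bot, conj_eq_one_iff, inv_eq_one] at h3
    exact h3

variable (p : ℕ) [Fact p.Prime] [CharP F p] [CharP k p]

set_option maxHeartbeats 1000000 in
include p in
/-- every admissible weight occurs -/
theorem exists_irred (χ : ↥(D.diagonalSubgroup F) →* k) (A : Finset (Fin D.rank))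
    (hA : ∀ i ∈ A, χ.comp (ChevalleyModularOps.hh C i) = 1) :
    ∃ (d : ℕ) (σ : ↥(D.group F) →* Module.End k (Fin d → k)),
      Irred σ ∧ ∃ x, IsParam C S σ χ A x := by
  haveI : Finite S.X.W := Finite.of_injective _ S.X.ρ_injective
  letI : Fintype S.X.W := Fintype.ofFinite _
  set K' := Finset.univ.filter fun i : Fin D.rank => χ.comp (ChevalleyModularOps.hh C i) = 1 ∧ i ∉ A with hK'
  have hKm : ∀ i, i ∈ K' ↔ χ.comp (ChevalleyModularOps.hh C i) = 1 ∧ i ∉ A := fun i => by simp [K']
  obtain ⟨n₀, h₀⟩ := exists_n₀ C S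
  set w₀ := S.toW n₀
  set l := lJ C S (nset K') with hl
  obtain ⟨nv, hnv⟩ := S.toW_surjective (l * w₀)
  set v := l * w₀ with hv
  have hvpos : ∀ i : Fin D.rank, D.IsPosRoot (S.X.img v⁻¹ (D.simple i)) ↔ i ∈ K' := by
    intro i
    have hp := S.X.simple_pos i.isLt
    rw [hv, mul_inv_rev, S.X.img_mul, hl, lJ_inv C S]
    by_cases hi : i ∈ K'
    · have h1 := lJ_neg C S (nset K') i (mem_nset.2 hi)
      have h2 := long_inv C S h₀ _ ((S.X.pos_neg_iff h1.1).2 h1)
      rw [S.X.img_neg _ h1.1] at h2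
      simp only [hi, iff_true]
      exact ((S.X.pos_or_neg (S.X.img_lt _ h1.1))).resolve_right fun h3 =>
        S.X.not_pos_and_neg ((S.X.pos_neg_iff (S.X.img_lt _ h1.1)).2 h3) h2
    · have hout : ¬ D.InRootSub (nset K') (D.simple i) := fun hin => by
        have := hin.2 i i.isLt (fun h => hi (mem_nset.1 h))
        change ChevWeyl.cor D (D.simple i) i = 0 at this
        rw [S.X.cor_simple i.isLt i.isLt, if_pos rfl] at this
        exact one_ne_zero this
      have h1 := pos_img_outside C S (lJ_mem C S (nset K')) hp hout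
      simp only [hi, iff_false]
      exact fun h2 => S.X.not_pos_and_neg h2 (long_inv C S h₀ _ h1)
  set χe := χ.comp (conjH S nv⁻¹) with hχe
  set K := Finset.univ.filter fun j : Fin D.rank => ∃ i ∈ K', S.X.C.simple i * v = v * S.X.C.simple j with hKdef
  have hKimg : ∀ j ∈ K, ∃ i ∈ K', S.X.img v (D.simple j) = D.simple i ∧
      S.X.C.simple i * v = v * S.X.C.simple j := by
    intro j hj
    obtain ⟨i, hi, he⟩ := (Finset.mem_filter.1 hj).2
    refine ⟨i, hi, ?_, he⟩
    have h1 := S.X.inv_simple_mul_of_pos i ((hvpos i).2 hi)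
    have hlt := S.X.img_lt v (S.X.simple_lt j.isLt)
    have hpos : D.IsPosRoot (S.X.img v (D.simple j)) := by
      refine (S.X.pos_or_neg hlt).resolve_right fun hn => ?_
      have := inv_mul_simple_of_neg C S j hn
      rw [← he] at this
      omega
    have h2 : D.IsNegRoot (D.reflectRoot i (S.X.img v (D.simple j))) := by
      rw [← S.X.img_simple i hlt, ← S.X.img_mul, he, S.X.img_mul, img_simple_self C S j,
        S.X.img_neg _ (S.X.simple_lt j.isLt)]
      refine (S.X.pos_or_neg (C.neg_lt _)).resolve_left fun h => ?_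
      exact S.X.not_pos_and_neg hpos ((S.X.pos_neg_iff hlt).1 h)
    rw [S.X.neg_reflect i.isLt hlt] at h2
    exact h2.resolve_left fun h => S.X.not_pos_and_neg hpos h.1
  have hK : ∀ j ∈ K, χe.comp (ChevalleyModularOps.hh C j) = 1 := by
    intro j hj
    obtain ⟨i, hi, himg, -⟩ := hKimg j hj
    refine MonoidHom.ext fun b => ?_
    obtain ⟨c, hc, hn⟩ := S.conj_nn (S.acts_toW nv) (S.X.simple_lt j.isLt)
    rw [hnv, himg] at hn
    refine chi_pair C S ((hKm i).1 hi).1 (a := c * (b : F)) (b := c * -1) (mul_ne_zero hc b.ne_zero)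
      (mul_ne_zero hc (neg_ne_zero.2 one_ne_zero)) ?_
    rw [← hn, ← hn]
    simp only [conjH, ChevalleyModularOps.hh, MonoidHom.mk'_apply, Subgroup.coe_inv, hg_eq C S, inv_inv]
    group
  have hPosOn : PosOn S (nset K) v := by
    intro j hj
    obtain ⟨i, -, himg, -⟩ := hKimg j (mem_nset.1 hj)
    rw [himg]; exact S.X.simple_pos i.isLt
  set ρ := reg (D := D) (k := k) (F := F)
  set e := chiB χe
  have he : Eig ρ χe e := chiB_eig C S χe
  set E := EK C S ρ K e
  have hE : Eig ρ χe E := EK_eig C S ρ hK he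
  set f := Psi S ρ nv E with hf
  have hfe : Eig ρ χ f := by
    have h := Psi_eig C S ρ nv hE
    rwa [show χe.comp (conjH S nv) = χ from MonoidHom.ext fun g => congrArg χ (Subtype.ext (by
      simp [conjH, mul_assoc]))] at h
  have hTf : ∀ i, T S ρ i f = (if i ∈ A then (-1 : k) else 0) • f := by
    intro i
    by_cases hi : i ∈ K'
    · rw [if_neg ((hKm i).1 hi).2, zero_smul, hf, ← Module.End.mul_apply,
        ← Psi_step C S ρ i nv (by rw [hnv]; exact (hvpos i).2 hi)]
      obtain ⟨i', h1⟩ := lJ_conj C S (J := nset K') (i := i) (mem_nset.2 hi)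
      obtain ⟨j, h2⟩ := long_conj C S h₀ i'
      have he' : S.X.C.simple i * v = v * S.X.C.simple j := by
        rw [hv, ← mul_assoc, h1, mul_assoc, h2, mul_assoc]
      have hj : j ∈ K := Finset.mem_filter.2 ⟨Finset.mem_univ _, i, hi, he'⟩
      set h' : ↥N₀ := (nv * S.sN j)⁻¹ * (S.sN i * nv) with hh'
      have hh'H : (h' : GL D.Idx F) ∈ D.diagonalSubgroup F := by
        refine S.toW_ker.le (?_ : S.toW h' = 1)
        rw [hh', map_mul, map_inv, map_mul, map_mul, S.toW_sN, S.toW_sN, hnv, he', inv_mul_cancel]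
      rw [show S.sN i * nv = nv * S.sN j * h' by rw [hh', mul_inv_cancel_left], Psi_mul_H C S ρ _ hh'H, Module.End.mul_apply,
        hE.2 ⟨_, hh'H⟩, map_smul, Psi_mul C S ρ _ nv (S.sN j) rfl ?_, Psi_sN C S ρ, Module.End.mul_apply,
        T_EK C S ρ p hK he hj, map_zero, smul_zero]
      rw [S.toW_sN, inv_simple C S, hnv]
      refine inv_mul_simple_of_pos C S j ?_
      exact hPosOn j (mem_nset.2 hj)
    · have hneg := (S.X.pos_or_neg (S.X.img_lt v⁻¹ (S.X.simple_lt i.isLt))).resolve_left (mt (hvpos i).1 hi)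
      rw [← hnv] at hneg
      obtain ⟨-, hpos, -, -⟩ := S.invSet_step i hneg
      have hw' : S.toW ((S.sN i)⁻¹ * nv) = S.X.C.simple i * S.toW nv := by
        rw [map_mul, map_inv, S.toW_sN, inv_eq_of_mul_eq_one_right (simple_mul_self C S i)]
      rw [← hw'] at hpos
      have e1 := Psi_step C S ρ i ((S.sN i)⁻¹ * nv) hpos
      rw [mul_inv_cancel_left] at e1
      have e2 : f = T S ρ i (Psi S ρ ((S.sN i)⁻¹ * nv) E) := by rw [hf, e1]; rfl
      rw [e2] at hfe ⊢
      rw [T_on_image C S ρ p i (Psi_fixed C S ρ _ _ rfl E hE.1) hfe, cval]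
      by_cases hiA : i ∈ A
      · rw [if_pos hiA, if_pos (hA i hiA)]
      · rw [if_neg hiA, if_neg fun h => hi ((hKm i).2 ⟨h, hiA⟩)]
  have hf0 : f ≠ 0 := by
    intro h0
    have h1 := congrFun h0 ⟨_, S.N_le_group nv.2⟩
    simp only [hf, E, EK, map_sum, Finset.sum_apply, Pi.zero_apply] at h1
    rw [Finset.sum_eq_single_of_mem (1 : S.X.W) (Finset.mem_filter.2 ⟨Finset.mem_univ _, one_mem _⟩)] at h1
    · rw [Psi_word_eq C S ρ hK he (l := []) (by simp) (lw_spec C S (one_mem _)).1
        (by rw [(lw_spec C S (one_mem _)).2]; simp [wordN]),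
        show wordN S ([] : List (Fin D.rank)) = 1 from rfl, Psi_H C S ρ 1 (map_one _), Subgroup.coe_one, act_one ρ,
        Module.End.one_apply, Psi_chiB_self C S χe nv] at h1
      exact one_ne_zero h1
    · intro y hy hy1
      rw [Finset.mem_filter] at hy
      obtain ⟨-, hW⟩ := lw_spec C S hy.2
      rw [← Module.End.mul_apply, ← Psi_mul C S ρ _ nv _ rfl
        (by rw [hnv, hW]; exact inv_mul_WJ C S hPosOn _ y rfl hy.2)]
      refine Psi_chiB C S χe _ nv ?_
      rw [map_mul, hW]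
      exact fun h => hy1 (mul_left_cancel (h.trans (mul_one _).symm))
  -- the quotient
  let M : Submodule k (↥(D.group F) → k) := Submodule.span k (Set.range fun g => ρ g f)
  have hMs : ∀ g, ∀ y ∈ M, ρ g y ∈ M := by
    intro g y hy
    refine (Submodule.span_le.2 ?_ : M ≤ M.comap (ρ g)) hy
    rintro _ ⟨g', rfl⟩
    exact Submodule.subset_span ⟨g * g', by simp only [map_mul]; rfl⟩
  have hfM : f ∈ M := Submodule.subset_span ⟨1, by simp⟩
  obtain ⟨N, ⟨hNM, hNs, hfN⟩, hmax⟩ := wellFounded_gt.has_min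
    {N : Submodule k (↥(D.group F) → k) | N ≤ M ∧ (∀ g, ∀ y ∈ N, ρ g y ∈ N) ∧ f ∉ N}
    ⟨⊥, bot_le, fun g y hy => by rw [Submodule.mem_bot] at hy ⊢; rw [hy, map_zero],
      fun h => hf0 ((Submodule.mem_bot k).1 h)⟩
  let ρM : ↥(D.group F) →* Module.End k M :=
    { toFun := fun g => (ρ g).restrict (hMs g)
      map_one' := by ext x; simp
      map_mul' := fun a b => by ext x; simp }
  let NM : Submodule k M := N.comap M.subtype
  let ρQ : ↥(D.group F) →* Module.End k (M ⧸ NM) :=
    { toFun := fun g => NM.mapQ NM (ρM g) (fun y hy => hNs g _ hy)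
      map_one' := by ext x; simp
      map_mul' := fun a b => LinearMap.ext fun q => by
        obtain ⟨y, rfl⟩ := Submodule.Quotient.mk_surjective _ q
        simp only [map_mul]
        rfl }
  have hQmk : ∀ g (y : M), ρQ g (Submodule.Quotient.mk y) = Submodule.Quotient.mk (ρM g y) := fun g y => rfl
  set x : M ⧸ NM := Submodule.Quotient.mk ⟨f, hfM⟩
  have hx0 : x ≠ 0 := fun h => hfN ((Submodule.Quotient.mk_eq_zero NM).1 h : (⟨f, hfM⟩ : M) ∈ NM)
  have hirr : Irred ρQ := by
    refine ⟨⟨⟨x, 0, hx0⟩⟩, fun U hU => ?_⟩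
    set P := (U.comap NM.mkQ).map M.subtype with hP
    have hNP : N ≤ P := fun y hy => ⟨⟨y, hNM hy⟩, by
      show Submodule.Quotient.mk _ ∈ U
      rw [(Submodule.Quotient.mk_eq_zero NM).2 (show (⟨y, hNM hy⟩ : M) ∈ NM from hy)]
      exact U.zero_mem, rfl⟩
    by_cases hfP : f ∈ P
    · right
      obtain ⟨y, hy, hyf⟩ := hfP
      obtain rfl : y = ⟨f, hfM⟩ := Subtype.ext hyf
      rw [eq_top_iff]
      rintro q -
      obtain ⟨⟨z, hz⟩, rfl⟩ := Submodule.Quotient.mk_surjective _ q
      induction hz using Submodule.span_induction with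
      | mem z hz =>
        obtain ⟨g, rfl⟩ := hz
        exact hU g _ hy
      | zero => exact U.zero_mem
      | add a b ha hb iha ihb => exact U.add_mem iha ihb
      | smul c a ha iha => exact U.smul_mem c iha
    · left
      have hPN : P = N := by
        by_contra hne
        refine hmax P ⟨Submodule.map_subtype_le _ _, ?_, hfP⟩ (lt_of_le_of_ne hNP (Ne.symm hne))
        rintro g _ ⟨y, hy, rfl⟩
        exact ⟨ρM g y, hU g _ hy, rfl⟩
      rw [eq_bot_iff]
      intro q hq
      obtain ⟨y, rfl⟩ := Submodule.Quotient.mk_surjective _ q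
      rw [Submodule.mem_bot, Submodule.Quotient.mk_eq_zero]
      show (y : ↥(D.group F) → k) ∈ N
      exact hPN ▸ ⟨y, hq, rfl⟩
  have hpM : IsParam C S ρM χ A (⟨f, hfM⟩ : M) := by
    have hact : ∀ (g : GL D.Idx F) (y : M), ((act ρM g y : M) : ↥(D.group F) → k) = act ρ g y := by
      intro g y
      by_cases hg : g ∈ D.group F
      · simp only [act, dif_pos hg]; rfl
      · simp [act, dif_neg hg]
    refine ⟨fun h => hf0 (congrArg Subtype.val h), ⟨fun u hu => Subtype.ext ((hact u _).trans (hfe.1 u hu)),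
      fun g => Subtype.ext ((hact _ _).trans (hfe.2 g))⟩, fun i => Subtype.ext ?_, hA⟩
    simp only [T, LinearMap.sum_apply, Submodule.coe_sum, hact, Submodule.coe_smul]
    simpa [T] using hTf i
  have hpQ := param_map C S ρM ρQ NM.mkQ (fun g y => rfl) hpM hx0
  haveI := hirr.1
  let b := Module.finBasis k (M ⧸ NM)
  let σ : ↥(D.group F) →* Module.End k (Fin (Module.finrank k (M ⧸ NM)) → k) :=
    b.equivFun.conjAlgEquiv k |>.toMonoidHom.comp ρQ
  have hσ : ∀ g v, b.equivFun (ρQ g v) = σ g (b.equivFun v) := fun g v => by simp [σ]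
  refine ⟨_, σ, ⟨b.equivFun.symm.toEquiv.nontrivial, fun U hU => ?_⟩, _,
    param_map C S ρQ σ b.equivFun.toLinearMap hσ hpQ (b.equivFun.map_ne_zero_iff.2 hx0)⟩
  rcases hirr.2 (U.comap b.equivFun.toLinearMap) (fun g y hy => by
    rw [Submodule.mem_comap] at hy ⊢
    exact (hσ g y).symm ▸ hU g _ hy) with h | h
  · left
    rw [eq_bot_iff]
    intro y hy
    have : b.equivFun.symm y ∈ U.comap b.equivFun.toLinearMap := Submodule.mem_comap.2 (by
      rw [LinearEquiv.coe_coe, LinearEquiv.apply_symm_apply]; exact hy)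
    rw [h, Submodule.mem_bot] at this
    rw [Submodule.mem_bot, ← b.equivFun.apply_symm_apply y, this, map_zero]
  · right
    rw [eq_top_iff]
    intro y _
    have : b.equivFun.symm y ∈ U.comap b.equivFun.toLinearMap := h ▸ Submodule.mem_top
    rw [Submodule.mem_comap, LinearEquiv.coe_coe, LinearEquiv.apply_symm_apply] at this
    exact this

end Cfsg.Agent.ChevalleyWeightsExist
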