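import Cfsg.Agent.Lib.PGroupsBasic

/-!
A finite `p`-group, `p` odd, acting on a finite set has a subset whose stabiliser acts trivially.
-/

namespace Cfsg.Agent.PowerSetOrbit89

open MulAction

universe u

theorem exists_regular_set {p : ℕ} [Fact p.Prime] (hp : p ≠ 2) :
    ∀ (n : ℕ) (P : Type u) [Group P] [Finite P] (Ω : Type u) [MulAction P Ω] [Finite Ω],
      Nat.card Ω = n → IsPGroup p P →
      ∃ X : Set Ω, ∀ g : P, (∀ w : Ω, g • w ∈ X ↔ w ∈ X) → ∀ w : Ω, g • w = w := by
  intro n
  induction n using Nat.strong_induction_on with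
  | _ n ih =>
    intro P _ _ Ω _ _ hn hP
    classical
    by_cases hsub : Subsingleton Ω
    · exact ⟨∅, fun g _ w => Subsingleton.elim _ _⟩
    by_cases htr : ∀ a b : Ω, ∃ g : P, g • a = b
    · -- transitive: split along a normal subgroup of index `p`
      have ho : ∀ ω : Ω, stabilizer P ω ≠ ⊤ := by
        intro ω h
        apply hsub
        refine ⟨fun a b => ?_⟩
        obtain ⟨g, rfl⟩ := htr ω a
        obtain ⟨k, rfl⟩ := htr ω b
        rw [mem_stabilizer_iff.mp (h ▸ Subgroup.mem_top g),
          mem_stabilizer_iff.mp (h ▸ Subgroup.mem_top k)]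
      obtain ⟨ω₀⟩ : Nonempty Ω := by
        by_contra h
        exact hsub ⟨fun a => (h ⟨a⟩).elim⟩
      obtain ⟨M, hM, hle⟩ := PGroupsBasic.exists_isCoatom_ge (ho ω₀)
      have hMn : M.Normal := PGroupsBasic.normal_of_isCoatom hP hM
      have hstab : ∀ g : P, ∀ ω : Ω, g • ω ∈ orbit M ω → g ∈ M := by
        intro g ω hg
        obtain ⟨⟨m, hm⟩, hmω⟩ := hg
        obtain ⟨k, rfl⟩ := htr ω₀ ω
        have hmω' : m • k • ω₀ = g • k • ω₀ := hmω
        have hs : k⁻¹ * (m⁻¹ * g) * k ∈ stabilizer P ω₀ := by
          rw [mem_stabilizer_iff, mul_smul, mul_smul, mul_smul, ← hmω', inv_smul_smul, inv_smul_smul]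
        have h1 : m⁻¹ * g ∈ M := by
          have := hMn.conj_mem _ (hle hs) k
          rwa [show k * (k⁻¹ * (m⁻¹ * g) * k) * k⁻¹ = m⁻¹ * g by group] at this
        simpa using mul_mem hm h1
      let Q := orbitRel.Quotient M Ω
      have hsmall : ∀ o : Q, Nat.card o.orbit < n := by
        intro o
        induction o using Quotient.inductionOn' with
        | h ω =>
          rw [← hn]
          refine Finite.card_subtype_lt (x := ?_) ?_
          · exact (Classical.choose (SetLike.exists_of_lt hM.lt_top)) • ω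
          · intro hmem
            have hg := Classical.choose_spec (SetLike.exists_of_lt hM.lt_top)
            exact hg.2 (hstab _ ω (orbitRel.Quotient.orbit_mk (G := M) ω ▸ hmem))
      have hY : ∀ o : Q, ∃ X : Set o.orbit, ∀ g : M, (∀ w : o.orbit, g • w ∈ X ↔ w ∈ X) → ∀ w : o.orbit, g • w = w :=
        fun o => ih _ (hsmall o) M o.orbit rfl (hP.to_subgroup M)
      have hodd : ∀ o : Q, Odd (Nat.card o.orbit) := by
        intro o
        induction o using Quotient.inductionOn' with
        | h ω =>
          have h1 : (orbitRel.Quotient.orbit (Quotient.mk'' ω : Q)) = orbit M ω :=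
            orbitRel.Quotient.orbit_mk ω
          rw [h1]
          obtain ⟨k, hk⟩ := (hP.to_subgroup M).card_orbit ω
          rw [hk]
          exact ((Fact.out : p.Prime).odd_of_ne_two hp).pow
      choose Y hY using hY
      let o₁ : Q := Quotient.mk'' ω₀
      let Y' : ∀ o : Q, Set o.orbit := fun o =>
        if (Odd (Y o).ncard ↔ o = o₁) then Y o else (Y o)ᶜ
      have hpar : ∀ o : Q, Odd (Y' o).ncard ↔ o = o₁ := by
        intro o
        simp only [Y']
        split
        · next h => exact h
        · next h =>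
          have h1 := Set.ncard_add_ncard_compl (Y o)
          have h2 := hodd o
          rw [← h1, Nat.odd_add] at h2
          by_cases ho : o = o₁ <;> simp_all [← Nat.not_even_iff_odd]
      have hY' : ∀ o : Q, ∀ g : M, (∀ w : o.orbit, g • w ∈ Y' o ↔ w ∈ Y' o) → ∀ w : o.orbit, g • w = w := by
        intro o g hg
        refine hY o g fun w => ?_
        have := hg w
        simp only [Y'] at this
        split at this
        · exact this
        · simpa using not_iff_not.mpr this
      let X : Set Ω := {ω | (⟨ω, orbitRel.Quotient.mem_orbit.mpr rfl⟩ :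
        (orbitRel.Quotient.orbit (Quotient.mk'' ω : Q) : Set Ω)) ∈ Y' (Quotient.mk'' ω)}
      have hXmem : ∀ (o : Q) (w : o.orbit), (w : Ω) ∈ X ↔ w ∈ Y' o := by
        rintro o ⟨w, hw⟩
        obtain rfl := orbitRel.Quotient.mem_orbit.mp hw
        rfl
      refine ⟨X, fun g hg => ?_⟩
      -- the orbit with an odd number of chosen points is fixed
      have hgM : g ∈ M := by
        let o₂ : Q := Quotient.mk'' (g • ω₀)
        have hmaps : ∀ w : Ω, (Quotient.mk'' w : Q) = o₁ ↔ (Quotient.mk'' (g • w) : Q) = o₂ := by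
          intro w
          rw [Quotient.eq'', Quotient.eq'', orbitRel_apply, orbitRel_apply]
          constructor
          · rintro ⟨⟨m, hm⟩, rfl⟩
            refine ⟨⟨g * m * g⁻¹, hMn.conj_mem m hm g⟩, ?_⟩
            show (g * m * g⁻¹) • (g • ω₀) = g • (m • ω₀)
            simp [mul_smul]
          · rintro ⟨⟨m, hm⟩, hmw⟩
            refine ⟨⟨g⁻¹ * m * g, by simpa using hMn.conj_mem m hm g⁻¹⟩, ?_⟩
            show (g⁻¹ * m * g) • ω₀ = w
            have : m • (g • ω₀) = g • w := hmw
            rw [mul_smul, mul_smul, this, inv_smul_smul]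
        have e : Y' o₁ ≃ Y' o₂ :=
          { toFun := fun w => ⟨⟨g • (w.1 : Ω), orbitRel.Quotient.mem_orbit.mpr
                ((hmaps _).mp (orbitRel.Quotient.mem_orbit.mp w.1.2))⟩,
              (hXmem _ _).mp ((hg _).mpr ((hXmem _ w.1).mpr w.2))⟩
            invFun := fun w => ⟨⟨g⁻¹ • (w.1 : Ω), orbitRel.Quotient.mem_orbit.mpr
                ((hmaps _).mpr (by rw [smul_inv_smul]; exact orbitRel.Quotient.mem_orbit.mp w.1.2))⟩,
              (hXmem _ _).mp ((hg _).mp (by
                show g • (g⁻¹ • (w.1 : Ω)) ∈ X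
                rw [smul_inv_smul]; exact (hXmem _ w.1).mpr w.2))⟩
            left_inv := fun w => by simp
            right_inv := fun w => by simp }
        have h1 : Odd (Y' o₂).ncard := by
          rw [← Nat.card_coe_set_eq, ← Nat.card_congr e, Nat.card_coe_set_eq]
          exact (hpar o₁).mpr rfl
        have h2 := (hpar o₂).mp h1
        exact hstab g ω₀ (orbitRel_apply.mp (Quotient.eq''.mp h2))
      intro ω
      have := hY' (Quotient.mk'' ω) ⟨g, hgM⟩ (fun w => by
        rw [← hXmem, ← hXmem]
        exact hg w) ⟨ω, orbitRel.Quotient.mem_orbit.mpr rfl⟩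
      exact congrArg Subtype.val this
    · -- intransitive: combine over the orbits
      push Not at htr
      obtain ⟨a, b, hab⟩ := htr
      let Q := orbitRel.Quotient P Ω
      have hsmall : ∀ o : Q, Nat.card o.orbit < n := by
        intro o
        rw [← hn]
        by_cases h : (Quotient.mk'' a : Q) = o
        · refine Finite.card_subtype_lt (x := b) fun hb => ?_
          obtain rfl := h
          obtain ⟨g, hg⟩ := orbitRel_apply.mp (Quotient.eq''.mp (orbitRel.Quotient.mem_orbit.mp hb))
          exact hab g hg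
        · exact Finite.card_subtype_lt (x := a) fun ha => h (orbitRel.Quotient.mem_orbit.mp ha)
      have hY : ∀ o : Q, ∃ X : Set o.orbit, ∀ g : P, (∀ w : o.orbit, g • w ∈ X ↔ w ∈ X) → ∀ w : o.orbit, g • w = w :=
        fun o => ih _ (hsmall o) P o.orbit rfl hP
      choose Y hY using hY
      let X : Set Ω := {ω | (⟨ω, orbitRel.Quotient.mem_orbit.mpr rfl⟩ :
        (orbitRel.Quotient.orbit (Quotient.mk'' ω : Q) : Set Ω)) ∈ Y (Quotient.mk'' ω)}
      have hXmem : ∀ (o : Q) (w : o.orbit), (w : Ω) ∈ X ↔ w ∈ Y o := by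
        rintro o ⟨w, hw⟩
        obtain rfl := orbitRel.Quotient.mem_orbit.mp hw
        rfl
      refine ⟨X, fun g hg ω => ?_⟩
      have := hY (Quotient.mk'' ω) g (fun w => by
        rw [← hXmem, ← hXmem]
        exact hg w) ⟨ω, orbitRel.Quotient.mem_orbit.mpr rfl⟩
      exact congrArg Subtype.val this

end Cfsg.Agent.PowerSetOrbit89
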