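import Cfsg.Agent.Lib.ExtraspecialAvoid89
import Cfsg.Agent.Lib.PowerSetOrbit89

/-!
If a normal odd `p`-subgroup `P` of a finite group `H` acts on a finite abelian group `V` of order
prime to `p` and `a ∈ P` acts non-trivially, some vector is fixed by no conjugate of `a`.
-/

namespace Cfsg.Agent.ClassAvoid89

open Subgroup PGroupsBasic ExtraspecialAvoid89
open scoped commutatorElement

universe u v

variable {p : ℕ} [Fact p.Prime]

section Defs

variable {H : Type u} [Group H] {V : Type v} [CommGroup V] [MulDistribMulAction H V]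

/-- The vectors fixed by every element of `B`. -/
def fixOf (B : Subgroup H) : Subgroup V where
  carrier := {v | ∀ b ∈ B, b • v = v}
  one_mem' := fun b _ => smul_one b
  mul_mem' := fun {x y} hx hy b hb => by rw [smul_mul', hx b hb, hy b hb]
  inv_mem' := fun {x} hx b hb => by rw [smul_inv', hx b hb]

theorem mem_fixOf {B : Subgroup H} {v : V} : v ∈ fixOf B ↔ ∀ b ∈ B, b • v = v := Iff.rfl

theorem mem_fixOf_sup_zpowers {B : Subgroup H} {g : H} {v : V} (hB : v ∈ fixOf B) (hg : g • v = v) :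
    v ∈ fixOf (B ⊔ zpowers g) := fun b hb =>
  MulAction.mem_stabilizer_iff.mp ((sup_le (fun c hc => MulAction.mem_stabilizer_iff.mpr (hB c hc))
    (zpowers_le_iff_mem.mpr (MulAction.mem_stabilizer_iff.mpr hg))) hb)

/-- `B` is a maximal subgroup of `A`. -/
def IsMaxIn (A B : Subgroup H) : Prop :=
  B ≤ A ∧ B ≠ A ∧ ∀ g ∈ A, g ∉ B → A ≤ B ⊔ zpowers g

/-- The conjugate `h B h⁻¹`. -/
def conjSub (h : H) (B : Subgroup H) : Subgroup H := B.comap (MulAut.conj h⁻¹).toMonoidHom

theorem mem_conjSub {h x : H} {B : Subgroup H} : x ∈ conjSub h B ↔ h⁻¹ * x * h ∈ B := by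
  simp [conjSub]

theorem conjSub_conjSub (h k : H) (B : Subgroup H) :
    conjSub h (conjSub k B) = conjSub (h * k) B := by
  ext x; simp [mem_conjSub, mul_assoc]

theorem conjSub_one (B : Subgroup H) : conjSub 1 B = B := by ext x; simp [mem_conjSub]

theorem smul_mem_fixOf {h : H} {B : Subgroup H} {v : V} (hv : v ∈ fixOf B) :
    h • v ∈ fixOf (conjSub h B) := fun b hb => by
  conv_rhs => rw [← hv _ (mem_conjSub.mp hb)]
  simp [← mul_smul, mul_assoc]

theorem IsMaxIn.conj {A B : Subgroup H} [A.Normal] (hB : IsMaxIn A B) (h : H) :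
    IsMaxIn A (conjSub h B) := by
  have hA : ∀ (k x : H), k⁻¹ * x * k ∈ A ↔ x ∈ A := fun k x =>
    ⟨fun hx => by
      have := ‹A.Normal›.conj_mem _ hx k
      simpa [mul_assoc] using this,
     fun hx => by simpa using ‹A.Normal›.conj_mem x hx k⁻¹⟩
  refine ⟨fun x hx => (hA h x).mp (hB.1 (mem_conjSub.mp hx)), fun he => hB.2.1 ?_,
    fun g hg hgB x hx => ?_⟩
  · refine le_antisymm hB.1 fun x hx => ?_
    have : h * x * h⁻¹ ∈ conjSub h B := he ▸ ‹A.Normal›.conj_mem x hx h
    simpa [mem_conjSub, mul_assoc] using this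
  · have hle := hB.2.2 _ ((hA h g).mpr hg) (fun hh => hgB (mem_conjSub.mpr hh))
    have hle' : B ⊔ zpowers (h⁻¹ * g * h) ≤ conjSub h⁻¹ (conjSub h B ⊔ zpowers g) := by
      refine sup_le (fun y hy => mem_conjSub.mpr (mem_sup_left (mem_conjSub.mpr ?_)))
        (zpowers_le_iff_mem.mpr (mem_conjSub.mpr (mem_sup_right ?_)))
      · simpa [mul_assoc] using hy
      · simp [mul_assoc]
    have := mem_conjSub.mp (hle' (hle ((hA h x).mpr hx)))
    simpa [mul_assoc] using this

theorem map_centralCommSub {P : Type u} [Group P] (hp : p ≠ 2) (φ : MulAut P) {x : P}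
    (hx : x ∈ centralCommSub (P := P) hp) : φ x ∈ centralCommSub (P := P) hp := by
  refine ⟨by rw [← map_pow, hx.1, map_one], fun y => mem_center_iff.mpr fun g => ?_⟩
  obtain ⟨y, rfl⟩ := φ.surjective y
  obtain ⟨g, rfl⟩ := φ.surjective g
  rw [← map_commutatorElement, ← map_mul, ← map_mul, mem_center_iff.mp (hx.2 y) g]

end Defs

/-- Induction step for a big elementary abelian normal subgroup. -/
theorem exists_avoid_of_big {H : Type u} [Group H] [Finite H] {V : Type u} [CommGroup V] [Finite V]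
    [MulDistribMulAction H V] (hp : p ≠ 2)
    (ih : ∀ (W : Type u) [CommGroup W] [Finite W] (K : Type u) [Group K] [Finite K]
      [MulDistribMulAction K W] (Q : Subgroup K) [Q.Normal] (b : K),
      Nat.card W < Nat.card V → IsPGroup p Q → (Nat.card W).Coprime p → b ∈ Q →
      (∃ w : W, b • w ≠ w) → ∃ w : W, ∀ k : K, (k * b * k⁻¹) • w ≠ w)
    (hV : (Nat.card V).Coprime p) (hfaith : ∀ h : H, (∀ v : V, h • v = v) → h = 1)
    (hirr : ∀ W : Subgroup V, (∀ h : H, ∀ w ∈ W, h • w ∈ W) → W = ⊥ ∨ W = ⊤)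
    {P : Subgroup H} [hPn : P.Normal] (hP : IsPGroup p P) {a : H} (haP : a ∈ P)
    (ha : ∃ v : V, a • v ≠ v)
    {A : Subgroup H} [hAn : A.Normal] (hAP : A ≤ P) (hAc : ∀ x ∈ A, ∀ y ∈ A, Commute x y)
    (hAp : ∀ x ∈ A, x ^ p = 1) {x₀ : H} (hx₀ : x₀ ∈ A) (hx₀1 : x₀ ≠ 1)
    (hbig : ¬ A ≤ zpowers x₀) :
    ∃ v : V, ∀ h : H, (h * a * h⁻¹) • v ≠ v := by
  classical
  haveI : Fintype H := Fintype.ofFinite H
  let ι := {B : Subgroup H // IsMaxIn A B ∧ fixOf (V := V) B ≠ ⊥}
  haveI : Fintype ι := Fintype.ofFinite ι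
  have hA1 : fixOf (V := V) A = ⊥ := by
    refine (hirr (fixOf (V := V) A) ?_).resolve_right fun htop => hx₀1 (hfaith x₀ fun v =>
      (show v ∈ fixOf (V := V) A from htop ▸ mem_top v) x₀ hx₀)
    intro h w hw b hb
    have := hw _ (show h⁻¹ * b * h ∈ A by simpa using hAn.conj_mem b hb h⁻¹)
    rw [mul_smul, mul_smul, inv_smul_eq_iff] at this
    exact this
  set S : Subgroup V := ⨆ i : ι, fixOf i.1 with hSdef
  have hAord : ∀ y ∈ A, ∀ D : Subgroup H, y ∉ D → ∀ t, 0 < t → t < p → y ^ t ∉ D := by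
    intro y hy D hyD t ht0 htp htD
    have hy1 : y ≠ 1 := fun h => hyD (h ▸ one_mem D)
    obtain ⟨m, hm⟩ := exists_pow_eq_self_of_coprime (x := y) (n := t) (by
      rw [orderOf_eq_of_pow_eq_one (hAp y hy) hy1]
      exact (((Fact.out : p.Prime).coprime_iff_not_dvd).mpr fun hd => by
        have := Nat.le_of_dvd ht0 hd; omega).symm)
    exact hyD (hm ▸ pow_mem htD m)
  have hgen : ∀ (m : ℕ) (D : Subgroup H), D ≤ A → Nat.card A - Nat.card D = m →
      fixOf (V := V) D ≤ S := by
    intro m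
    induction m using Nat.strong_induction_on with
    | _ m ihm =>
    intro D hDA hm
    by_cases hDeq : D = A
    · rw [hDeq, hA1]; exact bot_le
    by_cases hmax : IsMaxIn A D
    · by_cases hne : fixOf (V := V) D = ⊥
      · rw [hne]; exact bot_le
      · exact le_iSup (fun i : ι => fixOf (V := V) i.1) ⟨D, hmax, hne⟩
    simp only [IsMaxIn, hDA, ne_eq, hDeq, not_false_eq_true, true_and, not_forall] at hmax
    obtain ⟨x, hxA, hxD, hnle⟩ := hmax
    obtain ⟨y, hyA, hy⟩ := SetLike.not_le_iff_exists.mp hnle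
    intro v hv
    have hN : ∀ g ∈ A, g ∉ D → nrm p g v ∈ S := by
      intro g hgA hgD
      have hle : D ⊔ zpowers g ≤ A := sup_le hDA (zpowers_le_iff_mem.mpr hgA)
      have hlt : Nat.card D < Nat.card (D ⊔ zpowers g : Subgroup H) := by
        refine lt_of_le_of_ne (card_le_of_le le_sup_left) fun he => hgD ?_
        rw [eq_of_le_of_card_ge le_sup_left he.ge]
        exact mem_sup_right (mem_zpowers g)
      have h2 := card_le_of_le hle
      refine ihm _ (by omega) (D ⊔ zpowers g) hle rfl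
        (mem_fixOf_sup_zpowers (fun b hb => ?_) (smul_nrm (hAp g hgA) v))
      exact smul_nrm_of_commute (hAc b (hDA hb) g hgA) (hv b hb)
    have hyD : y ∉ D ⊔ zpowers x := hy
    have hprod : ∏ t ∈ Finset.range p, nrm p (y ^ t * x) v ∈ S := prod_mem fun t ht =>
      hN _ (A.mul_mem (pow_mem hyA t) hxA) fun hmem => by
        rcases Nat.eq_zero_or_pos t with rfl | ht0
        · exact hxD (by simpa using hmem)
        · refine hAord y hyA _ hyD t ht0 (Finset.mem_range.mp ht) ?_
          have := mul_mem (mem_sup_left (T := zpowers x) hmem)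
            (inv_mem (mem_sup_right (S := D) (mem_zpowers x)))
          simpa using this
    rw [prod_nrm (hAc y hyA x hxA), ← Finset.mul_prod_erase _ _
      (Finset.mem_range.mpr (Fact.out : p.Prime).pos), pow_zero, one_smul, pow_zero,
      nrm_of_fixed (one_smul H v)] at hprod
    refine mem_of_pow_mem hV ((S.mul_mem_cancel_right (prod_mem fun s hs => ?_)).mp hprod)
    rw [Finset.mem_erase, Finset.mem_range] at hs
    have hys : y ^ s ∉ D := fun h => hAord y hyA _ hyD s (Nat.pos_of_ne_zero hs.1) hs.2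
      (mem_sup_left h)
    have hle : D ⊔ zpowers (y ^ s) ≤ A := sup_le hDA (zpowers_le_iff_mem.mpr (pow_mem hyA s))
    have hlt : Nat.card D < Nat.card (D ⊔ zpowers (y ^ s) : Subgroup H) := by
      refine lt_of_le_of_ne (card_le_of_le le_sup_left) fun he => hys ?_
      rw [eq_of_le_of_card_ge le_sup_left he.ge]
      exact mem_sup_right (mem_zpowers _)
    have h2 := card_le_of_le hle
    refine ihm _ (by omega) (D ⊔ zpowers (y ^ s)) hle rfl (mem_fixOf_sup_zpowers (fun b hb => ?_) ?_)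
    · rw [← mul_smul, (hAc b (hDA hb) _ (pow_mem hxA s)).eq, mul_smul,
        smul_nrm_of_commute ((hAc b (hDA hb) _ (pow_mem hyA s))) (hv b hb)]
    · rw [← mul_smul, (hAc _ (pow_mem hyA s) _ (pow_mem hxA s)).eq, mul_smul,
        smul_nrm (hAp _ (pow_mem hyA s))]
  have hStop : S = ⊤ := eq_top_iff.mpr fun v _ => hgen _ ⊥ bot_le rfl
    (fun b hb => by rw [Subgroup.mem_bot.mp hb, one_smul])
  -- independence
  have hindep : ∀ c d : ι → V, (∀ i, c i ∈ fixOf i.1) → (∀ i, d i ∈ fixOf i.1) →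
      ∏ i, c i = ∏ i, d i → c = d := by
    intro c d hc hd h
    funext i
    let N : V →* V := ∏ b : (i.1 : Subgroup H), MulDistribMulAction.toMonoidHom V (b : H)
    have hN : ∀ w : V, N w = ∏ b : (i.1 : Subgroup H), (b : H) • w := fun w => by
      simp [N, MonoidHom.finsetProd_apply]
    have hval : ∀ e : ι → V, (∀ j, e j ∈ fixOf j.1) →
        N (∏ j, e j) = e i ^ Nat.card (i.1 : Subgroup H) := by
      intro e he
      rw [map_prod, Finset.prod_eq_single i]
      · rw [hN, Finset.prod_congr rfl fun (b : (i.1 : Subgroup H)) _ => he i (b : H) b.2,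
          Finset.prod_const, Finset.card_univ,
          Nat.card_eq_fintype_card]
      · intro j _ hji
        have hmem : N (e j) ∈ fixOf (V := V) A := by
          have hAle : A ≤ i.1 ⊔ j.1 := by
            by_cases hsub : j.1 ≤ i.1
            · obtain ⟨g, hg, hg'⟩ := SetLike.exists_of_lt
                (lt_of_le_of_ne hsub fun he => hji (Subtype.ext he))
              exact absurd (le_antisymm i.2.1.1 ((j.2.1.2.2 g (i.2.1.1 hg) hg').trans
                (sup_le hsub (zpowers_le_iff_mem.mpr hg)))) i.2.1.2.1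
            · obtain ⟨g, hg, hg'⟩ := SetLike.not_le_iff_exists.mp hsub
              exact (i.2.1.2.2 g (j.2.1.1 hg) hg').trans
                (sup_le_sup_left (zpowers_le_iff_mem.mpr hg) _)
          have hst : i.1 ⊔ j.1 ≤ MulAction.stabilizer H (N (e j)) := by
            refine sup_le (fun k hk => ?_) fun k hk => ?_
            · rw [MulAction.mem_stabilizer_iff, hN, Finset.smul_prod']
              exact Fintype.prod_equiv (Equiv.mulLeft (⟨k, hk⟩ : (i.1 : Subgroup H))) _ _
                fun c => by simp [mul_smul]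
            · rw [MulAction.mem_stabilizer_iff, hN, Finset.smul_prod']
              refine Finset.prod_congr rfl fun c _ => ?_
              rw [← mul_smul, (hAc k (j.2.1.1 hk) c (i.2.1.1 c.2)).eq, mul_smul, he j k hk]
          exact fun b hb => MulAction.mem_stabilizer_iff.mp (hst (hAle hb))
        rw [hA1, Subgroup.mem_bot] at hmem
        exact hmem
      · intro hh; exact absurd (Finset.mem_univ i) hh
    have h1 : c i ^ Nat.card (i.1 : Subgroup H) = d i ^ Nat.card (i.1 : Subgroup H) := by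
      rw [← hval c hc, ← hval d hd, h]
    obtain ⟨k, hk⟩ := IsPGroup.iff_card.mp (hP.to_le (i.2.1.1.trans hAP))
    rw [hk] at h1
    have := eq_one_of_pow (hV.pow_right k) (v := c i / d i) (by rw [div_pow, h1, div_self'])
    exact div_eq_one.mp this
  -- the action on `ι`
  letI actι : MulAction H ι :=
    { smul := fun h i => ⟨conjSub h i.1, i.2.1.conj h, fun hbot => i.2.2 ((Subgroup.eq_bot_iff_forall _).mpr
        fun w hw => by
          have := smul_mem_fixOf (h := h) hw
          rw [hbot, Subgroup.mem_bot] at this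
          exact (smul_eq_iff_eq_inv_smul h).mp this |>.trans (smul_one _))⟩
      one_smul := fun i => Subtype.ext (conjSub_one i.1)
      mul_smul := fun h k i => Subtype.ext (conjSub_conjSub h k i.1).symm }
  have hsmul : ∀ (h : H) (i : ι), (h • i).1 = conjSub h i.1 := fun _ _ => rfl
  have htrans : ∀ (x : H) (c : ι → V), (∀ i, c i ∈ fixOf i.1) → x • (∏ i, c i) = ∏ i, c i →
      ∀ i, x • c (x⁻¹ • i) = c i := by
    intro x c hc hx i
    have := hindep (fun i => x • c (x⁻¹ • i)) c (fun i => by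
      have h1 := smul_mem_fixOf (h := x) (hc (x⁻¹ • i))
      rwa [hsmul, conjSub_conjSub, mul_inv_cancel, conjSub_one] at h1) hc (by
        rw [← Finset.smul_prod', ← hx]
        exact congrArg _ (Equiv.prod_comp (MulAction.toPerm x⁻¹ : Equiv.Perm ι) c |>.trans rfl))
    exact congrFun this i
  by_cases hmove : ∃ i : ι, a • i ≠ i
  · obtain ⟨X, hX⟩ := PowerSetOrbit89.exists_regular_set hp _ P ι rfl hP
    have hw : ∀ i : ι, ∃ w ∈ fixOf (V := V) i.1, w ≠ 1 := fun i => by
      have h := i.2.2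
      rw [ne_eq, Subgroup.eq_bot_iff_forall] at h
      push Not at h
      exact h
    choose w hwm hw1 using hw
    let c : ι → V := fun i => if i ∈ X then w i else 1
    have hc : ∀ i, c i ∈ fixOf (V := V) i.1 := fun i => by
      simp only [c]; split
      · exact hwm i
      · exact one_mem _
    have hc1 : ∀ i, c i ≠ 1 ↔ i ∈ X := fun i => by
      simp only [c]; split <;> simp_all
    refine ⟨∏ i, c i, fun h hfix => ?_⟩
    obtain ⟨i, hi⟩ := hmove
    set x := h * a * h⁻¹ with hx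
    have hxP : x⁻¹ ∈ P := inv_mem (hPn.conj_mem a haP h)
    have hall : ∀ j : ι, x⁻¹ • j = j := fun j => hX ⟨x⁻¹, hxP⟩ (fun k => by
      show x⁻¹ • k ∈ X ↔ k ∈ X
      rw [← hc1, ← hc1, ← htrans x c hc hfix k, ne_eq, ne_eq, smul_eq_iff_eq_inv_smul, smul_one]) j
    apply hi
    have := hall (h • i)
    rw [inv_smul_eq_iff, hx, mul_smul, mul_smul, inv_smul_smul] at this
    exact (smul_left_cancel h this).symm
  push Not at hmove
  obtain ⟨i₁, w₁, hw₁, hw₁a⟩ : ∃ i : ι, ∃ w ∈ fixOf (V := V) i.1, a • w ≠ w := by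
    by_contra hcon
    push Not at hcon
    obtain ⟨v, hv⟩ := ha
    exact hv ((show S ≤ fixSub a from iSup_le fun i w hw => hcon i w hw)
      (hStop.symm ▸ Subgroup.mem_top v))
  let H₁ : Subgroup H := MulAction.stabilizer H i₁
  have hinv : ∀ h : H₁, ∀ w ∈ fixOf (V := V) i₁.1, (h : H) • w ∈ fixOf (V := V) i₁.1 :=
    fun h w hw => by
      have := smul_mem_fixOf (h := (h : H)) hw
      rwa [← hsmul, MulAction.mem_stabilizer_iff.mp h.2] at this
  letI actW : MulDistribMulAction H₁ (fixOf (V := V) i₁.1) :=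
    { smul := fun h w => ⟨(h : H) • (w : V), hinv h w w.2⟩
      one_smul := fun w => Subtype.ext (one_smul H (w : V))
      mul_smul := fun h k w => Subtype.ext (mul_smul (h : H) (k : H) (w : V))
      smul_mul := fun h w w' => Subtype.ext (smul_mul' (h : H) (w : V) (w' : V))
      smul_one := fun h => Subtype.ext (smul_one (h : H)) }
  let P₁ : Subgroup H := P ⊓ (MulAction.toPermHom H ι).ker
  have haP₁ : a ∈ P₁ := ⟨haP, MonoidHom.mem_ker.mpr (Equiv.ext hmove)⟩
  have hP₁le : P₁ ≤ H₁ := fun g hg =>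
    MulAction.mem_stabilizer_iff.mpr (Equiv.Perm.congr_fun (MonoidHom.mem_ker.mp hg.2) i₁)
  have hlt : Nat.card (fixOf (V := V) i₁.1) < Nat.card V := by
    refine lt_of_le_of_ne (card_le_card_group _) fun he => ?_
    have htop : fixOf (V := V) i₁.1 = ⊤ := eq_top_of_card_eq _ he
    have hB : i₁.1 = ⊥ := (Subgroup.eq_bot_iff_forall _).mpr fun b hb => hfaith b fun v =>
      (show v ∈ fixOf (V := V) i₁.1 from htop ▸ mem_top v) b hb
    have := i₁.2.1.2.2 x₀ hx₀ (by rw [hB]; simpa using hx₀1)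
    rw [hB, bot_sup_eq] at this
    exact hbig this
  obtain ⟨v₁, hv₁⟩ := ih (fixOf (V := V) i₁.1) H₁ (P₁.subgroupOf H₁) ⟨a, hP₁le haP₁⟩ hlt
    ((hP.to_le inf_le_left).comap_of_injective H₁.subtype H₁.subtype_injective)
    (hV.coprime_dvd_left (card_subgroup_dvd_card _)) haP₁
    ⟨⟨w₁, hw₁⟩, fun h => hw₁a (congrArg Subtype.val h)⟩
  let g : ι → H := fun i => if h : ∃ k : H, k • i₁ = i then h.choose else 1
  let c : ι → V := fun i => if i ∈ MulAction.orbit H i₁ then g i • (v₁ : V) else 1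
  have hg : ∀ i ∈ MulAction.orbit H i₁, g i • i₁ = i := fun i hi => by
    have hi' : ∃ k : H, k • i₁ = i := hi
    simp only [g, dif_pos hi']
    exact hi'.choose_spec
  have hc : ∀ i, c i ∈ fixOf (V := V) i.1 := fun i => by
    simp only [c]; split
    · next hi =>
      have := smul_mem_fixOf (h := g i) v₁.2
      rwa [← hsmul, hg i hi] at this
    · exact one_mem _
  refine ⟨∏ i, c i, fun h hfix => ?_⟩
  set x := h * a * h⁻¹ with hx
  have hallfix : ∀ i : ι, x⁻¹ • i = i := fun i => by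
    rw [inv_smul_eq_iff, hx, mul_smul, mul_smul, hmove, smul_inv_smul]
  have h1 := htrans x c hc hfix (h • i₁)
  rw [hallfix] at h1
  simp only [c, if_pos (MulAction.mem_orbit i₁ h)] at h1
  have hk : h⁻¹ * g (h • i₁) ∈ H₁ := MulAction.mem_stabilizer_iff.mpr (by
    rw [mul_smul, hg _ (MulAction.mem_orbit i₁ h), inv_smul_smul])
  apply hv₁ ⟨_, inv_mem hk⟩
  refine Subtype.ext ?_
  show ((h⁻¹ * g (h • i₁))⁻¹ * a * (h⁻¹ * g (h • i₁))⁻¹⁻¹) • (v₁ : V) = v₁
  have e : (h⁻¹ * g (h • i₁))⁻¹ * a * (h⁻¹ * g (h • i₁))⁻¹⁻¹ =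
      (g (h • i₁))⁻¹ * (x * g (h • i₁)) := by rw [hx]; group
  rw [e, mul_smul, mul_smul, h1, inv_smul_smul]

/-- The case without big elementary abelian normal subgroups. -/
theorem exists_avoid_of_small {H : Type u} [Group H] [Finite H] {V : Type v} [CommGroup V]
    [Finite V] [MulDistribMulAction H V] (hp : p ≠ 2)
    (hV : (Nat.card V).Coprime p) (hfaith : ∀ h : H, (∀ v : V, h • v = v) → h = 1)
    (hirr : ∀ W : Subgroup V, (∀ h : H, ∀ w ∈ W, h • w ∈ W) → W = ⊥ ∨ W = ⊤)
    {P : Subgroup H} [hPn : P.Normal] (hP : IsPGroup p P) {a : H} (haP : a ∈ P)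
    (hap : a ^ p = 1) (ha : ∃ v : V, a • v ≠ v)
    (hsmall : ∀ A : Subgroup H, A.Normal → A ≤ P → (∀ x ∈ A, ∀ y ∈ A, Commute x y) →
      (∀ x ∈ A, x ^ p = 1) → ∀ x ∈ A, x ≠ 1 → A ≤ zpowers x) :
    ∃ v : V, ∀ h : H, (h * a * h⁻¹) • v ≠ v := by
  classical
  obtain ⟨v₀, hv₀⟩ := ha
  have ha1 : a ≠ 1 := fun h => hv₀ (by rw [h, one_smul])
  haveI : Nontrivial V := ⟨⟨_, _, hv₀⟩⟩
  -- the elements of order dividing `p` of the centre of `P`
  let Om : Subgroup H :=
    { carrier := {x | x ∈ P ∧ x ^ p = 1 ∧ ∀ y ∈ P, Commute x y}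
      one_mem' := ⟨one_mem _, one_pow p, fun y _ => Commute.one_left y⟩
      mul_mem' := fun {x y} hx hy => ⟨mul_mem hx.1 hy.1,
        by rw [(hx.2.2 y hy.1).mul_pow, hx.2.1, hy.2.1, one_mul],
        fun w hw => (hx.2.2 w hw).mul_left (hy.2.2 w hw)⟩
      inv_mem' := fun {x} hx => ⟨inv_mem hx.1, by rw [inv_pow, hx.2.1, inv_one],
        fun w hw => (hx.2.2 w hw).inv_left⟩ }
  have hOmn : Om.Normal := by
    refine ⟨fun x hx h => ⟨hPn.conj_mem x hx.1 h, by rw [conj_pow, hx.2.1]; simp, fun y hy => ?_⟩⟩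
    have h1 := (hx.2.2 (h⁻¹ * y * h) (by simpa using hPn.conj_mem y hy h⁻¹)).map
      (MulAut.conj h).toMonoidHom
    simpa [mul_assoc] using h1
  obtain ⟨z, hzOm, hz1⟩ : ∃ z ∈ Om, z ≠ 1 := by
    have hne : (⊤ : Subgroup P) ≠ ⊥ := fun h => ha1 (by
      have := h ▸ Subgroup.mem_top (⟨a, haP⟩ : P)
      exact congrArg Subtype.val (Subgroup.mem_bot.mp this))
    obtain ⟨z, hz, hzo⟩ := exists_orderOf_eq_of_ne_bot (p := p) (hP.to_subgroup _)
      (inf_center_ne_bot hP hne)
    refine ⟨(z : H), ⟨z.2, ?_, fun y hy => ?_⟩, fun h => ?_⟩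
    · rw [← hzo, ← SubmonoidClass.coe_pow, pow_orderOf_eq_one]; rfl
    · exact congrArg Subtype.val ((mem_center_comm hz.2 ⟨y, hy⟩).symm)
    · rw [OneMemClass.coe_eq_one.mp h, orderOf_one] at hzo
      exact (Fact.out : p.Prime).ne_one hzo.symm
  have hOmz : Om ≤ zpowers z := hsmall Om hOmn (fun x hx => hx.1)
    (fun x hx y hy => hx.2.2 y hy.1) (fun x hx => hx.2.1) z hzOm hz1
  have hfix : ∀ v : V, z • v = v → v = 1 := by
    have hinv : ∀ h : H, ∀ w ∈ fixSub (V := V) z, h • w ∈ fixSub (V := V) z := by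
      intro h w hw
      have hzc : h⁻¹ * z * h ∈ zpowers z := hOmz (by simpa using hOmn.conj_mem z hzOm h⁻¹)
      have := MulAction.mem_stabilizer_iff.mp
        ((zpowers_le_iff_mem.mpr (MulAction.mem_stabilizer_iff.mpr hw)) hzc)
      rw [mul_smul, mul_smul, inv_smul_eq_iff] at this
      exact this
    intro v hv
    rcases hirr _ hinv with h | h
    · exact Subgroup.mem_bot.mp (h ▸ (hv : v ∈ fixSub z))
    · exact absurd (hfaith z fun w => (h ▸ Subgroup.mem_top w : w ∈ fixSub z)) hz1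
  by_cases haz : a ∈ zpowers z
  · obtain ⟨v, hv⟩ := exists_ne (1 : V)
    refine ⟨v, fun h hfx => hv (eq_one_of_fixed hzOm.2.1 hz1 hfix
      (hOmz (hOmn.conj_mem a ((zpowers_le_iff_mem.mpr hzOm) haz) h)) (fun he => ha1 ?_) hfx)⟩
    exact conj_eq_one_iff.mp he
  -- work inside `P`
  let zP : P := ⟨z, hzOm.1⟩
  let aP : P := ⟨a, haP⟩
  have hzc : zP ∈ center P := mem_center_iff.mpr fun y => Subtype.ext (hzOm.2.2 y y.2).eq.symm
  have hzp : zP ^ p = 1 := Subtype.ext hzOm.2.1
  have hzP1 : zP ≠ 1 := fun h => hz1 (congrArg Subtype.val h)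
  have hmemz : ∀ x : P, (x : H) ∈ zpowers z → x ∈ zpowers zP := fun x hx => by
    obtain ⟨k, hk⟩ := mem_zpowers_iff.mp hx
    exact mem_zpowers_iff.mpr ⟨k, Subtype.ext (by simpa [zP] using hk)⟩
  have hmemz' : ∀ x : P, x ∈ zpowers zP → (x : H) ∈ zpowers z := fun x hx => by
    obtain ⟨k, rfl⟩ := mem_zpowers_iff.mp hx
    exact mem_zpowers_iff.mpr ⟨k, by simp [zP]⟩
  have hZ : ∀ x ∈ center P, x ^ p = 1 → x ∈ zpowers zP := fun x hx hxp => hmemz x (hOmz
    ⟨x.2, by simpa using congrArg Subtype.val hxp, fun y hy =>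
      congrArg Subtype.val (mem_center_comm hx ⟨y, hy⟩).symm⟩)
  have hE : ∀ x ∈ centralCommSub (P := P) hp,
      (∀ y ∈ centralCommSub (P := P) hp, Commute x y) → x ∈ zpowers zP := by
    intro x hx hxc
    let Z₂ : Subgroup H := ((centralCommSub (P := P) hp) ⊓
      centralizer (centralCommSub (P := P) hp : Set P)).map P.subtype
    have hZn : Z₂.Normal := by
      refine ⟨?_⟩
      rintro _ ⟨y, ⟨hy, hyc⟩, rfl⟩ h
      refine ⟨MulAut.conjNormal h y, ⟨map_centralCommSub hp _ hy, mem_centralizer_iff.mpr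
        fun w hw => ?_⟩, by simp⟩
      have h1 := map_centralCommSub hp (MulAut.conjNormal h).symm hw
      have h2 := congrArg (MulAut.conjNormal h) (mem_centralizer_iff.mp hyc _ h1)
      simpa using h2
    have hle : Z₂ ≤ P := fun y hy => by
      obtain ⟨w, -, rfl⟩ := hy; exact w.2
    have hzZ : z ∈ Z₂ := ⟨zP, ⟨⟨hzp, fun w => by
      rw [commutatorElement_eq_one_iff_mul_comm.mpr (mem_center_comm hzc w).symm]; exact one_mem _⟩,
      mem_centralizer_iff.mpr fun w _ => mem_center_comm hzc w⟩, rfl⟩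
    refine hmemz x (hsmall Z₂ hZn hle ?_ ?_ z hzZ hz1 ⟨x, ⟨hx, mem_centralizer_iff.mpr
      fun w hw => (hxc w hw).eq.symm⟩, rfl⟩)
    · rintro _ ⟨u, hu, rfl⟩ _ ⟨w, hw, rfl⟩
      exact congrArg Subtype.val (mem_centralizer_iff.mp hu.2 w hw.1).symm
    · rintro _ ⟨u, hu, rfl⟩
      simpa using congrArg Subtype.val hu.1.1
  have hfix' : ∀ v : V, zP • v = v → v = 1 := fun v hv => hfix v hv
  obtain ⟨v, hv⟩ := exists_avoid_centralCommSub hp hV hzc hzp hzP1 hfix' hZ hE
  refine ⟨v, fun h => ?_⟩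
  let b : P := ⟨h * a * h⁻¹, hPn.conj_mem a haP h⟩
  have hbp : b ^ p = 1 := Subtype.ext (show (h * a * h⁻¹) ^ p = 1 by rw [conj_pow, hap]; simp)
  refine hv b (mem_centralCommSub_of_pow_eq_one hp hP hV hzc hzp hzP1 hfix' hZ hE hbp)
    fun hb => haz ?_
  have h1 : h * a * h⁻¹ ∈ Om := zpowers_le_iff_mem.mpr hzOm (hmemz' b hb)
  refine hOmz ?_
  simpa [mul_assoc] using hOmn.conj_mem _ h1 h⁻¹

/-- Some vector is fixed by no conjugate of `a`. -/
theorem exists_avoid (hp : p ≠ 2) : ∀ (n : ℕ) (V : Type u) [CommGroup V] [Finite V] (H : Type u)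
    [Group H] [Finite H] [MulDistribMulAction H V] (P : Subgroup H) [P.Normal] (a : H),
    Nat.card V = n → IsPGroup p P → (Nat.card V).Coprime p → a ∈ P → (∃ v : V, a • v ≠ v) →
    ∃ v : V, ∀ h : H, (h * a * h⁻¹) • v ≠ v := by
  intro n
  induction n using Nat.strong_induction_on with
  | _ n ih =>
  intro V _ _
  -- the faithful case
  suffices hF : ∀ (H : Type u) [Group H] [Finite H] [MulDistribMulAction H V] (P : Subgroup H)
      [P.Normal] (a : H), Nat.card V = n → IsPGroup p P → (Nat.card V).Coprime p → a ∈ P →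
      (∃ v : V, a • v ≠ v) → (∀ h : H, (∀ v : V, h • v = v) → h = 1) →
      ∃ v : V, ∀ h : H, (h * a * h⁻¹) • v ≠ v by
    intro H _ _ _ P _ a hn hP hV haP ha
    let φ : H →* MulAut V := MulDistribMulAction.toMulAut H V
    let act : MulDistribMulAction φ.range V :=
      MulDistribMulAction.compHom V φ.range.subtype
    obtain ⟨v, hv⟩ := @hF φ.range _ _ act (P.map φ.rangeRestrict)
      (Subgroup.Normal.map inferInstance _ φ.rangeRestrict_surjective) (φ.rangeRestrict a) hn
      (hP.map _) hV (Subgroup.mem_map_of_mem _ haP) ha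
      (fun h hh => Subtype.ext (MulEquiv.ext hh))
    refine ⟨v, fun h hfix => hv (φ.rangeRestrict h) ?_⟩
    rw [← map_inv, ← map_mul, ← map_mul]
    exact hfix
  intro H _ _ _ P _ a hn hP hV haP ha hfaith
  classical
  obtain ⟨v₀, hv₀⟩ := ha
  -- no invariant subgroup
  by_cases hirr : ∀ W : Subgroup V, (∀ h : H, ∀ w ∈ W, h • w ∈ W) → W = ⊥ ∨ W = ⊤
  swap
  · push Not at hirr
    obtain ⟨W, hW, hWb, hWt⟩ := hirr
    have hWlt : Nat.card W < n := hn ▸ (lt_of_le_of_ne (card_le_card_group W)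
      fun he => hWt (eq_top_of_card_eq W he))
    letI actW : MulDistribMulAction H W :=
      { smul := fun h w => ⟨h • (w : V), hW h w w.2⟩
        one_smul := fun w => Subtype.ext (one_smul H (w : V))
        mul_smul := fun h k w => Subtype.ext (mul_smul h k (w : V))
        smul_mul := fun h w w' => Subtype.ext (smul_mul' h (w : V) (w' : V))
        smul_one := fun h => Subtype.ext (smul_one h) }
    by_cases haW : ∃ w : W, a • w ≠ w
    · obtain ⟨w, hw⟩ := ih _ hWlt W H P a rfl hP (hV.coprime_dvd_left (card_subgroup_dvd_card W))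
        haP haW
      exact ⟨(w : V), fun h hh => hw h (Subtype.ext hh)⟩
    push Not at haW
    have hq : ∀ h : H, W ≤ W.comap (MulDistribMulAction.toMonoidHom V h) := fun h w hw => hW h w hw
    letI actQ : MulDistribMulAction H (V ⧸ W) :=
      { smul := fun h q => QuotientGroup.map W W (MulDistribMulAction.toMonoidHom V h) (hq h) q
        one_smul := fun q => by
          induction q using QuotientGroup.induction_on with
          | H v => exact congrArg _ (one_smul H v)
        mul_smul := fun h k q => by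
          induction q using QuotientGroup.induction_on with
          | H v => exact congrArg _ (mul_smul h k v)
        smul_mul := fun h q q' => map_mul _ q q'
        smul_one := fun h => map_one _ }
    have hQlt : Nat.card (V ⧸ W) < n := by
      have h1 := card_eq_card_quotient_mul_card_subgroup W
      have h2 : 1 < Nat.card W := (one_lt_card_iff_ne_bot W).mpr hWb
      have h3 : 0 < Nat.card (V ⧸ W) := Nat.card_pos
      rw [← hn, h1]
      exact lt_mul_right h3 h2
    have haQ : ∃ q : V ⧸ W, a • q ≠ q := by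
      by_contra hall
      push Not at hall
      apply hv₀
      set w := a • v₀ * v₀⁻¹ with hw
      have hwW : w ∈ W := by
        have h1 : ((a • v₀ : V) : V ⧸ W) = (v₀ : V ⧸ W) := hall (v₀ : V ⧸ W)
        have := QuotientGroup.eq.mp h1.symm
        rwa [mul_comm] at this
      have haw : a • w = w := congrArg Subtype.val (haW ⟨w, hwW⟩)
      have hpw : ∀ k : ℕ, a ^ k • v₀ = w ^ k * v₀ := by
        intro k
        induction k with
        | zero => simp
        | succ k ihk =>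
          rw [pow_succ', mul_smul, ihk, smul_mul', smul_pow', haw,
            show a • v₀ = w * v₀ by simp [hw], ← mul_assoc, ← pow_succ]
      obtain ⟨k, hk⟩ := hP ⟨a, haP⟩
      have h1 := hpw (p ^ k)
      rw [show a ^ p ^ k = 1 from congrArg Subtype.val hk, one_smul] at h1
      have hw1 : w = 1 := eq_one_of_pow (hV.pow_right k) (left_eq_mul.mp (h1.trans (mul_comm _ _)))
      rw [hw, mul_inv_eq_one] at hw1
      exact hw1
    obtain ⟨q, hq'⟩ := ih _ hQlt (V ⧸ W) H P a rfl hP
      (hV.coprime_dvd_left (card_quotient_dvd_card W)) haP haQ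
    obtain ⟨v, rfl⟩ := QuotientGroup.mk_surjective q
    exact ⟨v, fun h hh => hq' h (congrArg ((↑) : V → V ⧸ W) hh)⟩
  -- a power of order `p`
  have ha1 : a ≠ 1 := fun h => hv₀ (by rw [h, one_smul])
  obtain ⟨k, hk⟩ := hP ⟨a, haP⟩
  have hk' : a ^ p ^ k = 1 := congrArg Subtype.val hk
  obtain ⟨b, j, hb, hbP, hbp, hb1⟩ : ∃ (b : H) (j : ℕ), b = a ^ j ∧ b ∈ P ∧ b ^ p = 1 ∧ b ≠ 1 := by
    obtain ⟨l, -, hl⟩ := (Nat.dvd_prime_pow (Fact.out : p.Prime)).mp (orderOf_dvd_of_pow_eq_one hk')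
    obtain ⟨m, rfl⟩ : ∃ m, l = m + 1 := Nat.exists_eq_succ_of_ne_zero fun h0 => ha1
      (orderOf_eq_one_iff.mp (by rw [hl, h0, pow_zero]))
    refine ⟨a ^ p ^ m, p ^ m, rfl, pow_mem haP _, ?_, ?_⟩
    · rw [← pow_mul, ← pow_succ, ← hl, pow_orderOf_eq_one]
    · refine pow_ne_one_of_lt_orderOf (pow_ne_zero _ (Fact.out : p.Prime).ne_zero) ?_
      rw [hl]
      exact Nat.pow_lt_pow_right (Fact.out : p.Prime).one_lt (Nat.lt_succ_self m)
  have hbmove : ∃ v : V, b • v ≠ v := by
    by_contra hall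
    push Not at hall
    exact hb1 (hfaith b hall)
  suffices ∃ v : V, ∀ h : H, (h * b * h⁻¹) • v ≠ v by
    obtain ⟨v, hv⟩ := this
    refine ⟨v, fun h hh => hv h ?_⟩
    rw [hb, ← conj_pow]
    exact MulAction.mem_stabilizer_iff.mp (pow_mem (MulAction.mem_stabilizer_iff.mpr hh) j)
  by_cases hsmall : ∀ A : Subgroup H, A.Normal → A ≤ P → (∀ x ∈ A, ∀ y ∈ A, Commute x y) →
      (∀ x ∈ A, x ^ p = 1) → ∀ x ∈ A, x ≠ 1 → A ≤ zpowers x
  · exact exists_avoid_of_small hp hV hfaith hirr hP hbP hbp hbmove hsmall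
  push Not at hsmall
  obtain ⟨A, hAn, hAP, hAc, hAp, x, hx, hx1, hbig⟩ := hsmall
  exact exists_avoid_of_big hp
    (fun W _ _ K _ _ _ Q _ c hlt hQ hW hc hne => ih _ (hn ▸ hlt) W K Q c rfl hQ hW hc hne)
    hV hfaith hirr hP hbP hbmove hAP hAc hAp hx hx1 hbig

end Cfsg.Agent.ClassAvoid89
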