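import Mathlib
import Cfsg.Prelude.Def_HallClasses
import Cfsg.Agent.Lib.HallTheorem
import Cfsg.Agent.Lib.CoprimeSZ

/-!
# Consequences of solvability of groups of odd order for Hall subgroups

The solvability of groups of odd order enters only as the explicit hypothesis `OddSolvable`.
-/

set_option autoImplicit false

namespace Cfsg.Agent.OddHall67

open scoped Pointwise
open Subgroup Cfsg.Agent.HallCore Cfsg.Agent.HallSolvable Cfsg.Agent.HallTheorem

universe u

/-- All finite groups of odd order (in one universe) are solvable. -/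
def OddSolvable : Prop :=
  ∀ (X : Type u) [Group X] [Finite X], Odd (Nat.card X) → Group.IsSolvable X

theorem solvable_or_of_coprime (hFT : OddSolvable.{u}) {G : Type u} [Group G] [Finite G]
    {A B : Subgroup G} (h : (Nat.card A).Coprime (Nat.card B)) :
    Group.IsSolvable A ∨ Group.IsSolvable B := by
  rcases Nat.even_or_odd (Nat.card A) with hA | hA
  · right
    refine hFT B (Nat.odd_iff.2 ?_)
    by_contra hB
    exact Nat.prime_two.not_dvd_one (h ▸ Nat.dvd_gcd hA.two_dvd (by omega))
  · exact Or.inl (hFT A hA)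

/-- Two coprime-order supplements of a normal subgroup in their join are conjugate. -/
theorem conj_of_sup_eq (hFT : OddSolvable.{u}) {G : Type u} [Group G] [Finite G]
    {N U V : Subgroup G} [N.Normal] (hU : (Nat.card U).Coprime (Nat.card N))
    (hV : (Nat.card V).Coprime (Nat.card N)) (h : U ⊔ N = V ⊔ N) :
    ∃ n ∈ N, MulAut.conj n • U = V := by
  refine CoprimeSZ.exists_conj_of_card_eq (by simp [Subgroup.normalizer_eq_top_iff.2 ‹N.Normal›]) hU
    (solvable_or_of_coprime hFT hU) (by rw [sup_comm, h]; exact le_sup_left) ?_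
  refine Nat.eq_of_mul_eq_mul_right (Nat.card_pos (α := N)) ?_
  rw [← HallTheorem.card_sup_of_coprime hU.symm, ← HallTheorem.card_sup_of_coprime hV.symm, h]

variable {π : Set ℕ}

/-- Every π-subgroup of a π-separable group lies in a Hall π-subgroup. -/
theorem exists_hall_ge (hFT : OddSolvable.{u}) {G : Type u} [Group G] [Finite G]
    (hG : IsPiSeparable π G) {U : Subgroup G} (hU : PiNat π (Nat.card U)) :
    ∃ H : Subgroup G, Cfsg.IsPiHall π H ∧ U ≤ H := by
  induction hn : Nat.card G using Nat.strong_induction_on generalizing G with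
  | _ n ih =>
    rcases subsingleton_or_nontrivial G with h | h
    · obtain ⟨H, hH⟩ := exists_isPiHall hG
      exact ⟨H, hH, fun x _ => by rw [Subsingleton.elim x 1]; exact H.one_mem⟩
    obtain ⟨N, hN, hpiece⟩ := hG.exists_minNormal_piece
    have := hN.normal
    set q := QuotientGroup.mk' N
    obtain ⟨K, hK, hUK⟩ := ih _ (hn ▸ card_quotient_lt hN.ne_bot) (hG.to_quotient N)
      (U := U.map q) (hU.of_dvd (Subgroup.card_map_dvd _ _)) rfl
    set M := K.comap q
    have hUM : U ≤ M := Subgroup.map_le_iff_le_comap.mp hUK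
    have hMi : M.index = K.index :=
      Subgroup.index_comap_of_surjective K (QuotientGroup.mk'_surjective N)
    rcases hpiece with hNπ | hNπ
    · refine ⟨M, ?_, hUM⟩
      rw [isPiHall_iff] at hK ⊢
      exact ⟨piNat_card_comap hNπ hK.1, hMi ▸ hK.2⟩
    · have hNM : N ≤ M := QuotientGroup.le_comap_mk' N K
      obtain ⟨C, hC1, hC2⟩ : ∃ C : Subgroup G, Cfsg.IsPiHall π C ∧ C ⊔ N = M := by
        set N' := N.subgroupOf M
        have hidx : N'.index = Nat.card K := by
          rw [show N'.index = N.relIndex M from rfl, relIndex_eq_card_map,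
            Subgroup.map_comap_eq_self_of_surjective (QuotientGroup.mk'_surjective N)]
        have hcN : Nat.card N' = Nat.card N :=
          Nat.card_congr (Subgroup.subgroupOfEquivOfLe hNM).toEquiv
        have hK' := isPiHall_iff.mp hK
        obtain ⟨C, hC⟩ := Subgroup.exists_right_complement'_of_coprime (N := N')
          (by rw [hcN, hidx]; exact (PiNat.coprime hK'.1 hNπ).symm)
        refine ⟨C.map M.subtype, isPiHall_iff.mpr ⟨?_, ?_⟩, ?_⟩
        · rw [Subgroup.card_map_of_injective M.subtype_injective, ← hC.symm.index_eq_card, hidx]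
          exact hK'.1
        · rw [Subgroup.index_map_subtype, hC.index_eq_card, hcN, hMi]
          exact hNπ.mul hK'.2
        · rw [← Subgroup.map_subgroupOf_eq_of_le hNM, ← Subgroup.map_sup, hC.symm.sup_eq_top,
            ← MonoidHom.range_eq_map, M.range_subtype]
      set V := C ⊓ (U ⊔ N)
      have hUV : U ⊔ N = V ⊔ N := by
        refine le_antisymm ?_ (sup_le inf_le_right le_sup_right)
        intro x hx
        have hxM : x ∈ C ⊔ N := hC2 ▸ sup_le hUM hNM hx
        obtain ⟨c, hc, m, hm, rfl⟩ := Subgroup.mem_sup_of_normal_right.mp hxM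
        refine Subgroup.mul_mem_sup ⟨hc, ?_⟩ hm
        simpa using (U ⊔ N).mul_mem hx ((U ⊔ N).inv_mem (Subgroup.mem_sup_right hm))
      have hcopV : (Nat.card V).Coprime (Nat.card N) :=
        (PiNat.coprime (isPiHall_iff.mp hC1).1 hNπ).coprime_dvd_left
          (Subgroup.card_dvd_of_le inf_le_left)
      obtain ⟨m, -, hmU⟩ := conj_of_sup_eq hFT (PiNat.coprime hU hNπ) hcopV hUV
      refine ⟨MulAut.conj m⁻¹ • C, isPiHall_conj hC1 _, ?_⟩
      have h1 : MulAut.conj m • U ≤ C := hmU ▸ inf_le_left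
      rw [map_inv]
      exact Subgroup.pointwise_smul_subset_iff.mp h1

/-- Hall π-subgroups of a π-separable group are conjugate. -/
theorem hall_conj (hFT : OddSolvable.{u}) {G : Type u} [Group G] [Finite G]
    (hG : IsPiSeparable π G) {H K : Subgroup G} (hH : Cfsg.IsPiHall π H)
    (hK : Cfsg.IsPiHall π K) : ∃ g : G, MulAut.conj g • H = K := by
  induction hn : Nat.card G using Nat.strong_induction_on generalizing G with
  | _ n ih =>
    rcases subsingleton_or_nontrivial G with h | h
    · exact ⟨1, Subsingleton.elim _ _⟩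
    obtain ⟨N, hN, hpiece⟩ := hG.exists_minNormal_piece
    have := hN.normal
    set q := QuotientGroup.mk' N
    have hsur : Function.Surjective q := QuotientGroup.mk'_surjective N
    obtain ⟨g', hg'⟩ := ih _ (hn ▸ card_quotient_lt hN.ne_bot) (hG.to_quotient N)
      (isPiHall_map hH hsur) (isPiHall_map hK hsur) rfl
    obtain ⟨g, rfl⟩ := hsur g'
    set H' := MulAut.conj g • H
    have hH' : Cfsg.IsPiHall π H' := isPiHall_conj hH g
    have hsup : H' ⊔ N = K ⊔ N := by
      have h1 := congrArg (Subgroup.comap q) hg'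
      rw [← HallTheorem.map_conj_smul, comap_mk'_map, comap_mk'_map] at h1
      exact h1
    rcases hpiece with hNπ | hNπ
    · refine ⟨g, ?_⟩
      have h1 : H' = H' ⊔ N := eq_of_isPiHall_le hH' le_sup_left
        (piNat_card_sup (B := N) hH'.1 hNπ)
      have h2 : K = K ⊔ N := eq_of_isPiHall_le hK le_sup_left (piNat_card_sup (B := N) hK.1 hNπ)
      show H' = K
      rw [h1, h2, hsup]
    · obtain ⟨m, -, hm⟩ := conj_of_sup_eq hFT (PiNat.coprime (π := π) hH'.1 hNπ)
        (PiNat.coprime (π := π) hK.1 hNπ) hsup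
      refine ⟨m * g, ?_⟩
      rw [map_mul, mul_smul]
      exact hm

/-- π-separable groups satisfy the full Sylow analogue. -/
theorem separable_hall (hFT : OddSolvable.{u}) {G : Type u} [Group G] [Finite G] (π : Set ℕ)
    (hsep : ∃ (n : ℕ) (H : Fin (n + 1) → Subgroup G), H 0 = ⊥ ∧ H (Fin.last n) = ⊤ ∧ Monotone H ∧
      (∀ i, (H i).Normal) ∧
      ∀ i : Fin n, (∀ q : ℕ, q.Prime → q ∣ (H i.castSucc).relIndex (H i.succ) → q ∈ π) ∨
        (∀ q : ℕ, q.Prime → q ∣ (H i.castSucc).relIndex (H i.succ) → q ∉ π)) :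
    (∃ K : Subgroup G, Cfsg.IsPiHall π K) ∧
      (∀ K L : Subgroup G, Cfsg.IsPiHall π K → Cfsg.IsPiHall π L →
        ∃ g : G, L = K.map (MulAut.conj g).toMonoidHom) ∧
      ∀ U : Subgroup G, (∀ q : ℕ, q.Prime → q ∣ Nat.card U → q ∈ π) →
        ∃ K : Subgroup G, Cfsg.IsPiHall π K ∧ U ≤ K := by
  have hG : IsPiSeparable π G := by
    obtain ⟨n, H, h0, hn, hm, hN, hp⟩ := hsep
    refine ⟨n, fun i => H ⟨min i n, by omega⟩, ?_, ?_, fun i j hij => hm ?_, fun i => hN _,
      fun i hi => ?_⟩
    · simpa using h0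
    · simpa [Fin.last] using hn
    · rw [Fin.mk_le_mk]; omega
    · have := hp ⟨i, hi⟩
      simp only [Fin.castSucc_mk, Fin.succ_mk] at this
      simp only [min_eq_left hi.le, min_eq_left (show i + 1 ≤ n from hi)]
      exact this
  refine ⟨exists_isPiHall hG, fun K L hK hL => ?_, fun U hU => exists_hall_ge hFT hG hU⟩
  obtain ⟨g, hg⟩ := hall_conj hFT hG hK hL
  exact ⟨g, hg.symm⟩

/-- Extensions of C_π-groups by C_π-groups are C_π-groups. -/
theorem cpi_extension (hFT : OddSolvable.{u}) {G : Type u} [Group G] [Finite G] (π : Set ℕ)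
    (A : Subgroup G) [A.Normal] (hA : Cfsg.IsCPiGroup π ↥A) (hQ : Cfsg.IsCPiGroup π (G ⧸ A)) :
    Cfsg.IsCPiGroup π G := by
  obtain ⟨⟨H1, hH1⟩, hAc⟩ := hA
  obtain ⟨⟨Kb, hKb⟩, hQc⟩ := hQ
  set q := QuotientGroup.mk' A
  set H0 := H1.map A.subtype with hH0def
  have hH0A : H0 ≤ A := Subgroup.map_subtype_le _
  set M := Kb.comap q
  have hAM : A ≤ M := QuotientGroup.le_comap_mk' A Kb
  set W := Subgroup.normalizer (H0 : Set G) ⊓ M
  -- conjugation into `H0` by an element of `A`
  have toH0 : ∀ X : Subgroup G, X ≤ A → Cfsg.IsPiHall π (X.subgroupOf A) →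
      ∃ a ∈ A, MulAut.conj a • X = H0 := by
    intro X hX hXh
    obtain ⟨a, ha⟩ := hAc _ _ hXh hH1
    refine ⟨a, a.2, ?_⟩
    have := congrArg (Subgroup.map A.subtype) ha
    rw [show ((X.subgroupOf A).map (MulAut.conj a).toMonoidHom) = MulAut.conj a • X.subgroupOf A from rfl,
      HallTheorem.map_conj_smul, Subgroup.map_subgroupOf_eq_of_le hX] at this
    exact this.symm
  have hH0sub : H0.subgroupOf A = H1 :=
    Subgroup.comap_map_eq_self_of_injective A.subtype_injective H1
  -- Frattini: `M = W A`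
  have hMW : W ⊔ A = M := by
    refine le_antisymm (sup_le inf_le_right hAM) fun g hg => ?_
    have hXA : MulAut.conj g • H0 ≤ A := by
      intro x hx
      rw [CoprimeSZ.mem_conj_smul] at hx
      simpa [mul_assoc] using ‹A.Normal›.conj_mem _ (hH0A hx) g
    obtain ⟨a, ha, he⟩ := toH0 _ hXA (isPiHall_of_card_eq hH1 (by
      rw [Nat.card_congr (Subgroup.subgroupOfEquivOfLe hXA).toEquiv, HallTheorem.card_conj_smul,
        Subgroup.card_map_of_injective A.subtype_injective]))
    have hN : a * g ∈ Subgroup.normalizer (H0 : Set G) := by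
      rw [← mul_smul, ← map_mul] at he
      rw [Subgroup.mem_normalizer_iff]
      intro x
      conv_rhs => rw [← he]
      rw [CoprimeSZ.mem_conj_smul, show (a * g)⁻¹ * (a * g * x * (a * g)⁻¹) * (a * g) = x by group]
    have hagW : a * g ∈ W := ⟨hN, M.mul_mem (hAM ha) hg⟩
    rw [show g = (a * g) * ((a * g)⁻¹ * a⁻¹ * (a * g)) by group]
    refine Subgroup.mul_mem_sup hagW ?_
    simpa using ‹A.Normal›.conj_mem _ (A.inv_mem ha) (a * g)⁻¹
  have hH0W : H0 ≤ W := le_inf Subgroup.le_normalizer (hH0A.trans hAM)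
  have hH1' := isPiHall_iff.1 hH1
  have hKb' := isPiHall_iff.1 hKb
  have hrelA : PiNat πᶜ (H0.relIndex A) := by
    rw [show H0.relIndex A = (H0.subgroupOf A).index from rfl, hH0sub]; exact hH1'.2
  have hmid : H0.relIndex (A ⊓ W) * (A ⊓ W).relIndex A = H0.relIndex A :=
    Subgroup.relIndex_mul_relIndex _ _ _ (le_inf hH0A hH0W) inf_le_left
  have hAW : A.relIndex W = Nat.card Kb := by
    rw [← Subgroup.relIndex_sup_right, hMW, relIndex_eq_card_map,
      Subgroup.map_comap_eq_self_of_surjective (QuotientGroup.mk'_surjective A)]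
  -- `W` is π-separable
  have hW : IsPiSeparable π W := by
    refine ⟨3, fun i => if i = 0 then ⊥ else if i = 1 then H0.subgroupOf W
      else if i = 2 then A.subgroupOf W else ⊤, by simp, by simp, ?_, ?_, ?_⟩
    · refine monotone_nat_of_le_succ fun i => ?_
      match i with
      | 0 => exact bot_le
      | 1 => exact Subgroup.comap_mono hH0A
      | 2 => exact le_top
      | i + 3 => exact le_rfl
    · intro i
      match i with
      | 0 => exact (inferInstance : (⊥ : Subgroup W).Normal)
      | 1 => exact Subgroup.normal_subgroupOf_of_le_normalizer inf_le_left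
      | 2 => exact (inferInstance : (A.subgroupOf W).Normal)
      | i + 3 => exact (inferInstance : (⊤ : Subgroup W).Normal)
    · intro i hi
      interval_cases i
      · left
        simp only [if_true]
        rw [show (0 + 1 : ℕ) = 1 from rfl]
        simp only [if_neg one_ne_zero, Subgroup.relIndex_bot_left]
        rw [Nat.card_congr (Subgroup.subgroupOfEquivOfLe hH0W).toEquiv,
          Subgroup.card_map_of_injective A.subtype_injective]
        exact hH1'.1
      · right
        simp only [if_neg one_ne_zero, if_true]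
        norm_num
        rw [Subgroup.subgroupOf, Subgroup.subgroupOf, Subgroup.relIndex_comap,
          Subgroup.map_comap_eq, Subgroup.range_subtype, inf_comm W A]
        exact hrelA.of_dvd ⟨_, hmid.symm⟩
      · left
        norm_num
        rw [show (A.subgroupOf W).index = A.relIndex W from rfl, hAW]
        exact hKb'.1
  -- `W` has π'-index
  have hWidx : PiNat πᶜ W.index := by
    have h1 : Nat.card A * A.relIndex W = Nat.card M := by
      rw [← hMW, ← card_mul_relIndex (le_sup_right : A ≤ W ⊔ A), Subgroup.relIndex_sup_right]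
    have h2 : Nat.card ↥(A ⊓ W) * A.relIndex W = Nat.card W := by
      rw [← card_mul_relIndex (inf_le_right : A ⊓ W ≤ W), Subgroup.inf_relIndex_right]
    have h3 : Nat.card ↥(A ⊓ W) * (A ⊓ W).relIndex A = Nat.card A := card_mul_relIndex inf_le_left
    have h4 : W.index = M.index * (A ⊓ W).relIndex A := by
      refine Nat.eq_of_mul_eq_mul_left (Nat.card_pos (α := W)) ?_
      rw [W.card_mul_index, ← M.card_mul_index, ← h1, ← h2, ← h3]
      ring
    rw [h4, Subgroup.index_comap_of_surjective Kb (QuotientGroup.mk'_surjective A)]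
    exact hKb'.2.mul (hrelA.of_dvd ⟨_, (mul_comm _ _).trans hmid |>.symm⟩)
  obtain ⟨Hw, hHw⟩ := exists_isPiHall hW
  have hHw' := isPiHall_iff.1 hHw
  refine ⟨⟨Hw.map W.subtype, isPiHall_iff.2 ⟨?_, ?_⟩⟩, ?_⟩
  · rw [Subgroup.card_map_of_injective W.subtype_injective]; exact hHw'.1
  · rw [Subgroup.index_map_subtype]; exact hHw'.2.mul hWidx
  -- every Hall subgroup is conjugate into `W`
  have toW : ∀ X : Subgroup G, Cfsg.IsPiHall π X →
      ∃ g : G, MulAut.conj g • X ≤ W ∧ Cfsg.IsPiHall π ((MulAut.conj g • X).subgroupOf W) := by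
    intro X hX
    obtain ⟨gb, hgb⟩ := hQc _ _ (isPiHall_map hX (QuotientGroup.mk'_surjective A)) hKb
    obtain ⟨g, rfl⟩ := QuotientGroup.mk'_surjective A gb
    set X1 := MulAut.conj g • X
    have hX1 : Cfsg.IsPiHall π X1 := isPiHall_conj hX g
    have hX1M : X1 ≤ M := by
      rw [← Subgroup.map_le_iff_le_comap, HallTheorem.map_conj_smul]
      exact hgb.symm.le
    obtain ⟨a, ha, he⟩ := toH0 (X1 ⊓ A) inf_le_right (by
      rw [Subgroup.inf_subgroupOf_right]; exact isPiHall_subgroupOf hX1 A)
    have hle : MulAut.conj a • X1 ≤ W := by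
      refine le_inf ?_ (CoprimeSZ.conj_smul_le_of_mem hX1M (hAM ha))
      rw [← he]
      intro x hx
      rw [Subgroup.mem_normalizer_iff]
      intro y
      rw [CoprimeSZ.mem_conj_smul] at hx
      rw [CoprimeSZ.mem_conj_smul, CoprimeSZ.mem_conj_smul,
        show a⁻¹ * (x * y * x⁻¹) * a = (a⁻¹ * x * a) * (a⁻¹ * y * a) * (a⁻¹ * x * a)⁻¹ by group]
      refine ⟨fun hy => ⟨X1.mul_mem (X1.mul_mem hx hy.1) (X1.inv_mem hx),
        ‹A.Normal›.conj_mem _ hy.2 _⟩, fun hy => ?_⟩
      have h5 := ‹A.Normal›.conj_mem _ hy.2 (a⁻¹ * x * a)⁻¹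
      have h6 := X1.mul_mem (X1.mul_mem (X1.inv_mem hx) hy.1) hx
      exact ⟨by simpa [mul_assoc] using h6, by simpa [mul_assoc] using h5⟩
    refine ⟨a * g, ?_⟩
    rw [map_mul, mul_smul]
    refine ⟨hle, isPiHall_iff.2 ⟨?_, ?_⟩⟩
    · rw [Nat.card_congr (Subgroup.subgroupOfEquivOfLe hle).toEquiv, HallTheorem.card_conj_smul]
      exact (isPiHall_iff.1 hX1).1
    · refine (isPiHall_iff.1 (isPiHall_conj hX1 a)).2.of_dvd ?_
      exact ⟨_, (Subgroup.relIndex_mul_index hle).symm⟩
  intro X Y hX hY
  obtain ⟨g, hgW, hgH⟩ := toW X hX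
  obtain ⟨h, hhW, hhH⟩ := toW Y hY
  obtain ⟨w, hw⟩ := hall_conj hFT hW hgH hhH
  have h7 := congrArg (Subgroup.map W.subtype) hw
  rw [HallTheorem.map_conj_smul, Subgroup.map_subgroupOf_eq_of_le hgW,
    Subgroup.map_subgroupOf_eq_of_le hhW, ← mul_smul, ← map_mul] at h7
  refine ⟨h⁻¹ * ((w : G) * g), ?_⟩
  show Y = MulAut.conj (h⁻¹ * ((w : G) * g)) • X
  rw [map_mul, mul_smul, show MulAut.conj ((w : G) * g) • X = MulAut.conj h • Y from h7, map_inv,
    inv_smul_smul]

end Cfsg.Agent.OddHall67
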