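import Mathlib

/-!
Finite groups all of whose class sizes are square-free: they are solvable, their commutator
subgroup is nilpotent and the order of the commutator subgroup is square-free.

The key observation is that every element centralises a subgroup of index dividing `p` in some
Sylow `p`-subgroup, so an element lying in all these subgroups is central, the group not being
covered by the conjugates of a proper subgroup.
-/

set_option autoImplicit false
set_option linter.style.haveILetI false

namespace Cfsg.Agent.SquarefreeClass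

open Subgroup
open scoped commutatorElement

/-- All class sizes are square-free. -/
def SF (G : Type*) [Group G] : Prop :=
  ∀ g : G, Squarefree (centralizer ({g} : Set G)).index

variable {G : Type*} [Group G]

theorem mem_cent {g x : G} : x ∈ centralizer ({g} : Set G) ↔ x * g = g * x := by
  rw [mem_centralizer_singleton_iff]

theorem conj_fix_iff {g x : G} : g * x * g⁻¹ = x ↔ x ∈ centralizer ({g} : Set G) := by
  rw [mem_cent, mul_inv_eq_iff_eq_mul, eq_comm]

theorem relIndex_dvd_index [Finite G] (N C : Subgroup G) [N.Normal] :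
    C.relIndex N ∣ C.index := by
  obtain ⟨t, ht⟩ := relIndex_dvd_index_of_normal (H := N) (K := C)
  have h1 : (C ⊓ N).relIndex C * C.index = (C ⊓ N).index := relIndex_mul_index inf_le_left
  have h2 : (C ⊓ N).relIndex N * N.index = (C ⊓ N).index := relIndex_mul_index inf_le_right
  rw [inf_relIndex_left] at h1
  rw [inf_relIndex_right, ← h1, ht] at h2
  have hne : N.relIndex C ≠ 0 := by
    have := N.index_ne_zero_of_finite
    rw [ht] at this
    exact left_ne_zero_of_mul this
  exact ⟨t, (mul_left_cancel₀ hne (by rw [← h2]; ring)).symm⟩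

theorem SF.normal [Finite G] (h : SF G) (N : Subgroup G) [N.Normal] : SF N := by
  intro n
  have e : centralizer ({n} : Set N) = (centralizer ({(n : G)} : Set G)).subgroupOf N := by
    ext x
    rw [mem_cent, mem_subgroupOf, mem_cent, Subtype.ext_iff, Subgroup.coe_mul, Subgroup.coe_mul]
  rw [e]
  exact (h (n : G)).squarefree_of_dvd (relIndex_dvd_index N _)

theorem SF.quotient [Finite G] (h : SF G) (N : Subgroup G) [N.Normal] : SF (G ⧸ N) := by
  intro x
  obtain ⟨g, rfl⟩ := QuotientGroup.mk'_surjective N x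
  refine (h g).squarefree_of_dvd (dvd_trans ?_ (index_map_dvd (H := centralizer ({g} : Set G))
    (QuotientGroup.mk'_surjective N)))
  refine index_dvd_of_le ?_
  rintro _ ⟨c, hc, rfl⟩
  rw [mem_cent, ← map_mul, ← map_mul, (mem_cent.1 hc)]

theorem squarefree_prime_pow {p k n : ℕ} (hp : p.Prime) (hn : Squarefree n) (h : p ^ k ∣ n) :
    p ^ k ∣ p := by
  rcases k with _ | _ | k
  · simp
  · simp
  · exact absurd (hn p (dvd_trans ⟨p ^ k, by ring⟩ h)) (fun hu => hp.ne_one (Nat.isUnit_iff.1 hu))

theorem card_conj_eq_index [Finite G] (h : G) :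
    Nat.card {g : G // IsConj h g} = (centralizer ({h} : Set G)).index := by
  have hs : MulAction.orbit (ConjAct G) h = {g : G | IsConj h g} := by
    ext g; rw [ConjAct.mem_orbit_conjAct]; exact isConj_comm
  calc Nat.card {g : G // IsConj h g}
      = (MulAction.orbit (ConjAct G) h).ncard := by rw [hs]; rfl
    _ = (MulAction.stabilizer (ConjAct G) h).index := (MulAction.index_stabilizer _ _).symm
    _ = _ := by rw [ConjAct.stabilizer_eq_centralizer]; rfl

/-- A group is not covered by the conjugates of a proper subgroup. -/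
theorem eq_top_of_cover [Finite G] (T : Subgroup G) (h : ∀ u : G, ∃ c : G, c⁻¹ * u * c ∈ T) :
    T = ⊤ := by
  classical
  let f : (G ⧸ T) × {t : T // t ≠ 1} → {g : G // g ≠ 1} := fun z =>
    ⟨z.1.out * ((z.2 : T) : G) * z.1.out⁻¹, fun he => z.2.2 (Subtype.ext (conj_eq_one_iff.1 he))⟩
  have hf : Function.Surjective f := by
    rintro ⟨u, hu⟩
    obtain ⟨c, hc⟩ := h u
    obtain ⟨t, ht⟩ := QuotientGroup.mk_out_eq_mul T c
    have hmem : (c * (t : G))⁻¹ * u * (c * t) ∈ T := by
      have : (c * (t : G))⁻¹ * u * (c * t) = (t : G)⁻¹ * (c⁻¹ * u * c) * t := by group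
      rw [this]; exact T.mul_mem (T.mul_mem (T.inv_mem t.2) hc) t.2
    refine ⟨((c : G ⧸ T), ⟨⟨_, hmem⟩, fun he => hu ?_⟩), Subtype.ext ?_⟩
    · have h1 := congrArg Subtype.val he
      have : u = (c * (t : G)) * ((c * (t : G))⁻¹ * u * (c * t)) * (c * (t : G))⁻¹ := by group
      rw [this, show (c * (t : G))⁻¹ * u * (c * t) = 1 from h1]; group
    · simp only [f, ht]
      group
  have hcard := Nat.card_le_card_of_surjective f hf
  haveI := Fintype.ofFinite G
  haveI := Fintype.ofFinite T
  have h1 : Nat.card {g : G // g ≠ 1} = Nat.card G - 1 := by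
    rw [Nat.card_eq_fintype_card, Nat.card_eq_fintype_card]; simp
  have h2 : Nat.card {g : T // g ≠ 1} = Nat.card T - 1 := by
    rw [Nat.card_eq_fintype_card, Nat.card_eq_fintype_card]; simp
  rw [Nat.card_prod, h1, h2, ← Subgroup.index_eq_card, Nat.mul_sub, mul_one, T.index_mul_card] at hcard
  have hpos : 0 < T.index := Nat.pos_of_ne_zero T.index_ne_zero_of_finite
  have hle : T.index ≤ Nat.card G := Nat.le_of_dvd Nat.card_pos (Subgroup.index_dvd_card T)
  exact Subgroup.index_eq_one.1 (by omega)

section prime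

variable [Finite G] {p : ℕ} [hp : Fact p.Prime]

/-- Every element centralises a subgroup of index dividing `p` in some Sylow `p`-subgroup. -/
theorem exists_cover (h : SF G) (g : G) :
    ∃ (P : Sylow p G) (R : Subgroup G), R ≤ P ∧ R ≤ centralizer ({g} : Set G) ∧
      R.relIndex P ∣ p := by
  set C := centralizer ({g} : Set G) with hC
  obtain ⟨S⟩ : Nonempty (Sylow p C) := inferInstance
  set R := (S : Subgroup C).map C.subtype with hR
  have hRp : IsPGroup p R := S.isPGroup'.map _
  obtain ⟨P, hP⟩ := hRp.exists_le_sylow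
  refine ⟨P, R, hP, map_subtype_le _, ?_⟩
  have hidx : R.relIndex P * (P : Subgroup G).index = (S : Subgroup C).index * C.index := by
    rw [relIndex_mul_index hP, hR, index_map_subtype]
  obtain ⟨k, hk⟩ := P.isPGroup'.index (R.subgroupOf P)
  change R.relIndex P = p ^ k at hk
  rw [hk] at hidx ⊢
  refine squarefree_prime_pow hp.out (h g)
    ((Nat.Coprime.pow_left k (hp.out.coprime_iff_not_dvd.2 S.not_dvd_index)).dvd_of_dvd_mul_left
      ⟨_, hidx.symm⟩)

/-- An element of all the subgroups of index dividing `p` of a Sylow `p`-subgroup is central. -/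
theorem mem_center_of_forall (h : SF G) (P : Sylow p G) {u : G}
    (hu : ∀ R : Subgroup G, R ≤ P → R.relIndex P ∣ p → u ∈ R) : u ∈ center G := by
  suffices centralizer ({u} : Set G) = ⊤ by
    rw [mem_center_iff]
    intro x
    exact mem_cent.1 (this ▸ mem_top x)
  refine eq_top_of_cover _ fun g => ?_
  obtain ⟨P', R, hRP, hRC, hR⟩ := exists_cover (p := p) h g
  obtain ⟨c, rfl⟩ := MulAction.exists_smul_eq G P P'
  refine ⟨c, ?_⟩
  set f := (MulAut.conj c).toMonoidHom with hf
  have hmap : ((c • P : Sylow p G) : Subgroup G) = (P : Subgroup G).map f := rfl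
  rw [hmap] at hRP hR
  have hle : R.comap f ≤ P := by
    refine (comap_mono hRP).trans ?_
    rw [comap_map_eq_self_of_injective (MulAut.conj c).injective]
  have hmem := hu (R.comap f) hle (by rwa [relIndex_comap])
  have h2 := mem_cent.1 (hRC hmem)
  rw [mem_cent]
  change (c * u * c⁻¹) * g = g * (c * u * c⁻¹) at h2
  calc c⁻¹ * g * c * u = c⁻¹ * (g * (c * u * c⁻¹)) * c := by group
    _ = c⁻¹ * ((c * u * c⁻¹) * g) * c := by rw [h2]
    _ = u * (c⁻¹ * g * c) := by group

theorem index_dvd_prime {Q : Type*} [Group Q] [Finite Q] (hQ : IsPGroup p Q) (H : Subgroup Q)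
    (hH : H.index ∣ p) : (∀ x : Q, x ^ p ∈ H) ∧ ∀ x y : Q, ⁅x, y⁆ ∈ H := by
  rcases (Nat.dvd_prime hp.out).1 hH with hi | hi
  · rw [index_eq_one] at hi
    simp [hi]
  · have hpQ : p ∣ Nat.card Q := hi ▸ H.index_dvd_card
    obtain ⟨n, hn⟩ := IsPGroup.iff_card.1 hQ
    haveI : H.Normal := normal_of_index_eq_minFac_card (by
      rw [hi, hn, Nat.pow_minFac (fun h0 => by
        rw [hn, h0, pow_zero] at hpQ; exact hp.out.ne_one (Nat.dvd_one.1 hpQ)), hp.out.minFac_eq])
    have hc : Nat.card (Q ⧸ H) = p := by rw [← index_eq_card, hi]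
    haveI : IsCyclic (Q ⧸ H) := isCyclic_of_prime_card hc
    refine ⟨fun x => ?_, fun x y => ?_⟩
    · rw [← QuotientGroup.eq_one_iff, QuotientGroup.mk_pow, ← hc, pow_card_eq_one']
    · rw [← QuotientGroup.eq_one_iff, commutatorElement_def]
      simp only [QuotientGroup.mk_mul, QuotientGroup.mk_inv]
      rw [(IsCyclic.isMulCommutative (α := Q ⧸ H)).is_comm.comm (x : Q ⧸ H) y]
      group

theorem pow_mem_center (h : SF G) (P : Sylow p G) {x : G} (hx : x ∈ (P : Subgroup G)) :
    x ^ p ∈ center G :=
  mem_center_of_forall h P fun R _ hR =>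
    mem_subgroupOf.1 ((index_dvd_prime P.isPGroup' (R.subgroupOf P) hR).1 ⟨x, hx⟩)

theorem commutator_mem_center (h : SF G) (P : Sylow p G) {x y : G} (hx : x ∈ (P : Subgroup G))
    (hy : y ∈ (P : Subgroup G)) : ⁅x, y⁆ ∈ center G := by
  refine mem_center_of_forall h P fun R _ hR => ?_
  have := (index_dvd_prime P.isPGroup' (R.subgroupOf P) hR).2 ⟨x, hx⟩ ⟨y, hy⟩
  simpa [mem_subgroupOf, commutatorElement_def] using this

end prime

/-- A simple group with square-free class sizes is abelian. -/
theorem comm_of_simple [Finite G] [IsSimpleGroup G] (h : SF G) : IsMulCommutative G := by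
  by_contra hG
  classical
  haveI := Fintype.ofFinite G
  have hZ : center G = ⊥ := by
    refine (inferInstance : (center G).Normal).eq_bot_or_eq_top.resolve_right fun hc => hG ?_
    exact ⟨⟨fun a b => (mem_center_iff.1 (hc ▸ mem_top a) b).symm⟩⟩
  have hG1 : Nat.card G ≠ 1 := fun h1 => by
    haveI := (Nat.card_eq_one_iff_unique.1 h1).1
    exact hG ⟨⟨fun a b => Subsingleton.elim _ _⟩⟩
  set p := (Nat.card G).minFac with hpdef
  haveI hp : Fact p.Prime := ⟨Nat.minFac_prime hG1⟩
  obtain ⟨P⟩ : Nonempty (Sylow p G) := inferInstance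
  have hexp : ∀ x ∈ (P : Subgroup G), x ^ p = 1 := fun x hx =>
    mem_bot.1 (hZ ▸ pow_mem_center h P hx)
  have hcomm : ∀ x ∈ (P : Subgroup G), ∀ y ∈ (P : Subgroup G), x * y = y * x := fun x hx y hy =>
    commutatorElement_eq_one_iff_mul_comm.1 (mem_bot.1 (hZ ▸ commutator_mem_center h P hx hy))
  haveI hPc : IsMulCommutative (P : Subgroup G) :=
    ⟨⟨fun a b => Subtype.ext (hcomm a a.2 b b.2)⟩⟩
  set N := normalizer ((P : Subgroup G) : Set G) with hN
  -- every non-trivial element of `P` has at least `p + 1` conjugates in `P`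
  have horbit : ∀ z ∈ (P : Subgroup G), z ≠ 1 →
      p + 1 ≤ Nat.card {x : G // x ∈ (P : Subgroup G) ∧ IsConj z x} := by
    intro z hz hz1
    set r := (centralizer ({z} : Set G)).relIndex N with hr
    have hle : r ≤ Nat.card {x : G // x ∈ (P : Subgroup G) ∧ IsConj z x} := by
      rw [hr, relIndex, index_eq_card]
      refine Nat.card_le_card_of_injective (fun q => ⟨(q.out : G) * z * (q.out : G)⁻¹,
        (mem_normalizer_iff.1 q.out.2 z).1 hz, isConj_iff.2 ⟨_, rfl⟩⟩) fun q q' hq => ?_
      simp only [Subtype.mk.injEq] at hq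
      rw [← QuotientGroup.out_eq' q, ← QuotientGroup.out_eq' q', QuotientGroup.eq, mem_subgroupOf,
        mem_cent]
      simp only [Subgroup.coe_mul, Subgroup.coe_inv]
      calc (q.out : G)⁻¹ * q'.out * z = (q.out : G)⁻¹ * ((q'.out : G) * z * (q'.out : G)⁻¹) * q'.out := by
            group
        _ = z * ((q.out : G)⁻¹ * q'.out) := by rw [← hq]; group
    have hr1 : r ≠ 1 := by
      intro h1
      have hfix : N ≤ centralizer ({z} : Set G) := relIndex_eq_one.1 h1
      have key : ∀ (k : ℕ) (g₀ : G), g₀⁻¹ * z ^ k * g₀ ∈ (P : Subgroup G) →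
          g₀⁻¹ * z ^ k * g₀ = z ^ k := by
        intro k g₀ hmem
        obtain ⟨n, hn, he⟩ := P.conj_eq_normalizer_conj_of_mem (z ^ k) g₀ (pow_mem hz k) hmem
        rw [he]
        have hc : Commute n z := mem_cent.1 (hfix hn)
        rw [mul_assoc, ← (hc.pow_right k).eq, inv_mul_cancel_left]
      open scoped IsMulCommutative in
      have ht := MonoidHom.transfer_eq_pow (MonoidHom.id (P : Subgroup G)) z key
      open scoped IsMulCommutative in
      set V := MonoidHom.transfer (MonoidHom.id (P : Subgroup G)) with hV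
      have hne : V z ≠ 1 := by
        rw [ht]
        intro h0
        have h0' := congrArg Subtype.val h0
        simp only [MonoidHom.id_apply, OneMemClass.coe_one] at h0'
        exact hz1 (pow_gcd_eq_one.mpr ⟨h0', hexp z hz⟩ |> fun e => by
          rwa [Nat.Coprime.gcd_eq_one
            ((hp.out.coprime_iff_not_dvd.2 P.not_dvd_index).symm), pow_one] at e)
      rcases (inferInstance : V.ker.Normal).eq_bot_or_eq_top with hk | hk
      · exact hG ⟨⟨fun a b => (MonoidHom.ker_eq_bot_iff V).1 hk
          (by rw [map_mul, map_mul]; exact hPc.is_comm.comm _ _)⟩⟩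
      · exact hne (MonoidHom.mem_ker.1 (hk ▸ mem_top z))
    have hrp : ¬ p ∣ r := by
      intro hd
      refine P.not_dvd_index (hd.trans ?_)
      have hPC : (P : Subgroup G) ≤ centralizer ({z} : Set G) := fun x hx =>
        mem_cent.2 (hcomm x hx z hz)
      exact (relIndex_dvd_of_le_left N hPC).trans ((Dvd.intro _ (relIndex_mul_index le_normalizer)).trans (dvd_refl _))
    have hr0 : r ≠ 0 := fun h0 => hrp (h0 ▸ dvd_zero p)
    have hrG : r ∣ Nat.card G := by
      rw [hr, relIndex]
      exact (index_dvd_card _).trans (card_subgroup_dvd_card N)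
    obtain ⟨l, hl, hlr⟩ := Nat.exists_prime_and_dvd hr1
    have h2 : p ≤ l := Nat.minFac_le_of_dvd hl.two_le (hlr.trans hrG)
    have h3 : l ≤ r := Nat.le_of_dvd (Nat.pos_of_ne_zero hr0) hlr
    have h4 : r ≠ p := fun h4 => hrp (h4 ▸ dvd_refl p)
    omega
  set X := Finset.univ.filter (fun x : G => orderOf x = p) with hX
  set Y := Finset.univ.filter (fun x : G => x ∈ (P : Subgroup G) ∧ x ≠ 1) with hY
  set K := Y.image ConjClasses.mk with hK
  have hYX : ∀ y ∈ Y, orderOf y = p := fun y hy => by
    simp only [hY, Finset.mem_filter, Finset.mem_univ, true_and] at hy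
    exact orderOf_eq_prime (hexp y hy.1) hy.2
  have hXK : ∀ x ∈ X, ConjClasses.mk x ∈ K := by
    intro x hx
    simp only [hX, Finset.mem_filter, Finset.mem_univ, true_and] at hx
    have hpg : IsPGroup p (zpowers x) :=
      IsPGroup.of_card (n := 1) (by rw [Nat.card_zpowers, hx, pow_one])
    obtain ⟨S, hS⟩ := hpg.exists_le_sylow
    obtain ⟨c, rfl⟩ := MulAction.exists_smul_eq G P S
    obtain ⟨y, hy, hyx⟩ := hS (mem_zpowers x)
    refine Finset.mem_image.2 ⟨y, ?_, ConjClasses.mk_eq_mk_iff_isConj.2 (isConj_iff.2 ⟨c, hyx⟩)⟩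
    simp only [hY, Finset.mem_filter, Finset.mem_univ, true_and]
    refine ⟨hy, fun h1 => hp.out.ne_one ?_⟩
    rw [← hx, ← hyx, h1]
    simp
  -- the orbit sum
  have hsum : ∑ x ∈ X, Nat.card (centralizer ({x} : Set G)) = K.card * Nat.card G := by
    rw [← Finset.sum_fiberwise_of_maps_to hXK, ← smul_eq_mul, ← Finset.sum_const]
    refine Finset.sum_congr rfl fun C hC => ?_
    obtain ⟨y, hy, rfl⟩ := Finset.mem_image.1 hC
    have hfil : X.filter (fun x => ConjClasses.mk x = ConjClasses.mk y) =
        Finset.univ.filter (fun x => IsConj y x) := by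
      ext x
      simp only [hX, Finset.mem_filter, Finset.mem_univ, true_and,
        ConjClasses.mk_eq_mk_iff_isConj]
      constructor
      · exact fun hh => hh.2.symm
      · intro hh
        refine ⟨?_, hh.symm⟩
        obtain ⟨c, rfl⟩ := isConj_iff.1 hh
        rw [← MulAut.conj_apply, MulEquiv.orderOf_eq]
        exact hYX y hy
    rw [hfil, Finset.sum_congr rfl (g := fun _ => Nat.card (centralizer ({y} : Set G))) ?_,
      Finset.sum_const, smul_eq_mul, ← Fintype.card_subtype, ← Nat.card_eq_fintype_card,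
      card_conj_eq_index, index_mul_card]
    intro x hx
    simp only [Finset.mem_filter, Finset.mem_univ, true_and] at hx
    have e := card_conj_eq_index x
    rw [Nat.card_congr (Equiv.subtypeEquivRight fun g =>
      (⟨fun hh => hx.trans hh, fun hh => hx.symm.trans hh⟩ : IsConj x g ↔ IsConj y g)),
      card_conj_eq_index] at e
    have h1 := index_mul_card (centralizer ({x} : Set G))
    rw [← e, ← index_mul_card (centralizer ({y} : Set G))] at h1
    exact Nat.eq_of_mul_eq_mul_left (Nat.pos_of_ne_zero (index_ne_zero_of_finite)) h1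
  -- double counting
  have hdouble : ∑ x ∈ X, Nat.card (centralizer ({x} : Set G)) =
      ∑ g : G, (X.filter (fun x => x * g = g * x)).card := by
    simp only [Finset.card_filter]
    rw [Finset.sum_comm]
    refine Finset.sum_congr rfl fun x _ => ?_
    rw [← Finset.card_filter, ← Fintype.card_subtype, ← Nat.card_eq_fintype_card]
    exact Nat.card_congr (Equiv.subtypeEquivRight fun g => by rw [mem_cent, eq_comm])
  obtain ⟨n, hn⟩ := IsPGroup.iff_card.1 P.isPGroup'
  obtain ⟨z₀, hz₀, hz₀1⟩ : ∃ z ∈ (P : Subgroup G), z ≠ 1 := by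
    by_contra! hc
    exact P.ne_bot_of_dvd_card (Nat.minFac_dvd _) ((eq_bot_iff_forall _).2 hc)
  obtain ⟨m, rfl⟩ : ∃ m, n = m + 1 := by
    rcases n with _ | m
    · rw [pow_zero, card_eq_one] at hn
      exact absurd (mem_bot.1 (hn ▸ hz₀)) hz₀1
    · exact ⟨m, rfl⟩
  have hfix : ∀ g : G, p ^ m - 1 ≤ (X.filter (fun x => x * g = g * x)).card := by
    intro g
    obtain ⟨P', R, hRP, hRC, hR⟩ := exists_cover (p := p) h g
    have hc : R.relIndex P' * Nat.card R = p ^ (m + 1) := by
      rw [← hn, mul_comm, relIndex, ← Nat.card_congr (subgroupOfEquivOfLe hRP).toEquiv,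
        card_mul_index]
      obtain ⟨c, rfl⟩ := MulAction.exists_smul_eq G P P'
      exact (Nat.card_congr ((P : Subgroup G).equivMapOfInjective _
        (MulAut.conj c).injective).toEquiv).symm
    have hge : p ^ m ≤ Nat.card R := by
      refine Nat.le_of_mul_le_mul_left ?_ hp.out.pos
      rw [← pow_succ', ← hc]
      exact Nat.mul_le_mul_right _ (Nat.le_of_dvd hp.out.pos hR)
    have hsub : (Finset.univ.filter (fun x : G => x ∈ R)).erase 1 ⊆
        X.filter (fun x => x * g = g * x) := by
      intro x hx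
      simp only [Finset.mem_erase, Finset.mem_filter, Finset.mem_univ, true_and] at hx
      simp only [hX, Finset.mem_filter, Finset.mem_univ, true_and]
      refine ⟨orderOf_eq_prime ?_ hx.1, mem_cent.1 (hRC hx.2)⟩
      obtain ⟨c, rfl⟩ := MulAction.exists_smul_eq G P P'
      obtain ⟨y, hy, rfl⟩ := hRP hx.2
      change (MulAut.conj c y) ^ p = 1
      rw [← map_pow, hexp y hy, map_one]
    refine le_trans ?_ (Finset.card_le_card hsub)
    rw [Finset.card_erase_of_mem (by simp [one_mem]), ← Fintype.card_subtype,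
      ← Nat.card_eq_fintype_card]
    exact Nat.sub_le_sub_right hge 1
  have hY1 : Y.card = p ^ (m + 1) - 1 := by
    have : Y = (Finset.univ.filter (fun x : G => x ∈ (P : Subgroup G))).erase 1 := by
      ext x; simp [hY, and_comm]
    rw [this, Finset.card_erase_of_mem (by simp [one_mem]), ← Fintype.card_subtype,
      ← Nat.card_eq_fintype_card, hn]
  have hYle : (p + 1) * K.card ≤ p ^ (m + 1) - 1 := by
    rw [← hY1, mul_comm, Finset.card_eq_sum_card_fiberwise
      (f := ConjClasses.mk) (t := K) fun y hy => Finset.mem_image_of_mem _ hy, ← smul_eq_mul,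
      ← Finset.sum_const]
    refine Finset.sum_le_sum fun C hC => ?_
    obtain ⟨y, hy, rfl⟩ := Finset.mem_image.1 hC
    simp only [hY, Finset.mem_filter, Finset.mem_univ, true_and] at hy
    refine (horbit y hy.1 hy.2).trans (le_of_eq ?_)
    rw [Nat.card_eq_fintype_card, Fintype.card_subtype]
    congr 1
    ext x
    simp only [hY, Finset.mem_filter, Finset.mem_univ, true_and, ConjClasses.mk_eq_mk_iff_isConj]
    constructor
    · rintro ⟨hxP, hh⟩
      refine ⟨⟨hxP, fun h1 => hy.2 ?_⟩, hh.symm⟩
      subst h1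
      exact isConj_one_left.1 hh
    · rintro ⟨⟨hxP, -⟩, hh⟩
      exact ⟨hxP, hh.symm⟩
  have hstrict : Nat.card G * (p ^ m - 1) < K.card * Nat.card G := by
    rw [← hsum, hdouble, Nat.card_eq_fintype_card, ← Finset.card_univ, ← smul_eq_mul,
      ← Finset.sum_const]
    refine Finset.sum_lt_sum (fun g _ => hfix g) ⟨1, Finset.mem_univ _, ?_⟩
    have hsub : Y ⊆ X.filter (fun x => x * (1 : G) = 1 * x) := fun y hy => by
      simp [hX, hYX y hy]
    refine lt_of_lt_of_le ?_ (Finset.card_le_card hsub)
    rw [hY1]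
    have : p ^ m < p ^ (m + 1) := Nat.pow_lt_pow_right hp.out.one_lt (Nat.lt_succ_self m)
    have : 1 ≤ p ^ m := Nat.one_le_pow _ _ hp.out.pos
    omega
  rw [mul_comm] at hstrict
  have h5 : p ^ m - 1 < K.card := Nat.lt_of_mul_lt_mul_right hstrict
  have h6 : (p + 1) * p ^ m ≤ (p + 1) * K.card := Nat.mul_le_mul_left _ (by omega)
  have h7 : p ^ (m + 1) ≤ (p + 1) * p ^ m := by
    rw [pow_succ']; exact Nat.mul_le_mul_right _ (Nat.le_succ p)
  have : 1 ≤ p ^ (m + 1) := Nat.one_le_pow _ _ hp.out.pos
  omega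

end Cfsg.Agent.SquarefreeClass
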