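import Mathlib
import Cfsg.Agent.Lib.SquarefreeClass
import Cfsg.Agent.Lib.OddHall67

/-!
Finite groups with no class size divisible by four are solvable (core of S4167, modulo the
solvability of groups of odd order).

In a simple such group of even order every element centralises a conjugate of a subgroup of index
at most two of an elementary abelian Sylow `2`-subgroup `S`.  The conjugates of an involution
`t ∈ S` lying in `S` are odd in number and have trivial product, so every subgroup of index two
of `S` contains one of them: the group is covered by the conjugates of the centraliser of `t`.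
-/

set_option autoImplicit false

namespace Cfsg.Agent.ClassFour88

open Subgroup
open Cfsg.Agent.SquarefreeClass (mem_cent eq_top_of_cover index_dvd_prime relIndex_dvd_index)
open scoped commutatorElement

/-- No class size is divisible by four. -/
def Q4 (G : Type*) [Group G] : Prop :=
  ∀ x : G, ¬ 4 ∣ (centralizer ({x} : Set G)).index

variable {G : Type*} [Group G]

theorem Q4.normal [Finite G] (h : Q4 G) (N : Subgroup G) [N.Normal] : Q4 N := by
  intro n hn
  have e : centralizer ({n} : Set N) = (centralizer ({(n : G)} : Set G)).subgroupOf N := by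
    ext x
    rw [mem_cent, mem_subgroupOf, mem_cent, Subtype.ext_iff, Subgroup.coe_mul, Subgroup.coe_mul]
  rw [e] at hn
  exact h (n : G) (hn.trans (relIndex_dvd_index N _))

theorem Q4.quotient [Finite G] (h : Q4 G) (N : Subgroup G) [N.Normal] : Q4 (G ⧸ N) := by
  intro x hx
  obtain ⟨g, rfl⟩ := QuotientGroup.mk'_surjective N x
  refine h g (hx.trans (dvd_trans ?_ (index_map_dvd (H := centralizer ({g} : Set G))
    (QuotientGroup.mk'_surjective N))))
  refine index_dvd_of_le ?_
  rintro _ ⟨c, hc, rfl⟩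
  rw [mem_cent, ← map_mul, ← map_mul, (mem_cent.1 hc)]

variable [Finite G]

/-- Every element centralises a subgroup of index at most two in some Sylow `2`-subgroup. -/
theorem exists_cover (h : Q4 G) (g : G) :
    ∃ (P : Sylow 2 G) (R : Subgroup G), R ≤ P ∧ R ≤ centralizer ({g} : Set G) ∧
      R.relIndex P ∣ 2 := by
  set C := centralizer ({g} : Set G) with hC
  obtain ⟨S⟩ : Nonempty (Sylow 2 C) := inferInstance
  set R := (S : Subgroup C).map C.subtype with hR
  have hRp : IsPGroup 2 R := S.isPGroup'.map _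
  obtain ⟨P, hP⟩ := hRp.exists_le_sylow
  refine ⟨P, R, hP, map_subtype_le _, ?_⟩
  have hidx : R.relIndex P * (P : Subgroup G).index = (S : Subgroup C).index * C.index := by
    rw [relIndex_mul_index hP, hR, index_map_subtype]
  obtain ⟨k, hk⟩ := P.isPGroup'.index (R.subgroupOf P)
  change R.relIndex P = 2 ^ k at hk
  rw [hk] at hidx ⊢
  have hdvd : 2 ^ k ∣ C.index :=
    (Nat.Coprime.pow_left k (Nat.prime_two.coprime_iff_not_dvd.2 S.not_dvd_index)).dvd_of_dvd_mul_left
      ⟨_, hidx.symm⟩
  rcases k with _ | _ | k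
  · simp
  · simp
  · exact absurd ((dvd_mul_left 4 (2 ^ k)).trans (by simpa [pow_succ, mul_assoc] using hdvd)) (h g)

/-- If every subgroup of index at most two of `P` contains a conjugate of `u`, then `u` is
central. -/
theorem mem_center_of_forall (h : Q4 G) (P : Sylow 2 G) {u : G}
    (hu : ∀ R : Subgroup G, R ≤ P → R.relIndex P ∣ 2 → ∃ d : G, d * u * d⁻¹ ∈ R) :
    u ∈ center G := by
  suffices centralizer ({u} : Set G) = ⊤ by
    rw [mem_center_iff]
    intro x
    exact mem_cent.1 (this ▸ mem_top x)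
  refine eq_top_of_cover _ fun g => ?_
  obtain ⟨P', R, hRP, hRC, hR⟩ := exists_cover h g
  obtain ⟨c, rfl⟩ := MulAction.exists_smul_eq G P P'
  set f := (MulAut.conj c).toMonoidHom with hf
  have hmap : ((c • P : Sylow 2 G) : Subgroup G) = (P : Subgroup G).map f := rfl
  rw [hmap] at hRP hR
  have hle : R.comap f ≤ P := by
    refine (comap_mono hRP).trans ?_
    rw [comap_map_eq_self_of_injective (MulAut.conj c).injective]
  obtain ⟨d, hd⟩ := hu (R.comap f) hle (by rwa [relIndex_comap])
  refine ⟨c * d, ?_⟩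
  have h2 := mem_cent.1 (hRC hd)
  rw [mem_cent]
  change (c * (d * u * d⁻¹) * c⁻¹) * g = g * (c * (d * u * d⁻¹) * c⁻¹) at h2
  calc (c * d)⁻¹ * g * (c * d) * u
      = (c * d)⁻¹ * (g * (c * (d * u * d⁻¹) * c⁻¹)) * (c * d) := by group
    _ = (c * d)⁻¹ * ((c * (d * u * d⁻¹) * c⁻¹) * g) * (c * d) := by rw [h2]
    _ = u * ((c * d)⁻¹ * g * (c * d)) := by group

theorem pow_mem_center (h : Q4 G) (P : Sylow 2 G) {x : G} (hx : x ∈ (P : Subgroup G)) :
    x ^ 2 ∈ center G :=
  mem_center_of_forall h P fun R _ hR => ⟨1, by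
    simpa using mem_subgroupOf.1
      ((index_dvd_prime P.isPGroup' (R.subgroupOf P) hR).1 ⟨x, hx⟩)⟩

theorem commutator_mem_center (h : Q4 G) (P : Sylow 2 G) {x y : G} (hx : x ∈ (P : Subgroup G))
    (hy : y ∈ (P : Subgroup G)) : ⁅x, y⁆ ∈ center G := by
  refine mem_center_of_forall h P fun R _ hR => ⟨1, ?_⟩
  have := (index_dvd_prime P.isPGroup' (R.subgroupOf P) hR).2 ⟨x, hx⟩ ⟨y, hy⟩
  simpa [mem_subgroupOf, commutatorElement_def] using this

/-- In a non-abelian simple group with an abelian Sylow subgroup `P`, only the identity of `P` is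
centralised by the normaliser of `P`. -/
theorem eq_one_of_normalizer_le [IsSimpleGroup G] (hG : ¬ IsMulCommutative G) {p : ℕ}
    [hp : Fact p.Prime] (P : Sylow p G) [hPc : IsMulCommutative (P : Subgroup G)] {z : G}
    (hz : z ∈ (P : Subgroup G))
    (hfix : normalizer ((P : Subgroup G) : Set G) ≤ centralizer ({z} : Set G)) : z = 1 := by
  by_contra hz1
  have key : ∀ (k : ℕ) (g₀ : G), g₀⁻¹ * z ^ k * g₀ ∈ (P : Subgroup G) →
      g₀⁻¹ * z ^ k * g₀ = z ^ k := by
    intro k g₀ hmem
    obtain ⟨n, hn, he⟩ := P.conj_eq_normalizer_conj_of_mem (z ^ k) g₀ (pow_mem hz k) hmem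
    rw [he]
    have hc : Commute n z := mem_cent.1 (hfix hn)
    rw [mul_assoc, ← (hc.pow_right k).eq, inv_mul_cancel_left]
  open scoped IsMulCommutative in
  have ht := MonoidHom.transfer_eq_pow (MonoidHom.id (P : Subgroup G)) z key
  open scoped IsMulCommutative in
  set V := MonoidHom.transfer (MonoidHom.id (P : Subgroup G)) with hV
  have hne : V z ≠ 1 := by
    rw [ht]
    intro h0
    have h0' := congrArg Subtype.val h0
    simp only [MonoidHom.id_apply, OneMemClass.coe_one] at h0'
    obtain ⟨m, hm⟩ := P.isPGroup' ⟨z, hz⟩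
    have hm' : z ^ p ^ m = 1 := by simpa using congrArg Subtype.val hm
    have := pow_gcd_eq_one.mpr ⟨h0', hm'⟩
    rw [Nat.Coprime.gcd_eq_one
      (Nat.Coprime.pow_right m (hp.out.coprime_iff_not_dvd.2 P.not_dvd_index).symm), pow_one] at this
    exact hz1 this
  rcases (inferInstance : V.ker.Normal).eq_bot_or_eq_top with hk | hk
  · exact hG ⟨⟨fun a b => (MonoidHom.ker_eq_bot_iff V).1 hk
      (by rw [map_mul, map_mul]; exact hPc.is_comm.comm _ _)⟩⟩
  · exact hne (MonoidHom.mem_ker.1 (hk ▸ mem_top z))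

/-- A simple group of even order with no class size divisible by four is abelian. -/
theorem comm_of_simple [IsSimpleGroup G] (h : Q4 G) (heven : 2 ∣ Nat.card G) :
    IsMulCommutative G := by
  classical
  by_contra hG
  have hZ : center G = ⊥ := by
    refine (inferInstance : (center G).Normal).eq_bot_or_eq_top.resolve_right fun hc => hG ?_
    exact ⟨⟨fun a b => (mem_center_iff.1 (hc ▸ mem_top a) b).symm⟩⟩
  obtain ⟨P⟩ : Nonempty (Sylow 2 G) := inferInstance
  have hcomm : ∀ x ∈ (P : Subgroup G), ∀ y ∈ (P : Subgroup G), x * y = y * x := fun x hx y hy =>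
    commutatorElement_eq_one_iff_mul_comm.1 (mem_bot.1 (hZ ▸ commutator_mem_center h P hx hy))
  haveI hPc : IsMulCommutative (P : Subgroup G) :=
    ⟨⟨fun a b => Subtype.ext (hcomm a a.2 b b.2)⟩⟩
  obtain ⟨t, ht, ht1⟩ : ∃ z ∈ (P : Subgroup G), z ≠ 1 := by
    by_contra! hc
    exact P.ne_bot_of_dvd_card heven ((eq_bot_iff_forall _).2 hc)
  refine ht1 (mem_bot.1 (hZ ▸ mem_center_of_forall h P fun R hRP hR => ?_))
  set N := normalizer ((P : Subgroup G) : Set G) with hN
  let O := {x : G // x ∈ (P : Subgroup G) ∧ IsConj t x}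
  haveI : Fintype O := Fintype.ofFinite O
  -- the number of these conjugates is odd
  have hodd : Odd (Fintype.card O) := by
    rw [← Nat.card_eq_fintype_card]
    let K := (centralizer ({t} : Set G)).subgroupOf N
    have hbij : Nat.card (N ⧸ K) = Nat.card O := by
      refine Nat.card_congr (Equiv.ofBijective (fun q => (⟨(q.out : G) * t * (q.out : G)⁻¹,
        (mem_normalizer_iff.1 q.out.2 t).1 ht, isConj_iff.2 ⟨_, rfl⟩⟩ : O)) ⟨?_, ?_⟩)
      · intro q q' hq
        simp only [O, Subtype.mk.injEq] at hq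
        rw [← QuotientGroup.out_eq' q, ← QuotientGroup.out_eq' q', QuotientGroup.eq, mem_subgroupOf,
          mem_cent]
        simp only [Subgroup.coe_mul, Subgroup.coe_inv]
        calc (q.out : G)⁻¹ * q'.out * t
            = (q.out : G)⁻¹ * ((q'.out : G) * t * (q'.out : G)⁻¹) * q'.out := by group
          _ = t * ((q.out : G)⁻¹ * q'.out) := by rw [← hq]; group
      · rintro ⟨x, hx, hx'⟩
        obtain ⟨c, rfl⟩ := isConj_iff.1 hx'
        obtain ⟨n, hn, he⟩ := P.conj_eq_normalizer_conj_of_mem t c⁻¹ ht (by rw [inv_inv]; exact hx)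
        refine ⟨(⟨n⁻¹, inv_mem hn⟩ : N), Subtype.ext ?_⟩
        obtain ⟨k, hk⟩ := QuotientGroup.mk_out_eq_mul K (⟨n⁻¹, inv_mem hn⟩ : N)
        simp only [O, hk, Subgroup.coe_mul]
        have hkt : ((k : N) : G) * t = t * ((k : N) : G) := mem_cent.1 (mem_subgroupOf.1 k.2)
        rw [inv_inv] at he
        rw [he]
        calc n⁻¹ * ((k : N) : G) * t * (n⁻¹ * ((k : N) : G))⁻¹
            = n⁻¹ * (((k : N) : G) * t) * ((k : N) : G)⁻¹ * n := by group
          _ = n⁻¹ * t * n := by rw [hkt]; group
    rw [← hbij, ← index_eq_card]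
    refine Nat.odd_iff.2 ?_
    by_contra hc
    refine P.not_dvd_index ((show 2 ∣ K.index by omega).trans ?_)
    have hPC : (P : Subgroup G) ≤ centralizer ({t} : Set G) := fun x hx =>
      mem_cent.2 (hcomm x hx t ht)
    exact (relIndex_dvd_of_le_left N hPC).trans
      ((Dvd.intro _ (relIndex_mul_index le_normalizer)).trans (dvd_refl _))
  -- their product is trivial
  open scoped IsMulCommutative in
  let z : (P : Subgroup G) := ∏ o : O, ⟨o.1, o.2.1⟩
  have hz : z = 1 := by
    refine Subtype.ext (eq_one_of_normalizer_le hG P z.2 fun n hn => mem_cent.2 ?_)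
    let φ : (P : Subgroup G) →* (P : Subgroup G) :=
      { toFun := fun s => ⟨n * s * n⁻¹, (mem_normalizer_iff.1 hn _).1 s.2⟩
        map_one' := Subtype.ext (by simp)
        map_mul' := fun a b => Subtype.ext (by simp [mul_assoc]) }
    let e : O → O := fun o => ⟨n * o.1 * n⁻¹, (mem_normalizer_iff.1 hn _).1 o.2.1,
      o.2.2.trans (isConj_iff.2 ⟨n, rfl⟩)⟩
    have he : Function.Bijective e := Finite.injective_iff_bijective.1 fun a b hab => by
      have := congrArg Subtype.val hab
      simpa [e, O] using Subtype.ext (mul_left_cancel (mul_right_cancel this))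
    have hfix : φ z = z := by
      open scoped IsMulCommutative in
      simp only [z, map_prod]
      exact Fintype.prod_bijective e he _ _ fun o => Subtype.ext rfl
    exact mul_inv_eq_iff_eq_mul.1 (congrArg Subtype.val hfix)
  rcases (Nat.dvd_prime Nat.prime_two).1 hR with h1 | h2
  · exact ⟨1, by simpa using relIndex_eq_one.1 h1 ht⟩
  · by_contra! hno
    set R' := R.subgroupOf (P : Subgroup G) with hR'
    haveI : R'.Normal := normal_of_index_eq_two (show R'.index = 2 from h2)
    have hq : Nat.card ((P : Subgroup G) ⧸ R') = 2 := by rw [← index_eq_card]; exact h2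
    obtain ⟨o₀⟩ : Nonempty O := ⟨⟨t, ht, IsConj.refl t⟩⟩
    have hne : ∀ o : O, QuotientGroup.mk' R' ⟨o.1, o.2.1⟩ ≠ 1 := by
      intro o ho
      obtain ⟨d, hd⟩ := isConj_iff.1 o.2.2
      refine hno d ?_
      rw [hd]
      exact mem_subgroupOf.1 ((QuotientGroup.eq_one_iff _).1 ho)
    have heq : ∀ o : O, QuotientGroup.mk' R' ⟨o.1, o.2.1⟩ =
        QuotientGroup.mk' R' ⟨o₀.1, o₀.2.1⟩ := by
      intro o
      obtain ⟨a, b, -, huniv⟩ := Nat.card_eq_two_iff.1 hq
      have hmem : ∀ x : (P : Subgroup G) ⧸ R', x = a ∨ x = b := fun x => by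
        simpa using huniv.symm.le (Set.mem_univ x)
      have := hne o; have := hne o₀
      rcases hmem 1 with h | h <;> rcases hmem (QuotientGroup.mk' R' ⟨o.1, o.2.1⟩) with h' | h' <;>
        rcases hmem (QuotientGroup.mk' R' ⟨o₀.1, o₀.2.1⟩) with h'' | h'' <;> simp_all
    have h3 : QuotientGroup.mk' R' z = 1 := by rw [hz, map_one]
    open scoped IsMulCommutative in
    simp only [z, map_prod, heq, Finset.prod_const, Finset.card_univ] at h3
    have h4 : (QuotientGroup.mk' R' ⟨o₀.1, o₀.2.1⟩) ^ 2 = 1 := by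
      have := pow_card_eq_one' (x := QuotientGroup.mk' R' ⟨o₀.1, o₀.2.1⟩)
      rwa [hq] at this
    obtain ⟨m, hm⟩ := hodd
    rw [hm, pow_succ, pow_mul, h4, one_pow, one_mul] at h3
    exact hne o₀ h3

universe u

/-- The core of S4167. -/
theorem isSolvable (hFT : OddHall67.OddSolvable.{u}) :
    ∀ (n : ℕ) (G : Type u) [Group G] [Finite G], Nat.card G = n → Q4 G → Group.IsSolvable G := by
  intro n
  induction n using Nat.strong_induction_on with
  | _ n ih =>
  intro G _ _ hn h
  rcases Nat.even_or_odd (Nat.card G) with heven | hodd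
  swap
  · exact hFT G hodd
  by_cases hN : ∃ N : Subgroup G, N.Normal ∧ N ≠ ⊥ ∧ N ≠ ⊤
  · obtain ⟨N, hN, hb, ht⟩ := hN
    haveI := ih (Nat.card N) (hn ▸ lt_of_le_of_ne (card_le_card_group N)
      fun he => ht (eq_top_of_card_eq N he)) N rfl (h.normal N)
    haveI := ih (Nat.card (G ⧸ N)) (by
      rw [← hn, card_eq_card_quotient_mul_card_subgroup N]
      exact lt_mul_of_one_lt_right Nat.card_pos (one_lt_card_iff_ne_bot N |>.2 hb)) (G ⧸ N) rfl
      (h.quotient N)
    exact solvable_of_ker_le_range N.subtype (QuotientGroup.mk' N)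
      (by rw [QuotientGroup.ker_mk', range_subtype])
  · push_neg at hN
    haveI : Nontrivial G := Finite.one_lt_card_iff_nontrivial.1 (by
      have := Nat.card_pos (α := G)
      obtain ⟨k, hk⟩ := heven
      omega)
    haveI : IsSimpleGroup G := ⟨fun H hH => or_iff_not_imp_left.2 (hN H hH)⟩
    have := comm_of_simple h heven.two_dvd
    exact Group.isSolvable_of_comm fun a b => this.is_comm.comm a b

end Cfsg.Agent.ClassFour88
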