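import Mathlib
import Cfsg.Prelude.Def_Transfer

/-! Class sizes and primes: without a normal `p`-complement at least half of the group has class
size divisible by `p`. -/

set_option autoImplicit false

namespace Cfsg.Agent.ClassPrimes

variable {G : Type*} [Group G] [Finite G]

/-- If `p` does not divide the class size of `x`, some Sylow `p`-subgroup centralises `x`. -/
theorem exists_sylow_centralizing {p : ℕ} [hp : Fact p.Prime] (x : G)
    (h : ¬ p ∣ (Subgroup.centralizer ({x} : Set G)).index) :
    ∃ T : Sylow p G, x ∈ Subgroup.centralizer ((T : Subgroup G) : Set G) := by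
  set C := Subgroup.centralizer ({x} : Set G)
  obtain ⟨R⟩ : Nonempty (Sylow p C) := inferInstance
  have hf : (Nat.card C).factorization p = (Nat.card G).factorization p := by
    rw [← C.index_mul_card, Nat.factorization_mul Subgroup.index_ne_zero_of_finite Nat.card_pos.ne', Finsupp.add_apply,
      Nat.factorization_eq_zero_of_not_dvd h, zero_add]
  have hcard : Nat.card ((R : Subgroup C).map C.subtype) = p ^ (Nat.card G).factorization p := by
    rw [Subgroup.card_map_of_injective C.subtype_injective, R.card_eq_multiplicity, hf]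
  refine ⟨Sylow.ofCard _ hcard, Subgroup.mem_centralizer_iff.mpr ?_⟩
  rintro y ⟨r, -, rfl⟩
  exact Subgroup.mem_centralizer_singleton_iff.mp r.2

/-- Without a normal `p`-complement, at most half of the group has class size prime to `p`. -/
theorem two_mul_card_le {p : ℕ} [hp : Fact p.Prime] (hnil : ¬ Cfsg.HasNormalPComplement p G) :
    2 * Nat.card {x : G // ¬ p ∣ (Subgroup.centralizer ({x} : Set G)).index} ≤ Nat.card G := by
  classical
  obtain ⟨P⟩ : Nonempty (Sylow p G) := inferInstance
  set N := Subgroup.normalizer ((P : Subgroup G) : Set G) with hN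
  set C := Subgroup.centralizer ((P : Subgroup G) : Set G) with hC
  have hCN : C ≤ N := Subgroup.centralizer_le_normalizer _
  have hne : C ≠ N := fun h => hnil
    ⟨P, (MonoidHom.transferSylow P h.ge).ker, MonoidHom.normal_ker _, MonoidHom.ker_transferSylow_isComplement' P h.ge⟩
  have hidx : 2 ≤ C.relIndex N := by
    have h0 : C.relIndex N ≠ 0 := fun h => (Nat.card_pos (α := N)).ne' (by
      have := Subgroup.relIndex_dvd_card C N
      rw [h] at this
      exact Nat.eq_zero_of_zero_dvd this)
    have h1 : C.relIndex N ≠ 1 := fun h => hne (le_antisymm hCN (Subgroup.relIndex_eq_one.mp h))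
    omega
  have hconj : ∀ T : Sylow p G, Nat.card (Subgroup.centralizer ((T : Subgroup G) : Set G)) = Nat.card C := by
    intro T
    obtain ⟨g, hg⟩ := MulAction.exists_smul_eq G P T
    have hmem : ∀ z : G, z ∈ C ↔ g * z * g⁻¹ ∈ Subgroup.centralizer ((T : Subgroup G) : Set G) := by
      intro z
      rw [hC, ← hg, Subgroup.mem_centralizer_iff, Subgroup.mem_centralizer_iff]
      constructor
      · rintro h _ ⟨y, hy, rfl⟩
        show (g * y * g⁻¹) * (g * z * g⁻¹) = (g * z * g⁻¹) * (g * y * g⁻¹)
        calc (g * y * g⁻¹) * (g * z * g⁻¹) = g * (y * z) * g⁻¹ := by group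
          _ = g * (z * y) * g⁻¹ := by rw [h y hy]
          _ = _ := by group
      · intro h y hy
        have h2 : (g * y * g⁻¹) * (g * z * g⁻¹) = (g * z * g⁻¹) * (g * y * g⁻¹) := h _ ⟨y, hy, rfl⟩
        calc y * z = g⁻¹ * ((g * y * g⁻¹) * (g * z * g⁻¹)) * g := by group
          _ = g⁻¹ * ((g * z * g⁻¹) * (g * y * g⁻¹)) * g := by rw [h2]
          _ = z * y := by group
    exact (Nat.card_congr ((MulAut.conj g).toEquiv.subtypeEquiv hmem)).symm
  have hle : Nat.card {x : G // ¬ p ∣ (Subgroup.centralizer ({x} : Set G)).index} ≤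
      Nat.card (Σ T : Sylow p G, Subgroup.centralizer ((T : Subgroup G) : Set G)) :=
    Nat.card_le_card_of_injective (fun x => ⟨(exists_sylow_centralizing x.1 x.2).choose, x.1,
      (exists_sylow_centralizing x.1 x.2).choose_spec⟩) (fun a b h => Subtype.ext (congrArg (fun z => (z.2 : G)) h))
  haveI := Fintype.ofFinite (Sylow p G)
  rw [Nat.card_sigma, Finset.sum_congr rfl (fun T _ => hconj T), Finset.sum_const, Finset.card_univ, smul_eq_mul,
    ← Nat.card_eq_fintype_card, P.card_eq_index_normalizer] at hle
  replace hle : Nat.card {x : G // ¬ p ∣ (Subgroup.centralizer ({x} : Set G)).index} ≤ N.index * Nat.card C := hle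
  have h1 : Nat.card C * C.relIndex N = Nat.card N := by
    have := (C.subgroupOf N).card_mul_index
    rwa [Nat.card_congr (Subgroup.subgroupOfEquivOfLe hCN).toEquiv] at this
  have h2 := N.index_mul_card
  calc 2 * Nat.card {x : G // ¬ p ∣ (Subgroup.centralizer ({x} : Set G)).index} ≤ 2 * (N.index * Nat.card C) := Nat.mul_le_mul_left 2 hle
    _ ≤ C.relIndex N * (N.index * Nat.card C) := Nat.mul_le_mul_right _ hidx
    _ = Nat.card G := by rw [← h2, ← h1]; ring

omit [Finite G] in
theorem index_centralizer_one : (Subgroup.centralizer ({1} : Set G)).index = 1 := by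
  rw [Subgroup.index_eq_one, eq_top_iff]
  intro x _
  rw [Subgroup.mem_centralizer_singleton_iff]; simp

/-- Two primes without normal complements divide a common class size. -/
theorem exists_mul_dvd {p q : ℕ} [hp : Fact p.Prime] [hq : Fact q.Prime] (hpq : p ≠ q)
    (hnp : ¬ Cfsg.HasNormalPComplement p G) (hnq : ¬ Cfsg.HasNormalPComplement q G) :
    ∃ x : G, p * q ∣ (Subgroup.centralizer ({x} : Set G)).index := by
  classical
  haveI := Fintype.ofFinite G
  by_contra h
  push Not at h
  have h1 := two_mul_card_le hnp
  have h2 := two_mul_card_le hnq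
  rw [Nat.card_eq_fintype_card, Fintype.card_subtype, Nat.card_eq_fintype_card] at h1 h2
  set A := Finset.univ.filter (fun x : G => ¬ p ∣ (Subgroup.centralizer ({x} : Set G)).index)
  set B := Finset.univ.filter (fun x : G => ¬ q ∣ (Subgroup.centralizer ({x} : Set G)).index)
  have hu : A ∪ B = Finset.univ := by
    ext x
    simp only [A, B, Finset.mem_union, Finset.mem_filter, Finset.mem_univ, true_and, iff_true]
    by_contra hx
    push Not at hx
    exact h x (((Nat.coprime_primes hp.out hq.out).mpr hpq).mul_dvd_of_dvd_of_dvd hx.1 hx.2)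
  have hi : 0 < (A ∩ B).card :=
    Finset.card_pos.mpr ⟨1, by simp [A, B, index_centralizer_one, hp.out.ne_one, hq.out.ne_one]⟩
  have := Finset.card_union_add_card_inter A B
  rw [hu, Finset.card_univ] at this
  omega

end Cfsg.Agent.ClassPrimes
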