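/-
If the product of the classes of a `p`-element and of a prime-power `p'`-element is always a
single class, the group is `p`-solvable.
-/
import Mathlib
import Cfsg.Prelude.Def_Local
import Cfsg.Agent.Lib.HallSolvable
import Cfsg.Agent.S0071

set_option autoImplicit false

namespace Cfsg.Agent.ClassProducts56

universe u

/-- The hypothesis on class products. -/
def Mult (p : ℕ) (G : Type u) [Group G] : Prop :=
  ∀ x y : G, (∃ a : ℕ, orderOf x = p ^ a) → (∃ q b : ℕ, q.Prime ∧ q ≠ p ∧ orderOf y = q ^ b) →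
    ∀ z : G, IsConj (x * y) z ↔ ∃ a b : G, z = a * x * a⁻¹ * (b * y * b⁻¹)

theorem exists_lift {G : Type u} [Group G] [Finite G] (N : Subgroup G) [N.Normal] {q b : ℕ}
    (hq : q.Prime) (x : G ⧸ N) (hx : orderOf x = q ^ b) :
    ∃ g : G, (g : G ⧸ N) = x ∧ ∃ c : ℕ, orderOf g = q ^ c := by
  obtain ⟨g, rfl⟩ := QuotientGroup.mk_surjective x
  set n := orderOf g with hn
  have hn0 : n ≠ 0 := (orderOf_pos g).ne'
  have hcop : (q ^ n.factorization q).Coprime (n / q ^ n.factorization q) :=
    (Nat.coprime_ordCompl hq hn0).pow_left _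
  obtain ⟨m, hm1, hm0⟩ := Nat.chineseRemainder hcop 1 0
  refine ⟨g ^ m, ?_, ?_⟩
  · have hd : orderOf (g : G ⧸ N) ∣ q ^ n.factorization q := by
      rw [hx]
      exact pow_dvd_pow q ((hq.pow_dvd_iff_le_factorization hn0).1
        (hx ▸ orderOf_map_dvd (QuotientGroup.mk' N) g))
    rw [QuotientGroup.mk_pow]
    conv_rhs => rw [← pow_one (g : G ⧸ N)]
    exact pow_eq_pow_iff_modEq.2 (hm1.of_dvd hd)
  · have h1 : (g ^ m) ^ q ^ n.factorization q = 1 := by
      rw [← pow_mul]
      refine orderOf_dvd_iff_pow_eq_one.1 ?_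
      have h3 : n = (n / q ^ n.factorization q) * q ^ n.factorization q :=
        (Nat.div_mul_cancel (Nat.ordProj_dvd n q)).symm
      exact dvd_trans (dvd_of_eq h3) (Nat.mul_dvd_mul_right (Nat.modEq_zero_iff_dvd.1 hm0) _)
    obtain ⟨c, -, hc⟩ := (Nat.dvd_prime_pow hq).1 (orderOf_dvd_of_pow_eq_one h1)
    exact ⟨c, hc⟩

theorem mult_quotient {G : Type u} [Group G] [Finite G] (N : Subgroup G) [N.Normal] {p : ℕ}
    [hp : Fact p.Prime] (h : Mult p G) : Mult p (G ⧸ N) := by
  rintro x y ⟨a, ha⟩ ⟨q, b, hq, hqp, hb⟩ z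
  obtain ⟨x', hx', hxo⟩ := exists_lift N hp.out x ha
  obtain ⟨y', hy', c, hyo⟩ := exists_lift N hq y hb
  have h' := h x' y' hxo ⟨q, c, hq, hqp, hyo⟩
  constructor
  · intro hz
    obtain ⟨g, rfl⟩ := isConj_iff.1 hz
    exact ⟨g, g, by group⟩
  · rintro ⟨u, v, rfl⟩
    obtain ⟨u', rfl⟩ := QuotientGroup.mk_surjective u
    obtain ⟨v', rfl⟩ := QuotientGroup.mk_surjective v
    rw [← hx', ← hy']
    exact MonoidHom.map_isConj (QuotientGroup.mk' N) ((h' _).2 ⟨u', v', rfl⟩)

theorem isPSolvable_pGroup {G : Type u} [Group G] {p m : ℕ} (h : Nat.card G = p ^ m) :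
    Cfsg.IsPSolvable p G := by
  refine ⟨1, ![⊥, ⊤], rfl, rfl, ?_, ?_, ?_⟩
  · exact Fin.monotone_iff_le_succ.2 fun i => by fin_cases i; simp
  · intro i; fin_cases i <;> simp <;> infer_instance
  · intro i; fin_cases i; left; exact ⟨m, by simpa using h⟩

theorem isPSolvable_coprime {G : Type u} [Group G] {p : ℕ} (h : (Nat.card G).Coprime p) :
    Cfsg.IsPSolvable p G := by
  refine ⟨1, ![⊥, ⊤], rfl, rfl, ?_, ?_, ?_⟩
  · exact Fin.monotone_iff_le_succ.2 fun i => by fin_cases i; simp
  · intro i; fin_cases i <;> simp <;> infer_instance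
  · intro i; fin_cases i; right; simpa using h

theorem isPSolvable_minNormal {G : Type u} [Group G] [Finite G] {p : ℕ} [hp : Fact p.Prime]
    (h : Mult p G) {M : Subgroup G} (hM : Cfsg.Agent.HallSolvable.IsMinNormal M) :
    Cfsg.IsPSolvable p M := by
  haveI := hM.1
  obtain ⟨P⟩ : Nonempty (Sylow p M) := inferInstance
  by_cases hF : ∀ Q : Subgroup M, Q ≤ (P : Subgroup M) → ∀ g ∈ Subgroup.normalizer (Q : Set M),
      Nat.Coprime (orderOf g) p → g ∈ Subgroup.centralizer (Q : Set M)
  · obtain ⟨K, hK, hKc⟩ := (Cfsg.Agent.S0071.result P).2 hF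
    haveI := hK
    have hKi : K.index = Nat.card (P : Subgroup M) := hKc.symm.index_eq_card
    obtain ⟨k, hk⟩ := IsPGroup.iff_card.1 P.isPGroup'
    refine Cfsg.Agent.HallSolvable.isPSolvable_extension K (isPSolvable_coprime ?_)
      (isPSolvable_pGroup (m := k) (by rw [← Subgroup.index_eq_card, hKi, hk]))
    rw [Nat.coprime_comm, hp.out.coprime_iff_not_dvd, ← hKc.index_eq_card]
    exact P.not_dvd_index
  · exfalso
    apply hF
    intro Q hQP
    suffices key : ∀ n : ℕ, ∀ g ∈ Subgroup.normalizer (Q : Set M), orderOf g ∣ n → n.Coprime p →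
        g ∈ Subgroup.centralizer (Q : Set M) from fun g hg hc => key _ g hg dvd_rfl hc
    intro n
    induction n using Nat.recOnPrimeCoprime with
    | zero =>
      intro g _ _ hc
      exact absurd (Nat.coprime_zero_left p |>.1 hc) hp.out.ne_one
    | prime_pow q b hq =>
      intro y hy hd hc
      obtain ⟨c, hcb, hyc⟩ := (Nat.dvd_prime_pow hq).1 hd
      by_contra hyC
      have hc0 : c ≠ 0 := by
        rintro rfl
        rw [pow_zero, orderOf_eq_one_iff] at hyc
        exact hyC (hyc ▸ one_mem _)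
      have hqp : q ≠ p := by
        rintro rfl
        exact hp.out.ne_one (Nat.eq_one_of_dvd_coprimes hc (dvd_pow_self q (by omega)) dvd_rfl)
      rw [Subgroup.mem_centralizer_iff] at hyC
      push Not at hyC
      obtain ⟨w, hw, hne⟩ := hyC
      set x : M := w * y * w⁻¹ * y⁻¹ with hx
      have hxQ : x ∈ Q := by
        rw [hx, mul_assoc, mul_assoc]
        refine Q.mul_mem hw ?_
        rw [← mul_assoc]
        exact (Subgroup.mem_normalizer_iff.1 hy _).1 (Q.inv_mem hw)
      have hx1 : x ≠ 1 := fun h1 => hne (by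
        rw [hx, mul_inv_eq_one, mul_inv_eq_iff_eq_mul] at h1
        exact h1)
      have hxo : ∃ a, orderOf (x : G) = p ^ a := by
        obtain ⟨a, ha⟩ := IsPGroup.iff_orderOf.1 P.isPGroup' ⟨x, hQP hxQ⟩
        exact ⟨a, by rw [Subgroup.orderOf_mk] at ha; rw [Subgroup.orderOf_coe]; exact ha⟩
      have h' := h (x : G) (y : G) hxo ⟨q, c, hq, hqp, by rw [Subgroup.orderOf_coe]; exact hyc⟩
      have hxy : IsConj ((x : G) * y) y := isConj_iff.2 ⟨((w : G))⁻¹, by
        rw [hx]; push_cast; group⟩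
      let S : Submonoid G :=
        { carrier := {g | ∀ k, IsConj (y : G) k → IsConj (y : G) (g * k)}
          one_mem' := fun k hk => by rwa [one_mul]
          mul_mem' := fun {a b} ha hb k hk => by rw [mul_assoc]; exact ha _ (hb k hk) }
      have hN : ∀ g ∈ Subgroup.normalClosure {(x : G)}, g ∈ S := by
        intro g hg
        refine Subgroup.closure_induction (p := fun g _ => g ∈ S) ?_ S.one_mem
          (fun a b _ _ ha hb => S.mul_mem ha hb)
          (fun a _ ha => ?_) hg
        · intro z hz k hk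
          obtain ⟨x₀, hx₀, hzx⟩ := Group.mem_conjugatesOfSet_iff.1 hz
          rw [Set.mem_singleton_iff] at hx₀
          subst hx₀
          obtain ⟨a, rfl⟩ := isConj_iff.1 hzx
          obtain ⟨b, rfl⟩ := isConj_iff.1 hk
          exact hxy.symm.trans ((h' _).2 ⟨a, b, rfl⟩)
        · have : a ^ (orderOf a - 1) = a⁻¹ := by
            refine eq_inv_of_mul_eq_one_left ?_
            rw [← pow_succ, Nat.sub_add_cancel (orderOf_pos a), pow_orderOf_eq_one]
          exact this ▸ S.pow_mem ha _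
      have hNM : Subgroup.normalClosure {(x : G)} = M := by
        rcases hM.2.2 _ inferInstance
          (Subgroup.normalClosure_le_normal (Set.singleton_subset_iff.2 x.2)) with h1 | h1
        · exact absurd (Subtype.ext (Subgroup.mem_bot.1
            (h1 ▸ Subgroup.subset_normalClosure (Set.mem_singleton (x : G))))) hx1
        · exact h1
      have hy1 : IsConj (y : G) ((y : G)⁻¹ * y) :=
        hN _ (hNM.symm ▸ M.inv_mem y.2) _ (IsConj.refl _)
      rw [inv_mul_cancel, isConj_one_left] at hy1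
      have : y = 1 := Subtype.ext hy1
      exact hne (by rw [this, mul_one, one_mul])
    | coprime a b _ _ hab iha ihb =>
      intro g hg hd hc
      obtain ⟨i, j, hij⟩ : ∃ i j : ℤ, (a : ℤ) * i + (b : ℤ) * j = 1 :=
        ⟨_, _, by rw [← Nat.gcd_eq_gcd_ab, hab]; rfl⟩
      have e : g = (g ^ a) ^ i * (g ^ b) ^ j := by
        rw [← zpow_natCast, ← zpow_natCast, ← zpow_mul, ← zpow_mul, ← zpow_add, hij, zpow_one]
      rw [e]
      refine mul_mem (Subgroup.zpow_mem _ (ihb _ (pow_mem hg a) ?_ hc.coprime_mul_left) _)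
        (Subgroup.zpow_mem _ (iha _ (pow_mem hg b) ?_ hc.coprime_mul_right) _)
      · exact orderOf_dvd_of_pow_eq_one (by rw [← pow_mul]; exact orderOf_dvd_iff_pow_eq_one.1 hd)
      · exact orderOf_dvd_of_pow_eq_one (by
          rw [← pow_mul, mul_comm b a]; exact orderOf_dvd_iff_pow_eq_one.1 hd)

theorem main_aux {p : ℕ} [Fact p.Prime] : ∀ (n : ℕ) {G : Type u} [Group G] [Finite G],
    Nat.card G ≤ n → Mult p G → Cfsg.IsPSolvable p G := by
  intro n
  induction n with
  | zero => intro G _ _ hn _; exact absurd hn (Nat.not_le.2 Nat.card_pos)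
  | succ n ih =>
    intro G _ _ hn h
    rcases subsingleton_or_nontrivial G with hs | hs
    · exact isPSolvable_coprime (by rw [Nat.card_unique]; exact Nat.coprime_one_left p)
    · obtain ⟨M, hM⟩ := Cfsg.Agent.HallSolvable.exists_minNormal (G := G)
      haveI := hM.1
      refine Cfsg.Agent.HallSolvable.isPSolvable_extension M (isPSolvable_minNormal h hM)
        (ih ?_ (mult_quotient M h))
      have := Cfsg.Agent.HallSolvable.card_quotient_lt (N := M) hM.2.1
      omega

theorem main {G : Type u} [Group G] [Finite G] {p : ℕ} [Fact p.Prime] (h : Mult p G) :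
    Cfsg.IsPSolvable p G := main_aux _ le_rfl h

end Cfsg.Agent.ClassProducts56
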