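import Mathlib
import Cfsg.Agent.Lib.CaminaSizes63Core

/-!
# Centralizers in the central quotient of a group with few class sizes
-/

set_option autoImplicit false

namespace Cfsg.Agent.ClassSizePSL72

open Cfsg.Agent.ClassSizeGraph76 (cs cls)
open Cfsg.Agent.TwoRegSizes38 (Cn IsPE mem_cn self_mem_cn bar)
open Cfsg.Agent.CaminaSizes63 (cs_eq_one_iff cs_dvd_of_le cn_eq_of_le cn_le_iff mem_cn_symm cn_mul_isPE)

variable {G : Type*} [Group G] [Finite G]

/-- The order of the centralizer modulo the centre. -/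
noncomputable def rho (x : G) : ℕ := (Subgroup.center G).relIndex (Cn x)

theorem rho_mul_cs (x : G) : rho x * cs x = (Subgroup.center G).index :=
  Subgroup.relIndex_mul_index (TwoRegSizes38.center_le_cn x)

theorem cs_dvd_index (x : G) : cs x ∣ (Subgroup.center G).index :=
  Dvd.intro_left _ (rho_mul_cs x)

theorem rho_pos (x : G) : 0 < rho x := Nat.pos_of_ne_zero fun h => by
  have := rho_mul_cs x
  rw [h, zero_mul] at this
  exact Subgroup.index_ne_zero_of_finite this.symm

omit [Finite G] in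
theorem card_map_cn (x : G) : Nat.card ((Cn x).map (bar (G := G))) = rho x := by
  show _ = (Subgroup.center G).relIndex _
  have e : Nat.card ((Cn x).map (bar (G := G))) =
      ((bar (G := G)).domRestrict (Cn x)).ker.index := by
    rw [Subgroup.index_ker, MonoidHom.domRestrict_range]
  rw [e, Subgroup.relIndex, MonoidHom.ker_domRestrict, QuotientGroup.ker_mk']

omit [Finite G] in
theorem orderOf_bar_dvd_rho (x : G) : orderOf (bar x) ∣ rho x := by
  rw [← card_map_cn]
  exact Subgroup.orderOf_dvd_natCard _ ⟨x, self_mem_cn x, rfl⟩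

omit [Finite G] in
theorem isPE_bar {r : ℕ} (hr : r.Prime) {x : G} (h : IsPE r x) : IsPE r (bar x) := by
  obtain ⟨j, hj⟩ := h
  obtain ⟨i, -, hi⟩ := (Nat.dvd_prime_pow hr).1 (hj ▸ orderOf_map_dvd (bar (G := G)) x)
  exact ⟨i, hi⟩

/-- An element of prime power order of the quotient lifts to one of the same prime, inside any
subgroup containing some lift. -/
theorem exists_lift {r : ℕ} (hr : r.Prime) {g : G} (h : IsPE r (bar g)) :
    ∃ x : G, IsPE r x ∧ bar x = bar g ∧ ∀ H : Subgroup G, g ∈ H → x ∈ H := by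
  obtain ⟨j, hj⟩ := h
  have hg : orderOf g ≠ 0 := (orderOf_pos g).ne'
  set m := ordCompl[r] (orderOf g)
  have hco : m.Coprime (orderOf (bar g)) := by
    rw [hj]
    exact ((Nat.coprime_ordCompl hr hg).symm).pow_right _
  obtain ⟨u, hu⟩ := exists_pow_eq_self_of_coprime hco
  refine ⟨(g ^ m) ^ u, IsPE.pow hr ⟨(orderOf g).factorization r, ?_⟩ u, ?_,
    fun H hH => pow_mem (pow_mem hH _) _⟩
  · rw [orderOf_pow, Nat.gcd_eq_right (Nat.ordCompl_dvd _ _)]
    exact Nat.div_eq_of_eq_mul_left (Nat.ordCompl_pos r hg)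
      (Nat.ordProj_mul_ordCompl_eq_self _ _).symm
  · rw [map_pow, map_pow, hu]

/-- The centralizer of the image of a primary element whose class size is prime to its order. -/
theorem centralizer_bar {r : ℕ} (hr : r.Prime) {x : G} (hx : IsPE r x) (hcs : ¬ r ∣ cs x) :
    Subgroup.centralizer ({bar x} : Set (G ⧸ Subgroup.center G)) = (Cn x).map bar := by
  refine le_antisymm (fun c hc => ?_) ?_
  · obtain ⟨g, rfl⟩ := QuotientGroup.mk'_surjective _ c
    rw [Subgroup.mem_centralizer_singleton_iff] at hc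
    set C' := (Subgroup.centralizer ({bar x} : Set (G ⧸ Subgroup.center G))).comap bar
    have hle : Cn x ≤ C' := by
      intro h hh
      rw [Subgroup.mem_comap, Subgroup.mem_centralizer_singleton_iff, ← map_mul, ← map_mul,
        mem_cn.1 hh]
    have hn : ((Cn x).subgroupOf C').Normal := by
      refine Subgroup.normal_subgroupOf_of_le_normalizer fun h hh => ?_
      exact TwoRegSizes38.normalizer_of_bar_comm (Subgroup.mem_centralizer_singleton_iff.1 hh)
    refine ⟨g, CaminaSizes63.mem_of_parts fun s k hs hpe => ?_, rfl⟩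
    have hgk : g ^ k ∈ C' := by
      rw [Subgroup.mem_comap, map_pow, Subgroup.mem_centralizer_singleton_iff]
      exact Commute.pow_left hc k
    by_cases hsr : s = r
    · subst hsr
      refine CaminaSizes63.mem_of_isPE_of_not_dvd hs (C := C') (fun hd => ?_) hgk hpe
      exact hcs (hd.trans (Subgroup.relIndex_dvd_index_of_le hle))
    · refine mem_cn.2 (TwoRegSizes38.comm_of_bar_comm ?_
        (hpe.coprime_coprime hx ((Nat.coprime_primes hs hr).2 hsr)))
      rw [Subgroup.mem_comap] at hgk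
      exact Subgroup.mem_centralizer_singleton_iff.1 hgk
  · rintro _ ⟨h, hh, rfl⟩
    rw [Subgroup.mem_centralizer_singleton_iff, ← map_mul, ← map_mul, mem_cn.1 hh]

theorem card_centralizer_bar {r : ℕ} (hr : r.Prime) {x : G} (hx : IsPE r x) (hcs : ¬ r ∣ cs x) :
    Nat.card (Subgroup.centralizer ({bar x} : Set (G ⧸ Subgroup.center G))) = rho x := by
  rw [centralizer_bar hr hx hcs, card_map_cn]

/-- The class size of `x` has no proper multiples or divisors among the class sizes. -/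
def Iso (x : G) : Prop :=
  x ∉ Subgroup.center G ∧ ∀ g : G, cs g ∣ cs x ∨ cs x ∣ cs g → cs g = 1 ∨ cs g = cs x

theorem Iso.eq_of_le {x g : G} (h : Iso x) (hle : Cn x ≤ Cn g) (hg : g ∉ Subgroup.center G) :
    Cn g = Cn x := by
  rcases h.2 g (Or.inl (cs_dvd_of_le hle)) with e | e
  · exact absurd (cs_eq_one_iff.1 e) hg
  · exact (cn_eq_of_le hle e.symm).symm

theorem Iso.eq_of_ge {x g : G} (h : Iso x) (hle : Cn g ≤ Cn x) : Cn g = Cn x := by
  rcases h.2 g (Or.inr (cs_dvd_of_le hle)) with e | e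
  · refine absurd (cs_eq_one_iff.1 ?_) h.1
    exact Nat.dvd_one.1 (e ▸ cs_dvd_of_le hle)
  · exact cn_eq_of_le hle e

omit [Finite G] in
theorem Iso.of_eq {x g : G} (h : Iso x) (he : Cn g = Cn x) : Iso g := by
  have e : cs g = cs x := congrArg Subgroup.index he
  refine ⟨fun hc => h.1 (cs_eq_one_iff.1 (e ▸ cs_eq_one_iff.2 hc)), fun y hy => ?_⟩
  rw [e] at hy ⊢
  exact h.2 y hy

/-- The centralizer is abelian or a primary group modulo the centre. -/
theorem Iso.dich {x : G} (h : Iso x) :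
    (∀ g ∈ Cn x, ∀ k ∈ Cn x, g * k = k * g) ∨
      ∃ r : ℕ, r.Prime ∧ ∀ s : ℕ, s.Prime → s ∣ rho x → s = r := by
  obtain ⟨r, j, hr, -, hw, hwpe⟩ := TwoRegSizes38.exists_primePow_not_mem h.1
  set w := x ^ j
  have hwx : Cn w = Cn x := h.eq_of_le (TwoRegSizes38.cn_le_cn_pow x j) hw
  have hwiso := h.of_eq hwx
  by_cases hv : ∃ v ∈ Cn x, v ∉ Subgroup.center G ∧ ∃ s : ℕ, s.Prime ∧ s ≠ r ∧ IsPE s v
  · obtain ⟨v, hv, hvc, s, hs, hsr, hpe⟩ := hv
    left
    have key : ∀ {a : G} {p t : ℕ} {b : G}, Iso a → p.Prime → IsPE p a → t.Prime → IsPE t b →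
        p ≠ t → b ∈ Cn a → Cn a ≤ Cn b := by
      intro a p t b ha hp hpa ht htb hne hb
      have e := cn_mul_isPE hp ht hne hpa htb hb
      rw [ha.eq_of_ge (e.le.trans inf_le_left)] at e
      exact e.le.trans inf_le_right
    have hwv : v ∈ Cn w := hwx.symm ▸ hv
    have hle : Cn w ≤ Cn v := key hwiso hr hwpe hs hpe (Ne.symm hsr) hwv
    have hvw : Cn v = Cn w := hwiso.eq_of_le hle hvc
    have hviso := hwiso.of_eq hvw
    have hcen : ∀ (t k : ℕ) (g : G), t.Prime → g ∈ Cn x → IsPE t (g ^ k) → Cn x ≤ Cn (g ^ k) := by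
      intro t k g ht hg hpe'
      by_cases htr : t = r
      · subst htr
        rw [← hwx, ← hvw] at hg ⊢
        exact key hviso hs hpe ht hpe' hsr (pow_mem hg k)
      · rw [← hwx] at hg ⊢
        exact key hwiso hr hwpe ht hpe' (Ne.symm htr) (pow_mem hg k)
    intro g hg k hk
    have : g ∈ Cn k := CaminaSizes63.mem_of_parts fun t i ht hpe' =>
      mem_cn_symm (hcen t i g ht hg hpe' hk)
    exact mem_cn.1 this
  · right
    refine ⟨r, hr, fun s hs hd => ?_⟩
    by_contra hsr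
    obtain ⟨v, hv1, hv2, hv3⟩ := TwoRegSizes38.exists_primePow_of_dvd_relIndex hs hd
    exact hv ⟨v, hv1, hv2, s, hs, hsr, hv3⟩

/-- In an abelian isolated centralizer, a prime dividing it is excluded from all other class
sizes of noncentral elements. -/
theorem Iso.cs_eq_of_comm {x : G} (h : Iso x) (hc : ∀ g ∈ Cn x, ∀ k ∈ Cn x, g * k = k * g)
    {v : G} (hv : v ∈ Cn x) (hvc : v ∉ Subgroup.center G) {r : ℕ} (hr : r.Prime) (hpe : IsPE r v)
    {g : G} (hg : g ∉ Subgroup.center G) (hrg : ¬ r ∣ cs g) : cs g = cs x := by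
  have e : ∀ u ∈ Cn x, u ∉ Subgroup.center G → Cn u = Cn x := fun u hu huc =>
    h.eq_of_le (cn_le_iff.2 fun k hk => hc k hk u hu) huc
  obtain ⟨g', hg', hvg⟩ := CaminaSizes63.exists_conj_comm hr hpe hrg
  obtain ⟨k, rfl⟩ := hg'
  have hm : k * g * k⁻¹ ∈ Cn x := e v hv hvc ▸ mem_cn_symm hvg
  have := e _ hm (CaminaSizes63.conj_not_center hg k)
  rw [← ClassSizeGraph76.cs_conj g k]
  exact congrArg Subgroup.index this

/-- Two isolated class sizes have no common prime in their centralizers. -/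
theorem Iso.no_common {x y : G} (hx : Iso x) (hy : Iso y) (hne : cs x ≠ cs y) {r : ℕ}
    (hr : r.Prime) (hrx : r ∣ rho x) (hry : r ∣ rho y)
    (hpx : (∀ s : ℕ, s.Prime → s ∣ rho x → s = r) → ¬ r ∣ cs x)
    (hpy : (∀ s : ℕ, s.Prime → s ∣ rho y → s = r) → ¬ r ∣ cs y)
    (hnb : ¬ ((∀ s : ℕ, s.Prime → s ∣ rho x → s = r) ∧ ∀ s : ℕ, s.Prime → s ∣ rho y → s = r))
    (hex : ∃ g : G, g ∉ Subgroup.center G ∧ ¬ r ∣ cs g) : False := by
  obtain ⟨v, hv, hvc, hvpe⟩ := TwoRegSizes38.exists_primePow_of_dvd_relIndex hr hrx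
  obtain ⟨u, hu, huc, hupe⟩ := TwoRegSizes38.exists_primePow_of_dvd_relIndex hr hry
  obtain ⟨g, hg, hrg⟩ := hex
  have pure' : ∀ {z : G}, r ∣ rho z →
      (∃ t : ℕ, t.Prime ∧ ∀ s : ℕ, s.Prime → s ∣ rho z → s = t) →
      ∀ s : ℕ, s.Prime → s ∣ rho z → s = r := by
    intro z hz ⟨t, _, h⟩ s hs hd
    rw [h s hs hd, h r hr hz]
  rcases hx.dich with cx | px <;> rcases hy.dich with cy | py
  · exact hne ((hx.cs_eq_of_comm cx hv hvc hr hvpe hg hrg).symm.trans
      (hy.cs_eq_of_comm cy hu huc hr hupe hg hrg))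
  · exact hne (hx.cs_eq_of_comm cx hv hvc hr hvpe hy.1 (hpy (pure' hry py))).symm
  · exact hne (hy.cs_eq_of_comm cy hu huc hr hupe hx.1 (hpx (pure' hrx px)))
  · exact hnb ⟨pure' hrx px, pure' hry py⟩

/-- If the class size of `x` at most doubles upwards, the `r'`-part of its centralizer commutes with
the `r`-part. -/
theorem comm_parts {r : ℕ} (hr : r.Prime) (hr2 : r ≠ 2) {x : G} (hx : IsPE r x)
    (hxc : x ∉ Subgroup.center G)
    (hmul : ∀ g : G, cs x ∣ cs g → cs g = cs x ∨ cs g = 2 * cs x) {s : ℕ} (hs : s.Prime)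
    (hsr : s ≠ r) {w : G} (hw : w ∈ Cn x) (hws : IsPE s w) {v : G} (hv : v ∈ Cn x)
    (hvr : IsPE r v) : v * w = w * v := by
  have _ := hxc
  have e := cn_mul_isPE hr hs (Ne.symm hsr) hx hws hw
  have hle : Cn (x * w) ≤ Cn x := e.le.trans inf_le_left
  have hidx : (Cn (x * w)).relIndex (Cn x) * cs x = cs (x * w) := Subgroup.relIndex_mul_index hle
  have hd : (Cn (x * w)).relIndex (Cn x) = 1 ∨ (Cn (x * w)).relIndex (Cn x) = 2 := by
    have hp := ClassSizeGraph76.cs_pos x
    rcases hmul _ (cs_dvd_of_le hle) with h | h <;> rw [h] at hidx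
    · exact Or.inl (Nat.eq_of_mul_eq_mul_right hp (hidx.trans (one_mul _).symm))
    · exact Or.inr (Nat.eq_of_mul_eq_mul_right hp hidx)
  have h2 : v ^ 2 ∈ Cn (x * w) := by
    rcases hd with h | h
    · exact pow_mem (Subgroup.relIndex_eq_one.1 h hv) 2
    · have hs2 := Subgroup.sq_mem_of_index_two (H := (Cn (x * w)).subgroupOf (Cn x)) h ⟨v, hv⟩
      simpa [Subgroup.mem_subgroupOf] using hs2
  have hco : (2 : ℕ).Coprime (orderOf v) :=
    (hvr.coprime (n := 2) ((Nat.coprime_primes hr Nat.prime_two).2 hr2)).symm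
  obtain ⟨t, ht⟩ := exists_pow_eq_self_of_coprime hco
  have : v ∈ Cn (x * w) := ht ▸ pow_mem h2 t
  rw [e] at this
  exact mem_cn.1 this.2

end Cfsg.Agent.ClassSizePSL72
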