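import Mathlib
import Cfsg.Agent.Lib.FrobeniusCount72

/-!
# Counting elements of prime power order when each is central in a unique Sylow subgroup
-/

set_option autoImplicit false

namespace Cfsg.Agent.ClassSizePSL72

variable {Γ : Type*} [Group Γ] [Finite Γ] {r : ℕ} [hr : Fact r.Prime]

/-- The centre of a subgroup, as a subgroup of the ambient group. -/
def zc (P : Subgroup Γ) : Subgroup Γ := P ⊓ Subgroup.centralizer (P : Set Γ)

/-- Every nontrivial `r`-element centralizes exactly one Sylow `r`-subgroup. -/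
def UniqueSyl (Γ : Type*) [Group Γ] (r : ℕ) : Prop :=
  ∀ v : Γ, v ≠ 1 → (∃ j : ℕ, orderOf v = r ^ j) →
    ∃ Q : Sylow r Γ, (Q : Subgroup Γ) ≤ Subgroup.centralizer {v} ∧
      ∀ Q' : Sylow r Γ, (Q' : Subgroup Γ) ≤ Subgroup.centralizer {v} → Q' = Q

omit [Finite Γ] hr in
theorem le_centralizer_of_zc {P : Subgroup Γ} {v : Γ} (hv : v ∈ zc P) :
    P ≤ Subgroup.centralizer {v} := fun g hg =>
  Subgroup.mem_centralizer_singleton_iff.2 (Subgroup.mem_centralizer_iff.1 hv.2 g hg)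

omit [Finite Γ] in
theorem exists_orderOf {P : Sylow r Γ} {v : Γ} (hv : v ∈ (P : Subgroup Γ)) :
    ∃ j : ℕ, orderOf v = r ^ j := by
  obtain ⟨k, hk⟩ := (IsPGroup.iff_orderOf.1 P.2) ⟨v, hv⟩
  exact ⟨k, by simpa using hk⟩

omit [Finite Γ] hr in
theorem mem_zc_of_le (P : Sylow r Γ) {v : Γ} (hv : ∃ j : ℕ, orderOf v = r ^ j)
    (h : (P : Subgroup Γ) ≤ Subgroup.centralizer {v}) : v ∈ zc (P : Subgroup Γ) := by
  obtain ⟨j, hj⟩ := hv
  have hc : v ∈ Subgroup.centralizer ((P : Subgroup Γ) : Set Γ) :=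
    Subgroup.mem_centralizer_iff.2 fun g hg => Subgroup.mem_centralizer_singleton_iff.1 (h hg)
  refine ⟨?_, hc⟩
  have hp : IsPGroup r (Subgroup.zpowers v) :=
    IsPGroup.of_card (n := j) (by rw [Nat.card_zpowers, hj])
  have hn : Subgroup.zpowers v ≤ Subgroup.normalizer ((P : Subgroup Γ) : Set Γ) :=
    Subgroup.zpowers_le.2 (Subgroup.centralizer_le_normalizer _ hc)
  have hsup := IsPGroup.to_sup_of_normal_right' hp P.2 hn
  exact (P.3 hsup le_sup_right).le (Subgroup.mem_sup_left (Subgroup.mem_zpowers v))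

open scoped Pointwise in
theorem card_zc_eq (P Q : Sylow r Γ) :
    Nat.card (zc (Q : Subgroup Γ)) = Nat.card (zc (P : Subgroup Γ)) := by
  obtain ⟨g, rfl⟩ := MulAction.exists_smul_eq Γ P Q
  have hP : ((g • P : Sylow r Γ) : Subgroup Γ) = (P : Subgroup Γ).map (MulAut.conj g).toMonoidHom := rfl
  have e : zc ((g • P : Sylow r Γ) : Subgroup Γ) =
      (zc (P : Subgroup Γ)).map (MulAut.conj g).toMonoidHom := by
    rw [hP]
    ext y
    constructor
    · rintro ⟨⟨x, hx, rfl⟩, hy⟩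
      refine ⟨x, ⟨hx, Subgroup.mem_centralizer_iff.2 fun k hk => ?_⟩, rfl⟩
      have := Subgroup.mem_centralizer_iff.1 hy _ ⟨k, hk, rfl⟩
      rw [← map_mul, ← map_mul] at this
      exact (MulAut.conj g).injective this
    · rintro ⟨x, ⟨hx, hxc⟩, rfl⟩
      refine ⟨⟨x, hx, rfl⟩, Subgroup.mem_centralizer_iff.2 ?_⟩
      rintro _ ⟨k, hk, rfl⟩
      rw [← map_mul, ← map_mul, Subgroup.mem_centralizer_iff.1 hxc k hk]
  rw [e]
  exact (Nat.card_congr ((zc (P : Subgroup Γ)).equivMapOfInjective _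
    (MulAut.conj g).injective).toEquiv).symm

/-- The order of a Sylow subgroup divides the number of `r`-elements. -/
theorem count (hu : UniqueSyl Γ r) (P : Sylow r Γ) :
    Nat.card (P : Subgroup Γ) ∣
      Nat.card (Sylow r Γ) * (Nat.card (zc (P : Subgroup Γ)) - 1) + 1 := by
  classical
  have := Fintype.ofFinite Γ
  set ρ := Nat.card (P : Subgroup Γ)
  have hρ : ρ = r ^ (Nat.card Γ).factorization r := Sylow.card_eq_multiplicity P
  have hS : ∀ g : Γ, g ^ ρ = 1 ↔ ∃ j : ℕ, orderOf g = r ^ j := by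
    intro g
    constructor
    · intro h
      obtain ⟨i, -, hi⟩ := (Nat.dvd_prime_pow hr.out).1 (hρ ▸ orderOf_dvd_of_pow_eq_one h)
      exact ⟨i, hi⟩
    · rintro ⟨j, hj⟩
      rw [← orderOf_dvd_iff_pow_eq_one, hj, hρ]
      exact pow_dvd_pow r ((hr.out.pow_dvd_iff_le_factorization Nat.card_pos.ne').1
        (hj ▸ orderOf_dvd_natCard g))
  have hdvd := FrobeniusCount72.dvd_card_pow_eq_one (G := Γ) ρ (Subgroup.card_subgroup_dvd_card _)
  let f : {g : Γ // g ^ ρ = 1 ∧ g ≠ 1} → (Σ Q : Sylow r Γ, {g : Γ // g ∈ zc (Q : Subgroup Γ) ∧ g ≠ 1}) :=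
    fun g =>
      let h := hu g.1 g.2.2 ((hS _).1 g.2.1)
      ⟨h.choose, g.1, mem_zc_of_le _ ((hS _).1 g.2.1) h.choose_spec.1, g.2.2⟩
  have hf : Function.Bijective f := by
    refine ⟨fun g g' e => ?_, ?_⟩
    · have := congrArg (fun σ : (Σ Q : Sylow r Γ,
        {g : Γ // g ∈ zc (Q : Subgroup Γ) ∧ g ≠ 1}) => (σ.2 : Γ)) e
      exact Subtype.ext this
    · rintro ⟨Q, g, hg, hg1⟩
      have hge := exists_orderOf hg.1
      refine ⟨⟨g, (hS g).2 hge, hg1⟩, ?_⟩
      have hQ : (hu g hg1 hge).choose = Q :=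
        ((hu g hg1 hge).choose_spec.2 Q (le_centralizer_of_zc hg)).symm
      refine Sigma.subtype_ext hQ rfl
  have h1 : ∀ H : Subgroup Γ, Nat.card {g : Γ // g ∈ H ∧ g ≠ 1} = Nat.card H - 1 := by
    intro H
    have e : Nat.card {g : Γ // g ∈ H ∧ g ≠ 1} = Nat.card {g : H // g ≠ 1} :=
      Nat.card_congr ⟨fun g => ⟨⟨g.1, g.2.1⟩, fun h => g.2.2 (congrArg Subtype.val h)⟩,
        fun g => ⟨g.1.1, g.1.2, fun h => g.2 (Subtype.ext h)⟩, fun g => rfl, fun g => rfl⟩
    rw [e, Nat.card_eq_fintype_card, Fintype.card_subtype_compl, Fintype.card_subtype_eq,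
      Nat.card_eq_fintype_card]
  have := Fintype.ofFinite (Sylow r Γ)
  have hcard : Nat.card {g : Γ // g ^ ρ = 1 ∧ g ≠ 1} =
      Nat.card (Sylow r Γ) * (Nat.card (zc (P : Subgroup Γ)) - 1) := by
    rw [Nat.card_eq_of_bijective f hf, Nat.card_sigma,
      Finset.sum_congr rfl fun Q _ => by rw [h1, card_zc_eq P Q], Finset.sum_const, smul_eq_mul,
      Finset.card_univ, ← Nat.card_eq_fintype_card]
  have hsplit : Nat.card {g : Γ // g ^ ρ = 1} = Nat.card {g : Γ // g ^ ρ = 1 ∧ g ≠ 1} + 1 := by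
    have hins : {g : Γ | g ^ ρ = 1} = insert 1 {g : Γ | g ^ ρ = 1 ∧ g ≠ 1} := by
      ext g
      by_cases hg : g = 1 <;> simp [hg]
    rw [show Nat.card {g : Γ // g ^ ρ = 1} = ({g : Γ | g ^ ρ = 1}).ncard from
        Nat.card_coe_set_eq _, hins, Set.ncard_insert_of_notMem (by simp) (Set.toFinite _)]
    rfl
  rwa [hsplit, hcard] at hdvd

omit [Finite Γ] in
open scoped Pointwise in
/-- The centralizer of a central element normalises the unique Sylow subgroup. -/
theorem cent_le_normalizer (hu : UniqueSyl Γ r) {P : Sylow r Γ} {v : Γ}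
    (hv : v ∈ zc (P : Subgroup Γ)) (hv1 : v ≠ 1) :
    Subgroup.centralizer ({v} : Set Γ) ≤ Subgroup.normalizer ((P : Subgroup Γ) : Set Γ) := by
  intro g hg
  obtain ⟨Q, -, hQu⟩ := hu v hv1 (exists_orderOf hv.1)
  refine Sylow.smul_eq_iff_mem_normalizer.1 ((hQu _ ?_).trans (hQu P (le_centralizer_of_zc hv)).symm)
  rintro _ ⟨k, hk, rfl⟩
  exact mul_mem (mul_mem hg (le_centralizer_of_zc hv hk)) (inv_mem hg)

omit hr in
/-- The index of a centralizer in the normalizer is at most the number of central elements. -/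
theorem relIndex_le {P : Sylow r Γ} {v : Γ} (hv : v ∈ zc (P : Subgroup Γ)) (hv1 : v ≠ 1) :
    (Subgroup.centralizer ({v} : Set Γ)).relIndex (Subgroup.normalizer ((P : Subgroup Γ) : Set Γ)) + 1
      ≤ Nat.card (zc (P : Subgroup Γ)) := by
  classical
  set N := Subgroup.normalizer ((P : Subgroup Γ) : Set Γ)
  have hN : ∀ g ∈ N, ∀ y ∈ zc (P : Subgroup Γ), g * y * g⁻¹ ∈ zc (P : Subgroup Γ) := by
    intro g hg y hy
    refine ⟨(Subgroup.mem_normalizer_iff.1 hg y).1 hy.1, Subgroup.mem_centralizer_iff.2 fun k hk => ?_⟩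
    have hk' : g⁻¹ * k * g ∈ (P : Subgroup Γ) := by
      have := (Subgroup.mem_normalizer_iff.1 (inv_mem hg) k).1 hk
      simpa using this
    have h := Subgroup.mem_centralizer_iff.1 hy.2 _ hk'
    calc k * (g * y * g⁻¹) = g * (g⁻¹ * k * g * y) * g⁻¹ := by group
      _ = g * (y * (g⁻¹ * k * g)) * g⁻¹ := by rw [h]
      _ = g * y * g⁻¹ * k := by group
  let f : Option (N ⧸ (Subgroup.centralizer ({v} : Set Γ)).subgroupOf N) → zc (P : Subgroup Γ) :=
    fun o => o.elim 1 fun c => ⟨(c.out : Γ) * v * (c.out : Γ)⁻¹, hN _ c.out.2 _ hv⟩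
  have hf : Function.Injective f := by
    intro o o' e
    have e' := congrArg Subtype.val e
    rcases o with _ | c <;> rcases o' with _ | c' <;> simp only [f, Option.elim] at e'
    · rfl
    · exact absurd (conj_eq_one_iff.1 e'.symm) hv1
    · exact absurd (conj_eq_one_iff.1 e') hv1
    · congr 1
      rw [← QuotientGroup.out_eq' c, ← QuotientGroup.out_eq' c', QuotientGroup.eq,
        Subgroup.mem_subgroupOf, Subgroup.mem_centralizer_singleton_iff]
      push_cast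
      calc (c.out : Γ)⁻¹ * (c'.out : Γ) * v
          = (c.out : Γ)⁻¹ * ((c'.out : Γ) * v * (c'.out : Γ)⁻¹) * (c'.out : Γ) := by group
        _ = (c.out : Γ)⁻¹ * ((c.out : Γ) * v * (c.out : Γ)⁻¹) * (c'.out : Γ) := by rw [e']
        _ = v * ((c.out : Γ)⁻¹ * (c'.out : Γ)) := by group
  have := Nat.card_le_card_of_injective f hf
  rwa [Finite.card_option] at this

/-- A nontrivial `r`-group Sylow has a nontrivial central element. -/
theorem exists_zc {P : Sylow r Γ} (hP : Nat.card (P : Subgroup Γ) ≠ 1) :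
    ∃ v ∈ zc (P : Subgroup Γ), v ≠ 1 := by
  have : Nontrivial (P : Subgroup Γ) :=
    Finite.one_lt_card_iff_nontrivial.1 (by have := Nat.card_pos (α := (P : Subgroup Γ)); omega)
  have := P.2.center_nontrivial
  obtain ⟨⟨z, hz⟩, hz1⟩ := exists_ne (1 : Subgroup.center (P : Subgroup Γ))
  refine ⟨z, ⟨z.2, Subgroup.mem_centralizer_iff.2 fun k hk => ?_⟩, fun h => hz1 ?_⟩
  · exact congrArg Subtype.val (Subgroup.mem_center_iff.1 hz ⟨k, hk⟩)
  · exact Subtype.ext (Subtype.ext h)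

/-- The arithmetic summary of the count. -/
theorem arith (hu : UniqueSyl Γ r) (P : Sylow r Γ) {v : Γ} (hv : v ∈ zc (P : Subgroup Γ))
    (hv1 : v ≠ 1) :
    ∃ n e : ℕ, n * (e * Nat.card (Subgroup.centralizer ({v} : Set Γ))) = Nat.card Γ ∧ 0 < e ∧
      Nat.card (Subgroup.normalizer ((P : Subgroup Γ) : Set Γ)) =
        e * Nat.card (Subgroup.centralizer ({v} : Set Γ)) ∧ n = Nat.card (Sylow r Γ) ∧
      e + 1 ≤ Nat.card (zc (P : Subgroup Γ)) ∧
      Nat.card (P : Subgroup Γ) ∣ n * (Nat.card (zc (P : Subgroup Γ)) - 1) + 1 := by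
  set N := Subgroup.normalizer ((P : Subgroup Γ) : Set Γ) with hN
  set C := Subgroup.centralizer ({v} : Set Γ)
  have hle := cent_le_normalizer hu hv hv1
  have hcard : C.relIndex N * Nat.card C = Nat.card N := by
    rw [mul_comm, ← Subgroup.relIndex_bot_left C, ← Subgroup.relIndex_bot_left N]
    exact Subgroup.relIndex_mul_relIndex ⊥ C N bot_le hle
  refine ⟨_, C.relIndex N, ?_, ?_, hcard.symm, rfl, relIndex_le hv hv1, count hu P⟩
  · rw [hcard, Sylow.card_eq_index_normalizer P, mul_comm]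
    exact Subgroup.card_mul_index _
  · exact Nat.pos_of_ne_zero (Nat.ne_zero_of_lt (Subgroup.relIndex_dvd_card C N |> Nat.pos_of_dvd_of_pos <| Nat.card_pos))

omit hr in
/-- A subgroup whose centre is everything is abelian. -/
theorem comm_of_zc_eq {P : Subgroup Γ} (h : Nat.card (zc P) = Nat.card P) :
    ∀ g ∈ P, ∀ k ∈ P, g * k = k * g := by
  have : zc P = P := Subgroup.eq_of_le_of_card_ge inf_le_left h.ge
  intro g hg k hk
  rw [← this] at hk
  exact Subgroup.mem_centralizer_iff.1 hk.2 g hg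

omit hr [Finite Γ] in
theorem zc_dvd (P : Subgroup Γ) : Nat.card (zc P) ∣ Nat.card P :=
  Subgroup.card_dvd_of_le inf_le_left

theorem zc_small {P : Sylow r Γ} (h : Nat.card (zc (P : Subgroup Γ)) ≠ Nat.card (P : Subgroup Γ)) :
    r * Nat.card (zc (P : Subgroup Γ)) ≤ Nat.card (P : Subgroup Γ) := by
  obtain ⟨k, hk⟩ := P.2.exists_card_eq
  obtain ⟨i, hik, hi⟩ := (Nat.dvd_prime_pow hr.out).1 (hk ▸ zc_dvd (P : Subgroup Γ))
  rw [hk, hi, ← pow_succ']
  refine Nat.pow_le_pow_right hr.out.pos ?_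
  rcases eq_or_lt_of_le hik with h' | h'
  · exact absurd (by rw [hi, h', hk]) h
  · omega

end Cfsg.Agent.ClassSizePSL72
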