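import Cfsg.Prelude
import Cfsg.Agent.Lib.CaminaSizes63Core
import Cfsg.Agent.Lib.ZassenhausClassify27
import Cfsg.Agent.S0742
import Cfsg.Agent.Lib.PSLCard

/-!
# Self-centralizing TI Sylow subgroups acting on `q + 1` points
-/

set_option autoImplicit false

namespace Cfsg.Agent.ClassSizePSL72

open MulAction
open Cfsg.Agent.TwoRegSizes38 (Cn IsPE mem_cn)

universe u

variable {Γ : Type u} [Group Γ] [Finite Γ] {p q e : ℕ} [hp : Fact p.Prime]

/-- Sylow subgroups of order `q`, self-centralizing, of index `e` in their normalizers, `q + 1` of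
them. -/
structure TISylow (Γ : Type u) [Group Γ] (p q e : ℕ) : Prop where
  two_lt : 2 < q
  one_lt : 1 < e
  card_syl : ∀ P : Sylow p Γ, Nat.card (P : Subgroup Γ) = q
  cent : ∀ P : Sylow p Γ, ∀ v ∈ (P : Subgroup Γ), v ≠ 1 → Cn v = (P : Subgroup Γ)
  norm : ∀ P : Sylow p Γ, Nat.card (Subgroup.normalizer ((P : Subgroup Γ) : Set Γ)) = q * e
  card : Nat.card Γ = (q + 1) * (q * e)

namespace TISylow

variable (T : TISylow Γ p q e)
include T

theorem disj {P Q : Sylow p Γ} {x : Γ} (hP : x ∈ (P : Subgroup Γ)) (hQ : x ∈ (Q : Subgroup Γ))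
    (hx : x ≠ 1) : P = Q :=
  Sylow.ext ((T.cent P x hP hx).symm.trans (T.cent Q x hQ hx))

theorem free {P Q : Sylow p Γ} (hne : Q ≠ P) {v : Γ} (hv : v ∈ (P : Subgroup Γ))
    (hfix : v • Q = Q) : v = 1 := by
  by_contra hv1
  have hn : Subgroup.zpowers v ≤ Subgroup.normalizer ((Q : Subgroup Γ) : Set Γ) :=
    Subgroup.zpowers_le.2 (Sylow.smul_eq_iff_mem_normalizer.1 hfix)
  have hp' : IsPGroup p (Subgroup.zpowers v) := P.2.to_le (Subgroup.zpowers_le.2 hv)
  have hsup := IsPGroup.to_sup_of_normal_right' hp' Q.2 hn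
  have hm : v ∈ (Q : Subgroup Γ) :=
    (Q.3 hsup le_sup_right).le (Subgroup.mem_sup_left (Subgroup.mem_zpowers v))
  exact hne (T.disj hv hm hv1).symm

theorem card_pts : Nat.card (Sylow p Γ) = q + 1 := by
  obtain ⟨P⟩ := (inferInstance : Nonempty (Sylow p Γ))
  have h := Subgroup.card_mul_index (Subgroup.normalizer ((P : Subgroup Γ) : Set Γ))
  rw [show (Subgroup.normalizer ((P : Subgroup Γ) : Set Γ)).index = Nat.card (Sylow p Γ) from
    P.card_eq_index_normalizer.symm, T.norm P, T.card, mul_comm] at h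
  exact Nat.eq_of_mul_eq_mul_right (Nat.mul_pos (by have := T.two_lt; omega) (by have := T.one_lt; omega)) h

theorem regular {P Q R : Sylow p Γ} (hQ : Q ≠ P) (hR : R ≠ P) :
    ∃ u ∈ (P : Subgroup Γ), u • Q = R := by
  classical
  haveI := Fintype.ofFinite (Sylow p Γ)
  let f : ↥(P : Subgroup Γ) → {z : Sylow p Γ // z ≠ P} := fun u => ⟨(u : Γ) • Q, fun h => hQ
    (MulAction.injective (u : Γ) (h.trans
      (Sylow.smul_eq_iff_mem_normalizer.2 (Subgroup.le_normalizer u.2)).symm))⟩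
  have hf : Function.Injective f := by
    intro x y h
    have h' : (x : Γ) • Q = (y : Γ) • Q := congrArg Subtype.val h
    exact Subtype.ext (inv_mul_eq_one.1 (T.free hQ (mul_mem (inv_mem x.2) y.2)
      (by rw [mul_smul, ← h', inv_smul_smul])))
  have hc : Nat.card {z : Sylow p Γ // z ≠ P} = Nat.card (P : Subgroup Γ) := by
    rw [T.card_syl P, Nat.card_eq_fintype_card, Fintype.card_subtype_compl,
      Fintype.card_subtype_eq, ← Nat.card_eq_fintype_card, T.card_pts]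
    omega
  obtain ⟨u, hu⟩ := (hf.bijective_of_nat_card_le hc.le).2 ⟨R, hR⟩
  exact ⟨u, u.2, congrArg Subtype.val hu⟩

theorem two_trans {A B C D : Sylow p Γ} (hAB : A ≠ B) (hCD : C ≠ D) :
    ∃ g : Γ, g • A = C ∧ g • B = D := by
  obtain ⟨g, hg⟩ := exists_smul_eq Γ A C
  obtain ⟨u, hu, hu'⟩ := T.regular (P := C) (Q := g • B) (R := D)
    (fun h => hAB (MulAction.injective g (hg.trans h.symm))) hCD.symm
  refine ⟨u * g, ?_, by rw [mul_smul, hu']⟩
  rw [mul_smul, hg, Sylow.smul_eq_iff_mem_normalizer.2 (Subgroup.le_normalizer hu)]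

theorem three {g : Γ} {A B C : Sylow p Γ} (hAB : A ≠ B) (_hBC : B ≠ C) (hAC : A ≠ C)
    (hA : g • A = A) (hB : g • B = B) (hC : g • C = C) : g = 1 := by
  obtain ⟨u, hu, huB⟩ := T.regular hAB.symm hAC.symm
  have hu1 : u ≠ 1 := fun h => _hBC (by rw [← huB, h, one_smul])
  have hw : g * u * g⁻¹ ∈ (A : Subgroup Γ) :=
    (Subgroup.mem_normalizer_iff.1 (Sylow.smul_eq_iff_mem_normalizer.1 hA) u).1 hu
  have h1 : u⁻¹ * (g * u * g⁻¹) = 1 := by
    refine T.free hAB.symm (mul_mem (inv_mem hu) hw) ?_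
    rw [mul_smul, mul_smul, mul_smul, inv_smul_eq_iff.2 hB.symm, huB, hC, ← huB, inv_smul_smul]
  have hg : g ∈ (A : Subgroup Γ) := by
    rw [← T.cent A u hu hu1, mem_cn]
    exact mul_inv_eq_iff_eq_mul.1 (inv_mul_eq_one.1 h1).symm
  exact T.free hAB.symm hg hB

theorem exists_other (A : Sylow p Γ) : ∃ B : Sylow p Γ, B ≠ A := by
  by_contra h
  push Not at h
  have : Nat.card (Sylow p Γ) = 1 :=
    Nat.card_eq_one_iff_unique.2 ⟨⟨fun B C => (h B).trans (h C).symm⟩, ⟨A⟩⟩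
  rw [T.card_pts] at this
  have := T.two_lt
  omega

theorem faithful : FaithfulSMul Γ (Sylow p Γ) := by
  classical
  refine ⟨fun {g g'} h => ?_⟩
  obtain ⟨A⟩ := (inferInstance : Nonempty (Sylow p Γ))
  obtain ⟨B, hB⟩ := T.exists_other A
  obtain ⟨C, hC⟩ : ∃ C : Sylow p Γ, C ∉ ({A, B} : Finset (Sylow p Γ)) := by
    by_contra hc
    push Not at hc
    haveI := Fintype.ofFinite (Sylow p Γ)
    have := (Finset.card_le_card (s := Finset.univ) fun x _ => hc x).trans Finset.card_le_two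
    rw [Finset.card_univ, ← Nat.card_eq_fintype_card, T.card_pts] at this
    have := T.two_lt
    omega
  simp only [Finset.mem_insert, Finset.mem_singleton, not_or] at hC
  have hfix : ∀ x : Sylow p Γ, (g⁻¹ * g') • x = x := fun x => by
    rw [mul_smul, ← h x, inv_smul_smul]
  exact inv_mul_eq_one.1
    (T.three hB.symm (Ne.symm hC.2) (Ne.symm hC.1) (hfix A) (hfix B) (hfix C))

theorem card_two {A B : Sylow p Γ} (hAB : A ≠ B) : Nat.card (Zassenhaus.two Γ A B) = e := by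
  set H := stabilizer Γ A with hH
  have horb : (stabilizer H B).index = q := by
    rw [index_stabilizer]
    have e1 : orbit H B = {z : Sylow p Γ | z ≠ A} := by
      ext z
      constructor
      · rintro ⟨h, rfl⟩ heq
        exact hAB.symm (MulAction.injective (h : Γ) ((show (h : Γ) • B = A from heq).trans h.2.symm))
      · intro hz
        obtain ⟨u, hu, huB⟩ := T.regular hAB.symm hz
        exact ⟨⟨u, mem_stabilizer_iff.2
          (Sylow.smul_eq_iff_mem_normalizer.2 (Subgroup.le_normalizer hu))⟩, huB⟩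
    rw [e1, show {z : Sylow p Γ | z ≠ A} = ({A} : Set (Sylow p Γ))ᶜ from rfl, Set.ncard_compl,
      Set.ncard_singleton, T.card_pts]
    omega
  have h := Subgroup.card_mul_index (stabilizer H B)
  rw [horb, hH] at h
  have hN : Nat.card (stabilizer Γ A) = q * e := by rw [Sylow.stabilizer_eq_normalizer]; exact T.norm A
  rw [hN, mul_comm] at h
  have h2 := Nat.eq_of_mul_eq_mul_left (by have := T.two_lt; omega) h
  rw [← h2]
  refine Nat.card_congr ⟨fun g => ⟨⟨g.1, g.2.1⟩, g.2.2⟩, fun g => ⟨g.1.1, g.1.2, g.2⟩,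
    fun g => rfl, fun g => rfl⟩

theorem zassenhaus
    (hnr : ∀ N : Subgroup Γ, N.Normal → Nat.card N = q + 1 →
      (∀ x ∈ N, ∀ y ∈ N, x ≠ 1 → y ≠ 1 → ∃ g : Γ, g * x * g⁻¹ = y) → False) :
    Cfsg.IsZassenhausGroup Γ (Sylow p Γ) := by
  classical
  refine ⟨T.faithful, MulAction.is_two_pretransitive_iff.2 fun h h' => T.two_trans h h',
    fun g A B C hAB hBC hAC => T.three hAB hBC hAC, ?_, fun N hN htr => ?_⟩
  · obtain ⟨A⟩ := (inferInstance : Nonempty (Sylow p Γ))
    obtain ⟨B, hB⟩ := T.exists_other A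
    have hlt : 1 < Nat.card (Zassenhaus.two Γ A B) := by rw [T.card_two hB.symm]; exact T.one_lt
    haveI := Finite.one_lt_card_iff_nontrivial.1 hlt
    obtain ⟨⟨g, hg⟩, hg1⟩ := exists_ne (1 : Zassenhaus.two Γ A B)
    exact ⟨g, fun h => hg1 (Subtype.ext h), A, B, hB.symm, hg.1, hg.2⟩
  · by_contra hall
    push Not at hall
    obtain ⟨A⟩ := (inferInstance : Nonempty (Sylow p Γ))
    haveI := htr
    have hcard : Nat.card N = q + 1 := by
      rw [← T.card_pts]
      refine Nat.card_eq_of_bijective (fun n : N => n • A) ⟨fun n n' h => ?_, surjective_smul N A⟩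
      have : n⁻¹ * n' ∈ stabilizer N A := by
        rw [mem_stabilizer_iff, mul_smul]
        rw [show n' • A = n • A from h.symm, inv_smul_smul]
      rw [hall A, Subgroup.mem_bot] at this
      exact inv_mul_eq_one.1 this
    refine hnr N hN hcard fun x hx y hy hx1 hy1 => ?_
    let f : ↥(A : Subgroup Γ) → {z : N // z ≠ 1} := fun u =>
      ⟨⟨(u : Γ) * x * (u : Γ)⁻¹, hN.conj_mem x hx u⟩, fun h =>
        hx1 (conj_eq_one_iff.1 (congrArg Subtype.val h))⟩
    have hf : Function.Injective f := by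
      intro u u' h
      have h' : (u : Γ) * x * (u : Γ)⁻¹ = (u' : Γ) * x * (u' : Γ)⁻¹ :=
        congrArg (fun z : {z : N // z ≠ 1} => ((z : N) : Γ)) h
      by_contra hne
      have hv : ((u : Γ)⁻¹ * u') ∈ (A : Subgroup Γ) := mul_mem (inv_mem u.2) u'.2
      have hv1 : (u : Γ)⁻¹ * u' ≠ 1 := fun h1 => hne (Subtype.ext (inv_mul_eq_one.1 h1))
      have hxA : x ∈ Cn ((u : Γ)⁻¹ * u') := by
        rw [mem_cn]
        calc x * ((u : Γ)⁻¹ * u') = (u : Γ)⁻¹ * ((u : Γ) * x * (u : Γ)⁻¹) * u' := by group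
          _ = (u : Γ)⁻¹ * ((u' : Γ) * x * (u' : Γ)⁻¹) * u' := by rw [h']
          _ = (u : Γ)⁻¹ * u' * x := by group
      rw [T.cent A _ hv hv1] at hxA
      have : (⟨x, hx⟩ : N) ∈ stabilizer N A :=
        mem_stabilizer_iff.2 (Sylow.smul_eq_iff_mem_normalizer.2 (Subgroup.le_normalizer hxA))
      rw [hall A, Subgroup.mem_bot] at this
      exact hx1 (congrArg Subtype.val this)
    haveI := Fintype.ofFinite N
    have hc : Nat.card {z : N // z ≠ 1} = Nat.card (A : Subgroup Γ) := by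
      rw [T.card_syl A, Nat.card_eq_fintype_card, Fintype.card_subtype_compl,
        Fintype.card_subtype_eq, ← Nat.card_eq_fintype_card, hcard]
      omega
    obtain ⟨u, hu⟩ := (hf.bijective_of_nat_card_le hc.le).2 ⟨⟨y, hy⟩, fun h => hy1 (congrArg Subtype.val h)⟩
    exact ⟨u, congrArg (fun z : {z : N // z ≠ 1} => ((z : N) : Γ)) hu⟩

section Odd

variable (hodd : Odd e) (hlarge : q ≤ 2 * e + 1)
  (hcn : ∀ A B : Sylow p Γ, A ≠ B → ∀ h ∈ Zassenhaus.two Γ A B, h ≠ 1 →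
    ∀ s : ℕ, s.Prime → IsPE s h → Nat.card (Cn h) = e)
include hodd hcn

theorem cn_eq_two {A B : Sylow p Γ} (hAB : A ≠ B) {h : Γ} (hh : h ∈ Zassenhaus.two Γ A B)
    (h1 : h ≠ 1) {s : ℕ} (hs : s.Prime) (hpe : IsPE s h) : Cn h = Zassenhaus.two Γ A B := by
  refine Subgroup.eq_of_le_of_card_ge (fun g hg => ?_)
    (by rw [T.card_two hAB, hcn A B hAB h hh h1 s hs hpe])
  have hfix : ∀ z : Sylow p Γ, h • z = z → z = A ∨ z = B := fun z hz => by
    by_contra hz'
    push Not at hz'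
    exact h1 (T.three hAB hz'.2.symm hz'.1.symm hh.1 hh.2 hz)
  have hperm : ∀ z : Sylow p Γ, h • z = z → h • (g • z) = g • z := fun z hz => by
    rw [← mul_smul, ← mem_cn.1 hg, mul_smul, hz]
  have ho : (2 : ℕ).Coprime (orderOf g) := by
    refine Nat.Coprime.coprime_dvd_right (Subgroup.orderOf_dvd_natCard _ hg) ?_
    rw [hcn A B hAB h hh h1 s hs hpe]
    exact Nat.coprime_two_left.2 hodd
  obtain ⟨t, ht⟩ := exists_pow_eq_self_of_coprime ho
  have key : ∀ z w : Sylow p Γ, z ≠ w → h • z = z → h • w = w →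
      (∀ y, h • y = y → y = z ∨ y = w) → (g ^ 2) ^ t • z = z := by
    intro z w hzw hz hw hall
    have h2 : g ^ 2 • z = z := by
      rcases hall _ (hperm z hz) with e1 | e1
      · rw [pow_two, mul_smul, e1, e1]
      · rcases hall _ (hperm w hw) with e2 | e2
        · rw [pow_two, mul_smul, e1, e2]
        · exact absurd (MulAction.injective g (e1.trans e2.symm)) hzw
    exact mem_stabilizer_iff.1 (pow_mem (mem_stabilizer_iff.2 h2) t)
  constructor
  · show g • A = A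
    rw [← ht]
    exact key A B hAB hh.1 hh.2 hfix
  · show g • B = B
    rw [← ht]
    exact key B A hAB.symm hh.2 hh.1 fun y hy => (hfix y hy).symm

theorem two_comm {A B : Sylow p Γ} (hAB : A ≠ B) {g k : Γ} (hg : g ∈ Zassenhaus.two Γ A B)
    (hk : k ∈ Zassenhaus.two Γ A B) : g * k = k * g := by
  refine mem_cn.1 (CaminaSizes63.mem_of_parts fun s i hs hpe => ?_ : g ∈ Cn k)
  by_cases h1 : g ^ i = 1
  · rw [h1]; exact one_mem _
  · refine CaminaSizes63.mem_cn_symm ?_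
    rw [T.cn_eq_two hodd hcn hAB (pow_mem hg i) h1 hs hpe]
    exact hk

theorem swap_sq {A B : Sylow p Γ} (hAB : A ≠ B) {g : Γ} (h1 : g • A = B) (h2 : g • B = A) :
    g * g = 1 := by
  by_contra hne
  have hm : g * g ∈ Zassenhaus.two Γ A B :=
    ⟨(by rw [mul_smul, h1, h2] : (g * g) • A = A), (by rw [mul_smul, h2, h1] : (g * g) • B = B)⟩
  obtain ⟨s, i, hs, -, hi, hpe⟩ :=
    TwoRegSizes38.exists_primePow_not_mem (K := (⊥ : Subgroup Γ)) (x := g * g)
      (fun h => hne (Subgroup.mem_bot.1 h))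
  have hg : g ∈ Cn ((g * g) ^ i) :=
    mem_cn.2 (((Commute.refl g).mul_right (Commute.refl g)).pow_right i)
  rw [T.cn_eq_two hodd hcn hAB (pow_mem hm i) (fun h => hi (h ▸ one_mem _)) hs hpe] at hg
  exact hAB ((mem_stabilizer_iff.1 hg.1).symm.trans h1)

include hlarge in
theorem simple (hnr : ∀ N : Subgroup Γ, N.Normal → Nat.card N = q + 1 →
      (∀ x ∈ N, ∀ y ∈ N, x ≠ 1 → y ≠ 1 → ∃ g : Γ, g * x * g⁻¹ = y) → False) :
    IsSimpleGroup Γ := by
  classical
  have hZ := T.zassenhaus hnr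
  haveI hF := T.faithful
  obtain ⟨A₀⟩ := (inferInstance : Nonempty (Sylow p Γ))
  have hnt : Nontrivial Γ := by
    refine Finite.one_lt_card_iff_nontrivial.1 ?_
    rw [T.card]
    have := T.two_lt
    have := T.one_lt
    have : 0 < q * e := Nat.mul_pos (by omega) (by omega)
    nlinarith
  refine { exists_pair_ne := hnt.exists_pair_ne, eq_bot_or_eq_top_of_normal := fun K hK => ?_ }
  rcases eq_or_ne K ⊥ with hb | hb
  · exact Or.inl hb
  right
  obtain ⟨k₀, hk₀, hk₁⟩ := (Subgroup.bot_or_exists_ne_one K).resolve_left hb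
  obtain ⟨A₁, hA₁⟩ : ∃ A : Sylow p Γ, k₀ • A ≠ A := by
    by_contra h
    push Not at h
    exact hk₁ (hF.eq_of_smul_eq_smul fun z : Sylow p Γ => by rw [h z, one_smul])
  have htr : ∀ P Q : Sylow p Γ, ∃ k ∈ K, k • P = Q := by
    intro P Q
    by_cases hPQ : P = Q
    · exact ⟨1, one_mem _, by rw [one_smul, hPQ]⟩
    obtain ⟨g, hg1, hg2⟩ := T.two_trans (Ne.symm hA₁) hPQ
    exact ⟨g * k₀ * g⁻¹, hK.conj_mem _ hk₀ g, by
      rw [mul_smul, mul_smul, inv_smul_eq_iff.2 hg1.symm, hg2]⟩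
  have hpre : MulAction.IsPretransitive K (Sylow p Γ) := ⟨fun P Q => by
    obtain ⟨k, hk, e1⟩ := htr P Q
    exact ⟨⟨k, hk⟩, e1⟩⟩
  obtain ⟨A, hA⟩ := hZ.2.2.2.2 K hK hpre
  obtain ⟨⟨k, hkK⟩, hkA, hk1⟩ := (Subgroup.bot_or_exists_ne_one _).resolve_left hA
  have hkA' : k • A = A := hkA
  have hkn := Sylow.smul_eq_iff_mem_normalizer.1 hkA'
  obtain ⟨w, hwA, hwK, hw1⟩ : ∃ w ∈ (A : Subgroup Γ), w ∈ K ∧ w ≠ 1 := by
    haveI : Nontrivial (A : Subgroup Γ) :=
      Finite.one_lt_card_iff_nontrivial.1 (by rw [T.card_syl]; have := T.two_lt; omega)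
    obtain ⟨⟨u, hu⟩, hu1⟩ := exists_ne (1 : (A : Subgroup Γ))
    by_cases hw : k * u * k⁻¹ * u⁻¹ = 1
    · refine ⟨k, ?_, hkK, fun h => hk1 (Subtype.ext h)⟩
      rw [← T.cent A u hu (fun h => hu1 (Subtype.ext h)), mem_cn]
      exact mul_inv_eq_iff_eq_mul.1 (mul_inv_eq_one.1 hw)
    · refine ⟨_, mul_mem ((Subgroup.mem_normalizer_iff.1 hkn u).1 hu) (inv_mem hu), ?_, hw⟩
      rw [show k * u * k⁻¹ * u⁻¹ = k * (u * k⁻¹ * u⁻¹) by group]
      exact mul_mem hkK (hK.conj_mem _ (inv_mem hkK) u)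
  -- the Sylow subgroup lies in `K`
  have hAK : (A : Subgroup Γ) ≤ K := by
    set J := K ⊓ (A : Subgroup Γ)
    set N := Subgroup.normalizer ((A : Subgroup Γ) : Set Γ)
    let f : Option (N ⧸ (A : Subgroup Γ).subgroupOf N) → J := fun o => o.elim 1 fun c =>
      ⟨(c.out : Γ) * w * (c.out : Γ)⁻¹, hK.conj_mem w hwK _,
        (Subgroup.mem_normalizer_iff.1 c.out.2 w).1 hwA⟩
    have hf : Function.Injective f := by
      intro o o' he
      have e' := congrArg Subtype.val he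
      rcases o with _ | c <;> rcases o' with _ | c' <;> simp only [f, Option.elim] at e'
      · rfl
      · exact absurd (conj_eq_one_iff.1 e'.symm) hw1
      · exact absurd (conj_eq_one_iff.1 e') hw1
      · congr 1
        rw [← QuotientGroup.out_eq' c, ← QuotientGroup.out_eq' c', QuotientGroup.eq,
          Subgroup.mem_subgroupOf]
        refine (SetLike.ext_iff.1 (T.cent A w hwA hw1) _).1 ?_
        rw [mem_cn]
        push_cast
        calc (c.out : Γ)⁻¹ * (c'.out : Γ) * w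
            = (c.out : Γ)⁻¹ * ((c'.out : Γ) * w * (c'.out : Γ)⁻¹) * (c'.out : Γ) := by group
          _ = (c.out : Γ)⁻¹ * ((c.out : Γ) * w * (c.out : Γ)⁻¹) * (c'.out : Γ) := by rw [e']
          _ = w * ((c.out : Γ)⁻¹ * (c'.out : Γ)) := by group
    have h1 := Nat.card_le_card_of_injective f hf
    have h2 : Nat.card (N ⧸ (A : Subgroup Γ).subgroupOf N) = e := by
      have h := Subgroup.card_eq_card_quotient_mul_card_subgroup ((A : Subgroup Γ).subgroupOf N)
      rw [Nat.card_congr (Subgroup.subgroupOfEquivOfLe Subgroup.le_normalizer).toEquiv,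
        T.card_syl, T.norm, mul_comm q] at h
      exact (Nat.eq_of_mul_eq_mul_right (by have := T.two_lt; omega) h).symm
    rw [Finite.card_option, h2] at h1
    refine (inf_eq_right.1 (Subgroup.eq_of_le_of_card_ge inf_le_right ?_))
    show Nat.card (A : Subgroup Γ) ≤ Nat.card J
    obtain ⟨m, hm⟩ := A.2.exists_card_eq
    obtain ⟨i, him, hi⟩ := (Nat.dvd_prime_pow hp.out).1
      (hm ▸ Subgroup.card_dvd_of_le (inf_le_right : J ≤ (A : Subgroup Γ)))
    rcases eq_or_lt_of_le him with h | h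
    · rw [hi, hm, h]
    · exfalso
      have hpp : p ^ i * p ≤ p ^ m := by
        rw [← pow_succ]
        exact Nat.pow_le_pow_right hp.out.pos h
      rw [← hi, ← hm, T.card_syl] at hpp
      have := hp.out.two_le
      nlinarith
  have hall : ∀ P : Sylow p Γ, (P : Subgroup Γ) ≤ K := by
    intro P u hu
    obtain ⟨g, rfl⟩ := exists_smul_eq Γ A P
    obtain ⟨v, hv, rfl⟩ := hu
    exact hK.conj_mem v (hAK hv) g
  have htwo : ∀ {P Q : Sylow p Γ}, P ≠ Q → Zassenhaus.two Γ P Q ≤ K := by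
    intro P Q hPQ h hh
    obtain ⟨k, hk, hkP⟩ := htr P Q
    obtain ⟨u, hu, huR⟩ := T.regular (P := Q) (Q := k • Q) (R := P)
      (fun e1 => hPQ (MulAction.injective k (hkP.trans e1.symm))) hPQ
    set t := u * k
    have ht1 : t • P = Q := by
      rw [mul_smul, hkP, Sylow.smul_eq_iff_mem_normalizer.2 (Subgroup.le_normalizer hu)]
    have ht2 : t • Q = P := by rw [mul_smul, huR]
    have htt := T.swap_sq hodd hcn hPQ ht1 ht2
    have hth := T.swap_sq hodd hcn hPQ (g := t * h)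
      (by rw [mul_smul, mem_stabilizer_iff.1 hh.1, ht1])
      (by rw [mul_smul, mem_stabilizer_iff.1 hh.2, ht2])
    have ht' : t⁻¹ = t := inv_eq_of_mul_eq_one_right htt
    have e1 : h * t * h⁻¹ * t⁻¹ = h ^ 2 := by
      have e2 : t * h * t = h⁻¹ := eq_inv_of_mul_eq_one_left (by rw [← hth]; group)
      have e3 : t * h⁻¹ * t⁻¹ = h := by
        rw [← e2, ht']
        calc t * (t * h * t) * t = t * t * h * (t * t) := by group
          _ = h := by rw [htt]; group
      calc h * t * h⁻¹ * t⁻¹ = h * (t * h⁻¹ * t⁻¹) := by group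
        _ = h ^ 2 := by rw [e3, pow_two]
    have h2 : h ^ 2 ∈ K := e1 ▸ mul_mem (hK.conj_mem t (mul_mem (hall Q hu) hk) h)
      (inv_mem (mul_mem (hall Q hu) hk))
    have ho : (2 : ℕ).Coprime (orderOf h) := by
      refine Nat.Coprime.coprime_dvd_right (Subgroup.orderOf_dvd_natCard _ hh) ?_
      rw [T.card_two hPQ]
      exact Nat.coprime_two_left.2 hodd
    obtain ⟨i, hi⟩ := exists_pow_eq_self_of_coprime ho
    exact hi ▸ pow_mem h2 i
  refine eq_top_iff.2 fun g _ => ?_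
  obtain ⟨k, hk, hk'⟩ := htr A₀ (g • A₀)
  obtain ⟨B, hB⟩ := T.exists_other A₀
  have hg' : (k⁻¹ * g) • A₀ = A₀ := by rw [mul_smul, ← hk', inv_smul_smul]
  obtain ⟨u, hu, huB⟩ := T.regular hB (R := (k⁻¹ * g) • B)
    (fun e1 => hB (MulAction.injective (k⁻¹ * g) (e1.trans hg'.symm)))
  have hm : u⁻¹ * (k⁻¹ * g) ∈ Zassenhaus.two Γ A₀ B := by
    refine ⟨?_, ?_⟩
    · show (u⁻¹ * (k⁻¹ * g)) • A₀ = A₀
      rw [mul_smul, hg', inv_smul_eq_iff,
        Sylow.smul_eq_iff_mem_normalizer.2 (Subgroup.le_normalizer hu)]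
    · show (u⁻¹ * (k⁻¹ * g)) • B = B
      rw [mul_smul, ← huB, inv_smul_smul]
  have h3 : k * (u * (u⁻¹ * (k⁻¹ * g))) ∈ K :=
    mul_mem hk (mul_mem (hall A₀ hu) (htwo hB.symm hm))
  rwa [show k * (u * (u⁻¹ * (k⁻¹ * g))) = g by group] at h3

include hlarge in
theorem psl_of_odd (hnr : ∀ N : Subgroup Γ, N.Normal → Nat.card N = q + 1 →
      (∀ x ∈ N, ∀ y ∈ N, x ≠ 1 → y ≠ 1 → ∃ g : Γ, g * x * g⁻¹ = y) → False) :
    ∃ (F : Type) (_ : Field F) (_ : Fintype F),
      Nonempty (Γ ≃* Matrix.ProjectiveSpecialLinearGroup (Fin 2) F) := by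
  haveI := T.simple hodd hlarge hcn hnr
  obtain ⟨A⟩ := (inferInstance : Nonempty (Sylow p Γ))
  obtain ⟨B, hB⟩ := T.exists_other A
  refine ZassenhausClassify27.psl2_of_large (T.zassenhaus hnr) hB.symm
    (by rw [T.card_two hB.symm]; exact hodd) (K := (A : Subgroup Γ))
    (fun u hu => mem_stabilizer_iff.2
      (Sylow.smul_eq_iff_mem_normalizer.2 (Subgroup.le_normalizer hu)))
    (by rw [T.card_syl, T.card_pts]) (fun u hu hu1 c hc => ?_)
    (by rw [T.card_syl, T.card_two hB.symm]; omega)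
  by_contra hne
  exact hu1 (T.free hne hu hc)

end Odd

theorem psl_of_even (he : Even e) (hq : q = 2 * e + 1)
    (hnr : ∀ N : Subgroup Γ, N.Normal → Nat.card N = q + 1 →
      (∀ x ∈ N, ∀ y ∈ N, x ≠ 1 → y ≠ 1 → ∃ g : Γ, g * x * g⁻¹ = y) → False) :
    ∃ (F : Type) (_ : Field F) (_ : Fintype F), Fintype.card F = q ∧
      Nonempty (Γ ≃* Matrix.ProjectiveSpecialLinearGroup (Fin 2) F) := by
  haveI := Fintype.ofFinite (Sylow p Γ)
  obtain ⟨A⟩ := (inferInstance : Nonempty (Sylow p Γ))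
  obtain ⟨B, hB⟩ := T.exists_other A
  have hc : Fintype.card (Sylow p Γ) = q + 1 := by rw [← Nat.card_eq_fintype_card, T.card_pts]
  have h2 : Nat.card (Zassenhaus.two Γ A B) = e := T.card_two hB.symm
  obtain ⟨p', f, K, hK, hKf, -, -, hKc, hΩ, hiso⟩ := Cfsg.Agent.S0742.result (T.zassenhaus hnr)
    hB.symm (h2.symm ▸ he) (by rw [hc]; have e2 := h2; unfold Zassenhaus.two at e2; omega)
  exact ⟨K, hK, hKf, by omega, hiso⟩

end TISylow

end Cfsg.Agent.ClassSizePSL72
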