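import Cfsg.Agent.Lib.ClassSizePSLBasic72
import Cfsg.Agent.Lib.ClassSizePSLCount72
import Cfsg.Agent.Lib.ClassSizePSLZass72
import Cfsg.Agent.Lib.PSL2Small

/-!
# The central quotient of a group with the class sizes of `PSL₂(q)`, `q` even
-/

set_option autoImplicit false

namespace Cfsg.Agent.ClassSizePSL72

open Cfsg.Agent.ClassSizeGraph76 (cs cls)
open Cfsg.Agent.TwoRegSizes38 (Cn IsPE mem_cn self_mem_cn bar)
open Cfsg.Agent.CaminaSizes63 (cs_eq_one_iff)

/-- The class sizes of `PSL₂(q)`, `q` a power of two, with `c = q - 1`. -/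
structure SizesEven (G : Type*) [Group G] (k q c : ℕ) : Prop where
  hq : q = 2 ^ k
  hc : q = c + 1
  four : 4 ≤ q
  vals : ∀ x : G, cs x = 1 ∨ cs x = c * (q + 1) ∨ cs x = q * (q + 1) ∨ cs x = q * c
  exU : ∃ x : G, cs x = c * (q + 1)
  exA : ∃ x : G, cs x = q * (q + 1)
  exB : ∃ x : G, cs x = q * c

namespace SizesEven

variable {G : Type*} [Group G] {k q c : ℕ} (H : SizesEven G k q c)
include H

theorem two_dvd : 2 ∣ q := by
  rw [H.hq]
  refine dvd_pow_self 2 fun h => ?_
  have := H.hq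
  rw [h, pow_zero] at this
  have := H.four
  omega

theorem odd_c : Odd c := by
  obtain ⟨i, hi⟩ := H.two_dvd
  have := H.hc; have := H.four
  exact ⟨i - 1, by omega⟩

theorem odd_q1 : Odd (q + 1) := by
  obtain ⟨i, hi⟩ := H.two_dvd
  exact ⟨i, by omega⟩

theorem co_qc : q.Coprime c := by
  rw [H.hc]; simp

theorem co_q1 : q.Coprime (q + 1) := by simp

theorem co_c1 : c.Coprime (q + 1) :=
  Nat.coprime_of_dvd' fun d _ h1 h2 => by
    have h3 : d ∣ 2 := by
      rw [H.hc, show c + 1 + 1 = c + 2 by omega] at h2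
      exact (Nat.dvd_add_right h1).1 h2
    exact Nat.dvd_one.2 (Nat.eq_one_of_dvd_coprimes
      (Nat.coprime_two_left.2 H.odd_c) h3 h1)

theorem iso {x : G} [Finite G] (hx : cs x ≠ 1) : Iso x := by
  have hc := H.hc; have h4 := H.four
  refine ⟨fun h => hx (cs_eq_one_iff.2 h), fun g hg => ?_⟩
  have nU : ∀ {n : ℕ}, q ∣ n → n ∣ c * (q + 1) → False := fun h1 h2 => by
    have := Nat.eq_one_of_dvd_coprimes (H.co_qc.mul_right H.co_q1) dvd_rfl (h1.trans h2)
    omega
  have nA : ∀ {n : ℕ}, c ∣ n → n ∣ q * (q + 1) → False := fun h1 h2 => by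
    have := Nat.eq_one_of_dvd_coprimes (H.co_qc.symm.mul_right H.co_c1) dvd_rfl (h1.trans h2)
    omega
  have nB : ∀ {n : ℕ}, q + 1 ∣ n → n ∣ q * c → False := fun h1 h2 => by
    have := Nat.eq_one_of_dvd_coprimes (H.co_q1.symm.mul_right H.co_c1.symm) dvd_rfl (h1.trans h2)
    omega
  rcases H.vals g with e | e | e | e <;> rcases H.vals x with e' | e' | e' | e'
  all_goals first
    | exact Or.inl e
    | exact absurd e' hx
    | exact Or.inr (e.trans e'.symm)
    | (exfalso
       rw [e, e'] at hg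
       rcases hg with h | h <;> first
         | exact nU (dvd_mul_right q _) h
         | exact nA (dvd_mul_right c _) h
         | exact nA (dvd_mul_left c _) h
         | exact nB (dvd_mul_left (q + 1) _) h)

variable [Finite G]

/-- The order modulo the centre. -/
theorem index_eq : (Subgroup.center G).index = q * (c * (q + 1)) := by
  have hc := H.hc; have h4 := H.four
  obtain ⟨x, hx⟩ := H.exU
  obtain ⟨z, hz⟩ := H.exA
  obtain ⟨y, hy⟩ := H.exB
  have hU0 : 0 < c * (q + 1) := Nat.mul_pos (by omega) (by omega)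
  have hB0 : 0 < q * c := Nat.mul_pos (by omega) (by omega)
  have hxM := hx ▸ cs_dvd_index x
  have hqM : q ∣ (Subgroup.center G).index :=
    (dvd_mul_right q c).trans (hy ▸ cs_dvd_index y)
  obtain ⟨m, hm⟩ := Nat.Coprime.mul_dvd_of_dvd_of_dvd (H.co_qc.mul_right H.co_q1) hqM hxM
  suffices m = 1 by rw [hm, this, mul_one]
  have hU : rho x = m * q := by
    have h := rho_mul_cs x
    rw [hx, hm, show q * (c * (q + 1)) * m = m * q * (c * (q + 1)) by ring] at h
    exact Nat.eq_of_mul_eq_mul_right hU0 h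
  have hB : rho y = m * (q + 1) := by
    have h := rho_mul_cs y
    rw [hy, hm, show q * (c * (q + 1)) * m = m * (q + 1) * (q * c) by ring] at h
    exact Nat.eq_of_mul_eq_mul_right hB0 h
  have hx1 : cs x ≠ 1 := fun e => by
    rw [hx] at e
    have := Nat.le_of_dvd one_pos (e ▸ dvd_mul_left (q + 1) c)
    omega
  have hy1 : cs y ≠ 1 := fun e => by
    rw [hy] at e
    have := Nat.le_of_dvd one_pos (e ▸ dvd_mul_right q c)
    omega
  have hz1 : cs z ≠ 1 := fun e => by
    rw [hz] at e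
    have := Nat.le_of_dvd one_pos (e ▸ dvd_mul_right q (q + 1))
    omega
  by_contra hm1
  obtain ⟨r, hr, hrm⟩ := Nat.exists_prime_and_dvd hm1
  have pureU : (∀ s : ℕ, s.Prime → s ∣ rho x → s = r) → r = 2 := fun h =>
    (h 2 Nat.prime_two (hU ▸ H.two_dvd.mul_left m)).symm
  have pureB : (∀ s : ℕ, s.Prime → s ∣ rho y → s = r) → r ∣ q + 1 := fun h => by
    obtain ⟨s, hs, hsb⟩ := Nat.exists_prime_and_dvd (n := q + 1) (by omega)
    exact (h s hs (hB ▸ hsb.mul_left m)) ▸ hsb
  refine (H.iso hx1).no_common (H.iso hy1) (fun e => ?_) hr (hU ▸ hrm.mul_right q)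
    (hB ▸ hrm.mul_right (q + 1)) (fun h hd => ?_) (fun h hd => ?_) (fun ⟨h1, h2⟩ => ?_) ?_
  · rw [hx, hy, mul_comm q c] at e
    have := Nat.eq_of_mul_eq_mul_left (show 0 < c by omega) e
    omega
  · rw [hx, pureU h] at hd
    exact (Nat.not_even_iff_odd.2 (H.odd_c.mul H.odd_q1)) (even_iff_two_dvd.2 hd)
  · exact hr.ne_one (Nat.eq_one_of_dvd_coprimes (H.co_q1.symm.mul_right H.co_c1.symm) (pureB h)
      (hy ▸ hd))
  · have := pureB h2
    rw [pureU h1] at this
    exact (Nat.not_even_iff_odd.2 H.odd_q1) (even_iff_two_dvd.2 this)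
  · by_cases h2 : r = 2
    · refine ⟨x, (H.iso hx1).1, fun hd => ?_⟩
      rw [hx, h2] at hd
      exact (Nat.not_even_iff_odd.2 (H.odd_c.mul H.odd_q1)) (even_iff_two_dvd.2 hd)
    have hrq : ¬ r ∣ q := fun h => h2 ((Nat.prime_dvd_prime_iff_eq hr Nat.prime_two).1
      (hr.dvd_of_dvd_pow (H.hq ▸ h)))
    by_cases hrc : r ∣ c
    · exact ⟨z, (H.iso hz1).1, fun hd => hr.ne_one
        (Nat.eq_one_of_dvd_coprimes (H.co_qc.symm.mul_right H.co_c1) hrc (hz ▸ hd))⟩
    · refine ⟨y, (H.iso hy1).1, fun hd => ?_⟩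
      rw [hy] at hd
      rcases hr.dvd_mul.1 hd with h | h
      · exact hrq h
      · exact hrc h

theorem rho_vals {x : G} (hx : x ∉ Subgroup.center G) :
    (rho x = q ∧ cs x = c * (q + 1)) ∨ (rho x = c ∧ cs x = q * (q + 1)) ∨
      (rho x = q + 1 ∧ cs x = q * c) := by
  have hc := H.hc; have h4 := H.four
  have h := rho_mul_cs x
  rw [H.index_eq] at h
  rcases H.vals x with e | e | e | e
  · exact absurd (cs_eq_one_iff.1 e) hx
  all_goals rw [e] at h
  · exact Or.inl ⟨Nat.eq_of_mul_eq_mul_right (Nat.mul_pos (by omega) (by omega)) h, e⟩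
  · exact Or.inr (Or.inl ⟨Nat.eq_of_mul_eq_mul_right (show 0 < q * (q + 1) from
      Nat.mul_pos (by omega) (by omega)) (h.trans (by ring)), e⟩)
  · exact Or.inr (Or.inr ⟨Nat.eq_of_mul_eq_mul_right (show 0 < q * c from
      Nat.mul_pos (by omega) (by omega)) (h.trans (by ring)), e⟩)

local notation "Q" => G ⧸ Subgroup.center G

theorem card_bar : Nat.card Q = q * (c * (q + 1)) := by
  rw [← H.index_eq]; rfl

/-- The centralizer orders of primary elements in the quotient. -/
theorem cent {r : ℕ} (hr : r.Prime) {v : Q} (hv : v ≠ 1) (hpe : IsPE r v) :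
    (r = 2 ∧ Nat.card (Cn v) = q) ∨ (r ∣ c ∧ Nat.card (Cn v) = c) ∨
      (r ∣ q + 1 ∧ Nat.card (Cn v) = q + 1) := by
  obtain ⟨g, rfl⟩ := QuotientGroup.mk'_surjective _ v
  obtain ⟨x, hx, hxe, -⟩ := exists_lift hr hpe
  have hxc : x ∉ Subgroup.center G := fun h => hv (hxe ▸ TwoRegSizes38.bar_eq_one.2 h)
  have hd : r ∣ rho x := by
    obtain ⟨j, hj⟩ := hxe ▸ hpe
    refine dvd_trans ?_ (orderOf_bar_dvd_rho x)
    rw [hj]
    refine dvd_pow_self r fun h0 => hv ?_
    rw [← hxe]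
    exact orderOf_eq_one_iff.1 (by rw [hj, h0, pow_zero])
  rw [← hxe]
  rcases H.rho_vals hxc with ⟨h1, h2⟩ | ⟨h1, h2⟩ | ⟨h1, h2⟩ <;> rw [h1] at hd
  · refine Or.inl ⟨(Nat.prime_dvd_prime_iff_eq hr Nat.prime_two).1 (hr.dvd_of_dvd_pow (H.hq ▸ hd)),
      (card_centralizer_bar hr hx fun h => hr.ne_one ?_).trans h1⟩
    exact Nat.eq_one_of_dvd_coprimes (H.co_qc.mul_right H.co_q1) hd (h2 ▸ h)
  · refine Or.inr (Or.inl ⟨hd, (card_centralizer_bar hr hx fun h => hr.ne_one ?_).trans h1⟩)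
    exact Nat.eq_one_of_dvd_coprimes (H.co_qc.symm.mul_right H.co_c1) hd (h2 ▸ h)
  · refine Or.inr (Or.inr ⟨hd, (card_centralizer_bar hr hx fun h => hr.ne_one ?_).trans h1⟩)
    exact Nat.eq_one_of_dvd_coprimes (H.co_q1.symm.mul_right H.co_c1.symm) hd (h2 ▸ h)

theorem cent_two {v : Q} (hv : v ≠ 1) (hpe : IsPE 2 v) : Nat.card (Cn v) = q := by
  rcases H.cent Nat.prime_two hv hpe with ⟨-, h⟩ | ⟨h, -⟩ | ⟨h, -⟩
  · exact h
  · exact absurd (even_iff_two_dvd.2 h) (Nat.not_even_iff_odd.2 H.odd_c)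
  · exact absurd (even_iff_two_dvd.2 h) (Nat.not_even_iff_odd.2 H.odd_q1)

theorem card_sylow [Fact (Nat.Prime 2)] (P : Sylow 2 Q) : Nat.card (P : Subgroup Q) = q := by
  rw [Sylow.card_eq_multiplicity, H.card_bar, H.hq]
  congr 1
  have h2 : ¬ 2 ∣ c * (2 ^ k + 1) := fun h =>
    (Nat.not_even_iff_odd.2 (H.odd_c.mul (H.hq ▸ H.odd_q1))) (even_iff_two_dvd.2 h)
  have hpos : c * (2 ^ k + 1) ≠ 0 :=
    Nat.mul_ne_zero (by have := H.hc; have := H.four; omega) (Nat.succ_ne_zero _)
  rw [Nat.factorization_mul (pow_ne_zero _ two_ne_zero) hpos, Finsupp.add_apply,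
    Nat.factorization_eq_zero_of_not_dvd h2, add_zero, Nat.factorization_pow, Finsupp.smul_apply,
    Nat.prime_two.factorization_self, smul_eq_mul, mul_one]

theorem cn_sylow [Fact (Nat.Prime 2)] {v : Q} (hv : v ≠ 1) (hpe : IsPE 2 v) :
    ∃ P : Sylow 2 Q, (P : Subgroup Q) = Cn v := by
  have hp : IsPGroup 2 (Cn v) :=
    IsPGroup.of_card (n := k) ((H.cent_two hv hpe).trans H.hq)
  obtain ⟨P, hP⟩ := hp.exists_le_sylow
  exact ⟨P, (Subgroup.eq_of_le_of_card_ge hP (by rw [H.card_sylow P, H.cent_two hv hpe])).symm⟩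

theorem uniqueSyl [Fact (Nat.Prime 2)] : UniqueSyl Q 2 := fun _ hv hpe => by
  obtain ⟨P, hP⟩ := H.cn_sylow hv hpe
  exact ⟨P, hP.le, fun P' hP' => Sylow.ext (P'.3 P.2 (hP'.trans hP.ge)).symm⟩

/-- All central elements of a Sylow subgroup are conjugate in its normalizer. -/
theorem zc_conj [Fact (Nat.Prime 2)] (P : Sylow 2 Q) {v : Q} (hv : v ∈ zc (P : Subgroup Q))
    (hv1 : v ≠ 1) {w : Q} (hw : w ∈ zc (P : Subgroup Q)) (hw1 : w ≠ 1) :
    ∃ g : Q, g * v * g⁻¹ = w := by
  classical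
  have hc := H.hc; have h4 := H.four
  obtain ⟨n, e, hne, he0, hN, -, hez, hdv⟩ := arith H.uniqueSyl P hv hv1
  have hcv : Nat.card (Subgroup.centralizer ({v} : Set Q)) = q :=
    H.cent_two hv1 (exists_orderOf hv.1)
  rw [hcv, H.card_bar] at hne
  have hX : n * e = c * (q + 1) :=
    Nat.eq_of_mul_eq_mul_right (show 0 < q by omega) (by rw [mul_assoc n e q, hne]; ring)
  rw [H.card_sylow] at hdv
  set z := Nat.card (zc (P : Subgroup Q)) with hz
  have hzq : z ≤ q := by
    rw [← H.card_sylow P]; exact Nat.le_of_dvd Nat.card_pos (zc_dvd _)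
  obtain ⟨j, hj⟩ : q ∣ c * (q + 1) * (z - 1) + e := by
    rw [← hX, show n * e * (z - 1) + e = e * (n * (z - 1) + 1) by ring]
    exact hdv.mul_left e
  have he : e = z - 1 := by
    have h1 : q * (q * (z - 1)) + e = q * j + (z - 1) := by
      rw [← hj, show q * (q * (z - 1)) = (q * q) * (z - 1) by ring,
        show q * q = c * (q + 1) + 1 by rw [hc]; ring]
      ring
    have h2 := congrArg (· % q) h1
    simp only [Nat.mul_add_mod] at h2
    rwa [Nat.mod_eq_of_lt (by omega), Nat.mod_eq_of_lt (by omega)] at h2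
  set N := Subgroup.normalizer ((P : Subgroup Q) : Set Q) with hNdef
  set C := Subgroup.centralizer ({v} : Set Q)
  have hidx : (C.subgroupOf N).index = e := by
    have h1 := (C.subgroupOf N).card_mul_index
    rw [Nat.card_congr (Subgroup.subgroupOfEquivOfLe (cent_le_normalizer H.uniqueSyl hv hv1)).toEquiv,
      hcv, hN, hcv, mul_comm e q] at h1
    exact Nat.eq_of_mul_eq_mul_left (by omega) h1
  set f : N → Q := fun g => (g : Q) * v * (g : Q)⁻¹ with hf
  have hrange : (Set.range f).ncard = e := by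
    rw [← hidx]
    refine ClassSizeGraph76.ncard_range_eq_index _ _ fun g g' => ?_
    rw [ClassSizeGraph76.conj_eq_iff, Subgroup.mem_subgroupOf]
    rfl
  have hsub : Set.range f ⊆ (zc (P : Subgroup Q) : Set Q) \ {1} := by
    rintro _ ⟨g, rfl⟩
    refine ⟨⟨(Subgroup.mem_normalizer_iff.1 g.2 v).1 hv.1, Subgroup.mem_centralizer_iff.2 fun a ha => ?_⟩,
      fun h => hv1 (conj_eq_one_iff.1 h)⟩
    have ha' : (g : Q)⁻¹ * a * g ∈ (P : Subgroup Q) := by
      have := (Subgroup.mem_normalizer_iff.1 (inv_mem g.2) a).1 ha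
      simpa using this
    have h := Subgroup.mem_centralizer_iff.1 hv.2 _ ha'
    calc a * f g = (g : Q) * ((g : Q)⁻¹ * a * g * v) * (g : Q)⁻¹ := by rw [hf]; group
      _ = (g : Q) * (v * ((g : Q)⁻¹ * a * g)) * (g : Q)⁻¹ := by rw [h]
      _ = f g * a := by rw [hf]; group
  have heq := Set.eq_of_subset_of_ncard_le hsub (by
    rw [hrange, Set.ncard_diff_singleton_of_mem (one_mem (zc (P : Subgroup Q))), he, hz,
      ← Nat.card_coe_set_eq]
    rfl) (Set.toFinite _)
  obtain ⟨g, hg⟩ := heq.symm.le ⟨hw, hw1⟩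
  exact ⟨g, hg⟩

theorem involution [Fact (Nat.Prime 2)] {v : Q} (hv : v ≠ 1) (hpe : IsPE 2 v) : v * v = 1 := by
  obtain ⟨P, hP⟩ := H.cn_sylow hv hpe
  have hvz : v ∈ zc (P : Subgroup Q) := mem_zc_of_le P hpe hP.le
  obtain ⟨j, hj⟩ := hpe
  rcases j with _ | j
  · rw [pow_zero] at hj
    rw [orderOf_eq_one_iff.1 hj, one_mul]
  set w := v ^ 2 ^ j
  have hw : w * w = 1 := by
    rw [← pow_add, ← two_mul, ← pow_succ', ← hj, pow_orderOf_eq_one]
  have hw1 : w ≠ 1 := fun h => by
    have := Nat.le_of_dvd (by positivity) (hj ▸ orderOf_dvd_of_pow_eq_one h)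
    have := Nat.pow_lt_pow_right one_lt_two (show j < j + 1 by omega)
    omega
  obtain ⟨g, hg⟩ := H.zc_conj P (pow_mem hvz _) hw1 hvz hv
  rw [← hg, ← pow_two, conj_pow, pow_two, hw, mul_one, mul_inv_cancel]

theorem sylow_comm [Fact (Nat.Prime 2)] (P : Sylow 2 Q) {a b : Q} (ha : a ∈ (P : Subgroup Q))
    (hb : b ∈ (P : Subgroup Q)) : a * b = b * a := by
  have inv : ∀ x ∈ (P : Subgroup Q), x⁻¹ = x := fun x hx => by
    by_cases h : x = 1
    · rw [h, inv_one]
    · exact inv_eq_of_mul_eq_one_right (H.involution h (IsPE.of_mem_pgroup P.2 hx))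
  have e := inv _ (mul_mem ha hb)
  rw [mul_inv_rev, inv a ha, inv b hb] at e
  exact e.symm

theorem cent_eq [Fact (Nat.Prime 2)] (P : Sylow 2 Q) {v : Q} (hv : v ∈ (P : Subgroup Q))
    (hv1 : v ≠ 1) : Cn v = (P : Subgroup Q) :=
  (Subgroup.eq_of_le_of_card_ge (fun g hg => mem_cn.2 (H.sylow_comm P hg hv))
    (by rw [H.card_sylow, H.cent_two hv1 (IsPE.of_mem_pgroup P.2 hv)])).symm

theorem tiSylow [Fact (Nat.Prime 2)] : TISylow Q 2 q c := by
  have hc := H.hc; have h4 := H.four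
  refine ⟨by omega, by omega, fun P => H.card_sylow P, fun P v hv hv1 => H.cent_eq P hv hv1,
    fun P => ?_, by rw [H.card_bar]; ring⟩
  obtain ⟨v, hv, hv1⟩ := exists_zc (P := P) (by rw [H.card_sylow]; omega)
  obtain ⟨n, e, hne, he0, hN, -, hez, hdv⟩ := arith H.uniqueSyl P hv hv1
  have hcv : Nat.card (Subgroup.centralizer ({v} : Set Q)) = q :=
    H.cent_two hv1 (exists_orderOf hv.1)
  rw [hcv, H.card_bar] at hne
  have hX : n * e = c * (q + 1) :=
    Nat.eq_of_mul_eq_mul_right (show 0 < q by omega) (by rw [mul_assoc n e q, hne]; ring)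
  have hz : Nat.card (zc (P : Subgroup Q)) = q := by
    rw [show zc (P : Subgroup Q) = (P : Subgroup Q) from le_antisymm inf_le_left fun g hg =>
      ⟨hg, Subgroup.mem_centralizer_iff.2 fun a ha => H.sylow_comm P ha hg⟩, H.card_sylow]
  rw [hz] at hez hdv
  rw [H.card_sylow, show q - 1 = c by omega] at hdv
  have h2 : q ∣ n * e * c + e := by
    rw [show n * e * c + e = e * (n * c + 1) by ring]; exact hdv.mul_left e
  have h3 : q ∣ e + 1 := by
    rw [hX] at h2
    have h5 : c * (q + 1) * c + e + (2 * q + 0) = q * (q * c + 1) + (e + 1) := by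
      subst hc; ring
    rw [add_zero] at h5
    exact (Nat.dvd_add_right (dvd_mul_right q _)).1
      (h5 ▸ dvd_add h2 (dvd_mul_left q 2))
  obtain ⟨j, hj⟩ := h3
  have : e = c := by
    rcases j with _ | _ | j
    · omega
    · omega
    · have : q * (j + 1 + 1) ≥ q * 2 := Nat.mul_le_mul_left _ (by omega)
      omega
  rw [hN, hcv, this, mul_comm]

theorem nonregular (N : Subgroup Q) (hN : N.Normal) (hcard : Nat.card N = q + 1)
    (hconj : ∀ x ∈ N, ∀ y ∈ N, x ≠ 1 → y ≠ 1 → ∃ g : Q, g * x * g⁻¹ = y) : False := by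
  have hc := H.hc; have h4 := H.four
  obtain ⟨r, hr, hrN⟩ := Nat.exists_prime_and_dvd (n := q + 1) (by omega)
  haveI := Fact.mk hr
  obtain ⟨t, ht⟩ := exists_prime_orderOf_dvd_card' (G := N) r (hcard ▸ hrN)
  have hto : orderOf (t : Q) = r := (Subgroup.orderOf_coe t).trans ht
  have ht1 : (t : Q) ≠ 1 := fun h => by
    rw [h, orderOf_one] at hto
    exact hr.ne_one hto.symm
  have hcn : Nat.card (Cn (t : Q)) = q + 1 := by
    rcases H.cent hr ht1 ⟨1, by rw [hto, pow_one]⟩ with ⟨h, -⟩ | ⟨h, -⟩ | ⟨-, h⟩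
    · exact absurd (even_iff_two_dvd.2 (h ▸ hrN)) (Nat.not_even_iff_odd.2 H.odd_q1)
    · exact absurd (Nat.eq_one_of_dvd_coprimes H.co_c1 h hrN) hr.ne_one
    · exact h
  have hidx : cs (t : Q) ≤ q := by
    rw [← ClassSizeGraph76.ncard_cls]
    have hsub : cls (t : Q) ⊆ (N : Set Q) \ {1} := by
      rintro _ ⟨g, rfl⟩
      exact ⟨hN.conj_mem _ t.2 g, fun h => ht1 (conj_eq_one_iff.1 h)⟩
    refine (Set.ncard_le_ncard hsub (Set.toFinite _)).trans ?_
    rw [Set.ncard_diff_singleton_of_mem (one_mem N),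
      show ((N : Set Q)).ncard = Nat.card N from (Nat.card_coe_set_eq _).symm, hcard]
    omega
  have hmul := (Cn (t : Q)).card_mul_index
  rw [hcn, H.card_bar, mul_comm] at hmul
  have h1 : (q + 1) * cs (t : Q) = (q + 1) * (q * c) := by
    rw [mul_comm (q + 1), show (q + 1) * (q * c) = q * (c * (q + 1)) by ring]; exact hmul
  have h2 := Nat.eq_of_mul_eq_mul_left (by omega) h1
  have h3 : q * 2 ≤ q * c := Nat.mul_le_mul_left q (by omega)
  omega

omit [Finite G] in
theorem order_arith {r w : ℕ} (hr : 1 < r) (hw : r * r = w + 1) :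
    (r * w = q * (c * (q + 1)) → r = q) ∧
      (Odd r → r * w = 2 * (q * (c * (q + 1))) → r = 5 ∧ q = 4) := by
  have hc := H.hc; have h4 := H.four
  have hT : q * (c * (q + 1)) + q = q * (q * q) := by subst hc; ring
  have hR : r * w + r = r * (r * r) := by rw [hw]; ring
  refine ⟨fun h => ?_, fun ho h => ?_⟩
  · rcases lt_trichotomy r q with h1 | h1 | h1
    · exfalso
      have h6 := Nat.mul_self_lt_mul_self h1
      have h7 := Nat.mul_le_mul_right r (show r * r + 1 ≤ q * q from h6)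
      have h8 := Nat.mul_le_mul_left (q * q) (show r + 1 ≤ q from h1)
      have h9 := Nat.le_mul_self q
      linarith
    · exact h1
    · exfalso
      have h6 := Nat.mul_self_lt_mul_self h1
      have h7 := Nat.mul_le_mul_right q (show q * q + 1 ≤ r * r from h6)
      have h8 := Nat.mul_le_mul_left (r * r) (show q + 1 ≤ r from h1)
      have h9 := Nat.le_mul_self r
      linarith
  · have hco : (2 ^ (k + 1)).Coprime r := (Nat.coprime_two_left.2 ho).pow_left _
    have h2q : 2 * q = 2 ^ (k + 1) := by rw [H.hq, pow_succ']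
    obtain ⟨i, hi⟩ := ho
    have hsq : w = 4 * (i * (i + 1)) := by
      have : w + 1 = 4 * (i * (i + 1)) + 1 := by rw [← hw, hi]; ring
      omega
    have hdw : 2 ^ (k + 1) ∣ w := by
      refine hco.dvd_of_dvd_mul_left ⟨c * (q + 1), ?_⟩
      rw [h, ← h2q]; ring
    -- one of `i`, `i + 1` is divisible by `q / 2`
    obtain ⟨k', hk'⟩ : ∃ k', k = k' + 1 := by
      rcases k with _ | k'
      · have := H.hq; rw [pow_zero] at this; omega
      · exact ⟨k', rfl⟩
    set M := 2 ^ k' with hM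
    have hqM : q = 2 * M := by rw [H.hq, hk', pow_succ']
    have hdM : M ∣ i * (i + 1) := by
      rw [hsq, hk', show 2 ^ (k' + 1 + 1) = 4 * M by rw [hM]; ring] at hdw
      exact Nat.dvd_of_mul_dvd_mul_left (by norm_num) hdw
    have hri : M ∣ i ∨ M ∣ i + 1 := by
      rcases Nat.even_or_odd i with he | he
      · refine Or.inl (Nat.Coprime.dvd_of_dvd_mul_right ?_ hdM)
        rw [hM]
        exact (Nat.coprime_two_left.2 he.add_one).pow_left _
      · refine Or.inr (Nat.Coprime.dvd_of_dvd_mul_left ?_ hdM)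
        rw [hM]
        exact (Nat.coprime_two_left.2 he).pow_left _
    have hi0 : 0 < i := by omega
    have hbig : q ≤ r + 1 := by
      rcases hri with h1 | h1
      · have := Nat.le_of_dvd hi0 h1; omega
      · have := Nat.le_of_dvd (by omega) h1; omega
    rcases Nat.lt_or_ge (r) (q + 2) with hsmall | hlarge
    · obtain rfl | rfl : r = c ∨ r = q + 1 := by
        have := H.two_dvd
        omega
      · exfalso
        have e1 : r * w + r = r * (r * r) := hR
        rw [h] at e1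
        subst hc
        nlinarith
      · have h5 : q * q = 3 * q + 4 := by
          subst hc
          nlinarith
        have : q ≤ 4 := by
          by_contra hh
          have := Nat.mul_le_mul_right q (show 5 ≤ q by omega)
          omega
        omega
    · exfalso
      have hge : 2 * q - 1 ≤ r := by
        rcases hri with ⟨j, hj⟩ | ⟨j, hj⟩
        · rcases j with _ | _ | j
          · omega
          · omega
          · have : M * (j + 1 + 1) ≥ M * 2 := Nat.mul_le_mul_left _ (by omega)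
            omega
        · rcases j with _ | _ | j
          · omega
          · omega
          · have : M * (j + 1 + 1) ≥ M * 2 := Nat.mul_le_mul_left _ (by omega)
            omega
      have hw2 : 4 * (c * q) ≤ w := by
        have h1 := Nat.mul_le_mul (show 2 * c + 1 ≤ r by omega) (show 2 * c + 1 ≤ r by omega)
        rw [show (2 * c + 1) * (2 * c + 1) = 4 * (c * q) + 1 by rw [hc]; ring] at h1
        omega
      have h2 := Nat.mul_le_mul (show 2 * c + 1 ≤ r by omega) hw2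
      rw [h, show (2 * c + 1) * (4 * (c * q)) = (8 * c + 4) * (c * q) by ring,
        show 2 * (q * (c * (q + 1))) = (2 * (q + 1)) * (c * q) by ring] at h2
      have := Nat.le_of_mul_le_mul_right h2 (Nat.mul_pos (by omega) (by omega))
      omega

/-- The quotient by the centre is `PSL₂(q)`. -/
theorem iso_psl (F : Type*) [Field F] [Finite F] (hF : Nat.card F = q) :
    Nonempty (Q ≃* Matrix.ProjectiveSpecialLinearGroup (Fin 2) F) := by
  haveI := Fact.mk Nat.prime_two
  have hc := H.hc; have h4 := H.four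
  have T := H.tiSylow
  obtain ⟨L, hL, hLf, ⟨iso⟩⟩ := T.psl_of_odd H.odd_c (by omega) (fun A B hAB h hh h1 s hs hpe => by
    have hsc : s ∣ c := by
      obtain ⟨i, hi⟩ := hpe
      have hi0 : i ≠ 0 := by
        rintro rfl
        exact h1 (orderOf_eq_one_iff.1 (by rw [hi, pow_zero]))
      rw [← T.card_two hAB]
      exact (hi ▸ dvd_pow_self s hi0 : s ∣ orderOf h).trans (Subgroup.orderOf_dvd_natCard _ hh)
    rcases H.cent hs h1 hpe with ⟨e, -⟩ | ⟨-, e⟩ | ⟨e, -⟩
    · exact absurd (even_iff_two_dvd.2 (e ▸ hsc)) (Nat.not_even_iff_odd.2 H.odd_c)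
    · exact e
    · exact absurd (Nat.eq_one_of_dvd_coprimes H.co_c1 hsc e) hs.ne_one) H.nonregular
  have hcard := Nat.card_congr iso.toEquiv
  rw [H.card_bar] at hcard
  have hm := PSLCard.card_PSL2_mul (F := L)
  rw [← hcard] at hm
  obtain ⟨r, hr⟩ : ∃ r, Nat.card L = r := ⟨_, rfl⟩
  have h1r : 1 < r := hr ▸ Finite.one_lt_card
  rw [hr] at hm
  obtain ⟨w, hw⟩ : ∃ w, r ^ 2 = w + 1 :=
    ⟨r ^ 2 - 1, by have := Nat.one_le_pow 2 r (by omega); omega⟩
  rw [hw, Nat.add_sub_cancel] at hm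
  rw [pow_two] at hw
  obtain ⟨hA, hB⟩ := H.order_arith h1r hw
  have hg : Nat.gcd 2 (r - 1) = 1 ∨ Nat.gcd 2 (r - 1) = 2 :=
    Nat.prime_two.eq_one_or_self_of_dvd _ (Nat.gcd_dvd_left _ _)
  rcases hg with hg | hg <;> rw [hg] at hm
  · have hrq : r = q := hA (by linarith)
    exact ⟨iso.trans (PSLCard.pslEquivOfCard (hr.trans (hrq.trans hF.symm)))⟩
  · have ho : Odd r := by
      have := Nat.gcd_dvd_right 2 (r - 1)
      rw [hg] at this
      obtain ⟨i, hi⟩ := this
      exact ⟨i, by omega⟩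
    obtain ⟨hr5, hq4⟩ := hB ho (by linarith)
    obtain ⟨e5⟩ := PSL2Small.psl2_five L (hr.trans hr5)
    obtain ⟨e4⟩ := PSL2Small.psl2_four F (hF.trans hq4)
    exact ⟨iso.trans (e5.trans e4.symm)⟩

end SizesEven

end Cfsg.Agent.ClassSizePSL72
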