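import Cfsg.Agent.Lib.ClassSizePSLBasic72
import Cfsg.Agent.Lib.PSL2Classes52
import Cfsg.Agent.Lib.PSL2Sylow
import Cfsg.Agent.Lib.StemSL2
import Cfsg.Agent.Lib.PSLSimple

/-!
# The derived group splits off the centre
-/

set_option autoImplicit false

namespace Cfsg.Agent.ClassSizePSL72

open Cfsg.Agent.ClassSizeGraph76 (cs cls)
open Cfsg.Agent.TwoRegSizes38 (Cn IsPE mem_cn self_mem_cn bar)
open PSL2Elements PSL2Proj52
open scoped MatrixGroups commutatorElement

variable {G : Type*} [Group G] [Finite G]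

/-- Commuting images give commuting elements, for primary elements of class size prime to the
order. -/
theorem comm_lift {r : ℕ} (hr : r.Prime) {x₀ x y : G} (hx₀ : IsPE r x₀) (hcs : ¬ r ∣ cs x₀)
    (hx : bar x = bar x₀) (hc : bar y * bar x = bar x * bar y) : y * x = x * y := by
  have hy : bar y ∈ Subgroup.centralizer ({bar x₀} : Set (G ⧸ Subgroup.center G)) :=
    Subgroup.mem_centralizer_singleton_iff.2 (hx ▸ hc)
  rw [centralizer_bar hr hx₀ hcs] at hy
  obtain ⟨y₀, hy₀, e⟩ := hy
  have h : y₀ ∈ Cn x := TwoRegSizes38.cn_eq_of_bar_eq hx ▸ hy₀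
  obtain ⟨z, hz, hyz⟩ := TwoRegSizes38.bar_eq_bar.1 e.symm
  exact mem_cn.1 (hyz ▸ mul_mem (TwoRegSizes38.center_le_cn x hz) h)

/-- A central commutator element dies in a subgroup whose derived group avoids the centre. -/
theorem pow_index_eq_one (H : Subgroup G) (hH : Subgroup.center G ≤ H)
    (hd : ∀ c : H, c ∈ commutator H → (c : G) ∈ Subgroup.center G → c = 1)
    {z : G} (hz : z ∈ Subgroup.center G) (hzc : z ∈ commutator G) : z ^ H.index = 1 := by
  let φ : H →* Abelianization H := Abelianization.of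
  have key : ∀ (k : ℕ) (g₀ : G), g₀⁻¹ * z ^ k * g₀ ∈ H → g₀⁻¹ * z ^ k * g₀ = z ^ k := by
    intro k g₀ _
    rw [mul_assoc, ← Subgroup.mem_center_iff.1 (pow_mem hz k) g₀, inv_mul_cancel_left]
  have h1 : MonoidHom.transfer φ z = 1 :=
    MonoidHom.mem_ker.1 (Abelianization.commutator_subset_ker _ hzc)
  rw [MonoidHom.transfer_eq_pow φ z key] at h1
  have h2 : (⟨z ^ H.index, hH (pow_mem hz _)⟩ : H) ∈ commutator H := by
    rw [← Abelianization.ker_of]
    exact MonoidHom.mem_ker.2 h1
  exact congrArg Subtype.val (hd _ h2 (pow_mem hz _))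

/-- A group generated by elements commuting modulo a normal subgroup has its derived group there. -/
theorem commutator_le_of_gen {Γ : Type*} [Group Γ] (s : Set Γ) (hs : Subgroup.closure s = ⊤)
    (N : Subgroup Γ) [N.Normal]
    (hc : ∀ x ∈ s, ∀ y ∈ s, QuotientGroup.mk' N x * QuotientGroup.mk' N y =
      QuotientGroup.mk' N y * QuotientGroup.mk' N x) : commutator Γ ≤ N := by
  set f := QuotientGroup.mk' N
  have hs' : Subgroup.closure (f '' s) = ⊤ := by
    rw [← MonoidHom.map_closure, hs, Subgroup.map_top_of_surjective f (QuotientGroup.mk'_surjective N)]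
  have hcen : ∀ a : Γ ⧸ N, a ∈ Subgroup.center (Γ ⧸ N) := by
    intro a
    have h1 : f '' s ⊆ Subgroup.center (Γ ⧸ N) := by
      rintro _ ⟨x, hx, rfl⟩
      refine Subgroup.mem_center_iff.2 fun b => ?_
      have hb : b ∈ Subgroup.centralizer ({f x} : Set (Γ ⧸ N)) := by
        refine (Subgroup.closure_le _).2 ?_ (hs'.symm ▸ Subgroup.mem_top b)
        rintro _ ⟨y, hy, rfl⟩
        exact Subgroup.mem_centralizer_singleton_iff.2 (hc y hy x hx)
      exact Subgroup.mem_centralizer_singleton_iff.1 hb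
    exact (Subgroup.closure_le _).2 h1 (hs'.symm ▸ Subgroup.mem_top a)
  rw [_root_.commutator_def, Subgroup.commutator_le]
  intro a _ b _
  rw [← QuotientGroup.eq_one_iff]
  show f ⁅a, b⁆ = 1
  rw [map_commutatorElement, commutatorElement_eq_one_iff_mul_comm]
  exact Subgroup.mem_center_iff.1 (hcen (f b)) (f a)

section PSL

variable {F : Type*} [Field F] [Finite F]
  (iso : (G ⧸ Subgroup.center G) ≃* Matrix.ProjectiveSpecialLinearGroup (Fin 2) F)

include iso

/-- The preimage in `G` of a subgroup of `PSL₂`. -/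
noncomputable def pre (K : Subgroup (Matrix.ProjectiveSpecialLinearGroup (Fin 2) F)) : Subgroup G :=
  (K.comap iso.toMonoidHom).comap bar

omit [Finite G] [Finite F] in
theorem mem_pre {K : Subgroup (Matrix.ProjectiveSpecialLinearGroup (Fin 2) F)} {g : G} :
    g ∈ pre iso K ↔ iso (bar g) ∈ K := Iff.rfl

omit [Finite G] [Finite F] in
theorem center_le_pre (K : Subgroup (Matrix.ProjectiveSpecialLinearGroup (Fin 2) F)) :
    Subgroup.center G ≤ pre iso K := fun g hg => by
  rw [mem_pre, TwoRegSizes38.bar_eq_one.2 hg, map_one]; exact one_mem _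

omit [Finite G] [Finite F] in
theorem index_pre (K : Subgroup (Matrix.ProjectiveSpecialLinearGroup (Fin 2) F)) :
    (pre iso K).index = K.index := by
  rw [pre, Subgroup.index_comap_of_surjective _ (QuotientGroup.mk'_surjective _),
    Subgroup.index_comap_of_surjective _ (fun x => ⟨iso.symm x, iso.apply_symm_apply x⟩)]

omit [Finite F] in
theorem kill_comm (K : Subgroup (Matrix.ProjectiveSpecialLinearGroup (Fin 2) F))
    (hK : ∀ x ∈ pre iso K, ∀ y ∈ pre iso K, x * y = y * x)
    {z : G} (hz : z ∈ Subgroup.center G) (hzc : z ∈ commutator G) : z ^ K.index = 1 := by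
  rw [← index_pre iso K]
  refine pow_index_eq_one _ (center_le_pre iso K) (fun c hc _ => ?_) hz hzc
  have : commutator (pre iso K) = ⊥ := by
    rw [_root_.commutator_def, eq_bot_iff, Subgroup.commutator_le]
    intro a _ b _
    rw [Subgroup.mem_bot, commutatorElement_eq_one_iff_mul_comm]
    exact Subtype.ext (hK a a.2 b b.2)
  rwa [this, Subgroup.mem_bot] at hc

omit [Finite F] in
theorem kill_cyclic (K : Subgroup (Matrix.ProjectiveSpecialLinearGroup (Fin 2) F)) (hK : IsCyclic K)
    {z : G} (hz : z ∈ Subgroup.center G) (hzc : z ∈ commutator G) : z ^ K.index = 1 := by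
  refine kill_comm iso K (fun x hx y hy => ?_) hz hzc
  let f : pre iso K →* K := ((iso.toMonoidHom.comp bar).comp (pre iso K).subtype).codRestrict K
    fun g => g.2
  have hf : f.ker ≤ Subgroup.center (pre iso K) := by
    intro g hg
    have h : iso (bar (g : G)) = 1 := congrArg Subtype.val hg
    rw [MulEquiv.map_eq_one_iff, TwoRegSizes38.bar_eq_one] at h
    exact Subgroup.mem_center_iff.2 fun k => Subtype.ext (Subgroup.mem_center_iff.1 h k)
  exact congrArg Subtype.val (commutative_of_cyclic_center_quotient f hf ⟨x, hx⟩ ⟨y, hy⟩)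

variable (p : ℕ) [hp : Fact p.Prime] [CharP F p]

/-- The centre meets the derived group trivially. -/
theorem center_inf_commutator
    (hpc : ∀ x y : G, bar x ≠ 1 → IsPE p (bar x) → bar y * bar x = bar x * bar y → y * x = x * y)
    (h2c : (2 : F) ≠ 0 → ∀ x y : G, orderOf (bar x) = 2 → bar y * bar x = bar x * bar y →
      y * x = x * y)
    (h4 : (2 : F) ≠ 0 → 7 ≤ Nat.card F)
    {z : G} (hz : z ∈ Subgroup.center G) (hzc : z ∈ commutator G) : z = 1 := by
  classical
  haveI := Fintype.ofFinite F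
  suffices h : ∀ r : ℕ, r.Prime → ∃ n : ℕ, ¬ r ∣ n ∧ z ^ n = 1 by
    by_contra hne
    obtain ⟨r, hr, hd⟩ := Nat.exists_prime_and_dvd (n := orderOf z)
      (fun h1 => hne (orderOf_eq_one_iff.1 h1))
    obtain ⟨n, hn, hzn⟩ := h r hr
    exact hn (hd.trans (orderOf_dvd_of_pow_eq_one hzn))
  intro r hr
  haveI := Fact.mk hr
  obtain ⟨k, hk0, hk⟩ := PSL2Sylow.card_field_eq (F := F) p
  by_cases hrp : r = p
  · subst hrp
    obtain ⟨P, hP⟩ := PSL2Sylow.exists_sylow_eq_uSub (F := F) r
    set K := (P : Subgroup SL(2, F)).map π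
    refine ⟨K.index, fun hd => ?_, kill_comm iso K ?_ hz hzc⟩
    · exact (P.mapSurjective π_surjective).not_dvd_index (by rw [Sylow.coe_mapSurjective]; exact hd)
    · intro x hx y hy
      by_cases h1 : bar x = 1
      · exact (Subgroup.mem_center_iff.1 (TwoRegSizes38.bar_eq_one.1 h1) y).symm
      · refine (hpc x y h1 ?_ ?_).symm
        · obtain ⟨j, hj⟩ := IsPE.of_mem_pgroup (P.2.map π) (show iso (bar x) ∈ K from hx)
          exact ⟨j, by rw [← hj, MulEquiv.orderOf_eq]⟩
        · refine iso.injective ?_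
          rw [map_mul, map_mul]
          obtain ⟨A, hA, hA'⟩ := (show iso (bar x) ∈ K from hx)
          obtain ⟨B, hB, hB'⟩ := (show iso (bar y) ∈ K from hy)
          rw [← hA', ← hB', ← map_mul, ← map_mul]
          rw [SetLike.mem_coe, hP, PSL2Sylow.mem_uSub] at hA hB
          obtain ⟨s, rfl⟩ := hA
          obtain ⟨t, rfl⟩ := hB
          rw [u_mul, u_mul, add_comm]
  by_cases hr2 : r = 2
  · subst hr2
    have h2F : (2 : F) ≠ 0 := by
      intro h
      exact hrp ((Nat.prime_dvd_prime_iff_eq hp.out Nat.prime_two).1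
        ((CharP.cast_eq_zero_iff F p 2).1 (by exact_mod_cast h))).symm
    have hq7 := h4 h2F
    rw [Nat.card_eq_fintype_card] at hq7 hk
    have hodd : Odd (Fintype.card F) := by
      rw [hk]
      exact (hp.out.odd_of_ne_two (fun h => hrp h.symm)).pow
    -- a dihedral subgroup of odd index
    obtain ⟨a, b, o, n, ho, hn, hn2, hab, hbb, hbn, hidx⟩ :
        ∃ (a b : SL(2, F)) (o n : ℕ), orderOf a = o ∧ o = 4 * n ∧ 2 ≤ o ∧
          b * a * b⁻¹ = a⁻¹ ∧ b * b = -1 ∧ π b ∉ Subgroup.zpowers (π a) ∧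
          ∃ c : ℕ, o * c = Nat.card (Matrix.ProjectiveSpecialLinearGroup (Fin 2) F) ∧ ¬ 2 ∣ c := by
      have hcardP : Nat.card (Matrix.ProjectiveSpecialLinearGroup (Fin 2) F) * 2 =
          Fintype.card F * ((Fintype.card F + 1) * (Fintype.card F - 1)) := by
        rw [← StemSL2.card_SL2', PSLCard.card_SL2, ← PSLCard.card_PSL2_mul, mul_comm]
        congr 1
        rw [Nat.card_eq_fintype_card]
        obtain ⟨i, hi⟩ := hodd
        exact (Nat.gcd_eq_left ⟨i, by omega⟩).symm
      have notmem : ∀ (a b : SL(2, F)) (o : ℕ), orderOf a = o → o % 2 = 0 → 6 ≤ o →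
          b * a * b⁻¹ = a⁻¹ → π b ∉ Subgroup.zpowers (π a) := by
        intro a b o ho he h6 hab hmem
        obtain ⟨i, hi⟩ := Subgroup.mem_zpowers_iff.1 hmem
        have e : π (b * a * b⁻¹) = π a := by
          rw [map_mul, map_mul, map_inv, ← hi]; group
        rw [hab, π_eq_iff] at e
        have h4 : a ^ 4 = 1 := by
          have h2 : a ^ 2 = 1 ∨ a ^ 2 = -1 := by
            rcases e with e | e
            · left; rw [pow_two]; nth_rewrite 1 [← e]; rw [inv_mul_cancel]
            · right; rw [pow_two]; nth_rewrite 1 [show a = -a⁻¹ by rw [e, neg_neg]]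
              rw [neg_mul, inv_mul_cancel]
          rw [show 4 = 2 * 2 from rfl, pow_mul]
          rcases h2 with h | h <;> rw [h] <;> simp
        have := Nat.le_of_dvd four_pos (ho ▸ orderOf_dvd_of_pow_eq_one h4)
        omega
      rcases (show Fintype.card F % 4 = 1 ∨ Fintype.card F % 4 = 3 by
        obtain ⟨i, hi⟩ := hodd; omega) with h | h
      · obtain ⟨g, hg⟩ := StemSL2.exists_split (F := F)
        obtain ⟨m, hm⟩ : ∃ m, Fintype.card F = 4 * m + 1 := ⟨Fintype.card F / 4, by omega⟩
        refine ⟨d g, w, Fintype.card F - 1, m, hg, by omega, by omega, ?_, w_sq, ?_,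
          Fintype.card F * (2 * m + 1), ?_, ?_⟩
        · rw [w_conj_d]; exact map_inv dHom g
        · exact notmem _ _ _ hg (by omega) (by omega) (by rw [w_conj_d]; exact map_inv dHom g)
        · refine Nat.eq_of_mul_eq_mul_right two_pos ?_
          rw [hcardP, hm, Nat.add_sub_cancel]; ring
        · rw [hm]
          exact fun h2 => (Nat.not_even_iff_odd.2
            (Odd.mul (⟨2 * m, by ring⟩ : Odd (4 * m + 1)) ⟨m, rfl⟩)) (even_iff_two_dvd.2 h2)
      · obtain ⟨a, ha⟩ := StemSL2.exists_nonsplit (F := F)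
        obtain ⟨b, hb1, hb2⟩ := StemSL2.exists_invert p h2F ha
        obtain ⟨m, hm⟩ : ∃ m, Fintype.card F = 4 * m + 3 := ⟨Fintype.card F / 4, by omega⟩
        refine ⟨a, b, Fintype.card F + 1, m + 1, ha, by omega, by omega, hb1, hb2,
          notmem _ _ _ ha (by omega) (by omega) hb1, Fintype.card F * (2 * m + 1), ?_, ?_⟩
        · refine Nat.eq_of_mul_eq_mul_right two_pos ?_
          rw [hcardP, hm, show 4 * m + 3 - 1 = 2 * (2 * m + 1) by omega]; ring
        · rw [hm]
          exact fun h2 => (Nat.not_even_iff_odd.2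
            (Odd.mul (⟨2 * m + 1, by ring⟩ : Odd (4 * m + 3)) ⟨m, rfl⟩)) (even_iff_two_dvd.2 h2)
    have hpi : ∀ i : ℕ, π a ^ i = 1 ↔ 2 * n ∣ i := by
      intro i
      have hneg : a ^ (2 * n) = -1 :=
        StemSL2.pow_half_eq_neg_one h2F (by omega) (by rw [ho, hn]; ring)
      constructor
      · intro h
        rw [← map_pow, π_eq_one] at h
        have h2 : a ^ (i * 2) = 1 := by
          rw [pow_mul]
          rcases h with e | e <;> rw [e] <;> simp
        have := orderOf_dvd_of_pow_eq_one h2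
        rw [ho, hn, show 4 * n = 2 * n * 2 by ring] at this
        exact Nat.dvd_of_mul_dvd_mul_right two_pos this
      · rintro ⟨j, rfl⟩
        rw [← map_pow, pow_mul, hneg, map_pow, (π_eq_one _).2 (Or.inr rfl), one_pow]
    have hoa : orderOf (π a) = 2 * n := by
      refine Nat.dvd_antisymm ?_ ((hpi _).1 (pow_orderOf_eq_one _))
      exact orderOf_dvd_of_pow_eq_one ((hpi _).2 dvd_rfl)
    set A := π a with hA
    set B := π b with hB
    have hBA : B * A * B⁻¹ = A⁻¹ := by rw [hA, hB, ← map_inv, ← map_inv, ← hab, map_mul, map_mul]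
    have hBB : B * B = 1 := by rw [hB, ← map_mul, hbb, π_eq_one]; exact Or.inr rfl
    set K := Subgroup.closure ({A, B} : Set (Matrix.ProjectiveSpecialLinearGroup (Fin 2) F)) with hKdef
    obtain ⟨c, hc, hc2⟩ := hidx
    refine ⟨K.index, fun hd => ?_, ?_⟩
    · obtain ⟨i, hi⟩ := StemSL2.two_mul_dvd_card_closure A B hBA (by rw [hBB]; exact one_mem _) hbn
      have hm := K.card_mul_index
      rw [hKdef, hi, hoa, ← hc, hn, show 2 * (2 * n) * i * K.index = 4 * n * (i * K.index) by ring] at hm
      exact hc2 ((Nat.eq_of_mul_eq_mul_left (show 0 < 4 * n by omega) hm) ▸ hd.mul_left i)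
    obtain ⟨C, hC⟩ := QuotientGroup.mk'_surjective (Subgroup.center G) (iso.symm A)
    obtain ⟨T, hT⟩ := QuotientGroup.mk'_surjective (Subgroup.center G) (iso.symm B)
    have hC' : iso (bar C) = A := by rw [hC, MulEquiv.apply_symm_apply]
    have hT' : iso (bar T) = B := by rw [hT, MulEquiv.apply_symm_apply]
    obtain ⟨δ, hδ, hTC⟩ : ∃ δ ∈ Subgroup.center G, T * C * T⁻¹ = δ * C⁻¹ :=
      TwoRegSizes38.bar_eq_bar.1 (iso.injective (by
        simp only [map_mul, map_inv, hC', hT', hBA]))
    have hδc : ∀ g : G, g * δ = δ * g := Subgroup.mem_center_iff.1 hδ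
    set γ := C * C * δ⁻¹ with hγ
    have hγC : γ * C = C * γ := by
      rw [hγ, mul_assoc (C * C), ← Subgroup.mem_center_iff.1 (inv_mem hδ) C]; group
    have hTγ : T * γ * T⁻¹ = γ⁻¹ := by
      have e1 : T * γ * T⁻¹ = (T * C * T⁻¹) * (T * C * T⁻¹) * δ⁻¹ := by
        rw [hγ]
        calc T * (C * C * δ⁻¹) * T⁻¹ = T * C * T⁻¹ * (T * C * T⁻¹) * (T * δ⁻¹ * T⁻¹) := by group
          _ = _ := by rw [Subgroup.mem_center_iff.1 (inv_mem hδ) T, mul_inv_cancel_right]
      rw [e1, hTC, hγ]
      calc δ * C⁻¹ * (δ * C⁻¹) * δ⁻¹ = δ * (C⁻¹ * δ) * (C⁻¹ * δ⁻¹) := by group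
        _ = δ * (δ * C⁻¹) * (δ⁻¹ * C⁻¹) := by
          rw [hδc C⁻¹, Subgroup.mem_center_iff.1 (inv_mem hδ) C⁻¹]
        _ = δ * (δ * (C⁻¹ * δ⁻¹)) * C⁻¹ := by group
        _ = δ * (δ * (δ⁻¹ * C⁻¹)) * C⁻¹ := by rw [Subgroup.mem_center_iff.1 (inv_mem hδ) C⁻¹]
        _ = (C * C * δ⁻¹)⁻¹ := by group
    have hγn : γ ^ n = 1 := by
      have hord : orderOf (bar (C ^ n)) = 2 := by
        rw [← MulEquiv.orderOf_eq iso, map_pow, map_pow, hC', orderOf_pow, hoa,
          Nat.gcd_eq_right (dvd_mul_left n 2), Nat.mul_div_cancel _ (by omega)]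
      have hcm : T * C ^ n = C ^ n * T := by
        refine h2c h2F _ T hord (iso.injective ?_)
        simp only [map_mul, map_pow, hC', hT']
        have h1 : B * A ^ n * B⁻¹ = A ^ n := by
          rw [← conj_pow, hBA, inv_pow, inv_eq_iff_mul_eq_one, ← pow_add,
            ← two_mul, (hpi _).2 dvd_rfl]
        exact mul_inv_eq_iff_eq_mul.1 h1
      have h1 : T * C ^ n * T⁻¹ = δ ^ n * (C ^ n)⁻¹ := by
        rw [← conj_pow, hTC, Commute.mul_pow (hδc C⁻¹).symm, inv_pow]
      rw [hcm, mul_inv_cancel_right] at h1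
      have h2 : C ^ n * C ^ n = δ ^ n := by
        nth_rewrite 1 [h1]; rw [inv_mul_cancel_right]
      rw [hγ, Commute.mul_pow (Subgroup.mem_center_iff.1 (inv_mem hδ) (C * C)),
        Commute.mul_pow (Commute.refl C), h2, inv_pow, mul_inv_cancel]
    have hHgen : pre iso K = Subgroup.closure ({C, T} ∪ (Subgroup.center G : Set G)) := by
      refine le_antisymm (fun g hg => ?_) ((Subgroup.closure_le _).2 ?_)
      · set J := Subgroup.closure ({C, T} ∪ (Subgroup.center G : Set G))
        have hK : K ≤ J.map (iso.toMonoidHom.comp bar) := by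
          rw [hKdef, Subgroup.closure_le]
          rintro x (rfl | rfl)
          · exact ⟨C, Subgroup.subset_closure (Or.inl (Or.inl rfl)), hC'⟩
          · exact ⟨T, Subgroup.subset_closure (Or.inl (Or.inr rfl)), hT'⟩
        obtain ⟨g', hg', e⟩ := hK hg
        obtain ⟨z', hz', rfl⟩ := TwoRegSizes38.bar_eq_bar.1 (iso.injective e.symm)
        exact mul_mem (Subgroup.subset_closure (Or.inr hz')) hg'
      · rintro x ((rfl | rfl) | hx)
        · rw [SetLike.mem_coe, mem_pre, hC', hKdef]; exact Subgroup.subset_closure (Or.inl rfl)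
        · rw [SetLike.mem_coe, mem_pre, hT', hKdef]; exact Subgroup.subset_closure (Or.inr rfl)
        · exact center_le_pre iso K hx
    rw [← index_pre iso K]
    refine pow_index_eq_one _ (center_le_pre iso K) ?_ hz hzc
    intro c' hc' hcz
    set H := pre iso K with hH
    set S := (Subgroup.zpowers γ).subgroupOf H
    have hnorm : H ≤ Subgroup.normalizer ((Subgroup.zpowers γ : Subgroup G) : Set G) := by
      rw [hHgen, Subgroup.closure_le]
      intro x hx
      have hcase : x * γ * x⁻¹ = γ ∨ x * γ * x⁻¹ = γ⁻¹ := by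
        rcases hx with (rfl | rfl) | hx
        · left; rw [← hγC, mul_inv_cancel_right]
        · exact Or.inr hTγ
        · left
          rw [← Subgroup.mem_center_iff.1 hx γ, mul_inv_cancel_right]
      rw [SetLike.mem_coe, Subgroup.mem_normalizer_iff_map_conj_eq, MonoidHom.map_zpowers]
      show Subgroup.zpowers (x * γ * x⁻¹) = _
      rcases hcase with e | e <;> rw [e]
      rw [Subgroup.zpowers_inv]
    haveI : S.Normal := Subgroup.normal_subgroupOf_of_le_normalizer hnorm
    set gens : Set H := {x | (x : G) = C ∨ (x : G) = T ∨ (x : G) ∈ Subgroup.center G}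
    have hgens : Subgroup.closure gens = ⊤ := by
      refine Subgroup.map_injective H.subtype_injective ?_
      rw [MonoidHom.map_closure, ← MonoidHom.range_eq_map, Subgroup.range_subtype]
      refine le_antisymm ((Subgroup.closure_le _).2 ?_) ?_
      · rintro _ ⟨x, -, rfl⟩; exact x.2
      · conv_lhs => rw [hHgen]
        refine (Subgroup.closure_le _).2 fun x hx => Subgroup.subset_closure ?_
        have hxH : x ∈ H := hHgen.symm ▸ Subgroup.subset_closure hx
        refine ⟨⟨x, hxH⟩, ?_, rfl⟩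
        rcases hx with (rfl | rfl) | hx
        exacts [Or.inl rfl, Or.inr (Or.inl rfl), Or.inr (Or.inr hx)]
    have hle : commutator H ≤ S := by
      refine commutator_le_of_gen gens hgens S fun x hx y hy => ?_
      have key : (x : G) * y * (x : G)⁻¹ * (y : G)⁻¹ ∈ Subgroup.zpowers γ := by
        have one : ∀ {g h : G}, g * h = h * g → g * h * g⁻¹ * h⁻¹ = 1 := fun {g h} e => by
          rw [e]; group
        have hCT : C * T * C⁻¹ * T⁻¹ = γ := by
          calc C * T * C⁻¹ * T⁻¹ = C * (T * C * T⁻¹)⁻¹ := by group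
            _ = C * (C * δ⁻¹) := by rw [hTC]; group
            _ = γ := by rw [hγ]; group
        rcases hx with hx | hx | hx <;> rcases hy with hy | hy | hy
        · rw [hx, hy, one rfl]; exact one_mem _
        · rw [hx, hy, hCT]; exact Subgroup.mem_zpowers γ
        · rw [one (Subgroup.mem_center_iff.1 hy _)]; exact one_mem _
        · rw [hx, hy, show T * C * T⁻¹ * C⁻¹ = (C * T * C⁻¹ * T⁻¹)⁻¹ by group, hCT]
          exact inv_mem (Subgroup.mem_zpowers γ)
        · rw [hx, hy, one rfl]; exact one_mem _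
        · rw [one (Subgroup.mem_center_iff.1 hy _)]; exact one_mem _
        all_goals rw [one (Subgroup.mem_center_iff.1 hx _).symm]; exact one_mem _
      rw [← commutatorElement_eq_one_iff_mul_comm, ← map_commutatorElement]
      exact (QuotientGroup.eq_one_iff _).2 (Subgroup.mem_subgroupOf.2 key)
    obtain ⟨i, hi⟩ := Subgroup.mem_zpowers_iff.1 (Subgroup.mem_subgroupOf.1 (hle hc'))
    have h1 : A ^ (2 * i) = 1 := by
      have hb : bar γ ^ i = 1 := by
        rw [← map_zpow, hi]; exact TwoRegSizes38.bar_eq_one.2 hcz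
      have hbγ : iso (bar γ) = A ^ (2 : ℤ) := by
        rw [hγ, map_mul, map_mul, TwoRegSizes38.bar_eq_one.2 (inv_mem hδ), map_one, mul_one,
          map_mul, map_mul, hC', zpow_two]
      have h := congrArg iso hb
      rw [map_zpow, map_one, hbγ, ← zpow_mul] at h
      exact h
    have h2 : ((2 * n : ℕ) : ℤ) ∣ 2 * i := by rw [← hoa]; exact orderOf_dvd_iff_zpow_eq_one.2 h1
    obtain ⟨j, hj⟩ := h2
    push_cast at hj
    have h3 : i = (n : ℤ) * j := by linarith
    refine Subtype.ext ?_
    rw [← hi, h3, zpow_mul, zpow_natCast, hγn, one_zpow]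
    rfl
  · -- odd primes other than the characteristic: cyclic Sylow subgroups
    obtain ⟨R⟩ := (inferInstance : Nonempty (Sylow r SL(2, F)))
    haveI := PSL2Sylow.isCyclic_sylow (F := F) p r hr2 hrp R
    set K := (R : Subgroup SL(2, F)).map π
    refine ⟨K.index, fun hd => ?_, kill_cyclic iso K ?_ hz hzc⟩
    · exact (R.mapSurjective π_surjective).not_dvd_index (by rw [Sylow.coe_mapSurjective]; exact hd)
    · exact isCyclic_of_surjective ((π : SL(2, F) →* _).subgroupMap (R : Subgroup SL(2, F)))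
        (MonoidHom.subgroupMap_surjective _ _)

omit hp in
/-- The derived group is a complement of the centre isomorphic to `PSL₂`. -/
theorem split (h4 : 4 ≤ Nat.card F) (hinf : ∀ z ∈ Subgroup.center G, z ∈ commutator G → z = 1) :
    ∃ N A : Subgroup G, N.Normal ∧ A ≤ Subgroup.center G ∧ N ⊓ A = ⊥ ∧ N ⊔ A = ⊤ ∧
      Nonempty (N ≃* Matrix.ProjectiveSpecialLinearGroup (Fin 2) F) := by
  refine ⟨commutator G, Subgroup.center G, inferInstance, le_rfl, ?_, ?_, ?_⟩
  · exact (Subgroup.eq_bot_iff_forall _).2 fun z hz => hinf z hz.2 hz.1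
  all_goals
    haveI := PSLSimple.isSimpleGroup_PSL_fin' (F := F) (n := 2) le_rfl fun _ => h4
    have hmap : (commutator G).map (iso.toMonoidHom.comp bar) = ⊤ := by
      rw [_root_.commutator_def, Subgroup.map_commutator, Subgroup.map_top_of_surjective _
        (iso.surjective.comp (QuotientGroup.mk'_surjective _)), ← _root_.commutator_def]
      refine (IsSimpleGroup.eq_bot_or_eq_top_of_normal (commutator _) inferInstance).resolve_left
        fun h => PSLSimple.not_isMulCommutative_PSL_fin (F := F) (n := 2) le_rfl (fun _ => h4) ?_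
      exact fun a b => commutatorElement_eq_one_iff_mul_comm.1 ((Subgroup.eq_bot_iff_forall _).1 h _
        (Subgroup.commutator_mem_commutator (Subgroup.mem_top a) (Subgroup.mem_top b)))
  · refine eq_top_iff.2 fun g _ => ?_
    obtain ⟨c, hc, e⟩ := hmap.symm ▸ Subgroup.mem_top (iso (bar g))
    obtain ⟨z, hz, rfl⟩ := TwoRegSizes38.bar_eq_bar.1 (iso.injective e.symm)
    exact mul_mem (Subgroup.mem_sup_right hz) (Subgroup.mem_sup_left hc)
  · refine ⟨MulEquiv.ofBijective ((iso.toMonoidHom.comp bar).comp (commutator G).subtype) ⟨?_, ?_⟩⟩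
    · refine (injective_iff_map_eq_one _).2 fun x hx => Subtype.ext (hinf x ?_ x.2)
      exact TwoRegSizes38.bar_eq_one.1 ((MulEquiv.map_eq_one_iff iso).1 hx)
    · intro y
      obtain ⟨c, hc, e⟩ := hmap.symm ▸ Subgroup.mem_top y
      exact ⟨⟨c, hc⟩, e⟩

end PSL

end Cfsg.Agent.ClassSizePSL72
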