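import Cfsg.Agent.Lib.ClassSizePSLOddMain72
import Cfsg.Agent.Lib.ClassSizePSLEven72
import Cfsg.Agent.Lib.ClassSizePSLSplit72
import Cfsg.Agent.S2507
import Cfsg.Agent.S2508

/-!
# Groups with the class sizes of `PSL₂(q)`
-/

set_option autoImplicit false

namespace Cfsg.Agent.ClassSizePSL72

open Cfsg.Agent.ClassSizeGraph76 (cs cls)
open Cfsg.Agent.TwoRegSizes38 (Cn IsPE mem_cn self_mem_cn bar)
open PSL2Elements PSL2Proj52 PSL2Classes52
open scoped MatrixGroups

variable {G : Type*} [Group G] [Finite G] {F : Type*} [Field F] [Fintype F]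

/-- The numerical data for `q` odd. -/
theorem exists_sizesOdd (hodd : ¬ 2 ∣ Fintype.card F) (h7 : 7 ≤ Fintype.card F)
    (h : Set.range (fun g : G => (Subgroup.centralizer ({g} : Set G)).index) = Set.range (fun g : (Matrix.ProjectiveSpecialLinearGroup (Fin 2) F) => (Subgroup.centralizer ({g} : Set (Matrix.ProjectiveSpecialLinearGroup (Fin 2) F))).index)) :
    ∃ p k a b : ℕ, CharP F p ∧ SizesOdd G p k (Fintype.card F) a b := by
  obtain ⟨p, hp⟩ := CharP.exists F
  obtain ⟨k, hpp, hk⟩ := FiniteField.card F p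
  obtain ⟨h1, h3⟩ := Cfsg.Agent.S2508.result (F := F) hodd h7
  generalize hq : Fintype.card F = q at hodd h7 hk h1 h3 ⊢
  have hev : ∀ x : G, cs x ∈ Set.range (fun g : G => (Subgroup.centralizer ({g} : Set G)).index) :=
    fun x => ⟨x, rfl⟩
  have hex : ∀ n : ℕ, n ∈ Set.range (fun g : G => (Subgroup.centralizer ({g} : Set G)).index) →
      ∃ x : G, cs x = n := fun n ⟨x, e⟩ => ⟨x, e⟩
  rcases (show q % 4 = 1 ∨ q % 4 = 3 by omega) with hm | hm
  · obtain ⟨m, rfl⟩ : ∃ m, q = 4 * m + 1 := ⟨q / 4, by omega⟩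
    have e1 : ((4 * m + 1) ^ 2 - 1) / 2 = 2 * (2 * m) * (2 * m + 1) := by
      rw [show (4 * m + 1) ^ 2 = 2 * (2 * (2 * m) * (2 * m + 1)) + 1 by ring, Nat.add_sub_cancel,
        Nat.mul_div_cancel_left _ two_pos]
    have e2 : (4 * m + 1) * (4 * m + 1 + 1) / 2 = (4 * m + 1) * (2 * m + 1) := by
      rw [show (4 * m + 1) * (4 * m + 1 + 1) = 2 * ((4 * m + 1) * (2 * m + 1)) by ring,
        Nat.mul_div_cancel_left _ two_pos]
    have e3 : (4 * m + 1) * (4 * m + 1 - 1) = 2 * (4 * m + 1) * (2 * m) := by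
      rw [Nat.add_sub_cancel]; ring
    have e4 : (4 * m + 1) * (4 * m + 1 + 1) = 2 * (4 * m + 1) * (2 * m + 1) := by ring
    have hset := h.trans (h1 hm)
    rw [e1, e2, e3, e4] at hset
    refine ⟨p, k, 2 * m, 2 * m + 1, hp,
      ⟨hpp, hk, h7, Or.inl ⟨by ring, rfl⟩, even_two_mul m, fun x => ?_, hex _ ?_, hex _ ?_, hex _ ?_,
        hex _ ?_⟩⟩
    · have := hev x
      rw [hset] at this
      simp only [Set.mem_insert_iff, Set.mem_singleton_iff] at this
      tauto
    all_goals rw [hset]; simp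
  · obtain ⟨m, rfl⟩ : ∃ m, q = 4 * m + 3 := ⟨q / 4, by omega⟩
    have e1 : ((4 * m + 3) ^ 2 - 1) / 2 = 2 * (2 * m + 2) * (2 * m + 1) := by
      rw [show (4 * m + 3) ^ 2 = 2 * (2 * (2 * m + 2) * (2 * m + 1)) + 1 by ring, Nat.add_sub_cancel,
        Nat.mul_div_cancel_left _ two_pos]
    have e2 : (4 * m + 3) * (4 * m + 3 - 1) / 2 = (4 * m + 3) * (2 * m + 1) := by
      rw [show 4 * m + 3 - 1 = 2 * (2 * m + 1) by omega,
        show (4 * m + 3) * (2 * (2 * m + 1)) = 2 * ((4 * m + 3) * (2 * m + 1)) by ring,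
        Nat.mul_div_cancel_left _ two_pos]
    have e3 : (4 * m + 3) * (4 * m + 3 + 1) = 2 * (4 * m + 3) * (2 * m + 2) := by ring
    have e4 : (4 * m + 3) * (4 * m + 3 - 1) = 2 * (4 * m + 3) * (2 * m + 1) := by
      rw [show 4 * m + 3 - 1 = 2 * (2 * m + 1) by omega]; ring
    have hset := h.trans (h3 hm)
    rw [e1, e2, e3, e4] at hset
    refine ⟨p, k, 2 * m + 2, 2 * m + 1, hp,
      ⟨hpp, hk, h7, Or.inr ⟨by ring, by ring⟩, ⟨m + 1, by ring⟩, fun x => ?_, hex _ ?_, hex _ ?_,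
        hex _ ?_, hex _ ?_⟩⟩
    · have := hev x
      rw [hset] at this
      simp only [Set.mem_insert_iff, Set.mem_singleton_iff] at this
      tauto
    all_goals rw [hset]; simp

/-- The numerical data for `q` even. -/
theorem exists_sizesEven (h2 : 2 ∣ Fintype.card F) (h4 : 4 ≤ Fintype.card F)
    (h : Set.range (fun g : G => (Subgroup.centralizer ({g} : Set G)).index) = Set.range (fun g : (Matrix.ProjectiveSpecialLinearGroup (Fin 2) F) => (Subgroup.centralizer ({g} : Set (Matrix.ProjectiveSpecialLinearGroup (Fin 2) F))).index)) :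
    ∃ k c : ℕ, CharP F 2 ∧ SizesEven G k (Fintype.card F) c := by
  obtain ⟨p, hp⟩ := CharP.exists F
  obtain ⟨k, hpp, hk⟩ := FiniteField.card F p
  obtain rfl : p = 2 := ((Nat.prime_dvd_prime_iff_eq Nat.prime_two hpp).1
    (Nat.prime_two.dvd_of_dvd_pow (hk ▸ h2))).symm
  have h1 := Cfsg.Agent.S2507.result (F := F) h2 h4
  generalize hq : Fintype.card F = q at h4 hk h1 ⊢
  obtain ⟨c, rfl⟩ : ∃ c, q = c + 1 := ⟨q - 1, by omega⟩
  have e1 : (c + 1) ^ 2 - 1 = c * (c + 1 + 1) := by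
    rw [show (c + 1) ^ 2 = c * (c + 1 + 1) + 1 by ring, Nat.add_sub_cancel]
  have hset := h.trans h1
  rw [Nat.add_sub_cancel, e1] at hset
  have hex : ∀ n : ℕ, n ∈ Set.range (fun g : G => (Subgroup.centralizer ({g} : Set G)).index) →
      ∃ x : G, cs x = n := fun n ⟨x, e⟩ => ⟨x, e⟩
  refine ⟨k, c, hp, ⟨hk, rfl, h4, fun x => ?_, hex _ ?_, hex _ ?_, hex _ ?_⟩⟩
  · have : cs x ∈ Set.range (fun g : G => (Subgroup.centralizer ({g} : Set G)).index) := ⟨x, rfl⟩
    rw [hset] at this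
    simp only [Set.mem_insert_iff, Set.mem_singleton_iff] at this
    tauto
  all_goals rw [hset]; simp

namespace SizesOdd

variable {p k a b : ℕ} (H : SizesOdd G p k (Fintype.card F) a b)
include H

theorem iso_field :
    Nonempty ((G ⧸ Subgroup.center G) ≃* Matrix.ProjectiveSpecialLinearGroup (Fin 2) F) := by
  obtain ⟨K, hK, hKf, hc, ⟨iso⟩⟩ := H.iso_psl
  refine ⟨iso.trans (PSLCard.pslEquivOfCard ?_)⟩
  rw [Nat.card_eq_fintype_card, hc, Nat.card_eq_fintype_card]

theorem comm_p {x y : G} (hne : bar x ≠ 1) (hpe : IsPE p (bar x))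
    (hc : bar y * bar x = bar x * bar y) : y * x = x * y := by
  obtain ⟨x₀, hx₀, hxe, -, h⟩ := H.lift H.prime hne hpe
  refine comm_lift H.prime hx₀ (fun hd => H.prime.ne_one ?_) hxe.symm hc
  have hp : p ∣ Fintype.card F := by
    rw [H.hq]
    exact dvd_pow_self p fun h0 => by
      have := H.hq
      rw [h0, pow_zero] at this
      have := H.seven
      omega
  rcases h with ⟨-, h2, -⟩ | ⟨-, -, hd'⟩ | ⟨-, -, hd'⟩ | ⟨-, -, hd'⟩
  · exact H.q_dvd_U hp (h2 ▸ hd)
  · exact H.q_dvd_U hp ((hd'.mul_left 2).mul_right b)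
  · exact H.q_dvd_U hp (hd'.mul_left (2 * a))
  · exact H.q_dvd_U hp (hd'.mul_right b)

theorem comm_two {x y : G} (ho : orderOf (bar x) = 2) (hc : bar y * bar x = bar x * bar y) :
    y * x = x * y := by
  classical
  obtain ⟨iso⟩ := H.iso_field
  have hoq := H.oddq
  have h2F : (2 : F) ≠ 0 := two_ne_of_odd (by rw [Nat.card_eq_fintype_card]; exact hoq)
  obtain ⟨t, ht⟩ := H.exI
  have hodd : Odd (cs t) := ht ▸ H.oddqb
  have htc : t ∉ Subgroup.center G := fun hcen => by
    have e := CaminaSizes63.cs_eq_one_iff.2 hcen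
    rw [ht] at e
    have := Nat.le_of_dvd one_pos (e ▸ dvd_mul_left b (Fintype.card F))
    have := H.three_le
    omega
  have hsize : Odd (size (iso (bar t))) := by
    have hle : (Cn t).map bar ≤ Cn (bar t) := by
      rintro _ ⟨g, hg, rfl⟩
      rw [mem_cn, ← map_mul, ← map_mul, mem_cn.1 hg]
    have hd : (Cn (bar t)).index ∣ cs t := by
      refine (Subgroup.index_dvd_of_le hle).trans (dvd_of_eq ?_)
      exact Subgroup.index_map_eq (H := Cn t) (f := bar (G := G)) (QuotientGroup.mk'_surjective _)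
        (by rw [QuotientGroup.ker_mk']; exact TwoRegSizes38.center_le_cn t)
    have he : size (iso (bar t)) = (Cn (bar t)).index := by
      rw [size, show Subgroup.centralizer ({iso (bar t)} : Set _) = (Cn (bar t)).map iso.toMonoidHom from ?_]
      · exact Subgroup.index_map_equiv _ iso
      · ext g
        rw [Subgroup.mem_centralizer_singleton_iff, Subgroup.mem_map_equiv, mem_cn]
        rw [← iso.symm.injective.eq_iff, map_mul, map_mul, MulEquiv.symm_apply_apply]
    rw [he]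
    exact Odd.of_dvd_nat hodd hd
  have hne : iso (bar t) ≠ 1 := fun h => htc (TwoRegSizes38.bar_eq_one.1 (iso.map_eq_one_iff.1 h))
  obtain ⟨B, hB⟩ := π_surjective (iso (bar x))
  have hBne : π B ≠ 1 := by
    rw [hB, Ne, MulEquiv.map_eq_one_iff]
    intro h
    rw [h, orderOf_one] at ho
    omega
  have hB0 : tr B = 0 := by
    have hsq : π B * π B = 1 := by
      have h2 : bar x ^ 2 = 1 := orderOf_dvd_iff_pow_eq_one.1 (dvd_of_eq ho)
      rw [hB, ← map_mul, ← pow_two, h2, map_one]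
    rw [← map_mul, π_eq_one, ← pow_two] at hsq
    rcases hsq with e | e
    · rcases eq_one_or_neg_one_of_sq_eq_one h2F e with e | e
      · exact absurd ((π_eq_one B).2 (Or.inl e)) hBne
      · exact absurd ((π_eq_one B).2 (Or.inr e)) hBne
    · exact (sq_eq_neg_one_iff B h2F).1 e
  obtain ⟨A, hA, hA0⟩ : ∃ A : SL(2, F), π A = iso (bar t) ∧ tr A = 0 := by
    obtain ⟨i, hi⟩ := hoq
    have h7 := H.seven
    have hd2 : Nat.gcd 2 (Nat.card F - 1) = 2 := by
      rw [Nat.card_eq_fintype_card]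
      exact Nat.gcd_eq_left ⟨i, by omega⟩
    rcases size_cases hne with e | ⟨A, hA, h4⟩
    · exfalso
      rw [e, hd2, Nat.card_eq_fintype_card, hi,
        show (2 * i + 1) ^ 2 = 2 * (2 * (i * (i + 1))) + 1 by ring, Nat.add_sub_cancel,
        Nat.mul_div_cancel_left _ two_pos] at hsize
      exact (Nat.not_even_iff_odd.2 hsize) (even_two_mul _)
    · refine ⟨A, hA, ?_⟩
      by_contra hne0
      rw [← hA] at hsize
      have hev : ∀ j : ℕ, size (π A) * (Nat.card F - 1) = Nat.card F * (Nat.card F ^ 2 - 1) ∨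
          size (π A) * (Nat.card F + 1) = Nat.card F * (Nat.card F ^ 2 - 1) → j = i → False := by
        intro j hj hji
        subst hji
        rw [Nat.card_eq_fintype_card, hi,
          show (2 * j + 1) ^ 2 = 2 * j * (2 * j + 2) + 1 by ring, Nat.add_sub_cancel,
          Nat.add_sub_cancel] at hj
        refine (Nat.not_even_iff_odd.2 hsize) ?_
        rcases hj with e | e
        · rw [Nat.eq_of_mul_eq_mul_right (show 0 < 2 * j by omega)
            (e.trans (show (2 * j + 1) * (2 * j * (2 * j + 2)) = (2 * ((2 * j + 1) * (j + 1))) * (2 * j) by ring))]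
          exact even_two_mul _
        · rw [Nat.eq_of_mul_eq_mul_right (show 0 < 2 * j + 1 + 1 by omega)
            (e.trans (show (2 * j + 1) * (2 * j * (2 * j + 2)) = (2 * ((2 * j + 1) * j)) * (2 * j + 1 + 1) by ring))]
          exact even_two_mul _
      obtain ⟨-, ⟨-, hk⟩ | ⟨-, hk⟩⟩ := centralizer_semisimple h4
      · exact hev i (Or.inl (size_semisimple hk (Or.inl hne0))) rfl
      · exact hev i (Or.inr (size_semisimple hk (Or.inl hne0))) rfl
  obtain ⟨g, hg⟩ := isConj_iff.1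
    ((isConj_w_of_tr_zero h2F hA0).trans (isConj_w_of_tr_zero h2F hB0).symm)
  obtain ⟨g₀, hg₀⟩ := QuotientGroup.mk'_surjective (Subgroup.center G) (iso.symm (π g))
  have hbar : bar (g₀ * t * g₀⁻¹) = bar x := by
    refine iso.injective ?_
    rw [map_mul, map_mul, map_inv, map_mul, map_mul, map_inv, hg₀, MulEquiv.apply_symm_apply, ← hA,
      ← map_inv, ← map_mul, ← map_mul, hg, hB]
  have h2pe : IsPE 2 (bar x) := ⟨1, by rw [ho, pow_one]⟩
  obtain ⟨x₀, hx₀, hxe, -⟩ := exists_lift Nat.prime_two h2pe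
  refine comm_lift Nat.prime_two hx₀ (fun hd => ?_) hxe.symm hc
  have e : cs x₀ = cs t := by
    rw [show cs x₀ = cs (g₀ * t * g₀⁻¹) from
      congrArg Subgroup.index (TwoRegSizes38.cn_eq_of_bar_eq (hxe.trans hbar.symm)),
      ClassSizeGraph76.cs_conj]
  exact (Nat.not_even_iff_odd.2 hodd) (even_iff_two_dvd.2 (e ▸ hd))

theorem split_odd [CharP F p] :
    ∃ N A : Subgroup G, N.Normal ∧ A ≤ Subgroup.center G ∧ N ⊓ A = ⊥ ∧ N ⊔ A = ⊤ ∧
      Nonempty (N ≃* Matrix.ProjectiveSpecialLinearGroup (Fin 2) F) := by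
  haveI := Fact.mk H.prime
  obtain ⟨iso⟩ := H.iso_field
  have hcard : 7 ≤ Nat.card F := by rw [Nat.card_eq_fintype_card]; exact H.seven
  exact split iso (by omega) fun z hz hzc =>
    center_inf_commutator iso p (fun x y h h' h'' => H.comm_p h h' h'')
      (fun _ x y h h' => H.comm_two h h') (fun _ => hcard) hz hzc

end SizesOdd

namespace SizesEven

variable {k c : ℕ} (H : SizesEven G k (Fintype.card F) c)
include H

theorem split_even [CharP F 2] :
    ∃ N A : Subgroup G, N.Normal ∧ A ≤ Subgroup.center G ∧ N ⊓ A = ⊥ ∧ N ⊔ A = ⊤ ∧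
      Nonempty (N ≃* Matrix.ProjectiveSpecialLinearGroup (Fin 2) F) := by
  haveI := Fact.mk Nat.prime_two
  obtain ⟨iso⟩ := H.iso_psl F (Nat.card_eq_fintype_card)
  have h2 : (2 : F) = 0 := CharTwo.two_eq_zero
  refine split iso (by rw [Nat.card_eq_fintype_card]; exact H.four) fun z hz hzc =>
    center_inf_commutator iso 2 (fun x y hne hpe hcc => ?_) (fun h => absurd h2 h)
      (fun h => absurd h2 h) hz hzc
  obtain ⟨x₀, hx₀, hxe, -⟩ := exists_lift Nat.prime_two hpe
  have hxc : x₀ ∉ Subgroup.center G := fun h => hne (hxe ▸ TwoRegSizes38.bar_eq_one.2 h)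
  have hd : 2 ∣ rho x₀ := by
    obtain ⟨j, hj⟩ := hxe ▸ hpe
    refine dvd_trans ?_ (orderOf_bar_dvd_rho x₀)
    rw [hj]
    refine dvd_pow_self 2 fun h0 => hne ?_
    rw [← hxe]
    exact orderOf_eq_one_iff.1 (by rw [hj, h0, pow_zero])
  refine comm_lift Nat.prime_two hx₀ (fun hd' => ?_) hxe.symm hcc
  rcases H.rho_vals hxc with ⟨-, e⟩ | ⟨e, -⟩ | ⟨e, -⟩
  · exact (Nat.not_even_iff_odd.2 (H.odd_c.mul H.odd_q1)) (even_iff_two_dvd.2 (e ▸ hd'))
  · exact (Nat.not_even_iff_odd.2 H.odd_c) (even_iff_two_dvd.2 (e ▸ hd))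
  · exact (Nat.not_even_iff_odd.2 H.odd_q1) (even_iff_two_dvd.2 (e ▸ hd))

end SizesEven

end Cfsg.Agent.ClassSizePSL72
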