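import Cfsg.Prelude
import Cfsg.Agent.Lib.CaminaSizes63Core
import Cfsg.Agent.Lib.ClassSizePSLCount72
import Cfsg.Agent.S0205

/-!
# Unique Sylow subgroups in centralizers, and TI self-centralizing Sylow subgroups
-/

set_option autoImplicit false

namespace Cfsg.Agent.ClassSizePSL72

open Cfsg.Agent.TwoRegSizes38 (Cn IsPE mem_cn)
open Cfsg.Agent.CaminaSizes63 (mem_cn_symm)

variable {Γ : Type*} [Group Γ] [Finite Γ]

/-- A centralizer of index prime to `r` whose `r'`-parts commute with its `r`-parts contains exactly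
one Sylow `r`-subgroup. -/
theorem unique_sylow {r : ℕ} [hr : Fact r.Prime] {v : Γ} (hidx : ¬ r ∣ (Cn v).index)
    (hcomm : ∀ s : ℕ, s.Prime → s ≠ r → ∀ w ∈ Cn v, IsPE s w → ∀ g ∈ Cn v, IsPE r g →
      g * w = w * g) :
    ∃ Q : Sylow r Γ, (Q : Subgroup Γ) ≤ Cn v ∧
      ∀ Q' : Sylow r Γ, (Q' : Subgroup Γ) ≤ Cn v → Q' = Q := by
  obtain ⟨Q, hQ⟩ := ClassSizeGraph76.exists_sylow_le hidx
  refine ⟨Q, hQ, fun Q' hQ' => ?_⟩
  -- `N` is the normalizer of `Q` inside the centralizer
  set C := Cn v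
  set Qc := (Q : Subgroup Γ).subgroupOf C
  have htop : Subgroup.normalizer (Qc : Set C) = ⊤ := by
    refine ClassSizeGraph76.eq_top_of_sylow_le _ fun s hs _ => ?_
    by_cases hsr : s = r
    · subst hsr
      refine ⟨Q.subtype hQ, ?_⟩
      rw [Sylow.coe_subtype]
      exact Subgroup.le_normalizer
    · obtain ⟨S⟩ := (inferInstance : Nonempty (Sylow s C))
      refine ⟨S, fun w hw => Subgroup.mem_normalizer_iff.2 fun x => ?_⟩
      have hwp : IsPE s (w : Γ) := by
        obtain ⟨j, hj⟩ := IsPE.of_mem_pgroup S.2 hw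
        exact ⟨j, (Subgroup.orderOf_coe w).trans hj⟩
      have key : ∀ g : C, g ∈ Qc → w * g * w⁻¹ = g := by
        intro g hg
        have h := hcomm s hs hsr w w.2 hwp g g.2 (IsPE.of_mem_pgroup Q.2 hg)
        exact Subtype.ext (by push_cast; rw [← h, mul_inv_cancel_right])
      constructor
      · intro hx
        rwa [key x hx]
      · intro hx
        have h := key _ hx
        have e : w * x * w⁻¹ = x := mul_left_cancel (mul_right_cancel h)
        rwa [e] at hx
  haveI : (Q.subtype hQ : Subgroup C).Normal := by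
    rw [Sylow.coe_subtype]
    exact Subgroup.normalizer_eq_top_iff.1 htop
  have := Sylow.unique_of_normal (Q.subtype hQ) inferInstance
  have e : Q'.subtype hQ' = Q.subtype hQ := Subsingleton.elim _ _
  exact Sylow.subtype_injective e

section TI

variable {p q : ℕ} [hp : Fact p.Prime] (hsyl : ∀ P : Sylow p Γ, Nat.card (P : Subgroup Γ) = q)
  (hq : Odd q) (hc : ∀ v : Γ, v ≠ 1 → IsPE p v → Nat.card (Cn v) = q)
  (hinv : ∀ (r : ℕ) (R : Subgroup Γ), r.Prime → r ≠ 2 → r ≠ p → IsPGroup r R → R ≠ ⊥ →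
    ∀ y : Γ, y ∈ Subgroup.normalizer (R : Set Γ) → IsPE p y → y = 1)
include hsyl hq hc

theorem not_two {t v : Γ} (ht : orderOf t = 2) (hv1 : v ≠ 1) (hv : IsPE p v) : t ∉ Cn v := by
  intro h
  have h2 := Subgroup.orderOf_dvd_natCard _ h
  rw [ht, hc v hv1 hv] at h2
  exact (Nat.not_even_iff_odd.2 hq) (even_iff_two_dvd.2 h2)

include hinv in
theorem disjoint (P Q : Sylow p Γ) (hne : P ≠ Q) : (P : Subgroup Γ) ⊓ (Q : Subgroup Γ) = ⊥ := by
  classical
  by_contra hbad
  obtain ⟨⟨P, Q⟩, ⟨hne, hD1⟩, hmax⟩ := Set.exists_max_image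
    {x : Sylow p Γ × Sylow p Γ | x.1 ≠ x.2 ∧ (x.1 : Subgroup Γ) ⊓ (x.2 : Subgroup Γ) ≠ ⊥}
    (fun x => Nat.card ↥((x.1 : Subgroup Γ) ⊓ (x.2 : Subgroup Γ))) (Set.toFinite _)
    ⟨(P, Q), hne, hbad⟩
  dsimp only at hne hD1 hmax
  set D := (P : Subgroup Γ) ⊓ (Q : Subgroup Γ) with hD
  set N := Subgroup.normalizer (D : Set Γ) with hN
  have hgrow : ∀ R R' : Sylow p Γ, R ≠ R' → D = (R : Subgroup Γ) ⊓ (R' : Subgroup Γ) →
      D < (R : Subgroup Γ) ⊓ N := by
    intro R R' hRR hDR
    have hle : D ≤ (R : Subgroup Γ) := hDR.le.trans inf_le_left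
    refine lt_of_le_of_ne (le_inf hle Subgroup.le_normalizer) fun heq => ?_
    have hlt : D.subgroupOf (R : Subgroup Γ) < ⊤ := by
      refine lt_top_iff_ne_top.2 fun h => ?_
      have hRle : (R : Subgroup Γ) ≤ (R' : Subgroup Γ) := by
        have := Subgroup.subgroupOf_eq_top.1 h
        exact this.trans (hDR.le.trans inf_le_right)
      exact hRR (Sylow.ext (R.3 R'.2 hRle).symm)
    haveI := R.2.isNilpotent
    obtain ⟨x, hx, hxD⟩ := SetLike.exists_of_lt (Group.normalizerCondition_of_isNilpotent _ hlt)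
    refine hxD (Subgroup.mem_subgroupOf.2 ?_)
    rw [heq]
    refine ⟨x.2, Subgroup.mem_normalizer_iff.2 fun g => ⟨fun hg => ?_, fun hg => ?_⟩⟩
    · exact (Subgroup.mem_normalizer_iff.1 hx ⟨g, hle hg⟩).1 hg
    · have hgR : g ∈ (R : Subgroup Γ) := by
        have := mul_mem (mul_mem (inv_mem x.2) (hle hg)) x.2
        simpa [mul_assoc] using this
      exact (Subgroup.mem_normalizer_iff.1 hx ⟨g, hgR⟩).2 hg
  have hX : ∀ X : Subgroup Γ, IsPGroup p X → X ≤ N → N ≤ Subgroup.normalizer (X : Set Γ) → X ≤ D := by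
    intro X hXp hXN hNX
    have key : ∀ R R' : Sylow p Γ, R ≠ R' → D = (R : Subgroup Γ) ⊓ (R' : Subgroup Γ) →
        X ≤ (R : Subgroup Γ) := by
      intro R R' hRR hDR
      set T := (R : Subgroup Γ) ⊓ N
      have hTp : IsPGroup p T := R.2.to_le inf_le_left
      obtain ⟨P', hP'⟩ := (IsPGroup.to_sup_of_normal_right' hTp hXp
        (inf_le_right.trans hNX)).exists_le_sylow
      have : P' = R := by
        by_contra hPR
        have h1 : D < (P' : Subgroup Γ) ⊓ (R : Subgroup Γ) :=
          (hgrow R R' hRR hDR).trans_le (le_inf (le_sup_left.trans hP') inf_le_left)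
        have h2 := hmax (P', R) ⟨hPR, ne_bot_of_gt h1⟩
        exact h1.ne (Subgroup.eq_of_le_of_card_ge h1.le h2)
      exact this ▸ le_sup_right.trans hP'
    exact le_inf (key P Q hne rfl) (key Q P hne.symm (inf_comm _ _))
  set T := (P : Subgroup Γ) ⊓ N with hT
  have hDT : D < T := hgrow P Q hne rfl
  have hDp : IsPGroup p D := P.2.to_le inf_le_left
  haveI : Nontrivial D := (Subgroup.nontrivial_iff_ne_bot _).2 hD1
  set V := zc D with hV
  obtain ⟨v₀, hv₀, hv₀1⟩ : ∃ v ∈ V, v ≠ (1 : Γ) := by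
    haveI := hDp.center_nontrivial
    obtain ⟨⟨z, hz⟩, hz1⟩ := exists_ne (1 : Subgroup.center D)
    refine ⟨z, ⟨z.2, Subgroup.mem_centralizer_iff.2 fun k hk => ?_⟩, fun h => hz1 ?_⟩
    · exact congrArg Subtype.val (Subgroup.mem_center_iff.1 hz ⟨k, hk⟩)
    · exact Subtype.ext (Subtype.ext h)
  have hv₀p : IsPE p v₀ := IsPE.of_mem_pgroup hDp hv₀.1
  have hNV : ∀ g ∈ N, ∀ w ∈ V, g * w * g⁻¹ ∈ V := by
    intro g hg w hw
    refine ⟨(Subgroup.mem_normalizer_iff.1 hg w).1 hw.1,
      Subgroup.mem_centralizer_iff.2 fun k hk => ?_⟩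
    have hk' : g⁻¹ * k * g ∈ D := by
      have := (Subgroup.mem_normalizer_iff.1 (inv_mem hg) k).1 hk
      simpa using this
    have h := Subgroup.mem_centralizer_iff.1 hw.2 _ hk'
    calc k * (g * w * g⁻¹) = g * (g⁻¹ * k * g * w) * g⁻¹ := by group
      _ = g * (w * (g⁻¹ * k * g)) * g⁻¹ := by rw [h]
      _ = g * w * g⁻¹ * k := by group
  have hTN : T ≤ N := inf_le_right
  rcases Nat.even_or_odd (Nat.card N) with he | ho
  · haveI := Fact.mk Nat.prime_two
    obtain ⟨⟨t, htN⟩, ht⟩ := exists_prime_orderOf_dvd_card' (G := N) 2 (even_iff_two_dvd.1 he)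
    rw [Subgroup.orderOf_mk] at ht
    have invert : ∀ s : Γ, s ∈ N → orderOf s = 2 → ∀ w ∈ V, s * w * s⁻¹ = w⁻¹ := by
      intro s hsN hs w hw
      have hsw := hNV s hsN w hw
      have hs2 : s * s = 1 := by rw [← pow_two, ← hs]; exact pow_orderOf_eq_one s
      have hm : w * (s * w * s⁻¹) ∈ V := mul_mem hw hsw
      by_contra hne'
      have h1 : w * (s * w * s⁻¹) ≠ 1 := fun h => hne' (eq_inv_of_mul_eq_one_right h)
      refine not_two hsyl hq hc hs h1 (IsPE.of_mem_pgroup hDp hm.1) (mem_cn.2 ?_)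
      have hc' : w * (s * w * s⁻¹) = s * w * s⁻¹ * w :=
        Subgroup.mem_centralizer_iff.1 hsw.2 w hw.1
      have hsi : s⁻¹ = s := inv_eq_of_mul_eq_one_right hs2
      conv_rhs => rw [hc']
      rw [hsi]
      calc s * (w * (s * w * s)) = s * w * (s * w) * s := by group
        _ = s * w * s * w * s := by group
    obtain ⟨y, hyT, hyD⟩ := SetLike.exists_of_lt hDT
    set c := y * t * y⁻¹ with hcdef
    have hco : orderOf c = 2 := by
      rw [hcdef, ← ht]; exact MulEquiv.orderOf_eq (MulAut.conj y) t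
    have hcN : c ∈ N := mul_mem (mul_mem (hTN hyT) htN) (inv_mem (hTN hyT))
    have hti : t⁻¹ = t := inv_eq_of_mul_eq_one_right (by rw [← pow_two, ← ht]; exact pow_orderOf_eq_one t)
    have hci : c⁻¹ = c := inv_eq_of_mul_eq_one_right (by rw [← pow_two, ← hco]; exact pow_orderOf_eq_one c)
    set d' := t * c with hd'
    have hd'D : d' ∈ D := by
      refine hX (N ⊓ Subgroup.centralizer (V : Set Γ)) ?_ inf_le_left ?_ ⟨mul_mem htN hcN, ?_⟩
      · have hle : N ⊓ Subgroup.centralizer (V : Set Γ) ≤ Cn v₀ := inf_le_right.trans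
          (Subgroup.centralizer_le (Set.singleton_subset_iff.2 hv₀))
        refine IsPGroup.to_le ?_ hle
        obtain ⟨k, hk⟩ := P.2.exists_card_eq
        exact IsPGroup.of_card (n := k) (by rw [hc v₀ hv₀1 hv₀p, ← hsyl P, hk])
      · intro g hg
        refine Subgroup.mem_normalizer_iff.2 fun x => ?_
        have hK : ∀ a : Γ, a ∈ N → ∀ b : Γ, b ∈ N ⊓ Subgroup.centralizer (V : Set Γ) →
            a * b * a⁻¹ ∈ N ⊓ Subgroup.centralizer (V : Set Γ) := by
          intro a ha b hb
          refine Subgroup.mem_inf.2 ⟨mul_mem (mul_mem ha (Subgroup.mem_inf.1 hb).1) (inv_mem ha),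
            Subgroup.mem_centralizer_iff.2 fun w hw => ?_⟩
          have hw' := hNV a⁻¹ (inv_mem ha) w hw
          rw [inv_inv] at hw'
          have h := Subgroup.mem_centralizer_iff.1 (Subgroup.mem_inf.1 hb).2 _ hw'
          calc w * (a * b * a⁻¹) = a * (a⁻¹ * w * a * b) * a⁻¹ := by group
            _ = a * (b * (a⁻¹ * w * a)) * a⁻¹ := by rw [h]
            _ = a * b * a⁻¹ * w := by group
        refine ⟨fun hx => hK g hg x hx, fun hx => ?_⟩
        have := hK g⁻¹ (inv_mem hg) _ hx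
        simpa [mul_assoc] using this
      · refine Subgroup.mem_centralizer_iff.2 fun w hw => ?_
        have h1 := invert c hcN hco w hw
        have h2 := invert t htN ht w⁻¹ (inv_mem hw)
        rw [inv_inv] at h2
        have : d' * w * d'⁻¹ = w := by
          calc d' * w * d'⁻¹ = t * (c * w * c⁻¹) * t⁻¹ := by rw [hd']; group
            _ = w := by rw [h1, h2]
        exact (mul_inv_eq_iff_eq_mul.1 this).symm
    have hd'o : (2 : ℕ).Coprime (orderOf d') := by
      obtain ⟨j, hj⟩ := IsPE.of_mem_pgroup hDp hd'D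
      rw [hj]
      refine Nat.Coprime.pow_right j ?_
      refine Nat.coprime_two_left.2 (hp.out.odd_of_ne_two fun h2 => ?_)
      have hd2 := Subgroup.orderOf_dvd_natCard _ (hv₀.1.1 : v₀ ∈ (P : Subgroup Γ))
      rw [hsyl P] at hd2
      obtain ⟨i, hi⟩ := hv₀p
      have hi0 : i ≠ 0 := by
        rintro rfl
        exact hv₀1 (orderOf_eq_one_iff.1 (by rw [hi, pow_zero]))
      rw [hi, h2] at hd2
      exact (Nat.not_even_iff_odd.2 hq) (even_iff_two_dvd.2 ((dvd_pow_self 2 hi0).trans hd2))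
    obtain ⟨m, hm⟩ := exists_pow_eq_self_of_coprime hd'o
    set d := d' ^ m with hd
    have hd2 : d * d = d' := by
      rw [← pow_two, hd, ← pow_mul, mul_comm, pow_mul]; exact hm
    have htd : t * d * t⁻¹ = d⁻¹ := by
      rw [hd, ← conj_pow, ← inv_pow]
      congr 1
      rw [hd', mul_inv_rev, hci, hti, ← mul_assoc,
        show t * t = 1 from by rw [← pow_two, ← ht]; exact pow_orderOf_eq_one t, one_mul]
    have hdD : d ∈ D := pow_mem hd'D m
    have hzT : d * y ∈ T := mul_mem (hDT.le hdD) hyT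
    have hz1 : d * y ≠ 1 := fun h => hyD (by rw [eq_inv_of_mul_eq_one_right h]; exact inv_mem hdD)
    refine not_two hsyl hq hc ht hz1 (IsPE.of_mem_pgroup P.2 hzT.1) (mem_cn.2 ?_)
    have e : d * y * t * (d * y)⁻¹ = t := by
      have htc : c = t * d' := by
        rw [hd', ← mul_assoc, show t * t = 1 from by rw [← pow_two, ← ht]; exact pow_orderOf_eq_one t,
          one_mul]
      calc d * y * t * (d * y)⁻¹ = d * (y * t * y⁻¹) * d⁻¹ := by group
        _ = d * (t * d') * d⁻¹ := by rw [← hcdef, htc]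
        _ = t * ((t * d * t⁻¹) * d') * d⁻¹ := by
          have htt : t * t = 1 := by rw [← pow_two, ← ht]; exact pow_orderOf_eq_one t
          calc d * (t * d') * d⁻¹ = (t * t) * d * t * d' * d⁻¹ := by rw [htt]; group
            _ = t * ((t * d * t⁻¹) * d') * d⁻¹ := by rw [hti]; group
        _ = t := by rw [htd, ← hd2]; group
    exact (mul_inv_eq_iff_eq_mul.1 e).symm
  · haveI hsol : Group.IsSolvable N := Cfsg.Agent.S0205.result ho
    set DN := D.subgroupOf N with hDN
    haveI : DN.Normal := Subgroup.normal_subgroupOf_of_le_normalizer le_rfl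
    haveI : Group.IsSolvable (N ⧸ DN) := inferInstance
    obtain ⟨A, hAn, hA1, hAc⟩ : ∃ A : Subgroup (N ⧸ DN), A.Normal ∧ A ≠ ⊥ ∧
        ∀ a ∈ A, ∀ b ∈ A, a * b = b * a := by
      have hne' : Nontrivial (N ⧸ DN) := by
        obtain ⟨y, hyT, hyD⟩ := SetLike.exists_of_lt hDT
        refine ⟨⟨QuotientGroup.mk' DN ⟨y, hTN hyT⟩, 1, fun h => hyD ?_⟩⟩
        exact Subgroup.mem_subgroupOf.1 ((QuotientGroup.eq_one_iff _).1 h)
      obtain ⟨n, hn⟩ := Group.IsSolvable.solvable (G := N ⧸ DN)
      induction n with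
      | zero => exact absurd hn (by simp [derivedSeries_zero])
      | succ n ih =>
        by_cases h : derivedSeries (N ⧸ DN) n = ⊥
        · exact ih h
        · refine ⟨derivedSeries (N ⧸ DN) n, derivedSeries_normal _ n, h, fun a ha b hb => ?_⟩
          rw [derivedSeries_succ] at hn
          exact Subgroup.mem_centralizer_iff.1
            (Subgroup.commutator_eq_bot_iff_le_centralizer.1 hn hb) a ha
    set φ := QuotientGroup.mk' DN with hφ
    have hker : IsPGroup p φ.ker := by
      rw [hφ, QuotientGroup.ker_mk', hDN]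
      exact hDp.comap_of_injective N.subtype N.subtype_injective
    have hAp : ¬ p ∣ Nat.card A := by
      intro hd
      obtain ⟨⟨a, haA⟩, ha⟩ := exists_prime_orderOf_dvd_card' p hd
      let Ap : Subgroup (N ⧸ DN) :=
        { carrier := {x | x ∈ A ∧ ∃ j : ℕ, x ^ p ^ j = 1}
          one_mem' := ⟨one_mem _, 0, by simp⟩
          mul_mem' := by
            rintro x y ⟨hx, i, hi⟩ ⟨hy, j, hj⟩
            refine ⟨mul_mem hx hy, i + j, ?_⟩
            have hc' : Commute x y := hAc x hx y hy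
            rw [hc'.mul_pow, pow_add, pow_mul, hi, one_pow, mul_comm (p ^ i), pow_mul, hj, one_pow,
              one_mul]
          inv_mem' := by
            rintro x ⟨hx, i, hi⟩
            exact ⟨inv_mem hx, i, by rw [inv_pow, hi, inv_one]⟩ }
      have hApn : Ap.Normal := ⟨fun x ⟨hx, i, hi⟩ g =>
        ⟨hAn.conj_mem x hx g, i, by rw [conj_pow, hi, mul_one, mul_inv_cancel]⟩⟩
      have hApp : IsPGroup p Ap := fun x => by
        obtain ⟨-, i, hi⟩ := x.2
        exact ⟨i, Subtype.ext (by simpa using hi)⟩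
      have hXp : IsPGroup p ((Ap.comap φ).map N.subtype) :=
        (hApp.comap_of_ker_isPGroup φ hker).map _
      have hnX : N ≤ Subgroup.normalizer (((Ap.comap φ).map N.subtype : Subgroup Γ) : Set Γ) := by
        haveI := hApn
        haveI : (Ap.comap φ).Normal := Subgroup.Normal.comap hApn φ
        have h := Subgroup.le_normalizer_map (H := Ap.comap φ) N.subtype
        rwa [Subgroup.normalizer_eq_top, ← MonoidHom.range_eq_map, Subgroup.range_subtype] at h
      have := hX _ hXp (Subgroup.map_subtype_le _) hnX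
      obtain ⟨g, hg⟩ := QuotientGroup.mk'_surjective DN a
      have hgA : g ∈ Ap.comap φ := by
        rw [Subgroup.mem_comap, hφ, hg]
        refine ⟨haA, 1, ?_⟩
        have := congrArg Subtype.val (pow_orderOf_eq_one (⟨a, haA⟩ : A))
        rw [ha] at this
        simpa using this
      have hgD : g ∈ DN := Subgroup.mem_subgroupOf.2 (this ⟨g, hgA, rfl⟩)
      have : a = 1 := by rw [← hg]; exact (QuotientGroup.eq_one_iff _).2 hgD
      subst this
      rw [show (⟨1, haA⟩ : A) = 1 from rfl, orderOf_one] at ha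
      exact hp.out.ne_one ha.symm
    have hA1' : Nat.card A ≠ 1 := fun h => hA1 (Subgroup.card_eq_one.1 h)
    obtain ⟨r, hr, hrA⟩ := Nat.exists_prime_and_dvd hA1'
    have hrp : r ≠ p := fun h => hAp (h ▸ hrA)
    set X := A.comap φ with hXdef
    haveI : X.Normal := Subgroup.Normal.comap hAn φ
    have hXcard : Nat.card X = Nat.card DN * Nat.card A := by
      have h := Subgroup.card_mul_index (A.comap φ)
      rw [Subgroup.index_comap_of_surjective A (QuotientGroup.mk'_surjective DN)] at h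
      have h2 := A.card_mul_index
      have h3 := Subgroup.card_eq_card_quotient_mul_card_subgroup DN
      refine Nat.eq_of_mul_eq_mul_right (Nat.pos_of_ne_zero Subgroup.index_ne_zero_of_finite : 0 < A.index) ?_
      rw [h, h3, ← h2]; ring
    haveI := Fact.mk hr
    obtain ⟨R⟩ := (inferInstance : Nonempty (Sylow r X))
    set NR := Subgroup.normalizer (((R : Subgroup X).map X.subtype : Subgroup N) : Set N)
    have hsup : NR ⊔ X = ⊤ := Sylow.normalizer_sup_eq_top R
    have hTdvd : Nat.card T ∣ Nat.card N := Subgroup.card_dvd_of_le hTN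
    have hpNR : p ∣ Nat.card NR := by
      by_contra hnd
      have hsurj : Nat.card (N ⧸ X) ∣ Nat.card NR := by
        refine Subgroup.card_dvd_of_surjective ((QuotientGroup.mk' X).domRestrict NR) fun c => ?_
        obtain ⟨g, rfl⟩ := QuotientGroup.mk'_surjective X c
        obtain ⟨a, ha, b, hb, rfl⟩ := Subgroup.mem_sup_of_normal_right.1
          (hsup ▸ Subgroup.mem_top g : g ∈ NR ⊔ X)
        refine ⟨⟨a, ha⟩, ?_⟩
        show QuotientGroup.mk' X a = _
        rw [map_mul, show QuotientGroup.mk' X b = 1 from (QuotientGroup.eq_one_iff b).2 hb, mul_one]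
      obtain ⟨i, hi⟩ : ∃ i, Nat.card T = p ^ i := (P.2.to_le (inf_le_left : T ≤ _)).exists_card_eq
      have h1 : Nat.card T ∣ Nat.card NR * (Nat.card DN * Nat.card A) := by
        rw [← hXcard]
        exact hTdvd.trans ((Subgroup.card_eq_card_quotient_mul_card_subgroup X).symm ▸
          Nat.mul_dvd_mul_right hsurj _)
      rw [hi] at h1
      have h2 := ((hp.out.coprime_iff_not_dvd.2 hnd).pow_left i).dvd_of_dvd_mul_left h1
      have h3 := ((hp.out.coprime_iff_not_dvd.2 hAp).pow_left i).dvd_of_dvd_mul_right h2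
      rw [← hi, hDN, Nat.card_congr (Subgroup.subgroupOfEquivOfLe Subgroup.le_normalizer).toEquiv]
        at h3
      have hlt : Nat.card D < Nat.card T := by
        refine lt_of_le_of_ne (Subgroup.card_le_of_le hDT.le) fun h => hDT.ne ?_
        exact Subgroup.eq_of_le_of_card_ge hDT.le h.ge
      have := Nat.le_of_dvd Nat.card_pos h3
      omega
    obtain ⟨⟨y, hy⟩, hyo⟩ := exists_prime_orderOf_dvd_card' p hpNR
    have hr2 : r ≠ 2 := by
      rintro rfl
      have h1 : Nat.card A ∣ Nat.card (N ⧸ DN) := Subgroup.card_subgroup_dvd_card A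
      have h2 : Nat.card (N ⧸ DN) ∣ Nat.card N := by
        rw [Subgroup.card_eq_card_quotient_mul_card_subgroup DN]; exact Dvd.intro _ rfl
      exact (Nat.not_even_iff_odd.2 ho) (even_iff_two_dvd.2 (hrA.trans (h1.trans h2)))
    set R' := ((R : Subgroup X).map X.subtype).map N.subtype
    have hR'1 : R' ≠ ⊥ := by
      intro h
      rw [Subgroup.map_eq_bot_iff_of_injective _ N.subtype_injective,
        Subgroup.map_eq_bot_iff_of_injective _ X.subtype_injective] at h
      have hd : r ∣ Nat.card (R : Subgroup X) := R.dvd_card_of_dvd_card (by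
        rw [hXcard]; exact dvd_mul_of_dvd_right hrA _)
      rw [h, Subgroup.card_bot] at hd
      exact hr.ne_one (Nat.dvd_one.1 hd)
    have hy1 : (y : Γ) = 1 := by
      refine hinv r R' hr hr2 hrp ((R.2.map _).map _) hR'1 _
        (Subgroup.le_normalizer_map N.subtype ⟨y, hy, rfl⟩) ⟨1, ?_⟩
      rw [pow_one, ← hyo, Subgroup.orderOf_mk]
      exact Subgroup.orderOf_coe y
    have : (⟨y, hy⟩ : NR) = 1 := Subtype.ext (Subtype.ext hy1)
    rw [this, orderOf_one] at hyo
    exact hp.out.ne_one hyo.symm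

include hinv in
/-- The Sylow subgroups are self-centralizing TI subgroups. -/
theorem cent_eq (P : Sylow p Γ) {v : Γ} (hv : v ∈ (P : Subgroup Γ)) (hv1 : v ≠ 1) :
    Cn v = (P : Subgroup Γ) := by
  have hvp : IsPE p v := IsPE.of_mem_pgroup P.2 hv
  obtain ⟨k, hk⟩ := P.2.exists_card_eq
  have hcp : IsPGroup p (Cn v) := IsPGroup.of_card (n := k) (by rw [hc v hv1 hvp, ← hsyl P, hk])
  obtain ⟨Q, hQ⟩ := hcp.exists_le_sylow
  have he : Cn v = (Q : Subgroup Γ) :=
    Subgroup.eq_of_le_of_card_ge hQ (by rw [hsyl Q, hc v hv1 hvp])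
  by_contra hne
  have hPQ : P ≠ Q := fun h => hne (h ▸ he)
  have hm : v ∈ (P : Subgroup Γ) ⊓ (Q : Subgroup Γ) := ⟨hv, he ▸ TwoRegSizes38.self_mem_cn v⟩
  rw [disjoint hsyl hq hc hinv P Q hPQ, Subgroup.mem_bot] at hm
  exact hv1 hm

end TI

end Cfsg.Agent.ClassSizePSL72
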