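import Cfsg.Agent.Lib.ClassSizePSLBasic72
import Cfsg.Agent.Lib.ClassSizePSLLocal72
import Cfsg.Agent.Lib.ClassSizePSLZass72

/-!
# Groups with the class sizes of `PSL₂(q)`, `q` odd
-/

set_option autoImplicit false

namespace Cfsg.Agent.ClassSizePSL72

open Cfsg.Agent.ClassSizeGraph76 (cs cls)
open Cfsg.Agent.TwoRegSizes38 (Cn IsPE mem_cn self_mem_cn bar)
open Cfsg.Agent.CaminaSizes63 (cs_eq_one_iff)

/-- The class sizes of `PSL₂(q)`, `q = p ^ k` odd, with `a` even and `b` odd the torus orders. -/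
structure SizesOdd (G : Type*) [Group G] (p k q a b : ℕ) : Prop where
  prime : p.Prime
  hq : q = p ^ k
  seven : 7 ≤ q
  rel : (q = 2 * a + 1 ∧ b = a + 1) ∨ (q + 1 = 2 * a ∧ b + 1 = a)
  evenA : Even a
  vals : ∀ x : G, cs x = 1 ∨ cs x = 2 * a * b ∨ cs x = 2 * q * b ∨ cs x = 2 * q * a ∨ cs x = q * b
  exU : ∃ x : G, cs x = 2 * a * b
  exA : ∃ x : G, cs x = 2 * q * b
  exB : ∃ x : G, cs x = 2 * q * a
  exI : ∃ x : G, cs x = q * b

namespace SizesOdd

variable {G : Type*} [Group G] {p k q a b : ℕ} (H : SizesOdd G p k q a b)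
include H

theorem oddq : Odd q := by
  rcases H.rel with ⟨h, -⟩ | ⟨h, -⟩
  · exact ⟨a, h⟩
  · have := H.seven
    exact ⟨a - 1, by omega⟩

theorem oddB : Odd b := by
  obtain ⟨c, hc⟩ := H.evenA
  rcases H.rel with ⟨-, h⟩ | ⟨h1, h⟩
  · exact ⟨c, by omega⟩
  · have := H.seven
    exact ⟨c - 1, by omega⟩

theorem four_le : 4 ≤ a := by
  obtain ⟨c, hc⟩ := H.evenA
  have := H.seven
  rcases H.rel with ⟨h, -⟩ | ⟨h, -⟩ <;> omega

theorem three_le : 3 ≤ b := by
  have := H.four_le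
  rcases H.rel with ⟨-, h⟩ | ⟨-, h⟩ <;> omega

theorem four_ab : 4 * (a * b) + 1 = q * q := by
  rcases H.rel with ⟨h, h'⟩ | ⟨h, h'⟩
  · subst h h'; ring
  · have e1 : (q + 1) * (q + 1) = 4 * (a * a) := by rw [h]; ring
    have e2 : a * b + a = a * a := by rw [← h']; ring
    nlinarith

theorem coprime_ab : a.Coprime b := by
  rcases H.rel with ⟨-, h⟩ | ⟨-, h⟩
  · rw [h]; simp
  · rw [← h]; simp

theorem coprime_qa : q.Coprime a :=
  Nat.coprime_of_dvd' fun d _ h1 h2 => by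
    have h3 : d ∣ q * q := h1.mul_right q
    rw [← H.four_ab] at h3
    exact (Nat.dvd_add_right ((h2.mul_right b).mul_left 4)).1 h3

theorem coprime_qb : q.Coprime b :=
  Nat.coprime_of_dvd' fun d _ h1 h2 => by
    have h3 : d ∣ q * q := h1.mul_right q
    rw [← H.four_ab] at h3
    exact (Nat.dvd_add_right ((h2.mul_left a).mul_left 4)).1 h3

theorem coprime_q2 : q.Coprime 2 := Nat.coprime_two_right.2 H.oddq

theorem coprime_b2 : b.Coprime 2 := Nat.coprime_two_right.2 H.oddB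

theorem q_dvd_U {c : ℕ} (h : c ∣ q) (h' : c ∣ 2 * a * b) : c = 1 :=
  Nat.eq_one_of_dvd_coprimes ((H.coprime_q2.mul_right H.coprime_qa).mul_right H.coprime_qb) h h'

theorem b_dvd_qa {c : ℕ} (h : c ∣ b) (h' : c ∣ 2 * q * a) : c = 1 :=
  Nat.eq_one_of_dvd_coprimes
    ((H.coprime_b2.mul_right H.coprime_qb.symm).mul_right H.coprime_ab.symm) h h'

theorem a_dvd_qb {c : ℕ} (h : c ∣ a) (h' : c ∣ q * b) : c = 1 :=
  Nat.eq_one_of_dvd_coprimes (H.coprime_qa.symm.mul_right H.coprime_ab) h h'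

theorem even_not_dvd {c d : ℕ} (hc : Even c) (hd : c ∣ d) (ho : Odd d) : False :=
  (Nat.not_even_iff_odd.2 ho) (even_iff_two_dvd.2 ((even_iff_two_dvd.1 hc).trans hd))

theorem oddqb : Odd (q * b) := H.oddq.mul H.oddB

theorem isoU {x : G} (hx : cs x = 2 * a * b) [Finite G] : Iso x := by
  have hq := H.seven; have hb := H.three_le; have ha := H.four_le
  refine ⟨fun hc => ?_, fun g hg => ?_⟩
  · have e := cs_eq_one_iff.2 hc
    rw [hx] at e
    have := Nat.dvd_one.1 (e ▸ dvd_mul_left b (2 * a))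
    omega
  rw [hx] at hg ⊢
  rcases H.vals g with h | h | h | h | h
  · exact Or.inl h
  · exact Or.inr h
  · exfalso
    rcases hg with hd | hd <;> rw [h] at hd
    · have := H.q_dvd_U dvd_rfl (((dvd_mul_left q 2).mul_right b).trans hd); omega
    · have h2 : 2 * a ∣ 2 * (q * b) := by
        rw [← mul_assoc]; exact (dvd_mul_right (2 * a) b).trans hd
      have := H.a_dvd_qb dvd_rfl (Nat.dvd_of_mul_dvd_mul_left two_pos h2)
      omega
  · exfalso
    rcases hg with hd | hd <;> rw [h] at hd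
    · have := H.q_dvd_U dvd_rfl (((dvd_mul_left q 2).mul_right a).trans hd); omega
    · have := H.b_dvd_qa dvd_rfl ((dvd_mul_left b (2 * a)).trans hd); omega
  · exfalso
    rcases hg with hd | hd <;> rw [h] at hd
    · have := H.q_dvd_U dvd_rfl ((dvd_mul_right q b).trans hd); omega
    · exact H.even_not_dvd ((even_two.mul_right a).mul_right b) hd H.oddqb

theorem isoB {x : G} (hx : cs x = 2 * q * a) [Finite G] : Iso x := by
  have hq := H.seven; have hb := H.three_le; have ha := H.four_le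
  refine ⟨fun hc => ?_, fun g hg => ?_⟩
  · have e := cs_eq_one_iff.2 hc
    rw [hx] at e
    have := Nat.dvd_one.1 (e ▸ dvd_mul_left a (2 * q))
    omega
  rw [hx] at hg ⊢
  rcases H.vals g with h | h | h | h | h
  · exact Or.inl h
  · exfalso
    rcases hg with hd | hd <;> rw [h] at hd
    · have := H.b_dvd_qa dvd_rfl ((dvd_mul_left b (2 * a)).trans hd); omega
    · have := H.q_dvd_U dvd_rfl (((dvd_mul_left q 2).mul_right a).trans hd); omega
  · exfalso
    rcases hg with hd | hd <;> rw [h] at hd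
    · have := H.b_dvd_qa dvd_rfl ((dvd_mul_left b (2 * q)).trans hd); omega
    · have h2 : a ∣ b := Nat.dvd_of_mul_dvd_mul_left (show 0 < 2 * q by omega) hd
      have := H.a_dvd_qb dvd_rfl (h2.mul_left q); omega
  · exact Or.inr h
  · exfalso
    rcases hg with hd | hd <;> rw [h] at hd
    · have := H.b_dvd_qa dvd_rfl ((dvd_mul_left b q).trans hd); omega
    · exact H.even_not_dvd (H.evenA.mul_left (2 * q)) hd H.oddqb

/-- Upwards the class sizes of the torus elements at most double. -/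
theorem mul_two {x : G} (hx : cs x = 2 * q * b ∨ cs x = q * b) [Finite G] (g : G)
    (hd : cs x ∣ cs g) : cs g = cs x ∨ cs g = 2 * cs x := by
  have hq := H.seven; have hb := H.three_le; have ha := H.four_le
  have hqd : q * b ∣ cs g := by
    rcases hx with h | h <;> rw [h] at hd
    · exact (mul_dvd_mul_right (dvd_mul_left q 2) b).trans hd
    · exact hd
  rcases H.vals g with h | h | h | h | h
  · rw [h] at hqd
    have := Nat.le_of_dvd one_pos hqd
    nlinarith
  · rw [h] at hqd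
    have := H.q_dvd_U dvd_rfl ((dvd_mul_right q b).trans hqd); omega
  · rcases hx with e | e
    · exact Or.inl (h.trans e.symm)
    · exact Or.inr (by rw [h, e]; ring)
  · rw [h] at hqd
    have := H.b_dvd_qa dvd_rfl ((dvd_mul_left b q).trans hqd); omega
  · rcases hx with e | e
    · exfalso
      rw [e, h] at hd
      exact H.even_not_dvd ((even_two.mul_right q).mul_right b) hd H.oddqb
    · exact Or.inl (h.trans e.symm)

variable [Finite G]

/-- The order modulo the centre. -/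
theorem index_eq : (Subgroup.center G).index = q * (2 * a * b) := by
  have hq := H.seven; have hb := H.three_le; have ha := H.four_le
  haveI := Fact.mk H.prime
  obtain ⟨x, hx⟩ := H.exU
  obtain ⟨y, hy⟩ := H.exB
  obtain ⟨z, hz⟩ := H.exI
  have hxM := hx ▸ cs_dvd_index x
  have hqM : q ∣ (Subgroup.center G).index := by
    refine (dvd_mul_right q b).trans ?_
    rw [← hz]
    exact cs_dvd_index z
  obtain ⟨m, hm⟩ := Nat.Coprime.mul_dvd_of_dvd_of_dvd
    ((H.coprime_q2.mul_right H.coprime_qa).mul_right H.coprime_qb) hqM hxM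
  suffices m = 1 by rw [hm, this, mul_one]
  have hU : rho x = m * q := by
    have h := rho_mul_cs x
    rw [hx, hm, show q * (2 * a * b) * m = m * q * (2 * a * b) by ring] at h
    exact Nat.eq_of_mul_eq_mul_right (by positivity) h
  have hB : rho y = m * b := by
    have h := rho_mul_cs y
    rw [hy, hm, show q * (2 * a * b) * m = m * b * (2 * q * a) by ring] at h
    exact Nat.eq_of_mul_eq_mul_right (by positivity) h
  by_contra hm1
  obtain ⟨r, hr, hrm⟩ := Nat.exists_prime_and_dvd hm1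
  have hpq : p ∣ q := by
    rw [H.hq]
    exact dvd_pow_self p fun h => by
      have := H.hq
      rw [h, pow_zero] at this
      omega
  have pureU : (∀ s : ℕ, s.Prime → s ∣ rho x → s = r) → r = p := fun h =>
    (h p H.prime (hU ▸ hpq.mul_left m)).symm
  have pureB : (∀ s : ℕ, s.Prime → s ∣ rho y → s = r) → r ∣ b := fun h => by
    obtain ⟨s, hs, hsb⟩ := Nat.exists_prime_and_dvd (n := b) (by omega)
    exact (h s hs (hB ▸ hsb.mul_left m)) ▸ hsb
  refine (H.isoU hx).no_common (H.isoB hy) (fun e => ?_) hr (hU ▸ hrm.mul_right q)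
    (hB ▸ hrm.mul_right b) (fun h hd => ?_) (fun h hd => ?_) (fun ⟨h1, h2⟩ => ?_) ?_
  · rw [hx, hy] at e
    have h' : b ∣ 2 * q * a := e ▸ dvd_mul_left b (2 * a)
    have := H.b_dvd_qa dvd_rfl h'; omega
  · exact hr.ne_one (H.q_dvd_U ((pureU h) ▸ hpq) (hx ▸ hd))
  · exact hr.ne_one (H.b_dvd_qa (pureB h) (hy ▸ hd))
  · exact hr.ne_one (H.b_dvd_qa (pureB h2) ((((pureU h1) ▸ hpq).mul_left 2).mul_right a))
  · by_cases h1 : r ∣ q
    · exact ⟨x, (H.isoU hx).1, fun hd => hr.ne_one (H.q_dvd_U h1 (hx ▸ hd))⟩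
    by_cases h2 : r ∣ b
    · exact ⟨y, (H.isoB hy).1, fun hd => hr.ne_one (H.b_dvd_qa h2 (hy ▸ hd))⟩
    refine ⟨z, fun hc => ?_, fun hd => ?_⟩
    · have e := cs_eq_one_iff.2 hc
      rw [hz] at e
      have := Nat.le_of_dvd one_pos (e ▸ dvd_mul_left b q)
      omega
    · rw [hz] at hd
      rcases hr.dvd_mul.1 hd with h | h
      · exact h1 h
      · exact h2 h

theorem rho_vals {x : G} (hx : x ∉ Subgroup.center G) :
    (rho x = q ∧ cs x = 2 * a * b) ∨ (rho x = a ∧ cs x = 2 * q * b) ∨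
      (rho x = b ∧ cs x = 2 * q * a) ∨ (rho x = 2 * a ∧ cs x = q * b) := by
  have hq := H.seven; have hb := H.three_le; have ha := H.four_le
  have h := rho_mul_cs x
  rw [H.index_eq] at h
  rcases H.vals x with e | e | e | e | e
  · exact absurd (cs_eq_one_iff.1 e) hx
  all_goals rw [e] at h
  · exact Or.inl ⟨Nat.eq_of_mul_eq_mul_right (by positivity) h, e⟩
  · exact Or.inr (Or.inl ⟨Nat.eq_of_mul_eq_mul_right (show 0 < 2 * q * b by positivity)
      (h.trans (by ring)), e⟩)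
  · exact Or.inr (Or.inr (Or.inl ⟨Nat.eq_of_mul_eq_mul_right (show 0 < 2 * q * a by positivity)
      (h.trans (by ring)), e⟩))
  · exact Or.inr (Or.inr (Or.inr ⟨Nat.eq_of_mul_eq_mul_right (show 0 < q * b by positivity)
      (h.trans (by ring)), e⟩))

local notation "Q" => G ⧸ Subgroup.center G

theorem card_bar : Nat.card Q = q * (2 * a * b) := by
  rw [← H.index_eq]; rfl

/-- Elements of prime power order in the quotient. -/
theorem lift {r : ℕ} (hr : r.Prime) {v : Q} (hv : v ≠ 1) (hpe : IsPE r v) :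
    ∃ x : G, IsPE r x ∧ bar x = v ∧ x ∉ Subgroup.center G ∧
      ((rho x = q ∧ cs x = 2 * a * b ∧ r ∣ q) ∨ (rho x = a ∧ cs x = 2 * q * b ∧ r ∣ a) ∨
      (rho x = b ∧ cs x = 2 * q * a ∧ r ∣ b) ∨ (rho x = 2 * a ∧ cs x = q * b ∧ r ∣ 2 * a)) := by
  obtain ⟨g, rfl⟩ := QuotientGroup.mk'_surjective _ v
  obtain ⟨x, hx, hxe, -⟩ := exists_lift hr hpe
  have hxc : x ∉ Subgroup.center G := fun h => hv (hxe ▸ TwoRegSizes38.bar_eq_one.2 h)
  have hd : r ∣ rho x := by
    obtain ⟨j, hj⟩ := hxe ▸ hpe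
    refine dvd_trans ?_ (orderOf_bar_dvd_rho x)
    rw [hj]
    refine dvd_pow_self r fun h0 => hv ?_
    rw [← hxe]
    exact orderOf_eq_one_iff.1 (by rw [hj, h0, pow_zero])
  refine ⟨x, hx, hxe, hxc, ?_⟩
  rcases H.rho_vals hxc with ⟨h, h'⟩ | ⟨h, h'⟩ | ⟨h, h'⟩ | ⟨h, h'⟩ <;> rw [h] at hd <;>
    simp [h, h', hd]

theorem cent_p {v : Q} (hv : v ≠ 1) (hpe : IsPE p v) : Nat.card (Cn v) = q := by
  obtain ⟨x, hx, rfl, hxc, h⟩ := H.lift H.prime hv hpe
  have hp : p ∣ q := by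
    rw [H.hq]
    exact dvd_pow_self p fun h0 => by
      have := H.hq
      rw [h0, pow_zero] at this
      have := H.seven
      omega
  rcases h with ⟨h1, h2, -⟩ | ⟨-, -, hd⟩ | ⟨-, -, hd⟩ | ⟨-, -, hd⟩
  · rw [card_centralizer_bar H.prime hx (fun hd => H.prime.ne_one (H.q_dvd_U hp (h2 ▸ hd))), h1]
  · exact absurd (H.q_dvd_U hp ((hd.mul_left 2).mul_right b)) H.prime.ne_one
  · exact absurd (H.q_dvd_U hp (hd.mul_left (2 * a))) H.prime.ne_one
  · exact absurd (H.q_dvd_U hp (hd.mul_right b)) H.prime.ne_one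

theorem card_sylow (P : Sylow p Q) [Fact p.Prime] : Nat.card (P : Subgroup Q) = q := by
  rw [Sylow.card_eq_multiplicity, H.card_bar, H.hq]
  congr 1
  have h2 : ¬ p ∣ 2 * a * b := fun h => H.prime.ne_one (H.q_dvd_U (by
    rw [H.hq]
    exact dvd_pow_self p fun h0 => by
      have := H.hq
      rw [h0, pow_zero] at this
      have := H.seven
      omega) h)
  have hpos : 2 * a * b ≠ 0 := by have := H.four_le; have := H.three_le; positivity
  rw [Nat.factorization_mul (pow_ne_zero _ H.prime.ne_zero) hpos, Finsupp.add_apply,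
    Nat.factorization_eq_zero_of_not_dvd h2, add_zero, Nat.factorization_pow, Finsupp.smul_apply,
    H.prime.factorization_self, smul_eq_mul, mul_one]

/-- The `r`-local data for an odd prime `r` dividing `a` or `b`. -/
theorem cent_r {r : ℕ} (hr : r.Prime) (hr2 : r ≠ 2) (hrd : r ∣ a * b) {v : Q} (hv : v ≠ 1)
    (hpe : IsPE r v) :
    ((r ∣ b ∧ Nat.card (Cn v) = b) ∨ (r ∣ a ∧ (Nat.card (Cn v) = a ∨ Nat.card (Cn v) = 2 * a))) ∧
      ¬ r ∣ (Cn v).index ∧ ∀ s : ℕ, s.Prime → s ≠ r → ∀ w ∈ Cn v, IsPE s w → ∀ g ∈ Cn v,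
        IsPE r g → g * w = w * g := by
  have hrq : ¬ r ∣ q := fun h => hr.ne_one (H.q_dvd_U h
    (by rw [mul_assoc]; exact hrd.mul_left 2))
  obtain ⟨x, hx, rfl, hxc, h⟩ := H.lift hr hv hpe
  have hd2 : ∀ {c : ℕ}, r ∣ 2 * c → r ∣ c := fun hd =>
    ((Nat.coprime_primes hr Nat.prime_two).2 hr2).dvd_of_dvd_mul_left hd
  have main : ∀ {c : ℕ}, rho x = c → ¬ r ∣ cs x →
      (∀ g : G, cs x ∣ cs g → cs g = cs x ∨ cs g = 2 * cs x) →
      Nat.card (Cn (bar x)) = c ∧ ¬ r ∣ (Cn (bar x)).index ∧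
      ∀ s : ℕ, s.Prime → s ≠ r → ∀ w ∈ Cn (bar x), IsPE s w → ∀ g ∈ Cn (bar x),
        IsPE r g → g * w = w * g := by
    intro c hc hcs hm
    refine ⟨(card_centralizer_bar hr hx hcs).trans hc, ?_, fun s hs hsr w hw hwp g hg hgp => ?_⟩
    · intro hd
      have h1 := Subgroup.index_map_eq (H := Cn x) (f := bar (G := G))
        (QuotientGroup.mk'_surjective _) (by rw [QuotientGroup.ker_mk']; exact TwoRegSizes38.center_le_cn x)
      rw [show Cn (bar x) = (Cn x).map bar from centralizer_bar hr hx hcs, h1] at hd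
      exact hcs hd
    · rw [show Cn (bar x) = (Cn x).map bar from centralizer_bar hr hx hcs] at hw hg
      obtain ⟨w₀, hw₀, rfl⟩ := hw
      obtain ⟨g₀, hg₀, rfl⟩ := hg
      obtain ⟨w₁, hw₁, hwe, hwH⟩ := exists_lift hs hwp
      obtain ⟨g₁, hg₁, hge, hgH⟩ := exists_lift hr hgp
      rw [← hwe, ← hge, ← map_mul, ← map_mul,
        comm_parts hr hr2 hx hxc hm hs hsr (hwH _ hw₀) hw₁ (hgH _ hg₀) hg₁]
  rcases h with ⟨-, -, hd⟩ | ⟨h1, h2, hd⟩ | ⟨h1, h2, hd⟩ | ⟨h1, h2, hd⟩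
  · exact absurd hd hrq
  · obtain ⟨e1, e2, e3⟩ := main h1
      (fun hd' => hr.ne_one (H.a_dvd_qb hd (hd2 (by rw [← mul_assoc]; exact h2 ▸ hd'))))
      (H.mul_two (Or.inl h2))
    exact ⟨Or.inr ⟨hd, Or.inl e1⟩, e2, e3⟩
  · obtain ⟨e1, e2, e3⟩ := main h1 (fun hd' => hr.ne_one (H.b_dvd_qa hd (h2 ▸ hd')))
      (fun g hg => ((H.isoB h2).2 g (Or.inr hg)).elim (fun e => by
        exfalso
        rw [e] at hg
        have := cs_eq_one_iff.1 (Nat.dvd_one.1 hg)
        exact hxc this) Or.inl)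
    exact ⟨Or.inl ⟨hd, e1⟩, e2, e3⟩
  · obtain ⟨e1, e2, e3⟩ := main h1 (fun hd' => hr.ne_one (H.a_dvd_qb (hd2 hd) (h2 ▸ hd')))
      (H.mul_two (Or.inr h2))
    exact ⟨Or.inr ⟨hd2 hd, Or.inr e1⟩, e2, e3⟩

theorem uniqueSyl {r : ℕ} [hr : Fact r.Prime] (hr2 : r ≠ 2) (hrd : r ∣ a * b) : UniqueSyl Q r :=
  fun _ hv hpe =>
    let h := H.cent_r hr.out hr2 hrd hv hpe
    unique_sylow h.2.1 h.2.2

end SizesOdd

end Cfsg.Agent.ClassSizePSL72
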