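import Cfsg.Agent.Lib.ClassSizePSLOdd72

/-!
# The central quotient of a group with the class sizes of `PSL₂(q)`, `q` odd
-/

set_option autoImplicit false

namespace Cfsg.Agent.ClassSizePSL72

open Cfsg.Agent.ClassSizeGraph76 (cs cls)
open Cfsg.Agent.TwoRegSizes38 (Cn IsPE mem_cn self_mem_cn bar)
open Cfsg.Agent.CaminaSizes63 (cs_eq_one_iff)

/-- A small multiple is determined. -/
theorem two_case {ρ z e : ℕ} (hz : z = ρ ∨ 3 * z ≤ ρ) (he : e + 1 ≤ z) (he0 : 0 < e)
    (hd : ρ ∣ 2 * (z - 1) + e) : z = ρ ∧ e = 2 := by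
  obtain ⟨j, hj⟩ := hd
  rcases hz with h | h
  · subst h
    refine ⟨rfl, ?_⟩
    rcases j with _ | _ | _ | j
    · omega
    · omega
    · omega
    · have : z * (j + 1 + 1 + 1) ≥ z * 3 := Nat.mul_le_mul_left _ (by omega)
      omega
  · exfalso
    rcases j with _ | j
    · omega
    · have : ρ * (j + 1) ≥ ρ := Nat.le_mul_of_pos_right _ (by omega)
      omega

theorem one_case {ρ z e : ℕ} (hz : z = ρ ∨ 3 * z ≤ ρ) (he : e + 1 ≤ z) (he0 : 0 < e)
    (hd : ρ ∣ z - 1 + e) : z = ρ ∧ e = 1 := by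
  obtain ⟨j, hj⟩ := hd
  rcases hz with h | h
  · subst h
    refine ⟨rfl, ?_⟩
    rcases j with _ | _ | j
    · omega
    · omega
    · have : z * (j + 1 + 1) ≥ z * 2 := Nat.mul_le_mul_left _ (by omega)
      omega
  · exfalso
    rcases j with _ | j
    · omega
    · have : ρ * (j + 1) ≥ ρ := Nat.le_mul_of_pos_right _ (by omega)
      omega

namespace SizesOdd

variable {G : Type*} [Group G] [Finite G] {p k q a b : ℕ} (H : SizesOdd G p k q a b)
include H

local notation "Q" => G ⧸ Subgroup.center G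

/-- Sylow subgroups for odd primes dividing `a * b`: abelian with normalizer of order twice a
torus. -/
theorem sylow_r {r : ℕ} [hr : Fact r.Prime] (hr2 : r ≠ 2) (hrd : r ∣ a * b) (P : Sylow r Q) :
    (∀ g ∈ (P : Subgroup Q), ∀ h ∈ (P : Subgroup Q), g * h = h * g) ∧
      ((r ∣ b ∧ Nat.card (Subgroup.normalizer ((P : Subgroup Q) : Set Q)) = 2 * b) ∨
       (r ∣ a ∧ Nat.card (Subgroup.normalizer ((P : Subgroup Q) : Set Q)) = 2 * a)) := by
  have hq := H.seven; have hb3 := H.three_le; have ha4 := H.four_le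
  have hu := H.uniqueSyl hr2 hrd
  have hrG : r ∣ Nat.card Q := by
    rw [H.card_bar, mul_assoc]
    exact (hrd.mul_left 2).mul_left q
  have hP1 : Nat.card (P : Subgroup Q) ≠ 1 := fun h => by
    have := P.dvd_card_of_dvd_card hrG
    rw [h] at this
    exact hr.out.ne_one (Nat.dvd_one.1 this)
  have hr3 : 3 ≤ r := by have := hr.out.two_le; omega
  set ρ := Nat.card (P : Subgroup Q) with hρ
  set z := Nat.card (zc (P : Subgroup Q)) with hz
  have hz3 : z = ρ ∨ 3 * z ≤ ρ := by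
    by_cases h : z = ρ
    · exact Or.inl h
    · exact Or.inr ((Nat.mul_le_mul_right z hr3).trans (zc_small h))
  -- the count at one central element
  have key : ∀ v ∈ zc (P : Subgroup Q), v ≠ 1 →
      z = ρ ∧ ((r ∣ b ∧ Nat.card (Cn v) = b ∧
          Nat.card (Subgroup.normalizer ((P : Subgroup Q) : Set Q)) = 2 * b) ∨
        (r ∣ a ∧ Nat.card (Cn v) = a ∧
          Nat.card (Subgroup.normalizer ((P : Subgroup Q) : Set Q)) = 2 * a) ∨
        (r ∣ a ∧ Nat.card (Cn v) = 2 * a ∧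
          Nat.card (Subgroup.normalizer ((P : Subgroup Q) : Set Q)) = 2 * a)) := by
    intro v hv hv1
    obtain ⟨n, e, hne, he0, hN, -, hez, hdv⟩ := arith hu P hv hv1
    have hle : (P : Subgroup Q) ≤ Cn v := le_centralizer_of_zc hv
    have hdc : ρ ∣ Nat.card (Cn v) := Subgroup.card_dvd_of_le hle
    rw [H.card_bar] at hne
    rw [← hz] at hez hdv
    have step : ∀ X : ℕ, n * e = X → ρ ∣ X * (z - 1) + e := by
      intro X hX
      rw [← hX, show n * e * (z - 1) + e = e * (n * (z - 1) + 1) by ring]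
      exact hdv.mul_left e
    rcases (H.cent_r hr.out hr2 hrd hv1 (exists_orderOf hv.1)).1 with ⟨hd, hc⟩ | ⟨hd, hc | hc⟩
    · have hX : n * e = 2 * (q * a) := Nat.eq_of_mul_eq_mul_right (show 0 < b by omega)
        (by rw [hc] at hne; rw [mul_assoc n e b, hne]; ring)
      obtain ⟨K, hK⟩ : ∃ K, q * a = b * K + 1 := by
        rcases H.rel with ⟨h1, h2⟩ | ⟨h1, h2⟩
        · obtain ⟨a', rfl⟩ : ∃ a', a = a' + 1 := ⟨a - 1, by omega⟩
          exact ⟨2 * a' + 1, by rw [h1, h2]; ring⟩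
        · refine ⟨2 * b + 3, ?_⟩
          have : q = 2 * b + 1 := by omega
          rw [this, ← h2]; ring
      have h2 := step _ hX
      rw [hK, show 2 * (b * K + 1) * (z - 1) + e = b * (2 * K * (z - 1)) + (2 * (z - 1) + e) by ring,
        Nat.dvd_add_right ((hc ▸ hdc).mul_right _)] at h2
      obtain ⟨h3, h4⟩ := two_case hz3 hez he0 h2
      exact ⟨h3, Or.inl ⟨hd, hc, by rw [hN, h4, hc]⟩⟩
    all_goals
      obtain ⟨K, hK⟩ : ∃ K, q * b = a * K + 1 := by
        rcases H.rel with ⟨h1, h2⟩ | ⟨h1, h2⟩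
        · exact ⟨2 * a + 3, by rw [h1, h2]; ring⟩
        · obtain ⟨a', rfl⟩ : ∃ a', a = a' + 2 := ⟨a - 2, by omega⟩
          refine ⟨2 * a' + 1, ?_⟩
          have hq' : q = 2 * a' + 3 := by omega
          have hb' : b = a' + 1 := by omega
          rw [hq', hb']; ring
    · have hX : n * e = 2 * (q * b) := Nat.eq_of_mul_eq_mul_right (show 0 < a by omega)
        (by rw [hc] at hne; rw [mul_assoc n e a, hne]; ring)
      have h2 := step _ hX
      rw [hK, show 2 * (a * K + 1) * (z - 1) + e = a * (2 * K * (z - 1)) + (2 * (z - 1) + e) by ring,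
        Nat.dvd_add_right ((hc ▸ hdc).mul_right _)] at h2
      obtain ⟨h3, h4⟩ := two_case hz3 hez he0 h2
      exact ⟨h3, Or.inr (Or.inl ⟨hd, hc, by rw [hN, h4, hc]⟩)⟩
    · have hX : n * e = q * b := Nat.eq_of_mul_eq_mul_right (show 0 < 2 * a by omega)
        (by rw [hc] at hne; rw [mul_assoc n e (2 * a), hne]; ring)
      have hco : ρ.Coprime 2 := by
        obtain ⟨i, hi⟩ := P.2.exists_card_eq
        rw [hρ, hi]
        exact ((Nat.coprime_primes hr.out Nat.prime_two).2 hr2).pow_left i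
      have hρa : ρ ∣ a := hco.dvd_of_dvd_mul_left (hc ▸ hdc)
      have h2 := step _ hX
      rw [hK, show (a * K + 1) * (z - 1) + e = a * (K * (z - 1)) + (z - 1 + e) by ring,
        Nat.dvd_add_right (hρa.mul_right _)] at h2
      obtain ⟨h3, h4⟩ := one_case hz3 hez he0 h2
      exact ⟨h3, Or.inr (Or.inr ⟨hd, hc, by rw [hN, h4, hc, one_mul]⟩)⟩
  obtain ⟨v₀, hv₀, hv₀1⟩ := exists_zc hP1
  obtain ⟨hzρ, hcases⟩ := key v₀ hv₀ hv₀1
  refine ⟨comm_of_zc_eq hzρ, ?_⟩
  rcases hcases with ⟨h1, -, h3⟩ | ⟨h1, -, h3⟩ | ⟨h1, -, h3⟩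
  exacts [Or.inl ⟨h1, h3⟩, Or.inr ⟨h1, h3⟩, Or.inr ⟨h1, h3⟩]

/-- No element of `p`-power order normalizes a nontrivial subgroup of odd prime power order prime
to `p`. -/
theorem no_normalise (r : ℕ) (R : Subgroup Q) (hr : r.Prime) (hr2 : r ≠ 2) (hrp : r ≠ p)
    (hR : IsPGroup r R) (hR1 : R ≠ ⊥) (y : Q) (hy : y ∈ Subgroup.normalizer (R : Set Q))
    (hyp : IsPE p y) : y = 1 := by
  haveI := Fact.mk hr
  obtain ⟨w, hw, hw1⟩ := (Subgroup.bot_or_exists_ne_one R).resolve_left hR1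
  have hrd : r ∣ a * b := by
    obtain ⟨i, hi⟩ := IsPE.of_mem_pgroup hR hw
    have hi0 : i ≠ 0 := by
      rintro rfl
      exact hw1 (orderOf_eq_one_iff.1 (by rw [hi, pow_zero]))
    have h : r ∣ Nat.card Q := (hi ▸ dvd_pow_self r hi0 : r ∣ orderOf w).trans (orderOf_dvd_natCard w)
    rw [H.card_bar, mul_assoc] at h
    rcases hr.dvd_mul.1 h with h | h
    · rw [H.hq] at h
      exact absurd ((Nat.prime_dvd_prime_iff_eq hr H.prime).1 (hr.dvd_of_dvd_pow h)) hrp
    · exact ((Nat.coprime_primes hr Nat.prime_two).2 hr2).dvd_of_dvd_mul_left h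
  obtain ⟨P, hRP⟩ := hR.exists_le_sylow
  obtain ⟨hab, hN⟩ := H.sylow_r hr2 hrd P
  have hu := H.uniqueSyl hr2 hrd
  have hin : ∀ u ∈ R, (P : Subgroup Q) ≤ Cn u := fun u hu' g hg => mem_cn.2 (hab g hg u (hRP hu'))
  have hyN : y ∈ Subgroup.normalizer ((P : Subgroup Q) : Set Q) := by
    have hw' : y * w * y⁻¹ ∈ R := (Subgroup.mem_normalizer_iff.1 hy w).1 hw
    have hne : y * w * y⁻¹ ≠ 1 := fun h => hw1 (conj_eq_one_iff.1 h)
    obtain ⟨P', -, hP'u⟩ := hu _ hne (IsPE.of_mem_pgroup hR hw')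
    refine Sylow.smul_eq_iff_mem_normalizer.1 ((hP'u _ ?_).trans (hP'u P (hin _ hw')).symm)
    rintro _ ⟨g, hg, rfl⟩
    exact (TwoRegSizes38.conj_mem_cn y).2 (hin w hw hg)
  have hd := Subgroup.orderOf_dvd_natCard _ hyN
  obtain ⟨j, hj⟩ := hyp
  rcases Nat.eq_zero_or_pos j with rfl | hj0
  · exact orderOf_eq_one_iff.1 (by rw [hj, pow_zero])
  exfalso
  have hpd : p ∣ orderOf y := hj ▸ dvd_pow_self p hj0.ne'
  have hpq : p ∣ q := by
    rw [H.hq]
    exact dvd_pow_self p fun h => by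
      have := H.hq
      rw [h, pow_zero] at this
      have := H.seven
      omega
  rcases hN with ⟨-, h⟩ | ⟨-, h⟩ <;> rw [h] at hd
  · exact H.prime.ne_one (H.q_dvd_U hpq ((hpd.trans hd).trans (mul_dvd_mul_right (dvd_mul_right 2 a) b)))
  · exact H.prime.ne_one (H.q_dvd_U hpq ((hpd.trans hd).mul_right b))

theorem cent_eq [Fact p.Prime] (P : Sylow p Q) {v : Q} (hv : v ∈ (P : Subgroup Q)) (hv1 : v ≠ 1) :
    Cn v = (P : Subgroup Q) :=
  ClassSizePSL72.cent_eq (fun P => H.card_sylow P) H.oddq (fun _ h h' => H.cent_p h h') H.no_normalise P hv hv1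

theorem tiSylow [hp : Fact p.Prime] : TISylow Q p q ((q - 1) / 2) := by
  have hq := H.seven
  obtain ⟨c, hc⟩ := H.oddq
  have he : (q - 1) / 2 = c := by omega
  have hab : 2 * a * b = c * (q + 1) := by
    have h := H.four_ab
    subst hc
    nlinarith
  have hu : UniqueSyl Q p := fun v hv hpe => by
    obtain ⟨j, hj⟩ := hpe
    obtain ⟨P, hP⟩ := (IsPGroup.of_card (p := p) (n := j) (by rw [Nat.card_zpowers, hj]) :
      IsPGroup p (Subgroup.zpowers v)).exists_le_sylow
    have he' := H.cent_eq P (hP (Subgroup.mem_zpowers v)) hv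
    exact ⟨P, he'.ge, fun Q' hQ' => Sylow.ext (Q'.3 P.2 (hQ'.trans he'.le)).symm⟩
  rw [he]
  refine ⟨by omega, by omega, fun P => H.card_sylow P, fun P v hv hv1 => H.cent_eq P hv hv1, fun P => ?_, ?_⟩
  · have hab' : ∀ g ∈ (P : Subgroup Q), g ∈ zc (P : Subgroup Q) := fun g hg =>
      ⟨hg, Subgroup.mem_centralizer_iff.2 fun h hh => by
        by_cases h1 : g = 1
        · rw [h1, one_mul, mul_one]
        · exact (mem_cn.1 ((H.cent_eq P hg h1).ge hh))⟩
    have hz : Nat.card (zc (P : Subgroup Q)) = q := by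
      rw [show zc (P : Subgroup Q) = (P : Subgroup Q) from le_antisymm inf_le_left hab', H.card_sylow]
    obtain ⟨v, hv, hv1⟩ := exists_zc (P := P) (by rw [H.card_sylow]; omega)
    obtain ⟨n, e, hne, he0, hN, -, hez, hdv⟩ := arith hu P hv hv1
    have hcv : Nat.card (Subgroup.centralizer ({v} : Set Q)) = q := by
      rw [← H.card_sylow P]
      exact congrArg (fun K : Subgroup Q => Nat.card K) (H.cent_eq P hv.1 hv1)
    rw [hcv, H.card_bar] at hne
    have hX : n * e = 2 * a * b :=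
      Nat.eq_of_mul_eq_mul_right (show 0 < q by omega) (by rw [mul_assoc n e q, hne]; ring)
    rw [hz] at hez hdv
    rw [H.card_sylow] at hdv
    have h2 : q ∣ c * (q + 1) * (q - 1) + e := by
      rw [← hab, ← hX, show n * e * (q - 1) + e = e * (n * (q - 1) + 1) by ring]
      exact hdv.mul_left e
    have h3 : q ∣ 2 * e + 1 := by
      have h4 : q * (q * (2 * c) - 1) + (2 * e + 1) = 2 * (c * (q + 1) * (q - 1) + e) + q * 0 := by
        have e1 : q - 1 = 2 * c := by omega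
        rw [e1]
        obtain ⟨w, hw⟩ : ∃ w, q * (2 * c) = w + 1 := ⟨q * (2 * c) - 1, by
          have : 1 ≤ q * (2 * c) := Nat.one_le_iff_ne_zero.2 (by
            have : 0 < q * (2 * c) := Nat.mul_pos (by omega) (by omega)
            omega)
          omega⟩
        rw [hw, Nat.add_sub_cancel]
        subst hc
        nlinarith
      rw [mul_zero, add_zero] at h4
      exact (Nat.dvd_add_right (dvd_mul_right q _)).1 (h4 ▸ h2.mul_left 2)
    obtain ⟨j, hj⟩ := h3
    have : e = c := by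
      rcases j with _ | _ | j
      · omega
      · omega
      · have : q * (j + 1 + 1) ≥ q * 2 := Nat.mul_le_mul_left _ (by omega)
        omega
    rw [hN, hcv, this, mul_comm]
  · rw [H.card_bar, hab]; ring

theorem nonregular (N : Subgroup Q) (hN : N.Normal) (hcard : Nat.card N = q + 1)
    (hconj : ∀ x ∈ N, ∀ y ∈ N, x ≠ 1 → y ≠ 1 → ∃ g : Q, g * x * g⁻¹ = y) : False := by
  have hq := H.seven
  haveI := Fact.mk Nat.prime_two
  obtain ⟨c, hc⟩ := H.oddq
  have h2N : 2 ∣ Nat.card N := ⟨c + 1, by omega⟩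
  obtain ⟨t, ht⟩ := exists_prime_orderOf_dvd_card' 2 h2N
  have ht1 : (t : Q) ≠ 1 := fun h => by
    rw [← Subgroup.orderOf_coe, h, orderOf_one] at ht
    omega
  have hN2 : IsPGroup 2 N := by
    intro x
    refine ⟨1, ?_⟩
    by_cases hx : (x : Q) = 1
    · rw [Subtype.ext hx (a2 := (1 : N)), one_pow]
    obtain ⟨g, hg⟩ := hconj t t.2 x x.2 ht1 hx
    refine Subtype.ext ?_
    rw [SubmonoidClass.coe_pow, ← hg, conj_pow, pow_one, ← SubmonoidClass.coe_pow, ← ht,
      pow_orderOf_eq_one]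
    simp
  obtain ⟨l, hl⟩ := hN2.exists_card_eq
  rw [hcard] at hl
  have hb3 := H.three_le
  rcases H.rel with ⟨h1, h2⟩ | ⟨h1, h2⟩
  · obtain ⟨s, hs, hsb⟩ := Nat.exists_prime_and_dvd (n := b) (by omega)
    have : s ∣ 2 ^ l := hl ▸ hsb.trans ⟨2, by omega⟩
    have := (Nat.prime_dvd_prime_iff_eq hs Nat.prime_two).1 (hs.dvd_of_dvd_pow this)
    subst this
    exact (Nat.not_even_iff_odd.2 H.oddB) (even_iff_two_dvd.2 hsb)
  have hmem : ∀ x : G, rho x ∣ 2 * a → x ∉ Subgroup.center G → bar x ∈ N ∧ bar x ≠ 1 := by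
    intro x hx hxc
    refine ⟨?_, fun h => hxc (TwoRegSizes38.bar_eq_one.1 h)⟩
    have hd := (orderOf_bar_dvd_rho x).trans hx
    rw [← h1, hl] at hd
    obtain ⟨i, -, hi⟩ := (Nat.dvd_prime_pow Nat.prime_two).1 hd
    haveI : (N.subgroupOf ⊤).Normal := inferInstance
    refine CaminaSizes63.mem_of_isPE_of_not_dvd Nat.prime_two (C := ⊤) ?_ (Subgroup.mem_top _) ⟨i, hi⟩
    rw [Subgroup.relIndex_top_right]
    intro h2i
    have hm := N.index_mul_card
    rw [hcard, H.card_bar, h1, show q * (2 * a * b) = q * b * (2 * a) by ring] at hm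
    rw [Nat.eq_of_mul_eq_mul_right (by omega) hm] at h2i
    exact (Nat.not_even_iff_odd.2 H.oddqb) (even_iff_two_dvd.2 h2i)
  obtain ⟨x, hx⟩ := H.exA
  obtain ⟨y, hy⟩ := H.exI
  have hxc : x ∉ Subgroup.center G := fun h => by
    have e := cs_eq_one_iff.2 h
    rw [hx] at e
    have := Nat.le_of_dvd one_pos (e ▸ dvd_mul_left b (2 * q))
    omega
  have hyc : y ∉ Subgroup.center G := fun h => by
    have e := cs_eq_one_iff.2 h
    rw [hy] at e
    have := Nat.le_of_dvd one_pos (e ▸ dvd_mul_left b q)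
    omega
  have hxr : rho x ∣ 2 * a := by
    rcases H.rho_vals hxc with ⟨-, e⟩ | ⟨e, -⟩ | ⟨-, e⟩ | ⟨e, -⟩
    · have := H.q_dvd_U dvd_rfl ((dvd_mul_left q 2).mul_right b |> fun h' => (hx.symm.trans e) ▸ h')
      omega
    · exact e ▸ dvd_mul_left a 2
    · have := H.b_dvd_qa dvd_rfl ((dvd_mul_left b (2 * q)) |> fun h' => (hx.symm.trans e) ▸ h')
      omega
    · exact e ▸ dvd_rfl
  have hyr : rho y ∣ 2 * a := by
    rcases H.rho_vals hyc with ⟨-, e⟩ | ⟨e, -⟩ | ⟨-, e⟩ | ⟨e, -⟩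
    · have := H.q_dvd_U dvd_rfl ((dvd_mul_right q b) |> fun h' => (hy.symm.trans e) ▸ h')
      omega
    · exact e ▸ dvd_mul_left a 2
    · have := H.b_dvd_qa dvd_rfl ((dvd_mul_left b q) |> fun h' => (hy.symm.trans e) ▸ h')
      omega
    · exact e ▸ dvd_rfl
  obtain ⟨hxN, hx1⟩ := hmem x hxr hxc
  obtain ⟨hyN, hy1⟩ := hmem y hyr hyc
  obtain ⟨g, hg⟩ := hconj _ hxN _ hyN hx1 hy1
  obtain ⟨g₀, rfl⟩ := QuotientGroup.mk'_surjective _ g
  have e : bar (g₀ * x * g₀⁻¹) = bar y := by rw [map_mul, map_mul, map_inv, hg]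
  have e2 : cs (g₀ * x * g₀⁻¹) = cs y := congrArg Subgroup.index (TwoRegSizes38.cn_eq_of_bar_eq e)
  rw [ClassSizeGraph76.cs_conj, hx, hy] at e2
  have : 0 < q * b := Nat.mul_pos (by omega) (by omega)
  nlinarith

theorem iso_psl :
    ∃ (F : Type) (_ : Field F) (_ : Fintype F), Fintype.card F = q ∧
      Nonempty (Q ≃* Matrix.ProjectiveSpecialLinearGroup (Fin 2) F) := by
  haveI := Fact.mk H.prime
  have hq := H.seven; have ha4 := H.four_le; have hb3 := H.three_le
  obtain ⟨c, hc⟩ := H.oddq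
  have T := H.tiSylow
  have he2 : (q - 1) / 2 = c := by omega
  rw [he2] at T
  rcases Nat.even_or_odd c with he | ho
  · exact T.psl_of_even he hc H.nonregular
  have hbc : c = b := by
    rcases H.rel with ⟨h1, h2⟩ | ⟨h1, h2⟩
    · exact absurd H.evenA (Nat.not_even_iff_odd.2 ((show a = c by omega) ▸ ho))
    · omega
  obtain ⟨F, hF, hFf, ⟨iso⟩⟩ := T.psl_of_odd ho (by omega) (fun A B hAB h hh h1 s hs hpe => by
    have hsb : s ∣ b := by
      obtain ⟨i, hi⟩ := hpe
      have hi0 : i ≠ 0 := by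
        rintro rfl
        exact h1 (orderOf_eq_one_iff.1 (by rw [hi, pow_zero]))
      rw [← hbc, ← T.card_two hAB]
      exact (hi ▸ dvd_pow_self s hi0 : s ∣ orderOf h).trans (Subgroup.orderOf_dvd_natCard _ hh)
    have hs2 : s ≠ 2 := by
      rintro rfl
      exact (Nat.not_even_iff_odd.2 H.oddB) (even_iff_two_dvd.2 hsb)
    rcases (H.cent_r hs hs2 (hsb.mul_left a) h1 hpe).1 with ⟨-, e⟩ | ⟨e, -⟩
    · rw [e, hbc]
    · exact absurd (H.b_dvd_qa hsb (e.mul_left (2 * q))) hs.ne_one) H.nonregular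
  refine ⟨F, hF, hFf, ?_, ⟨iso⟩⟩
  have hcard := Nat.card_congr iso.toEquiv
  rw [H.card_bar] at hcard
  have h4 := H.four_ab
  obtain ⟨r, hr⟩ : ∃ r, Fintype.card F = r := ⟨_, rfl⟩
  rw [hr]
  have hrN : Nat.card F = r := by rw [Nat.card_eq_fintype_card, hr]
  have h1r : 1 < r := hr ▸ Fintype.one_lt_card
  have hm := PSLCard.card_PSL2_mul (F := F)
  rw [← hcard, hrN] at hm
  obtain ⟨w, hw⟩ : ∃ w, r ^ 2 = w + 1 := ⟨r ^ 2 - 1, by have := Nat.one_le_pow 2 r (by omega); omega⟩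
  rw [hw, Nat.add_sub_cancel] at hm
  rcases Nat.even_or_odd r with hev | hod
  · exfalso
    have hg : Nat.gcd 2 (r - 1) = 1 := by
      obtain ⟨i, hi⟩ := hev
      refine (Nat.prime_two.eq_one_or_self_of_dvd _ (Nat.gcd_dvd_left _ _)).resolve_right fun h => ?_
      have := Nat.gcd_dvd_right 2 (r - 1)
      rw [h] at this
      omega
    rw [hg, one_mul] at hm
    obtain ⟨ℓ, hℓ⟩ := CharP.exists F
    obtain ⟨⟨n, hn0⟩, hℓp, hn⟩ := FiniteField.card F ℓ
    have hn' : r = ℓ ^ n := hr ▸ hn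
    have hℓ2 : ℓ = 2 := ((Nat.prime_dvd_prime_iff_eq Nat.prime_two hℓp).1
      (Nat.prime_two.dvd_of_dvd_pow (hn' ▸ even_iff_two_dvd.1 hev))).symm
    have hdvd : r ∣ 2 * a := by
      have h1 : r ∣ 2 * a * (q * b) :=
        ⟨w, by rw [← hm]; ring⟩
      refine Nat.Coprime.dvd_of_dvd_mul_right ?_ h1
      rw [hn', hℓ2]
      exact (Nat.coprime_two_left.2 H.oddqb).pow_left n
    obtain ⟨j, hj⟩ := hdvd
    have hw2 : w + 1 = r * r := by rw [← hw]; ring
    rcases j with _ | _ | j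
    · omega
    · have hr' : r = 2 * a := by omega
      rcases H.rel with ⟨e1, e2⟩ | ⟨e1, e2⟩
      · subst e1 e2 hr'
        nlinarith
      · obtain ⟨b', rfl⟩ : ∃ b', b = b' + 3 := ⟨b - 3, by omega⟩
        have ea : a = b' + 4 := by omega
        have eq' : q = 2 * b' + 7 := by omega
        subst ea eq' hr'
        nlinarith
    · have hra : r ≤ a := by
        have : r * 2 ≤ r * (j + 1 + 1) := Nat.mul_le_mul_left _ (by omega)
        omega
      have h3 : r * w < r * (r * r) := Nat.mul_lt_mul_of_pos_left (by omega) (by omega)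
      have h5 : r * (r * r) ≤ a * (a * a) :=
        Nat.mul_le_mul hra (Nat.mul_le_mul hra hra)
      rcases H.rel with ⟨e1, e2⟩ | ⟨e1, e2⟩
      · subst e1 e2
        nlinarith
      · obtain ⟨b', rfl⟩ : ∃ b', b = b' + 3 := ⟨b - 3, by omega⟩
        have ea : a = b' + 4 := by omega
        have eq' : q = 2 * b' + 7 := by omega
        subst ea eq'
        nlinarith
  · have hg : Nat.gcd 2 (r - 1) = 2 := by
      obtain ⟨i, hi⟩ := hod
      exact Nat.gcd_eq_left ⟨i, by omega⟩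
    rw [hg] at hm
    have hkey : r * (r * r) + q = q * (q * q) + r := by
      have hw2 : w + 1 = r * r := by rw [← hw]; ring
      nlinarith
    rcases lt_trichotomy r q with h | h | h
    · exfalso
      have h6 : r * r + 1 ≤ q * q := Nat.mul_self_lt_mul_self h
      have h7 := Nat.mul_le_mul_right r h6
      have h8 := Nat.mul_le_mul_left (q * q) (show r + 1 ≤ q from h)
      have h9 := Nat.le_mul_self q
      linarith
    · exact h
    · exfalso
      have h6 : q * q + 1 ≤ r * r := Nat.mul_self_lt_mul_self h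
      have h7 := Nat.mul_le_mul_right q h6
      have h8 := Nat.mul_le_mul_left (r * r) (show q + 1 ≤ r from h)
      have h9 := Nat.le_mul_self r
      linarith

end SizesOdd

end Cfsg.Agent.ClassSizePSL72
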