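import Mathlib
import Cfsg.Prelude
import Cfsg.Agent.Lib.CoprimeAction
import Cfsg.Agent.Lib.PGroupsBasic
import Cfsg.Agent.Lib.HallPLength
import Cfsg.Agent.Lib.HallHigmanRep
import Cfsg.Agent.S4218
import Cfsg.Agent.S3784

/-!
# Hall-Higman: exponent and p-length

The action of `H ⧸ O_p(H)` on the Frattini quotient of `O_p(H)` and the exceptional case.
-/

set_option autoImplicit false

namespace Cfsg.Agent.HallHigman

open Cfsg.Agent.HallCore Cfsg.Agent.HallSolvable

variable {H : Type*} [Group H] [Finite H] {p : ℕ}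

theorem frattini_quotient_comm (O : Subgroup H) [Fact p.Prime] (hO : IsPGroup p O) :
    ∀ a b : ↥O ⧸ frattini ↥O, a * b = b * a :=
  (Cfsg.Agent.PGroupsBasic.quotient_frattini_elementary hO).1

/-- `H ⧸ O_p(H)` acts faithfully on the Frattini quotient of `O_p(H)`. -/
theorem exists_frattini_action [Fact p.Prime] (hG : Cfsg.IsPSolvable p H)
    (hbot : Cfsg.pPrimeCore p H = ⊥) :
    ∃ φ : H ⧸ Cfsg.pCore p H →* MulAut (↥(Cfsg.pCore p H) ⧸ frattini ↥(Cfsg.pCore p H)),
      Function.Injective φ ∧ ∀ (h : H) (o : Cfsg.pCore p H),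
        φ h (o : ↥(Cfsg.pCore p H) ⧸ frattini ↥(Cfsg.pCore p H)) =
          ((MulAut.conjNormal h o : Cfsg.pCore p H) :
            ↥(Cfsg.pCore p H) ⧸ frattini ↥(Cfsg.pCore p H)) := by
  set O := Cfsg.pCore p H
  have hOp : IsPGroup p O := isPGroup_pCore p H
  have hmap : ∀ h : H, (frattini ↥O).map (MulAut.conjNormal h : MulAut O).toMonoidHom =
      frattini ↥O :=
    fun h => Subgroup.characteristic_iff_map_eq.mp inferInstance _
  let act : H →* MulAut (↥O ⧸ frattini ↥O) :=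
    { toFun := fun h => QuotientGroup.congr _ _ (MulAut.conjNormal h : MulAut O) (hmap h)
      map_one' := MulEquiv.ext fun v => by
        obtain ⟨o, rfl⟩ := QuotientGroup.mk_surjective v
        show (((MulAut.conjNormal (1 : H) : MulAut O) o : O) : ↥O ⧸ frattini ↥O) = _
        rw [map_one]; rfl
      map_mul' := fun a b => MulEquiv.ext fun v => by
        obtain ⟨o, rfl⟩ := QuotientGroup.mk_surjective v
        show (((MulAut.conjNormal (a * b) : MulAut O) o : O) : ↥O ⧸ frattini ↥O) = _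
        rw [map_mul]; rfl }
  have hker : ∀ h, act h = 1 ↔ h ∈ O := by
    intro h
    constructor
    · intro h1
      refine Cfsg.Agent.S4218.mem_pCore_of_trivial_frattini (centralizer_pCore_le hG hbot) ?_
      intro y hy
      have h2 : ((MulAut.conjNormal h ⟨y, hy⟩ : O) : ↥O ⧸ frattini ↥O) =
          ((⟨y, hy⟩ : O) : ↥O ⧸ frattini ↥O) :=
        DFunLike.congr_fun h1 ((⟨y, hy⟩ : O) : ↥O ⧸ frattini ↥O)
      rw [← div_eq_one, ← QuotientGroup.mk_div, QuotientGroup.eq_one_iff] at h2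
      exact ⟨_, h2, by simp [div_eq_mul_inv]⟩
    · intro hh
      refine MulEquiv.ext fun v => ?_
      obtain ⟨o, rfl⟩ := QuotientGroup.mk_surjective v
      show (((MulAut.conjNormal h : MulAut O) o : O) : ↥O ⧸ frattini ↥O) = _
      rw [show (MulAut.conjNormal h : MulAut O) o = ⟨h, hh⟩ * o * (⟨h, hh⟩ : O)⁻¹ from
        Subtype.ext (by simp), QuotientGroup.mk_mul, QuotientGroup.mk_mul, QuotientGroup.mk_inv,
        frattini_quotient_comm O hOp (((⟨h, hh⟩ : O)) : ↥O ⧸ frattini ↥O), mul_inv_cancel_right]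
      rfl
  refine ⟨QuotientGroup.lift O act fun o ho => (hker o).mpr ho, ?_, fun h o => rfl⟩
  rw [injective_iff_map_eq_one]
  intro g hg
  obtain ⟨g, rfl⟩ := QuotientGroup.mk_surjective g
  exact (QuotientGroup.eq_one_iff g).mpr ((hker g).mp hg)

/-- An element of the quotient moved by the top power moves an invariant `q`-subgroup. -/
theorem exists_moved_subgroup [Fact p.Prime] (hG : Cfsg.IsPSolvable p H) {e : ℕ} {x : H}
    (hxe : x ^ p ^ e ∈ Cfsg.pCore p H) (he : 1 ≤ e) (hy : x ^ p ^ (e - 1) ∉ Cfsg.pCore p H) :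
    ∃ q, q.Prime ∧ q ≠ p ∧ ∃ Q : Subgroup (H ⧸ Cfsg.pCore p H),
      Q ≤ Cfsg.pPrimeCore p (H ⧸ Cfsg.pCore p H) ∧ IsPGroup q Q ∧
      (x : H ⧸ Cfsg.pCore p H) ∈ Subgroup.normalizer (Q : Set (H ⧸ Cfsg.pCore p H)) ∧
      ¬ Q ≤ Subgroup.centralizer {(x : H ⧸ Cfsg.pCore p H) ^ p ^ (e - 1)} := by
  set O := Cfsg.pCore p H
  set xb : H ⧸ O := QuotientGroup.mk x
  set M := Cfsg.pPrimeCore p (H ⧸ O)
  have hp : p.Prime := Fact.out
  have hMn : M.Normal := pPrimeCore_normal p _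
  have hMcop : (Nat.card M).Coprime p := coprime_card_pPrimeCore p _
  have hCM : Subgroup.centralizer (M : Set (H ⧸ O)) ≤ M := by
    have hM : M = Cfsg.piCore ({p} : Set ℕ)ᶜ (H ⧸ O) := pPrimeCore_eq_piCore p _
    rw [hM]
    refine centralizer_piCore_le ((isPSolvable_iff p).mp (isPSolvable_quotient hG O)).compl ?_
    rw [compl_compl, ← pCore_eq_piCore]
    exact pCore_quotient_self p H
  have hxo : xb ^ p ^ e = 1 := by
    show QuotientGroup.mk' O x ^ _ = 1
    rw [← map_pow]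
    exact (QuotientGroup.eq_one_iff _).mpr hxe
  have hyne : xb ^ p ^ (e - 1) ≠ 1 := fun h => hy ((QuotientGroup.eq_one_iff _).mp (by
    rw [QuotientGroup.mk_pow]; exact h))
  by_contra hcon
  push Not at hcon
  have hle : M ≤ Subgroup.centralizer {xb ^ p ^ (e - 1)} := by
    refine inf_eq_left.mp (Subgroup.eq_of_le_of_card_ge inf_le_left (Nat.le_of_dvd Nat.card_pos ?_))
    refine (Nat.dvd_iff_prime_pow_dvd_dvd _ _).mpr fun q k hq hqk => ?_
    have : Fact q.Prime := ⟨hq⟩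
    rcases Nat.eq_zero_or_pos k with rfl | hk
    · exact (pow_zero q).symm ▸ one_dvd _
    have hqp : q ≠ p := fun h => by
      subst h
      exact (Nat.Prime.coprime_iff_not_dvd hq).mp hMcop.symm ((dvd_pow_self q hk.ne').trans hqk)
    have hcop : (Nat.card (Subgroup.zpowers xb)).Coprime (Nat.card M) := by
      rw [Nat.card_zpowers]
      exact Nat.Coprime.coprime_dvd_left (orderOf_dvd_of_pow_eq_one hxo) (hMcop.symm.pow_left _)
    obtain ⟨Q, hQ⟩ := Cfsg.Agent.CoprimeAction.exists_invariant_sylow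
      (Subgroup.le_normalizer_of_normal : Subgroup.zpowers xb ≤ _) hcop (Or.inl inferInstance) q
    set Q' := (Q : Subgroup M).map M.subtype
    have hQc : Q' ≤ M ⊓ Subgroup.centralizer {xb ^ p ^ (e - 1)} := le_inf (Subgroup.map_subtype_le _)
      (hcon q hq hqp Q' (Subgroup.map_subtype_le _) (Q.isPGroup'.map _)
        (hQ (Subgroup.mem_zpowers xb)))
    refine dvd_trans ?_ (Subgroup.card_dvd_of_le hQc)
    rw [Subgroup.card_subtype]
    exact Q.pow_dvd_card_of_pow_dvd_card hqk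
  have h1 : xb ^ p ^ (e - 1) ∈ M := hCM (Subgroup.mem_centralizer_iff.mpr fun m hm =>
    Subgroup.mem_centralizer_singleton_iff.mp (hle hm))
  refine hyne (orderOf_eq_one_iff.mp (Nat.eq_one_of_dvd_coprimes (hMcop.pow_right e)
    (Subgroup.orderOf_dvd_natCard _ h1) (orderOf_dvd_of_pow_eq_one ?_)))
  rw [← pow_mul, mul_comm, pow_mul, hxo, one_pow]

/-- `(o * x) ^ m` expressed through the action. -/
theorem exists_coe_mul_pow {V G' : Type*} [Group G'] [CommGroup V] (O : Subgroup H) [O.Normal]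
    (π : O →* V) (θ : H →* G') (φ : G' →* MulAut V)
    (hφ : ∀ (h : H) (o : O), φ (θ h) (π o) = π (MulAut.conjNormal h o)) (x : H) (o : O) (m : ℕ) :
    ∃ om : O, ((o : H) * x) ^ m = om * x ^ m ∧
      π om = ∏ k ∈ Finset.range m, φ (θ x ^ k) (π o) := by
  induction m with
  | zero => exact ⟨1, by simp, by simp⟩
  | succ m ih =>
    obtain ⟨om, h1, h2⟩ := ih
    refine ⟨o * MulAut.conjNormal x om, ?_, ?_⟩
    · rw [pow_succ', h1, pow_succ' x]; simp [mul_assoc]
    · rw [map_mul, ← hφ, h2, map_prod, Finset.prod_range_succ', pow_zero, map_one,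
        MulAut.one_apply, mul_comm (π o)]
      simp only [pow_succ', map_mul, MulAut.mul_apply]

/-- If every element of `O x` has order dividing `p ^ e` while `x ^ p ^ (e - 1) ∉ O = O_p(H)`, then
we are in the exceptional case and a `q`-subgroup of `H ⧸ O` is non-abelian. -/
theorem exceptional_of_pow_eq_one [Fact p.Prime] (hG : Cfsg.IsPSolvable p H)
    (hbot : Cfsg.pPrimeCore p H = ⊥) {e : ℕ} (he : 1 ≤ e) {x : H}
    (hexp : ∀ o ∈ Cfsg.pCore p H, (o * x) ^ p ^ e = 1)
    (hy : x ^ p ^ (e - 1) ∉ Cfsg.pCore p H) :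
    ∃ q, q.Prime ∧ q ≠ p ∧ Exceptional p q e ∧ ∃ Q : Subgroup (H ⧸ Cfsg.pCore p H),
      IsPGroup q Q ∧ ¬ IsMulCommutative Q := by
  have hp : p.Prime := Fact.out
  have hxe : x ^ p ^ e = 1 := by simpa using hexp 1 (Subgroup.one_mem _)
  set O := Cfsg.pCore p H
  have hOp : IsPGroup p O := isPGroup_pCore p H
  let _ : CommGroup (↥O ⧸ frattini ↥O) :=
    { (inferInstance : Group (↥O ⧸ frattini ↥O)) with
      mul_comm := frattini_quotient_comm O hOp }
  obtain ⟨φ, hφ, hφc⟩ := exists_frattini_action hG hbot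
  obtain ⟨q, hq, hqp, Q, -, hQ, hxQ, hnc⟩ := exists_moved_subgroup hG (hxe ▸ Subgroup.one_mem _) he hy
  have hN : ∀ v : ↥O ⧸ frattini ↥O,
      ∏ k ∈ Finset.range (p ^ e), φ ((x : H ⧸ O) ^ k) v = 1 := by
    intro v
    obtain ⟨o, rfl⟩ := QuotientGroup.mk_surjective v
    obtain ⟨om, h1, h2⟩ := exists_coe_mul_pow (V := ↥O ⧸ frattini ↥O) O
      (QuotientGroup.mk' (frattini ↥O)) (QuotientGroup.mk' O) φ hφc x o (p ^ e)
    rw [hexp _ o.2, hxe, mul_one] at h1
    rw [show om = 1 from Subtype.ext h1.symm, map_one] at h2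
    exact h2.symm
  have hxeb : (x : H ⧸ O) ^ p ^ e = 1 := by
    rw [← QuotientGroup.mk_pow, hxe, QuotientGroup.mk_one]
  obtain ⟨hE, hab⟩ := exceptional_of_norm_trivial (V := ↥O ⧸ frattini ↥O) (ℓ := p)
    (Cfsg.Agent.PGroupsBasic.quotient_frattini_elementary hOp).2 φ hp hq (Ne.symm hqp)
    (Ne.symm hqp) he hxeb hxQ hQ (fun u _ hu => hφ (hu.trans (map_one φ).symm)) hnc hN
  exact ⟨q, hq, hqp, hE, Q, hQ, hab⟩

/-- If the exceptional situation is excluded the p-length is at most `n`. -/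
theorem pLengthLE_of_exponent [Fact p.Prime] (hp2 : p ≠ 2) (n : ℕ) :
    ∀ (G : Type*) [Group G] [Finite G], Cfsg.IsPSolvable p G →
      ((¬ ∃ k : ℕ, p = 2 ^ k + 1) ∨ ∀ S : Sylow 2 G, IsMulCommutative (S : Subgroup G)) →
      (∀ (P : Sylow p G), ∀ x ∈ (P : Subgroup G), x ^ p ^ n = 1) → Cfsg.PLengthLE p n G := by
  have hp : p.Prime := Fact.out
  induction n with
  | zero =>
    intro G _ _ _ _ hexp
    rw [Cfsg.Agent.HallPLength.pLengthLE_zero_iff]
    refine ((Nat.Prime.coprime_iff_not_dvd hp).mpr fun hd => ?_).symm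
    obtain ⟨g, hg⟩ := exists_prime_orderOf_dvd_card' p hd
    obtain ⟨P, hP⟩ := (IsPGroup.of_card (n := 1) (by rw [Nat.card_zpowers, hg, pow_one]) :
      IsPGroup p (Subgroup.zpowers g)).exists_le_sylow
    have := hexp P g (hP (Subgroup.mem_zpowers g))
    rw [pow_zero, pow_one] at this
    exact hp.ne_one (hg.symm.trans (orderOf_eq_one_iff.mpr this))
  | succ n ih =>
    intro G _ _ hG hor hexp
    have hquot : ∀ {K : Type _} [Group K] [Finite K] {f : G →* K}, Function.Surjective f →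
        ((¬ ∃ k : ℕ, p = 2 ^ k + 1) ∨ ∀ S : Sylow 2 K, IsMulCommutative (S : Subgroup K)) ∧
        (∀ (P : Sylow p K), ∀ x ∈ (P : Subgroup K), ∃ P0 : Sylow p G, ∃ y ∈ (P0 : Subgroup G),
          f y = x) := by
      intro K _ _ f hf
      refine ⟨hor.imp id fun hS S => ?_, fun P x hx => ?_⟩
      · obtain ⟨S0, rfl⟩ := Sylow.mapSurjective_surjective hf 2 S
        refine ⟨⟨?_⟩⟩
        rintro ⟨_, a, ha, rfl⟩ ⟨_, b, hb, rfl⟩
        exact Subtype.ext (by
          show f a * f b = f b * f a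
          rw [← map_mul, ← map_mul, Cfsg.Agent.PGroupsBasic.comm_of_isMulCommutative (hS S0) ha hb])
      · obtain ⟨P0, rfl⟩ := Sylow.mapSurjective_surjective hf p P
        obtain ⟨y, hy, rfl⟩ := hx
        exact ⟨P0, y, hy, rfl⟩
    set T1 := Cfsg.Agent.HallPLength.term p G (2 * 0 + 1)
    set T2 := Cfsg.Agent.HallPLength.term p G 2 with hT2
    have : T1.Normal := Cfsg.Agent.HallPLength.term_two_normal _ _ _
    have : T2.Normal := Cfsg.Agent.HallPLength.term_two_normal _ _ _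
    rw [Cfsg.Agent.HallPLength.pLengthLE_succ_iff]
    obtain ⟨hor2, hlift⟩ := hquot (QuotientGroup.mk'_surjective T2)
    refine ih (G ⧸ T2) (isPSolvable_quotient hG T2) hor2 fun P z hz => ?_
    obtain ⟨P0, x, hx, rfl⟩ := hlift P z hz
    rw [← map_pow]
    refine (QuotientGroup.eq_one_iff _).mpr ?_
    rw [show T2 = (Cfsg.pCore p (G ⧸ T1)).comap (QuotientGroup.mk' T1) from
      Cfsg.Agent.HallConstrained.upperPSeries_even 0, Subgroup.mem_comap, map_pow]
    by_contra hy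
    obtain ⟨hor1, hlift1⟩ := hquot (QuotientGroup.mk'_surjective T1)
    obtain ⟨q, hq, hqp, hE, Q, hQ, hab⟩ := exceptional_of_pow_eq_one (isPSolvable_quotient hG T1)
      (Cfsg.Agent.HallConstrained.pPrimeCore_quotient_upperPSeries 0) (e := n + 1) (by omega)
      (x := QuotientGroup.mk' T1 x) (fun o ho => by
        obtain ⟨P1, y, hy1, hy2⟩ := hlift1 (P0.mapSurjective (QuotientGroup.mk'_surjective T1)) _
          (mul_mem (pCore_le_sylow _ ho) (Subgroup.mem_map_of_mem _ hx))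
        rw [← hy2, ← map_pow, hexp P1 y hy1, map_one]) hy
    obtain ⟨hq2, a, j, ha1, -, hj, heq⟩ := hE.odd hp hp2 hq
    rcases hor1 with hnf | hS
    · refine hnf ?_
      rcases Cfsg.Agent.S3784.result p 2 a j hp Nat.prime_two ha1 hj heq with
        ⟨h, -⟩ | ⟨-, -, -, h⟩ | ⟨h, -⟩
      · exact absurd h hp2
      · exact ⟨j, h⟩
      · refine ⟨1, ?_⟩
        have h3 : p ∣ 3 ^ 2 := by
          rw [show (3 : ℕ) ^ 2 = 9 by norm_num, ← h]; exact dvd_pow_self p (by omega)
        exact (Nat.prime_dvd_prime_iff_eq hp Nat.prime_three).mp (hp.dvd_of_dvd_pow h3)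
    · subst hq2
      have : Fact (Nat.Prime 2) := ⟨Nat.prime_two⟩
      set K := G ⧸ T1
      obtain ⟨S, hS'⟩ := hQ.exists_le_sylow
      obtain ⟨S0, rfl⟩ := Sylow.mapSurjective_surjective
        (QuotientGroup.mk'_surjective (Cfsg.pCore p K)) 2 S
      refine hab ⟨⟨fun a b => Subtype.ext ?_⟩⟩
      obtain ⟨a', ha', ha''⟩ := hS' a.2
      obtain ⟨b', hb', hb''⟩ := hS' b.2
      show (a : K ⧸ Cfsg.pCore p K) * b = b * a
      rw [← ha'', ← hb'', ← map_mul, ← map_mul,
        Cfsg.Agent.PGroupsBasic.comm_of_isMulCommutative (hS S0) ha' hb']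

end Cfsg.Agent.HallHigman
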