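import Mathlib
import Cfsg.Prelude.Def_PLocal
import Cfsg.Agent.Lib.Offenders
import Cfsg.Agent.Lib.QuadraticMain
import Cfsg.Agent.Lib.HallCore
import Cfsg.Agent.Lib.HallSolvable
import Cfsg.Agent.Lib.PGroupsBasic

/-! Action-level `p`-stability from stability on normal elementary abelian subgroups. -/

set_option autoImplicit false

open scoped commutatorElement

namespace Cfsg.Agent.QuadraticStable

open Cfsg

variable {G : Type*} [Group G] [Finite G] {p : ℕ} [Fact p.Prime]

/-- The Frattini quotient of `O_p(G)`, inside `G / Φ(O_p(G))`, is elementary abelian. -/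
theorem ea_frattini_quotient [((frattini ↥(pCore p G)).map (pCore p G).subtype).Normal] :
    IsElementaryAbelian p ((pCore p G).map
      (QuotientGroup.mk' ((frattini ↥(pCore p G)).map (pCore p G).subtype))) := by
  have hP := HallCore.isPGroup_pCore p G
  have hmem : ∀ x : ↥(pCore p G), x ∈ frattini ↥(pCore p G) →
      (((x : G)) : G ⧸ (frattini ↥(pCore p G)).map (pCore p G).subtype) = 1 := fun x hx =>
    (QuotientGroup.eq_one_iff _).2 ⟨x, hx, rfl⟩
  rw [Offenders.ea_iff]
  refine ⟨?_, ?_⟩
  · rintro _ ⟨x, hx, rfl⟩ _ ⟨y, hy, rfl⟩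
    rw [← commutatorElement_eq_one_iff_mul_comm, ← map_commutatorElement]
    exact hmem ⁅⟨x, hx⟩, ⟨y, hy⟩⁆ (PGroupsBasic.commutator_le_frattini hP
      (Subgroup.commutator_mem_commutator (Subgroup.mem_top _) (Subgroup.mem_top _)))
  · rintro _ ⟨x, hx, rfl⟩
    rw [← map_pow]
    exact hmem (⟨x, hx⟩ ^ p) (PGroupsBasic.pow_mem_frattini hP _)

/-- Stability on normal elementary abelian subgroups of `G`, of its Frattini section quotient and
of the normalisers of the Thompson subgroups gives action stability. -/
theorem isActionPStable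
    (hG : ∀ (V : Subgroup G) [V.Normal], IsElementaryAbelian p V → IsPStableOn p V)
    (hQ : ∀ (N : Subgroup G) [N.Normal] (V : Subgroup (G ⧸ N)) [V.Normal],
      IsElementaryAbelian p V → IsPStableOn p V)
    (hN : ∀ (U : Subgroup G) (V : Subgroup U) [V.Normal],
      IsElementaryAbelian p V → IsPStableOn p V) : IsActionPStable p G := by
  refine ⟨hG, ?_, fun S V _ hVle => hN _ V ?_⟩
  · haveI := HallCore.pCore_normal p G
    haveI : ((pCore p G).map
        (QuotientGroup.mk' ((frattini ↥(pCore p G)).map (pCore p G).subtype))).Normal :=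
      Subgroup.Normal.map ‹_› _ (QuotientGroup.mk'_surjective _)
    exact QuadraticMain.isPStableOnSection _ _ (hQ _ _ ea_frattini_quotient)
  · have hea : IsElementaryAbelian p (omegaCenterThompson p ↥(S : Subgroup G)) :=
      Offenders.omegaOne_ea fun x hx y hy => (hx.2 y hy.1).symm
    set N := Subgroup.normalizer (thompsonSubgroupOf p (S : Subgroup G) : Set G)
    have h2 := Offenders.ea_comap (Offenders.ea_mono (Offenders.ea_map hea (S : Subgroup G).subtype)
      hVle) N.subtype N.subtype_injective
    rwa [Subgroup.comap_map_eq_self_of_injective N.subtype_injective] at h2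

theorem abelian_sylow_subgroup (hab : ∀ T : Sylow 2 G, IsMulCommutative T) (U : Subgroup G)
    (T : Sylow 2 U) : IsMulCommutative T := by
  obtain ⟨S, hS⟩ := (T.isPGroup'.map U.subtype).exists_le_sylow
  refine ⟨⟨fun x y => Subtype.ext (Subtype.ext ?_)⟩⟩
  have h := congrArg Subtype.val ((hab S).is_comm.comm
    (⟨_, hS ⟨x.1, x.2, rfl⟩⟩ : S) ⟨_, hS ⟨y.1, y.2, rfl⟩⟩)
  exact h

theorem isActionPStable_of_abelian (hp : p ≠ 2) (hab : ∀ T : Sylow 2 G, IsMulCommutative T) :
    IsActionPStable p G :=
  isActionPStable (fun V _ hV => QuadraticMain.isPStableOn_of_abelian hp hab V hV)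
    (fun N _ V _ hV => QuadraticMain.isPStableOn_of_abelian hp
      (QuadraticMain.abelian_sylow_of_surjective (QuotientGroup.mk'_surjective N) hab) V hV)
    (fun U V _ hV => QuadraticMain.isPStableOn_of_abelian hp (abelian_sylow_subgroup hab U) V hV)

theorem isActionPStable_of_psolvable (hp : 5 ≤ p) (hsol : IsPSolvable p G) :
    IsActionPStable p G :=
  isActionPStable (fun V _ hV => QuadraticMain.isPStableOn_of_psolvable hp hsol V hV)
    (fun N _ V _ hV => QuadraticMain.isPStableOn_of_psolvable hp
      (HallSolvable.isPSolvable_quotient hsol N) V hV)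
    (fun U V _ hV => QuadraticMain.isPStableOn_of_psolvable hp
      (HallSolvable.isPSolvable_subgroup hsol U) V hV)

end Cfsg.Agent.QuadraticStable
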