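import Mathlib
import Cfsg.Agent.Lib.PGroupsBasic

/-!
# The normal Sylow subgroup of a Schmidt group

`P` is a finite `p`-group with an automorphism `φ` of prime order `q ≠ p` which fixes every proper
invariant subgroup pointwise.
-/

set_option autoImplicit false

namespace Cfsg.Agent.SchmidtPPart

open Subgroup
open scoped commutatorElement

/-- The properties of the nonabelian `P` that are used. -/
structure SpecialProps (p : ℕ) (S : Type*) [Group S] : Prop where
  pow : ∀ x : S, x ^ p ∈ center S
  comm : ∀ a b : S, a * b * a⁻¹ * b⁻¹ ∈ center S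
  surj : ∀ g : S, g ∉ center S → ∀ z ∈ center S, ∃ u : S, u * g * u⁻¹ = z * g
  not_three : (center S).index = p ^ 2 → p ≠ 3
  not_two : p = 2 → (center S).index = p ^ 2 → ∀ A : Subgroup S, A.index = 2 → center S ≤ A →
    (∀ a ∈ A, a ^ 2 = 1) → False

variable {P : Type*} [Group P] [Finite P] {p q : ℕ} [hp : Fact p.Prime] [hq : Fact q.Prime]
  (hP : IsPGroup p P) (φ : MulAut P) (hpow : φ ^ q = 1) (hne : φ ≠ 1) (hqp : q ≠ p)
  (H : ∀ M : Subgroup P, M ≠ ⊤ → (∀ x ∈ M, φ x ∈ M) → ∀ x ∈ M, φ x = x)

omit [Finite P] in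
theorem invariant_sup {A B : Subgroup P} (hA : ∀ x ∈ A, φ x ∈ A) (hB : ∀ x ∈ B, φ x ∈ B) :
    ∀ x ∈ A ⊔ B, φ x ∈ A ⊔ B := by
  intro x hx
  have h : A ⊔ B ≤ (A ⊔ B).comap φ.toMonoidHom :=
    sup_le (fun y hy => mem_sup_left (T := B) (hA y hy)) fun y hy => mem_sup_right (S := A) (hB y hy)
  exact h hx

omit [Finite P] in
theorem frattini_invariant : ∀ x ∈ frattini P, φ x ∈ frattini P := fun x hx => by
  have h := Subgroup.characteristic_iff_map_eq.mp
    (inferInstance : (frattini P).Characteristic) φ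
  rw [← h]
  exact ⟨x, hx, rfl⟩

include hne in
theorem nontrivial_P : Nontrivial P := by
  by_contra h
  haveI := not_nontrivial_iff_subsingleton.mp h
  exact hne (MulEquiv.ext fun x => Subsingleton.elim _ _)

include hne H in
theorem frattini_fixed : ∀ x ∈ frattini P, φ x = x := by
  haveI := nontrivial_P φ hne
  exact H _ PGroupsBasic.frattini_ne_top (frattini_invariant φ)

include hP hpow hqp in
omit [Finite P] in
theorem fixed_of_displacement_fixed {v : P} (hw : φ (v⁻¹ * φ v) = v⁻¹ * φ v) : φ v = v := by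
  set w := v⁻¹ * φ v with hwdef
  have hv : ∀ i : ℕ, (φ ^ i) v = v * w ^ i := by
    intro i
    induction i with
    | zero => simp
    | succ n ih =>
      rw [pow_succ', MulAut.mul_apply, ih, map_mul, map_pow, hw, pow_succ']
      rw [show φ v = v * w from by rw [hwdef]; group]
      group
  have h1 : w ^ q = 1 := by
    have := hv q
    rw [hpow, MulAut.one_apply] at this
    exact mul_eq_left.mp this.symm
  obtain ⟨k, hk⟩ := IsPGroup.iff_orderOf.mp hP w
  have h2 : orderOf w = 1 := Nat.eq_one_of_dvd_coprimes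
    (((Nat.coprime_primes hq.out hp.out).mpr hqp).pow_right k)
    (orderOf_dvd_of_pow_eq_one h1) hk.dvd
  have h3 : w = 1 := orderOf_eq_one_iff.mp h2
  rw [hwdef, inv_mul_eq_one] at h3
  exact h3.symm

include hP hpow hne hqp H in
theorem not_all_congr : ¬ ∀ v : P, v⁻¹ * φ v ∈ frattini P := by
  intro h
  refine hne (MulEquiv.ext fun v => ?_)
  exact fixed_of_displacement_fixed hP φ hpow hqp (frattini_fixed φ hne H _ (h v))

include hP hpow hne hqp H in
/-- `P/Φ(P)` has no proper nontrivial invariant subgroup. -/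
theorem le_frattini {M : Subgroup P} (hΦ : frattini P ≤ M) (hM : M ≠ ⊤)
    (hi : ∀ x ∈ M, φ x ∈ M) : M ≤ frattini P := by
  have hc := (PGroupsBasic.quotient_frattini_elementary hP).1
  let σ : (P ⧸ frattini P) ≃* (P ⧸ frattini P) := QuotientGroup.congr (frattini P) (frattini P) φ
    (Subgroup.characteristic_iff_map_eq.mp inferInstance φ)
  have hσ : ∀ x : P, σ (x : P ⧸ frattini P) = ((φ x : P) : P ⧸ frattini P) := fun x => rfl
  let f : (P ⧸ frattini P) →* (P ⧸ frattini P) := MonoidHom.mk' (fun a => a⁻¹ * σ a) fun a b => by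
    rw [map_mul, mul_inv_rev]
    calc b⁻¹ * a⁻¹ * (σ a * σ b) = b⁻¹ * (a⁻¹ * σ a) * σ b := by group
      _ = (a⁻¹ * σ a) * b⁻¹ * σ b := by rw [hc b⁻¹]
      _ = a⁻¹ * σ a * (b⁻¹ * σ b) := by group
  have hf : ∀ x : P, f (x : P ⧸ frattini P) = ((x⁻¹ * φ x : P) : P ⧸ frattini P) := fun x => rfl
  have hsurj : f.range = ⊤ := by
    by_contra hr
    set N := f.range.comap (QuotientGroup.mk' (frattini P)) with hN
    have hNt : N ≠ ⊤ := by
      intro h
      apply hr
      rw [← Subgroup.map_comap_eq_self_of_surjective (QuotientGroup.mk'_surjective (frattini P))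
        f.range, ← hN, h, Subgroup.map_top_of_surjective _ (QuotientGroup.mk'_surjective _)]
    have hNi : ∀ x ∈ N, φ x ∈ N := by
      intro x hx
      obtain ⟨a, ha⟩ := hx
      refine ⟨σ a, ?_⟩
      show (σ a)⁻¹ * σ (σ a) = _
      rw [← map_inv, ← map_mul]
      show σ (f a) = _
      rw [ha]
      rfl
    have hfix := H N hNt hNi
    refine hne (MulEquiv.ext fun v => ?_)
    exact fixed_of_displacement_fixed hP φ hpow hqp (hfix _ ⟨(v : P ⧸ frattini P), hf v⟩)
  have hinj : Function.Injective f :=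
    Finite.injective_iff_surjective.mpr (MonoidHom.range_eq_top.mp hsurj)
  intro x hx
  have h1 : f (x : P ⧸ frattini P) = f 1 := by
    rw [map_one, hf, H M hM hi x hx, inv_mul_cancel, QuotientGroup.mk_one]
  exact (QuotientGroup.eq_one_iff x).mp (hinj h1)

include hP hpow hne hqp H in
/-- An invariant subgroup, together with `Φ(P)` containing all displacements, is everything. -/
theorem eq_top_of_displacement {M : Subgroup P} (hi : ∀ x ∈ M, φ x ∈ M)
    (hd : ∀ v, v⁻¹ * φ v ∈ M) : M = ⊤ := by
  apply frattini_nongenerating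
  by_contra hM
  have h := le_frattini hP φ hpow hne hqp H (M := M ⊔ frattini P) le_sup_right hM
    (invariant_sup φ hi (frattini_invariant φ))
  exact not_all_congr hP φ hpow hne hqp H fun v => h (mem_sup_left (hd v))

include hP hpow hne hqp H in
theorem center_eq_frattini (hna : ¬ ∀ a b : P, a * b = b * a) : center P = frattini P := by
  refine le_antisymm ?_ ?_
  · have hZt : center P ⊔ frattini P ≠ ⊤ := fun h => hna fun a b => by
      have hb : b ∈ center P := by rw [frattini_nongenerating h]; exact mem_top b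
      exact mem_center_iff.mp hb a
    exact le_sup_left.trans (le_frattini hP φ hpow hne hqp H le_sup_right hZt
      (invariant_sup φ (fun x hx => by
        rw [mem_center_iff] at hx ⊢
        intro g
        obtain ⟨g, rfl⟩ := φ.surjective g
        rw [← map_mul, ← map_mul, hx g]) (frattini_invariant φ)))
  · have hfix := frattini_fixed φ hne H
    have hC : centralizer ((frattini P : Subgroup P) : Set P) = ⊤ := by
      refine eq_top_of_displacement hP φ hpow hne hqp H ?_ ?_
      · intro x hx
        rw [mem_centralizer_iff] at hx ⊢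
        intro u hu
        rw [← hfix u hu, ← map_mul, ← map_mul, hx u hu]
      · intro v
        rw [mem_centralizer_iff]
        intro u hu
        have h1 : v * u * v⁻¹ ∈ frattini P :=
          (inferInstance : (frattini P).Normal).conj_mem u hu v
        have h2 := hfix _ h1
        rw [map_mul, map_mul, map_inv, hfix u hu] at h2
        calc u * (v⁻¹ * φ v) = v⁻¹ * (v * u * v⁻¹) * φ v := by group
          _ = v⁻¹ * (φ v * u * (φ v)⁻¹) * φ v := by rw [h2]
          _ = v⁻¹ * φ v * u := by group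
    intro u hu
    rw [mem_center_iff]
    intro g
    exact ((mem_centralizer_iff.mp (hC.ge (mem_top g))) u hu).symm

include hP hpow hne hqp H in
theorem frattini_le_commutator : frattini P ≤ commutator P := by
  have hfix := frattini_fixed φ hne H
  let g : P →* Abelianization P := (powMonoidHom p).comp Abelianization.of
  have hN : g.ker = ⊤ := by
    refine eq_top_of_displacement hP φ hpow hne hqp H ?_ ?_
    · intro x hx
      have hx' : x ^ p ∈ commutator P := by
        rw [← Abelianization.ker_of, MonoidHom.mem_ker, map_pow]; exact hx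
      have h1 : φ x ^ p ∈ commutator P := by
        rw [← map_pow, ← Subgroup.characteristic_iff_map_eq.mp
          (inferInstance : (commutator P).Characteristic) φ]
        exact ⟨_, hx', rfl⟩
      rw [← Abelianization.ker_of, MonoidHom.mem_ker, map_pow] at h1
      exact h1
    · intro v
      show Abelianization.of (v⁻¹ * φ v) ^ p = 1
      rw [map_mul, mul_pow, map_inv, inv_pow, ← map_pow, ← map_pow, ← map_pow φ,
        hfix _ (PGroupsBasic.pow_mem_frattini hP v), inv_mul_cancel]
  refine PGroupsBasic.frattini_le_of_elementary_quotient (p := p) le_rfl fun x => ?_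
  rw [← Abelianization.ker_of, MonoidHom.mem_ker, map_pow]
  exact hN.ge (mem_top x)

include hP hpow hne hqp H in
theorem exists_conj_eq (hna : ¬ ∀ a b : P, a * b = b * a) {g : P} (hg : g ∉ center P) {z : P}
    (hz : z ∈ center P) : ∃ u : P, u * g * u⁻¹ = z * g := by
  have hZ := center_eq_frattini hP φ hpow hne hqp H hna
  have hfix : ∀ x ∈ center P, φ x = x := hZ ▸ frattini_fixed φ hne H
  have hcen : ∀ a b : P, a * b * a⁻¹ * b⁻¹ ∈ center P := fun a b => hZ.ge
    (PGroupsBasic.commutator_le_frattini hP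
      (commutator_mem_commutator (mem_top a) (mem_top b)))
  -- commutator maps into the centre
  let f : P → (P →* P) := fun x => MonoidHom.mk' (fun u => u * x * u⁻¹ * x⁻¹) fun a b => by
    have h := mem_center_iff.mp (hcen b x)
    calc a * b * x * (a * b)⁻¹ * x⁻¹
        = a * (b * x * b⁻¹ * x⁻¹) * (x * a⁻¹ * x⁻¹) := by group
      _ = b * x * b⁻¹ * x⁻¹ * a * (x * a⁻¹ * x⁻¹) := by rw [h a]
      _ = b * x * b⁻¹ * x⁻¹ * (a * x * a⁻¹ * x⁻¹) := by group
      _ = a * x * a⁻¹ * x⁻¹ * (b * x * b⁻¹ * x⁻¹) := (h _).symm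
  have hfv : ∀ x u, f x u = u * x * u⁻¹ * x⁻¹ := fun _ _ => rfl
  have hK : (f g).range ≤ center P := by
    rintro _ ⟨u, rfl⟩; exact hcen u g
  let N : Subgroup P :=
    { carrier := {x | ∀ u, f x u ∈ (f g).range}
      one_mem' := fun u => by simp [hfv]
      mul_mem' := fun {a b} ha hb u => by
        have h := mem_center_iff.mp (hcen u b) a
        have : f (a * b) u = f a u * f b u := by
          simp only [hfv]
          calc u * (a * b) * u⁻¹ * (a * b)⁻¹
              = u * a * u⁻¹ * ((u * b * u⁻¹ * b⁻¹) * a⁻¹) := by group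
            _ = u * a * u⁻¹ * (a⁻¹ * (u * b * u⁻¹ * b⁻¹)) := by
                rw [mem_center_iff.mp (hcen u b) a⁻¹]
            _ = u * a * u⁻¹ * a⁻¹ * (u * b * u⁻¹ * b⁻¹) := by group
        rw [this]
        exact mul_mem (ha u) (hb u)
      inv_mem' := fun {a} ha u => by
        have : f a⁻¹ u = (f a u)⁻¹ := by
          simp only [hfv]
          calc u * a⁻¹ * u⁻¹ * a⁻¹⁻¹ = a⁻¹ * ((u * a * u⁻¹ * a⁻¹)⁻¹ * a) := by group
            _ = a⁻¹ * (a * (u * a * u⁻¹ * a⁻¹)⁻¹) := by
                rw [mem_center_iff.mp (inv_mem (hcen u a)) a]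
            _ = (u * a * u⁻¹ * a⁻¹)⁻¹ := by group
        rw [this]
        exact inv_mem (ha u) }
  have hgN : g ∈ N := fun u => ⟨u, rfl⟩
  have hΦN : frattini P ≤ N := fun x hx u => by
    have hx' := mem_center_iff.mp (hZ.ge hx) u
    rw [hfv, hx', mul_inv_cancel_right, mul_inv_cancel]
    exact one_mem _
  have hNi : ∀ x ∈ N, φ x ∈ N := by
    intro x hx u
    obtain ⟨u, rfl⟩ := φ.surjective u
    have : f (φ x) (φ u) = φ (f x u) := by simp only [hfv, map_mul, map_inv]
    rw [this, hfix _ (hK (hx u))]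
    exact hx u
  have hNt : N = ⊤ := by
    by_contra h
    exact hg (hZ.ge (le_frattini hP φ hpow hne hqp H hΦN h hNi hgN))
  have h1 : frattini P ≤ (f g).range := by
    refine (frattini_le_commutator hP φ hpow hne hqp H).trans ?_
    rw [commutator_def, commutator_le]
    intro a _ b _
    exact hNt.ge (mem_top b) a
  obtain ⟨u, hu⟩ := h1 (hZ.le hz)
  refine ⟨u, ?_⟩
  rw [← hu, hfv]
  group

include hP hpow hne hqp H in
theorem fixed_mem_center (hna : ¬ ∀ a b : P, a * b = b * a) {v : P} (hv : φ v = v) :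
    v ∈ center P := by
  rw [center_eq_frattini hP φ hpow hne hqp H hna]
  let Fx : Subgroup P :=
    { carrier := {x | φ x = x}
      one_mem' := map_one φ
      mul_mem' := fun {a b} (ha : φ a = a) (hb : φ b = b) => by
        show φ (a * b) = a * b
        rw [map_mul, ha, hb]
      inv_mem' := fun {a} (ha : φ a = a) => by
        show φ a⁻¹ = a⁻¹
        rw [map_inv, ha] }
  have ht : Fx ≠ ⊤ := fun h => hne (MulEquiv.ext fun x => h.ge (mem_top x))
  exact le_frattini hP φ hpow hne hqp H (M := Fx) (frattini_fixed φ hne H) ht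
    (fun x (hx : φ x = x) => congrArg φ hx) hv

include hP hpow hne hqp H in
theorem false_of_two_odd (hna : ¬ ∀ a b : P, a * b = b * a) (hq2 : q = 2) (hp2 : p ≠ 2) : False := by
  have hZ := center_eq_frattini hP φ hpow hne hqp H hna
  obtain ⟨v, hv⟩ : ∃ v, v ∉ center P := by
    by_contra h
    push Not at h
    exact hna fun a b => mem_center_iff.mp (h b) a
  have h2 : φ (φ v) = v := by
    rw [← MulAut.mul_apply, ← pow_two, ← hq2, hpow, MulAut.one_apply]
  have hcen : ∀ a b : P, a * b * a⁻¹ * b⁻¹ ∈ center P := fun a b => hZ.ge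
    (PGroupsBasic.commutator_le_frattini hP
      (commutator_mem_commutator (mem_top a) (mem_top b)))
  set c := φ v * v * (φ v)⁻¹ * v⁻¹ with hcdef
  have hc : φ c = c := frattini_fixed φ hne H c (hZ.le (hcen _ _))
  set w := v * φ v with hwdef
  have hw : φ w = c * w := by rw [hwdef, hcdef, map_mul, h2]; group
  have hw2 : c * c = 1 := by
    have h4 : φ (φ w) = w := by simp only [hwdef, map_mul, h2]
    rw [hw, map_mul, hc, hw, ← mul_assoc] at h4
    exact mul_eq_right.mp h4
  have hc1 : c = 1 := by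
    obtain ⟨k, hk⟩ := IsPGroup.iff_orderOf.mp hP c
    refine orderOf_eq_one_iff.mp (Nat.eq_one_of_dvd_coprimes
      (((Nat.coprime_primes Nat.prime_two hp.out).mpr (Ne.symm hp2)).pow_right k) ?_ hk.dvd)
    exact orderOf_dvd_of_pow_eq_one (by rw [pow_two]; exact hw2)
  rw [hc1, one_mul] at hw
  have hwZ := fixed_mem_center hP φ hpow hne hqp H hna hw
  have hφv : φ v = v⁻¹ * w := by rw [hwdef]; group
  set M := zpowers v ⊔ frattini P with hMdef
  have hMi : ∀ x ∈ M, φ x ∈ M := by
    have : M ≤ M.comap φ.toMonoidHom := by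
      refine sup_le ?_ fun x hx => mem_sup_right (frattini_invariant φ x hx)
      rw [zpowers_le]
      show φ v ∈ M
      rw [hφv]
      exact mul_mem (mem_sup_left (inv_mem (mem_zpowers v))) (mem_sup_right (hZ.le hwZ))
    exact fun x hx => this hx
  by_cases hM : M = ⊤
  · have h : M ≤ centralizer {v} := by
      refine sup_le ?_ fun x hx => ?_
      · rw [zpowers_le, mem_centralizer_singleton_iff]
      · rw [mem_centralizer_singleton_iff]
        exact (mem_center_iff.mp (hZ.ge hx) v).symm
    refine hv (mem_center_iff.mpr fun g => ?_)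
    exact mem_centralizer_singleton_iff.mp (h (hM.ge (mem_top g)))
  · exact hv (hZ.ge (le_frattini hP φ hpow hne hqp H le_sup_right hM hMi
      (mem_sup_left (mem_zpowers v))))

include hP hpow hne hqp H in
theorem false_three (hna : ¬ ∀ a b : P, a * b = b * a) (hidx : (center P).index = p ^ 2)
    (hp3 : p = 3) : False := by
  classical
  refine false_of_two_odd hP φ hpow hne hqp H hna ?_ (by omega)
  haveI := Fintype.ofFinite P
  have hZ := center_eq_frattini hP φ hpow hne hqp H hna
  let s : Equiv.Perm P := MulAut.toPerm P φ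
  have hs : s ^ q ^ 1 = 1 := by
    rw [pow_one, ← map_pow, hpow, map_one]
  have h1 := Equiv.Perm.card_compl_support_modEq hs
  have h2 : s.supportᶜ.card = Nat.card (center P) := by
    rw [← Nat.card_eq_finsetCard]
    refine Nat.card_congr (Equiv.subtypeEquivRight fun x => ?_)
    simp only [Finset.mem_compl, Equiv.Perm.mem_support, not_not]
    exact ⟨fun h => fixed_mem_center hP φ hpow hne hqp H hna h,
      fun h => frattini_fixed φ hne H x (hZ.le h)⟩
  rw [h2, ← Nat.card_eq_fintype_card, ← (center P).card_mul_index, hidx, hp3] at h1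
  have hcop : ¬ q ∣ Nat.card (center P) := by
    intro hd
    obtain ⟨k, hk⟩ := (hP.to_subgroup (center P)).exists_card_eq
    rw [hk] at hd
    exact hqp ((Nat.prime_dvd_prime_iff_eq hq.out hp.out).mp (hq.out.dvd_of_dvd_pow hd))
  have h3 : q ∣ Nat.card (center P) * 8 := by
    have := (Nat.modEq_iff_dvd' (Nat.le_mul_of_pos_right _ (by norm_num))).mp h1
    have he : Nat.card (center P) * 3 ^ 2 - Nat.card (center P) = Nat.card (center P) * 8 := by omega
    rwa [he] at this
  have h4 : q ∣ 2 ^ 3 := (hq.out.dvd_mul.mp h3).resolve_left hcop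
  exact (Nat.prime_dvd_prime_iff_eq hq.out Nat.prime_two).mp (hq.out.dvd_of_dvd_pow h4)

include hP hpow hne hqp H in
theorem false_two (hna : ¬ ∀ a b : P, a * b = b * a) (hp2 : p = 2)
    (hidx : (center P).index = p ^ 2) (A : Subgroup P) (hA : A.index = 2) (hZA : center P ≤ A)
    (hsq : ∀ a ∈ A, a ^ 2 = 1) : False := by
  have hZ := center_eq_frattini hP φ hpow hne hqp H hna
  have hfix : ∀ x ∈ center P, φ x = x := hZ ▸ frattini_fixed φ hne H
  have hAt : A ≠ ⊤ := fun h => by simp [h] at hA
  have hrel : (center P).relIndex A = 2 := by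
    have := relIndex_mul_index hZA
    rw [hA, hidx, hp2] at this
    omega
  obtain ⟨a, ha, haZ⟩ : ∃ a ∈ A, a ∉ center P := by
    by_contra h
    push Not at h
    rw [relIndex_eq_one.mpr h] at hrel
    omega
  have hAZ : ∀ y ∈ A, y ∉ center P → a⁻¹ * y ∈ center P := by
    intro y hy hyZ
    have h := (Subgroup.mul_mem_iff_of_index_two (H := (center P).subgroupOf A) hrel
      (a := (⟨a, ha⟩ : A)⁻¹) (b := ⟨y, hy⟩)).mpr
    simp only [inv_mem_iff, Subgroup.mem_subgroupOf] at h
    exact h (by simp [haZ, hyZ])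
  have hAnot : ¬ ∀ x ∈ A, φ x ∈ A := fun h =>
    haZ (hZ.ge (le_frattini hP φ hpow hne hqp H (hZ ▸ hZA) hAt h ha))
  have hb : φ a ∉ A := by
    intro h
    refine hAnot fun x hx => ?_
    by_cases hxZ : x ∈ center P
    · rw [hfix x hxZ]; exact hx
    · have : x = a * (a⁻¹ * x) := by group
      rw [this, map_mul, hfix _ (hAZ x hx hxZ)]
      exact mul_mem h (hZA (hAZ x hx hxZ))
  have hc : φ (φ a) ∉ A := by
    intro h
    apply hb
    have hA2 : ∀ x ∈ A, φ (φ x) ∈ A := by
      intro x hx
      by_cases hxZ : x ∈ center P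
      · rw [hfix x hxZ, hfix x hxZ]; exact hx
      · have : x = a * (a⁻¹ * x) := by group
        rw [this, map_mul, map_mul, hfix _ (hAZ x hx hxZ), hfix _ (hAZ x hx hxZ)]
        exact mul_mem h (hZA (hAZ x hx hxZ))
    obtain ⟨j, hj⟩ : Odd q := hq.out.odd_of_ne_two (hp2 ▸ hqp)
    have hev : ∀ i : ℕ, (φ ^ (2 * i)) (φ (φ a)) ∈ A := by
      intro i
      induction i with
      | zero => simpa using h
      | succ n ih =>
        rw [show 2 * (n + 1) = 2 + 2 * n from by ring, pow_add, MulAut.mul_apply, pow_two,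
          MulAut.mul_apply]
        exact hA2 _ ih
    have := hev j
    have h1 : (φ ^ (2 * j)) (φ (φ a)) = (φ ^ (2 * j + 1)) (φ a) := by
      rw [pow_succ, MulAut.mul_apply]
    rwa [h1, ← hj, hpow, MulAut.one_apply] at this
  have hbc : (φ a)⁻¹ * φ (φ a) ∈ A :=
    (Subgroup.mul_mem_iff_of_index_two hA).mpr (by simp [inv_mem_iff, hb, hc])
  have hbcZ : (φ a)⁻¹ * φ (φ a) ∉ center P := by
    intro h
    rw [← map_inv, ← map_mul] at h
    have h1 : a⁻¹ * φ a ∈ center P := by
      rw [hZ] at h ⊢
      rw [← Subgroup.characteristic_iff_comap_eq.mp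
        (inferInstance : (frattini P).Characteristic) φ]
      exact h
    apply hb
    have := mul_mem ha (hZA h1)
    rwa [mul_inv_cancel_left] at this
  have hall : ∀ x : P, x ^ 2 = 1 := by
    intro x
    by_cases hx : x ∈ A
    · exact hsq x hx
    have hy : (φ a)⁻¹ * x ∈ A :=
      (Subgroup.mul_mem_iff_of_index_two hA).mpr (by simp [inv_mem_iff, hb, hx])
    by_cases hyZ : (φ a)⁻¹ * x ∈ center P
    · have : x = φ (a * ((φ a)⁻¹ * x)) := by rw [map_mul, hfix _ hyZ, mul_inv_cancel_left]
      rw [this, ← map_pow, hsq _ (mul_mem ha (hZA hyZ)), map_one]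
    · have h1 := mul_mem (inv_mem (hAZ _ hbc hbcZ)) (hAZ _ hy hyZ)
      have : x = φ (φ (a * ((a⁻¹ * ((φ a)⁻¹ * φ (φ a)))⁻¹ * (a⁻¹ * ((φ a)⁻¹ * x))))) := by
        rw [map_mul, map_mul, hfix _ h1, hfix _ h1]
        group
      rw [this, ← map_pow, ← map_pow, hsq _ (mul_mem ha (hZA h1)), map_one, map_one]
  refine hna fun x y => ?_
  have hinv : ∀ z : P, z⁻¹ = z := fun z => inv_eq_of_mul_eq_one_right (by rw [← pow_two]; exact hall z)
  calc x * y = (x * y)⁻¹ := (hinv _).symm
    _ = y⁻¹ * x⁻¹ := mul_inv_rev x y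
    _ = y * x := by rw [hinv, hinv]

include hP hpow hne hqp H in
/-- A nonabelian `P` has the special properties. -/
theorem specialProps (hna : ¬ ∀ a b : P, a * b = b * a) : SpecialProps p P := by
  have hZ := center_eq_frattini hP φ hpow hne hqp H hna
  exact ⟨fun x => hZ.ge (PGroupsBasic.pow_mem_frattini hP x),
    fun a b => hZ.ge (PGroupsBasic.commutator_le_frattini hP
      (commutator_mem_commutator (mem_top a) (mem_top b))),
    fun g hg z hz => exists_conj_eq hP φ hpow hne hqp H hna hg hz,
    fun hi h3 => false_three hP φ hpow hne hqp H hna hi h3,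
    fun h2 hi A hA hZA hsq => false_two hP φ hpow hne hqp H hna h2 hi A hA hZA hsq⟩

end Cfsg.Agent.SchmidtPPart
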