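import Mathlib
import Cfsg.Agent.Lib.SchmidtPPart
import Cfsg.Agent.Lib.HallCore
import Cfsg.Agent.Lib.HallSolvable
import Cfsg.Agent.Lib.CoprimeGen
import Cfsg.Agent.Lib.QuadraticStable
import Cfsg.Agent.Lib.HallHigmanExponent
import Cfsg.Agent.Lib.PLengthSteps

/-!
# `p`-length one for Sylow subgroups of Schmidt type
-/

set_option autoImplicit false

namespace Cfsg.Agent.ClassTwoPLength

open Subgroup Cfsg.Agent.HallCore Cfsg.Agent.HallSolvable Cfsg.Agent.SchmidtPPart
open scoped commutatorElement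

/-- A group `E` with `⁅V, E⁆ = W = ⁅v, E⁆` for all `v ∉ W`, acting faithfully inside `Y` with a
self-centralising normal `p'`-subgroup, has order `p`, and so have `W` and `V/W`. -/
theorem quad_core {Y V : Type*} [Group Y] [Finite Y] [Group V] [Finite V] {p : ℕ}
    [hp : Fact p.Prime] (ψ : Y →* MulAut V) (hψ : Function.Injective ψ)
    (O : Subgroup Y) [hOn : O.Normal] (hOp : (Nat.card O).Coprime p)
    (hOc : centralizer (O : Set Y) ≤ O)
    (E : Subgroup Y) (hEc : ∀ a ∈ E, ∀ b ∈ E, a * b = b * a) (hEp : ∀ a ∈ E, a ^ p = 1)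
    (hE : E ≠ ⊥) (hVc : ∀ a b : V, a * b = b * a) (hVp : ∀ v : V, v ^ p = 1)
    (W : Subgroup V) (hW1 : W ≠ ⊥) (hWt : W ≠ ⊤)
    (h1 : ∀ e ∈ E, ∀ v, ψ e v * v⁻¹ ∈ W) (h2 : ∀ e ∈ E, ∀ w ∈ W, ψ e w = w)
    (h3 : ∀ v, v ∉ W → ∀ w ∈ W, ∃ e ∈ E, ψ e v = w * v) :
    Nat.card E = p ∧ Nat.card W = p ∧ W.index = p := by
  obtain ⟨⟨e₁, he₁⟩, he₁1'⟩ := Subgroup.ne_bot_iff_exists_ne_one.mp hE
  have he₁1 : e₁ ≠ 1 := fun h => he₁1' (Subtype.ext h)
  let δ : V → (↥E →* V) := fun v => MonoidHom.mk' (fun e => ψ e v * v⁻¹) fun a b => by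
    show ψ ((a : Y) * b) v * v⁻¹ = _
    rw [map_mul, MulAut.mul_apply]
    have hb : ψ (b : Y) v = (ψ (b : Y) v * v⁻¹) * v := (inv_mul_cancel_right _ _).symm
    conv_lhs => rw [hb, map_mul, h2 _ a.2 _ (h1 _ b.2 v)]
    rw [mul_assoc, hVc]
  have hδ : ∀ v (e : E), δ v e = ψ e v * v⁻¹ := fun _ _ => rfl
  -- if a pair `F ⊔ ⟨a⟩` covers `E` and `F` fixes `v`, then `W` is generated by one value
  have hcyc : ∀ (F : Subgroup Y) (a : Y) (ha : a ∈ E), F ≤ E → E ≤ F ⊔ zpowers a →
      ∀ v, v ∉ W → (∀ e ∈ F, ψ e v = v) → W ≤ zpowers (ψ a v * v⁻¹) := by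
    intro F a ha hFE hEF v hv hFv w hw
    obtain ⟨e, he, hev⟩ := h3 v hv w hw
    have hT : E ≤ ((zpowers (ψ a v * v⁻¹)).comap (δ v)).map E.subtype := by
      refine hEF.trans (sup_le (fun x hx => ?_) ?_)
      · refine ⟨⟨x, hFE hx⟩, ?_, rfl⟩
        show ψ x v * v⁻¹ ∈ zpowers (ψ a v * v⁻¹)
        rw [hFv x hx, mul_inv_cancel]
        exact one_mem _
      · rw [zpowers_le]
        exact ⟨⟨a, ha⟩, mem_zpowers _, rfl⟩
    obtain ⟨x, hx, hxe⟩ := hT he
    have : δ v x = w := by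
      rw [hδ]
      rw [show (x : Y) = e from hxe, hev, mul_inv_cancel_right]
    rw [← this]
    exact hx
  have hcardW : ∀ x : V, W ≤ zpowers x → Nat.card W = p := by
    intro x hx
    refine ((Nat.dvd_prime hp.out).mp ((Subgroup.card_dvd_of_le hx).trans ?_)).resolve_left
      fun h => hW1 (Subgroup.card_eq_one.mp h)
    rw [Nat.card_zpowers]
    exact orderOf_dvd_of_pow_eq_one (hVp x)
  have hEO : ¬ O ≤ centralizer (E : Set Y) := by
    intro h
    apply he₁1
    have h' : e₁ ∈ O := hOc (mem_centralizer_iff.mpr fun o ho =>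
      (mem_centralizer_iff.mp (h ho) e₁ he₁).symm)
    refine orderOf_eq_one_iff.mp (Nat.eq_one_of_dvd_coprimes hOp
      (Subgroup.orderOf_dvd_natCard O h') (orderOf_dvd_of_pow_eq_one (hEp e₁ he₁)))
  obtain ⟨E0, ⟨hE0, hD⟩, hmax⟩ := (Set.toFinite
    {F : Subgroup Y | F ≤ E ∧ ¬ O ⊓ centralizer (F : Set Y) ≤ centralizer (E : Set Y)}).exists_maximal
      ⟨⊥, bot_le, fun h => hEO fun x hx => h ⟨hx, mem_centralizer_iff.mpr fun y hy => by
        rw [Subgroup.mem_bot.mp hy, one_mul, mul_one]⟩⟩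
  set D := O ⊓ centralizer (E0 : Set Y) with hDdef
  have hgen : ∀ a ∈ E, a ∉ E0 → E ≤ E0 ⊔ zpowers a := by
    intro a ha ha0 b hb
    by_contra hb0
    apply hD
    have ha1 : a ≠ 1 := fun h => ha0 (h ▸ one_mem _)
    have hb1 : b ≠ 1 := fun h => hb0 (h ▸ one_mem _)
    have hpz : ∀ x ∈ E, x ≠ 1 → ∀ y ∈ zpowers x, y ≠ 1 → x ∈ zpowers y := by
      intro x hx hx1 y hy hy1
      have hc : Nat.card (zpowers x) ≤ Nat.card (zpowers y) := by
        rw [Nat.card_zpowers, Nat.card_zpowers, orderOf_eq_prime (hEp x hx) hx1,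
          orderOf_eq_prime (hEp y ((zpowers_le.mpr hx) hy)) hy1]
      rw [Subgroup.eq_of_le_of_card_ge (zpowers_le.mpr hy) hc]
      exact mem_zpowers x
    have hna : a ∉ zpowers b := fun h =>
      hb0 (mem_sup_right (hpz b hb hb1 a h ha1))
    have hab : Commute a b := hEc a ha b hb
    have hn : E ≤ normalizer ((D : Subgroup Y) : Set Y) := by
      refine Cfsg.Agent.CoprimeAction.le_normalizer_of_conj_mem fun e he d hd => ⟨hOn.conj_mem d hd.1 e, ?_⟩
      refine mem_centralizer_iff.mpr fun x hx => ?_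
      have c1 : Commute x e := hEc x (hE0 hx) e he
      have c2 : Commute x d := mem_centralizer_iff.mp hd.2 x hx
      exact ((c1.mul_right c2).mul_right c1.inv_right).eq
    refine CoprimeGen.le_of_pair_centralizers (p := p) (a := a) (b := b)
      ⟨hab, hEp a ha, hEp b hb, hb1, hna, hn ha, hn hb⟩ ?_ ?_
    · exact fun hd => hp.out.ne_one (Nat.eq_one_of_dvd_coprimes hOp
        (hd.trans (Subgroup.card_dvd_of_le inf_le_left)) dvd_rfl)
    · intro e he he1
      obtain ⟨m, n, hmn⟩ := CoprimeGen.mem_pairSubgroup_iff.mp he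
      have he0 : e ∉ E0 := by
        intro he0
        by_cases hbn : b ^ n = 1
        · rw [hbn, mul_one] at hmn
          exact ha0 (zpowers_le.mpr he0 (hpz a ha ha1 e (hmn ▸ zpow_mem (mem_zpowers a) m) he1))
        · refine hb0 (zpowers_le.mpr ?_ (hpz b hb hb1 (b ^ n) (zpow_mem (mem_zpowers b) n) hbn))
          rw [show b ^ n = (a ^ m)⁻¹ * e by rw [← hmn, inv_mul_cancel_left]]
          exact mul_mem (inv_mem (mem_sup_right (zpow_mem (mem_zpowers a) m))) (mem_sup_left he0)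
      have heE : e ∈ E := CoprimeGen.pairSubgroup_le ha hb he
      by_contra hnot
      have := hmax (y := E0 ⊔ zpowers e) ⟨sup_le hE0 (zpowers_le.mpr heE), fun hle => hnot
        fun x hx => hle ⟨hx.1.1, ?_⟩⟩ le_sup_left
      · exact he0 (this (mem_sup_right (mem_zpowers e)))
      · have hle : E0 ⊔ zpowers e ≤ centralizer {x} := by
          refine sup_le (fun y hy => mem_centralizer_singleton_iff.mpr ?_) ?_
          · exact mem_centralizer_iff.mp hx.1.2 y hy
          · rw [zpowers_le, mem_centralizer_singleton_iff]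
            exact (mem_centralizer_singleton_iff.mp hx.2).symm
        exact mem_centralizer_iff.mpr fun y hy => mem_centralizer_singleton_iff.mp (hle hy)
  obtain ⟨a, ha, ha0⟩ : ∃ a ∈ E, a ∉ E0 := by
    by_contra h
    push Not at h
    exact hD fun x hx => mem_centralizer_iff.mpr fun y hy => mem_centralizer_iff.mp hx.2 y (h y hy)
  by_cases hE0b : E0 = ⊥
  · -- `E` is cyclic
    have hEa : E = zpowers a := le_antisymm
      (by simpa [hE0b] using hgen a ha ha0) (zpowers_le.mpr ha)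
    have ha1 : a ≠ 1 := fun h => ha0 (h ▸ one_mem _)
    have hEcard : Nat.card E = p := by
      rw [hEa, Nat.card_zpowers, orderOf_eq_prime (hEp a ha) ha1]
    have hv0 : ∀ v, v ∉ W → W ≤ zpowers (ψ a v * v⁻¹) := fun v hv =>
      hcyc ⊥ a ha bot_le (by rw [bot_sup_eq, ← hEa]) v hv fun e he => by
        rw [Subgroup.mem_bot.mp he, map_one, MulAut.one_apply]
    obtain ⟨v, hv⟩ : ∃ v, v ∉ W := by
      by_contra h
      push Not at h
      exact hWt (eq_top_iff.mpr fun x _ => h x)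
    have hW := hcardW _ (hv0 v hv)
    refine ⟨hEcard, hW, ?_⟩
    let η : V →* W := MonoidHom.mk' (fun v => ⟨ψ a v * v⁻¹, h1 a ha v⟩) fun x y => Subtype.ext <| by
      show ψ a (x * y) * (x * y)⁻¹ = ψ a x * x⁻¹ * (ψ a y * y⁻¹)
      rw [map_mul, mul_inv_rev]
      calc ψ a x * ψ a y * (y⁻¹ * x⁻¹) = ψ a x * ((ψ a y * y⁻¹) * x⁻¹) := by group
        _ = ψ a x * (x⁻¹ * (ψ a y * y⁻¹)) := by rw [hVc _ x⁻¹]
        _ = ψ a x * x⁻¹ * (ψ a y * y⁻¹) := by group
    have hker : η.ker ≤ W := by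
      intro x hx
      by_contra hxW
      apply hW1
      have hx' : ψ a x * x⁻¹ = 1 := congrArg Subtype.val hx
      have := hv0 x hxW
      rwa [hx', zpowers_one_eq_bot, le_bot_iff] at this
    have hdvd : W.index ∣ p := by
      refine (index_dvd_of_le hker).trans ?_
      rw [index_ker]
      exact (Subgroup.card_subgroup_dvd_card _).trans hW.dvd
    exact ((Nat.dvd_prime hp.out).mp hdvd).resolve_left fun h => hWt (index_eq_one.mp h)
  · exfalso
    obtain ⟨e₀, he₀, he₀1⟩ : ∃ e ∈ E0, e ≠ (1 : Y) := by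
      obtain ⟨x, hx⟩ := Subgroup.ne_bot_iff_exists_ne_one.mp hE0b
      exact ⟨x.1, x.2, fun h => hx (Subtype.ext h)⟩
    have hcd : ∀ d ∈ D, ∀ e ∈ E0, ∀ x, ψ e (ψ d x) = ψ d (ψ e x) := by
      intro d hd e he x
      rw [← MulAut.mul_apply, ← MulAut.mul_apply, ← map_mul, ← map_mul,
        mem_centralizer_iff.mp hd.2 e he]
    have hDW : ∀ d ∈ D, ∀ w ∈ W, ψ d w ∈ W := by
      by_cases hC : ∀ v, (∀ e ∈ E0, ψ e v = v) → v ∈ W
      · intro d hd w hw
        refine hC _ fun e he => ?_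
        rw [hcd d hd e he, h2 e (hE0 he) w hw]
      · push Not at hC
        obtain ⟨v, hv, hvW⟩ := hC
        have hW := hcardW _ (hcyc E0 a ha hE0 (hgen a ha ha0) v hvW hv)
        obtain ⟨v', hv'⟩ : ∃ v', ψ e₀ v' ≠ v' := by
          by_contra h
          push Not at h
          exact he₀1 (hψ (by rw [map_one]; exact MulEquiv.ext h))
        set w1 := ψ e₀ v' * v'⁻¹ with hw1
        have hw1W : w1 ∈ W := h1 e₀ (hE0 he₀) v'
        have hw11 : w1 ≠ 1 := fun h => hv' (mul_inv_eq_one.mp h)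
        have hWz : zpowers w1 = W := by
          refine Subgroup.eq_of_le_of_card_ge (zpowers_le.mpr hw1W) ?_
          rw [hW, Nat.card_zpowers, orderOf_eq_prime (hVp w1) hw11]
        intro d hd w hw
        rw [← hWz] at hw
        obtain ⟨n, rfl⟩ := hw
        rw [map_zpow]
        refine zpow_mem ?_ n
        rw [hw1, map_mul, map_inv, ← hcd d hd e₀ he₀ v']
        exact h1 e₀ (hE0 he₀) _
    apply hD
    intro d hd
    refine mem_centralizer_iff.mpr fun e he => ?_
    set k := d * e * d⁻¹ * e⁻¹ with hkdef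
    have hkD : k ∈ D := by
      have h : e * d⁻¹ * e⁻¹ ∈ D := by
        refine ⟨hOn.conj_mem _ (inv_mem hd.1) e, mem_centralizer_iff.mpr fun x hx => ?_⟩
        have c1 : Commute x e := hEc x (hE0 hx) e he
        have c2 : Commute x d := mem_centralizer_iff.mp hd.2 x hx
        exact ((c1.mul_right c2.inv_right).mul_right c1.inv_right).eq
      have := mul_mem hd h
      rwa [← mul_assoc, ← mul_assoc] at this
    have hka : ∀ x, ψ k x = ψ d (ψ e (ψ d⁻¹ (ψ e⁻¹ x))) := fun x => by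
      simp only [hkdef, map_mul, MulAut.mul_apply]
    have hdd : ∀ x, ψ d (ψ d⁻¹ x) = x := fun x => by
      rw [← MulAut.mul_apply, ← map_mul, mul_inv_cancel, map_one, MulAut.one_apply]
    have hkW : ∀ w ∈ W, ψ k w = w := fun w hw => by
      rw [hka, h2 _ (inv_mem he) w hw, h2 e he _ (hDW _ (inv_mem hd) w hw), hdd]
    have hkV : ∀ v, ψ k v * v⁻¹ ∈ W := fun v => by
      obtain ⟨w₁, hw₁, e1⟩ : ∃ w ∈ W, ψ e⁻¹ v = w * v :=
        ⟨_, h1 _ (inv_mem he) v, (inv_mul_cancel_right _ _).symm⟩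
      obtain ⟨w₂, hw₂, e2⟩ : ∃ w ∈ W, ψ e (ψ d⁻¹ v) = w * ψ d⁻¹ v :=
        ⟨_, h1 e he _, (inv_mul_cancel_right _ _).symm⟩
      rw [hka, e1, map_mul, map_mul, e2, h2 e he _ (hDW _ (inv_mem hd) w₁ hw₁), map_mul, map_mul,
        hdd, hdd, ← mul_assoc, mul_inv_cancel_right]
      exact mul_mem hw₁ (hDW d hd w₂ hw₂)
    have hpowk : ∀ (n : ℕ) v, ψ (k ^ n) v = (ψ k v * v⁻¹) ^ n * v := by
      intro n v
      induction n with
      | zero => simp
      | succ n ih =>
        rw [pow_succ', map_mul, MulAut.mul_apply, ih, map_mul, map_pow, hkW _ (hkV v), pow_succ,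
          mul_assoc ((ψ k v * v⁻¹) ^ n), inv_mul_cancel_right]
    have hk1 : k = 1 := by
      have hkp : k ^ p = 1 := hψ (by
        rw [map_one]
        refine MulEquiv.ext fun v => ?_
        rw [hpowk, hVp, one_mul, MulAut.one_apply])
      exact orderOf_eq_one_iff.mp (Nat.eq_one_of_dvd_coprimes hOp
        (Subgroup.orderOf_dvd_natCard O hkD.1) (orderOf_dvd_of_pow_eq_one hkp))
    rw [hkdef, mul_inv_eq_one, mul_inv_eq_iff_eq_mul] at hk1
    exact hk1.symm

/-- The centre of a special group with centre of index `4` has order at most `2`. -/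
theorem card_center_le_two {S : Type*} [Group S] [Finite S] (hidx : (center S).index = 4)
    (hsurj : ∀ g : S, g ∉ center S → ∀ z ∈ center S, ∃ u : S, u * g * u⁻¹ = z * g) :
    Nat.card (center S) ≤ 2 := by
  obtain ⟨g, hg⟩ : ∃ g, g ∉ center S := by
    by_contra h
    push Not at h
    rw [show center S = ⊤ from eq_top_iff.mpr fun x _ => h x, index_top] at hidx
    omega
  set K := centralizer ({g} : Set S)
  have hZK : center S ≤ K := fun z hz =>
    mem_centralizer_singleton_iff.mpr (mem_center_iff.mp hz g).symm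
  have hKt : K ≠ ⊤ := fun h => hg (mem_center_iff.mpr fun x =>
    mem_centralizer_singleton_iff.mp (h.ge (mem_top x) : x ∈ centralizer ({g} : Set S)))
  have h1 : (center S).relIndex K ≠ 1 := fun h =>
    hg (relIndex_eq_one.mp h (mem_centralizer_singleton_iff.mpr rfl))
  have hK1 : K.index ≠ 1 := fun h => hKt (index_eq_one.mp h)
  have hK : K.index = 2 := by
    have h := relIndex_mul_index hZK
    rw [hidx] at h
    have hd : K.index ∣ 4 := Dvd.intro_left _ h
    have := Nat.le_of_dvd (by norm_num) hd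
    interval_cases hn : K.index <;> omega
  obtain ⟨u₀, hu₀⟩ : ∃ u, u ∉ K := by
    by_contra h
    push Not at h
    exact hKt (eq_top_iff.mpr fun x _ => h x)
  have hval : ∀ z ∈ center S, z = 1 ∨ z = u₀ * g * u₀⁻¹ * g⁻¹ := by
    intro z hz
    obtain ⟨u, hu⟩ := hsurj g hg z hz
    by_cases huK : u ∈ K
    · left
      rw [mem_centralizer_singleton_iff.mp huK, mul_inv_cancel_right] at hu
      exact mul_eq_right.mp hu.symm
    · right
      have hk : u₀⁻¹ * u ∈ K :=
        (Subgroup.mul_mem_iff_of_index_two hK).mpr (by simp [inv_mem_iff, hu₀, huK])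
      have hc := mem_centralizer_singleton_iff.mp hk
      have h2 : u * g * u⁻¹ = u₀ * g * u₀⁻¹ := by
        calc u * g * u⁻¹ = u₀ * ((u₀⁻¹ * u) * g) * u⁻¹ := by group
          _ = u₀ * (g * (u₀⁻¹ * u)) * u⁻¹ := by rw [hc]
          _ = u₀ * g * u₀⁻¹ := by group
      rw [h2] at hu
      rw [hu, mul_inv_cancel_right]
  classical
  calc Nat.card (center S) = Set.ncard ((center S : Subgroup S) : Set S) := Nat.card_coe_set_eq _
    _ ≤ Set.ncard ({1, u₀ * g * u₀⁻¹ * g⁻¹} : Set S) :=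
      Set.ncard_le_ncard (fun z hz => hval z hz) (Set.toFinite _)
    _ ≤ 2 := (Set.ncard_insert_le _ _).trans (by rw [Set.ncard_singleton])

variable {H : Type*} [Group H] [Finite H] {p : ℕ} [hp : Fact p.Prime]

/-- If `O_{p'}(H) = 1` and a Sylow `p`-subgroup is abelian or special of Schmidt type, it is normal. -/
theorem sylow_le_pCore (hH : Cfsg.IsPSolvable p H) (hbot : Cfsg.pPrimeCore p H = ⊥)
    (S : Sylow p H)
    (h : (∀ a b : ↥(S : Subgroup H), a * b = b * a) ∨ SpecialProps p ↥(S : Subgroup H)) :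
    (S : Subgroup H) ≤ Cfsg.pCore p H := by
  set R := Cfsg.pCore p H with hR
  have hRn : R.Normal := pCore_normal p H
  have hRp : IsPGroup p R := isPGroup_pCore p H
  have hCR : centralizer (R : Set H) ≤ R := centralizer_pCore_le hH hbot
  have hRS : R ≤ (S : Subgroup H) :=
    le_sup_left.trans (S.3 (hRp.to_sup_of_normal_left S.2) le_sup_right).le
  rcases h with hab | hsp
  · refine fun x hx => hCR (mem_centralizer_iff.mpr fun r hr => ?_)
    exact congrArg Subtype.val (hab ⟨r, hRS hr⟩ ⟨x, hx⟩)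
  by_contra hnot
  set Zs := (center ↥(S : Subgroup H)).map (S : Subgroup H).subtype with hZs
  have hZS : Zs ≤ (S : Subgroup H) := map_subtype_le _
  have hcZ : ∀ z ∈ Zs, ∀ x ∈ (S : Subgroup H), x * z = z * x := by
    rintro _ ⟨z, hz, rfl⟩ x hx
    exact congrArg Subtype.val (mem_center_iff.mp hz ⟨x, hx⟩)
  have hcomZ : ∀ a ∈ (S : Subgroup H), ∀ b ∈ (S : Subgroup H), a * b * a⁻¹ * b⁻¹ ∈ Zs :=
    fun a ha b hb => ⟨_, hsp.comm ⟨a, ha⟩ ⟨b, hb⟩, rfl⟩
  have hpowZ : ∀ x ∈ (S : Subgroup H), x ^ p ∈ Zs := fun x hx => ⟨_, hsp.pow ⟨x, hx⟩, rfl⟩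
  have hsurj : ∀ g ∈ (S : Subgroup H), g ∉ Zs → ∀ z ∈ Zs,
      ∃ u ∈ (S : Subgroup H), u * g * u⁻¹ = z * g := by
    rintro g hg hgZ _ ⟨z, hz, rfl⟩
    obtain ⟨u, hu⟩ := hsp.surj ⟨g, hg⟩ (fun h => hgZ ⟨_, h, rfl⟩) z hz
    exact ⟨u, u.2, congrArg Subtype.val hu⟩
  have hZR : Zs ≤ R := fun z hz => hCR (mem_centralizer_iff.mpr fun r hr => hcZ z hz r (hRS hr))
  by_cases hp5 : 5 ≤ p
  · -- `p`-stability
    apply hnot
    intro a ha
    obtain ⟨D, hDn, hskD, ⟨k, hk⟩, haD⟩ :=
      (QuadraticStable.isActionPStable_of_psolvable hp5 hH).2.1 a (by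
        have h1 : ⁅R, zpowers a⁆ ≤ Zs := commutator_le.mpr fun r hr x hx =>
          hcomZ r (hRS hr) x (zpowers_le.mpr ha hx)
        refine (commutator_mono h1 le_rfl).trans (commutator_le.mpr fun z hz x hx => ?_)
        rw [commutatorElement_eq_one_iff_mul_comm.mpr (hcZ z hz x (zpowers_le.mpr ha hx)).symm]
        exact one_mem _)
    refine le_pCore (N := D) ?_ haD
    set N := (frattini ↥R).map R.subtype with hN
    have hsk : Cfsg.sectionKernel R N ≤ R := by
      intro x hx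
      refine Cfsg.Agent.S4218.mem_pCore_of_trivial_frattini hCR fun y hy => ?_
      rw [← hN, ← QuotientGroup.eq_one_iff]
      have hc := mem_centralizer_iff.mp (mem_comap.mp hx) _ (mem_map_of_mem _ hy)
      rw [← commutatorElement_def]
      show QuotientGroup.mk' N ⁅x, y⁆ = 1
      rw [map_commutatorElement, commutatorElement_eq_one_iff_mul_comm]
      exact hc.symm
    obtain ⟨j, hj⟩ := (hRp.to_le hsk).exists_card_eq
    refine IsPGroup.of_card (n := j + k) ?_
    rw [← card_mul_relIndex hskD, hj, hk, pow_add]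
  -- `p ≤ 3`
  set Zc := Zs.subgroupOf R with hZc
  have hZcc : Zc ≤ center ↥R := fun z hz =>
    mem_center_iff.mpr fun r => Subtype.ext (hcZ _ hz r (hRS r.2))
  haveI hZcn : Zc.Normal := PGroupsBasic.normal_of_le_center hZcc
  have hΦ : frattini ↥R ≤ Zc := by
    refine PGroupsBasic.frattini_le_of_elementary_quotient (p := p) ?_ fun x => ?_
    · rw [commutator_def, commutator_le]
      exact fun a _ b _ => hcomZ a (hRS a.2) b (hRS b.2)
    · exact hpowZ x (hRS x.2)
  set W := Zc.map (QuotientGroup.mk' (frattini ↥R)) with hW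
  have hWmem : ∀ r : ↥R, (r : ↥R ⧸ frattini ↥R) ∈ W ↔ (r : H) ∈ Zs := by
    intro r
    have : W.comap (QuotientGroup.mk' (frattini ↥R)) = Zc :=
      comap_map_eq_self (by rwa [QuotientGroup.ker_mk'])
    exact ⟨fun h => this.le h, fun h => this.ge (show r ∈ Zc from h)⟩
  obtain ⟨hVc, hVp⟩ := PGroupsBasic.quotient_frattini_elementary hRp
  obtain ⟨ψ, hψ, hψv⟩ := HallHigman.exists_frattini_action hH hbot
  set E := (S : Subgroup H).map (QuotientGroup.mk' R) with hEdef
  have hEbot : E ≠ ⊥ := fun h => hnot (by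
    rw [hEdef, Subgroup.map_eq_bot_iff, QuotientGroup.ker_mk'] at h
    exact h)
  have hact : ∀ (s : H) (o : ↥R), ψ (QuotientGroup.mk' R s) (o : ↥R ⧸ frattini ↥R) *
      (o : ↥R ⧸ frattini ↥R)⁻¹ = (((MulAut.conjNormal s o : ↥R) * o⁻¹ : ↥R) : ↥R ⧸ frattini ↥R) := by
    intro s o
    rw [QuotientGroup.mk_mul, QuotientGroup.mk_inv, ← hψv s o]
    rfl
  have h1 : ∀ e ∈ E, ∀ v, ψ e v * v⁻¹ ∈ W := by
    rintro _ ⟨s, hs, rfl⟩ v
    obtain ⟨o, rfl⟩ := QuotientGroup.mk_surjective v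
    rw [hact, hWmem]
    rw [Subgroup.coe_mul, Subgroup.coe_inv, MulAut.conjNormal_apply]
    exact hcomZ s hs o (hRS o.2)
  have h2 : ∀ e ∈ E, ∀ w ∈ W, ψ e w = w := by
    rintro _ ⟨s, hs, rfl⟩ _ ⟨o, ho, rfl⟩
    have h : (MulAut.conjNormal s o : ↥R) = o := Subtype.ext (by
      rw [MulAut.conjNormal_apply, hcZ (o : H) ho s hs, mul_inv_cancel_right])
    show ψ (QuotientGroup.mk' R s) (o : ↥R ⧸ frattini ↥R) = (o : ↥R ⧸ frattini ↥R)
    have h' := hψv s o
    rw [h] at h'
    exact h'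
  have h3 : ∀ v, v ∉ W → ∀ w ∈ W, ∃ e ∈ E, ψ e v = w * v := by
    intro v hv w hw
    obtain ⟨o, rfl⟩ := QuotientGroup.mk_surjective v
    obtain ⟨z, hz, rfl⟩ := hw
    obtain ⟨u, hu, hconj⟩ := hsurj o (hRS o.2) (fun h => hv ((hWmem o).mpr h)) z hz
    refine ⟨_, mem_map_of_mem _ hu, ?_⟩
    have h : (MulAut.conjNormal u o : ↥R) = z * o := Subtype.ext (by
      rw [MulAut.conjNormal_apply, hconj, Subgroup.coe_mul])
    have h' := hψv u o
    rw [h, QuotientGroup.mk_mul] at h'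
    exact h'
  have hEbad : ∀ (P : Prop), (∀ e ∈ E, ∀ v, ψ e v = v) → P := fun P h => by
    exfalso
    exact hEbot (eq_bot_iff.mpr fun e he => Subgroup.mem_bot.mpr
      (hψ (by rw [map_one]; exact MulEquiv.ext (h e he))))
  have hW1 : W ≠ ⊥ := fun hb => hEbad _ fun e he v => by
    have := h1 e he v
    rwa [hb, Subgroup.mem_bot, mul_inv_eq_one] at this
  have hWt : W ≠ ⊤ := fun ht => hEbad _ fun e he v => h2 e he v (ht.ge (mem_top v))
  have hEc : ∀ a ∈ E, ∀ b ∈ E, a * b = b * a := by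
    rintro _ ⟨x, hx, rfl⟩ _ ⟨y, hy, rfl⟩
    rw [← commutatorElement_eq_one_iff_mul_comm, ← map_commutatorElement, commutatorElement_def]
    exact (QuotientGroup.eq_one_iff _).mpr (hZR (hcomZ x hx y hy))
  have hEp : ∀ a ∈ E, a ^ p = 1 := by
    rintro _ ⟨x, hx, rfl⟩
    rw [← map_pow]
    exact (QuotientGroup.eq_one_iff _).mpr (hZR (hpowZ x hx))
  have hOc : centralizer ((Cfsg.pPrimeCore p (H ⧸ R) : Subgroup (H ⧸ R)) : Set (H ⧸ R)) ≤
      Cfsg.pPrimeCore p (H ⧸ R) := by
    rw [pPrimeCore_eq_piCore]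
    refine centralizer_piCore_le ((isPSolvable_iff p).mp (isPSolvable_quotient hH R)).compl ?_
    rw [compl_compl, ← pCore_eq_piCore, pCore_quotient_self]
  haveI : (Cfsg.pPrimeCore p (H ⧸ R)).Normal := pPrimeCore_normal p (H ⧸ R)
  obtain ⟨hEcard, hWcard, hWidx⟩ := quad_core ψ hψ _ (coprime_card_pPrimeCore p (H ⧸ R)) hOc E hEc
    hEp hEbot hVc hVp W hW1 hWt h1 h2 h3
  have hRidx : R.relIndex (S : Subgroup H) = p := by rw [relIndex_eq_card_map]; exact hEcard
  have hZidx : Zs.relIndex R = p := by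
    show Zc.index = p
    rw [← hWidx, hW, Subgroup.index_map_eq _ (QuotientGroup.mk'_surjective _)
      (by rwa [QuotientGroup.ker_mk'])]
  have hcen : Zs.subgroupOf (S : Subgroup H) = center ↥(S : Subgroup H) :=
    comap_map_eq_self_of_injective (Subgroup.subtype_injective _) _
  have hidx : (center ↥(S : Subgroup H)).index = p ^ 2 := by
    rw [← hcen]
    show Zs.relIndex (S : Subgroup H) = p ^ 2
    rw [← relIndex_mul_relIndex Zs R (S : Subgroup H) hZR hRS, hZidx, hRidx, pow_two]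
  have hp3 := hsp.not_three hidx
  have hp2 : p = 2 := by
    have := hp.out.two_le
    rcases (show p = 2 ∨ p = 3 ∨ p = 4 by omega) with h | h | h
    · exact h
    · exact absurd h hp3
    · exact absurd hp.out (by rw [h]; norm_num)
  refine hsp.not_two hp2 hidx (R.subgroupOf (S : Subgroup H)) ?_ ?_ ?_
  · show R.relIndex (S : Subgroup H) = 2
    rw [hRidx, hp2]
  · intro z hz
    exact hZR ⟨z, hz, rfl⟩
  · have hZ2 := card_center_le_two (by rw [hidx, hp2]; norm_num) hsp.surj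
    have hcards : Nat.card W * Nat.card (frattini ↥R) = Nat.card Zc := by
      rw [card_comap_mk' (frattini ↥R) W,
        comap_map_eq_self (by rwa [QuotientGroup.ker_mk'])]
    rw [hWcard, hp2, Nat.card_congr (subgroupOfEquivOfLe hZR).toEquiv, hZs,
      card_map_of_injective (Subgroup.subtype_injective _)] at hcards
    have hΦb : frattini ↥R = ⊥ := by
      rw [← Subgroup.card_eq_one]
      have := Nat.card_pos (α := ↥(frattini ↥R))
      omega
    intro a ha
    have h := PGroupsBasic.pow_mem_frattini hRp (⟨(a : H), ha⟩ : ↥R)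
    rw [hΦb, Subgroup.mem_bot] at h
    subst hp2
    exact Subtype.ext (by simpa using congrArg (Subtype.val : ↥R → H) h)

end Cfsg.Agent.ClassTwoPLength
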