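import Mathlib

/-!
Bound on element orders of isometries of a non-degenerate bilinear form in dimension eight over a
finite field of characteristic two: twelve maximal orders, read off from the roots of the
characteristic polynomial.
-/

set_option autoImplicit false

namespace Cfsg.Agent.SpEightBound

open Polynomial

/-- Pairs `(e, n)`: the maximal orders are `2 ^ e * n`. -/
def specList (q : ℕ) : List (ℕ × ℕ) :=
  [(0, q ^ 4 + 1), (0, q ^ 4 - 1), (0, (q ^ 3 + 1) * (q - 1)), (0, (q ^ 3 - 1) * (q + 1)),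
   (1, q ^ 3 + 1), (1, q ^ 3 - 1), (1, (q ^ 2 + 1) * (q - 1)), (1, (q ^ 2 + 1) * (q + 1)),
   (2, q ^ 2 + 1), (2, q ^ 2 - 1), (3, q - 1), (3, q + 1)]

section Roots

variable {K : Type*} [Field K] [CharP K 2]

theorem eq_one_of_inv_eq {x : K} (h0 : x ≠ 0) (h : x⁻¹ = x) : x = 1 := by
  have h1 : x * x = 1 := by
    nth_rw 1 [← h]
    exact inv_mul_cancel₀ h0
  have h2 : (x - 1) ^ 2 = 0 := by
    linear_combination h1 + (1 - x) * CharTwo.two_eq_zero (R := K)
  exact sub_eq_zero.1 (pow_eq_zero_iff two_ne_zero |>.1 h2)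

theorem pow_q_injective {q k : ℕ} (hq : q = 2 ^ k) : Function.Injective fun x : K => x ^ q := by
  subst hq
  intro a b h
  exact iterateFrobenius_inj K 2 k (by simpa [iterateFrobenius_def] using h)

theorem pow_qi_injective {q k : ℕ} (hq : q = 2 ^ k) (i : ℕ) :
    Function.Injective fun x : K => x ^ (q ^ i) :=
  pow_q_injective (k := k * i) (by rw [hq, ← pow_mul])

/-- Pigeonhole: the sign-period of a root. -/
theorem exists_period [DecidableEq K] {q k : ℕ} (hq : q = 2 ^ k) (S : Finset K) (hS : S.card ≤ 8)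
    (hSq : ∀ x ∈ S, x ^ q ∈ S) (hSi : ∀ x ∈ S, x⁻¹ ∈ S) (h0 : (0 : K) ∉ S) {α : K} (hα : α ∈ S)
    (hα1 : α ≠ 1) :
    ∃ d, (1 ≤ d ∧ d ≤ 4) ∧ (α ^ q ^ d = α ∨ α ^ q ^ d = α⁻¹) ∧
      ∀ i, 1 ≤ i → i < d → α ^ q ^ i ≠ α ∧ α ^ q ^ i ≠ α⁻¹ := by
  have hmem : ∀ i, α ^ q ^ i ∈ S := by
    intro i
    induction i with
    | zero => simpa using hα
    | succ i ih => rw [pow_succ, pow_mul]; exact hSq _ ih
  have hex : ∃ d, (1 ≤ d ∧ d ≤ 4) ∧ (α ^ q ^ d = α ∨ α ^ q ^ d = α⁻¹) := by
    by_contra hc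
    push Not at hc
    let f : Fin 5 × Bool → K := fun p => if p.2 then (α ^ q ^ (p.1 : ℕ))⁻¹ else α ^ q ^ (p.1 : ℕ)
    have key : ∀ i j : ℕ, i < j → j ≤ 4 → α ^ q ^ i ≠ α ^ q ^ j ∧ α ^ q ^ i ≠ (α ^ q ^ j)⁻¹ := by
      intro i j hij hj
      obtain ⟨d, rfl⟩ := Nat.exists_eq_add_of_le hij.le
      have hd := hc d ⟨by omega, by omega⟩
      have e : α ^ q ^ (i + d) = (α ^ q ^ d) ^ q ^ i := by rw [← pow_mul, ← pow_add, add_comm]
      rw [e, ← inv_pow]
      exact ⟨fun h => hd.1 (pow_qi_injective hq i h).symm, fun h => by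
        have h' : α = (α ^ q ^ d)⁻¹ := pow_qi_injective hq i h
        exact hd.2 (by rw [← inv_inv (α ^ q ^ d), ← h'])⟩
    have hone : ∀ i, α ^ q ^ i ≠ (α ^ q ^ i)⁻¹ := fun i h => by
      have h1 := eq_one_of_inv_eq (fun h' => h0 (h' ▸ hmem i)) h.symm
      exact hα1 (pow_qi_injective hq i (by simpa using h1))
    have hinj : Function.Injective f := by
      rintro ⟨i, a⟩ ⟨j, b⟩ h
      rcases lt_trichotomy (i : ℕ) j with hij | hij | hij
      · obtain ⟨k1, k2⟩ := key i j hij (by omega)
        cases a <;> cases b <;> simp [f] at h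
        · exact absurd h k1
        · exact absurd h k2
        · exact absurd (inv_eq_iff_eq_inv.1 h) k2
        · exact absurd h k1
      · obtain rfl := Fin.ext hij
        cases a <;> cases b <;> simp [f] at h <;> first
          | rfl
          | exact absurd h (hone i)
          | exact absurd h.symm (hone i)
      · obtain ⟨k1, k2⟩ := key j i hij (by omega)
        cases a <;> cases b <;> simp [f] at h
        · exact absurd h.symm k1
        · exact absurd (inv_eq_iff_eq_inv.1 h.symm) k2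
        · exact absurd h.symm k2
        · exact absurd h.symm k1
    have := Finset.card_le_card_of_injOn (s := (Finset.univ : Finset (Fin 5 × Bool))) (t := S) f
      (fun p _ => by
        show f p ∈ S
        by_cases hp : p.2 <;> simp only [f, hp, Bool.false_eq_true, if_true, if_false]
        · exact hSi _ (hmem _)
        · exact hmem _) hinj.injOn
    simp at this
    omega
  refine ⟨Nat.find hex, (Nat.find_spec hex).1, (Nat.find_spec hex).2, fun i h1 hi => ?_⟩
  have := Nat.find_min hex hi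
  have h4 := (Nat.find_spec hex).1.2
  exact ⟨fun h => this ⟨⟨h1, by omega⟩, Or.inl h⟩, fun h => this ⟨⟨h1, by omega⟩, Or.inr h⟩⟩

/-- The orbit of a root under `x ↦ x ^ q` and inversion. -/
theorem exists_orbit [DecidableEq K] {q k : ℕ} (hq : q = 2 ^ k) (R : Multiset K) (h8 : R.card = 8)
    (hRq : R.map (fun x => x ^ q) = R) (hRi : R.map (fun x => x⁻¹) = R) (h0 : (0 : K) ∉ R)
    {α : K} (hα : α ∈ R) (hα1 : α ≠ 1) :
    ∃ (d n : ℕ) (O : Finset K), 1 ≤ d ∧ d ≤ 4 ∧ O.card = 2 * d ∧ (n = q ^ d + 1 ∨ n = q ^ d - 1) ∧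
      α ∈ O ∧ (∀ x ∈ O, x ≠ 1 ∧ R.count x = R.count α ∧ x ^ n = 1) ∧
      (∀ x : K, x ^ q ∈ O → x ∈ O) ∧ (∀ x : K, x⁻¹ ∈ O → x ∈ O) ∧
      (∀ i, 1 ≤ i → i < d → α ^ q ^ i ≠ α ∧ α ^ q ^ i ≠ α⁻¹) ∧
      ∀ P : Finset K, (∀ x : K, x ^ q ∈ P → x ∈ P) → (∀ x : K, x⁻¹ ∈ P → x ∈ P) → α ∉ P →
        Disjoint P O := by
  have hinjq := pow_q_injective (K := K) hq
  have hcq : ∀ x, R.count (x ^ q) = R.count x := fun x => by
    conv_lhs => rw [← hRq]
    exact Multiset.count_map_eq_count' (fun y => y ^ q) R hinjq x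
  have hci : ∀ x, R.count x⁻¹ = R.count x := fun x => by
    conv_lhs => rw [← hRi]
    exact Multiset.count_map_eq_count' (fun y => y⁻¹) R inv_injective x
  obtain ⟨d, ⟨hd1, hd4⟩, hd, hmin⟩ := exists_period hq R.toFinset
    ((Multiset.toFinset_card_le R).trans h8.le)
    (fun x hx => Multiset.mem_toFinset.2 (Multiset.count_pos.1 (by
      rw [hcq]; exact Multiset.count_pos.2 (Multiset.mem_toFinset.1 hx))))
    (fun x hx => Multiset.mem_toFinset.2 (Multiset.count_pos.1 (by
      rw [hci]; exact Multiset.count_pos.2 (Multiset.mem_toFinset.1 hx))))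
    (by simpa using h0) (Multiset.mem_toFinset.2 hα) hα1
  have hα0 : α ≠ 0 := fun h => h0 (h ▸ hα)
  have hq1 : 1 ≤ q ^ d := Nat.one_le_pow _ _ (hq ▸ Nat.two_pow_pos k)
  let A : Finset K := (Finset.range d).image fun i => α ^ q ^ i
  let O : Finset K := A ∪ A.image fun x => x⁻¹
  have hA : ∀ x ∈ A, ∃ i < d, α ^ q ^ i = x := fun x hx => by simpa [A] using hx
  have hnone : ∀ i, α ^ q ^ i ≠ 1 := fun i h => hα1 (pow_qi_injective hq i (by simpa using h))
  have hcnt : ∀ i, R.count (α ^ q ^ i) = R.count α := by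
    intro i
    induction i with
    | zero => simp
    | succ i ih => rw [pow_succ, pow_mul, hcq, ih]
  have hne : ∀ i j, i < j → j < d → α ^ q ^ i ≠ α ^ q ^ j ∧ α ^ q ^ i ≠ (α ^ q ^ j)⁻¹ := by
    intro i j hij hj
    obtain ⟨e, rfl⟩ := Nat.exists_eq_add_of_le hij.le
    have he := hmin e (by omega) (by omega)
    have e' : α ^ q ^ (i + e) = (α ^ q ^ e) ^ q ^ i := by rw [← pow_mul, ← pow_add, add_comm]
    rw [e', ← inv_pow]
    exact ⟨fun h => he.1 (pow_qi_injective hq i h).symm, fun h => by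
      have h' : α = (α ^ q ^ e)⁻¹ := pow_qi_injective hq i h
      exact he.2 (by rw [← inv_inv (α ^ q ^ e), ← h'])⟩
  have hcardA : A.card = d := by
    rw [Finset.card_image_of_injOn, Finset.card_range]
    intro i hi j hj h
    simp only [Finset.coe_range, Set.mem_Iio] at hi hj
    rcases lt_trichotomy i j with hij | hij | hij
    · exact absurd h (hne i j hij hj).1
    · exact hij
    · exact absurd h.symm (hne j i hij hi).1
  have hdisj : Disjoint A (A.image fun x => x⁻¹) := by
    rw [Finset.disjoint_left]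
    intro x hx hx'
    obtain ⟨i, hi, rfl⟩ := hA x hx
    obtain ⟨y, hy, hyx⟩ := Finset.mem_image.1 hx'
    obtain ⟨j, hj, rfl⟩ := hA y hy
    rcases lt_trichotomy i j with hij | hij | hij
    · exact (hne i j hij hj).2 hyx.symm
    · subst hij
      exact hnone i (eq_one_of_inv_eq (pow_ne_zero _ hα0) hyx)
    · exact (hne j i hij hi).2 (inv_eq_iff_eq_inv.1 hyx)
  have hOA : ∀ i < d, α ^ q ^ i ∈ O ∧ (α ^ q ^ i)⁻¹ ∈ O := fun i hi =>
    have : α ^ q ^ i ∈ A := Finset.mem_image.2 ⟨i, Finset.mem_range.2 hi, rfl⟩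
    ⟨Finset.mem_union_left _ this, Finset.mem_union_right _ (Finset.mem_image_of_mem _ this)⟩
  have hOi : ∀ x ∈ O, x⁻¹ ∈ O := by
    intro x hx
    rcases Finset.mem_union.1 hx with h | h
    · exact Finset.mem_union_right _ (Finset.mem_image_of_mem _ h)
    · obtain ⟨y, hy, rfl⟩ := Finset.mem_image.1 h
      exact Finset.mem_union_left _ (by simpa using hy)
  have hOq : ∀ x ∈ O, x ^ q ∈ O := by
    have step : ∀ y ∈ A, y ^ q ∈ O := by
      intro y hy
      obtain ⟨i, hi, rfl⟩ := hA y hy
      rw [← pow_mul, ← pow_succ]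
      rcases Nat.lt_or_ge (i + 1) d with h | h
      · exact (hOA _ h).1
      · obtain rfl : i + 1 = d := by omega
        have h00 := hOA 0 (by omega)
        simp only [pow_zero, pow_one] at h00
        rcases hd with e | e <;> rw [e]
        · exact h00.1
        · exact h00.2
    intro x hx
    rcases Finset.mem_union.1 hx with h | h
    · exact step x h
    · obtain ⟨y, hy, rfl⟩ := Finset.mem_image.1 h
      rw [inv_pow]
      exact hOi _ (step y hy)
  have himg : O.image (fun x => x ^ q) = O := by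
    apply Finset.eq_of_subset_of_card_le
    · intro x hx
      obtain ⟨y, hy, rfl⟩ := Finset.mem_image.1 hx
      exact hOq y hy
    · rw [Finset.card_image_of_injective _ hinjq]
  obtain ⟨n, hn, hαn⟩ : ∃ n, (n = q ^ d + 1 ∨ n = q ^ d - 1) ∧ α ^ n = 1 := by
    rcases hd with e | e
    · refine ⟨q ^ d - 1, Or.inr rfl, ?_⟩
      rw [pow_sub₀ _ hα0 hq1, e, pow_one, mul_inv_cancel₀ hα0]
    · exact ⟨q ^ d + 1, Or.inl rfl, by rw [pow_succ, e, inv_mul_cancel₀ hα0]⟩
  refine ⟨d, n, O, hd1, hd4, ?_, hn, ?_, ?_, ?_, fun x hx => by simpa using hOi _ hx, hmin, ?_⟩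
  · rw [Finset.card_union_of_disjoint hdisj, Finset.card_image_of_injective _ inv_injective, hcardA]
    ring
  · simpa using (hOA 0 (by omega)).1
  · intro x hx
    rcases Finset.mem_union.1 hx with h | h
    · obtain ⟨i, hi, rfl⟩ := hA x h
      exact ⟨hnone i, hcnt i, by rw [← pow_mul, mul_comm, pow_mul, hαn, one_pow]⟩
    · obtain ⟨y, hy, rfl⟩ := Finset.mem_image.1 h
      obtain ⟨i, hi, rfl⟩ := hA y hy
      exact ⟨fun h' => hnone i (inv_eq_one.1 h'), by rw [hci, hcnt],
        by rw [inv_pow, ← pow_mul, mul_comm, pow_mul, hαn, one_pow, inv_one]⟩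
  · intro x hx
    rw [← himg] at hx
    obtain ⟨y, hy, hyx⟩ := Finset.mem_image.1 hx
    exact (hinjq hyx) ▸ hy
  · intro P hPq hPi hαP
    have hout : ∀ i, α ^ q ^ i ∉ P := by
      intro i
      induction i with
      | zero => simpa using hαP
      | succ i ih => intro h; rw [pow_succ, pow_mul] at h; exact ih (hPq _ h)
    rw [Finset.disjoint_left]
    intro x hx hxO
    rcases Finset.mem_union.1 hxO with h | h
    · obtain ⟨i, hi, rfl⟩ := hA x h
      exact hout i hx
    · obtain ⟨y, hy, rfl⟩ := Finset.mem_image.1 h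
      obtain ⟨i, hi, rfl⟩ := hA y hy
      exact hout i (hPi _ hx)

/-- The multiplicity of the root one is even. -/
theorem even_count_one [DecidableEq K] (R : Multiset K) (h8 : R.card = 8)
    (hRi : R.map (fun x => x⁻¹) = R) (h0 : (0 : K) ∉ R) : Even (R.count 1) := by
  have hci : ∀ x, R.count x⁻¹ = R.count x := fun x => by
    conv_lhs => rw [← hRi]
    exact Multiset.count_map_eq_count' (fun y => y⁻¹) R inv_injective x
  let S := R.toFinset.erase 1
  have hsum : R.count 1 + ∑ x ∈ S, R.count x = 8 := by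
    rw [← h8, ← Multiset.toFinset_sum_count_eq R]
    by_cases h1 : (1 : K) ∈ R.toFinset
    · exact Finset.add_sum_erase _ (fun x => R.count x) h1
    · have hS : S = R.toFinset := Finset.erase_eq_of_notMem h1
      rw [hS, Multiset.count_eq_zero.2 (by simpa using h1), zero_add]
  have hz : ∑ x ∈ S, (R.count x : ZMod 2) = 0 := by
    refine Finset.sum_involution (fun x _ => x⁻¹) (fun x _ => by rw [hci]; exact CharTwo.add_self_eq_zero _)
      (fun x hx _ h => (Finset.mem_erase.1 hx).1 (eq_one_of_inv_eq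
        (fun h' => h0 (h' ▸ Multiset.mem_toFinset.1 (Finset.mem_erase.1 hx).2)) h))
      (fun x hx => ?_) (fun x _ => inv_inv x)
    obtain ⟨hx1, hx2⟩ := Finset.mem_erase.1 hx
    exact Finset.mem_erase.2 ⟨fun h => hx1 (inv_eq_one.1 h), Multiset.mem_toFinset.2
      (Multiset.count_pos.1 (by rw [hci]; exact Multiset.count_pos.2 (Multiset.mem_toFinset.1 hx2)))⟩
  have hev : Even (∑ x ∈ S, R.count x) := by
    rw [← ZMod.natCast_eq_zero_iff_even, Nat.cast_sum]
    exact hz
  have : Even (R.count 1 + ∑ x ∈ S, R.count x) := by rw [hsum]; decide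
  exact (Nat.even_add.1 this).2 hev

theorem dvd_mul_q (q d : ℕ) (hd : d = 1 ∨ d = 2) {n : ℕ} (hn : n = q ^ d + 1 ∨ n = q ^ d - 1) :
    n ∣ q ^ 4 - 1 := by
  have e1 : q ^ 4 - 1 = (q ^ 2 + 1) * (q ^ 2 - 1) := by
    rw [show q ^ 4 = (q ^ 2) ^ 2 by ring]; simpa using Nat.sq_sub_sq (q ^ 2) 1
  have e : q ^ 4 - 1 = (q ^ 2 + 1) * ((q + 1) * (q - 1)) := by
    rw [e1]; congr 1; simpa using Nat.sq_sub_sq q 1
  rcases hd with rfl | rfl <;> rcases hn with rfl | rfl <;> rw [e]
  · rw [pow_one]; exact (dvd_mul_right _ _).mul_left _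
  · rw [pow_one]; exact (dvd_mul_left _ _).mul_left _
  · exact dvd_mul_right _ _
  · rw [← Nat.sq_sub_sq, one_pow]; exact dvd_mul_left _ _

theorem root_cases [DecidableEq K] {q k : ℕ} (hq : q = 2 ^ k) (R : Multiset K) (h8 : R.card = 8)
    (hRq : R.map (fun x => x ^ q) = R) (hRi : R.map (fun x => x⁻¹) = R) (h0 : (0 : K) ∉ R) :
    ∃ p ∈ specList q, ∀ x ∈ R, x ^ p.2 = 1 ∧ R.count x ≤ 2 ^ p.1 := by
  set c := R.count 1 with hc
  have hceven : Even c := even_count_one R h8 hRi h0
  have hcard : ∀ T : Finset K, ∑ x ∈ T, R.count x ≤ 8 := fun T => by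
    rw [← h8, ← Multiset.sum_count_eq_card (s := T ∪ R.toFinset)
      (fun x hx => Finset.mem_union_right _ (Multiset.mem_toFinset.2 hx))]
    exact Finset.sum_le_sum_of_subset Finset.subset_union_left
  have hone : ∀ (O : Finset K) (d k : ℕ), O.card = 2 * d → (∀ x ∈ O, x ≠ 1 ∧ R.count x = k) →
      c + 2 * d * k ≤ 8 := by
    intro O d k hO hk
    have := hcard (insert 1 O)
    rw [Finset.sum_insert (fun h => (hk 1 h).1 rfl), Finset.sum_congr rfl (fun x hx => (hk x hx).2),
      Finset.sum_const, hO, smul_eq_mul] at this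
    omega
  have htwo : ∀ (O : Finset K) (d k : ℕ) (O' : Finset K) (d' k' : ℕ), O.card = 2 * d →
      (∀ x ∈ O, x ≠ 1 ∧ R.count x = k) → O'.card = 2 * d' → (∀ x ∈ O', x ≠ 1 ∧ R.count x = k') →
      Disjoint O O' → c + 2 * d * k + 2 * d' * k' ≤ 8 := by
    intro O d k O' d' k' hO hk hO' hk' hdis
    have := hcard (insert 1 (O ∪ O'))
    rw [Finset.sum_insert (fun h => (Finset.mem_union.1 h).elim (fun h => (hk 1 h).1 rfl)
        (fun h => (hk' 1 h).1 rfl)), Finset.sum_union hdis,
      Finset.sum_congr rfl (fun x hx => (hk x hx).2),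
      Finset.sum_congr rfl (fun x hx => (hk' x hx).2),
      Finset.sum_const, Finset.sum_const, hO, hO', smul_eq_mul, smul_eq_mul] at this
    omega
  have hthree : ∀ (O : Finset K) (d k : ℕ) (O' : Finset K) (d' k' : ℕ) (y : K), O.card = 2 * d →
      (∀ x ∈ O, x ≠ 1 ∧ R.count x = k) → O'.card = 2 * d' → (∀ x ∈ O', x ≠ 1 ∧ R.count x = k') →
      Disjoint O O' → y ∈ R → y ≠ 1 → y ∉ O → y ∉ O' → c + 2 * d * k + 2 * d' * k' + 1 ≤ 8 := by
    intro O d k O' d' k' y hO hk hO' hk' hdis hy hy1 hyO hyO'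
    have := hcard (insert y (insert 1 (O ∪ O')))
    rw [Finset.sum_insert (by simp [hy1, hyO, hyO']),
      Finset.sum_insert (fun h => (Finset.mem_union.1 h).elim (fun h => (hk 1 h).1 rfl)
        (fun h => (hk' 1 h).1 rfl)), Finset.sum_union hdis,
      Finset.sum_congr rfl (fun x hx => (hk x hx).2),
      Finset.sum_congr rfl (fun x hx => (hk' x hx).2),
      Finset.sum_const, Finset.sum_const, hO, hO', smul_eq_mul, smul_eq_mul] at this
    have := Multiset.count_pos.2 hy
    omega
  -- an element outside an orbit contributes a second one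
  have hsecond : ∀ (O : Finset K) (d k : ℕ), O.card = 2 * d → (∀ x ∈ O, x ≠ 1 ∧ R.count x = k) →
      (∀ x : K, x ^ q ∈ O → x ∈ O) → (∀ x : K, x⁻¹ ∈ O → x ∈ O) →
      ∀ β ∈ R, β ≠ 1 → β ∉ O → ∃ (d' n' : ℕ) (O' : Finset K), 1 ≤ d' ∧
        (n' = q ^ d' + 1 ∨ n' = q ^ d' - 1) ∧ β ∈ O' ∧
        (∀ x ∈ O', x ^ n' = 1 ∧ R.count x = R.count β) ∧
        c + 2 * d * k + 2 * d' * R.count β ≤ 8 ∧
        ∀ y ∈ R, y ≠ 1 → y ∉ O → y ∉ O' → c + 2 * d * k + 2 * d' * R.count β + 1 ≤ 8 := by
    intro O d k hO hk hOq hOi β hβ hβ1 hβO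
    obtain ⟨d', n', O', hd', -, hO', hn', hβ', hk', -, -, -, hdis⟩ :=
      exists_orbit hq R h8 hRq hRi h0 hβ hβ1
    exact ⟨d', n', O', hd', hn', hβ', fun x hx => ⟨(hk' x hx).2.2, (hk' x hx).2.1⟩,
      htwo O d k O' d' _ hO hk hO' (fun x hx => ⟨(hk' x hx).1, (hk' x hx).2.1⟩) (hdis O hOq hOi hβO),
      fun y hy hy1 hyO hyO' => hthree O d k O' d' _ y hO hk hO'
        (fun x hx => ⟨(hk' x hx).1, (hk' x hx).2.1⟩) (hdis O hOq hOi hβO) hy hy1 hyO hyO'⟩
  -- membership in a list entry
  have pm : ∀ a b : ℕ, (a, b) ∈ specList q → (∀ x ∈ R, x ^ b = 1 ∧ R.count x ≤ 2 ^ a) →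
      ∃ p ∈ specList q, ∀ x ∈ R, x ^ p.2 = 1 ∧ R.count x ≤ 2 ^ p.1 := fun a b h h' => ⟨(a, b), h, h'⟩
  have hdvd : ∀ {x : K} {a b : ℕ}, a ∣ b → x ^ a = 1 → x ^ b = 1 := fun {x a b} hab h => by
    obtain ⟨e, rfl⟩ := hab; rw [pow_mul, h, one_pow]
  have hodd3 : q + 1 ∣ q ^ 3 + 1 := by simpa using Odd.nat_add_dvd_pow_add_pow q 1 (by decide : Odd 3)
  have hsub3 : q - 1 ∣ q ^ 3 - 1 := by simpa using Nat.sub_dvd_pow_sub_pow q 1 3
  by_cases hbig : ∃ α, α ∈ R ∧ α ≠ 1 ∧ ∀ m, (m = 1 ∨ m = 2) →
      α ^ q ^ m ≠ α ∧ α ^ q ^ m ≠ α⁻¹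
  · obtain ⟨α, hα, hα1, hm⟩ := hbig
    obtain ⟨d, n, O, hd1, hd4, hO, hn, hαO, hk, hOq, hOi, -⟩ := exists_orbit hq R h8 hRq hRi h0 hα hα1
    have hk1 := Multiset.count_pos.2 hα
    have hk' : ∀ x ∈ O, x ≠ 1 ∧ R.count x = R.count α := fun x hx => ⟨(hk x hx).1, (hk x hx).2.1⟩
    have hle := hone O d _ hO hk'
    have hd3 : 3 ≤ d := by
      by_contra hlt
      have hα0 : α ≠ 0 := fun h => h0 (h ▸ hα)
      have he := hm d (by omega)
      have hq1 : 1 ≤ q ^ d := Nat.one_le_pow _ _ (hq ▸ Nat.two_pow_pos k)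
      have hαn := (hk α hαO).2.2
      rcases hn with rfl | rfl
      · exact he.2 (eq_inv_of_mul_eq_one_left (by rwa [pow_succ] at hαn))
      · apply he.1
        rw [show q ^ d = (q ^ d - 1) + 1 by omega, pow_succ, hαn, one_mul]
    have hkk : R.count α = 1 := by
      by_contra hne
      have := Nat.mul_le_mul hd3 (show 2 ≤ R.count α by omega)
      have e : 2 * d * R.count α = 2 * (d * R.count α) := mul_assoc _ _ _
      omega
    rw [hkk] at hle
    have hother : ∀ β ∈ R, β ≠ 1 → β ∉ O → d = 3 ∧ c = 0 ∧ R.count β = 1 ∧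
        ∃ (n' : ℕ) (O' : Finset K), (n' = q + 1 ∨ n' = q - 1) ∧ β ∈ O' ∧ (∀ x ∈ O', x ^ n' = 1 ∧ R.count x = R.count β) ∧
        ∀ y ∈ R, y ≠ 1 → y ∈ O ∨ y ∈ O' := by
      intro β hβ hβ1 hβO
      obtain ⟨d', n', O', hd', hn', hβ', hk'', hle', hy⟩ := hsecond O d _ hO hk' hOq hOi β hβ hβ1 hβO
      have hb := Multiset.count_pos.2 hβ
      rw [hkk] at hle' hy
      have := Nat.mul_le_mul hd' hb
      have e : 2 * d' * R.count β = 2 * (d' * R.count β) := mul_assoc _ _ _
      have : d' * R.count β = 1 := by omega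
      obtain ⟨rfl, hc1⟩ := mul_eq_one.1 this
      refine ⟨by omega, by omega, hc1, n', O', by simpa using hn', hβ', hk'', fun y hyR hy1 => ?_⟩
      by_contra hcon
      push Not at hcon
      have := hy y hyR hy1 hcon.1 hcon.2
      omega
    have hin : ∀ x ∈ O, ∀ b, n ∣ b → x ^ b = 1 ∧ R.count x = 1 := fun x hx b hb =>
      ⟨hdvd hb (hk x hx).2.2, by rw [(hk x hx).2.1, hkk]⟩
    rcases Nat.lt_or_ge d 4 with hlt | hge
    · obtain rfl : d = 3 := by omega
      by_cases hc0 : c = 0
      · by_cases hβ : ∃ β ∈ R, β ≠ 1 ∧ β ∉ O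
        · obtain ⟨β, hβ, hβ1, hβO⟩ := hβ
          obtain ⟨-, -, hb1, n', O', hn', -, hk'', hall⟩ := hother β hβ hβ1 hβO
          have : ∀ b, n ∣ b → n' ∣ b → ∀ x ∈ R, x ^ b = 1 ∧ R.count x ≤ 2 ^ 0 := by
            intro b h1 h2 x hx
            have hx1 : x ≠ 1 := fun h => by
              have := Multiset.count_pos.2 hx; rw [h] at this; omega
            rcases hall x hx hx1 with h | h
            · exact ⟨(hin x h b h1).1, by rw [(hin x h b h1).2]; simp⟩
            · exact ⟨hdvd h2 (hk'' x h).1, by rw [(hk'' x h).2, hb1]; simp⟩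
          rcases hn with rfl | rfl
          · refine pm 0 ((q ^ 3 + 1) * (q - 1)) (by simp [specList]) (this _ (dvd_mul_right _ _) ?_)
            rcases hn' with rfl | rfl
            · exact hodd3.mul_right _
            · exact dvd_mul_left _ _
          · refine pm 0 ((q ^ 3 - 1) * (q + 1)) (by simp [specList]) (this _ (dvd_mul_right _ _) ?_)
            rcases hn' with rfl | rfl
            · exact dvd_mul_left _ _
            · exact hsub3.mul_right _
        · push Not at hβ
          have : ∀ x ∈ R, x ^ n = 1 ∧ R.count x ≤ 2 ^ 1 := by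
            intro x hx
            have hx1 : x ≠ 1 := fun h => by
              have := Multiset.count_pos.2 hx; rw [h] at this; omega
            have := hin x (hβ x hx hx1) n dvd_rfl
            exact ⟨this.1, by omega⟩
          rcases hn with rfl | rfl
          · exact pm 1 _ (by simp [specList]) this
          · exact pm 1 _ (by simp [specList]) this
      · have : ∀ x ∈ R, x ^ n = 1 ∧ R.count x ≤ 2 ^ 1 := by
          intro x hx
          by_cases hx1 : x = 1
          · subst hx1; exact ⟨one_pow _, by omega⟩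
          · have hxO : x ∈ O := by
              by_contra h
              exact hc0 (hother x hx hx1 h).2.1
            have := hin x hxO n dvd_rfl
            exact ⟨this.1, by omega⟩
        rcases hn with rfl | rfl
        · exact pm 1 _ (by simp [specList]) this
        · exact pm 1 _ (by simp [specList]) this
    · obtain rfl : d = 4 := by omega
      have : ∀ x ∈ R, x ^ n = 1 ∧ R.count x ≤ 2 ^ 0 := by
        intro x hx
        by_cases hx1 : x = 1
        · have := Multiset.count_pos.2 hx; rw [hx1] at this; omega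
        · have hxO : x ∈ O := by
            by_contra h
            have := (hother x hx hx1 h).1
            omega
          have := hin x hxO n dvd_rfl
          exact ⟨this.1, by simp [this.2]⟩
      rcases hn with rfl | rfl
      · exact pm 0 _ (by simp [specList]) this
      · exact pm 0 _ (by simp [specList]) this
  · push Not at hbig
    have hq4 : ∀ x ∈ R, x ^ (q ^ 4 - 1) = 1 := by
      intro x hx
      by_cases hx1 : x = 1
      · rw [hx1, one_pow]
      obtain ⟨m, hm, hm'⟩ := hbig x hx hx1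
      have hx0 : x ≠ 0 := fun h => h0 (h ▸ hx)
      have hq1 : 1 ≤ q ^ m := Nat.one_le_pow _ _ (hq ▸ Nat.two_pow_pos k)
      by_cases he : x ^ q ^ m = x
      · refine hdvd (dvd_mul_q q m hm (Or.inr rfl)) ?_
        rw [pow_sub₀ _ hx0 hq1, he, pow_one, mul_inv_cancel₀ hx0]
      · refine hdvd (dvd_mul_q q m hm (Or.inl rfl)) ?_
        rw [pow_succ, hm' he, inv_mul_cancel₀ hx0]
    by_cases hall : ∀ x ∈ R, x ^ (q ^ 2 - 1) = 1
    · by_cases hcnt : ∀ x ∈ R, R.count x ≤ 4
      · exact pm 2 (q ^ 2 - 1) (by simp [specList]) (fun x hx => ⟨hall x hx, by simpa using hcnt x hx⟩)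
      push Not at hcnt
      obtain ⟨x, hx, hx4⟩ := hcnt
      have hx1 : x = 1 := by
        by_contra hx1
        obtain ⟨d, n, O, hd1, -, hO, -, -, hk, -⟩ := exists_orbit hq R h8 hRq hRi h0 hx hx1
        have hle := hone O d _ hO (fun y hy => ⟨(hk y hy).1, (hk y hy).2.1⟩)
        have := Nat.mul_le_mul hd1 hx4
        have e : 2 * d * R.count x = 2 * (d * R.count x) := mul_assoc _ _ _
        omega
      subst hx1
      have hc6 : 6 ≤ c := by obtain ⟨e, he⟩ := hceven; omega
      have h8' : ∀ y ∈ R, R.count y ≤ 8 := fun y _ => (Multiset.count_le_card y R).trans h8.le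
      by_cases hβ : ∃ β ∈ R, β ≠ 1
      · obtain ⟨β, hβ, hβ1⟩ := hβ
        obtain ⟨d, n, O, hd1, -, hO, hn, hβO, hk, hOq, hOi, -⟩ :=
          exists_orbit hq R h8 hRq hRi h0 hβ hβ1
        have hk' : ∀ y ∈ O, y ≠ 1 ∧ R.count y = R.count β := fun y hy => ⟨(hk y hy).1, (hk y hy).2.1⟩
        have hle := hone O d _ hO hk'
        have hb := Multiset.count_pos.2 hβ
        have := Nat.mul_le_mul hd1 hb
        have e : 2 * d * R.count β = 2 * (d * R.count β) := mul_assoc _ _ _
        obtain ⟨rfl, -⟩ := mul_eq_one.1 (show d * R.count β = 1 by omega)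
        have : ∀ y ∈ R, y ^ n = 1 ∧ R.count y ≤ 2 ^ 3 := by
          intro y hy
          refine ⟨?_, by simpa using h8' y hy⟩
          by_cases hy1 : y = 1
          · rw [hy1, one_pow]
          · by_contra hyn
            have hyO : y ∉ O := fun h => hyn (hk y h).2.2
            obtain ⟨d', n', O', hd', -, -, -, hle', -⟩ := hsecond O 1 _ hO hk' hOq hOi y hy hy1 hyO
            have := Nat.mul_le_mul hd' (Multiset.count_pos.2 hy)
            have e' : 2 * d' * R.count y = 2 * (d' * R.count y) := mul_assoc _ _ _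
            omega
        rcases hn with rfl | rfl <;> simp only [pow_one] at this
        · exact pm 3 _ (by simp [specList]) this
        · exact pm 3 _ (by simp [specList]) this
      · push Not at hβ
        exact pm 3 (q - 1) (by simp [specList])
          (fun y hy => ⟨by rw [hβ y hy, one_pow], by simpa using h8' y hy⟩)
    · push Not at hall
      obtain ⟨α, hα, hαq⟩ := hall
      have hα1 : α ≠ 1 := fun h => hαq (by rw [h, one_pow])
      obtain ⟨d, n, O, hd1, -, hO, hn, hαO, hk, hOq, hOi, hmin, -⟩ :=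
        exists_orbit hq R h8 hRq hRi h0 hα hα1
      have hk' : ∀ x ∈ O, x ≠ 1 ∧ R.count x = R.count α := fun x hx => ⟨(hk x hx).1, (hk x hx).2.1⟩
      have hk1 := Multiset.count_pos.2 hα
      have hle := hone O d _ hO hk'
      have hd : d = 2 ∧ n = q ^ 2 + 1 := by
        have hαn := (hk α hαO).2.2
        have hq1 := Nat.sq_sub_sq q 1
        rw [one_pow] at hq1
        by_cases hd2 : d = 2
        · subst hd2
          rcases hn with rfl | rfl
          · exact ⟨rfl, rfl⟩
          · exact absurd hαn hαq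
        by_cases hd1' : d = 1
        · subst hd1'
          rcases hn with rfl | rfl <;> rw [pow_one] at hαn
          · exact absurd (hdvd (hq1 ▸ dvd_mul_right _ _) hαn) hαq
          · exact absurd (hdvd (hq1 ▸ dvd_mul_left _ _) hαn) hαq
        exfalso
        obtain ⟨m, hm, hm'⟩ := hbig α hα hα1
        have := hmin m (by omega) (by omega)
        exact this.2 (hm' this.1)
      obtain ⟨rfl, rfl⟩ := hd
      have hin : ∀ b, q ^ 2 + 1 ∣ b → ∀ x ∈ O, x ^ b = 1 := fun b hb x hx => hdvd hb (hk x hx).2.2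
      rcases Nat.lt_or_ge (R.count α) 2 with hlt | hge
      · have hkk : R.count α = 1 := by omega
        rw [hkk] at hle
        have hother : ∀ β ∈ R, β ≠ 1 → β ∉ O → ∃ (d' n' : ℕ) (O' : Finset K), 1 ≤ d' ∧
            (n' = q ^ d' + 1 ∨ n' = q ^ d' - 1) ∧ β ∈ O' ∧
            (∀ x ∈ O', x ^ n' = 1 ∧ R.count x = R.count β) ∧
            c + 4 + 2 * d' * R.count β ≤ 8 ∧
            ∀ y ∈ R, y ≠ 1 → y ∉ O → y ∉ O' → c + 4 + 2 * d' * R.count β + 1 ≤ 8 := by
          intro β hβ hβ1 hβO
          have := hsecond O 2 _ hO hk' hOq hOi β hβ hβ1 hβO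
          simpa [hkk] using this
        rcases Nat.lt_or_ge c 3 with hc3 | hc4
        · by_cases hsmall : ∀ x ∈ R, R.count x ≤ 1
          · exact pm 0 (q ^ 4 - 1) (by simp [specList]) (fun x hx => ⟨hq4 x hx, by simpa using hsmall x hx⟩)
          push Not at hsmall
          obtain ⟨z, hz, hz2⟩ := hsmall
          by_cases hβ : ∃ β ∈ R, β ≠ 1 ∧ β ∉ O
          · obtain ⟨β, hβ, hβ1, hβO⟩ := hβ
            obtain ⟨d', n', O', hd', hn', hβ', hk'', hle', hy⟩ := hother β hβ hβ1 hβO
            have hb := Multiset.count_pos.2 hβ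
            have hcase : z = 1 ∨ z ∈ O' ∨ (z ≠ 1 ∧ z ∉ O') := by tauto
            have hzO : z ∉ O := fun h => by have := (hk' z h).2; omega
            have := Nat.mul_le_mul hd' hb
            have e' : 2 * d' * R.count β = 2 * (d' * R.count β) := mul_assoc _ _ _
            have hd1 : d' = 1 := by
              by_contra hne
              have h2 := Nat.mul_le_mul (show 2 ≤ d' by omega) hb
              rcases hcase with h | h | ⟨h, h'⟩
              · subst h; omega
              · have := (hk'' z h).2; have h3 := Nat.mul_le_mul (show 2 ≤ d' by omega) (show 2 ≤ R.count β by omega); omega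
              · have := hy z hz h hzO h'; omega
            subst hd1
            have hyall : ∀ y ∈ R, y = 1 ∨ y ∈ O ∨ y ∈ O' := by
              intro y hyR
              by_contra hcon
              push Not at hcon
              have := hy y hyR hcon.1 hcon.2.1 hcon.2.2
              rcases hcase with h | h | ⟨h, h'⟩
              · subst h; omega
              · have := (hk'' z h).2; omega
              · have h3 := hy z hz h hzO h'
                obtain ⟨d'', n'', O'', hd'', -, hz'', hkz, hle'', hy''⟩ := hother z hz h hzO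
                have h4 := Nat.mul_le_mul hd'' hz2
                have e'' : 2 * d'' * R.count z = 2 * (d'' * R.count z) := mul_assoc _ _ _
                have h5 : β ∈ O'' ∨ β ∉ O'' := by tauto
                rcases h5 with h5 | h5
                · have := (hkz β h5).2; omega
                · have := hy'' β hβ hβ1 hβO h5; omega
            have : ∀ b, q ^ 2 + 1 ∣ b → n' ∣ b → ∀ x ∈ R, x ^ b = 1 ∧ R.count x ≤ 2 ^ 1 := by
              intro b h1 h2 x hx
              rcases hyall x hx with rfl | h | h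
              · exact ⟨one_pow _, by omega⟩
              · exact ⟨hin b h1 x h, by rw [(hk' x h).2, hkk]; simp⟩
              · exact ⟨hdvd h2 (hk'' x h).1, by rw [(hk'' x h).2]; omega⟩
            rcases hn' with rfl | rfl <;> simp only [pow_one] at this
            · exact pm 1 _ (by simp [specList]) (this _ (dvd_mul_right _ _) (dvd_mul_left _ _))
            · exact pm 1 _ (by simp [specList]) (this _ (dvd_mul_right _ _) (dvd_mul_left _ _))
          · push Not at hβ
            refine pm 1 ((q ^ 2 + 1) * (q - 1)) (by simp [specList]) fun x hx => ?_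
            by_cases hx1 : x = 1
            · subst hx1; exact ⟨one_pow _, by omega⟩
            · exact ⟨hin _ (dvd_mul_right _ _) x (hβ x hx hx1), by
                rw [(hk' x (hβ x hx hx1)).2, hkk]; simp⟩
        · refine pm 2 (q ^ 2 + 1) (by simp [specList]) fun x hx => ?_
          by_cases hx1 : x = 1
          · subst hx1; exact ⟨one_pow _, by omega⟩
          have hxO : x ∈ O := by
            by_contra h
            obtain ⟨d', -, -, hd', -, -, -, hle', -⟩ := hother x hx hx1 h
            have := Nat.mul_le_mul hd' (Multiset.count_pos.2 hx)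
            have e' : 2 * d' * R.count x = 2 * (d' * R.count x) := mul_assoc _ _ _
            obtain ⟨e, he⟩ := hceven
            omega
          exact ⟨hin _ dvd_rfl x hxO, by rw [(hk' x hxO).2, hkk]; simp⟩
      · refine pm 2 (q ^ 2 + 1) (by simp [specList]) fun x hx => ?_
        by_cases hx1 : x = 1
        · have := Multiset.count_pos.2 hx; rw [hx1] at this; omega
        have hxO : x ∈ O := by
          by_contra h
          obtain ⟨d', -, -, hd', -, -, -, hle', -⟩ := hsecond O 2 _ hO hk' hOq hOi x hx hx1 h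
          have := Nat.mul_le_mul hd' (Multiset.count_pos.2 hx)
          have e' : 2 * d' * R.count x = 2 * (d' * R.count x) := mul_assoc _ _ _
          omega
        exact ⟨hin _ dvd_rfl x hxO, by rw [(hk' x hxO).2]; omega⟩

end Roots

section MatrixOrder

open scoped Matrix

theorem reverse_prod_roots {K : Type*} [Field K] (s : Multiset K) (h0 : (0 : K) ∉ s) :
    (s.map fun a => X - C a).prod.reverse ≠ 0 ∧
      (s.map fun a => X - C a).prod.reverse.roots = s.map fun a => a⁻¹ := by
  induction s using Multiset.induction_on with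
  | empty =>
    rw [Multiset.map_zero, Multiset.map_zero, Multiset.prod_zero, ← C_1, reverse_C]
    simp
  | cons a s ih =>
    obtain ⟨ha, hs⟩ : (0 : K) ≠ a ∧ (0 : K) ∉ s := by simpa using h0
    obtain ⟨h1, h2⟩ := ih hs
    have e : (X - C a).reverse = C (-a) * (X - C a⁻¹) := by
      have hd : (X - C a).natDegree = 1 := natDegree_X_sub_C a
      rw [reverse, hd, sub_eq_add_neg, ← map_neg C a]
      have : reflect 1 (X + C (-a) : K[X]) = 1 + C (-a) * X := by
        have h0 : reflect 1 (C (1 : K) * X ^ 1) = C 1 * X ^ (revAt 1 1) := reflect_C_mul_X_pow 1 1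
        simp only [map_one, one_mul, pow_one, revAt_le le_rfl, Nat.sub_self, pow_zero] at h0
        rw [reflect_add, reflect_C, h0, pow_one]
      rw [this, mul_sub, ← C_mul]
      simp [ha.symm]
      ring
    have hne : C (-a) * (X - C a⁻¹) ≠ (0 : K[X]) :=
      mul_ne_zero (by simpa using ha.symm) (X_sub_C_ne_zero _)
    rw [Multiset.map_cons, Multiset.prod_cons, reverse_mul_of_domain, e]
    refine ⟨mul_ne_zero hne h1, ?_⟩
    rw [roots_mul (mul_ne_zero hne h1), roots_C_mul _ (by simpa using ha.symm), roots_X_sub_C, h2]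
    simp

variable {F : Type*} [Field F] [Finite F] [CharP F 2]

theorem exists_card_eq : ∃ k, Nat.card F = 2 ^ k := by
  haveI := Fintype.ofFinite F
  obtain ⟨n, -, h⟩ := FiniteField.card F 2
  exact ⟨n, by rw [Nat.card_eq_fintype_card]; exact h⟩

/-- The order bound, with the multiplicity of the eigenvalue one. -/
theorem order_bound_one {ι : Type*} [Fintype ι] [DecidableEq ι] (h8 : Fintype.card ι = 8)
    (M B : Matrix ι ι F) (hB : IsUnit B) (h : Mᵀ * B * M = B) :
    ∃ p ∈ specList (Nat.card F), M ^ (2 ^ p.1 * p.2) = 1 ∧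
      M.charpoly.rootMultiplicity 1 ≤ 2 ^ p.1 := by
  classical
  haveI := Fintype.ofFinite F
  let K := AlgebraicClosure F
  let i := algebraMap F K
  haveI : CharP K 2 := charP_of_injective_algebraMap i.injective 2
  obtain ⟨k, hk⟩ := exists_card_eq (F := F)
  have hdB : IsUnit B.det := (Matrix.isUnit_iff_isUnit_det B).1 hB
  have hdM : IsUnit M.det := by
    have := congrArg Matrix.det h
    rw [Matrix.det_mul, Matrix.det_mul] at this
    exact isUnit_of_mul_isUnit_right (this ▸ hdB)
  have hMu : IsUnit M := (Matrix.isUnit_iff_isUnit_det M).2 hdM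
  have hinv : M⁻¹ = B⁻¹ * Mᵀ * B := by
    apply Matrix.inv_eq_left_inv
    rw [mul_assoc, mul_assoc, ← mul_assoc Mᵀ, h, Matrix.nonsing_inv_mul _ hdB]
  have hchar : M⁻¹.charpoly = M.charpoly := by
    rw [hinv]
    obtain ⟨u, rfl⟩ := hB
    rw [Matrix.charpoly_units_conj', Matrix.charpoly_transpose]
  have hrev : M.charpoly = C ((Ring.inverse M.det)) * M.charpoly.reverse := by
    conv_lhs => rw [← hchar, Matrix.charpoly_inv M hMu, h8]
    rw [Matrix.reverse_charpoly, Even.neg_one_pow (by decide), one_mul]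
  set χ := M.charpoly.map i with hχ
  have hmon : M.charpoly.Monic := M.charpoly_monic
  have hsplit : χ.Splits := IsAlgClosed.splits χ
  have hprod : χ = (χ.roots.map fun a => X - C a).prod :=
    hsplit.eq_prod_roots_of_monic (hmon.map i)
  have hcard : χ.roots.card = 8 := by
    rw [← hsplit.natDegree_eq_card_roots, hχ, hmon.natDegree_map, M.charpoly_natDegree_eq_dim, h8]
  have h0 : (0 : K) ∉ χ.roots := by
    intro hz
    have he : χ.IsRoot 0 := (mem_roots (hmon.map i).ne_zero).1 hz
    rw [IsRoot, hχ, eval_map, eval₂_at_zero, map_eq_zero i] at he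
    have := M.det_eq_sign_charpoly_coeff
    rw [he, mul_zero] at this
    exact hdM.ne_zero this
  obtain ⟨hne, hroots⟩ := reverse_prod_roots χ.roots h0
  have hmaprev : M.charpoly.reverse.map i = χ.reverse := by
    rw [reverse, reverse, hχ, natDegree_map_eq_of_injective i.injective, reflect_map]
  have hRi : χ.roots.map (fun x => x⁻¹) = χ.roots := by
    have e : χ = C (i (Ring.inverse M.det)) * χ.reverse := by
      conv_lhs => rw [hχ, hrev, Polynomial.map_mul, map_C, hmaprev]
    conv_rhs => rw [e]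
    rw [roots_C_mul _ (by simpa using (hdM.ringInverse).ne_zero), ← hroots, ← hprod]
  have hRq : χ.roots.map (fun x => x ^ Nat.card F) = χ.roots := by
    have hfix : χ.map (iterateFrobenius K 2 k) = χ := by
      rw [hχ, map_map]
      congr 1
      ext a
      rw [RingHom.comp_apply, iterateFrobenius_def, ← map_pow, ← hk, Nat.card_eq_fintype_card,
        FiniteField.pow_card]
    conv_rhs => rw [← hfix, hsplit.roots_map (iterateFrobenius K 2 k)]
    exact Multiset.map_congr rfl fun x _ => by rw [iterateFrobenius_def, hk]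
  obtain ⟨⟨e, n⟩, hp, hroot⟩ := root_cases hk χ.roots hcard hRq hRi h0
  refine ⟨(e, n), hp, ?_, ?_⟩
  rotate_left
  · rw [eq_rootMultiplicity_map i.injective, map_one, ← count_roots]
    by_cases h1 : (1 : K) ∈ χ.roots
    · exact (hroot 1 h1).2
    · rw [Multiset.count_eq_zero.2 h1]; exact Nat.zero_le _
  have hn : 0 < n := by
    have hq2 : 2 ≤ Nat.card F := by
      rw [Nat.card_eq_fintype_card]; exact Fintype.one_lt_card
    have h1 := fun j (hj : j ≠ 0) => Nat.one_lt_pow hj hq2
    have := h1 2 (by norm_num); have := h1 3 (by norm_num); have := h1 4 (by norm_num)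
    simp only [specList, List.mem_cons, Prod.mk.injEq, List.not_mem_nil, or_false] at hp
    obtain ⟨-, rfl⟩ | ⟨-, rfl⟩ | ⟨-, rfl⟩ | ⟨-, rfl⟩ | ⟨-, rfl⟩ | ⟨-, rfl⟩ | ⟨-, rfl⟩ | ⟨-, rfl⟩ |
      ⟨-, rfl⟩ | ⟨-, rfl⟩ | ⟨-, rfl⟩ | ⟨-, rfl⟩ := hp <;>
      first | omega | exact Nat.mul_pos (by omega) (by omega)
  have hdvd : χ ∣ (X ^ n - 1 : K[X]) ^ 2 ^ e := by
    have hne1 : (X ^ n - 1 : K[X]) ≠ 0 := by
      simpa using X_pow_sub_C_ne_zero hn (1 : K)
    refine (hsplit.dvd_iff_roots_le_roots (hmon.map i).ne_zero (pow_ne_zero _ hne1)).2 ?_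
    rw [Multiset.le_iff_count]
    intro x
    by_cases hx : x ∈ χ.roots
    · obtain ⟨hx1, hx2⟩ := hroot x hx
      rw [roots_pow, Multiset.count_nsmul]
      refine hx2.trans (Nat.le_mul_of_pos_right _ (Multiset.count_pos.2 ?_))
      rw [mem_roots hne1]
      simp only [IsRoot, eval_sub, eval_pow, eval_X, eval_one]
      exact sub_eq_zero.2 hx1
    · rw [Multiset.count_eq_zero.2 hx]
      exact Nat.zero_le _
  obtain ⟨r, hr⟩ := hdvd
  have hM0 : aeval (M.map i) χ = 0 := by
    rw [hχ, ← Matrix.charpoly_map]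
    exact Matrix.aeval_self_charpoly _
  have hz := congrArg (aeval (M.map i)) hr
  rw [map_mul, hM0, zero_mul, sub_pow_char_pow, one_pow, ← pow_mul, map_sub, map_pow, aeval_X,
    map_one, sub_eq_zero] at hz
  apply Matrix.map_injective i.injective
  show (i.mapMatrix (M ^ (2 ^ e * n))) = i.mapMatrix 1
  rw [map_pow, map_one, mul_comm]
  exact hz

/-- The order bound. -/
theorem order_bound {ι : Type*} [Fintype ι] [DecidableEq ι] (h8 : Fintype.card ι = 8)
    (M B : Matrix ι ι F) (hB : IsUnit B) (h : Mᵀ * B * M = B) :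
    ∃ p ∈ specList (Nat.card F), M ^ (2 ^ p.1 * p.2) = 1 :=
  let ⟨p, hp, hM, _⟩ := order_bound_one h8 M B hB h
  ⟨p, hp, hM⟩

end MatrixOrder

end Cfsg.Agent.SpEightBound
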