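import Mathlib
import Cfsg.Agent.Lib.SpEightBound

/-!
Element orders of matrices preserving a non-degenerate form over a finite field with `q` elements:
at most `q ^ (m + 1) / (q - 1)` in dimension `2 m` or `2 m + 1`.
-/

set_option autoImplicit false

namespace Cfsg.Agent.ClassicalOrderBound69

open Polynomial

/-! ### Arithmetic -/

theorem lcm_bound_group {Q : ℕ} (hQ : 2 ≤ Q) : ∀ l : Multiset ℕ, (∀ b ∈ l, Odd b) → l ≠ 0 →
    (l.map fun b => Q ^ b + 1).lcm * Q ≤ Q ^ l.sum * (Q + 1) := by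
  intro l
  induction l using Multiset.induction_on with
  | empty => intro _ h; exact absurd rfl h
  | cons b M ih =>
    intro hodd _
    have hb : 1 ≤ b := (hodd b (Multiset.mem_cons_self b M)).pos
    have hQb : Q ≤ Q ^ b := Nat.le_self_pow (by omega) Q
    rw [Multiset.map_cons, Multiset.lcm_cons, Multiset.sum_cons, pow_add]
    by_cases hM : M = 0
    · subst hM
      simp only [Multiset.map_zero, Multiset.lcm_zero, Multiset.sum_zero, pow_zero, mul_one, lcm_one_right, normalize_eq]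
      nlinarith [hQb]
    have hoddM : ∀ c ∈ M, Odd c := fun c hc => hodd c (Multiset.mem_cons_of_mem hc)
    have hL := ih hoddM hM
    obtain ⟨c, hc⟩ := Multiset.exists_mem_of_ne_zero hM
    have hdvd : ∀ b : ℕ, Odd b → Q + 1 ∣ Q ^ b + 1 := fun b hb => by
      simpa using hb.nat_add_dvd_pow_add_pow Q 1
    have hdL : Q + 1 ∣ (M.map fun b => Q ^ b + 1).lcm :=
      (hdvd c (hoddM c hc)).trans (Multiset.dvd_lcm (Multiset.mem_map_of_mem _ hc))
    set L := (M.map fun b => Q ^ b + 1).lcm with hLdef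
    set x := Q ^ b + 1 with hx
    show Nat.lcm x L * Q ≤ _
    have hgcd : Q + 1 ≤ Nat.gcd x L :=
      Nat.le_of_dvd (Nat.gcd_pos_of_pos_left _ (by omega))
        (Nat.dvd_gcd (hdvd b (hodd b (Multiset.mem_cons_self b M))) hdL)
    have h1 : Nat.lcm x L * (Q + 1) ≤ x * L := by
      rw [← Nat.gcd_mul_lcm x L, mul_comm (Nat.gcd x L)]
      exact Nat.mul_le_mul_left _ hgcd
    have h2 : Nat.lcm x L * Q * (Q + 1) ≤ x * Q ^ M.sum * (Q + 1) := by
      calc Nat.lcm x L * Q * (Q + 1) = Nat.lcm x L * (Q + 1) * Q := by ring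
        _ ≤ x * L * Q := Nat.mul_le_mul_right _ h1
        _ = x * (L * Q) := by ring
        _ ≤ x * (Q ^ M.sum * (Q + 1)) := Nat.mul_le_mul_left _ hL
        _ = _ := by ring
    have h3 : x ≤ Q ^ b * (Q + 1) := by rw [hx]; nlinarith [hQb, hQ]
    calc Nat.lcm x L * Q ≤ x * Q ^ M.sum := Nat.le_of_mul_le_mul_right h2 (by omega)
      _ ≤ Q ^ b * (Q + 1) * Q ^ M.sum := Nat.mul_le_mul_right _ h3
      _ = _ := by ring

theorem lcm_bound {q : ℕ} (hq : 2 ≤ q) : ∀ (d k : ℕ) (A : Multiset ℕ), A.sum < 2 ^ (k + d) →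
    (∀ a ∈ A, 2 ^ k ∣ a ∧ 0 < a) →
    (A.map fun a => q ^ a + 1).lcm * (q ^ 2 ^ k - 1) ≤ q ^ A.sum * q ^ 2 ^ k := by
  intro d
  induction d with
  | zero =>
    intro k A hA h
    have : A = 0 := Multiset.eq_zero_of_forall_notMem fun a ha => by
      have h1 := Nat.le_of_dvd (h a ha).2 (h a ha).1
      have h2 := Multiset.le_sum_of_mem ha
      rw [add_zero] at hA
      omega
    subst this
    simp
  | succ d ih =>
    intro k A hA h
    classical
    set B := A.filter fun a => ¬ 2 ^ (k + 1) ∣ a with hB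
    set C := A.filter fun a => 2 ^ (k + 1) ∣ a with hC
    have hsplit : C + B = A := Multiset.filter_add_not (fun a => 2 ^ (k + 1) ∣ a) A
    have hsum : C.sum + B.sum = A.sum := by rw [← Multiset.sum_add, hsplit]
    set Q := q ^ 2 ^ k with hQ
    have hQ2 : 2 ≤ Q := hq.trans (Nat.le_self_pow (by positivity) q)
    have hCb := ih (k + 1) C (by rw [show k + 1 + d = k + (d + 1) by omega]; omega)
      (fun a ha => ⟨(Multiset.mem_filter.1 ha).2, (h a (Multiset.mem_filter.1 ha).1).2⟩)
    rw [show q ^ 2 ^ (k + 1) = Q * Q by rw [hQ, ← pow_add, pow_succ]; ring_nf] at hCb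
    set LC := (C.map fun a => q ^ a + 1).lcm with hLC
    set LB := (B.map fun a => q ^ a + 1).lcm with hLB
    have hL : (A.map fun a => q ^ a + 1).lcm ≤ LC * LB := by
      conv_lhs => rw [← hsplit, Multiset.map_add, Multiset.lcm_add]
      refine Nat.le_of_dvd (Nat.mul_pos ?_ ?_) (Nat.lcm_dvd_mul LC LB) <;>
      · refine Nat.pos_of_ne_zero fun e => ?_
        have := Multiset.lcm_eq_zero_iff _ |>.1 e
        simp at this
    obtain ⟨Q', hQ'⟩ : ∃ Q', Q = Q' + 1 := ⟨Q - 1, by omega⟩
    have hfac : Q * Q - 1 = (Q - 1) * (Q + 1) := by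
      rw [hQ']; simp only [Nat.add_sub_cancel]
      have : (Q' + 1) * (Q' + 1) = Q' * (Q' + 1 + 1) + 1 := by ring
      omega
    rw [hfac] at hCb
    by_cases hB0 : B = 0
    · rw [hB0, add_zero] at hsplit
      rw [hsplit] at hLC hCb
      rw [← hLC]
      refine Nat.le_of_mul_le_mul_right (c := Q + 1) ?_ (by omega)
      calc LC * (Q - 1) * (Q + 1) = LC * ((Q - 1) * (Q + 1)) := by ring
        _ ≤ q ^ A.sum * (Q * Q) := hCb
        _ ≤ q ^ A.sum * Q * (Q + 1) := by rw [mul_assoc]; exact Nat.mul_le_mul_left _ (Nat.mul_le_mul_left _ (Nat.le_succ Q))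
    · have hdiv : ∀ a ∈ B, 2 ^ k * (a / 2 ^ k) = a := fun a ha =>
        Nat.mul_div_cancel' (h a (Multiset.mem_filter.1 ha).1).1
      have hg := lcm_bound_group hQ2 (B.map fun a => a / 2 ^ k) (fun b hb => by
        obtain ⟨a, ha, rfl⟩ := Multiset.mem_map.1 hb
        rw [← Nat.not_even_iff_odd]
        rintro ⟨t, ht⟩
        refine (Multiset.mem_filter.1 ha).2 ⟨t, ?_⟩
        conv_lhs => rw [← hdiv a ha, ht]
        ring) (by simpa using hB0)
      have e1 : ((B.map fun a => a / 2 ^ k).map fun b => Q ^ b + 1) = B.map fun a => q ^ a + 1 := by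
        rw [Multiset.map_map]
        refine Multiset.map_congr rfl fun a ha => ?_
        simp only [Function.comp_apply, hQ]
        rw [← pow_mul, hdiv a ha]
      have e2 : Q ^ (B.map fun a => a / 2 ^ k).sum = q ^ B.sum := by
        rw [hQ, ← pow_mul, ← Multiset.sum_map_mul_left, Multiset.map_congr rfl hdiv, Multiset.map_id']
      rw [e1, e2] at hg
      refine Nat.le_of_mul_le_mul_right (c := Q * (Q + 1)) ?_ (by positivity)
      calc (A.map fun a => q ^ a + 1).lcm * (Q - 1) * (Q * (Q + 1))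
          ≤ LC * LB * (Q - 1) * (Q * (Q + 1)) := Nat.mul_le_mul_right _ (Nat.mul_le_mul_right _ hL)
        _ = (LC * ((Q - 1) * (Q + 1))) * (LB * Q) := by ring
        _ ≤ (q ^ C.sum * (Q * Q)) * (q ^ B.sum * (Q + 1)) := Nat.mul_le_mul hCb hg
        _ = q ^ A.sum * Q * (Q * (Q + 1)) := by rw [← hsum, pow_add]; ring

/-! ### Orbits of roots under `x ↦ x ^ q` and inversion -/

variable {K : Type*} [Field K]

/-- A finite set of non-zero elements, none equal to its inverse, closed under both maps. -/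
def Closed (q : ℕ) (S : Finset K) : Prop :=
  (∀ x ∈ S, x ^ q ∈ S) ∧ (∀ x ∈ S, x⁻¹ ∈ S) ∧ ∀ x ∈ S, x ≠ 0 ∧ x⁻¹ ≠ x

theorem pow_qi_injective {q : ℕ} (hinj : Function.Injective fun x : K => x ^ q) :
    ∀ i, Function.Injective fun x : K => x ^ q ^ i := by
  intro i
  induction i with
  | zero => intro x y h; simpa using h
  | succ i ih =>
    intro x y hxy
    simp only [pow_succ, pow_mul] at hxy
    exact ih (hinj hxy)

theorem orbit_split [DecidableEq K] {q : ℕ} (hq : 1 ≤ q) (hinj : Function.Injective fun x : K => x ^ q)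
    {S : Finset K} (hS : Closed q S) {r : K} (hr : r ∈ S) :
    ∃ (a n : ℕ) (T : Finset K), 0 < a ∧ T ⊆ S ∧ T.card = 2 * a ∧ Closed q (S \ T) ∧
      (n = q ^ a + 1 ∨ n = q ^ a - 1) ∧ ∀ x ∈ T, x ^ n = 1 := by
  obtain ⟨hSq, hSi, hS0⟩ := hS
  have hinji := pow_qi_injective hinj
  have hmem : ∀ i, r ^ q ^ i ∈ S := by
    intro i
    induction i with
    | zero => simpa using hr
    | succ i ih => rw [pow_succ, pow_mul]; exact hSq _ ih
  have hex : ∃ a, 0 < a ∧ (r ^ q ^ a = r ∨ r ^ q ^ a = r⁻¹) := by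
    obtain ⟨i, -, j, -, hne, he⟩ := Finset.exists_ne_map_eq_of_card_lt_of_maps_to
      (s := Finset.range (S.card + 1)) (t := S) (by simp) (fun i _ => hmem i)
    wlog hij : i < j generalizing i j
    · exact this j i (Ne.symm hne) he.symm (by omega)
    obtain ⟨d, rfl⟩ := Nat.exists_eq_add_of_le hij.le
    refine ⟨d, by omega, Or.inl (hinji i ?_)⟩
    show (r ^ q ^ d) ^ q ^ i = r ^ q ^ i
    rw [← pow_mul, ← pow_add, add_comm d i]
    exact he.symm
  set a := Nat.find hex with hadef
  obtain ⟨ha, had⟩ := Nat.find_spec hex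
  have hmin : ∀ i, 0 < i → i < a → r ^ q ^ i ≠ r ∧ r ^ q ^ i ≠ r⁻¹ := fun i h0 hi =>
    ⟨fun e => Nat.find_min hex hi ⟨h0, Or.inl e⟩, fun e => Nat.find_min hex hi ⟨h0, Or.inr e⟩⟩
  let T : Finset K := (Finset.range a).image (fun i => r ^ q ^ i) ∪
    (Finset.range a).image (fun i => (r ^ q ^ i)⁻¹)
  have hT : ∀ x ∈ T, ∃ i < a, x = r ^ q ^ i ∨ x = (r ^ q ^ i)⁻¹ := by
    intro x hx
    simp only [T, Finset.mem_union, Finset.mem_image, Finset.mem_range] at hx
    rcases hx with ⟨i, hi, rfl⟩ | ⟨i, hi, rfl⟩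
    · exact ⟨i, hi, Or.inl rfl⟩
    · exact ⟨i, hi, Or.inr rfl⟩
  have hTm : ∀ i < a, r ^ q ^ i ∈ T ∧ (r ^ q ^ i)⁻¹ ∈ T := fun i hi =>
    ⟨Finset.mem_union_left _ (Finset.mem_image.2 ⟨i, Finset.mem_range.2 hi, rfl⟩),
      Finset.mem_union_right _ (Finset.mem_image.2 ⟨i, Finset.mem_range.2 hi, rfl⟩)⟩
  have hTS : T ⊆ S := fun x hx => by
    obtain ⟨i, -, rfl | rfl⟩ := hT x hx
    · exact hmem i
    · exact hSi _ (hmem i)
  have hne : ∀ i j, i < j → j < a → r ^ q ^ i ≠ r ^ q ^ j ∧ r ^ q ^ i ≠ (r ^ q ^ j)⁻¹ := by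
    intro i j hij hj
    obtain ⟨e, rfl⟩ := Nat.exists_eq_add_of_le hij.le
    have he := hmin e (by omega) (by omega)
    have e' : r ^ q ^ (i + e) = (r ^ q ^ e) ^ q ^ i := by rw [← pow_mul, ← pow_add, add_comm]
    rw [e', ← inv_pow]
    exact ⟨fun h => he.1 (hinji i h).symm, fun h => he.2 (by
      have h' : r = (r ^ q ^ e)⁻¹ := hinji i h
      rw [← inv_inv (r ^ q ^ e), ← h'])⟩
  have hcard : T.card = 2 * a := by
    have h1 : Set.InjOn (fun i => r ^ q ^ i) (Finset.range a : Set ℕ) := by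
      intro i hi j hj h
      simp only [Finset.coe_range, Set.mem_Iio] at hi hj
      rcases lt_trichotomy i j with hij | hij | hij
      · exact absurd h (hne i j hij hj).1
      · exact hij
      · exact absurd h.symm (hne j i hij hi).1
    rw [Finset.card_union_of_disjoint, Finset.card_image_of_injOn h1, Finset.card_image_of_injOn
      (fun i hi j hj h => h1 hi hj (inv_injective h)), Finset.card_range]
    · ring
    · rw [Finset.disjoint_left]
      intro x hx hx'
      obtain ⟨i, hi, rfl⟩ := Finset.mem_image.1 hx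
      obtain ⟨j, hj, hji⟩ := Finset.mem_image.1 hx'
      simp only [Finset.mem_range] at hi hj
      rcases lt_trichotomy i j with hij | hij | hij
      · exact (hne i j hij hj).2 hji.symm
      · subst hij; exact (hS0 _ (hmem i)).2 hji
      · exact (hne j i hij hi).2 (inv_eq_iff_eq_inv.1 hji)
  have hTi : ∀ x ∈ T, x⁻¹ ∈ T := fun x hx => by
    obtain ⟨i, hi, rfl | rfl⟩ := hT x hx
    · exact (hTm i hi).2
    · rw [inv_inv]; exact (hTm i hi).1
  have hTq : ∀ x ∈ T, x ^ q ∈ T := by
    have step : ∀ i < a, r ^ q ^ (i + 1) ∈ T := by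
      intro i hi
      rcases Nat.lt_or_ge (i + 1) a with h | h
      · exact (hTm _ h).1
      · have h0 := hTm 0 ha
        simp only [pow_zero, pow_one] at h0
        rw [show i + 1 = a by omega]
        rcases had with e | e <;> rw [e]
        · exact h0.1
        · exact h0.2
    intro x hx
    obtain ⟨i, hi, rfl | rfl⟩ := hT x hx
    · rw [← pow_mul, ← pow_succ]; exact step i hi
    · rw [inv_pow]; exact hTi _ (by rw [← pow_mul, ← pow_succ]; exact step i hi)
  have himg : T.image (fun x => x ^ q) = T := by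
    refine Finset.eq_of_subset_of_card_le (fun x hx => ?_) (by rw [Finset.card_image_of_injective _ hinj])
    obtain ⟨y, hy, rfl⟩ := Finset.mem_image.1 hx
    exact hTq y hy
  refine ⟨a, if r ^ q ^ a = r then q ^ a - 1 else q ^ a + 1, T, ha, hTS, hcard, ⟨?_, ?_, ?_⟩,
    by split_ifs <;> simp, ?_⟩
  · intro x hx
    obtain ⟨h1, h2⟩ := Finset.mem_sdiff.1 hx
    refine Finset.mem_sdiff.2 ⟨hSq x h1, fun h => h2 ?_⟩
    rw [← himg] at h
    obtain ⟨y, hy, hyx⟩ := Finset.mem_image.1 h
    exact hinj hyx ▸ hy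
  · intro x hx
    obtain ⟨h1, h2⟩ := Finset.mem_sdiff.1 hx
    exact Finset.mem_sdiff.2 ⟨hSi x h1, fun h => h2 (by simpa using hTi _ h)⟩
  · exact fun x hx => hS0 x (Finset.mem_sdiff.1 hx).1
  · set n := if r ^ q ^ a = r then q ^ a - 1 else q ^ a + 1 with hn
    have hrn : r ^ n = 1 := by
      have h0 := (hS0 r hr).1
      rw [hn]
      split_ifs with h
      · rw [pow_sub₀ _ h0 (Nat.one_le_pow _ _ (by omega)), h, pow_one, mul_inv_cancel₀ h0]
      · rw [pow_succ, had.resolve_left h, inv_mul_cancel₀ h0]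
    intro x hx
    obtain ⟨i, -, rfl | rfl⟩ := hT x hx
    · rw [← pow_mul, mul_comm, pow_mul, hrn, one_pow]
    · rw [inv_pow, ← pow_mul, mul_comm, pow_mul, hrn, one_pow, inv_one]

theorem exists_exponent [DecidableEq K] {q : ℕ} (hq : 2 ≤ q) (hinj : Function.Injective fun x : K => x ^ q) :
    ∀ S : Finset K, Closed q S → ∃ c L : ℕ, S.card = 2 * c ∧ 0 < L ∧ (∀ x ∈ S, x ^ L = 1) ∧
      (q - 1) * L ≤ q ^ (c + 1) ∧ (Odd q → S.Nonempty → Even L) := by
  suffices key : ∀ S : Finset K, Closed q S → ∃ A B : Multiset ℕ, S.card = 2 * (A.sum + B.sum) ∧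
      (∀ a ∈ A, 0 < a) ∧ (∀ a ∈ B, 0 < a) ∧
      (∀ x ∈ S, x ^ ((A.map fun a => q ^ a + 1).lcm * (B.map fun a => q ^ a - 1).prod) = 1) ∧
      (Odd q → S.Nonempty → Even ((A.map fun a => q ^ a + 1).lcm * (B.map fun a => q ^ a - 1).prod)) by
    intro S hS
    obtain ⟨A, B, hc, hA, hB, hx, hev⟩ := key S hS
    refine ⟨A.sum + B.sum, _, hc, Nat.mul_pos ?_ ?_, hx, ?_, hev⟩
    · refine Nat.pos_of_ne_zero fun e => ?_
      have := Multiset.lcm_eq_zero_iff _ |>.1 e
      simp at this
    · refine Nat.pos_of_ne_zero (Multiset.prod_ne_zero fun h => ?_)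
      obtain ⟨a, ha, he⟩ := Multiset.mem_map.1 h
      have := Nat.one_lt_pow (hB a ha).ne' hq
      omega
    have h1 := lcm_bound hq (A.sum + 1) 0 A (by
      rw [zero_add]; exact lt_of_lt_of_le (Nat.lt_succ_self _) Nat.lt_two_pow_self.le)
      (fun a ha => ⟨by simp, hA a ha⟩)
    simp only [pow_zero, pow_one] at h1
    have h2 : ∀ B : Multiset ℕ, (B.map fun a => q ^ a - 1).prod ≤ q ^ B.sum := fun B => by
      induction B using Multiset.induction_on with
      | empty => simp
      | cons a M ih =>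
        rw [Multiset.map_cons, Multiset.prod_cons, Multiset.sum_cons, pow_add]
        exact Nat.mul_le_mul (Nat.sub_le _ _) ih
    calc _ = (A.map fun a => q ^ a + 1).lcm * (q - 1) * (B.map fun a => q ^ a - 1).prod := by ring
      _ ≤ q ^ A.sum * q * q ^ B.sum := Nat.mul_le_mul h1 (h2 B)
      _ = _ := by ring
  intro S
  induction S using Finset.strongInduction with
  | _ S ih =>
    intro hS
    rcases S.eq_empty_or_nonempty with rfl | ⟨r, hr⟩
    · exact ⟨0, 0, by simp, by simp, by simp, by simp, by simp⟩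
    obtain ⟨a, n, T, ha, hTS, hTc, hcl, hn, hxn⟩ := orbit_split (by omega) hinj hS hr
    have hTne : T.Nonempty := Finset.card_pos.1 (by omega)
    obtain ⟨A, B, hc, hA, hB, hx, -⟩ := ih (S \ T) (Finset.sdiff_ssubset hTS hTne) hcl
    have hcard : S.card = 2 * a + 2 * (A.sum + B.sum) := by
      rw [← hc, ← hTc, Finset.card_sdiff_of_subset hTS]
      have := Finset.card_le_card hTS
      omega
    have hfin : ∀ L : ℕ, n ∣ L → (A.map fun a => q ^ a + 1).lcm * (B.map fun a => q ^ a - 1).prod ∣ L →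
        (∀ x ∈ S, x ^ L = 1) ∧ (Odd q → S.Nonempty → Even L) := by
      intro L h1 h2
      refine ⟨fun x hxS => ?_, fun hodd _ => ?_⟩
      · by_cases hxT : x ∈ T
        · obtain ⟨e, rfl⟩ := h1; rw [pow_mul, hxn x hxT, one_pow]
        · obtain ⟨e, rfl⟩ := h2; rw [pow_mul, hx x (Finset.mem_sdiff.2 ⟨hxS, hxT⟩), one_pow]
      · have he : Odd (q ^ a) := hodd.pow
        refine even_iff_two_dvd.2 ((even_iff_two_dvd.1 ?_).trans h1)
        rcases hn with rfl | rfl
        · exact he.add_one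
        · exact Nat.Odd.sub_odd he odd_one
    rcases hn with rfl | rfl
    · obtain ⟨h3, h4⟩ := hfin (((a ::ₘ A).map fun a => q ^ a + 1).lcm * (B.map fun a => q ^ a - 1).prod)
        (Dvd.dvd.mul_right (Multiset.dvd_lcm (by simp)) _)
        (Nat.mul_dvd_mul_right (by rw [Multiset.map_cons, Multiset.lcm_cons]; exact Nat.dvd_lcm_right _ _) _)
      exact ⟨a ::ₘ A, B, by rw [Multiset.sum_cons]; omega,
        Multiset.forall_mem_cons.2 ⟨ha, hA⟩, hB, h3, h4⟩
    · obtain ⟨h3, h4⟩ := hfin ((A.map fun a => q ^ a + 1).lcm * ((a ::ₘ B).map fun a => q ^ a - 1).prod)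
        (Dvd.dvd.mul_left (by simp) _)
        (Nat.mul_dvd_mul_left _ (by rw [Multiset.map_cons, Multiset.prod_cons]; exact dvd_mul_left _ _))
      exact ⟨A, a ::ₘ B, by rw [Multiset.sum_cons]; omega, hA,
        Multiset.forall_mem_cons.2 ⟨ha, hB⟩, h3, h4⟩

theorem le_two_pow_half : ∀ e, 2 * e ≤ 2 ^ e
  | 0 => by norm_num
  | 1 => by norm_num
  | e + 2 => by have := le_two_pow_half (e + 1); rw [pow_succ]; omega

theorem le_three_pow_half : ∀ e, 2 * e + 1 ≤ 3 ^ e
  | 0 => by norm_num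
  | e + 1 => by have := le_three_pow_half e; rw [pow_succ]; omega

theorem le_three_pow_pred : ∀ m, 3 ≤ m → 2 * m + 1 ≤ 3 ^ (m - 1) := by
  intro m hm
  induction m, hm using Nat.le_induction with
  | base => norm_num
  | succ m hm ih =>
    obtain ⟨k, rfl⟩ : ∃ k, m = k + 1 := ⟨m - 1, by omega⟩
    simp only [Nat.add_sub_cancel] at ih ⊢
    rw [pow_succ]; omega

/-- The exponent read off from the multiset of roots. -/
theorem exponent [DecidableEq K] {p f q m : ℕ} [Fact p.Prime] [CharP K p] (hf : f ≠ 0) (hq : q = p ^ f)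
    (hm : 2 ≤ m) (R : Multiset K) (hcard : R.card ≤ 2 * m + 1) (hcard' : p = 2 ∨ m = 2 → R.card ≤ 2 * m)
    (hRq : ∀ x ∈ R, x ^ q ∈ R) (hRi : ∀ x, R.count x⁻¹ = R.count x) (h0 : (0 : K) ∉ R) :
    ∃ e L : ℕ, 0 < L ∧ (q - 1) * (L * p ^ e) ≤ q ^ (m + 1) ∧ (∀ x ∈ R, R.count x ≤ p ^ e) ∧
      ((∀ x ∈ R, x ^ L = 1) ∨ (m = 2 ∧ ∀ x ∈ R, x ^ L = -1)) := by
  have hp := (Fact.out : p.Prime)
  have hq2 : 2 ≤ q := hq ▸ hp.two_le.trans (Nat.le_self_pow hf p)
  have hpq : ∀ e, p ^ e ≤ q ^ e := fun e => Nat.pow_le_pow_left (hq ▸ Nat.le_self_pow hf p) e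
  have hinj : Function.Injective fun x : K => x ^ q := by
    intro a b h
    simp only [hq] at h
    exact iterateFrobenius_inj K p f (by simpa [iterateFrobenius_def] using h)
  have hneg : (-1 : K) ^ q = -1 := by rw [hq]; exact neg_one_pow_char_pow K p f
  have hp3 : p ≠ 2 → 3 ≤ p := fun h => by have := hp.two_le; omega
  have hqodd : p ≠ 2 → Odd q := fun h => by rw [hq]; exact (hp.odd_of_ne_two h).pow
  have hneg1 : p = 2 → (-1 : K) = 1 := fun h => by
    subst h; exact CharTwo.neg_eq 1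
  set S := R.toFinset.filter (fun x => x ≠ 1 ∧ x ≠ -1) with hSdef
  have hS : Closed q S := by
    refine ⟨fun x hx => ?_, fun x hx => ?_, fun x hx => ?_⟩
    · simp only [hSdef, Finset.mem_filter, Multiset.mem_toFinset] at hx ⊢
      refine ⟨hRq x hx.1, fun e => hx.2.1 (hinj ?_), fun e => hx.2.2 (hinj ?_)⟩
      · simpa using e
      · simpa [hneg] using e
    · simp only [hSdef, Finset.mem_filter, Multiset.mem_toFinset] at hx ⊢
      refine ⟨Multiset.count_pos.1 (by rw [hRi]; exact Multiset.count_pos.2 hx.1), fun e => hx.2.1 ?_,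
        fun e => hx.2.2 ?_⟩
      · simpa using e
      · have := congrArg (·⁻¹) e; simpa [inv_neg] using this
    · simp only [hSdef, Finset.mem_filter, Multiset.mem_toFinset] at hx
      have hx0 : x ≠ 0 := fun e => h0 (e ▸ hx.1)
      refine ⟨hx0, fun e => ?_⟩
      have h2 : x * x = 1 := by nth_rw 1 [← e]; exact inv_mul_cancel₀ hx0
      exact (mul_self_eq_one_iff.1 h2).elim hx.2.1 hx.2.2
  have hRS : ∀ x ∈ R, x ∈ S ∨ x = 1 ∨ x = -1 := fun x hx => by
    simp only [hSdef, Finset.mem_filter, Multiset.mem_toFinset]; tauto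
  have hsum : ∀ T : Finset K, ∑ x ∈ T, R.count x ≤ R.card := fun T => by
    rw [← Multiset.sum_count_eq_card (s := T ∪ R.toFinset)
      (fun x hx => Finset.mem_union_right _ (Multiset.mem_toFinset.2 hx))]
    exact Finset.sum_le_sum_of_subset Finset.subset_union_left
  rcases S.eq_empty_or_nonempty with hSe | hSne
  · have hall : ∀ x ∈ R, x = 1 ∨ x = -1 := fun x hx => (hRS x hx).resolve_left (by simp [hSe])
    have hcnt : ∀ x, R.count x ≤ R.card := fun x => R.count_le_card x
    by_cases hp2 : p = 2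
    · refine ⟨m, 1, one_pos, ?_, fun x _ => ?_, Or.inl fun x hx => ?_⟩
      · rw [one_mul, pow_succ']; exact Nat.mul_le_mul (Nat.sub_le _ _) (hpq m)
      · exact (hcnt x).trans ((hcard' (Or.inl hp2)).trans (hp2 ▸ le_two_pow_half m))
      · rcases hall x hx with rfl | rfl <;> simp [hneg1 hp2]
    have h2 : (q - 1) * (2 * p ^ (m - 1)) ≤ q ^ (m + 1) := by
      rw [show m + 1 = 2 + (m - 1) by omega, pow_add, ← mul_assoc]
      refine Nat.mul_le_mul ?_ (hpq _)
      have : 2 * q ≤ q ^ 2 := by rw [pow_two]; exact Nat.mul_le_mul_right q hq2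
      omega
    have hsq : ∀ x ∈ R, x ^ 2 = 1 := fun x hx => by rcases hall x hx with rfl | rfl <;> simp
    rcases Nat.lt_or_ge m 3 with hm3 | hm3
    · obtain rfl : m = 2 := by omega
      have hc4 := hcard' (Or.inr rfl)
      by_cases hboth : (1 : K) ∈ R ∧ (-1 : K) ∈ R
      · refine ⟨1, 2, two_pos, by simpa using h2, fun x hx => ?_, Or.inl hsq⟩
        have hne : (1 : K) ≠ -1 := fun e => by
          have h20 : ((2 : ℕ) : K) = 0 := by push_cast; linear_combination e
          rw [CharP.cast_eq_zero_iff K p] at h20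
          exact hp2 ((Nat.prime_dvd_prime_iff_eq hp Nat.prime_two).1 h20)
        have h1 := hsum {1, -1}
        rw [Finset.sum_pair hne] at h1
        have := Multiset.count_pos.2 hboth.1
        have := Multiset.count_pos.2 hboth.2
        have := hp3 hp2
        rcases hall x hx with rfl | rfl <;> rw [pow_one] <;> omega
      · refine ⟨2, 1, one_pos, ?_, fun x _ => ?_, ?_⟩
        · rw [one_mul, show q ^ (2 + 1) = q * q ^ 2 from pow_succ' q 2]
          exact Nat.mul_le_mul (Nat.sub_le q 1) (hpq 2)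
        · refine (hcnt x).trans (hc4.trans ?_)
          have := Nat.pow_le_pow_left (hp3 hp2) 2
          omega
        · by_cases h1 : (1 : K) ∈ R
          · refine Or.inl fun x hx => ?_
            rw [pow_one]
            exact (hall x hx).resolve_right fun e => hboth ⟨h1, e ▸ hx⟩
          · refine Or.inr ⟨rfl, fun x hx => ?_⟩
            rw [pow_one]
            exact (hall x hx).resolve_left fun e => h1 (e ▸ hx)
    · refine ⟨m - 1, 2, two_pos, h2, fun x _ => ?_, Or.inl hsq⟩
      exact (hcnt x).trans (hcard.trans ((le_three_pow_pred m hm3).trans (Nat.pow_le_pow_left (hp3 hp2) _)))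
  · obtain ⟨c, L, hc, hL, hxL, hbd, hev⟩ := exists_exponent hq2 hinj S hS
    have hone : ∀ T : Finset K, (∀ x ∈ T, x ∈ R) → T.card ≤ ∑ x ∈ T, R.count x := fun T hT => by
      rw [Finset.card_eq_sum_ones]
      exact Finset.sum_le_sum fun x hx => Multiset.count_pos.2 (hT x hx)
    have hSR : ∀ x ∈ S, x ∈ R := fun x hx => Multiset.mem_toFinset.1 (Finset.mem_filter.1 hx).1
    have hS2 := hone S hSR
    have hScard := hsum S
    have hcm : c ≤ m := by omega
    refine ⟨m - c, L, hL, ?_, fun x hx => ?_, Or.inl fun x hx => ?_⟩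
    · rw [← mul_assoc, show m + 1 = (c + 1) + (m - c) by omega, pow_add]
      exact Nat.mul_le_mul hbd (hpq _)
    · have hstep : m - c + 1 ≤ p ^ (m - c) := Nat.lt_pow_self hp.one_lt
      rcases hRS x hx with hxS | hx1
      · have hxne := (hS.2.2 x hxS).2.symm
        have hsub : ({x, x⁻¹} : Finset K) ⊆ S := by
          intro y hy
          simp only [Finset.mem_insert, Finset.mem_singleton] at hy
          rcases hy with rfl | rfl
          · exact hxS
          · exact hS.2.1 x hxS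
        have h3 := Finset.sum_sdiff (f := fun y => R.count y) hsub
        rw [Finset.sum_pair hxne, hRi] at h3
        have h4 := hone (S \ {x, x⁻¹}) (fun y hy => hSR y (Finset.mem_sdiff.1 hy).1)
        rw [Finset.card_sdiff_of_subset hsub, Finset.card_pair hxne] at h4
        omega
      · have hxS : x ∉ S := fun h => by
          simp only [hSdef, Finset.mem_filter] at h
          exact hx1.elim h.2.1 h.2.2
        have h3 := hsum (insert x S)
        rw [Finset.sum_insert hxS] at h3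
        by_cases hp2 : p = 2
        · have := hcard' (Or.inl hp2)
          have := le_two_pow_half (m - c)
          rw [hp2]
          omega
        · have := (le_three_pow_half (m - c)).trans (Nat.pow_le_pow_left (hp3 hp2) (m - c))
          omega
    · rcases hRS x hx with hxS | rfl | rfl
      · exact hxL x hxS
      · exact one_pow L
      · by_cases hp2 : p = 2
        · rw [hneg1 hp2, one_pow]
        · exact (hev (hqodd hp2) hSne).neg_one_pow

/-! ### Matrices -/

open scoped Matrix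

/-- The order bound for a matrix preserving a non-degenerate bilinear form. -/
theorem order_bound {F : Type*} [Field F] [Fintype F] {ι : Type*} [Fintype ι] [DecidableEq ι]
    {m : ℕ} (hm : 2 ≤ m) (hn : Fintype.card ι ≤ 2 * m + 1)
    (hn' : ringChar F = 2 ∨ m = 2 → Fintype.card ι ≤ 2 * m)
    (M B : Matrix ι ι F) (hB : IsUnit B) (h : Mᵀ * B * M = B) :
    ∃ N : ℕ, 0 < N ∧ (Fintype.card F - 1) * N ≤ Fintype.card F ^ (m + 1) ∧
      (M ^ N = 1 ∨ (m = 2 ∧ M ^ N = -1)) := by
  classical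
  set p := ringChar F with hpdef
  haveI : CharP F p := ringChar.charP F
  haveI : Fact p.Prime := ⟨CharP.char_is_prime F p⟩
  obtain ⟨f, -, hf⟩ := FiniteField.card F p
  let K := AlgebraicClosure F
  let i := algebraMap F K
  haveI : CharP K p := charP_of_injective_algebraMap i.injective p
  have hdB : IsUnit B.det := (Matrix.isUnit_iff_isUnit_det B).1 hB
  have hdM : IsUnit M.det := by
    have := congrArg Matrix.det h
    rw [Matrix.det_mul, Matrix.det_mul] at this
    exact isUnit_of_mul_isUnit_right (this ▸ hdB)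
  have hMu : IsUnit M := (Matrix.isUnit_iff_isUnit_det M).2 hdM
  have hinv : M⁻¹ = B⁻¹ * Mᵀ * B := by
    apply Matrix.inv_eq_left_inv
    rw [mul_assoc, mul_assoc, ← mul_assoc Mᵀ, h, Matrix.nonsing_inv_mul _ hdB]
  have hchar : M⁻¹.charpoly = M.charpoly := by
    rw [hinv]
    obtain ⟨u, rfl⟩ := hB
    rw [Matrix.charpoly_units_conj', Matrix.charpoly_transpose]
  obtain ⟨u, hu, hrev⟩ : ∃ u : F, u ≠ 0 ∧ M.charpoly = C u * M.charpoly.reverse := by
    refine ⟨(-1) ^ Fintype.card ι * Ring.inverse M.det,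
      mul_ne_zero (pow_ne_zero _ (neg_ne_zero.2 one_ne_zero)) hdM.ringInverse.ne_zero, ?_⟩
    conv_lhs => rw [← hchar, Matrix.charpoly_inv M hMu]
    rw [Matrix.reverse_charpoly, map_mul, map_pow, map_neg, map_one]
  set χ := M.charpoly.map i with hχ
  have hmon : M.charpoly.Monic := M.charpoly_monic
  have hsplit : χ.Splits := IsAlgClosed.splits χ
  have hprod : χ = (χ.roots.map fun a => X - C a).prod := hsplit.eq_prod_roots_of_monic (hmon.map i)
  have hcard : χ.roots.card = Fintype.card ι := by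
    rw [← hsplit.natDegree_eq_card_roots, hχ, hmon.natDegree_map, M.charpoly_natDegree_eq_dim]
  have h0 : (0 : K) ∉ χ.roots := by
    intro hz
    have he : χ.IsRoot 0 := (mem_roots (hmon.map i).ne_zero).1 hz
    rw [IsRoot, hχ, eval_map, eval₂_at_zero, map_eq_zero i] at he
    have := M.det_eq_sign_charpoly_coeff
    rw [he, mul_zero] at this
    exact hdM.ne_zero this
  obtain ⟨-, hroots⟩ := SpEightBound.reverse_prod_roots χ.roots h0
  have hmaprev : M.charpoly.reverse.map i = χ.reverse := by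
    rw [reverse, reverse, hχ, natDegree_map_eq_of_injective i.injective, reflect_map]
  have hRi : χ.roots.map (fun x => x⁻¹) = χ.roots := by
    have e : χ = C (i u) * χ.reverse := by
      conv_lhs => rw [hχ, hrev, Polynomial.map_mul, map_C, hmaprev]
    conv_rhs => rw [e]
    rw [roots_C_mul _ (by simpa using hu), ← hroots, ← hprod]
  have hRq : ∀ x ∈ χ.roots, x ^ Fintype.card F ∈ χ.roots := by
    intro x hx
    rw [mem_roots (hmon.map i).ne_zero] at hx ⊢
    simp only [hχ, IsRoot, eval_map] at hx ⊢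
    have h2 : x ^ Fintype.card F = (iterateFrobenius K p (f : ℕ)) x := by
      rw [iterateFrobenius_def, hf]
    have h3 : (iterateFrobenius K p (f : ℕ)).comp i = i := by
      ext a
      rw [RingHom.comp_apply, iterateFrobenius_def, ← map_pow, ← hf, FiniteField.pow_card]
    rw [h2, ← h3, ← hom_eval₂, hx, map_zero]
  obtain ⟨e, L, hL, hbd, hcnt, hroot⟩ := exponent (K := K) (m := m) (f := (f : ℕ)) (by positivity) hf hm
    χ.roots (hcard ▸ hn) (fun h => hcard ▸ hn' h) hRq
    (fun x => by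
      conv_lhs => rw [← hRi]
      exact Multiset.count_map_eq_count' (fun y => y⁻¹) χ.roots inv_injective x) h0
  have key : ∀ c : F, (∀ x ∈ χ.roots, x ^ L = i c) → M ^ (L * p ^ e) = (c ^ p ^ e) • (1 : Matrix ι ι F) := by
    intro c hc
    have hne1 : (X ^ L - C (i c) : K[X]) ≠ 0 := X_pow_sub_C_ne_zero hL _
    have hdvd : χ ∣ (X ^ L - C (i c) : K[X]) ^ p ^ e := by
      refine (hsplit.dvd_iff_roots_le_roots (hmon.map i).ne_zero (pow_ne_zero _ hne1)).2 ?_
      rw [Multiset.le_iff_count]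
      intro x
      by_cases hx : x ∈ χ.roots
      · rw [roots_pow, Multiset.count_nsmul]
        refine (hcnt x hx).trans (Nat.le_mul_of_pos_right _ (Multiset.count_pos.2 ?_))
        rw [mem_roots hne1]
        simp only [IsRoot, eval_sub, eval_pow, eval_X, eval_C]
        exact sub_eq_zero.2 (hc x hx)
      · rw [Multiset.count_eq_zero.2 hx]; exact Nat.zero_le _
    obtain ⟨r, hr⟩ := hdvd
    have hM0 : aeval (M.map i) χ = 0 := by
      rw [hχ, ← Matrix.charpoly_map]
      exact Matrix.aeval_self_charpoly _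
    have hz := congrArg (aeval (M.map i)) hr
    rw [map_mul, hM0, zero_mul, sub_pow_char_pow, ← pow_mul, map_sub, map_pow, aeval_X, ← map_pow,
      aeval_C, sub_eq_zero, Algebra.algebraMap_eq_smul_one] at hz
    apply Matrix.map_injective i.injective
    show i.mapMatrix (M ^ (L * p ^ e)) = i.mapMatrix ((c ^ p ^ e) • (1 : Matrix ι ι F))
    rw [map_pow]
    refine hz.trans ?_
    ext a b
    simp [Matrix.one_apply, apply_ite i]
  refine ⟨L * p ^ e, Nat.mul_pos hL (pow_pos (Fact.out : p.Prime).pos e), hbd, ?_⟩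
  rcases hroot with h1 | ⟨h2, h1⟩
  · left
    rw [key 1 (by simpa using h1), one_pow, one_smul]
  · right
    refine ⟨h2, ?_⟩
    rw [key (-1) (by simpa using h1), neg_one_pow_char_pow F p e, neg_one_smul]

/-- An isometry of a quadratic form preserves the matrix of its polar form. -/
theorem gram_preserved {F : Type*} [Field F] {ι : Type*} [Fintype ι] [DecidableEq ι] (Q : (ι → F) → F)
    (J : Matrix ι ι F) (hJ : ∀ u v, Q (u + v) - Q u - Q v = u ⬝ᵥ (J *ᵥ v)) (A : Matrix ι ι F)
    (hA : ∀ u, Q (A *ᵥ u) = Q u) : Aᵀ * J * A = J := by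
  have key : ∀ u v : ι → F, u ⬝ᵥ ((Aᵀ * J * A) *ᵥ v) = u ⬝ᵥ (J *ᵥ v) := fun u v => by
    rw [← hJ, ← hA (u + v), ← hA u, ← hA v, Matrix.mulVec_add, hJ, ← Matrix.mulVec_mulVec,
      ← Matrix.mulVec_mulVec, Matrix.dotProduct_mulVec u Aᵀ, Matrix.vecMul_transpose]
  ext a b
  simpa using key (Pi.single a 1) (Pi.single b 1)

end Cfsg.Agent.ClassicalOrderBound69
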