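import Mathlib
import Cfsg.Prelude.Def_Local
import Cfsg.Agent.Lib.ComponentsP
import Cfsg.Agent.Lib.ComponentsCores
import Cfsg.Agent.Lib.HallCore
import Cfsg.Agent.Lib.ZStarBasic
import Cfsg.Agent.Lib.ZStarTheorem

/-!
Tools for two involution centralisers taken modulo their odd cores: the map `cls`, lifting of
commuting involutions, and classical components (unique involution equal to the centralised one).
-/

set_option autoImplicit false
set_option linter.style.haveILetI false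

namespace Cfsg.Agent.Cls81

open Subgroup Cfsg
open scoped commutatorElement
open Cfsg.Agent.ComponentsBasic Cfsg.Agent.ComponentsP

universe u

variable {G : Type u} [Group G]

/-! ### Elements of 2-power order -/

/-- An element of 2-power order. -/
def TwoEl {M : Type*} [Monoid M] (x : M) : Prop := ∃ k : ℕ, x ^ 2 ^ k = 1

theorem TwoEl.eq_one {M : Type*} [Monoid M] {x : M} (h : TwoEl x) (ho : Odd (orderOf x)) : x = 1 := by
  obtain ⟨k, hk⟩ := h
  obtain ⟨i, -, hi⟩ := (Nat.dvd_prime_pow Nat.prime_two).1 (orderOf_dvd_of_pow_eq_one hk)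
  rw [hi] at ho
  cases i with
  | zero => rw [← orderOf_eq_one_iff, hi, pow_zero]
  | succ i =>
      rw [pow_succ] at ho
      exact absurd ho (by simp)

theorem TwoEl.one {M : Type*} [Monoid M] : TwoEl (1 : M) := ⟨0, by simp⟩

theorem TwoEl.of_sq {M : Type*} [Monoid M] {x : M} (h : x * x = 1) : TwoEl x :=
  ⟨1, by rw [pow_one, pow_two, h]⟩

theorem TwoEl.pow {M : Type*} [Monoid M] {x : M} (h : TwoEl x) (n : ℕ) : TwoEl (x ^ n) := by
  obtain ⟨k, hk⟩ := h
  exact ⟨k, by rw [← pow_mul, mul_comm, pow_mul, hk, one_pow]⟩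

theorem TwoEl.inv {M : Type*} [Group M] {x : M} (h : TwoEl x) : TwoEl x⁻¹ := by
  obtain ⟨k, hk⟩ := h
  exact ⟨k, by rw [inv_pow, hk, inv_one]⟩

theorem TwoEl.mul {M : Type*} [Monoid M] {x y : M} (hx : TwoEl x) (hy : TwoEl y) (h : Commute x y) :
    TwoEl (x * y) := by
  obtain ⟨k, hk⟩ := hx
  obtain ⟨l, hl⟩ := hy
  refine ⟨k + l, ?_⟩
  rw [h.mul_pow, pow_add, pow_mul, hk, one_pow, one_mul, mul_comm, pow_mul, hl, one_pow]

theorem TwoEl.conj {M : Type*} [Group M] {x : M} (h : TwoEl x) (g : M) : TwoEl (g * x * g⁻¹) := by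
  obtain ⟨k, hk⟩ := h
  exact ⟨k, by rw [conj_pow, hk, mul_one, mul_inv_cancel]⟩

theorem TwoEl.map {M N : Type*} [Monoid M] [Monoid N] (f : M →* N) {x : M} (h : TwoEl x) :
    TwoEl (f x) := by
  obtain ⟨k, hk⟩ := h
  exact ⟨k, by rw [← map_pow, hk, map_one]⟩

theorem odd_pow_modEq {r m : ℕ} (hr : Odd r) : r ^ 2 ^ m ≡ 1 [MOD 2 ^ (m + 1)] := by
  have h := Nat.ModEq.pow_totient
    (Nat.Coprime.pow_right (m + 1) (Nat.coprime_two_right.2 hr))
  rwa [Nat.totient_prime_pow Nat.prime_two (Nat.succ_pos m), show m + 1 - 1 = m by omega,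
    show 2 - 1 = 1 by norm_num, mul_one] at h

/-- An odd exponent making `g` a 2-element and fixing every element of order dividing `2 ^ k`. -/
theorem exists_two_part [Finite G] (g : G) (k : ℕ) :
    ∃ n : ℕ, Odd n ∧ n ≡ 1 [MOD 2 ^ k] ∧ TwoEl (g ^ n) := by
  obtain ⟨a, r, hr, hgr⟩ := Nat.exists_eq_two_pow_mul_odd (orderOf_pos g).ne'
  refine ⟨r ^ 2 ^ k, hr.pow, (odd_pow_modEq hr).of_dvd (by rw [pow_succ]; exact dvd_mul_right _ _),
    a, ?_⟩
  rw [← pow_mul]
  apply orderOf_dvd_iff_pow_eq_one.1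
  rw [hgr, mul_comm]
  exact mul_dvd_mul (dvd_pow_self r (by positivity)) dvd_rfl

theorem pow_eq_self_of_modEq {M : Type*} [Monoid M] {x : M} {k n : ℕ} (hx : x ^ 2 ^ k = 1)
    (hn : n ≡ 1 [MOD 2 ^ k]) : x ^ n = x := by
  rw [← pow_mod_orderOf, (hn.of_dvd (orderOf_dvd_of_pow_eq_one hx)), pow_mod_orderOf, pow_one]

/-- Congruent involutions modulo an odd-order element are conjugate by a power of their product. -/
theorem conj_of_congr {a b : G} (ha : a * a = 1) (hb : b * b = 1) (ho : Odd (orderOf (a * b))) :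
    ∃ o ∈ zpowers (a * b), o * a * o⁻¹ = b := by
  obtain ⟨k, hk⟩ := ho
  refine ⟨(a * b) ^ k, ⟨(k : ℤ), by simp⟩, ?_⟩
  have hai : a⁻¹ = a := inv_eq_of_mul_eq_one_right ha
  have hbi : b⁻¹ = b := inv_eq_of_mul_eq_one_right hb
  have h1 : a * (a * b) * a⁻¹ = (a * b)⁻¹ := by
    rw [mul_inv_rev, hai, hbi, ← mul_assoc, ha, one_mul]
  have h2 : a * ((a * b) ^ k)⁻¹ = (a * b) ^ k * a := by
    rw [← mul_inv_eq_iff_eq_mul, ← inv_pow, ← conj_pow, ← conj_inv, h1, inv_inv]
  have h3 : (a * b) ^ k * ((a * b) ^ k * (a * b)) = 1 := by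
    rw [← pow_succ, ← pow_add, show k + (k + 1) = 2 * k + 1 by ring, ← hk, pow_orderOf_eq_one]
  have h4 : (a * b) ^ k * (a * b) ^ k = (a * b)⁻¹ :=
    eq_inv_of_mul_eq_one_left (by rwa [← mul_assoc] at h3)
  rw [mul_assoc, h2, ← mul_assoc, h4, mul_inv_rev, hai, hbi, mul_assoc, ha, mul_one]

/-- Involutions whose product has order twice odd: conjugate one to commute with the other. -/
theorem commute_of_congr {a b : G} (ha : a * a = 1) (hb : b * b = 1)
    (ho : Odd (orderOf ((a * b) * (a * b)))) :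
    ∃ o ∈ zpowers ((a * b) * (a * b)), Commute a (o * b * o⁻¹) := by
  have hai : a⁻¹ = a := inv_eq_of_mul_eq_one_right ha
  have hbi : b⁻¹ = b := inv_eq_of_mul_eq_one_right hb
  set c := a * b with hc
  obtain ⟨k, hk⟩ := ho
  have hcc : ((c * c) ^ (k * (k + 1)))⁻¹ ∈ zpowers (c * c) :=
    inv_mem (npow_mem_zpowers _ _)
  refine ⟨((c * c) ^ (k * (k + 1)))⁻¹, hcc, ?_⟩
  set m := k * (k + 1) with hm
  have hbc : b * c * b⁻¹ = c⁻¹ := by
    rw [hc, mul_inv_rev, hai, hbi, mul_assoc (b) (a * b) b, mul_assoc a b b, hb, mul_one]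
  have hb4 : b * c ^ (4 * m) * b⁻¹ = (c ^ (4 * m))⁻¹ := by rw [← conj_pow, hbc, inv_pow]
  have h1 : ((c * c) ^ m)⁻¹ * b * (c * c) ^ m = b * c ^ (4 * m) := by
    rw [show c * c = c ^ 2 from (pow_two c).symm, ← pow_mul]
    have h5 : b * c ^ (2 * m) * b⁻¹ = (c ^ (2 * m))⁻¹ := by rw [← conj_pow, hbc, inv_pow]
    rw [← h5, show 4 * m = 2 * m + 2 * m by ring, pow_add]
    group
  rw [inv_inv, h1]
  have hxx : b * c ^ (4 * m) * (b * c ^ (4 * m)) = 1 := by
    rw [hbi] at hb4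
    rw [← mul_assoc, hb4, inv_mul_cancel]
  have hy : (a * (b * c ^ (4 * m))) * (a * (b * c ^ (4 * m))) = 1 := by
    rw [← mul_assoc a b, ← hc, ← pow_succ', ← pow_add,
      show 4 * m + 1 + (4 * m + 1) = 2 * ((2 * k + 1) * (2 * k + 1)) by rw [hm]; ring,
      pow_mul, pow_two, pow_mul, ← hk, pow_orderOf_eq_one, one_pow]
  set x := b * c ^ (4 * m) with hx
  have hxi : x⁻¹ = x := inv_eq_of_mul_eq_one_right hxx
  have := inv_eq_of_mul_eq_one_right hy
  rw [mul_inv_rev, hai, hxi] at this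
  exact this.symm

/-! ### The map to a centraliser modulo its odd core -/

/-- The centraliser of `z`. -/
abbrev Cz (z : G) := ↥(centralizer ({z} : Set G))

/-- The centraliser of `z` modulo its odd core. -/
abbrev Qz (z : G) := Cz z ⧸ pPrimeCore 2 (Cz z)

theorem mem_Cz {z g : G} (h : Commute g z) : g ∈ centralizer ({z} : Set G) :=
  mem_centralizer_singleton_iff.2 h

theorem commute_of_mem_Cz {z : G} (g : Cz z) : Commute (g : G) z :=
  mem_centralizer_singleton_iff.1 g.2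

/-- The image of `g` in `Qz z` (`1` outside the centraliser). -/
noncomputable def cls (z g : G) : Qz z :=
  open Classical in if h : g ∈ centralizer ({z} : Set G) then bar 2 _ ⟨g, h⟩ else 1

theorem cls_coe {z : G} (g : Cz z) : cls z (g : G) = bar 2 _ g := by
  rw [cls, dif_pos g.2]

theorem cls_eq {z g : G} (h : Commute g z) : cls z g = bar 2 _ (⟨g, mem_Cz h⟩ : Cz z) :=
  cls_coe ⟨g, mem_Cz h⟩

theorem cls_mul {z g h : G} (hg : Commute g z) (hh : Commute h z) :
    cls z (g * h) = cls z g * cls z h := by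
  rw [cls_eq (hg.mul_left hh), cls_eq hg, cls_eq hh, ← map_mul]
  rfl

theorem cls_one (z : G) : cls z (1 : G) = 1 := by
  rw [cls_eq (Commute.one_left z)]
  exact map_one _

theorem cls_inv {z g : G} (hg : Commute g z) : cls z g⁻¹ = (cls z g)⁻¹ := by
  rw [cls_eq hg.inv_left, cls_eq hg, ← map_inv]
  rfl

theorem cls_conj {z g h : G} (hg : Commute g z) (hh : Commute h z) :
    cls z (g * h * g⁻¹) = cls z g * cls z h * (cls z g)⁻¹ := by
  rw [cls_mul (hg.mul_left hh) hg.inv_left, cls_mul hg hh, cls_inv hg]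

theorem cls_pow {z g : G} (hg : Commute g z) (n : ℕ) : cls z (g ^ n) = cls z g ^ n := by
  induction n with
  | zero => simp [cls_one]
  | succ n ih => rw [pow_succ, pow_succ, cls_mul (hg.pow_left n) hg, ih]

theorem exists_cls (z : G) (x : Qz z) : ∃ g : G, Commute g z ∧ cls z g = x := by
  obtain ⟨g, rfl⟩ := bar_surjective (p := 2) x
  exact ⟨g, commute_of_mem_Cz g, cls_coe g⟩

theorem zc_comm (z : G) (x : Qz z) : Commute (cls z z) x := by
  obtain ⟨g, hg, rfl⟩ := exists_cls z x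
  show _ * _ = _ * _
  rw [← cls_mul (Commute.refl z) hg, ← cls_mul hg (Commute.refl z), hg.eq]

theorem twoEl_cls {z g : G} (hg : Commute g z) (h : TwoEl g) : TwoEl (cls z g) := by
  obtain ⟨k, hk⟩ := h
  exact ⟨k, by rw [← cls_pow hg, hk, cls_one]⟩

section Finite

variable [Finite G]

theorem odd_of_dvd_odd {a b : ℕ} (h : a ∣ b) (hb : Odd b) : Odd a := hb.of_dvd_nat h

theorem odd_cls {z g : G} (hg : Commute g z) (h : Odd (orderOf g)) : Odd (orderOf (cls z g)) :=
  h.of_dvd_nat (orderOf_dvd_of_pow_eq_one (by rw [← cls_pow hg, pow_orderOf_eq_one, cls_one]))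

theorem odd_of_cls_eq_one {z g : G} (hg : Commute g z) (h : cls z g = 1) : Odd (orderOf g) := by
  rw [cls_eq hg, bar, QuotientGroup.mk'_apply, QuotientGroup.eq_one_iff] at h
  rw [← Subgroup.orderOf_mk g (mem_Cz hg)]
  exact ZStarTheorem.odd_card_pPrimeCore.of_dvd_nat
    ((Subgroup.orderOf_mk _ h).symm.dvd.trans (orderOf_dvd_natCard _))

/-- What dies modulo the core at `w` has odd-order image at `z`. -/
theorem cross {z w g : G} (hz : Commute g z) (hw : Commute g w) (h : cls w g = 1)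
    (h2 : TwoEl (cls z g)) : cls z g = 1 :=
  h2.eq_one (odd_cls hz (odd_of_cls_eq_one hw h))

theorem eq_one_of_cls {z g : G} (hz : Commute g z) (h2 : TwoEl g) (h : cls z g = 1) : g = 1 :=
  h2.eq_one (odd_of_cls_eq_one hz h)

theorem exists_cls_twoEl (z : G) {x : Qz z} (hx : TwoEl x) :
    ∃ g : G, Commute g z ∧ cls z g = x ∧ TwoEl g := by
  obtain ⟨g, hg, rfl⟩ := exists_cls z x
  obtain ⟨k, hk⟩ := hx
  obtain ⟨n, -, hn, h2⟩ := exists_two_part g k
  exact ⟨g ^ n, hg.pow_left n, by rw [cls_pow hg, pow_eq_self_of_modEq hk hn], h2⟩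

/-- Lift of a fixed point of an involution. -/
theorem exists_cls_commute {z b : G} (hb : b * b = 1) (hbz : Commute b z) {x : Qz z}
    (hx : Commute (cls z b) x) :
    ∃ g : G, Commute g z ∧ Commute g b ∧ cls z g = x := by
  obtain ⟨g, hg, rfl⟩ := exists_cls z x
  have hgb : Commute (g⁻¹ * b * g) z := (hg.inv_left.mul_left hbz).mul_left hg
  have h1 : cls z (g⁻¹ * b * g) = cls z b := by
    rw [cls_mul (hg.inv_left.mul_left hbz) hg, cls_mul hg.inv_left hbz, cls_inv hg, mul_assoc,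
      hx.eq, inv_mul_cancel_left]
  have h2 : cls z (b * (g⁻¹ * b * g)) = 1 := by
    rw [cls_mul hbz hgb, h1, ← cls_mul hbz hbz, hb, cls_one]
  have hsq : (g⁻¹ * b * g) * (g⁻¹ * b * g) = 1 := by
    simp only [mul_assoc, mul_inv_cancel_left]
    rw [← mul_assoc b b, hb, one_mul, inv_mul_cancel]
  obtain ⟨o, ho, hob⟩ := conj_of_congr hb hsq (odd_of_cls_eq_one (hbz.mul_left hgb) h2)
  have hoz : Commute o z := by
    obtain ⟨i, rfl⟩ := ho
    exact (hbz.mul_left hgb).zpow_left i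
  refine ⟨g * o, hg.mul_left hoz, ?_, ?_⟩
  · have h3 : g * o * b * (g * o)⁻¹ = b := by
      rw [show g * o * b * (g * o)⁻¹ = g * (o * b * o⁻¹) * g⁻¹ by group, hob]
      group
    exact mul_inv_eq_iff_eq_mul.1 h3
  · rw [cls_mul hg hoz]
    obtain ⟨i, rfl⟩ := ho
    rw [show cls z ((b * (g⁻¹ * b * g)) ^ i) = 1 from ?_, mul_one]
    rw [cls_eq ((hbz.mul_left hgb).zpow_left i)]
    rw [cls_eq (hbz.mul_left hgb)] at h2
    exact (map_zpow _ _ i).trans (by rw [h2, one_zpow])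

end Finite

end Cfsg.Agent.Cls81
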