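import Mathlib
import Cfsg.Agent.Lib.Cls81Basic
import Cfsg.Agent.Lib.LocalBasics

/-!
Classical components: inverters of elements of order four, centres, invariant Sylow 2-subgroups,
an involution centralising a Sylow 2-subgroup, and a conjugate negated by a given element of order 4.
-/

set_option autoImplicit false
set_option linter.style.haveILetI false

namespace Cfsg.Agent.Cls81

open Subgroup Cfsg
open scoped commutatorElement
open Cfsg.Agent.ComponentsBasic Cfsg.Agent.ComponentsP

universe u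

variable {G : Type u} [Group G]

/-! ### Conjugates and components -/

/-- The conjugate `g J g⁻¹`. -/
def cjS {M : Type*} [Group M] (g : M) (J : Subgroup M) : Subgroup M :=
  J.map (MulAut.conj g).toMonoidHom

section Conj

variable {M : Type*} [Group M] {J K : Subgroup M}

theorem mem_cjS {g x : M} : x ∈ cjS g J ↔ g⁻¹ * x * g ∈ J := by
  constructor
  · rintro ⟨y, hy, rfl⟩
    simpa [mul_assoc] using hy
  · exact fun h => ⟨_, h, by simp [mul_assoc]⟩

theorem conj_mem_cjS {g x : M} (h : x ∈ J) : g * x * g⁻¹ ∈ cjS g J :=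
  mem_cjS.2 (by simpa [mul_assoc] using h)

theorem cjS_one : cjS (1 : M) J = J := by
  ext x; simp [mem_cjS]

theorem cjS_mul (g h : M) : cjS (g * h) J = cjS g (cjS h J) := by
  ext x; simp [mem_cjS, mul_assoc]

theorem cjS_eq_iff {g : M} : cjS g J = J ↔ g ∈ normalizer (J : Set M) := by
  rw [mem_normalizer_iff'', SetLike.ext_iff]
  exact forall_congr' fun x => by rw [mem_cjS]; exact Iff.comm

theorem cjS_eq_self {g : M} (h : g ∈ J) : cjS g J = J := cjS_eq_iff.2 (le_normalizer h)

theorem comp_commute (hJ : IsComponent J) (hK : IsComponent K) (hne : J ≠ K) {a b : M}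
    (ha : a ∈ J) (hb : b ∈ K) : Commute a b :=
  (mem_centralizer_iff.1 (commutator_eq_bot_iff_le_centralizer.1
    (components_commute hJ hK hne) ha) b hb).symm

theorem isComponent_cjS (hJ : IsComponent J) (g : M) : IsComponent (cjS g J) :=
  isComponent_conj hJ g

theorem normalizes_of_component (hJ : IsComponent J) (hK : IsComponent K) {g : M} (hg : g ∈ K) :
    cjS g J = J :=
  cjS_eq_iff.2 (component_le_normalizer hK hJ hg)

end Conj

/-! ### 2-groups with a unique involution -/

theorem exists_inverter {S : Type*} [Group S] [Finite S] (hS : IsPGroup 2 S) {z : S}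
    (huniq : ∀ x : S, x * x = 1 → x = 1 ∨ x = z) (hna : ∃ a b : S, ¬ Commute a b) {y : S}
    (hy : y * y = z) (hz : z ≠ 1) : ∃ k : S, k * y * k⁻¹ = y⁻¹ := by
  classical
  haveI : Fact (Nat.Prime 2) := ⟨Nat.prime_two⟩
  have hzz : z * z = 1 := by
    have h0 : orderOf z ≠ 1 := fun h => hz (orderOf_eq_one_iff.1 h)
    obtain ⟨i, hi⟩ := hS z
    obtain ⟨j, -, hj⟩ := (Nat.dvd_prime_pow Nat.prime_two).1 (orderOf_dvd_of_pow_eq_one hi)
    obtain ⟨l, rfl⟩ : ∃ l, j = l + 1 := ⟨j - 1, by
      rcases j with _ | j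
      · simp [hj] at h0
      · omega⟩
    have h1 : (z ^ 2 ^ l) * (z ^ 2 ^ l) = 1 := by
      rw [← pow_add, ← two_mul, ← pow_succ', ← hj, pow_orderOf_eq_one]
    rcases huniq _ h1 with h2 | h2
    · have := orderOf_dvd_of_pow_eq_one h2
      rw [hj, Nat.pow_dvd_pow_iff_le_right (by norm_num)] at this
      omega
    · rw [h2] at h1
      exact h1
  have hzc : ∀ g : S, Commute z g := fun g => by
    rcases huniq (g * z * g⁻¹) (by simp [mul_assoc, ← mul_assoc z z, hzz]) with h | h
    · exact absurd (conj_eq_one_iff.1 h) hz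
    · exact (mul_inv_eq_iff_eq_mul.1 h).symm
  set C := centralizer ({y} : Set S) with hC
  by_cases hCtop : C = ⊤
  · -- a central element of order four is impossible
    exfalso
    have hyc : ∀ g : S, Commute g y := fun g =>
      mem_centralizer_singleton_iff.1 (by rw [← hC, hCtop]; trivial)
    set Z := center S with hZ
    have hne : Nontrivial (S ⧸ Z) := by
      rw [QuotientGroup.nontrivial_iff]
      intro htop
      obtain ⟨a, b, hab⟩ := hna
      have hbZ : b ∈ center S := by rw [← hZ, htop]; trivial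
      exact hab (Subgroup.mem_center_iff.1 hbZ a)
    have hcne : Nontrivial (center (S ⧸ Z)) := (hS.to_quotient Z).center_nontrivial
    obtain ⟨⟨q, hqc⟩, hq⟩ := exists_prime_orderOf_dvd_card' (G := center (S ⧸ Z)) 2 (by
      obtain ⟨n, hn⟩ := ((hS.to_quotient Z).to_subgroup (center (S ⧸ Z))).exists_card_eq
      rcases n with _ | n
      · rw [pow_zero] at hn
        exact absurd (Finite.one_lt_card (α := center (S ⧸ Z))) (by omega)
      · rw [hn]; exact dvd_pow_self 2 (Nat.succ_ne_zero n))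
    obtain ⟨a, rfl⟩ := QuotientGroup.mk'_surjective Z q
    rw [Subgroup.orderOf_mk, orderOf_eq_prime_iff] at hq
    have haZ : a ∉ Z := fun h => hq.2 ((QuotientGroup.eq_one_iff a).2 h)
    have ha2 : a * a ∈ Z := by
      have := hq.1
      rw [pow_two, ← map_mul, QuotientGroup.mk'_apply, QuotientGroup.eq_one_iff] at this
      exact this
    have hac : ∀ g : S, a * g * a⁻¹ * g⁻¹ ∈ Z := fun g => by
      rw [← QuotientGroup.eq_one_iff]
      have := Subgroup.mem_center_iff.1 hqc (QuotientGroup.mk' Z g)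
      simp only [QuotientGroup.mk'_apply] at this
      simp only [QuotientGroup.mk_mul, QuotientGroup.mk_inv]
      rw [← this, mul_inv_cancel_right, mul_inv_cancel]
    obtain ⟨b, hb⟩ : ∃ b, ¬ Commute a b := by
      by_contra h
      exact haZ (Subgroup.mem_center_iff.2 fun g => ((not_not.1 (fun hh => h ⟨g, hh⟩)) : Commute a g).eq.symm)
    set c := a * b * a⁻¹ * b⁻¹ with hcdef
    have hcZ : ∀ g : S, Commute c g := fun g => ((Subgroup.mem_center_iff.1 (hac b)) g).symm
    have hab : a * b * a⁻¹ = c * b := by rw [hcdef, inv_mul_cancel_right]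
    have hcc : c * c = 1 := by
      have h1 : a * a * b * (a * a)⁻¹ = c * (c * b) := by
        rw [show a * a * b * (a * a)⁻¹ = a * (a * b * a⁻¹) * a⁻¹ by group, hab,
          show a * (c * b) * a⁻¹ = a * c * a⁻¹ * (a * b * a⁻¹) by group, ← (hcZ a).eq,
          mul_inv_cancel_right, hab]
      rw [← (Subgroup.mem_center_iff.1 ha2 b), mul_inv_cancel_right, ← mul_assoc] at h1
      exact mul_eq_right.1 h1.symm
    have hcz : c = z := by
      refine (huniq c hcc).resolve_left fun h => hb ?_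
      rw [h, one_mul] at hab
      exact mul_inv_eq_iff_eq_mul.1 hab
    have hb2 : Commute a (b * b) := by
      have : a * (b * b) * a⁻¹ = b * b := by
        rw [show a * (b * b) * a⁻¹ = a * b * a⁻¹ * (a * b * a⁻¹) by group, hab, mul_assoc c b,
          ← mul_assoc b c b, ← (hcZ b).eq, ← mul_assoc, ← mul_assoc, hcc, one_mul]
      exact mul_inv_eq_iff_eq_mul.1 this
    -- the abelian subgroup generated by the centre and `b²`
    set A : Subgroup S := closure ((Z : Set S) ∪ {b * b}) with hA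
    have hcomm : ∀ p ∈ ((Z : Set S) ∪ {b * b}), ∀ q ∈ ((Z : Set S) ∪ {b * b}), p * q = q * p := by
      rintro p (hp | rfl) q (hq | rfl)
      · exact (Subgroup.mem_center_iff.1 hp q).symm
      · exact (Subgroup.mem_center_iff.1 hp _).symm
      · exact Subgroup.mem_center_iff.1 hq _
      · rfl
    letI : CommGroup A := closureCommGroupOfComm hcomm
    have hAa : ∀ p ∈ A, Commute a p ∧ Commute b p := by
      intro p hp
      induction hp using closure_induction with
      | mem p hp =>
          rcases hp with hp | rfl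
          · exact ⟨(Subgroup.mem_center_iff.1 hp a), (Subgroup.mem_center_iff.1 hp b)⟩
          · exact ⟨hb2, (Commute.refl b).mul_right (Commute.refl b)⟩
      | one => exact ⟨Commute.one_right a, Commute.one_right b⟩
      | mul p q _ _ h1 h2 => exact ⟨h1.1.mul_right h2.1, h1.2.mul_right h2.2⟩
      | inv p _ h1 => exact ⟨h1.1.inv_right, h1.2.inv_right⟩
    have hZA : ∀ p ∈ Z, p ∈ A := fun p hp => subset_closure (Or.inl hp)
    have hzA : z ∈ A := hZA z (Subgroup.mem_center_iff.2 fun g => (hzc g).eq.symm)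
    let sq : A →* A := powMonoidHom 2
    have hker : Nat.card sq.ker ≤ 2 := by
      have : (sq.ker : Set A) ⊆ {1, ⟨z, hzA⟩} := by
        intro p hp
        have h1 : (p : S) * (p : S) = 1 := by
          have h2 : p ^ 2 = 1 := hp
          rw [pow_two] at h2
          exact congrArg Subtype.val h2
        rcases huniq _ h1 with h | h
        · exact Or.inl (Subtype.ext h)
        · exact Or.inr (Subtype.ext h)
      calc Nat.card sq.ker = (sq.ker : Set A).ncard := rfl
        _ ≤ ({1, ⟨z, hzA⟩} : Set A).ncard := Set.ncard_le_ncard this (Set.toFinite _)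
        _ ≤ 2 := Set.ncard_insert_le _ _ |>.trans (by simp)
    have hidx : sq.range.index ≤ 2 := by
      have h1 := sq.range.index_mul_card
      have h2 := sq.ker.index_mul_card
      rw [index_ker] at h2
      have h3 : sq.range.index = Nat.card sq.ker := by
        have hpos : 0 < Nat.card sq.range := Nat.card_pos
        have : sq.range.index * Nat.card sq.range = Nat.card sq.ker * Nat.card sq.range := by
          rw [h1, mul_comm, h2]
        exact Nat.eq_of_mul_eq_mul_right hpos this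
      omega
    have hnsq : ∀ x : S, (¬ Commute a x ∨ ¬ Commute b x) → (∀ p ∈ A, Commute x p) → ∀ hx : x * x ∈ A,
        (⟨x * x, hx⟩ : A) ∉ sq.range := by
      rintro x hx' hcx hx ⟨p, hp⟩
      have hp' : (p : S) * (p : S) = x * x := by
        have h0 := congrArg Subtype.val hp
        simp only [sq, powMonoidHom_apply, pow_two] at h0
        exact h0
      have hpx : Commute x (p : S) := hcx p p.2
      have h1 : (x * (p : S)⁻¹) * (x * (p : S)⁻¹) = 1 := by
        rw [hpx.inv_right.symm.mul_mul_mul_comm, ← hp', ← mul_inv_rev, mul_inv_cancel]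
      have h2 : x * (p : S)⁻¹ ∈ A := by
        rcases huniq _ h1 with h | h <;> rw [h]
        · exact one_mem A
        · exact hzA
      have hxA : x ∈ A := by simpa using mul_mem h2 p.2
      rcases hx' with h | h
      · exact h (hAa x hxA).1
      · exact h (hAa x hxA).2
    have ha2A : a * a ∈ A := hZA _ ha2
    have hb2A : b * b ∈ A := subset_closure (Or.inr rfl)
    have hba : b * a = c * (a * b) := by
      have h0 : a * b = c * b * a := mul_inv_eq_iff_eq_mul.1 hab
      rw [h0, ← mul_assoc, ← mul_assoc, hcc, one_mul]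
    have hab2 : a * b * (a * b) = z * (a * a * (b * b)) := by
      rw [← hcz, show a * b * (a * b) = a * (b * a) * b by group, hba, ← mul_assoc, ← (hcZ a).eq]
      group
    have hab2A : a * b * (a * b) ∈ A := hab2 ▸ mul_mem hzA (mul_mem ha2A hb2A)
    have n1 := hnsq a (Or.inr fun h => hb h.symm) (fun p hp => (hAa p hp).1) ha2A
    have n2 := hnsq b (Or.inl hb) (fun p hp => (hAa p hp).2) hb2A
    have n3 := hnsq (a * b) (Or.inl fun h => hb (by
        have h' := (Commute.refl a).inv_right.mul_right h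
        rwa [inv_mul_cancel_left] at h'))
      (fun p hp => (hAa p hp).1.mul_left (hAa p hp).2) hab2A
    have hyA : y ∈ A := hZA y (Subgroup.mem_center_iff.2 fun g => (hyc g).eq)
    have hzsq : (⟨z, hzA⟩ : A) ∈ sq.range := ⟨⟨y, hyA⟩, Subtype.ext (by
      show ((⟨y, hyA⟩ : A) ^ 2 : A).1 = z
      rw [pow_two]; exact hy)⟩
    have hidx2 : sq.range.index = 2 := by
      have h0 : sq.range.index ≠ 0 := Subgroup.index_ne_zero_of_finite
      have h1 : sq.range.index ≠ 1 := fun h => n1 (by rw [index_eq_one] at h; rw [h]; trivial)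
      omega
    refine n3 ?_
    have h4 : (⟨a * b * (a * b), hab2A⟩ : A) = ⟨z, hzA⟩ * (⟨a * a, ha2A⟩ * ⟨b * b, hb2A⟩) :=
      Subtype.ext hab2
    rw [h4]
    exact mul_mem hzsq ((mul_mem_iff_of_index_two hidx2).2 (iff_of_false n1 n2))
  · haveI := hS.isNilpotent
    have hlt := Group.normalizerCondition_of_isNilpotent (G := S) C (lt_top_iff_ne_top.2 hCtop)
    obtain ⟨k, hkN, hkC⟩ := SetLike.exists_of_lt hlt
    refine ⟨k, ?_⟩
    have hyC : y ∈ C := mem_centralizer_singleton_iff.2 rfl
    have hy' : k * y * k⁻¹ ∈ C := (mem_normalizer_iff.1 hkN y).1 hyC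
    have hcomm : Commute (k * y * k⁻¹) y := mem_centralizer_singleton_iff.1 hy'
    have hsq : (k * y * k⁻¹ * y) * (k * y * k⁻¹ * y) = 1 := by
      rw [hcomm.symm.mul_mul_mul_comm, show k * y * k⁻¹ * (k * y * k⁻¹) = k * (y * y) * k⁻¹ by group,
        hy, (hzc k).symm.eq, mul_inv_cancel_right, hzz]
    rcases huniq _ hsq with h | h
    · exact eq_inv_of_mul_eq_one_left h
    · refine absurd ?_ hkC
      rw [← hy] at h
      exact mem_centralizer_singleton_iff.2 (mul_inv_eq_iff_eq_mul.1 (mul_right_cancel h))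

/-! ### Classical components -/

/-- `J` is a component of `Qz z` whose only involution is the image of `z`. -/
structure IsCls (z : G) (J : Subgroup (Qz z)) : Prop where
  sq : z * z = 1
  ne : z ≠ 1
  comp : IsComponent J
  mem : cls z z ∈ J
  uniq : ∀ x ∈ J, x * x = 1 → x = 1 ∨ x = cls z z

variable [Finite G] {z : G} {J K : Subgroup (Qz z)}

namespace IsCls

variable (hJ : IsCls z J)
include hJ

theorem zc_ne : cls z z ≠ 1 := fun h =>
  hJ.ne (eq_one_of_cls (Commute.refl z) (TwoEl.of_sq hJ.sq) h)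

theorem zc_sq : cls z z * cls z z = 1 := by
  rw [← cls_mul (Commute.refl z) (Commute.refl z), hJ.sq, cls_one]

theorem conj (g : Qz z) : IsCls z (cjS g J) := by
  refine ⟨hJ.sq, hJ.ne, isComponent_cjS hJ.comp g, mem_cjS.2 ?_, fun x hx h2 => ?_⟩
  · rw [mul_assoc, (zc_comm z g).eq, inv_mul_cancel_left]
    exact hJ.mem
  · rcases hJ.uniq _ (mem_cjS.1 hx) (by
      rw [show g⁻¹ * x * g * (g⁻¹ * x * g) = g⁻¹ * (x * x) * g by group, h2]; group) with h | h
    · left
      rw [show x = g * (g⁻¹ * x * g) * g⁻¹ by group, h]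
      group
    · right
      rw [show x = g * (g⁻¹ * x * g) * g⁻¹ by group, h, (zc_comm z g).symm.eq, mul_inv_cancel_right]

theorem twoEl_of_four {y : Qz z} (hy : y * y = cls z z) : TwoEl y :=
  ⟨2, by rw [show (2 : ℕ) ^ 2 = 2 + 2 by norm_num, pow_add, pow_two, hy, hJ.zc_sq]⟩

theorem four_ne {y : Qz z} (hy : y * y = cls z z) : y ≠ 1 ∧ y ≠ cls z z := by
  refine ⟨fun h => hJ.zc_ne ?_, fun h => hJ.zc_ne ?_⟩
  · rw [← hy, h, one_mul]
  · rw [← hy, h, hJ.zc_sq]

/-- A Sylow 2-subgroup of a classical component is not commutative. -/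
theorem sylow_nonab (S : Sylow 2 J) : ∃ a b : (S : Subgroup J), ¬ Commute a b := by
  classical
  by_contra hcon
  push_neg at hcon
  haveI : Fact (Nat.Prime 2) := ⟨Nat.prime_two⟩
  haveI : IsMulCommutative (S : Subgroup J) := ⟨⟨hcon⟩⟩
  letI : CommGroup (S : Subgroup J) :=
    { (inferInstance : Group (S : Subgroup J)) with mul_comm := hcon }
  have hperf : ⁅(⊤ : Subgroup J), (⊤ : Subgroup J)⁆ = ⊤ := by
    apply map_injective J.subtype_injective
    rw [map_commutator, ← MonoidHom.range_eq_map, range_subtype]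
    exact IsComponent.perfect hJ.comp
  set zJ : J := ⟨cls z z, hJ.mem⟩
  have hzcen : ∀ g : J, Commute zJ g := fun g => Subtype.ext (zc_comm z g.1).eq
  have hzS : zJ ∈ (S : Subgroup J) := by
    obtain ⟨P, hP⟩ := (IsPGroup.of_card (n := 1) (p := 2) (G := zpowers zJ) (by
      rw [Nat.card_zpowers, pow_one]
      exact orderOf_eq_prime (by rw [pow_two]; exact Subtype.ext hJ.zc_sq)
        (fun h => hJ.zc_ne (congrArg Subtype.val h)))).exists_le_sylow
    obtain ⟨g, rfl⟩ := MulAction.exists_smul_eq J P S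
    rw [Sylow.coe_subgroup_smul, Subgroup.mem_pointwise_smul_iff_inv_smul_mem]
    have : ((MulAut.conj g)⁻¹ • zJ : J) = zJ := by
      rw [← map_inv, MulAut.smul_def, MulAut.conj_apply, inv_inv, ← (hzcen g⁻¹).eq]
      group
    rw [this]
    exact hP (mem_zpowers _)
  have key : ∀ (k : ℕ) (g₀ : J), g₀⁻¹ * zJ ^ k * g₀ ∈ (S : Subgroup J) →
      g₀⁻¹ * zJ ^ k * g₀ = zJ ^ k := fun k g₀ _ => by
    rw [mul_assoc, ((hzcen g₀).pow_left k).eq, inv_mul_cancel_left]
  have h1 := MonoidHom.transfer_eq_pow (MonoidHom.id (S : Subgroup J)) zJ key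
  have h2 : zJ ∈ (MonoidHom.transfer (MonoidHom.id (S : Subgroup J))).ker := by
    have := Abelianization.commutator_subset_ker (MonoidHom.transfer (MonoidHom.id (S : Subgroup J)))
    rw [commutator_def, hperf] at this
    exact this trivial
  rw [MonoidHom.mem_ker, h1, MonoidHom.id_apply] at h2
  have h3 : zJ ^ (S : Subgroup J).index = 1 := congrArg Subtype.val h2
  have h4 : Odd (orderOf zJ) := by
    refine (Nat.odd_iff.2 ?_).of_dvd_nat (orderOf_dvd_of_pow_eq_one h3)
    have := S.not_dvd_index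
    omega
  exact hJ.zc_ne (congrArg Subtype.val ((TwoEl.of_sq (x := zJ) (Subtype.ext hJ.zc_sq)).eq_one h4))

theorem inverter {y : Qz z} (hyJ : y ∈ J) (hy : y * y = cls z z) :
    ∃ k ∈ J, k * y * k⁻¹ = y⁻¹ ∧ TwoEl k := by
  haveI : Fact (Nat.Prime 2) := ⟨Nat.prime_two⟩
  obtain ⟨j, hj⟩ := hJ.twoEl_of_four hy
  have hpg : IsPGroup 2 (zpowers (⟨y, hyJ⟩ : J)) := fun x => by
    obtain ⟨x, i, rfl⟩ := x
    refine ⟨j, Subtype.ext (Subtype.ext ?_)⟩
    simp only [SubgroupClass.coe_pow, OneMemClass.coe_one, SubgroupClass.coe_zpow]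
    rw [← zpow_natCast, ← zpow_mul, mul_comm, zpow_mul, zpow_natCast, hj, one_zpow]
  obtain ⟨S, hS⟩ := hpg.exists_le_sylow
  have hyS : (⟨y, hyJ⟩ : J) ∈ (S : Subgroup J) := hS (mem_zpowers _)
  have hzS : (⟨cls z z, hJ.mem⟩ : J) ∈ (S : Subgroup J) := by
    have : (⟨cls z z, hJ.mem⟩ : J) = ⟨y, hyJ⟩ * ⟨y, hyJ⟩ := Subtype.ext hy.symm
    rw [this]
    exact mul_mem hyS hyS
  obtain ⟨k, hk⟩ := exists_inverter S.isPGroup' (z := ⟨_, hzS⟩) (fun x hx => by
      rcases hJ.uniq x.1.1 x.1.2 (congrArg (fun t : (S : Subgroup J) => t.1.1) hx) with h | h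
      · exact Or.inl (Subtype.ext (Subtype.ext h))
      · exact Or.inr (Subtype.ext (Subtype.ext h)))
    (hJ.sylow_nonab S) (y := ⟨_, hyS⟩) (Subtype.ext (Subtype.ext hy))
    (fun h => hJ.zc_ne (congrArg (fun t : (S : Subgroup J) => t.1.1) h))
  refine ⟨k.1.1, k.1.2, congrArg (fun t : (S : Subgroup J) => t.1.1) hk, ?_⟩
  obtain ⟨i, hi⟩ := S.isPGroup' k
  exact ⟨i, congrArg (fun t : (S : Subgroup J) => t.1.1) hi⟩

theorem center_two {x : Qz z} (hx : x ∈ J) (hc : ∀ b ∈ J, Commute x b) (h2 : TwoEl x) :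
    x = 1 ∨ x = cls z z := by
  obtain ⟨k, hk⟩ := h2
  induction k generalizing x with
  | zero => left; simpa using hk
  | succ k ih =>
      rw [pow_succ', pow_mul, pow_two] at hk
      rcases ih (mul_mem hx hx) (fun b hb => (hc b hb).mul_left (hc b hb)) hk with h | h
      · exact hJ.uniq x hx h
      · obtain ⟨m, hm, hmx, -⟩ := hJ.inverter hx h
        rw [← (hc m hm).eq, mul_inv_cancel_right] at hmx
        refine absurd ?_ hJ.zc_ne
        rw [← h]
        exact eq_inv_iff_mul_eq_one.1 hmx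

theorem four_noncentral {y : Qz z} (hyJ : y ∈ J) (hy : y * y = cls z z) :
    ∃ b ∈ J, ¬ Commute y b := by
  by_contra h
  push_neg at h
  rcases hJ.center_two hyJ h (hJ.twoEl_of_four hy) with h1 | h1
  · exact (hJ.four_ne hy).1 h1
  · exact (hJ.four_ne hy).2 h1

/-- A 2-element common to two different components. -/
theorem two_inter {K : Subgroup (Qz z)} (hK : IsComponent K) (hne : K ≠ J) {x : Qz z}
    (hxJ : x ∈ J) (hxK : x ∈ K) (h2 : TwoEl x) : x = 1 ∨ x = cls z z :=
  hJ.center_two hxJ (fun b hb => comp_commute hK hJ.comp hne hxK hb) h2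

/-- A Sylow 2-subgroup normalised by a given 2-element of the normaliser. -/
theorem exists_sylow {u : Qz z} (hu : u ∈ normalizer (J : Set (Qz z))) (hu2 : TwoEl u) :
    ∃ S : Sylow 2 J, ∀ s ∈ (S : Subgroup J), ∃ t ∈ (S : Subgroup J),
      (t : Qz z) = u * (s : Qz z) * u⁻¹ := by
  haveI : Fact (Nat.Prime 2) := ⟨Nat.prime_two⟩
  set N := normalizer (J : Set (Qz z))
  obtain ⟨j, hj⟩ := hu2
  have hpg : IsPGroup 2 (zpowers (⟨u, hu⟩ : N)) := fun x => by
    obtain ⟨x, i, rfl⟩ := x
    refine ⟨j, Subtype.ext (Subtype.ext ?_)⟩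
    simp only [SubgroupClass.coe_pow, OneMemClass.coe_one, SubgroupClass.coe_zpow]
    rw [← zpow_natCast, ← zpow_mul, mul_comm, zpow_mul, zpow_natCast, hj, one_zpow]
  obtain ⟨T, hT⟩ := hpg.exists_le_sylow
  haveI : (J.subgroupOf N).Normal := normal_subgroupOf_of_le_normalizer le_rfl
  obtain ⟨Q, hQ⟩ := LocalBasics.exists_sylow_inf T (J.subgroupOf N)
  set e := subgroupOfEquivOfLe (le_normalizer (H := J))
  obtain ⟨S, hS⟩ : ∃ S : Sylow 2 J, (S : Subgroup J) = (Q : Subgroup _).map e.toMonoidHom :=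
    ⟨Q.mapSurjective (f := e.toMonoidHom) e.surjective, rfl⟩
  refine ⟨S, fun s hs => ?_⟩
  rw [hS] at hs
  obtain ⟨q, hq, rfl⟩ := hs
  rw [SetLike.mem_coe, hQ, mem_subgroupOf] at hq
  have hq2 : (⟨u, hu⟩ : N) * (q : N) * (⟨u, hu⟩ : N)⁻¹ ∈ (T : Subgroup N) :=
    mul_mem (mul_mem (hT (mem_zpowers _)) hq) (inv_mem (hT (mem_zpowers _)))
  have hq3 : (⟨u, hu⟩ : N) * (q : N) * (⟨u, hu⟩ : N)⁻¹ ∈ J.subgroupOf N :=
    Normal.conj_mem inferInstance _ q.2 _
  refine ⟨e ⟨_, hq3⟩, ?_, rfl⟩
  rw [hS]
  exact ⟨⟨_, hq3⟩, by rw [SetLike.mem_coe, hQ, mem_subgroupOf]; exact hq2, rfl⟩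

/-- An involution centralising a Sylow 2-subgroup of the component centralises the component. -/
theorem fixes_of_sylow {w : Qz z} (hw : w * w = 1) (hwN : w ∈ normalizer (J : Set (Qz z)))
    (S : Sylow 2 J) (hS : ∀ s ∈ (S : Subgroup J), Commute w (s : Qz z)) :
    ∀ j ∈ J, Commute w j := by
  classical
  haveI : Fact (Nat.Prime 2) := ⟨Nat.prime_two⟩
  by_cases hwJ : w ∈ J
  · rcases hJ.uniq w hwJ hw with h | h <;> rw [h]
    · exact fun j _ => Commute.one_left j
    · exact fun j _ => zc_comm z j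
  have hwi : w⁻¹ = w := inv_eq_of_mul_eq_one_right hw
  -- no element of `J` sends `w` to `cls z z * w`
  have hno : ∀ j ∈ J, j * w * j⁻¹ ≠ cls z z * w := by
    intro j hj h
    set T0 : Subgroup J := (centralizer ({w} : Set (Qz z))).subgroupOf J with hT0
    set T : Subgroup J :=
      { carrier := {x : J | (x : Qz z) * w * (x : Qz z)⁻¹ = w ∨
          (x : Qz z) * w * (x : Qz z)⁻¹ = cls z z * w}
        one_mem' := Or.inl (by simp)
        mul_mem' := by
          intro a b ha hb
          have hzz : ∀ v : Qz z, (a : Qz z) * (cls z z * v) * (a : Qz z)⁻¹ =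
              cls z z * ((a : Qz z) * v * (a : Qz z)⁻¹) := fun v => by
            simp only [← mul_assoc, (zc_comm z (a : Qz z)).eq]
          show _ ∨ _
          rw [show ((a * b : J) : Qz z) * w * ((a * b : J) : Qz z)⁻¹ =
            (a : Qz z) * ((b : Qz z) * w * (b : Qz z)⁻¹) * (a : Qz z)⁻¹ by simp [mul_assoc]]
          rcases hb with hb | hb <;> rw [hb]
          · exact ha
          · rw [hzz]
            rcases ha with ha | ha <;> rw [ha]
            · exact Or.inr rfl
            · left; rw [← mul_assoc, hJ.zc_sq, one_mul]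
        inv_mem' := by
          intro a ha
          have hzz : ∀ v : Qz z, (a : Qz z)⁻¹ * (cls z z * v) * (a : Qz z) =
              cls z z * ((a : Qz z)⁻¹ * v * (a : Qz z)) := fun v => by
            simp only [← mul_assoc, (zc_comm z (a : Qz z)⁻¹).eq]
          show _ ∨ _
          simp only [InvMemClass.coe_inv, inv_inv]
          rcases ha with ha | ha
          · left
            conv_lhs => rw [← ha]
            group
          · right
            have h0 : w = (a : Qz z)⁻¹ * (cls z z * w) * (a : Qz z) := by rw [← ha]; group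
            rw [hzz] at h0
            calc (a : Qz z)⁻¹ * w * (a : Qz z)
                = cls z z * (cls z z * ((a : Qz z)⁻¹ * w * (a : Qz z))) := by
                  rw [← mul_assoc (cls z z), hJ.zc_sq, one_mul]
              _ = cls z z * w := by rw [← h0] } with hT
    have hST0 : (S : Subgroup J) ≤ T0 := fun s hs => by
      rw [hT0, mem_subgroupOf]
      exact mem_centralizer_singleton_iff.2 (hS s hs).eq.symm
    have hT0T : T0 ≤ T := fun x hx => by
      left
      exact mul_inv_eq_iff_eq_mul.2 (mem_centralizer_singleton_iff.1 (mem_subgroupOf.1 hx))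
    set j' : T := ⟨⟨j, hj⟩, Or.inr h⟩
    have h2 : (T0.subgroupOf T).index = 2 := by
      rw [index_eq_two_iff]
      refine ⟨j', fun b => ?_⟩
      have hcomm : ∀ x : T, x ∈ T0.subgroupOf T ↔
          ((x : J) : Qz z) * w * ((x : J) : Qz z)⁻¹ = w := fun x => by
        rw [mem_subgroupOf, hT0, mem_subgroupOf, mem_centralizer_singleton_iff,
          mul_inv_eq_iff_eq_mul]
      have hne : cls z z * w ≠ w := fun h0 => hJ.zc_ne (mul_eq_right.1 h0)
      rw [hcomm, hcomm]
      show _ ∨ _
      rcases b.2 with hb | hb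
      · refine Or.inr ⟨hb, ?_⟩
        show ¬ ((b : J) : Qz z) * j * w * (((b : J) : Qz z) * j)⁻¹ = w
        rw [show ((b : J) : Qz z) * j * w * (((b : J) : Qz z) * j)⁻¹ =
          ((b : J) : Qz z) * (j * w * j⁻¹) * ((b : J) : Qz z)⁻¹ by group, h, ← mul_assoc,
          ← (zc_comm z _).eq, mul_assoc (cls z z), mul_assoc (cls z z), hb]
        exact hne
      · refine Or.inl ⟨?_, fun h0 => hne (hb.symm.trans h0)⟩
        show ((b : J) : Qz z) * j * w * (((b : J) : Qz z) * j)⁻¹ = w
        rw [show ((b : J) : Qz z) * j * w * (((b : J) : Qz z) * j)⁻¹ =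
          ((b : J) : Qz z) * (j * w * j⁻¹) * ((b : J) : Qz z)⁻¹ by group, h, ← mul_assoc,
          ← (zc_comm z _).eq, mul_assoc (cls z z), mul_assoc (cls z z), hb, ← mul_assoc,
          hJ.zc_sq, one_mul]
    have h3 : T0.relIndex T ∣ (S : Subgroup J).index :=
      (Dvd.intro _ (relIndex_mul_index hT0T)).trans (index_dvd_of_le hST0)
    rw [relIndex, h2] at h3
    exact S.not_dvd_index h3
  set H : Subgroup (Qz z) :=
    { carrier := {x | x ∈ J ∨ x * w ∈ J}
      one_mem' := Or.inl (one_mem J)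
      mul_mem' := by
        intro a b ha hb
        have hc : ∀ x ∈ J, w * x * w⁻¹ ∈ J := fun x hx => (mem_normalizer_iff.1 hwN x).1 hx
        rcases ha with ha | ha <;> rcases hb with hb | hb
        · exact Or.inl (mul_mem ha hb)
        · right; rw [mul_assoc]; exact mul_mem ha hb
        · right
          have : a * b * w = a * w * (w * b * w⁻¹) := by
            simp only [hwi, ← mul_assoc, mul_assoc a w w, hw, mul_one]
          rw [this]
          exact mul_mem ha (hc b hb)
        · left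
          have : a * b = a * w * (w * (b * w) * w⁻¹) := by
            simp only [← mul_assoc, mul_assoc a w w, hw, mul_one, mul_inv_cancel_right]
          rw [this]
          exact mul_mem ha (hc _ hb)
      inv_mem' := by
        intro a ha
        rcases ha with ha | ha
        · exact Or.inl (inv_mem ha)
        · right
          have : a⁻¹ * w = w * (a * w)⁻¹ * w⁻¹ := by
            rw [mul_inv_rev, hwi, ← mul_assoc, hw, one_mul]
          rw [this]
          exact (mem_normalizer_iff.1 hwN _).1 (inv_mem ha) } with hH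
  have hwH : w ∈ H := Or.inr (by rw [hw]; exact one_mem J)
  have hJH : J ≤ H := fun x hx => Or.inl hx
  set wH : H := ⟨w, hwH⟩
  have horder : orderOf wH = 2 := by
    refine orderOf_eq_prime (by rw [pow_two]; exact Subtype.ext hw) fun h => hwJ ?_
    rw [show w = 1 from congrArg Subtype.val h]
    exact one_mem J
  have hiso : Cfsg.IsIsolatedInvolution wH := by
    refine ⟨horder, ?_⟩
    rintro ⟨g, hg⟩ hcm
    have hcm' : Commute w (g * w * g⁻¹) := congrArg Subtype.val hcm
    obtain ⟨j, hj, hjg⟩ : ∃ j ∈ J, j * w * j⁻¹ = g * w * g⁻¹ := by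
      rcases hg with hg | hg
      · exact ⟨g, hg, rfl⟩
      · exact ⟨g * w, hg, by simp [mul_assoc]⟩
    apply Subtype.ext
    show g * w * g⁻¹ = w
    rw [← hjg] at hcm' ⊢
    have hc2 : (j * w * j⁻¹ * w) * (j * w * j⁻¹ * w) = 1 := by
      rw [hcm'.mul_mul_mul_comm, hw, show j * w * j⁻¹ * (j * w * j⁻¹) = j * (w * w) * j⁻¹ by group,
        hw]
      group
    have hcJ : j * w * j⁻¹ * w ∈ J := by
      rw [mul_assoc (j * w), mul_assoc j]
      refine mul_mem hj ?_
      have := (mem_normalizer_iff.1 hwN j⁻¹).1 (inv_mem hj)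
      rwa [hwi, mul_assoc] at this
    rcases hJ.uniq _ hcJ hc2 with h | h
    · exact (eq_inv_of_mul_eq_one_left h).trans hwi
    · refine absurd ?_ (hno j hj)
      rw [← h, mul_assoc _ w w, hw, mul_one]
  obtain ⟨N, hNn, hNo, hN⟩ := ZStarTheorem.exists_odd_normal hiso
  intro j hj
  have h1 := hN ⟨j, hJH hj⟩
  set M : Subgroup (Qz z) := N.map H.subtype ⊓ J with hM
  have hmem : w * j * w⁻¹ * j⁻¹ ∈ M :=
    ⟨⟨_, h1, rfl⟩, J.mul_mem ((mem_normalizer_iff.1 hwN j).1 hj) (J.inv_mem hj)⟩
  have hMbot : M = ⊥ := by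
    have hsub : M.IsSubnormal := by
      refine isSubnormal_of_le_normalizer inf_le_right hJ.comp.1 ?_
      intro x hx
      rw [mem_normalizer_iff]
      intro y
      have hstep : ∀ x ∈ J, ∀ y ∈ M, x * y * x⁻¹ ∈ M := by
        rintro x hx y ⟨⟨n, hn, rfl⟩, hyJ⟩
        exact ⟨⟨⟨x, hJH hx⟩ * n * (⟨x, hJH hx⟩ : H)⁻¹, hNn.conj_mem n hn _, rfl⟩,
          J.mul_mem (J.mul_mem hx hyJ) (J.inv_mem hx)⟩
      refine ⟨hstep x hx y, fun hy => ?_⟩
      have := hstep x⁻¹ (inv_mem hx) _ hy
      simpa [mul_assoc] using this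
    have hcop : (Nat.card M).Coprime 2 := by
      refine Nat.coprime_two_right.2 (Odd.of_dvd_nat hNo ?_)
      refine (card_dvd_of_le inf_le_left).trans ?_
      exact (Nat.card_congr (N.equivMapOfInjective _ H.subtype_injective).toEquiv).symm.dvd
    exact le_bot_iff.1 ((ComponentsCores.subnormal_coprime_le_pPrimeCore hsub hcop).trans
      (HallCore.pPrimeCore_quotient_self 2 _).le)
  rw [hMbot, mem_bot, mul_inv_eq_one] at hmem
  exact mul_inv_eq_iff_eq_mul.1 hmem

/-- A conjugate of an element of order four negated by it. -/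
theorem exists_negated_conj {e : Qz z} (heJ : e ∈ J) (he : e * e = cls z z) :
    ∃ r ∈ J, e * (r * e * r⁻¹) * e⁻¹ = r * e * r⁻¹ * cls z z := by
  classical
  haveI : Fact (Nat.Prime 2) := ⟨Nat.prime_two⟩
  by_contra hcon
  push_neg at hcon
  set Z := center J with hZ
  haveI hs : IsSimpleGroup (J ⧸ Z) := hJ.comp.2.2
  set eJ : J := ⟨e, heJ⟩
  set π := QuotientGroup.mk' Z
  have hzcen : (⟨cls z z, hJ.mem⟩ : J) ∈ Z :=
    Subgroup.mem_center_iff.2 fun g => Subtype.ext (zc_comm z g.1).eq.symm
  have hecen : eJ ∉ Z := fun h => by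
    obtain ⟨b, hb, hbc⟩ := hJ.four_noncentral heJ he
    exact hbc (congrArg Subtype.val (Subgroup.mem_center_iff.1 h ⟨b, hb⟩)).symm
  have hord : orderOf (π eJ) = 2 := by
    refine orderOf_eq_prime ?_ fun h => hecen ((QuotientGroup.eq_one_iff _).1 h)
    rw [pow_two, ← map_mul, show eJ * eJ = ⟨cls z z, hJ.mem⟩ from Subtype.ext he]
    exact (QuotientGroup.eq_one_iff _).2 hzcen
  have hiso : Cfsg.IsIsolatedInvolution (π eJ) := by
    refine ⟨hord, fun g hg => ?_⟩
    obtain ⟨⟨r, hr⟩, rfl⟩ := QuotientGroup.mk'_surjective Z g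
    set x := r * e * r⁻¹ with hx
    have hxJ : x ∈ J := mul_mem (mul_mem hr heJ) (inv_mem hr)
    have hxx : x * x = cls z z := by
      rw [hx, show r * e * r⁻¹ * (r * e * r⁻¹) = r * (e * e) * r⁻¹ by group, he,
        ← (zc_comm z r).eq, mul_inv_cancel_right]
    have hc : e * x * e⁻¹ * x⁻¹ ∈ J ∧ ∀ b ∈ J, Commute (e * x * e⁻¹ * x⁻¹) b := by
      have hmem : eJ * (⟨x, hxJ⟩ : J) * eJ⁻¹ * (⟨x, hxJ⟩ : J)⁻¹ ∈ Z := by
        rw [← QuotientGroup.eq_one_iff (N := Z)]
        show π _ = 1
        have hpx : π ⟨x, hxJ⟩ = π ⟨r, hr⟩ * π eJ * (π ⟨r, hr⟩)⁻¹ := by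
          rw [← map_mul, ← map_inv, ← map_mul]; rfl
        have hg' : π eJ * (π ⟨r, hr⟩ * π eJ * (π ⟨r, hr⟩)⁻¹) =
            (π ⟨r, hr⟩ * π eJ * (π ⟨r, hr⟩)⁻¹) * π eJ := hg.eq
        rw [map_mul, map_mul, map_mul, map_inv, map_inv, hpx, hg', mul_inv_cancel_right,
          mul_inv_cancel]
      exact ⟨mul_mem (mul_mem (mul_mem heJ hxJ) (inv_mem heJ)) (inv_mem hxJ),
        fun b hb => (congrArg Subtype.val (Subgroup.mem_center_iff.1 hmem ⟨b, hb⟩)).symm⟩
    set c := e * x * e⁻¹ * x⁻¹ with hcdef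
    have hex : e * x * e⁻¹ = c * x := by rw [hcdef, inv_mul_cancel_right]
    have hcc : c * c = 1 := by
      have h1 : c * c * (x * x) = x * x := by
        calc c * c * (x * x) = c * x * (c * x) := ((hc.2 x hxJ).symm.mul_mul_mul_comm c x).symm
          _ = e * (x * x) * e⁻¹ := by rw [← hex]; group
          _ = x * x := by rw [hxx, ← (zc_comm z e).eq, mul_inv_cancel_right]
      exact mul_eq_right.1 h1
    rcases hJ.uniq c hc.1 hcc with h | h
    · -- commuting conjugates of order four have the same image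
      rw [h, one_mul] at hex
      have hcm : Commute e x := mul_inv_eq_iff_eq_mul.1 hex
      have hsq : (x * e⁻¹) * (x * e⁻¹) = 1 := by
        rw [hcm.inv_left.mul_mul_mul_comm, hxx, ← he]
        group
      have hmem : x * e⁻¹ ∈ Z.map J.subtype := by
        rcases hJ.uniq _ (mul_mem hxJ (inv_mem heJ)) hsq with h' | h' <;> rw [h']
        · exact one_mem _
        · exact ⟨_, hzcen, rfl⟩
      obtain ⟨c', hc', hcx⟩ := hmem
      have : π ⟨r, hr⟩ * π eJ * (π ⟨r, hr⟩)⁻¹ = π c' * π eJ := by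
        rw [← map_inv, ← map_mul, ← map_mul, ← map_mul]
        congr 1
        apply Subtype.ext
        show r * e * r⁻¹ = (c' : Qz z) * e
        rw [show (c' : Qz z) = x * e⁻¹ from hcx, inv_mul_cancel_right, hx]
      rw [this, show π c' = 1 from (QuotientGroup.eq_one_iff c').2 hc', one_mul]
    · refine absurd ?_ (hcon r hr)
      rw [← hx, hex, h, (zc_comm z x).eq]
  obtain ⟨N, hNn, hNo, hN⟩ := ZStarTheorem.exists_odd_normal hiso
  rcases hNn.eq_bot_or_eq_top with h | h
  · apply hecen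
    have h1 : ∀ g, π eJ * g * (π eJ)⁻¹ * g⁻¹ = 1 := fun g => by
      have := hN g
      rwa [h, mem_bot] at this
    have hcen : π eJ ∈ center (J ⧸ Z) := Subgroup.mem_center_iff.2 fun g =>
      (mul_inv_eq_iff_eq_mul.1 (mul_inv_eq_one.1 (h1 g))).symm
    rcases (center (J ⧸ Z)).normal_of_characteristic.eq_bot_or_eq_top with h2 | h2
    · rw [h2, mem_bot] at hcen
      exact (QuotientGroup.eq_one_iff _).1 hcen
    · exact absurd (IsMulCommutative.mk ⟨fun a b =>
        Subgroup.mem_center_iff.1 (h2 ▸ mem_top b) a⟩) (quotient_center_not_commutative hJ.comp.2)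
  · rw [h, card_top] at hNo
    have := (orderOf_dvd_natCard (π eJ))
    rw [hord] at this
    exact (Nat.not_even_iff_odd.2 hNo) (even_iff_two_dvd.2 this)

end IsCls

end Cfsg.Agent.Cls81
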