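import Mathlib
import Cfsg.Prelude.Def_Local
import Cfsg.Agent.Lib.ComponentsBalance
import Cfsg.Agent.Lib.CoprimeAction
import Cfsg.Agent.Lib.L2BalanceAut

/-!
`L_{2'}`-balance, without any hypothesis on outer automorphism groups, from the Z*-theorem.
-/

set_option autoImplicit false
set_option linter.style.haveILetI false

namespace Cfsg.Agent.L2Balance

open Subgroup Cfsg
open scoped commutatorElement Pointwise
open Cfsg.Agent.ComponentsBasic Cfsg.Agent.ComponentsCores Cfsg.Agent.ComponentsFitting
open Cfsg.Agent.ComponentsP Cfsg.Agent.ComponentsPMap Cfsg.Agent.L2BalanceAut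

universe u

variable {X : Type u} [Group X]

theorem normalizer_le_normalizer_centralizer (A : Subgroup X) :
    normalizer (A : Set X) ≤ normalizer ((centralizer (A : Set X) : Subgroup X) : Set X) := by
  intro m hm
  rw [mem_normalizer_iff]
  intro y
  simp only [mem_centralizer_iff, SetLike.mem_coe]
  constructor
  · intro hy w hw
    have h3 := hy (m⁻¹ * w * m) ((mem_normalizer_iff''.mp hm w).mp hw)
    simpa [mul_assoc] using congrArg (fun t => m * t * m⁻¹) h3
  · intro hy w hw
    have h3 := hy (m * w * m⁻¹) ((mem_normalizer_iff.mp hm w).mp hw)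
    simpa [mul_assoc] using congrArg (fun t => m⁻¹ * t * m) h3

theorem perfect_le_centralizer [Finite X] (hZ : ZStarProp.{u}) {N : Subgroup X} [N.Normal]
    (hN : pPrimeCore 2 ↥N = ⊥) (S : Sylow 2 N) {K : Subgroup X} (hperf : ⁅K, K⁆ = K)
    (hgen : pGen 2 K = K) (hKS : K ≤ centralizer (((S : Subgroup N).map N.subtype) : Set X)) :
    K ≤ centralizer (N : Set X) := by
  set φ : K →* MulAut N := (MulAut.conjNormal (H := N)).comp K.subtype
  have hM : ⁅(⊤ : Subgroup K), (⊤ : Subgroup K)⁆ = ⊤ := by
    apply map_injective K.subtype_injective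
    rw [map_commutator, ← MonoidHom.range_eq_map, range_subtype, hperf]
  have hfix : ∀ m, ∀ s ∈ (S : Subgroup N), φ m s = s := by
    intro m s hs
    apply Subtype.ext
    show (m : X) * (s : X) * (m : X)⁻¹ = s
    rw [← mem_centralizer_iff.mp (hKS m.2) (s : X) ⟨s, hs, rfl⟩, mul_inv_cancel_right]
  have hO : ∀ M : Subgroup N, M.Normal → Odd (Nat.card M) → M = ⊥ := by
    intro M hM' hodd
    haveI := hM'
    exact le_bot_iff.mp (hN ▸ le_pPrimeCore' (Nat.coprime_two_right.mpr hodd))
  rw [← hgen]
  refine (closure_le _).mpr ?_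
  rintro x ⟨hx, k, hk⟩
  have h1 : φ ⟨x, hx⟩ = 1 := two_element_eq_one hZ hO φ hM S hfix k ⟨x, hx⟩
    (Subtype.ext (by simpa [hk] using pow_orderOf_eq_one x))
  rw [SetLike.mem_coe, mem_centralizer_iff]
  intro n hn
  have h2 := congrArg (fun f : MulAut N => ((f ⟨n, hn⟩ : N) : X)) h1
  simp only [φ, MulAut.one_apply] at h2
  have h3 : x * n * x⁻¹ = n := h2
  rw [mul_inv_eq_iff_eq_mul] at h3
  exact h3.symm

/-- A 2-group either grows by a 2-subgroup of `N` normalising it, or contains a Sylow 2-subgroup
of `N`. -/
theorem exists_growth [Finite X] {N : Subgroup X} [N.Normal] {U : Subgroup X}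
    (hU : IsPGroup 2 U) :
    (∃ W : Subgroup X, IsPGroup 2 W ∧ W ≤ N ∧ W ≤ normalizer (U : Set X) ∧ ¬ W ≤ U) ∨
      ∃ S : Sylow 2 N, (S : Subgroup N).map N.subtype ≤ U := by
  set Y := N ⊔ U
  obtain ⟨P, hP⟩ := (hU.comap_subtype (K := Y)).exists_le_sylow
  have hPX : IsPGroup 2 ((P : Subgroup Y).map Y.subtype) := P.isPGroup'.map _
  have hUP : U ≤ (P : Subgroup Y).map Y.subtype :=
    fun u hu => ⟨⟨u, mem_sup_right hu⟩, hP (mem_subgroupOf.mpr hu), rfl⟩
  rcases hUP.lt_or_eq with hlt | heq
  · left
    obtain ⟨x, hx, hxU⟩ := Set.not_subset.mp (fun h : (((P : Subgroup Y).map Y.subtype ⊓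
        normalizer (U : Set X) : Subgroup X) : Set X) ⊆ U => by
      have h1 := TransferAlperin.card_lt_card_inf_normalizer hPX hlt
      have h2 := card_le_of_le (H := (P : Subgroup Y).map Y.subtype ⊓ normalizer (U : Set X))
        (K := U) h
      omega)
    obtain ⟨hxP, hxN⟩ := mem_inf.mp hx
    have hxY : x ∈ Y := map_subtype_le _ hxP
    have hxY' : x ∈ ((N : Set X) * (U : Set X)) := by
      rw [← normal_mul]; exact hxY
    obtain ⟨n, hn, v, hv, rfl⟩ := Set.mem_mul.mp hxY'
    refine ⟨zpowers n, ?_, zpowers_le.mpr hn, zpowers_le.mpr ?_, ?_⟩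
    · refine hPX.to_le (zpowers_le.mpr ?_)
      have := mul_mem hxP (inv_mem (hUP hv))
      rwa [mul_inv_cancel_right] at this
    · have := mul_mem hxN (inv_mem (le_normalizer hv : v ∈ normalizer (U : Set X)))
      rwa [mul_inv_cancel_right] at this
    · intro h
      exact hxU (mul_mem (h (mem_zpowers n)) hv)
  · right
    have hNY : N ≤ Y := le_sup_left
    obtain ⟨S⟩ := Sylow.nonempty (p := 2) (G := N)
    obtain ⟨Q, hQ⟩ := ((S.isPGroup'.map N.subtype).comap_subtype (K := Y)).exists_le_sylow
    obtain ⟨y, hy⟩ := MulAction.exists_smul_eq Y Q P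
    haveI : Fintype N := Fintype.ofFinite N
    refine ⟨(MulAut.conjNormal (H := N) (y : X)) • S, ?_⟩
    rintro _ ⟨_, ⟨s, hs, rfl⟩, rfl⟩
    rw [heq, ← hy, Sylow.coe_subgroup_smul]
    exact ⟨y * ⟨(s : X), hNY s.2⟩ * y⁻¹,
      ⟨⟨(s : X), hNY s.2⟩, hQ (mem_subgroupOf.mpr ⟨s, hs, rfl⟩), rfl⟩, rfl⟩

/-- The heart: 2-components of 2-locals lie in the generalized Fitting subgroup. -/
theorem pComponent_le_gen [Finite X] (hZ : ZStarProp.{u}) (hcore : pPrimeCore 2 X = ⊥)
    (U : Subgroup X) (hU : IsPGroup 2 U) (K : Subgroup X) (hKU : K ≤ normalizer (U : Set X))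
    (hK : IsPComponent 2 (K.subgroupOf (normalizer (U : Set X)))) :
    K ≤ generalizedFittingSubgroup X := by
  induction hk : Nat.card X - Nat.card U using Nat.strong_induction_on generalizing U K with
  | _ k ih =>
    set N := generalizedFittingSubgroup X
    haveI hNn : N.Normal := by
      haveI : (layer X).Normal := inferInstance
      show (layer X ⊔ fittingSubgroup X).Normal
      infer_instance
    set H := normalizer (U : Set X)
    set O := (pPrimeCore 2 H).map H.subtype
    set K' := K.subgroupOf H
    have hKmap : K'.map H.subtype = K := map_subgroupOf_eq_of_le hKU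
    have hperf : ⁅K, K⁆ = K := by
      have h := congrArg (map H.subtype) (isPComponent_perfect hK)
      rwa [map_commutator, hKmap] at h
    have hgenK : pGen 2 K = K := by
      rw [← hKmap, ← map_pGen, pGen_pComponent hK]
    have hKC : K ≤ centralizer (U : Set X) := by
      have h := pComponent_commute_pGroup hK (T := U.subgroupOf H)
        (hU.of_equiv (subgroupOfEquivOfLe le_normalizer).symm)
      have h' := congrArg (map H.subtype) h
      rw [map_commutator, hKmap, map_subgroupOf_eq_of_le le_normalizer, Subgroup.map_bot,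
        commutator_eq_bot_iff_le_centralizer] at h'
      exact h'
    rcases exists_growth (N := N) hU with ⟨W, hW, hWN, hWU, hWnot⟩ | ⟨S, hS⟩
    swap
    · -- `U` contains a Sylow subgroup of `N`
      have hNc : pPrimeCore 2 ↥N = ⊥ := by
        apply map_injective N.subtype_injective
        rw [Subgroup.map_bot]
        exact le_bot_iff.mp (hcore ▸ pPrimeCore_map_subtype_le hNn.isSubnormal)
      exact (perfect_le_centralizer hZ hNc S hperf hgenK
        (hKC.trans (centralizer_le hS))).trans centralizer_gen_le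
    by_contra hKN
    -- `K` commutes with `N` modulo the core of `H`
    have hcomm : ⁅K', N.subgroupOf H⁆ ≤ pPrimeCore 2 H := by
      refine (pComponent_le_or_commutator_le hK (Normal.isSubnormal inferInstance)).resolve_left
        fun h => hKN ?_
      rw [← hKmap]
      exact (map_mono h).trans (map_comap_le _ _)
    set U' := U ⊔ W
    have hU' : IsPGroup 2 U' := hU.to_sup_of_normal_left' hW hWU
    have hU'H : U' ≤ H := sup_le le_normalizer hWU
    have hOn : H ≤ normalizer (O : Set X) :=
      le_normalizer.trans (normalizer_le_normalizer_map_subtype H _)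
    have hOodd : (Nat.card U').Coprime (Nat.card O) := by
      obtain ⟨j, hj⟩ := IsPGroup.iff_card.mp hU'
      rw [hj, Nat.card_congr ((pPrimeCore 2 H).equivMapOfInjective _ H.subtype_injective).toEquiv.symm]
      exact Nat.Coprime.pow_left j (pPrimeCore_coprime 2).symm
    -- every coset `bO` contains an element centralizing `U'`
    set BO := K ⊔ O
    set M := centralizer (U' : Set X) ⊓ BO
    have hcover : K ≤ M ⊔ O := by
      intro b hb
      have hb' : ∀ x ∈ U', b⁻¹ * x * b * x⁻¹ ∈ O := by
        have hle : U' ≤ Subgroup.map H.subtype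
            ((centralizer ({(QuotientGroup.mk' (pPrimeCore 2 H) ⟨b, hKU hb⟩)} : Set _)).comap
              (QuotientGroup.mk' (pPrimeCore 2 H))) := by
          refine sup_le ?_ ?_
          · intro u hu
            refine ⟨⟨u, le_normalizer hu⟩, mem_centralizer_singleton_iff.mpr ?_, rfl⟩
            rw [← map_mul, ← map_mul]
            congr 1
            exact Subtype.ext (mem_centralizer_iff.mp (hKC hb) u hu)
          · intro w hw
            refine ⟨⟨w, hWU hw⟩, mem_centralizer_singleton_iff.mpr ?_, rfl⟩
            have h1 := hcomm (commutator_mem_commutator (mem_subgroupOf.mpr hb :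
              (⟨b, hKU hb⟩ : H) ∈ K') (mem_subgroupOf.mpr (hWN hw) : (⟨w, hWU hw⟩ : H) ∈ N.subgroupOf H))
            rw [← QuotientGroup.eq_one_iff, ← QuotientGroup.mk'_apply, map_commutatorElement,
              commutatorElement_eq_one_iff_mul_comm] at h1
            exact h1.symm
        intro x hx
        obtain ⟨⟨x', hx'H⟩, hx', rfl⟩ := hle hx
        have h1 := mem_centralizer_singleton_iff.mp hx'
        refine ⟨(⟨b, hKU hb⟩ : H)⁻¹ * ⟨x', hx'H⟩ * ⟨b, hKU hb⟩ * (⟨x', hx'H⟩ : H)⁻¹, ?_, by simp⟩
        rw [SetLike.mem_coe, ← QuotientGroup.eq_one_iff, ← QuotientGroup.mk'_apply, map_mul,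
          map_mul, map_mul, map_inv, map_inv, mul_assoc (QuotientGroup.mk' (pPrimeCore 2 H) _)⁻¹,
          h1, inv_mul_cancel_left, mul_inv_cancel]
      obtain ⟨c, hc, hcd⟩ := CoprimeAction.exists_fixed_mem_coset (hU'H.trans hOn) hOodd
        (Or.inl (CoprimeAction.isSolvable_of_isPGroup hU')) b hb'
      have hcBO : c ∈ BO := by
        have := mul_mem (mem_sup_left hb : b ∈ BO) (mem_sup_right hcd : b⁻¹ * c ∈ BO)
        rwa [mul_inv_cancel_left] at this
      have := mul_mem (mem_sup_left (mem_inf.mpr ⟨hc, hcBO⟩) : c ∈ M ⊔ O)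
        (mem_sup_right (inv_mem hcd) : (b⁻¹ * c)⁻¹ ∈ M ⊔ O)
      rwa [mul_inv_rev, inv_inv, mul_inv_cancel_left] at this
    set H' := normalizer (U' : Set X)
    have hCH : centralizer (U' : Set X) ≤ H :=
      (centralizer_le (le_sup_left : U ≤ U')).trans (centralizer_le_normalizer _)
    have hMH : M ≤ H := inf_le_left.trans hCH
    have hMH' : M ≤ H' := inf_le_left.trans (centralizer_le_normalizer _)
    have hBOH : BO ≤ H := sup_le hKU (map_subtype_le _)
    set π := bar 2 H
    have hMπ : (M.subgroupOf H).map π = K'.map π := by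
      apply le_antisymm
      · refine (map_mono (comap_mono (inf_le_right : M ≤ BO))).trans ?_
        rw [← subgroupOf, subgroupOf_sup hKU (map_subtype_le _), Subgroup.map_sup]
        refine sup_le le_rfl ((map_bar_eq_bot_iff.mpr ?_).le.trans bot_le)
        exact (comap_map_eq_self_of_injective H.subtype_injective _).le
      · have h1 : K' ≤ M.subgroupOf H ⊔ pPrimeCore 2 H := by
          have h2 : K.subgroupOf H ≤ (M ⊔ O).subgroupOf H := comap_mono hcover
          rwa [subgroupOf_sup hMH (map_subtype_le _),
            show O.subgroupOf H = pPrimeCore 2 H from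
              comap_map_eq_self_of_injective H.subtype_injective _] at h2
        refine (map_mono h1).trans ?_
        rw [Subgroup.map_sup]
        exact sup_le le_rfl ((map_bar_eq_bot_iff.mpr le_rfl).le.trans bot_le)
    -- `M` gives a component of `H' / O(H')`
    have hBOsn : (BO.subgroupOf H).IsSubnormal := by
      have h1 : BO.subgroupOf H = (K'.map π).comap π := by
        rw [comap_map_eq, ker_bar, subgroupOf_sup hKU (map_subtype_le _),
          show O.subgroupOf H = pPrimeCore 2 H from
            comap_map_eq_self_of_injective H.subtype_injective _]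
      rw [h1]
      exact hK.2.1.1.comap _
    set M' := M.subgroupOf H'
    have hMsn : M'.IsSubnormal := by
      set C := centralizer (U' : Set X)
      haveI : (C.subgroupOf H').Normal :=
        normal_subgroupOf_of_le_normalizer (normalizer_le_normalizer_centralizer U')
      have h1 : ((BO.subgroupOf H).comap ((inclusion hCH).comp
          (subgroupOfEquivOfLe (centralizer_le_normalizer _ : C ≤ H')).toMonoidHom)).IsSubnormal :=
        hBOsn.comap _
      convert isSubnormal_map_subtype (Normal.isSubnormal inferInstance) h1 using 1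
      ext x
      constructor
      · intro hx
        obtain ⟨hxC, hxBO⟩ := mem_inf.mp (mem_subgroupOf.mp hx)
        exact ⟨⟨x, mem_subgroupOf.mpr hxC⟩, hxBO, rfl⟩
      · rintro ⟨y, hy, rfl⟩
        exact mem_subgroupOf.mpr (mem_inf.mpr ⟨mem_subgroupOf.mp y.2, hy⟩)
    -- the quotient `M / O(M)` is quasisimple
    let f : M →* H ⧸ pPrimeCore 2 H := π.comp (inclusion hMH)
    have hfr : f.range = K'.map π := by
      rw [← hMπ, MonoidHom.range_comp]
      congr 1
      ext x
      simp [mem_subgroupOf]
    have hfker : f.ker = pPrimeCore 2 M := by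
      have hco : (Nat.card f.ker).Coprime 2 := by
        refine (pPrimeCore_coprime (G := H) 2).coprime_dvd_left ?_
        rw [Nat.card_congr (f.ker.equivMapOfInjective _ (inclusion_injective hMH)).toEquiv]
        refine card_dvd_of_le ?_
        rintro _ ⟨x, hx, rfl⟩
        exact (QuotientGroup.eq_one_iff _).mp hx
      refine le_antisymm (le_pPrimeCore' hco) ?_
      rw [← Subgroup.map_eq_bot_iff]
      have hsn : ((pPrimeCore 2 M).map f).IsSubnormal := by
        have h1 : (((pPrimeCore 2 M).map f).subgroupOf f.range).Normal := by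
          refine normal_subgroupOf_of_le_normalizer ?_
          rintro _ ⟨m, rfl⟩
          exact le_normalizer_map f (mem_map_of_mem f (normalizer_eq_top (pPrimeCore 2 M) ▸ mem_top m))
        exact .step _ _ (MonoidHom.range_eq_map f ▸ map_mono le_top) (hfr ▸ hK.2.1.1) h1
      refine le_bot_iff.mp (le_trans (subnormal_coprime_le_pPrimeCore hsn ?_)
        (HallCore.pPrimeCore_quotient_self 2 H).le)
      exact (pPrimeCore_coprime 2).coprime_dvd_left (card_map_dvd _ _)
    have hq : IsQuasisimple (↥M ⧸ pPrimeCore 2 M) :=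
      isQuasisimple_of_mulEquiv ((MulEquiv.subgroupCongr hfr).symm.trans
        ((QuotientGroup.quotientKerEquivRange f).symm.trans (QuotientGroup.quotientMulEquivOfEq hfker)))
        hK.2.1.2
    have hM'comp : IsComponent (M'.map (bar 2 H')) := by
      refine ⟨hMsn.map bar_surjective, ?_⟩
      have hq' : IsQuasisimple (↥M' ⧸ pPrimeCore 2 M') :=
        isQuasisimple_of_mulEquiv (QuotientGroup.congr _ _ (subgroupOfEquivOfLe hMH').symm
          (pPrimeCore_map_mulEquiv _ 2)) hq
      have hker : ((bar 2 H').subgroupMap M').ker = pPrimeCore 2 M' := by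
        apply map_injective M'.subtype_injective
        rw [pPrimeCore_map_subtype_eq hMsn]
        ext x
        constructor
        · rintro ⟨y, hy, rfl⟩
          exact ⟨(QuotientGroup.eq_one_iff _).mp (congrArg Subtype.val hy), y.2⟩
        · rintro ⟨hO, hx⟩
          exact ⟨⟨x, hx⟩, Subtype.ext ((QuotientGroup.eq_one_iff x).mpr hO), rfl⟩
      exact isQuasisimple_of_mulEquiv ((QuotientGroup.quotientMulEquivOfEq hker.symm).trans
        (QuotientGroup.quotientKerEquivOfSurjective _ ((bar 2 H').subgroupMap_surjective M'))) hq'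
    -- by induction the 2-layer of `H'` lies in `N`
    have hlt : Nat.card X - Nat.card U' < k := by
      have h1 : U < U' := lt_of_le_of_ne le_sup_left fun e => hWnot (e ▸ le_sup_right)
      have h2 := Set.Finite.card_lt_card (Set.toFinite _) h1
      have h3 := Subgroup.card_le_card_group U'
      change Nat.card U < Nat.card U' at h2
      omega
    have hL : pLayer 2 H' ≤ N.subgroupOf H' := by
      refine sSup_le fun J hJ => ?_
      have hJ' : IsPComponent 2 ((J.map H'.subtype).subgroupOf H') := by
        rwa [subgroupOf, comap_map_eq_self_of_injective H'.subtype_injective]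
      exact map_le_iff_le_comap.mp (ih _ hlt U' hU' _ (map_subtype_le _) hJ' rfl)
    have hM'L : M' ≤ pLayer 2 H' ⊔ pPrimeCore 2 H' := by
      have h1 := (le_comap_map (bar 2 H') M').trans (comap_mono
        ((component_le_layer hM'comp).trans (le_of_eq (pLayer_map_bar (p := 2)).symm)))
      rwa [comap_map_eq, ker_bar] at h1
    have hpM : pGen 2 M ≤ N := by
      have h1 := (pGen_le_of_le_sup (pPrimeCore_coprime 2)
        (Normal.isSubnormal inferInstance) hM'L).trans hL
      have h2 := map_mono (f := H'.subtype) h1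
      rw [map_pGen, map_subgroupOf_eq_of_le hMH'] at h2
      exact h2.trans (map_comap_le _ _)
    -- so `K` lies in `N`
    apply hKN
    have h1 : K'.map π ≤ ((pGen 2 M).subgroupOf H).map π := by
      have e : (pGen 2 M).subgroupOf H = pGen 2 (M.subgroupOf H) := by
        apply map_injective H.subtype_injective
        rw [map_pGen, map_subgroupOf_eq_of_le hMH,
          map_subgroupOf_eq_of_le ((pGen_le M).trans hMH)]
      rw [e, map_pGen, hMπ, pGen_component (HallCore.pPrimeCore_quotient_self 2 H) hK.2.1]
    have h2 : K' ≤ N.subgroupOf H ⊔ pPrimeCore 2 H := by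
      have h3 := (le_comap_map π K').trans
        (comap_mono (h1.trans (map_mono (comap_mono hpM))))
      rwa [comap_map_eq, ker_bar] at h3
    have h4 := pGen_le_of_le_sup (pPrimeCore_coprime 2) (Normal.isSubnormal inferInstance) h2
    rw [pGen_pComponent hK] at h4
    rw [← hKmap]
    exact (map_mono h4).trans (map_comap_le _ _)

/-- In the case `O(X) = 1`. -/
theorem pComponent_le_layer [Finite X] (hZ : ZStarProp.{u}) (hcore : pPrimeCore 2 X = ⊥)
    {U : Subgroup X} (hU : IsPGroup 2 U) {K : Subgroup X} (hKU : K ≤ normalizer (U : Set X))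
    (hK : IsPComponent 2 (K.subgroupOf (normalizer (U : Set X)))) : K ≤ layer X := by
  have hle := pComponent_le_gen hZ hcore U hU K hKU hK
  have hperf : ⁅K, K⁆ = K := by
    have h := congrArg (map (normalizer (U : Set X)).subtype) (isPComponent_perfect hK)
    rwa [map_commutator, map_subgroupOf_eq_of_le hKU] at h
  haveI hEn : (layer X).Normal := inferInstance
  set q := QuotientGroup.mk' (layer X)
  have h1 : K.map q ≤ (fittingSubgroup X).map q := by
    refine (map_mono hle).trans ?_
    rw [generalizedFittingSubgroup, Subgroup.map_sup, QuotientGroup.map_mk'_self, bot_sup_eq]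
  haveI : Group.IsNilpotent ↥(fittingSubgroup X) := fittingSubgroup_isNilpotent
  haveI : Group.IsNilpotent ↥((fittingSubgroup X).map q) :=
    Group.nilpotent_of_surjective _ (q.subgroupMap_surjective (fittingSubgroup X))
  set F := (fittingSubgroup X).map q
  set K₁ := (K.map q).subgroupOf F
  have hK₁ : ⁅K₁, K₁⁆ = K₁ := by
    apply map_injective F.subtype_injective
    rw [map_commutator, map_subgroupOf_eq_of_le h1, ← map_commutator, hperf]
  have h2 : K₁ = ⊥ := by
    obtain ⟨n, hn⟩ := (inferInstance : Group.IsSolvable F).solvable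
    exact le_bot_iff.mp (hn ▸ perfect_le_derivedSeries hK₁ n)
  have h3 : K.map q = ⊥ := by
    rw [← map_subgroupOf_eq_of_le h1, show (K.map q).subgroupOf F = ⊥ from h2, Subgroup.map_bot]
  rwa [Subgroup.map_eq_bot_iff, QuotientGroup.ker_mk'] at h3

/-- **`L_{2'}`-balance** for the normaliser of a `2`-subgroup. -/
theorem pComponent_le_pLayer [Finite X] (hZ : ZStarProp.{u}) {R : Subgroup X} (hR : IsPGroup 2 R)
    {K : Subgroup ↥(normalizer (R : Set X))} (hK : IsPComponent 2 K) :
    K.map (normalizer (R : Set X)).subtype ≤ pLayer 2 X := by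
  have hcore := HallCore.pPrimeCore_quotient_self 2 X
  set f := bar 2 X
  set R₁ := R.map f
  set K' := K.map (normalizer (R : Set X)).subtype
  set K₁ := K'.map f
  have hY : (normalizer (R : Set X)).map f = normalizer (R₁ : Set (X ⧸ pPrimeCore 2 X)) :=
    (ComponentsBalance.normalizer_map_bar hR).symm
  have hK₁le : K₁ ≤ normalizer (R₁ : Set (X ⧸ pPrimeCore 2 X)) :=
    hY ▸ map_mono (map_subtype_le K)
  have hK₁ : IsPComponent 2 (K₁.subgroupOf (normalizer (R₁ : Set (X ⧸ pPrimeCore 2 X)))) := by
    have hker : (Nat.card (f.subgroupMap (normalizer (R : Set X))).ker).Coprime 2 := by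
      refine (pPrimeCore_coprime (G := X) 2).coprime_dvd_left ?_
      rw [Nat.card_congr ((f.subgroupMap (normalizer (R : Set X))).ker.equivMapOfInjective _
        (normalizer (R : Set X)).subtype_injective).toEquiv]
      refine card_dvd_of_le ?_
      rintro _ ⟨y, hy, rfl⟩
      exact (QuotientGroup.eq_one_iff _).mp (congrArg Subtype.val hy)
    have h1 := isPComponent_map_mulEquiv (MulEquiv.subgroupCongr hY)
      (isPComponent_map (f.subgroupMap_surjective _) hker hK)
    convert h1 using 1
    rw [map_map]
    ext x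
    constructor
    · intro hx
      obtain ⟨_, ⟨z, hz, rfl⟩, hzx⟩ := mem_subgroupOf.mp hx
      exact ⟨z, hz, Subtype.ext hzx⟩
    · rintro ⟨z, hz, rfl⟩
      exact mem_subgroupOf.mpr ⟨z, mem_map_of_mem _ hz, rfl⟩
  have hle := pComponent_le_layer hZ hcore (hR.map f) hK₁le hK₁
  have h2 : K₁ ≤ (pLayer 2 X).map f := hle.trans (le_of_eq pLayer_map_bar.symm)
  have h3 : K' ≤ pLayer 2 X ⊔ pPrimeCore 2 X := by
    have := (le_comap_map f K').trans (comap_mono h2)
    rwa [comap_map_eq, ker_bar] at this
  have h4 : pGen 2 K' ≤ pLayer 2 X :=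
    pGen_le_of_le_sup (pPrimeCore_coprime 2) (Normal.isSubnormal inferInstance) h3
  refine le_trans ?_ h4
  rw [← map_pGen, pGen_pComponent hK]

/-- `L_{2'}(N(R)) ≤ L_{2'}(X)`. -/
theorem pLayer_normalizer_le [Finite X] (hZ : ZStarProp.{u}) {R : Subgroup X}
    (hR : IsPGroup 2 R) :
    (pLayer 2 ↥(normalizer (R : Set X))).map (normalizer (R : Set X)).subtype ≤ pLayer 2 X := by
  rw [map_le_iff_le_comap]
  refine sSup_le fun K hK => ?_
  rw [← map_le_iff_le_comap]
  exact pComponent_le_pLayer hZ hR hK

/-- `L_{2'}(C(R)) ≤ L_{2'}(X)`. -/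
theorem pLayer_centralizer_le [Finite X] (hZ : ZStarProp.{u}) {R : Subgroup X}
    (hR : IsPGroup 2 R) :
    (pLayer 2 ↥(centralizer (R : Set X))).map (centralizer (R : Set X)).subtype ≤ pLayer 2 X := by
  set C := centralizer (R : Set X)
  set N := normalizer (R : Set X)
  have hCN : C ≤ N := centralizer_le_normalizer _
  haveI : (C.subgroupOf N).Normal := normal_subgroupOf_of_le_normalizer (normalizer_le_normalizer_centralizer R)
  refine le_trans ?_ (pLayer_normalizer_le hZ hR)
  rw [map_le_iff_le_comap]
  refine sSup_le fun J hJ => ?_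
  have hJ' : IsPComponent 2 ((J.map C.subtype).subgroupOf C) := by
    rwa [subgroupOf, comap_map_eq_self_of_injective C.subtype_injective]
  have h1 := (isPComponent_subgroupOf_iff hCN (Normal.isSubnormal inferInstance)
    (map_subtype_le J)).mp hJ'
  rw [← map_le_iff_le_comap, ← map_subgroupOf_eq_of_le ((map_subtype_le J).trans hCN)]
  exact map_mono (ComponentsP.pComponent_le_pLayer h1)

end Cfsg.Agent.L2Balance
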