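import Mathlib
import Cfsg.Agent.Lib.Cls81Component
import Cfsg.Agent.Lib.L2Balance
import Cfsg.Agent.Lib.ComponentBalance

/-!
Transport between conjugate involution centralisers, exact lifting of conjugations, and the form
of `L_{2'}`-balance used for classical components.
-/

set_option autoImplicit false
set_option linter.style.haveILetI false

namespace Cfsg.Agent.Cls81

open Subgroup Cfsg
open scoped commutatorElement
open Cfsg.Agent.ComponentsBasic Cfsg.Agent.ComponentsP

universe u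

variable {G : Type u} [Group G]

/-! ### Transport -/

section Transport

variable {z w g : G}

theorem transport_cz (h : g * w * g⁻¹ = z) :
    (centralizer ({w} : Set G)).map (MulAut.conj g).toMonoidHom = centralizer ({z} : Set G) := by
  subst h
  ext x
  rw [mem_map_equiv, MulAut.conj_symm_apply, mem_centralizer_singleton_iff,
    mem_centralizer_singleton_iff]
  constructor
  · intro hx
    calc x * (g * w * g⁻¹) = g * (g⁻¹ * x * g * w) * g⁻¹ := by group
      _ = g * (w * (g⁻¹ * x * g)) * g⁻¹ := by rw [hx]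
      _ = g * w * g⁻¹ * x := by group
  · intro hx
    calc g⁻¹ * x * g * w = g⁻¹ * (x * (g * w * g⁻¹)) * g := by group
      _ = g⁻¹ * (g * w * g⁻¹ * x) * g := by rw [hx]
      _ = w * (g⁻¹ * x * g) := by group

/-- The isomorphism `Qz w ≃* Qz z` induced by `x ↦ g x g⁻¹`. -/
noncomputable def trans (h : g * w * g⁻¹ = z) : Qz w ≃* Qz z :=
  QuotientGroup.congr _ _
    (((centralizer ({w} : Set G)).equivMapOfInjective (MulAut.conj g).toMonoidHom
      (MulAut.conj g).injective).trans (MulEquiv.subgroupCongr (transport_cz h)))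
    (ComponentsCores.pPrimeCore_map_mulEquiv _ 2)

theorem commute_transport (h : g * w * g⁻¹ = z) {u : G} (hu : Commute u w) :
    Commute (g * u * g⁻¹) z := by
  have h2 := hu.map (MulAut.conj g).toMonoidHom
  simp only [MulEquiv.coe_toMonoidHom, MulAut.conj_apply] at h2
  rwa [h] at h2

theorem trans_cls (h : g * w * g⁻¹ = z) {u : G} (hu : Commute u w) :
    trans h (cls w u) = cls z (g * u * g⁻¹) := by
  rw [cls_eq hu, cls_eq (commute_transport h hu), trans]
  rfl

theorem isCls_trans [Finite G] (h : g * w * g⁻¹ = z) {K : Subgroup (Qz w)} (hK : IsCls w K) :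
    IsCls z (K.map (trans h).toMonoidHom) := by
  have hzz : cls z z = trans h (cls w w) := by rw [trans_cls h (Commute.refl w), h]
  refine ⟨?_, ?_, isComponent_map_mulEquiv _ hK.comp, ⟨_, hK.mem, hzz.symm⟩, ?_⟩
  · rw [← h, show g * w * g⁻¹ * (g * w * g⁻¹) = g * (w * w) * g⁻¹ by group, hK.sq]
    group
  · rw [← h]
    exact fun e => hK.ne (conj_eq_one_iff.1 e)
  · rintro _ ⟨x, hx, rfl⟩ h2
    rw [hzz]
    rcases hK.uniq x hx ((trans h).injective (by rw [map_mul, map_one]; exact h2)) with e | e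
    · exact Or.inl (by rw [e]; exact map_one _)
    · exact Or.inr (by rw [e]; rfl)

theorem cjS_map {M N : Type*} [Group M] [Group N] (e : M ≃* N) (x : M) (K : Subgroup M) :
    cjS (e x) (K.map e.toMonoidHom) = (cjS x K).map e.toMonoidHom := by
  ext y
  obtain ⟨y, rfl⟩ := e.surjective y
  simp only [mem_cjS, mem_map_equiv, map_mul, map_inv, MulEquiv.symm_apply_apply]

theorem cjS_map_eq_iff {M N : Type*} [Group M] [Group N] (e : M ≃* N) (x : M) (K : Subgroup M) :
    cjS (e x) (K.map e.toMonoidHom) = K.map e.toMonoidHom ↔ cjS x K = K := by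
  rw [cjS_map]
  exact (map_injective e.injective).eq_iff

end Transport

/-! ### Exact lifting of a conjugation -/

theorem exists_lift_conj [Finite G] {z a b : G} (ha : a * a = 1) (hb : b * b = 1)
    (haz : Commute a z) (hbz : Commute b z) {x : Qz z}
    (hab : x * cls z a * x⁻¹ = cls z b) :
    ∃ t, Commute t z ∧ cls z t = x ∧ t * a * t⁻¹ = b := by
  obtain ⟨g, hg, rfl⟩ := exists_cls z x
  have hgz : Commute (g * a * g⁻¹) z := (hg.mul_left haz).mul_left hg.inv_left
  have hsq : g * a * g⁻¹ * (g * a * g⁻¹) = 1 := by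
    rw [show g * a * g⁻¹ * (g * a * g⁻¹) = g * (a * a) * g⁻¹ by group, ha]
    group
  have h1 : cls z (g * a * g⁻¹ * b) = 1 := by
    rw [cls_mul hgz hbz, cls_conj hg haz, hab, ← cls_mul hbz hbz, hb, cls_one]
  obtain ⟨o, ho, hob⟩ := conj_of_congr hsq hb (odd_of_cls_eq_one (hgz.mul_left hbz) h1)
  obtain ⟨i, rfl⟩ := ho
  have hoz : Commute ((g * a * g⁻¹ * b) ^ i) z := (hgz.mul_left hbz).zpow_left i
  refine ⟨(g * a * g⁻¹ * b) ^ i * g, hoz.mul_left hg, ?_, ?_⟩
  · have h2 : cls z ((g * a * g⁻¹ * b) ^ i) = 1 := by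
      rw [cls_eq (hgz.mul_left hbz)] at h1
      rw [cls_eq hoz]
      exact (map_zpow _ (⟨_, mem_Cz (hgz.mul_left hbz)⟩ : Cz z) i).trans (by rw [h1, one_zpow])
    rw [cls_mul hoz hg, h2, one_mul]
  · rw [show (g * a * g⁻¹ * b) ^ i * g * a * ((g * a * g⁻¹ * b) ^ i * g)⁻¹ =
      (g * a * g⁻¹ * b) ^ i * (g * a * g⁻¹) * ((g * a * g⁻¹ * b) ^ i)⁻¹ by group]
    exact hob

/-! ### Balance -/

theorem zStarProp : Cfsg.Agent.L2BalanceAut.ZStarProp.{u} :=
  fun _ _ _ P t ht htP hh =>
    ZStarTheorem.exists_odd_normal (ZStarBasic.isolated_of_sylow P t ht htP hh)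

/-- A component `Dc` of `C(cls z d)` in `Qz z` of even order comes from a perfect group `L` in
`C(z) ∩ C(d)` containing every 2-element above it and lying in the 2-layer of `C(d)`. -/
theorem balance [Finite G] {z d : G} (hz : z * z = 1) (hd : d * d = 1) (hzd : Commute z d)
    {Dc : Subgroup (Qz z)} (hle : Dc ≤ centralizer ({cls z d} : Set (Qz z)))
    (hcomp : IsComponent (Dc.subgroupOf (centralizer ({cls z d} : Set (Qz z)))))
    (heven : 2 ∣ Nat.card Dc) :
    ∃ L : Subgroup G, ⁅L, L⁆ = L ∧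
      (∀ l ∈ L, Commute l z ∧ Commute l d ∧ cls d l ∈ layer (Qz d)) ∧
      (∀ g, Commute g z → Commute g d → TwoEl g → cls z g ∈ Dc → g ∈ L) := by
  classical
  haveI : Fact (Nat.Prime 2) := ⟨Nat.prime_two⟩
  set zX : Cz d := ⟨z, mem_Cz hzd⟩ with hzX
  set R : Subgroup (Cz d) := zpowers zX with hR
  have hR2 : IsPGroup 2 R := fun x => by
    obtain ⟨x, i, rfl⟩ := x
    refine ⟨1, Subtype.ext (Subtype.ext ?_)⟩
    simp only [pow_one, SubgroupClass.coe_pow, OneMemClass.coe_one, SubgroupClass.coe_zpow, hzX]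
    rw [pow_two, ← (Commute.refl z).mul_zpow, hz, one_zpow]
  set H := centralizer (R : Set (Cz d)) with hH
  have hHz : ∀ h : H, Commute ((h : Cz d) : G) z := fun h =>
    congrArg Subtype.val (mem_centralizer_iff.1 h.2 zX (mem_zpowers _)).symm
  let f : H →* Qz z := MonoidHom.mk' (fun h => cls z ((h : Cz d) : G))
    fun a b => cls_mul (hHz a) (hHz b)
  set D := cls z d with hDdef
  set Cd := centralizer ({D} : Set (Qz z)) with hCd
  have hfCd : ∀ h : H, f h ∈ Cd := fun h => by
    rw [hCd, mem_centralizer_singleton_iff]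
    show cls z _ * cls z d = cls z d * cls z _
    rw [← cls_mul (hHz h) hzd.symm, ← cls_mul hzd.symm (hHz h),
      (commute_of_mem_Cz (h : Cz d)).eq]
  have hmemH : ∀ (g : G) (hgd : Commute g d), Commute g z → (⟨g, mem_Cz hgd⟩ : Cz d) ∈ H := by
    intro g hgd hgz
    rw [hH, hR, ComponentBalance.centralizer_zpowers_eq, mem_centralizer_singleton_iff]
    exact Subtype.ext hgz.eq
  set f' : H →* Cd := f.codRestrict Cd hfCd with hf'
  have hf's : Function.Surjective f' := fun x => by
    obtain ⟨g, hgz, hgd, hgx⟩ := exists_cls_commute hd hzd.symm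
      (x := (x : Qz z)) (mem_centralizer_singleton_iff.1 x.2).symm
    exact ⟨⟨⟨g, mem_Cz hgd⟩, hmemH g hgd hgz⟩, Subtype.ext hgx⟩
  have hker : f'.ker ≤ pPrimeCore 2 H := by
    refine ComponentsCores.le_pPrimeCore' (Nat.coprime_two_right.2 ?_)
    rw [← Nat.not_even_iff_odd, even_iff_two_dvd]
    intro h
    obtain ⟨x, hx⟩ := exists_prime_orderOf_dvd_card' (G := f'.ker) 2 h
    have h1 : cls z (((x : H) : Cz d) : G) = 1 := congrArg Subtype.val x.2
    have h2 := odd_of_cls_eq_one (hHz x) h1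
    rw [orderOf_coe, orderOf_coe, orderOf_coe, hx] at h2
    exact absurd h2 (by decide)
  set φ : Cd →* H ⧸ pPrimeCore 2 H :=
    (f'.liftOfSurjective hf's ⟨bar 2 H, by rwa [ker_bar]⟩) with hφ
  have hφf : ∀ h : H, φ (f' h) = bar 2 H h := fun h =>
    MonoidHom.liftOfRightInverse_comp_apply _ _ _ ⟨bar 2 H, by rwa [ker_bar]⟩ h
  have hφs : Function.Surjective φ := fun q => by
    obtain ⟨h, rfl⟩ := bar_surjective (p := 2) q
    exact ⟨f' h, hφf h⟩
  set D0 := Dc.subgroupOf Cd with hD0
  have himg : IsComponent (D0.map φ) := by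
    refine ⟨hcomp.1.map hφs, ?_⟩
    have hnt : Nontrivial (D0.map φ) := by
      rw [nontrivial_iff_ne_bot]
      intro hbot
      obtain ⟨t, ht⟩ := exists_prime_orderOf_dvd_card' (G := D0) 2
        (by rw [Nat.card_congr (subgroupOfEquivOfLe hle).toEquiv]; exact heven)
      obtain ⟨h, hh⟩ := hf's t.1
      have h1 : φ t.1 = 1 := by
        have := mem_map_of_mem φ t.2
        rwa [hbot, mem_bot] at this
      rw [← hh, hφf] at h1
      have h2 : Odd (orderOf h) := by
        rw [QuotientGroup.mk'_apply, QuotientGroup.eq_one_iff] at h1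
        exact ZStarTheorem.odd_card_pPrimeCore.of_dvd_nat
          ((Subgroup.orderOf_mk h h1).symm.dvd.trans (orderOf_dvd_natCard _))
      have h3 := h2.of_dvd_nat (orderOf_map_dvd f' h)
      rw [hh, orderOf_coe, ht] at h3
      exact absurd h3 (by decide)
    exact isQuasisimple_of_surjective (φ.subgroupMap D0) (φ.subgroupMap_surjective D0) hcomp.2
  set PL := pLayer 2 H with hPL
  haveI hPLn : PL.Normal := by
    haveI : PL.Characteristic := pLayer_characteristic
    infer_instance
  set ι : H →* G := (centralizer ({d} : Set G)).subtype.comp H.subtype with hι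
  refine ⟨PL.map ι, ?_, ?_, ?_⟩
  · rw [← map_commutator, pLayer_perfect]
  · rintro _ ⟨h, hh, rfl⟩
    refine ⟨hHz h, commute_of_mem_Cz (h : Cz d), ?_⟩
    have h1 : (h : Cz d) ∈ pLayer 2 (Cz d) :=
      L2Balance.pLayer_centralizer_le zStarProp hR2 ⟨h, hh, rfl⟩
    rw [← pLayer_map_bar]
    exact ⟨_, h1, (cls_coe (h : Cz d)).symm⟩
  · intro g hgz hgd hg2 hgD
    set gH : H := ⟨⟨g, mem_Cz hgd⟩, hmemH g hgd hgz⟩
    refine ⟨gH, ?_, rfl⟩
    have h1 : bar 2 H gH ∈ PL.map (bar 2 H) := by
      rw [hPL, pLayer_map_bar, ← hφf]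
      exact component_le_layer himg (mem_map_of_mem φ (show f' gH ∈ D0 from hgD))
    obtain ⟨l, hl, hlg⟩ := h1
    have h2 : l⁻¹ * gH ∈ pPrimeCore 2 H := by
      rw [← QuotientGroup.eq_one_iff, QuotientGroup.mk_mul, QuotientGroup.mk_inv,
        inv_mul_eq_one]
      exact hlg
    have h3 : Odd (orderOf (QuotientGroup.mk' PL gH)) := by
      have h4 : QuotientGroup.mk' PL gH = QuotientGroup.mk' PL (l⁻¹ * gH) := by
        rw [map_mul, map_inv, show QuotientGroup.mk' PL l = 1 from
          (QuotientGroup.eq_one_iff l).2 hl, inv_one, one_mul]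
      rw [h4]
      refine Odd.of_dvd_nat ?_ (orderOf_map_dvd _ _)
      exact ZStarTheorem.odd_card_pPrimeCore.of_dvd_nat
        ((Subgroup.orderOf_mk _ h2).symm.dvd.trans (orderOf_dvd_natCard _))
    have h5 : TwoEl gH := by
      obtain ⟨k, hk⟩ := hg2
      exact ⟨k, Subtype.ext (Subtype.ext hk)⟩
    exact (QuotientGroup.eq_one_iff _).1 ((h5.map _).eq_one h3)

end Cfsg.Agent.Cls81
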