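import Mathlib
import Cfsg.Agent.Lib.Cls81Component

/-!
A 2-element of a classical component at `w` moving a classical component at `z`: only the case
`y ^ 2 = w` survives, and it gives the configuration `Config`.
-/

set_option autoImplicit false
set_option linter.style.haveILetI false

namespace Cfsg.Agent.Cls81

open Subgroup Cfsg
open scoped commutatorElement Pointwise
open Cfsg.Agent.ComponentsBasic Cfsg.Agent.ComponentsP

universe u

variable {G : Type u} [Group G]

theorem exists_fixed_growth {M : Type*} [Group M] [Finite M] {S : Subgroup M} (hS : IsPGroup 2 S)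
    {u : M} (hu : TwoEl u) (hnorm : u ∈ normalizer (S : Set M)) (hne : ∃ s ∈ S, ¬ Commute u s) :
    ∃ x ∈ S, ¬ Commute u x ∧ Commute u (x⁻¹ * (u * x * u⁻¹)) := by
  haveI : Fact (Nat.Prime 2) := ⟨Nat.prime_two⟩
  have hle : zpowers u ≤ normalizer (S : Set M) := zpowers_le.2 hnorm
  have hpu : IsPGroup 2 (zpowers u) := fun x => by
    obtain ⟨x, i, rfl⟩ := x
    obtain ⟨k, hk⟩ := hu
    refine ⟨k, Subtype.ext ?_⟩
    simp only [SubgroupClass.coe_pow, OneMemClass.coe_one]
    rw [← zpow_natCast, ← zpow_mul, mul_comm, zpow_mul, zpow_natCast, hk, one_zpow]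
  set X := zpowers u ⊔ S
  have hX : IsPGroup 2 X := hpu.to_sup_of_normal_right' hS hle
  haveI := hX.isNilpotent
  set C : Subgroup X := (centralizer ({u} : Set M)).subgroupOf X
  have hCne : C ≠ ⊤ := fun h => by
    obtain ⟨s, hs, hsu⟩ := hne
    have : (⟨s, le_sup_right (a := zpowers u) hs⟩ : X) ∈ C := h ▸ mem_top _
    exact hsu (mem_centralizer_singleton_iff.1 (mem_subgroupOf.1 this)).symm
  obtain ⟨g, hgN, hgC⟩ := SetLike.exists_of_lt
    (Group.normalizerCondition_of_isNilpotent (G := X) C (lt_top_iff_ne_top.2 hCne))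
  have hg : (g : M) ∈ ((zpowers u : Subgroup M) : Set M) * (S : Set M) := by
    rw [← coe_mul_of_left_le_normalizer_right _ _ hle]
    exact g.2
  obtain ⟨a, ha, x, hx, hax⟩ := hg
  obtain ⟨i, rfl⟩ := ha
  have hui : Commute u (u ^ i) := (Commute.refl u).zpow_right i
  refine ⟨x, hx, fun h => hgC ?_, ?_⟩
  · rw [mem_subgroupOf, ← hax]
    exact mem_centralizer_singleton_iff.2 (hui.mul_right h).eq.symm
  · have huC : (⟨u, le_sup_left (b := S) (mem_zpowers u)⟩ : X) ∈ C :=
      mem_subgroupOf.2 (mem_centralizer_singleton_iff.2 rfl)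
    have h1 := mem_centralizer_singleton_iff.1
      (mem_subgroupOf.1 ((mem_normalizer_iff''.1 hgN _).1 huC))
    have h2 : Commute u ((g : M)⁻¹ * u * (g : M)) := (h1 : _ * u = u * _).symm
    rw [← hax] at h2
    have h3 : (u ^ i * x)⁻¹ * u * (u ^ i * x) = x⁻¹ * u * x := by
      rw [mul_inv_rev, mul_assoc x⁻¹, mul_assoc x⁻¹, ← mul_assoc ((u ^ i)⁻¹ * u),
        mul_assoc (u ^ i)⁻¹ u, hui.eq, inv_mul_cancel_left, mul_assoc x⁻¹]
    have h2' : Commute u (x⁻¹ * u * x) := h3 ▸ h2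
    rw [show x⁻¹ * (u * x * u⁻¹) = x⁻¹ * u * x * u⁻¹ by group]
    exact h2'.mul_right (Commute.refl u).inv_right

/-! ### Two centralisers -/

variable [Finite G] {z w : G} {J : Subgroup (Qz z)} {K : Subgroup (Qz w)}

/-- An element of `K` modulo the core at `w` with image of order at most two at `z` is `1` or `w`. -/
theorem kinv (hzw : Commute z w) (hK : IsCls w K) {u : G} (huz : Commute u z) (huw : Commute u w)
    (huK : cls w u ∈ K) (hu2 : cls z u * cls z u = 1) :
    cls z u = 1 ∨ cls z u = cls z w := by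
  have hodd : Odd (orderOf (cls w (u * u))) :=
    odd_cls (huw.mul_left huw) (odd_of_cls_eq_one (huz.mul_left huz)
      (by rw [cls_mul huz huz, hu2]))
  rw [cls_mul huw huw] at hodd
  set r := orderOf (cls w u * cls w u)
  have hr2 : cls w u ^ r * cls w u ^ r = 1 := by
    rw [← (Commute.refl (cls w u)).mul_pow]
    exact pow_orderOf_eq_one _
  have hzr : cls z (u ^ r) = cls z u := by
    rw [cls_pow huz]
    exact pow_eq_self_of_modEq (k := 1) (by rw [pow_one, pow_two, hu2])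
      (by rw [pow_one]; exact Nat.odd_iff.1 hodd)
  have hwwz : cls z w * cls z w = 1 := by
    rw [← cls_mul hzw.symm hzw.symm, hK.sq, cls_one]
  rcases hK.uniq _ (pow_mem huK r) hr2 with h | h
  · left
    rw [← hzr]
    exact cross (huz.pow_left r) (huw.pow_left r) (by rw [cls_pow huw, h])
      (hzr ▸ TwoEl.of_sq hu2)
  · right
    have huwz : Commute (cls z u) (cls z w) := by
      show _ * _ = _ * _
      rw [← cls_mul huz hzw.symm, ← cls_mul hzw.symm huz, huw.eq]
    have h1 : cls z (u ^ r * w) = 1 := by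
      refine cross ((huz.pow_left r).mul_left hzw.symm) ((huw.pow_left r).mul_left (Commute.refl w))
        ?_ ?_
      · rw [cls_mul (huw.pow_left r) (Commute.refl w), cls_pow huw, h, hK.zc_sq]
      · rw [cls_mul (huz.pow_left r) hzw.symm, hzr]
        exact (TwoEl.of_sq hu2).mul (TwoEl.of_sq hwwz) huwz
    rw [cls_mul (huz.pow_left r) hzw.symm, hzr] at h1
    exact (eq_inv_of_mul_eq_one_left h1).trans (inv_eq_of_mul_eq_one_right hwwz)

/-- Conjugation action of `Qz w` on its components. -/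
noncomputable def permComp (w : G) : Qz w →* Equiv.Perm {L : Subgroup (Qz w) // IsComponent L} where
  toFun x :=
    { toFun := fun L => ⟨cjS x L, isComponent_cjS L.2 x⟩
      invFun := fun L => ⟨cjS x⁻¹ L, isComponent_cjS L.2 x⁻¹⟩
      left_inv := fun L => Subtype.ext (by
        show cjS x⁻¹ (cjS x L.1) = L.1
        rw [← cjS_mul, inv_mul_cancel, cjS_one])
      right_inv := fun L => Subtype.ext (by
        show cjS x (cjS x⁻¹ L.1) = L.1
        rw [← cjS_mul, mul_inv_cancel, cjS_one]) }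
  map_one' := by
    apply Equiv.ext
    exact fun L => Subtype.ext cjS_one
  map_mul' x y := by
    apply Equiv.ext
    exact fun L => Subtype.ext (cjS_mul x y)

/-- 2-elements of a perfect group at `z` which is lifted to the double centraliser and whose
`y`-conjugate commutes with it lift to elements fixing all components at `w`. -/
theorem fixing_lift (hK : IsCls w K) {y : G} (hyz : Commute y z) (hyw : Commute y w)
    (hyK : cls w y ∈ K) {D : Subgroup (Qz z)} (hD : ⁅D, D⁆ = D)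
    (hlift : ∀ d ∈ D, ∃ g, Commute g z ∧ Commute g w ∧ cls z g = d)
    (hcomm : ∀ a ∈ D, ∀ b ∈ D, Commute (cls z y * a * (cls z y)⁻¹) b) {t : Qz z} (ht : t ∈ D)
    (ht2 : TwoEl t) :
    ∃ g, Commute g z ∧ Commute g w ∧ cls z g = t ∧ TwoEl g ∧
      cls w g ∈ normalizer (K : Set (Qz w)) := by
  classical
  set M : Subgroup G := centralizer ({z} : Set G) ⊓ centralizer ({w} : Set G) with hM
  have hm : ∀ g : M, Commute (g : G) z ∧ Commute (g : G) w := fun g =>
    ⟨mem_centralizer_singleton_iff.1 g.2.1, mem_centralizer_singleton_iff.1 g.2.2⟩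
  let φ : M →* Qz z := MonoidHom.mk' (fun g => cls z (g : G)) fun a b => cls_mul (hm a).1 (hm b).1
  let ψ : M →* Qz w := MonoidHom.mk' (fun g => cls w (g : G)) fun a b => cls_mul (hm a).2 (hm b).2
  let σ : M →* Equiv.Perm {L : Subgroup (Qz w) // IsComponent L} := (permComp w).comp ψ
  set yM : M := ⟨y, mem_Cz hyz, mem_Cz hyw⟩ with hyM
  have hσy : σ yM = 1 := by
    apply Equiv.ext
    intro L
    exact Subtype.ext (normalizes_of_component L.2 hK.comp hyK)
  set P : Subgroup M := D.comap φ with hP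
  set R : Subgroup (Equiv.Perm {L : Subgroup (Qz w) // IsComponent L}) := φ.ker.map σ with hR
  have hRmem : ∀ g ∈ ⁅P, P⁆, σ g ∈ R := by
    have : ⁅P, P⁆ ≤ R.comap σ := by
      refine commutator_le.2 fun g hg h hh => ?_
      rw [mem_comap]
      refine ⟨⁅yM * g * yM⁻¹, h⁆, ?_, ?_⟩
      · rw [SetLike.mem_coe, MonoidHom.mem_ker, map_commutatorElement,
          commutatorElement_eq_one_iff_commute, map_mul, map_mul, map_inv]
        exact hcomm _ hg _ hh
      · rw [map_commutatorElement, map_commutatorElement, map_mul, map_mul, map_inv, hσy, one_mul,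
          inv_one, mul_one]
    exact this
  have hmap : ⁅P, P⁆.map φ = D := by
    rw [map_commutator, map_comap_eq_self, hD]
    intro d hd
    obtain ⟨g, hgz, hgw, rfl⟩ := hlift d hd
    exact ⟨⟨g, mem_Cz hgz, mem_Cz hgw⟩, rfl⟩
  obtain ⟨g, hg, hgt⟩ := (hmap ▸ ht : t ∈ ⁅P, P⁆.map φ)
  obtain ⟨k, hk⟩ := ht2
  obtain ⟨n, hnodd, hn, hn2⟩ := exists_two_part g k
  have ht' : φ (g ^ n) = t := by rw [map_pow, hgt, pow_eq_self_of_modEq hk hn]
  have h1 : σ (g ^ n) = 1 := by
    refine (hn2.map σ).eq_one ?_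
    obtain ⟨c, hc, hcg⟩ := hRmem _ (pow_mem hg n)
    rw [← hcg]
    refine Odd.of_dvd_nat ?_ (orderOf_map_dvd σ c)
    rw [← orderOf_coe]
    exact odd_of_cls_eq_one (hm c).1 hc
  refine ⟨((g ^ n : M) : G), (hm _).1, (hm _).2, ht', hn2.map M.subtype, cjS_eq_iff.1 ?_⟩
  have := congrArg (fun p : Equiv.Perm {L : Subgroup (Qz w) // IsComponent L} =>
    (p ⟨K, hK.comp⟩).1) h1
  exact this

/-- An element of order four in a classical component. -/
theorem IsCls.exists_four (hJ : IsCls z J) : ∃ a ∈ J, a * a = cls z z := by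
  haveI : Fact (Nat.Prime 2) := ⟨Nat.prime_two⟩
  obtain ⟨S⟩ := (inferInstance : Nonempty (Sylow 2 J))
  obtain ⟨a, b, hab⟩ := hJ.sylow_nonab S
  by_contra hcon
  push Not at hcon
  have hexp : ∀ s : (S : Subgroup J), s * s = 1 := by
    intro s
    obtain ⟨k, hk⟩ := S.isPGroup' s
    induction k generalizing s with
    | zero => rw [pow_zero, pow_one] at hk; rw [hk, one_mul]
    | succ k ih =>
        rw [pow_succ', pow_mul, pow_two] at hk
        have h1 := ih _ hk
        rcases hJ.uniq _ (s * s).1.2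
          (congrArg (fun t : (S : Subgroup J) => t.1.1) h1) with h | h
        · exact Subtype.ext (Subtype.ext h)
        · exact absurd h (hcon _ s.1.2)
  apply hab
  show a * b = b * a
  calc a * b = (a * b)⁻¹ := eq_inv_of_mul_eq_one_left (hexp _)
    _ = b⁻¹ * a⁻¹ := mul_inv_rev a b
    _ = b * a := by rw [inv_eq_of_mul_eq_one_right (hexp a), inv_eq_of_mul_eq_one_right (hexp b)]

/-- The surviving configuration. -/
structure Config (z w y : G) (J : Subgroup (Qz z)) (K : Subgroup (Qz w)) : Prop where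
  hJ : IsCls z J
  hK : IsCls w K
  hzw : Commute z w
  hne : z ≠ w
  hyz : Commute y z
  hyK : cls w y ∈ K
  hy2 : y * y = w
  hmove : cls z y ∉ normalizer (J : Set (Qz z))
  hwJ : cls z w ∈ normalizer (J : Set (Qz z))
  exX : ∃ x ∈ J, cls z w * x * (cls z w)⁻¹ = x * cls z z ∧ TwoEl x
  exK1 : ∃ g, Commute g w ∧ Commute g z ∧ cjS (cls w g)⁻¹ K ≠ K ∧
    cls w z = (cls w g)⁻¹ * cls w y * cls w g * (cls w y)⁻¹

/-- Case `y ^ 2 = w` moving `J`. -/
theorem no_moving_square (hJ : IsCls z J) (hK : IsCls w K) (hzw : Commute z w) {y : G}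
    (hyz : Commute y z) (hy2 : y * y = w) (hyK : cls w y ∈ K)
    (hw : cls z w ∉ normalizer (J : Set (Qz z))) : False := by
  have hyw : Commute y w := hy2 ▸ (Commute.refl y).mul_right (Commute.refl y)
  set Y := cls z y with hY
  set W := cls z w with hWdef
  have hYY : Y * Y = W := by rw [hY, ← cls_mul hyz hyz, hy2]
  have hWW : W * W = 1 := by rw [← cls_mul hzw.symm hzw.symm, hK.sq, cls_one]
  have hWi : W⁻¹ = W := inv_eq_of_mul_eq_one_right hWW
  set J1 := cjS Y J with hJ1def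
  set J2 := cjS W J with hJ2def
  set J3 := cjS Y J2 with hJ3def
  have hJ2ne : J2 ≠ J := fun h => hw (cjS_eq_iff.1 h)
  have hJ1ne : J1 ≠ J := fun h => hJ2ne (by rw [hJ2def, ← hYY, cjS_mul, ← hJ1def, h, ← hJ1def, h])
  have hJ12 : J1 ≠ J2 := fun h => hJ1ne (by
    have h2 := congrArg (cjS Y⁻¹) h
    rw [hJ1def, ← cjS_mul, inv_mul_cancel, cjS_one, hJ2def, ← cjS_mul, ← hYY, inv_mul_cancel_left,
      ← hJ1def] at h2
    exact h2.symm)
  have hJ3ne : J3 ≠ J := fun h => by
    have h2 := congrArg (cjS Y) h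
    rw [hJ3def, ← cjS_mul Y Y, hYY, hJ2def, ← cjS_mul, hWW, cjS_one, ← hJ1def] at h2
    exact hJ1ne h2.symm
  have hJ23 : J3 ≠ J2 := fun h => hJ3ne (by
    rw [hJ3def] at h ⊢
    have h2 := congrArg (cjS W) h
    rw [← cjS_mul, show W * Y = Y * W by rw [← hYY, mul_assoc], cjS_mul, hJ2def, ← cjS_mul W W, hWW,
      cjS_one, ← hJ1def] at h2
    exact absurd h2 hJ1ne)
  have cA : ∀ {a b : Qz z}, a ∈ J → b ∈ J2 → Commute a b := fun ha hb =>
    comp_commute hJ.comp (isComponent_cjS hJ.comp W) (Ne.symm hJ2ne) ha hb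
  -- the diagonal
  let δ : J →* Qz z := MonoidHom.mk' (fun j => (j : Qz z) * (W * (j : Qz z) * W⁻¹)) fun p q => by
    have h1 : Commute (q : Qz z) (W * (p : Qz z) * W⁻¹) := cA q.2 (conj_mem_cjS p.2)
    show (p : Qz z) * q * (W * ((p : Qz z) * q) * W⁻¹) = _
    rw [show W * ((p : Qz z) * q) * W⁻¹ = W * (p : Qz z) * W⁻¹ * (W * q * W⁻¹) by group,
      mul_assoc (p : Qz z) q, ← mul_assoc (q : Qz z), h1.eq]
    group
  have hD : ⁅δ.range, δ.range⁆ = δ.range := by
    rw [MonoidHom.range_eq_map, ← map_commutator]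
    congr 1
    apply map_injective J.subtype_injective
    rw [map_commutator, ← MonoidHom.range_eq_map, range_subtype]
    exact IsComponent.perfect hJ.comp
  have hfix : ∀ d ∈ δ.range, Commute W d := by
    rintro _ ⟨p, rfl⟩
    have h1 : Commute (p : Qz z) (W * (p : Qz z) * W⁻¹) := cA p.2 (conj_mem_cjS p.2)
    show W * ((p : Qz z) * (W * p * W⁻¹)) = (p : Qz z) * (W * p * W⁻¹) * W
    conv_rhs => rw [h1.eq]
    rw [hWi]
    simp only [mul_assoc, ← mul_assoc W W, hWW, one_mul, mul_one]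
  have hlift : ∀ d ∈ δ.range, ∃ g, Commute g z ∧ Commute g w ∧ cls z g = d := fun d hd =>
    exists_cls_commute hK.sq hzw.symm (hfix d hd)
  have hcomm : ∀ a ∈ δ.range, ∀ b ∈ δ.range, Commute (Y * a * Y⁻¹) b := by
    rintro _ ⟨p, rfl⟩ _ ⟨q, rfl⟩
    show Commute (Y * ((p : Qz z) * (W * p * W⁻¹)) * Y⁻¹) ((q : Qz z) * (W * q * W⁻¹))
    rw [show Y * ((p : Qz z) * (W * p * W⁻¹)) * Y⁻¹ =
      Y * (p : Qz z) * Y⁻¹ * (Y * (W * p * W⁻¹) * Y⁻¹) by group]
    have c1 := isComponent_cjS hJ.comp Y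
    have c2 := isComponent_cjS hJ.comp W
    have c3 := isComponent_cjS c2 Y
    exact ((comp_commute c1 hJ.comp hJ1ne (conj_mem_cjS p.2) q.2).mul_right
        (comp_commute c1 c2 hJ12 (conj_mem_cjS p.2) (conj_mem_cjS q.2))).mul_left
      ((comp_commute c3 hJ.comp hJ3ne (conj_mem_cjS (conj_mem_cjS p.2)) q.2).mul_right
        (comp_commute c3 c2 hJ23 (conj_mem_cjS (conj_mem_cjS p.2)) (conj_mem_cjS q.2)))
  obtain ⟨a, haJ, ha⟩ := hJ.exists_four
  have hWa : W * a * W⁻¹ * (W * a * W⁻¹) = cls z z := by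
    rw [show W * a * W⁻¹ * (W * a * W⁻¹) = W * (a * a) * W⁻¹ by group, ha, ← (zc_comm z W).eq,
      mul_inv_cancel_right]
  set t := a * (W * a * W⁻¹) with htdef
  have ht2 : t * t = 1 := by
    rw [htdef, (cA haJ (conj_mem_cjS haJ)).symm.mul_mul_mul_comm, ha, hWa, hJ.zc_sq]
  obtain ⟨g, hgz, hgw, hgt, -, hgK⟩ :=
    fixing_lift hK hyz hyw hyK hD hlift hcomm ⟨⟨a, haJ⟩, rfl⟩ (TwoEl.of_sq ht2)
  replace hgt : cls z g = t := hgt
  set v := g⁻¹ * y * g * y⁻¹ with hv
  have hvz : cls z v = t⁻¹ * (Y * t * Y⁻¹) := by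
    rw [hv, cls_mul ((hgz.inv_left.mul_left hyz).mul_left hgz) hyz.inv_left,
      cls_mul (hgz.inv_left.mul_left hyz) hgz, cls_mul hgz.inv_left hyz, cls_inv hgz, cls_inv hyz,
      hgt, ← hY]
    group
  have hvK : cls w v ∈ K := by
    rw [hv, cls_mul ((hgw.inv_left.mul_left hyw).mul_left hgw) hyw.inv_left,
      cls_mul (hgw.inv_left.mul_left hyw) hgw, cls_mul hgw.inv_left hyw, cls_inv hgw, cls_inv hyw]
    exact mul_mem ((mem_normalizer_iff''.1 hgK _).1 hyK) (inv_mem hyK)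
  have hti : t⁻¹ = t := inv_eq_of_mul_eq_one_right ht2
  have hct : Commute (Y * t * Y⁻¹) t := hcomm _ ⟨⟨a, haJ⟩, rfl⟩ _ ⟨⟨a, haJ⟩, rfl⟩
  have hv2 : cls z v * cls z v = 1 := by
    rw [hvz, hti, hct.mul_mul_mul_comm, ht2,
      show Y * t * Y⁻¹ * (Y * t * Y⁻¹) = Y * (t * t) * Y⁻¹ by group, ht2]
    group
  rcases kinv hzw hK ((((hgz.inv_left).mul_left hyz).mul_left hgz).mul_left hyz.inv_left)
    ((((hgw.inv_left).mul_left hyw).mul_left hgw).mul_left hyw.inv_left) hvK hv2 with h | h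
  · -- `t` is fixed by `Y`: then `a` is central in `J`
    rw [hvz, hti] at h
    have h1 : Y * t * Y⁻¹ = t := (eq_inv_of_mul_eq_one_right h).trans hti
    obtain ⟨b, hbJ, hab⟩ := hJ.four_noncentral haJ ha
    refine hab ?_
    have ha' : a = t * (W * a * W⁻¹)⁻¹ := by rw [htdef, mul_inv_cancel_right]
    rw [← h1] at ha'
    have hb1 : Commute (Y * t * Y⁻¹) b := by
      rw [htdef, show Y * (a * (W * a * W⁻¹)) * Y⁻¹ =
        Y * a * Y⁻¹ * (Y * (W * a * W⁻¹) * Y⁻¹) by group]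
      exact (comp_commute (isComponent_cjS hJ.comp Y) hJ.comp hJ1ne (conj_mem_cjS haJ) hbJ).mul_left
        (comp_commute (isComponent_cjS (isComponent_cjS hJ.comp W) Y) hJ.comp hJ3ne
          (conj_mem_cjS (conj_mem_cjS haJ)) hbJ)
    have hb2 : Commute (W * a * W⁻¹)⁻¹ b := (cA hbJ (conj_mem_cjS haJ)).symm.inv_left
    rw [ha']
    exact hb1.mul_left hb2
  · refine hw ?_
    rw [← hWdef] at h
    rw [← h, hvz, htdef]
    have hn : ∀ (g : Qz z) (x : Qz z), x ∈ J → g * x * g⁻¹ ∈ normalizer (J : Set (Qz z)) :=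
      fun g x hx => component_le_normalizer (isComponent_cjS hJ.comp g) hJ.comp (conj_mem_cjS hx)
    have htN : t ∈ normalizer (J : Set (Qz z)) := mul_mem (le_normalizer haJ) (hn W a haJ)
    refine mul_mem (inv_mem htN) ?_
    rw [show Y * (a * (W * a * W⁻¹)) * Y⁻¹ =
      Y * a * Y⁻¹ * ((Y * W) * a * (Y * W)⁻¹) by group]
    exact mul_mem (hn Y a haJ) (hn (Y * W) a haJ)

/-- Outcome of a 2-element of `K` moving `J` while its square fixes it. -/
theorem config_of_moves (hJ : IsCls z J) (hK : IsCls w K) (hne : z ≠ w) {y : G}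
    (hyz : Commute y z) (hyK : cls w y ∈ K) {j : ℕ} (hj1 : 1 ≤ j) (hj : y ^ 2 ^ j = w)
    (hmove : cls z y ∉ normalizer (J : Set (Qz z)))
    (hsq : cls z y * cls z y ∈ normalizer (J : Set (Qz z))) : Config z w y J K := by
  obtain ⟨q, rfl⟩ : ∃ q, j = q + 1 := ⟨j - 1, by omega⟩
  have hyw : Commute y w := hj ▸ (Commute.refl y).pow_right _
  have hzw : Commute z w := hj ▸ hyz.symm.pow_right _
  set Y := cls z y with hY
  set U := Y * Y with hUdef
  set W := cls z w with hWdef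
  have hUW : U ^ 2 ^ q = W := by
    rw [hUdef, ← pow_two, ← pow_mul, ← pow_succ', hY, ← cls_pow hyz, hj]
  have hWW : W * W = 1 := by rw [← cls_mul hzw.symm hzw.symm, hK.sq, cls_one]
  have hU2 : TwoEl U := ⟨q + 1, by rw [pow_succ, pow_mul, hUW, pow_two, hWW]⟩
  have hy2el : TwoEl y := ⟨q + 1 + 1, by rw [pow_succ, pow_mul, hj, pow_two, hK.sq]⟩
  have hWJ : W ∈ normalizer (J : Set (Qz z)) := hUW ▸ pow_mem hsq _
  set J1 := cjS Y J with hJ1def
  have hJ1ne : J1 ≠ J := fun h => hmove (cjS_eq_iff.1 h)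
  have hJ1c := isComponent_cjS hJ.comp Y
  have hzne : cls z z ≠ W := by
    intro h
    have h1 : cls z (z * w) = 1 := by
      rw [cls_mul (Commute.refl z) hzw.symm, ← hWdef, ← h, hJ.zc_sq]
    have h2 := eq_one_of_cls ((Commute.refl z).mul_left hzw.symm)
      (TwoEl.mul (TwoEl.of_sq hJ.sq) (TwoEl.of_sq hK.sq) hzw) h1
    exact hne ((eq_inv_of_mul_eq_one_left h2).trans (inv_eq_of_mul_eq_one_right hK.sq))
  -- `W` does not centralise `J`
  have hWnc : ∃ b ∈ J, ¬ Commute W b := by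
    by_contra hcon
    push Not at hcon
    have hlift : ∀ d ∈ J, ∃ g, Commute g z ∧ Commute g w ∧ cls z g = d := fun d hd =>
      exists_cls_commute hK.sq hzw.symm (hcon d hd)
    have hcomm : ∀ a ∈ J, ∀ b ∈ J, Commute (Y * a * Y⁻¹) b := fun a ha b hb =>
      comp_commute hJ1c hJ.comp hJ1ne (conj_mem_cjS ha) hb
    obtain ⟨a, haJ, ha⟩ := hJ.exists_four
    obtain ⟨g, hgz, hgw, hgt, -, hgK⟩ :=
      fixing_lift hK hyz hyw hyK (IsComponent.perfect hJ.comp) hlift hcomm haJ (hJ.twoEl_of_four ha)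
    set v := g⁻¹ * y * g * y⁻¹ with hv
    have hvz : cls z v = a⁻¹ * (Y * a * Y⁻¹) := by
      rw [hv, cls_mul ((hgz.inv_left.mul_left hyz).mul_left hgz) hyz.inv_left,
        cls_mul (hgz.inv_left.mul_left hyz) hgz, cls_mul hgz.inv_left hyz, cls_inv hgz, cls_inv hyz,
        hgt, ← hY]
      group
    have hvK : cls w v ∈ K := by
      rw [hv, cls_mul ((hgw.inv_left.mul_left hyw).mul_left hgw) hyw.inv_left,
        cls_mul (hgw.inv_left.mul_left hyw) hgw, cls_mul hgw.inv_left hyw, cls_inv hgw,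
        cls_inv hyw]
      exact mul_mem ((mem_normalizer_iff''.1 hgK _).1 hyK) (inv_mem hyK)
    have hct : Commute (Y * a * Y⁻¹) a := hcomm _ haJ _ haJ
    have hv2 : cls z v * cls z v = 1 := by
      rw [hvz, hct.inv_right.mul_mul_mul_comm, ← mul_inv_rev, ha,
        show Y * a * Y⁻¹ * (Y * a * Y⁻¹) = Y * (a * a) * Y⁻¹ by group, ha, ← (zc_comm z Y).eq,
        mul_inv_cancel_right, inv_mul_cancel]
    obtain ⟨b, hbJ, hab⟩ := hJ.four_noncentral haJ ha
    have hYb : Commute (Y * a * Y⁻¹) b := hcomm _ haJ _ hbJ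
    have hvb : ¬ Commute (cls z v) b := fun h => by
      rw [hvz] at h
      have h' := h.mul_left hYb.inv_left
      rw [mul_inv_cancel_right] at h'
      exact hab (by simpa using h'.inv_left)
    rcases kinv hzw hK ((((hgz.inv_left).mul_left hyz).mul_left hgz).mul_left hyz.inv_left)
      ((((hgw.inv_left).mul_left hyw).mul_left hgw).mul_left hyw.inv_left) hvK hv2 with h | h
    · exact hvb (h ▸ Commute.one_left b)
    · exact hvb (h ▸ hcon b hbJ)
  -- an element `x` of a `U`-invariant Sylow subgroup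
  obtain ⟨x, hxJ, hx2, hxU, hxf⟩ :
      ∃ x ∈ J, TwoEl x ∧ ¬ Commute U x ∧ Commute U (x⁻¹ * (U * x * U⁻¹)) := by
    haveI : Fact (Nat.Prime 2) := ⟨Nat.prime_two⟩
    obtain ⟨S, hS⟩ := hJ.exists_sylow hsq hU2
    set Sm : Subgroup (Qz z) := (S : Subgroup J).map J.subtype
    have hne' : ∃ s ∈ Sm, ¬ Commute U s := by
      by_contra h
      push Not at h
      obtain ⟨b, hb, hWb⟩ := hWnc
      exact hWb (hJ.fixes_of_sylow hWW hWJ S
        (fun s hs => hUW ▸ (h _ ⟨s, hs, rfl⟩).pow_left _) b hb)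
    have hnorm : U ∈ normalizer (Sm : Set (Qz z)) := by
      haveI : Finite Sm := inferInstance
      refine mem_normalizer_iff.2 ?_
      have hsub : ∀ s ∈ Sm, U * s * U⁻¹ ∈ Sm := by
        rintro _ ⟨s, hs, rfl⟩
        obtain ⟨t, ht, htU⟩ := hS s hs
        exact ⟨t, ht, htU⟩
      have hmap : Sm.map (MulAut.conj U).toMonoidHom = Sm := by
        refine eq_of_le_of_card_ge (by rintro _ ⟨s, hs, rfl⟩; exact hsub s hs) ?_
        exact (Nat.card_congr (Sm.equivMapOfInjective _ (MulAut.conj U).injective).toEquiv).le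
      intro s
      refine ⟨hsub s, fun hs => ?_⟩
      rw [← hmap] at hs
      obtain ⟨s', hs', he⟩ := hs
      have he' : U * s' * U⁻¹ = U * s * U⁻¹ := he
      rw [← mul_left_cancel (mul_right_cancel he')]
      exact hs'
    obtain ⟨x, hx, h1, h2⟩ := exists_fixed_growth (S.isPGroup'.map _) hU2 hnorm hne'
    obtain ⟨k, hk⟩ := (S.isPGroup'.map J.subtype) ⟨x, hx⟩
    refine ⟨x, ?_, ⟨k, congrArg Subtype.val hk⟩, h1, h2⟩
    obtain ⟨s, -, rfl⟩ := hx
    exact s.2
  set f := x⁻¹ * (U * x * U⁻¹) with hfdef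
  have hUx : U * x * U⁻¹ = x * f := by rw [hfdef, mul_inv_cancel_left]
  have hfJ : f ∈ J := mul_mem (inv_mem hxJ) ((mem_normalizer_iff.1 hsq x).1 hxJ)
  have hfne : f ≠ 1 := fun h => hxU (by
    rw [h, mul_one] at hUx
    exact mul_inv_eq_iff_eq_mul.1 hUx)
  have hUk : ∀ k : ℕ, U ^ k * x * (U ^ k)⁻¹ = x * f ^ k := by
    intro k
    induction k with
    | zero => simp
    | succ k ih =>
        rw [pow_succ', show U * U ^ k * x * (U * U ^ k)⁻¹ = U * (U ^ k * x * (U ^ k)⁻¹) * U⁻¹ by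
          group, ih, show U * (x * f ^ k) * U⁻¹ = U * x * U⁻¹ * (U * f ^ k * U⁻¹) by group, hUx,
          (hxf.pow_right k).eq, mul_inv_cancel_right, mul_assoc, ← pow_succ']
  have hWx : W * x * W⁻¹ = x * f ^ 2 ^ q := by rw [← hUW]; exact hUk _
  have hfq : f ^ 2 ^ q * f ^ 2 ^ q = 1 := by
    have h := hUk (2 ^ q + 2 ^ q)
    rw [pow_add, hUW, hWW, inv_one, one_mul, mul_one, pow_add] at h
    exact mul_eq_left.1 h.symm
  have hf2 : TwoEl f := ⟨q + 1, by rw [pow_succ, pow_mul, pow_two, hfq]⟩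
  set X' := Y * x * Y⁻¹ with hX'
  have hxX' : Commute x X' :=
    (comp_commute hJ1c hJ.comp hJ1ne (conj_mem_cjS hxJ) hxJ).symm
  have hX'f : Commute X' f :=
    comp_commute hJ1c hJ.comp hJ1ne (conj_mem_cjS hxJ) hfJ
  have hWY : Commute W Y := by
    show _ * _ = _ * _
    rw [hWdef, hY, ← cls_mul hzw.symm hyz, ← cls_mul hyz hzw.symm, hyw.eq]
  have hWfix : Commute W (x * X') := by
    have h1 : W * X' * W⁻¹ = Y * (W * x * W⁻¹) * Y⁻¹ := by
      rw [hX', show W * (Y * x * Y⁻¹) * W⁻¹ = W * Y * x * (W * Y)⁻¹ by group, hWY.eq]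
      group
    have hfq' : Y * f ^ 2 ^ q * Y⁻¹ = f ^ 2 ^ q := by
      rcases hJ.uniq _ (pow_mem hfJ _) hfq with h | h <;> rw [h]
      · group
      · rw [← (zc_comm z Y).eq, mul_inv_cancel_right]
    refine mul_inv_eq_iff_eq_mul.1 ?_
    rw [show W * (x * X') * W⁻¹ = W * x * W⁻¹ * (W * X' * W⁻¹) by group, h1, hWx,
      show Y * (x * f ^ 2 ^ q) * Y⁻¹ = X' * (Y * f ^ 2 ^ q * Y⁻¹) by rw [hX']; group, hfq',
      mul_assoc x, ← mul_assoc (f ^ 2 ^ q) X', ← (hX'f.pow_right _).eq, mul_assoc X', hfq, mul_one]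
  obtain ⟨g, hgz, hgw, hgt⟩ := exists_cls_commute hK.sq hzw.symm hWfix
  set v := g⁻¹ * y * g * y⁻¹ with hv
  have hvcz : Commute v z := ((hgz.inv_left.mul_left hyz).mul_left hgz).mul_left hyz.inv_left
  have hvcw : Commute v w := ((hgw.inv_left.mul_left hyw).mul_left hgw).mul_left hyw.inv_left
  have hvz : cls z v = f := by
    rw [hv, cls_mul ((hgz.inv_left.mul_left hyz).mul_left hgz) hyz.inv_left,
      cls_mul (hgz.inv_left.mul_left hyz) hgz, cls_mul hgz.inv_left hyz, cls_inv hgz, cls_inv hyz,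
      hgt, ← hY, mul_assoc (x * X')⁻¹, mul_assoc (x * X')⁻¹]
    have h1 : Y * (x * X') * Y⁻¹ = x * X' * f := by
      rw [show Y * (x * X') * Y⁻¹ = X' * (Y * Y * x * (Y * Y)⁻¹) by rw [hX']; group, ← hUdef, hUx,
        ← mul_assoc, ← hxX'.eq]
    rw [h1, inv_mul_cancel_left]
  set y1 := (cls w g)⁻¹ * cls w y * cls w g with hy1
  have hvw : cls w v = y1 * (cls w y)⁻¹ := by
    rw [hv, cls_mul ((hgw.inv_left.mul_left hyw).mul_left hgw) hyw.inv_left,
      cls_mul (hgw.inv_left.mul_left hyw) hgw, cls_mul hgw.inv_left hyw, cls_inv hgw, cls_inv hyw]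
  set K1 := cjS (cls w g)⁻¹ K with hK1
  have hy1K1 : y1 ∈ K1 := by rw [mem_cjS, hy1]; simpa [mul_assoc] using hyK
  have hK1ne : K1 ≠ K := by
    intro hEq
    have hvK : cls w v ∈ K := by rw [hvw]; exact mul_mem (hEq ▸ hy1K1) (inv_mem hyK)
    obtain ⟨m, hmz⟩ : ∃ m : ℕ, f ^ m = cls z z := by
      obtain ⟨k, hk⟩ := hf2
      induction k with
      | zero => exact absurd (by simpa using hk) hfne
      | succ k ih =>
          rw [pow_succ, pow_mul, pow_two] at hk
          rcases hJ.uniq _ (pow_mem hfJ _) hk with h | h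
          · exact ih h
          · exact ⟨_, h⟩
    have h2 : cls z (v ^ m) = cls z z := by rw [cls_pow hvcz, hvz, hmz]
    rcases kinv hzw hK (hvcz.pow_left m) (hvcw.pow_left m)
      (by rw [cls_pow hvcw]; exact pow_mem hvK m) (by rw [h2, hJ.zc_sq]) with h | h
    · exact hJ.zc_ne (h2 ▸ h)
    · exact hzne (h2 ▸ h)
  have hcomK : Commute y1 (cls w y) :=
    comp_commute (isComponent_cjS hK.comp _) hK.comp hK1ne hy1K1 hyK
  have hcv : Commute (cls w y) (cls w v) := by
    rw [hvw]; exact hcomK.symm.mul_right (Commute.refl _).inv_right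
  have hfY : Y * f * Y⁻¹ = f := by
    have hcc : Commute f (Y * f * Y⁻¹) :=
      (comp_commute hJ1c hJ.comp hJ1ne (conj_mem_cjS hfJ) hfJ).symm
    have hz1 : cls z (v⁻¹ * (y * v * y⁻¹)) = f⁻¹ * (Y * f * Y⁻¹) := by
      rw [cls_mul hvcz.inv_left ((hyz.mul_left hvcz).mul_left hyz.inv_left), cls_inv hvcz,
        cls_conj hyz hvcz, hvz]
    have hw1 : cls w (v⁻¹ * (y * v * y⁻¹)) = 1 := by
      rw [cls_mul hvcw.inv_left ((hyw.mul_left hvcw).mul_left hyw.inv_left), cls_inv hvcw,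
        cls_conj hyw hvcw, hcv.eq, mul_inv_cancel_right, inv_mul_cancel]
    have h0 := cross (hvcz.inv_left.mul_left ((hyz.mul_left hvcz).mul_left hyz.inv_left))
      (hvcw.inv_left.mul_left ((hyw.mul_left hvcw).mul_left hyw.inv_left)) hw1
      (hz1 ▸ hf2.inv.mul (hf2.conj Y) hcc.inv_left)
    rw [hz1] at h0
    exact (eq_inv_of_mul_eq_one_right h0).trans (inv_inv f)
  have hfz : f = cls z z := by
    refine (hJ.two_inter hJ1c hJ1ne hfJ ?_ hf2).resolve_left hfne
    rw [← hfY]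
    exact conj_mem_cjS hfJ
  have hzK1 : cls w z = y1 * (cls w y)⁻¹ := by
    have hvz2 : Commute v z := hvcz
    have h1 : cls z (v * z) = 1 := by
      rw [cls_mul hvcz (Commute.refl z), hvz, hfz, hJ.zc_sq]
    have h2el : TwoEl (cls w y) := twoEl_cls hyw hy2el
    have h2 : TwoEl (cls w v) := by
      rw [hvw]
      refine TwoEl.mul ?_ h2el.inv hcomK.inv_right
      rw [hy1]
      simpa using h2el.conj (cls w g)⁻¹
    have hvzc : Commute (cls w v) (cls w z) := by
      show _ * _ = _ * _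
      rw [← cls_mul hvcw hzw, ← cls_mul hzw hvcw, hvz2.eq]
    have h3 : cls w (v * z) = 1 := by
      refine cross (hvcw.mul_left hzw) (hvcz.mul_left (Commute.refl z)) h1 ?_
      rw [cls_mul hvcw hzw]
      exact h2.mul (twoEl_cls hzw (TwoEl.of_sq hJ.sq)) hvzc
    rw [cls_mul hvcw hzw] at h3
    have hzi : (cls w z)⁻¹ = cls w z := inv_eq_of_mul_eq_one_right (by
      rw [← cls_mul hzw hzw, hJ.sq, cls_one])
    rw [← hvw, eq_inv_of_mul_eq_one_left h3, hzi]
  -- the square of `y` is `w`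
  have hq : q = 0 := by
    by_contra hq
    set k := cls w y * cls w y with hk
    have h1 : y1 * y1 = k := by
      have hzz : cls w z * cls w z = 1 := by rw [← cls_mul hzw hzw, hJ.sq, cls_one]
      rw [hzK1, hcomK.inv_right.symm.mul_mul_mul_comm, ← mul_inv_rev] at hzz
      exact (eq_inv_of_mul_eq_one_left hzz).trans (inv_inv k)
    have hk2 : TwoEl k := (twoEl_cls hyw hy2el).mul (twoEl_cls hyw hy2el) (Commute.refl _)
    rcases hK.two_inter (isComponent_cjS hK.comp _) hK1ne (mul_mem hyK hyK)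
      (show k ∈ K1 from h1 ▸ mul_mem hy1K1 hy1K1) hk2 with h | h
    · have : cls w (y ^ 2 ^ (q + 1)) = 1 := by
        rw [cls_pow hyw, pow_succ', pow_mul, pow_two, h, one_pow]
      rw [hj] at this
      exact hK.zc_ne this
    · have : cls w (y ^ 2 ^ (q + 1)) = 1 := by
        rw [cls_pow hyw, pow_succ', pow_mul, pow_two, h,
          show 2 ^ q = 2 * 2 ^ (q - 1) by rw [← pow_succ', Nat.sub_add_cancel (Nat.pos_of_ne_zero hq)],
          pow_mul, pow_two, hK.zc_sq, one_pow]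
      rw [hj] at this
      exact hK.zc_ne this
  subst hq
  have hy2 : y * y = w := by rw [← hj, pow_one, pow_two]
  refine ⟨hJ, hK, hzw, hne, hyz, hyK, hy2, hmove, hWJ, ⟨x, hxJ, ?_, hx2⟩,
    ⟨g, hgw, hgz, hK1ne, hzK1⟩⟩
  rw [hWx, pow_zero, pow_one, hfz]

/-- Moving 2-elements reduce to the configuration. -/
theorem normalizes_or_config (hJ : IsCls z J) (hK : IsCls w K) {y : G} (hyz : Commute y z)
    (hyK : cls w y ∈ K) {j : ℕ} (hj1 : 1 ≤ j) (hj : y ^ 2 ^ j = w)
    (hmove : cls z y ∉ normalizer (J : Set (Qz z))) : ∃ y', Config z w y' J K := by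
  by_cases hne : z = w
  · subst hne
    exact absurd (component_le_normalizer hK.comp hJ.comp hyK) hmove
  induction j generalizing y with
  | zero => omega
  | succ q ih =>
      by_cases hsq : cls z y * cls z y ∈ normalizer (J : Set (Qz z))
      · exact ⟨y, config_of_moves hJ hK hne hyz hyK hj1 hj hmove hsq⟩
      rcases Nat.eq_zero_or_pos q with hq | hq
      · subst hq
        rw [zero_add, pow_one, pow_two] at hj
        refine (no_moving_square hJ hK (hj ▸ hyz.symm.mul_right hyz.symm) hyz hj hyK ?_).elim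
        rwa [← hj, cls_mul hyz hyz]
      · have hyw : Commute y w := hj ▸ (Commute.refl y).pow_right _
        refine ih (y := y * y) (hyz.mul_left hyz) ?_ hq ?_ ?_
        · rw [cls_mul hyw hyw]; exact mul_mem hyK hyK
        · rw [← pow_two, ← pow_mul, ← pow_succ', hj]
        · rwa [cls_mul hyz hyz]

end Cfsg.Agent.Cls81
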