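import Mathlib
import Cfsg.Agent.Lib.Cls81Move
import Cfsg.Agent.Lib.Cls81Balance

/-!
The configuration left by `normalizes_or_config` is impossible: its transports between the
centralisers of `z`, `w` and one more involution contradict `L_{2'}`-balance.
-/

set_option autoImplicit false
set_option linter.style.haveILetI false

namespace Cfsg.Agent.Cls81

open Subgroup Cfsg
open scoped commutatorElement
open Cfsg.Agent.ComponentsBasic Cfsg.Agent.ComponentsP

universe u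

variable {G : Type u} [Group G]

/-- `g` fixes `K` in its action on `Qz w`. -/
def Fx {w : G} (K : Subgroup (Qz w)) (g : G) : Prop := cjS (cls w g) K = K

theorem cjS_inj {M : Type*} [Group M] {g : M} {L L' : Subgroup M} (h : cjS g L = cjS g L') :
    L = L' := by
  have h2 := congrArg (cjS g⁻¹) h
  rwa [← cjS_mul, ← cjS_mul, inv_mul_cancel, cjS_one, cjS_one] at h2

/-- Conjugation by an element fixing `p` and mapping `q` to `p * q` preserves `C(p) ∩ C(q)`. -/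
theorem conjM {p q t u : G} (hpq : Commute p q) (hp2 : p * p = 1) (hp : Commute t p)
    (hq : t * q * t⁻¹ = p * q) (hup : Commute u p) (huq : Commute u q) :
    Commute (t * u * t⁻¹) p ∧ Commute (t * u * t⁻¹) q := by
  have h1 : t * p * t⁻¹ = p := by rw [hp.eq, mul_inv_cancel_right]
  have h2 : t * (p * q) * t⁻¹ = q := by
    rw [show t * (p * q) * t⁻¹ = t * p * t⁻¹ * (t * q * t⁻¹) by group, h1, hq, ← mul_assoc, hp2,
      one_mul]
  exact ⟨commute_transport h1 hup, commute_transport h2 (hup.mul_right huq)⟩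

theorem conjM_inv {p q t : G} (hp2 : p * p = 1) (hp : Commute t p)
    (hq : t * q * t⁻¹ = p * q) : t⁻¹ * q * t⁻¹⁻¹ = p * q := by
  have h1 : t * p * t⁻¹ = p := by rw [hp.eq, mul_inv_cancel_right]
  have h2 : t * (p * q) * t⁻¹ = q := by
    rw [show t * (p * q) * t⁻¹ = t * p * t⁻¹ * (t * q * t⁻¹) by group, h1, hq, ← mul_assoc, hp2,
      one_mul]
  conv_lhs => rw [← h2]
  group

variable [Finite G] {z w y : G} {J : Subgroup (Qz z)} {K : Subgroup (Qz w)}

theorem vimg {g : G} (hg : Commute g z) (hy : Commute y z) :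
    cls z (g⁻¹ * y * g * y⁻¹) = (cls z g)⁻¹ * cls z y * cls z g * (cls z y)⁻¹ := by
  rw [cls_mul ((hg.inv_left.mul_left hy).mul_left hg) hy.inv_left,
    cls_mul (hg.inv_left.mul_left hy) hg, cls_mul hg.inv_left hy, cls_inv hg, cls_inv hy]

namespace Config

variable (C : Config z w y J K)
include C

theorem hyw : Commute y w := C.hy2 ▸ (Commute.refl y).mul_right (Commute.refl y)

theorem hYY : cls z y * cls z y = cls z w := by rw [← cls_mul C.hyz C.hyz, C.hy2]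

theorem hWW : cls z w * cls z w = 1 := by rw [← cls_mul C.hzw.symm C.hzw.symm, C.hK.sq, cls_one]

theorem hWne : cls z w ≠ 1 :=
  fun h => C.hK.ne (eq_one_of_cls C.hzw.symm (TwoEl.of_sq C.hK.sq) h)

theorem hWY : Commute (cls z w) (cls z y) := by
  rw [← C.hYY]; exact (Commute.refl _).mul_left (Commute.refl _)

theorem hzne : cls z z ≠ cls z w := by
  intro h
  have h1 : cls z (z * w) = 1 := by
    rw [cls_mul (Commute.refl z) C.hzw.symm, ← h, C.hJ.zc_sq]
  have h2 := eq_one_of_cls ((Commute.refl z).mul_left C.hzw.symm)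
    (TwoEl.mul (TwoEl.of_sq C.hJ.sq) (TwoEl.of_sq C.hK.sq) C.hzw) h1
  exact C.hne ((eq_inv_of_mul_eq_one_left h2).trans (inv_eq_of_mul_eq_one_right C.hK.sq))

/-- The second component at `w`, and the action of `C(z) ∩ C(w)` on the two. -/
theorem pairK : ∃ K1 : Subgroup (Qz w), ∃ y1 ∈ K1, IsCls w K1 ∧ K1 ≠ K ∧
    y1 * y1 = cls w w ∧ cls w z = y1 * (cls w y)⁻¹ ∧
    (∀ g, Commute g z → Commute g w → (cjS (cls w g) K = K ∨ cjS (cls w g) K = K1) ∧
      (cjS (cls w g) K1 = K ∨ cjS (cls w g) K1 = K1)) := by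
  obtain ⟨g0, hg0w, -, hne, hz⟩ := C.exK1
  set K1 := cjS (cls w g0)⁻¹ K with hK1
  set y1 := (cls w g0)⁻¹ * cls w y * cls w g0 with hy1
  have hy1K : y1 ∈ K1 := by rw [mem_cjS, hy1]; simpa [mul_assoc] using C.hyK
  have hyy : cls w y * cls w y = cls w w := by rw [← cls_mul C.hyw C.hyw, C.hy2]
  have hy11 : y1 * y1 = cls w w := by
    rw [hy1, show (cls w g0)⁻¹ * cls w y * cls w g0 * ((cls w g0)⁻¹ * cls w y * cls w g0) =
      (cls w g0)⁻¹ * (cls w y * cls w y) * cls w g0 by group, hyy, mul_assoc,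
      (zc_comm w (cls w g0)).eq, inv_mul_cancel_left]
  have hK1c := C.hK.conj (cls w g0)⁻¹
  refine ⟨K1, y1, hy1K, hK1c, hne, hy11, hz, fun g hgz hgw => ?_⟩
  have hgzc : Commute (cls w g) (cls w z) := by
    show _ * _ = _ * _
    rw [← cls_mul hgw C.hzw, ← cls_mul C.hzw hgw, hgz.eq]
  have main : ∀ L : Subgroup (Qz w), IsComponent L → (∃ b ∈ L, ¬ Commute (cls w z) b) →
      cjS (cls w g) L = K ∨ cjS (cls w g) L = K1 := by
    rintro L hL ⟨b, hb, hbz⟩
    by_contra h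
    push Not at h
    apply hbz
    have hmem : cls w g * b * (cls w g)⁻¹ ∈ cjS (cls w g) L := conj_mem_cjS hb
    have h1 : Commute (cls w z) (cls w g * b * (cls w g)⁻¹) := by
      rw [hz]
      exact (comp_commute hK1c.comp (isComponent_cjS hL _) (Ne.symm h.2) hy1K hmem).mul_left
        (comp_commute C.hK.comp (isComponent_cjS hL _) (Ne.symm h.1) C.hyK hmem).inv_left
    have h2 := (hgzc.inv_left.symm.mul_right h1).mul_right hgzc.symm
    rwa [show (cls w g)⁻¹ * (cls w g * b * (cls w g)⁻¹) * cls w g = b by group] at h2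
  refine ⟨main K C.hK.comp ?_, main K1 hK1c.comp ?_⟩
  · obtain ⟨b, hb, hby⟩ := C.hK.four_noncentral C.hyK hyy
    refine ⟨b, hb, fun h => hby ?_⟩
    rw [hz] at h
    have h1 := (comp_commute hK1c.comp C.hK.comp hne hy1K hb).inv_left.mul_left h
    rw [inv_mul_cancel_left] at h1
    simpa using h1.inv_left
  · obtain ⟨b, hb, hby⟩ := hK1c.four_noncentral hy1K hy11
    refine ⟨b, hb, fun h => hby ?_⟩
    rw [hz] at h
    have h1 := h.mul_left (comp_commute C.hK.comp hK1c.comp hne.symm C.hyK hb)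
    rwa [inv_mul_cancel_right] at h1

theorem fx_one : Fx K (1 : G) := by rw [Fx, cls_one, cjS_one]

theorem fx_y : Fx K y := cjS_eq_self C.hyK

theorem fx_mul {a b : G} (ha : Commute a z) (ha' : Commute a w) (hb : Commute b z)
    (hb' : Commute b w) : Fx K (a * b) ↔ (Fx K a ↔ Fx K b) := by
  obtain ⟨K1, y1, -, -, hne, -, -, hswap⟩ := C.pairK
  unfold Fx
  rw [cls_mul ha' hb', cjS_mul]
  rcases (hswap b hb hb').1 with h | h
  · rw [h]; simp
  · rw [h]
    simp only [hne, iff_false]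
    rcases (hswap a ha ha').1 with h' | h'
    · exact iff_of_false (fun e => hne (cjS_inj (e.trans h'.symm))) (not_not.2 h')
    · rcases (hswap a ha ha').2 with h'' | h''
      · exact iff_of_true h'' (fun e => hne (h'.symm.trans e))
      · exact absurd (cjS_inj (h''.trans h'.symm)) hne

theorem fx_inv {a : G} (ha : Commute a z) (ha' : Commute a w) : Fx K a⁻¹ ↔ Fx K a := by
  have h := C.fx_mul ha.inv_left ha'.inv_left ha ha'
  rw [inv_mul_cancel] at h
  exact h.1 C.fx_one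

theorem fx_odd {o : G} (ho : Commute o z) (ho' : Commute o w) (hodd : Odd (orderOf o)) :
    Fx K o := by
  obtain ⟨k, hk⟩ := hodd
  have h1 : o ^ (k + 1) * o ^ (k + 1) = o := by
    rw [← pow_add, show k + 1 + (k + 1) = (2 * k + 1) + 1 by ring, pow_succ, ← hk,
      pow_orderOf_eq_one, one_mul]
  rw [← h1, C.fx_mul (ho.pow_left _) (ho'.pow_left _) (ho.pow_left _) (ho'.pow_left _)]

/-- Conjugation by an element of `K` preserves fixing. -/
theorem fx_kconj {k u : G} (hk : Commute k w) (hkK : cls w k ∈ K) (hu : Commute u z)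
    (hu' : Commute u w) : Fx K (k * u * k⁻¹) ↔ Fx K u := by
  obtain ⟨K1, y1, -, hK1, -, -, -, hswap⟩ := C.pairK
  unfold Fx
  rw [cls_conj hk hu', cjS_mul, cjS_mul, cjS_eq_self (inv_mem hkK)]
  rcases (hswap u hu hu').1 with h | h <;> rw [h]
  · rw [cjS_eq_self hkK]
  · rw [normalizes_of_component hK1.comp C.hK.comp hkK]

/-- The δ-lemma. -/
theorem delta {g : G} (hgz : Commute g z) (hgw : Commute g w)
    (h2 : cls z (g⁻¹ * y * g * y⁻¹) * cls z (g⁻¹ * y * g * y⁻¹) = 1) :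
    (Fx K g ∧ (cls z (g⁻¹ * y * g * y⁻¹) = 1 ∨ cls z (g⁻¹ * y * g * y⁻¹) = cls z w)) ∨
      (¬ Fx K g ∧ (cls z (g⁻¹ * y * g * y⁻¹) = cls z z ∨
        cls z (g⁻¹ * y * g * y⁻¹) = cls z z * cls z w)) := by
  set v := g⁻¹ * y * g * y⁻¹ with hv
  have hvz : Commute v z := ((hgz.inv_left.mul_left C.hyz).mul_left hgz).mul_left C.hyz.inv_left
  have hvw : Commute v w := ((hgw.inv_left.mul_left C.hyw).mul_left hgw).mul_left C.hyw.inv_left
  set Gw := cls w g with hGw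
  have hvcls : cls w v = Gw⁻¹ * cls w y * Gw * (cls w y)⁻¹ := by
    rw [hv, cls_mul ((hgw.inv_left.mul_left C.hyw).mul_left hgw) C.hyw.inv_left,
      cls_mul (hgw.inv_left.mul_left C.hyw) hgw, cls_mul hgw.inv_left C.hyw, cls_inv hgw,
      cls_inv C.hyw]
  by_cases hfx : Fx K g
  · refine Or.inl ⟨hfx, kinv C.hzw C.hK hvz hvw ?_ h2⟩
    rw [hvcls]
    refine mul_mem ?_ (inv_mem C.hyK)
    exact (mem_normalizer_iff''.1 (cjS_eq_iff.1 hfx) _).1 C.hyK
  refine Or.inr ⟨hfx, ?_⟩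
  obtain ⟨K1, y1, hy1, hK1, hne, hy11, hz, hswap⟩ := C.pairK
  have hgK : cjS Gw K = K1 := ((hswap g hgz hgw).1).resolve_left hfx
  have hgK1 : cjS Gw K1 = K := ((hswap g hgz hgw).2).resolve_right
    fun e => hne (cjS_inj (e.trans hgK.symm))
  set Yw := cls w y with hYw
  set B := Gw⁻¹ * Yw * Gw with hB
  set A := Gw⁻¹ * y1 * Gw with hA
  have hBK : B ∈ K1 := by
    have := C.hyK
    rw [← hgK1, mem_cjS] at this
    exact this
  have hAK : A ∈ K := by
    have := hy1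
    rw [← hgK, mem_cjS] at this
    exact this
  have hyy : Yw * Yw = cls w w := by rw [hYw, ← cls_mul C.hyw C.hyw, C.hy2]
  have cK : ∀ {p q : Qz w}, p ∈ K → q ∈ K1 → Commute p q := fun hp hq =>
    comp_commute C.hK.comp hK1.comp hne.symm hp hq
  have hzg : A * B⁻¹ = y1 * Yw⁻¹ := by
    rw [hA, hB, show Gw⁻¹ * y1 * Gw * (Gw⁻¹ * Yw * Gw)⁻¹ = Gw⁻¹ * (y1 * Yw⁻¹) * Gw by group, ← hz,
      mul_assoc, show cls w z * Gw = Gw * cls w z by
        rw [hGw, ← cls_mul C.hzw hgw, ← cls_mul hgw C.hzw, hgz.eq],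
      inv_mul_cancel_left]
  set ζ := A * Yw with hζ
  have hA' : A = y1 * B * Yw⁻¹ := by
    rw [mul_assoc, (cK (inv_mem C.hyK) hBK).symm.eq, ← mul_assoc, ← hzg, inv_mul_cancel_right]
  have hζ1 : ζ = y1 * B := by rw [hζ, hA', inv_mul_cancel_right]
  have hζK : ζ ∈ K := mul_mem hAK C.hyK
  have hζK1 : ζ ∈ K1 := hζ1 ▸ mul_mem hy1 hBK
  have hAY : Commute A Yw := by
    have h1 : Commute ζ Yw := (cK C.hyK hζK1).symm
    have h2' := h1.mul_left (Commute.refl Yw).inv_left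
    rwa [hζ, mul_inv_cancel_right] at h2'
  have hy4 : TwoEl Yw := C.hK.twoEl_of_four hyy
  have hy14 : TwoEl y1 := C.hK.twoEl_of_four hy11
  have hA2 : TwoEl A := by
    have := hy14.conj Gw⁻¹
    rwa [inv_inv] at this
  have hζc := C.hK.two_inter hK1.comp hne hζK hζK1 (hA2.mul hy4 hAY)
  have hwc : cls w w = y1 * y1 := hy11.symm
  have hBv : cls w v = B * Yw⁻¹ := hvcls
  have hww : cls w w * cls w w = 1 := C.hK.zc_sq
  have hB' : B = y1⁻¹ * ζ := by rw [hζ1, inv_mul_cancel_left]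
  have hy1i : y1⁻¹ = y1 * cls w w := inv_eq_of_mul_eq_one_right (by
    rw [← mul_assoc, hy11, hww])
  have hone : ∀ s ∈ ({1, cls w w} : Set (Qz w)), ∀ q : Qz w, Commute s q := by
    rintro s (rfl | rfl) q
    · exact Commute.one_left q
    · exact zc_comm w q
  have hcv : ∃ i : ℕ, cls w v = cls w z * cls w w ^ i := by
    rw [hBv, hB', hy1i]
    rcases hζc with e | e <;> rw [e]
    · exact ⟨1, by rw [mul_one, pow_one, hz, mul_assoc, (zc_comm w Yw⁻¹).eq, ← mul_assoc]⟩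
    · exact ⟨0, by rw [mul_assoc y1, hww, mul_one, pow_zero, mul_one, hz]⟩
  obtain ⟨i, hi⟩ := hcv
  have hwi : Commute (w ^ i) z := C.hzw.symm.pow_left i
  have hwi' : Commute (w ^ i) w := (Commute.refl w).pow_left i
  have hVW : Commute (cls z v) (cls z w) := by
    show _ * _ = _ * _
    rw [← cls_mul hvz C.hzw.symm, ← cls_mul C.hzw.symm hvz, hvw.eq]
  have h3 : cls z (v * z * w ^ i) = 1 := by
    refine cross ((hvz.mul_left (Commute.refl z)).mul_left hwi)
      ((hvw.mul_left C.hzw).mul_left hwi') ?_ ?_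
    · have hzz : cls w z * cls w z = 1 := by rw [← cls_mul C.hzw C.hzw, C.hJ.sq, cls_one]
      rw [cls_mul (hvw.mul_left C.hzw) hwi', cls_mul hvw C.hzw, cls_pow (Commute.refl w), hi,
        mul_assoc (cls w z), ((zc_comm w (cls w z)).pow_left i).eq, ← mul_assoc, hzz, one_mul,
        ← ((Commute.refl (cls w w)).mul_pow), hww, one_pow]
    · rw [cls_mul (hvz.mul_left (Commute.refl z)) hwi, cls_mul hvz (Commute.refl z),
        cls_pow C.hzw.symm]
      exact ((TwoEl.of_sq h2).mul (TwoEl.of_sq C.hJ.zc_sq) (zc_comm z _).symm).mul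
        ((TwoEl.of_sq C.hWW).pow i)
        ((hVW.pow_right i).mul_left ((zc_comm z (cls z w)).pow_right i))
  rw [cls_mul (hvz.mul_left (Commute.refl z)) hwi, cls_mul hvz (Commute.refl z),
    cls_pow C.hzw.symm, mul_assoc] at h3
  have h4 := eq_inv_of_mul_eq_one_left h3
  rcases Nat.even_or_odd i with ⟨j, rfl⟩ | ⟨j, rfl⟩
  · left
    rw [h4, pow_add, ← (Commute.refl (cls z w)).mul_pow, C.hWW, one_pow, mul_one,
      inv_eq_of_mul_eq_one_right C.hJ.zc_sq]
  · right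
    rw [h4, pow_succ, pow_mul, pow_two, C.hWW, one_pow, one_mul, mul_inv_rev,
      inv_eq_of_mul_eq_one_right C.hJ.zc_sq, inv_eq_of_mul_eq_one_right C.hWW]
    exact (zc_comm z _).symm

theorem not_fx {g : G} (hgz : Commute g z) (hgw : Commute g w)
    (h : cls z (g⁻¹ * y * g * y⁻¹) = cls z z) : ¬ Fx K g := by
  intro hf
  rcases C.delta hgz hgw (by rw [h, C.hJ.zc_sq]) with ⟨-, h1⟩ | ⟨h1, -⟩
  · rw [h] at h1
    exact h1.elim C.hJ.zc_ne C.hzne
  · exact h1 hf

/-- An element of order four in a component moved by `Y`. -/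
theorem four_eq {I : Subgroup (Qz z)} (hI : IsCls z I) (hmv : cjS (cls z y) I ≠ I) {a : G}
    (haz : Commute a z) (haw : Commute a w) (haI : cls z a ∈ I)
    (ha2 : cls z a * cls z a = cls z z) :
    (¬ Fx K a → cls z w = cls z a * (cls z y * cls z a * (cls z y)⁻¹)) ∧
      ∀ b, Commute (cls z a) b → Commute (cls z y * cls z a * (cls z y)⁻¹) b →
        Commute (cls z w) b := by
  set A := cls z a
  set Y := cls z y
  set A' := Y * A * Y⁻¹ with hA'
  have hA'I : A' ∈ cjS Y I := conj_mem_cjS haI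
  have hc : Commute A' A := comp_commute (isComponent_cjS hI.comp Y) hI.comp hmv hA'I haI
  have hA'2 : A' * A' = cls z z := by
    rw [hA', show Y * A * Y⁻¹ * (Y * A * Y⁻¹) = Y * (A * A) * Y⁻¹ by group, ha2,
      ← (zc_comm z Y).eq, mul_inv_cancel_right]
  have hAi : A⁻¹ = cls z z * A := inv_eq_of_mul_eq_one_left (by
    rw [mul_assoc, ha2, hI.zc_sq])
  have hv : cls z (a⁻¹ * y * a * y⁻¹) = A⁻¹ * A' := by rw [vimg haz C.hyz]; show A⁻¹ * Y * A * Y⁻¹ = _; rw [hA']; group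
  have hv2 : cls z (a⁻¹ * y * a * y⁻¹) * cls z (a⁻¹ * y * a * y⁻¹) = 1 := by
    rw [hv, hc.inv_right.mul_mul_mul_comm, ← mul_inv_rev, ha2, hA'2, inv_mul_cancel]
  have hnot : ∀ s, (s = 1 ∨ s = cls z z) → A⁻¹ * A' ≠ s := by
    intro s hs e
    have hA'e : A' = A * s := by rw [← e, mul_inv_cancel_left]
    have hmem : A' ∈ I := by
      rw [hA'e]
      refine mul_mem haI ?_
      rcases hs with rfl | rfl
      · exact one_mem I
      · exact hI.mem
    rcases hI.two_inter (isComponent_cjS hI.comp Y) hmv hmem hA'I (hI.twoEl_of_four hA'2) with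
      e' | e'
    · exact (hI.four_ne hA'2).1 e'
    · exact (hI.four_ne hA'2).2 e'
  rcases C.delta haz haw hv2 with ⟨hf, h⟩ | ⟨hf, h⟩ <;> rw [hv] at h
  · have h' := h.resolve_left (hnot 1 (Or.inl rfl))
    exact ⟨fun e => absurd hf e, fun b hb hb' => h' ▸ hb.inv_left.mul_left hb'⟩
  · have h' := h.resolve_left (hnot _ (Or.inr rfl))
    have hW : cls z w = A * A' := by
      calc cls z w = cls z z * (cls z z * cls z w) := by rw [← mul_assoc, hI.zc_sq, one_mul]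
        _ = cls z z * (A⁻¹ * A') := by rw [h']
        _ = A * A' := by
          rw [hAi, mul_assoc (cls z z) A, ← mul_assoc (cls z z), hI.zc_sq, one_mul]
    exact ⟨fun _ => hW, fun b hb hb' => hW ▸ hb.mul_left hb'⟩

/-- Elements of `J` negated by `W` square to the involution. -/
theorem x_sq {x : Qz z} (hx : x ∈ J) (hx2 : TwoEl x)
    (hWx : cls z w * x * (cls z w)⁻¹ = x * cls z z) : x * x = cls z z := by
  set W := cls z w with hW
  have hfix : W * (x * x) * W⁻¹ = x * x := by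
    rw [show W * (x * x) * W⁻¹ = W * x * W⁻¹ * (W * x * W⁻¹) by group, hWx,
      (zc_comm z x).mul_mul_mul_comm, C.hJ.zc_sq, mul_one]
  have hnot : ∀ s : Qz z, (∀ q, Commute s q) → x ≠ s := by
    intro s hs e
    rw [e, ← (hs W).eq, mul_inv_cancel_right] at hWx
    exact C.hJ.zc_ne (mul_eq_left.1 hWx.symm)
  by_contra hne
  have hne1 : x * x ≠ 1 := fun e => by
    rcases C.hJ.uniq x hx e with h | h
    · exact hnot 1 Commute.one_left h
    · exact hnot _ (zc_comm z) h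
  obtain ⟨e, heJ, he, hec, heW⟩ : ∃ e ∈ J, e * e = cls z z ∧ Commute e x ∧ Commute W e := by
    obtain ⟨k, hk⟩ := hx2
    have key : ∀ n : ℕ, ∀ q : Qz z, q ∈ J → Commute q x → Commute W q → q ≠ cls z z → q ≠ 1 →
        q ^ 2 ^ n = 1 → ∃ e ∈ J, e * e = cls z z ∧ Commute e x ∧ Commute W e := by
      intro n
      induction n with
      | zero => intro q _ _ _ _ h1 h2; exact absurd (by simpa using h2) h1
      | succ n ih =>
          intro q hq hc hcW hqz hq1 hqn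
          rw [pow_succ', pow_mul, pow_two] at hqn
          by_cases hqq : q * q = cls z z
          · exact ⟨q, hq, hqq, hc, hcW⟩
          refine ih _ (mul_mem hq hq) (hc.mul_left hc) (hcW.mul_right hcW) hqq ?_ hqn
          intro e
          rcases C.hJ.uniq q hq e with h | h
          · exact hq1 h
          · exact hqz h
    refine key k (x * x) (mul_mem hx hx) ((Commute.refl x).mul_left (Commute.refl x))
      (mul_inv_eq_iff_eq_mul.1 hfix) hne hne1 ?_
    rw [(Commute.refl x).mul_pow, hk, one_mul]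
  obtain ⟨a, haz, haw, hae⟩ := exists_cls_commute C.hK.sq C.hzw.symm heW
  have hmv : cjS (cls z y) J ≠ J := fun h => C.hmove (cjS_eq_iff.1 h)
  have h := (C.four_eq C.hJ hmv haz haw (hae ▸ heJ) (by rw [hae, he])).2 x (by rw [hae]; exact hec)
    (by
      rw [hae]
      exact comp_commute (isComponent_cjS C.hJ.comp _) C.hJ.comp hmv (conj_mem_cjS heJ) hx)
  rw [← hW] at h
  rw [h.eq, mul_inv_cancel_right] at hWx
  exact C.hJ.zc_ne (mul_eq_left.1 hWx.symm)

/-- The diagonal of `x` and its `Y`-conjugate. -/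
theorem pr_mul {a b : Qz z} (ha : a ∈ J) (hb : b ∈ J) :
    a * b * (cls z y * (a * b) * (cls z y)⁻¹) =
      a * (cls z y * a * (cls z y)⁻¹) * (b * (cls z y * b * (cls z y)⁻¹)) := by
  have hmv : cjS (cls z y) J ≠ J := fun h => C.hmove (cjS_eq_iff.1 h)
  have h1 : Commute b (cls z y * a * (cls z y)⁻¹) :=
    (comp_commute (isComponent_cjS C.hJ.comp _) C.hJ.comp hmv (conj_mem_cjS ha) hb).symm
  rw [show cls z y * (a * b) * (cls z y)⁻¹ =
    cls z y * a * (cls z y)⁻¹ * (cls z y * b * (cls z y)⁻¹) by group, mul_assoc a b,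
    ← mul_assoc b, h1.eq]
  group

/-- The pair `x X'` of a negated element does not fix `K`. -/
theorem negpair {x : Qz z} (hx : x ∈ J) (hWx : cls z w * x * (cls z w)⁻¹ = x * cls z z) {g : G}
    (hgz : Commute g z) (hgw : Commute g w) {c : Qz z} (hc : ∀ q, Commute c q)
    (hg : cls z g = x * (cls z y * x * (cls z y)⁻¹) * c) : ¬ Fx K g := by
  refine C.not_fx hgz hgw ?_
  have hmv : cjS (cls z y) J ≠ J := fun h => C.hmove (cjS_eq_iff.1 h)
  rw [vimg hgz C.hyz, hg]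
  set Y := cls z y with hY
  set X := Y * x * Y⁻¹ with hX
  have hxX : Commute x X :=
    (comp_commute (isComponent_cjS C.hJ.comp _) C.hJ.comp hmv (conj_mem_cjS hx) hx).symm
  have hYp : Y * (x * X) * Y⁻¹ = x * X * cls z z := by
    rw [show Y * (x * X) * Y⁻¹ = X * (Y * Y * x * (Y * Y)⁻¹) by rw [hX]; group, hY, C.hYY, hWx,
      ← mul_assoc, hxX.eq]
  calc (x * X * c)⁻¹ * Y * (x * X * c) * Y⁻¹
      = c⁻¹ * (x * X)⁻¹ * Y * (x * X) * (c * Y⁻¹) := by group
    _ = c⁻¹ * (x * X)⁻¹ * Y * (x * X) * (Y⁻¹ * c) := by rw [(hc Y⁻¹).eq]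
    _ = c⁻¹ * ((x * X)⁻¹ * (Y * (x * X) * Y⁻¹)) * c := by group
    _ = cls z z := by
      rw [hYp, inv_mul_cancel_left, mul_assoc, (zc_comm z c).eq, inv_mul_cancel_left]

/-- A conjugate of `y` by a lift of a negated element does not fix `K`. -/
theorem lift_not_fx {x : Qz z} (hx : x ∈ J) (hx2 : x * x = cls z z)
    (hWx : cls z w * x * (cls z w)⁻¹ = x * cls z z) {t : G} (htz : Commute t z)
    (htx : cls z t = x) (htw : t * w * t⁻¹ = z * w) : ¬ Fx K (t * y * t⁻¹) := by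
  obtain ⟨h1, h2⟩ := conjM C.hzw C.hJ.sq htz htw C.hyz C.hyw
  intro hf
  have hf' : Fx K (t * y * t⁻¹ * y⁻¹) := by
    rw [C.fx_mul h1 h2 C.hyz.inv_left C.hyw.inv_left, C.fx_inv C.hyz C.hyw]
    exact iff_of_true hf C.fx_y
  refine C.negpair hx hWx (h1.mul_left C.hyz.inv_left) (h2.mul_left C.hyw.inv_left) (zc_comm z) ?_
    hf'
  rw [cls_mul h1 C.hyz.inv_left, cls_conj htz C.hyz, cls_inv C.hyz, htx]
  have hxi : x⁻¹ = x * cls z z := inv_eq_of_mul_eq_one_right (by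
    rw [← mul_assoc, hx2, C.hJ.zc_sq])
  rw [hxi, mul_assoc, mul_assoc, mul_assoc, mul_assoc, mul_assoc, mul_assoc,
    (zc_comm z (cls z y)⁻¹).eq]

/-- One pass of the transports. -/
theorem pass {x : Qz z} (hx : x ∈ J) (hx2 : x * x = cls z z)
    (hWx : cls z w * x * (cls z w)⁻¹ = x * cls z z) :
    ∃ xt kt : G, Commute xt z ∧ cls z xt = x ∧ xt * w * xt⁻¹ = z * w ∧
      Commute kt w ∧ cls w kt ∈ K ∧ kt * z * kt⁻¹ = w * z ∧
      ∃ I : Subgroup (Qz z), IsCls z I ∧ cls z (kt * (xt * y * xt⁻¹) * kt⁻¹) ∈ I ∧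
        cls z (kt * (xt * y * xt⁻¹) * kt⁻¹) * cls z (kt * (xt * y * xt⁻¹) * kt⁻¹) = cls z z ∧
        cjS (cls z y) I ≠ I ∧
        cls z w = cls z (kt * (xt * y * xt⁻¹) * kt⁻¹) *
          (cls z y * cls z (kt * (xt * y * xt⁻¹) * kt⁻¹) * (cls z y)⁻¹) := by
  obtain ⟨xt, hxz, hxx, hxw⟩ := exists_lift_conj (x := x) C.hK.sq
    (b := z * w) (by rw [C.hzw.symm.mul_mul_mul_comm, C.hJ.sq, C.hK.sq, one_mul])
    C.hzw.symm ((Commute.refl z).mul_left C.hzw.symm) (by
      rw [cls_mul (Commute.refl z) C.hzw.symm]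
      calc x * cls z w * x⁻¹ = x * (cls z z * cls z z) * cls z w * x⁻¹ := by
            rw [C.hJ.zc_sq, mul_one]
        _ = x * cls z z * (cls z z * cls z w) * x⁻¹ := by group
        _ = cls z w * x * ((cls z w)⁻¹ * (cls z z * cls z w) * x⁻¹) := by rw [← hWx]; group
        _ = cls z z * cls z w := by
          rw [← mul_assoc (cls z w)⁻¹, ← (zc_comm z (cls z w)⁻¹).eq, mul_assoc (cls z z),
            inv_mul_cancel, mul_one, mul_assoc, (zc_comm z x⁻¹).eq, ← mul_assoc x,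
            mul_inv_cancel, one_mul, (zc_comm z (cls z w)).eq])
  set Yw := cls w y with hYw
  have hyy : Yw * Yw = cls w w := by rw [hYw, ← cls_mul C.hyw C.hyw, C.hy2]
  obtain ⟨k, hkK, hk, -⟩ := C.hK.inverter C.hyK hyy
  rw [← hYw] at hk
  obtain ⟨K1, y1, hy1, hK1, hne, -, hz, -⟩ := C.pairK
  obtain ⟨kt, hkw, hkk, hkz⟩ := exists_lift_conj (x := k) C.hJ.sq
    (b := w * z) (by rw [C.hzw.mul_mul_mul_comm, C.hJ.sq, C.hK.sq, one_mul])
    C.hzw ((Commute.refl w).mul_left C.hzw) (by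
      rw [cls_mul (Commute.refl w) C.hzw, hz]
      have hky : Commute k y1 := comp_commute C.hK.comp hK1.comp hne.symm hkK hy1
      calc k * (y1 * Yw⁻¹) * k⁻¹ = y1 * (k * Yw * k⁻¹)⁻¹ := by
            rw [← mul_assoc k, hky.eq]; group
        _ = y1 * Yw := by rw [hk, inv_inv]
        _ = y1 * (Yw * Yw * Yw⁻¹) := by rw [mul_inv_cancel_right]
        _ = cls w w * (y1 * Yw⁻¹) := by
          rw [hyy, ← mul_assoc, ← (zc_comm w y1).eq, mul_assoc])
  obtain ⟨hf0z, hf0w⟩ := conjM C.hzw C.hJ.sq hxz hxw C.hyz C.hyw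
  set f0 := xt * y * xt⁻¹ with hf0
  obtain ⟨haw, haz⟩ := conjM C.hzw.symm C.hK.sq hkw hkz hf0w hf0z
  set a := kt * f0 * kt⁻¹ with ha
  set g2 := kt * xt with hg2
  have htz : g2 * w * g2⁻¹ = z := by
    rw [hg2, show kt * xt * w * (kt * xt)⁻¹ = kt * (xt * w * xt⁻¹) * kt⁻¹ by group, hxw,
      show kt * (z * w) * kt⁻¹ = kt * z * kt⁻¹ * (kt * w * kt⁻¹) by group, hkz,
      show kt * w * kt⁻¹ = w by rw [hkw.eq, mul_inv_cancel_right], C.hzw.symm.eq, mul_assoc,
      C.hK.sq, mul_one]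
  have ha' : a = g2 * y * g2⁻¹ := by rw [ha, hf0, hg2]; group
  set I := K.map (trans htz).toMonoidHom with hI
  have hIc := isCls_trans htz C.hK
  have haI : cls z a ∈ I := by
    rw [ha', ← trans_cls htz C.hyw]
    exact mem_map_of_mem _ C.hyK
  have ha2 : cls z a * cls z a = cls z z := by
    rw [← cls_mul haz haz, ha',
      show g2 * y * g2⁻¹ * (g2 * y * g2⁻¹) = g2 * (y * y) * g2⁻¹ by group, C.hy2, htz]
  -- `Y` moves `I`
  have hxi := conjM_inv C.hJ.sq hxz hxw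
  have hki := conjM_inv C.hK.sq hkw hkz
  obtain ⟨hpw, hpz⟩ := conjM C.hzw.symm C.hK.sq hkw.inv_left hki C.hyw C.hyz
  rw [inv_inv] at hpw hpz
  set o := kt⁻¹ * y * kt * y with ho
  have hoz : Commute o z := hpz.mul_left C.hyz
  have how : Commute o w := hpw.mul_left C.hyw
  have hood : Odd (orderOf o) := by
    refine odd_of_cls_eq_one how ?_
    rw [ho, cls_mul hpw C.hyw, cls_mul (hkw.inv_left.mul_left C.hyw) hkw,
      cls_mul hkw.inv_left C.hyw, cls_inv hkw, hkk, ← hYw]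
    have h1 : k⁻¹ * Yw⁻¹ * k = Yw := by rw [← hk]; group
    have h2 : k⁻¹ * Yw * k = Yw⁻¹ := by
      rw [← inv_inv (k⁻¹ * Yw * k), show (k⁻¹ * Yw * k)⁻¹ = k⁻¹ * Yw⁻¹ * k by group, h1]
    rw [h2, inv_mul_cancel]
  obtain ⟨hbz, hbw⟩ := conjM C.hzw C.hJ.sq hxz.inv_left hxi C.hyz C.hyw
  obtain ⟨hoz', how'⟩ := conjM C.hzw C.hJ.sq hxz.inv_left hxi hoz how
  have hf1 : ¬ Fx K (xt⁻¹ * y * xt⁻¹⁻¹) := by
    refine C.lift_not_fx (inv_mem hx) (by rw [← mul_inv_rev, hx2,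
      inv_eq_of_mul_eq_one_right C.hJ.zc_sq]) ?_ hxz.inv_left (by rw [cls_inv hxz, hxx]) hxi
    rw [show cls z w * x⁻¹ * (cls z w)⁻¹ = (cls z w * x * (cls z w)⁻¹)⁻¹ by group, hWx,
      mul_inv_rev, inv_eq_of_mul_eq_one_right C.hJ.zc_sq, (zc_comm z x⁻¹).eq]
  have hmv : cjS (cls z y) I ≠ I := by
    intro h
    have hy' : g2⁻¹ * y * g2 = xt⁻¹ * o * xt⁻¹⁻¹ * (xt⁻¹ * y * xt⁻¹⁻¹)⁻¹ := by
      rw [hg2, ho]; group
    have hgyw : Commute (g2⁻¹ * y * g2) w := hy' ▸ how'.mul_left hbw.inv_left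
    have h1 : cls z y = trans htz (cls w (g2⁻¹ * y * g2)) := by
      rw [trans_cls htz hgyw]
      congr 1
      group
    rw [h1, hI, cjS_map_eq_iff] at h
    have h2 : Fx K (g2⁻¹ * y * g2) := h
    rw [hy', C.fx_mul hoz' how' hbz.inv_left hbw.inv_left, C.fx_inv hbz hbw] at h2
    refine hf1 (h2.1 (C.fx_odd hoz' how' ?_))
    rwa [← MulAut.conj_apply, MulEquiv.orderOf_eq]
  refine ⟨xt, kt, hxz, hxx, hxw, hkw, hkk ▸ hkK, hkz, I, hIc, haI, ha2, hmv,
    (C.four_eq hIc hmv haz haw haI ha2).1 ?_⟩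
  rw [ha, C.fx_kconj hkw (hkk ▸ hkK) hf0z hf0w]
  exact C.lift_not_fx hx hx2 hWx hxz hxx hxw

/-- Components away from the pair commute with `W`. -/
theorem commute_away {I L : Subgroup (Qz z)} (hI : IsCls z I) (hL : IsComponent L) {A : Qz z}
    (hA : A ∈ I) (hW : cls z w = A * (cls z y * A * (cls z y)⁻¹)) (h1 : L ≠ I)
    (h2 : L ≠ cjS (cls z y) I) {b : Qz z} (hb : b ∈ L) : Commute (cls z w) b := by
  rw [hW]
  exact (comp_commute hI.comp hL (Ne.symm h1) hA hb).mul_left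
    (comp_commute (isComponent_cjS hI.comp _) hL (Ne.symm h2) (conj_mem_cjS hA) hb)

/-- `W` is the pair of an element of order four of `J`. -/
theorem exists_e : ∃ e ∈ J, e * e = cls z z ∧
    cls z w = e * (cls z y * e * (cls z y)⁻¹) := by
  obtain ⟨x, hx, hWx, hx2⟩ := C.exX
  obtain ⟨xt, kt, -, -, -, -, -, -, I, hI, hA, hA2, hmv, hW⟩ :=
    C.pass hx (C.x_sq hx hx2 hWx) hWx
  set A := cls z (kt * (xt * y * xt⁻¹) * kt⁻¹)
  by_cases hJI : J = I
  · exact ⟨A, hJI ▸ hA, hA2, hW⟩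
  have hJ' : J = cjS (cls z y) I := by
    by_contra h
    have hc := C.commute_away hI C.hJ.comp hA hW hJI h hx
    rw [hc.eq, mul_inv_cancel_right] at hWx
    exact C.hJ.zc_ne (mul_eq_left.1 hWx.symm)
  set A' := cls z y * A * (cls z y)⁻¹ with hA'
  refine ⟨A', hJ' ▸ conj_mem_cjS hA, ?_, ?_⟩
  · rw [hA', show cls z y * A * (cls z y)⁻¹ * (cls z y * A * (cls z y)⁻¹) =
      cls z y * (A * A) * (cls z y)⁻¹ by group, hA2, ← (zc_comm z _).eq, mul_inv_cancel_right]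
  · have hc : Commute A A' :=
      (comp_commute (isComponent_cjS hI.comp _) hI.comp hmv (conj_mem_cjS hA) hA).symm
    have hWA : Commute (cls z w) A := by rw [hW]; exact (Commute.refl A).mul_left hc.symm
    have h2 : cls z y * A' * (cls z y)⁻¹ = A := by
      rw [hA', show cls z y * (cls z y * A * (cls z y)⁻¹) * (cls z y)⁻¹ =
        cls z y * cls z y * A * (cls z y * cls z y)⁻¹ by group, C.hYY, hWA.eq,
        mul_inv_cancel_right]
    rw [h2, hW, hc.eq]

/-- No configuration. -/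
theorem false : False := by
  classical
  obtain ⟨e, heJ, he2, hWe⟩ := C.exists_e
  obtain ⟨r, hr, her⟩ := C.hJ.exists_negated_conj heJ he2
  have hmvJ : cjS (cls z y) J ≠ J := fun h => C.hmove (cjS_eq_iff.1 h)
  set Y := cls z y with hY
  set W := cls z w with hW
  set Z := cls z z with hZ
  have hWi : W⁻¹ = W := inv_eq_of_mul_eq_one_right C.hWW
  have hneg : ∀ s ∈ J, e * s * e⁻¹ = s * Z → W * s * W⁻¹ = s * Z := by
    intro s hs h
    have hc : Commute (Y * e * Y⁻¹) s :=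
      comp_commute (isComponent_cjS C.hJ.comp Y) C.hJ.comp hmvJ (conj_mem_cjS heJ) hs
    rw [hWe, show e * (Y * e * Y⁻¹) * s * (e * (Y * e * Y⁻¹))⁻¹ =
      e * ((Y * e * Y⁻¹) * s * (Y * e * Y⁻¹)⁻¹) * e⁻¹ by group, hc.eq, mul_inv_cancel_right, h]
  have hconj : ∀ s : Qz z, s * e * s⁻¹ * (s * e * s⁻¹) = Z := fun s => by
    rw [show s * e * s⁻¹ * (s * e * s⁻¹) = s * (e * e) * s⁻¹ by group, he2, ← (zc_comm z s).eq,
      mul_inv_cancel_right]
  set x0 := r * e * r⁻¹ with hx0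
  set x1 := r⁻¹ * e * r with hx1
  have hx0J : x0 ∈ J := mul_mem (mul_mem hr heJ) (inv_mem hr)
  have hx1J : x1 ∈ J := mul_mem (mul_mem (inv_mem hr) heJ) hr
  have hx02 : x0 * x0 = Z := hconj r
  have hWx0 : W * x0 * W⁻¹ = x0 * Z := hneg x0 hx0J her
  have hWx1 : W * x1 * W⁻¹ = x1 * Z := by
    refine hneg x1 hx1J ?_
    have h1 : x0 * e * x0⁻¹ = e * Z := by
      have h0 : e * x0 = x0 * Z * e := mul_inv_eq_iff_eq_mul.1 her
      calc x0 * e * x0⁻¹ = x0 * (Z * Z) * e * x0⁻¹ := by rw [C.hJ.zc_sq, mul_one]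
        _ = Z * (x0 * Z * e) * x0⁻¹ := by
          rw [← mul_assoc x0 Z Z, ← (zc_comm z (x0 * Z)).eq, ← hZ]; group
        _ = Z * (e * x0) * x0⁻¹ := by rw [h0]
        _ = e * Z := by rw [mul_assoc, mul_inv_cancel_right, (zc_comm z e).eq]
    calc e * x1 * e⁻¹ = r⁻¹ * (x0 * e * x0⁻¹) * r := by rw [hx0, hx1]; group
      _ = r⁻¹ * e * Z * r := by rw [h1]; group
      _ = x1 * Z := by rw [mul_assoc _ Z r, (zc_comm z r).eq, ← mul_assoc, hx1]
  obtain ⟨xt, kt, hxz, hxx, hxw, hkw, hkK, hkz, I, hI, haI, ha2, hmv, hWa⟩ :=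
    C.pass hx0J hx02 hWx0
  obtain ⟨hf0z, hf0w⟩ := conjM C.hzw C.hJ.sq hxz hxw C.hyz C.hyw
  set f0 := xt * y * xt⁻¹ with hf0
  obtain ⟨haw, haz⟩ := conjM C.hzw.symm C.hK.sq hkw hkz hf0w hf0z
  set a := kt * f0 * kt⁻¹ with ha
  set A := cls z a with hA
  rw [← hW] at hWa
  -- diagonal elements
  have pr1 : ∀ s ∈ J, s * (Y * s * Y⁻¹) * (s⁻¹ * (Y * s⁻¹ * Y⁻¹)) = 1 := fun s hs => by
    rw [← C.pr_mul hs (inv_mem hs), mul_inv_cancel]; group
  have prc : ∀ s ∈ J, s * (Y * s * Y⁻¹) * W * (s * (Y * s * Y⁻¹))⁻¹ =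
      s * e * s⁻¹ * (Y * (s * e * s⁻¹) * Y⁻¹) := fun s hs => by
    rw [inv_eq_of_mul_eq_one_right (pr1 s hs), hWe, ← C.pr_mul hs heJ,
      ← C.pr_mul (mul_mem hs heJ) (inv_mem hs)]
  set Rb := r * (Y * r * Y⁻¹) with hRb
  obtain ⟨R0, hR0z, hR0⟩ := exists_cls z Rb
  have hm0z : Commute (R0 * w * R0⁻¹) z := (hR0z.mul_left C.hzw.symm).mul_left hR0z.inv_left
  have hm0cls : cls z (R0 * w * R0⁻¹) = x0 * (Y * x0 * Y⁻¹) := by
    rw [cls_conj hR0z C.hzw.symm, hR0, hRb, ← hW]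
    exact prc r hr
  have hx0X : Commute x0 (Y * x0 * Y⁻¹) :=
    (comp_commute (isComponent_cjS C.hJ.comp Y) C.hJ.comp hmvJ (conj_mem_cjS hx0J) hx0J).symm
  have hWP : W * (x0 * (Y * x0 * Y⁻¹)) * W⁻¹ = x0 * (Y * x0 * Y⁻¹) := by
    have hYW : W * Y = Y * W := C.hWY.eq
    have h1 : W * (Y * x0 * Y⁻¹) * W⁻¹ = Y * (W * x0 * W⁻¹) * Y⁻¹ := by
      rw [show W * (Y * x0 * Y⁻¹) * W⁻¹ = W * Y * x0 * (W * Y)⁻¹ by group, hYW]
      group
    rw [show W * (x0 * (Y * x0 * Y⁻¹)) * W⁻¹ = W * x0 * W⁻¹ * (W * (Y * x0 * Y⁻¹) * W⁻¹) by group,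
      h1, hWx0, show Y * (x0 * Z) * Y⁻¹ = Y * x0 * Y⁻¹ * (Y * Z * Y⁻¹) by group,
      show Y * Z * Y⁻¹ = Z by rw [← (zc_comm z Y).eq, mul_inv_cancel_right], mul_assoc x0 Z,
      ← mul_assoc Z, (zc_comm z (Y * x0 * Y⁻¹)).eq, mul_assoc (Y * x0 * Y⁻¹) Z Z, C.hJ.zc_sq,
      mul_one]
  have hm0sq : R0 * w * R0⁻¹ * (R0 * w * R0⁻¹) = 1 := by
    rw [show R0 * w * R0⁻¹ * (R0 * w * R0⁻¹) = R0 * (w * w) * R0⁻¹ by group, C.hK.sq]
    group
  have hodd : Odd (orderOf ((w * (R0 * w * R0⁻¹)) * (w * (R0 * w * R0⁻¹)))) := by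
    refine odd_of_cls_eq_one ((C.hzw.symm.mul_left hm0z).mul_left (C.hzw.symm.mul_left hm0z)) ?_
    rw [cls_mul (C.hzw.symm.mul_left hm0z) (C.hzw.symm.mul_left hm0z), cls_mul C.hzw.symm hm0z,
      hm0cls, ← hW, ← mul_assoc, mul_assoc W (x0 * _) W,
      show x0 * (Y * x0 * Y⁻¹) * W = W * (x0 * (Y * x0 * Y⁻¹)) from
        (mul_inv_eq_iff_eq_mul.1 hWP).symm, mul_assoc, mul_assoc, ← mul_assoc W W, C.hWW, one_mul,
      ← hm0cls, ← cls_mul hm0z hm0z, hm0sq, cls_one]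
  obtain ⟨o, ho, how⟩ := commute_of_congr C.hK.sq hm0sq hodd
  have hoz : Commute o z := by
    obtain ⟨i, rfl⟩ := ho
    exact ((C.hzw.symm.mul_left hm0z).mul_left (C.hzw.symm.mul_left hm0z)).zpow_left i
  have hocls : cls z o = 1 := by
    obtain ⟨i, rfl⟩ := ho
    have hc := (C.hzw.symm.mul_left hm0z).mul_left (C.hzw.symm.mul_left hm0z)
    have h1 : cls z ((w * (R0 * w * R0⁻¹)) * (w * (R0 * w * R0⁻¹))) = 1 := by
      rw [cls_mul (C.hzw.symm.mul_left hm0z) (C.hzw.symm.mul_left hm0z), cls_mul C.hzw.symm hm0z,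
        hm0cls, ← hW, ← mul_assoc, mul_assoc W (x0 * _) W,
        show x0 * (Y * x0 * Y⁻¹) * W = W * (x0 * (Y * x0 * Y⁻¹)) from
          (mul_inv_eq_iff_eq_mul.1 hWP).symm, mul_assoc, mul_assoc, ← mul_assoc W W, C.hWW,
        one_mul, ← hm0cls, ← cls_mul hm0z hm0z, hm0sq, cls_one]
    rw [cls_eq hc] at h1
    rw [cls_eq (hc.zpow_left i)]
    exact (map_zpow _ (⟨_, mem_Cz hc⟩ : Cz z) i).trans (by rw [h1, one_zpow])
  set R := o * R0 with hR
  have hRz : Commute R z := hoz.mul_left hR0z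
  have hRcls : cls z R = Rb := by rw [hR, cls_mul hoz hR0z, hocls, one_mul, hR0]
  set m := R * w * R⁻¹ with hm
  have hmw : Commute m w := by
    rw [hm, hR, show o * R0 * w * (o * R0)⁻¹ = o * (R0 * w * R0⁻¹) * o⁻¹ by group]
    exact how.symm
  have hmz : Commute m z := (hRz.mul_left C.hzw.symm).mul_left hRz.inv_left
  have hmcls : cls z m = x0 * (Y * x0 * Y⁻¹) := by
    rw [hm, cls_conj hRz C.hzw.symm, hRcls, hRb, ← hW]
    exact prc r hr
  set m2 := R⁻¹ * w * R with hm2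
  have hm2z : Commute m2 z := (hRz.inv_left.mul_left C.hzw.symm).mul_left hRz
  have hm2w : Commute m2 w := by
    have h := (hmw.map (MulAut.conj R⁻¹).toMonoidHom).symm
    simp only [MulEquiv.coe_toMonoidHom, MulAut.conj_apply, inv_inv] at h
    rwa [hm, show R⁻¹ * (R * w * R⁻¹) * R = w by group, ← hm2] at h
  have hm2fx : ¬ Fx K m2 := by
    refine C.negpair hx1J hWx1 hm2z hm2w (c := 1) Commute.one_left ?_
    rw [mul_one, hm2, cls_mul (hRz.inv_left.mul_left C.hzw.symm) hRz,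
      cls_mul hRz.inv_left C.hzw.symm, cls_inv hRz, hRcls, hRb, ← hW]
    have h := prc r⁻¹ (inv_mem hr)
    rw [inv_inv] at h
    rw [← hY, inv_eq_of_mul_eq_one_right (pr1 r hr), ← h]
    congr 1
    rw [inv_eq_of_mul_eq_one_left (pr1 r hr)]
  -- the third involution
  obtain ⟨hdw, hdz⟩ := conjM C.hzw.symm C.hK.sq hkw hkz hmw hmz
  set d := kt * m * kt⁻¹ with hd
  have hd2 : d * d = 1 := by
    rw [hd, hm, show kt * (R * w * R⁻¹) * kt⁻¹ * (kt * (R * w * R⁻¹) * kt⁻¹) =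
      kt * R * (w * w) * R⁻¹ * kt⁻¹ by group, C.hK.sq]
    group
  set D := cls z d with hD
  have hDD : D * D = 1 := by rw [hD, ← cls_mul hdz hdz, hd2, cls_one]
  have hDW : Commute D W := by
    show _ * _ = _ * _
    rw [hD, hW, ← cls_mul hdz C.hzw.symm, ← cls_mul C.hzw.symm hdz, hdw.eq]
  -- the commutator of `a` and `d`
  have hc0z : Commute (f0 * m * f0⁻¹ * m⁻¹ * z) z :=
    (((hf0z.mul_left hmz).mul_left hf0z.inv_left).mul_left hmz.inv_left).mul_left (Commute.refl z)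
  have hc0w : Commute (f0 * m * f0⁻¹ * m⁻¹ * z) w :=
    (((hf0w.mul_left hmw).mul_left hf0w.inv_left).mul_left hmw.inv_left).mul_left C.hzw
  have hc0 : Odd (orderOf (f0 * m * f0⁻¹ * m⁻¹ * z)) := by
    refine odd_of_cls_eq_one hc0z ?_
    rw [cls_mul (((hf0z.mul_left hmz).mul_left hf0z.inv_left).mul_left hmz.inv_left)
        (Commute.refl z),
      cls_mul ((hf0z.mul_left hmz).mul_left hf0z.inv_left) hmz.inv_left,
      cls_mul (hf0z.mul_left hmz) hf0z.inv_left, cls_mul hf0z hmz, cls_inv hf0z, cls_inv hmz,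
      hmcls, hf0, cls_conj hxz C.hyz, hxx, ← hY, ← hZ]
    set X := Y * x0 * Y⁻¹ with hX
    have hYp : Y * (x0 * X) * Y⁻¹ = x0 * X * Z := by
      rw [show Y * (x0 * X) * Y⁻¹ = X * (Y * Y * x0 * (Y * Y)⁻¹) by rw [hX]; group, hY, C.hYY,
        ← hW, hWx0, ← mul_assoc, hx0X.eq]
    have h1 : x0 * Y * x0⁻¹ * (x0 * X) * (x0 * Y * x0⁻¹)⁻¹ = x0 * X * Z := by
      calc x0 * Y * x0⁻¹ * (x0 * X) * (x0 * Y * x0⁻¹)⁻¹
          = x0 * (Y * (X * x0) * Y⁻¹) * x0⁻¹ := by group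
        _ = x0 * (x0 * X * Z) * x0⁻¹ := by rw [← hx0X.eq, hYp]
        _ = x0 * x0 * (X * (Z * x0⁻¹)) := by group
        _ = x0 * x0 * (X * x0⁻¹) * Z := by
          rw [show Z * x0⁻¹ = x0⁻¹ * Z from (zc_comm z x0⁻¹).eq]; group
        _ = x0 * X * Z := by
          rw [← (hx0X.inv_left).eq, ← mul_assoc, mul_inv_cancel_right]
    rw [h1, mul_assoc (x0 * X) Z, (zc_comm z (x0 * X)⁻¹).eq, ← mul_assoc, mul_inv_cancel, one_mul,
      C.hJ.zc_sq]
  have hc1 : kt * (f0 * m * f0⁻¹ * m⁻¹ * z) * kt⁻¹ = a * d * a⁻¹ * d⁻¹ * (w * z) := by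
    rw [← hkz, ha, hd]; group
  have hc1z : Commute (a * d * a⁻¹ * d⁻¹) z :=
    ((haz.mul_left hdz).mul_left haz.inv_left).mul_left hdz.inv_left
  have hp : Odd (orderOf (A * D * A⁻¹ * D⁻¹ * (W * Z))) := by
    have h1 : Odd (orderOf (a * d * a⁻¹ * d⁻¹ * (w * z))) := by
      rw [← hc1, ← MulAut.conj_apply, MulEquiv.orderOf_eq]
      exact hc0
    have h2 := odd_cls (hc1z.mul_left (C.hzw.symm.mul_left (Commute.refl z))) h1
    rwa [cls_mul hc1z (C.hzw.symm.mul_left (Commute.refl z)),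
      cls_mul ((haz.mul_left hdz).mul_left haz.inv_left) hdz.inv_left,
      cls_mul (haz.mul_left hdz) haz.inv_left, cls_mul haz hdz, cls_inv haz, cls_inv hdz,
      cls_mul C.hzw.symm (Commute.refl z), ← hA, ← hD, ← hW, ← hZ] at h2
  set I' := cjS Y I with hI'def
  set A' := Y * A * Y⁻¹ with hA'
  have hA'I : A' ∈ I' := conj_mem_cjS haI
  have hI' := hI.conj Y
  have cI : ∀ {p q : Qz z}, p ∈ I → q ∈ I' → Commute p q := fun hp hq =>
    comp_commute hI.comp hI'.comp (Ne.symm hmv) hp hq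
  have hA'2 : A' * A' = Z := by
    rw [hA', show Y * A * Y⁻¹ * (Y * A * Y⁻¹) = Y * (A * A) * Y⁻¹ by group, ha2,
      ← (zc_comm z Y).eq, mul_inv_cancel_right]
  have hZA : W * Z = A * Z * A' := by
    rw [hWa, mul_assoc A A' Z, ← (zc_comm z A').eq, ← mul_assoc]
  have hDi : D⁻¹ = D := inv_eq_of_mul_eq_one_right hDD
  -- `D` interchanges `I` and `I'`
  have hDI : cjS D I = I' := by
    have h0 : cjS D I = I ∨ cjS D I = I' := by
      by_contra h
      push Not at h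
      obtain ⟨b, hb, hbA⟩ := hI.four_noncentral haI ha2
      have hbA' : Commute A' b := (cI hb hA'I).symm
      have h1 := C.commute_away hI (isComponent_cjS hI.comp D) haI hWa h.1 h.2
        (conj_mem_cjS (g := D) hb)
      rw [← hW] at h1
      have h2 : Commute W b := by
        have h3 := (hDW.symm.inv_right.mul_right h1).mul_right hDW.symm
        rwa [show D⁻¹ * (D * b * D⁻¹) * D = b by group] at h3
      have h3 := h2.mul_left hbA'.inv_left
      rw [hWa, mul_inv_cancel_right] at h3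
      exact hbA h3
    refine h0.resolve_left fun hfix => ?_
    have hPI : A * (D * A⁻¹ * D⁻¹) * (A * Z) ∈ I :=
      mul_mem (mul_mem haI (hfix ▸ conj_mem_cjS (inv_mem haI))) (mul_mem haI hI.mem)
    have hpe : A * D * A⁻¹ * D⁻¹ * (W * Z) = A * (D * A⁻¹ * D⁻¹) * (A * Z) * A' := by
      rw [hZA]; group
    rw [hpe] at hp
    set P := A * (D * A⁻¹ * D⁻¹) * (A * Z)
    set n := orderOf (P * A') with hn
    have h1 : P ^ n * A' ^ n = 1 := by rw [← (cI hPI hA'I).mul_pow, hn, pow_orderOf_eq_one]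
    have h2 : A' ^ n ∈ I := by
      rw [eq_inv_of_mul_eq_one_right h1]
      exact inv_mem (pow_mem hPI n)
    have h3 : A' ^ (n * n) = A' := by
      refine pow_eq_self_of_modEq (k := 2) ?_ ?_
      · rw [show (2 : ℕ) ^ 2 = 2 + 2 by norm_num, pow_add, pow_two, hA'2]
        exact C.hJ.zc_sq
      · have := odd_pow_modEq (m := 1) hp
        rw [pow_one, show n ^ 2 = n * n from pow_two n] at this
        exact this
    have h4 : A' ∈ I := by rw [← h3, pow_mul]; exact pow_mem h2 n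
    rcases hI.two_inter hI'.comp hmv h4 hA'I (hI.twoEl_of_four hA'2) with h | h
    · exact (hI.four_ne hA'2).1 h
    · exact (hI.four_ne hA'2).2 h
  set E := D * A * D⁻¹ with hE
  have hEI : E ∈ I' := hDI ▸ conj_mem_cjS haI
  have hDI' : cjS D I' = I := by rw [← hDI, ← cjS_mul, hDD, cjS_one]
  set B := D * A' * D⁻¹ with hB
  have hBI : B ∈ I := hDI' ▸ conj_mem_cjS hA'I
  have hE2 : E * E = Z := by
    rw [hE, show D * A * D⁻¹ * (D * A * D⁻¹) = D * (A * A) * D⁻¹ by group, ha2,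
      ← (zc_comm z D).eq, mul_inv_cancel_right]
  have hEA : E = A' := by
    have h1 : A * A' = B * E := by
      rw [(cI hBI hEI).eq, hE, hB,
        show D * A * D⁻¹ * (D * A' * D⁻¹) = D * (A * A') * D⁻¹ by group, ← hWa, hDW.eq,
        mul_inv_cancel_right]
    have h2 : B⁻¹ * A = E * A'⁻¹ := by
      rw [eq_mul_inv_iff_mul_eq, mul_assoc, h1, inv_mul_cancel_left]
    have h3 : Commute (E * A'⁻¹) E := h2 ▸ cI (mul_mem (inv_mem hBI) haI) hEI
    have h4 : Commute A'⁻¹ E := by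
      have := (Commute.refl E).inv_left.mul_left h3
      rwa [inv_mul_cancel_left] at this
    have h5 : A * D * A⁻¹ * D⁻¹ * (W * Z) = E⁻¹ * A' := by
      rw [hZA, show A * D * A⁻¹ * D⁻¹ * (A * Z * A') = A * (E⁻¹ * A) * (Z * A') by rw [hE]; group,
        ← ((cI haI hEI).inv_right).eq, ← mul_assoc A, ha2, mul_assoc Z, (zc_comm z A').eq,
        ← mul_assoc E⁻¹, (zc_comm z (E⁻¹ * A' * Z)).eq, mul_assoc (E⁻¹ * A'), C.hJ.zc_sq, mul_one]
    rw [h5] at hp
    have h6 : Commute E⁻¹ A' := by simpa using h4.inv_left.inv_right.symm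
    exact inv_mul_eq_one.1
      (((hI.twoEl_of_four hE2).inv.mul (hI.twoEl_of_four hA'2) h6).eq_one hp)
  -- balance
  have hDmem : ∀ i ∈ I, D * i * D⁻¹ ∈ I' := fun i hi => by rw [← hDI]; exact conj_mem_cjS hi
  let δ : I →* Qz z := MonoidHom.mk' (fun i => (i : Qz z) * (D * (i : Qz z) * D⁻¹)) fun p q => by
    have h1 : Commute (q : Qz z) (D * (p : Qz z) * D⁻¹) := cI q.2 (hDmem _ p.2)
    show (p : Qz z) * q * (D * ((p : Qz z) * q) * D⁻¹) = _
    rw [show D * ((p : Qz z) * q) * D⁻¹ = D * (p : Qz z) * D⁻¹ * (D * q * D⁻¹) by group,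
      mul_assoc (p : Qz z) q, ← mul_assoc (q : Qz z), h1.eq]
    group
  have hWmem : W ∈ δ.range := ⟨⟨A, haI⟩, by
    show A * (D * A * D⁻¹) = W
    rw [← hE, hEA, hWa]⟩
  have hle : δ.range ≤ centralizer ({D} : Set (Qz z)) := by
    rintro _ ⟨i, rfl⟩
    rw [mem_centralizer_singleton_iff]
    show (i : Qz z) * (D * i * D⁻¹) * D = D * ((i : Qz z) * (D * i * D⁻¹))
    have h1 : Commute (i : Qz z) (D * i * D⁻¹) := cI i.2 (hDmem _ i.2)
    conv_lhs => rw [h1.eq]
    rw [hDi]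
    simp only [mul_assoc, ← mul_assoc D D, hDD, one_mul, mul_one]
  have hlay : δ.range ≤ layer (Qz z) := by
    rintro _ ⟨i, rfl⟩
    exact mul_mem (component_le_layer hI.comp i.2)
      (component_le_layer hI'.comp (hDmem _ i.2))
  set Cd := centralizer ({D} : Set (Qz z)) with hCd
  have hcomp : IsComponent (δ.range.subgroupOf Cd) := by
    refine ⟨?_, ?_⟩
    · haveI : (layer (Qz z)).Normal := inferInstance
      refine isSubnormal_of_le_normalizer (K := (layer (Qz z)).subgroupOf Cd) (comap_mono hlay)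
        (Normal.isSubnormal inferInstance) ?_
      have hstep : ∀ s : Cd, (s : Qz z) ∈ layer (Qz z) → ∀ t : Cd, (t : Qz z) ∈ δ.range →
          ((s * t * s⁻¹ : Cd) : Qz z) ∈ δ.range := by
        rintro s hs t ⟨i, hi⟩
        have hsI : (s : Qz z) * i * (s : Qz z)⁻¹ ∈ I :=
          (mem_normalizer_iff.1 (layer_le_normalizer_component hI.comp hs) _).1 i.2
        refine ⟨⟨_, hsI⟩, ?_⟩
        show (s : Qz z) * i * (s : Qz z)⁻¹ * (D * ((s : Qz z) * i * (s : Qz z)⁻¹) * D⁻¹) =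
          (s : Qz z) * (t : Qz z) * (s : Qz z)⁻¹
        have hsD : Commute (s : Qz z) D := mem_centralizer_singleton_iff.1 s.2
        rw [← hi]
        show _ = (s : Qz z) * ((i : Qz z) * (D * i * D⁻¹)) * (s : Qz z)⁻¹
        rw [show D * ((s : Qz z) * i * (s : Qz z)⁻¹) * D⁻¹ =
          D * s * i * (D * s)⁻¹ by group, ← hsD.eq]
        group
      intro s hs
      rw [mem_normalizer_iff]
      intro t
      refine ⟨hstep s hs t, fun ht => ?_⟩
      have h := mem_subgroupOf.2 (hstep s⁻¹ (inv_mem (mem_subgroupOf.1 hs)) _ (mem_subgroupOf.1 ht))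
      rwa [show s⁻¹ * (s * t * s⁻¹) * s⁻¹⁻¹ = t by group] at h
    · haveI : Nontrivial δ.range :=
        (nontrivial_iff_ne_bot _).2 fun h => C.hWne (by rwa [h, mem_bot] at hWmem)
      exact isQuasisimple_of_mulEquiv (subgroupOfEquivOfLe hle).symm
        (isQuasisimple_of_surjective δ.rangeRestrict δ.rangeRestrict_surjective hI.comp.2)
  have heven : 2 ∣ Nat.card δ.range := by
    have h1 : orderOf (⟨W, hWmem⟩ : δ.range) = 2 :=
      orderOf_eq_prime (by rw [pow_two]; exact Subtype.ext C.hWW)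
        fun h => C.hWne (congrArg Subtype.val h)
    have h2 := orderOf_dvd_natCard (⟨W, hWmem⟩ : δ.range)
    rwa [h1] at h2
  obtain ⟨L, -, hL, hmem⟩ := balance C.hJ.sq hd2 hdz.symm hle hcomp heven
  obtain ⟨-, hwd, hlayer⟩ :=
    hL w (hmem w C.hzw.symm hdw.symm (TwoEl.of_sq C.hK.sq) (hW ▸ hWmem))
  have hgw : kt * R * w * (kt * R)⁻¹ = d := by rw [hd, hm]; group
  have hKd := (isCls_trans hgw C.hK).comp
  have h1 : cls d w = trans hgw (cls w m2) := by
    rw [trans_cls hgw hm2w]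
    congr 1
    rw [hm2, show kt * R * (R⁻¹ * w * R) * (kt * R)⁻¹ = kt * w * kt⁻¹ by group, hkw.eq,
      mul_inv_cancel_right]
  have h2 := cjS_eq_iff.2 (layer_le_normalizer_component hKd hlayer)
  rw [h1, cjS_map_eq_iff] at h2
  exact hm2fx h2

end Config

/-- Part (i): a 2-element of `K` of order at least four centralising `z` normalises `J`. -/
theorem normalizes (hJ : IsCls z J) (hK : IsCls w K) (hyz : Commute y z) (hyK : cls w y ∈ K)
    {j : ℕ} (hj1 : 1 ≤ j) (hj : y ^ 2 ^ j = w) : cls z y ∈ normalizer (J : Set (Qz z)) := by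
  by_contra h
  obtain ⟨_, C⟩ := normalizes_or_config hJ hK hyz hyK hj1 hj h
  exact C.false

end Cfsg.Agent.Cls81
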