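import Mathlib
import Cfsg.Agent.Lib.Cls81Final

/-!
If `z` normalises the classical component at `w`, then `w` normalises the one at `z`, the two
components having the same order.
-/

set_option autoImplicit false
set_option linter.style.haveILetI false

namespace Cfsg.Agent.Cls81

open Subgroup Cfsg
open scoped commutatorElement
open Cfsg.Agent.ComponentsBasic Cfsg.Agent.ComponentsP

universe u

variable {G : Type u} [Group G] [Finite G]

/-- `exists_lift_conj` inside the centraliser of a further involution. -/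
theorem exists_lift_conj_comm {z a b m : G} (ha : a * a = 1) (hb : b * b = 1) (hm : m * m = 1)
    (haz : Commute a z) (hbz : Commute b z) (hmz : Commute m z) (ham : Commute a m)
    (hbm : Commute b m) {x : Qz z} (hxm : Commute (cls z m) x)
    (hab : x * cls z a * x⁻¹ = cls z b) :
    ∃ t, Commute t z ∧ Commute t m ∧ cls z t = x ∧ t * a * t⁻¹ = b := by
  obtain ⟨g, hg, hgm, rfl⟩ := exists_cls_commute hm hmz hxm
  have hgz : Commute (g * a * g⁻¹) z := (hg.mul_left haz).mul_left hg.inv_left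
  have hgm' : Commute (g * a * g⁻¹) m := (hgm.mul_left ham).mul_left hgm.inv_left
  have hsq : g * a * g⁻¹ * (g * a * g⁻¹) = 1 := by
    rw [show g * a * g⁻¹ * (g * a * g⁻¹) = g * (a * a) * g⁻¹ by group, ha]
    group
  have h1 : cls z (g * a * g⁻¹ * b) = 1 := by
    rw [cls_mul hgz hbz, cls_conj hg haz, hab, ← cls_mul hbz hbz, hb, cls_one]
  obtain ⟨o, ho, hob⟩ := conj_of_congr hsq hb (odd_of_cls_eq_one (hgz.mul_left hbz) h1)
  obtain ⟨i, rfl⟩ := ho
  have hoz : Commute ((g * a * g⁻¹ * b) ^ i) z := (hgz.mul_left hbz).zpow_left i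
  refine ⟨(g * a * g⁻¹ * b) ^ i * g, hoz.mul_left hg,
    ((hgm'.mul_left hbm).zpow_left i).mul_left hgm, ?_, ?_⟩
  · have h2 : cls z ((g * a * g⁻¹ * b) ^ i) = 1 := by
      rw [cls_eq (hgz.mul_left hbz)] at h1
      rw [cls_eq hoz]
      exact (map_zpow _ (⟨_, mem_Cz (hgz.mul_left hbz)⟩ : Cz z) i).trans (by rw [h1, one_zpow])
    rw [cls_mul hoz hg, h2, one_mul]
  · rw [show (g * a * g⁻¹ * b) ^ i * g * a * ((g * a * g⁻¹ * b) ^ i * g)⁻¹ =
      (g * a * g⁻¹ * b) ^ i * (g * a * g⁻¹) * ((g * a * g⁻¹ * b) ^ i)⁻¹ by group]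
    exact hob

/-- A 2-element of a classical component other than the centre has a power of order four. -/
theorem IsCls.exists_root {z : G} {J : Subgroup (Qz z)} (hJ : IsCls z J) {q : Qz z} (hq : q ∈ J)
    (h2 : TwoEl q) (h1 : q ≠ 1) (hz : q ≠ cls z z) : ∃ n : ℕ, q ^ n * q ^ n = cls z z := by
  obtain ⟨k, hk⟩ := h2
  induction k generalizing q with
  | zero => exact absurd (by simpa using hk) h1
  | succ k ih =>
      rw [pow_succ', pow_mul, pow_two] at hk
      by_cases hqq : q * q = cls z z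
      · exact ⟨1, by rw [pow_one, hqq]⟩
      obtain ⟨n, hn⟩ := ih (mul_mem hq hq)
        (fun e => (hJ.uniq q hq e).elim h1 hz) hqq hk
      exact ⟨2 * n, by rw [pow_mul, pow_two, hn]⟩

/-- The diagonal of a component and its conjugate by an involution is a component of the
centraliser of that involution. -/
theorem diag_component {Q : Type*} [Group Q] [Finite Q] {I : Subgroup Q} (hI : IsComponent I)
    {D : Q} (hD : D * D = 1) (hne : cjS D I ≠ I) {i0 : Q} (hi0 : i0 ∈ I)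
    (hne1 : i0 * (D * i0 * D⁻¹) ≠ 1) :
    ∃ Dc : Subgroup Q, (∀ i ∈ I, i * (D * i * D⁻¹) ∈ Dc) ∧ Dc ≤ centralizer ({D} : Set Q) ∧
      IsComponent (Dc.subgroupOf (centralizer ({D} : Set Q))) := by
  set I' := cjS D I with hI'def
  have hI' : IsComponent I' := isComponent_cjS hI D
  have cI : ∀ {p q : Q}, p ∈ I → q ∈ I' → Commute p q := fun hp hq =>
    comp_commute hI hI' (Ne.symm hne) hp hq
  have hDi : D⁻¹ = D := inv_eq_of_mul_eq_one_right hD
  let δ : I →* Q := MonoidHom.mk' (fun i => (i : Q) * (D * (i : Q) * D⁻¹)) fun p q => by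
    have h1 : Commute (q : Q) (D * (p : Q) * D⁻¹) := cI q.2 (conj_mem_cjS p.2)
    show (p : Q) * q * (D * ((p : Q) * q) * D⁻¹) = _
    rw [show D * ((p : Q) * q) * D⁻¹ = D * (p : Q) * D⁻¹ * (D * q * D⁻¹) by group,
      mul_assoc (p : Q) q, ← mul_assoc (q : Q), h1.eq]
    group
  have hle : δ.range ≤ centralizer ({D} : Set Q) := by
    rintro _ ⟨i, rfl⟩
    rw [mem_centralizer_singleton_iff]
    show (i : Q) * (D * i * D⁻¹) * D = D * ((i : Q) * (D * i * D⁻¹))
    have h1 : Commute (i : Q) (D * i * D⁻¹) := cI i.2 (conj_mem_cjS i.2)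
    conv_lhs => rw [h1.eq]
    rw [hDi]
    simp only [mul_assoc, ← mul_assoc D D, hD, one_mul, mul_one]
  have hlay : δ.range ≤ layer Q := by
    rintro _ ⟨i, rfl⟩
    exact mul_mem (component_le_layer hI i.2) (component_le_layer hI' (conj_mem_cjS i.2))
  set Cd := centralizer ({D} : Set Q) with hCd
  refine ⟨δ.range, fun i hi => ⟨⟨i, hi⟩, rfl⟩, hle, ?_, ?_⟩
  · haveI : (layer Q).Normal := inferInstance
    refine isSubnormal_of_le_normalizer (K := (layer Q).subgroupOf Cd) (comap_mono hlay)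
      (Normal.isSubnormal inferInstance) ?_
    have hstep : ∀ s : Cd, (s : Q) ∈ layer Q → ∀ t : Cd, (t : Q) ∈ δ.range →
        ((s * t * s⁻¹ : Cd) : Q) ∈ δ.range := by
      rintro s hs t ⟨i, hi⟩
      have hsI : (s : Q) * i * (s : Q)⁻¹ ∈ I :=
        (mem_normalizer_iff.1 (layer_le_normalizer_component hI hs) _).1 i.2
      refine ⟨⟨_, hsI⟩, ?_⟩
      show (s : Q) * i * (s : Q)⁻¹ * (D * ((s : Q) * i * (s : Q)⁻¹) * D⁻¹) =
        (s : Q) * (t : Q) * (s : Q)⁻¹
      have hsD : Commute (s : Q) D := mem_centralizer_singleton_iff.1 s.2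
      rw [← hi]
      show _ = (s : Q) * ((i : Q) * (D * i * D⁻¹)) * (s : Q)⁻¹
      rw [show D * ((s : Q) * i * (s : Q)⁻¹) * D⁻¹ = D * s * i * (D * s)⁻¹ by group, ← hsD.eq]
      group
    intro s hs
    rw [mem_normalizer_iff]
    intro t
    refine ⟨hstep s hs t, fun ht => ?_⟩
    have h := mem_subgroupOf.2
      (hstep s⁻¹ (inv_mem (mem_subgroupOf.1 hs)) _ (mem_subgroupOf.1 ht))
    rwa [show s⁻¹ * (s * t * s⁻¹) * s⁻¹⁻¹ = t by group] at h
  · haveI : Nontrivial δ.range :=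
      (nontrivial_iff_ne_bot _).2 fun h => hne1 (by
        have h1 : i0 * (D * i0 * D⁻¹) ∈ δ.range := ⟨⟨i0, hi0⟩, rfl⟩
        rwa [h, mem_bot] at h1)
    exact isQuasisimple_of_mulEquiv (subgroupOfEquivOfLe hle).symm
      (isQuasisimple_of_surjective δ.rangeRestrict δ.rangeRestrict_surjective hI.2)

/-- The layer lies in a component times its centraliser. -/
theorem exists_mul_of_mem_layer {Q : Type*} [Group Q] [Finite Q] {K : Subgroup Q}
    (hK : IsComponent K) {x : Q} (hx : x ∈ layer Q) :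
    ∃ k ∈ K, ∃ c ∈ centralizer (K : Set Q), k * c = x := by
  have h1 : layer Q ≤ K ⊔ centralizer (K : Set Q) := by
    refine sSup_le fun L hL => ?_
    by_cases h : L = K
    · exact h.le.trans le_sup_left
    · exact (commutator_eq_bot_iff_le_centralizer.1 (components_commute hL hK h)).trans
        le_sup_right
  have h2 := h1 hx
  rw [← SetLike.mem_coe, coe_mul_of_right_le_normalizer_left K _ (centralizer_le_normalizer _)]
    at h2
  obtain ⟨k, hk, c, hc, hkc⟩ := Set.mem_mul.1 h2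
  exact ⟨k, hk, c, hc, hkc⟩

variable {z w : G} {J : Subgroup (Qz z)} {K : Subgroup (Qz w)}

/-- Part (ii). -/
theorem normalizes_second (hJ : IsCls z J) (hK : IsCls w K) (hzw : Commute z w)
    (hzK : cls w z ∈ normalizer (K : Set (Qz w))) (hcard : Nat.card J = Nat.card K) :
    cls z w ∈ normalizer (J : Set (Qz z)) := by
  classical
  haveI : Fact (Nat.Prime 2) := ⟨Nat.prime_two⟩
  by_cases hne : z = w
  · subst hne
    exact le_normalizer hJ.mem
  by_contra hmove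
  set W := cls z w with hWdef
  set Z := cls z z with hZdef
  set Zw := cls w z with hZwdef
  have hWW : W * W = 1 := by rw [hWdef, ← cls_mul hzw.symm hzw.symm, hK.sq, cls_one]
  have hZZ : Zw * Zw = 1 := by rw [hZwdef, ← cls_mul hzw hzw, hJ.sq, cls_one]
  have hmv : cjS W J ≠ J := fun h => hmove (cjS_eq_iff.1 h)
  -- no element of order four of `K` commutes with `z`
  have no4 : ∀ κ ∈ K, κ * κ = cls w w → ¬ Commute Zw κ := by
    intro κ hκ hκ2 hc
    obtain ⟨g, hgw, hgz, hgκ⟩ := exists_cls_commute hJ.sq hzw hc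
    obtain ⟨n, -, hn, h2⟩ := exists_two_part g 2
    set y := g ^ n with hy
    have hyκ : cls w y = κ := by
      rw [hy, cls_pow hgw, hgκ, pow_eq_self_of_modEq (k := 2) ?_ hn]
      rw [show (2 : ℕ) ^ 2 = 2 + 2 by norm_num, pow_add, pow_two, hκ2, hK.zc_sq]
    have hyw : Commute y w := hgw.pow_left n
    have h3 : y * y * w = 1 := by
      refine eq_one_of_cls ((hyw.mul_left hyw).mul_left (Commute.refl w))
        ((h2.mul h2 (Commute.refl _)).mul (TwoEl.of_sq hK.sq) (hyw.mul_left hyw)) ?_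
      rw [cls_mul (hyw.mul_left hyw) (Commute.refl w), cls_mul hyw hyw, hyκ, hκ2, hK.zc_sq]
    have hy2 : y * y = w :=
      (eq_inv_of_mul_eq_one_left h3).trans (inv_eq_of_mul_eq_one_right hK.sq)
    have hN := normalizes hJ hK (hgz.pow_left n) (hyκ ▸ hκ) (j := 1) le_rfl
      (by rw [pow_one, pow_two, hy2])
    apply hmove
    rw [hWdef, ← hy2, cls_mul (hgz.pow_left n) (hgz.pow_left n)]
    exact mul_mem hN hN
  -- an element of `K` negated by `z`
  obtain ⟨k, hkK, hk⟩ : ∃ k ∈ K, k * Zw * k⁻¹ = cls w w * Zw := by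
    obtain ⟨S, hS⟩ := hK.exists_sylow hzK (TwoEl.of_sq hZZ)
    set Sm : Subgroup (Qz w) := (S : Subgroup K).map K.subtype
    have hne' : ∃ s ∈ Sm, ¬ Commute Zw s := by
      by_contra h
      push Not at h
      have hall := hK.fixes_of_sylow hZZ hzK S (fun s hs => h _ ⟨s, hs, rfl⟩)
      obtain ⟨κ, hκ, hκ2⟩ := hK.exists_four
      exact no4 κ hκ hκ2 (hall κ hκ)
    have hsub : ∀ s ∈ Sm, Zw * s * Zw⁻¹ ∈ Sm := by
      rintro _ ⟨s, hs, rfl⟩
      obtain ⟨t, ht, htU⟩ := hS s hs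
      exact ⟨t, ht, htU⟩
    have hnorm : Zw ∈ normalizer (Sm : Set (Qz w)) := by
      refine mem_normalizer_iff.2 fun s => ⟨hsub s, fun hs => ?_⟩
      have h := hsub _ hs
      rwa [show Zw * (Zw * s * Zw⁻¹) * Zw⁻¹ = Zw * Zw * s * (Zw * Zw)⁻¹ by group, hZZ, one_mul,
        inv_one, mul_one] at h
    obtain ⟨x, hxS, hxn, hxf⟩ :=
      exists_fixed_growth (S.isPGroup'.map _) (TwoEl.of_sq hZZ) hnorm hne'
    have hx2 : TwoEl x := by
      obtain ⟨j, hj⟩ := (S.isPGroup'.map K.subtype) ⟨x, hxS⟩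
      exact ⟨j, congrArg Subtype.val hj⟩
    have hxK : x ∈ K := by obtain ⟨s, -, rfl⟩ := hxS; exact s.2
    set f := x⁻¹ * (Zw * x * Zw⁻¹) with hf
    have hfK : f ∈ K := mul_mem (inv_mem hxK) ((mem_normalizer_iff.1 hzK x).1 hxK)
    have hzx : Zw * x * Zw⁻¹ = x * f := by rw [hf, mul_inv_cancel_left]
    have hff : f * f = 1 := by
      have h1 : x * f * f = x := by
        calc x * f * f = Zw * x * Zw⁻¹ * f := by rw [hzx]
          _ = Zw * x * Zw⁻¹ * (Zw * f * Zw⁻¹) := by rw [hxf.eq, mul_inv_cancel_right]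
          _ = Zw * (Zw * x * Zw⁻¹) * Zw⁻¹ := by conv_rhs => rw [hzx]
                                                group
          _ = x := by
            rw [show Zw * (Zw * x * Zw⁻¹) * Zw⁻¹ = Zw * Zw * x * (Zw * Zw)⁻¹ by group, hZZ]
            group
      rw [mul_assoc] at h1
      exact mul_eq_left.1 h1
    have hfw : f = cls w w := (hK.uniq f hfK hff).resolve_left fun h => hxn (by
      rw [h, mul_one] at hzx
      exact mul_inv_eq_iff_eq_mul.1 hzx)
    refine ⟨x, hxK, ?_⟩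
    rw [hfw] at hzx
    have h1 : Zw * x = x * cls w w * Zw := mul_inv_eq_iff_eq_mul.1 hzx
    calc x * Zw * x⁻¹ = x * (cls w w * cls w w) * Zw * x⁻¹ := by rw [hK.zc_sq, mul_one]
      _ = cls w w * (x * cls w w * Zw) * x⁻¹ := by
        rw [← mul_assoc x, ← (zc_comm w (x * cls w w)).eq]; group
      _ = cls w w * Zw := by rw [← h1, ← mul_assoc, mul_inv_cancel_right]
  -- the involution `m`
  obtain ⟨A, hAJ, hA2⟩ := hJ.exists_four
  set A' := W * A * W⁻¹ with hA'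
  have hA'J : A' ∈ cjS W J := conj_mem_cjS hAJ
  have hAA' : Commute A A' :=
    (comp_commute (isComponent_cjS hJ.comp W) hJ.comp hmv hA'J hAJ).symm
  have hA'2 : A' * A' = Z := by
    rw [hA', show W * A * W⁻¹ * (W * A * W⁻¹) = W * (A * A) * W⁻¹ by group, hA2,
      ← (zc_comm z W).eq, mul_inv_cancel_right]
  set M0 := A * A' with hM0
  have hM0sq : M0 * M0 = 1 := by
    rw [hM0, hAA'.symm.mul_mul_mul_comm, hA2, hA'2, hJ.zc_sq]
  obtain ⟨b, hbJ, hAb⟩ := hJ.four_noncentral hAJ hA2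
  have hA'b : Commute A' b := comp_commute (isComponent_cjS hJ.comp W) hJ.comp hmv hA'J hbJ
  have hM0b : ¬ Commute M0 b := fun h => hAb (by
    have h' := h.mul_left hA'b.inv_left
    rwa [hM0, mul_inv_cancel_right] at h')
  obtain ⟨Dc, hDc, hDle, hDcomp⟩ := diag_component hJ.comp hWW hmv hAJ
    (fun h => hM0b (by rw [hM0, hA', h]; exact Commute.one_left b))
  have hM0D : M0 ∈ Dc := hDc A hAJ
  have heven : 2 ∣ Nat.card Dc := by
    have h1 : orderOf (⟨M0, hM0D⟩ : Dc) = 2 :=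
      orderOf_eq_prime (by rw [pow_two]; exact Subtype.ext hM0sq) fun h => hM0b (by
        rw [show M0 = 1 from congrArg Subtype.val h]; exact Commute.one_left b)
    have h2 := orderOf_dvd_natCard (⟨M0, hM0D⟩ : Dc)
    rwa [h1] at h2
  obtain ⟨L, hLperf, hL, hLmem⟩ := balance hJ.sq hK.sq hzw hDle hDcomp heven
  obtain ⟨g, hgz, hgw, hgM⟩ := exists_cls_commute hK.sq hzw.symm
    (x := M0) (mem_centralizer_singleton_iff.1 (hDle hM0D)).symm
  obtain ⟨n, -, hn, hn2⟩ := exists_two_part g 1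
  set m := g ^ n with hm
  have hmz : Commute m z := hgz.pow_left n
  have hmw : Commute m w := hgw.pow_left n
  have hmcls : cls z m = M0 := by
    rw [hm, cls_pow hgz, hgM, pow_eq_self_of_modEq (k := 1) (by rw [pow_one, pow_two, hM0sq]) hn]
  have hm2 : m * m = 1 := eq_one_of_cls (hmz.mul_left hmz) (hn2.mul hn2 (Commute.refl _))
    (by rw [cls_mul hmz hmz, hmcls, hM0sq])
  have hmL : m ∈ L := hLmem m hmz hmw hn2 (hmcls ▸ hM0D)
  -- `m` centralises `K`
  have hcK : ∀ κ ∈ K, ∀ c ∈ centralizer (K : Set (Qz w)), Commute κ c := fun κ hκ c hc =>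
    mem_centralizer_iff.1 hc κ hκ
  set Sd : Subgroup G :=
    { carrier := {g | Commute g w ∧ ∃ κ ∈ K, Commute Zw κ ∧
        ∃ c ∈ centralizer (K : Set (Qz w)), κ * c = cls w g}
      one_mem' := ⟨Commute.one_left w, 1, one_mem K, Commute.one_right _, 1, one_mem _, by
        rw [one_mul, cls_one]⟩
      mul_mem' := by
        rintro g1 g2 ⟨h1, κ1, hκ1, hz1, c1, hc1, e1⟩ ⟨h2, κ2, hκ2, hz2, c2, hc2, e2⟩
        refine ⟨h1.mul_left h2, κ1 * κ2, mul_mem hκ1 hκ2, hz1.mul_right hz2, c1 * c2,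
          mul_mem hc1 hc2, ?_⟩
        rw [cls_mul h1 h2, ← e1, ← e2, (hcK κ2 hκ2 c1 hc1).mul_mul_mul_comm]
      inv_mem' := by
        rintro g1 ⟨h1, κ1, hκ1, hz1, c1, hc1, e1⟩
        refine ⟨h1.inv_left, κ1⁻¹, inv_mem hκ1, hz1.inv_right, c1⁻¹, inv_mem hc1, ?_⟩
        rw [cls_inv h1, ← e1, (hcK κ1 hκ1 c1 hc1).eq, mul_inv_rev] } with hSd
  have hLS : L ≤ Sd := by
    rw [← hLperf, commutator_le]
    intro g1 hg1 g2 hg2
    have hdec : ∀ g ∈ L, ∃ κ ∈ K, ∃ c ∈ centralizer (K : Set (Qz w)), κ * c = cls w g ∧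
        ∃ ζ, ζ ∈ centralizer (K : Set (Qz w)) ∧ ζ ∈ K ∧ Zw * κ * Zw⁻¹ = κ * ζ := by
      intro g hg
      obtain ⟨hgz, hgw, hglay⟩ := hL g hg
      obtain ⟨κ, hκ, c, hc, e⟩ := exists_mul_of_mem_layer hK.comp hglay
      refine ⟨κ, hκ, c, hc, e, κ⁻¹ * (Zw * κ * Zw⁻¹), ?_,
        mul_mem (inv_mem hκ) ((mem_normalizer_iff.1 hzK κ).1 hκ), by rw [mul_inv_cancel_left]⟩
      have hcN : Zw * c * Zw⁻¹ ∈ centralizer (K : Set (Qz w)) :=
        (mem_normalizer_iff.1
          (L2Balance.normalizer_le_normalizer_centralizer K hzK) c).1 hc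
      have h1 : Zw * (κ * c) * Zw⁻¹ = κ * c := by
        rw [e, hZwdef, ← cls_mul hzw hgw, ← hgz.eq, cls_mul hgw hzw, mul_inv_cancel_right]
      have h2 : κ⁻¹ * (Zw * κ * Zw⁻¹) = c * (Zw * c * Zw⁻¹)⁻¹ := by
        calc κ⁻¹ * (Zw * κ * Zw⁻¹)
            = κ⁻¹ * (Zw * (κ * c) * Zw⁻¹) * (Zw * c * Zw⁻¹)⁻¹ := by group
          _ = c * (Zw * c * Zw⁻¹)⁻¹ := by rw [h1, inv_mul_cancel_left]
      rw [h2]
      exact mul_mem hc (inv_mem hcN)
    obtain ⟨κ1, hκ1, c1, hc1, e1, ζ1, hζ1, hζ1K, f1⟩ := hdec g1 hg1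
    obtain ⟨κ2, hκ2, c2, hc2, e2, ζ2, hζ2, hζ2K, f2⟩ := hdec g2 hg2
    obtain ⟨-, h1w, -⟩ := hL g1 hg1
    obtain ⟨-, h2w, -⟩ := hL g2 hg2
    have hcw : Commute ⁅g1, g2⁆ w := by
      rw [commutatorElement_def]
      exact ((h1w.mul_left h2w).mul_left h1w.inv_left).mul_left h2w.inv_left
    refine ⟨hcw, ⁅κ1, κ2⁆, ?_, ?_, ⁅c1, c2⁆, ?_, ?_⟩
    · rw [commutatorElement_def]
      exact mul_mem (mul_mem (mul_mem hκ1 hκ2) (inv_mem hκ1)) (inv_mem hκ2)
    · refine mul_inv_eq_iff_eq_mul.1 ?_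
      have e : Zw * ⁅κ1, κ2⁆ * Zw⁻¹ = ⁅κ1 * ζ1, κ2 * ζ2⁆ := by
        rw [← f1, ← f2, commutatorElement_def, commutatorElement_def]; group
      rw [e, commutatorElement_def, commutatorElement_def, mul_inv_rev, mul_inv_rev]
      have a1 : Commute (κ2 * ζ2) ζ1 := hcK _ (mul_mem hκ2 hζ2K) ζ1 hζ1
      have a2 : Commute κ1 ζ2 := hcK _ hκ1 ζ2 hζ2
      calc κ1 * ζ1 * (κ2 * ζ2) * (ζ1⁻¹ * κ1⁻¹) * (ζ2⁻¹ * κ2⁻¹)
          = κ1 * (ζ1 * (κ2 * ζ2)) * ζ1⁻¹ * κ1⁻¹ * (ζ2⁻¹ * κ2⁻¹) := by group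
        _ = κ1 * κ2 * (ζ2 * κ1⁻¹) * ζ2⁻¹ * κ2⁻¹ := by rw [← a1.eq]; group
        _ = κ1 * κ2 * (κ1⁻¹ * ζ2) * ζ2⁻¹ * κ2⁻¹ := by rw [(a2.inv_left).eq]
        _ = κ1 * κ2 * κ1⁻¹ * κ2⁻¹ := by group
    · rw [commutatorElement_def]
      exact mul_mem (mul_mem (mul_mem hc1 hc2) (inv_mem hc1)) (inv_mem hc2)
    · have e : cls w ⁅g1, g2⁆ = ⁅κ1 * c1, κ2 * c2⁆ := by
        rw [e1, e2, commutatorElement_def, commutatorElement_def,
          cls_mul ((h1w.mul_left h2w).mul_left h1w.inv_left) h2w.inv_left,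
          cls_mul (h1w.mul_left h2w) h1w.inv_left, cls_mul h1w h2w, cls_inv h1w, cls_inv h2w]
      rw [e, commutatorElement_def, commutatorElement_def, commutatorElement_def, mul_inv_rev,
        mul_inv_rev]
      have a1 : Commute (κ1 * κ2 * κ1⁻¹) c1⁻¹ :=
        hcK _ (mul_mem (mul_mem hκ1 hκ2) (inv_mem hκ1)) _ (inv_mem hc1)
      have a2 : Commute κ2 c1 := hcK _ hκ2 c1 hc1
      have a3 : Commute κ1⁻¹ (c1 * c2 * c1⁻¹) :=
        hcK _ (inv_mem hκ1) _ (mul_mem (mul_mem hc1 hc2) (inv_mem hc1))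
      have a4 : Commute κ2⁻¹ (c1 * c2 * c1⁻¹ * c2⁻¹) :=
        hcK _ (inv_mem hκ2) _ (mul_mem (mul_mem (mul_mem hc1 hc2) (inv_mem hc1)) (inv_mem hc2))
      calc κ1 * κ2 * κ1⁻¹ * κ2⁻¹ * (c1 * c2 * c1⁻¹ * c2⁻¹)
          = κ1 * κ2 * (κ1⁻¹ * (c1 * c2 * c1⁻¹)) * c2⁻¹ * κ2⁻¹ := by
            rw [mul_assoc _ κ2⁻¹, a4.eq]; group
        _ = κ1 * κ2 * ((c1 * c2 * c1⁻¹) * κ1⁻¹) * c2⁻¹ * κ2⁻¹ := by rw [a3.eq]
        _ = κ1 * (κ2 * c1) * c2 * c1⁻¹ * κ1⁻¹ * c2⁻¹ * κ2⁻¹ := by group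
        _ = κ1 * (c1 * κ2) * c2 * c1⁻¹ * κ1⁻¹ * c2⁻¹ * κ2⁻¹ := by rw [a2.eq]
        _ = κ1 * c1 * (κ2 * c2) * (c1⁻¹ * κ1⁻¹) * (c2⁻¹ * κ2⁻¹) := by group
  have hmK : ∀ q ∈ K, Commute (cls w m) q := by
    obtain ⟨-, κ, hκ, hκz, c, hc, e⟩ := hLS hmL
    obtain ⟨r, -, hr, hr2⟩ := exists_two_part κ 1
    have hmm : cls w m * cls w m = 1 := by rw [← cls_mul hmw hmw, hm2, cls_one]
    have hκκ : ∀ q ∈ K, Commute (κ * κ) q := by
      intro q hq
      have h1 : κ * κ * (c * c) = 1 := by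
        rw [← hmm, ← e, (hcK κ hκ c hc).symm.mul_mul_mul_comm]
      rw [eq_inv_of_mul_eq_one_left h1]
      exact (hcK q hq _ (inv_mem (mul_mem hc hc))).symm
    have hrr : κ ^ r * κ ^ r ∈ K ∧ ∀ q ∈ K, Commute (κ ^ r * κ ^ r) q :=
      ⟨mul_mem (pow_mem hκ r) (pow_mem hκ r), fun q hq => by
        rw [← (Commute.refl κ).mul_pow]; exact (hκκ q hq).pow_left r⟩
    have hκr : ∀ q ∈ K, Commute (κ ^ r) q := by
      intro q hq
      rcases hK.center_two hrr.1 hrr.2 (hr2.mul hr2 (Commute.refl _)) with h | h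
      · rcases hK.uniq _ (pow_mem hκ r) h with h' | h' <;> rw [h']
        · exact Commute.one_left q
        · exact zc_comm w q
      · exact absurd (hκz.pow_right r) (no4 _ (pow_mem hκ r) h)
    intro q hq
    rw [← pow_eq_self_of_modEq (x := cls w m) (k := 1) (by rw [pow_one, pow_two, hmm]) hr, ← e,
      (hcK κ hκ c hc).mul_pow]
    exact (hκr q hq).mul_left ((hcK q hq c hc).symm.pow_left r)
  -- the two exact lifts
  have hzm : Commute z m := hmz.symm
  have hzm2 : z * m * (z * m) = 1 := by rw [hzm.symm.mul_mul_mul_comm, hJ.sq, hm2, one_mul]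
  have hzmw2 : z * m * w * (z * m * w) = 1 := by
    rw [(hzw.mul_left hmw).symm.mul_mul_mul_comm, hzm2, hK.sq, one_mul]
  obtain ⟨a, haz, ham, -, haw⟩ := exists_lift_conj_comm (b := z * m * w) (x := A) hK.sq hzmw2 hm2
    hzw.symm (((Commute.refl z).mul_left hmz).mul_left hzw.symm) hmz hmw.symm
    ((hzm.mul_left (Commute.refl m)).mul_left hmw.symm)
    (by rw [hmcls, hM0]; exact ((Commute.refl A).mul_left hAA'.symm)) (by
      rw [cls_mul ((Commute.refl z).mul_left hmz) hzw.symm, cls_mul (Commute.refl z) hmz, hmcls,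
        ← hWdef, ← hZdef]
      have hA'i : A'⁻¹ = A' * Z := inv_eq_of_mul_eq_one_right (by
        rw [← mul_assoc, hA'2, hJ.zc_sq])
      calc A * W * A⁻¹ = A * (W * A * W⁻¹)⁻¹ * W := by group
        _ = A * (A' * Z) * W := by rw [← hA', hA'i]
        _ = Z * M0 * W := by rw [← mul_assoc A, ← hM0, (zc_comm z M0).eq])
  obtain ⟨kt, hkw, hkm, -, hkz⟩ := exists_lift_conj_comm (b := w * z) (x := k) hJ.sq
    (by rw [hzw.mul_mul_mul_comm, hK.sq, hJ.sq, one_mul]) hm2 hzw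
    ((Commute.refl w).mul_left hzw) hmw hzm (hmw.symm.mul_left hzm) (hmK k hkK)
    (by rw [cls_mul (Commute.refl w) hzw, hk])
  set u := z * m with hu
  set cc := kt * a with hcc
  have hkwc : kt * w * kt⁻¹ = w := by rw [hkw.eq, mul_inv_cancel_right]
  have hkmc : kt * m * kt⁻¹ = m := by rw [hkm.eq, mul_inv_cancel_right]
  have hcu : cc * w * cc⁻¹ = u := by
    rw [hcc, show kt * a * w * (kt * a)⁻¹ = kt * (a * w * a⁻¹) * kt⁻¹ by group, haw,
      show kt * (z * m * w) * kt⁻¹ = kt * z * kt⁻¹ * (kt * m * kt⁻¹) * (kt * w * kt⁻¹) by group,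
      hkz, hkmc, hkwc, hu, mul_assoc w z, mul_assoc w, (hzw.mul_left hmw).eq, ← mul_assoc, hK.sq,
      one_mul]
  have hzc : cc * (m * w) * cc⁻¹ = z := by
    have h1 : a * z * a⁻¹ = z := by rw [haz.eq, mul_inv_cancel_right]
    have h2 : a * m * a⁻¹ = m := by rw [ham.eq, mul_inv_cancel_right]
    rw [hcc, show kt * a * (m * w) * (kt * a)⁻¹ = kt * (a * m * a⁻¹ * (a * w * a⁻¹)) * kt⁻¹ by
      group, h2, haw, ← mul_assoc m, ← mul_assoc m, ← hzm.eq, mul_assoc z m m, hm2, mul_one,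
      show kt * (z * w) * kt⁻¹ = kt * z * kt⁻¹ * (kt * w * kt⁻¹) by group, hkz, hkwc, mul_assoc,
      hzw.eq, ← mul_assoc, hK.sq, one_mul]
  have huz : Commute u z := (Commute.refl z).mul_left hmz
  set Kp := K.map (trans hcu).toMonoidHom with hKp
  have hKpc := isCls_trans hcu hK
  have hmwK : ∀ q ∈ K, Commute (cls w (m * w)) q := fun q hq => by
    rw [cls_mul hmw (Commute.refl w)]
    exact (hmK q hq).mul_left (zc_comm w q)
  have hzu : cls u z = trans hcu (cls w (m * w)) := by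
    rw [trans_cls hcu (hmw.mul_left (Commute.refl w)), hzc]
  have hKple : Kp ≤ centralizer ({cls u z} : Set (Qz u)) := by
    rintro _ ⟨q, hq, rfl⟩
    rw [mem_centralizer_singleton_iff, hzu]
    exact ((hmwK q hq).map (trans hcu).toMonoidHom).eq.symm
  have hKpeven : 2 ∣ Nat.card Kp := by
    have h1 : orderOf (⟨cls u u, hKpc.mem⟩ : Kp) = 2 :=
      orderOf_eq_prime (by rw [pow_two]; exact Subtype.ext hKpc.zc_sq)
        fun h => hKpc.zc_ne (congrArg Subtype.val h)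
    have h2 := orderOf_dvd_natCard (⟨cls u u, hKpc.mem⟩ : Kp)
    rwa [h1] at h2
  obtain ⟨L1, -, hL1, hL1mem⟩ := balance hKpc.sq hJ.sq huz hKple
    (isComponent_subgroupOf hKpc.comp hKple) hKpeven
  set L2 : Subgroup G :=
    { carrier := {g | g ∈ L1 ∧ cls u g ∈ Kp}
      one_mem' := ⟨one_mem L1, by rw [cls_one]; exact one_mem Kp⟩
      mul_mem' := fun {p q} hp hq => ⟨mul_mem hp.1 hq.1, by
        rw [cls_mul (hL1 p hp.1).1 (hL1 q hq.1).1]; exact mul_mem hp.2 hq.2⟩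
      inv_mem' := fun {p} hp => ⟨inv_mem hp.1, by
        rw [cls_inv (hL1 p hp.1).1]; exact inv_mem hp.2⟩ } with hL2
  let φ : L2 →* Qz u := MonoidHom.mk' (fun l => cls u (l : G))
    fun p q => cls_mul (hL1 p p.2.1).1 (hL1 q q.2.1).1
  let Ψ : L2 →* Qz z := MonoidHom.mk' (fun l => cls z (l : G))
    fun p q => cls_mul (hL1 p p.2.1).2.1 (hL1 q q.2.1).2.1
  have hφle : φ.range ≤ Kp := by rintro _ ⟨l, rfl⟩; exact l.2.2
  have hφge : Kp ≤ φ.range := by
    refine (pGen_component (p := 2) (HallCore.pPrimeCore_quotient_self 2 (Cz u)) hKpc.comp).ge.trans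
      ((closure_le _).2 ?_)
    rintro q ⟨hq, j, hj⟩
    have hq2 : TwoEl q := ⟨j, hj ▸ pow_orderOf_eq_one q⟩
    obtain ⟨g, hgu, hgz', hgq⟩ := exists_cls_commute hJ.sq huz.symm
      (x := q) (mem_centralizer_singleton_iff.1 (hKple hq)).symm
    obtain ⟨i, -, hi, hi2⟩ := exists_two_part g j
    have hgi : cls u (g ^ i) = q := by
      rw [cls_pow hgu, hgq, pow_eq_self_of_modEq (hj ▸ pow_orderOf_eq_one q) hi]
    exact ⟨⟨g ^ i, hL1mem _ (hgu.pow_left i) (hgz'.pow_left i) hi2 (hgi ▸ hq), hgi ▸ hq⟩, hgi⟩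
  have hu2 : TwoEl u := TwoEl.of_sq hKpc.sq
  have huL : u ∈ L2 := ⟨hL1mem u (Commute.refl u) huz hu2 hKpc.mem, hKpc.mem⟩
  set CJ := centralizer (J : Set (Qz z)) with hCJ
  set N := CJ.comap Ψ with hN
  have hΨlay : ∀ l : L2, Ψ l ∈ layer (Qz z) := fun l => (hL1 l l.2.1).2.2
  have hΨnorm : ∀ l : L2, Ψ l ∈ normalizer (J : Set (Qz z)) := fun l =>
    layer_le_normalizer_component hJ.comp (hΨlay l)
  haveI hNn : N.Normal := ⟨fun p hp l => by
    rw [hN, mem_comap, map_mul, map_mul, map_inv]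
    exact (mem_normalizer_iff.1
      (L2Balance.normalizer_le_normalizer_centralizer J (hΨnorm l)) _).1 hp⟩
  have huN : (⟨u, huL⟩ : L2) ∉ N := by
    intro h
    have h1 : Commute (cls z u) b := (mem_centralizer_iff.1 h b hbJ).symm
    rw [hu, cls_mul (Commute.refl z) hmz, hmcls] at h1
    refine hM0b ?_
    have h2 := (zc_comm z b).inv_left.mul_left h1
    rwa [inv_mul_cancel_left] at h2
  have hNinv : ∀ l ∈ N, φ l ≠ cls u u := by
    intro l hl h
    have hlu : Commute (l : G) u := (hL1 l l.2.1).1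
    have hodd : Odd (orderOf (l * ⟨u, huL⟩ : L2)) := by
      rw [← orderOf_coe]
      refine odd_of_cls_eq_one (g := (l : G) * u) (hlu.mul_left (Commute.refl u)) ?_
      rw [cls_mul hlu (Commute.refl u), show cls u (l : G) = cls u u from h, hKpc.zc_sq]
    apply huN
    rw [← QuotientGroup.eq_one_iff]
    have h2 : TwoEl (QuotientGroup.mk' N ⟨u, huL⟩) :=
      (TwoEl.of_sq (x := (⟨u, huL⟩ : L2)) (Subtype.ext hKpc.sq)).map _
    refine h2.eq_one ?_
    have h3 : QuotientGroup.mk' N ⟨u, huL⟩ = QuotientGroup.mk' N (l * ⟨u, huL⟩) := by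
      rw [map_mul, show QuotientGroup.mk' N l = 1 from (QuotientGroup.eq_one_iff l).2 hl, one_mul]
    rw [h3]
    exact hodd.of_dvd_nat (orderOf_map_dvd _ _)
  have hNker : N ≤ φ.ker := by
    have hsn : (N.map φ).IsSubnormal := by
      refine isSubnormal_of_le_normalizer (K := Kp) ((map_le_range φ N).trans hφle) hKpc.comp.1
        (hφge.trans ?_)
      rintro _ ⟨l, rfl⟩
      exact le_normalizer_map φ (mem_map_of_mem φ (normalizer_eq_top N ▸ mem_top l))
    have hco : (Nat.card (N.map φ)).Coprime 2 := by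
      refine Nat.coprime_two_right.2 (Nat.not_even_iff_odd.1 fun h => ?_)
      obtain ⟨t, ht⟩ := exists_prime_orderOf_dvd_card' (G := N.map φ) 2 (even_iff_two_dvd.1 h)
      rw [orderOf_eq_prime_iff] at ht
      have ht1 : (t : Qz u) * t = 1 := by
        have := congrArg Subtype.val ht.1
        simpa [pow_two] using this
      rcases hKpc.uniq _ (hφle (map_le_range φ N t.2)) ht1 with h1 | h1
      · exact ht.2 (Subtype.ext h1)
      · obtain ⟨l, hl, hlt⟩ := t.2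
        exact hNinv l hl (hlt.trans h1)
    rw [← Subgroup.map_eq_bot_iff]
    exact le_bot_iff.1 ((ComponentsCores.subnormal_coprime_le_pPrimeCore hsn hco).trans
      (HallCore.pPrimeCore_quotient_self 2 _).le)
  -- counting
  have hKcard : Nat.card Kp = Nat.card K :=
    (Nat.card_congr (K.equivMapOfInjective _ (trans hcu).injective).toEquiv).symm
  have h1 : Nat.card Kp ≤ N.index := by
    rw [show Kp = φ.range from le_antisymm hφge hφle, ← index_ker]
    exact Nat.le_of_dvd (Nat.pos_of_ne_zero index_ne_zero_of_finite) (index_dvd_of_le hNker)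
  have h2 : N.index ≤ (CJ.subgroupOf J).index := by
    have hdec : ∀ l : L2, ∃ j : J, (j : Qz z)⁻¹ * Ψ l ∈ CJ := fun l => by
      obtain ⟨j, hj, c, hc, e⟩ := exists_mul_of_mem_layer hJ.comp (hΨlay l)
      exact ⟨⟨j, hj⟩, by rw [← e, inv_mul_cancel_left]; exact hc⟩
    choose f hf using hdec
    have hinj : Function.Injective
        (fun q : L2 ⧸ N => (QuotientGroup.mk (f q.out) : J ⧸ CJ.subgroupOf J)) := by
      intro q1 q2 h
      have h3 : (f q1.out : Qz z)⁻¹ * (f q2.out : Qz z) ∈ CJ :=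
        mem_subgroupOf.1 (QuotientGroup.eq.1 h)
      rw [← QuotientGroup.out_eq' q1, ← QuotientGroup.out_eq' q2]
      apply QuotientGroup.eq.2
      show Ψ ((q1.out)⁻¹ * q2.out) ∈ CJ
      rw [map_mul, map_inv]
      have h4 : (Ψ q1.out)⁻¹ * Ψ q2.out = ((f q1.out : Qz z)⁻¹ * Ψ q1.out)⁻¹ *
          ((f q1.out : Qz z)⁻¹ * f q2.out) * ((f q2.out : Qz z)⁻¹ * Ψ q2.out) := by group
      rw [h4]
      exact mul_mem (mul_mem (inv_mem (hf _)) h3) (hf _)
    rw [index_eq_card, index_eq_card]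
    exact Nat.card_le_card_of_injective _ hinj
  have h3 : 2 ≤ Nat.card (CJ.subgroupOf J) := by
    have hzmem : (⟨Z, hJ.mem⟩ : J) ∈ CJ.subgroupOf J :=
      mem_subgroupOf.2 (mem_centralizer_iff.2 fun q _ => (zc_comm z q).eq.symm)
    haveI : Nontrivial (CJ.subgroupOf J) :=
      nontrivial_of_ne (⟨_, hzmem⟩ : CJ.subgroupOf J) 1
        fun h => hJ.zc_ne (congrArg (fun t : CJ.subgroupOf J => t.1.1) h)
    exact Finite.one_lt_card
  have h4 := (CJ.subgroupOf J).index_mul_card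
  have h5 : 0 < Nat.card J := Nat.card_pos
  rw [hKcard, ← hcard] at h1
  nlinarith

end Cfsg.Agent.Cls81
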