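import Cfsg.Agent.Lib.Co1Check89

/-!
Kernel checks on the abelian subgroup of order `2 ^ 11`.
-/

set_option autoImplicit false
set_option maxRecDepth 100000
set_option maxHeartbeats 4000000
set_option synthInstance.maxSize 2000
set_option synthInstance.maxHeartbeats 200000

namespace Cfsg.Agent.Co1Check89

open Cfsg.Agent.Co1Bits89 Cfsg.Agent.Co1Calc89 Cfsg.Agent.Co1Data89 Cfsg.Agent.ConwayTypeModel62

/-- A basis code below eight bits. -/
def gRf (j : ℕ) : ℕ := gR.getD j 0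

/-- The fourteen bit code of an eight bit code. -/
def rA (i : ℕ) : ℕ := rI gRf 8 i

/-- The image of `d`. -/
def cjD (x : ℕ) : ℕ :=
  mulR (rc (bn (xor (Nat.testBit x 0) (Nat.testBit x 1)) + 2 * bn (Nat.testBit x 1)) (pU x) 0)
    (rc (3 * bn (fN (pW x))) (pW x) (pW x))

/-- The image of the swap. -/
def cjG (x : ℕ) : ℕ :=
  mulR (rc (bn (Nat.testBit x 1) + 2 * bn (Nat.testBit x 0)) 0 (pU x)) (rc 0 (pW x) 0)

/-- The regular subgroup. -/
def eP (i : ℕ) : P8 := prodK (fun j => wordP (wE.getD j [])) 3 i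

/-- The table of a basis element of the regular subgroup. -/
def eT (j : ℕ) : List ℕ := wordT T1 T2 (wE.getD j [])

/-- An image code of a conjugation. -/
def img (m j : ℕ) : ℕ := (mats.getD m []).getD j 0

/-- The code of the `m`th generator of the translations. -/
def rG (m : ℕ) : ℕ := bif Nat.blt m 6 then rc 0 (2 ^ m) 0 else rc 0 0 (2 ^ (m - 6))

/-- The block space. -/
def wList : List ℕ := [0, 7, 25, 30, 43, 44, 50, 53]

theorem base_ok : (∀ j < 8, rA (2 ^ j) = gRf j ∧ gRf j < 16384 ∧ mulR (gRf j) (gRf j) = 0 ∧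
    (∀ i < 8, mulR (gRf i) (gRf j) = mulR (gRf j) (gRf i)) ∧ ∀ e < 3, cjR (eT e) (gRf j) = gRf j) ∧
    (∀ i < 256, rA i < 16384 ∧ (rA i = 0 → i = 0)) ∧
    (∀ i < 3, eP (2 ^ i) = wordP (wE.getD i []) ∧ wordP (wE.getD i []) * wordP (wE.getD i []) = 1 ∧
      ∀ j < 3, wordP (wE.getD i []) * wordP (wE.getD j []) = wordP (wE.getD j []) * wordP (wE.getD i [])) ∧
    (∀ i < 8, eP i = 1 → i = 0) := by
  decide +kernel

theorem split_code : ∀ i < 2048, Nat.xor (i % 256) (256 * (i / 256)) = i ∧ i % 256 < 256 ∧ i / 256 < 8 := by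
  decide +kernel

theorem cent_ok : ∀ u < 64, ∀ w < 64,
    (∀ j < 3, mulR (rc 0 u w) (gRf (2 + j)) = mulR (gRf (2 + j)) (rc 0 u w)) →
    u ∈ wList ∧ w ∈ wList := by
  decide +kernel

theorem span_ok : ∀ v < 4, ∀ u ∈ wList, ∀ w ∈ wList, ∃ i < 256, rA i = rc v u w := by decide +kernel

/-- A point of a line through three points. -/
def InLine (w : ℕ) (i : Fin 8) : Prop :=
  ∃ b c : Fin 8, b ≠ 0 ∧ c ≠ 0 ∧ b ≠ c ∧ b ≠ i ∧ c ≠ i ∧ e i + e b + e c = vec w

theorem line_ok : ∀ i : Fin 8, i ≠ 0 → ∀ x : Fin 8, x ≠ 0 →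
    (∀ w ∈ wList, InLine w i → InLine w x) → x = i := by
  unfold InLine
  decide +kernel

theorem regular_ok : (∀ j : Fin 8, ∃ i < 8, eP i 0 = j) ∧
    (∀ i < 8, ∀ w ∈ wList, act (eP i) (vec w) = vec w) ∧ gRf 2 = rc 0 7 0 ∧ gRf 3 = rc 0 25 0 ∧
    gRf 4 = rc 0 43 0 ∧ (∀ w ∈ wList, ∃ b < 32, pU (rA b) = w) := by
  decide +kernel

/-- The words of the two generators normalising the regular subgroup. -/
def swd (k : ℕ) : List ℕ := wS.getD k []

theorem conj_K : ∀ k < 2, (∀ j < 8, cjR (wordT T1 T2 (swd k)) (gRf j) = rA (img (12 + k) j) ∧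
      img (12 + k) j < 256) ∧
    ∀ e < 3, img (12 + k) (8 + e) % 256 = 0 ∧ img (12 + k) (8 + e) / 256 < 8 ∧
      wordP (swd k) * eP (2 ^ e) = eP (img (12 + k) (8 + e) / 256) * wordP (swd k) := by
  decide +kernel

theorem conj_R : ∀ m < 12, rG m < 16384 ∧
    (∀ j < 8, mulR (rG m) (gRf j) = mulR (rA (img m j)) (rG m) ∧ img m j < 256) ∧
    ∀ e < 3, img m (8 + e) / 256 = 2 ^ e ∧ img m (8 + e) < 2048 ∧
      mulR (rA (img m (8 + e) % 256)) (cjR (eT e) (rG m)) = rG m := by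
  decide +kernel

theorem conj_DG : (∀ j < 8, cjD (gRf j) = rA (img 14 j) ∧ img 14 j < 256 ∧
      cjG (gRf j) = rA (img 15 j) ∧ img 15 j < 256) ∧
    ∀ e < 3, img 14 (8 + e) = 256 * 2 ^ e ∧ img 15 (8 + e) = 256 * 2 ^ e := by
  decide +kernel

end Cfsg.Agent.Co1Check89
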