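import Cfsg.Agent.Lib.Co1Fr89
import Cfsg.Agent.Lib.Co1CheckA89

/-!
The elementary abelian subgroup of order `2 ^ 11`.
-/

set_option autoImplicit false
set_option linter.unusedSectionVars false

namespace Cfsg.Agent.Co1Frame89

open Cfsg.Agent.LargeExtraspecial Cfsg.Agent.ConwayTypeModel62 Cfsg.Agent.ConwayTypeCoord62
  Cfsg.Agent.ConwayTypeRadical62 Cfsg.Agent.Co1Bits89 Cfsg.Agent.Co1Calc89 Cfsg.Agent.Co1Data89
  Cfsg.Agent.Co1Check89

variable {G : Type*} [Group G] [Finite G]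

/-- The element of a fourteen bit code. -/
def rnf (z t g : G) (s : ℕ → G) (x : ℕ) : G :=
  X z t g s (Nat.testBit x 0) (Nat.testBit x 1) (pU x) (pW x)

theorem rc_parts {v u w : ℕ} (hv : v < 4) (hu : u < 64) :
    pV (rc v u w) = v ∧ pU (rc v u w) = u ∧ pW (rc v u w) = w ∧
      Nat.testBit (rc v u w) 0 = Nat.testBit v 0 ∧ Nat.testBit (rc v u w) 1 = Nat.testBit v 1 := by
  have hm : rc v u w % 4 = v := by unfold rc; omega
  refine ⟨?_, ?_, ?_, ?_, ?_⟩
  · show rc v u w &&& 2 ^ 2 - 1 = v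
    rw [Nat.and_two_pow_sub_one_eq_mod]
    exact hm
  · show rc v u w >>> 2 &&& 2 ^ 6 - 1 = u
    rw [Nat.and_two_pow_sub_one_eq_mod, Nat.shiftRight_eq_div_pow]
    unfold rc
    norm_num
    omega
  · show rc v u w >>> 8 = w
    rw [Nat.shiftRight_eq_div_pow]
    unfold rc
    norm_num
    omega
  · have h := Nat.testBit_mod_two_pow (rc v u w) 2 0
    rw [show rc v u w % 2 ^ 2 = v from hm] at h
    simpa using h.symm
  · have h := Nat.testBit_mod_two_pow (rc v u w) 2 1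
    rw [show rc v u w % 2 ^ 2 = v from hm] at h
    simpa using h.symm

theorem code_parts {x : ℕ} (hx : x < 16384) :
    pU x < 64 ∧ pW x < 64 ∧ pV x < 4 ∧ x = rc (pV x) (pU x) (pW x) ∧
      Nat.testBit (pV x) 0 = Nat.testBit x 0 ∧ Nat.testBit (pV x) 1 = Nat.testBit x 1 := by
  have hv : pV x = x % 4 := Nat.and_two_pow_sub_one_eq_mod x 2
  have hu : pU x = x / 4 % 64 := by
    show x >>> 2 &&& 2 ^ 6 - 1 = _
    rw [Nat.and_two_pow_sub_one_eq_mod, Nat.shiftRight_eq_div_pow]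
  have hw : pW x = x / 256 := by
    show x >>> 8 = _
    rw [Nat.shiftRight_eq_div_pow]
  refine ⟨by omega, by omega, by omega, by unfold rc; omega, ?_, ?_⟩ <;>
    rw [hv, show (4 : ℕ) = 2 ^ 2 from rfl, Nat.testBit_mod_two_pow] <;> simp

theorem vMul_bits (x y : ℕ) : vMul x y < 4 ∧
    Nat.testBit (vMul x y) 0 = xor (xor (xor (Nat.testBit (pV x) 0) (Nat.testBit (pV y) 0))
      (BN (pU y) (pW x))) (Co1Bits89.beta (pU x) (pU y)) ∧
    Nat.testBit (vMul x y) 1 = xor (xor (xor (Nat.testBit (pV x) 1) (Nat.testBit (pV y) 1))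
      (BN (pU y) (pW x))) (Co1Bits89.beta (pW x) (pW y)) := by
  have hv : ∀ x, pV x < 4 := fun x => by
    rw [show pV x = x % 4 from Nat.and_two_pow_sub_one_eq_mod x 2]; omega
  have key : ∀ a < 4, ∀ b < 4, ∀ i j k : Bool,
      Nat.xor (Nat.xor (Nat.xor a b) (bif i then 3 else 0)) (bn j + 2 * bn k) < 4 ∧
      Nat.testBit (Nat.xor (Nat.xor (Nat.xor a b) (bif i then 3 else 0)) (bn j + 2 * bn k)) 0 =
        xor (xor (xor (Nat.testBit a 0) (Nat.testBit b 0)) i) j ∧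
      Nat.testBit (Nat.xor (Nat.xor (Nat.xor a b) (bif i then 3 else 0)) (bn j + 2 * bn k)) 1 =
        xor (xor (xor (Nat.testBit a 1) (Nat.testBit b 1)) i) k := by decide +kernel
  exact key _ (hv x) _ (hv y) _ _ _

theorem two_bits : ∀ i j : Bool, bn i + 2 * bn j < 4 ∧ Nat.testBit (bn i + 2 * bn j) 0 = i ∧
    Nat.testBit (bn i + 2 * bn j) 1 = j := by decide

theorem rc_lt {v u w : ℕ} (hv : v < 4) (hu : u < 64) (hw : w < 64) : rc v u w < 16384 := by
  unfold rc; omega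

theorem mulR_lt {a b : ℕ} (ha : a < 16384) (hb : b < 16384) : mulR a b < 16384 :=
  rc_lt (vMul_bits a b).1 (Nat.xor_lt_two_pow (n := 6) (code_parts ha).1 (code_parts hb).1)
    (Nat.xor_lt_two_pow (n := 6) (code_parts ha).2.1 (code_parts hb).2.1)

theorem three_bits : ∀ i : Bool, 3 * bn i < 4 ∧ Nat.testBit (3 * bn i) 0 = i ∧
    Nat.testBit (3 * bn i) 1 = i := by decide

section

variable {Q Q' : Subgroup G} {z t : G} {ν : G → M6} {d g : G}
  {ρ : ↥(Sx z t) →* P8} {s : ℕ → G} (F : Fr Q Q' z t ν d ρ g s)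
include F

theorem rnf_rc {v u w : ℕ} (hv : v < 4) (hu : u < 64) :
    rnf z t g s (rc v u w) = X z t g s (Nat.testBit v 0) (Nat.testBit v 1) u w := by
  obtain ⟨-, h1, h2, h3, h4⟩ := rc_parts (w := w) hv hu
  rw [rnf, h1, h2, h3, h4]

theorem rnf_mem (x : ℕ) : rnf z t g s x ∈ F.D.P.R :=
  mul_mem (mul_mem (F.D.P.V_le_R (bp_vv z t _ _ ▸ F.D.vv_mem _))
    (F.D.Cx_le_R (aP_mem F.D F.E _).1)) (F.D.C'_le_R (bG_mem F.D F.S F.E _))

theorem rnf_mul {x y : ℕ} (hx : x < 16384) (hy : y < 16384) :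
    rnf z t g s x * rnf z t g s y = rnf z t g s (mulR x y) := by
  obtain ⟨h1, h2, -, -, hx0, hx1⟩ := code_parts hx
  obtain ⟨g1, g2, -, -, hy0, hy1⟩ := code_parts hy
  obtain ⟨hv, e0, e1⟩ := vMul_bits x y
  rw [mulR, rnf_rc F hv (show Nat.xor (pU x) (pU y) < 64 from Nat.xor_lt_two_pow (n := 6) h1 g1), e0, e1, hx0, hx1, hy0, hy1, rnf, rnf,
    X_mul F.D F.S F.E (p := fun w => w) F.hev g1 h2]

theorem rnf_zero : rnf z t g s 0 = 1 := by
  simp [rnf, X, pU, pW, aP, bG, prodK, bp]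

theorem rnf_inj {x y : ℕ} (hx : x < 16384) (hy : y < 16384) (h : rnf z t g s x = rnf z t g s y) :
    x = y := by
  obtain ⟨h1, h2, h3, h4, hx0, hx1⟩ := code_parts hx
  obtain ⟨g1, g2, g3, g4, hy0, hy1⟩ := code_parts hy
  obtain ⟨e1, e2, e3, e4⟩ := X_inj F.D F.S F.E (p := fun w => w) F.hev h1 h2 g1 g2
    (fun _ _ _ _ h => h) h
  rw [h4, g4, e3, e4, (show ∀ a < 4, ∀ b < 4, Nat.testBit a 0 = Nat.testBit b 0 →
    Nat.testBit a 1 = Nat.testBit b 1 → a = b by decide +kernel) _ h3 _ g3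
      (by rw [hx0, hy0, e1]) (by rw [hx1, hy1, e2])]

theorem rnf_surj {r : G} (hr : r ∈ F.D.P.R) : ∃ x < 16384, rnf z t g s x = r := by
  obtain ⟨a, ha, b, hb, rfl⟩ := F.D.decomp hr
  obtain ⟨u, hu, eu⟩ := vec_surj (ν a)
  obtain ⟨w, hw, ew⟩ := vec_surj (ev ν d b)
  have hA := (aP_mem F.D F.E u).1
  have hB := bG_mem F.D F.S F.E w
  obtain ⟨p, hp⟩ := F.D.vv_surj (F.D.inU_iff.mp ((F.D.H.nu_eq F.D.sing F.D.K ha hA).mp
    (by rw [nu_aP F.D F.E hu, eu])))
  have hbi : ev ν d ((bG g s w)⁻¹) = ev ν d (bG g s w) := F.D.ev_inv hB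
  obtain ⟨q, hq⟩ := F.D.vv_surj ((F.D.ev_eq_zero (mul_mem hb (inv_mem hB))).mp (by
    rw [F.D.ev_mul (F.D.triv_of_R (F.D.C'_le_R hb)) (F.D.C'_le_Sx (inv_mem hB)), hbi, (F.hev w hw).1,
      ew, add_self]))
  obtain ⟨i, hi⟩ := exists_bz (p + q).1
  obtain ⟨j, hj⟩ := exists_bz (p + q).2
  obtain ⟨hv, v0, v1⟩ := two_bits i j
  refine ⟨rc (bn i + 2 * bn j) u w, by unfold rc; omega, ?_⟩
  rw [rnf_rc F hv hu, v0, v1, X, bp_vv, hi, hj, Prod.mk.eta, F.D.vv_add, ← hp, ← hq,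
    mul_assoc _ _ (aP s u)]
  have hc : Commute (b * (bG g s w)⁻¹) (aP s u) := by
    rw [hq]
    exact (F.D.vv_comm q (F.D.Cx_le_R hA)).symm
  rw [hc.eq]
  group

theorem conj_rnf_Sx {c : G} (hc : c ∈ Sx z t) {T : List ℕ} (hT : Act z s c T)
    (hgc : g * c = c * g) {x : ℕ} (hx : x < 16384) :
    c * rnf z t g s x * c⁻¹ = rnf z t g s (cjR T x) := by
  obtain ⟨hu, hw, -, -, hx0, hx1⟩ := code_parts hx
  obtain ⟨hz, ht⟩ := mem_Sx.mp hc
  set a := T.getD (pU x) 0 with ha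
  set b := T.getD (pW x) 0 with hb
  have hau := sr_lt (hT.1.2 _ hu)
  have eb : c * bG g s (pW x) * c⁻¹ = bp t (Nat.testBit b 0) * bG g s (Nat.shiftRight b 1) := by
    have h1 := hT.2 _ hw
    rw [← hb] at h1
    rw [← g_el F.D F.S F.E, ← h1, bG,
      show c * (g * aP s (pW x) * g⁻¹) * c⁻¹ = (c * g) * aP s (pW x) * (c * g)⁻¹ by group, ← hgc]
    group
  have hv : Nat.xor (pV x) (Nat.land a 1 + 2 * Nat.land b 1) < 4 ∧
      Nat.testBit (Nat.xor (pV x) (Nat.land a 1 + 2 * Nat.land b 1)) 0 =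
        xor (Nat.testBit x 0) (Nat.testBit a 0) ∧
      Nat.testBit (Nat.xor (pV x) (Nat.land a 1 + 2 * Nat.land b 1)) 1 =
        xor (Nat.testBit x 1) (Nat.testBit b 0) := by
    have hl : ∀ y : ℕ, Nat.land y 1 = bn (Nat.testBit y 0) := fun y => by
      rw [show Nat.land y 1 = y &&& 1 from rfl, Nat.and_one_is_mod, Nat.testBit_zero]
      rcases Nat.mod_two_eq_zero_or_one y with h | h <;> simp [h, bn]
    obtain ⟨hb4, hb0, hb1⟩ := two_bits (Nat.testBit a 0) (Nat.testBit b 0)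
    rw [hl, hl, testBit_xor0, testBit_xor0, hb0, hb1, ← hx0, ← hx1]
    exact ⟨Nat.xor_lt_two_pow (n := 2) (code_parts hx).2.2.1 hb4, rfl, rfl⟩
  show _ = rnf z t g s (rc (Nat.xor (pV x) (Nat.land a 1 + 2 * Nat.land b 1)) (Nat.shiftRight a 1)
    (Nat.shiftRight b 1))
  rw [rnf_rc F hv.1 hau, hv.2.1, hv.2.2, rnf, X, X, ← conj_mul_conj, ← conj_mul_conj,
    ← conj_mul_conj, show c * aP s (pU x) * c⁻¹ = el z s a from hT.2 _ hu, eb, conj_bp, conj_bp, conj_comm hz, conj_comm ht,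
    bp_xor F.D.H.h.zz, bp_xor F.D.sing.2.1, el]
  have h1 := bp_central F.D F.S F.E false (Nat.testBit b 0)
    (F.D.Cx_le_R (aP_mem F.D F.E (Nat.shiftRight a 1)).1)
  have h2 := bp_central F.D F.S F.E (Nat.testBit a 0) false (F.D.Cx_le_R (F.D.V_le_Cx
    (bp_vv z t false (Nat.testBit x 1) ▸ F.D.vv_mem _)))
  simp only [show bp z false = 1 from rfl, show bp t false = 1 from rfl, one_mul, mul_one] at h1 h2
  calc _ = bp z (Nat.testBit x 0) * (bp t (Nat.testBit x 1) * bp z (Nat.testBit a 0)) *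
        (aP s (Nat.shiftRight a 1) * bp t (Nat.testBit b 0)) * bG g s (Nat.shiftRight b 1) := by group
    _ = _ := by rw [h1, h2]; simp only [ha]; group

theorem conj_rnf_d {x : ℕ} (hx : x < 16384) : d * rnf z t g s x * d⁻¹ = rnf z t g s (cjD x) := by
  obtain ⟨hu, hw, -, -, hx0, hx1⟩ := code_parts hx
  obtain ⟨v4, v0, v1⟩ := two_bits (xor (Nat.testBit x 0) (Nat.testBit x 1)) (Nat.testBit x 1)
  obtain ⟨f4, f0, f1⟩ := three_bits (fN (pW x))
  rw [cjD, ← rnf_mul F (by unfold rc; omega) (by unfold rc; omega), rnf_rc F v4 hu, rnf_rc F f4 hw,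
    v0, v1, f0, f1, ← F.dB _ hw, rnf, X, X, ← conj_mul_conj, ← conj_mul_conj, ← conj_mul_conj,
    (aP_mem F.D F.E _).2, conj_bp, conj_bp, (d_zt F.D).1, F.D.ed]
  congr 1
  rw [show bG g s 0 = 1 by simp [bG, aP, prodK, bp], mul_one]
  congr 1
  cases Nat.testBit x 0 <;> cases Nat.testBit x 1 <;> simp [bp, F.D.H.h.z_mul_z_mul]

theorem conj_rnf_g {x : ℕ} (hx : x < 16384) : g * rnf z t g s x * g⁻¹ = rnf z t g s (cjG x) := by
  obtain ⟨hu, hw, -, -, hx0, hx1⟩ := code_parts hx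
  obtain ⟨v4, v0, v1⟩ := two_bits (Nat.testBit x 1) (Nat.testBit x 0)
  rw [cjG, ← rnf_mul F (by unfold rc; omega) (by unfold rc; omega), rnf_rc F v4 (by norm_num),
    rnf_rc F (by norm_num) hw, v0, v1, rnf, X, X, X, ← conj_mul_conj, ← conj_mul_conj,
    ← conj_mul_conj, F.gB, conj_bp, conj_bp, F.S.gz, F.S.gt,
    show aP s 0 = 1 by simp [aP, prodK, bp], show bG g s 0 = 1 by simp [bG, aP, prodK, bp],
    show g * aP s (pU x) * g⁻¹ = bG g s (pU x) from rfl,
    show bp z (Nat.testBit 0 0) = 1 by simp [bp], show bp t (Nat.testBit 0 1) = 1 by simp [bp]]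
  simp only [mul_one, one_mul]
  congr 2
  cases Nat.testBit x 0 <;> cases Nat.testBit x 1 <;> simp [bp, F.D.H.zx F.D.sing]

end

/-- Commutes with `d` and the swap. -/
def Fix (z t d g c : G) : Prop := In0 z t d g c ∧ d * c = c * d ∧ g * c = c * g

/-- Lifts of words commuting with `d` and the swap. -/
structure Lift (z t d g : G) (ρ : ↥(Sx z t) →* P8) (s : ℕ → G) (kw : List ℕ → ↥(Sx z t)) : Prop where
  fix : ∀ l, Fix z t d g (kw l : G)
  rho : ∀ l, ρ (kw l) = wordP l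
  act : ∀ l, Act z s (kw l : G) (wordT T1 T2 l)

/-- The generators of the abelian subgroup. -/
def gA (z t g : G) (s : ℕ → G) (kw : List ℕ → ↥(Sx z t)) (j : ℕ) : G :=
  bif Nat.blt j 8 then rnf z t g s (gRf j) else (kw (wE.getD (j - 8) []) : G)

/-- The element of an eleven bit code. -/
def psi (z t g : G) (s : ℕ → G) (kw : List ℕ → ↥(Sx z t)) (i : ℕ) : G :=
  prodK (gA z t g s kw) 11 i

/-- The sixteen elements of the normaliser. -/
def mEl (z t d g : G) (s : ℕ → G) (kw : List ℕ → ↥(Sx z t)) (m : ℕ) : G :=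
  bif Nat.blt m 12 then rnf z t g s (rG m) else
    bif Nat.blt m 14 then (kw (swd (m - 12)) : G) else bif Nat.beq m 14 then d else g

section

variable {Q Q' : Subgroup G} {z t : G} {ν : G → M6} {d g : G}
  {ρ : ↥(Sx z t) →* P8} {s : ℕ → G} (F : Fr Q Q' z t ν d ρ g s)
include F

theorem fix_mul {a b : G} (ha : Fix z t d g a) (hb : Fix z t d g b) : Fix z t d g (a * b) :=
  ⟨in0_mul F.D ha.1 hb.1, (show Commute d a from ha.2.1).mul_right hb.2.1,
    (show Commute g a from ha.2.2).mul_right hb.2.2⟩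

theorem fix_inv {a : G} (ha : Fix z t d g a) : Fix z t d g a⁻¹ :=
  ⟨in0_inv F.D ha.1, (show Commute d a from ha.2.1).inv_right, (show Commute g a from ha.2.2).inv_right⟩

theorem fix_ext {a b : ↥(Sx z t)} (ha : Fix z t d g (a : G)) (hb : Fix z t d g (b : G))
    (h : ρ a = ρ b) : (a : G) = b := by
  have hu : InU z t ((a : G)⁻¹ * b) := in0_R F.D F.S (c := a⁻¹ * b)
    (in0_mul F.D (in0_inv F.D ha.1) hb.1) (by rw [map_mul, map_inv, h, inv_mul_cancel])
  obtain ⟨-, hd, hg⟩ := fix_mul F (fix_inv F ha) hb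
  obtain ⟨d1, d2, d3⟩ := F.D.H.U_distinct F.D.sing
  obtain ⟨e1, e2, e3⟩ := d_zt F.D
  rcases hu with e | e | e | e
  · exact inv_mul_eq_one.mp e
  · rw [e] at hg
    exact absurd (F.S.gz.symm.trans (conj_comm hg)) F.D.P.ne
  · rw [e] at hd
    exact absurd (e2.symm.trans (conj_comm hd)) d3
  · rw [e] at hd
    exact absurd (e3.symm.trans (conj_comm hd)).symm d3

theorem g_move {c : ↥(Sx z t)} (hc : In0 z t d g (c : G)) :
    ∃ u, InU z t u ∧ g * (c : G) * g⁻¹ = c * u := by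
  refine ⟨(c : G)⁻¹ * (g * c * g⁻¹), ?_, by group⟩
  refine in0_R F.D F.S (c := c⁻¹ * ⟨g * c * g⁻¹, g_Sx F.D F.S c.2⟩)
    (in0_mul F.D (in0_inv F.D hc) (in0_g F.D F.S hc).2) ?_
  have h := twist_conj F.D F.S F.E (τ := 1) (fun w hw => by rw [(F.hev w hw).1, act_one])
    ⟨g * c * g⁻¹, g_Sx F.D F.S c.2⟩ (in0_g F.D F.S hc).2
  rw [inv_one, one_mul, mul_one] at h
  rw [map_mul, map_inv, ← h, inv_mul_eq_one]
  congr 1
  exact Subtype.ext (by show (c : G) = g⁻¹ * (g * c * g⁻¹) * g; group)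

theorem fix_comm {x y : ↥(Sx z t)} (hx : In0 z t d g (x : G)) (hy : In0 z t d g (y : G)) :
    Fix z t d g ((x * y * x⁻¹ * y⁻¹ : ↥(Sx z t)) : G) := by
  have key : ∀ u v : G, InU z t u → InU z t v →
      (x : G) * u * ((y : G) * v) * ((x : G) * u)⁻¹ * ((y : G) * v)⁻¹ =
        (x : G) * y * (x : G)⁻¹ * (y : G)⁻¹ := by
    intro u v hu hv
    have a1 : Commute (y : G) u := U_comm' F.D hu y.2
    have a2 : Commute (x : G) v := U_comm' F.D hv x.2
    have a3 : Commute u v := (U_comm' F.D hv (U_mem_Sx F.D hu))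
    calc (x : G) * u * ((y : G) * v) * ((x : G) * u)⁻¹ * ((y : G) * v)⁻¹
        = x * (u * y) * (v * u⁻¹) * (x : G)⁻¹ * v⁻¹ * (y : G)⁻¹ := by group
      _ = x * y * (u * (u⁻¹ * v)) * (x : G)⁻¹ * v⁻¹ * (y : G)⁻¹ := by
          rw [← a1.eq, ← a3.inv_left.eq]; group
      _ = x * y * ((v * (x : G)⁻¹) * v⁻¹) * (y : G)⁻¹ := by group
      _ = _ := by rw [← a2.inv_left.eq]; group
  refine ⟨in0_mul F.D (in0_mul F.D (in0_mul F.D hx hy) (in0_inv F.D hx)) (in0_inv F.D hy), ?_, ?_⟩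
  · refine mul_inv_eq_iff_eq_mul.mp ?_
    obtain ⟨u, hu, eu⟩ := in0_d F.D hx
    obtain ⟨v, hv, ev'⟩ := in0_d F.D hy
    simp only [Subgroup.coe_mul, Subgroup.coe_inv]
    rw [← conj_mul_conj, ← conj_mul_conj, ← conj_mul_conj, ← conj_inv, ← conj_inv, eu, ev', key u v hu hv]
  · refine mul_inv_eq_iff_eq_mul.mp ?_
    obtain ⟨u, hu, eu⟩ := g_move F hx
    obtain ⟨v, hv, ev'⟩ := g_move F hy
    simp only [Subgroup.coe_mul, Subgroup.coe_inv]
    rw [← conj_mul_conj, ← conj_mul_conj, ← conj_mul_conj, ← conj_inv, ← conj_inv, eu, ev', key u v hu hv]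

theorem exists_lifts : ∃ kw, Lift z t d g ρ s kw := by
  obtain ⟨-, -, -, -, -, -, -, -, -, sg1, sg2, -⟩ := perm_facts
  obtain ⟨x₁, h₁, r₁⟩ := exists_lift F.D F.S sg1
  obtain ⟨x₂, h₂, r₂⟩ := exists_lift F.D F.S sg2
  have a₁ := (F.N x₁ h₁).1 r₁
  have a₂ := (F.N x₂ h₂).2 r₂
  have w : ∀ l, ∃ c : ↥(Sx z t), In0 z t d g (c : G) ∧ ρ c = wordP l :=
    fun l => by
      obtain ⟨c, hc, hr, -⟩ := word_lift F.D F.S F.E h₁ h₂ r₁ r₂ a₁ a₂ l
      exact ⟨c, hc, hr⟩
  choose c hc1 hc2 using w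
  obtain ⟨q1, q2⟩ := comm_words
  let k₁ := c [1, 1, 0, 1] * c [0, 0, 1, 0, 0, 1, 0, 1] * (c [1, 1, 0, 1])⁻¹ * (c [0, 0, 1, 0, 0, 1, 0, 1])⁻¹
  let k₂ := c [0, 0, 1, 0, 1, 1, 1] * c [1, 1, 0, 1, 0, 0] * (c [0, 0, 1, 0, 1, 1, 1])⁻¹ * (c [1, 1, 0, 1, 0, 0])⁻¹
  have f₁ : Fix z t d g (k₁ : G) := fix_comm F (hc1 _) (hc1 _)
  have f₂ : Fix z t d g (k₂ : G) := fix_comm F (hc1 _) (hc1 _)
  have e₁ : ρ k₁ = s1P := by simp only [k₁, map_mul, map_inv, hc2]; exact q1
  have e₂ : ρ k₂ = s2P := by simp only [k₂, map_mul, map_inv, hc2]; exact q2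
  have b₁ := (F.N k₁ f₁.1).1 e₁
  have b₂ := (F.N k₂ f₂.1).2 e₂
  have hw : ∀ l, ∃ k : ↥(Sx z t), Fix z t d g (k : G) ∧ ρ k = wordP l ∧
      Act z s (k : G) (wordT T1 T2 l) := by
    intro l
    induction l using List.reverseRecOn with
    | nil => exact ⟨1, ⟨in0_one F.D g, by simp, by simp⟩, map_one ρ, act_U F.D F.E (Or.inl rfl)⟩
    | append_singleton l a ih =>
      obtain ⟨k, hk, rk, ak⟩ := ih
      rw [wordP, wordT, List.foldl_append, List.foldl_append]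
      simp only [List.foldl_cons, List.foldl_nil]
      cases Nat.beq a 0
      · exact ⟨k₂ * k, fix_mul F f₂ hk, by rw [map_mul, e₂, rk]; rfl, act_mul' F.D F.E k₂.2 b₂ ak⟩
      · exact ⟨k₁ * k, fix_mul F f₁ hk, by rw [map_mul, e₁, rk]; rfl, act_mul' F.D F.E k₁.2 b₁ ak⟩
  choose kw h1 h2 h3 using hw
  exact ⟨kw, h1, h2, h3⟩

variable {kw : List ℕ → ↥(Sx z t)} (K : Lift z t d g ρ s kw)
include K

theorem gA_low {j : ℕ} (hj : j < 8) : gA z t g s kw j = rnf z t g s (gRf j) := by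
  rw [gA, show Nat.blt j 8 = true by simpa [Nat.blt_eq] using hj]
  rfl

theorem gA_high (e : ℕ) : gA z t g s kw (8 + e) = (kw (wE.getD e []) : G) := by
  rw [gA, show Nat.blt (8 + e) 8 = false by rw [← Bool.not_eq_true, Nat.blt_eq]; omega,
    Nat.add_sub_cancel_left]
  rfl

theorem e_comm {e j : ℕ} (he : e < 3) (hj : j < 8) :
    (kw (wE.getD e []) : G) * rnf z t g s (gRf j) = rnf z t g s (gRf j) * (kw (wE.getD e []) : G) := by
  obtain ⟨b1, -⟩ := base_ok
  obtain ⟨-, hlt, -, -, hfix⟩ := b1 j hj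
  refine mul_inv_eq_iff_eq_mul.mp ?_
  rw [conj_rnf_Sx F (kw _).2 (K.act _) (K.fix _).2.2 hlt]
  exact congrArg _ (hfix e he)

theorem gA_rel : ∀ i < 11, gA z t g s kw i * gA z t g s kw i = 1 ∧
    ∀ j < 11, gA z t g s kw i * gA z t g s kw j = gA z t g s kw j * gA z t g s kw i := by
  obtain ⟨b1, -, b3, -⟩ := base_ok
  intro i hi
  rcases Nat.lt_or_ge i 8 with h | h
  · obtain ⟨-, hlt, hsq, hcom, -⟩ := b1 i h
    refine ⟨by rw [gA_low F K h, rnf_mul F hlt hlt, hsq, rnf_zero F], fun j hj => ?_⟩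
    rcases Nat.lt_or_ge j 8 with h' | h'
    · obtain ⟨-, hlt', -, hcom', -⟩ := b1 j h'
      rw [gA_low F K h, gA_low F K h', rnf_mul F hlt hlt', rnf_mul F hlt' hlt, hcom' i h]
    · obtain ⟨e, rfl⟩ := Nat.exists_eq_add_of_le h'
      rw [gA_low F K h, gA_high F K, e_comm F K (by omega) h]
  · obtain ⟨e, rfl⟩ := Nat.exists_eq_add_of_le h
    obtain ⟨-, hsq, hcom⟩ := b3 e (by omega)
    rw [gA_high F K]
    refine ⟨?_, fun j hj => ?_⟩
    · exact fix_ext F (a := kw _ * kw _) (b := 1) (fix_mul F (K.fix _) (K.fix _))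
        ⟨in0_one F.D g, by simp, by simp⟩ (by rw [map_mul, K.rho, hsq, map_one])
    · rcases Nat.lt_or_ge j 8 with h' | h'
      · rw [gA_low F K h', e_comm F K (by omega) h']
      · obtain ⟨e', rfl⟩ := Nat.exists_eq_add_of_le h'
        rw [gA_high F K]
        exact fix_ext F (a := kw _ * kw _) (b := kw _ * kw _) (fix_mul F (K.fix _) (K.fix _))
          (fix_mul F (K.fix _) (K.fix _)) (by rw [map_mul, map_mul, K.rho, K.rho, hcom e' (by omega)])

theorem psi_xor (i j : ℕ) :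
    psi z t g s kw (Nat.xor i j) = psi z t g s kw i * psi z t g s kw j := by
  have h := prodK_mul (z := (1 : G)) (s := gA z t g s kw) (n := 11) (one_mul 1)
    (fun k _ => Commute.one_left _) (fun k hk => (gA_rel F K k hk).1)
    (fun k hk l hl => by rw [one_mul]; exact (gA_rel F K k hk).2 l (by omega)) 11 le_rfl i j
  rw [psi, psi, psi, h]
  cases betaK 11 i j <;> simp [bp]

theorem psi_zero : psi z t g s kw 0 = 1 := by
  simp [psi, prodK, bp]

theorem psi_low {i : ℕ} (hi : i < 256) : psi z t g s kw i = rnf z t g s (rA i) := by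
  have hlow : ∀ k ≤ 8, prodK (gA z t g s kw) k i = rnf z t g s (rI gRf k i) ∧ rI gRf k i < 16384 := by
    intro k
    induction k with
    | zero => intro _; exact ⟨(rnf_zero F).symm, by simp [rI]⟩
    | succ k ih =>
      intro hk
      obtain ⟨h1, h2⟩ := ih (by omega)
      obtain ⟨-, hlt, -⟩ := base_ok.1 k (by omega)
      rw [prodK, rI, h1, gA_low F K (by omega)]
      cases Nat.testBit i k
      · exact ⟨by simp [bp], h2⟩
      · exact ⟨rnf_mul F h2 hlt, mulR_lt h2 hlt⟩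
  rw [psi, rA, ← (hlow 8 le_rfl).1]
  have : ∀ k, 8 ≤ k → Nat.testBit i k = false := fun k hk =>
    Nat.testBit_lt_two_pow (hi.trans_le (show 2 ^ 8 ≤ 2 ^ k from Nat.pow_le_pow_right (by norm_num) hk))
  simp [prodK, this 8, this 9, this 10, bp]

theorem psi_high {e : ℕ} (he : e < 8) :
    ∃ h : psi z t g s kw (256 * e) ∈ Sx z t, ρ ⟨_, h⟩ = eP e ∧ Fix z t d g (psi z t g s kw (256 * e)) := by
  have hb : ∀ k, Nat.testBit (256 * e) (8 + k) = Nat.testBit e k ∧
      ∀ l < 8, Nat.testBit (256 * e) l = false := fun k => by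
    refine ⟨?_, fun l hl => ?_⟩
    · rw [show 256 * e = 2 ^ 8 * e from rfl, Nat.testBit_two_pow_mul]; simp
    · rw [show 256 * e = 2 ^ 8 * e from rfl, Nat.testBit_two_pow_mul]
      simp [not_le.2 hl]
  let c : ↥(Sx z t) := prodK (fun j => kw (wE.getD j [])) 3 e
  have hc : (c : G) = psi z t g s kw (256 * e) := by
    have h8 : prodK (gA z t g s kw) 8 (256 * e) = 1 := by
      simp [prodK, (hb 0).2, bp]
    have hbp : ∀ (x : ↥(Sx z t)) b, ((bp x b : ↥(Sx z t)) : G) = bp (x : G) b := fun x b => by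
      cases b <;> rfl
    simp only [c, psi, prodK, Subgroup.coe_mul, Subgroup.coe_one, hbp] at h8 ⊢
    rw [h8, show Nat.testBit (256 * e) 8 = _ from (hb 0).1, show Nat.testBit (256 * e) 9 = _ from (hb 1).1,
      show Nat.testBit (256 * e) 10 = _ from (hb 2).1, show gA z t g s kw 8 = _ from gA_high F K 0,
      show gA z t g s kw 9 = _ from gA_high F K 1, show gA z t g s kw 10 = _ from gA_high F K 2]
  have hf : ∀ k, ρ (prodK (fun j => kw (wE.getD j [])) k e) = prodK (fun j => wordP (wE.getD j [])) k e ∧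
      Fix z t d g ((prodK (fun j => kw (wE.getD j [])) k e : ↥(Sx z t)) : G) := by
    intro k
    induction k with
    | zero => exact ⟨map_one ρ, in0_one F.D g, by simp [prodK], by simp [prodK]⟩
    | succ k ih =>
      rw [prodK, prodK, map_mul, ih.1]
      cases Nat.testBit e k
      · exact ⟨by simp [bp], by simpa [bp] using ih.2⟩
      · exact ⟨by simp [bp, K.rho], fix_mul F ih.2 (K.fix _)⟩
  exact ⟨hc ▸ c.2, by rw [eP, ← (hf 3).1]; exact congrArg ρ (Subtype.ext hc.symm), hc ▸ (hf 3).2⟩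

theorem psi_inj {i j : ℕ} (hi : i < 2048) (hj : j < 2048) (h : psi z t g s kw i = psi z t g s kw j) :
    i = j := by
  set x := Nat.xor i j with hx
  have hx2 : x < 2048 := Nat.xor_lt_two_pow (n := 11) hi hj
  have h1 : psi z t g s kw x = 1 := by
    rw [hx, psi_xor F K, h, ← psi_xor F K, show Nat.xor j j = 0 from Nat.xor_self j, psi_zero F K]
  obtain ⟨hsplit, hlo, hhi⟩ := split_code x hx2
  rw [← hsplit, psi_xor F K, psi_low F K hlo] at h1
  obtain ⟨hm, hr, -⟩ := psi_high F K hhi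
  have hR := rnf_mem F (rA (x % 256))
  have he : x / 256 = 0 := by
    refine base_ok.2.2.2 _ hhi (hr.symm.trans (F.D.rho_R.mpr ?_))
    show psi z t g s kw _ ∈ _
    rw [eq_inv_of_mul_eq_one_right h1]
    exact inv_mem hR
  rw [he, mul_zero, psi_zero F K, mul_one, ← rnf_zero F] at h1
  have h0 := (base_ok.2.1 _ hlo).2 (rnf_inj F (base_ok.2.1 _ hlo).1 (by norm_num) h1)
  have : x = 0 := by omega
  exact Nat.xor_eq_zero_iff.mp this

/-- The subgroup. -/
def subA : Subgroup G where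
  carrier := {a | ∃ i < 2048, psi z t g s kw i = a}
  mul_mem' := by
    rintro _ _ ⟨i, hi, rfl⟩ ⟨j, hj, rfl⟩
    exact ⟨Nat.xor i j, Nat.xor_lt_two_pow (n := 11) hi hj, psi_xor F K i j⟩
  one_mem' := ⟨0, by norm_num, psi_zero F K⟩
  inv_mem' := by
    rintro _ ⟨i, hi, rfl⟩
    refine ⟨i, hi, (inv_eq_of_mul_eq_one_right ?_).symm⟩
    rw [← psi_xor F K, show Nat.xor i i = 0 from Nat.xor_self i, psi_zero F K]

theorem psi_lin {x : G} {img : ℕ → ℕ} (h : ∀ j < 11, x * gA z t g s kw j * x⁻¹ = psi z t g s kw (img j))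
    (i : ℕ) : x * psi z t g s kw i * x⁻¹ = psi z t g s kw (xK img 11 i) := by
  have hk : ∀ k ≤ 11, prodK (fun j => x * gA z t g s kw j * x⁻¹) k i =
      psi z t g s kw (xK img k i) := by
    intro k
    induction k with
    | zero => intro _; exact (psi_zero F K).symm
    | succ k ih =>
      intro hk
      rw [prodK, xK, ih (by omega), h k (by omega)]
      cases Nat.testBit i k
      · simp [bp]
      · simp only [bp, cond_true]
        exact (psi_xor F K _ _).symm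
  rw [psi, conj_prodK]
  exact hk 11 le_rfl

theorem psi_basis {j : ℕ} (hj : j < 8) : rnf z t g s (gRf j) = psi z t g s kw (2 ^ j) := by
  rw [psi_low F K (show 2 ^ j < 256 from Nat.pow_lt_pow_right (by norm_num) hj), (base_ok.1 j hj).1]

theorem psi_code {i : ℕ} (hi : i < 2048) :
    psi z t g s kw i = rnf z t g s (rA (i % 256)) * psi z t g s kw (256 * (i / 256)) := by
  obtain ⟨hsplit, hlo, -⟩ := split_code i hi
  conv_lhs => rw [← hsplit, psi_xor F K, psi_low F K hlo]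

theorem psi_e {e : ℕ} (he : e < 3) : psi z t g s kw (256 * 2 ^ e) = (kw (wE.getD e []) : G) := by
  obtain ⟨hm, hr, hf⟩ := psi_high F K (e := 2 ^ e) (show 2 ^ e < 2 ^ 3 from Nat.pow_lt_pow_right (by norm_num) he)
  exact fix_ext F (a := ⟨_, hm⟩) (b := kw _) hf (K.fix _) (by rw [hr, K.rho, (base_ok.2.2.1 e he).1])

theorem mEl_conj {m : ℕ} (hm : m < 16) (i : ℕ) :
    mEl z t d g s kw m * psi z t g s kw i * (mEl z t d g s kw m)⁻¹ =
      psi z t g s kw (appM (mats.getD m []) i) := by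
  refine psi_lin F K (fun j hj => ?_) i
  obtain hm1 | hm1 := Nat.lt_or_ge m 12
  · rw [mEl, show Nat.blt m 12 = true by simpa [Nat.blt_eq] using hm1, cond_true]
    obtain ⟨hr, h8, h3⟩ := conj_R m hm1
    obtain hj8 | hj8 := Nat.lt_or_ge j 8
    · obtain ⟨he, hlt⟩ := h8 j hj8
      obtain ⟨hA, -⟩ := base_ok.2.1 _ hlt
      rw [gA_low F K hj8, show (mats.getD m []).getD j 0 = img m j from rfl, psi_low F K hlt,
        mul_inv_eq_iff_eq_mul, rnf_mul F hr (base_ok.1 j hj8).2.1, rnf_mul F hA hr, he]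
    · obtain ⟨e, rfl⟩ := Nat.exists_eq_add_of_le hj8
      obtain ⟨hdiv, hlt, heq⟩ := h3 e (by omega)
      rw [gA_high F K, show (mats.getD m []).getD (8 + e) 0 = img m (8 + e) from rfl, psi_code F K hlt,
        hdiv, psi_e F K (by omega), mul_inv_eq_iff_eq_mul]
      obtain ⟨hA, -⟩ := base_ok.2.1 (img m (8 + e) % 256) (Nat.mod_lt _ (by norm_num))
      have hk := conj_rnf_Sx F (kw (wE.getD e [])).2 (K.act _) (K.fix _).2.2 hr
      have hc : cjR (eT e) (rG m) < 16384 := by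
        have hT := (K.act (wE.getD e [])).1.2
        obtain ⟨hu, hw, hv, -⟩ := code_parts hr
        refine rc_lt (Nat.xor_lt_two_pow (n := 2) hv ?_) (sr_lt (hT _ hu)) (sr_lt (hT _ hw))
        exact (show ∀ a b : ℕ, a % 2 + 2 * (b % 2) < 4 by intro a b; omega) _ _ |> fun h => by
          simpa only [show ∀ y, Nat.land y 1 = y % 2 from fun y => Nat.and_one_is_mod y] using h
      have hmul := rnf_mul F hA hc
      rw [heq] at hmul
      calc rnf z t g s (rG m) * (kw (wE.getD e []) : G)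
          = rnf z t g s (rA (img m (8 + e) % 256)) * rnf z t g s (cjR (eT e) (rG m)) *
              (kw (wE.getD e []) : G) := by rw [hmul]
        _ = _ := by rw [show cjR (eT e) (rG m) = cjR (wordT T1 T2 (wE.getD e [])) (rG m) from rfl, ← hk]; group
  rw [mEl, show Nat.blt m 12 = false by rw [← Bool.not_eq_true, Nat.blt_eq]; omega, cond_false]
  obtain hm2 | hm2 := Nat.lt_or_ge m 14
  · obtain ⟨k, rfl⟩ := Nat.exists_eq_add_of_le hm1
    rw [show Nat.blt (12 + k) 14 = true by simpa [Nat.blt_eq] using hm2, cond_true, Nat.add_sub_cancel_left,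
      show (mats.getD (12 + k) []).getD j 0 = img (12 + k) j from rfl]
    obtain ⟨h8, h3⟩ := conj_K k (by omega)
    obtain hj8 | hj8 := Nat.lt_or_ge j 8
    · obtain ⟨he, hlt⟩ := h8 j hj8
      rw [gA_low F K hj8, psi_low F K hlt, conj_rnf_Sx F (kw _).2 (K.act _) (K.fix _).2.2
        (base_ok.1 j hj8).2.1, he]
    · obtain ⟨e, rfl⟩ := Nat.exists_eq_add_of_le hj8
      obtain ⟨hmod, hdiv, heq⟩ := h3 e (by omega)
      rw [gA_high F K, show img (12 + k) (8 + e) = 256 * (img (12 + k) (8 + e) / 256) by omega,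
        mul_inv_eq_iff_eq_mul]
      obtain ⟨hm', hr', hf'⟩ := psi_high F K hdiv
      exact fix_ext F (a := kw (swd k) * kw (wE.getD e [])) (b := ⟨_, hm'⟩ * kw (swd k))
        (fix_mul F (K.fix _) (K.fix _))
        (fix_mul F hf' (K.fix _)) (by
          rw [map_mul, map_mul, K.rho, K.rho, hr', ← heq, (base_ok.2.2.1 e (by omega)).1])
  rw [show Nat.blt m 14 = false by rw [← Bool.not_eq_true, Nat.blt_eq]; omega, cond_false]
  obtain ⟨h8, h3⟩ := conj_DG
  obtain rfl | rfl : m = 14 ∨ m = 15 := by omega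
  · rw [show Nat.beq 14 14 = true from rfl, cond_true, show (mats.getD 14 []).getD j 0 = img 14 j from rfl]
    obtain hj8 | hj8 := Nat.lt_or_ge j 8
    · obtain ⟨he, hlt, -⟩ := h8 j hj8
      rw [gA_low F K hj8, psi_low F K hlt, conj_rnf_d F (base_ok.1 j hj8).2.1, he]
    · obtain ⟨e, rfl⟩ := Nat.exists_eq_add_of_le hj8
      rw [gA_high F K, (h3 e (by omega)).1, psi_e F K (by omega)]
      exact conj_comm (K.fix _).2.1
  · rw [show Nat.beq 15 14 = false from rfl, cond_false, show (mats.getD 15 []).getD j 0 = img 15 j from rfl]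
    obtain hj8 | hj8 := Nat.lt_or_ge j 8
    · obtain ⟨-, -, he, hlt⟩ := h8 j hj8
      rw [gA_low F K hj8, psi_low F K hlt, conj_rnf_g F (base_ok.1 j hj8).2.1, he]
    · obtain ⟨e, rfl⟩ := Nat.exists_eq_add_of_le hj8
      rw [gA_high F K, (h3 e (by omega)).2, psi_e F K (by omega)]
      exact conj_comm (K.fix _).2.2

theorem cent_AQ {c : G} (hc : c * z = z * c)
    (h : ∀ i < 32, c * psi z t g s kw i = psi z t g s kw i * c) : c ∈ subA F K := by
  obtain ⟨hb2, hb3, hb4⟩ := regular_ok.2.2.1, regular_ok.2.2.2.1, regular_ok.2.2.2.2.1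
  have hpsi : ∀ j < 5, psi z t g s kw (2 ^ j) = rnf z t g s (gRf j) := fun j hj =>
    (psi_basis F K (by omega)).symm
  have ht : c * t = t * c := by
    have h1 := h (2 ^ 1) (by norm_num)
    rw [hpsi 1 (by norm_num), show gRf 1 = rc 2 0 0 from rfl, rnf_rc F (by norm_num) (by norm_num)] at h1
    simpa [X, bp, aP, bG, prodK, show Nat.testBit 2 1 = true from rfl, show Nat.testBit 2 0 = false from rfl] using h1
  have hcS : c ∈ Sx z t := mem_Sx.mpr ⟨hc, ht⟩
  obtain ⟨hidx, hfix, -, -, -, hW⟩ := regular_ok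
  have hact : ∀ w ∈ wList, act (ρ ⟨c, hcS⟩) (vec w) = vec w := by
    intro w hw
    obtain ⟨b, hb, eb⟩ := hW w hw
    have h1 := h b hb
    rw [psi_low F K (by omega)] at h1
    have hlt := (base_ok.2.1 b (by omega)).1
    obtain ⟨hu, -, -⟩ := code_parts hlt
    have hW0 : pW (rA b) = 0 := by
      exact (show ∀ b < 32, pW (rA b) = 0 by decide +kernel) b hb
    have hy : rnf z t g s (rA b) = bp z (Nat.testBit (rA b) 0) * bp t (Nat.testBit (rA b) 1) * aP s w := by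
      rw [rnf, X, hW0, eb, show bG g s 0 = 1 by simp [bG, aP, prodK, bp], mul_one]
    have hw64 : w < 64 := eb ▸ hu
    have hmem : rnf z t g s (rA b) ∈ Cx Q t := by
      rw [hy]
      exact mul_mem (F.D.V_le_Cx (bp_vv z t _ _ ▸ F.D.vv_mem _)) (aP_mem F.D F.E w).1
    have hν : ν (rnf z t g s (rA b)) = vec w := by
      rw [hy, F.D.K.add _ (F.D.V_le_Cx (bp_vv z t _ _ ▸ F.D.vv_mem _)) _ (aP_mem F.D F.E w).1,
        (F.D.K.ker _ (F.D.V_le_Cx (bp_vv z t _ _ ▸ F.D.vv_mem _))).mpr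
          (F.D.inU_iff.mpr (bp_vv z t _ _ ▸ F.D.vv_mem _)), zero_add, nu_aP F.D F.E hw64]
    rw [← hν, F.D.hρ ⟨c, hcS⟩ _ hmem, conj_comm h1]
  obtain ⟨e, he, ee⟩ := hidx (ρ ⟨c, hcS⟩ 0)
  have hτ : (eP e)⁻¹ * ρ ⟨c, hcS⟩ = 1 := by
    set τ := (eP e)⁻¹ * ρ ⟨c, hcS⟩ with hτdef
    have h0 : τ 0 = 0 := by
      rw [hτdef, Equiv.Perm.mul_apply, ← ee, ← Equiv.Perm.mul_apply, inv_mul_cancel]
      rfl
    have hW' : ∀ w ∈ wList, act τ (vec w) = vec w := fun w hw => by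
      rw [hτdef, act_mul, hact w hw]
      conv_lhs => rw [← hfix e he w hw]
      rw [act_inv_act]
    refine Equiv.ext fun i => ?_
    rcases eq_or_ne i 0 with rfl | hi
    · exact h0
    · have hne : ∀ x : Fin 8, x ≠ 0 → τ x ≠ 0 := fun x hx e => hx (τ.injective (e.trans h0.symm))
      refine line_ok i hi (τ i) (hne i hi) fun w hw => ?_
      rintro ⟨b, c', hb, hc', hbc, hbi, hci, heq⟩
      refine ⟨τ b, τ c', hne b hb, hne c' hc', τ.injective.ne hbc, τ.injective.ne hbi,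
        τ.injective.ne hci, ?_⟩
      have h2 := hW' w hw
      rw [← heq, act_add, act_add, act_e, act_e, act_e, h0, e_zero, add_zero, add_zero, add_zero, heq] at h2
      exact h2
  obtain ⟨hm, hr, -⟩ := psi_high F K he
  have hcR : c * (psi z t g s kw (256 * e))⁻¹ ∈ F.D.P.R := by
    refine (F.D.rho_R (c := ⟨c, hcS⟩ * ⟨_, hm⟩⁻¹)).mp ?_
    rw [map_mul, map_inv, hr, ← inv_mul_eq_one.mp hτ, mul_inv_cancel]
  obtain ⟨x, hx, ex⟩ := rnf_surj F hcR
  obtain ⟨hu, hw, hv, hxe, hx0, hx1⟩ := code_parts hx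
  have hr0 : rnf z t g s (rc 0 (pU x) (pW x)) = (bp z (Nat.testBit x 0) * bp t (Nat.testBit x 1))⁻¹ *
      rnf z t g s x := by
    rw [rnf_rc F (by norm_num) hu, rnf, X, X, show bp z (Nat.testBit 0 0) = 1 by simp [bp],
      show bp t (Nat.testBit 0 1) = 1 by simp [bp]]
    group
  have hW2 : pU x ∈ wList ∧ pW x ∈ wList := by
    refine cent_ok _ hu _ hw fun j hj => ?_
    obtain ⟨-, hlt, -⟩ := base_ok.1 (2 + j) (by omega)
    have h0 : rc 0 (pU x) (pW x) < 16384 := by unfold rc; omega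
    refine rnf_inj F (mulR_lt h0 hlt) (mulR_lt hlt h0) ?_
    rw [← rnf_mul F h0 hlt, ← rnf_mul F hlt h0, hr0]
    have h32 : 2 ^ (2 + j) < 32 := show 2 ^ (2 + j) < 2 ^ 5 from Nat.pow_lt_pow_right (by norm_num) (by omega)
    have c1 : Commute c (rnf z t g s (gRf (2 + j))) := by
      rw [psi_basis F K (by omega)]; exact h _ h32
    have c2 : Commute (psi z t g s kw (256 * e)) (rnf z t g s (gRf (2 + j))) := by
      rw [psi_basis F K (by omega)]
      show _ * _ = _ * _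
      rw [← psi_xor F K, ← psi_xor F K, show ∀ a b, Nat.xor a b = Nat.xor b a from Nat.xor_comm]
    have c3 : Commute (bp z (Nat.testBit x 0) * bp t (Nat.testBit x 1)) (rnf z t g s (gRf (2 + j))) :=
      (bp_central F.D F.S F.E _ _ (rnf_mem F _)).symm
    rw [ex]
    exact (c3.inv_left.mul_left (c1.mul_left c2.inv_left)).eq
  obtain ⟨i, hi, hri⟩ := span_ok _ hv _ hW2.1 _ hW2.2
  refine ⟨Nat.xor i (256 * e), Nat.xor_lt_two_pow (n := 11) (by omega) (by omega), ?_⟩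
  rw [psi_xor F K, psi_low F K hi, hri, ← hxe, ex, inv_mul_cancel_right]

end

end Cfsg.Agent.Co1Frame89
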