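import Mathlib

/-!
# The six-dimensional plus quadratic space over two elements as the heart of eight points

Vectors `e i`, `i : Fin 8`, with `e 0 = 0`; a pair `{i, j}` is the non-singular vector `e i + e j`.
-/

set_option autoImplicit false
set_option maxRecDepth 100000
set_option synthInstance.maxSize 2000
set_option synthInstance.maxHeartbeats 200000

namespace Cfsg.Agent.ConwayTypeModel62

/-- The space. -/
abbrev M6 := Fin 6 → ZMod 2

/-- Permutations of the eight points. -/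
abbrev P8 := Equiv.Perm (Fin 8)

/-- The quadratic form. -/
def f (x : M6) : ZMod 2 :=
  x 0 + x 1 + x 2 + x 3 + x 4 + x 5
    + (x 0 * x 1 + x 0 * x 2 + x 0 * x 3 + x 0 * x 4 + x 0 * x 5 + x 1 * x 2 + x 1 * x 3
      + x 1 * x 4 + x 1 * x 5 + x 2 * x 3 + x 2 * x 4 + x 2 * x 5 + x 3 * x 4 + x 3 * x 5
      + x 4 * x 5)

/-- Its polar form. -/
def B (x y : M6) : ZMod 2 :=
  x 0 * (y 1 + y 2 + y 3 + y 4 + y 5) + x 1 * (y 0 + y 2 + y 3 + y 4 + y 5)
    + x 2 * (y 0 + y 1 + y 3 + y 4 + y 5) + x 3 * (y 0 + y 1 + y 2 + y 4 + y 5)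
    + x 4 * (y 0 + y 1 + y 2 + y 3 + y 5) + x 5 * (y 0 + y 1 + y 2 + y 3 + y 4)

/-- The vector of a point relative to the point `0`. -/
def e (i : Fin 8) : M6 := fun k => if i.val = k.val + 1 ∨ i.val = 7 then 1 else 0

/-- Combination of six vectors. -/
def comb (v : Fin 6 → M6) (x : M6) : M6 :=
  x 0 • v 0 + x 1 • v 1 + x 2 • v 2 + x 3 • v 3 + x 4 • v 4 + x 5 • v 5

/-- The action of a permutation. -/
def act (σ : P8) (x : M6) : M6 := comb (fun k => e (σ k.succ.castSucc) + e (σ 0)) x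

theorem two_eq (a : ZMod 2) : a = 0 ∨ a = 1 := by revert a; decide

theorem eq_of_two {a b : ZMod 2} (h : a + b = 0) : a = b := by revert a b; decide

theorem add_self (x : M6) : x + x = 0 := funext fun i => CharTwo.add_self_eq_zero (x i)

theorem eq_of_add {x y : M6} (h : x + y = 0) : x = y := funext fun i => eq_of_two (congrFun h i)

theorem f_add (x y : M6) : f (x + y) = f x + f y + B x y := by
  simp only [f, B, Pi.add_apply]; ring

theorem f_zero : f 0 = 0 := by decide

theorem B_add_left (x x' y : M6) : B (x + x') y = B x y + B x' y := by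
  simp only [B, Pi.add_apply]; ring

theorem B_add_right (x y y' : M6) : B x (y + y') = B x y + B x y' := by
  simp only [B, Pi.add_apply]; ring

theorem B_comm (x y : M6) : B x y = B y x := by
  simp only [B]; ring

theorem B_zero_left (y : M6) : B 0 y = 0 := by simp [B]

theorem B_zero_right (x : M6) : B x 0 = 0 := by simp [B]

theorem B_self (x : M6) : B x x = 0 := by
  have h := f_add x x
  rw [add_self, f_zero, CharTwo.add_self_eq_zero, zero_add] at h
  exact h.symm

theorem comb_add (v : Fin 6 → M6) (x y : M6) : comb v (x + y) = comb v x + comb v y := by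
  simp only [comb, Pi.add_apply, add_smul]; abel

theorem map_comb (L : M6 →+ M6) (v : Fin 6 → M6) (x : M6) :
    L (comb v x) = comb (fun k => L (v k)) x := by
  have h : ∀ (s : ZMod 2) (w : M6), L (s • w) = s • L w := by
    intro s w
    rcases two_eq s with rfl | rfl <;> simp
  simp only [comb, map_add, h]

theorem expand (x : M6) : x = comb (fun k => e k.succ.castSucc) x := by
  funext i
  fin_cases i <;> simp [comb, e]

theorem act_add (σ : P8) (x y : M6) : act σ (x + y) = act σ x + act σ y := comb_add _ x y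

/-- The action as a homomorphism. -/
def actHom (σ : P8) : M6 →+ M6 := AddMonoidHom.mk' (act σ) (act_add σ)

theorem e_zero : e 0 = 0 := by decide +kernel

theorem e_sum : ∑ i, e i = 0 := by decide +kernel

theorem act_zero (σ : P8) : act σ 0 = 0 := (actHom σ).map_zero

theorem act_e (σ : P8) (i : Fin 8) : act σ (e i) = e (σ i) + e (σ 0) := by
  have h7 : e (σ 1) + e (σ 0) + (e (σ 2) + e (σ 0)) + (e (σ 3) + e (σ 0)) + (e (σ 4) + e (σ 0))
      + (e (σ 5) + e (σ 0)) + (e (σ 6) + e (σ 0)) = e (σ 7) + e (σ 0) := by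
    have h : ∑ j, e (σ j) = 0 := by rw [Equiv.sum_comp σ e]; exact e_sum
    rw [Fin.sum_univ_eight] at h
    apply eq_of_add
    have e1 : ∀ w : M6, w + w = 0 := add_self
    calc _ = (e (σ 0) + e (σ 1) + e (σ 2) + e (σ 3) + e (σ 4) + e (σ 5) + e (σ 6) + e (σ 7))
          + ((e (σ 0) + e (σ 0)) + (e (σ 0) + e (σ 0)) + (e (σ 0) + e (σ 0))) := by abel
      _ = 0 := by simp only [h, e1, add_zero]
  fin_cases i <;> simp [act, comb, e]
  case «0» => exact (add_self _).symm
  case «7» => exact h7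

theorem act_pair (σ : P8) (i j : Fin 8) : act σ (e i + e j) = e (σ i) + e (σ j) := by
  rw [act_add, act_e, act_e, add_add_add_comm, add_self, add_zero]

theorem act_one (x : M6) : act 1 x = x := by
  conv_rhs => rw [expand x]
  simp only [act, Equiv.Perm.one_apply, e_zero, add_zero]

theorem act_mul (σ τ : P8) (x : M6) : act (σ * τ) x = act σ (act τ x) := by
  show _ = actHom σ (act τ x)
  conv_rhs => rw [act, map_comb]
  simp only [actHom, AddMonoidHom.mk'_apply, act_pair]
  rfl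

theorem act_inv_act (σ : P8) (x : M6) : act σ⁻¹ (act σ x) = x := by
  rw [← act_mul, inv_mul_cancel, act_one]

theorem pair_inj : ∀ a b c d : Fin 8, a ≠ b → e a + e b = e c + e d →
    (a = c ∧ b = d) ∨ (a = d ∧ b = c) := by
  decide +kernel

theorem act_inj {σ τ : P8} (h : ∀ x, act σ x = act τ x) : σ = τ := by
  refine Equiv.ext fun i => ?_
  have key : ∀ j, j ≠ i → (σ i = τ i ∧ σ j = τ j) ∨ (σ i = τ j ∧ σ j = τ i) := fun j hj =>
    pair_inj _ _ _ _ (fun he => hj (σ.injective he).symm) (by rw [← act_pair, ← act_pair, h])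
  by_contra hne
  obtain ⟨j, k, hj, hk, hjk⟩ := (show ∀ i : Fin 8, ∃ j k, j ≠ i ∧ k ≠ i ∧ j ≠ k by decide) i
  have h1 := ((key j hj).resolve_left fun h => hne h.1).1
  have h2 := ((key k hk).resolve_left fun h => hne h.1).1
  exact hjk (τ.injective (h1.symm.trans h2))

theorem f_pair : ∀ a b : Fin 8, a ≠ b → f (e a + e b) = 1 := by decide +kernel

theorem B_pair3 : ∀ a b c : Fin 8, a ≠ b → a ≠ c → b ≠ c → B (e b + e a) (e c + e a) = 1 := by
  decide +kernel

theorem f_comb (v : Fin 6 → M6) (x : M6) (h1 : ∀ i, f (v i) = 1)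
    (h2 : ∀ i j, i ≠ j → B (v i) (v j) = 1) : f (comb v x) = f x := by
  have hs : ∀ (s : ZMod 2) (w : M6), f (s • w) = s * f w := fun s w => by
    rcases two_eq s with rfl | rfl <;> simp [f_zero]
  have hl : ∀ (s : ZMod 2) u w, B (s • u) w = s * B u w := fun s u w => by
    rcases two_eq s with rfl | rfl <;> simp [B_zero_left]
  have hr : ∀ (s : ZMod 2) u w, B u (s • w) = s * B u w := fun s u w => by
    rcases two_eq s with rfl | rfl <;> simp [B_zero_right]
  simp only [comb, f_add, B_add_left, hs, hl, hr, h1]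
  rw [h2 0 1 (by decide), h2 0 2 (by decide), h2 0 3 (by decide), h2 0 4 (by decide),
    h2 0 5 (by decide), h2 1 2 (by decide), h2 1 3 (by decide), h2 1 4 (by decide),
    h2 1 5 (by decide), h2 2 3 (by decide), h2 2 4 (by decide), h2 2 5 (by decide),
    h2 3 4 (by decide), h2 3 5 (by decide), h2 4 5 (by decide)]
  simp only [f]
  ring

theorem f_act (σ : P8) (x : M6) : f (act σ x) = f x := by
  have hinj : ∀ k : Fin 6, σ k.succ.castSucc ≠ σ 0 := fun k h => by
    have := congrArg Fin.val (σ.injective h)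
    simp at this
  refine f_comb _ x (fun k => f_pair _ _ (hinj k)) fun i j hij =>
    B_pair3 _ _ _ (hinj i).symm (hinj j).symm fun h => hij ?_
  have := congrArg Fin.val (σ.injective h)
  exact Fin.ext (by simpa using this)

theorem B_act (σ : P8) (x y : M6) : B (act σ x) (act σ y) = B x y := by
  have h := f_add (act σ x) (act σ y)
  rw [← act_add, f_act, f_act, f_act, f_add] at h
  exact (add_left_cancel h).symm

theorem pair_of_f : ∀ x : M6, f x = 1 → ∃ a b : Fin 8, a ≠ b ∧ x = e a + e b := by decide +kernel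

theorem meet_of_B : ∀ a b c d : Fin 8, a ≠ b → c ≠ d → B (e a + e b) (e c + e d) = 1 →
    ((a = c ∨ a = d) ∧ b ≠ c ∧ b ≠ d) ∨ ((b = c ∨ b = d) ∧ a ≠ c ∧ a ≠ d) := by
  decide +kernel

/-- An additive automorphism preserving `f` is given by a permutation. -/
theorem exists_perm (L : M6 →+ M6) (hL : ∀ x, L x = 0 → x = 0) (hf : ∀ x, f (L x) = f x) :
    ∃ σ : P8, ∀ x, L x = act σ x := by
  let v : Fin 6 → M6 := fun k => L (e k.succ.castSucc)
  have hB : ∀ i j, B (L i) (L j) = B i j := fun i j => by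
    have h := f_add (L i) (L j)
    rw [← map_add, hf, hf, hf, f_add] at h
    exact (add_left_cancel h).symm
  have hfe : ∀ k : Fin 6, f (e k.succ.castSucc) = 1 := by decide +kernel
  have hBe : ∀ i j : Fin 6, i ≠ j → B (e i.succ.castSucc) (e j.succ.castSucc) = 1 := by
    decide +kernel
  choose a b hab hv using fun k => pair_of_f (v k) (by rw [hf, hfe])
  have hBv : ∀ i j, i ≠ j → B (e (a i) + e (b i)) (e (a j) + e (b j)) = 1 := fun i j h => by
    rw [← hv, ← hv, hB, hBe i j h]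
  have hvi : Function.Injective v := fun i j h => by
    have : ∀ i j : Fin 6, e i.succ.castSucc = e j.succ.castSucc → i = j := by decide +kernel
    exact this i j (eq_of_add (hL _ (show L (e i.succ.castSucc + e j.succ.castSucc) = 0 by
      rw [map_add, show L (e i.succ.castSucc) = L (e j.succ.castSucc) from h, add_self])))
  -- the common point
  obtain ⟨j0, k0, hk0, hj0⟩ : ∃ j0, ∃ k0 : Fin 8, v 0 = e k0 + e j0 ∧
      (a 1 = j0 ∨ b 1 = j0) := by
    rcases meet_of_B _ _ _ _ (hab 0) (hab 1) (hBv 0 1 (by decide)) with ⟨h, -⟩ | ⟨h, -⟩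
    · exact ⟨a 0, b 0, by rw [hv 0, add_comm], h.imp Eq.symm Eq.symm⟩
    · exact ⟨b 0, a 0, hv 0, h.imp Eq.symm Eq.symm⟩
  have hk : k0 ≠ j0 := fun h => hab 0 (by
    have h1 : v 0 = 0 := by rw [hk0, h, add_self]
    rw [hv 0] at h1
    by_contra hne
    have := f_pair _ _ hne
    rw [h1, f_zero] at this
    exact absurd this (by decide))
  obtain ⟨k1, hk1⟩ : ∃ k1, v 1 = e k1 + e j0 := by
    rcases hj0 with h | h
    · exact ⟨b 1, by rw [hv 1, h, add_comm]⟩
    · exact ⟨a 1, by rw [hv 1, h]⟩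
  have htri : ∀ k : Fin 6, v 0 + v 1 ≠ v k := fun k h => by
    have h0 := hL (e (Fin.succ (0 : Fin 6)).castSucc + e (Fin.succ (1 : Fin 6)).castSucc
      + e k.succ.castSucc) (by rw [map_add, map_add]; show v 0 + v 1 + v k = 0; rw [h, add_self])
    exact (show ∀ k : Fin 6, e (Fin.succ (0 : Fin 6)).castSucc + e (Fin.succ (1 : Fin 6)).castSucc
      + e k.succ.castSucc ≠ 0 by decide +kernel) k h0
  have hall : ∀ k, ∃ p, v k = e p + e j0 := by
    intro k
    rcases eq_or_ne k 0 with rfl | h0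
    · exact ⟨k0, hk0⟩
    rcases eq_or_ne k 1 with rfl | h1
    · exact ⟨k1, hk1⟩
    by_cases hin : a k = j0 ∨ b k = j0
    · rcases hin with h | h
      · exact ⟨b k, by rw [hv k, h, add_comm]⟩
      · exact ⟨a k, by rw [hv k, h]⟩
    exfalso
    obtain ⟨hna, hnb⟩ := not_or.mp hin
    have hk1' : k1 ≠ j0 := fun h => by
      have := hf (e (Fin.succ (1 : Fin 6)).castSucc)
      rw [show L (e (Fin.succ (1 : Fin 6)).castSucc) = v 1 from rfl, hk1, h, add_self, f_zero,
        hfe] at this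
      exact absurd this (by decide)
    have hne01 : k0 ≠ k1 := fun h => absurd (hvi (hk0.trans (h ▸ hk1.symm))) (by decide)
    have m0 := meet_of_B k0 j0 (a k) (b k) hk (hab k)
      (by rw [← hk0, ← hv k, hB, hBe 0 k h0.symm])
    have m1 := meet_of_B k1 j0 (a k) (b k) hk1' (hab k)
      (by rw [← hk1, ← hv k, hB, hBe 1 k h1.symm])
    have n0 : k0 = a k ∨ k0 = b k :=
      m0.elim (fun h => h.1) fun h => (h.1.elim (fun e => hna e.symm) fun e => hnb e.symm).elim
    have n1 : k1 = a k ∨ k1 = b k :=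
      m1.elim (fun h => h.1) fun h => (h.1.elim (fun e => hna e.symm) fun e => hnb e.symm).elim
    apply htri k
    rw [hk0, hk1, hv k]
    rcases n0 with h | h <;> rcases n1 with h' | h'
    · exact absurd (h.trans h'.symm) hne01
    · rw [h, h', add_add_add_comm, add_self, add_zero]
    · rw [h, h', add_add_add_comm, add_self, add_zero, add_comm]
    · exact absurd (h.trans h'.symm) hne01
  choose p hp using hall
  have hpj : ∀ k, p k ≠ j0 := fun k h => by
    have := hf (e k.succ.castSucc)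
    rw [show L (e k.succ.castSucc) = v k from rfl, hp k, h, add_self, f_zero, hfe] at this
    exact absurd this (by decide)
  have hpi : Function.Injective p := fun i j h => hvi (by rw [hp i, hp j, h])
  let g : Fin 7 → Fin 8 := Fin.cons j0 p
  have hg : Function.Injective g := Fin.cons_injective_iff.mpr ⟨fun ⟨k, h⟩ => hpj k h, hpi⟩
  let σ : P8 := Equiv.extendSubtype
    ((Equiv.ofInjective (Fin.castSucc : Fin 7 → Fin 8) (Fin.castSucc_injective 7)).symm.trans
      (Equiv.ofInjective g hg))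
  have hσ : ∀ i : Fin 7, σ i.castSucc = g i := fun i => by
    show (Equiv.extendSubtype _) i.castSucc = g i
    rw [Equiv.extendSubtype_apply_of_mem _ _ ⟨i, rfl⟩]
    simp
  refine ⟨σ, fun x => ?_⟩
  conv_lhs => rw [expand x, map_comb]
  unfold act
  congr 1
  funext k
  rw [hσ k.succ, show σ 0 = j0 from hσ 0]
  exact hp k

/-! ### Involutions -/

/-- Type `2²`. -/
def σ22 : P8 := Equiv.swap 0 1 * Equiv.swap 2 3

/-- Type `2⁴`. -/
def σ4 : P8 := Equiv.swap 0 1 * Equiv.swap 2 3 * (Equiv.swap 4 5 * Equiv.swap 6 7)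

theorem exists_extend {k : ℕ} (hk : k ≤ 6) (g : Fin k → Fin 8) (hg : Function.Injective g) :
    ∃ σ : P8, Equiv.Perm.sign σ = 1 ∧ ∀ i : Fin k, σ ⟨i.val, by omega⟩ = g i := by
  let c : Fin k → Fin 8 := fun i => ⟨i.val, by omega⟩
  have hc : Function.Injective c := fun i j h => Fin.ext (congrArg Fin.val h :)
  let σ : P8 := Equiv.extendSubtype ((Equiv.ofInjective c hc).symm.trans (Equiv.ofInjective g hg))
  have hσ : ∀ i, σ (c i) = g i := fun i => by
    show (Equiv.extendSubtype _) (c i) = g i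
    rw [Equiv.extendSubtype_apply_of_mem _ _ ⟨i, rfl⟩]
    simp
  rcases Int.units_eq_one_or (Equiv.Perm.sign σ) with h | h
  · exact ⟨σ, h, hσ⟩
  · refine ⟨σ * Equiv.swap 6 7, ?_, fun i => ?_⟩
    · rw [map_mul, h, Equiv.Perm.sign_swap (by decide)]; rfl
    · rw [Equiv.Perm.mul_apply, Equiv.swap_apply_of_ne_of_ne, hσ i]
      · exact fun he => by have := congrArg Fin.val he; simp at this; omega
      · exact fun he => by have := congrArg Fin.val he; simp at this; omega

theorem classify {σ : P8} (hs : Equiv.Perm.sign σ = 1) (h2 : σ * σ = 1) :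
    σ = 1 ∨ (∃ τ : P8, Equiv.Perm.sign τ = 1 ∧ σ = τ * σ22 * τ⁻¹) ∨
      ∃ τ : P8, Equiv.Perm.sign τ = 1 ∧ σ = τ * σ4 * τ⁻¹ := by
  rcases eq_or_ne σ 1 with h | h
  · exact Or.inl h
  have key : ∀ ρ : P8, ρ * ρ = 1 → ρ ≠ 1 → ∃ m, ρ.cycleType = Multiset.replicate m 2 ∧
      2 * m = ρ.support.card ∧ m ≤ 4 := by
    intro ρ hρ hρ1
    have ho : orderOf ρ = 2 := orderOf_eq_prime (by rw [pow_two]; exact hρ) hρ1
    obtain ⟨n, hn⟩ := Equiv.Perm.cycleType_prime_order (σ := ρ) (by rw [ho]; norm_num)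
    rw [ho] at hn
    have hsum := Equiv.Perm.sum_cycleType ρ
    rw [hn, Multiset.sum_replicate, smul_eq_mul] at hsum
    have := Finset.card_le_univ ρ.support
    rw [Fintype.card_fin] at this
    exact ⟨n + 1, hn, by omega, by omega⟩
  obtain ⟨m, hm, hm2, hm4⟩ := key σ h2 h
  have hm0 : m ≠ 0 := fun h0 => h (Equiv.Perm.cycleType_eq_zero.mp (by rw [hm, h0]; rfl))
  have hev : m = 2 ∨ m = 4 := by
    rw [Equiv.Perm.sign_of_cycleType, hm, Multiset.sum_replicate, Multiset.card_replicate,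
      smul_eq_mul] at hs
    exact (show ∀ k : Fin 5, (-1 : ℤˣ) ^ (k.val * 2 + k.val) = 1 → k.val ≠ 0 →
      k.val = 2 ∨ k.val = 4 by decide) ⟨m, by omega⟩ hs hm0
  have fix : ∀ τ₀ : P8, τ₀ * τ₀ = 1 → τ₀ ≠ 1 → τ₀.support.card = 2 * m →
      Equiv.swap 0 1 * τ₀ = τ₀ * Equiv.swap 0 1 →
      ∃ τ : P8, Equiv.Perm.sign τ = 1 ∧ σ = τ * τ₀ * τ⁻¹ := by
    intro τ₀ h1 h1' hc hsw
    obtain ⟨m', hm', hm'2, -⟩ := key τ₀ h1 h1'
    obtain rfl : m' = m := by omega
    obtain ⟨τ, hτ⟩ := isConj_iff.mp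
      (Equiv.Perm.isConj_iff_cycleType_eq.mpr (hm'.trans hm.symm))
    rcases Int.units_eq_one_or (Equiv.Perm.sign τ) with hh | hh
    · exact ⟨τ, hh, hτ.symm⟩
    · refine ⟨τ * Equiv.swap 0 1, by rw [map_mul, hh, Equiv.Perm.sign_swap (by decide)]; rfl, ?_⟩
      calc σ = τ * τ₀ * τ⁻¹ := hτ.symm
        _ = τ * (τ₀ * Equiv.swap 0 1) * (Equiv.swap 0 1)⁻¹ * τ⁻¹ := by group
        _ = τ * Equiv.swap 0 1 * τ₀ * (τ * Equiv.swap 0 1)⁻¹ := by rw [← hsw]; group
  rcases hev with rfl | rfl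
  · exact Or.inr (Or.inl (fix σ22 (by decide) (by decide) (by decide) (by decide)))
  · exact Or.inr (Or.inr (fix σ4 (by decide) (by decide) (by decide) (by decide)))

/-- A singular vector. -/
def α₀ : M6 := e 0 + e 1 + e 2 + e 3

/-- A singular vector orthogonal to the first. -/
def β₀ : M6 := e 0 + e 1 + e 4 + e 5

/-- A non-singular vector. -/
def α₁ : M6 := e 0 + e 1

/-- A non-singular vector not orthogonal to the first. -/
def β₁ : M6 := e 0 + e 2

theorem chosen : f α₀ = 0 ∧ f β₀ = 0 ∧ B α₀ β₀ = 0 ∧ f α₁ = 1 ∧ f β₁ = 1 ∧ B α₁ β₁ = 1 ∧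
    α₀ ≠ β₀ ∧ α₀ ≠ 0 ∧ β₀ ≠ 0 ∧ α₁ ≠ β₁ ∧ α₁ ≠ 0 ∧ β₁ ≠ 0 := by
  decide +kernel

theorem σ4_act : ∀ v, act σ4 v + v = B v β₀ • α₀ + B v α₀ • β₀ := by decide +kernel

theorem σ22_act : (∀ v, f (act σ22 v + v) = B v α₀) ∧
    (∀ v, B v α₀ = 0 → act σ22 v + v = 0 ∨ act σ22 v + v = α₀) ∧
    act σ22 (e 0 + e 2) + (e 0 + e 2) = α₀ := by
  decide +kernel

theorem σ4_sing : ∀ v, f (act σ4 v + v) = 0 := by decide +kernel

theorem σ22_witness : ∃ v, f (act σ22 v + v) = 1 := by decide +kernel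

theorem sing_quad : ∀ x : M6, f x = 0 → x ≠ 0 → ∃ a b c d : Fin 8,
    a ≠ b ∧ a ≠ c ∧ a ≠ d ∧ b ≠ c ∧ b ≠ d ∧ c ≠ d ∧ x = e a + e b + e c + e d := by
  decide +kernel

theorem orth_quad : ∀ x : M6, f x = 0 → B α₀ x = 0 → x ≠ 0 → x ≠ α₀ →
    ∃ a b a' b' : Fin 8, e a + e b + e a' + e b' = α₀ ∧ [a, b, a', b'].Nodup ∧
      ∃ c d : Fin 8, [a, b, a', b', c, d].Nodup ∧ x = e a + e b + e c + e d := by
  decide +kernel

end Cfsg.Agent.ConwayTypeModel62
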