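import Mathlib
import Cfsg.Agent.Lib.ConwayTypeModel62

/-!
Six bit codes for the eight point model, quadratic tables, and ordered products of six elements of an
extraspecial group.
-/

set_option autoImplicit false
set_option maxRecDepth 100000

namespace Cfsg.Agent.Co1Bits89

open Cfsg.Agent.ConwayTypeModel62

/-- The parity of the bits below a position. -/
def par : ℕ → ℕ → Bool
  | 0, _ => false
  | k + 1, v => xor (par k v) (Nat.testBit v k)

/-- The cocycle on the bits below a position. -/
def betaK : ℕ → ℕ → ℕ → Bool
  | 0, _, _ => false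
  | k + 1, u, v => xor (betaK k u v) (Nat.testBit u k && par (k + 1) v)

/-- The cocycle. -/
def beta (u v : ℕ) : Bool := betaK 6 u v

/-- The quadratic form on codes. -/
def fN (u : ℕ) : Bool := beta u u

/-- The polar form on codes. -/
def BN (u v : ℕ) : Bool := xor (beta u v) (beta v u)

/-- The vector of a code. -/
def vec (v : ℕ) : M6 := fun i => if Nat.testBit v i.val then 1 else 0

/-- A bit in the field of two elements. -/
def bz (b : Bool) : ZMod 2 := bif b then 1 else 0

theorem bz_xor : ∀ a b, bz (xor a b) = bz a + bz b := by decide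

theorem bz_inj : ∀ a b, bz a = bz b → a = b := by decide

theorem vec_xor (u v : ℕ) : vec (Nat.xor u v) = vec u + vec v := by
  funext i
  show (if Nat.testBit (u ^^^ v) i.val then (1 : ZMod 2) else 0) =
    (if Nat.testBit u i.val then 1 else 0) + if Nat.testBit v i.val then 1 else 0
  rw [Nat.testBit_xor]
  cases Nat.testBit u i.val <;> cases Nat.testBit v i.val <;> rfl

theorem vec_inj : ∀ u < 64, ∀ v < 64, vec u = vec v → u = v := by
  intro u hu v hv e
  refine Nat.eq_of_testBit_eq fun i => ?_
  rcases Nat.lt_or_ge i 6 with h | h
  · have := congrFun e ⟨i, h⟩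
    revert this
    simp only [vec]
    cases Nat.testBit u i <;> cases Nat.testBit v i <;> simp
  · have h64 : 64 ≤ 2 ^ i := by
      calc 64 = 2 ^ 6 := rfl
        _ ≤ 2 ^ i := Nat.pow_le_pow_right (by norm_num) h
    rw [Nat.testBit_lt_two_pow (hu.trans_le h64), Nat.testBit_lt_two_pow (hv.trans_le h64)]

theorem vec_surj (x : M6) : ∃ v < 64, vec v = x :=
  (by decide +kernel : ∀ x : M6, ∃ v < 64, vec v = x) x

theorem forms : ∀ u < 64, f (vec u) = bz (fN u) ∧ ∀ v < 64, B (vec u) (vec v) = bz (BN u v) := by
  decide +kernel

/-! ### Ordered products -/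

variable {G : Type*} [Group G]

/-- A power with a Boolean exponent. -/
def bp (x : G) (b : Bool) : G := bif b then x else 1

/-- The ordered product. -/
def prodK (s : ℕ → G) : ℕ → ℕ → G
  | 0, _ => 1
  | k + 1, v => prodK s k v * bp (s k) (Nat.testBit v k)

theorem bp_xor {x : G} (hx : x * x = 1) (a b : Bool) : bp x (xor a b) = bp x a * bp x b := by
  cases a <;> cases b <;> simp [bp, hx]

theorem bp_inj {x : G} (hx : x ≠ 1) {a b : Bool} (h : bp x a = bp x b) : a = b := by
  cases a <;> cases b <;> simp [bp, hx, hx.symm] at h ⊢

section Products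

variable {z : G} {s : ℕ → G} {n : ℕ} (hz : z * z = 1) (hzs : ∀ i < n, Commute z (s i))
  (hsq : ∀ i < n, s i * s i = z) (hc : ∀ i < n, ∀ j < i, s i * s j = z * (s j * s i))
include hz hzs

theorem zb_comm (b : Bool) : ∀ k ≤ n, ∀ v, Commute (bp z b) (prodK s k v) := by
  intro k
  induction k with
  | zero => exact fun _ v => Commute.one_right _
  | succ k ih =>
    intro hk v
    refine (ih (by omega) v).mul_right ?_
    cases b <;> cases Nat.testBit v k <;>
      simp [bp, (hzs k hk)]

include hc

theorem move (j : ℕ) (hj : j < n) : ∀ k ≤ j, ∀ v,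
    s j * prodK s k v = bp z (par k v) * (prodK s k v * s j) := by
  intro k
  induction k with
  | zero => intro _ v; simp [prodK, par, bp]
  | succ k ih =>
    intro hk v
    have h1 := ih (by omega) v
    cases hb : Nat.testBit v k
    · simp only [prodK, par, hb, Bool.xor_false]
      simpa [bp] using h1
    · have e := zb_comm hz hzs true k (by omega) v
      simp only [prodK, par, hb, bp_xor hz, show bp (s k) true = s k from rfl,
        show bp z true = z from rfl] at h1 e ⊢
      calc s j * (prodK s k v * s k) = (s j * prodK s k v) * s k := by group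
        _ = bp z (par k v) * (prodK s k v * (s j * s k)) := by rw [h1]; group
        _ = bp z (par k v) * ((prodK s k v * z) * (s k * s j)) := by rw [hc j hj k (by omega)]; group
        _ = _ := by rw [← e.eq]; group

include hsq

theorem prodK_mul : ∀ k ≤ n, ∀ u v,
    prodK s k u * prodK s k v = bp z (betaK k u v) * prodK s k (Nat.xor u v) := by
  intro k
  induction k with
  | zero => intro _ u v; simp [prodK, betaK, bp]
  | succ k ih =>
    intro hk u v
    have h1 := ih (by omega) u v
    have ht : Nat.testBit (Nat.xor u v) k = xor (Nat.testBit u k) (Nat.testBit v k) :=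
      Nat.testBit_xor u v k
    have hs2 : bp (s k) (Nat.testBit u k) * bp (s k) (Nat.testBit v k) =
        bp z (Nat.testBit u k && Nat.testBit v k) *
          bp (s k) (xor (Nat.testBit u k) (Nat.testBit v k)) := by
      cases Nat.testBit u k <;> cases Nat.testBit v k <;> simp [bp, hsq k hk]
    have hm : bp (s k) (Nat.testBit u k) * prodK s k v =
        bp z (Nat.testBit u k && par k v) * (prodK s k v * bp (s k) (Nat.testBit u k)) := by
      cases Nat.testBit u k
      · simp [bp]
      · simpa [bp] using move hz hzs hc k hk k le_rfl v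
    have hz1 := fun b w => zb_comm hz hzs b k (by omega : k ≤ n) w
    simp only [prodK, betaK, par, ht]
    calc prodK s k u * bp (s k) (Nat.testBit u k) * (prodK s k v * bp (s k) (Nat.testBit v k))
        = prodK s k u * (bp (s k) (Nat.testBit u k) * prodK s k v) * bp (s k) (Nat.testBit v k) := by
          group
      _ = (prodK s k u * bp z (Nat.testBit u k && par k v)) * prodK s k v *
          (bp (s k) (Nat.testBit u k) * bp (s k) (Nat.testBit v k)) := by rw [hm]; group
      _ = bp z (Nat.testBit u k && par k v) * (prodK s k u * prodK s k v) *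
          (bp (s k) (Nat.testBit u k) * bp (s k) (Nat.testBit v k)) := by
          rw [← (hz1 _ u).eq]; group
      _ = bp z (Nat.testBit u k && par k v) * bp z (betaK k u v) *
          (prodK s k (Nat.xor u v) * bp z (Nat.testBit u k && Nat.testBit v k)) *
          bp (s k) (xor (Nat.testBit u k) (Nat.testBit v k)) := by rw [h1, hs2]; group
      _ = bp z (Nat.testBit u k && par k v) * bp z (betaK k u v) *
          bp z (Nat.testBit u k && Nat.testBit v k) *
          (prodK s k (Nat.xor u v) * bp (s k) (xor (Nat.testBit u k) (Nat.testBit v k))) := by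
          rw [← (hz1 _ _).eq]; group
      _ = _ := by
          rw [← bp_xor hz, ← bp_xor hz]
          congr 2
          cases Nat.testBit u k <;> cases Nat.testBit v k <;> cases betaK k u v <;> cases par k v <;> rfl

end Products

end Cfsg.Agent.Co1Bits89
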