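import Mathlib
import Cfsg.Agent.Lib.Co1Bits89

/-!
Arithmetic on codes for the two local subgroup of order `2 ^ 11` in a group of Conway type.
-/

set_option autoImplicit false

namespace Cfsg.Agent.Co1Calc89

open Cfsg.Agent.Co1Bits89

/-- A bit. -/
def bn (b : Bool) : ℕ := bif b then 1 else 0

/-- Product of two seven bit codes `2 u + i`. -/
def mulC (x y : ℕ) : ℕ :=
  Nat.xor (Nat.xor x y) (bn (beta (Nat.shiftRight x 1) (Nat.shiftRight y 1)))

/-- Ordered product of the given codes at the bits of `v`. -/
def cI (g : ℕ → ℕ) : ℕ → ℕ → ℕ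
  | 0, _ => 0
  | k + 1, v => bif Nat.testBit v k then mulC (cI g k v) (g k) else cI g k v

/-- The code of a point. -/
def eC (i : ℕ) : ℕ := bif Nat.beq i 0 then 0 else bif Nat.beq i 7 then 63 else Nat.shiftLeft 1 (i - 1)

/-- The image of a basis code. -/
def imgOf (p : List ℕ) (k : ℕ) : ℕ := Nat.xor (eC (p.getD (k + 1) 0)) (eC (p.getD 0 0))

/-- The signed table of a permutation with six sign bits. -/
def tabOf (p : List ℕ) (bits : ℕ) : List ℕ :=
  (List.range 64).map (cI (fun k => 2 * imgOf p k + bn (Nat.testBit bits k)) 6)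

/-- A table applied to a code. -/
def cjT (T : List ℕ) (x : ℕ) : ℕ := Nat.xor (T.getD (Nat.shiftRight x 1) 0) (Nat.land x 1)

/-- Composition of tables. -/
def mulT (A B : List ℕ) : List ℕ := B.map fun w => cjT A w

/-- The identity table. -/
def idT : List ℕ := (List.range 64).map fun v => 2 * v

/-- A word in two tables. -/
def wordT (T₁ T₂ : List ℕ) (l : List ℕ) : List ℕ :=
  l.foldl (fun a x => mulT (bif Nat.beq x 0 then T₁ else T₂) a) idT

/-- Composition of permutations. -/
def compP (p q : List ℕ) : List ℕ := q.map fun i => p.getD i 0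

/-- The first coordinate of a fourteen bit code. -/
def pU (x : ℕ) : ℕ := Nat.land (Nat.shiftRight x 2) 63

/-- The second coordinate. -/
def pW (x : ℕ) : ℕ := Nat.shiftRight x 8

/-- The central part. -/
def pV (x : ℕ) : ℕ := Nat.land x 3

/-- A fourteen bit code. -/
def rc (v u w : ℕ) : ℕ := v + 4 * u + 256 * w

/-- The central part of a product. -/
def vMul (x y : ℕ) : ℕ :=
  Nat.xor (Nat.xor (Nat.xor (pV x) (pV y)) (bif BN (pU y) (pW x) then 3 else 0))
    (bn (beta (pU x) (pU y)) + 2 * bn (beta (pW x) (pW y)))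

/-- The product. -/
def mulR (x y : ℕ) : ℕ := rc (vMul x y) (Nat.xor (pU x) (pU y)) (Nat.xor (pW x) (pW y))

/-- The image under an element centralising the four group. -/
def cjR (T : List ℕ) (x : ℕ) : ℕ :=
  let a := T.getD (pU x) 0
  let b := T.getD (pW x) 0
  rc (Nat.xor (pV x) (Nat.land a 1 + 2 * Nat.land b 1)) (Nat.shiftRight a 1) (Nat.shiftRight b 1)

/-- Ordered product of fourteen bit codes. -/
def rI (g : ℕ → ℕ) : ℕ → ℕ → ℕ
  | 0, _ => 0
  | k + 1, v => bif Nat.testBit v k then mulR (rI g k v) (g k) else rI g k v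

/-- The sum of the given codes at the bits of `x`. -/
def xK (F : ℕ → ℕ) : ℕ → ℕ → ℕ
  | 0, _ => 0
  | k + 1, x => bif Nat.testBit x k then Nat.xor (xK F k x) (F k) else xK F k x

/-- A linear map on codes given by the images of the eleven basis codes. -/
def appM (m : List ℕ) (x : ℕ) : ℕ := xK (fun j => m.getD j 0) 11 x

/-- The parity of the common bits. -/
def parA (m x : ℕ) : Bool := par 11 (Nat.land m x)

/-- The dual map. -/
def appT (m : List ℕ) (x : ℕ) : ℕ :=
  (List.range 11).foldr (fun j r => bif parA x (m.getD j 0) then Nat.lor (Nat.shiftLeft 1 j) r else r) 0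

/-- Membership in a bit set. -/
def tb (S x : ℕ) : Bool := Nat.testBit S x

/-- The bit set reached along a list of steps, each from a point reached before. -/
def treeRun (f : ℕ → ℕ → ℕ) (root : ℕ) (l : List ℕ) : Option ℕ :=
  l.foldl (fun o e => o.bind fun S =>
    bif tb S (e / 32768) && Nat.beq (f (e / 2048 % 16) (e / 32768)) (e % 2048) then
      some (Nat.lor S (Nat.shiftLeft 1 (e % 2048))) else none)
    (some (Nat.shiftLeft 1 root))

/-- Steps ending in the given bit set. -/
def treeOK (f : ℕ → ℕ → ℕ) (root : ℕ) (l : List ℕ) (S : ℕ) : Bool :=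
  match treeRun f root l with
  | none => false
  | some T => Nat.beq T S

/-- A bound on every point of a check. -/
def allB : ℕ → (ℕ → Bool) → Bool
  | 0, _ => true
  | n + 1, f => allB n f && f n

theorem allB_spec {f : ℕ → Bool} : ∀ {n : ℕ}, allB n f = true → ∀ i < n, f i = true
  | 0, _, i, hi => absurd hi (Nat.not_lt_zero i)
  | n + 1, h, i, hi => by
    simp only [allB, Bool.and_eq_true] at h
    rcases Nat.lt_succ_iff_lt_or_eq.mp hi with hi' | hi'
    · exact allB_spec h.1 i hi'
    · exact hi' ▸ h.2

/-- The number of points of a set below a bound. -/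
def cntB : ℕ → (ℕ → Bool) → ℕ
  | 0, _ => 0
  | n + 1, f => cntB n f + bn (f n)

theorem cntB_eq (f : ℕ → Bool) : ∀ n, cntB n f = ((Finset.range n).filter fun i => f i = true).card
  | 0 => rfl
  | n + 1 => by
    rw [cntB, cntB_eq f n, Finset.range_add_one, Finset.filter_insert]
    cases h : f n <;> simp [bn]

theorem treeRun_spec {P : ℕ → Prop} {f : ℕ → ℕ → ℕ} (hP : ∀ g < 16, ∀ x, P x → P (f g x)) :
    ∀ (l : List ℕ) (S₀ S : ℕ), (∀ x, tb S₀ x = true → P x) →
    l.foldl (fun o e => o.bind fun S =>
      bif tb S (e / 32768) && Nat.beq (f (e / 2048 % 16) (e / 32768)) (e % 2048) then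
        some (Nat.lor S (Nat.shiftLeft 1 (e % 2048))) else none) (some S₀) = some S →
    ∀ x, tb S x = true → P x := by
  intro l
  induction l with
  | nil => intro S₀ S h e; cases e; exact h
  | cons a l ih =>
    intro S₀ S h e
    simp only [List.foldl_cons, Option.bind_some] at e
    cases hb : tb S₀ (a / 32768) && Nat.beq (f (a / 2048 % 16) (a / 32768)) (a % 2048)
    · rw [hb, cond_false] at e
      exfalso
      clear hb ih h
      induction l with
      | nil => simp at e
      | cons b l ih => simp only [List.foldl_cons, Option.bind_none] at e; exact ih e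
    · rw [hb, cond_true] at e
      simp only [Bool.and_eq_true] at hb
      refine ih _ _ (fun x hx => ?_) e
      rw [tb, show ∀ p q, Nat.lor p q = p ||| q from fun _ _ => rfl, Nat.testBit_lor, Bool.or_eq_true,
        show Nat.shiftLeft 1 (a % 2048) = 2 ^ (a % 2048) from Nat.one_shiftLeft _,
        Nat.testBit_two_pow, decide_eq_true_eq] at hx
      rcases hx with hx | hx
      · exact h x hx
      · subst hx
        rw [← Nat.eq_of_beq_eq_true hb.2]
        exact hP _ (Nat.mod_lt _ (by norm_num)) _ (h _ hb.1)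

theorem treeOK_spec {P : ℕ → Prop} {f : ℕ → ℕ → ℕ} {root : ℕ} {l : List ℕ} {S : ℕ}
    (hok : treeOK f root l S = true) (hP : ∀ g < 16, ∀ x, P x → P (f g x)) (h0 : P root) :
    ∀ x, tb S x = true → P x := by
  unfold treeOK at hok
  split at hok
  · simp at hok
  · rename_i T hT
    obtain rfl := Nat.eq_of_beq_eq_true hok
    refine treeRun_spec hP l _ _ (fun x hx => ?_) hT
    rw [tb, show Nat.shiftLeft 1 root = 2 ^ root from Nat.one_shiftLeft _, Nat.testBit_two_pow,
      decide_eq_true_eq] at hx
    exact hx ▸ h0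

end Cfsg.Agent.Co1Calc89
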