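import Cfsg.Agent.Lib.Co1Calc89
import Cfsg.Agent.Lib.Co1Data89

/-!
Kernel checks on the tables of `Co1Data89`.
-/

set_option autoImplicit false
set_option maxRecDepth 100000
set_option maxHeartbeats 4000000

namespace Cfsg.Agent.Co1Check89

open Cfsg.Agent.Co1Bits89 Cfsg.Agent.Co1Calc89 Cfsg.Agent.Co1Data89 Cfsg.Agent.ConwayTypeModel62

/-- The first generator. -/
def s1P : P8 := Equiv.swap 0 1 * Equiv.swap 1 2

/-- The second generator. -/
def s2P : P8 :=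
  Equiv.swap 1 2 * Equiv.swap 2 3 * Equiv.swap 3 4 * Equiv.swap 4 5 * Equiv.swap 5 6 * Equiv.swap 6 7

/-- The transposition. -/
def piP : P8 := Equiv.swap 0 1

/-- A word in the two generators. -/
def wordP (l : List ℕ) : P8 := l.foldl (fun a x => (bif Nat.beq x 0 then s1P else s2P) * a) 1

/-- A permutation agrees with a list of images. -/
def IsP (σ : P8) (l : List ℕ) : Prop := ∀ i : Fin 8, (σ i).val = l.getD i.val 0

theorem perm_facts : IsP s1P s1L ∧ IsP s2P s2L ∧ IsP piP piL ∧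
    (∀ j < 3, IsP (wordP (wE.getD j [])) (eL.getD (2 ^ j) [])) ∧
    (∀ j < 2, IsP (wordP (wS.getD j [])) (sgL.getD j [])) ∧
    (∀ j < 2, IsP (wordP (wPQ.getD j [])) (pqL.getD j [])) ∧
    IsP (wordP wLine) lineL ∧
    wordP (wPi.getD 0 []) = piP * s1P * piP ∧ wordP (wPi.getD 1 []) = piP * s2P * piP ∧
    Equiv.Perm.sign s1P = 1 ∧ Equiv.Perm.sign s2P = 1 ∧ Equiv.Perm.sign piP = -1 := by
  unfold IsP
  decide +kernel

theorem gen_act : (∀ k < 6, act s1P (vec (2 ^ k)) = vec (imgOf s1L k)) ∧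
    (∀ k < 6, act s2P (vec (2 ^ k)) = vec (imgOf s2L k)) ∧
    (∀ k < 6, act piP (vec (2 ^ k)) = vec (imgOf piL k)) ∧
    (∀ k < 6, imgOf s1L k < 64 ∧ imgOf s2L k < 64 ∧ imgOf piL k < 64) := by
  decide +kernel

theorem tabs_eq : tabOf s1L 1 = T1 ∧ tabOf s2L 1 = T2 := by decide +kernel

/-- The relations of the alternating group. -/
def relOK (A B : List ℕ) : Bool :=
  decide (wordT A B [0, 0, 0] = idT) &&
    decide (wordT A B
      [0, 1, 0, 1, 1, 0, 1, 0, 1, 1, 0, 1, 0, 1, 1, 0, 1, 0, 1, 1, 0, 1, 0, 1, 1, 0, 1, 0, 1, 1] = idT)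

theorem bits_options : ∀ b < 64, relOK (tabOf s1L b) T2 = true → b = 1 ∨ b = 60 := by decide +kernel

theorem rel_perm : wordP [0, 0, 0] = 1 ∧
    wordP [0, 1, 0, 1, 1, 0, 1, 0, 1, 1, 0, 1, 0, 1, 1, 0, 1, 0, 1, 1, 0, 1, 0, 1, 1, 0, 1, 0, 1, 1] = 1 := by
  decide +kernel

/-- A shift of the sections. -/
def gSh (l k : ℕ) : ℕ := 2 * 2 ^ k + bn (Nat.testBit l k)

/-- The relabelled sections. -/
def gPi (k : ℕ) : ℕ := 2 * imgOf piL k

theorem shift_ok : ∀ b < 64, ∃ l < 64, ∀ k < 6,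
    cjT (tabOf s2L b) (gSh l k) = Nat.xor (cI (gSh l) 6 (imgOf s2L k)) (bn (Nat.testBit 1 k)) := by
  decide +kernel

theorem relabel_ok : ∀ k < 6,
    cjT (wordT (tabOf s1L 60) T2 (wPi.getD 0 [])) (gPi k) =
      Nat.xor (cI gPi 6 (imgOf s1L k)) (bn (Nat.testBit 1 k)) ∧
    cjT (wordT (tabOf s1L 60) T2 (wPi.getD 1 [])) (gPi k) =
      Nat.xor (cI gPi 6 (imgOf s2L k)) (bn (Nat.testBit 1 k)) := by
  decide +kernel

/-- A linear map given by the images of the six basis codes. -/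
def linV (p : List ℕ) (v : ℕ) : ℕ :=
  (List.range 6).foldr (fun k r => bif Nat.testBit v k then Nat.xor (imgOf p k) r else r) 0

/-- The candidates for the twisting function. -/
def kap (kb : ℕ) : ℕ → ℕ → Bool
  | 0, _ => false
  | k + 1, v => bif Nat.testBit v k then
      xor (xor (kap kb k v) (Nat.testBit kb k))
        (xor (xor (BN (v % 2 ^ k) (2 ^ k)) (beta (linV piL (v % 2 ^ k)) (linV piL (2 ^ k))))
          (beta (v % 2 ^ k) (2 ^ k)))
    else kap kb k v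

theorem kappa_ok : ∀ kb < 64, ∃ v < 64, ∃ i < 2,
    let T := bif Nat.beq i 0 then T1 else T2
    let T' := wordT T1 T2 (wPi.getD i [])
    xor (kap kb 6 v) (Nat.testBit (T.getD (linV piL v) 0) 0) ≠
      xor (Nat.testBit (T'.getD v 0) 0) (kap kb 6 (Nat.shiftRight (T'.getD v 0) 1)) := by
  decide +kernel

theorem linV_act : ∀ v < 64, act piP (vec v) = vec (linV piL v) ∧ linV piL v < 64 := by decide +kernel

theorem centre_A8 : ∀ i : Fin 8, i ≠ 0 → ∃ k < 7, ((List.replicate k s2P).prod * s1P) 0 = i := by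
  decide +kernel

theorem s2_fix : ∀ i : Fin 8, s2P i = i → i = 0 := by decide +kernel

end Cfsg.Agent.Co1Check89

namespace Cfsg.Agent.Co1Check89

open Cfsg.Agent.Co1Bits89 Cfsg.Agent.Co1Calc89 Cfsg.Agent.Co1Data89 Cfsg.Agent.ConwayTypeModel62

/-- The candidates for the twisting function in the untwisted case. -/
def kap1 (kb : ℕ) : ℕ → ℕ → Bool
  | 0, _ => false
  | k + 1, v => bif Nat.testBit v k then
      xor (xor (kap1 kb k v) (Nat.testBit kb k)) (BN (v % 2 ^ k) (2 ^ k))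
    else kap1 kb k v

theorem kappa_one : ∀ kb < 64,
    (∀ v < 64, kap1 kb 6 v = kap1 kb 6 (Nat.shiftRight (T1.getD v 0) 1) ∧
      kap1 kb 6 v = kap1 kb 6 (Nat.shiftRight (T2.getD v 0) 1)) →
    ∀ v < 64, kap1 kb 6 v = fN v := by
  decide +kernel

theorem comm_words :
    wordP [1, 1, 0, 1] * wordP [0, 0, 1, 0, 0, 1, 0, 1] * (wordP [1, 1, 0, 1])⁻¹ *
        (wordP [0, 0, 1, 0, 0, 1, 0, 1])⁻¹ = s1P ∧
      wordP [0, 0, 1, 0, 1, 1, 1] * wordP [1, 1, 0, 1, 0, 0] * (wordP [0, 0, 1, 0, 1, 1, 1])⁻¹ *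
        (wordP [1, 1, 0, 1, 0, 0])⁻¹ = s2P := by
  decide +kernel

end Cfsg.Agent.Co1Check89
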