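import Mathlib
import Cfsg.Agent.Lib.LFData89

/-!
Vectors of `GF(4)^6` as twelve bit codes, linear maps as six columns, and the checks on the coded
Sylow 2-subgroup of `3.U4(3)`.
-/

set_option autoImplicit false
set_option maxRecDepth 100000

namespace Cfsg.Agent.LFCheck89

open Cfsg.Agent.LFData89

/-- a coordinate -/
def dig (c i : ℕ) : ℕ := Nat.land (Nat.shiftRight c (Nat.mul 2 i)) 3

/-- multiplication by the cube root of unity -/
def scal (c : ℕ) : ℕ :=
  Nat.lor (Nat.land (Nat.shiftRight c 1) 1365)
    (Nat.shiftLeft (Nat.xor (Nat.land c 1365) (Nat.land (Nat.shiftRight c 1) 1365)) 1)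

/-- multiplication by a field element -/
def sel (d x : ℕ) : ℕ :=
  bif Nat.beq d 0 then 0 else bif Nat.beq d 1 then x else bif Nat.beq d 2 then scal x
    else scal (scal x)

/-- a column -/
def col (g i : ℕ) : ℕ := Nat.land (Nat.shiftRight g (Nat.mul 12 i)) 4095

/-- the image of a vector -/
def app (g c : ℕ) : ℕ :=
  Nat.xor (Nat.xor (Nat.xor (Nat.xor (Nat.xor (sel (dig c 0) (col g 0)) (sel (dig c 1) (col g 1)))
    (sel (dig c 2) (col g 2))) (sel (dig c 3) (col g 3))) (sel (dig c 4) (col g 4)))
    (sel (dig c 5) (col g 5))

/-- the product -/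
def mulM (g h : ℕ) : ℕ :=
  app g (col h 0) + Nat.shiftLeft (app g (col h 1)) 12 + Nat.shiftLeft (app g (col h 2)) 24 +
    Nat.shiftLeft (app g (col h 3)) 36 + Nat.shiftLeft (app g (col h 4)) 48 +
    Nat.shiftLeft (app g (col h 5)) 60

/-- the identity -/
def idM : ℕ := 0x400100040010004001

/-- the value of a word -/
def word (w : List ℕ) : ℕ := w.foldr (fun k r => mulM (genC.getD k 0) r) idM

/-- the parity of the weight -/
def qpar (c : ℕ) : Bool :=
  ((List.range 6).foldr (fun i b => xor (!Nat.beq (dig c i) 0) b) false)

/-- an element of the Sylow subgroup -/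
def el (i : ℕ) : ℕ := sylEl.getD i 0

/-- the product of two indices -/
def tab (i j : ℕ) : ℕ := Nat.land (Nat.shiftRight (tabRow.getD i 0) (Nat.mul 7 j)) 127

/-- the outer element of an index -/
def out (i : ℕ) : ℕ := mulM (el i) piC

/-- every number below the bound passes -/
def allBelow (f : ℕ → Bool) : ℕ → Bool
  | 0 => true
  | n + 1 => f n && allBelow f n

theorem allBelow_spec {f : ℕ → Bool} : ∀ {n : ℕ}, allBelow f n = true → ∀ k < n, f k = true
  | 0, _, k, hk => absurd hk (Nat.not_lt_zero k)
  | n + 1, h, k, hk => by
    rw [allBelow, Bool.and_eq_true] at h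
    rcases Nat.lt_succ_iff_lt_or_eq.1 hk with hk | rfl
    · exact allBelow_spec h.2 k hk
    · exact h.1

theorem genC_lt : genC.all (fun g => Nat.blt g (2 ^ 72)) = true ∧ genC.length = 8 := by decide +kernel

theorem sylWord_ok : ∀ k < 7, (sylWord.getD k []).all (fun x => Nat.blt x 8) = true ∧
    word (sylWord.getD k []) = sylGen.getD k 0 := by decide +kernel

theorem el_zero : el 0 = idM := by decide +kernel

/-- the steps defining the elements -/
def elStep : Bool :=
  allBelow (fun k => allBelow (fun j => Nat.beq (el (2 ^ k + j)) (mulM (sylGen.getD k 0) (el j)))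
    (2 ^ k)) 7

theorem elStep_ok : elStep = true := by decide +kernel

/-- the table is right on the generators and extends by recursion -/
def tabStep : Bool :=
  allBelow (fun i => Nat.beq (tab i 0) i && allBelow (fun k =>
    Nat.beq (mulM (el i) (sylGen.getD k 0)) (el (tab i (2 ^ k))) &&
    allBelow (fun j => Nat.beq (tab i (2 ^ k + j)) (tab (tab i (2 ^ k)) j)) (2 ^ k)) 7) 128

theorem tabStep_ok : tabStep = true := by decide +kernel

/-- the elements are different -/
def elDistinct : Bool :=
  allBelow (fun i => allBelow (fun j => !Nat.beq (el i) (el j)) i) 128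

theorem elDistinct_ok : elDistinct = true := by decide +kernel

/-- membership in a list -/
def mem (x : ℕ) (l : List ℕ) : Bool := l.any fun y => Nat.beq x y

/-- the indices of the involutions -/
def invs : List ℕ := (List.range 128).filter fun i => !Nat.beq i 0 && Nat.beq (tab i i) 0

/-- commuting indices -/
def comm (a b : ℕ) : Bool := Nat.beq (tab a b) (tab b a)

/-- the span after adding one element -/
def span (K : List ℕ) (d : ℕ) : List ℕ := K ++ K.map (tab d)

/-- same elements -/
def same (K E : List ℕ) : Bool := K.all fun x => mem x E

/-- every elementary abelian subgroup of order 16 is one of the two -/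
def sixteenOK : Bool :=
  invs.all fun a => invs.all fun b => !(Nat.blt a b && comm a b) ||
    let K2 := span [0, a] b
    invs.all fun c => !(Nat.blt b c && comm a c && comm b c && !mem c K2) ||
      let K3 := span K2 c
      invs.all fun d => !(Nat.blt c d && comm a d && comm b d && comm c d && !mem d K3) ||
        let K4 := span K3 d
        same K4 eOne || same K4 eTwo

theorem sixteen_ok : sixteenOK = true := by decide +kernel

/-- the two lists are elementary abelian subgroups of order 16 -/
def eOK (E : List ℕ) : Bool :=
  Nat.beq E.length 16 && mem 0 E && decide E.Nodup && E.all fun a => Nat.blt a 128 &&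
    Nat.beq (tab a a) 0 && E.all fun b => mem (tab a b) E && comm a b

theorem eOne_ok : eOK eOne = true := by decide +kernel

theorem eTwo_ok : eOK eTwo = true := by decide +kernel

/-- fixed by all elements of a list -/
def fixes (E : List ℕ) (c : ℕ) : Bool := E.all fun e => Nat.beq (app (el e) c) c

/-- the fixed spaces -/
def fixOK : Bool :=
  decide uList.Nodup && Nat.beq uList.length 64 &&
    uList.all (fun c => Nat.blt c 4096 && fixes eOne c && !qpar c) &&
    allBelow (fun c => !fixes eOne c || mem c uList) 4096 &&
    Nat.ble ((List.range 4096).filter (fixes eTwo)).length 4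

theorem fix_ok : fixOK = true := by decide +kernel

/-- an involution of the Sylow subgroup has a commutator space of order at least 16 -/
def rankOK : Bool :=
  invs.all fun i => (List.range 6).any fun a => (List.range 6).any fun b =>
    allBelow (fun x => allBelow (fun y => (Nat.beq x 0 && Nat.beq y 0) ||
      !Nat.beq (Nat.xor (sel x (Nat.xor (col (el i) a) (col idM a)))
        (sel y (Nat.xor (col (el i) b) (col idM b)))) 0) 4) 4

theorem rank_ok : rankOK = true := by decide +kernel

/-- the three normalising elements are transitive -/
def transOK : Bool :=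
  allBelow (fun k => (trWord.getD k []).all (fun x => Nat.blt x 8) &&
    Nat.beq (word (trWord.getD k [])) (trC.getD k 0) &&
    eOne.all fun e => eOne.any fun e' =>
      Nat.beq (mulM (trC.getD k 0) (el e)) (mulM (el e') (trC.getD k 0))) 3 &&
  let step := fun l : List ℕ => (l ++ eOne.filter fun e' => l.any fun e => (List.range 3).any
    fun k => Nat.beq (mulM (trC.getD k 0) (el e)) (mulM (el e') (trC.getD k 0))).dedup
  Nat.beq (step (step (step (step (step (step ([eOne.getD 1 0]))))))).length 15

theorem pi_ok : mulM piC piC = idM ∧ col piC 0 = 4 ∧ col piC 1 = 1 ∧ col piC 2 = 16 ∧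
    col piC 3 = 64 ∧ col piC 4 = 256 ∧ col piC 5 = 1024 := by decide +kernel

/-- the outer coset is closed -/
def outOK : Bool :=
  allBelow (fun k => mem (mulM piC (mulM (sylGen.getD k 0) piC)) sylEl) 7

theorem out_ok : outOK = true := by decide +kernel

/-- no outer element centralises the second subgroup, and those centralising the first fix its
fixed space -/
def outCentOK : Bool :=
  allBelow (fun i =>
    !(eTwo.all fun e => Nat.beq (mulM (out i) (el e)) (mulM (el e) (out i))) &&
    (!(eOne.all fun e => Nat.beq (mulM (out i) (el e)) (mulM (el e) (out i))) ||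
      uList.all fun c => Nat.beq (app (out i) c) c)) 128

theorem outCent_ok : outCentOK = true := by decide +kernel

/-- the transvections fix every vector of the fixed space between them and move the space -/
def tvOK : Bool :=
  allBelow (fun k => (tvWord.getD k []).all (fun x => Nat.blt x 8) &&
    Nat.beq (tvC.getD k 0) (mulM (word (tvWord.getD k [])) piC) &&
    uList.any fun c => !mem (app (tvC.getD k 0) c) uList) 5 &&
  uList.all fun c => Nat.beq c 0 || (List.range 5).any fun k => Nat.beq (app (tvC.getD k 0) c) c

theorem tv_ok : tvOK = true := by decide +kernel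

theorem trans_ok : transOK = true := by decide +kernel

end Cfsg.Agent.LFCheck89
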