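import Mathlib
import Cfsg.Agent.Lib.LFCheck89

/-!
The orbit of the points fixed by a Sylow 2-subgroup as a bit set, and the two orbits of the
normaliser of the first elementary subgroup on its fixed space, with their checks.
-/

set_option autoImplicit false
set_option maxRecDepth 100000

namespace Cfsg.Agent.LFOrbitData89

open Cfsg.Agent.LFData89 Cfsg.Agent.LFCheck89

/-- the orbit as a bit set -/
def pset : ℕ := 0x6ca1ca61a6c1111eca61a6c16ca1111ea6c16ca1ca61111e111e111e111eeee0ca61a6c16ca1111ea6c16ca1ca61111e6ca1ca61a6c1111e111e111e111eeee0a6c16ca1ca61111e6ca1ca61a6c1111eca61a6c16ca1111e111e111e111eeee0111e111e111eeee0111e111e111eeee0111e111e111eeee0eee0eee0eee00000ca61a6c16ca1111ea6c16ca1ca61111e6ca1ca61a6c1111e111e111e111eeee0a6c16ca1ca61111e6ca1ca61a6c1111eca61a6c16ca1111e111e111e111eeee06ca1ca61a6c1111eca61a6c16ca1111ea6c16ca1ca61111e111e111e111eeee0111e111e111eeee0111e111e111eeee0111e111e111eeee0eee0eee0eee00000a6c16ca1ca61111e6ca1ca61a6c1111eca61a6c16ca1111e111e111e111eeee06ca1ca61a6c1111eca61a6c16ca1111ea6c16ca1ca61111e111e111e111eeee0ca61a6c16ca1111ea6c16ca1ca61111e6ca1ca61a6c1111e111e111e111eeee0111e111e111eeee0111e111e111eeee0111e111e111eeee0eee0eee0eee00000111e111e111eeee0111e111e111eeee0111e111e111eeee0eee0eee0eee00000111e111e111eeee0111e111e111eeee0111e111e111eeee0eee0eee0eee00000111e111e111eeee0111e111e111eeee0111e111e111eeee0eee0eee0eee00000eee0eee0eee00000eee0eee0eee00000eee0eee0eee000000000000000000000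

/-- the smaller orbit on the fixed space -/
def u18 : List ℕ := [5, 10, 15, 80, 160, 240, 1280, 1365, 1455, 1530, 2560, 2655, 2730, 2805, 3840, 3930, 4005, 4095]

/-- the larger orbit on the fixed space -/
def u45 : List ℕ := [85, 90, 95, 165, 170, 175, 245, 250, 255, 1285, 1290, 1295, 1360, 1370, 1375, 1440, 1445, 1450, 1520, 1525, 1535, 2565, 2570, 2575, 2640, 2645, 2650, 2720, 2725, 2735, 2800, 2810, 2815, 3845, 3850, 3855, 3920, 3925, 3935, 4000, 4010, 4015, 4080, 4085, 4090]

/-- membership in the bit set -/
def inP (c : ℕ) : Bool := Nat.testBit pset c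

/-- the bit set is invariant under the generators and contains the points fixed by the Sylow subgroup -/
def psetOK : Bool :=
  allBelow (fun c => !inP c || genC.all fun g => inP (app g c)) 4096 &&
  allBelow (fun c => !(sylGen.all fun g => Nat.beq (app g c) c) || Nat.beq c 0 || inP c) 4096 &&
  !inP 5 && sylGen.all (fun g => Nat.beq (app g 85) 85)

theorem pset_ok : psetOK = true := by decide +kernel

/-- the maps used on the fixed space -/
def move : List (ℕ → ℕ) := (trC ++ sylGen).map app ++ [scal]

/-- one step of the closure -/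
def step (u l : List ℕ) : List ℕ :=
  (l ++ u.filter fun c => l.any fun d => move.any fun g => Nat.beq (g d) c).dedup

/-- the orbits and the normalisation -/
def orbOK : Bool :=
  u18.all (fun c => mem c (step u18 (step u18 (step u18 [5])))) &&
  u45.all (fun c => mem c (step u45 (step u45 (step u45 (step u45 [85]))))) &&
  decide u18.Nodup && decide u45.Nodup && Nat.beq u18.length 18 && Nat.beq u45.length 45 &&
  uList.all (fun c => Nat.beq c 0 || mem c u18 || mem c u45) &&
  u18.all (fun c => mem c uList && !Nat.beq c 0) && u45.all (fun c => mem c uList && !Nat.beq c 0) &&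
  allBelow (fun k => eOne.all fun e => eOne.any fun e' =>
    Nat.beq (mulM (sylGen.getD k 0) (el e)) (mulM (el e') (sylGen.getD k 0))) 7 &&
  Nat.beq ((List.range 4096).filter fun c => Nat.beq (app (el (eOne.getD 1 0)) c) c).length 256

theorem orb_ok : orbOK = true := by decide +kernel

end Cfsg.Agent.LFOrbitData89
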