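import Mathlib
import Cfsg.Agent.Lib.LFOrbitData89

/-!
Data for the coordinates of the large elementary abelian subgroup and its labelling by the even
part of the Golay cocode.
-/

set_option autoImplicit false

namespace Cfsg.Agent.LFCoordData89

/-- a basis of the fixed space -/
def ub : List ℕ := [5, 10, 80, 160, 1280, 2560]

/-- a basis of the first elementary subgroup -/
def eb : List ℕ := [4, 11, 48, 82]

/-- the action of the ten normalising maps on the indices of the first elementary subgroup -/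
def perms : List (List ℕ) := [[0, 1, 13, 12, 11, 10, 6, 7, 5, 4, 8, 9, 14, 15, 3, 2], [0, 7, 2, 5, 1, 6, 3, 4, 14, 9, 12, 11, 15, 8, 13, 10], [0, 8, 4, 12, 2, 10, 6, 14, 1, 9, 5, 13, 3, 11, 7, 15], [0, 1, 2, 3, 5, 4, 7, 6, 11, 10, 9, 8, 14, 15, 12, 13], [0, 1, 2, 3, 6, 7, 4, 5, 9, 8, 11, 10, 15, 14, 13, 12], [0, 1, 2, 3, 4, 5, 6, 7, 8, 9, 10, 11, 12, 13, 14, 15], [0, 1, 2, 3, 7, 6, 5, 4, 10, 11, 8, 9, 13, 12, 15, 14], [0, 3, 2, 1, 7, 4, 5, 6, 15, 12, 13, 14, 8, 11, 10, 9], [0, 3, 2, 1, 5, 6, 7, 4, 12, 15, 14, 13, 9, 10, 11, 8], [0, 3, 2, 1, 7, 4, 5, 6, 15, 12, 13, 14, 8, 11, 10, 9]]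

/-- the orbit of a pair of indices spanning a plane with an anisotropic image -/
def orb0 : List (ℕ × ℕ × ℕ × ℕ) := [(1, 4, 0, 0), (1, 11, 0, 0), (7, 1, 1, 0), (8, 2, 2, 0), (1, 5, 3, 0), (1, 6, 4, 0), (1, 7, 6, 0), (3, 7, 7, 0), (3, 5, 8, 0), (1, 9, 0, 1), (7, 11, 1, 1), (8, 13, 2, 1), (1, 8, 3, 1), (1, 10, 4, 1), (3, 14, 7, 1), (3, 13, 8, 1), (4, 7, 1, 2), (14, 8, 2, 2), (6, 1, 3, 2), (5, 1, 4, 2), (4, 1, 6, 2), (6, 3, 7, 2), (4, 3, 8, 2), (5, 13, 0, 3), (14, 2, 1, 3), (11, 2, 3, 3), (9, 2, 4, 3), (10, 2, 6, 3), (15, 2, 7, 3), (12, 2, 8, 3), (7, 6, 1, 4), (8, 10, 2, 4), (3, 4, 7, 4), (3, 6, 8, 4), (7, 3, 1, 5), (8, 6, 2, 5), (7, 4, 1, 6), (8, 14, 2, 6), (12, 7, 0, 7), (5, 4, 1, 7), (12, 14, 2, 7), (12, 10, 0, 8), (5, 6, 1, 8), (7, 9, 1, 9), (8, 9, 2, 9), (3, 12, 7, 9), (3, 15, 8, 9), (4, 11, 1, 10), (14, 13, 2, 10), (6, 8, 3, 10), (5, 10,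 4, 10), (4, 9, 6, 10), (6, 14, 7, 10), (4, 13, 8, 10), (5, 15, 0, 11), (11, 15, 3, 11), (9, 14, 4, 11), (10, 12, 6, 11), (15, 11, 7, 11), (7, 14, 1, 12), (8, 1, 2, 12), (7, 12, 1, 13), (8, 5, 2, 13), (12, 3, 0, 14), (12, 15, 0, 15), (5, 8, 1, 15), (12, 11, 2, 15), (11, 7, 0, 16), (2, 14, 2, 16), (6, 5, 4, 16), (13, 14, 1, 17), (13, 9, 4, 17), (15, 10, 6, 17), (10, 15, 7, 17), (11, 12, 8, 17), (5, 3, 7, 18), (10, 1, 0, 19), (6, 7, 1, 19), (10, 8, 2, 19), (11, 1, 0, 20), (2, 8, 2, 20), (6, 12, 0, 21), (2, 12, 2, 22), (10, 11, 2, 23), (4, 15, 3, 23), (6, 10, 8, 23), (13, 2, 1, 24), (9, 13, 0, 25), (13, 4, 2, 25), (9, 4, 2, 26), (2, 13, 0, 28), (15, 4, 2, 28), (14, 6, 2, 30), (4, 5, 6, 30), (14, 12, 1, 31), (11, 9, 3, 31), (9, 11, 4, 31), (15, 13, 7, 31), (12, 6, 0, 33), (14, 3, 1, 35), (10, 5, 6, 35), (15, 5, 7, 35), (14, 7, 0, 38), (13, 15, 6,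 40), (15, 12, 1, 41), (14, 9, 3, 41), (13, 8, 6, 41), (10, 6, 0, 42), (11, 10, 3, 44), (9, 8, 4, 44), (11, 4, 0, 51), (2, 9, 2, 51), (2, 11, 2, 53), (9, 7, 2, 56), (9, 1, 4, 60), (15, 3, 7, 60), (13, 3, 6, 63), (2, 15, 6, 68), (2, 10, 7, 68), (13, 5, 0, 80)]

/-- the orbit of the other pairs -/
def orb1 : List (ℕ × ℕ × ℕ × ℕ) := [(1, 2, 0, 0), (1, 13, 0, 0), (7, 2, 1, 0), (8, 4, 2, 0), (3, 2, 7, 0), (1, 15, 0, 1), (7, 8, 1, 1), (8, 11, 2, 1), (1, 14, 4, 1), (1, 12, 6, 1), (3, 11, 7, 1), (3, 10, 8, 1), (7, 13, 0, 2), (4, 2, 1, 2), (14, 4, 2, 2), (6, 2, 3, 2), (5, 2, 4, 2), (5, 11, 0, 3), (14, 1, 1, 3), (11, 5, 3, 3), (9, 6, 4, 3), (10, 7, 6, 3), (15, 7, 7, 3), (12, 5, 8, 3), (12, 13, 0, 4), (12, 4, 2, 4), (7, 10, 1, 5), (8, 15, 2, 5), (3, 9, 7, 5), (3, 8, 8, 5), (7, 5, 0, 6), (4, 14, 1, 6), (6, 11, 3, 6), (5, 9, 4, 6), (4, 10, 6, 6), (6, 15, 7,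 6), (4, 12, 8, 6), (14, 11, 1, 7), (11, 8, 3, 7), (9, 10, 4, 7), (10, 9, 6, 7), (15, 14, 7, 7), (1, 3, 0, 8), (8, 7, 2, 8), (7, 15, 1, 9), (8, 3, 2, 9), (12, 9, 0, 10), (12, 8, 0, 11), (5, 12, 1, 11), (4, 8, 1, 12), (5, 14, 4, 12), (11, 13, 0, 13), (2, 4, 2, 13), (13, 1, 1, 14), (13, 6, 4, 14), (6, 13, 0, 15), (6, 4, 2, 15), (10, 13, 0, 16), (10, 4, 2, 16), (6, 9, 6, 17), (3, 1, 0, 18), (13, 7, 1, 18), (12, 1, 3, 18), (15, 1, 6, 18), (10, 3, 7, 18), (11, 3, 8, 18), (11, 6, 1, 19), (13, 10, 2, 19), (4, 6, 0, 20), (9, 3, 1, 20), (2, 7, 0, 22), (14, 10, 0, 23), (15, 6, 1, 23), (14, 15, 0, 24), (15, 8, 1, 24), (13, 12, 6, 24), (14, 5, 3, 25), (9, 5, 8, 25), (9, 12, 4, 27), (10, 14, 6, 27), (15, 9, 7, 27), (5, 7, 4, 30), (2, 5, 2, 34), (11, 14, 0, 36), (2, 3, 2, 36), (13, 11, 1, 37), (8, 12, 2, 42), (9, 15, 8, 46), (2, 1, 2, 49), (2, 6, 4, 52)]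

/-- the class of the plane through an index and its leading bit -/
def cls : List Bool := [false, false, false, true, false, false, true, false, false, false, false, true, true, false, false, true]

/-- the four possible sign functions as bit sets -/
def sigC : List ℕ := [0, 20680, 50848, 38504]

/-- preimages of the sixteen vectors of each commutator space -/
def ys : List (List ℕ) := [[], [0, 1, 2, 3, 256, 257, 258, 259, 512, 513, 514, 515, 768, 769, 770, 771], [0, 1, 2, 3, 16, 17, 18, 19, 32, 33, 34, 35, 48, 49, 50, 51], [0, 1, 2, 3, 16, 17, 18, 19, 32, 33, 34, 35, 48, 49, 50, 51], [0, 1, 2, 3, 16, 17, 18, 19, 32, 33, 34, 35, 48, 49, 50, 51], [0, 16, 32, 48, 256, 272, 288, 304, 512, 528, 544, 560, 768, 784, 800, 816], [0, 1, 2, 3, 256, 257, 258, 259, 512, 513, 514, 515, 768, 769, 770, 771], [0, 1, 2, 3, 16, 17, 18, 19, 32, 33, 34, 35, 48,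 49, 50, 51], [0, 1, 2, 3, 256, 257, 258, 259, 512, 513, 514, 515, 768, 769, 770, 771], [0, 1, 2, 3, 16, 17, 18, 19, 32, 33, 34, 35, 48, 49, 50, 51], [0, 1, 2, 3, 256, 257, 258, 259, 512, 513, 514, 515, 768, 769, 770, 771], [0, 1, 2, 3, 16, 17, 18, 19, 32, 33, 34, 35, 48, 49, 50, 51], [0, 1, 2, 3, 16, 17, 18, 19, 32, 33, 34, 35, 48, 49, 50, 51], [0, 1, 2, 3, 16, 17, 18, 19, 32, 33, 34, 35, 48, 49, 50, 51], [0, 1, 2, 3, 16, 17, 18, 19, 32, 33, 34, 35, 48, 49, 50, 51], [0, 1, 2, 3, 16, 17, 18, 19, 32, 33, 34, 35, 48, 49, 50, 51]]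

/-- the labels of the points, the extra point having label zero -/
def lab : List ℕ := [2, 4, 7, 1542, 774, 1609, 415, 399, 1899, 1017, 979, 1798, 1885, 807, 1653, 941, 839, 1595, 1841, 390, 902, 407, 871]

/-- sums of labels giving the eleven generators -/
def spanC : List (List ℕ) := [[0, 1, 2], [0], [1], [0, 2, 3, 4, 6, 8, 9], [6, 7], [2, 3, 4, 6, 8, 10], [0, 4, 5, 6, 8, 9], [2, 5, 7, 8, 9, 10], [0, 2, 3, 4, 5, 6, 10], [1, 2, 3, 5, 6, 10], [0, 2, 5, 6, 10]]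

/-- an element of order three in the stabiliser of a fixed vector, as a product of the normalising maps -/
def threeWord : List ℕ := [0, 1, 2]

end Cfsg.Agent.LFCoordData89
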