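import Mathlib
import Cfsg.Agent.Lib.LFCoordData89
import Cfsg.Agent.Lib.GolayM24

/-!
Coordinates of eleven bits for the large elementary abelian subgroup: the four candidates for the
class of 276 involutions, and the checks identifying the right one with the duads.
-/

set_option autoImplicit false
set_option maxRecDepth 100000

namespace Cfsg.Agent.LFCoordCheck89

open Cfsg.Agent.LFData89 Cfsg.Agent.LFCheck89 Cfsg.Agent.LFOrbitData89 Cfsg.Agent.LFCoordData89

/-- a bit as a number -/
def bn (b : Bool) : ℕ := bif b then 1 else 0

/-- the eleven bit code -/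
def code (b : Bool) (u i : ℕ) : ℕ := Nat.xor (Nat.xor (bn b) (Nat.mul 2 u)) (Nat.mul 128 i)

/-- the vector of six bits -/
def uCode (u : ℕ) : ℕ :=
  (List.range 6).foldr (fun j r => bif Nat.testBit u j then Nat.xor (ub.getD j 0) r else r) 0

/-- the bits of a vector of the fixed space -/
def uIdx (c : ℕ) : ℕ := dig c 0 + Nat.mul 4 (dig c 2) + Nat.mul 16 (dig c 4)

/-- the element of four bits -/
def eIdx (i : ℕ) : ℕ :=
  (List.range 4).foldr (fun j r => bif Nat.testBit i j then tab (eb.getD j 0) r else r) 0

/-- the polar form on codes -/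
def polB (a b : ℕ) : Bool := xor (xor (qpar (Nat.xor a b)) (qpar a)) (qpar b)

/-- the commutator vector -/
def pvec (i y : ℕ) : ℕ := Nat.xor (app (el (eIdx i)) y) y

/-- its sign -/
def fbit (i y : ℕ) : Bool := polB (scal y) (pvec i y)

/-- a sign function -/
def sig (k i : ℕ) : Bool := Nat.testBit (sigC.getD k 0) i

/-- the class of involutions for a sign function -/
def rlist (k : ℕ) : List ℕ :=
  u18.map (fun c => code false (uIdx c) 0) ++ u18.map (fun c => code true (uIdx c) 0) ++
    (List.range 16).flatMap fun i => (ys.getD i []).map fun y =>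
      code (xor (fbit i y) (sig k i)) (uIdx (pvec i y)) i

/-- membership -/
def inR (k : ℕ) : ℕ → Bool :=
  let s := (rlist k).foldr (fun x r => Nat.lor (Nat.shiftLeft 1 x) r) 0
  fun x => Nat.testBit s x

/-- the number of neighbours -/
def lam (k x : ℕ) : ℕ := ((rlist k).filter fun b => inR k (Nat.xor x b)).length

/-- the maps normalising the first elementary subgroup -/
def mats : List ℕ := trC ++ sylGen

/-- the basic checks on the coordinates -/
def baseOK : Bool :=
  allBelow (fun i => mem (eIdx i) eOne &&
    allBelow (fun j => Nat.beq (eIdx (Nat.xor i j)) (tab (eIdx i) (eIdx j)) &&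
      (!Nat.beq (eIdx i) (eIdx j) || Nat.beq i j)) 16) 16 &&
  eOne.all (fun e => (List.range 16).any fun i => Nat.beq (eIdx i) e) &&
  allBelow (fun u => Nat.beq (uIdx (uCode u)) u && mem (uCode u) uList &&
    allBelow (fun w => Nat.beq (uCode (Nat.xor u w)) (Nat.xor (uCode u) (uCode w))) 64) 64 &&
  uList.all (fun c => Nat.blt (uIdx c) 64 && Nat.beq (uCode (uIdx c)) c) &&
  allBelow (fun j => Nat.beq (uCode (Nat.shiftLeft 1 j)) (ub.getD j 0)) 6 &&
  allBelow (fun j => Nat.beq (eIdx (Nat.shiftLeft 1 j)) (eb.getD j 0)) 4

theorem base_ok : baseOK = true := by decide +kernel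

/-- the preimages are in range and the commutator vectors in the fixed space -/
def ysOK : Bool :=
  allBelow (fun i => (ys.getD i []).all fun y => Nat.blt y 4096 && mem (pvec i y) uList) 16 &&
  Nat.beq (ys.getD 0 []).length 0

theorem ys_ok : ysOK = true := by decide +kernel

/-- the permutations come from the maps and are linear -/
def permOK : Bool :=
  allBelow (fun g => allBelow (fun i => Nat.blt ((perms.getD g []).getD i 0) 16 &&
    Nat.beq (mulM (mats.getD g 0) (el (eIdx i)))
      (mulM (el (eIdx ((perms.getD g []).getD i 0))) (mats.getD g 0)) &&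
    allBelow (fun j => Nat.beq ((perms.getD g []).getD (Nat.xor i j) 0)
      (Nat.xor ((perms.getD g []).getD i 0) ((perms.getD g []).getD j 0))) 16) 16) 10 &&
  Nat.beq mats.length 10

theorem perm_ok : permOK = true := by decide +kernel

/-- a step of an orbit of pairs -/
def stepOK (l : List (ℕ × ℕ × ℕ × ℕ)) : Bool :=
  allBelow (fun m => Nat.beq m 0 ||
    match l.getD m (0, 0, 0, 0) with
    | (a, b, g, p) => Nat.blt p m && Nat.blt g 10 &&
      match l.getD p (0, 0, 0, 0) with
      | (a', b', _, _) => Nat.beq a ((perms.getD g []).getD a' 0) &&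
          Nat.beq b ((perms.getD g []).getD b' 0) && Nat.blt a' 16 && Nat.blt b' 16) l.length

theorem step0_ok : stepOK orb0 = true := by decide +kernel

theorem step1_ok : stepOK orb1 = true := by decide +kernel

/-- every index splits off its leading bit inside one of the orbits, as recorded, and the sign
functions satisfy the recursion -/
def clsOK : Bool :=
  allBelow (fun i => Nat.beq i 0 || Nat.beq (Nat.shiftLeft 1 (Nat.log2 i)) i ||
    ((bif cls.getD i false then orb1 else orb0).any fun p =>
      Nat.beq p.1 (Nat.shiftLeft 1 (Nat.log2 i)) &&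
        Nat.beq p.2.1 (Nat.xor i (Nat.shiftLeft 1 (Nat.log2 i))))) 16 &&
  allBelow (fun k => !sig k 0 && allBelow (fun i => Nat.beq i 0 ||
    (bif Nat.beq (Nat.shiftLeft 1 (Nat.log2 i)) i then !sig k i else
      !(xor (sig k i) (xor (sig k (Nat.shiftLeft 1 (Nat.log2 i)))
        (xor (sig k (Nat.xor i (Nat.shiftLeft 1 (Nat.log2 i))))
          (bif cls.getD i false then Nat.testBit k 0 else Nat.testBit k 1)))))) 16) 4

theorem cls_ok : clsOK = true := by decide +kernel

/-- the candidates have 276 elements in range -/
def listOK : Bool :=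
  allBelow (fun k => Nat.beq (rlist k).length 276 && decide (rlist k).Nodup &&
    (rlist k).all fun x => Nat.blt x 2048 && !Nat.beq x 0) 4

theorem list_ok : listOK = true := by decide +kernel

/-- only one candidate has constant valency -/
def lamOK : Bool :=
  allBelow (fun k => Nat.beq k 1 || !Nat.beq (lam k (code false (uIdx 5) 0)) (lam k (code false 0 1))) 4 &&
  allBelow (fun k => inR k (code false (uIdx 5) 0) && inR k (code false 0 1)) 4

theorem lam_ok : lamOK = true := by decide +kernel

/-- the label of a point -/
def labN (p : Cfsg.GolayPt) : ℕ := p.elim 0 fun x => lab.getD x.val 0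

/-- the labels give the duads -/
def duadOK : Bool :=
  allBelow (fun a => allBelow (fun b => Nat.beq a b ||
    inR 1 (Nat.xor ((0 :: lab).getD a 0) ((0 :: lab).getD b 0))) 24) 24 &&
  (rlist 1).all (fun r => (List.range 24).any fun a => (List.range 24).any fun b =>
    !Nat.beq a b && Nat.beq (Nat.xor ((0 :: lab).getD a 0) ((0 :: lab).getD b 0)) r) &&
  lab.all (fun x => Nat.blt x 2048) && Nat.beq lab.length 23

theorem duad_ok : duadOK = true := by decide +kernel

/-- the squares modulo twenty-three -/
def squares : List ℕ := (List.range 12).map fun r => r * r % 23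

/-- the code generators have label sum zero, and the labels span -/
def golayOK : Bool :=
  allBelow (fun t => Nat.beq (squares.foldr (fun q r => Nat.xor (lab.getD ((q + t) % 23) 0) r) 0) 0) 23 &&
  Nat.beq (lab.foldr Nat.xor 0) 0 && decide squares.Nodup &&
  allBelow (fun r => mem (r * r % 23) squares) 23 &&
  allBelow (fun j => (spanC.getD j []).all (fun x => Nat.blt x 23) && decide (spanC.getD j []).Nodup &&
    Nat.beq ((spanC.getD j []).foldr (fun x r => Nat.xor (lab.getD x 0) r) 0) (Nat.shiftLeft 1 j)) 11

theorem golay_ok : golayOK = true := by decide +kernel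

/-- the element of order three -/
def threeM : ℕ := threeWord.foldr (fun k r => mulM (mats.getD k 0) r) idM

/-- it has order three and fixes the vector -/
def threeOK : Bool :=
  Nat.beq (mulM threeM (mulM threeM threeM)) idM && !Nat.beq threeM idM && Nat.beq (app threeM 85) 85 &&
    threeWord.all (fun k => Nat.blt k 10)

theorem three_ok : threeOK = true := by decide +kernel

end Cfsg.Agent.LFCoordCheck89
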