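import Cfsg.Agent.Lib.Co1CheckA89
import Cfsg.Agent.Lib.LFCoordCheck89

/-!
Kernel checks on orbits, the involution classes, and the dual.
-/

set_option autoImplicit false
set_option maxRecDepth 100000
set_option maxHeartbeats 4000000
set_option synthInstance.maxSize 2000
set_option synthInstance.maxHeartbeats 200000

namespace Cfsg.Agent.Co1Check89

open Cfsg.Agent.Co1Bits89 Cfsg.Agent.Co1Calc89 Cfsg.Agent.Co1Data89 Cfsg.Agent.ConwayTypeModel62

/-- The action of the sixteen elements. -/
def fM (m x : ℕ) : ℕ := appM (mats.getD m []) x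

/-- The action of the fifteen elements fixing the first basis element. -/
def fT (m x : ℕ) : ℕ := bif Nat.blt m 15 then fM m x else x

/-- The dual action. -/
def fD (m x : ℕ) : ℕ := appT (mats.getD m []) x

/-- A candidate class. -/
def candK (b₃ b₄ b₅ : Bool) : ℕ :=
  Nat.lor (Nat.lor (Nat.lor orb0 orb1) (bif b₃ then orb3 else 0))
    (Nat.lor (bif b₄ then orb4 else 0) (bif b₅ then orb5 else 0))

/-- The class of the first basis element. -/
def classK : ℕ := candK false true false

/-- The other class. -/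
def classJ : ℕ := Nat.lor (Nat.lor orb2 orb3) orb5

/-- The number of points of a set in a block of thirty two. -/
def cnt (S c : ℕ) : ℕ := cntB 32 fun i => tb S (32 * c + i)

/-- The number of neighbours. -/
def val (S x : ℕ) : ℕ := cntB 2048 fun y => tb S y && tb S (Nat.xor x y)

/-- The number of points of the class where a mask vanishes. -/
def cntK (r : ℕ) : ℕ := cntB 2048 fun x => tb classK x && !parA r x

/-- The masks of duads. -/
def duadSet : ℕ := Nat.lor dual0 dual5

theorem trees_ok : treeOK fM root0 tree0 orb0 = true ∧ treeOK fM root1 tree1 orb1 = true ∧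
    treeOK fM root2 tree2 orb2 = true ∧ treeOK fM root3 tree3 orb3 = true ∧
    treeOK fM root4 tree4 orb4 = true ∧ treeOK fM root5 tree5 orb5 = true ∧
    treeOK fT 4 treeT orbT = true := by
  decide +kernel

theorem dtrees_ok : treeOK fD droot0 dtree0 dual0 = true ∧ treeOK fD droot1 dtree1 dual1 = true ∧
    treeOK fD droot2 dtree2 dual2 = true ∧ treeOK fD droot3 dtree3 dual3 = true ∧
    treeOK fD droot4 dtree4 dual4 = true ∧ treeOK fD droot5 dtree5 dual5 = true := by
  decide +kernel

theorem img_bound : ∀ m < 16, ∀ j < 11, img m j < 2048 := by decide +kernel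

theorem cover_ok : (allB 2048 fun x =>
    Nat.beq x 0 || (tb orb0 x || tb orb1 x || tb orb2 x || tb orb3 x || tb orb4 x || tb orb5 x)) = true := by
  decide +kernel

theorem dcover_ok : (allB 2048 fun x =>
    Nat.beq x 0 || (tb dual0 x || tb dual1 x || tb dual2 x || tb dual3 x || tb dual4 x || tb dual5 x)) = true := by
  decide +kernel

theorem class_ok : Nat.land classK classJ = 0 ∧ classK < 2 ^ 2048 ∧ classJ < 2 ^ 2048 ∧
    cntB 2048 (tb classK) = 759 ∧ cntB 2048 (tb orbT) = 28 ∧ tb orbT 2 = false ∧ tb orbT 3 = false ∧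
    orbT < 2 ^ 2048 ∧ fM 14 2 = 3 ∧ root0 = 1 ∧ root1 = 4 ∧ root2 = 40 ∧ tb orb0 2 = true ∧
    tb classK 0 = false := by
  decide +kernel

theorem cases_ok : ∀ b₃ b₄ b₅ : Bool, ¬(b₃ = false ∧ b₄ = true ∧ b₅ = false) →
    ¬(b₃ = false ∧ b₄ = false ∧ b₅ = true) → ∀ c < 64, 8 ≤ c → cnt (candK b₃ b₄ b₅) c ≠ 8 := by
  decide +kernel

theorem row_ok : ∀ j < 3, cnt (Nat.lor orb0 orb1) (2 ^ j) = 8 ∧ tb orb1 (32 * 2 ^ j) = true ∧
    val (candK false false true) (32 * 2 ^ j) = 310 ∧
    (∀ i < 32, (tb orb0 (32 * 2 ^ j + i) || tb orb1 (32 * 2 ^ j + i)) = true ∨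
      tb orb2 (32 * 2 ^ j + i) = true) := by
  decide +kernel

theorem val_root : val (candK false false true) root5 = 262 := by decide +kernel

theorem hit_ok : ∀ c < 64, 8 ≤ c → cnt classK c = 8 →
    (∃ i < 32, tb orb3 (32 * c + i) = true) ∧ (∃ i < 32, tb orb5 (32 * c + i) = true) ∧
      (∀ i < 32, tb classK (32 * c + i) = true → tb orb4 (32 * c + i) = true) ∧
      ∀ i < 32, tb classK (32 * c + i) = false →
        (tb orb3 (32 * c + i) || tb orb5 (32 * c + i) || tb orb2 (32 * c + i)) = true := by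
  decide +kernel

theorem dual_root : cntK droot0 = 407 ∧ cntK droot1 ≠ 407 ∧ cntK droot2 ≠ 407 ∧ cntK droot3 ≠ 407 ∧
    cntK droot4 ≠ 407 ∧ cntK droot5 = 407 ∧ cntK 0 = 759 ∧ tb duadSet 0 = false := by
  decide +kernel

theorem duads_ok : (allB 2048 fun r =>
    (tb duadSet (appM psiM r) == LFCoordCheck89.inR 1 r) &&
      (Nat.beq r 0 || !Nat.beq (appM psiM r) 0)) = true ∧ ∀ j < 11, psiM.getD j 0 < 2048 := by
  decide +kernel

theorem line_pt : pU (rA 40) = 25 ∧ pW (rA 40) = 7 ∧ act (wordP wLine) α₀ = vec 25 ∧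
    act (wordP wLine) β₀ = vec 7 ∧ Equiv.Perm.sign (wordP wLine) = 1 := by
  decide +kernel

end Cfsg.Agent.Co1Check89
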