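import Cfsg.Agent.Lib.Co1CheckA89

/-!
Kernel checks on totally singular three spaces, the stabiliser chain and the complement.
-/

set_option autoImplicit false
set_option maxRecDepth 100000
set_option maxHeartbeats 4000000
set_option synthInstance.maxSize 2000
set_option synthInstance.maxHeartbeats 200000

namespace Cfsg.Agent.Co1Check89

open Cfsg.Agent.Co1Bits89 Cfsg.Agent.Co1Calc89 Cfsg.Agent.Co1Data89 Cfsg.Agent.ConwayTypeModel62

/-- A totally singular three space given by a basis. -/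
def tsOK (a b c : ℕ) : Bool :=
  !fN a && !fN b && !fN c && !BN a b && !BN a c && !BN b c && !Nat.beq a 0 && !Nat.beq b 0 && !Nat.beq b a &&
    !Nat.beq c 0 && !Nat.beq c a && !Nat.beq c b && !Nat.beq c (Nat.xor a b)

/-- The span of three codes. -/
def span3 (a b c : ℕ) : List ℕ :=
  [0, a, b, Nat.xor a b, c, Nat.xor a c, Nat.xor b c, Nat.xor (Nat.xor a b) c]

/-- The first kind: an image of the block space; the second: with a moving element. -/
def spaceOK (p : ℕ × ℕ × List ℕ × ℕ × ℕ) : Bool :=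
  let T := wordT T1 T2 p.2.2.1
  Nat.beq (cntB 64 (tb p.1)) 8 &&
  bif Nat.beq p.2.1 0 then
    wList.all fun w => tb p.1 (Nat.shiftRight (T.getD w 0) 1)
  else
    (allB 64 fun x => !tb p.1 x || (Nat.beq (Nat.shiftRight (T.getD x 0) 1) x &&
      (BN p.2.2.2.1 x == Nat.testBit (T.getD x 0) 0))) &&
    tb p.1 p.2.2.2.2 && Nat.testBit (T.getD p.2.2.2.2 0) 0 && Nat.blt p.2.2.2.1 64 && Nat.blt p.2.2.2.2 64

theorem spaces_ok : spaces.all spaceOK = true := by decide +kernel

theorem spaces_cover : (allB 64 fun a => fN a || allB 64 fun b => fN b || BN a b || allB 64 fun c =>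
    !tsOK a b c || spaces.any fun p => (span3 a b c).all fun x => tb p.1 x) = true := by
  decide +kernel

/-- A word in the two generators normalising the regular subgroup. -/
def swP (l : List ℕ) : P8 :=
  l.foldl (fun a x => wordP (wS.getD x []) * a) 1

/-- The base points. -/
def baseP (k : ℕ) : Fin 8 :=
  match k with
  | 0 => 0
  | 1 => 1
  | 2 => 2
  | _ => 4

theorem chain_ok : ∀ k < 4, ((chain.getD k []).map fun p => p.1).Nodup ∧
    ((chain.getD k []).length = [8, 7, 6, 4].getD k 0) ∧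
    ∀ p ∈ chain.getD k [], (swP p.2 (baseP k)).val = p.1 ∧ ∀ i < k, swP p.2 (baseP i) = baseP i := by
  decide +kernel

/-- The generators of the part of the complement in the product of the two centralisers. -/
def m0g (j : ℕ) : ℕ := [rc 0 11 0, rc 0 22 0, rc 0 37 0, rc 0 0 11, rc 0 0 22, rc 0 0 37].getD j 0

/-- The sixty four elements. -/
def mI (i : ℕ) : ℕ := rI m0g 6 i

/-- Words for the dihedral group. -/
def w8 : List (List ℕ) :=
  let p := wPQ.getD 0 []
  let q := wPQ.getD 1 []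
  [[], p, q, p ++ q, q ++ p, p ++ q ++ p, q ++ p ++ q, p ++ q ++ p ++ q]

theorem m0_ok : (∀ j < 6, m0g j < 16384) ∧ (∀ i < 64, mI i < 16384) ∧
    (∀ i < 64, ∀ j < 64, mulR (mI i) (mI j) = mI (Nat.xor i j)) ∧
    (∀ i < 64, ∃ j < 64, cjD (mI i) = mI j) ∧
    (∀ i < 64, mI i = 0 → i = 0) ∧
    (∀ i < 64, pU (mI i) ∈ wList → pW (mI i) ∈ wList → i = 0) ∧
    (∀ j < 256, pU (rA j) ∈ wList ∧ pW (rA j) ∈ wList) := by
  decide +kernel

theorem m0_conj : ∀ a < 8, ∀ i < 64, ∃ j < 64, cjR (wordT T1 T2 (w8.getD a [])) (mI i) = mI j := by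
  decide +kernel

theorem d8_ok : (∀ a < 8, ∀ b < 8, ∃ c < 8, wordP (w8.getD a []) * wordP (w8.getD b []) = wordP (w8.getD c [])) ∧
    (∀ a < 8, ∀ b < 8, wordP (w8.getD a []) = wordP (w8.getD b []) → a = b) ∧
    (∀ a < 8, ∀ e < 8, wordP (w8.getD a []) = eP e → a = 0) ∧ wordP (w8.getD 0 []) = 1 := by
  decide +kernel

end Cfsg.Agent.Co1Check89

namespace Cfsg.Agent.Co1Check89

open Cfsg.Agent.Co1Bits89 Cfsg.Agent.Co1Calc89 Cfsg.Agent.Co1Data89 Cfsg.Agent.ConwayTypeModel62

theorem movers_ok : (spaces.all fun p => Nat.beq p.2.1 0 ||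
    !Nat.beq (mulR (rc 0 p.2.2.2.1 0) (cjR (wordT T1 T2 p.2.2.1) (rc 0 0 p.2.2.2.2)))
      (mulR (rc 0 0 p.2.2.2.2) (rc 0 p.2.2.2.1 0))) = true := by
  decide +kernel

/-- A combination of three codes. -/
def comb3 (a b c i : ℕ) : ℕ :=
  Nat.xor (Nat.xor (bif Nat.testBit i 0 then a else 0) (bif Nat.testBit i 1 then b else 0))
    (bif Nat.testBit i 2 then c else 0)

theorem span3_nodup {a b c : ℕ} (h : tsOK a b c = true) : (span3 a b c).Nodup := by
  simp only [tsOK, Bool.and_eq_true, Bool.not_eq_true', ← Bool.not_eq_true, Nat.beq_eq] at h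
  obtain ⟨⟨⟨⟨⟨⟨⟨-, a0⟩, b0⟩, ba⟩, c0⟩, ca⟩, cb⟩, cab⟩ := h
  have z1 : ∀ x : ℕ, Nat.xor x 0 = x := Nat.xor_zero
  have z2 : ∀ x : ℕ, Nat.xor 0 x = x := Nat.zero_xor
  have hspan : span3 a b c = (List.range 8).map (comb3 a b c) := by
    simp [span3, comb3, List.range_succ, z1, z2, Nat.testBit, Nat.shiftRight_eq_div_pow]
  have hz : ∀ k < 8, comb3 a b c k = 0 → k = 0 := by
    intro k hk e
    rcases (show k = 0 ∨ k = 1 ∨ k = 2 ∨ k = 3 ∨ k = 4 ∨ k = 5 ∨ k = 6 ∨ k = 7 by omega) with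
      rfl | rfl | rfl | rfl | rfl | rfl | rfl | rfl <;>
      simp [comb3, z1, z2, Nat.testBit, Nat.shiftRight_eq_div_pow] at e ⊢
    · exact a0 e
    · exact b0 e
    · exact ba e.symm
    · exact c0 e
    · exact ca e.symm
    · exact cb e.symm
    · exact cab e.symm
  have hxor : ∀ i j, comb3 a b c (Nat.xor i j) = Nat.xor (comb3 a b c i) (comb3 a b c j) := by
    intro i j
    have hb : ∀ k, Nat.testBit (Nat.xor i j) k = xor (Nat.testBit i k) (Nat.testBit j k) :=
      fun k => Nat.testBit_xor i j k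
    have hself : ∀ x : ℕ, Nat.xor x x = 0 := Nat.xor_self
    refine Nat.eq_of_testBit_eq fun k => ?_
    have hb' : ∀ x y : ℕ, Nat.testBit (Nat.xor x y) k = xor (Nat.testBit x k) (Nat.testBit y k) :=
      fun x y => Nat.testBit_xor x y k
    have hc : ∀ (u : Bool) (x : ℕ), Nat.testBit (bif u then x else 0) k = (u && Nat.testBit x k) :=
      fun u x => by cases u <;> simp
    simp only [comb3, hb', hc, hb]
    cases Nat.testBit i 0 <;> cases Nat.testBit i 1 <;> cases Nat.testBit i 2 <;>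
      cases Nat.testBit j 0 <;> cases Nat.testBit j 1 <;> cases Nat.testBit j 2 <;>
      cases Nat.testBit a k <;> cases Nat.testBit b k <;> cases Nat.testBit c k <;> rfl
  rw [hspan]
  refine List.Nodup.map_on (fun i hi j hj e => ?_) List.nodup_range
  refine Nat.xor_eq_zero_iff.mp (hz _ (Nat.xor_lt_two_pow (n := 3) (List.mem_range.mp hi) (List.mem_range.mp hj)) ?_)
  refine (hxor i j).trans ?_
  rw [e]
  exact Nat.xor_self _

theorem perp_seven : ∀ w < 64, (∀ u < 64, BN u 7 = false → BN u w = false) → w = 0 ∨ w = 7 := by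
  decide +kernel

theorem row_w : ∀ x < 256, (pW (rA x) = 0 → x < 32) ∧ (pW (rA x) = 7 → x / 32 = 1) ∧
    (x < 32 → pW (rA x) = 0) := by
  decide +kernel

end Cfsg.Agent.Co1Check89
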