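import Cfsg.Agent.Lib.Co1Orbit89

/-!
The involutions of the abelian subgroup form two classes of the normaliser, of sizes 759 and 1288.
-/

set_option autoImplicit false
set_option linter.unusedSectionVars false

namespace Cfsg.Agent.Co1Frame89

open Cfsg.Agent.LargeExtraspecial Cfsg.Agent.ConwayTypeModel62 Cfsg.Agent.ConwayTypeCoord62
  Cfsg.Agent.ConwayTypeRadical62 Cfsg.Agent.Co1Bits89 Cfsg.Agent.Co1Calc89 Cfsg.Agent.Co1Data89
  Cfsg.Agent.Co1Check89

variable {G : Type*} [Group G] [Finite G]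

theorem block_div : ∀ c < 64, ∀ i < 32, (32 * c + i) / 32 = c ∧ Nat.xor (32 * c) i = 32 * c + i := by
  decide +kernel

theorem div_xor (x y : ℕ) : Nat.xor x y / 32 = Nat.xor (x / 32) (y / 32) := by
  have h := Nat.shiftRight_xor_distrib (i := 5) (a := x) (b := y)
  simp only [Nat.shiftRight_eq_div_pow] at h
  exact h

theorem root_bound : root0 < 2048 ∧ root1 < 2048 ∧ root2 < 2048 ∧ root3 < 2048 ∧ root4 < 2048 ∧
    root5 < 2048 := by decide +kernel

section

variable {Q Q' : Subgroup G} {z t : G} {ν : G → M6} {d g : G}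
  {ρ : ↥(Sx z t) →* P8} {s : ℕ → G} (F : Fr Q Q' z t ν d ρ g s)
  {kw : List ℕ → ↥(Sx z t)} (K : Lift z t d g ρ s kw)
include F K

theorem rel_conj {x y : ℕ} (h : Rel F K x y) :
    IsConj z (psi z t g s kw x) ↔ IsConj z (psi z t g s kw y) := by
  obtain ⟨-, n, -, e⟩ := h
  have hc : IsConj (psi z t g s kw x) (psi z t g s kw y) := isConj_iff.mpr ⟨n, e⟩
  exact ⟨fun h => h.trans hc, fun h => h.trans hc.symm⟩

theorem root2_not : ¬ IsConj z (psi z t g s kw root2) := by
  obtain ⟨h25, h7, ha, hb, -⟩ := line_pt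
  rw [show root2 = 40 from rfl, psi_low F K (by norm_num), rnf, X, h25, h7]
  set c := kw wLine with hc
  set v := bp z (Nat.testBit (rA 40) 0) * bp t (Nat.testBit (rA 40) 1) with hv
  have hvm : v ∈ Cx Q t := F.D.V_le_Cx (by rw [hv, bp_vv]; exact F.D.vv_mem _)
  have hm : v * aP s 25 ∈ Cx Q t := mul_mem hvm (aP_mem F.D F.E 25).1
  have hνm : ν (v * aP s 25) = vec 25 := by
    rw [F.D.K.add _ hvm _ (aP_mem F.D F.E 25).1, (F.D.K.ker _ hvm).mpr
      (F.D.inU_iff.mpr (by rw [hv, bp_vv]; exact F.D.vv_mem _)), zero_add, nu_aP F.D F.E (by norm_num)]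
  intro hK
  have hK' : IsConj z ((c⁻¹ : ↥(Sx z t)) * (v * aP s 25 * bG g s 7) * ((c⁻¹ : ↥(Sx z t)) : G)⁻¹) :=
    hK.trans (isConj_iff.mpr ⟨_, rfl⟩)
  refine F.D.not_conj_z ⟨_, F.D.H.conj_Cx (c⁻¹).2 hm, _, F.D.conj_C' (c⁻¹).2 (bG_mem F.D F.S F.E 7),
    ?_, ?_, ?_⟩ hK'
  · rw [← F.D.hρ c⁻¹ _ hm, hνm, map_inv, hc, K.rho, ← ha, act_inv_act]
  · rw [F.D.ev_conj (bG_mem F.D F.S F.E 7), (F.hev 7 (by norm_num)).1, map_inv, hc, K.rho, ← hb, act_inv_act]
  · exact (conj_mul_conj _ _ _).symm

/-- The two classes. -/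
structure Classes (h : G) : Prop where
  hz : h * z = z * h
  ht : h * t * h⁻¹ = psi z t g s kw 4
  norm : h ∈ Subgroup.normalizer (subA F K : Set G)
  iff : ∀ x < 2048, IsConj z (psi z t g s kw x) ↔ tb classK x = true
  relK : ∀ x < 2048, tb classK x = true → Rel F K 1 x
  relJ : ∀ x < 2048, x ≠ 0 → tb classK x = false → Rel F K 40 x

theorem exists_classes : ∃ h, Classes F K h := by
  classical
  obtain ⟨h, hz, ht, hAQ, hN⟩ := exists_h F K
  obtain ⟨r0, r1, r2, r3, r4, r5⟩ := root_bound
  obtain ⟨t0, t1, t2, t3, t4, t5, -⟩ := trees_ok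
  obtain ⟨p1, p2, p4⟩ := psi_one F K
  have O0 : ∀ x, tb orb0 x = true → Rel F K root0 x := fun x hx => tree_rel F K r0 t0 hx
  have O1 : ∀ x, tb orb1 x = true → Rel F K root1 x := fun x hx => tree_rel F K r1 t1 hx
  have O2 : ∀ x, tb orb2 x = true → Rel F K root2 x := fun x hx => tree_rel F K r2 t2 hx
  have O3 : ∀ x, tb orb3 x = true → Rel F K root3 x := fun x hx => tree_rel F K r3 t3 hx
  have O4 : ∀ x, tb orb4 x = true → Rel F K root4 x := fun x hx => tree_rel F K r4 t4 hx
  have O5 : ∀ x, tb orb5 x = true → Rel F K root5 x := fun x hx => tree_rel F K r5 t5 hx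
  have k0 : IsConj z (psi z t g s kw root0) := by
    rw [show root0 = 1 from rfl, p1]
  have k1 : IsConj z (psi z t g s kw root1) := by
    rw [show root1 = 4 from rfl, ← ht]
    exact F.D.tz.trans (isConj_iff.mpr ⟨h, rfl⟩)
  have k2 := root2_not F K
  set b₃ := decide (IsConj z (psi z t g s kw root3)) with hb₃
  set b₄ := decide (IsConj z (psi z t g s kw root4)) with hb₄
  set b₅ := decide (IsConj z (psi z t g s kw root5)) with hb₅
  have hcand : ∀ x < 2048, IsConj z (psi z t g s kw x) ↔ tb (candK b₃ b₄ b₅) x = true := by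
    intro x hx
    simp only [candK, tb_lor, tb_bif, Bool.or_eq_true, Bool.and_eq_true, hb₃, hb₄, hb₅, decide_eq_true_eq]
    constructor
    · intro hK
      have hc := allB_spec cover_ok x hx
      simp only [Bool.or_eq_true] at hc
      rcases hc with e | ((((e | e) | e) | e) | e) | e
      · exfalso
        rw [Nat.eq_of_beq_eq_true e, psi_zero F K] at hK
        exact F.D.H.h.ne_one (isConj_one_right.mp hK.symm)
      · exact Or.inl (Or.inl (Or.inl e))
      · exact Or.inl (Or.inl (Or.inr e))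
      · exact absurd ((rel_conj F K (O2 x e)).mpr hK) k2
      · exact Or.inl (Or.inr ⟨(rel_conj F K (O3 x e)).mpr hK, e⟩)
      · exact Or.inr (Or.inl ⟨(rel_conj F K (O4 x e)).mpr hK, e⟩)
      · exact Or.inr (Or.inr ⟨(rel_conj F K (O5 x e)).mpr hK, e⟩)
    · rintro (((e | e) | ⟨hk, e⟩) | ⟨hk, e⟩ | ⟨hk, e⟩)
      · exact (rel_conj F K (O0 x e)).mp k0
      · exact (rel_conj F K (O1 x e)).mp k1
      · exact (rel_conj F K (O3 x e)).mp hk
      · exact (rel_conj F K (O4 x e)).mp hk
      · exact (rel_conj F K (O5 x e)).mp hk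
  -- the action of `h` on codes
  have hcl : ∀ x, x < 2048 → ∃ y, y < 2048 ∧ h * psi z t g s kw x * h⁻¹ = psi z t g s kw y := by
    intro x hx
    obtain ⟨y, hy, e⟩ := ((Subgroup.mem_normalizer_iff.mp hN) (psi z t g s kw x)).mp
      (show psi z t g s kw x ∈ subA F K from ⟨x, hx, rfl⟩)
    exact ⟨y, hy, e.symm⟩
  choose H hH1 hH2 using hcl
  have hadd : ∀ x (hx : x < 2048) y (hy : y < 2048) (hxy : Nat.xor x y < 2048),
      H (Nat.xor x y) hxy = Nat.xor (H x hx) (H y hy) := fun x hx y hy hxy => by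
    refine psi_inj F K (hH1 _ _) (Nat.xor_lt_two_pow (n := 11) (hH1 _ _) (hH1 _ _)) ?_
    rw [← hH2, psi_xor F K x y, ← conj_mul_conj, hH2 x hx, hH2 y hy, psi_xor F K]
  have hsmall : ∀ x (hx : x < 2048), x < 32 → H x hx < 32 := fun x hx h32 => by
    obtain ⟨j, hj, e⟩ := hAQ x h32
    rwa [psi_inj F K (hH1 x hx) (show j < 2048 by omega) ((hH2 x hx).symm.trans e)]
  have hinj : ∀ x (hx : x < 2048) y (hy : y < 2048), H x hx = H y hy → x = y := fun x hx y hy e => by
    have := hH2 x hx
    rw [e, ← hH2 y hy] at this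
    exact psi_inj F K hx hy (mul_left_cancel (mul_right_cancel this))
  have hbig : ∀ x (hx : x < 2048), 32 ≤ x → 32 ≤ H x hx := by
    intro x hx h32
    by_contra hlt
    let φ : Fin 32 → Fin 32 := fun a => ⟨H a (by omega), hsmall _ _ a.2⟩
    have hφ : Function.Injective φ := fun a b e =>
      Fin.ext (hinj _ _ _ _ (congrArg Fin.val e))
    obtain ⟨a, ha⟩ := Finite.injective_iff_surjective.mp hφ ⟨H x hx, by omega⟩
    have := hinj _ _ _ _ (congrArg Fin.val ha)
    omega
  have hblock : ∀ c < 64, ∀ i < 32, ∀ (hx : 32 * c + i < 2048) (hy : 32 * c < 2048),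
      H (32 * c + i) hx / 32 = H (32 * c) hy / 32 := by
    intro c hc i hi hx hy
    obtain ⟨-, e⟩ := block_div c hc i hi
    have hi' : i < 2048 := by omega
    have := hadd (32 * c) hy i hi' (by rw [e]; exact hx)
    simp only [e] at this
    rw [this, div_xor, Nat.div_eq_of_lt (hsmall i hi' hi), show Nat.xor (H (32 * c) hy / 32) 0 = _ from Nat.xor_zero _]
  -- some translate of the abelian part of the centraliser leaves the product
  obtain ⟨j, hj, hout⟩ : ∃ j, j < 3 ∧ ∀ hx : 32 * 2 ^ j < 2048, 256 ≤ H (32 * 2 ^ j) hx := by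
    by_contra hno
    push Not at hno
    have hW : ∀ j, j < 3 → ∀ hx : 32 * 2 ^ j < 2048, H (32 * 2 ^ j) hx / 32 = 1 := by
      intro j hj hx
      obtain ⟨hx', hin⟩ := hno j hj
      have hy : H (32 * 2 ^ j) hx < 256 := hin
      set y := H (32 * 2 ^ j) hx with hydef
      have hx256 : 32 * 2 ^ j < 256 := by
        have : 2 ^ j < 2 ^ 3 := Nat.pow_lt_pow_right (by norm_num) hj
        omega
      obtain ⟨hlty, -⟩ := base_ok.2.1 y hy
      obtain ⟨hu, hw, -⟩ := code_parts hlty
      obtain ⟨hz7, hseven, -⟩ := row_w y hy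
      suffices hperp : ∀ u < 64, BN u 7 = false → BN u (pW (rA y)) = false by
        rcases perp_seven (pW (rA y)) hw hperp with e | e
        · have := hz7 e
          have := hbig (32 * 2 ^ j) hx (Nat.le_mul_of_pos_right 32 (Nat.two_pow_pos j))
          omega
        · exact hseven e
      intro u hu7 hB7
      set r := psi z t g s kw y
      set x := psi z t g s kw (32 * 2 ^ j)
      have hxR : x ∈ F.D.P.R := by
        show psi z t g s kw _ ∈ _
        rw [psi_low F K hx256]
        exact rnf_mem F _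
      have hq := (aP_mem F.D F.E u).1
      have hqt : Commute (aP s u) (aP s 7) := by
        have hh := F.D.comm_Cx hq (aP_mem F.D F.E 7).1
        rw [nu_aP F.D F.E hu7, nu_aP F.D F.E (by norm_num), (forms u hu7).2 7 (by norm_num), hB7,
          show bz false = 0 from rfl, show ((0 : ZMod 2), (0 : ZMod 2)) = 0 from rfl, vv_zero] at hh
        exact mul_inv_eq_iff_eq_mul.mp (mul_inv_eq_one.mp hh)
      have hq' : h⁻¹ * aP s u * h ∈ Cx Q t := by
        refine mem_Cx.mpr ⟨?_, ?_⟩
        · have := F.D.H.h.norm h⁻¹ (show Commute h⁻¹ z from (show Commute h z from hz).inv_left) _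
            (mem_Cx.mp hq).1
          rwa [inv_inv] at this
        · rw [← p4, ← ht] at hqt
          calc h⁻¹ * aP s u * h * t = h⁻¹ * (aP s u * (h * t * h⁻¹)) * h := by group
            _ = _ := by rw [hqt.eq]; group
      obtain ⟨v, hv, ev'⟩ : ∃ v ∈ F.D.P.V,
          x * (h⁻¹ * aP s u * h) * x⁻¹ * (h⁻¹ * aP s u * h)⁻¹ = v :=
        ⟨_, F.D.comm_V hxR (F.D.Cx_le_R hq'), rfl⟩
      have hr : r * aP s u * r⁻¹ * (aP s u)⁻¹ = h * v * h⁻¹ := by
        rw [← ev']
        simp only [r, x, hydef]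
        rw [← hH2 _ hx]
        group
      have hcomm : r * aP s u * r⁻¹ * (aP s u)⁻¹ =
          vv z t (bz (BN u (pW (rA y))) + bz (BN (pU (rA y)) u), bz (BN u (pW (rA y)))) := by
        have hy' : r = bp z (Nat.testBit (rA y) 0) * bp t (Nat.testBit (rA y) 1) * aP s (pU (rA y)) *
            bG g s (pW (rA y)) := by
          show psi z t g s kw y = _
          rw [psi_low F K hy]
          rfl
        have hb := b_a F.D F.S F.E (p := fun w => w) F.hev hu7 hw
        have hca := F.D.comm_Cx (aP_mem F.D F.E (pU (rA y))).1 hq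
        rw [nu_aP F.D F.E hu, nu_aP F.D F.E hu7, (forms _ hu).2 u hu7] at hca
        rw [bp_vv] at hb hy'
        rw [hy']
        set V0 := vv z t (bz (Nat.testBit (rA y) 0), bz (Nat.testBit (rA y) 1))
        set A0 := aP s (pU (rA y))
        set B0 := bG g s (pW (rA y))
        set W0 := vv z t (bz (BN u (pW (rA y))), bz (BN u (pW (rA y))))
        have c0 : ∀ r ∈ F.D.P.R, r * V0 = V0 * r := fun r hr => F.D.vv_comm _ hr
        have c1 : ∀ r ∈ F.D.P.R, r * W0 = W0 * r := fun r hr => F.D.vv_comm _ hr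
        have hA0 := F.D.Cx_le_R (aP_mem F.D F.E (pU (rA y))).1
        calc V0 * A0 * B0 * aP s u * (V0 * A0 * B0)⁻¹ * (aP s u)⁻¹
            = V0 * A0 * (B0 * aP s u) * B0⁻¹ * A0⁻¹ * V0⁻¹ * (aP s u)⁻¹ := by group
          _ = V0 * (A0 * W0) * aP s u * A0⁻¹ * V0⁻¹ * (aP s u)⁻¹ := by rw [hb]; group
          _ = W0 * (V0 * (A0 * aP s u * A0⁻¹)) * V0⁻¹ * (aP s u)⁻¹ := by
            rw [c1 A0 hA0, show V0 * (W0 * A0) = (V0 * W0) * A0 by group, c1 V0 (F.D.P.V_le_R (F.D.vv_mem _))]
            group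
          _ = W0 * (A0 * aP s u * A0⁻¹) * (aP s u)⁻¹ := by
            rw [← c0 _ (mul_mem (mul_mem hA0 (F.D.Cx_le_R hq)) (inv_mem hA0))]
            simp only [A0]
            group
          _ = _ := by
            rw [mul_assoc, hca, ← F.D.vv_add, Prod.mk_add_mk, add_zero]
      have hz_side : h * v * h⁻¹ = 1 ∨ h * v * h⁻¹ = z ∨ h * v * h⁻¹ = psi z t g s kw 4 ∨
          h * v * h⁻¹ = psi z t g s kw 5 := by
        rcases F.D.P.mem_V.mp hv with e | e | e | e <;> rw [e]
        · exact Or.inl (by group)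
        · exact Or.inr (Or.inl (conj_comm hz))
        · exact Or.inr (Or.inr (Or.inl ht))
        · refine Or.inr (Or.inr (Or.inr ?_))
          rw [← conj_mul_conj, conj_comm hz, ht, show (5 : ℕ) = Nat.xor 1 4 from rfl, psi_xor F K, p1]
      have ht0 : ∀ i, vv z t (i, 1) ≠ 1 ∧ vv z t (i, 1) ≠ z ∧ vv z t (i, 1) ≠ psi z t g s kw 4 ∧
          vv z t (i, 1) ≠ psi z t g s kw 5 := by
        intro i
        obtain ⟨a, ha, ea⟩ : ∃ a ∈ [2, 3], vv z t (i, 1) = psi z t g s kw a := by
          rcases two_eq i with rfl | rfl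
          · exact ⟨2, by simp, by rw [p2, vv, zp_zero, zp_one, one_mul]⟩
          · exact ⟨3, by simp, by
              rw [show (3 : ℕ) = Nat.xor 1 2 from rfl, psi_xor F K, p1, p2, vv, zp_one, zp_one]⟩
        have ha4 : a < 4 ∧ 2 ≤ a := by simp at ha; omega
        rw [ea]
        refine ⟨fun e => ?_, fun e => ?_, fun e => ?_, fun e => ?_⟩
        · have := psi_inj F K (by omega) (by norm_num) (e.trans (psi_zero F K).symm); omega
        · have := psi_inj F K (by omega) (by norm_num) (e.trans p1.symm); omega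
        · have := psi_inj F K (by omega) (by norm_num) e; omega
        · have := psi_inj F K (by omega) (by norm_num) e; omega
      by_contra hne
      rw [Bool.not_eq_false] at hne
      rw [hne, show bz true = 1 from rfl, hr] at hcomm
      obtain ⟨q1, q2, q3, q4⟩ := ht0 (1 + bz (BN (pU (rA y)) u))
      rcases hz_side with e | e | e | e <;> rw [e] at hcomm
      exacts [q1 hcomm.symm, q2 hcomm.symm, q3 hcomm.symm, q4 hcomm.symm]
    have e0 := hW 0 (by norm_num) (by norm_num)
    have e1 := hW 1 (by norm_num) (by norm_num)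
    have e3 := hadd 32 (by norm_num) 64 (by norm_num) (show Nat.xor 32 64 < 2048 by decide)
    have hbig' := hbig (Nat.xor 32 64) (by decide) (by decide)
    have : H (Nat.xor 32 64) (by decide) / 32 = 0 := by
      rw [e3, div_xor]
      simp only [show (32 : ℕ) * 2 ^ 0 = 32 from rfl, show (32 : ℕ) * 2 ^ 1 = 64 from rfl] at e0 e1
      rw [e0, e1]
      rfl
    omega
  have h2j : 2 ^ j < 2 ^ 3 := Nat.pow_lt_pow_right (by norm_num) hj
  have hbase : 32 * 2 ^ j < 2048 := by omega
  set c := H (32 * 2 ^ j) hbase / 32 with hc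
  have hc64 : c < 64 := by have := hH1 (32 * 2 ^ j) hbase; omega
  have hc8 : 8 ≤ c := by have := hout hbase; omega
  have himg : ∀ i < 32, ∀ hx : 32 * 2 ^ j + i < 2048, ∃ k < 32, H (32 * 2 ^ j + i) hx = 32 * c + k := by
    intro i hi hx
    refine ⟨H (32 * 2 ^ j + i) hx % 32, Nat.mod_lt _ (by norm_num), ?_⟩
    rw [hc, ← hblock (2 ^ j) (by omega) i hi hx hbase]
    omega
  have hbound : ∀ i < 32, 32 * 2 ^ j + i < 2048 := fun i hi => by omega
  choose φ hφ1 hφ2 using fun i (hi : i < 32) => himg i hi (hbound i hi)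
  have hKiff : ∀ i (hi : i < 32), IsConj z (psi z t g s kw (32 * 2 ^ j + i)) ↔
      IsConj z (psi z t g s kw (32 * c + φ i hi)) := fun i hi => by
    rw [← hφ2 i hi]
    exact rel_conj F K ⟨hH1 _ _, h, hN, hH2 _ _⟩
  obtain ⟨hrow, horb, hval, hrest⟩ := row_ok j hj
  have hφinj : ∀ a (ha : a < 32) b (hb : b < 32), φ a ha = φ b hb → a = b := fun a ha b hb e => by
    have := hinj _ _ _ _ ((hφ2 a ha).trans (by rw [e]; exact (hφ2 b hb).symm))
    omega
  have hφsurj : ∀ k < 32, ∃ i, ∃ hi : i < 32, φ i hi = k := by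
    intro k hk
    let Φ : Fin 32 → Fin 32 := fun a => ⟨φ a a.2, hφ1 a a.2⟩
    have hΦ : Function.Injective Φ := fun a b e => Fin.ext (hφinj _ _ _ _ (congrArg Fin.val e))
    obtain ⟨a, ha⟩ := Finite.injective_iff_surjective.mp hΦ ⟨k, hk⟩
    exact ⟨a, a.2, congrArg Fin.val ha⟩
  have hrow2 : ∀ i < 32, tb (candK b₃ b₄ b₅) (32 * 2 ^ j + i) = tb (Nat.lor orb0 orb1) (32 * 2 ^ j + i) := by
    intro i hi
    rw [Bool.eq_iff_iff, ← hcand _ (hbound i hi), tb_lor, Bool.or_eq_true]
    constructor
    · intro hK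
      rcases hrest i hi with e | e
      · exact (Bool.or_eq_true _ _ ▸ e)
      · exact absurd ((rel_conj F K (O2 _ e)).mpr hK) k2
    · rintro (e | e)
      · exact (rel_conj F K (O0 _ e)).mp k0
      · exact (rel_conj F K (O1 _ e)).mp k1
  have hcnt : cnt (candK b₃ b₄ b₅) c = 8 := by
    rw [← hrow, cnt_eq, cnt_eq]
    refine (Finset.card_bij (fun i hi => φ i (Finset.mem_range.mp (Finset.mem_filter.mp hi).1))
      (fun i hi => ?_) (fun a _ b _ e => hφinj _ _ _ _ e) (fun k hk => ?_)).symm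
    · obtain ⟨hi', hS⟩ := Finset.mem_filter.mp hi
      refine Finset.mem_filter.mpr ⟨Finset.mem_range.mpr (hφ1 _ _), ?_⟩
      rw [← hrow2 i (Finset.mem_range.mp hi'), ← hcand _ (hbound i (Finset.mem_range.mp hi'))] at hS
      rw [← hcand _ (by have := hφ1 i (Finset.mem_range.mp hi'); omega)]
      exact (hKiff i _).mp hS
    · obtain ⟨hk', hS⟩ := Finset.mem_filter.mp hk
      obtain ⟨i, hi, rfl⟩ := hφsurj k (Finset.mem_range.mp hk')
      refine ⟨i, Finset.mem_filter.mpr ⟨Finset.mem_range.mpr hi, ?_⟩, rfl⟩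
      rw [← hrow2 i hi, ← hcand _ (hbound i hi)]
      rw [← hcand _ (by have := hφ1 i hi; omega)] at hS
      exact (hKiff i hi).mpr hS
  have hbits : b₃ = false ∧ b₄ = true ∧ b₅ = false := by
    by_contra hne
    by_cases h001 : b₃ = false ∧ b₄ = false ∧ b₅ = true
    · obtain ⟨e3, e4, e5⟩ := h001
      rw [e3, e4, e5] at hcand
      have hx0 : 32 * 2 ^ j + 0 < 2048 := hbound 0 (by norm_num)
      set y := 32 * c + φ 0 (by norm_num) with hy
      have hy2 : y < 2048 := by have := hφ1 0 (by norm_num : 0 < 32); omega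
      have hyK : tb (candK false false true) y = true := by
        rw [← hcand y hy2]
        refine (hKiff 0 (by norm_num)).mp ?_
        rw [Nat.add_zero]
        exact (rel_conj F K (O1 _ horb)).mp k1
      have hy5 : tb orb5 y = true := by
        simp only [candK, tb_lor, tb_bif, Bool.false_and, Bool.or_false, Bool.true_and, Bool.false_or,
          Bool.or_eq_true] at hyK
        rcases hyK with (e | e) | e
        · exfalso
          have hl := (show allB 2048 (fun y => !tb orb0 y || Nat.blt y 256) = true by decide +kernel)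
          have := allB_spec hl y hy2
          rw [e, Bool.not_true, Bool.false_or, Nat.blt_eq] at this
          omega
        · exfalso
          have hl := (show allB 2048 (fun y => !tb orb1 y || Nat.blt y 256) = true by decide +kernel)
          have := allB_spec hl y hy2
          rw [e, Bool.not_true, Bool.false_or, Nat.blt_eq] at this
          omega
        · exact e
      have hinv : ∀ a b, a < 2048 → Rel F K a b →
          val (candK false false true) a = val (candK false false true) b := by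
        intro a b ha hab
        obtain ⟨hb, n, hn, e⟩ := hab
        have hex : ∀ y, y < 2048 → ∃ y', y' < 2048 ∧ n * psi z t g s kw y * n⁻¹ = psi z t g s kw y' := by
          intro y hy
          obtain ⟨y', hy', e⟩ := ((Subgroup.mem_normalizer_iff.mp hn) (psi z t g s kw y)).mp
            (show psi z t g s kw y ∈ subA F K from ⟨y, hy, rfl⟩)
          exact ⟨y', hy', e.symm⟩
        choose N hN1 hN2 using hex
        have hK' : ∀ y (hy : y < 2048), tb (candK false false true) (N y hy) = tb (candK false false true) y := by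
          intro y hy
          rw [Bool.eq_iff_iff, ← hcand _ (hN1 y hy), ← hcand y hy]
          exact (rel_conj F K ⟨hN1 y hy, n, hn, hN2 y hy⟩).symm
        have hNx : ∀ y (hy : y < 2048) (hxy : Nat.xor a y < 2048), N (Nat.xor a y) hxy = Nat.xor b (N y hy) := by
          intro y hy hxy
          refine psi_inj F K (hN1 _ _) (Nat.xor_lt_two_pow (n := 11) hb (hN1 _ _)) ?_
          rw [← hN2, psi_xor F K, ← conj_mul_conj, e, hN2 y hy, psi_xor F K]
        have hNinj : ∀ x (hx : x < 2048) y (hy : y < 2048), N x hx = N y hy → x = y := fun x hx y hy e' => by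
          have := hN2 x hx
          rw [e', ← hN2 y hy] at this
          exact psi_inj F K hx hy (mul_left_cancel (mul_right_cancel this))
        rw [val, val, cntB_eq, cntB_eq]
        refine Finset.card_bij (fun y hy => N y (Finset.mem_range.mp (Finset.mem_filter.mp hy).1))
          (fun y hy => ?_) (fun x _ y _ e' => hNinj _ _ _ _ e') (fun k hk => ?_)
        · obtain ⟨hy', hS⟩ := Finset.mem_filter.mp hy
          rw [Finset.mem_range] at hy'
          refine Finset.mem_filter.mpr ⟨Finset.mem_range.mpr (hN1 _ _), ?_⟩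
          rw [← hK' y hy', ← hK' (Nat.xor a y) (Nat.xor_lt_two_pow (n := 11) ha hy'), hNx y hy'] at hS
          exact hS
        · obtain ⟨hk', hS⟩ := Finset.mem_filter.mp hk
          let Φ : Fin 2048 → Fin 2048 := fun a => ⟨N a a.2, hN1 a a.2⟩
          have hΦ : Function.Injective Φ := fun a b e => Fin.ext (hNinj _ _ _ _ (congrArg Fin.val e))
          obtain ⟨y, hy⟩ := Finite.injective_iff_surjective.mp hΦ ⟨k, Finset.mem_range.mp hk'⟩
          have hy' : N y y.2 = k := congrArg Fin.val hy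
          refine ⟨y, Finset.mem_filter.mpr ⟨Finset.mem_range.mpr y.2, ?_⟩, hy'⟩
          rw [← hK' y y.2, ← hK' (Nat.xor a y) (Nat.xor_lt_two_pow (n := 11) ha y.2), hNx y y.2, hy']
          exact hS
      have h1 := hinv _ y hbase (by
        refine ⟨hy2, h, hN, ?_⟩
        rw [hy, ← hφ2 0 (by norm_num), ← hH2]
        simp)
      have h2 := hinv _ y r5 (O5 y hy5)
      rw [hval, ← h2, val_root] at h1
      omega
    · exact cases_ok b₃ b₄ b₅ hne h001 c hc64 hc8 hcnt
  obtain ⟨e3, e4, e5⟩ := hbits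
  rw [e3, e4, e5] at hcand hcnt
  obtain ⟨⟨i3, hi3, h3⟩, ⟨i5, hi5, h5⟩, h4, -⟩ := hit_ok c hc64 hc8 hcnt
  have hrelH : ∀ i (hi : i < 32), Rel F K (32 * 2 ^ j + i) (32 * c + φ i hi) := fun i hi =>
    ⟨by have := hφ1 i hi; omega, h, hN, by rw [← hφ2 i hi, hH2]⟩
  have one1 : ∀ x, tb orb1 x = true → Rel F K 1 x := by
    intro x hx
    have a1 : Rel F K root0 2 := O0 2 class_ok.2.2.2.2.2.2.2.2.2.2.2.2.1
    have a2 : Rel F K 2 root1 := ⟨r1, h, hN, by rw [p2]; exact ht⟩
    exact rel_trans F K (rel_trans F K a1 a2) (O1 x hx)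
  have rootK : Rel F K 1 root4 := by
    have hR := rel_trans F K (one1 _ horb) (by simpa using hrelH 0 (by norm_num))
    have hk : tb classK (32 * c + φ 0 (by norm_num)) = true := by
      rw [classK, ← hcand _ hR.1, ← (hKiff 0 (by norm_num))]
      rw [Nat.add_zero]
      exact (rel_conj F K (O1 _ horb)).mp k1
    exact rel_trans F K hR (rel_symm F K r4 (O4 _ (h4 _ (hφ1 _ _) hk)))
  have rootJ : ∀ root, root < 2048 → ∀ k < 32, ∀ O, (∀ x, tb O x = true → Rel F K root x) →
      tb O (32 * c + k) = true → ¬ IsConj z (psi z t g s kw root) → Rel F K 40 root := by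
    intro root hr k hk O hO hx hnot
    obtain ⟨i, hi, rfl⟩ := hφsurj k hk
    have hi2 : tb orb2 (32 * 2 ^ j + i) = true := by
      rcases hrest i hi with e | e
      · exfalso
        apply hnot
        refine (rel_conj F K (hO _ hx)).mpr ((hKiff i hi).mp ?_)
        rw [Bool.or_eq_true] at e
        rcases e with e | e
        · exact (rel_conj F K (O0 _ e)).mp k0
        · exact (rel_conj F K (O1 _ e)).mp k1
      · exact e
    exact rel_trans F K (rel_trans F K (O2 _ hi2) (hrelH i hi)) (rel_symm F K hr (hO _ hx))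
  have n3 : ¬ IsConj z (psi z t g s kw root3) := by
    have := hb₃.symm.trans e3
    simpa using this
  have n5 : ¬ IsConj z (psi z t g s kw root5) := by
    have := hb₅.symm.trans e5
    simpa using this
  refine ⟨h, hz, ht, hN, hcand, fun x hx hK => ?_, fun x hx hx0 hK => ?_⟩
  · simp only [classK, candK, tb_lor, tb_bif, Bool.false_and, Bool.or_false, Bool.true_and,
      Bool.or_eq_true] at hK
    rcases hK with (e | e) | e
    · exact O0 x e
    · exact one1 x e
    · exact rel_trans F K rootK (O4 x e)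
  · have hc' := allB_spec cover_ok x hx
    simp only [classK, candK, tb_lor, tb_bif, Bool.false_and, Bool.or_false, Bool.true_and,
      Bool.or_eq_false_iff] at hK
    obtain ⟨⟨n0, n1⟩, n4⟩ := hK
    rw [show Nat.beq x 0 = false by rw [← Bool.not_eq_true]; exact fun e => hx0 (Nat.eq_of_beq_eq_true e), n0, n1, n4] at hc'
    simp only [Bool.false_or, Bool.or_false, Bool.or_eq_true] at hc'
    rcases hc' with (e | e) | e
    · exact O2 x e
    · exact rel_trans F K (rootJ root3 r3 i3 hi3 orb3 O3 h3 n3) (O3 x e)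
    · exact rel_trans F K (rootJ root5 r5 i5 hi5 orb5 O5 h5 n5) (O5 x e)

end

end Cfsg.Agent.Co1Frame89
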