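import Cfsg.Agent.Lib.GolayModule

/-!
Rigidity of the 276 duads in the even part of the Golay cocode: an additive map permuting them comes
from a unique element of M24.
-/

set_option autoImplicit false
set_option maxHeartbeats 800000

namespace Cfsg.Agent.GolayDuadRigid13

open Cfsg Cfsg.Agent.GolayBasic Cfsg.Agent.GolayModule
open scoped Pointwise symmDiff

variable {V : Type*} [AddCommGroup V]

/-- `L` identifies `V` with the even words modulo the code (only the kernel matters). -/
def IsCocode (L : (GolayPt → ZMod 2) →+ V) : Prop :=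
  ∀ s : Finset GolayPt, 2 ∣ s.card → (L (ind s) = 0 ↔ ind s ∈ golayCode)

/-- The image of the duad `{p, q}`. -/
def duad (L : (GolayPt → ZMod 2) →+ V) (p q : GolayPt) : V := L (ind {p, q})

/-- The set of the 276 duads. -/
def duads (L : (GolayPt → ZMod 2) →+ V) : Set V := {v | ∃ p q, p ≠ q ∧ duad L p q = v}

/-- `σ` induces `f` on the duads. -/
def Induces (L : (GolayPt → ZMod 2) →+ V) (f : V → V) (σ : Equiv.Perm GolayPt) : Prop :=
  ∀ p q, p ≠ q → f (duad L p q) = duad L (σ p) (σ q)

section

variable {L : (GolayPt → ZMod 2) →+ V} (hL : IsCocode L)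
include hL

theorem eq_of_L_eq {S T : Finset GolayPt} (hS : 2 ∣ S.card) (hT : 2 ∣ T.card)
    (h6 : S.card + T.card < 8) (h : L (ind S) = L (ind T)) : S = T := by
  have h8 : (S ∆ T).card < 8 := by
    refine lt_of_le_of_lt ((Finset.card_le_card (t := S ∪ T) ?_).trans (Finset.card_union_le _ _)) h6
    intro p hp
    rw [Finset.mem_symmDiff] at hp
    exact hp.elim (fun h => Finset.mem_union_left _ h.1) fun h => Finset.mem_union_right _ h.1
  have he : 2 ∣ (S ∆ T).card := by
    have h1 : S ∆ T = (S \ T) ∪ (T \ S) := rfl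
    rw [h1, Finset.card_union_of_disjoint disjoint_sdiff_sdiff]
    have h2 := Finset.card_sdiff_add_card_inter S T
    have h3 := Finset.card_sdiff_add_card_inter T S
    rw [Finset.inter_comm T] at h3
    omega
  have hz : L (ind (S ∆ T)) = 0 := by
    rw [ind_symmDiff, map_add, h, ← map_add, show ind T + ind T = 0 from ?_, map_zero]
    funext p
    exact (by decide : ∀ a : ZMod 2, a + a = 0) _
  exact symmDiff_eq_bot.1 (eq_empty_of_card_lt (ind_mem_iff.1 ((hL _ he).1 hz)) h8)

theorem duad_eq_iff {p q r s : GolayPt} (hpq : p ≠ q) (hrs : r ≠ s) :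
    duad L p q = duad L r s ↔ ({p, q} : Finset GolayPt) = {r, s} :=
  ⟨fun h => eq_of_L_eq hL (by rw [Finset.card_pair hpq]) (by rw [Finset.card_pair hrs])
    (by rw [Finset.card_pair hpq, Finset.card_pair hrs]; norm_num) h, fun h => by rw [duad, duad, h]⟩

theorem unique {f : V → V} {σ τ : Equiv.Perm GolayPt} (hσ : Induces L f σ) (hτ : Induces L f τ) :
    σ = τ := by
  have hq : ∀ a : GolayPt, ∃ q r : GolayPt, q ≠ a ∧ r ≠ a ∧ q ≠ r := by decide +kernel
  refine Equiv.ext fun p => ?_
  obtain ⟨q, r, hqp, hrp, hqr⟩ := hq p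
  have key : ∀ s, s ≠ p → σ p = τ p ∨ σ p = τ s := by
    intro s hs
    have h := (duad_eq_iff hL (σ.injective.ne hs.symm) (τ.injective.ne hs.symm)).1
      ((hσ p s hs.symm).symm.trans (hτ p s hs.symm))
    have hm : σ p ∈ ({τ p, τ s} : Finset GolayPt) := h ▸ Finset.mem_insert_self _ _
    simpa using hm
  rcases key q hqp with h | h
  · exact h
  rcases key r hrp with h' | h'
  · exact h'
  exact absurd (τ.injective (h.symm.trans h')) hqr

/-- An injective additive map permuting the duads is induced by an element of M24. -/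
theorem exists_perm (f : V →+ V) (hf : Function.Injective f)
    (hR : ∀ p q, p ≠ q → ∃ r s, r ≠ s ∧ f (duad L p q) = duad L r s) :
    ∃ σ ∈ M24, Induces L f σ := by
  classical
  have two : ∀ a : GolayPt → ZMod 2, a + a = 0 := fun a => funext fun p =>
    (by decide : ∀ a : ZMod 2, a + a = 0) _
  have hψ0 : ∀ p q, p ≠ q → ∃ T : Finset GolayPt, T.card = 2 ∧ f (L (ind {p, q})) = L (ind T) := by
    intro p q h
    obtain ⟨r, s, hrs, he⟩ := hR p q h
    exact ⟨{r, s}, Finset.card_pair hrs, he⟩
  choose! ψ hψ2 hψ using hψ0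
  have hadj : ∀ p q r : GolayPt, p ≠ q → p ≠ r → q ≠ r → ψ p q ∆ ψ p r = ψ q r := by
    intro p q r hpq hpr hqr
    have h2 := hψ2 p q hpq
    have h3 := hψ2 p r hpr
    have h4 := hψ2 q r hqr
    have h1 : (ψ p q ∆ ψ p r) = (ψ p q \ ψ p r) ∪ (ψ p r \ ψ p q) := rfl
    have hc : (ψ p q ∆ ψ p r).card ≤ 4 ∧ 2 ∣ (ψ p q ∆ ψ p r).card := by
      rw [h1, Finset.card_union_of_disjoint disjoint_sdiff_sdiff]
      have h5 := Finset.card_sdiff_add_card_inter (ψ p q) (ψ p r)
      have h6 := Finset.card_sdiff_add_card_inter (ψ p r) (ψ p q)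
      rw [Finset.inter_comm (ψ p r)] at h6
      omega
    refine eq_of_L_eq hL hc.2 (by rw [h4]) (by omega) ?_
    rw [ind_symmDiff, map_add, ← hψ p q hpq, ← hψ p r hpr, ← hψ q r hqr, ← map_add, ← map_add,
      ← ind_symmDiff]
    congr 3
    ext z
    simp only [Finset.mem_symmDiff, Finset.mem_insert, Finset.mem_singleton]
    by_cases a : z = p
    · subst a; simp [hpq, hpr]
    by_cases b : z = q
    · subst b; simp [hqr, a]
    simp [a, b]
  have hmeet : ∀ p q r : GolayPt, p ≠ q → p ≠ r → q ≠ r → ∃ a, ψ p q ∩ ψ p r = {a} := by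
    intro p q r hpq hpr hqr
    rw [← Finset.card_eq_one]
    have h := congrArg Finset.card (hadj p q r hpq hpr hqr)
    have e : ψ p q ∆ ψ p r = (ψ p q \ ψ p r) ∪ (ψ p r \ ψ p q) := rfl
    rw [e, Finset.card_union_of_disjoint disjoint_sdiff_sdiff, hψ2 q r hqr] at h
    have := Finset.card_sdiff_add_card_inter (ψ p q) (ψ p r)
    have h' := Finset.card_sdiff_add_card_inter (ψ p r) (ψ p q)
    rw [Finset.inter_comm (ψ p r)] at h'
    have := hψ2 p q hpq
    have := hψ2 p r hpr
    omega
  have hstar : ∀ p q r s a : GolayPt, p ≠ q → p ≠ r → p ≠ s → q ≠ r → q ≠ s → r ≠ s →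
      a ∈ ψ p q → a ∈ ψ p r → a ∈ ψ p s := by
    intro p q r s a hpq hpr hps hqr hqs hrs haq har
    by_contra has
    obtain ⟨b, hb⟩ := hmeet p q s hpq hps hqs
    obtain ⟨d, hd⟩ := hmeet p r s hpr hps hrs
    obtain ⟨a', ha'⟩ := hmeet p q r hpq hpr hqr
    have haa : a = a' := Finset.mem_singleton.1 (ha' ▸ Finset.mem_inter.2 ⟨haq, har⟩)
    have hbq : b ∈ ψ p q ∩ ψ p s := hb ▸ Finset.mem_singleton_self b
    have hdr : d ∈ ψ p r ∩ ψ p s := hd ▸ Finset.mem_singleton_self d
    rw [Finset.mem_inter] at hbq hdr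
    have hab : a ≠ b := fun e => has (e ▸ hbq.2)
    have had : a ≠ d := fun e => has (e ▸ hdr.2)
    have hbd : b ≠ d := fun e => hab (haa.trans
      (Finset.mem_singleton.1 (ha' ▸ Finset.mem_inter.2 ⟨hbq.1, e ▸ hdr.1⟩)).symm)
    have eA : ψ p q = {a, b} := (Finset.eq_of_subset_of_card_le
      (Finset.insert_subset haq (Finset.singleton_subset_iff.2 hbq.1))
      (by rw [Finset.card_pair hab, hψ2 p q hpq])).symm
    have eB : ψ p r = {a, d} := (Finset.eq_of_subset_of_card_le
      (Finset.insert_subset har (Finset.singleton_subset_iff.2 hdr.1))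
      (by rw [Finset.card_pair had, hψ2 p r hpr])).symm
    have eD : ψ p s = {b, d} := (Finset.eq_of_subset_of_card_le
      (Finset.insert_subset hbq.2 (Finset.singleton_subset_iff.2 hdr.2))
      (by rw [Finset.card_pair hbd, hψ2 p s hps])).symm
    have h4 : ({p, q, r, s} : Finset GolayPt).card = 4 := by
      simp [hpq, hpr, hps, hqr, hqs, hrs]
    have hzero : L (ind {p, q, r, s}) = 0 := by
      apply hf
      rw [map_zero]
      have e1 : ind ({p, q, r, s} : Finset GolayPt) = ind {p, q} + ind {p, r} + ind {p, s} := by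
        funext z
        simp only [ind, Pi.add_apply, Finset.mem_insert, Finset.mem_singleton]
        by_cases h1 : z = p
        · subst h1; simp only [true_or, if_true]; decide
        by_cases h2 : z = q
        · subst h2; simp [h1, hqr, hqs]
        by_cases h3 : z = r
        · subst h3; simp [h1, h2, hrs]
        by_cases h5 : z = s
        · subst h5; simp [h1, h2, h3]
        simp [h1, h2, h3, h5]
      have e2 : ind {a, b} + ind {a, d} + ind {b, d} = (0 : GolayPt → ZMod 2) := by
        funext z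
        simp only [ind, Pi.add_apply, Pi.zero_apply, Finset.mem_insert, Finset.mem_singleton]
        by_cases h1 : z = a
        · subst h1; simp only [hab, had, true_or, or_self, if_true, if_false]; decide
        by_cases h2 : z = b
        · subst h2; simp only [h1, hbd, true_or, or_true, or_false, false_or, if_true, if_false]; decide
        by_cases h3 : z = d
        · subst h3; simp only [h1, h2, or_true, or_false, false_or, if_true, if_false]; decide
        simp [h1, h2, h3]
      rw [e1, map_add, map_add, map_add, map_add, hψ p q hpq, hψ p r hpr, hψ p s hps, eA, eB, eD,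
        ← map_add, ← map_add, e2, map_zero]
    have := eq_empty_of_card_lt (ind_mem_iff.1 ((hL _ (by rw [h4]; norm_num)).1 hzero)) (by rw [h4]; norm_num)
    rw [this] at h4
    simp at h4
  have hsym : ∀ p q : GolayPt, p ≠ q → ψ p q = ψ q p := fun p q h =>
    eq_of_L_eq hL (by rw [hψ2 p q h]) (by rw [hψ2 q p h.symm])
      (by rw [hψ2 p q h, hψ2 q p h.symm]; norm_num)
      (by rw [← hψ p q h, ← hψ q p h.symm, Finset.pair_comm])
  have hπ0 : ∀ p : GolayPt, ∃ a, ∀ s, p ≠ s → a ∈ ψ p s := by
    intro p
    obtain ⟨q, r, hpq, hpr, hqr⟩ : ∃ q r : GolayPt, p ≠ q ∧ p ≠ r ∧ q ≠ r := by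
      revert p; decide +kernel
    obtain ⟨a, ha⟩ := hmeet p q r hpq hpr hqr
    have hm : a ∈ ψ p q ∩ ψ p r := ha ▸ Finset.mem_singleton_self a
    rw [Finset.mem_inter] at hm
    refine ⟨a, fun s hs => ?_⟩
    rcases eq_or_ne q s with rfl | hqs
    · exact hm.1
    rcases eq_or_ne r s with rfl | hrs
    · exact hm.2
    exact hstar p q r s a hpq hpr hs hqr hqs hrs hm.1 hm.2
  choose π hπ using hπ0
  have hq2 : ∀ a b : GolayPt, ∃ q : GolayPt, q ≠ a ∧ q ≠ b := by decide +kernel
  have hπinj : Function.Injective π := by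
    intro p p' he
    by_contra hne
    obtain ⟨q, hq, hq'⟩ := hq2 p p'
    have h3 := hπ p p' hne
    rw [← hadj q p p' hq hq' hne, Finset.mem_symmDiff] at h3
    have m1 : π p ∈ ψ q p := hsym q p hq ▸ hπ p q hq.symm
    have m2 : π p ∈ ψ q p' := he ▸ (hsym q p' hq' ▸ hπ p' q hq'.symm)
    exact h3.elim (fun h => h.2 m2) fun h => h.2 m1
  let e := Equiv.ofBijective π ⟨hπinj, Finite.injective_iff_surjective.1 hπinj⟩
  have hind : Induces L f e := by
    intro p q hpq
    have hne : π p ≠ π q := hπinj.ne hpq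
    have eq1 : ψ p q = {π p, π q} := (Finset.eq_of_subset_of_card_le
      (Finset.insert_subset (hπ p q hpq) (Finset.singleton_subset_iff.2 (hsym p q hpq ▸ hπ q p hpq.symm)))
      (by rw [Finset.card_pair hne, hψ2 p q hpq])).symm
    rw [duad, hψ p q hpq, eq1]
    rfl
  refine ⟨e, GolayPerm.mem_M24_iff.2 fun s hs => ?_, hind⟩
  -- even sets are sums of duads through a fixed point
  have hsum : ∀ t : Finset GolayPt, 2 ∣ t.card → f (L (ind t)) = L (ind (e • t)) := by
    have hgen : ∀ (g : GolayPt → GolayPt → ZMod 2) (_ : ∀ p, g p = ind {p}) (t : Finset GolayPt),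
        ind t = ∑ p ∈ t, g p := by
      intro g hg t
      funext z
      simp [hg, ind, Finset.sum_apply]
    intro t ht
    have h1 : ind t = ∑ p ∈ t, (ind {none} + ind {p}) := by
      rw [Finset.sum_add_distrib, ← hgen _ (fun _ => rfl) t, Finset.sum_const]
      obtain ⟨k, hk⟩ := ht
      rw [hk, mul_comm, mul_nsmul', two_nsmul, two, nsmul_zero, zero_add]
    have h2 : ∀ p, f (L (ind {none} + ind {p})) = L (ind {e none} + ind {e p}) := by
      intro p
      rcases eq_or_ne p none with rfl | hp
      · rw [two, two, map_zero, map_zero]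
      · have hh : ∀ a b : GolayPt, a ≠ b → ind ({a, b} : Finset GolayPt) = ind {a} + ind {b} := by
          intro a b hab
          rw [← ind_symmDiff]
          congr 1
          ext z
          simp only [Finset.mem_symmDiff, Finset.mem_insert, Finset.mem_singleton]
          by_cases h1 : z = a
          · subst h1; simp [hab]
          · simp [h1]
        rw [← hh _ _ hp.symm, ← hh _ _ (e.injective.ne hp.symm)]
        exact hind none p hp.symm
    rw [h1, map_sum, map_sum, Finset.sum_congr rfl (fun p _ => h2 p), ← map_sum]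
    congr 1
    rw [Finset.sum_add_distrib, Finset.sum_const]
    obtain ⟨k, hk⟩ := ht
    rw [hk, mul_comm, mul_nsmul', two_nsmul, two, nsmul_zero, zero_add, hgen _ (fun _ => rfl) (e • t),
      Finset.smul_finset_def, Finset.sum_image (fun a _ b _ h => MulAction.injective e h)]
    rfl
  have hs2 : 2 ∣ s.card := by
    have := GolayBasic.even_card_inter hs hs
    rwa [Finset.inter_self, even_iff_two_dvd] at this
  have hc : 2 ∣ (e • s).card := by rwa [Finset.card_smul_finset]
  rw [← ind_mem_iff, ← hL _ hc, ← hsum s hs2, (hL s hs2).2 (ind_mem_iff.2 hs), map_zero]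

end

/-! ### Groups of automorphisms -/

variable {L : (GolayPt → ZMod 2) →+ V} (hL : IsCocode L)
  (hspan : ∀ v : V, ∃ s : Finset GolayPt, 2 ∣ s.card ∧ L (ind s) = v)

include hL hspan in
/-- A group of additive automorphisms preserving the duads maps to M24; by order it is all of M24. -/
theorem exists_hom {H : Type*} [Group H] (ρ : H →* AddMonoid.End V)
    (hR : ∀ h : H, ∀ p q, p ≠ q → ∃ r s, r ≠ s ∧ ρ h (duad L p q) = duad L r s) :
    ∃ φ : H →* ↥M24, (∀ h, Induces L (ρ h) (φ h : Equiv.Perm GolayPt)) ∧ φ.ker = ρ.ker ∧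
      (244823040 ∣ ρ.ker.index → Function.Surjective φ) := by
  classical
  have hex : ∀ h, ∃ σ : ↥M24, Induces L (ρ h) (σ : Equiv.Perm GolayPt) := fun h => by
    obtain ⟨σ, hσ, hi⟩ := exists_perm hL (ρ h) (fun x y hxy => by
      have e : ∀ v, ρ h⁻¹ (ρ h v) = v := fun v => by
        show (ρ h⁻¹ * ρ h) v = v
        rw [← map_mul, inv_mul_cancel, map_one]
        rfl
      exact (e x).symm.trans ((congrArg (ρ h⁻¹) hxy).trans (e y))) (hR h)
    exact ⟨⟨σ, hσ⟩, hi⟩
  choose σ hσ using hex
  let φ : H →* ↥M24 := MonoidHom.mk' σ fun a b => Subtype.ext (unique hL (hσ (a * b)) fun p q hpq => by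
    rw [map_mul]
    show ρ a (ρ b (duad L p q)) = _
    rw [hσ b p q hpq, hσ a _ _ ((σ b).1.injective.ne hpq)]
    rfl)
  have hker : φ.ker = ρ.ker := by
    ext h
    rw [MonoidHom.mem_ker, MonoidHom.mem_ker]
    constructor
    · intro he
      refine AddMonoidHom.ext fun v => ?_
      obtain ⟨s, hs, rfl⟩ := hspan v
      have hd : ∀ p q, ρ h (L (ind {p} + ind {q})) = L (ind {p} + ind {q}) := by
        intro p q
        rcases eq_or_ne p q with rfl | hpq
        · have : ind {p} + ind {p} = (0 : GolayPt → ZMod 2) := funext fun z =>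
            (by decide : ∀ a : ZMod 2, a + a = 0) _
          rw [this, map_zero, map_zero]
        · have h1 : ind ({p, q} : Finset GolayPt) = ind {p} + ind {q} := by
            rw [← ind_symmDiff]
            congr 1
            ext z
            simp only [Finset.mem_symmDiff, Finset.mem_insert, Finset.mem_singleton]
            by_cases h2 : z = p
            · subst h2; simp [hpq]
            · simp [h2]
          rw [← h1]
          have h2 := hσ h p q hpq
          rw [show σ h = (1 : ↥M24) from he] at h2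
          exact h2
      have e1 : ind s = ∑ p ∈ s, (ind {none} + ind {p}) := by
        rw [Finset.sum_add_distrib, Finset.sum_const]
        obtain ⟨k, hk⟩ := hs
        have two : ind ({none} : Finset GolayPt) + ind {none} = 0 := funext fun z =>
            (by decide : ∀ a : ZMod 2, a + a = 0) _
        rw [hk, mul_comm, mul_nsmul', two_nsmul, two, nsmul_zero, zero_add]
        funext z
        simp [ind, Finset.sum_apply]
      show ρ h (L (ind s)) = L (ind s)
      rw [e1, map_sum, map_sum]
      exact Finset.sum_congr rfl fun p _ => hd none p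
    · intro he
      refine Subtype.ext (unique hL (hσ h) fun p q _ => ?_)
      rw [he]
      rfl
  refine ⟨φ, hσ, hker, fun hd => ?_⟩
  rw [← MonoidHom.range_eq_top]
  refine Subgroup.eq_top_of_card_eq _ (le_antisymm (Subgroup.card_le_card_group _) ?_)
  rw [GolayM24.card_M24, ← Subgroup.index_ker, hker]
  refine Nat.le_of_dvd (Nat.pos_of_ne_zero ?_) hd
  rw [← hker, Subgroup.index_ker]
  exact (Nat.card_pos (α := φ.range)).ne'

include hL in
/-- Transitivity on the duads, and the stabiliser of the duad of `none` and `some 0`. -/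
theorem duad_trans {H : Type*} [Group H] (ρ : H →* AddMonoid.End V) (φ : H →* ↥M24)
    (hφ : ∀ h, Induces L (ρ h) (φ h : Equiv.Perm GolayPt)) (hs : Function.Surjective φ) :
    (∀ t ∈ duads L, ∀ u ∈ duads L, ∃ h : H, ρ h t = u) ∧
      (Subgroup.comap ((Subgroup.subtype M24).comp φ)
          (M24 ⊓ MulAction.stabilizer (Equiv.Perm GolayPt) ({none, some 0} : Set GolayPt)) : Set H) =
        {h | ρ h (duad L none (some 0)) = duad L none (some 0)} := by
  classical
  constructor
  · rintro _ ⟨p, q, hpq, rfl⟩ _ ⟨r, s, hrs, rfl⟩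
    obtain ⟨g, hg, hgs⟩ := exists_map_sets (s := {p, q}) (t := {r, s})
      (by rw [Finset.card_pair hpq, Finset.card_pair hrs]) (by rw [Finset.card_pair hpq]; norm_num)
    obtain ⟨h, hh⟩ := hs ⟨g, hg⟩
    refine ⟨h, ?_⟩
    rw [hφ h p q hpq, hh, duad_eq_iff hL (g.injective.ne hpq) hrs, ← hgs]
    simp [Finset.smul_finset_def]
  · ext h
    have hne : (none : GolayPt) ≠ some 0 := by simp
    simp only [Subgroup.coe_comap, Set.mem_preimage, SetLike.mem_coe, Subgroup.mem_inf, Set.mem_ofPred_eq,
      MonoidHom.comp_apply, Subgroup.coe_subtype, SetLike.coe_mem, true_and, MulAction.mem_stabilizer_iff]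
    rw [hφ h none (some 0) hne, duad_eq_iff hL ((φ h).1.injective.ne hne) hne, ← Finset.coe_inj,
      ← Set.image_smul, Set.image_pair]
    simp

end Cfsg.Agent.GolayDuadRigid13
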