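import Cfsg.Agent.Lib.Co1Local89
import Cfsg.Agent.Lib.LFCocode89

/-!
The normaliser permutes 276 functionals of the abelian subgroup, so its quotient is M24.
-/

set_option autoImplicit false
set_option linter.unusedSectionVars false

namespace Cfsg.Agent.Co1Frame89

open Cfsg Cfsg.Agent.LargeExtraspecial Cfsg.Agent.ConwayTypeModel62 Cfsg.Agent.ConwayTypeCoord62
  Cfsg.Agent.ConwayTypeRadical62 Cfsg.Agent.Co1Bits89 Cfsg.Agent.Co1Calc89 Cfsg.Agent.Co1Data89
  Cfsg.Agent.Co1Check89

variable {G : Type*} [Group G] [Finite G]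

theorem par_xor : ∀ k a b, Co1Bits89.par k (Nat.xor a b) = xor (Co1Bits89.par k a) (Co1Bits89.par k b)
  | 0, _, _ => rfl
  | k + 1, a, b => by
    simp only [Co1Bits89.par, testBit_xor0, par_xor k a b]
    cases Co1Bits89.par k a <;> cases Co1Bits89.par k b <;> cases Nat.testBit a k <;>
      cases Nat.testBit b k <;> rfl

theorem parA_right (m a b : ℕ) : parA m (Nat.xor a b) = xor (parA m a) (parA m b) := by
  rw [parA, parA, parA, ← par_xor]
  exact congrArg _ (Nat.and_xor_distrib_left (a := m) (b := a) (c := b))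

theorem parA_left (m m' a : ℕ) : parA (Nat.xor m m') a = xor (parA m a) (parA m' a) := by
  rw [parA, parA, parA, ← par_xor]
  exact congrArg _ (Nat.and_xor_distrib_right (a := m) (b := m') (c := a))

theorem xK_xor (F : ℕ → ℕ) : ∀ k a b, xK F k (Nat.xor a b) = Nat.xor (xK F k a) (xK F k b)
  | 0, _, _ => (Nat.xor_self 0).symm
  | k + 1, a, b => by
    have assoc : ∀ x y w : ℕ, Nat.xor (Nat.xor x y) w = Nat.xor x (Nat.xor y w) := Nat.xor_assoc
    have comm : ∀ x y : ℕ, Nat.xor x y = Nat.xor y x := Nat.xor_comm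
    have self : ∀ x : ℕ, Nat.xor x x = 0 := Nat.xor_self
    have zero : ∀ x : ℕ, Nat.xor x 0 = x := Nat.xor_zero
    simp only [xK, testBit_xor0, xK_xor F k a b]
    cases Nat.testBit a k <;> cases Nat.testBit b k <;>
      simp only [Bool.xor_false, Bool.xor_true, Bool.not_false, Bool.not_true, cond_true, cond_false]
    · exact assoc _ _ _
    · rw [assoc, comm (xK F k b), ← assoc]
    · rw [assoc (xK F k a) (F k), ← assoc (F k) (xK F k b), comm (F k) (xK F k b), assoc (xK F k b),
        self, zero]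

theorem appM_xor (M : List ℕ) (a b : ℕ) : appM M (Nat.xor a b) = Nat.xor (appM M a) (appM M b) :=
  xK_xor _ 11 a b

theorem appM_psiM_lt (r : ℕ) : appM psiM r < 2048 :=
  xK_lt (fun j hj => duads_ok.2 j hj) r 11 le_rfl

theorem par_single : ∀ k m j, Co1Bits89.par k (Nat.land m (2 ^ j)) = (decide (j < k) && Nat.testBit m j)
  | 0, _, _ => by simp [Co1Bits89.par]
  | k + 1, m, j => by
    rw [Co1Bits89.par, par_single k m j, show Nat.land m (2 ^ j) = m &&& 2 ^ j from rfl, Nat.testBit_and,
      Nat.testBit_two_pow]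
    by_cases e : j = k
    · subst e; simp
    · rw [show decide (j < k + 1) = decide (j < k) from decide_eq_decide.mpr (by omega)]
      simp [e]

theorem mask_bits (j : ℕ) (hj : j < 11) (m : ℕ) (_ : m < 2048) : parA m (2 ^ j) = Nat.testBit m j := by
  rw [parA, par_single]; simp [hj]

theorem mask_zero (m : ℕ) (hm : m < 2048) (h : ∀ j < 11, parA m (2 ^ j) = false) : m = 0 := by
  refine Nat.eq_of_testBit_eq fun j => ?_
  rw [Nat.zero_testBit]
  by_cases hj : j < 11
  · rw [← mask_bits j hj m hm]; exact h j hj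
  · exact Nat.testBit_lt_two_pow (hm.trans_le (show 2 ^ 11 ≤ 2 ^ j from
      Nat.pow_le_pow_right (by norm_num) (by omega)))

theorem mask_zero' (x : ℕ) (hx : x < 2048) (h : ∀ j < 11, parA (2 ^ j) x = false) : x = 0 :=
  mask_zero x hx fun j hj => by
    rw [parA, show Nat.land x (2 ^ j) = Nat.land (2 ^ j) x from Nat.land_comm x (2 ^ j)]
    exact h j hj

theorem rlist_bound : ∀ r ∈ LFCoordCheck89.rlist 1, r < 2048 := by decide +kernel

theorem mem_bitset (l : List ℕ) (x : ℕ) :
    Nat.testBit (l.foldr (fun y r => Nat.lor (Nat.shiftLeft 1 y) r) 0) x = true ↔ x ∈ l := by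
  induction l with
  | nil => simp
  | cons a l ih =>
    rw [List.foldr_cons, List.mem_cons]
    rw [show ∀ m : ℕ, Nat.lor (Nat.shiftLeft 1 a) m = (1 <<< a) ||| m from fun m => rfl,
      Nat.testBit_lor, Bool.or_eq_true, ih, Nat.one_shiftLeft, Nat.testBit_two_pow, decide_eq_true_eq]
    exact or_congr_left ⟨fun e => e.symm, fun e => e.symm⟩

theorem appT_bit (M : List ℕ) (x i : ℕ) :
    Nat.testBit (appT M x) i = (decide (i < 11) && parA x (M.getD i 0)) := by
  have key : ∀ l : List ℕ, Nat.testBit (l.foldr (fun j r =>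
      bif parA x (M.getD j 0) then Nat.lor (Nat.shiftLeft 1 j) r else r) 0) i =
      (decide (i ∈ l) && parA x (M.getD i 0)) := by
    intro l
    induction l with
    | nil => simp
    | cons a l ih =>
      rw [List.foldr_cons]
      cases hp : parA x (M.getD a 0)
      · rw [cond_false, ih]
        by_cases hia : i = a
        · subst hia; rw [hp, Bool.and_false, Bool.and_false]
        · simp [hia]
      · rw [cond_true, show ∀ m : ℕ, Nat.lor (Nat.shiftLeft 1 a) m = (1 <<< a) ||| m from fun m => rfl,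
          Nat.testBit_lor, ih, Nat.one_shiftLeft, Nat.testBit_two_pow]
        by_cases hia : i = a
        · subst hia; rw [hp]; simp
        · simp [hia, Ne.symm hia]
  rw [appT, key]
  congr 1
  simp

theorem appT_lt (M : List ℕ) (x : ℕ) : appT M x < 2048 := by
  refine Nat.lt_pow_two_of_testBit (n := 11) _ fun i hi => ?_
  rw [appT_bit]
  simp [not_lt.2 hi]

theorem parA_appT (M : List ℕ) (m x : ℕ) : parA (appT M m) x = parA m (appM M x) := by
  have key : ∀ k ≤ 11, Co1Bits89.par k (Nat.land (appT M m) x) =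
      parA m (xK (fun j => M.getD j 0) k x) := by
    intro k
    induction k with
    | zero =>
      intro _
      have h0 : parA m 0 = false := by
        rw [parA, show Nat.land m 0 = 0 from Nat.and_zero m]
        rfl
      rw [xK, h0]
      rfl
    | succ k ih =>
      intro hk
      rw [Co1Bits89.par, ih (by omega), show Nat.land (appT M m) x = appT M m &&& x from rfl,
        Nat.testBit_and, appT_bit, decide_eq_true (show k < 11 by omega), Bool.true_and, xK]
      cases hb : Nat.testBit x k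
      · rw [Bool.and_false, Bool.xor_false, cond_false]
      · rw [Bool.and_true, cond_true, parA_right]
  exact key 11 le_rfl

section

variable {Q Q' : Subgroup G} {z t : G} {ν : G → M6} {d g : G}
  {ρ : ↥(Sx z t) →* P8} {s : ℕ → G} (F : Fr Q Q' z t ν d ρ g s)
  {kw : List ℕ → ↥(Sx z t)} (K : Lift z t d g ρ s kw)

/-- Functionals. -/
abbrev DualA : Type _ := Additive ↥(subA F K) →+ ZMod 2

/-- The code of a member. -/
noncomputable def codeA (a : ↥(subA F K)) : ℕ := Classical.choose a.2

include F K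

theorem codeA_spec (a : ↥(subA F K)) : codeA F K a < 2048 ∧ psi z t g s kw (codeA F K a) = a :=
  Classical.choose_spec a.2

theorem codeA_mul (a b : ↥(subA F K)) : codeA F K (a * b) = Nat.xor (codeA F K a) (codeA F K b) := by
  refine psi_inj F K (codeA_spec F K _).1
    (Nat.xor_lt_two_pow (n := 11) (codeA_spec F K a).1 (codeA_spec F K b).1) ?_
  rw [psi_xor F K, (codeA_spec F K _).2, (codeA_spec F K a).2, (codeA_spec F K b).2]
  rfl

omit F K in
/-- The functional of a mask. -/
noncomputable def fct (F : Fr Q Q' z t ν d ρ g s) (K : Lift z t d g ρ s kw) (m : ℕ) : DualA F K :=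
  AddMonoidHom.mk' (fun a => bz (parA m (codeA F K a.toMul))) fun a b => by
    rw [← bz_xor, ← parA_right, ← codeA_mul F K]
    rfl

theorem fct_psi (m : ℕ) {x : ℕ} (hx : x < 2048) :
    fct F K m (Additive.ofMul ⟨psi z t g s kw x, x, hx, rfl⟩) = bz (parA m x) := by
  have hmem : psi z t g s kw x ∈ subA F K := ⟨x, hx, rfl⟩
  show bz (parA m (codeA F K ⟨psi z t g s kw x, hmem⟩)) = _
  rw [psi_inj F K (codeA_spec F K _).1 hx (codeA_spec F K ⟨psi z t g s kw x, hmem⟩).2]

theorem fct_xor (m m' : ℕ) : fct F K (Nat.xor m m') = fct F K m + fct F K m' :=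
  AddMonoidHom.ext fun a => by
    show bz (parA (Nat.xor m m') _) = bz (parA m _) + bz (parA m' _)
    rw [parA_left, bz_xor]

theorem fct_inj {m : ℕ} (hm : m < 2048) (h : fct F K m = 0) : m = 0 := by
  refine mask_zero m hm fun j hj => ?_
  have h2 : 2 ^ j < 2048 := show 2 ^ j < 2 ^ 11 from Nat.pow_lt_pow_right (by norm_num) hj
  have := fct_psi F K m h2
  rw [h] at this
  exact bz_inj _ _ this.symm

theorem fct_surj (v : DualA F K) : ∃ m < 2048, fct F K m = v := by
  classical
  have h2 : ∀ j : Fin 11, 2 ^ j.val < 2048 := fun j =>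
    show 2 ^ j.val < 2 ^ 11 from Nat.pow_lt_pow_right (by norm_num) j.2
  choose bits hbits using fun j : Fin 11 => exists_bz (v (Additive.ofMul ⟨_, 2 ^ j.val, h2 j, rfl⟩))
  obtain ⟨m, hm, em⟩ : ∃ m < 2048, ∀ j : Fin 11, Nat.testBit m j.val = bits j := by
    have : ∀ k ≤ 11, ∃ m < 2 ^ k, ∀ j : Fin 11, j.val < k → Nat.testBit m j.val = bits j := by
      intro k
      induction k with
      | zero => intro _; exact ⟨0, by norm_num, fun j hj => absurd hj (Nat.not_lt_zero _)⟩
      | succ k ih =>
        intro hk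
        obtain ⟨m, hm, hb⟩ := ih (by omega)
        cases hbk : bits ⟨k, by omega⟩
        · refine ⟨m, hm.trans (Nat.pow_lt_pow_right (by norm_num) (by omega)), fun j hj => ?_⟩
          rcases Nat.lt_or_ge j.val k with h | h
          · exact hb j h
          · have e : j.val = k := by omega
            rw [e, show j = ⟨k, by omega⟩ from Fin.ext e, hbk]
            exact Nat.testBit_lt_two_pow hm
        · refine ⟨2 ^ k + m, by rw [pow_succ]; omega, fun j hj => ?_⟩
          rcases Nat.lt_or_ge j.val k with h | h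
          · rw [Nat.testBit_two_pow_add_gt h]; exact hb j h
          · have e : j.val = k := by omega
            rw [e, show j = ⟨k, by omega⟩ from Fin.ext e, hbk, Nat.testBit_two_pow_add_eq,
              Nat.testBit_lt_two_pow hm]
            rfl
    obtain ⟨m, hm, hb⟩ := this 11 le_rfl
    exact ⟨m, hm, fun j => hb j j.2⟩
  refine ⟨m, hm, ?_⟩
  have key : ∀ k ≤ 11, ∀ x, ∀ hmem : prodK (gA z t g s kw) k x ∈ subA F K,
      fct F K m (Additive.ofMul ⟨_, hmem⟩) = v (Additive.ofMul ⟨_, hmem⟩) := by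
    intro k
    induction k with
    | zero =>
      intro _ x hmem
      have e : (⟨prodK (gA z t g s kw) 0 x, hmem⟩ : ↥(subA F K)) = 1 := rfl
      rw [e, ofMul_one, map_zero, map_zero]
    | succ k ih =>
      intro hk x hmem
      have hg : psi z t g s kw (2 ^ k) = gA z t g s kw k := by
        simp only [psi, prodK, Nat.testBit_two_pow]
        rcases (show k = 0 ∨ k = 1 ∨ k = 2 ∨ k = 3 ∨ k = 4 ∨ k = 5 ∨ k = 6 ∨ k = 7 ∨ k = 8 ∨ k = 9 ∨
          k = 10 by omega) with rfl | rfl | rfl | rfl | rfl | rfl | rfl | rfl | rfl | rfl | rfl <;>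
          simp [bp]
      have hgA : gA z t g s kw k ∈ subA F K := ⟨2 ^ k, h2 ⟨k, by omega⟩, hg⟩
      cases hb : Nat.testBit x k
      · have e : prodK (gA z t g s kw) (k + 1) x = prodK (gA z t g s kw) k x := by
          simp [prodK, hb, bp]
        have hmem' : prodK (gA z t g s kw) k x ∈ subA F K := e ▸ hmem
        rw [show (⟨_, hmem⟩ : ↥(subA F K)) = ⟨_, hmem'⟩ from Subtype.ext e]
        exact ih (by omega) x hmem'
      · have e : prodK (gA z t g s kw) (k + 1) x = prodK (gA z t g s kw) k x * gA z t g s kw k := by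
          simp [prodK, hb, bp]
        have hmem' : prodK (gA z t g s kw) k x ∈ subA F K := by
          have := mul_mem hmem (inv_mem hgA)
          rwa [e, mul_inv_cancel_right] at this
        rw [show (⟨_, hmem⟩ : ↥(subA F K)) = ⟨_, hmem'⟩ * ⟨_, hgA⟩ from Subtype.ext e, ofMul_mul,
          map_add, map_add, ih (by omega) x hmem']
        congr 1
        have hfj := fct_psi F K m (h2 ⟨k, by omega⟩)
        rw [mask_bits k (by omega) m hm, em ⟨k, by omega⟩, hbits] at hfj
        simp only [hg] at hfj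
        exact hfj
  refine AddMonoidHom.ext fun a => ?_
  obtain ⟨⟨_, x, hx, rfl⟩, rfl⟩ := Additive.ofMul.surjective a
  exact key 11 le_rfl x ⟨x, hx, rfl⟩

/-- Conjugation on the subgroup. -/
def cjA (n : ↥(Subgroup.normalizer (subA F K : Set G))) : Additive ↥(subA F K) →+ Additive ↥(subA F K) :=
  AddMonoidHom.mk' (fun a => Additive.ofMul ⟨(n : G) * (a.toMul : G) * (n : G)⁻¹,
    (Subgroup.mem_normalizer_iff.mp n.2 _).mp a.toMul.2⟩) fun a b => by
      refine congrArg Additive.ofMul (Subtype.ext ?_)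
      exact (conj_mul_conj _ _ _).symm

theorem cjA_mul (a b : ↥(Subgroup.normalizer (subA F K : Set G))) (x : Additive ↥(subA F K)) :
    cjA F K (a * b) x = cjA F K a (cjA F K b x) := by
  refine congrArg Additive.ofMul (Subtype.ext ?_)
  show (a : G) * b * _ * ((a : G) * b)⁻¹ = (a : G) * ((b : G) * _ * (b : G)⁻¹) * (a : G)⁻¹
  group

theorem cjA_one (x : Additive ↥(subA F K)) : cjA F K 1 x = x := by
  refine congrArg Additive.ofMul (Subtype.ext ?_)
  show (1 : G) * _ * (1 : G)⁻¹ = _
  rw [one_mul, inv_one, mul_one]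
  rfl

omit F K in
/-- The action on functionals. -/
noncomputable def rhoV (F : Fr Q Q' z t ν d ρ g s) (K : Lift z t d g ρ s kw) :
    ↥(Subgroup.normalizer (subA F K : Set G)) →* AddMonoid.End (DualA F K) where
  toFun n := AddMonoidHom.mk' (fun v => v.comp (cjA F K n⁻¹)) fun _ _ => rfl
  map_one' := by
    refine AddMonoidHom.ext fun v => AddMonoidHom.ext fun x => ?_
    show v (cjA F K 1⁻¹ x) = v x
    rw [inv_one, cjA_one F K]
  map_mul' a b := by
    refine AddMonoidHom.ext fun v => AddMonoidHom.ext fun x => ?_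
    show v (cjA F K (a * b)⁻¹ x) = v (cjA F K b⁻¹ (cjA F K a⁻¹ x))
    rw [mul_inv_rev, cjA_mul F K]

/-- The number of class members where a functional vanishes. -/
noncomputable def cntV (v : DualA F K) : ℕ :=
  Nat.card {a : Additive ↥(subA F K) // IsConj z (a.toMul : G) ∧ v a = 0}

theorem cntV_inv (n : ↥(Subgroup.normalizer (subA F K : Set G))) (v : DualA F K) :
    cntV F K (rhoV F K n v) = cntV F K v := by
  refine Nat.card_congr
    { toFun := fun a => ⟨cjA F K n⁻¹ a.1, a.2.1.trans (isConj_iff.mpr ⟨_, rfl⟩), a.2.2⟩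
      invFun := fun a => ⟨cjA F K n a.1, a.2.1.trans (isConj_iff.mpr ⟨_, rfl⟩), ?_⟩
      left_inv := fun a => Subtype.ext (by
        show cjA F K n (cjA F K n⁻¹ a.1) = a.1
        rw [← cjA_mul F K, mul_inv_cancel, cjA_one F K])
      right_inv := fun a => Subtype.ext (by
        show cjA F K n⁻¹ (cjA F K n a.1) = a.1
        rw [← cjA_mul F K, inv_mul_cancel, cjA_one F K]) }
  show v (cjA F K n⁻¹ (cjA F K n a.1)) = 0
  rw [← cjA_mul F K, inv_mul_cancel, cjA_one F K]
  exact a.2.2

attribute [local irreducible] psi Co1Bits89.par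

set_option maxHeartbeats 1000000 in
theorem rhoV_eq_one (n : ↥(Subgroup.normalizer (subA F K : Set G))) :
    rhoV F K n = 1 ↔ (n : G) ∈ subA F K := by
  constructor
  · intro hn
    have hfix : ∀ i < 2048, (n : G) * psi z t g s kw i = psi z t g s kw i * n := by
      intro i hi
      obtain ⟨y, hy, ey⟩ : ∃ y < 2048, (n : G)⁻¹ * psi z t g s kw i * (n : G)⁻¹⁻¹ = psi z t g s kw y := by
        obtain ⟨y, hy, e⟩ := (Subgroup.mem_normalizer_iff.mp (inv_mem n.2) _).mp
          (show psi z t g s kw i ∈ subA F K from ⟨i, hi, rfl⟩)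
        exact ⟨y, hy, e.symm⟩
      suffices y = i by
        rw [this] at ey
        calc (n : G) * psi z t g s kw i = n * ((n : G)⁻¹ * psi z t g s kw i * (n : G)⁻¹⁻¹) := by rw [ey]
          _ = psi z t g s kw i * n := by group
      have : Nat.xor y i = 0 := by
        refine (fun x (hx2 : x < 2048) (hall : ∀ j < 11, parA (2 ^ j) x = false) =>
          mask_zero' x hx2 hall)
          _ (Nat.xor_lt_two_pow (n := 11) hy hi) fun j hj => ?_
        have e : rhoV F K n (fct F K (2 ^ j)) = fct F K (2 ^ j) := by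
          rw [hn]
          rfl
        have e' := DFunLike.congr_fun e (Additive.ofMul ⟨psi z t g s kw i, i, hi, rfl⟩)
        rw [fct_psi F K _ hi] at e'
        have e2 : rhoV F K n (fct F K (2 ^ j)) (Additive.ofMul ⟨psi z t g s kw i, i, hi, rfl⟩) =
            bz (parA (2 ^ j) y) := by
          rw [← fct_psi F K _ hy]
          exact congrArg (fct F K (2 ^ j)) (congrArg Additive.ofMul (Subtype.ext ey))
        rw [e2] at e'
        rw [parA_right, bz_inj _ _ e', Bool.xor_self]
      exact Nat.xor_eq_zero_iff.mp this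
    have hnz : (n : G) * z = z * n := by
      have h1 := hfix 1 (by norm_num)
      rwa [(psi_one F K).1] at h1
    exact cent_AQ F K hnz fun i hi => hfix i (by omega)
  · intro hn
    refine AddMonoidHom.ext fun v => AddMonoidHom.ext fun a => ?_
    show v (cjA F K n⁻¹ a) = v a
    congr 1
    refine congrArg Additive.ofMul (Subtype.ext ?_)
    obtain ⟨⟨_, i, hi, rfl⟩, rfl⟩ := Additive.ofMul.surjective a
    obtain ⟨j, hj, ej⟩ := inv_mem hn
    show (n : G)⁻¹ * psi z t g s kw i * (n : G)⁻¹⁻¹ = psi z t g s kw i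
    rw [← ej]
    exact conj_comm (psi_comm F K j i)

variable {h : G} (C : Classes F K h)
include C

theorem cntV_fct (m : ℕ) : cntV F K (fct F K m) = cntK m := by
  rw [cntK, cntB_eq]
  let e : {a : Additive ↥(subA F K) // IsConj z (a.toMul : G) ∧ fct F K m a = 0} ≃
      {x // x ∈ (Finset.range 2048).filter fun x => (tb classK x && !parA m x) = true} :=
    { toFun := fun a => ⟨codeA F K a.1.toMul, Finset.mem_filter.mpr
        ⟨Finset.mem_range.mpr (codeA_spec F K _).1, by
          have h1 := a.2.1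
          rw [← (codeA_spec F K a.1.toMul).2, C.iff _ (codeA_spec F K _).1] at h1
          have h2 : bz (parA m (codeA F K a.1.toMul)) = 0 := a.2.2
          rw [h1, bz_inj _ false h2]
          rfl⟩⟩
      invFun := fun x => ⟨Additive.ofMul ⟨psi z t g s kw x.1, x.1,
        Finset.mem_range.mp (Finset.mem_filter.mp x.2).1, rfl⟩, by
          obtain ⟨hx, hb⟩ := Finset.mem_filter.mp x.2
          rw [Bool.and_eq_true, Bool.not_eq_true'] at hb
          refine ⟨(C.iff _ (Finset.mem_range.mp hx)).mpr hb.1, ?_⟩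
          rw [fct_psi F K m (Finset.mem_range.mp hx), hb.2]
          rfl⟩
      left_inv := fun a => Subtype.ext (congrArg Additive.ofMul (Subtype.ext (codeA_spec F K a.1.toMul).2))
      right_inv := fun x => Subtype.ext (psi_inj F K (codeA_spec F K _).1
        (Finset.mem_range.mp (Finset.mem_filter.mp x.2).1) (codeA_spec F K _).2) }
  rw [cntV, Nat.card_congr e, Nat.card_eq_finsetCard]

theorem cntK_step {m : ℕ} (hm : m < 16) (x : ℕ) : cntK (fD m x) = cntK x := by
  rw [← cntV_fct F K C, ← cntV_fct F K C]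
  set n : ↥(Subgroup.normalizer (subA F K : Set G)) := ⟨_, mEl_norm F K hm⟩
  have e : fct F K (fD m x) = rhoV F K n⁻¹ (fct F K x) := by
    refine AddMonoidHom.ext fun a => ?_
    obtain ⟨⟨_, i, hi, rfl⟩, rfl⟩ := Additive.ofMul.surjective a
    show _ = fct F K x (cjA F K n⁻¹⁻¹ _)
    rw [inv_inv, fct_psi F K _ hi, fD]
    refine (congrArg bz (parA_appT _ _ _)).trans ((fct_psi F K x (fM_lt hm i)).symm.trans ?_)
    refine congrArg (fct F K x) (congrArg Additive.ofMul (Subtype.ext ?_))
    exact (mEl_conj F K hm i).symm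
  rw [e, cntV_inv F K]

theorem duad_iff {m : ℕ} (hm : m < 2048) : cntK m = 407 ↔ tb duadSet m = true := by
  have tree : ∀ {root : ℕ} {l : List ℕ} {S : ℕ}, treeOK fD root l S = true →
      ∀ x, tb S x = true → cntK x = cntK root := fun hok x hx =>
    treeOK_spec (P := fun x => cntK x = cntK _) hok
      (fun k hk y hy => (cntK_step F K C hk y).trans hy) rfl x hx
  obtain ⟨t0, t1, t2, t3, t4, t5⟩ := dtrees_ok
  obtain ⟨c0, c1, c2, c3, c4, c5, cz, hd0⟩ := dual_root
  have hc := allB_spec dcover_ok m hm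
  simp only [Bool.or_eq_true] at hc
  simp only [duadSet, tb_lor, Bool.or_eq_true]
  constructor
  · intro hK
    rcases hc with e | ((((e | e) | e) | e) | e) | e
    · rw [Nat.eq_of_beq_eq_true e, cz] at hK; omega
    · exact Or.inl e
    · exact absurd ((tree t1 m e).symm.trans hK) c1
    · exact absurd ((tree t2 m e).symm.trans hK) c2
    · exact absurd ((tree t3 m e).symm.trans hK) c3
    · exact absurd ((tree t4 m e).symm.trans hK) c4
    · exact Or.inr e
  · rintro (e | e)
    · exact (tree t0 m e).trans c0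
    · exact (tree t5 m e).trans c5

attribute [local irreducible] Co1Calc89.appM in
set_option maxHeartbeats 1000000 in
theorem quotient_M24 :
    ∃ φ : ↥(Subgroup.normalizer (subA F K : Set G)) →* ↥Cfsg.M24,
      φ.ker = (subA F K).subgroupOf (Subgroup.normalizer (subA F K : Set G)) ∧
        Function.Surjective φ := by
  classical
  let ψ : ℕ → DualA F K := fun r => fct F K (appM psiM r)
  have hx : ∀ a b, ψ (Nat.xor a b) = ψ a + ψ b := fun a b => by
    show fct F K (appM psiM _) = _
    rw [appM_xor, fct_xor F K]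
  have hb : ∀ r, appM psiM r < 2048 := appM_psiM_lt
  have hker : ∀ r < 2048, appM psiM r = 0 → r = 0 := fun r hr e => by
    have := allB_spec duads_ok.1 r hr
    simp only [Bool.and_eq_true, Bool.or_eq_true] at this
    rcases this.2 with h' | h'
    · exact Nat.eq_of_beq_eq_true h'
    · rw [e] at h'; simp at h'
  have hinj : ∀ i < 2048, ∀ j < 2048, ψ i = ψ j → i = j := by
    intro i hi j hj e
    have h0 : fct F K (appM psiM (Nat.xor i j)) = 0 := by
      show ψ _ = 0
      rw [hx, e, ← hx, show Nat.xor j j = 0 from Nat.xor_self j]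
      exact LFCocode89.psi0 hx
    have := hker _ (Nat.xor_lt_two_pow (n := 11) hi hj) (fct_inj F K (hb _) h0)
    exact Nat.xor_eq_zero_iff.mp this
  have hsurj : ∀ v, ∃ i < 2048, ψ i = v := by
    intro v
    obtain ⟨m, hm, rfl⟩ := fct_surj F K v
    let f : Fin 2048 → Fin 2048 := fun r => ⟨appM psiM r, hb r⟩
    have hf : Function.Injective f := fun a b e => Fin.ext (hinj a a.2 b b.2
      (congrArg (fct F K) (Fin.mk.inj e)))
    obtain ⟨r, hr⟩ := Finite.injective_iff_surjective.mp hf ⟨m, hm⟩
    exact ⟨r, r.2, congrArg (fct F K) (Fin.mk.inj hr)⟩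
  obtain ⟨hL, hspan, hduads⟩ := LFCocode89.cocode hx hinj hsurj
  have hmem : ∀ v, v ∈ GolayDuadRigid13.duads (LFCocode89.Lc ψ hx) ↔ cntV F K v = 407 := by
    intro v
    rw [hduads]
    constructor
    · rintro ⟨r, hr, rfl⟩
      have hr' := rlist_bound r hr
      rw [cntV_fct F K C, duad_iff F K C (hb r)]
      have := allB_spec duads_ok.1 r hr'
      simp only [Bool.and_eq_true, beq_iff_eq] at this
      rw [this.1]
      exact (mem_bitset _ _).mpr hr
    · intro hv
      obtain ⟨r, hr, rfl⟩ := hsurj v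
      refine ⟨r, ?_, rfl⟩
      rw [cntV_fct F K C, duad_iff F K C (hb r)] at hv
      have := allB_spec duads_ok.1 r hr
      simp only [Bool.and_eq_true, beq_iff_eq] at this
      rw [this.1] at hv
      exact (mem_bitset _ _).mp hv
  have hR : ∀ n, ∀ p q, p ≠ q → ∃ r s', r ≠ s' ∧ rhoV F K n (GolayDuadRigid13.duad (LFCocode89.Lc ψ hx) p q) =
      GolayDuadRigid13.duad (LFCocode89.Lc ψ hx) r s' := by
    intro n p q hpq
    have h1 : rhoV F K n (GolayDuadRigid13.duad (LFCocode89.Lc ψ hx) p q) ∈
        GolayDuadRigid13.duads (LFCocode89.Lc ψ hx) := by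
      rw [hmem, cntV_inv F K, ← hmem]
      exact ⟨p, q, hpq, rfl⟩
    obtain ⟨r, s', hrs, e⟩ := h1
    exact ⟨r, s', hrs, e.symm⟩
  obtain ⟨φ, -, hk, -⟩ := GolayDuadRigid13.exists_hom hL hspan (rhoV F K) hR
  set A' := (subA F K).subgroupOf (Subgroup.normalizer (subA F K : Set G)) with hA'
  have hkA : φ.ker = A' := by
    rw [hk]
    ext n
    rw [MonoidHom.mem_ker, hA', Subgroup.mem_subgroupOf]
    exact rhoV_eq_one F K n
  refine ⟨φ, hkA, ?_⟩
  rw [← MonoidHom.range_eq_top]
  refine Subgroup.eq_top_of_card_eq _ (le_antisymm (Subgroup.card_le_card_group _) ?_)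
  have hAc : Nat.card A' ≤ 2048 := by
    rw [hA', Nat.card_congr (Subgroup.subgroupOfEquivOfLe (A_le_norm F K)).toEquiv]
    refine (Nat.card_le_card_of_surjective (fun i : Fin 2048 =>
      (⟨psi z t g s kw i, i, i.2, rfl⟩ : ↥(subA F K))) ?_).trans (le_of_eq (Nat.card_fin _))
    rintro ⟨_, i, hi, rfl⟩
    exact ⟨⟨i, hi⟩, rfl⟩
  have hm := Subgroup.card_mul_index φ.ker
  rw [Subgroup.index_ker, hkA] at hm
  have hN := card_N F K C
  rw [← hm] at hN
  rw [GolayM24.card_M24]
  have := Nat.mul_le_mul_right (Nat.card φ.range) hAc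
  omega

end

end Cfsg.Agent.Co1Frame89
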