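import Cfsg.Agent.Lib.Co1Twist89

/-!
A normalised frame: the swap and `d` act on the sections by fixed formulas.
-/

set_option autoImplicit false
set_option linter.unusedSectionVars false

namespace Cfsg.Agent.Co1Frame89

open Cfsg.Agent.LargeExtraspecial Cfsg.Agent.ConwayTypeModel62 Cfsg.Agent.ConwayTypeCoord62
  Cfsg.Agent.ConwayTypeRadical62 Cfsg.Agent.Co1Bits89 Cfsg.Agent.Co1Calc89 Cfsg.Agent.Co1Data89
  Cfsg.Agent.Co1Check89

variable {G : Type*} [Group G] [Finite G]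

/-- A normalised frame. -/
structure Fr (Q Q' : Subgroup G) (z t : G) (ν : G → M6) (d : G) (ρ : ↥(Sx z t) →* P8) (g : G)
    (s : ℕ → G) : Prop where
  D : Ctx Q Q' z t ν d ρ
  dd : d * d = 1
  S : Sw Q Q' z t d g
  E : Sect Q t ν d s
  N : Norm z t d g ρ s
  hev : ∀ w < 64, ev ν d (bG g s w) = vec w ∧ w < 64
  dB : ∀ v < 64, d * bG g s v * d⁻¹ = X z t g s (fN v) (fN v) v v
  gB : ∀ v, g * bG g s v * g⁻¹ = aP s v
  gg : InU z t (g * g)

theorem sr_lt {x : ℕ} (h : x < 128) : Nat.shiftRight x 1 < 64 := show x / 2 < 64 by omega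

theorem polar_pi : ∀ u < 64, ∀ v < 64, BN (linV piL v) (linV piL u) = BN u v := by decide +kernel

theorem polar_id : ∀ u < 64, ∀ v < 64, BN v u = BN u v := by decide +kernel

theorem linV_inj : ∀ a < 64, ∀ b < 64, linV piL a = linV piL b → a = b := by decide +kernel

theorem bit_split : ∀ j < 6, ∀ v < 64, (Nat.testBit v j = true →
    Nat.xor (v % 2 ^ j) (2 ^ j) = v % 2 ^ (j + 1)) ∧
    (Nat.testBit v j = false → v % 2 ^ (j + 1) = v % 2 ^ j) ∧ v % 2 ^ j < 64 ∧ 2 ^ j < 64 := by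
  decide +kernel

theorem img_T : ∀ v < 64, Nat.shiftRight (T1.getD v 0) 1 < 64 ∧ Nat.shiftRight (T2.getD v 0) 1 < 64 := by
  decide +kernel

theorem eq_one_of_comm {σ : P8} (h1 : s1P * σ = σ * s1P) (h2 : s2P * σ = σ * s2P) : σ = 1 := by
  have h0 : σ 0 = 0 := s2_fix _ (by
    rw [← Equiv.Perm.mul_apply, h2, Equiv.Perm.mul_apply, show s2P 0 = 0 by decide +kernel])
  refine Equiv.ext fun i => ?_
  rcases eq_or_ne i 0 with rfl | hi
  · simpa using h0
  · obtain ⟨k, -, rfl⟩ := centre_A8 i hi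
    have hc : Commute ((List.replicate k s2P).prod * s1P) σ := by
      rw [List.prod_replicate]
      exact (Commute.pow_left h2 k).mul_left h1
    rw [← Equiv.Perm.mul_apply, ← hc.eq, Equiv.Perm.mul_apply, h0]
    rfl

section

variable {Q Q' : Subgroup G} {z t : G} {ν : G → M6} {d g : G}
  {ρ : ↥(Sx z t) →* P8} {s : ℕ → G}
  (D : Ctx Q Q' z t ν d ρ) (S : Sw Q Q' z t d g) (E : Sect Q t ν d s)
include D S E

theorem k_rec {p : ℕ → ℕ} (hev : ∀ w < 64, ev ν d (bG g s w) = vec (p w) ∧ p w < 64)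
    (hpi : ∀ a < 64, ∀ b < 64, p a = p b → a = b) (hpB : ∀ u < 64, ∀ v < 64, BN (p v) (p u) = BN u v)
    {k : ℕ → Bool} (hk : ∀ v < 64, d * bG g s v * d⁻¹ = X z t g s (k v) (fN v) (p v) v) :
    k 0 = false ∧ ∀ j < 6, ∀ v < 64, Nat.testBit v j = true →
      k (v % 2 ^ (j + 1)) = xor (xor (k (v % 2 ^ j)) (k (2 ^ j)))
        (xor (xor (BN (v % 2 ^ j) (2 ^ j)) (Co1Bits89.beta (p (v % 2 ^ j)) (p (2 ^ j))))
          (Co1Bits89.beta (v % 2 ^ j) (2 ^ j))) := by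
  have rule : ∀ u < 64, ∀ v < 64, xor (Co1Bits89.beta u v) (k (Nat.xor u v)) =
      xor (xor (xor (k u) (k v)) (BN u v)) (Co1Bits89.beta (p u) (p v)) := fun u hu v hv =>
    k_rule D S E hev hu hv hpi (hpB u hu v hv) (hk u hu) (hk v hv)
      (hk _ (Nat.xor_lt_two_pow (n := 6) hu hv))
  refine ⟨?_, fun j hj v hv hb => ?_⟩
  · have h := rule 0 (by norm_num) 0 (by norm_num)
    have hp0 : p 0 = 0 := by
      have h1 := (hev 0 (by norm_num)).1
      rw [show bG g s 0 = 1 by simp [bG, aP, prodK, bp], D.ev_one] at h1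
      refine vec_inj _ (hev 0 (by norm_num)).2 0 (by norm_num) ?_
      rw [← h1]
      decide +kernel
    rw [hp0, show BN 0 0 = false from rfl, show Co1Bits89.beta 0 0 = false from rfl,
      show Nat.xor 0 0 = 0 from rfl] at h
    revert h
    cases k 0 <;> simp
  · obtain ⟨h1, -, h3, h4⟩ := bit_split j hj v hv
    have h := rule _ h3 _ h4
    rw [h1 hb] at h
    revert h
    cases k (v % 2 ^ (j + 1)) <;> cases k (v % 2 ^ j) <;> cases k (2 ^ j) <;>
      cases BN (v % 2 ^ j) (2 ^ j) <;> cases Co1Bits89.beta (p (v % 2 ^ j)) (p (2 ^ j)) <;>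
      cases Co1Bits89.beta (v % 2 ^ j) (2 ^ j) <;> simp

theorem no_odd (N : Norm z t d g ρ s) (hdd : d * d = 1)
    (hτ : ∀ w < 64, ev ν d (bG g s w) = act piP (vec w)) : False := by
  have hev : ∀ w < 64, ev ν d (bG g s w) = vec (linV piL w) ∧ linV piL w < 64 := fun w hw =>
    ⟨(hτ w hw).trans (linV_act w hw).1, (linV_act w hw).2⟩
  have hex : ∀ v, ∃ k, v < 64 → d * bG g s v * d⁻¹ = X z t g s k (fN v) (linV piL v) v := fun v => by
    by_cases hv : v < 64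
    · obtain ⟨k, hk⟩ := exists_k D S E hev hdd hv
      exact ⟨k, fun _ => hk⟩
    · exact ⟨false, fun h => absurd h hv⟩
  choose k hk using hex
  obtain ⟨k0, krec⟩ := k_rec D S E hev linV_inj polar_pi hk
  obtain ⟨kb, hkb, ekb⟩ := exists_bits fun i => k (2 ^ i.val)
  have hkap : ∀ j ≤ 6, ∀ v < 64, k (v % 2 ^ j) = kap kb j v := by
    intro j
    induction j with
    | zero => intro _ v _; rw [pow_zero, Nat.mod_one]; exact k0
    | succ j ih =>
      intro hj v hv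
      rw [kap]
      cases hb : Nat.testBit v j
      · rw [cond_false, (bit_split j (by omega) v hv).2.1 hb]
        exact ih (by omega) v hv
      · rw [cond_true, krec j (by omega) v hv hb, ih (by omega) v hv,
          show Nat.testBit kb j = k (2 ^ j) from ekb ⟨j, by omega⟩]
  obtain ⟨v, hv, i, hi, hne⟩ := kappa_ok kb hkb
  obtain ⟨-, -, -, -, -, -, -, q1, q2, sg1, sg2, -⟩ := perm_facts
  have hpp : piP⁻¹ = piP := by decide +kernel
  obtain ⟨k₁, h₁, r₁⟩ := exists_lift D S sg1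
  obtain ⟨k₂, h₂, r₂⟩ := exists_lift D S sg2
  have a₁ := (N k₁ h₁).1 r₁
  have a₂ := (N k₂ h₂).2 r₂
  obtain ⟨w, hw, rw', aw⟩ := word_lift D S E h₁ h₂ r₁ r₂ a₁ a₂ (wPi.getD i [])
  have key : ∀ (c : ↥(Sx z t)) (T : List ℕ), In0 z t d g (c : G) → Act z s (c : G) T →
      piP * ρ c * piP = wordP (wPi.getD i []) →
      xor (k v) (Nat.testBit (T.getD (linV piL v) 0) 0) =
        xor (Nat.testBit ((wordT T1 T2 (wPi.getD i [])).getD v 0) 0)
          (k (Nat.shiftRight ((wordT T1 T2 (wPi.getD i [])).getD v 0) 1)) := by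
    intro c T hc hT e
    refine k_invariant D S E hev linV_inj hk hc hT ?_ hv
    exact act_congr D S E hw (c' := ⟨g⁻¹ * c * g, ginv_Sx D S c.2⟩) (in0_g D S hc).1
      (by rw [rw', twist_conj D S E hτ c hc, hpp, e]) aw
  have hkv : ∀ u < 64, k u = kap kb 6 u := fun u hu => by
    rw [← hkap 6 le_rfl u hu, Nat.mod_eq_of_lt (show u < 2 ^ 6 from hu)]
  have hlt : Nat.shiftRight ((wordT T1 T2 (wPi.getD i [])).getD v 0) 1 < 64 := sr_lt (aw.1.2 v hv)
  obtain rfl | rfl : i = 0 ∨ i = 1 := by omega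
  · have h := key k₁ T1 h₁ a₁ (by rw [r₁, q1])
    rw [hkv v hv, hkv _ hlt] at h
    exact hne h
  · have h := key k₂ T2 h₂ a₂ (by rw [r₂, q2])
    rw [hkv v hv, hkv _ hlt] at h
    exact hne h

theorem fr_of_id (N : Norm z t d g ρ s) (hdd : d * d = 1)
    (hτ : ∀ w < 64, ev ν d (bG g s w) = act 1 (vec w)) : Fr Q Q' z t ν d ρ g s := by
  have hev : ∀ w < 64, ev ν d (bG g s w) = vec (id w) ∧ id w < 64 := fun w hw =>
    ⟨(hτ w hw).trans (act_one _), hw⟩
  have hex : ∀ v, ∃ k, v < 64 → d * bG g s v * d⁻¹ = X z t g s k (fN v) (id v) v := fun v => by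
    by_cases hv : v < 64
    · obtain ⟨k, hk⟩ := exists_k D S E hev hdd hv
      exact ⟨k, fun _ => hk⟩
    · exact ⟨false, fun h => absurd h hv⟩
  choose k hk using hex
  have hpi : ∀ a < 64, ∀ b < 64, id a = id b → a = b := fun _ _ _ _ h => h
  obtain ⟨k0, krec⟩ := k_rec D S E hev hpi polar_id hk
  obtain ⟨kb, hkb, ekb⟩ := exists_bits fun i => k (2 ^ i.val)
  have hkap : ∀ j ≤ 6, ∀ v < 64, k (v % 2 ^ j) = kap1 kb j v := by
    intro j
    induction j with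
    | zero => intro _ v _; rw [pow_zero, Nat.mod_one]; exact k0
    | succ j ih =>
      intro hj v hv
      rw [kap1]
      cases hb : Nat.testBit v j
      · rw [cond_false, (bit_split j (by omega) v hv).2.1 hb]
        exact ih (by omega) v hv
      · rw [cond_true, krec j (by omega) v hv hb, ih (by omega) v hv,
          show Nat.testBit kb j = k (2 ^ j) from ekb ⟨j, by omega⟩]
        simp only [id_eq]
        cases kap1 kb j v <;> cases k (2 ^ j) <;> cases BN (v % 2 ^ j) (2 ^ j) <;>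
          cases Co1Bits89.beta (v % 2 ^ j) (2 ^ j) <;> rfl
  have hkv : ∀ u < 64, k u = kap1 kb 6 u := fun u hu => by
    rw [← hkap 6 le_rfl u hu, Nat.mod_eq_of_lt (show u < 2 ^ 6 from hu)]
  obtain ⟨-, -, -, -, -, -, -, -, -, sg1, sg2, -⟩ := perm_facts
  obtain ⟨k₁, h₁, r₁⟩ := exists_lift D S sg1
  obtain ⟨k₂, h₂, r₂⟩ := exists_lift D S sg2
  have hinv : ∀ c : ↥(Sx z t), In0 z t d g (c : G) →
      ρ ⟨g⁻¹ * c * g, ginv_Sx D S c.2⟩ = ρ c := fun c hc => by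
    rw [twist_conj D S E hτ c hc, inv_one, one_mul, mul_one]
  have key : ∀ (c : ↥(Sx z t)) (T : List ℕ), In0 z t d g (c : G) → Act z s (c : G) T → ∀ v < 64,
      kap1 kb 6 v = kap1 kb 6 (Nat.shiftRight (T.getD v 0) 1) := by
    intro c T hc hT v hv
    have h := k_invariant D S E hev hpi hk hc hT
      (act_congr D S E hc (c' := ⟨g⁻¹ * c * g, ginv_Sx D S c.2⟩) (in0_g D S hc).1 (hinv c hc).symm hT) hv
    have hlt : Nat.shiftRight (T.getD v 0) 1 < 64 := sr_lt (hT.1.2 v hv)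
    simp only [id_eq] at h
    rw [hkv v hv, hkv _ hlt] at h
    revert h
    cases kap1 kb 6 v <;> cases Nat.testBit (T.getD v 0) 0 <;>
      cases kap1 kb 6 (Nat.shiftRight (T.getD v 0) 1) <;> simp
  have hfin := kappa_one kb hkb fun v hv =>
    ⟨key k₁ T1 h₁ ((N k₁ h₁).1 r₁) v hv, key k₂ T2 h₂ ((N k₂ h₂).2 r₂) v hv⟩
  have hgg : InU z t (g * g) := by
    refine in0_R D S (c := ⟨g * g, S.sq.1⟩) S.sq ?_
    have hcomm : ∀ c : ↥(Sx z t), In0 z t d g (c : G) →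
        ρ c * ρ ⟨g * g, S.sq.1⟩ = ρ ⟨g * g, S.sq.1⟩ * ρ c := fun c hc => by
      have e2 := hinv ⟨g⁻¹ * c * g, ginv_Sx D S c.2⟩ (in0_g D S hc).1
      rw [hinv c hc] at e2
      have e3 : (⟨g⁻¹ * (g⁻¹ * c * g) * g, ginv_Sx D S (ginv_Sx D S c.2)⟩ : ↥(Sx z t)) =
          ⟨g * g, S.sq.1⟩⁻¹ * c * ⟨g * g, S.sq.1⟩ := Subtype.ext (by
        show g⁻¹ * (g⁻¹ * (c : G) * g) * g = (g * g)⁻¹ * c * (g * g)
        group)
      rw [show ρ ⟨g⁻¹ * (g⁻¹ * (c : G) * g) * g, ginv_Sx D S (ginv_Sx D S c.2)⟩ = _ from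
        congrArg ρ e3, map_mul, map_mul, map_inv] at e2
      rw [← mul_left_cancel_iff (a := (ρ ⟨g * g, S.sq.1⟩)⁻¹), inv_mul_cancel_left, ← mul_assoc]
      exact e2
    refine eq_one_of_comm ?_ ?_
    · rw [← r₁]; exact hcomm k₁ h₁
    · rw [← r₂]; exact hcomm k₂ h₂
  refine ⟨D, hdd, S, E, N, hev, fun v hv => ?_, fun v => ?_, hgg⟩
  · rw [hk v hv, hkv v hv, hfin v hv]
    rfl
  · rw [bG, show g * (g * aP s v * g⁻¹) * g⁻¹ = g * g * aP s v * (g * g)⁻¹ by group,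
      ← U_comm' D hgg (D.H.Cx_le_Sx (aP_mem D E v).1), mul_inv_cancel_right]

end

theorem exists_fr {Q Q' : Subgroup G} {z t : G} {ν : G → M6} {d : G} {ρ : ↥(Sx z t) →* P8}
    (D₀ : Ctx Q Q' z t ν d ρ) : ∃ ν' d' ρ' g s, Fr Q Q' z t ν' d' ρ' g s := by
  obtain ⟨d, hdd, D₁⟩ := exists_inv_d D₀
  obtain ⟨g, S⟩ := exists_sw D₁
  obtain ⟨ν, ρ, s, D, E, N⟩ := exists_norm D₁ S
  obtain ⟨τ, hτ⟩ := exists_twist D S E
  obtain ⟨-, -, -, -, -, -, -, -, -, -, -, spi⟩ := perm_facts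
  rcases Int.units_eq_one_or (Equiv.Perm.sign τ) with h | h
  · obtain ⟨x, hx, rx⟩ := exists_lift D S (σ := τ⁻¹) (by rw [map_inv, h]; rfl)
    have hshift := twist_shift D S E hτ x hx
    rw [rx, mul_inv_cancel] at hshift
    exact ⟨ν, d, ρ, g * x, s, fr_of_id D (sw_mul D S hx) E
      (fun c hc => N c ((in0_iff D S hx c).1 hc)) hdd hshift⟩
  · exfalso
    obtain ⟨x, hx, rx⟩ := exists_lift D S (σ := τ⁻¹ * piP) (by rw [map_mul, map_inv, h, spi]; rfl)
    have hshift := twist_shift D S E hτ x hx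
    rw [rx, mul_inv_cancel_left] at hshift
    exact no_odd D (sw_mul D S hx) E (fun c hc => N c ((in0_iff D S hx c).1 hc)) hdd hshift

end Cfsg.Agent.Co1Frame89
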