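import Cfsg.Agent.Lib.ConwayTypePair62
import Cfsg.Agent.Lib.Co1Check89

/-!
The elements moving both `d` and its swap image only by the four group, and sections of
`C_Q(t)` fixed by `d`.
-/

set_option autoImplicit false
set_option linter.unusedSectionVars false

namespace Cfsg.Agent.Co1Frame89

open Cfsg.Agent.LargeExtraspecial Cfsg.Agent.ConwayTypeModel62 Cfsg.Agent.ConwayTypeCoord62
  Cfsg.Agent.ConwayTypeRadical62 Cfsg.Agent.Co1Bits89 Cfsg.Agent.Co1Calc89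

variable {G : Type*} [Group G] [Finite G]

theorem bp_zp (x : G) : ∀ b, zp x (bz b) = bp x b
  | false => zp_zero x
  | true => zp_one x

theorem bp_vv (z t : G) (i j : Bool) : bp z i * bp t j = vv z t (bz i, bz j) := by
  rw [vv, bp_zp, bp_zp]

theorem exists_bz : ∀ i : ZMod 2, ∃ b, bz b = i := by decide

/-- Moves `d` and `g d g⁻¹` only by the four group. -/
def In0 (z t d g c : G) : Prop :=
  c ∈ Sx z t ∧ InU z t (c * d * c⁻¹ * d⁻¹) ∧ InU z t (c * (g * d * g⁻¹) * c⁻¹ * (g * d * g⁻¹)⁻¹)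

/-- The ordered product at the bits of a code. -/
def aP (s : ℕ → G) (v : ℕ) : G := prodK s 6 v

/-- The element of a seven bit code. -/
def el (z : G) (s : ℕ → G) (x : ℕ) : G := bp z (Nat.testBit x 0) * aP s (Nat.shiftRight x 1)

/-- The element of a table. -/
def Act (z : G) (s : ℕ → G) (c : G) (T : List ℕ) : Prop :=
  (T.length = 64 ∧ ∀ v < 64, T.getD v 0 < 128) ∧ ∀ v < 64, c * aP s v * c⁻¹ = el z s (T.getD v 0)

theorem bn_shift : ∀ b, Nat.shiftRight (bn b) 1 = 0 ∧ Nat.testBit (bn b) 0 = b := by decide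

theorem shift_xor (x y : ℕ) :
    Nat.shiftRight (Nat.xor x y) 1 = Nat.xor (Nat.shiftRight x 1) (Nat.shiftRight y 1) :=
  Nat.shiftRight_xor_distrib

theorem testBit_xor0 (x y i : ℕ) :
    Nat.testBit (Nat.xor x y) i = xor (Nat.testBit x i) (Nat.testBit y i) := Nat.testBit_xor x y i

theorem xor_zero' (x : ℕ) : Nat.xor x 0 = x := Nat.xor_zero x

theorem mulC_parts (x y : ℕ) :
    Nat.shiftRight (mulC x y) 1 = Nat.xor (Nat.shiftRight x 1) (Nat.shiftRight y 1) ∧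
    Nat.testBit (mulC x y) 0 =
      xor (xor (Nat.testBit x 0) (Nat.testBit y 0)) (Co1Bits89.beta (Nat.shiftRight x 1) (Nat.shiftRight y 1)) := by
  constructor
  · rw [mulC, shift_xor, shift_xor, (bn_shift _).1, xor_zero']
  · rw [mulC, testBit_xor0, testBit_xor0, (bn_shift _).2]

theorem two_mul_parts (u : ℕ) (b : Bool) :
    Nat.shiftRight (2 * u + bn b) 1 = u ∧ Nat.testBit (2 * u + bn b) 0 = b := by
  constructor
  · show (2 * u + bn b) >>> 1 = u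
    rw [Nat.shiftRight_eq_div_pow]
    cases b <;> simp [bn]
    omega
  · rw [Nat.testBit_zero]
    cases b <;> simp [bn]

theorem code_eq (x : ℕ) : x = 2 * Nat.shiftRight x 1 + bn (Nat.testBit x 0) := by
  rw [show Nat.shiftRight x 1 = x / 2 from rfl]
  rcases Nat.mod_two_eq_zero_or_one x with h | h
  · rw [show Nat.testBit x 0 = false by rw [Nat.testBit_zero]; simp [h]]
    show x = 2 * (x / 2) + 0
    omega
  · rw [show Nat.testBit x 0 = true by rw [Nat.testBit_zero]; simp [h]]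
    show x = 2 * (x / 2) + 1
    omega

theorem mod_vec (k v : ℕ) :
    vec (v % 2 ^ (k + 1)) = vec (v % 2 ^ k) + if Nat.testBit v k then vec (2 ^ k) else 0 := by
  funext i
  by_cases hk : Nat.testBit v k <;> simp [vec, hk, Nat.testBit_mod_two_pow, Nat.testBit_two_pow]
  · rcases Nat.lt_trichotomy i.val k with h | h | h
    · simp [h, h.ne', h.le]
    · subst h; simp [hk]
    · simp [h.ne, not_lt.2 h.le, not_le.2 h]
  · rcases Nat.lt_trichotomy i.val k with h | h | h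
    · simp [h, h.le]
    · subst h; simp [hk]
    · simp [not_lt.2 h.le, not_le.2 h]

/-- Sections of `C_Q(t)` fixed by `d`. -/
structure Sect (Q : Subgroup G) (t : G) (ν : G → M6) (d : G) (s : ℕ → G) : Prop where
  mem : ∀ k < 6, s k ∈ Cx Q t
  nu : ∀ k < 6, ν (s k) = vec (2 ^ k)
  fix : ∀ k < 6, d * s k * d⁻¹ = s k

/-- An element interchanging the two centralisers. -/
structure Sw (Q Q' : Subgroup G) (z t d g : G) : Prop where
  gz : g * z * g⁻¹ = t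
  gt : g * t * g⁻¹ = z
  toQ' : ∀ x ∈ Q, g * x * g⁻¹ ∈ Q'
  toQ : ∀ x ∈ Q', g * x * g⁻¹ ∈ Q
  sq : In0 z t d g (g * g)

theorem conj_mul_conj (g x y : G) : g * x * g⁻¹ * (g * y * g⁻¹) = g * (x * y) * g⁻¹ := by group

theorem conj_bp (g x : G) (b : Bool) : g * bp x b * g⁻¹ = bp (g * x * g⁻¹) b := by
  cases b <;> simp [bp]

theorem conj_prodK (c : G) (s : ℕ → G) (k v : ℕ) :
    c * prodK s k v * c⁻¹ = prodK (fun j => c * s j * c⁻¹) k v := by
  induction k with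
  | zero => simp [prodK]
  | succ k ih => rw [prodK, prodK, ← conj_mul_conj, ih, conj_bp]

theorem conj_comm {c x : G} (h : c * x = x * c) : c * x * c⁻¹ = x := by
  rw [h, mul_inv_cancel_right]

section

variable {Q Q' : Subgroup G} {z t : G} {ν : G → M6} {d : G}
  {ρ : ↥(Sx z t) →* P8} (D : Ctx Q Q' z t ν d ρ)
include D

theorem ev_cocycle (c c' : ↥(Sx z t)) :
    ev ν d ((c : G) * c') = act (ρ c) (ev ν d c') + ev ν d c := by
  have hm := D.ev_mem c'.2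
  rw [ev, ev, ev, show (c : G) * c' * d * ((c : G) * c')⁻¹ * d⁻¹
      = ((c : G) * ((c' : G) * d * (c' : G)⁻¹ * d⁻¹) * (c : G)⁻¹) * ((c : G) * d * (c : G)⁻¹ * d⁻¹) by group,
    D.K.add _ (D.H.conj_Cx c.2 hm) _ (D.ev_mem c.2), ← D.hρ c _ hm]

theorem U_comm' {u c : G} (hu : InU z t u) (hc : c ∈ Sx z t) : c * u = u * c :=
  D.H.U_comm D.sing hu hc

theorem U_fix {u c : G} (hu : InU z t u) (hc : c ∈ Sx z t) : c * u * c⁻¹ = u :=
  conj_comm (U_comm' D hu hc)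

theorem U_self {u : G} (hu : InU z t u) : u⁻¹ = u := (D.H.U_inv D.sing hu).2

theorem move_mul {y a b : G} (ha : a ∈ Sx z t) (h1 : InU z t (a * y * a⁻¹ * y⁻¹))
    (h2 : InU z t (b * y * b⁻¹ * y⁻¹)) : InU z t (a * b * y * (a * b)⁻¹ * y⁻¹) := by
  rw [show a * b * y * (a * b)⁻¹ * y⁻¹
    = (a * (b * y * b⁻¹ * y⁻¹) * a⁻¹) * (a * y * a⁻¹ * y⁻¹) by group, U_fix D h2 ha]
  exact D.H.U_mul D.sing h2 h1

theorem move_inv {y a : G} (ha : a ∈ Sx z t) (h1 : InU z t (a * y * a⁻¹ * y⁻¹)) :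
    InU z t (a⁻¹ * y * a⁻¹⁻¹ * y⁻¹) := by
  have e : a⁻¹ * y * a⁻¹⁻¹ * y⁻¹ = a⁻¹ * (a * y * a⁻¹ * y⁻¹)⁻¹ * a⁻¹⁻¹ := by group
  rw [e, U_self D h1, U_fix D h1 (inv_mem ha)]
  exact h1

theorem in0_mul {g a b : G} (ha : In0 z t d g a) (hb : In0 z t d g b) : In0 z t d g (a * b) :=
  ⟨mul_mem ha.1 hb.1, move_mul D ha.1 ha.2.1 hb.2.1, move_mul D ha.1 ha.2.2 hb.2.2⟩

theorem in0_inv {g a : G} (ha : In0 z t d g a) : In0 z t d g a⁻¹ :=
  ⟨inv_mem ha.1, move_inv D ha.1 ha.2.1, move_inv D ha.1 ha.2.2⟩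

theorem in0_one (g : G) : In0 z t d g 1 :=
  ⟨one_mem _, Or.inl (by group), Or.inl (by group)⟩

theorem U_mem_Sx {u : G} (hu : InU z t u) : u ∈ Sx z t :=
  D.H.Cx_le_Sx (D.H.U_mem D.sing hu)

theorem ev_zero {c : G} (hc : c ∈ Sx z t) : ev ν d c = 0 ↔ InU z t (c * d * c⁻¹ * d⁻¹) :=
  D.K.ker _ (D.ev_mem hc)

theorem d_zt : d * z * d⁻¹ = z ∧ d * t * d⁻¹ = z * t ∧ d * (z * t) * d⁻¹ = t := by
  refine ⟨conj_comm (D.H.h.comm d D.hd), D.ed, ?_⟩
  calc d * (z * t) * d⁻¹ = (d * z * d⁻¹) * (d * t * d⁻¹) := by group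
    _ = t := by rw [conj_comm (D.H.h.comm d D.hd), D.ed, D.H.h.z_mul_z_mul]

theorem d_InU {u : G} (hu : InU z t u) : InU z t (d * u * d⁻¹) := by
  obtain ⟨e1, e2, e3⟩ := d_zt D
  rcases hu with rfl | rfl | rfl | rfl
  · exact Or.inl (by group)
  · exact Or.inr (Or.inl e1)
  · exact Or.inr (Or.inr (Or.inr e2))
  · exact Or.inr (Or.inr (Or.inl e3))

theorem in0_d {g c : G} (hc : In0 z t d g c) : ∃ u, InU z t u ∧ d * c * d⁻¹ = c * u := by
  have h := move_inv D hc.1 hc.2.1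
  refine ⟨_, h, ?_⟩
  have hu := U_self D h
  calc d * c * d⁻¹ = c * ((c⁻¹ * d * c⁻¹⁻¹ * d⁻¹)) := by group
    _ = _ := rfl

/-! ### The swap -/

variable {g : G} (S : Sw Q Q' z t d g)
include S

theorem g_InU {u : G} (hu : InU z t u) : InU z t (g * u * g⁻¹) := by
  rcases hu with rfl | rfl | rfl | rfl
  · exact Or.inl (by group)
  · exact Or.inr (Or.inr (Or.inl S.gz))
  · exact Or.inr (Or.inl S.gt)
  · refine Or.inr (Or.inr (Or.inr ?_))
    rw [← conj_mul_conj, S.gz, S.gt, D.H.zx D.sing]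

theorem g_Sx {c : G} (hc : c ∈ Sx z t) : g * c * g⁻¹ ∈ Sx z t := by
  obtain ⟨h1, h2⟩ := mem_Sx.mp hc
  have e1 := conj_mul_conj g c t
  have e2 := conj_mul_conj g c z
  rw [h2, ← conj_mul_conj, S.gt] at e1
  rw [h1, ← conj_mul_conj, S.gz] at e2
  exact mem_Sx.mpr ⟨e1, e2⟩

theorem ginv_zt : g⁻¹ * z * g = t ∧ g⁻¹ * t * g = z := by
  constructor
  · rw [← S.gt]; group
  · rw [← S.gz]; group

theorem ginv_Sx {c : G} (hc : c ∈ Sx z t) : g⁻¹ * c * g ∈ Sx z t := by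
  have h := g_Sx D S (mul_mem (mul_mem (inv_mem S.sq.1) hc) S.sq.1)
  rwa [show g * ((g * g)⁻¹ * c * (g * g)) * g⁻¹ = g⁻¹ * c * g by group] at h

theorem ginv_InU {u : G} (hu : InU z t u) : InU z t (g⁻¹ * u * g) := by
  obtain ⟨e1, e2⟩ := ginv_zt D S
  rcases hu with rfl | rfl | rfl | rfl
  · exact Or.inl (by group)
  · exact Or.inr (Or.inr (Or.inl e1))
  · exact Or.inr (Or.inl e2)
  · refine Or.inr (Or.inr (Or.inr ?_))
    rw [show g⁻¹ * (z * t) * g = g⁻¹ * z * g * (g⁻¹ * t * g) by group, e1, e2, D.H.zx D.sing]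

theorem g_Cx {a : G} (ha : a ∈ Cx Q t) : g * a * g⁻¹ ∈ Cx Q' z := by
  obtain ⟨h1, h2⟩ := mem_Cx.mp ha
  refine mem_Cx.mpr ⟨S.toQ' a h1, ?_⟩
  have e := conj_mul_conj g a t
  rwa [h2, ← conj_mul_conj, S.gt] at e

theorem g_Cx' {b : G} (hb : b ∈ Cx Q' z) : g * b * g⁻¹ ∈ Cx Q t := by
  obtain ⟨h1, h2⟩ := mem_Cx.mp hb
  refine mem_Cx.mpr ⟨S.toQ b h1, ?_⟩
  have e := conj_mul_conj g b z
  rwa [h2, ← conj_mul_conj, S.gz] at e

theorem ginv_Cx {a : G} (ha : a ∈ Cx Q t) : g⁻¹ * a * g ∈ Cx Q' z := by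
  have h := g_Cx D S (D.H.conj_Cx (inv_mem S.sq.1) ha)
  rwa [show g * ((g * g)⁻¹ * a * (g * g)⁻¹⁻¹) * g⁻¹ = g⁻¹ * a * g by group] at h

theorem ginv_Cx' {b : G} (hb : b ∈ Cx Q' z) : g⁻¹ * b * g ∈ Cx Q t := by
  have h := g_Cx' D S (D.conj_C' (inv_mem S.sq.1) hb)
  rwa [show g * ((g * g)⁻¹ * b * (g * g)⁻¹⁻¹) * g⁻¹ = g⁻¹ * b * g by group] at h

theorem in0_g {c : G} (hc : In0 z t d g c) : In0 z t d g (g⁻¹ * c * g) ∧ In0 z t d g (g * c * g⁻¹) := by
  obtain ⟨h1, h2, h3⟩ := hc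
  have hx : InU z t (g⁻¹ * c * g * d * (g⁻¹ * c * g)⁻¹ * d⁻¹) := by
    rw [show g⁻¹ * c * g * d * (g⁻¹ * c * g)⁻¹ * d⁻¹
      = g⁻¹ * (c * (g * d * g⁻¹) * c⁻¹ * (g * d * g⁻¹)⁻¹) * g by group]
    exact ginv_InU D S h3
  have hy : InU z t (g * c * g⁻¹ * (g * d * g⁻¹) * (g * c * g⁻¹)⁻¹ * (g * d * g⁻¹)⁻¹) := by
    rw [show g * c * g⁻¹ * (g * d * g⁻¹) * (g * c * g⁻¹)⁻¹ * (g * d * g⁻¹)⁻¹
      = g * (c * d * c⁻¹ * d⁻¹) * g⁻¹ by group]
    exact g_InU D S h2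
  obtain ⟨q1, q2, q3⟩ := S.sq
  have hx' : InU z t (g * c * g⁻¹ * d * (g * c * g⁻¹)⁻¹ * d⁻¹) := by
    have h := move_mul D (mul_mem q1 (ginv_Sx D S h1)) (move_mul D q1 q2 hx) (move_inv D q1 q2)
    rwa [show g * g * (g⁻¹ * c * g) * (g * g)⁻¹ = g * c * g⁻¹ by group] at h
  have hy' : InU z t (g⁻¹ * c * g * (g * d * g⁻¹) * (g⁻¹ * c * g)⁻¹ * (g * d * g⁻¹)⁻¹) := by
    have h := move_mul D (mul_mem (inv_mem q1) (g_Sx D S h1))
      (move_mul D (inv_mem q1) (move_inv D q1 q3) hy) q3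
    rwa [show (g * g)⁻¹ * (g * c * g⁻¹) * (g * g) = g⁻¹ * c * g by group] at h
  exact ⟨⟨ginv_Sx D S h1, hx, hy'⟩, ⟨g_Sx D S h1, hx', hy⟩⟩

theorem exists_lift {σ : P8} (hσ : Equiv.Perm.sign σ = 1) :
    ∃ c : ↥(Sx z t), In0 z t d g (c : G) ∧ ρ c = σ := by
  obtain ⟨c0, rfl⟩ := D.exists_rho_eq hσ
  obtain ⟨b, hb, eb⟩ := D.ev_surj (act (ρ c0)⁻¹ (ev ν d c0))
  let c' : ↥(Sx z t) := ⟨g⁻¹ * c0 * g, ginv_Sx D S c0.2⟩
  obtain ⟨b2, hb2, eb2⟩ := D.ev_surj (act (ρ c')⁻¹ (ev ν d c'))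
  have ha : g * b2 * g⁻¹ ∈ Cx Q t := g_Cx' D S hb2
  have hr : g * b2 * g⁻¹ * b ∈ D.P.R := mul_mem (D.Cx_le_R ha) (D.C'_le_R hb)
  let r : ↥(Sx z t) := ⟨_, D.R_le_Sx hr⟩
  have hc := c0 * r
  refine ⟨c0 * r, ?_, ?_⟩
  · have e1 : ev ν d ((c0 : G) * (g * b2 * g⁻¹ * b)) = 0 := by
      rw [ev_cocycle D c0 r]
      show act (ρ c0) (ev ν d (g * b2 * g⁻¹ * b)) + _ = 0
      rw [D.ev_mul (D.triv_of_R (D.Cx_le_R ha)) (D.C'_le_Sx hb), D.ev_Cx ha, add_zero, eb,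
        ← act_mul, mul_inv_cancel, act_one, add_self]
    have hi := ginv_Cx' D S hb
    have hm : b2 * (g⁻¹ * b * g) ∈ Sx z t := mul_mem (D.C'_le_Sx hb2) (D.H.Cx_le_Sx hi)
    have e2 : ev ν d ((c' : G) * (b2 * (g⁻¹ * b * g))) = 0 := by
      rw [ev_cocycle D c' ⟨_, hm⟩]
      show act (ρ c') (ev ν d (b2 * (g⁻¹ * b * g))) + _ = 0
      rw [D.ev_mul (D.triv_of_R (D.C'_le_R hb2)) (D.H.Cx_le_Sx hi), D.ev_Cx hi, zero_add, eb2,
        ← act_mul, mul_inv_cancel, act_one, add_self]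
    have hS : (c0 : G) * (g * b2 * g⁻¹ * b) ∈ Sx z t := mul_mem c0.2 (D.R_le_Sx hr)
    refine ⟨hS, (ev_zero D hS).1 e1, ?_⟩
    have h := g_InU D S ((ev_zero D (mul_mem c'.2 hm)).1 e2)
    show InU z t ((c0 : G) * (g * b2 * g⁻¹ * b) * _ * _ * _)
    rwa [show g * ((c' : G) * (b2 * (g⁻¹ * b * g)) * d * ((c' : G) * (b2 * (g⁻¹ * b * g)))⁻¹ * d⁻¹) * g⁻¹
      = (c0 : G) * (g * b2 * g⁻¹ * b) * (g * d * g⁻¹) * ((c0 : G) * (g * b2 * g⁻¹ * b))⁻¹
          * (g * d * g⁻¹)⁻¹ by simp only [c']; group] at h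
  · rw [map_mul, D.rho_R.mpr (show (r : G) ∈ D.P.R from hr), mul_one]

theorem in0_R {c : ↥(Sx z t)} (hc : In0 z t d g (c : G)) (h1 : ρ c = 1) : InU z t (c : G) := by
  have hcx : (c : G) ∈ Cx Q t :=
    D.mem_Cx_of_ev (D.rho_eq_one.mp h1) ((ev_zero D c.2).2 hc.2.1)
  have hb := ginv_Cx D S hcx
  have h := (in0_g D S hc).1
  have hV := g_InU D S (D.inU_iff.mpr ((D.ev_eq_zero hb).1 ((ev_zero D h.1).2 h.2.1)))
  rwa [show g * (g⁻¹ * (c : G) * g) * g⁻¹ = c by group] at hV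

end

section Sections

variable {Q Q' : Subgroup G} {z t : G} {ν : G → M6} {d : G}
  {ρ : ↥(Sx z t) →* P8} (D : Ctx Q Q' z t ν d ρ) {s : ℕ → G} (E : Sect Q t ν d s)
include D E

theorem prodK_mem : ∀ k ≤ 6, ∀ v, prodK s k v ∈ Cx Q t ∧ d * prodK s k v * d⁻¹ = prodK s k v ∧
    ν (prodK s k v) = vec (v % 2 ^ k) := by
  intro k
  induction k with
  | zero =>
    intro _ v
    refine ⟨one_mem _, by simp [prodK], ?_⟩
    rw [show prodK s 0 v = 1 from rfl, D.H.nu_one D.sing D.K, pow_zero, Nat.mod_one]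
    funext i
    simp [vec]
  | succ k ih =>
    intro hk v
    obtain ⟨h1, h2, h3⟩ := ih (by omega) v
    have hb : bp (s k) (Nat.testBit v k) ∈ Cx Q t ∧
        d * bp (s k) (Nat.testBit v k) * d⁻¹ = bp (s k) (Nat.testBit v k) ∧
        ν (bp (s k) (Nat.testBit v k)) = if Nat.testBit v k then vec (2 ^ k) else 0 := by
      cases Nat.testBit v k
      · exact ⟨one_mem _, by simp [bp], by simpa [bp] using D.H.nu_one D.sing D.K⟩
      · exact ⟨E.mem k (by omega), E.fix k (by omega), by simpa [bp] using E.nu k (by omega)⟩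
    refine ⟨mul_mem h1 hb.1, ?_, ?_⟩
    · show d * (_ * _) * d⁻¹ = _
      rw [← conj_mul_conj, h2, hb.2.1]
      rfl
    · show ν (_ * _) = _
      rw [D.K.add _ h1 _ hb.1, h3, hb.2.2, mod_vec]

theorem aP_mem (v : ℕ) : aP s v ∈ Cx Q t ∧ d * aP s v * d⁻¹ = aP s v := by
  exact ⟨(prodK_mem D E 6 le_rfl v).1, (prodK_mem D E 6 le_rfl v).2.1⟩

theorem nu_aP {v : ℕ} (hv : v < 64) : ν (aP s v) = vec v := by
  have h := (prodK_mem D E 6 le_rfl v).2.2
  rwa [Nat.mod_eq_of_lt (show v < 2 ^ 6 from hv)] at h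

theorem sect_rel : (∀ i < 6, Commute z (s i)) ∧ (∀ i < 6, s i * s i = z) ∧
    ∀ i < 6, ∀ j < i, s i * s j = z * (s j * s i) := by
  have hB : ∀ i < 6, f (vec (2 ^ i)) = 1 ∧ ∀ j < i, B (vec (2 ^ i)) (vec (2 ^ j)) = 1 := by
    decide +kernel
  refine ⟨fun i hi => (D.H.h.comm _ (mem_Cx.mp (E.mem i hi)).1).symm, fun i hi => ?_, fun i hi j hj => ?_⟩
  · rw [D.K.sq _ (E.mem i hi), E.nu i hi, (hB i hi).1, zp_one]
  · have h := D.comm_Cx (E.mem i hi) (E.mem j (by omega))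
    rw [E.nu i hi, E.nu j (by omega), (hB i hi).2 j hj, vv, zp_one, zp_zero, mul_one] at h
    calc s i * s j = (s i * s j * (s i)⁻¹ * (s j)⁻¹) * (s j * s i) := by group
      _ = _ := by rw [h]

theorem aP_mul (u v : ℕ) : aP s u * aP s v = bp z (Co1Bits89.beta u v) * aP s (Nat.xor u v) := by
  obtain ⟨h1, h2, h3⟩ := sect_rel D E
  exact prodK_mul D.H.h.zz h1 h2 h3 6 le_rfl u v

theorem bp_comm_aP (b : Bool) (v : ℕ) : Commute (bp z b) (aP s v) :=
  zb_comm D.H.h.zz (sect_rel D E).1 b 6 le_rfl v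

theorem el_mul (x y : ℕ) : el z s x * el z s y = el z s (mulC x y) := by
  obtain ⟨e1, e2⟩ := mulC_parts x y
  rw [el, el, el, e1, e2, bp_xor D.H.h.zz, bp_xor D.H.h.zz,
    mul_assoc (bp z _) (aP s _) _, ← mul_assoc (aP s _) (bp z _) _, ← (bp_comm_aP D E _ _).eq,
    mul_assoc (bp z (Nat.testBit y 0)) (aP s _) (aP s _), aP_mul D E]
  simp only [mul_assoc]

theorem el_xor_bit (x : ℕ) (b : Bool) : el z s (Nat.xor x (bn b)) = bp z b * el z s x := by
  rw [el, el, shift_xor, (bn_shift b).1, xor_zero', testBit_xor0, (bn_shift b).2, Bool.xor_comm,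
    bp_xor D.H.h.zz, mul_assoc]

theorem el_mem (x : ℕ) : el z s x ∈ Cx Q t := by
  refine mul_mem ?_ (aP_mem D E _).1
  cases Nat.testBit x 0
  · exact one_mem _
  · exact D.H.z_mem D.sing

theorem nu_el {x : ℕ} (hx : x < 128) : ν (el z s x) = vec (Nat.shiftRight x 1) := by
  have h1 : bp z (Nat.testBit x 0) ∈ Cx Q t := by
    cases Nat.testBit x 0
    · exact one_mem _
    · exact D.H.z_mem D.sing
  rw [el, D.K.add _ h1 _ (aP_mem D E _).1,
    nu_aP D E (show Nat.shiftRight x 1 < 64 by show x / 2 < 64; omega)]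
  rw [(D.K.ker _ h1).mpr (by cases Nat.testBit x 0 <;> simp [bp, InU]), zero_add]

theorem el_inj {x y : ℕ} (hx : x < 128) (hy : y < 128) (h : el z s x = el z s y) : x = y := by
  have h1 := nu_el D E hx
  rw [h, nu_el D E hy] at h1
  have e : Nat.shiftRight x 1 = Nat.shiftRight y 1 :=
    (vec_inj _ (show y / 2 < 64 by omega) _ (show x / 2 < 64 by omega) h1).symm
  rw [el, el, e] at h
  rw [code_eq x, code_eq y, e, bp_inj D.H.h.ne_one (mul_right_cancel h)]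

theorem exists_code {a : G} (ha : a ∈ Cx Q t) (hd : d * a * d⁻¹ = a) :
    ∃ x < 128, el z s x = a ∧ vec (Nat.shiftRight x 1) = ν a := by
  obtain ⟨u, hu, eu⟩ := vec_surj (ν a)
  obtain ⟨hm, hf⟩ := aP_mem D E u
  have hU : InU z t (a * (aP s u)⁻¹) :=
    (D.H.nu_eq D.sing D.K ha hm).mp (by rw [nu_aP D E hu, eu])
  have hfix : d * (a * (aP s u)⁻¹) * d⁻¹ = a * (aP s u)⁻¹ := by
    rw [← conj_mul_conj, hd]
    congr 1
    rw [← conj_inv, hf]
  obtain ⟨d1, d2, d3⟩ := D.H.U_distinct D.sing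
  obtain ⟨e1, e2, e3⟩ := d_zt D
  obtain ⟨b, hb⟩ : ∃ b, a * (aP s u)⁻¹ = bp z b := by
    rcases hU with h | h | h | h
    · exact ⟨false, h⟩
    · exact ⟨true, h⟩
    · rw [h, e2] at hfix; exact absurd hfix d3
    · rw [h, e3] at hfix; exact absurd hfix.symm d3
  refine ⟨2 * u + bn b, by cases b <;> simp [bn] <;> omega, ?_, by rw [(two_mul_parts u b).1]; exact eu⟩
  rw [el, (two_mul_parts u b).1, (two_mul_parts u b).2, ← hb]
  group

theorem prodK_el {X : ℕ → G} {F : ℕ → ℕ} (k : ℕ) (h : ∀ j < k, X j = el z s (F j)) (v : ℕ) :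
    prodK X k v = el z s (cI F k v) := by
  induction k with
  | zero =>
    show 1 = bp z (Nat.testBit 0 0) * aP s (Nat.shiftRight 0 1)
    simp [bp, aP, prodK]
  | succ k ih =>
    rw [prodK, cI, ih fun j hj => h j (by omega), h k (by omega)]
    cases Nat.testBit v k
    · simp [bp]
    · simp only [bp, cond_true]
      exact el_mul D E _ _

theorem conj_el {c : G} {T : List ℕ} (hc : c ∈ Sx z t) (hT : Act z s c T) {x : ℕ} (hx : x < 128) :
    c * el z s x * c⁻¹ = el z s (cjT T x) := by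
  have hz : c * bp z (Nat.testBit x 0) * c⁻¹ = bp z (Nat.testBit x 0) := by
    rw [conj_bp, conj_comm (mem_Sx.mp hc).1]
  have hl : Nat.land x 1 = bn (Nat.testBit x 0) := by
    rw [show Nat.land x 1 = x &&& 1 from rfl, Nat.and_one_is_mod, Nat.testBit_zero]
    rcases Nat.mod_two_eq_zero_or_one x with h | h <;> simp [h, bn]
  rw [el, ← conj_mul_conj, hz, hT.2 (Nat.shiftRight x 1) (show x / 2 < 64 by omega), cjT, hl, el_xor_bit D E]

theorem cjT_lt {T : List ℕ} (hT : ∀ v < 64, T.getD v 0 < 128) {x : ℕ} (hx : x < 128) :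
    cjT T x < 128 := by
  refine Nat.xor_lt_two_pow (n := 7) (hT _ (show x / 2 < 64 by omega)) ?_
  rw [show Nat.land x 1 = x &&& 1 from rfl, Nat.and_one_is_mod]
  omega

theorem act_mul' {c c' : G} {A B : List ℕ} (hc : c ∈ Sx z t) (hA : Act z s c A) (hB : Act z s c' B) :
    Act z s (c * c') (mulT A B) := by
  have hget : ∀ v < 64, (mulT A B).getD v 0 = cjT A (B.getD v 0) := fun v hv => by
    have hl : v < B.length := hB.1.1 ▸ hv
    rw [mulT, List.getD_eq_getElem _ _ (by rw [List.length_map]; exact hl), List.getElem_map,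
      List.getD_eq_getElem _ _ hl]
  refine ⟨⟨by rw [mulT, List.length_map]; exact hB.1.1, fun v hv => ?_⟩, fun v hv => ?_⟩
  · rw [hget v hv]
    exact cjT_lt D E hA.1.2 (hB.1.2 v hv)
  · rw [hget v hv, ← conj_el D E hc hA (hB.1.2 v hv), ← hB.2 v hv]
    group

theorem act_uniq {c : G} {A B : List ℕ} (hA : Act z s c A) (hB : Act z s c B) : A = B := by
  refine List.ext_getElem (hA.1.1.trans hB.1.1.symm) fun v h1 h2 => ?_
  have hv : v < 64 := hA.1.1 ▸ h1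
  rw [← List.getD_eq_getElem A 0 h1, ← List.getD_eq_getElem B 0 h2]
  exact el_inj D E (hA.1.2 v hv) (hB.1.2 v hv) ((hA.2 v hv).symm.trans (hB.2 v hv))

theorem idT_get {v : ℕ} (hv : v < 64) : idT.getD v 0 = 2 * v := by
  rw [idT, List.getD_eq_getElem _ _ (by simpa using hv), List.getElem_map, List.getElem_range]

theorem act_U {c : G} (hc : InU z t c) : Act z s c idT := by
  refine ⟨⟨by simp [idT], fun v hv => by rw [idT_get D E hv]; omega⟩, fun v hv => ?_⟩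
  rw [idT_get D E hv, el, show Nat.testBit (2 * v) 0 = false by simp,
    show Nat.shiftRight (2 * v) 1 = v by show 2 * v / 2 = v; omega]
  simp only [bp, cond_false, one_mul]
  rw [← U_comm' D hc (D.H.Cx_le_Sx (aP_mem D E v).1), mul_inv_cancel_right]

theorem act_tabOf {p : List ℕ} {bits : ℕ} {c : G} (hp : ∀ k < 6, imgOf p k < 64)
    (h : ∀ k < 6, c * s k * c⁻¹ = el z s (2 * imgOf p k + bn (Nat.testBit bits k))) :
    Act z s c (tabOf p bits) := by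
  have hget : ∀ v < 64, (tabOf p bits).getD v 0 =
      cI (fun k => 2 * imgOf p k + bn (Nat.testBit bits k)) 6 v := fun v hv => by
    rw [tabOf, List.getD_eq_getElem _ _ (by simpa using hv), List.getElem_map, List.getElem_range]
  refine ⟨⟨by simp [tabOf], fun v hv => ?_⟩, fun v hv => ?_⟩
  · rw [hget v hv]
    have key : ∀ k ≤ 6, cI (fun k => 2 * imgOf p k + bn (Nat.testBit bits k)) k v < 128 := by
      intro k
      induction k with
      | zero => intro _; simp [cI]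
      | succ k ih =>
        intro hk
        rw [cI]
        cases Nat.testBit v k
        · exact ih (by omega)
        · have h1 : 2 * imgOf p k + bn (Nat.testBit bits k) < 128 := by
            have := hp k (by omega)
            cases Nat.testBit bits k <;> simp [bn] <;> omega
          simp only [cond_true, mulC]
          refine Nat.xor_lt_two_pow (n := 7) (Nat.xor_lt_two_pow (n := 7) (ih (by omega)) h1) ?_
          cases Co1Bits89.beta _ _ <;> simp [bn]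
    exact key 6 le_rfl
  · rw [hget v hv, aP, conj_prodK]
    exact prodK_el D E 6 h v

end Sections

end Cfsg.Agent.Co1Frame89
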