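import Mathlib

/-!
# The four-dimensional minus quadratic space over two elements

The five singular points, the action of the symmetric group on them, and finite facts used for
centralisers of involutions of Suzuki sporadic type.
-/

set_option autoImplicit false
set_option maxRecDepth 100000
set_option synthInstance.maxSize 2000
set_option synthInstance.maxHeartbeats 200000

namespace Cfsg.Agent.SuzTypeModel62

/-- The space. -/
abbrev M4 := Fin 4 → ZMod 2

/-- The second elementary symmetric function. -/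
def f (x : M4) : ZMod 2 :=
  x 0 * x 1 + x 0 * x 2 + x 0 * x 3 + x 1 * x 2 + x 1 * x 3 + x 2 * x 3

/-- Its polar form. -/
def B (x y : M4) : ZMod 2 :=
  x 0 * (y 1 + y 2 + y 3) + x 1 * (y 0 + y 2 + y 3) + x 2 * (y 0 + y 1 + y 3)
    + x 3 * (y 0 + y 1 + y 2)

/-- The five singular points. -/
def pt (i : Fin 5) : M4 := fun k => if i.val = k.val ∨ i.val = 4 then 1 else 0

/-- Combination of four vectors. -/
def comb (a b c d x : M4) : M4 := x 0 • a + x 1 • b + x 2 • c + x 3 • d

/-- The permutation action. -/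
def act (σ : Equiv.Perm (Fin 5)) (x : M4) : M4 :=
  comb (pt (σ 0)) (pt (σ 1)) (pt (σ 2)) (pt (σ 3)) x

theorem eq_of_two {a b : ZMod 2} (h : a + b = 0) : a = b := by revert a b; decide

theorem two_eq (a : ZMod 2) : a = 0 ∨ a = 1 := by revert a; decide

theorem add_self (x : M4) : x + x = 0 := funext fun i => CharTwo.add_self_eq_zero (x i)

theorem eq_of_add {x y : M4} (h : x + y = 0) : x = y := by
  funext i
  have := congrFun h i
  revert this
  show x i + y i = 0 → x i = y i
  generalize x i = a; generalize y i = b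
  revert a b
  decide

theorem f_add (x y : M4) : f (x + y) = f x + f y + B x y := by
  simp only [f, B, Pi.add_apply]; ring

theorem f_zero : f 0 = 0 := by decide

theorem B_add_left (x x' y : M4) : B (x + x') y = B x y + B x' y := by
  simp only [B, Pi.add_apply]; ring

theorem B_add_right (x y y' : M4) : B x (y + y') = B x y + B x y' := by
  simp only [B, Pi.add_apply]; ring

theorem B_comm (x y : M4) : B x y = B y x := by
  simp only [B]; ring

theorem B_self (x : M4) : B x x = 0 := by revert x; decide +kernel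

theorem B_zero_left (y : M4) : B 0 y = 0 := by simp [B]

theorem B_zero_right (x : M4) : B x 0 = 0 := by simp [B]

theorem f_pt : ∀ i, f (pt i) = 0 := by decide +kernel

theorem B_pt : ∀ i j, B (pt i) (pt j) = if i = j then 0 else 1 := by decide +kernel

theorem pt_inj : Function.Injective pt := by
  have : ∀ i j, pt i = pt j → i = j := by decide +kernel
  exact fun i j => this i j

theorem pt_ne : ∀ i, pt i ≠ 0 := by decide +kernel

theorem f_zero_iff : ∀ x : M4, f x = 0 ↔ x = 0 ∨ ∃ i, x = pt i := by decide +kernel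

theorem expand : ∀ x : M4, x = comb (pt 0) (pt 1) (pt 2) (pt 3) x := by decide +kernel

theorem map_comb (L : M4 →+ M4) (a b c d x : M4) :
    L (comb a b c d x) = comb (L a) (L b) (L c) (L d) x := by
  have h : ∀ (s : ZMod 2) (v : M4), L (s • v) = s • L v := by
    intro s v
    rcases two_eq s with rfl | rfl <;> simp
  simp only [comb, map_add, h]

theorem comb_add (a b c d x y : M4) : comb a b c d (x + y) = comb a b c d x + comb a b c d y := by
  simp only [comb, Pi.add_apply, add_smul]; abel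

theorem act_pt : ∀ σ i, act σ (pt i) = pt (σ i) := by decide +kernel

theorem act_add (σ : Equiv.Perm (Fin 5)) (x y : M4) : act σ (x + y) = act σ x + act σ y :=
  comb_add _ _ _ _ x y

/-- The action as a homomorphism. -/
def actHom (σ : Equiv.Perm (Fin 5)) : M4 →+ M4 := AddMonoidHom.mk' (act σ) (act_add σ)

theorem act_one (x : M4) : act 1 x = x := (expand x).symm

theorem act_mul (σ τ : Equiv.Perm (Fin 5)) (x : M4) : act (σ * τ) x = act σ (act τ x) := by
  show _ = actHom σ (act τ x)
  conv_rhs => rw [act, map_comb]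
  simp only [actHom, AddMonoidHom.mk'_apply, act_pt]
  rfl

theorem act_inj {σ τ : Equiv.Perm (Fin 5)} (h : ∀ x, act σ x = act τ x) : σ = τ :=
  Equiv.ext fun i => pt_inj (by rw [← act_pt, ← act_pt, h])

/-- An additive automorphism preserving `f` is given by a permutation. -/
theorem exists_perm (L : M4 →+ M4) (hL : ∀ x, L x = 0 → x = 0) (hf : ∀ x, f (L x) = f x) :
    ∃ σ : Equiv.Perm (Fin 5), ∀ x, L x = act σ x := by
  have key : ∀ i, ∃ j, L (pt i) = pt j := fun i => by
    have h0 : f (L (pt i)) = 0 := by rw [hf, f_pt]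
    exact ((f_zero_iff _).mp h0).resolve_left fun e => pt_ne i (hL _ e)
  choose s hs using key
  have hinj : Function.Injective s := fun i j e => pt_inj (eq_of_add (hL _ (by
    rw [map_add, hs, hs, e, add_self])))
  refine ⟨Equiv.ofBijective s ⟨hinj, Finite.injective_iff_surjective.mp hinj⟩, fun x => ?_⟩
  conv_lhs => rw [expand x, map_comb, hs, hs, hs, hs]
  rfl

/-! ### Normal form -/

/-- A quadratic function given by coefficients. -/
def qc (c : M4) (u : Fin 6 → ZMod 2) (x : M4) : ZMod 2 :=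
  c 0 * x 0 + c 1 * x 1 + c 2 * x 2 + c 3 * x 3
    + (u 0 * (x 0 * x 1) + u 1 * (x 0 * x 2) + u 2 * (x 0 * x 3) + u 3 * (x 1 * x 2)
      + u 4 * (x 1 * x 3) + u 5 * (x 2 * x 3))

/-- All vectors. -/
def vecs : List M4 :=
  (List.range 16).map fun n i => if n.testBit i.val then 1 else 0

theorem mem_vecs : ∀ x : M4, x ∈ vecs := by decide +kernel

theorem vecs_nodup : vecs.Nodup := by decide +kernel

/-- The non-zero zeros. -/
def zeros (q : M4 → ZMod 2) : List M4 := vecs.filter fun x => decide (x ≠ 0 ∧ q x = 0)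

theorem normal_form : ∀ (c : M4) (u : Fin 6 → ZMod 2), (zeros (qc c u)).length = 5 →
    let l := zeros (qc c u)
    (∀ x, qc c u (comb (l.getD 0 0) (l.getD 1 0) (l.getD 2 0) (l.getD 3 0) x) = f x) ∧
      ∀ x, comb (l.getD 0 0) (l.getD 1 0) (l.getD 2 0) (l.getD 3 0) x = 0 → x = 0 := by
  decide +kernel

theorem no_fifteen : ∀ w : M4, w ≠ 0 → ∃ a b c : M4,
    (fun x => if x = w then (1 : ZMod 2) else 0) (a + b + c)
      + (fun x => if x = w then (1 : ZMod 2) else 0) (a + b)
      + (fun x => if x = w then (1 : ZMod 2) else 0) (a + c)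
      + (fun x => if x = w then (1 : ZMod 2) else 0) (b + c)
      + (fun x => if x = w then (1 : ZMod 2) else 0) a
      + (fun x => if x = w then (1 : ZMod 2) else 0) b
      + (fun x => if x = w then (1 : ZMod 2) else 0) c ≠ 0 := by
  decide +kernel

theorem eq_qc (q : M4 → ZMod 2) (h0 : q 0 = 0) (β : M4 → M4 → ZMod 2)
    (hq : ∀ x y, q (x + y) = q x + q y + β x y)
    (hb : ∀ x x' y, β (x + x') y = β x y + β x' y) :
    ∃ c u, ∀ x, q x = qc c u x := by
  let e : Fin 4 → M4 := fun i => Pi.single i 1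
  refine ⟨fun i => q (e i), ![β (e 0) (e 1), β (e 0) (e 2), β (e 0) (e 3), β (e 1) (e 2),
    β (e 1) (e 3), β (e 2) (e 3)], fun x => ?_⟩
  have hb0 : ∀ y, β 0 y = 0 := fun y => by
    have := hq 0 y
    rw [zero_add, h0, zero_add] at this
    exact left_eq_add.mp this
  have hs : ∀ (s : ZMod 2) (v : M4), q (s • v) = s * q v := fun s v => by
    rcases two_eq s with rfl | rfl <;> simp [h0]
  have hsym : ∀ a b, β a b = β b a := fun a b => by
    have h1 := hq a b
    rw [add_comm a b, hq b a, add_comm (q b)] at h1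
    exact (add_left_cancel h1).symm
  have hl : ∀ (s : ZMod 2) (v w : M4), β (s • v) w = s * β v w := fun s v w => by
    rcases two_eq s with rfl | rfl <;> simp [hb0]
  have hr : ∀ (s : ZMod 2) (v w : M4), β v (s • w) = s * β v w := fun s v w => by
    rw [hsym, hl, hsym]
  have hx : x = x 0 • e 0 + x 1 • e 1 + x 2 • e 2 + x 3 • e 3 := by
    funext i
    fin_cases i <;> simp [e]
  conv_lhs => rw [hx]
  simp only [hq, hb, hs, hl, hr, qc, Matrix.cons_val]
  ring

/-! ### Facts -/

theorem perm_two : ∀ σ : Equiv.Perm (Fin 5), σ * σ = 1 → σ = 1 ∨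
    (∃ i j, i ≠ j ∧ σ = Equiv.swap i j) ∨
    ((∃ v i, act σ v + v = pt i) ∧ ∀ u, act σ u = u → ∃ v, act σ v + v = u) := by
  decide +kernel

theorem exists_singular3 : ∀ a b c : M4, a ≠ 0 → b ≠ 0 → b ≠ a → c ≠ 0 → c ≠ a → c ≠ b →
    c ≠ a + b → ∃ i, pt i = a ∨ pt i = b ∨ pt i = c ∨ pt i = a + b ∨ pt i = a + c ∨
      pt i = b + c ∨ pt i = a + b + c := by
  decide +kernel

/-- The chosen pair. -/
def α₀ : M4 := pt 0 + pt 1

/-- The chosen pair. -/
def β₀ : M4 := pt 0 + pt 2

theorem swap34 : act (Equiv.swap 3 4) α₀ = α₀ ∧ act (Equiv.swap 3 4) β₀ = β₀ := by decide +kernel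

theorem pair_transitive : ∀ α : M4, f α = 1 → ∀ β : M4, f β = 1 → B α β = 1 →
    ∃ i j k : Fin 5, i ≠ j ∧ i ≠ k ∧ j ≠ k ∧ pt i + pt j = α ∧ pt i + pt k = β := by
  decide +kernel

theorem exists_perm_three : ∀ i j k : Fin 5, i ≠ j → i ≠ k → j ≠ k →
    ∃ σ : Equiv.Perm (Fin 5), σ 0 = i ∧ σ 1 = j ∧ σ 2 = k := by
  decide +kernel

theorem zero_cases : ∀ α β : M4, f α = 0 → f β = 0 → B α β = 0 → α = 0 ∨ β = 0 ∨ α = β := by
  decide +kernel

theorem dual_surj : ∀ i j : ZMod 2, ∃ α, B α α₀ + B α β₀ = i ∧ B α β₀ = j := by decide +kernel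

theorem dual_exists : ∀ v : M4, ∃ α, B α (pt 0) = v 0 ∧ B α (pt 1) = v 1 ∧ B α (pt 2) = v 2 ∧
    B α (pt 3) = v 3 := by decide +kernel

theorem nondeg : ∀ v : M4, (∀ w, B v w = 0) → v = 0 := by decide +kernel

/-- The commutator of two coordinate pairs. -/
def cm (p q : M4 × M4) : ZMod 2 × ZMod 2 :=
  (B p.1 q.1 + B p.1 q.2 + B q.1 p.2, B p.1 q.2 + B q.1 p.2 + B p.2 q.2)

/-- Pairs commuting with the chosen one. -/
def cpairs : List (M4 × M4) :=
  (vecs.flatMap fun a => vecs.map fun b => (a, b)).filter fun p => decide (cm p (α₀, β₀) = (0, 0))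

/-- The centre of the commuting pairs. -/
def zpairs : List (M4 × M4) :=
  cpairs.filter fun p => cpairs.all fun q => decide (cm p q = (0, 0))

theorem zpairs_le : zpairs.length ≤ 4 := by decide +kernel

theorem mem_cpairs {p : M4 × M4} : p ∈ cpairs ↔ cm p (α₀, β₀) = (0, 0) := by
  simp only [cpairs, List.mem_filter, decide_eq_true_eq, List.mem_flatMap, List.mem_map]
  exact ⟨fun h => h.2, fun h => ⟨⟨p.1, mem_vecs _, p.2, mem_vecs _, rfl⟩, h⟩⟩

theorem mem_zpairs {p : M4 × M4} (hp : cm p (α₀, β₀) = (0, 0))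
    (h : ∀ q, cm q (α₀, β₀) = (0, 0) → cm p q = (0, 0)) : p ∈ zpairs := by
  simp only [zpairs, List.mem_filter, List.all_eq_true, decide_eq_true_eq]
  exact ⟨mem_cpairs.mpr hp, fun q hq => h q (mem_cpairs.mp hq)⟩

/-- A double transposition. -/
def σ₁ : Equiv.Perm (Fin 5) := Equiv.swap 0 1 * Equiv.swap 2 3

/-- A second one. -/
def σ₂ : Equiv.Perm (Fin 5) := Equiv.swap 0 2 * Equiv.swap 1 3

theorem six_moved : ([act σ₁ 0 + 0, act σ₁ (pt 0) + pt 0, act σ₁ (pt 2) + pt 2,
    act σ₁ (pt 0 + pt 2) + (pt 0 + pt 2), act σ₂ (pt 0) + pt 0, act σ₂ (pt 1) + pt 1]).Nodup := by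
  decide +kernel

end Cfsg.Agent.SuzTypeModel62
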