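import Mathlib
import Cfsg.Agent.Lib.ConwayTypeModel62
import Cfsg.Agent.Lib.SuzTypeModel62

/-!
# Facts on the eight-point model

Normal form of a non-degenerate quadratic function with 36 zeros, invariant forms, transitivity
and totally isotropic subgroups of pairs.
-/

set_option autoImplicit false
set_option maxRecDepth 100000

namespace Cfsg.Agent.ConwayTypeModel62

open Cfsg.Agent.SuzTypeModel62 (M4 qc)

/-! ### Character sums -/

/-- The sign of a value. -/
def sgn (a : ZMod 2) : ℤ := if a = 0 then 1 else -1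

theorem sgn_add : ∀ a b : ZMod 2, sgn (a + b) = sgn a * sgn b := by decide

theorem sum_sgn {A : Type*} [Fintype A] [AddCommGroup A] (g : A → ZMod 2)
    (hg : ∀ a b, g (a + b) = g a + g b) {a₀ : A} (h0 : g a₀ = 1) : ∑ a, sgn (g a) = 0 := by
  have h : ∑ a, sgn (g a) = ∑ a, sgn (g (a + a₀)) :=
    (Equiv.sum_comp (Equiv.addRight a₀) fun a => sgn (g a)).symm
  have h2 : ∀ a, sgn (g (a + a₀)) = - sgn (g a) := fun a => by
    rw [hg, sgn_add, h0]
    show sgn (g a) * (-1) = - sgn (g a)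
    ring
  simp only [h2, Finset.sum_neg_distrib] at h
  linarith

theorem count_36_28 (q : M6 → ZMod 2) (h0 : q 0 = 0)
    (hl : ∀ u u' w, (q (u + u' + w) + q (u + u') + q w)
      = (q (u + w) + q u + q w) + (q (u' + w) + q u' + q w))
    (hnd : ∀ w ≠ 0, ∃ u, q (u + w) + q u + q w = 1) :
    (Finset.univ.filter fun w => q w = 0).card = 36 ∨
      (Finset.univ.filter fun w => q w = 0).card = 28 := by
  set n := (Finset.univ.filter fun w => q w = 0).card with hn
  have hS : ∑ w, sgn (q w) = 2 * (n : ℤ) - 64 := by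
    have : ∀ w, sgn (q w) = 2 * (if q w = 0 then (1 : ℤ) else 0) - 1 := fun w => by
      rcases two_eq (q w) with e | e <;> rw [e] <;> decide
    simp only [this, Finset.sum_sub_distrib, ← Finset.mul_sum, Finset.sum_boole, Finset.sum_const,
      Finset.card_univ, Fintype.card_fun, ZMod.card, Fintype.card_fin, hn]
    norm_num
  have hsq : (∑ w, sgn (q w)) * ∑ w, sgn (q w) = 64 := by
    calc (∑ w, sgn (q w)) * ∑ w, sgn (q w) = ∑ u, ∑ w, sgn (q u) * sgn (q w) := Finset.sum_mul_sum _ _ _ _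
      _ = ∑ u, ∑ w, sgn (q u) * sgn (q (u + w)) := by
          refine Finset.sum_congr rfl fun u _ => ?_
          exact (Equiv.sum_comp (Equiv.addLeft u) fun w => sgn (q u) * sgn (q w)).symm
      _ = ∑ w, sgn (q w) * ∑ u, sgn (q (u + w) + q u + q w) := by
          rw [Finset.sum_comm]
          refine Finset.sum_congr rfl fun w _ => ?_
          rw [Finset.mul_sum]
          refine Finset.sum_congr rfl fun u _ => ?_
          simp only [← sgn_add]
          congr 1
          generalize q u = i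
          generalize q (u + w) = j
          generalize q w = k
          revert i j k
          decide
      _ = sgn (q 0) * ∑ u, sgn (q (u + 0) + q u + q 0) := by
          refine Finset.sum_eq_single 0 (fun w _ hw => ?_) (by simp)
          obtain ⟨u, hu⟩ := hnd w hw
          rw [sum_sgn (fun u => q (u + w) + q u + q w) (fun a b => hl a b w) hu, mul_zero]
      _ = 64 := by
          simp [h0, sgn, CharTwo.add_self_eq_zero]
  rw [hS] at hsq
  have hle : n ≤ 64 := (Finset.card_filter_le _ _).trans (by simp)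
  have : (2 * (n : ℤ) - 64 - 8) * (2 * (n : ℤ) - 64 + 8) = 0 := by linarith
  rcases mul_eq_zero.mp this with h | h
  · left; omega
  · right; omega

/-! ### Normal form -/

/-- The first element of a list with a property. -/
def first (p : M4 → Bool) : M4 := (SuzTypeModel62.vecs.find? p).getD 0

/-- Polar of a coefficient form. -/
def pol (c : M4) (u : Fin 6 → ZMod 2) (x y : M4) : ZMod 2 := qc c u (x + y) + qc c u x + qc c u y

/-- Hyperbolic vectors for a coefficient form. -/
def hyp4 (c : M4) (u : Fin 6 → ZMod 2) : Fin 4 → M4 :=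
  let p1 := first fun x => decide (x ≠ 0 ∧ qc c u x = 0)
  let p2 := first fun x => decide (qc c u x = 0 ∧ pol c u p1 x = 1)
  let q1 := first fun x => decide (x ≠ 0 ∧ qc c u x = 0 ∧ pol c u p1 x = 0 ∧ pol c u p2 x = 0)
  let q2 := first fun x => decide (qc c u x = 0 ∧ pol c u p1 x = 0 ∧ pol c u p2 x = 0 ∧
    pol c u q1 x = 1)
  ![p1, p2, q1, q2]

set_option maxHeartbeats 4000000 in
theorem normal_form4 : ∀ (c : M4) (u : Fin 6 → ZMod 2),
    (SuzTypeModel62.vecs.filter fun x => decide (qc c u x = 0)).length = 10 →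
    let v := hyp4 c u
    (∀ y, qc c u (SuzTypeModel62.comb (v 0) (v 1) (v 2) (v 3) y) = y 0 * y 1 + y 2 * y 3) ∧
      ∀ y, SuzTypeModel62.comb (v 0) (v 1) (v 2) (v 3) y = 0 → y = 0 := by
  decide +kernel

theorem toHyp_spec : ∃ p : Fin 6 → M6, (∀ x, f x = (comb p x) 0 * (comb p x) 1
      + (comb p x) 2 * (comb p x) 3 + (comb p x) 4 * (comb p x) 5) ∧
    ∀ x, comb p x = 0 → x = 0 := by
  refine ⟨![![1, 1, 0, 1, 0, 1], ![1, 1, 1, 0, 0, 0], ![0, 1, 1, 0, 1, 1], ![1, 0, 1, 0, 1, 1], ![0, 0, 0, 1, 1, 1], ![0, 0, 1, 1, 0, 0]], ?_, ?_⟩ <;> decide +kernel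

/-! ### Transitivity -/

theorem sing_to {α : M6} (h : f α = 0) (h0 : α ≠ 0) :
    ∃ σ : P8, Equiv.Perm.sign σ = 1 ∧ act σ α₀ = α := by
  obtain ⟨a, b, c, d, h1, h2, h3, h4, h5, h6, rfl⟩ := sing_quad α h h0
  obtain ⟨σ, hs, hσ⟩ := exists_extend (k := 4) (by norm_num) ![a, b, c, d] (by
    intro i j hij
    fin_cases i <;> fin_cases j <;> simp_all)
  refine ⟨σ, hs, ?_⟩
  have e0 : σ 0 = a := hσ 0
  have e1 : σ 1 = b := hσ 1
  have e2 : σ 2 = c := hσ 2
  have e3 : σ 3 = d := hσ 3
  rw [α₀, add_assoc (e 0 + e 1), act_add, act_pair, act_pair, e0, e1, e2, e3, add_assoc (e a + e b)]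

theorem pair0_to {α β : M6} (hα : f α = 0) (hβ : f β = 0) (hB : B α β = 0) (h1 : α ≠ 0)
    (h2 : β ≠ 0) (h3 : α ≠ β) :
    ∃ σ : P8, Equiv.Perm.sign σ = 1 ∧ act σ α₀ = α ∧ act σ β₀ = β := by
  obtain ⟨τ, hτ, rfl⟩ := sing_to hα h1
  obtain ⟨β', rfl⟩ : ∃ β', act τ β' = β :=
    ⟨act τ⁻¹ β, by rw [← act_mul, mul_inv_cancel, act_one]⟩
  rw [f_act] at hβ
  rw [B_act] at hB
  obtain ⟨a, b, a', b', hsum, -, c, d, hnd, rfl⟩ :=
    orth_quad β' hβ hB (fun h => h2 (by rw [h, act_zero])) (fun h => h3 (by rw [h]))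
  obtain ⟨σ, hs, hσ⟩ := exists_extend (k := 6) le_rfl ![a, b, a', b', c, d] (by
    simp only [List.nodup_cons, List.mem_cons, List.not_mem_nil, or_false, not_or] at hnd
    intro i j hij
    fin_cases i <;> fin_cases j <;> simp_all)
  have e0 : σ 0 = a := hσ 0
  have e1 : σ 1 = b := hσ 1
  have e2 : σ 2 = a' := hσ 2
  have e3 : σ 3 = b' := hσ 3
  have e4 : σ 4 = c := hσ 4
  have e5 : σ 5 = d := hσ 5
  refine ⟨τ * σ, by rw [map_mul, hτ, hs, one_mul], ?_, ?_⟩
  · rw [act_mul]
    congr 1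
    conv_lhs => rw [α₀, add_assoc (e 0 + e 1), act_add, act_pair, act_pair, e0, e1, e2, e3,
      ← add_assoc]
    exact hsum
  · rw [act_mul]
    congr 1
    rw [β₀, add_assoc (e 0 + e 1), act_add, act_pair, act_pair, e0, e1, e4, e5, ← add_assoc]

theorem pair1_to {α β : M6} (hα : f α = 1) (hβ : f β = 1) (hB : B α β = 1) :
    ∃ σ : P8, Equiv.Perm.sign σ = 1 ∧ act σ α₁ = α ∧ act σ β₁ = β := by
  obtain ⟨a, b, hab, rfl⟩ := pair_of_f α hα
  obtain ⟨c, d, hcd, rfl⟩ := pair_of_f β hβ
  obtain ⟨p, q, r, hpq, hpr, hqr, hp, hr⟩ : ∃ p q r, p ≠ q ∧ p ≠ r ∧ q ≠ r ∧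
      e a + e b = e p + e q ∧ e c + e d = e p + e r := by
    rcases meet_of_B a b c d hab hcd hB with ⟨h | h, h1, h2⟩ | ⟨h | h, h1, h2⟩
    · exact ⟨a, b, d, hab, h ▸ hcd, h2, rfl, by rw [h]⟩
    · exact ⟨a, b, c, hab, h ▸ hcd.symm, h1, rfl, by rw [h, add_comm]⟩
    · exact ⟨b, a, d, hab.symm, h ▸ hcd, h2, add_comm _ _, by rw [h]⟩
    · exact ⟨b, a, c, hab.symm, h ▸ hcd.symm, h1, add_comm _ _, by rw [h, add_comm]⟩
  obtain ⟨σ, hs, hσ⟩ := exists_extend (k := 3) (by norm_num) ![p, q, r] (by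
    intro i j hij
    fin_cases i <;> fin_cases j <;> simp_all)
  have e0 : σ 0 = p := hσ 0
  have e1 : σ 1 = q := hσ 1
  have e2 : σ 2 = r := hσ 2
  exact ⟨σ, hs, by rw [α₁, act_pair, e0, e1, hp], by rw [β₁, act_pair, e0, e2, hr]⟩

theorem zero_cases {α β : M6} (hα : f α = 0) (hβ : f β = 0) (hB : B α β = 0) :
    α = 0 ∨ β = 0 ∨ α = β ∨ ∃ σ : P8, Equiv.Perm.sign σ = 1 ∧ act σ α₀ = α ∧ act σ β₀ = β := by
  by_cases h1 : α = 0
  · exact Or.inl h1
  by_cases h2 : β = 0
  · exact Or.inr (Or.inl h2)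
  by_cases h3 : α = β
  · exact Or.inr (Or.inr (Or.inl h3))
  exact Or.inr (Or.inr (Or.inr (pair0_to hα hβ hB h1 h2 h3)))

/-! ### Invariant forms -/

theorem expand_bilin (g : M6 → M6 → ZMod 2) (hl : ∀ x x' y, g (x + x') y = g x y + g x' y)
    (v : Fin 6 → M6) (x w : M6) : g (comb v x) w
      = x 0 * g (v 0) w + x 1 * g (v 1) w + x 2 * g (v 2) w + x 3 * g (v 3) w + x 4 * g (v 4) w
        + x 5 * g (v 5) w := by
  have h0 : ∀ w, g 0 w = 0 := fun w => by
    have := hl 0 0 w
    rw [add_zero] at this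
    exact left_eq_add.mp this
  have hs : ∀ (s : ZMod 2) u w, g (s • u) w = s * g u w := fun s u w => by
    rcases two_eq s with rfl | rfl <;> simp [h0]
  simp only [comb, hl, hs]

theorem e_succ_distinct (i : Fin 6) : (0 : Fin 8) ≠ i.succ.castSucc := by
  revert i; decide

set_option maxHeartbeats 1600000 in
theorem invariant_bilin (g : M6 → M6 → ZMod 2) (hl : ∀ x x' y, g (x + x') y = g x y + g x' y)
    (hr : ∀ x y y', g x (y + y') = g x y + g x y')
    (hinv : ∀ σ : P8, Equiv.Perm.sign σ = 1 → ∀ x y, g (act σ x) (act σ y) = g x y) :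
    (∀ x y, g x y = 0) ∨ ∀ x y, g x y = B x y := by
  let n : Fin 7 → M6 := fun i => e i.succ
  have hn : ∀ i : Fin 7, e 0 + e i.succ = n i := fun i => by simp [n, e_zero]
  have hne : ∀ i j, i ≠ j → g (n i) (n j) = g (n 0) (n 1) := fun i j hij => by
    obtain ⟨σ, hs, hσ⟩ := exists_extend (k := 3) (by norm_num) ![0, i.succ, j.succ] (by
      intro a b hab
      have := Fin.succ_ne_zero i
      have := Fin.succ_ne_zero j
      have := (Fin.succ_ne_zero i).symm
      have := (Fin.succ_ne_zero j).symm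
      fin_cases a <;> fin_cases b <;> simp_all)
    have h0 : σ 0 = 0 := hσ 0
    have h1 : σ 1 = i.succ := hσ 1
    have h2 : σ 2 = j.succ := hσ 2
    conv_rhs => rw [← hinv σ hs, ← hn 0, ← hn 1, act_pair, act_pair, h0,
      show σ (Fin.succ (0 : Fin 7)) = i.succ from h1, show σ (Fin.succ (1 : Fin 7)) = j.succ from h2]
    rw [hn, hn]
  have heq : ∀ i, g (n i) (n i) = g (n 0) (n 0) := fun i => by
    obtain ⟨σ, hs, hσ⟩ := exists_extend (k := 2) (by norm_num) ![0, i.succ] (by
      intro a b hab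
      have := Fin.succ_ne_zero i
      have := (Fin.succ_ne_zero i).symm
      fin_cases a <;> fin_cases b <;> simp_all)
    have h0 : σ 0 = 0 := hσ 0
    have h1 : σ 1 = i.succ := hσ 1
    conv_rhs => rw [← hinv σ hs, ← hn 0, act_pair, h0,
      show σ (Fin.succ (0 : Fin 7)) = i.succ from h1]
    rw [hn]
  have hv : ∀ k : Fin 6, e k.succ.castSucc = n k.castSucc := fun k => by
    show e k.succ.castSucc = e k.castSucc.succ
    rw [(show ∀ k : Fin 6, k.succ.castSucc = k.castSucc.succ by decide) k]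
  have key : ∀ x y, g x y = g (n 0) (n 1) * B x y + g (n 0) (n 0)
      * (x 0 * y 0 + x 1 * y 1 + x 2 * y 2 + x 3 * y 3 + x 4 * y 4 + x 5 * y 5) := by
    intro x y
    have hy : ∀ u, g u y = y 0 * g u (n 0) + y 1 * g u (n 1) + y 2 * g u (n 2) + y 3 * g u (n 3)
        + y 4 * g u (n 4) + y 5 * g u (n 5) := fun u => by
      conv_lhs => rw [expand y]
      exact expand_bilin (fun a b => g b a) (fun a a' b => hr b a a') _ y u
    conv_lhs => rw [expand x, expand_bilin g hl]
    simp only [hy]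
    simp only [show e (Fin.succ (0 : Fin 6)).castSucc = n 0 from hv 0,
      show e (Fin.succ (1 : Fin 6)).castSucc = n 1 from hv 1,
      show e (Fin.succ (2 : Fin 6)).castSucc = n 2 from hv 2,
      show e (Fin.succ (3 : Fin 6)).castSucc = n 3 from hv 3,
      show e (Fin.succ (4 : Fin 6)).castSucc = n 4 from hv 4,
      show e (Fin.succ (5 : Fin 6)).castSucc = n 5 from hv 5, heq 1, heq 2, heq 3, heq 4, heq 5,
      hne 0 2 (by decide), hne 0 3 (by decide), hne 0 4 (by decide), hne 0 5 (by decide),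
      hne 1 0 (by decide), hne 1 2 (by decide), hne 1 3 (by decide), hne 1 4 (by decide),
      hne 1 5 (by decide), hne 2 0 (by decide), hne 2 1 (by decide), hne 2 3 (by decide),
      hne 2 4 (by decide), hne 2 5 (by decide), hne 3 0 (by decide), hne 3 1 (by decide),
      hne 3 2 (by decide), hne 3 4 (by decide), hne 3 5 (by decide), hne 4 0 (by decide),
      hne 4 1 (by decide), hne 4 2 (by decide), hne 4 3 (by decide), hne 4 5 (by decide),
      hne 5 0 (by decide), hne 5 1 (by decide), hne 5 2 (by decide), hne 5 3 (by decide),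
      hne 5 4 (by decide), B]
    ring
  have hc : g (n 0) (n 0) = 0 := by
    have h6 := key (n 6) (n 6)
    rw [heq 6, B_self,
      show (n 6 0 * n 6 0 + n 6 1 * n 6 1 + n 6 2 * n 6 2 + n 6 3 * n 6 3 + n 6 4 * n 6 4
        + n 6 5 * n 6 5 : ZMod 2) = 0 from rfl, mul_zero, mul_zero, add_zero] at h6
    exact h6
  rcases two_eq (g (n 0) (n 1)) with h | h
  · exact Or.inl fun x y => by rw [key, h, hc]; ring
  · exact Or.inr fun x y => by rw [key, h, hc]; ring

theorem invariant_quad (q : M6 → ZMod 2) (β : M6 → M6 → ZMod 2)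
    (hq : ∀ x y, q (x + y) = q x + q y + β x y)
    (hl : ∀ x x' y, β (x + x') y = β x y + β x' y)
    (hr : ∀ x y y', β x (y + y') = β x y + β x y') (h0 : q 0 = 0)
    (hinv : ∀ σ : P8, Equiv.Perm.sign σ = 1 → ∀ x, q (act σ x) = q x)
    (hne : ∃ x, q x ≠ 0) : ∀ x, q x = f x := by
  have hβinv : ∀ σ : P8, Equiv.Perm.sign σ = 1 → ∀ x y, β (act σ x) (act σ y) = β x y := by
    intro σ hσ x y
    have h := hq (act σ x) (act σ y)
    rw [← act_add, hinv σ hσ, hinv σ hσ, hinv σ hσ, hq] at h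
    exact (add_left_cancel h).symm
  have hpt : ∀ i : Fin 8, i ≠ 0 → q (e i) = q (e 1) := fun i hi => by
    obtain ⟨σ, hs, hσ⟩ := exists_extend (k := 2) (by norm_num) ![0, i] (by
      intro a b hab
      fin_cases a <;> fin_cases b <;> simp_all)
    have h1 := hinv σ hs (e 0 + e 1)
    rw [act_pair, show σ 0 = 0 from hσ 0, show σ 1 = i from hσ 1, e_zero, zero_add, zero_add] at h1
    exact h1
  have hs : ∀ (s : ZMod 2) (v : M6), q (s • v) = s * q v := fun s v => by
    rcases two_eq s with rfl | rfl <;> simp [h0]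
  have hb0 : ∀ y, β 0 y = 0 := fun y => by
    have := hl 0 0 y
    rw [add_zero] at this
    exact left_eq_add.mp this
  have hb0' : ∀ y, β y 0 = 0 := fun y => by
    have := hr y 0 0
    rw [add_zero] at this
    exact left_eq_add.mp this
  have hbl : ∀ (s : ZMod 2) v w, β (s • v) w = s * β v w := fun s v w => by
    rcases two_eq s with rfl | rfl <;> simp [hb0]
  have hbr : ∀ (s : ZMod 2) v w, β v (s • w) = s * β v w := fun s v w => by
    rcases two_eq s with rfl | rfl <;> simp [hb0']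
  have hp : ∀ k : Fin 6, q (e k.succ.castSucc) = q (e 1) := fun k =>
    hpt _ (e_succ_distinct k).symm
  rcases invariant_bilin β hl hr hβinv with hz | hB
  · exfalso
    have key : ∀ x, q x = q (e 1) * (x 0 + x 1 + x 2 + x 3 + x 4 + x 5) := by
      intro x
      conv_lhs => rw [expand x]
      simp only [comb, hq, hs, hz, hp, add_zero]
      ring
    have h7 := key (e 7)
    rw [hpt 7 (by decide), show (e 7 0 + e 7 1 + e 7 2 + e 7 3 + e 7 4 + e 7 5 : ZMod 2) = 0
      from rfl, mul_zero] at h7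
    obtain ⟨x, hx⟩ := hne
    exact hx (by rw [key, h7, zero_mul])
  · have hBn : ∀ i j : Fin 6, i ≠ j → B (e i.succ.castSucc) (e j.succ.castSucc) = 1 := by
      decide +kernel
    have key : ∀ x, q x = (q (e 1) + 1) * (x 0 + x 1 + x 2 + x 3 + x 4 + x 5) + f x := by
      intro x
      conv_lhs => rw [expand x]
      simp only [comb, hq, hs, hl, hbl, hbr]
      simp only [hB, hp, hBn 0 1 (by decide), hBn 0 2 (by decide), hBn 0 3 (by decide),
        hBn 0 4 (by decide), hBn 0 5 (by decide), hBn 1 2 (by decide), hBn 1 3 (by decide),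
        hBn 1 4 (by decide), hBn 1 5 (by decide), hBn 2 3 (by decide), hBn 2 4 (by decide),
        hBn 2 5 (by decide), hBn 3 4 (by decide), hBn 3 5 (by decide), hBn 4 5 (by decide), f]
      have h2 : ∀ a : ZMod 2, a + a = 0 := CharTwo.add_self_eq_zero
      linear_combination (-(x 0 + x 1 + x 2 + x 3 + x 4 + x 5)) * h2 1
    have h7 := key (e 7)
    rw [hpt 7 (by decide), show (e 7 0 + e 7 1 + e 7 2 + e 7 3 + e 7 4 + e 7 5 : ZMod 2) = 0
      from rfl, mul_zero, zero_add, show f (e 7) = 1 by decide +kernel] at h7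
    intro x
    rw [key, h7, show (1 : ZMod 2) + 1 = 0 from rfl, zero_mul, zero_add]

/-! ### Pairs -/

/-- The commutator of two coordinate pairs. -/
def cm (p q : M6 × M6) : ZMod 2 × ZMod 2 :=
  (B p.1 q.1 + B p.1 q.2 + B q.1 p.2, B p.1 q.2 + B q.1 p.2 + B p.2 q.2)

/-- All vectors. -/
def vecs6 : List M6 := (List.range 64).map fun n i => if n.testBit i.val then 1 else 0

theorem mem_vecs6 : ∀ x : M6, x ∈ vecs6 := by decide +kernel

/-- The span of two vectors. -/
def span2 (a b : M6) : List M6 := [0, a, b, a + b]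

theorem perp_perp₀ : ∀ x : M6, (∀ w, B α₀ w = 0 → B β₀ w = 0 → B x w = 0) → x ∈ span2 α₀ β₀ := by
  decide +kernel

theorem perp_perp₁ : ∀ x : M6, (∀ w, B α₁ w = 0 → B β₁ w = 0 → B x w = 0) → x ∈ span2 α₁ β₁ := by
  decide +kernel

/-- Pairs commuting with the given one. -/
def cpairs (y : M6 × M6) : List (M6 × M6) :=
  (vecs6.flatMap fun a => vecs6.map fun b => (a, b)).filter fun p => decide (cm p y = (0, 0))

/-- The centre of the commuting pairs. -/
def zpairs (y : M6 × M6) : List (M6 × M6) :=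
  let c := cpairs y
  ((span2 y.1 y.2).flatMap fun a => (span2 y.1 y.2).map fun b => (a, b)).filter fun p =>
    c.all fun q => decide (cm p q = (0, 0))

theorem zpairs₀_le : (zpairs (α₀, β₀)).length ≤ 4 := by decide +kernel

theorem zpairs₁_le : (zpairs (α₁, β₁)).length ≤ 4 := by decide +kernel

theorem mem_zpairs {y p : M6 × M6}
    (hpp : ∀ x : M6, (∀ w, B y.1 w = 0 → B y.2 w = 0 → B x w = 0) → x ∈ span2 y.1 y.2)
    (h : ∀ q, cm q y = (0, 0) → cm p q = (0, 0)) : p ∈ zpairs y := by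
  have hw : ∀ w, B y.1 w = 0 → B y.2 w = 0 → B p.1 w = 0 ∧ B p.2 w = 0 := by
    intro w h1 h2
    have q1 : cm (w, 0) y = (0, 0) := by
      simp [cm, B_zero_left, B_zero_right, B_comm w, h1, h2]
    have := h _ q1
    simp only [cm, B_zero_left, B_zero_right, add_zero, zero_add, Prod.mk.injEq,
      B_comm w p.2] at this
    obtain ⟨e1, e2⟩ := this
    rw [e2, add_zero] at e1
    exact ⟨e1, e2⟩
  simp only [zpairs, List.mem_filter, List.all_eq_true, decide_eq_true_eq, List.mem_flatMap,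
    List.mem_map]
  refine ⟨⟨p.1, hpp _ fun w h1 h2 => (hw w h1 h2).1, p.2, hpp _ fun w h1 h2 => (hw w h1 h2).2,
    rfl⟩, fun q hq => h q ?_⟩
  simp only [cpairs, List.mem_filter, decide_eq_true_eq] at hq
  exact hq.2

/-- A totally isotropic subgroup of pairs has at most 64 elements. -/
theorem isotropic_le (ξ : ZMod 2 × ZMod 2 → ZMod 2) (hξ : ∀ a b, ξ (a + b) = ξ a + ξ b)
    (hξ0 : ∃ a, ξ a = 1) (H : Finset (M6 × M6)) (h0 : (0, 0) ∈ H)
    (hadd : ∀ a ∈ H, ∀ b ∈ H, a + b ∈ H) (hiso : ∀ a ∈ H, ∀ b ∈ H, ξ (cm a b) = 0) :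
    H.card ≤ 64 := by
  have hcm : ∀ a a' b, cm (a + a') b = cm a b + cm a' b := fun a a' b => by
    simp only [cm, Prod.fst_add, Prod.snd_add, B_add_left, B_add_right, Prod.mk_add_mk,
      Prod.mk.injEq]
    constructor <;> ring
  have hnd : ∀ h : M6 × M6, h ≠ 0 → ∃ v, ξ (cm v h) = 1 := by
    intro h hh
    have he : ∀ i j : ZMod 2, ξ (i, j) = i * ξ (1, 0) + j * ξ (0, 1) := fun i j => by
      have h00 : ξ 0 = 0 := by
        have := hξ 0 0
        rw [add_zero] at this
        exact left_eq_add.mp this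
      rw [show ((i, j) : ZMod 2 × ZMod 2) = (i, 0) + (0, j) by simp, hξ]
      rcases two_eq i with rfl | rfl <;> rcases two_eq j with rfl | rfl <;>
        simp [show ((0 : ZMod 2), (0 : ZMod 2)) = 0 from rfl, h00]
    obtain ⟨a, ha⟩ := hξ0
    rw [show a = (a.1, a.2) from rfl, he] at ha
    have hBnd : ∀ w : M6, w ≠ 0 → ∃ v, B v w = 1 := by decide +kernel
    have hh' : h.1 ≠ 0 ∨ h.2 ≠ 0 := by
      by_contra hc
      obtain ⟨e1, e2⟩ := not_or.mp hc
      exact hh (Prod.ext (not_not.mp e1) (not_not.mp e2))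
    -- the functional of `h` on pairs
    have hval : ∀ u w : M6, ξ (cm (u, w) h) = B u ((ξ (1, 0)) • (h.1 + h.2) + (ξ (0, 1)) • h.2)
        + B w ((ξ (1, 0)) • h.1 + (ξ (0, 1)) • (h.1 + h.2)) := fun u w => by
      have hs : ∀ (s : ZMod 2) x y, B x (s • y) = s * B x y := fun s x y => by
        rcases two_eq s with rfl | rfl <;> simp [B_zero_right]
      rw [cm, he]
      simp only [B_add_right, hs]
      rw [B_comm h.1 w]
      ring
    by_cases h1 : (ξ (1, 0)) • (h.1 + h.2) + (ξ (0, 1)) • h.2 = 0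
    · by_cases h2 : (ξ (1, 0)) • h.1 + (ξ (0, 1)) • (h.1 + h.2) = 0
      · exfalso
        rcases two_eq (ξ (1, 0)) with e | e <;> rcases two_eq (ξ (0, 1)) with e' | e' <;>
          rw [e, e'] at h1 h2 ha
        · simp only [mul_zero, add_zero] at ha
          exact zero_ne_one ha
        · simp only [zero_smul, one_smul, zero_add] at h1 h2
          rw [h1, add_zero] at h2
          exact hh (Prod.ext h2 h1)
        · simp only [zero_smul, one_smul, add_zero] at h1 h2
          rw [h2, zero_add] at h1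
          exact hh (Prod.ext h2 h1)
        · simp only [one_smul] at h1 h2
          rw [add_assoc, add_self, add_zero] at h1
          rw [h1, zero_add, zero_add] at h2
          exact hh (Prod.ext h1 h2)
      · obtain ⟨w, hw⟩ := hBnd _ h2
        exact ⟨(0, w), by rw [hval, B_zero_left, zero_add, hw]⟩
    · obtain ⟨u, hu⟩ := hBnd _ h1
      exact ⟨(u, 0), by rw [hval, B_zero_left, add_zero, hu]⟩
  have h1 : ∑ v : M6 × M6, ∑ h ∈ H, sgn (ξ (cm v h)) = 4096 := by
    rw [Finset.sum_comm, Finset.sum_eq_single_of_mem (0, 0) h0]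
    · have : ∀ v : M6 × M6, ξ (cm v (0, 0)) = 0 := fun v => by
        have h00 : ξ 0 = 0 := by
          have := hξ 0 0
          rw [add_zero] at this
          exact left_eq_add.mp this
        simp only [cm, B_zero_left, B_zero_right, add_zero]
        exact h00
      simp only [this, show sgn 0 = 1 from rfl, Finset.sum_const, Finset.card_univ,
        Fintype.card_prod, Fintype.card_fun, ZMod.card, Fintype.card_fin]
      norm_num
    · intro h _ hh
      obtain ⟨v, hv⟩ := hnd h hh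
      exact sum_sgn (fun v => ξ (cm v h)) (fun a b => by rw [hcm, hξ]) hv
  have hnn : ∀ v : M6 × M6, 0 ≤ ∑ h ∈ H, sgn (ξ (cm v h)) := by
    intro v
    by_cases hv : ∃ h₀ ∈ H, ξ (cm v h₀) = 1
    · obtain ⟨h₀, hm, h1⟩ := hv
      have hcm' : ∀ a b, cm v (a + b) = cm v a + cm v b := fun a b => by
        simp only [cm, Prod.fst_add, Prod.snd_add, B_add_left, B_add_right, Prod.mk_add_mk,
          Prod.mk.injEq]
        constructor <;> ring
      have key : ∑ h ∈ H, sgn (ξ (cm v h)) = ∑ h ∈ H, sgn (ξ (cm v (h + h₀))) := by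
        refine Finset.sum_bij' (fun h _ => h + h₀) (fun h _ => h + h₀) (fun a ha => hadd a ha _ hm)
          (fun a ha => hadd a ha _ hm) ?_ ?_ ?_ <;> intro a _
        · rw [add_assoc, Prod.ext (add_self _) (add_self _) |> (fun e : h₀ + h₀ = 0 => e), add_zero]
        · rw [add_assoc, Prod.ext (add_self _) (add_self _) |> (fun e : h₀ + h₀ = 0 => e), add_zero]
        · rw [add_assoc, Prod.ext (add_self _) (add_self _) |> (fun e : h₀ + h₀ = 0 => e), add_zero]
      have h2 : ∀ h, sgn (ξ (cm v (h + h₀))) = - sgn (ξ (cm v h)) := fun h => by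
        rw [hcm', hξ, sgn_add, h1]
        show sgn (ξ (cm v h)) * (-1) = - sgn (ξ (cm v h))
        ring
      simp only [h2, Finset.sum_neg_distrib] at key
      linarith
    · push Not at hv
      refine Finset.sum_nonneg fun h hh => ?_
      rw [(two_eq _).resolve_right (hv h hh)]
      decide
  have h2 : ∑ v ∈ H, ∑ h ∈ H, sgn (ξ (cm v h)) ≤ 4096 :=
    h1 ▸ Finset.sum_le_univ_sum_of_nonneg hnn
  have h3 : ∑ v ∈ H, ∑ h ∈ H, sgn (ξ (cm v h)) = (H.card : ℤ) * H.card := by
    rw [Finset.sum_congr rfl fun v hv => Finset.sum_congr rfl fun h hh => by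
      rw [hiso v hv h hh, show sgn 0 = 1 from rfl]]
    simp
  rw [h3] at h2
  have : (H.card : ℤ) ≤ 64 := by nlinarith
  exact_mod_cast this

end Cfsg.Agent.ConwayTypeModel62
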