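import Mathlib
import Cfsg.Agent.Lib.ConwayTypeForms62

/-!
# The totally singular line `⟨α₀, β₀⟩` in the eight-point model

Finite facts on the line and its perpendicular, used for fusion of involutions of Conway type.
-/

set_option autoImplicit false
set_option maxRecDepth 100000
set_option synthInstance.maxSize 2000
set_option synthInstance.maxHeartbeats 200000

namespace Cfsg.Agent.ConwayTypeModel62

/-- In the totally singular line. -/
abbrev InL (v : M6) : Prop := v ∈ span2 α₀ β₀

/-- Perpendicular to the totally singular line. -/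
abbrev InP (v : M6) : Prop := B v α₀ = 0 ∧ B v β₀ = 0

/-- A vector meeting `α₀` only. -/
def v₁ : M6 := e 2 + e 6

/-- A vector meeting `β₀` only. -/
def v₂ : M6 := e 4 + e 6

theorem v_spec : B v₁ α₀ = 1 ∧ B v₁ β₀ = 0 ∧ B v₂ α₀ = 0 ∧ B v₂ β₀ = 1 := by decide +kernel

theorem dual₀ : ∀ i j : ZMod 2, ∃ x, B x α₀ + B x β₀ = i ∧ B x β₀ = j := by decide +kernel

theorem dual₁ : ∀ i j : ZMod 2, ∃ x, B x α₁ + B x β₁ = i ∧ B x β₁ = j := by decide +kernel

theorem partner₀ : ∀ u : M6, ∃ w, cm (u, w) (α₀, β₀) = (0, 0) := by decide +kernel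

theorem L_spec : ∀ l : M6, InL l → f l = 0 ∧ InP l ∧ ∃ v, act σ4 v + v = l := by
  decide +kernel

theorem perp_perp_L {x : M6} (h : ∀ w, InP w → B x w = 0) : InL x :=
  perp_perp₀ x fun w h1 h2 => h w ⟨(B_comm w α₀).trans h1, (B_comm w β₀).trans h2⟩

theorem σ4_fix : ∀ v : M6, act σ4 v = v ↔ InP v := by decide +kernel

theorem delta_eq : ∀ δ : M6, (∀ v, B v α₀ = 0 → B δ v = B v β₀) → f (v₁ + δ) = f v₁ → δ = β₀ := by
  decide +kernel

theorem plane_fix : ∀ α β : M6, InP α → InP β → f α = 1 → f β + B α β = 0 → InL β := by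
  decide +kernel

theorem span_beta : ∀ β v : M6, InP β → ¬ InL β → InP v → B v β = 0 → InL v ∨ InL (v + β) := by
  decide +kernel

theorem nonsing_card : (Finset.univ.filter fun v : M6 => f v = 1).card = 28 := by decide +kernel

theorem exists_sing {S : Finset M6} (h : 32 ≤ S.card) : ∃ w ∈ S, w ≠ 0 ∧ f w = 0 := by
  by_contra hno
  push Not at hno
  have hsub : S ⊆ insert 0 (Finset.univ.filter fun v : M6 => f v = 1) := fun w hw => by
    rcases eq_or_ne w 0 with rfl | h0
    · exact Finset.mem_insert_self _ _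
    · exact Finset.mem_insert_of_mem (Finset.mem_filter.mpr
        ⟨Finset.mem_univ _, (two_eq _).resolve_left (hno w hw h0)⟩)
  have := (Finset.card_le_card hsub).trans (Finset.card_insert_le _ _)
  rw [nonsing_card] at this
  omega

/-- Ordered bases of totally singular lines. -/
def lineBases : Finset (M6 × M6) :=
  Finset.univ.filter fun p => f p.1 = 0 ∧ f p.2 = 0 ∧ B p.1 p.2 = 0 ∧ p.1 ≠ 0 ∧ p.2 ≠ 0 ∧ p.1 ≠ p.2

theorem lineBases_card : lineBases.card = 630 := by decide +kernel

theorem zpairs₀_spec :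
    (zpairs (α₀, β₀)).all (fun p => decide (InL p.1 ∧ (p.2 = 0 → p.1 = 0))) = true := by
  decide +kernel

theorem gen_pairs : ∀ p q r : ZMod 2 × ZMod 2, p.1 = 1 → q.2 = 1 → r.1 + r.2 = 1 →
    ((1, 0) ∈ [p, q, r, p + q, p + r, q + r]) ∧ ((0, 1) ∈ [p, q, r, p + q, p + r, q + r]) := by
  decide

/-- The elements of `A₈` moving all vectors only along the line. -/
theorem line_moves {σ : P8} (hα : act σ α₀ = α₀) (hβ : act σ β₀ = β₀)
    (hv : ∀ v, InL (act σ v + v)) : σ = 1 ∨ σ = σ4 := by
  let φ : M6 → M6 := fun v => act σ v + v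
  have hadd : ∀ v w, φ (v + w) = φ v + φ w := fun v w => by
    simp only [φ, act_add]; abel
  have hsk : ∀ v w, B (φ v) w = B v (φ w) := fun v w => by
    have h := B_act σ v w
    have e : ∀ u, act σ u = φ u + u := fun u => by
      simp only [φ, add_assoc, add_self, add_zero]
    rw [e v, e w, B_add_left, B_add_right (φ v) (φ w) w, B_add_right v (φ w) w,
      (show ∀ a b : M6, InL a → InL b → B a b = 0 by decide +kernel) _ _ (hv v) (hv w)] at h
    revert h
    generalize B (φ v) w = i
    generalize B v (φ w) = j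
    generalize B v w = k
    revert i j k
    decide
  have hq : ∀ v, B v (φ v) = 0 := fun v => by
    have h := f_act σ v
    rw [show act σ v = φ v + v by simp only [φ, add_assoc, add_self, add_zero], f_add,
      (L_spec _ (hv v)).1, zero_add, B_comm (φ v) v] at h
    exact add_eq_left.mp h
  have hperp : ∀ v, InP v → φ v = 0 := fun v hp => by
    refine (show ∀ x : M6, (∀ w, B x w = 0) → x = 0 by decide +kernel) _ fun w => ?_
    rw [hsk]
    exact (show ∀ a b : M6, InP a → InL b → B a b = 0 by decide +kernel) _ _ hp (hv w)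
  have hlin : ∀ v, φ v = B v α₀ • φ v₁ + B v β₀ • φ v₂ := fun v => by
    obtain ⟨a1, a2, a3, a4⟩ := v_spec
    have hsmul : ∀ (s : ZMod 2) w, φ (s • w) = s • φ w := fun s w => by
      rcases two_eq s with rfl | rfl <;> simp [φ, act_zero]
    have h0 : φ (v + B v α₀ • v₁ + B v β₀ • v₂) = 0 := hperp _ (by
      have hs : ∀ (s : ZMod 2) u w, B (s • u) w = s * B u w := fun s u w => by
        rcases two_eq s with rfl | rfl <;> simp [B_zero_left]
      refine ⟨?_, ?_⟩ <;>
        simp only [B_add_left, hs, a1, a2, a3, a4, mul_one, mul_zero, add_zero,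
          CharTwo.add_self_eq_zero])
    rw [hadd, hadd, hsmul, hsmul, add_assoc] at h0
    exact eq_of_add h0
  obtain ⟨c, hc1, hc2⟩ : ∃ c : ZMod 2, φ v₁ = c • β₀ ∧ φ v₂ = c • α₀ := by
    exact (show ∀ a b : M6, InL a → InL b → B v₁ a = 0 → B v₂ b = 0 → B a v₂ = B v₁ b →
      ∃ c : ZMod 2, a = c • β₀ ∧ b = c • α₀ by decide +kernel) _ _ (hv _) (hv _) (hq _) (hq _)
        (hsk _ _)
  rcases two_eq c with rfl | rfl
  · refine Or.inl (act_inj fun v => ?_)
    have h := hlin v
    rw [hc1, hc2, zero_smul, zero_smul, smul_zero, smul_zero, add_zero] at h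
    rw [act_one]
    exact eq_of_add h
  · refine Or.inr (act_inj fun v => ?_)
    have h := hlin v
    rw [hc1, hc2, one_smul, one_smul, add_comm (B v α₀ • β₀), ← σ4_act v] at h
    exact add_right_cancel h

end Cfsg.Agent.ConwayTypeModel62
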