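import Mathlib
import Cfsg.Agent.Lib.LargeExtraspecial
import Cfsg.Agent.Lib.SuzTypeModel62

/-!
# Involutions in the extraspecial subgroup of an involution centraliser of Suzuki sporadic type

`Q` extraspecial of order `2^7` with centraliser quotient of order 25920: the non-central
involutions of `Q` form one class of 54 under the centraliser, and the centraliser of one of them
acts on `C_Q(x)/⟨z, x⟩` through the five singular points.
-/

set_option autoImplicit false

namespace Cfsg.Agent.SuzTypeCoord62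

open Subgroup Cfsg.Agent.LargeExtraspecial Cfsg.Agent.SuzTypeModel62

variable {G : Type*} [Group G]

/-- The hypotheses. -/
structure Hyp (Q : Subgroup G) (z : G) : Prop where
  h : LHyp Q z
  cardQ : Nat.card Q = 128
  cardC : Nat.card (centralizer ({z} : Set G)) = 128 * 25920

/-- A non-central involution of `Q`. -/
def Sing (Q : Subgroup G) (z x : G) : Prop := x ∈ Q ∧ x * x = 1 ∧ x ≠ 1 ∧ x ≠ z

/-- `C_Q(x)`. -/
def Cx (Q : Subgroup G) (x : G) : Subgroup G := Q ⊓ centralizer ({x} : Set G)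

/-- The centraliser of `z` and `x`. -/
def Sx (z x : G) : Subgroup G := centralizer ({z} : Set G) ⊓ centralizer ({x} : Set G)

/-- Powers of an involution with exponent modulo two. -/
def zp (z : G) (i : ZMod 2) : G := if i = 1 then z else 1

/-- Membership in the four group. -/
def InU (z x a : G) : Prop := a = 1 ∨ a = z ∨ a = x ∨ a = z * x

theorem mem_Cx {Q : Subgroup G} {x a : G} : a ∈ Cx Q x ↔ a ∈ Q ∧ a * x = x * a := by
  rw [Cx, mem_inf, mem_centralizer_singleton_iff]

theorem mem_Sx {z x c : G} : c ∈ Sx z x ↔ c * z = z * c ∧ c * x = x * c := by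
  rw [Sx, mem_inf, mem_centralizer_singleton_iff, mem_centralizer_singleton_iff]

theorem zp_zero (z : G) : zp z 0 = 1 := if_neg (by decide)

theorem zp_one (z : G) : zp z 1 = z := if_pos rfl

theorem zp_add {z : G} (hz : z * z = 1) (i j : ZMod 2) : zp z (i + j) = zp z i * zp z j := by
  rcases two_eq i with rfl | rfl <;> rcases two_eq j with rfl | rfl <;>
    simp [zp_zero, zp_one, hz, show (1 : ZMod 2) + 1 = 0 from rfl]

theorem zp_inj {z : G} (hz : z ≠ 1) {i j : ZMod 2} (h : zp z i = zp z j) : i = j := by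
  rcases two_eq i with rfl | rfl <;> rcases two_eq j with rfl | rfl <;>
    simp [zp_zero, zp_one, hz, hz.symm] at h ⊢

/-- A group of order 16 and exponent two in coordinates. -/
theorem elem16 (H : Type*) [Group H] [Finite H] (he : ∀ a : H, a * a = 1) (hc : Nat.card H = 16) :
    ∃ ν : H → M4, Function.Bijective ν ∧ ∀ a b, ν (a * b) = ν a + ν b := by
  letI : CommGroup H :=
    { (inferInstance : Group H) with
      mul_comm := fun a b => by
        have hi : ∀ a : H, a⁻¹ = a := fun a => inv_eq_of_mul_eq_one_right (he a)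
        calc a * b = (a * b)⁻¹ := (hi _).symm
          _ = b * a := by rw [mul_inv_rev, hi, hi] }
  letI : Module (ZMod 2) (Additive H) :=
    AddCommGroup.zmodModule fun a => by rw [two_nsmul]; exact he a.toMul
  haveI : Module.Finite (ZMod 2) (Additive H) := Module.Finite.of_finite
  have hr : Module.finrank (ZMod 2) (Additive H) = 4 := by
    have h := Module.natCard_eq_pow_finrank (K := ZMod 2) (V := Additive H)
    rw [Nat.card_congr Additive.toMul, hc, Nat.card_zmod] at h
    exact (Nat.pow_right_injective (le_refl 2) (show 2 ^ 4 = _ from h)).symm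
  let e := (Module.finBasisOfFinrankEq (ZMod 2) (Additive H) hr).equivFun
  exact ⟨fun a => e (Additive.ofMul a), e.bijective.comp Additive.ofMul.bijective,
    fun a b => by simp only [ofMul_mul, map_add]⟩

theorem pow_dvd_left {p m n o s : ℕ} (hp : p.Prime) (ho : o ≠ 0) (hs : s ≠ 0)
    (h : p ^ (m + n) ∣ o * s) (hn : ¬ p ^ (n + 1) ∣ s) : p ^ m ∣ o := by
  rw [hp.pow_dvd_iff_le_factorization (mul_ne_zero ho hs), Nat.factorization_mul ho hs,
    Finsupp.add_apply] at h
  rw [hp.pow_dvd_iff_le_factorization hs] at hn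
  rw [hp.pow_dvd_iff_le_factorization ho]
  omega

/-- Coordinates on `C_Q(x)` modulo the four group. -/
structure Coord (Q : Subgroup G) (z x : G) (ν : G → M4) (q : M4 → ZMod 2) : Prop where
  add : ∀ a ∈ Cx Q x, ∀ b ∈ Cx Q x, ν (a * b) = ν a + ν b
  surj : ∀ w, ∃ a ∈ Cx Q x, ν a = w
  ker : ∀ a ∈ Cx Q x, ν a = 0 ↔ InU z x a
  sq : ∀ a ∈ Cx Q x, a * a = zp z (q (ν a))

/-- Trivial action on `C_Q(x)` modulo the four group. -/
def Triv (Q : Subgroup G) (z x c : G) : Prop :=
  c ∈ Sx z x ∧ ∀ a ∈ Cx Q x, InU z x (c * a * c⁻¹ * a⁻¹)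

namespace Hyp

variable [Finite G] {Q : Subgroup G} {z x : G} (H : Hyp Q z)
include H

theorem card_Cx (hx : x ∈ Q) (h1 : x ≠ 1) (h2 : x ≠ z) : Nat.card (Cx Q x) = 64 := by
  obtain ⟨q, hq, eq⟩ := H.h.partner x hx h1 h2
  have hidx : ((Cx Q x).subgroupOf Q).index = 2 := by
    refine Subgroup.index_eq_two_iff.mpr ⟨⟨q, hq⟩, fun b => ?_⟩
    simp only [Subgroup.mem_subgroupOf, mem_Cx, Subgroup.coe_mul]
    have hbq : (b : G) * q ∈ Q := Q.mul_mem b.2 hq
    by_cases hb : (b : G) * x = x * b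
    · refine Or.inr ⟨⟨b.2, hb⟩, fun e => (H.h.not_comm_iff hx hq).mpr eq ?_⟩
      have := (show Commute (b : G) x from hb).inv_left.mul_left (show Commute ((b : G) * q) x from e.2)
      rw [inv_mul_cancel_left] at this
      exact this
    · refine Or.inl ⟨⟨hbq, ?_⟩, fun e => hb e.2⟩
      exact mul_inv_eq_iff_eq_mul.mp (H.h.mul_fix b.2 ((H.h.not_comm_iff hx b.2).mp hb) eq)
  have h := Subgroup.card_mul_index ((Cx Q x).subgroupOf Q)
  rw [hidx, H.cardQ, Nat.card_congr (Subgroup.subgroupOfEquivOfLe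
    (show Cx Q x ≤ Q from inf_le_left)).toEquiv] at h
  omega

theorem Cx_le_Sx : Cx Q x ≤ Sx z x := fun a ha =>
  mem_Sx.mpr ⟨H.h.comm a (mem_Cx.mp ha).1, (mem_Cx.mp ha).2⟩

theorem conj_Cx {c a : G} (hc : c ∈ Sx z x) (ha : a ∈ Cx Q x) : c * a * c⁻¹ ∈ Cx Q x := by
  obtain ⟨haQ, hax⟩ := mem_Cx.mp ha
  refine mem_Cx.mpr ⟨H.h.norm c (mem_Sx.mp hc).1 a haQ, ?_⟩
  have hcx : Commute c x := (mem_Sx.mp hc).2
  exact ((hcx.mul_left hax).mul_left hcx.inv_left).eq

section Singular

variable (hx : Sing Q z x)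
include hx

theorem x_mem : x ∈ Cx Q x := mem_Cx.mpr ⟨hx.1, rfl⟩

omit hx in
theorem z_mem (hx : Sing Q z x) : z ∈ Cx Q x := mem_Cx.mpr ⟨H.h.mem, (H.h.comm x hx.1).symm⟩

omit H in
theorem InU_inv (hz : z * z = 1) (hzx : z * x = x * z) {a : G} (ha : InU z x a) :
    a * a = 1 ∧ a⁻¹ = a := by
  have : a * a = 1 := by
    rcases ha with rfl | rfl | rfl | rfl
    · exact mul_one 1
    · exact hz
    · exact hx.2.1
    · rw [mul_assoc, ← mul_assoc x z x, ← hzx, mul_assoc z x x, hx.2.1, mul_one, hz]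
  exact ⟨this, inv_eq_of_mul_eq_one_right this⟩

theorem zx : z * x = x * z := (H.h.comm x hx.1).symm

theorem U_inv {a : G} (ha : InU z x a) : a * a = 1 ∧ a⁻¹ = a :=
  InU_inv hx H.h.zz (H.zx hx) ha

theorem U_mem {a : G} (ha : InU z x a) : a ∈ Cx Q x := by
  rcases ha with rfl | rfl | rfl | rfl
  exacts [one_mem _, H.z_mem hx, H.x_mem hx, mul_mem (H.z_mem hx) (H.x_mem hx)]

theorem U_comm {a c : G} (ha : InU z x a) (hc : c ∈ Sx z x) : c * a = a * c := by
  obtain ⟨h1, h2⟩ := mem_Sx.mp hc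
  rcases ha with rfl | rfl | rfl | rfl
  exacts [by simp, h1, h2, ((show Commute c z from h1).mul_right h2).eq]

theorem U_mul {a b : G} (ha : InU z x a) (hb : InU z x b) : InU z x (a * b) := by
  have hzx := H.zx hx
  have e1 : z * (z * x) = x := H.h.z_mul_z_mul x
  have e2 : x * (z * x) = z := by rw [hzx, ← mul_assoc, hx.2.1, one_mul]
  have e3 : z * x * z = x := by rw [hzx, mul_assoc, H.h.zz, mul_one]
  have e4 : z * x * x = z := by rw [mul_assoc, hx.2.1, mul_one]
  have e5 : z * x * (z * x) = 1 := (H.U_inv hx (Or.inr (Or.inr (Or.inr rfl)))).1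
  rcases ha with rfl | rfl | rfl | rfl <;> rcases hb with rfl | rfl | rfl | rfl <;>
    simp [InU, H.h.zz, hx.2.1, e1, e2, e3, e4, e5, ← hzx]

theorem U_distinct : z * x ≠ 1 ∧ z * x ≠ z ∧ z * x ≠ x :=
  ⟨fun e => hx.2.2.2 ((eq_inv_of_mul_eq_one_right e).trans H.h.inv_z),
    fun e => hx.2.2.1 (mul_eq_left.mp e), H.h.z_mul_ne x⟩

theorem exists_coord : ∃ ν q, Coord Q z x ν q := by
  classical
  let U : Subgroup ↥(Cx Q x) :=
    { carrier := {a | InU z x (a : G)}
      mul_mem' := fun {a b} ha hb => H.U_mul hx ha hb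
      one_mem' := Or.inl rfl
      inv_mem' := fun {a} ha => by
        show InU z x ((a : G)⁻¹)
        rw [(H.U_inv hx ha).2]
        exact ha }
  haveI : U.Normal := ⟨fun a ha g => by
    have : g * a * g⁻¹ = a := Subtype.ext (by
      simp only [coe_mul, coe_inv]
      rw [H.U_comm hx ha (H.Cx_le_Sx g.2), mul_inv_cancel_right])
    rw [this]; exact ha⟩
  have hU : Nat.card U = 4 := by
    obtain ⟨d1, d2, d3⟩ := H.U_distinct hx
    have himg : ((↑) : ↥(Cx Q x) → G) '' (U : Set ↥(Cx Q x)) = ({1, z, x, z * x} : Set G) := by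
      ext a
      constructor
      · rintro ⟨b, hb, rfl⟩
        simpa [InU] using (show InU z x (b : G) from hb)
      · intro ha
        have ha' : InU z x a := by simpa [InU] using ha
        exact ⟨⟨a, H.U_mem hx ha'⟩, ha', rfl⟩
    rw [← SetLike.coe_sort_coe, Nat.card_coe_set_eq,
      ← Set.ncard_image_of_injective _ Subtype.val_injective, himg]
    have c1 : (1 : G) ∉ ({z, x, z * x} : Set G) := by
      simp [H.h.ne_one.symm, hx.2.2.1.symm, d1.symm]
    have c2 : z ∉ ({x, z * x} : Set G) := by simp [hx.2.2.2.symm, d2.symm]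
    rw [Set.ncard_insert_of_notMem c1, Set.ncard_insert_of_notMem c2, Set.ncard_pair d3.symm]
  have hq : ∀ a : ↥(Cx Q x) ⧸ U, a * a = 1 := by
    intro a
    induction a using QuotientGroup.induction_on with
    | _ a =>
      rw [← QuotientGroup.mk_mul, QuotientGroup.eq_one_iff]
      show InU z x ((a : G) * a)
      rcases H.h.sq a (mem_Cx.mp a.2).1 with e | e <;> rw [e]
      exacts [Or.inl rfl, Or.inr (Or.inl rfl)]
  have hcard : Nat.card (↥(Cx Q x) ⧸ U) = 16 := by
    have h := Subgroup.card_eq_card_quotient_mul_card_subgroup U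
    rw [hU, H.card_Cx hx.1 hx.2.2.1 hx.2.2.2] at h
    omega
  obtain ⟨ν₀, hbij, hadd⟩ := elem16 _ hq hcard
  let ν : G → M4 := fun a => if h : a ∈ Cx Q x then ν₀ (QuotientGroup.mk ⟨a, h⟩) else 0
  have hν : ∀ (a : G) (h : a ∈ Cx Q x), ν a = ν₀ (QuotientGroup.mk ⟨a, h⟩) := fun a h => dif_pos h
  have hzero : ν₀ 1 = 0 := by
    have := hadd 1 1
    rw [mul_one] at this
    exact left_eq_add.mp this
  have add : ∀ a ∈ Cx Q x, ∀ b ∈ Cx Q x, ν (a * b) = ν a + ν b := by
    intro a ha b hb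
    rw [hν a ha, hν b hb, hν _ (mul_mem ha hb), ← hadd]
    rfl
  have ker : ∀ a ∈ Cx Q x, ν a = 0 ↔ InU z x a := by
    intro a ha
    rw [hν a ha, ← hzero, hbij.1.eq_iff, QuotientGroup.eq_one_iff]
    rfl
  have surj : ∀ w, ∃ a ∈ Cx Q x, ν a = w := by
    intro w
    obtain ⟨b, rfl⟩ := hbij.2 w
    induction b using QuotientGroup.induction_on with
    | _ b => exact ⟨b, b.2, hν _ b.2⟩
  choose s hs1 hs2 using surj
  refine ⟨ν, fun w => if s w * s w = z then 1 else 0, add, fun w => ⟨s w, hs1 w, hs2 w⟩, ker, ?_⟩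
  intro a ha
  set b := s (ν a) with hb
  have hbm : b ∈ Cx Q x := hs1 _
  have hu : InU z x (a * b) := (ker _ (mul_mem ha hbm)).mp (by
    rw [add a ha b hbm, hb, hs2, add_self])
  have hsq : a * a = b * b := by
    obtain ⟨h1, h2⟩ := H.U_inv hx hu
    have hc : Commute b (a * b) := H.U_comm hx hu (H.Cx_le_Sx hbm)
    calc a * a = ((a * b) * b⁻¹) * ((a * b) * b⁻¹) := by group
      _ = ((a * b) * (a * b)) * (b * b)⁻¹ := by
        rw [hc.inv_left.mul_mul_mul_comm, mul_inv_rev]
      _ = (b * b)⁻¹ := by rw [h1, one_mul]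
      _ = b * b := by
        rcases H.h.sq b (mem_Cx.mp hbm).1 with e | e <;> rw [e]
        exacts [inv_one, H.h.inv_z]
  simp only [← hb, hsq]
  rcases H.h.sq b (mem_Cx.mp hbm).1 with e | e <;> rw [e]
  · rw [if_neg (Ne.symm H.h.ne_one), zp_zero]
  · rw [if_pos rfl, zp_one]

variable {ν : G → M4} {q : M4 → ZMod 2} (K : Coord Q z x ν q)
include K

theorem nu_one : ν 1 = 0 := (K.ker 1 (one_mem _)).mpr (Or.inl rfl)

theorem nu_inv {a : G} (ha : a ∈ Cx Q x) : ν a⁻¹ = ν a := by
  have := K.add _ (inv_mem ha) a ha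
  rw [inv_mul_cancel, H.nu_one hx K] at this
  exact eq_of_add this.symm

theorem nu_eq {a b : G} (ha : a ∈ Cx Q x) (hb : b ∈ Cx Q x) :
    ν a = ν b ↔ InU z x (a * b⁻¹) := by
  rw [← K.ker _ (mul_mem ha (inv_mem hb)), K.add a ha _ (inv_mem hb), H.nu_inv hx K hb]
  exact ⟨fun e => by rw [e, add_self], eq_of_add⟩

theorem q_zero : q 0 = 0 := by
  have := K.sq 1 (one_mem _)
  rw [mul_one, H.nu_one hx K] at this
  exact zp_inj H.h.ne_one (by rw [← this, zp_zero])

theorem conj_eq {a b : G} (ha : a ∈ Cx Q x) (hb : b ∈ Cx Q x) :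
    a * b * a⁻¹ = zp z (q (ν a + ν b) + q (ν a) + q (ν b)) * b := by
  obtain ⟨c, hc⟩ : ∃ c, a * b * a⁻¹ = zp z c * b := by
    rcases H.h.conj a (mem_Cx.mp ha).1 b (mem_Cx.mp hb).1 with e | e
    · exact ⟨0, by rw [zp_zero, one_mul]; exact e⟩
    · exact ⟨1, by rw [zp_one]; exact e⟩
  have hzc : ∀ i, Commute (zp z i) b := fun i => by
    rcases two_eq i with rfl | rfl
    · rw [zp_zero]; exact Commute.one_left b
    · rw [zp_one]; exact (H.h.comm b (mem_Cx.mp hb).1).symm
  have e1 := K.sq _ (mul_mem ha hb)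
  have e2 : a * b * (a * b) = zp z (c + q (ν a) + q (ν b)) := by
    calc a * b * (a * b) = (a * b * a⁻¹) * (a * a) * b := by group
      _ = zp z c * b * zp z (q (ν a)) * b := by rw [hc, K.sq a ha]
      _ = zp z c * zp z (q (ν a)) * (b * b) := by
        rw [mul_assoc (zp z c) b, ← (hzc (q (ν a))).eq]; group
      _ = zp z (c + q (ν a) + q (ν b)) := by rw [K.sq b hb, zp_add H.h.zz, zp_add H.h.zz]
  rw [K.add a ha b hb, e2] at e1
  have e3 := zp_inj H.h.ne_one e1
  rw [hc]
  congr 2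
  rw [← e3]
  generalize q (ν a) = i
  generalize q (ν b) = j
  clear e1 e2 e3 hc
  revert c i j
  decide

theorem polar_add (u u' w : M4) :
    q (u + u' + w) + q (u + u') + q w
      = (q (u + w) + q u + q w) + (q (u' + w) + q u' + q w) := by
  obtain ⟨a, ha, rfl⟩ := K.surj u
  obtain ⟨a', ha', rfl⟩ := K.surj u'
  obtain ⟨b, hb, rfl⟩ := K.surj w
  have e1 := H.conj_eq hx K (mul_mem ha ha') hb
  rw [K.add a ha a' ha'] at e1
  apply zp_inj H.h.ne_one
  rw [zp_add H.h.zz (q (ν a + ν b) + q (ν a) + q (ν b))]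
  have hzc : ∀ i, Commute a (zp z i) := fun i => by
    rcases two_eq i with rfl | rfl
    · rw [zp_zero]; exact Commute.one_right a
    · rw [zp_one]; exact H.h.comm a (mem_Cx.mp ha).1
  apply mul_right_cancel (b := b)
  rw [← e1]
  calc a * a' * b * (a * a')⁻¹ = a * (a' * b * a'⁻¹) * a⁻¹ := by group
    _ = a * zp z (q (ν a' + ν b) + q (ν a') + q (ν b)) * b * a⁻¹ := by
      rw [H.conj_eq hx K ha' hb]; group
    _ = zp z (q (ν a' + ν b) + q (ν a') + q (ν b)) * (a * b * a⁻¹) := by rw [(hzc _).eq]; group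
    _ = _ := by
      rw [H.conj_eq hx K ha hb, ← mul_assoc, ← zp_add H.h.zz, add_comm, zp_add H.h.zz]

omit K in
theorem central_U {a : G} (ha : a ∈ Q) (hc : ∀ b ∈ Cx Q x, b * a = a * b) : InU z x a := by
  rcases H.h.double_centralizer hx.1 ha (fun s hs hsx => hc s (mem_Cx.mpr ⟨hs, hsx⟩))
    with e | e | e | e
  · exact Or.inl e
  · exact Or.inr (Or.inl e)
  · exact Or.inr (Or.inr (Or.inl (by rw [e, inv_eq_of_mul_eq_one_right hx.2.1])))
  · exact Or.inr (Or.inr (Or.inr (by rw [e, inv_eq_of_mul_eq_one_right hx.2.1])))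

omit K in
theorem triv_pow {c : G} (hc : Triv Q z x c) : c ^ 8 = 1 := by
  obtain ⟨hcS, hcU⟩ := hc
  have h2 : ∀ a ∈ Cx Q x, c * c * a = a * (c * c) := by
    intro a ha
    set u := c * a * c⁻¹ * a⁻¹ with hu
    have huU : InU z x u := hcU a ha
    have hcu : c * u * c⁻¹ = u := by rw [H.U_comm hx huU hcS, mul_inv_cancel_right]
    have e : c * c * a * (c * c)⁻¹ = a := by
      calc c * c * a * (c * c)⁻¹ = c * (u * a) * c⁻¹ := by rw [hu]; group
        _ = (c * u * c⁻¹) * (c * a * c⁻¹ * a⁻¹) * a := by group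
        _ = a := by rw [hcu, ← hu, (H.U_inv hx huU).1, one_mul]
    exact mul_inv_eq_iff_eq_mul.mp e
  obtain ⟨d, hd, ed⟩ := H.h.partner x hx.1 hx.2.2.1 hx.2.2.2
  have hc2 : c * c ∈ Sx z x := mul_mem hcS hcS
  set e := c * c * d * (c * c)⁻¹ * d⁻¹ with he
  have heQ : e ∈ Q := Q.mul_mem (H.h.norm _ (mem_Sx.mp hc2).1 d hd) (Q.inv_mem hd)
  have heU : InU z x e := H.central_U hx heQ fun a ha => by
    obtain ⟨haQ, hax⟩ := mem_Cx.mp ha
    have hda : d⁻¹ * a * d ∈ Cx Q x := by
      rcases H.h.conj d⁻¹ (Q.inv_mem hd) a haQ with w | w <;> rw [inv_inv] at w <;> rw [w]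
      exacts [ha, mul_mem (H.z_mem hx) ha]
    have w1 : Commute (c * c) (d⁻¹ * a * d) := h2 _ hda
    have w2 : Commute (c * c) a := h2 _ ha
    show a * e = e * a
    calc a * e = (a * (c * c)) * d * (c * c)⁻¹ * d⁻¹ := by rw [he]; group
      _ = (c * c) * d * ((d⁻¹ * a * d) * (c * c)⁻¹) * d⁻¹ := by rw [← w2.eq]; group
      _ = e * a := by rw [← w1.inv_left.eq, he]; group
  have h4 : c ^ 4 * d = d * c ^ 4 := by
    have hce : c * c * e * (c * c)⁻¹ = e := by
      rw [H.U_comm hx heU hc2, mul_inv_cancel_right]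
    apply mul_inv_eq_iff_eq_mul.mp
    calc c ^ 4 * d * (c ^ 4)⁻¹ = c * c * (e * d) * (c * c)⁻¹ := by
          rw [he]; simp only [pow_succ, pow_zero]; group
      _ = (c * c * e * (c * c)⁻¹) * (c * c * d * (c * c)⁻¹ * d⁻¹) * d := by group
      _ = d := by rw [hce, ← he, (H.U_inv hx heU).1, one_mul]
  have hall : ∀ y ∈ Q, c ^ 4 * y = y * c ^ 4 := by
    have hC : ∀ a ∈ Cx Q x, Commute (c ^ 4) a := fun a ha => by
      have w := (show Commute (c * c) a from h2 a ha)
      rw [show c ^ 4 = c * c * (c * c) by simp only [pow_succ, pow_zero]; group]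
      exact w.mul_left w
    intro y hy
    by_cases hyx : y * x = x * y
    · exact (hC y (mem_Cx.mpr ⟨hy, hyx⟩)).eq
    · have hdy : d * y ∈ Cx Q x := mem_Cx.mpr ⟨Q.mul_mem hd hy,
        mul_inv_eq_iff_eq_mul.mp (H.h.mul_fix hd ed ((H.h.not_comm_iff hx.1 hy).mp hyx))⟩
      have := (show Commute (c ^ 4) d from h4).inv_right.mul_right (hC _ hdy)
      rwa [inv_mul_cancel_left] at this
  rw [show 8 = 4 + 4 from rfl, pow_add]
  rcases H.h.cent _ hall with e' | e' <;> rw [e']
  exacts [mul_one 1, H.h.zz]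

theorem nu_conj_congr {c a b : G} (hc : c ∈ Sx z x) (ha : a ∈ Cx Q x) (hb : b ∈ Cx Q x)
    (hab : ν a = ν b) : ν (c * a * c⁻¹) = ν (c * b * c⁻¹) := by
  have hu := (H.nu_eq hx K ha hb).mp hab
  refine (H.nu_eq hx K (H.conj_Cx hc ha) (H.conj_Cx hc hb)).mpr ?_
  have : c * a * c⁻¹ * (c * b * c⁻¹)⁻¹ = a * b⁻¹ := by
    calc c * a * c⁻¹ * (c * b * c⁻¹)⁻¹ = c * (a * b⁻¹) * c⁻¹ := by group
      _ = a * b⁻¹ := by rw [H.U_comm hx hu hc, mul_inv_cancel_right]
  rwa [this]

theorem exists_theta : ∃ Θ : ↥(Sx z x) →* (M4 ≃ₗ[ZMod 2] M4),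
    (∀ (c : ↥(Sx z x)) (a : G), a ∈ Cx Q x → Θ c (ν a) = ν ((c : G) * a * (c : G)⁻¹)) ∧
      ∀ c, Θ c = 1 → Triv Q z x (c : G) := by
  classical
  choose s hs1 hs2 using K.surj
  let T : ↥(Sx z x) → M4 → M4 := fun c w => ν ((c : G) * s w * (c : G)⁻¹)
  have hT : ∀ (c : ↥(Sx z x)) (a : G), a ∈ Cx Q x → T c (ν a) = ν ((c : G) * a * (c : G)⁻¹) :=
    fun c a ha => H.nu_conj_congr hx K c.2 (hs1 _) ha (hs2 _)
  have hadd : ∀ c u w, T c (u + w) = T c u + T c w := by
    intro c u w
    obtain ⟨a, ha, rfl⟩ := K.surj u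
    obtain ⟨b, hb, rfl⟩ := K.surj w
    rw [← K.add a ha b hb, hT c _ (mul_mem ha hb), hT c a ha, hT c b hb,
      ← K.add _ (H.conj_Cx c.2 ha) _ (H.conj_Cx c.2 hb)]
    congr 1
    group
  have hmul : ∀ c c' w, T (c * c') w = T c (T c' w) := by
    intro c c' w
    obtain ⟨a, ha, rfl⟩ := K.surj w
    rw [hT _ a ha, hT c' a ha, hT c _ (H.conj_Cx c'.2 ha), coe_mul]
    congr 1
    group
  have hone : ∀ w, T 1 w = w := by
    intro w
    obtain ⟨a, ha, rfl⟩ := K.surj w
    rw [hT 1 a ha]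
    simp
  let L : ↥(Sx z x) → (M4 ≃ₗ[ZMod 2] M4) := fun c =>
    LinearEquiv.ofBijective ((AddMonoidHom.mk' (T c) (hadd c)).toZModLinearMap 2)
      ⟨Function.LeftInverse.injective (g := T c⁻¹) fun w => by
          show T c⁻¹ (T c w) = w
          rw [← hmul, inv_mul_cancel, hone],
        fun w => ⟨T c⁻¹ w, by show T c (T c⁻¹ w) = w; rw [← hmul, mul_inv_cancel, hone]⟩⟩
  let Θ : ↥(Sx z x) →* (M4 ≃ₗ[ZMod 2] M4) :=
    { toFun := L
      map_one' := LinearEquiv.ext hone
      map_mul' := fun c c' => LinearEquiv.ext (hmul c c') }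
  refine ⟨Θ, hT, fun c hc => ⟨c.2, fun a ha => ?_⟩⟩
  refine (H.nu_eq hx K (H.conj_Cx c.2 ha) ha).mp ?_
  rw [← hT c a ha]
  exact LinearEquiv.congr_fun hc (ν a)

omit K in
theorem card_aut : Nat.card (M4 ≃ₗ[ZMod 2] M4) = 20160 := by
  rw [Nat.card_congr (LinearMap.GeneralLinearGroup.generalLinearEquiv (ZMod 2) M4).symm.toEquiv,
    Nat.card_congr (Matrix.GeneralLinearGroup.toLin (n := Fin 4) (R := ZMod 2)).toEquiv.symm,
    Matrix.card_GL_field, ZMod.card, Fin.prod_univ_four]
  norm_num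

omit K in
theorem not_27_dvd : ¬ 27 ∣ Nat.card (Sx z x) := by
  obtain ⟨ν, q, K⟩ := H.exists_coord hx
  obtain ⟨Θ, -, hΘ⟩ := H.exists_theta hx K
  intro h
  rw [← Subgroup.card_mul_index Θ.ker, Subgroup.index_ker] at h
  have hp : IsPGroup 2 Θ.ker := fun c => ⟨3, Subtype.ext (Subtype.ext (by
    have := H.triv_pow hx (hΘ c.1 c.2)
    simpa using this))⟩
  obtain ⟨k, hk⟩ := hp.exists_card_eq
  rw [hk] at h
  have h2 : 27 ∣ Nat.card Θ.range :=
    (Nat.Coprime.pow_right k (by norm_num : Nat.Coprime 27 2)).dvd_of_dvd_mul_left h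
  have h3 := h2.trans ((Subgroup.card_subgroup_dvd_card Θ.range).trans
    (dvd_of_eq (H.card_aut hx)))
  norm_num at h3

end Singular

/-- The non-central involutions of `Q`. -/
def Om (_H : Hyp Q z) : Set G := {y | Sing Q z y}

theorem conj_sing {c y : G} (hc : c ∈ centralizer ({z} : Set G)) (hy : Sing Q z y) :
    Sing Q z (c * y * c⁻¹) := by
  have hcz : c * z = z * c := mem_centralizer_singleton_iff.mp hc
  refine ⟨H.h.norm c hcz y hy.1, ?_, fun e => hy.2.2.1 (conj_eq_one_iff.mp e), fun e => hy.2.2.2 ?_⟩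
  · calc c * y * c⁻¹ * (c * y * c⁻¹) = c * (y * y) * c⁻¹ := by group
      _ = 1 := by rw [hy.2.1]; group
  · calc y = c⁻¹ * (c * y * c⁻¹) * c := by group
      _ = z := by rw [e, mul_assoc, ← hcz, inv_mul_cancel_left]

/-- The conjugation orbit of `x` under the centraliser of `z`. -/
def orb (_H : Hyp Q z) (x : G) : Set G :=
  (fun c => c * x * c⁻¹) '' (centralizer ({z} : Set G) : Set G)

theorem orb_subset (hx : Sing Q z x) : H.orb x ⊆ H.Om := by
  rintro _ ⟨c, hc, rfl⟩
  exact H.conj_sing hc hx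

theorem orb_mul (x : G) : (H.orb x).ncard * Nat.card (Sx z x) = 128 * 25920 := by
  let C := centralizer ({z} : Set G)
  letI : MulAction ↥C G := MulAction.compHom G (ConjAct.toConjAct.toMonoidHom.comp C.subtype)
  have ha : ∀ (c : ↥C) (y : G), c • y = (c : G) * y * (c : G)⁻¹ := fun c y =>
    ConjAct.smul_def (ConjAct.toConjAct (c : G)) y
  have ho : MulAction.orbit ↥C x = H.orb x := by
    ext y
    simp only [MulAction.mem_orbit_iff, orb, Set.mem_image, SetLike.mem_coe, ha]
    exact ⟨fun ⟨c, e⟩ => ⟨c, c.2, e⟩, fun ⟨c, hc, e⟩ => ⟨⟨c, hc⟩, e⟩⟩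
  have hs : Nat.card (MulAction.stabilizer ↥C x) = Nat.card (Sx z x) :=
    Nat.card_congr
      { toFun := fun c => ⟨(c : ↥C), ⟨(c : ↥C).2, mem_centralizer_singleton_iff.mpr
          (mul_inv_eq_iff_eq_mul.mp ((ha c x).symm.trans c.2))⟩⟩
        invFun := fun c => ⟨⟨c, c.2.1⟩, (ha _ x).trans
          (mul_inv_eq_iff_eq_mul.mpr (mem_Sx.mp c.2).2)⟩
        left_inv := fun _ => rfl
        right_inv := fun _ => rfl }
  rw [← ho, ← MulAction.index_stabilizer ↥C x, ← hs, Subgroup.index_mul_card]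
  exact H.cardC

theorem nine_dvd_Om : 9 ∣ (H.Om).ncard := by
  classical
  have key : ∀ x, Sing Q z x → 9 ∣ (H.orb x).ncard := by
    intro x hx
    have hmul := H.orb_mul x
    have ho : (H.orb x).ncard ≠ 0 := fun e => by rw [e] at hmul; simp at hmul
    have hs : Nat.card (Sx z x) ≠ 0 := Nat.card_pos.ne'
    exact pow_dvd_left (p := 3) (m := 2) (n := 2) Nat.prime_three ho hs
      (by rw [hmul]; norm_num) (by norm_num; exact H.not_27_dvd hx)
  -- peel off orbits
  suffices ∀ S : Set G, S ⊆ H.Om → (∀ x ∈ S, H.orb x ⊆ S) → 9 ∣ S.ncard from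
    this _ subset_rfl fun x hx => H.orb_subset hx
  intro S
  induction hn : S.ncard using Nat.strong_induction_on generalizing S with
  | _ n ih =>
    intro hS hcl
    rcases S.eq_empty_or_nonempty with rfl | ⟨x, hx⟩
    · rw [Set.ncard_empty] at hn
      simp [← hn]
    subst hn
    have hxo : x ∈ H.orb x := ⟨1, one_mem _, by simp⟩
    have hlt : (S \ H.orb x).ncard < S.ncard :=
      Set.ncard_lt_ncard ⟨Set.diff_subset, fun hle => (hle hx).2 hxo⟩ (Set.toFinite S)
    have h1 := ih _ hlt (S \ H.orb x) rfl (Set.diff_subset.trans hS) fun y hy w hw => by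
      refine ⟨hcl y hy.1 hw, fun hwx => hy.2 ?_⟩
      obtain ⟨c, hc, rfl⟩ := hw
      obtain ⟨c', hc', e⟩ := hwx
      refine ⟨c⁻¹ * c', mul_mem (inv_mem hc) hc', ?_⟩
      simp only at e
      show c⁻¹ * c' * x * (c⁻¹ * c')⁻¹ = y
      calc c⁻¹ * c' * x * (c⁻¹ * c')⁻¹ = c⁻¹ * (c' * x * c'⁻¹) * c := by group
        _ = y := by rw [e]; group
    rw [← Set.ncard_diff_add_ncard_of_subset (hcl x hx) (Set.toFinite S)]
    exact dvd_add h1 (key x (hS hx))

theorem card_Om (hx : Sing Q z x) {ν : G → M4} {q : M4 → ZMod 2} (K : Coord Q z x ν q) :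
    (H.Om).ncard = 30 + 4 * (Finset.univ.filter fun w => q w = 0).card := by
  classical
  haveI := Fintype.ofFinite G
  let FQ : Finset G := Finset.univ.filter fun a => a ∈ Q
  let I := FQ.filter fun a => a * a = 1
  let O := FQ.filter fun a => a ∉ Cx Q x
  let C := Finset.univ.filter fun a => a ∈ Cx Q x
  have hC : C.card = 64 := by
    rw [← H.card_Cx hx.1 hx.2.2.1 hx.2.2.2, Nat.card_eq_fintype_card, Fintype.card_subtype]
  have hFQ : FQ.card = 128 := by
    rw [← H.cardQ, Nat.card_eq_fintype_card, Fintype.card_subtype]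
  have hCFQ : FQ.filter (fun a => a ∈ Cx Q x) = C := by
    ext a
    simp only [FQ, C, Finset.mem_filter, Finset.mem_univ, true_and]
    exact ⟨fun h => h.2, fun h => ⟨(mem_Cx.mp h).1, h⟩⟩
  have hO : O.card = 64 := by
    have := Finset.card_filter_add_card_filter_not (s := FQ) (fun a => a ∈ Cx Q x)
    rw [hCFQ] at this
    change C.card + O.card = FQ.card at this
    omega
  have hflip : ∀ a ∈ O, a * x ∈ O ∧ (a * x * (a * x) = 1 ↔ ¬ a * a = 1) ∧ a * x * x = a := by
    intro a ha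
    simp only [O, FQ, Finset.mem_filter, Finset.mem_univ, true_and, mem_Cx, not_and] at ha ⊢
    have hne := ha.2 ha.1
    have e : a * x * a⁻¹ = z * x := (H.h.not_comm_iff hx.1 ha.1).mp hne
    refine ⟨⟨Q.mul_mem ha.1 hx.1, fun _ he => hne (mul_right_cancel (b := x) (by
      rwa [mul_assoc x a x]))⟩, ?_, by rw [mul_assoc, hx.2.1, mul_one]⟩
    have e2 : a * x * (a * x) = z * (a * a) := by
      have hx' : a * x = z * x * a := mul_inv_eq_iff_eq_mul.mp e
      have hx2 : x * a = z * (a * x) := by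
        rw [hx', mul_assoc z x a, H.h.z_mul_z_mul]
      calc a * x * (a * x) = a * (x * a) * x := by group
        _ = a * z * (a * (x * x)) := by rw [hx2]; group
        _ = z * (a * a) := by rw [hx.2.1, mul_one, H.h.comm a ha.1]; group
    rcases H.h.sq a ha.1 with w | w <;> rw [e2, w]
    · simp [H.h.ne_one]
    · simp [H.h.zz, H.h.ne_one]
  have hhalf : (O.filter fun a => a * a = 1).card = 32 := by
    have h1 : (O.filter fun a => a * a = 1).card = (O.filter fun a => ¬ a * a = 1).card := by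
      refine Finset.card_bij' (fun a _ => a * x) (fun a _ => a * x) ?_ ?_ ?_ ?_
      · intro a ha
        simp only [Finset.mem_filter] at ha ⊢
        obtain ⟨m, hiff, -⟩ := hflip a ha.1
        exact ⟨m, fun e => hiff.mp e ha.2⟩
      · intro a ha
        simp only [Finset.mem_filter] at ha ⊢
        obtain ⟨m, hiff, -⟩ := hflip a ha.1
        exact ⟨m, hiff.mpr ha.2⟩
      · intro a ha
        exact (hflip a (Finset.mem_filter.mp ha).1).2.2
      · intro a ha
        exact (hflip a (Finset.mem_filter.mp ha).1).2.2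
    have := Finset.card_filter_add_card_filter_not (s := O) (fun a => a * a = 1)
    omega
  have hin : (C.filter fun a => a * a = 1).card =
      4 * (Finset.univ.filter fun w => q w = 0).card := by
    have hmap : ∀ a ∈ C.filter (fun a => a * a = 1), ν a ∈ Finset.univ.filter fun w => q w = 0 := by
      intro a ha
      simp only [C, Finset.mem_filter, Finset.mem_univ, true_and] at ha ⊢
      exact zp_inj H.h.ne_one (by rw [← K.sq a ha.1, ha.2, zp_zero])
    rw [Finset.card_eq_sum_card_fiberwise hmap, Finset.sum_const_nat (m := 4), mul_comm]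
    intro w hw
    simp only [Finset.mem_filter, Finset.mem_univ, true_and] at hw
    obtain ⟨a, ha, rfl⟩ := K.surj w
    obtain ⟨d1, d2, d3⟩ := H.U_distinct hx
    have hset : ((C.filter fun b => b * b = 1).filter fun b => ν b = ν a) =
        ({1, z, x, z * x} : Finset G).image (fun u => u * a) := by
      ext b
      simp only [C, Finset.mem_filter, Finset.mem_univ, true_and, Finset.mem_image,
        Finset.mem_insert, Finset.mem_singleton]
      constructor
      · rintro ⟨⟨hb, -⟩, e⟩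
        exact ⟨b * a⁻¹, (H.nu_eq hx K hb ha).mp e, by group⟩
      · rintro ⟨u, hu, rfl⟩
        have hu' : InU z x u := hu
        have hm : u * a ∈ Cx Q x := mul_mem (H.U_mem hx hu') ha
        have e : ν (u * a) = ν a := (H.nu_eq hx K hm ha).mpr (by rwa [mul_inv_cancel_right])
        exact ⟨⟨hm, by rw [K.sq _ hm, e, hw, zp_zero]⟩, e⟩
    rw [hset, Finset.card_image_of_injective _ (mul_left_injective a),
      Finset.card_insert_of_notMem, Finset.card_insert_of_notMem, Finset.card_pair d3.symm]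
    · simp [hx.2.2.2.symm, d2.symm]
    · simp [H.h.ne_one.symm, hx.2.2.1.symm, d1.symm]
  have hI : I.card = 32 + 4 * (Finset.univ.filter fun w => q w = 0).card := by
    have := Finset.card_filter_add_card_filter_not (s := I) (fun a => a ∈ Cx Q x)
    rw [Finset.filter_comm, hCFQ, hin, Finset.filter_comm] at this
    rw [show (FQ.filter fun a => ¬ a ∈ Cx Q x) = O from rfl, hhalf] at this
    omega
  have hOm : H.Om = ↑((I.erase 1).erase z) := by
    ext a
    simp only [Om, Sing, Set.mem_setOf_eq, Finset.coe_erase, Set.mem_diff, Finset.mem_coe, I, FQ,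
      Finset.mem_filter, Finset.mem_univ, true_and, Set.mem_singleton_iff]
    tauto
  have h1 : (1 : G) ∈ I := by simp [I, FQ]
  have hz : z ∈ I.erase 1 := by simp [I, FQ, H.h.ne_one, H.h.mem, H.h.zz]
  rw [hOm, Set.ncard_coe_finset, Finset.card_erase_of_mem hz, Finset.card_erase_of_mem h1, hI]
  omega

theorem exists_nf (hx : Sing Q z x) : ∃ ν, Coord Q z x ν f := by
  classical
  obtain ⟨ν, q, K⟩ := H.exists_coord hx
  set n := (Finset.univ.filter fun w => q w = 0).card with hn
  have h9 := H.nine_dvd_Om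
  rw [H.card_Om hx K, ← hn] at h9
  have hn16 : n ≤ 16 := (Finset.card_filter_le _ _).trans (by simp)
  have hq0 := H.q_zero hx K
  obtain ⟨c, u, hcu⟩ := eq_qc q hq0 (fun a b => q (a + b) + q a + q b)
    (fun a b => by
      generalize q (a + b) = i
      generalize q a = j
      generalize q b = k
      revert i j k
      decide)
    (fun a a' b => H.polar_add hx K a a' b)
  have hn' : n = 6 ∨ n = 15 := by omega
  rcases hn' with h6 | h15
  · have hlen : (zeros (qc c u)).length = 5 := by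
      have hnd : (zeros (qc c u)).Nodup := vecs_nodup.filter _
      rw [← List.toFinset_card_of_nodup hnd]
      have : (zeros (qc c u)).toFinset = (Finset.univ.filter fun w => q w = 0).erase 0 := by
        ext w
        simp [zeros, mem_vecs, hcu]
      show (zeros (qc c u)).toFinset.card = 5
      rw [this, Finset.card_erase_of_mem (by simp [hq0]), ← hn, h6]
    obtain ⟨hf, hinj⟩ := normal_form c u hlen
    set l := zeros (qc c u)
    let L : M4 →+ M4 := AddMonoidHom.mk' (comb (l.getD 0 0) (l.getD 1 0) (l.getD 2 0) (l.getD 3 0))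
      (comb_add _ _ _ _)
    have hLi : Function.Injective L := (injective_iff_map_eq_zero L).mpr hinj
    let e := Equiv.ofBijective L ⟨hLi, Finite.injective_iff_surjective.mp hLi⟩
    have he : ∀ w, L (e.symm w) = w := e.apply_symm_apply
    refine ⟨fun a => e.symm (ν a), fun a ha b hb => hLi ?_, fun w => ?_, fun a ha => ?_,
      fun a ha => ?_⟩
    · rw [map_add, he, he, he, K.add a ha b hb]
    · obtain ⟨a, ha, e'⟩ := K.surj (L w)
      exact ⟨a, ha, hLi (by rw [he, e'])⟩
    · rw [← K.ker a ha]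
      exact ⟨fun h => by rw [← he (ν a), h, map_zero], fun h => hLi (by rw [he, h, map_zero])⟩
    · rw [K.sq a ha, ← hf (e.symm (ν a)), ← hcu]
      exact congrArg (fun w => zp z (q w)) (he (ν a)).symm
  · exfalso
    have hone : (Finset.univ.filter fun w => ¬ q w = 0).card = 1 := by
      have := Finset.card_filter_add_card_filter_not (s := (Finset.univ : Finset M4))
        (fun w => q w = 0)
      simp only [Finset.card_univ, Fintype.card_fun, ZMod.card, Fintype.card_fin] at this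
      omega
    obtain ⟨w, hw⟩ := Finset.card_eq_one.mp hone
    have hqw : ∀ v, q v = if v = w then 1 else 0 := by
      intro v
      have := Finset.ext_iff.mp hw v
      simp only [Finset.mem_filter, Finset.mem_univ, true_and, Finset.mem_singleton] at this
      split_ifs with h
      · exact (two_eq _).resolve_left (this.mpr h)
      · by_contra h'
        exact h (this.mp h')
    have hw0 : w ≠ 0 := fun e => by
      have := hqw 0
      rw [hq0, if_pos e.symm] at this
      exact absurd this (by decide)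
    obtain ⟨a, b, d, habc⟩ := no_fifteen w hw0
    apply habc
    simp only [← hqw]
    have := H.polar_add hx K a b d
    revert this
    generalize q (a + b + d) = i1
    generalize q (a + b) = i2
    generalize q (a + d) = i3
    generalize q (b + d) = i4
    generalize q a = i5
    generalize q b = i6
    generalize q d = i7
    revert i1 i2 i3 i4 i5 i6 i7
    decide

/-- The action on the five singular points. -/
theorem exists_rho (hx : Sing Q z x) {ν : G → M4} (K : Coord Q z x ν f) :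
    ∃ ρ : ↥(Sx z x) →* Equiv.Perm (Fin 5),
      (∀ (c : ↥(Sx z x)) (a : G), a ∈ Cx Q x → act (ρ c) (ν a) = ν ((c : G) * a * (c : G)⁻¹)) ∧
      ∀ c, ρ c = 1 → Triv Q z x (c : G) := by
  obtain ⟨Θ, hΘ, htriv⟩ := H.exists_theta hx K
  have hf : ∀ c w, f (Θ c w) = f w := by
    intro c w
    obtain ⟨a, ha, rfl⟩ := K.surj w
    rw [hΘ c a ha]
    apply zp_inj H.h.ne_one
    rw [← K.sq a ha, ← K.sq _ (H.conj_Cx c.2 ha)]
    rw [show (c : G) * a * (c : G)⁻¹ * ((c : G) * a * (c : G)⁻¹) = c * (a * a) * (c : G)⁻¹ by group,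
      K.sq a ha]
    rcases two_eq (f (ν a)) with e | e <;> rw [e]
    · simp [zp_zero]
    · rw [zp_one, (mem_Sx.mp c.2).1, mul_inv_cancel_right]
  choose r hr using fun c => exists_perm (Θ c).toLinearMap.toAddMonoidHom
    (fun w hw => (Θ c).injective (hw.trans (map_zero (Θ c)).symm)) (hf c)
  have hr' : ∀ c w, Θ c w = act (r c) w := hr
  let ρ : ↥(Sx z x) →* Equiv.Perm (Fin 5) :=
    { toFun := r
      map_one' := act_inj fun w => by rw [← hr', map_one, act_one]; rfl
      map_mul' := fun c c' => act_inj fun w => by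
        rw [← hr', map_mul, act_mul, ← hr', ← hr']; rfl }
  refine ⟨ρ, fun c a ha => (hr' c (ν a)).symm.trans (hΘ c a ha), fun c hc => htriv c ?_⟩
  refine LinearEquiv.ext fun w => ?_
  rw [hr', show r c = 1 from hc, act_one]
  rfl

theorem not_nine_dvd (hx : Sing Q z x) : ¬ 9 ∣ Nat.card (Sx z x) := by
  obtain ⟨ν, K⟩ := H.exists_nf hx
  obtain ⟨ρ, -, hρ⟩ := H.exists_rho hx K
  intro h
  rw [← Subgroup.card_mul_index ρ.ker, Subgroup.index_ker] at h
  have hp : IsPGroup 2 ρ.ker := fun c => ⟨3, Subtype.ext (Subtype.ext (by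
    have := H.triv_pow hx (hρ c.1 c.2)
    simpa using this))⟩
  obtain ⟨k, hk⟩ := hp.exists_card_eq
  rw [hk] at h
  have h2 : 9 ∣ Nat.card ρ.range :=
    (Nat.Coprime.pow_right k (by norm_num : Nat.Coprime 9 2)).dvd_of_dvd_mul_left h
  have h3 := h2.trans (Subgroup.card_subgroup_dvd_card ρ.range)
  rw [Nat.card_perm, Nat.card_fin] at h3
  exact absurd h3 (by decide)

theorem orb_eq (hx : Sing Q z x) :
    H.orb x = H.Om ∧ (H.Om).ncard = 54 ∧ Nat.card (Sx z x) = 61440 := by
  classical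
  obtain ⟨ν, K⟩ := H.exists_nf hx
  have hOm : (H.Om).ncard = 54 := by
    rw [H.card_Om hx K, show (Finset.univ.filter fun w => f w = 0).card = 6 by decide +kernel]
  have hle : (H.orb x).ncard ≤ 54 := hOm ▸ Set.ncard_le_ncard (H.orb_subset hx) (Set.toFinite _)
  have hmul := H.orb_mul x
  have ho : (H.orb x).ncard ≠ 0 := fun e => by rw [e] at hmul; simp at hmul
  have h27 : 3 ^ 3 ∣ (H.orb x).ncard :=
    pow_dvd_left (m := 3) (n := 1) Nat.prime_three ho Nat.card_pos.ne'
      (by rw [hmul]; norm_num) (by norm_num; exact H.not_nine_dvd hx)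
  have h2 : 2 ∣ (H.orb x).ncard := by
    letI : MulAction ↥Q ↥(H.orb x) :=
      { smul := fun a w => ⟨(a : G) * w * (a : G)⁻¹, by
          obtain ⟨c, hc, e⟩ := w.2
          exact ⟨a * c, mul_mem (mem_centralizer_singleton_iff.mpr (H.h.comm a a.2)) hc, by
            show (a : G) * c * x * ((a : G) * c)⁻¹ = _
            rw [← e]; group⟩⟩
        one_smul := fun w => Subtype.ext (by show (1 : G) * w * 1⁻¹ = _; group)
        mul_smul := fun a b w => Subtype.ext (by
          show (a : G) * b * w * ((a : G) * b)⁻¹ = a * (b * w * (b : G)⁻¹) * (a : G)⁻¹; group) }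
    haveI : Fact (Nat.Prime 2) := ⟨Nat.prime_two⟩
    have hm := H.h.toExt.isPGroup.card_modEq_card_fixedPoints ↥(H.orb x)
    haveI : IsEmpty ↥(MulAction.fixedPoints ↥Q ↥(H.orb x)) := ⟨fun ⟨w, hw⟩ => by
      have hs := H.orb_subset hx w.2
      obtain ⟨d, hd, ed⟩ := H.h.partner w hs.1 hs.2.2.1 hs.2.2.2
      exact H.h.z_mul_ne (w : G) (ed.symm.trans (congrArg Subtype.val (hw ⟨d, hd⟩)))⟩
    rw [Nat.card_of_isEmpty (α := ↥(MulAction.fixedPoints ↥Q ↥(H.orb x))),
      Nat.card_coe_set_eq, Nat.modEq_zero_iff_dvd] at hm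
    exact hm
  have h54 : (H.orb x).ncard = 54 := by
    have : 54 ∣ (H.orb x).ncard :=
      Nat.Coprime.mul_dvd_of_dvd_of_dvd (by norm_num : Nat.Coprime 2 27) h2 (by simpa using h27)
    have := Nat.le_of_dvd (Nat.pos_of_ne_zero ho) this
    omega
  refine ⟨Set.eq_of_subset_of_ncard_le (H.orb_subset hx) (by omega) (Set.toFinite _), hOm, ?_⟩
  rw [h54] at hmul
  omega

theorem transitive (hx : Sing Q z x) {y : G} (hy : Sing Q z y) :
    ∃ c, c * z = z * c ∧ c * x * c⁻¹ = y := by
  have : y ∈ H.orb x := (H.orb_eq hx).1 ▸ hy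
  obtain ⟨c, hc, e⟩ := this
  exact ⟨c, mem_centralizer_singleton_iff.mp hc, e⟩

end Hyp

end Cfsg.Agent.SuzTypeCoord62
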