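import Mathlib
import Cfsg.Agent.Lib.LargeExtraspecial
import Cfsg.Agent.Lib.HallCore

/-!
# Two large extraspecial conjugates with centres in each other

For a large extraspecial `Q` with centre `{1, z}` and a conjugate `z' ≠ z` lying in `Q`, the group
`X = Q Q'` and the kernel `R` of its action on the four-group `{1, z, z', z z'}`.
-/

set_option autoImplicit false

namespace Cfsg.Agent.LargeExtraspecialPair

open LargeExtraspecial

variable {G : Type*} [Group G] [Finite G]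

/-- `Q'` is the conjugate of `Q` with centre `z'`; each centre lies in the other group. -/
structure Pair (Q Q' : Subgroup G) (z z' : G) : Prop where
  h : LHyp Q z
  h' : LHyp Q' z'
  ne : z' ≠ z
  z'Q : z' ∈ Q
  zQ' : z ∈ Q'
  conj_eq : ∀ a b : G, a * z' * a⁻¹ = b * z * b⁻¹ →
    ∀ x ∈ Q', ∃ y ∈ Q, a * x * a⁻¹ = b * y * b⁻¹

theorem pair_of_conj {Q : Subgroup G} {z : G} (h : LHyp Q z) {g : G} (hgQ : g * z * g⁻¹ ∈ Q)
    (hgz : g * z * g⁻¹ ≠ z) (hcard : 32 ≤ Nat.card Q) :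
    Pair Q (Q.map (MulAut.conj g).toMonoidHom) z (g * z * g⁻¹) := by
  refine ⟨h, h.map_conj g, hgz, hgQ, h.z_mem_conj hgQ hgz hcard, fun a b e => ?_⟩
  rintro _ ⟨x, hx, rfl⟩
  have hle := h.map_conj_congr (a := a * g) (b := b) (by rw [← e]; group)
  obtain ⟨y, hy, ey⟩ := hle ⟨x, hx, rfl⟩
  simp only [MulEquiv.coe_toMonoidHom, MulAut.conj_apply] at ey ⊢
  exact ⟨y, hy, by rw [ey]; group⟩

namespace Pair

variable {Q Q' : Subgroup G} {z z' : G} (P : Pair Q Q' z z')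

/-- `C_Q(z')`. -/
def C (_P : Pair Q Q' z z') : Subgroup G := Q ⊓ Subgroup.centralizer ({z'} : Set G)

/-- `C_{Q'}(z)`. -/
def C' (_P : Pair Q Q' z z') : Subgroup G := Q' ⊓ Subgroup.centralizer ({z} : Set G)

/-- The product of the two centralizers. -/
def R : Subgroup G := P.C' ⊔ P.C

/-- The intersection. -/
def E (_P : Pair Q Q' z z') : Subgroup G := Q ⊓ Q'

/-- The four group. -/
def V (_P : Pair Q Q' z z') : Subgroup G := Subgroup.closure ({z, z'} : Set G)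

/-- The group generated by both. -/
def X (_P : Pair Q Q' z z') : Subgroup G := Q ⊔ Q'

include P

theorem mem_C {c : G} : c ∈ P.C ↔ c ∈ Q ∧ c * z' = z' * c := by
  rw [C, Subgroup.mem_inf, Subgroup.mem_centralizer_singleton_iff]

theorem mem_C' {c : G} : c ∈ P.C' ↔ c ∈ Q' ∧ c * z = z * c := by
  rw [C', Subgroup.mem_inf, Subgroup.mem_centralizer_singleton_iff]

theorem hzz' : z * z' = z' * z := (P.h.comm z' P.z'Q).symm

theorem C_C' {c c' : G} (hc : c ∈ P.C) (hc' : c' ∈ P.C') :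
    c * c' * c⁻¹ ∈ P.C' ∧ c' * c * c'⁻¹ ∈ P.C := by
  obtain ⟨hcQ, hcz⟩ := P.mem_C.mp hc
  obtain ⟨hcQ', hcz'⟩ := P.mem_C'.mp hc'
  have c1 : Commute c' z' := P.h'.comm c' hcQ'
  have c2 : Commute c z := P.h.comm c hcQ
  have m1 : c * c' * c⁻¹ ∈ Q' := P.h'.norm c hcz c' hcQ'
  have m2 : c' * c * c'⁻¹ ∈ Q := P.h.norm c' hcz' c hcQ
  refine ⟨P.mem_C'.mpr ⟨m1, ?_⟩, P.mem_C.mpr ⟨m2, ?_⟩⟩
  · exact ((c2.mul_left hcz').mul_left c2.inv_left).eq
  · exact ((c1.mul_left hcz).mul_left c1.inv_left).eq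

theorem E_le_C : P.E ≤ P.C := fun _ he => P.mem_C.mpr ⟨he.1, P.h'.comm _ he.2⟩

theorem E_le_C' : P.E ≤ P.C' := fun _ he => P.mem_C'.mpr ⟨he.2, P.h.comm _ he.1⟩

theorem inf_eq : P.C' ⊓ P.C = P.E := by
  refine le_antisymm (fun x hx => ⟨(P.mem_C.mp hx.2).1, (P.mem_C'.mp hx.1).1⟩)
    (le_inf P.E_le_C' P.E_le_C)

theorem one_or {a : G} (h1 : a = 1 ∨ a = z) (h2 : a = 1 ∨ a = z') : a = 1 := by
  rcases h1 with e | e
  · exact e
  · rcases h2 with e' | e'
    · exact e'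
    · exact absurd (e'.symm.trans e) P.ne

theorem E_sq {e : G} (he : e ∈ P.E) : e * e = 1 :=
  P.one_or (P.h.sq e he.1) (P.h'.sq e he.2)

theorem comm_cases {Q₀ : Subgroup G} {z₀ : G} (h : LHyp Q₀ z₀) {x y : G} (hx : x ∈ Q₀)
    (hy : y ∈ Q₀) : x * y * x⁻¹ * y⁻¹ = 1 ∨ x * y * x⁻¹ * y⁻¹ = z₀ := by
  rcases h.conj x hx y hy with e | e
  · exact Or.inl (by rw [e, mul_inv_cancel])
  · exact Or.inr (by rw [e, mul_inv_cancel_right])

theorem E_comm {a b : G} (ha : a ∈ P.E) (hb : b ∈ P.E) : a * b = b * a :=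
  mul_inv_eq_iff_eq_mul.mp (mul_inv_eq_one.mp
    (P.one_or (P.comm_cases P.h ha.1 hb.1) (P.comm_cases P.h' ha.2 hb.2)))

theorem z_mem_E : z ∈ P.E := ⟨P.h.mem, P.zQ'⟩

theorem z'_mem_E : z' ∈ P.E := ⟨P.z'Q, P.h'.mem⟩

theorem V_le_E : P.V ≤ P.E := (Subgroup.closure_le _).mpr (by
  rintro x (rfl | rfl)
  exacts [P.z_mem_E, P.z'_mem_E])

theorem z_mem_V : z ∈ P.V := Subgroup.subset_closure (by simp)

theorem z'_mem_V : z' ∈ P.V := Subgroup.subset_closure (by simp)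

theorem mem_V {v : G} : v ∈ P.V ↔ v = 1 ∨ v = z ∨ v = z' ∨ v = z * z' := by
  constructor
  · intro hv
    have e1 : z * (z * z') = z' := by rw [← mul_assoc, P.h.zz, one_mul]
    have e2 : z' * (z * z') = z := by rw [P.hzz', ← mul_assoc, P.h'.zz, one_mul]
    have e3 : z * (z' * z) = z' := by rw [← P.hzz']; exact e1
    have e4 : z' * (z' * z) = z := by rw [← P.hzz']; exact e2
    induction hv using Subgroup.closure_induction_left with
    | one => exact Or.inl rfl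
    | mul_left a ha y _ ih =>
      rcases ha with rfl | rfl <;> rcases ih with rfl | rfl | rfl | rfl <;>
        simp [P.h.zz, P.h'.zz, e1, e2, e3, e4, P.hzz']
    | inv_mul_cancel a ha y _ ih =>
      rcases ha with rfl | rfl <;> rcases ih with rfl | rfl | rfl | rfl <;>
        simp [P.h.zz, P.h'.zz, P.h.toExt.inv_z, P.h'.toExt.inv_z, e1, e2, e3, e4, P.hzz']
  · rintro (rfl | rfl | rfl | rfl)
    exacts [one_mem _, P.z_mem_V, P.z'_mem_V, mul_mem P.z_mem_V P.z'_mem_V]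

theorem R_cent {r : G} (hr : r ∈ P.R) : r * z = z * r ∧ r * z' = z' * r := by
  have h1 : P.R ≤ Subgroup.centralizer ({z} : Set G) ⊓ Subgroup.centralizer ({z'} : Set G) := by
    refine sup_le (fun c hc => ?_) (fun c hc => ?_) <;>
      rw [Subgroup.mem_inf, Subgroup.mem_centralizer_singleton_iff,
        Subgroup.mem_centralizer_singleton_iff]
    · exact ⟨(P.mem_C'.mp hc).2, P.h'.comm c (P.mem_C'.mp hc).1⟩
    · exact ⟨P.h.comm c (P.mem_C.mp hc).1, (P.mem_C.mp hc).2⟩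
  have h2 := h1 hr
  rwa [Subgroup.mem_inf, Subgroup.mem_centralizer_singleton_iff,
    Subgroup.mem_centralizer_singleton_iff] at h2

theorem R_eq_closure : P.R = Subgroup.closure ((P.C' : Set G) ∪ P.C) := by
  rw [R, Subgroup.closure_union, Subgroup.closure_eq, Subgroup.closure_eq]

theorem E_norm {c e : G} (hc : c ∈ P.C ∨ c ∈ P.C') (he : e ∈ P.E) : c * e * c⁻¹ ∈ P.E := by
  rcases hc with hc | hc
  · exact ⟨Q.mul_mem (Q.mul_mem (P.mem_C.mp hc).1 he.1) (Q.inv_mem (P.mem_C.mp hc).1),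
      P.h'.norm c (P.mem_C.mp hc).2 e he.2⟩
  · exact ⟨P.h.norm c (P.mem_C'.mp hc).2 e he.1,
      Q'.mul_mem (Q'.mul_mem (P.mem_C'.mp hc).1 he.2) (Q'.inv_mem (P.mem_C'.mp hc).1)⟩

omit P in
/-- Commutators of products. -/
theorem comm_closure {S : Set G} {N : Subgroup G} (hnorm : ∀ s ∈ S, ∀ e ∈ N, s * e * s⁻¹ ∈ N)
    (hnorm' : ∀ s ∈ S, ∀ e ∈ N, s⁻¹ * e * s ∈ N)
    (hcomm : ∀ s ∈ S, ∀ t ∈ S, s * t * s⁻¹ * t⁻¹ ∈ N) {x y : G}
    (hx : x ∈ Subgroup.closure S) (hy : y ∈ Subgroup.closure S) :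
    x * y * x⁻¹ * y⁻¹ ∈ N := by
  have hn : Subgroup.closure S ≤ Subgroup.normalizer (N : Set G) :=
    (Subgroup.closure_le _).mpr fun s hs => Subgroup.mem_normalizer_fintype (hnorm s hs)
  have nc : ∀ {a}, a ∈ Subgroup.closure S → ∀ {e}, e ∈ N → a * e * a⁻¹ ∈ N := fun ha e he =>
    (Subgroup.mem_normalizer_iff.mp (hn ha) e).mp he
  have step : ∀ s ∈ S, ∀ {b}, b ∈ Subgroup.closure S → s * b * s⁻¹ * b⁻¹ ∈ N := by
    intro s hs b hb
    induction hb using Subgroup.closure_induction with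
    | mem t ht => exact hcomm s hs t ht
    | one => simp
    | mul a b ha _ iha ihb =>
      rw [show s * (a * b) * s⁻¹ * (a * b)⁻¹ =
        (s * a * s⁻¹ * a⁻¹) * (a * (s * b * s⁻¹ * b⁻¹) * a⁻¹) by group]
      exact mul_mem iha (nc ha ihb)
    | inv a ha iha =>
      rw [show s * a⁻¹ * s⁻¹ * a⁻¹⁻¹ = a⁻¹ * (s * a * s⁻¹ * a⁻¹)⁻¹ * a⁻¹⁻¹ by group]
      exact nc (inv_mem ha) (inv_mem iha)
  induction hx using Subgroup.closure_induction with
  | mem s hs => exact step s hs hy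
  | one => simp
  | mul a b ha _ iha ihb =>
    rw [show a * b * y * (a * b)⁻¹ * y⁻¹ =
      (a * (b * y * b⁻¹ * y⁻¹) * a⁻¹) * (a * y * a⁻¹ * y⁻¹) by group]
    exact mul_mem (nc ha ihb) iha
  | inv a ha iha =>
    rw [show a⁻¹ * y * a⁻¹⁻¹ * y⁻¹ = a⁻¹ * (a * y * a⁻¹ * y⁻¹)⁻¹ * a⁻¹⁻¹ by group]
    exact nc (inv_mem ha) (inv_mem iha)

theorem R_comm {x y : G} (hx : x ∈ P.R) (hy : y ∈ P.R) : x * y * x⁻¹ * y⁻¹ ∈ P.E := by
  rw [P.R_eq_closure] at hx hy
  refine comm_closure (fun s hs e he => P.E_norm hs.symm he) (fun s hs e he => ?_)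
    (fun s hs t ht => ?_) hx hy
  · have := P.E_norm (c := s⁻¹) (hs.symm.imp inv_mem inv_mem) he
    rwa [inv_inv] at this
  · rcases hs with hs | hs <;> rcases ht with ht | ht
    · rcases P.comm_cases P.h' (P.mem_C'.mp hs).1 (P.mem_C'.mp ht).1 with e | e <;> rw [e]
      exacts [one_mem _, P.z'_mem_E]
    · rw [← P.inf_eq]
      refine ⟨?_, P.C.mul_mem (P.C_C' ht hs).2 (P.C.inv_mem ht)⟩
      rw [show s * t * s⁻¹ * t⁻¹ = s * (t * s⁻¹ * t⁻¹) by group]
      exact P.C'.mul_mem hs (P.C_C' ht (P.C'.inv_mem hs)).1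
    · rw [← P.inf_eq]
      refine ⟨P.C'.mul_mem (P.C_C' hs ht).1 (P.C'.inv_mem ht), ?_⟩
      rw [show s * t * s⁻¹ * t⁻¹ = s * (t * s⁻¹ * t⁻¹) by group]
      exact P.C.mul_mem hs (P.C_C' (P.C.inv_mem hs) ht).2
    · rcases P.comm_cases P.h (P.mem_C.mp hs).1 (P.mem_C.mp ht).1 with e | e <;> rw [e]
      exacts [one_mem _, P.z_mem_E]

theorem R_sq {x : G} (hx : x ∈ P.R) : x ^ 2 ∈ P.E := by
  rw [P.R_eq_closure] at hx
  have hE : ∀ {v : G}, v = 1 ∨ v = z ∨ v = z' → v ∈ P.E := by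
    rintro v (rfl | rfl | rfl)
    exacts [one_mem _, P.z_mem_E, P.z'_mem_E]
  induction hx using Subgroup.closure_induction with
  | mem c hc =>
    rw [pow_two]
    rcases hc with hc | hc
    · exact hE ((P.h'.sq c (P.mem_C'.mp hc).1).imp id Or.inr)
    · exact hE ((P.h.sq c (P.mem_C.mp hc).1).imp id Or.inl)
  | one => simp
  | mul a b ha hb iha ihb =>
    rw [← P.R_eq_closure] at ha hb
    have hc := P.R_comm ha (mul_mem hb ha)
    have conjE : a * (b ^ 2) * a⁻¹ ∈ P.E := by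
      have hn : P.R ≤ Subgroup.normalizer (P.E : Set G) := sup_le
        (fun c hc => Subgroup.mem_normalizer_fintype fun e he => P.E_norm (Or.inr hc) he)
        (fun c hc => Subgroup.mem_normalizer_fintype fun e he => P.E_norm (Or.inl hc) he)
      exact (Subgroup.mem_normalizer_iff.mp (hn ha) _).mp ihb
    have hk := P.R_comm hb ha
    have hn : P.R ≤ Subgroup.normalizer (P.E : Set G) := sup_le
      (fun c hc => Subgroup.mem_normalizer_fintype fun e he => P.E_norm (Or.inr hc) he)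
      (fun c hc => Subgroup.mem_normalizer_fintype fun e he => P.E_norm (Or.inl hc) he)
    have hk' : a * (b * a * b⁻¹ * a⁻¹) * a⁻¹ ∈ P.E :=
      (Subgroup.mem_normalizer_iff.mp (hn ha) _).mp hk
    rw [show (a * b) ^ 2 = (a * (b * a * b⁻¹ * a⁻¹) * a⁻¹) * (a ^ 2) * b ^ 2 by
      simp only [pow_two]; group]
    exact mul_mem (mul_mem hk' iha) ihb
  | inv a _ iha => rw [inv_pow]; exact inv_mem iha

theorem E_comm_V {x e : G} (hx : x ∈ P.X) (he : e ∈ P.E) :
    x * e * x⁻¹ * e⁻¹ ∈ P.V ∧ x * e * x⁻¹ ∈ P.E := by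
  have hX : P.X ≤ Subgroup.normalizer (P.V : Set G) := by
    refine sup_le (fun q hq => Subgroup.mem_normalizer_fintype fun v hv => ?_)
      (fun q hq => Subgroup.mem_normalizer_fintype fun v hv => ?_)
    · rcases P.h.conj q hq v ((P.V_le_E hv).1) with e | e <;> rw [e]
      exacts [hv, mul_mem P.z_mem_V hv]
    · rcases P.h'.conj q hq v ((P.V_le_E hv).2) with e | e <;> rw [e]
      exacts [hv, mul_mem P.z'_mem_V hv]
  have hX' : ∀ a ∈ Subgroup.closure ((Q : Set G) ∪ Q'), a ∈ Subgroup.normalizer (P.V : Set G) :=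
    fun a ha => hX (by rwa [Subgroup.closure_union, Subgroup.closure_eq, Subgroup.closure_eq] at ha)
  suffices key : x * e * x⁻¹ * e⁻¹ ∈ P.V by
    refine ⟨key, ?_⟩
    have := mul_mem (P.V_le_E key) he
    rwa [inv_mul_cancel_right] at this
  rw [X] at hx
  rw [← Subgroup.closure_eq Q, ← Subgroup.closure_eq Q', ← Subgroup.closure_union] at hx
  induction hx using Subgroup.closure_induction generalizing e with
  | mem q hq =>
    rcases hq with hq | hq
    · rcases P.comm_cases P.h hq he.1 with h' | h' <;> rw [h']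
      exacts [one_mem _, P.z_mem_V]
    · rcases P.comm_cases P.h' hq he.2 with h' | h' <;> rw [h']
      exacts [one_mem _, P.z'_mem_V]
  | one => simp
  | mul a b ha _ iha ihb =>
    rw [show a * b * e * (a * b)⁻¹ * e⁻¹ =
      (a * (b * e * b⁻¹ * e⁻¹) * a⁻¹) * (a * e * a⁻¹ * e⁻¹) by group]
    exact mul_mem ((Subgroup.mem_normalizer_iff.mp (hX' a ha) _).mp (ihb he)) (iha he)
  | inv a ha iha =>
    rw [show a⁻¹ * e * a⁻¹⁻¹ * e⁻¹ = a⁻¹ * (a * e * a⁻¹ * e⁻¹)⁻¹ * a⁻¹⁻¹ by group]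
    exact (Subgroup.mem_normalizer_iff.mp (hX' _ (inv_mem ha)) _).mp (inv_mem (iha he))

theorem V_comm {v r : G} (hr : r ∈ P.R) (hv : v ∈ P.V) : r * v = v * r := by
  obtain ⟨h1, h2⟩ := P.R_cent hr
  rcases P.mem_V.mp hv with rfl | rfl | rfl | rfl
  exacts [by simp, h1, h2, (show Commute r z from h1).mul_right h2]

theorem V_le_R : P.V ≤ P.R := P.V_le_E.trans (P.E_le_C.trans le_sup_right)

/-- The centre of `R`. -/
theorem center_R {x : G} (hx : x ∈ P.R) (hc : ∀ r ∈ P.R, r * x = x * r) : x ∈ P.V := by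
  obtain ⟨q, hq, eq⟩ := P.h.partner z' P.z'Q P.h'.ne_one P.ne
  have hxz := (P.R_cent hx).1
  have hCn : ∀ c ∈ P.C, q⁻¹ * c * q ∈ P.C := by
    intro c hc'
    obtain ⟨hcQ, hcz⟩ := P.mem_C.mp hc'
    rcases P.h.conj q⁻¹ (Q.inv_mem hq) c hcQ with e | e <;> rw [inv_inv] at e <;> rw [e]
    · exact hc'
    · exact P.C.mul_mem (P.E_le_C P.z_mem_E) hc'
  set m := x * q * x⁻¹ * q⁻¹ with hm
  have hmQ : m ∈ Q := Q.mul_mem (P.h.norm x hxz q hq) (Q.inv_mem hq)
  have hmc : ∀ s ∈ Q, s * z' = z' * s → s * m = m * s := by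
    intro s hs hsz
    have hsC := P.mem_C.mpr ⟨hs, hsz⟩
    have e1 := hc _ ((le_sup_right : P.C ≤ P.R) (hCn s hsC))
    have e2 := hc s ((le_sup_right : P.C ≤ P.R) hsC)
    calc s * m = (s * x) * q * x⁻¹ * q⁻¹ := by rw [hm]; group
      _ = x * q * ((q⁻¹ * s * q) * x⁻¹) * q⁻¹ := by rw [e2]; group
      _ = x * q * (x⁻¹ * (q⁻¹ * s * q)) * q⁻¹ := by
          rw [(show Commute (q⁻¹ * s * q) x from e1).inv_right.eq]
      _ = m * s := by rw [hm]; group
  have fix_case : ∀ t, t ∈ P.C → (∀ c ∈ P.C, t * c = c * t) → x * q * x⁻¹ = t⁻¹ * q * t →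
      ∀ y ∈ Q, (t * x) * y = y * (t * x) := by
    intro t _ htc hxq y hy
    have hC : ∀ c ∈ P.C, Commute (t * x) c := fun c hc' =>
      (show Commute t c from htc c hc').mul_left (hc c ((le_sup_right : P.C ≤ P.R) hc')).symm
    have hqc : Commute (t * x) q := by
      show t * x * q = q * (t * x)
      calc t * x * q = t * (x * q * x⁻¹) * x := by group
        _ = q * (t * x) := by rw [hxq]; group
    by_cases hyz : y * z' = z' * y
    · exact hC y (P.mem_C.mpr ⟨hy, hyz⟩)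
    · have hyq : (q * y) * z' * (q * y)⁻¹ = z' :=
        P.h.mul_fix hq eq ((P.h.not_comm_iff P.z'Q hy).mp hyz)
      have := hqc.inv_right.mul_right
        (hC (q * y) (P.mem_C.mpr ⟨Q.mul_mem hq hy, mul_inv_eq_iff_eq_mul.mp hyq⟩))
      rwa [inv_mul_cancel_left] at this
  have hqz' : q * z' = z * z' * q := mul_inv_eq_iff_eq_mul.mp eq
  have bad : ∀ v, v = z' ∨ v = z * z' → m ≠ v := by
    intro v hv hmv
    have exq : x * q * x⁻¹ = v * q := by rw [← hmv, hm]; group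
    have hq2 : x * (q * q) * x⁻¹ = q * q := by
      rcases P.h.sq q hq with e | e <;> rw [e]
      · group
      · rw [hxz, mul_inv_cancel_right]
    have e3 : v * q * (v * q) = q * q := by
      rw [← exq]
      calc x * q * x⁻¹ * (x * q * x⁻¹) = x * (q * q) * x⁻¹ := by group
        _ = q * q := hq2
    have hqz : q * z = z * q := P.h.comm q hq
    have e4 : v * q * (v * q) = z * (q * q) := by
      have hz'2 : z' * (z * z') = z := by rw [P.hzz', ← mul_assoc, P.h'.zz, one_mul]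
      rcases hv with hv | hv <;> rw [hv]
      · calc z' * q * (z' * q) = z' * (q * z') * q := by group
          _ = (z' * (z * z')) * (q * q) := by rw [hqz']; group
          _ = z * (q * q) := by rw [hz'2]
      · calc z * z' * q * (z * z' * q) = z * z' * (q * z) * z' * q := by group
          _ = z * (z' * z) * (q * z') * q := by rw [hqz]; group
          _ = z * (z * z') * (z * z') * (q * q) := by rw [← P.hzz', hqz']; group
          _ = z * (q * q) := by
              rw [← mul_assoc z z z', P.h.zz, one_mul, hz'2]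
    exact P.h.z_mul_ne _ (e4.symm.trans e3)
  have hcz' : ∀ c ∈ P.C, z' * c = c * z' := fun c hc' => (P.mem_C.mp hc').2.symm
  rcases P.h.double_centralizer P.z'Q hmQ hmc with e | e | e | e
  · rcases P.h.cent (1 * x) (fix_case 1 (one_mem _) (by simp)
      (by rw [inv_one, one_mul, mul_one]; exact mul_inv_eq_one.mp e)) with e' | e' <;>
      rw [one_mul] at e' <;> rw [e']
    exacts [one_mem _, P.z_mem_V]
  · have hxq : x * q * x⁻¹ = z'⁻¹ * q * z' := by
      rw [P.h'.toExt.inv_z]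
      calc x * q * x⁻¹ = z * q := mul_inv_eq_iff_eq_mul.mp e
        _ = (z' * z') * z * q := by rw [P.h'.zz, one_mul]
        _ = z' * (z * z') * q := by rw [P.hzz']; group
        _ = z' * q * z' := by rw [mul_assoc z' q z', hqz', mul_assoc z' (z * z') q]
    rcases P.h.cent (z' * x) (fix_case z' (P.E_le_C P.z'_mem_E) hcz' hxq) with e' | e'
    · rw [← inv_eq_of_mul_eq_one_right e', P.h'.toExt.inv_z]; exact P.z'_mem_V
    · rw [eq_inv_mul_of_mul_eq e', P.h'.toExt.inv_z]; exact mul_mem P.z'_mem_V P.z_mem_V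
  · exact absurd (e.trans P.h'.toExt.inv_z) (bad _ (Or.inl rfl))
  · exact absurd (by rw [e, P.h'.toExt.inv_z]) (bad _ (Or.inr rfl))

/-- `R` is a 2-group. -/
theorem R_pow {x : G} (hx : x ∈ P.R) : x ^ 4 = 1 := by
  rw [show (4 : ℕ) = 2 * 2 from rfl, pow_mul, pow_two (x ^ 2)]
  exact P.E_sq (P.R_sq hx)

theorem C_conj {q c : G} (hq : q ∈ Q) (hc : c ∈ P.C) : q * c * q⁻¹ ∈ P.C := by
  rcases P.h.conj q hq c (P.mem_C.mp hc).1 with e | e <;> rw [e]
  exacts [hc, P.C.mul_mem (P.E_le_C P.z_mem_E) hc]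

theorem C'_conj {q c : G} (hq : q ∈ Q') (hc : c ∈ P.C') : q * c * q⁻¹ ∈ P.C' := by
  rcases P.h'.conj q hq c (P.mem_C'.mp hc).1 with e | e <;> rw [e]
  exacts [hc, P.C'.mul_mem (P.E_le_C' P.z'_mem_E) hc]

theorem Q_conj_C' {q a : G} (hq : q ∈ Q) (ha : a ∈ P.C') : q * a * q⁻¹ ∈ P.R := by
  obtain ⟨haQ, haz⟩ := P.mem_C'.mp ha
  have hm : q * a * q⁻¹ * a⁻¹ ∈ Q := by
    rw [show q * a * q⁻¹ * a⁻¹ = q * (a * q⁻¹ * a⁻¹) by group]
    exact Q.mul_mem hq (P.h.norm a haz _ (Q.inv_mem hq))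
  have haz' : Commute a z' := P.h'.comm a haQ
  have haV : Commute a (q⁻¹ * z' * q⁻¹⁻¹) := by
    rcases P.h.conj q⁻¹ (Q.inv_mem hq) z' P.z'Q with e | e <;> rw [e]
    exacts [haz', (show Commute a z from haz).mul_right haz']
  have hfix : (q * a * q⁻¹ * a⁻¹) * z' = z' * (q * a * q⁻¹ * a⁻¹) := by
    calc q * a * q⁻¹ * a⁻¹ * z' = q * a * q⁻¹ * (a⁻¹ * z') := by group
      _ = q * (a * (q⁻¹ * z' * q⁻¹⁻¹)) * q⁻¹ * a⁻¹ := by rw [haz'.inv_left.eq]; group
      _ = z' * (q * a * q⁻¹ * a⁻¹) := by rw [haV.eq]; group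
  have := mul_mem (le_sup_right (a := P.C') (P.mem_C.mpr ⟨hm, hfix⟩))
    ((le_sup_left : P.C' ≤ P.R) ha)
  rwa [inv_mul_cancel_right] at this

theorem Q'_conj_C {q c : G} (hq : q ∈ Q') (hc : c ∈ P.C) : q * c * q⁻¹ ∈ P.R := by
  obtain ⟨hcQ, hcz⟩ := P.mem_C.mp hc
  have hm : q * c * q⁻¹ * c⁻¹ ∈ Q' := by
    rw [show q * c * q⁻¹ * c⁻¹ = q * (c * q⁻¹ * c⁻¹) by group]
    exact Q'.mul_mem hq (P.h'.norm c hcz _ (Q'.inv_mem hq))
  have hcz' : Commute c z := P.h.comm c hcQ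
  have hcV : Commute c (q⁻¹ * z * q⁻¹⁻¹) := by
    rcases P.h'.conj q⁻¹ (Q'.inv_mem hq) z P.zQ' with e | e <;> rw [e]
    exacts [hcz', (show Commute c z' from hcz).mul_right hcz']
  have hfix : (q * c * q⁻¹ * c⁻¹) * z = z * (q * c * q⁻¹ * c⁻¹) := by
    calc q * c * q⁻¹ * c⁻¹ * z = q * c * q⁻¹ * (c⁻¹ * z) := by group
      _ = q * (c * (q⁻¹ * z * q⁻¹⁻¹)) * q⁻¹ * c⁻¹ := by rw [hcz'.inv_left.eq]; group
      _ = z * (q * c * q⁻¹ * c⁻¹) := by rw [hcV.eq]; group
  have := mul_mem ((le_sup_left : P.C' ≤ P.R) (P.mem_C'.mpr ⟨hm, hfix⟩))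
    ((le_sup_right : P.C ≤ P.R) hc)
  rwa [inv_mul_cancel_right] at this

theorem R_le_X : P.R ≤ P.X :=
  sup_le (inf_le_left.trans le_sup_right) (inf_le_left.trans le_sup_left)

theorem X_le_norm_R : P.X ≤ Subgroup.normalizer (P.R : Set G) := by
  have key : ∀ {q : G}, (q ∈ Q ∨ q ∈ Q') → ∀ r ∈ P.R, q * r * q⁻¹ ∈ P.R := by
    intro q hq
    have : P.R ≤ P.R.comap (MulAut.conj q).toMonoidHom := by
      refine sup_le (fun c hc => ?_) (fun c hc => ?_) <;> show q * c * q⁻¹ ∈ P.R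
      · exact hq.elim (fun h => P.Q_conj_C' h hc) fun h => le_sup_left (b := P.C) (P.C'_conj h hc)
      · exact hq.elim (fun h => le_sup_right (a := P.C') (P.C_conj h hc)) fun h => P.Q'_conj_C h hc
    exact fun r hr => this hr
  exact sup_le (fun q hq => Subgroup.mem_normalizer_fintype (key (Or.inl hq)))
    (fun q hq => Subgroup.mem_normalizer_fintype (key (Or.inr hq)))

theorem normal_R : (P.R.subgroupOf P.X).Normal :=
  ⟨fun r hr x => (Subgroup.mem_normalizer_iff.mp (P.X_le_norm_R x.2) r).mp hr⟩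

omit P in
theorem six_words {H : Type*} [Group H] {a b : H} (ha : a * a = 1) (hb : b * b = 1)
    (hab : a * b * a = b * a * b) {x : H} (hx : x ∈ Subgroup.closure ({a, b} : Set H)) :
    x = 1 ∨ x = a ∨ x = b ∨ x = a * b ∨ x = b * a ∨ x = a * b * a := by
  have ai : a⁻¹ = a := inv_eq_of_mul_eq_one_right ha
  have bi : b⁻¹ = b := inv_eq_of_mul_eq_one_right hb
  have a1 : a * (a * b) = b := by rw [← mul_assoc, ha, one_mul]
  have b1 : b * (b * a) = a := by rw [← mul_assoc, hb, one_mul]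
  have a2 : a * (b * a) = a * b * a := (mul_assoc _ _ _).symm
  have b2 : b * (a * b) = a * b * a := by rw [hab, mul_assoc]
  have a3 : a * (a * b * a) = b * a := by rw [← mul_assoc, ← mul_assoc, ha, one_mul]
  have b3 : b * (a * b * a) = a * b := by rw [hab, ← mul_assoc, ← mul_assoc, hb, one_mul]
  induction hx using Subgroup.closure_induction_left with
  | one => exact Or.inl rfl
  | mul_left g hg y _ ih =>
    rcases hg with rfl | rfl <;> rcases ih with rfl | rfl | rfl | rfl | rfl | rfl <;>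
      simp [ha, hb, a1, b1, a2, b2, a3, b3]
  | inv_mul_cancel g hg y _ ih =>
    rcases hg with rfl | rfl <;> rcases ih with rfl | rfl | rfl | rfl | rfl | rfl <;>
      simp [ha, hb, ai, bi, a1, b1, a2, b2, a3, b3]

theorem exists_q : (∃ q ∈ Q, q * z' * q⁻¹ = z * z') ∧ ∃ q' ∈ Q', q' * z * q'⁻¹ = z * z' := by
  obtain ⟨q', hq', eq'⟩ := P.h'.partner z P.zQ' P.h.ne_one P.ne.symm
  exact ⟨P.h.partner z' P.z'Q P.h'.ne_one P.ne, q', hq', eq'.trans P.hzz'.symm⟩

theorem C_index {q y : G} (hq : q ∈ Q) (eq : q * z' * q⁻¹ = z * z') (hy : y ∈ Q) :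
    y ∈ P.C ∨ q * y ∈ P.C := by
  by_cases hyz : y * z' = z' * y
  · exact Or.inl (P.mem_C.mpr ⟨hy, hyz⟩)
  · exact Or.inr (P.mem_C.mpr ⟨Q.mul_mem hq hy, mul_inv_eq_iff_eq_mul.mp
      (P.h.mul_fix hq eq ((P.h.not_comm_iff P.z'Q hy).mp hyz))⟩)

theorem C'_index {q y : G} (hq : q ∈ Q') (eq : q * z * q⁻¹ = z * z') (hy : y ∈ Q') :
    y ∈ P.C' ∨ q * y ∈ P.C' := by
  by_cases hyz : y * z = z * y
  · exact Or.inl (P.mem_C'.mpr ⟨hy, hyz⟩)
  · exact Or.inr (P.mem_C'.mpr ⟨Q'.mul_mem hq hy, mul_inv_eq_iff_eq_mul.mp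
      (P.h'.mul_fix hq (eq.trans P.hzz') ((P.h'.not_comm_iff P.zQ' hy).mp hyz))⟩)

/-- The three involutions of the four group. -/
def pts (_P : Pair Q Q' z z') : Fin 3 → G := ![z, z', z * z']

theorem pts_inj : Function.Injective P.pts := by
  have h1 : z ≠ z * z' := fun e => P.h'.ne_one (mul_eq_left.mp e.symm)
  have h2 : z' ≠ z * z' := fun e => P.h.ne_one (mul_eq_right.mp e.symm)
  intro i j hij
  fin_cases i <;> fin_cases j <;>
    simp [pts, P.ne, P.ne.symm, h1, h1.symm, h2, h2.symm] at hij ⊢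

theorem pts_mem (i : Fin 3) : P.pts i ∈ P.V := by
  rw [P.mem_V]; fin_cases i <;> simp [pts]

theorem pts_ne (i : Fin 3) : P.pts i ≠ 1 := by
  fin_cases i
  · exact P.h.ne_one
  · exact P.h'.ne_one
  · intro e
    exact P.ne ((eq_inv_of_mul_eq_one_right (show z * z' = 1 from e)).trans P.h.toExt.inv_z)

theorem pts_surj {x : G} (hx : x ∈ P.V) (h1 : x ≠ 1) : ∃ i, P.pts i = x := by
  rcases P.mem_V.mp hx with rfl | rfl | rfl | rfl
  exacts [absurd rfl h1, ⟨0, rfl⟩, ⟨1, rfl⟩, ⟨2, rfl⟩]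

theorem exists_perm (n : ↥(Subgroup.normalizer (P.V : Set G))) :
    ∃ σ : Equiv.Perm (Fin 3), ∀ i, (n : G) * P.pts i * (n : G)⁻¹ = P.pts (σ i) := by
  have key : ∀ i, ∃ j, P.pts j = (n : G) * P.pts i * (n : G)⁻¹ := fun i =>
    P.pts_surj ((Subgroup.mem_normalizer_iff.mp n.2 _).mp (P.pts_mem i))
      (fun e => P.pts_ne i (conj_eq_one_iff.mp e))
  choose s hs using key
  have hinj : Function.Injective s := fun i j e => P.pts_inj (by
    have := (hs i).symm.trans (e ▸ hs j)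
    exact mul_left_cancel (mul_right_cancel this))
  exact ⟨Equiv.ofBijective s ⟨hinj, Finite.injective_iff_surjective.mp hinj⟩, fun i => (hs i).symm⟩

/-- The permutation action on the three involutions. -/
noncomputable def perm : ↥(Subgroup.normalizer (P.V : Set G)) →* Equiv.Perm (Fin 3) where
  toFun n := (P.exists_perm n).choose
  map_one' := Equiv.ext fun i => P.pts_inj (by
    rw [← (P.exists_perm 1).choose_spec i]; simp)
  map_mul' a b := Equiv.ext fun i => P.pts_inj (by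
    rw [← (P.exists_perm (a * b)).choose_spec i, Equiv.Perm.mul_apply,
      ← (P.exists_perm a).choose_spec, ← (P.exists_perm b).choose_spec]
    simp only [Subgroup.coe_mul]
    group)

theorem perm_spec (n : ↥(Subgroup.normalizer (P.V : Set G))) (i : Fin 3) :
    (n : G) * P.pts i * (n : G)⁻¹ = P.pts (P.perm n i) :=
  (P.exists_perm n).choose_spec i

theorem perm_one {n : ↥(Subgroup.normalizer (P.V : Set G))} :
    P.perm n = 1 ↔ (n : G) ∈ Subgroup.centralizer (P.V : Set G) := by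
  constructor
  · intro h
    refine Subgroup.mem_centralizer_iff.mpr fun v hv => ?_
    by_cases h1 : v = 1
    · simp [h1]
    · obtain ⟨i, rfl⟩ := P.pts_surj hv h1
      have := P.perm_spec n i
      rw [h] at this
      exact (mul_inv_eq_iff_eq_mul.mp this).symm
  · intro h
    refine Equiv.ext fun i => P.pts_inj ?_
    rw [← P.perm_spec n i, Equiv.Perm.one_apply,
      ← Subgroup.mem_centralizer_iff.mp h _ (P.pts_mem i), mul_inv_cancel_right]

theorem X_le_norm_V : P.X ≤ Subgroup.normalizer (P.V : Set G) := fun x hx =>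
  Subgroup.mem_normalizer_fintype fun v hv => by
    have := mul_mem (P.E_comm_V hx (P.V_le_E hv)).1 hv
    rwa [inv_mul_cancel_right] at this

/-- The action of `X`. -/
noncomputable def permX : ↥P.X →* Equiv.Perm (Fin 3) :=
  P.perm.comp (Subgroup.inclusion P.X_le_norm_V)

theorem R_le_ker : P.R.subgroupOf P.X ≤ P.permX.ker := fun x hx => by
  rw [MonoidHom.mem_ker, permX, MonoidHom.comp_apply, P.perm_one]
  exact Subgroup.mem_centralizer_iff.mpr fun v hv => (P.V_comm hx hv).symm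

theorem structureX : P.permX.ker = P.R.subgroupOf P.X ∧ Function.Surjective P.permX := by
  haveI := P.normal_R
  obtain ⟨⟨q, hq, eq⟩, q', hq', eq'⟩ := P.exists_q
  have hQX : Q ≤ P.X := le_sup_left
  have hQ'X : Q' ≤ P.X := le_sup_right
  let π := QuotientGroup.mk' (P.R.subgroupOf P.X)
  have π1 : ∀ x : ↥P.X, (x : G) ∈ P.R → π x = 1 := fun x hx => (QuotientGroup.eq_one_iff x).mpr hx
  let sq : ↥P.X := ⟨q, hQX hq⟩
  let sq' : ↥P.X := ⟨q', hQ'X hq'⟩
  have f_q : P.permX sq = Equiv.swap 1 2 := by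
    have e1 : q * z * q⁻¹ = z := mul_inv_eq_iff_eq_mul.mpr (P.h.comm q hq)
    have e2 : q * (z * z') * q⁻¹ = z' := by
      rw [show q * (z * z') * q⁻¹ = (q * z * q⁻¹) * (q * z' * q⁻¹) by group, e1, eq, ← mul_assoc,
        P.h.zz, one_mul]
    refine Equiv.ext fun i => P.pts_inj ((P.perm_spec _ i).symm.trans ?_)
    fin_cases i
    · exact e1
    · exact eq
    · exact e2
  have f_q' : P.permX sq' = Equiv.swap 0 2 := by
    have e1 : q' * z' * q'⁻¹ = z' := mul_inv_eq_iff_eq_mul.mpr (P.h'.comm q' hq')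
    have e2 : q' * (z * z') * q'⁻¹ = z := by
      rw [show q' * (z * z') * q'⁻¹ = (q' * z * q'⁻¹) * (q' * z' * q'⁻¹) by group, e1, eq',
        mul_assoc, P.h'.zz, mul_one]
    refine Equiv.ext fun i => P.pts_inj ((P.perm_spec _ i).symm.trans ?_)
    fin_cases i
    · exact eq'
    · exact e1
    · exact e2
  have πQ : ∀ (y : G) (hy : y ∈ Q), π ⟨y, hQX hy⟩ = 1 ∨ π ⟨y, hQX hy⟩ = (π sq)⁻¹ := by
    intro y hy
    rcases P.C_index hq eq hy with h | h
    · exact Or.inl (π1 _ ((le_sup_right : P.C ≤ P.R) h))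
    · right
      refine eq_inv_of_mul_eq_one_right ?_
      rw [← map_mul]
      exact π1 _ ((le_sup_right : P.C ≤ P.R) h)
  have πQ' : ∀ (y : G) (hy : y ∈ Q'), π ⟨y, hQ'X hy⟩ = 1 ∨ π ⟨y, hQ'X hy⟩ = (π sq')⁻¹ := by
    intro y hy
    rcases P.C'_index hq' eq' hy with h | h
    · exact Or.inl (π1 _ ((le_sup_left : P.C' ≤ P.R) h))
    · right
      refine eq_inv_of_mul_eq_one_right ?_
      rw [← map_mul]
      exact π1 _ ((le_sup_left : P.C' ≤ P.R) h)
  have ha : π sq * π sq = 1 := by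
    rw [← map_mul]
    refine π1 _ (P.V_le_R ?_)
    show q * q ∈ P.V
    rcases P.h.sq q hq with e | e <;> rw [e]
    exacts [one_mem _, P.z_mem_V]
  have hb : π sq' * π sq' = 1 := by
    rw [← map_mul]
    refine π1 _ (P.V_le_R ?_)
    show q' * q' ∈ P.V
    rcases P.h'.sq q' hq' with e | e <;> rw [e]
    exacts [one_mem _, P.z'_mem_V]
  have ai : (π sq)⁻¹ = π sq := inv_eq_of_mul_eq_one_right ha
  have bi : (π sq')⁻¹ = π sq' := inv_eq_of_mul_eq_one_right hb
  have hab : π sq * π sq' * π sq = π sq' * π sq * π sq' := by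
    obtain ⟨u, hu, eu⟩ := P.conj_eq q q' (eq.trans eq'.symm) q' hq'
    let su : ↥P.X := ⟨u, hQX hu⟩
    have e : π sq * π sq' * (π sq)⁻¹ = π sq' * π su * (π sq')⁻¹ := by
      rw [← map_inv, ← map_inv, ← map_mul, ← map_mul, ← map_mul, ← map_mul]
      exact congrArg π (Subtype.ext eu)
    rcases πQ u hu with h | h
    · exfalso
      rw [h, mul_one, mul_inv_cancel] at e
      have e1 : π sq' = 1 := by
        calc π sq' = (π sq)⁻¹ * (π sq * π sq' * (π sq)⁻¹) * π sq := by group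
          _ = 1 := by rw [e]; group
      have hm : q' ∈ P.R := (QuotientGroup.eq_one_iff sq').mp e1
      have := eq'
      rw [mul_inv_eq_iff_eq_mul.mpr (P.R_cent hm).1] at this
      exact P.h'.ne_one (mul_eq_left.mp this.symm)
    · rw [h, ai, bi] at e
      exact e
  have hgen : ∀ x : ↥P.X, π x ∈ Subgroup.closure ({π sq, π sq'} : Set _) := by
    rintro ⟨x, hx⟩
    set K := Subgroup.closure ({π sq, π sq'} : Set _)
    have hA : π sq ∈ K := Subgroup.subset_closure (Or.inl rfl)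
    have hB : π sq' ∈ K := Subgroup.subset_closure (Or.inr rfl)
    have : P.X ≤ (K.comap π).map P.X.subtype := by
      refine sup_le (fun y hy => ⟨⟨y, hQX hy⟩, ?_, rfl⟩) (fun y hy => ⟨⟨y, hQ'X hy⟩, ?_, rfl⟩)
      · show π _ ∈ K
        rcases πQ y hy with e | e <;> rw [e]
        exacts [one_mem _, inv_mem hA]
      · show π _ ∈ K
        rcases πQ' y hy with e | e <;> rw [e]
        exacts [one_mem _, inv_mem hB]
    obtain ⟨y, hy, hyx⟩ := this hx
    obtain rfl : y = ⟨x, hx⟩ := Subtype.ext hyx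
    exact hy
  let F := QuotientGroup.lift (P.R.subgroupOf P.X) P.permX P.R_le_ker
  have Fmk : ∀ x, F (π x) = P.permX x := fun x => QuotientGroup.lift_mk' _ _ _
  refine ⟨le_antisymm (fun x hx => ?_) P.R_le_ker, fun σ => ?_⟩
  · rw [MonoidHom.mem_ker] at hx
    rw [← QuotientGroup.eq_one_iff]
    show π x = 1
    rcases six_words ha hb hab (hgen x) with e | e | e | e | e | e
    · exact e
    all_goals
      exfalso
      have e' := congrArg F e
      simp only [map_mul, Fmk, hx, f_q, f_q'] at e'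
      revert e'
      decide
  · have : ∀ σ : Equiv.Perm (Fin 3), σ = 1 ∨ σ = Equiv.swap 1 2 ∨ σ = Equiv.swap 0 2 ∨
        σ = Equiv.swap 1 2 * Equiv.swap 0 2 ∨ σ = Equiv.swap 0 2 * Equiv.swap 1 2 ∨
        σ = Equiv.swap 1 2 * Equiv.swap 0 2 * Equiv.swap 1 2 := by decide
    rcases this σ with rfl | rfl | rfl | rfl | rfl | rfl
    exacts [⟨1, map_one _⟩, ⟨sq, f_q⟩, ⟨sq', f_q'⟩, ⟨sq * sq', by rw [map_mul, f_q, f_q']⟩,
      ⟨sq' * sq, by rw [map_mul, f_q, f_q']⟩, ⟨sq * sq' * sq, by rw [map_mul, map_mul, f_q, f_q']⟩]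

theorem R_eq : P.R = P.X ⊓ Subgroup.centralizer (P.V : Set G) := by
  refine le_antisymm (fun r hr => ⟨P.R_le_X hr, Subgroup.mem_centralizer_iff.mpr
    fun v hv => (P.V_comm hr hv).symm⟩) ?_
  rintro x ⟨hx, hxc⟩
  have : (⟨x, hx⟩ : ↥P.X) ∈ P.permX.ker := (P.perm_one (n := Subgroup.inclusion P.X_le_norm_V ⟨x, hx⟩)).mpr hxc
  rw [P.structureX.1] at this
  exact this

theorem quotient_iso : ∃ _h : (P.R.subgroupOf P.X).Normal,
    Nonempty (↥P.X ⧸ P.R.subgroupOf P.X ≃* Equiv.Perm (Fin 3)) :=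
  haveI := P.normal_R
  ⟨P.normal_R, ⟨(QuotientGroup.quotientMulEquivOfEq P.structureX.1.symm).trans
    (QuotientGroup.quotientKerEquivOfSurjective P.permX P.structureX.2)⟩⟩

theorem cent_V : Subgroup.centralizer (P.V : Set G) ≤
    Subgroup.centralizer ({z} : Set G) ⊓ Subgroup.centralizer ({z'} : Set G) := fun _ hc =>
  ⟨Subgroup.mem_centralizer_singleton_iff.mpr (Subgroup.mem_centralizer_iff.mp hc z P.z_mem_V).symm,
    Subgroup.mem_centralizer_singleton_iff.mpr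
      (Subgroup.mem_centralizer_iff.mp hc z' P.z'_mem_V).symm⟩

theorem cent_eq : Subgroup.centralizer ({z} : Set G) ⊓ Subgroup.centralizer (P.V : Set G) =
    Subgroup.centralizer (P.V : Set G) :=
  inf_eq_right.mpr (P.cent_V.trans inf_le_left)

theorem cent_conj_X {c x : G} (hc : c ∈ Subgroup.centralizer (P.V : Set G)) (hx : x ∈ P.X) :
    c * x * c⁻¹ ∈ P.X := by
  have h1 := Subgroup.mem_centralizer_singleton_iff.mp (P.cent_V hc).1
  have h2 := Subgroup.mem_centralizer_singleton_iff.mp (P.cent_V hc).2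
  have : P.X ≤ P.X.comap (MulAut.conj c).toMonoidHom :=
    sup_le (fun y hy => (le_sup_left : Q ≤ P.X) (P.h.norm c h1 y hy))
      (fun y hy => (le_sup_right : Q' ≤ P.X) (P.h'.norm c h2 y hy))
  exact this hx

theorem norm_V_eq : Subgroup.normalizer (P.V : Set G) = P.X ⊔ Subgroup.centralizer (P.V : Set G) := by
  refine le_antisymm (fun n hn => ?_) (sup_le P.X_le_norm_V fun c hc => ?_)
  · obtain ⟨x, hx⟩ := P.structureX.2 (P.perm ⟨n, hn⟩)
    have h1 : P.perm ((Subgroup.inclusion P.X_le_norm_V x)⁻¹ * ⟨n, hn⟩) = 1 := by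
      rw [map_mul, map_inv, ← hx]
      exact inv_mul_cancel _
    have h2 : (x : G)⁻¹ * n ∈ Subgroup.centralizer (P.V : Set G) := P.perm_one.mp h1
    have := mul_mem (Subgroup.mem_sup_left (T := Subgroup.centralizer (P.V : Set G)) x.2)
      (Subgroup.mem_sup_right (S := P.X) h2)
    rwa [mul_inv_cancel_left] at this
  · exact Subgroup.mem_normalizer_fintype fun v hv => by
      rwa [← Subgroup.mem_centralizer_iff.mp hc v hv, mul_inv_cancel_right]

theorem norm_conj_X {y x : G} (hy : y ∈ Subgroup.normalizer (P.V : Set G)) (hx : x ∈ P.X) :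
    y * x * y⁻¹ ∈ P.X := by
  have : Subgroup.normalizer (P.V : Set G) ≤ Subgroup.normalizer (P.X : Set G) := by
    rw [P.norm_V_eq]
    exact sup_le Subgroup.le_normalizer fun c hc =>
      Subgroup.mem_normalizer_fintype fun x hx => P.cent_conj_X hc hx
  exact (Subgroup.mem_normalizer_iff.mp (this hy) x).mp hx

theorem comm_mem_R {x c : G} (hx : x ∈ P.X) (hc : c ∈ Subgroup.centralizer (P.V : Set G)) :
    x * c * x⁻¹ * c⁻¹ ∈ P.R := by
  rw [P.R_eq]
  refine ⟨?_, ?_⟩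
  · rw [show x * c * x⁻¹ * c⁻¹ = x * (c * x⁻¹ * c⁻¹) by group]
    exact mul_mem hx (P.cent_conj_X hc (inv_mem hx))
  · refine Subgroup.mul_mem _ (Subgroup.mem_centralizer_iff.mpr fun v hv => ?_) (Subgroup.inv_mem _ hc)
    have hv' := (Subgroup.mem_normalizer_iff.mp (P.X_le_norm_V (inv_mem hx)) v).mp hv
    have hcv := Subgroup.mem_centralizer_iff.mp hc _ hv'
    calc v * (x * c * x⁻¹) = x * ((x⁻¹ * v * x⁻¹⁻¹) * c) * x⁻¹ := by group
      _ = x * c * x⁻¹ * v := by rw [hcv]; group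

theorem R_eq_pCore : P.R = (Cfsg.pCore 2 ↥P.X).map P.X.subtype := by
  haveI := P.normal_R
  have hp : IsPGroup 2 ↥(P.R.subgroupOf P.X) := fun x =>
    ⟨2, Subtype.ext (Subtype.ext (P.R_pow x.2))⟩
  have h1 : P.R.subgroupOf P.X ≤ Cfsg.pCore 2 ↥P.X := HallCore.le_pCore hp
  refine le_antisymm (fun r hr => ⟨⟨r, P.R_le_X hr⟩, h1 hr, rfl⟩) ?_
  rintro _ ⟨x, hx, rfl⟩
  obtain ⟨hker, hsurj⟩ := P.structureX
  suffices P.permX x = 1 by
    have : x ∈ P.permX.ker := this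
    rw [hker] at this
    exact this
  have two : ∀ y ∈ Cfsg.pCore 2 ↥P.X, P.permX y * P.permX y = 1 := by
    intro y hy
    obtain ⟨k, hk⟩ := HallCore.isPGroup_pCore 2 ↥P.X ⟨y, hy⟩
    have e : P.permX y ^ (2 ^ k) = 1 := by
      rw [← map_pow, show y ^ (2 ^ k) = 1 from congrArg Subtype.val hk, map_one]
    have six : ∀ σ : Equiv.Perm (Fin 3), σ * σ = 1 ∨ σ * σ * σ = 1 := by decide
    rcases six (P.permX y) with h' | h'
    · exact h'
    · have h3 : P.permX y ^ 3 = 1 := by rw [pow_succ, pow_two, h']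
      have := pow_gcd_eq_one.mpr ⟨h3, e⟩
      rw [Nat.Coprime.gcd_eq_one (Nat.Coprime.pow_right k (by decide)), pow_one] at this
      rw [this, one_mul]
  have key : ∀ σ : Equiv.Perm (Fin 3), (∀ τ, (σ * (τ * σ * τ⁻¹)) * (σ * (τ * σ * τ⁻¹)) = 1) →
      σ * σ = 1 → σ = 1 := by decide +kernel
  refine key _ (fun τ => ?_) (two x hx)
  obtain ⟨t, rfl⟩ := hsurj τ
  have := two _ (mul_mem hx ((inferInstance : (Cfsg.pCore 2 ↥P.X).Normal).conj_mem x hx t))
  simpa only [map_mul, map_inv] using this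

end Pair

end Cfsg.Agent.LargeExtraspecialPair
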