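import Mathlib
import Cfsg.Agent.Lib.ConwayTypeRadical62

/-!
# Multiplication in the product of the two centralisers

Squares and commutators in `R = C_{Q'}(z) C_Q(t)` in terms of the two coordinates.
-/

set_option autoImplicit false

namespace Cfsg.Agent.ConwayTypeRadical62

open Subgroup Cfsg.Agent.LargeExtraspecial Cfsg.Agent.LargeExtraspecialPair
open Cfsg.Agent.ConwayTypeModel62 Cfsg.Agent.ConwayTypeCoord62

variable {G : Type*} [Group G] [Finite G]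

/-- An element of the four group. -/
def vv (z t : G) (p : ZMod 2 × ZMod 2) : G := zp z p.1 * zp t p.2

theorem vv_zero (z t : G) : vv z t 0 = 1 := by
  show zp z 0 * zp t 0 = 1
  rw [zp_zero, zp_zero, mul_one]

namespace Ctx

variable {Q Q' : Subgroup G} {z t : G} {ν : G → M6} {d : G}
  {ρ : ↥(Sx z t) →* P8} (D : Ctx Q Q' z t ν d ρ)
include D

theorem vv_mem (p : ZMod 2 × ZMod 2) : vv z t p ∈ D.P.V := by
  have h1 : ∀ i, zp z i ∈ D.P.V := fun i => by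
    rcases two_eq i with rfl | rfl
    · rw [zp_zero]; exact one_mem _
    · rw [zp_one]; exact D.P.z_mem_V
  have h2 : ∀ i, zp t i ∈ D.P.V := fun i => by
    rcases two_eq i with rfl | rfl
    · rw [zp_zero]; exact one_mem _
    · rw [zp_one]; exact D.P.z'_mem_V
  exact mul_mem (h1 _) (h2 _)

theorem vv_add (p q : ZMod 2 × ZMod 2) : vv z t (p + q) = vv z t p * vv z t q := by
  have hzt : ∀ i j, Commute (zp t i) (zp z j) := fun i j => by
    rcases two_eq i with rfl | rfl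
    · rw [zp_zero]; exact Commute.one_left _
    rcases two_eq j with rfl | rfl
    · rw [zp_zero]; exact Commute.one_right _
    · rw [zp_one, zp_one]; exact (D.H.zx D.sing).symm
  simp only [vv, Prod.fst_add, Prod.snd_add, zp_add D.H.h.zz, zp_add D.sing.2.1]
  rw [← mul_assoc, mul_assoc (zp z p.1) (zp z q.1), ← (hzt p.2 q.1).eq]
  group

theorem vv_inj {p q : ZMod 2 × ZMod 2} (h : vv z t p = vv z t q) : p = q := by
  obtain ⟨d1, d2, d3⟩ := D.H.U_distinct D.sing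
  obtain ⟨i, j⟩ := p
  obtain ⟨k, l⟩ := q
  rcases two_eq i with rfl | rfl <;> rcases two_eq j with rfl | rfl <;>
    rcases two_eq k with rfl | rfl <;> rcases two_eq l with rfl | rfl <;>
    simp [vv, zp_zero, zp_one, D.H.h.ne_one, D.H.h.ne_one.symm, D.sing.2.2.1, D.sing.2.2.1.symm,
      D.sing.2.2.2, D.sing.2.2.2.symm, d1, d1.symm, d2, d2.symm, d3, d3.symm] at h ⊢

theorem vv_surj {v : G} (hv : v ∈ D.P.V) : ∃ p, v = vv z t p := by
  rcases D.P.mem_V.mp hv with rfl | rfl | rfl | rfl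
  · exact ⟨(0, 0), (vv_zero z t).symm⟩
  · exact ⟨(1, 0), by simp [vv, zp_zero, zp_one]⟩
  · exact ⟨(0, 1), by simp [vv, zp_zero, zp_one]⟩
  · exact ⟨(1, 1), by simp [vv, zp_one]⟩

theorem vv_comm (p : ZMod 2 × ZMod 2) {r : G} (hr : r ∈ D.P.R) :
    r * vv z t p = vv z t p * r := D.P.V_comm hr (D.vv_mem p)

theorem vv_comm_Sx (p : ZMod 2 × ZMod 2) {c : G} (hc : c ∈ Sx z t) :
    c * vv z t p = vv z t p * c :=
  D.H.U_comm D.sing (D.inU_iff.mpr (D.vv_mem p)) hc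

theorem vv_inv (p : ZMod 2 × ZMod 2) : (vv z t p)⁻¹ = vv z t p :=
  (D.H.U_inv D.sing (D.inU_iff.mpr (D.vv_mem p))).2

theorem comm_mul_left {x y w : G} (hx : x ∈ D.P.R) (hy : y ∈ D.P.R) (hw : w ∈ D.P.R) :
    (x * y) * w * (x * y)⁻¹ * w⁻¹ = (x * w * x⁻¹ * w⁻¹) * (y * w * y⁻¹ * w⁻¹) := by
  have hc : x * (y * w * y⁻¹ * w⁻¹) = (y * w * y⁻¹ * w⁻¹) * x :=
    D.P.V_comm hx (D.comm_V hy hw)
  have hc2 : (x * w * x⁻¹ * w⁻¹) * (y * w * y⁻¹ * w⁻¹) = (y * w * y⁻¹ * w⁻¹) * (x * w * x⁻¹ * w⁻¹) :=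
    D.P.V_comm (D.P.V_le_R (D.comm_V hx hw)) (D.comm_V hy hw)
  calc (x * y) * w * (x * y)⁻¹ * w⁻¹
      = (x * (y * w * y⁻¹ * w⁻¹)) * x⁻¹ * (x * w * x⁻¹ * w⁻¹) := by group
    _ = (y * w * y⁻¹ * w⁻¹) * (x * w * x⁻¹ * w⁻¹) := by rw [hc]; group
    _ = _ := hc2.symm

theorem comm_mul_right {x y w : G} (hx : x ∈ D.P.R) (hy : y ∈ D.P.R) (hw : w ∈ D.P.R) :
    w * (x * y) * w⁻¹ * (x * y)⁻¹ = (w * x * w⁻¹ * x⁻¹) * (w * y * w⁻¹ * y⁻¹) := by
  have hc : x * (w * y * w⁻¹ * y⁻¹) = (w * y * w⁻¹ * y⁻¹) * x :=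
    D.P.V_comm hx (D.comm_V hw hy)
  calc w * (x * y) * w⁻¹ * (x * y)⁻¹
      = (w * x * w⁻¹ * x⁻¹) * (x * (w * y * w⁻¹ * y⁻¹)) * x⁻¹ := by group
    _ = _ := by rw [hc]; group

theorem conj_C' {c b : G} (hc : c ∈ Sx z t) (hb : b ∈ Cx Q' z) : c * b * c⁻¹ ∈ Cx Q' z :=
  D.H'.conj_Cx (mem_Sx.mpr ⟨(mem_Sx.mp hc).2, (mem_Sx.mp hc).1⟩) hb

theorem ev_conj {c : ↥(Sx z t)} {b : G} (hb : b ∈ Cx Q' z) :
    ev ν d ((c : G) * b * (c : G)⁻¹) = act (ρ c) (ev ν d b) := by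
  set a := (c : G)⁻¹ * d * c * d⁻¹ with ha
  have ha' : a ∈ Cx Q t := by
    have := D.ev_mem (inv_mem c.2)
    rwa [inv_inv] at this
  have hbR := D.C'_le_R hb
  have hm : b * d * b⁻¹ * d⁻¹ ∈ Cx Q t := D.ev_mem (D.C'_le_Sx hb)
  have hab : InU z t (b * a * b⁻¹ * a⁻¹) :=
    D.inU_iff.mpr (D.comm_V hbR (D.Cx_le_R ha'))
  set u := b * a * b⁻¹ * a⁻¹ with hu
  have hcu : (c : G) * u * (c : G)⁻¹ = u := by
    rw [D.H.U_comm D.sing hab c.2, mul_inv_cancel_right]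
  have huC : u ∈ Cx Q t := D.H.U_mem D.sing hab
  have hm' := D.H.conj_Cx c.2 hm
  rw [ev, ev, D.hρ c _ hm]
  have haS : a ∈ Sx z t := D.H.Cx_le_Sx ha'
  have hconj : a * (b * d * b⁻¹ * d⁻¹) * a⁻¹ ∈ Cx Q t := D.H.conj_Cx haS hm
  have hw : (c : G) * b * (c : G)⁻¹ * d * ((c : G) * b * (c : G)⁻¹)⁻¹ * d⁻¹
      = (c : G) * (u * (a * (b * d * b⁻¹ * d⁻¹) * a⁻¹)) * (c : G)⁻¹ := by
    rw [hu, ha]; group
  rw [hw, show (c : G) * (u * (a * (b * d * b⁻¹ * d⁻¹) * a⁻¹)) * (c : G)⁻¹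
      = ((c : G) * u * (c : G)⁻¹) * ((c : G) * (a * (b * d * b⁻¹ * d⁻¹) * a⁻¹) * (c : G)⁻¹) by group,
    hcu, D.K.add u huC _ (D.H.conj_Cx c.2 hconj), (D.K.ker u huC).mpr hab, zero_add]
  refine D.H.nu_conj_congr D.sing D.K c.2 hconj hm ?_
  exact (D.H.nu_eq D.sing D.K hconj hm).mpr ((D.triv_of_R (D.Cx_le_R ha')).2 _ hm)

theorem d_conj_C' {b : G} (hb : b ∈ Cx Q' z) :
    ∃ a ∈ Cx Q t, ν a = ev ν d b ∧ d * b * d⁻¹ = a * b := by
  refine ⟨(b * d * b⁻¹ * d⁻¹)⁻¹, inv_mem (D.ev_mem (D.C'_le_Sx hb)), ?_, by group⟩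
  exact D.H.nu_inv D.sing D.K (D.ev_mem (D.C'_le_Sx hb))

theorem d_vv (p : ZMod 2 × ZMod 2) : d * vv z t p * d⁻¹ = vv z t (p.1 + p.2, p.2) := by
  have e1 : d * zp z p.1 * d⁻¹ = zp z p.1 := by
    rcases two_eq p.1 with e | e <;> rw [e]
    · rw [zp_zero]; group
    · rw [zp_one, D.H.h.comm d D.hd, mul_inv_cancel_right]
  have e2 : d * zp t p.2 * d⁻¹ = zp z p.2 * zp t p.2 := by
    rcases two_eq p.2 with e | e <;> rw [e]
    · rw [zp_zero, zp_zero]; group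
    · rw [zp_one, zp_one, D.ed]
  calc d * vv z t p * d⁻¹ = (d * zp z p.1 * d⁻¹) * (d * zp t p.2 * d⁻¹) := by
        rw [vv]; group
    _ = _ := by rw [e1, e2, ← mul_assoc, ← zp_add D.H.h.zz]; rfl

theorem comm_Cx {a a' : G} (ha : a ∈ Cx Q t) (ha' : a' ∈ Cx Q t) :
    a * a' * a⁻¹ * a'⁻¹ = vv z t (B (ν a) (ν a'), 0) := by
  rw [D.H.conj_eq D.sing D.K ha ha', mul_inv_cancel_right, vv, zp_zero, mul_one]
  congr 1
  rw [f_add]
  generalize f (ν a) = i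
  generalize f (ν a') = j
  generalize B (ν a) (ν a') = k
  revert i j k
  decide

theorem comm_t_part {a b : G} (ha : a ∈ Cx Q t) (hb : b ∈ Cx Q' z) :
    ∃ i, a * b * a⁻¹ * b⁻¹ = vv z t (i, B (ν a) (ev ν d b)) := by
  obtain ⟨⟨i, j⟩, hij⟩ := D.vv_surj (D.comm_V (D.Cx_le_R ha) (D.C'_le_R hb))
  refine ⟨i, ?_⟩
  obtain ⟨a₁, ha₁, hνa₁, hd1⟩ := D.d_conj_C' hb
  have haR := D.Cx_le_R ha
  have hbR := D.C'_le_R hb
  obtain ⟨k, hk⟩ : ∃ k, d * a * d⁻¹ = vv z t (k, 0) * a := by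
    rcases D.nu_zero_of_Cx_dz ha with e | e
    · exact ⟨0, by rw [show ((0 : ZMod 2), (0 : ZMod 2)) = 0 from rfl, vv_zero, one_mul]; exact e⟩
    · exact ⟨1, by rw [vv, zp_one, zp_zero, mul_one]; exact e⟩
  have hkR : vv z t (k, 0) ∈ D.P.R := D.P.V_le_R (D.vv_mem _)
  have e1 : d * (a * b * a⁻¹ * b⁻¹) * d⁻¹ = (d * a * d⁻¹) * (d * b * d⁻¹) * (d * a * d⁻¹)⁻¹
      * (d * b * d⁻¹)⁻¹ := by group
  have hk1 : vv z t (k, 0) * (a₁ * b) * (vv z t (k, 0))⁻¹ * (a₁ * b)⁻¹ = 1 := by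
    rw [← D.vv_comm (k, 0) (mul_mem (D.Cx_le_R ha₁) hbR)]
    group
  rw [hij, D.d_vv, hk, hd1, D.comm_mul_left hkR haR (mul_mem (D.Cx_le_R ha₁) hbR), hk1, one_mul,
    D.comm_mul_right (D.Cx_le_R ha₁) hbR haR, D.comm_Cx ha ha₁, hνa₁, hij, ← D.vv_add] at e1
  have e2 := D.vv_inj e1
  simp only [Prod.mk_add_mk, Prod.mk.injEq, zero_add] at e2
  rw [hij]
  congr 2
  exact (show ∀ i j l : ZMod 2, i + j = l + i → j = l by decide) i j _ e2.1

theorem comm_congr {a a' b b' : G} (ha : a ∈ Cx Q t) (ha' : a' ∈ Cx Q t) (hb : b ∈ Cx Q' z)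
    (hb' : b' ∈ Cx Q' z) (h1 : ν a = ν a') (h2 : ev ν d b = ev ν d b') :
    a * b * a⁻¹ * b⁻¹ = a' * b' * a'⁻¹ * b'⁻¹ := by
  have hu : a' * a⁻¹ ∈ D.P.V := D.inU_iff.mp ((D.H.nu_eq D.sing D.K ha' ha).mp h1.symm)
  have hv : b' * b⁻¹ ∈ D.P.V := by
    refine (D.ev_eq_zero (mul_mem hb' (inv_mem hb))).mp ?_
    have hbi : ev ν d b⁻¹ = ev ν d b := by
      have := D.ev_mul (D.triv_of_R (D.C'_le_R hb)) (D.C'_le_Sx (inv_mem hb))
      rw [mul_inv_cancel, D.ev_one] at this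
      exact eq_of_add this.symm
    rw [D.ev_mul (D.triv_of_R (D.C'_le_R hb')) (D.C'_le_Sx (inv_mem hb)), hbi, h2, add_self]
  have hone : ∀ {v x : G}, v ∈ D.P.V → x ∈ D.P.R →
      v * x * v⁻¹ * x⁻¹ = 1 ∧ x * v * x⁻¹ * v⁻¹ = 1 := fun {v x} hv' hx => by
    have e := D.P.V_comm hx hv'
    constructor
    · rw [← e]; group
    · rw [e]; group
  have hbR := D.C'_le_R hb
  have e : a' * b' * a'⁻¹ * b'⁻¹ = (a' * a⁻¹ * a) * (b' * b⁻¹ * b) * (a' * a⁻¹ * a)⁻¹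
      * (b' * b⁻¹ * b)⁻¹ := by group
  rw [e, D.comm_mul_left (D.P.V_le_R hu) (D.Cx_le_R ha) (mul_mem (D.P.V_le_R hv) hbR),
    (hone hu (mul_mem (D.P.V_le_R hv) hbR)).1, one_mul,
    D.comm_mul_right (D.P.V_le_R hv) hbR (D.Cx_le_R ha), (hone hv (D.Cx_le_R ha)).2, one_mul]

theorem comm_ab : ∀ a ∈ Cx Q t, ∀ b ∈ Cx Q' z,
    a * b * a⁻¹ * b⁻¹ = vv z t (B (ν a) (ev ν d b), B (ν a) (ev ν d b)) := by
  choose sa hsa1 hsa2 using D.K.surj
  choose sb hsb1 hsb2 using D.ev_surj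
  choose g hg using fun u w => D.comm_t_part (hsa1 u) (hsb1 w)
  have hgab : ∀ a (_ : a ∈ Cx Q t) b (_ : b ∈ Cx Q' z),
      a * b * a⁻¹ * b⁻¹ = vv z t (g (ν a) (ev ν d b), B (ν a) (ev ν d b)) := by
    intro a ha b hb
    have := hg (ν a) (ev ν d b)
    rw [hsa2, hsb2] at this
    rw [← this]
    exact D.comm_congr ha (hsa1 _) hb (hsb1 _) (hsa2 _).symm (hsb2 _).symm
  have hl : ∀ u u' w, g (u + u') w = g u w + g u' w := by
    intro u u' w
    obtain ⟨a, ha, rfl⟩ := D.K.surj u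
    obtain ⟨a', ha', rfl⟩ := D.K.surj u'
    obtain ⟨b, hb, rfl⟩ := D.ev_surj w
    have e := hgab _ (mul_mem ha ha') b hb
    rw [D.comm_mul_left (D.Cx_le_R ha) (D.Cx_le_R ha') (D.C'_le_R hb), hgab a ha b hb,
      hgab a' ha' b hb, ← D.vv_add, D.K.add a ha a' ha'] at e
    exact (congrArg Prod.fst (D.vv_inj e)).symm
  have hr : ∀ u w w', g u (w + w') = g u w + g u w' := by
    intro u w w'
    obtain ⟨a, ha, rfl⟩ := D.K.surj u
    obtain ⟨b, hb, rfl⟩ := D.ev_surj w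
    obtain ⟨b', hb', rfl⟩ := D.ev_surj w'
    have e := hgab a ha _ (mul_mem hb hb')
    rw [D.comm_mul_right (D.C'_le_R hb) (D.C'_le_R hb') (D.Cx_le_R ha), hgab a ha b hb,
      hgab a ha b' hb', ← D.vv_add,
      D.ev_mul (D.triv_of_R (D.C'_le_R hb)) (D.C'_le_Sx hb')] at e
    rw [add_comm (ev ν d b') (ev ν d b)] at e
    exact (congrArg Prod.fst (D.vv_inj e)).symm
  have hinv : ∀ σ : P8, Equiv.Perm.sign σ = 1 →
      ∀ u w, g (act σ u) (act σ w) = g u w := by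
    intro σ hσ u w
    obtain ⟨c, rfl⟩ := D.exists_rho_eq hσ
    obtain ⟨a, ha, rfl⟩ := D.K.surj u
    obtain ⟨b, hb, rfl⟩ := D.ev_surj w
    have e := hgab _ (D.H.conj_Cx c.2 ha) _ (D.conj_C' c.2 hb)
    rw [← D.hρ c a ha, D.ev_conj hb] at e
    have e2 : (c : G) * a * (c : G)⁻¹ * ((c : G) * b * (c : G)⁻¹) * ((c : G) * a * (c : G)⁻¹)⁻¹
        * ((c : G) * b * (c : G)⁻¹)⁻¹ = a * b * a⁻¹ * b⁻¹ := by
      rw [show (c : G) * a * (c : G)⁻¹ * ((c : G) * b * (c : G)⁻¹) * ((c : G) * a * (c : G)⁻¹)⁻¹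
        * ((c : G) * b * (c : G)⁻¹)⁻¹ = (c : G) * (a * b * a⁻¹ * b⁻¹) * (c : G)⁻¹ by group,
        hgab a ha b hb, D.vv_comm_Sx _ c.2, mul_inv_cancel_right]
    rw [e2, hgab a ha b hb] at e
    exact (congrArg Prod.fst (D.vv_inj e)).symm
  rcases invariant_bilin g hl hr hinv with h0 | hB
  · exfalso
    obtain ⟨d', hd', ed'⟩ := D.H'.h.partner z D.P.zQ' D.H.h.ne_one D.P.ne.symm
    have hzt := D.H.zx D.sing
    have hd't : d' * t = t * d' := D.H'.h.comm d' hd'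
    have hdvt : ∀ j, d' * vv z t (0, j) * d'⁻¹ = vv z t (0, j) := fun j => by
      rcases two_eq j with rfl | rfl
      · rw [show ((0 : ZMod 2), (0 : ZMod 2)) = 0 from rfl, vv_zero]; group
      · rw [vv, zp_zero, zp_one, one_mul, hd't, mul_inv_cancel_right]
    -- `d'` moves every element of `C_Q(t)` by the four group
    have hmove : ∀ a ∈ Cx Q t, d' * a * d'⁻¹ * a⁻¹ ∈ D.P.V := by
      intro a ha
      have hat : a * t = t * a := (mem_Cx.mp ha).2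
      have haz : a * z = z * a := D.H.h.comm a (mem_Cx.mp ha).1
      set a' := d' * a * d'⁻¹ * a⁻¹ with ha'
      have hQ' : a * d'⁻¹ * a⁻¹ ∈ Q' := D.P.h'.norm a hat _ (Q'.inv_mem hd')
      have hmem : a' ∈ Cx Q' z := by
        refine mem_Cx.mpr ⟨?_, mul_inv_eq_iff_eq_mul.mp ?_⟩
        · rw [ha', show d' * a * d'⁻¹ * a⁻¹ = d' * (a * d'⁻¹ * a⁻¹) by group]
          exact Q'.mul_mem hd' hQ'
        · rw [ha', show d' * a * d'⁻¹ * a⁻¹ = d' * (a * d'⁻¹ * a⁻¹) by group]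
          refine D.H'.h.mul_fix hd' ed' ((D.H'.h.not_comm_iff D.P.zQ' hQ').mp fun e => ?_)
          have hc : Commute d'⁻¹ z := by
            have h1 : Commute (a⁻¹ * (a * d'⁻¹ * a⁻¹) * a) z :=
              ((show Commute a z from haz).inv_left.mul_left e).mul_left haz
            rwa [show a⁻¹ * (a * d'⁻¹ * a⁻¹) * a = d'⁻¹ by group] at h1
          have hc' : Commute d' z := by simpa using hc.inv_left
          exact (D.H'.h.not_comm_iff D.P.zQ' hd').mpr ed' hc'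
      have hcent : ∀ b ∈ Cx Q' z, b * a' = a' * b := by
        intro b hb
        have hbR := D.C'_le_R hb
        obtain ⟨k, hk⟩ : ∃ k, d' * b * d'⁻¹ = vv z t (0, k) * b := by
          rcases D.H'.h.conj d' hd' b (mem_Cx.mp hb).1 with e | e
          · exact ⟨0, by rw [show ((0 : ZMod 2), (0 : ZMod 2)) = 0 from rfl, vv_zero, one_mul]; exact e⟩
          · exact ⟨1, by rw [vv, zp_one, zp_zero, one_mul]; exact e⟩
        have hkR := D.P.V_le_R (D.vv_mem (0, k))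
        have ha'R := D.C'_le_R hmem
        have haR := D.Cx_le_R ha
        have hd'a : d' * a * d'⁻¹ = a' * a := by rw [ha']; group
        have e1 : d' * (a * b * a⁻¹ * b⁻¹) * d'⁻¹ = (d' * a * d'⁻¹) * (d' * b * d'⁻¹)
            * (d' * a * d'⁻¹)⁻¹ * (d' * b * d'⁻¹)⁻¹ := by group
        have hkc : ∀ {x : G}, x ∈ D.P.R →
            x * vv z t (0, k) * x⁻¹ * (vv z t (0, k))⁻¹ = 1 := fun {x} hx => by
          rw [D.vv_comm _ hx]; group
        rw [hgab a ha b hb, h0, hdvt, hd'a, hk, D.comm_mul_left ha'R haR (mul_mem hkR hbR),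
          D.comm_mul_right hkR hbR ha'R, D.comm_mul_right hkR hbR haR, hkc ha'R, hkc haR,
          one_mul, one_mul, hgab a ha b hb, h0] at e1
        have h1 : a' * b * a'⁻¹ * b⁻¹ = 1 := right_eq_mul.mp e1
        exact (mul_inv_eq_iff_eq_mul.mp (mul_inv_eq_one.mp h1)).symm
      rcases D.H'.central_U ⟨D.P.zQ', D.H.h.zz, D.H.h.ne_one, D.P.ne.symm⟩ (mem_Cx.mp hmem).1
        hcent with e | e | e | e
      · rw [e]; exact one_mem _
      · rw [e]; exact D.P.z'_mem_V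
      · rw [e]; exact D.P.z_mem_V
      · rw [e]; exact mul_mem D.P.z'_mem_V D.P.z_mem_V
    obtain ⟨a, ha, hνa⟩ := D.K.surj α₁
    obtain ⟨b, hb, hνb⟩ := D.K.surj β₁
    have hab : a * b * a⁻¹ * b⁻¹ = vv z t (1, 0) := by
      rw [D.comm_Cx ha hb, hνa, hνb, chosen.2.2.2.2.2.1]
    have haR := D.Cx_le_R ha
    have hbR := D.Cx_le_R hb
    have hua := hmove a ha
    have hub := hmove b hb
    have e1 : d' * (a * b * a⁻¹ * b⁻¹) * d'⁻¹ = (d' * a * d'⁻¹ * a⁻¹ * a) * (d' * b * d'⁻¹ * b⁻¹ * b)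
        * (d' * a * d'⁻¹ * a⁻¹ * a)⁻¹ * (d' * b * d'⁻¹ * b⁻¹ * b)⁻¹ := by group
    have hone : ∀ {v x : G}, v ∈ D.P.V → x ∈ D.P.R →
        v * x * v⁻¹ * x⁻¹ = 1 ∧ x * v * x⁻¹ * v⁻¹ = 1 := fun {v x} hv' hx => by
      have e := D.P.V_comm hx hv'
      constructor
      · rw [← e]; group
      · rw [e]; group
    rw [D.comm_mul_left (D.P.V_le_R hua) haR (mul_mem (D.P.V_le_R hub) hbR),
      (hone hua (mul_mem (D.P.V_le_R hub) hbR)).1, one_mul,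
      D.comm_mul_right (D.P.V_le_R hub) hbR haR, (hone hub haR).2, one_mul, hab] at e1
    have e2 : vv z t (1, 0) = z := by rw [vv, zp_one, zp_zero, mul_one]
    rw [e2] at e1
    have hcom : Commute d' z := mul_inv_eq_iff_eq_mul.mp e1
    exact (D.H'.h.not_comm_iff D.P.zQ' hd').mpr ed' hcom
  · intro a ha b hb
    rw [hgab a ha b hb, hB]

theorem sq_C' : ∀ b ∈ Cx Q' z, b * b = vv z t (0, f (ev ν d b)) := by
  choose sb hsb1 hsb2 using D.ev_surj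
  have hsq : ∀ b ∈ Cx Q' z, ∃ j, b * b = vv z t (0, j) := fun b hb => by
    rcases D.H'.h.sq b (mem_Cx.mp hb).1 with e | e
    · exact ⟨0, by rw [show ((0 : ZMod 2), (0 : ZMod 2)) = 0 from rfl, vv_zero]; exact e⟩
    · exact ⟨1, by rw [vv, zp_one, zp_zero, one_mul]; exact e⟩
  choose q hq using fun w => hsq (sb w) (hsb1 w)
  have hq' : ∀ b ∈ Cx Q' z, b * b = vv z t (0, q (ev ν d b)) := by
    intro b hb
    set b' := sb (ev ν d b) with hb'
    have hb'm : b' ∈ Cx Q' z := hsb1 _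
    have hv : b * b'⁻¹ ∈ D.P.V := by
      refine (D.ev_eq_zero (mul_mem hb (inv_mem hb'm))).mp ?_
      have hbi : ev ν d b'⁻¹ = ev ν d b' := by
        have := D.ev_mul (D.triv_of_R (D.C'_le_R hb'm)) (D.C'_le_Sx (inv_mem hb'm))
        rw [mul_inv_cancel, D.ev_one] at this
        exact eq_of_add this.symm
      rw [D.ev_mul (D.triv_of_R (D.C'_le_R hb)) (D.C'_le_Sx (inv_mem hb'm)), hbi, hb', hsb2,
        add_self]
    rw [← hq, ← hb']
    obtain ⟨p, hp⟩ := D.vv_surj hv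
    have : b = vv z t p * b' := by rw [← hp]; group
    rw [this]
    calc vv z t p * b' * (vv z t p * b') = vv z t p * (b' * vv z t p) * b' := by group
      _ = (vv z t p * vv z t p) * (b' * b') := by rw [D.vv_comm p (D.C'_le_R hb'm)]; group
      _ = b' * b' := by
          rw [(D.H.U_inv D.sing (D.inU_iff.mpr (D.vv_mem p))).1, one_mul]
  have hcomm : ∀ b ∈ Cx Q' z, ∀ b' ∈ Cx Q' z, b * b' * b⁻¹ * b'⁻¹
      = vv z t (0, q (ev ν d b + ev ν d b') + q (ev ν d b) + q (ev ν d b')) := by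
    intro b hb b' hb'
    have hR := D.C'_le_R hb
    have hR' := D.C'_le_R hb'
    have hm := hq' _ (mul_mem hb hb')
    rw [D.ev_mul (D.triv_of_R hR) (D.C'_le_Sx hb'), add_comm (ev ν d b') (ev ν d b)] at hm
    have e : b * b' * (b * b') = (b * b' * b⁻¹ * b'⁻¹) * (b' * (b * b) * b') := by group
    rw [hm, hq' b hb, D.vv_comm _ hR', mul_assoc (vv z t (0, q (ev ν d b))), hq' b' hb', ← D.vv_add] at e
    rw [eq_mul_inv_of_mul_eq e.symm, D.vv_inv, ← D.vv_add]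
    simp only [Prod.mk_add_mk, add_zero, add_assoc]
  have hl : ∀ u u' w, (q (u + u' + w) + q (u + u') + q w)
      = (q (u + w) + q u + q w) + (q (u' + w) + q u' + q w) := by
    intro u u' w
    obtain ⟨b, hb, rfl⟩ := D.ev_surj u
    obtain ⟨b', hb', rfl⟩ := D.ev_surj u'
    obtain ⟨c, hc, rfl⟩ := D.ev_surj w
    have e := D.comm_mul_left (D.C'_le_R hb) (D.C'_le_R hb') (D.C'_le_R hc)
    rw [hcomm _ (mul_mem hb hb') c hc, hcomm b hb c hc, hcomm b' hb' c hc, ← D.vv_add,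
      D.ev_mul (D.triv_of_R (D.C'_le_R hb)) (D.C'_le_Sx hb'),
      add_comm (ev ν d b') (ev ν d b)] at e
    have := congrArg Prod.snd (D.vv_inj e)
    simpa using this
  have hinv : ∀ σ : P8, Equiv.Perm.sign σ = 1 → ∀ u, q (act σ u) = q u := by
    intro σ hσ u
    obtain ⟨c, rfl⟩ := D.exists_rho_eq hσ
    obtain ⟨b, hb, rfl⟩ := D.ev_surj u
    have e := hq' _ (D.conj_C' c.2 hb)
    rw [D.ev_conj hb, show (c : G) * b * (c : G)⁻¹ * ((c : G) * b * (c : G)⁻¹)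
      = (c : G) * (b * b) * (c : G)⁻¹ by group, hq' b hb, D.vv_comm_Sx _ c.2,
      mul_inv_cancel_right] at e
    exact (congrArg Prod.snd (D.vv_inj e)).symm
  have h0 : q 0 = 0 := by
    have e := hq' 1 (one_mem _)
    rw [mul_one, D.ev_one] at e
    exact (congrArg Prod.snd (D.vv_inj ((vv_zero z t).trans e))).symm
  obtain ⟨s, hs, hsz, hss⟩ := D.H'.h.exists_sqrt D.P.zQ' D.H.h.ne_one D.P.ne.symm
    (by rw [D.H'.cardQ]; norm_num)
  have hne : ∃ w, q w ≠ 0 := by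
    refine ⟨ev ν d s, fun h => D.P.h'.ne_one ?_⟩
    rw [← hss, hq' s (mem_Cx.mpr ⟨hs, hsz⟩), h]
    exact vv_zero z t
  have key := invariant_quad q (fun u w => q (u + w) + q u + q w)
    (fun u w => by
      generalize q (u + w) = i
      generalize q u = j
      generalize q w = k
      revert i j k
      decide)
    hl (fun u w w' => by
      have h := hl w w' u
      simp only [add_comm _ u] at h
      revert h
      generalize q (u + (w + w')) = i1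
      generalize q (w + w') = i2
      generalize q (u + w) = i3
      generalize q (u + w') = i4
      generalize q u = i5
      generalize q w = i6
      generalize q w' = i7
      revert i1 i2 i3 i4 i5 i6 i7
      decide) h0 hinv hne
  intro b hb
  rw [hq' b hb, key]

theorem comm_C' {b b' : G} (hb : b ∈ Cx Q' z) (hb' : b' ∈ Cx Q' z) :
    b * b' * b⁻¹ * b'⁻¹ = vv z t (0, B (ev ν d b) (ev ν d b')) := by
  have hR := D.C'_le_R hb
  have hR' := D.C'_le_R hb'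
  have hm := D.sq_C' _ (mul_mem hb hb')
  rw [D.ev_mul (D.triv_of_R hR) (D.C'_le_Sx hb'), add_comm (ev ν d b') (ev ν d b)] at hm
  have e : b * b' * (b * b') = (b * b' * b⁻¹ * b'⁻¹) * (b' * (b * b) * b') := by group
  rw [hm, D.sq_C' b hb, D.vv_comm _ hR', mul_assoc (vv z t (0, f (ev ν d b))), D.sq_C' b' hb', ← D.vv_add] at e
  rw [eq_mul_inv_of_mul_eq e.symm, D.vv_inv, ← D.vv_add, f_add]
  congr 1
  generalize f (ev ν d b) = i
  generalize f (ev ν d b') = j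
  generalize B (ev ν d b) (ev ν d b') = k
  revert i j k
  decide

/-- The commutator in coordinates. -/
theorem comm_R {a b a' b' : G} (ha : a ∈ Cx Q t) (hb : b ∈ Cx Q' z) (ha' : a' ∈ Cx Q t)
    (hb' : b' ∈ Cx Q' z) :
    (a * b) * (a' * b') * (a * b)⁻¹ * (a' * b')⁻¹
      = vv z t (cm (ν a, ev ν d b) (ν a', ev ν d b')) := by
  have haR := D.Cx_le_R ha
  have ha'R := D.Cx_le_R ha'
  have hbR := D.C'_le_R hb
  have hb'R := D.C'_le_R hb'
  have hba : b * a' * b⁻¹ * a'⁻¹ = vv z t (B (ν a') (ev ν d b), B (ν a') (ev ν d b)) := by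
    rw [← D.vv_inv (B (ν a') (ev ν d b), B (ν a') (ev ν d b)), ← D.comm_ab a' ha' b hb]
    group
  rw [D.comm_mul_left haR hbR (mul_mem ha'R hb'R), D.comm_mul_right ha'R hb'R haR,
    D.comm_mul_right ha'R hb'R hbR, D.comm_Cx ha ha', D.comm_ab a ha b' hb', hba,
    D.comm_C' hb hb', ← D.vv_add, ← D.vv_add, ← D.vv_add]
  congr 1
  simp only [cm, Prod.mk_add_mk, Prod.mk.injEq]
  constructor <;> ring

theorem sq_R {a b : G} (ha : a ∈ Cx Q t) (hb : b ∈ Cx Q' z) :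
    (a * b) * (a * b) = vv z t (f (ν a) + B (ν a) (ev ν d b), f (ev ν d b) + B (ν a) (ev ν d b)) := by
  have haR := D.Cx_le_R ha
  have hbR := D.C'_le_R hb
  have e : a * b * (a * b) = (a * b * a⁻¹ * b⁻¹) * (b * (a * a)) * b := by group
  have hsa : a * a = vv z t (f (ν a), 0) := by
    rw [D.K.sq a ha, vv, zp_zero, mul_one]
  rw [e, D.comm_ab a ha b hb, hsa, D.vv_comm _ hbR, mul_assoc, mul_assoc, D.sq_C' b hb,
    ← D.vv_add, ← D.vv_add]
  congr 1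
  simp only [Prod.mk_add_mk, Prod.mk.injEq]
  constructor <;> ring

theorem decomp {r : G} (hr : r ∈ D.P.R) : ∃ a ∈ Cx Q t, ∃ b ∈ Cx Q' z, r = a * b := by
  obtain ⟨b, hb, he⟩ := D.ev_surj (ev ν d r)
  have hbi : b⁻¹ ∈ Cx Q' z := inv_mem hb
  have hbe : ev ν d b⁻¹ = ev ν d b := by
    have := D.ev_mul (D.triv_of_R (D.C'_le_R hb)) (D.C'_le_Sx hbi)
    rw [mul_inv_cancel, D.ev_one] at this
    exact eq_of_add this.symm
  refine ⟨r * b⁻¹, D.mem_Cx_of_ev (D.triv_of_R (mul_mem hr (D.C'_le_R hbi))) ?_, b, hb, by group⟩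
  rw [D.ev_mul (D.triv_of_R hr) (D.C'_le_Sx hbi), hbe, he, add_self]

theorem decomp_unique {a b a' b' : G} (ha : a ∈ Cx Q t) (hb : b ∈ Cx Q' z) (ha' : a' ∈ Cx Q t)
    (hb' : b' ∈ Cx Q' z) (h : a * b = a' * b') : ν a = ν a' ∧ ev ν d b = ev ν d b' := by
  have h1 : a'⁻¹ * a = b' * b⁻¹ := by
    rw [inv_mul_eq_iff_eq_mul, ← mul_assoc, eq_mul_inv_iff_mul_eq, h]
  have h3 : b' * b⁻¹ ∈ Cx Q' z := mul_mem hb' (inv_mem hb)
  have h4 : a'⁻¹ * a ∈ Cx Q t := mul_mem (inv_mem ha') ha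
  have hV : b' * b⁻¹ ∈ D.P.V := by
    rw [← D.E_eq]
    exact ⟨h1 ▸ (mem_Cx.mp h4).1, (mem_Cx.mp h3).1⟩
  constructor
  · have : ν (a'⁻¹ * a) = 0 := (D.K.ker _ h4).mpr (D.inU_iff.mpr (by rw [h1]; exact hV))
    rw [D.K.add _ (inv_mem ha') a ha, D.H.nu_inv D.sing D.K ha'] at this
    exact (eq_of_add this).symm
  · have hT := D.triv_of_R (D.P.V_le_R hV)
    have : ev ν d (b' * b⁻¹ * b) = ev ν d b + 0 := by
      rw [D.ev_mul hT (D.C'_le_Sx hb), D.ev_Cx (D.V_le_Cx hV)]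
    rw [inv_mul_cancel_right, add_zero] at this
    exact this.symm

end Ctx

end Cfsg.Agent.ConwayTypeRadical62
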