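import Mathlib
import Cfsg.Agent.Lib.SuzTypeModel62

/-!
# Forms invariant under the alternating group on the five singular points
-/

set_option autoImplicit false
set_option maxRecDepth 100000

namespace Cfsg.Agent.SuzTypeModel62

theorem sign_swap34 : Equiv.Perm.sign (Equiv.swap (3 : Fin 5) 4) = -1 :=
  Equiv.Perm.sign_swap (by decide)

/-- An even permutation with three prescribed values. -/
theorem exists_even_three {i j k : Fin 5} (hij : i ≠ j) (hik : i ≠ k) (hjk : j ≠ k) :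
    ∃ σ : Equiv.Perm (Fin 5), Equiv.Perm.sign σ = 1 ∧ σ 0 = i ∧ σ 1 = j ∧ σ 2 = k := by
  obtain ⟨σ, h0, h1, h2⟩ := exists_perm_three i j k hij hik hjk
  rcases Int.units_eq_one_or (Equiv.Perm.sign σ) with e | e
  · exact ⟨σ, e, h0, h1, h2⟩
  · refine ⟨σ * Equiv.swap 3 4, by rw [map_mul, e, sign_swap34]; rfl, ?_, ?_, ?_⟩
    · rw [Equiv.Perm.mul_apply, Equiv.swap_apply_of_ne_of_ne (by decide) (by decide), h0]
    · rw [Equiv.Perm.mul_apply, Equiv.swap_apply_of_ne_of_ne (by decide) (by decide), h1]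
    · rw [Equiv.Perm.mul_apply, Equiv.swap_apply_of_ne_of_ne (by decide) (by decide), h2]

theorem exists_even_two {i j : Fin 5} (hij : i ≠ j) :
    ∃ σ : Equiv.Perm (Fin 5), Equiv.Perm.sign σ = 1 ∧ σ 0 = i ∧ σ 1 = j := by
  obtain ⟨k, hk1, hk2⟩ : ∃ k, i ≠ k ∧ j ≠ k := by revert i j; decide
  obtain ⟨σ, h1, h2, h3, -⟩ := exists_even_three hij hk1 hk2
  exact ⟨σ, h1, h2, h3⟩

theorem even_transitive {α β : M4} (hα : f α = 1) (hβ : f β = 1) (hB : B α β = 1) :
    ∃ σ : Equiv.Perm (Fin 5), Equiv.Perm.sign σ = 1 ∧ act σ α₀ = α ∧ act σ β₀ = β := by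
  obtain ⟨i, j, k, hij, hik, hjk, rfl, rfl⟩ := pair_transitive α hα β hβ hB
  obtain ⟨σ, h, h0, h1, h2⟩ := exists_even_three hij hik hjk
  exact ⟨σ, h, by rw [α₀, act_add, act_pt, act_pt, h0, h1],
    by rw [β₀, act_add, act_pt, act_pt, h0, h2]⟩

/-- Bilinear expansion. -/
theorem bilin_expand (g : M4 → M4 → ZMod 2) (hl : ∀ x x' y, g (x + x') y = g x y + g x' y)
    (hr : ∀ x y y', g x (y + y') = g x y + g x y') (a b c d : M4) (x : M4) (w : M4) :
    g (comb a b c d x) w = x 0 * g a w + x 1 * g b w + x 2 * g c w + x 3 * g d w ∧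
    g w (comb a b c d x) = x 0 * g w a + x 1 * g w b + x 2 * g w c + x 3 * g w d := by
  have h0 : ∀ w, g 0 w = 0 := fun w => by
    have := hl 0 0 w
    rw [add_zero] at this
    exact left_eq_add.mp this
  have h0' : ∀ w, g w 0 = 0 := fun w => by
    have := hr w 0 0
    rw [add_zero] at this
    exact left_eq_add.mp this
  have hs : ∀ (s : ZMod 2) v w, g (s • v) w = s * g v w := fun s v w => by
    rcases two_eq s with rfl | rfl <;> simp [h0]
  have hs' : ∀ (s : ZMod 2) v w, g w (s • v) = s * g w v := fun s v w => by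
    rcases two_eq s with rfl | rfl <;> simp [h0']
  simp only [comb, hl, hr, hs, hs', and_self]

theorem invariant_bilin (g : M4 → M4 → ZMod 2) (hl : ∀ x x' y, g (x + x') y = g x y + g x' y)
    (hr : ∀ x y y', g x (y + y') = g x y + g x y')
    (hinv : ∀ σ : Equiv.Perm (Fin 5), Equiv.Perm.sign σ = 1 →
      ∀ x y, g (act σ x) (act σ y) = g x y) :
    (∀ x y, g x y = 0) ∨ ∀ x y, g x y = B x y := by
  have hne : ∀ i j, i ≠ j → g (pt i) (pt j) = g (pt 0) (pt 1) := fun i j hij => by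
    obtain ⟨σ, hσ, h0, h1⟩ := exists_even_two hij
    rw [← hinv σ hσ (pt 0) (pt 1), act_pt, act_pt, h0, h1]
  have heq : ∀ i, g (pt i) (pt i) = g (pt 0) (pt 0) := fun i => by
    obtain ⟨j, hj⟩ : ∃ j, i ≠ j := by revert i; decide
    obtain ⟨σ, hσ, h0, -⟩ := exists_even_two hj
    rw [← hinv σ hσ (pt 0) (pt 0), act_pt, h0]
  have key : ∀ x y, g x y = g (pt 0) (pt 1) * B x y
      + g (pt 0) (pt 0) * (x 0 * y 0 + x 1 * y 1 + x 2 * y 2 + x 3 * y 3) := by
    intro x y
    conv_lhs => rw [expand x, expand y]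
    rw [(bilin_expand g hl hr _ _ _ _ x _).1, (bilin_expand g hl hr _ _ _ _ y _).2,
      (bilin_expand g hl hr _ _ _ _ y _).2, (bilin_expand g hl hr _ _ _ _ y _).2,
      (bilin_expand g hl hr _ _ _ _ y _).2, hne 0 1 (by decide), hne 0 2 (by decide),
      hne 0 3 (by decide), hne 1 0 (by decide), hne 1 2 (by decide), hne 1 3 (by decide),
      hne 2 0 (by decide), hne 2 1 (by decide), hne 2 3 (by decide), hne 3 0 (by decide),
      hne 3 1 (by decide), hne 3 2 (by decide), heq 1, heq 2, heq 3, B]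
    ring
  have hc : g (pt 0) (pt 0) = 0 := by
    have h4 := key (pt 4) (pt 4)
    rw [heq 4, B_self,
      show (pt 4 0 * pt 4 0 + pt 4 1 * pt 4 1 + pt 4 2 * pt 4 2 + pt 4 3 * pt 4 3 : ZMod 2) = 0
        from rfl, mul_zero, mul_zero, add_zero] at h4
    exact h4
  rcases two_eq (g (pt 0) (pt 1)) with e | e
  · exact Or.inl fun x y => by rw [key, e, hc]; ring
  · exact Or.inr fun x y => by rw [key, e, hc]; ring

theorem invariant_quad (q : M4 → ZMod 2) (β : M4 → M4 → ZMod 2)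
    (hq : ∀ x y, q (x + y) = q x + q y + β x y)
    (hl : ∀ x x' y, β (x + x') y = β x y + β x' y)
    (hr : ∀ x y y', β x (y + y') = β x y + β x y') (h0 : q 0 = 0)
    (hinv : ∀ σ : Equiv.Perm (Fin 5), Equiv.Perm.sign σ = 1 → ∀ x, q (act σ x) = q x)
    (hne : ∃ x, q x ≠ 0) : ∀ x, q x = f x := by
  have hβinv : ∀ σ : Equiv.Perm (Fin 5), Equiv.Perm.sign σ = 1 →
      ∀ x y, β (act σ x) (act σ y) = β x y := by
    intro σ hσ x y
    have h := hq (act σ x) (act σ y)
    rw [← act_add, hinv σ hσ, hinv σ hσ, hinv σ hσ, hq] at h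
    exact (add_left_cancel h).symm
  have hpt : ∀ i, q (pt i) = q (pt 0) := fun i => by
    obtain ⟨j, hj⟩ : ∃ j, i ≠ j := by revert i; decide
    obtain ⟨σ, hσ, h0', -⟩ := exists_even_two hj
    rw [← hinv σ hσ (pt 0), act_pt, h0']
  have hs : ∀ (s : ZMod 2) (v : M4), q (s • v) = s * q v := fun s v => by
    rcases two_eq s with rfl | rfl <;> simp [h0]
  have hb0 : ∀ y, β 0 y = 0 := fun y => by
    have := hl 0 0 y
    rw [add_zero] at this
    exact left_eq_add.mp this
  have hb0' : ∀ y, β y 0 = 0 := fun y => by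
    have := hr y 0 0
    rw [add_zero] at this
    exact left_eq_add.mp this
  have hbl : ∀ (s : ZMod 2) v w, β (s • v) w = s * β v w := fun s v w => by
    rcases two_eq s with rfl | rfl <;> simp [hb0]
  have hbr : ∀ (s : ZMod 2) v w, β v (s • w) = s * β v w := fun s v w => by
    rcases two_eq s with rfl | rfl <;> simp [hb0']
  rcases invariant_bilin β hl hr hβinv with hz | hB
  · exfalso
    have key : ∀ x, q x = q (pt 0) * (x 0 + x 1 + x 2 + x 3) := by
      intro x
      conv_lhs => rw [expand x]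
      simp only [comb, hq, hs, hz, hpt, add_zero]
      ring
    have h4 := key (pt 4)
    rw [hpt 4, show (pt 4 0 + pt 4 1 + pt 4 2 + pt 4 3 : ZMod 2) = 0 from rfl, mul_zero] at h4
    obtain ⟨x, hx⟩ := hne
    exact hx (by rw [key, h4, zero_mul])
  · have key : ∀ x, q x = q (pt 0) * (x 0 + x 1 + x 2 + x 3) + f x := by
      intro x
      conv_lhs => rw [expand x]
      simp only [comb, hq, hs, hl, hbl, hbr]
      simp only [hB, B_pt, hpt, f]
      simp only [show ¬ (0 : Fin 5) = 1 by decide, show ¬ (0 : Fin 5) = 2 by decide,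
        show ¬ (0 : Fin 5) = 3 by decide, show ¬ (1 : Fin 5) = 2 by decide,
        show ¬ (1 : Fin 5) = 3 by decide, show ¬ (2 : Fin 5) = 3 by decide, if_false]
      ring
    have h4 := key (pt 4)
    rw [hpt 4, f_pt, show (pt 4 0 + pt 4 1 + pt 4 2 + pt 4 3 : ZMod 2) = 0 from rfl, mul_zero,
      add_zero] at h4
    intro x
    rw [key, h4, zero_mul, zero_add]

end Cfsg.Agent.SuzTypeModel62
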