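import Mathlib
import Cfsg.Agent.Lib.LargeExtraspecialPair
import Cfsg.Agent.Lib.SuzTypeCoord62
import Cfsg.Agent.Lib.SuzTypeForms62

/-!
# The centraliser of a four group of Suzuki sporadic type

For two conjugate extraspecial groups with centres in each other: their intersection is the four
group, and the elements of `C(z) ∩ C(t)` acting trivially on `C_Q(t)/⟨z, t⟩` form the product of
the two centralisers, with alternating quotient of degree five.
-/

set_option autoImplicit false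

namespace Cfsg.Agent.SuzTypeRadical62

open Subgroup Cfsg.Agent.LargeExtraspecial Cfsg.Agent.LargeExtraspecialPair
open Cfsg.Agent.SuzTypeModel62 Cfsg.Agent.SuzTypeCoord62

variable {G : Type*} [Group G] [Finite G]

theorem hyp_map_conj {Q : Subgroup G} {z : G} (H : Hyp Q z) (g : G) :
    Hyp (Q.map (MulAut.conj g).toMonoidHom) (g * z * g⁻¹) := by
  refine ⟨H.h.map_conj g, ?_, ?_⟩
  · rw [Subgroup.card_map_of_injective (MulAut.conj g).injective]
    exact H.cardQ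
  · rw [← H.cardC]
    exact Nat.card_congr
      { toFun := fun a => ⟨g⁻¹ * a * g, mem_centralizer_singleton_iff.mpr (by
          have e := mem_centralizer_singleton_iff.mp a.2
          calc g⁻¹ * a * g * z = g⁻¹ * ((a : G) * (g * z * g⁻¹)) * g := by group
            _ = g⁻¹ * (g * z * g⁻¹ * a) * g := by rw [e]
            _ = z * (g⁻¹ * a * g) := by group)⟩
        invFun := fun a => ⟨g * a * g⁻¹, mem_centralizer_singleton_iff.mpr (by
          have e := mem_centralizer_singleton_iff.mp a.2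
          calc g * a * g⁻¹ * (g * z * g⁻¹) = g * ((a : G) * z) * g⁻¹ := by group
            _ = g * (z * a) * g⁻¹ := by rw [e]
            _ = g * z * g⁻¹ * (g * a * g⁻¹) := by group)⟩
        left_inv := fun a => Subtype.ext (by simp only; group)
        right_inv := fun a => Subtype.ext (by simp only; group) }

/-- The data: the pair, coordinates, an element moving `t`, and the action on five points. -/
structure Ctx (Q Q' : Subgroup G) (z t : G) (ν : G → M4) (d : G)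
    (ρ : ↥(Sx z t) →* Equiv.Perm (Fin 5)) : Prop where
  H : Hyp Q z
  H' : Hyp Q' t
  P : Pair Q Q' z t
  K : Coord Q z t ν f
  hd : d ∈ Q
  ed : d * t * d⁻¹ = z * t
  hρ : ∀ (c : ↥(Sx z t)) (a : G), a ∈ Cx Q t → act (ρ c) (ν a) = ν ((c : G) * a * (c : G)⁻¹)
  conj : ∀ x, x ∈ Q' → ∃ y, y ∈ Q ∧ IsConj y x
  tz : IsConj z t

/-- The coordinate of the movement of `d`. -/
def ev (ν : G → M4) (d c : G) : M4 := ν (c * d * c⁻¹ * d⁻¹)

theorem move_five : ∀ σ : Equiv.Perm (Fin 5), σ ^ 5 = 1 → σ ≠ 1 → ∀ i, σ i ≠ i := by decide +kernel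

namespace Ctx

variable {Q Q' : Subgroup G} {z t : G} {ν : G → M4} {d : G}
  {ρ : ↥(Sx z t) →* Equiv.Perm (Fin 5)} (D : Ctx Q Q' z t ν d ρ)
include D

theorem sing : Sing Q z t := ⟨D.P.z'Q, D.P.h'.zz, D.P.h'.ne_one, D.P.ne⟩

theorem inU_iff {a : G} : InU z t a ↔ a ∈ D.P.V := D.P.mem_V.symm

theorem V_le_Cx : D.P.V ≤ Cx Q t := fun _ ha => D.H.U_mem D.sing (D.inU_iff.mpr ha)

theorem R_le_Sx : D.P.R ≤ Sx z t := fun _ hr => mem_Sx.mpr (D.P.R_cent hr)

theorem C'_le_Sx : Cx Q' z ≤ Sx z t := fun _ hb =>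
  mem_Sx.mpr ⟨(mem_Cx.mp hb).2, D.P.h'.comm _ (mem_Cx.mp hb).1⟩

theorem Cx_le_R : Cx Q t ≤ D.P.R := le_sup_right

theorem C'_le_R : Cx Q' z ≤ D.P.R := le_sup_left

theorem card_C' : Nat.card (Cx Q' z) = 64 :=
  D.H'.card_Cx D.P.zQ' D.P.h.ne_one D.P.ne.symm

theorem rho_eq_one {c : ↥(Sx z t)} : ρ c = 1 ↔ Triv Q z t (c : G) := by
  constructor
  · refine fun h => ⟨c.2, fun a ha => ?_⟩
    refine (D.H.nu_eq D.sing D.K (D.H.conj_Cx c.2 ha) ha).mp ?_
    rw [← D.hρ c a ha, h, act_one]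
  · refine fun h => act_inj fun w => ?_
    obtain ⟨a, ha, rfl⟩ := D.K.surj w
    rw [act_one, D.hρ c a ha]
    exact (D.H.nu_eq D.sing D.K (D.H.conj_Cx c.2 ha) ha).mpr (h.2 a ha)

theorem exists_five : ∃ c : ↥(Sx z t), ∀ i, ρ c i ≠ i := by
  haveI : Fact (Nat.Prime 5) := ⟨by norm_num⟩
  obtain ⟨c, hc⟩ := exists_prime_orderOf_dvd_card' (G := ↥(Sx z t)) 5 (by
    rw [(D.H.orb_eq D.sing).2.2]; norm_num)
  refine ⟨c, move_five _ ?_ fun h => ?_⟩
  · rw [← map_pow, show c ^ 5 = 1 by rw [← hc]; exact pow_orderOf_eq_one c, map_one]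
  · have h8 := D.H.triv_pow D.sing (D.rho_eq_one.mp h)
    have : orderOf c ∣ 8 := orderOf_dvd_of_pow_eq_one (Subtype.ext (by simpa using h8))
    rw [hc] at this
    norm_num at this

theorem E_eq : D.P.E = D.P.V := by
  refine le_antisymm (fun e he => ?_) D.P.V_le_E
  have hE : ∀ e ∈ D.P.E, e ∈ Cx Q t ∧ f (ν e) = 0 := fun e he => by
    have hm : e ∈ Cx Q t := D.P.E_le_C he
    refine ⟨hm, zp_inj D.H.h.ne_one ?_⟩
    rw [← D.K.sq e hm, D.P.E_sq he, zp_zero]
  obtain ⟨hm, hf⟩ := hE e he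
  refine D.inU_iff.mp ((D.K.ker e hm).mp (((f_zero_iff _).mp hf).resolve_right ?_))
  rintro ⟨i, hi⟩
  obtain ⟨c, hc⟩ := D.exists_five
  have hce : (c : G) * e * (c : G)⁻¹ ∈ D.P.E :=
    ⟨D.H.h.norm c (mem_Sx.mp c.2).1 e he.1, D.P.h'.norm c (mem_Sx.mp c.2).2 e he.2⟩
  have h1 := (hE _ (mul_mem he hce)).2
  rw [D.K.add e hm _ (hE _ hce).1, ← D.hρ c e hm, hi, act_pt, f_add, f_pt, f_pt, B_pt,
    if_neg (fun h => hc i h.symm)] at h1
  exact absurd h1 (by decide)

theorem comm_V {r r' : G} (hr : r ∈ D.P.R) (hr' : r' ∈ D.P.R) :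
    r * r' * r⁻¹ * r'⁻¹ ∈ D.P.V := D.E_eq ▸ D.P.R_comm hr hr'

theorem triv_of_R {r : G} (hr : r ∈ D.P.R) : Triv Q z t r :=
  ⟨D.R_le_Sx hr, fun _ ha => D.inU_iff.mpr (D.comm_V hr (D.Cx_le_R ha))⟩

theorem ev_mem {c : G} (hc : c ∈ Sx z t) : c * d * c⁻¹ * d⁻¹ ∈ Cx Q t := by
  obtain ⟨h1, h2⟩ := mem_Sx.mp hc
  have hcd : c * d * c⁻¹ ∈ Q := D.H.h.norm c h1 d D.hd
  refine mem_Cx.mpr ⟨Q.mul_mem hcd (Q.inv_mem D.hd), ?_⟩
  have e1 : (c * d * c⁻¹) * t * (c * d * c⁻¹)⁻¹ = z * t := by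
    calc (c * d * c⁻¹) * t * (c * d * c⁻¹)⁻¹ = c * d * (c⁻¹ * t) * c * d⁻¹ * c⁻¹ := by group
      _ = c * d * (t * c⁻¹) * c * d⁻¹ * c⁻¹ := by
          rw [(show Commute c t from h2).inv_left.eq]
      _ = c * (d * t * d⁻¹) * c⁻¹ := by group
      _ = (c * z) * t * c⁻¹ := by rw [D.ed]; group
      _ = z * (c * t) * c⁻¹ := by rw [h1]; group
      _ = z * t := by rw [h2]; group
  have e2 : d⁻¹ * t * d⁻¹⁻¹ = z * t := by
    refine (D.H.h.not_comm_iff D.sing.1 (Q.inv_mem D.hd)).mp fun e => ?_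
    have hcm : Commute d t := by simpa using (show Commute d⁻¹ t from e).inv_left
    exact (D.H.h.not_comm_iff D.sing.1 D.hd).mpr D.ed hcm
  exact mul_inv_eq_iff_eq_mul.mp (D.H.h.mul_fix hcd e1 e2)

theorem ev_mul {c c' : G} (hc : Triv Q z t c) (hc' : c' ∈ Sx z t) :
    ev ν d (c * c') = ev ν d c' + ev ν d c := by
  have hm := D.ev_mem hc'
  rw [ev, show c * c' * d * (c * c')⁻¹ * d⁻¹
      = (c * (c' * d * c'⁻¹ * d⁻¹) * c⁻¹) * (c * d * c⁻¹ * d⁻¹) by group,
    D.K.add _ (D.H.conj_Cx hc.1 hm) _ (D.ev_mem hc.1)]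
  congr 1
  exact (D.H.nu_eq D.sing D.K (D.H.conj_Cx hc.1 hm) hm).mpr (hc.2 _ hm)

theorem nu_zero_of_Cx_dz {a : G} (ha : a ∈ Cx Q t) :
    d * a * d⁻¹ = a ∨ d * a * d⁻¹ = z * a := D.H.h.conj d D.hd a (mem_Cx.mp ha).1

theorem mem_Cx_of_ev {c : G} (hc : Triv Q z t c) (he : ev ν d c = 0) : c ∈ Cx Q t := by
  obtain ⟨hcS, hcU⟩ := hc
  have hcz := (mem_Sx.mp hcS).1
  have hu0 : InU z t (c * d * c⁻¹ * d⁻¹) := (D.K.ker _ (D.ev_mem hcS)).mp he
  set u0 := c * d * c⁻¹ * d⁻¹ with hu0d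
  -- the action on `C_Q(t)` moves every element only by `z`
  have hz : ∀ a ∈ Cx Q t, c * a * c⁻¹ = a ∨ c * a * c⁻¹ = z * a := by
    intro a ha
    set u := c * a * c⁻¹ * a⁻¹ with hud
    have huU : InU z t u := hcU a ha
    have hua : c * a * c⁻¹ = u * a := by rw [hud]; group
    have hdu : d * u * d⁻¹ = u := by
      obtain ⟨k, hk⟩ : ∃ k, d * a * d⁻¹ = zp z k * a := by
        rcases D.nu_zero_of_Cx_dz ha with e | e
        · exact ⟨0, by rw [zp_zero, one_mul]; exact e⟩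
        · exact ⟨1, by rw [zp_one]; exact e⟩
      have hk1 : Commute c (zp z k) := by
        rcases two_eq k with rfl | rfl
        · rw [zp_zero]; exact Commute.one_right c
        · rw [zp_one]; exact hcz
      have huS : c * a * c⁻¹ ∈ Cx Q t := D.H.conj_Cx hcS ha
      have e1 : u0 * (d * (u * a) * d⁻¹) * u0⁻¹ = zp z k * (u * a) := by
        rw [← hua]
        calc u0 * (d * (c * a * c⁻¹) * d⁻¹) * u0⁻¹ = c * (d * a * d⁻¹) * c⁻¹ := by
              rw [hu0d]; group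
          _ = zp z k * (c * a * c⁻¹) := by rw [hk, ← mul_assoc c, hk1.eq]; group
      have hd1 : d * (u * a) * d⁻¹ ∈ Cx Q t := by
        rw [← hua]
        rcases D.nu_zero_of_Cx_dz huS with e | e <;> rw [e]
        exacts [huS, mul_mem (D.H.z_mem D.sing) huS]
      rw [← D.H.U_comm D.sing hu0 (D.H.Cx_le_Sx hd1), mul_inv_cancel_right] at e1
      have hku : Commute (zp z k) u := by
        rcases two_eq k with rfl | rfl
        · rw [zp_zero]; exact Commute.one_left u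
        · rw [zp_one]
          exact (D.H.h.comm u (mem_Cx.mp (D.H.U_mem D.sing huU)).1).symm
      calc d * u * d⁻¹ = (d * (u * a) * d⁻¹) * (d * a * d⁻¹)⁻¹ := by group
        _ = zp z k * u * (zp z k)⁻¹ := by rw [e1, hk]; group
        _ = u := by rw [hku.eq, mul_inv_cancel_right]
    rw [hua]
    rcases huU with e | e | e | e
    · exact Or.inl (by rw [e, one_mul])
    · exact Or.inr (by rw [e])
    · rw [e, D.ed] at hdu
      exact absurd hdu (D.H.U_distinct D.sing).2.2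
    · exfalso
      rw [e] at hdu
      have e2 : d * (z * t) * d⁻¹ = t := by
        calc d * (z * t) * d⁻¹ = (d * z) * t * d⁻¹ := by group
          _ = z * (d * t * d⁻¹) := by rw [D.H.h.comm d D.hd]; group
          _ = t := by rw [D.ed, D.H.h.z_mul_z_mul]
      exact (D.H.U_distinct D.sing).2.2 (hdu.symm.trans e2)
  -- realise it inside
  have hex : ∀ a ∈ Cx Q t, ∃ k, c * a * c⁻¹ = zp z k * a := fun a ha => by
    rcases hz a ha with e | e
    · exact ⟨0, by rw [zp_zero, one_mul]; exact e⟩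
    · exact ⟨1, by rw [zp_one]; exact e⟩
  choose s hs1 hs2 using fun i : Fin 4 => D.K.surj (pt i.castSucc)
  choose k hk using fun i => hex (s i) (hs1 i)
  obtain ⟨α, hα0, hα1, hα2, hα3⟩ := dual_exists k
  obtain ⟨a₁, ha₁, rfl⟩ := D.K.surj α
  set c' := a₁⁻¹ * c with hc'
  have hBq : ∀ a b : M4, f (a + b) + f a + f b = B a b := fun a b => by
    rw [f_add]
    generalize f a = i
    generalize f b = j
    generalize B a b = l
    revert i j l
    decide
  have hfix0 : ∀ i, c' * s i * c'⁻¹ = s i := by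
    intro i
    have e1 : a₁ * s i * a₁⁻¹ = zp z (k i) * s i := by
      rw [D.H.conj_eq D.sing D.K ha₁ (hs1 i), hBq, hs2 i]
      congr 2
      fin_cases i
      exacts [hα0, hα1, hα2, hα3]
    calc c' * s i * c'⁻¹ = a₁⁻¹ * (c * s i * c⁻¹) * a₁ := by rw [hc']; group
      _ = a₁⁻¹ * (a₁ * s i * a₁⁻¹) * a₁ := by rw [hk, e1]
      _ = s i := by group
  have hc'S : c' ∈ Sx z t := mul_mem (inv_mem (D.H.Cx_le_Sx ha₁)) hcS
  have hfix : ∀ a ∈ Cx Q t, Commute c' a := by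
    have hs : ∀ i, Commute c' (s i) := fun i => mul_inv_eq_iff_eq_mul.mp (hfix0 i)
    have hU : ∀ u, InU z t u → Commute c' u := fun u hu => D.H.U_comm D.sing hu hc'S
    let N : Subgroup G := Cx Q t ⊓ centralizer ({c'} : Set G)
    have hN : ∀ a ∈ Cx Q t, Commute c' a → a ∈ N := fun a h1 h2 =>
      ⟨h1, mem_centralizer_singleton_iff.mpr h2.symm.eq⟩
    have hpt : ∀ i : Fin 4, ∀ v : ZMod 2, ∃ b ∈ N, ν b = v • pt i.castSucc := fun i v => by
      rcases two_eq v with rfl | rfl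
      · exact ⟨1, one_mem _, by rw [zero_smul]; exact D.H.nu_one D.sing D.K⟩
      · exact ⟨s i, hN _ (hs1 i) (hs i), by rw [one_smul]; exact hs2 i⟩
    intro a ha
    obtain ⟨b0, hb0, e0⟩ := hpt 0 (ν a 0)
    obtain ⟨b1, hb1, e1⟩ := hpt 1 (ν a 1)
    obtain ⟨b2, hb2, e2⟩ := hpt 2 (ν a 2)
    obtain ⟨b3, hb3, e3⟩ := hpt 3 (ν a 3)
    have hb : b0 * b1 * b2 * b3 ∈ N := mul_mem (mul_mem (mul_mem hb0 hb1) hb2) hb3
    have hνb : ν (b0 * b1 * b2 * b3) = ν a := by
      rw [D.K.add _ (mul_mem (mul_mem hb0.1 hb1.1) hb2.1) _ hb3.1,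
        D.K.add _ (mul_mem hb0.1 hb1.1) _ hb2.1, D.K.add _ hb0.1 _ hb1.1, e0, e1, e2, e3]
      exact (expand (ν a)).symm
    have := (hU _ ((D.H.nu_eq D.sing D.K ha hb.1).mp hνb.symm)).mul_right
      (show Commute c' (b0 * b1 * b2 * b3) from (mem_centralizer_singleton_iff.mp hb.2).symm)
    rwa [inv_mul_cancel_right] at this
  set u1 := c' * d * c'⁻¹ * d⁻¹ with hu1
  have hu1U : InU z t u1 := by
    refine D.H.central_U D.sing (mem_Cx.mp (D.ev_mem hc'S)).1 fun a ha => ?_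
    have hda : d⁻¹ * a * d ∈ Cx Q t := by
      rcases D.H.h.conj d⁻¹ (Q.inv_mem D.hd) a (mem_Cx.mp ha).1 with w | w <;>
        rw [inv_inv] at w <;> rw [w]
      exacts [ha, mul_mem (D.H.z_mem D.sing) ha]
    have w1 : Commute c' (d⁻¹ * a * d) := hfix _ hda
    have w2 : Commute c' a := hfix _ ha
    show a * u1 = u1 * a
    calc a * u1 = (a * c') * d * c'⁻¹ * d⁻¹ := by rw [hu1]; group
      _ = c' * d * ((d⁻¹ * a * d) * c'⁻¹) * d⁻¹ := by rw [← w2.eq]; group
      _ = u1 * a := by rw [← w1.inv_left.eq, hu1]; group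
  -- adjust by `t`
  have hsq : (u1 * d) * (u1 * d) = d * d := by
    rw [hu1, inv_mul_cancel_right]
    calc c' * d * c'⁻¹ * (c' * d * c'⁻¹) = c' * (d * d) * c'⁻¹ := by group
      _ = d * d := by
        rcases D.H.h.sq d D.hd with e | e <;> rw [e]
        · group
        · rw [(mem_Sx.mp hc'S).1, mul_inv_cancel_right]
  have hdm : d * d⁻¹ = 1 := mul_inv_cancel d
  have hu1z : u1 = 1 ∨ u1 = z := by
    rcases hu1U with e | e | e | e
    · exact Or.inl e
    · exact Or.inr e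
    · exfalso
      rw [e] at hsq
      apply D.H.h.ne_one
      have : t * d * (t * d) = z * (d * d) := by
        have : d * t = z * t * d := mul_inv_eq_iff_eq_mul.mp D.ed
        calc t * d * (t * d) = t * (d * t) * d := by group
          _ = (t * z) * t * (d * d) := by rw [this]; group
          _ = z * (t * t) * (d * d) := by rw [← D.H.zx D.sing]; group
          _ = z * (d * d) := by rw [D.sing.2.1, mul_one]
      exact mul_eq_right.mp (this.symm.trans hsq)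
    · exfalso
      rw [e] at hsq
      apply D.H.h.ne_one
      have : z * t * d * (z * t * d) = z * (d * d) := by
        have h1 : d * (z * t) = t * d := by
          rw [← mul_assoc, D.H.h.comm d D.hd, mul_assoc, mul_inv_eq_iff_eq_mul.mp D.ed,
            mul_assoc z t d, D.H.h.z_mul_z_mul]
        calc z * t * d * (z * t * d) = z * t * (d * (z * t)) * d := by group
          _ = z * (t * t) * (d * d) := by rw [h1]; group
          _ = z * (d * d) := by rw [D.sing.2.1, mul_one]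
      exact mul_eq_right.mp (this.symm.trans hsq)
  -- absorb `z` by conjugation with `t`
  obtain ⟨u2, hu2, hcd⟩ : ∃ u2 ∈ Cx Q t, u2 * c' * d * (u2 * c')⁻¹ = d ∧
      ∀ a ∈ Cx Q t, Commute (u2 * c') a := by
    rcases hu1z with e | e
    · exact ⟨1, one_mem _, by rw [one_mul]; exact mul_inv_eq_one.mp e, by simpa using hfix⟩
    · refine ⟨t, D.H.x_mem D.sing, ?_, fun a ha => ?_⟩
      · have h1 : c' * d * c'⁻¹ = z * d := mul_inv_eq_iff_eq_mul.mp e
        have h2 : d * t = z * t * d := mul_inv_eq_iff_eq_mul.mp D.ed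
        calc t * c' * d * (t * c')⁻¹ = t * (c' * d * c'⁻¹) * t⁻¹ := by group
          _ = t * z * d * t⁻¹ := by rw [h1]; group
          _ = (z * t * d) * t⁻¹ := by rw [← D.H.zx D.sing]
          _ = d := by rw [← h2, mul_inv_cancel_right]
      · exact (show Commute t a from (mem_Cx.mp ha).2.symm).mul_left (hfix a ha)
  obtain ⟨hcdd, hcdC⟩ := hcd
  have hall : ∀ y ∈ Q, (u2 * c') * y = y * (u2 * c') := by
    intro y hy
    by_cases hyx : y * t = t * y
    · exact (hcdC y (mem_Cx.mpr ⟨hy, hyx⟩)).eq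
    · have hdy : d * y ∈ Cx Q t := mem_Cx.mpr ⟨Q.mul_mem D.hd hy, mul_inv_eq_iff_eq_mul.mp
        (D.H.h.mul_fix D.hd D.ed ((D.H.h.not_comm_iff D.sing.1 hy).mp hyx))⟩
      have := (show Commute (u2 * c') d from mul_inv_eq_iff_eq_mul.mp hcdd).inv_right.mul_right
        (hcdC _ hdy)
      rwa [inv_mul_cancel_left] at this
  have hfin : u2 * c' ∈ Cx Q t := by
    rcases D.H.h.cent _ hall with e | e <;> rw [e]
    exacts [one_mem _, D.H.z_mem D.sing]
  have := mul_mem ha₁ (mul_mem (inv_mem hu2) hfin)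
  rwa [inv_mul_cancel_left, hc', mul_inv_cancel_left] at this

theorem ev_one : ev ν d 1 = 0 := by
  rw [ev, show (1 : G) * d * 1⁻¹ * d⁻¹ = 1 by group]
  exact D.H.nu_one D.sing D.K

theorem ev_Cx {a : G} (ha : a ∈ Cx Q t) : ev ν d a = 0 := by
  refine (D.K.ker _ (D.ev_mem (D.H.Cx_le_Sx ha))).mpr ?_
  rcases D.H.h.conj a (mem_Cx.mp ha).1 d D.hd with e | e
  · exact Or.inl (mul_inv_eq_one.mpr e)
  · exact Or.inr (Or.inl (by rw [e, mul_inv_cancel_right]))

theorem ev_eq_zero {b : G} (hb : b ∈ Cx Q' z) : ev ν d b = 0 ↔ b ∈ D.P.V := by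
  refine ⟨fun h => ?_, fun h => D.ev_Cx (D.V_le_Cx h)⟩
  rw [← D.E_eq]
  exact ⟨(mem_Cx.mp (D.mem_Cx_of_ev (D.triv_of_R (D.C'_le_R hb)) h)).1, (mem_Cx.mp hb).1⟩

theorem ev_surj (w : M4) : ∃ b ∈ Cx Q' z, ev ν d b = w := by
  let φ : ↥(Cx Q' z) →* Multiplicative M4 := MonoidHom.mk'
    (fun b => Multiplicative.ofAdd (ev ν d (b : G))) fun a b => by
      rw [← ofAdd_add, coe_mul, D.ev_mul (D.triv_of_R (D.C'_le_R a.2)) (D.C'_le_Sx b.2), add_comm]
  have hker : Nat.card φ.ker ≤ 4 := by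
    have hsub : ((↑) : ↥(Cx Q' z) → G) '' (φ.ker : Set ↥(Cx Q' z)) ⊆
        ({1, z, t, z * t} : Set G) := by
      rintro _ ⟨b, hb, rfl⟩
      simpa using D.P.mem_V.mp ((D.ev_eq_zero b.2).mp hb)
    rw [← SetLike.coe_sort_coe, Nat.card_coe_set_eq,
      ← Set.ncard_image_of_injective _ Subtype.val_injective]
    refine (Set.ncard_le_ncard hsub (Set.toFinite _)).trans ?_
    refine (Set.ncard_insert_le _ _).trans ?_
    refine (Nat.add_le_add_right (Set.ncard_insert_le _ _) _).trans ?_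
    refine (Nat.add_le_add_right (Nat.add_le_add_right (Set.ncard_insert_le _ _) _) _).trans ?_
    rw [Set.ncard_singleton]
  have hmul : Nat.card φ.ker * Nat.card φ.range = 64 := by
    rw [← Subgroup.index_ker, Subgroup.card_mul_index]
    exact D.card_C'
  have h16 : Nat.card (Multiplicative M4) = 16 := by
    rw [Nat.card_congr Multiplicative.toAdd, Nat.card_fun, Nat.card_zmod, Nat.card_fin]
    rfl
  have hr : Nat.card φ.range = 16 := le_antisymm
    (h16 ▸ Nat.card_le_card_of_injective _ Subtype.val_injective) (by nlinarith)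
  obtain ⟨b, hb⟩ : Multiplicative.ofAdd w ∈ φ.range := by
    rw [Subgroup.eq_top_of_card_eq φ.range (hr.trans h16.symm)]
    exact mem_top _
  exact ⟨b, b.2, hb⟩

theorem mem_R_iff {c : G} : Triv Q z t c ↔ c ∈ D.P.R := by
  refine ⟨fun hc => ?_, D.triv_of_R⟩
  obtain ⟨b, hb, he⟩ := D.ev_surj (ev ν d c)
  have hbi : b⁻¹ ∈ Cx Q' z := inv_mem hb
  have hT := D.triv_of_R (D.C'_le_R hbi)
  have hbe : ev ν d b⁻¹ = ev ν d b := by
    have := D.ev_mul (D.triv_of_R (D.C'_le_R hb)) (D.C'_le_Sx hbi)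
    rw [mul_inv_cancel, D.ev_one] at this
    exact eq_of_add this.symm
  have hprod : Triv Q z t (b⁻¹ * c) := by
    have hm : b⁻¹ * c ∈ Sx z t := mul_mem hT.1 hc.1
    have h1 : ρ ⟨b⁻¹, hT.1⟩ = 1 := D.rho_eq_one.mpr hT
    have h2 : ρ ⟨c, hc.1⟩ = 1 := D.rho_eq_one.mpr hc
    exact (D.rho_eq_one (c := ⟨b⁻¹ * c, hm⟩)).mp
      ((map_mul ρ ⟨b⁻¹, hT.1⟩ ⟨c, hc.1⟩).trans (by rw [h1, h2, mul_one]))
  have := D.mem_Cx_of_ev hprod (by rw [D.ev_mul hT hc.1, hbe, he, add_self])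
  have h' := mul_mem (D.C'_le_R hb) (D.Cx_le_R this)
  rwa [mul_inv_cancel_left] at h'

theorem rho_R {c : ↥(Sx z t)} : ρ c = 1 ↔ (c : G) ∈ D.P.R := D.rho_eq_one.trans D.mem_R_iff

theorem card_ker : Nat.card ρ.ker = 1024 := by
  let φ : ↥ρ.ker →* Multiplicative M4 := MonoidHom.mk'
    (fun c => Multiplicative.ofAdd (ev ν d ((c : ↥(Sx z t)) : G))) fun a b => by
      rw [← ofAdd_add, coe_mul, coe_mul, D.ev_mul (D.rho_eq_one.mp a.2) b.1.2, add_comm]
  have hsurj : Function.Surjective φ := fun w => by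
    obtain ⟨b, hb, he⟩ := D.ev_surj w.toAdd
    exact ⟨⟨⟨b, D.C'_le_Sx hb⟩, D.rho_R.mpr (D.C'_le_R hb)⟩, congrArg Multiplicative.ofAdd he⟩
  have hk : Nat.card φ.ker = 64 := by
    rw [← D.H.card_Cx D.sing.1 D.sing.2.2.1 D.sing.2.2.2]
    exact Nat.card_congr
      { toFun := fun c => ⟨((c : ↥ρ.ker) : ↥(Sx z t)),
          D.mem_Cx_of_ev (D.rho_eq_one.mp (c : ↥ρ.ker).2) (congrArg Multiplicative.toAdd c.2)⟩
        invFun := fun a => ⟨⟨⟨a, D.H.Cx_le_Sx a.2⟩, D.rho_R.mpr (D.Cx_le_R a.2)⟩,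
          congrArg Multiplicative.ofAdd (D.ev_Cx a.2)⟩
        left_inv := fun _ => rfl
        right_inv := fun _ => rfl }
  rw [← Subgroup.card_mul_index φ.ker, Subgroup.index_ker, hk,
    MonoidHom.range_eq_top.mpr hsurj, Subgroup.card_top, Nat.card_congr Multiplicative.toAdd,
    Nat.card_fun, Nat.card_zmod, Nat.card_fin]
  rfl

theorem range_eq : ρ.range = alternatingGroup (Fin 5) := by
  refine Equiv.Perm.eq_alternatingGroup_of_index_eq_two ?_
  have h := Subgroup.card_mul_index ρ.ker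
  rw [D.card_ker, (D.H.orb_eq D.sing).2.2, Subgroup.index_ker] at h
  have h2 := Subgroup.card_mul_index ρ.range
  rw [Nat.card_perm, Nat.card_fin, show Nat.factorial 5 = 120 from rfl] at h2
  have : Nat.card ρ.range = 60 := by omega
  rw [this] at h2
  omega

theorem sign_rho (c : ↥(Sx z t)) : Equiv.Perm.sign (ρ c) = 1 :=
  Equiv.Perm.mem_alternatingGroup.mp (D.range_eq ▸ ⟨c, rfl⟩)

theorem exists_rho_eq {σ : Equiv.Perm (Fin 5)} (hσ : Equiv.Perm.sign σ = 1) : ∃ c, ρ c = σ := by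
  have : σ ∈ ρ.range := D.range_eq.symm ▸ Equiv.Perm.mem_alternatingGroup.mpr hσ
  exact this

end Ctx

end Cfsg.Agent.SuzTypeRadical62
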