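import Mathlib
import Cfsg.Agent.Lib.SuzTypePair62

/-!
# The two classes of involutions of a group of Suzuki sporadic type
-/

set_option autoImplicit false

namespace Cfsg.Agent.SuzTypeRadical62

open Subgroup Cfsg.Agent.LargeExtraspecial Cfsg.Agent.LargeExtraspecialPair
open Cfsg.Agent.SuzTypeModel62 Cfsg.Agent.SuzTypeCoord62

variable {G : Type*} [Group G] [Finite G]

theorem exists_ctx {Q : Subgroup G} {z g : G} (H : Hyp Q z) (hgQ : g * z * g⁻¹ ∈ Q)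
    (hgz : g * z * g⁻¹ ≠ z) :
    ∃ ν d ρ, Ctx Q (Q.map (MulAut.conj g).toMonoidHom) z (g * z * g⁻¹) ν d ρ := by
  have P := pair_of_conj H.h hgQ hgz (by rw [H.cardQ]; norm_num)
  have hx : Sing Q z (g * z * g⁻¹) := ⟨hgQ, P.h'.zz, P.h'.ne_one, hgz⟩
  obtain ⟨ν, K⟩ := H.exists_nf hx
  obtain ⟨d, hd, ed⟩ := H.h.partner _ hgQ P.h'.ne_one hgz
  obtain ⟨ρ, hρ, -⟩ := H.exists_rho hx K
  refine ⟨ν, d, ρ, H, hyp_map_conj H g, P, K, hd, ed, hρ, ?_, isConj_iff.mpr ⟨g, rfl⟩⟩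
  rintro _ ⟨y, hy, rfl⟩
  exact ⟨y, hy, isConj_iff.mpr ⟨g, rfl⟩⟩

/-- A bound for the index of a point centraliser. -/
theorem card_le_mul_cent (K : Subgroup G) (x : G) (S : Set G) (h : ∀ q ∈ K, q * x * q⁻¹ ∈ S) :
    Nat.card K ≤ S.ncard * Nat.card ↥(K ⊓ centralizer ({x} : Set G)) := by
  set F := K ⊓ centralizer ({x} : Set G) with hF
  have h1 := Subgroup.card_mul_index (F.subgroupOf K)
  rw [Nat.card_congr (Subgroup.subgroupOfEquivOfLe (show F ≤ K from inf_le_left)).toEquiv] at h1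
  rw [← h1, mul_comm]
  refine Nat.mul_le_mul_right _ ?_
  rw [Subgroup.index, ← Nat.card_coe_set_eq]
  haveI := (Set.toFinite S).to_subtype
  refine Nat.card_le_card_of_injective
    (fun q => ⟨(q.out : G) * x * (q.out : G)⁻¹, h _ q.out.2⟩) fun q q' e => ?_
  have e' : (q.out : G) * x * (q.out : G)⁻¹ = (q'.out : G) * x * (q'.out : G)⁻¹ :=
    congrArg Subtype.val e
  rw [← QuotientGroup.out_eq' q, ← QuotientGroup.out_eq' q', QuotientGroup.eq]
  refine ⟨(q.out⁻¹ * q'.out).2, mem_centralizer_singleton_iff.mpr (mul_inv_eq_iff_eq_mul.mp ?_)⟩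
  show (q.out : G)⁻¹ * q'.out * x * ((q.out : G)⁻¹ * q'.out)⁻¹ = x
  calc (q.out : G)⁻¹ * q'.out * x * ((q.out : G)⁻¹ * q'.out)⁻¹
      = (q.out : G)⁻¹ * ((q'.out : G) * x * (q'.out : G)⁻¹) * q.out := by group
    _ = x := by rw [← e']; group

/-- A Klein four group of double transpositions. -/
def klein : Subgroup (Equiv.Perm (Fin 5)) where
  carrier := {σ | σ = 1 ∨ σ = σ₁ ∨ σ = σ₂ ∨ σ = σ₁ * σ₂}
  one_mem' := Or.inl rfl
  mul_mem' := fun {a b} ha hb => by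
    rcases ha with rfl | rfl | rfl | rfl <;> rcases hb with rfl | rfl | rfl | rfl <;>
      simp only [Set.mem_setOf_eq] <;> decide
  inv_mem' := fun {a} ha => by
    rcases ha with rfl | rfl | rfl | rfl <;> simp only [Set.mem_setOf_eq] <;> decide

theorem klein_sq : ∀ σ ∈ klein, σ * σ = 1 := by
  rintro σ (rfl | rfl | rfl | rfl) <;> decide

theorem sign_sigma : Equiv.Perm.sign σ₁ = 1 ∧ Equiv.Perm.sign σ₂ = 1 := by
  constructor <;> simp [σ₁, σ₂, Equiv.Perm.sign_swap']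

theorem chosen : f α₀ = 1 ∧ f β₀ = 1 ∧ B α₀ β₀ = 1 ∧ α₀ ≠ β₀ ∧ α₀ ≠ 0 ∧ β₀ ≠ 0 := by decide +kernel

namespace Ctx

variable {Q Q' : Subgroup G} {z t : G} {ν : G → M4} {d : G}
  {ρ : ↥(Sx z t) →* Equiv.Perm (Fin 5)} (D : Ctx Q Q' z t ν d ρ)
include D

theorem conj_z_Q {y : G} (hy : y ∈ Q) (hyy : y * y = 1) (h1 : y ≠ 1) : IsConj y z := by
  by_cases hz : y = z
  · subst hz
    exact IsConj.refl _
  · obtain ⟨c, -, hc⟩ := D.H.transitive D.sing ⟨hy, hyy, h1, hz⟩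
    exact (D.tz.trans (isConj_iff.mpr ⟨c, hc⟩)).symm

theorem conj_z_Q' {y : G} (hy : y ∈ Q') (hyy : y * y = 1) (h1 : y ≠ 1) : IsConj y z := by
  obtain ⟨w, hw, hc⟩ := D.conj y hy
  obtain ⟨c, rfl⟩ := isConj_iff.mp hc
  refine hc.symm.trans (D.conj_z_Q hw ?_ fun e => h1 (by rw [e]; group))
  calc w * w = c⁻¹ * (c * w * c⁻¹ * (c * w * c⁻¹)) * c := by group
    _ = 1 := by rw [hyy]; group

theorem V_le_C' : D.P.V ≤ Cx Q' z := D.P.V_le_E.trans D.P.E_le_C'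

/-- The second class meets `R`. -/
theorem exists_y : ∃ a₀ ∈ Cx Q t, ∃ b₀ ∈ Cx Q' z, ν a₀ = α₀ ∧ ev ν d b₀ = β₀ ∧
    (a₀ * b₀) * (a₀ * b₀) = 1 ∧ a₀ * b₀ ≠ 1 := by
  obtain ⟨hf, hg, hB, -, hα, -⟩ := chosen
  obtain ⟨a₀, ha, eα⟩ := D.K.surj α₀
  obtain ⟨b₀, hb, eβ⟩ := D.ev_surj β₀
  refine ⟨a₀, ha, b₀, hb, eα, eβ, ?_, fun e => hα ?_⟩
  · rw [D.sq_R ha hb, eα, eβ, hf, hg, hB, show ((1 : ZMod 2) + 1, (1 : ZMod 2) + 1) = 0 from rfl,
      vv_zero]
  · rw [← eα, (D.decomp_unique ha hb (one_mem _) (one_mem _) (by rw [e, one_mul])).1]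
    exact D.H.nu_one D.sing D.K

theorem d_inv_V {v : G} (hv : v ∈ D.P.V) : d⁻¹ * v * d ∈ D.P.V := by
  obtain ⟨⟨i, j⟩, rfl⟩ := D.vv_surj hv
  have h := D.d_vv (i + j, j)
  have e : ((i + j) + j, j) = (i, j) := by
    rw [add_assoc, CharTwo.add_self_eq_zero, add_zero]
  simp only [e] at h
  rw [← h, show d⁻¹ * (d * vv z t (i + j, j) * d⁻¹) * d = vv z t (i + j, j) by group]
  exact D.vv_mem _

theorem class_R {a₀ b₀ : G} (ha₀ : a₀ ∈ Cx Q t) (hb₀ : b₀ ∈ Cx Q' z) (hα : ν a₀ = α₀)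
    (hβ : ev ν d b₀ = β₀) {r : G} (hr : r ∈ D.P.R) (hrr : r * r = 1) (hr1 : r ≠ 1) :
    IsConj r z ∨ IsConj r (a₀ * b₀) := by
  obtain ⟨a, ha, b, hb, rfl⟩ := D.decomp hr
  rw [D.sq_R ha hb, ← vv_zero z t] at hrr
  have h := D.vv_inj hrr
  simp only [Prod.ext_iff, Prod.fst_zero, Prod.snd_zero] at h
  have hf1 : f (ν a) = B (ν a) (ev ν d b) := eq_of_two h.1
  have hf2 : f (ev ν d b) = B (ν a) (ev ν d b) := eq_of_two h.2
  have hr2 : (a * b) * (a * b) = 1 := by rw [D.sq_R ha hb, hrr, vv_zero]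
  rcases two_eq (B (ν a) (ev ν d b)) with hB | hB
  · rw [hB] at hf1 hf2
    rcases zero_cases _ _ hf1 hf2 hB with e | e | e
    · have haV : a ∈ Cx Q' z := D.V_le_C' (D.inU_iff.mp ((D.K.ker a ha).mp e))
      exact Or.inl (D.conj_z_Q' (mem_Cx.mp (mul_mem haV hb)).1 hr2 hr1)
    · have hbV : b ∈ Cx Q t := D.V_le_Cx ((D.ev_eq_zero hb).mp e)
      exact Or.inl (D.conj_z_Q (mem_Cx.mp (mul_mem ha hbV)).1 hr2 hr1)
    · obtain ⟨a₁, ha₁, he₁, hd₁⟩ := D.d_conj_C' hb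
      have hv : a * a₁⁻¹ ∈ D.P.V :=
        D.inU_iff.mp ((D.H.nu_eq D.sing D.K ha ha₁).mp (by rw [he₁, e]))
      have hw : d⁻¹ * (a * b) * d ∈ Q' := by
        rw [show d⁻¹ * (a * b) * d = (d⁻¹ * (a * a₁⁻¹) * d) * (d⁻¹ * (a₁ * b) * d) by group, ← hd₁,
          show d⁻¹ * (d * b * d⁻¹) * d = b by group]
        exact Q'.mul_mem (mem_Cx.mp (D.V_le_C' (D.d_inv_V hv))).1 (mem_Cx.mp hb).1
      have hne : d⁻¹ * (a * b) * d ≠ 1 := fun e' => hr1 (by
        rw [show a * b = d * (d⁻¹ * (a * b) * d) * d⁻¹ by group, e']; group)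
      refine Or.inl ((isConj_iff.mpr ⟨d⁻¹, by rw [inv_inv]⟩).trans (D.conj_z_Q' hw ?_ hne))
      calc d⁻¹ * (a * b) * d * (d⁻¹ * (a * b) * d) = d⁻¹ * ((a * b) * (a * b)) * d := by group
        _ = 1 := by rw [hr2]; group
  · rw [hB] at hf1 hf2
    obtain ⟨σ, hσ, hσa, hσb⟩ := even_transitive hf1 hf2 hB
    obtain ⟨c, rfl⟩ := D.exists_rho_eq hσ
    rw [← hα, D.hρ c a₀ ha₀] at hσa
    rw [← hβ, ← D.ev_conj hb₀] at hσb
    set a' := (c : G) * a₀ * (c : G)⁻¹ with ha'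
    set b' := (c : G) * b₀ * (c : G)⁻¹ with hb'
    have ha'm : a' ∈ Cx Q t := D.H.conj_Cx c.2 ha₀
    have hb'm : b' ∈ Cx Q' z := D.conj_C' c.2 hb₀
    have hva : a * a'⁻¹ ∈ D.P.V :=
      D.inU_iff.mp ((D.H.nu_eq D.sing D.K ha ha'm).mp hσa.symm)
    have hvb : b * b'⁻¹ ∈ D.P.V := by
      have hbi : ev ν d b'⁻¹ = ev ν d b' := by
        have := D.ev_mul (D.triv_of_R (D.C'_le_R hb'm)) (D.C'_le_Sx (inv_mem hb'm))
        rw [mul_inv_cancel, D.ev_one] at this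
        exact eq_of_add this.symm
      refine (D.ev_eq_zero (mul_mem hb (inv_mem hb'm))).mp ?_
      rw [D.ev_mul (D.triv_of_R (D.C'_le_R hb)) (D.C'_le_Sx (inv_mem hb'm)), hbi, hσb, add_self]
    obtain ⟨p, hp⟩ := D.vv_surj (mul_mem hva hvb)
    have hab : a * b = (c : G) * (vv z t p * (a₀ * b₀)) * (c : G)⁻¹ := by
      have hc := D.vv_comm_Sx p c.2
      have h1 : Commute a' (b * b'⁻¹) := D.P.V_comm (D.Cx_le_R ha'm) hvb
      calc a * b = (a * a'⁻¹) * (a' * (b * b'⁻¹)) * b' := by group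
        _ = ((a * a'⁻¹) * (b * b'⁻¹)) * (a' * b') := by rw [h1.eq]; group
        _ = (vv z t p * (c : G)) * (a₀ * b₀) * (c : G)⁻¹ := by rw [hp, ha', hb']; group
        _ = _ := by rw [← hc]; group
    obtain ⟨α, h1, h2⟩ := dual_surj p.1 p.2
    obtain ⟨a₂, ha₂, rfl⟩ := D.K.surj α
    have hcm := D.comm_R ha₂ (one_mem (Cx Q' z)) ha₀ hb₀
    rw [mul_one, D.ev_one, hα, hβ,
      show cm (ν a₂, 0) (α₀, β₀) = p by
        simp only [cm, B_zero_left, B_zero_right, add_zero]; rw [h1, h2]] at hcm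
    refine Or.inr (isConj_iff.mpr ⟨a₂⁻¹ * (c : G)⁻¹, ?_⟩)
    rw [hab, ← hcm]
    group

theorem in_C {x : G} (hx : orderOf x = 2) : ∃ g, g * x * g⁻¹ ∈ centralizer ({z} : Set G) := by
  haveI : Fact (Nat.Prime 2) := ⟨Nat.prime_two⟩
  obtain ⟨P, hQP⟩ := D.H.h.toExt.isPGroup.exists_le_sylow
  have hxp : IsPGroup 2 (zpowers x) := IsPGroup.of_card (n := 1) (by
    rw [Nat.card_zpowers, hx]; rfl)
  obtain ⟨P', hxP'⟩ := hxp.exists_le_sylow
  obtain ⟨g, hg⟩ := MulAction.exists_smul_eq G P' P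
  refine ⟨g, ?_⟩
  have hmem : g * x * g⁻¹ ∈ (P : Subgroup G) := by
    rw [← hg, Sylow.coe_subgroup_smul]
    exact ⟨x, hxP' (mem_zpowers x), rfl⟩
  -- the centre of `P` is `⟨z⟩`
  have hne : Nontrivial ↥(P : Subgroup G) :=
    ⟨⟨⟨z, hQP D.H.h.mem⟩, 1, fun e => D.H.h.ne_one (congrArg Subtype.val e)⟩⟩
  haveI := P.isPGroup'.center_nontrivial
  obtain ⟨⟨⟨w, hwP⟩, hwc⟩, hw1⟩ := exists_ne (1 : Subgroup.center ↥(P : Subgroup G))
  have hwcomm : ∀ y ∈ (P : Subgroup G), y * w = w * y := fun y hy =>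
    congrArg Subtype.val (mem_center_iff.mp hwc ⟨y, hy⟩)
  rcases D.H.h.cent w fun y hy => (hwcomm y (hQP hy)).symm with e | e
  · exact absurd (Subtype.ext (Subtype.ext e)) hw1
  · subst e
    exact mem_centralizer_singleton_iff.mpr (hwcomm _ hmem)

theorem exists_sing_comm {x : G} (hxz : x * z = z * x) (hxx : x * x = 1) :
    ∃ t', Sing Q z t' ∧ t' * x = x * t' ∧
      ((∃ q ∈ Q, q * x * q⁻¹ * x⁻¹ = t') ∨ ∀ q ∈ Q, ¬ Sing Q z (q * x * q⁻¹ * x⁻¹)) := by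
  have hxi : x⁻¹ = x := inv_eq_of_mul_eq_one_right hxx
  have hwQ : ∀ q ∈ Q, q * x * q⁻¹ * x⁻¹ ∈ Q := fun q hq => by
    rw [show q * x * q⁻¹ * x⁻¹ = q * (x * q⁻¹ * x⁻¹) by group]
    exact Q.mul_mem hq (D.H.h.norm x hxz _ (Q.inv_mem hq))
  have hinv : ∀ q, x * (q * x * q⁻¹ * x⁻¹) * x⁻¹ = (q * x * q⁻¹ * x⁻¹)⁻¹ := fun q => by
    calc x * (q * x * q⁻¹ * x⁻¹) * x⁻¹ = x * q * x * q⁻¹ * (x * x)⁻¹ := by group
      _ = x * q * x⁻¹ * q⁻¹ := by rw [hxx, inv_one, mul_one, hxi]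
      _ = _ := by group
  by_cases hA : ∃ q ∈ Q, Sing Q z (q * x * q⁻¹ * x⁻¹)
  · obtain ⟨q, hq, hs⟩ := hA
    refine ⟨_, hs, ?_, Or.inl ⟨q, hq, rfl⟩⟩
    have h := hinv q
    rw [inv_eq_of_mul_eq_one_right hs.2.1] at h
    exact (mul_inv_eq_iff_eq_mul.mp h).symm
  push_neg at hA
  suffices ∃ t', Sing Q z t' ∧ t' * x = x * t' by
    obtain ⟨t', h1, h2⟩ := this
    exact ⟨t', h1, h2, Or.inr hA⟩
  have h12 : ∀ q ∈ Q, q * x * q⁻¹ * x⁻¹ = 1 ∨ q * x * q⁻¹ * x⁻¹ = z ∨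
      (q * x * q⁻¹ * x⁻¹) * (q * x * q⁻¹ * x⁻¹) = z := fun q hq => by
    by_contra hne
    push_neg at hne
    exact hA q hq ⟨hwQ q hq, (D.H.h.sq _ (hwQ q hq)).resolve_right hne.2.2, hne.1, hne.2.1⟩
  obtain ⟨u, hu⟩ : ∃ u, ∀ q ∈ Q, q * x * q⁻¹ * x⁻¹ = 1 ∨ q * x * q⁻¹ * x⁻¹ = z ∨
      q * x * q⁻¹ * x⁻¹ = u ∨ q * x * q⁻¹ * x⁻¹ = z * u := by
    by_cases hex : ∃ q ∈ Q, (q * x * q⁻¹ * x⁻¹) * (q * x * q⁻¹ * x⁻¹) = z
    · obtain ⟨q₀, hq₀, hsq⟩ := hex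
      refine ⟨q₀ * x * q₀⁻¹ * x⁻¹, fun q hq => ?_⟩
      rcases h12 q hq with e | e | e
      · exact Or.inl e
      · exact Or.inr (Or.inl e)
      set w := q₀ * x * q₀⁻¹ * x⁻¹ with hw
      set w' := q * x * q⁻¹ * x⁻¹ with hw'
      have hwm : w ∈ Q := hwQ q₀ hq₀
      have hwm' : w' ∈ Q := hwQ q hq
      have hinvz : ∀ v ∈ Q, v * v = z → v⁻¹ = z * v := fun v hv hvv =>
        inv_eq_of_mul_eq_one_right (by rw [← mul_assoc, D.H.h.comm v hv, mul_assoc, hvv, D.H.h.zz])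
      have hx1 : x * w * x⁻¹ = z * w := by rw [hw, hinv, ← hw, hinvz w hwm hsq]
      have hx2 : x * w' * x⁻¹ = z * w' := by rw [hw', hinv, ← hw', hinvz w' hwm' e]
      have hxp : x * (w' * w) * x⁻¹ = w' * w := by
        calc x * (w' * w) * x⁻¹ = (x * w' * x⁻¹) * (x * w * x⁻¹) := by group
          _ = z * (w' * z) * w := by rw [hx1, hx2]; group
          _ = z * z * (w' * w) := by rw [D.H.h.comm w' hwm']; group
          _ = w' * w := by rw [D.H.h.zz, one_mul]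
      obtain ⟨k, hk⟩ : ∃ k, (q * q₀) * x * (q * q₀)⁻¹ * x⁻¹ = zp z k * (w * w') := by
        have e1 : (q * q₀) * x * (q * q₀)⁻¹ * x⁻¹ = (q * w * q⁻¹) * w' := by rw [hw, hw']; group
        rcases D.H.h.conj q hq w hwm with e2 | e2
        · exact ⟨0, by rw [e1, e2, zp_zero, one_mul]⟩
        · exact ⟨1, by rw [e1, e2, zp_one, mul_assoc]⟩
      have hxp' : x * (w * w') * x⁻¹ = w * w' := by
        calc x * (w * w') * x⁻¹ = (x * w * x⁻¹) * (x * w' * x⁻¹) := by group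
          _ = z * (w * z) * w' := by rw [hx1, hx2]; group
          _ = z * z * (w * w') := by rw [D.H.h.comm w hwm]; group
          _ = w * w' := by rw [D.H.h.zz, one_mul]
      have hi := hinv (q * q₀)
      have hkQ : zp z k ∈ Q ∧ x * zp z k * x⁻¹ = zp z k ∧ Commute (zp z k) (w * w') := by
        rcases two_eq k with rfl | rfl
        · rw [zp_zero]; exact ⟨one_mem _, by group, Commute.one_left _⟩
        · rw [zp_one]
          exact ⟨D.H.h.mem, by rw [hxz, mul_inv_cancel_right],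
            (D.H.h.comm _ (Q.mul_mem hwm hwm')).symm⟩
      have hself : zp z k * (w * w') * (zp z k * (w * w')) = 1 := by
        rw [hk] at hi
        have : x * (zp z k * (w * w')) * x⁻¹ = zp z k * (w * w') := by
          calc x * (zp z k * (w * w')) * x⁻¹
              = (x * zp z k * x⁻¹) * (x * (w * w') * x⁻¹) := by group
            _ = _ := by rw [hkQ.2.1, hxp']
        rw [this] at hi
        exact eq_inv_iff_mul_eq_one.mp hi
      have hp12 : zp z k * (w * w') = 1 ∨ zp z k * (w * w') = z := by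
        have := h12 _ (Q.mul_mem hq hq₀)
        rw [hk] at this
        rcases this with h' | h' | h'
        · exact Or.inl h'
        · exact Or.inr h'
        · exact absurd (hself.symm.trans h').symm D.H.h.ne_one
      have hp : w * w' = 1 ∨ w * w' = z := by
        rcases two_eq k with rfl | rfl
        · simpa [zp_zero] using hp12
        · rw [zp_one] at hp12
          rcases hp12 with h' | h'
          · exact Or.inr (by rw [← D.H.h.z_mul_z_mul (w * w'), h', mul_one])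
          · exact Or.inl (by rw [← D.H.h.z_mul_z_mul (w * w'), h', D.H.h.zz])
      rcases hp with h' | h'
      · exact Or.inr (Or.inr (Or.inr (by
          rw [← hinvz w hwm hsq]; exact eq_inv_of_mul_eq_one_right h')))
      · refine Or.inr (Or.inr (Or.inl ?_))
        rw [eq_inv_mul_of_mul_eq h', hinvz w hwm hsq, mul_assoc, D.H.h.comm w hwm,
          D.H.h.z_mul_z_mul]
    · push_neg at hex
      refine ⟨1, fun q hq => ?_⟩
      rcases h12 q hq with e | e | e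
      exacts [Or.inl e, Or.inr (Or.inl e), absurd e (hex q hq)]
  -- the centraliser of `x` in `Q` is large
  have four : ∀ a b c e : G, ({a, b, c, e} : Set G).ncard ≤ 4 := fun a b c e => by
    refine (Set.ncard_insert_le _ _).trans ?_
    refine (Nat.add_le_add_right (Set.ncard_insert_le _ _) _).trans ?_
    refine (Nat.add_le_add_right (Nat.add_le_add_right (Set.ncard_insert_le _ _) _) _).trans ?_
    rw [Set.ncard_singleton]
  have hF : 32 ≤ Nat.card ↥(Q ⊓ centralizer ({x} : Set G)) := by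
    have h1 := card_le_mul_cent Q x {x, z * x, u * x, z * u * x} fun q hq => by
      have : q * x * q⁻¹ = (q * x * q⁻¹ * x⁻¹) * x := by group
      rw [this]
      rcases hu q hq with e | e | e | e <;> rw [e] <;> simp [mul_assoc]
    rw [D.H.cardQ] at h1
    have := h1.trans (Nat.mul_le_mul_right _ (four _ _ _ _))
    omega
  set N := Q ⊓ centralizer ({x} : Set G) ⊓ centralizer ({t} : Set G) with hN
  have hN16 : 16 ≤ Nat.card N := by
    have h1 := card_le_mul_cent (Q ⊓ centralizer ({x} : Set G)) t {t, z * t} fun q hq => by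
      rcases D.H.h.conj q hq.1 t D.sing.1 with e | e <;> rw [e] <;> simp
    have h2 : ({t, z * t} : Set G).ncard ≤ 2 :=
      (Set.ncard_insert_le _ _).trans (by rw [Set.ncard_singleton])
    have := h1.trans (Nat.mul_le_mul_right _ h2)
    rw [← hN] at this
    omega
  have hNC : ∀ a ∈ N, a ∈ Cx Q t ∧ a * x = x * a := fun a ha =>
    ⟨mem_Cx.mpr ⟨ha.1.1, mem_centralizer_singleton_iff.mp ha.2⟩,
      mem_centralizer_singleton_iff.mp ha.1.2⟩
  by_cases hU : ∃ a ∈ N, InU z t a ∧ a ≠ 1 ∧ a ≠ z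
  · obtain ⟨a, ha, haU, h1, h2⟩ := hU
    exact ⟨a, ⟨(mem_Cx.mp (hNC a ha).1).1, (D.H.U_inv D.sing haU).1, h1, h2⟩, (hNC a ha).2⟩
  push_neg at hU
  let φ : ↥N →* Multiplicative M4 := MonoidHom.mk'
    (fun a => Multiplicative.ofAdd (ν (a : G))) fun a b => by
      rw [← ofAdd_add, coe_mul, D.K.add _ (hNC _ a.2).1 _ (hNC _ b.2).1]
  have hker : Nat.card φ.ker ≤ 2 := by
    have hsub : ((↑) : ↥N → G) '' (φ.ker : Set ↥N) ⊆ ({1, z} : Set G) := by
      rintro _ ⟨a, ha, rfl⟩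
      have hU' := (D.K.ker _ (hNC _ a.2).1).mp (congrArg Multiplicative.toAdd ha)
      by_cases h1 : (a : G) = 1
      · exact Or.inl h1
      · exact Or.inr (hU _ a.2 hU' h1)
    rw [← SetLike.coe_sort_coe, Nat.card_coe_set_eq,
      ← Set.ncard_image_of_injective _ Subtype.val_injective]
    refine (Set.ncard_le_ncard hsub (Set.toFinite _)).trans ?_
    exact (Set.ncard_insert_le _ _).trans (by rw [Set.ncard_singleton])
  set S : Set M4 := {w | Multiplicative.ofAdd w ∈ φ.range} with hS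
  have hS8 : 8 ≤ S.ncard := by
    have hm : Nat.card φ.ker * Nat.card φ.range = Nat.card N := by
      rw [← Subgroup.index_ker, Subgroup.card_mul_index]
    have hc : S.ncard = Nat.card φ.range := by
      rw [← Nat.card_coe_set_eq]
      exact Nat.card_congr
        { toFun := fun w => ⟨Multiplicative.ofAdd (w : M4), w.2⟩
          invFun := fun w => ⟨Multiplicative.toAdd (w : Multiplicative M4), w.2⟩
          left_inv := fun _ => rfl
          right_inv := fun _ => rfl }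
    rw [hc]
    have := Nat.mul_le_mul_right (Nat.card φ.range) hker
    omega
  obtain ⟨a, haS, ha0⟩ := Set.exists_ne_of_one_lt_ncard (by omega : 1 < S.ncard) 0
  have pick : ∀ T : Set M4, T.ncard < 8 → ∃ w ∈ S, w ∉ T := fun T hT => by
    by_contra hh
    push_neg at hh
    have := Set.ncard_le_ncard (show S ⊆ T from hh) (Set.toFinite _)
    omega
  obtain ⟨b, hbS, hb⟩ := pick {0, a} (by
    have := (Set.ncard_insert_le (0 : M4) {a})
    rw [Set.ncard_singleton] at this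
    omega)
  obtain ⟨c, hcS, hc⟩ := pick {0, a, b, a + b} (by
    have h4 : ({0, a, b, a + b} : Set M4).ncard ≤ 4 := by
      refine (Set.ncard_insert_le _ _).trans ?_
      refine (Nat.add_le_add_right (Set.ncard_insert_le _ _) _).trans ?_
      refine (Nat.add_le_add_right (Nat.add_le_add_right (Set.ncard_insert_le _ _) _) _).trans ?_
      rw [Set.ncard_singleton]
    omega)
  simp only [Set.mem_insert_iff, Set.mem_singleton_iff, not_or] at hb hc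
  obtain ⟨i, hi⟩ := exists_singular3 a b c ha0 hb.1 hb.2 hc.1 hc.2.1 hc.2.2.1 hc.2.2.2
  have hclosed : ∀ v w, v ∈ S → w ∈ S → v + w ∈ S := fun v w hv hw => φ.range.mul_mem hv hw
  have hpi : pt i ∈ S := by
    rcases hi with e | e | e | e | e | e | e <;> rw [e]
    exacts [haS, hbS, hcS, hclosed _ _ haS hbS, hclosed _ _ haS hcS, hclosed _ _ hbS hcS,
      hclosed _ _ (hclosed _ _ haS hbS) hcS]
  obtain ⟨m, hm⟩ := hpi
  have hνm : ν (m : G) = pt i := congrArg Multiplicative.toAdd hm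
  have hmC := (hNC _ m.2).1
  refine ⟨m, ⟨(mem_Cx.mp hmC).1, ?_, fun e => pt_ne i ?_, fun e => pt_ne i ?_⟩, (hNC _ m.2).2⟩
  · rw [D.K.sq _ hmC, hνm, f_pt, zp_zero]
  · rw [← hνm, e]; exact D.H.nu_one D.sing D.K
  · rw [← hνm, e]; exact (D.K.ker z (D.H.z_mem D.sing)).mpr (Or.inr (Or.inl rfl))

theorem into_R {x : G} (hxz : x * z = z * x) (hxx : x * x = 1) :
    ∃ g, g * x * g⁻¹ ∈ D.P.R := by
  obtain ⟨t', ht', htx, hcase⟩ := D.exists_sing_comm hxz hxx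
  obtain ⟨c, hcz, hct⟩ := D.H.transitive ht' D.sing
  refine ⟨c, ?_⟩
  set y := c * x * c⁻¹ with hy
  have hyy : y * y = 1 := by
    calc y * y = c * (x * x) * c⁻¹ := by rw [hy]; group
      _ = 1 := by rw [hxx]; group
  have hyS : y ∈ Sx z t := by
    refine mem_Sx.mpr ⟨?_, ?_⟩
    · have h1 : Commute c z := hcz
      exact ((h1.mul_left hxz).mul_left h1.inv_left).eq
    · rw [hy, ← hct]
      calc c * x * c⁻¹ * (c * t' * c⁻¹) = c * (x * t') * c⁻¹ := by group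
        _ = c * (t' * x) * c⁻¹ := by rw [htx]
        _ = c * t' * c⁻¹ * (c * x * c⁻¹) := by group
  have hcC : c ∈ centralizer ({z} : Set G) := mem_centralizer_singleton_iff.mpr hcz
  have hciC : c⁻¹ ∈ centralizer ({z} : Set G) := inv_mem hcC
  refine D.mem_R_iff.mp ((D.rho_eq_one (c := ⟨y, hyS⟩)).mp ?_)
  set σ := ρ ⟨y, hyS⟩ with hσ
  have hσ2 : σ * σ = 1 := by
    rw [hσ, ← map_mul, show (⟨y, hyS⟩ : ↥(Sx z t)) * ⟨y, hyS⟩ = 1 from Subtype.ext hyy, map_one]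
  rcases perm_two σ hσ2 with e | ⟨i, j, hij, e⟩ | ⟨⟨v, i, hv⟩, hfix⟩
  · exact e
  · have := D.sign_rho ⟨y, hyS⟩
    rw [← hσ, e, Equiv.Perm.sign_swap hij] at this
    exact absurd this (by decide)
  exfalso
  have key : ∀ a ∈ Cx Q t, y * a * y⁻¹ * a⁻¹ ∈ Cx Q t ∧
      ν (y * a * y⁻¹ * a⁻¹) = act σ (ν a) + ν a := fun a ha => by
    have hm := D.H.conj_Cx hyS ha
    refine ⟨mul_mem hm (inv_mem ha), ?_⟩
    rw [D.K.add _ hm _ (inv_mem ha), D.H.nu_inv D.sing D.K ha, hσ, D.hρ ⟨y, hyS⟩ a ha]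
  rcases hcase with ⟨q₀, hq₀, hq⟩ | hno
  · set q := c * q₀ * c⁻¹ with hqd
    have hqQ : q ∈ Q := D.H.h.norm c hcz q₀ hq₀
    have hqt : q * y * q⁻¹ * y⁻¹ = t := by
      rw [← hct, ← hq, hqd, hy]; group
    have h1 : y * q⁻¹ * y⁻¹ = q⁻¹ * t := by
      rw [← hqt]; group
    have h2 : y * q * y⁻¹ = t * q := by
      calc y * q * y⁻¹ = (y * q⁻¹ * y⁻¹)⁻¹ := by group
        _ = t * q := by rw [h1, mul_inv_rev, inv_inv, D.P.h'.toExt.inv_z]
    have h3 : t * q * t = q := by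
      have : y * (q * q) * y⁻¹ = q * q := by
        rcases D.H.h.sq q hqQ with e | e <;> rw [e]
        · group
        · rw [(mem_Sx.mp hyS).1, mul_inv_cancel_right]
      rw [show y * (q * q) * y⁻¹ = (y * q * y⁻¹) * (y * q * y⁻¹) by group, h2,
        show t * q * (t * q) = t * q * t * q by group] at this
      exact mul_right_cancel this
    have hqC : q ∈ Cx Q t := mem_Cx.mpr ⟨hqQ, by
      conv_lhs => rw [← h3]
      rw [mul_assoc (t * q) t t, D.sing.2.1, mul_one]⟩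
    have hσq : act σ (ν q) = ν q := by
      rw [hσ, D.hρ ⟨y, hyS⟩ q hqC, h2, D.K.add _ (D.H.x_mem D.sing) q hqC,
        (D.K.ker t (D.H.x_mem D.sing)).mpr (Or.inr (Or.inr (Or.inl rfl))), zero_add]
    obtain ⟨v', hv'⟩ := hfix _ hσq
    obtain ⟨a, ha, rfl⟩ := D.K.surj v'
    obtain ⟨hm, hνm⟩ := key a ha
    set m := y * a * y⁻¹ * a⁻¹ with hmd
    have hu : InU z t (q * m⁻¹) :=
      (D.H.nu_eq D.sing D.K hqC hm).mp (by rw [hνm, hv'])
    have hym : y * m * y⁻¹ = m⁻¹ := by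
      calc y * m * y⁻¹ = (y * y) * a * (y * y)⁻¹ * (y * a * y⁻¹)⁻¹ := by rw [hmd]; group
        _ = m⁻¹ := by rw [hyy, hmd]; group
    have hyq : y * q * y⁻¹ = (q * m⁻¹) * m⁻¹ := by
      calc y * q * y⁻¹ = (y * (q * m⁻¹) * y⁻¹) * (y * m * y⁻¹) := by group
        _ = _ := by rw [D.H.U_comm D.sing hu hyS, mul_inv_cancel_right, hym]
    rw [h2] at hyq
    have hmm : t = m⁻¹ * m⁻¹ := by
      have hqm : Commute (q * m⁻¹) (m⁻¹ * m⁻¹) := by
        have := (show Commute m (q * m⁻¹) from D.H.U_comm D.sing hu (D.H.Cx_le_Sx hm)).inv_left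
        exact (this.mul_left this).symm
      calc t = ((q * m⁻¹) * m⁻¹) * q⁻¹ := by rw [← hyq, mul_inv_cancel_right]
        _ = ((q * m⁻¹) * (m⁻¹ * m⁻¹)) * (q * m⁻¹)⁻¹ := by group
        _ = m⁻¹ * m⁻¹ := by rw [hqm.eq, mul_inv_cancel_right]
    rcases D.H.h.sq m⁻¹ (mem_Cx.mp (inv_mem hm)).1 with e | e <;> rw [e] at hmm
    exacts [D.sing.2.2.1 hmm, D.sing.2.2.2 hmm]
  · obtain ⟨a, ha, rfl⟩ := D.K.surj v
    obtain ⟨hm, hνm⟩ := key a ha
    set m := y * a * y⁻¹ * a⁻¹ with hmd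
    rw [hv] at hνm
    have hms : Sing Q z m := by
      refine ⟨(mem_Cx.mp hm).1, by rw [D.K.sq m hm, hνm, f_pt, zp_zero], fun e => pt_ne i ?_,
        fun e => pt_ne i ?_⟩
      · rw [← hνm, e]; exact D.H.nu_one D.sing D.K
      · rw [← hνm, e]; exact (D.K.ker z (D.H.z_mem D.sing)).mpr (Or.inr (Or.inl rfl))
    have ha0 : c⁻¹ * a * c ∈ Q := by
      have := D.H.h.norm c⁻¹ (mem_centralizer_singleton_iff.mp hciC) a (mem_Cx.mp ha).1
      rwa [inv_inv] at this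
    refine hno _ ha0 ?_
    have hc' := D.H.conj_sing hciC hms
    have e : c⁻¹ * m * c⁻¹⁻¹ = c⁻¹ * a * c * x * (c⁻¹ * a * c)⁻¹ * x⁻¹ := by
      calc c⁻¹ * m * c⁻¹⁻¹ = c⁻¹ * m⁻¹ * c := by
            rw [inv_eq_of_mul_eq_one_right hms.2.1, inv_inv]
        _ = _ := by rw [hmd, hy]; group
    rwa [e] at hc'

theorem card_R : Nat.card D.P.R = 1024 := by
  rw [← D.card_ker]
  exact Nat.card_congr
    { toFun := fun r => ⟨⟨r, D.R_le_Sx r.2⟩, D.rho_R.mpr r.2⟩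
      invFun := fun c => ⟨((c : ↥(Sx z t)) : G), D.rho_R.mp c.2⟩
      left_inv := fun _ => rfl
      right_inv := fun _ => rfl }

theorem ne_of_coord {a₀ b₀ : G} (ha₀ : a₀ ∈ Cx Q t) (hb₀ : b₀ ∈ Cx Q' z) (hα : ν a₀ = α₀)
    (hβ : ev ν d b₀ = β₀) :
    a₀ * b₀ ∉ Q ∧ a₀ * b₀ ∉ Q' ∧ d⁻¹ * (a₀ * b₀) * d ∉ Q' := by
  obtain ⟨-, -, -, hne, hα0, hβ0⟩ := chosen
  refine ⟨fun h => hβ0 ?_, fun h => hα0 ?_, fun h => hne ?_⟩
  · rw [← hβ]
    refine (D.ev_eq_zero hb₀).mpr ?_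
    rw [← D.E_eq]
    refine ⟨?_, (mem_Cx.mp hb₀).1⟩
    have := Q.mul_mem (Q.inv_mem (mem_Cx.mp ha₀).1) h
    rwa [inv_mul_cancel_left] at this
  · rw [← hα]
    refine (D.K.ker a₀ ha₀).mpr (D.inU_iff.mpr ?_)
    rw [← D.E_eq]
    refine ⟨(mem_Cx.mp ha₀).1, ?_⟩
    have := Q'.mul_mem h (Q'.inv_mem (mem_Cx.mp hb₀).1)
    rwa [mul_inv_cancel_right] at this
  · have hyz : Commute (a₀ * b₀) z :=
      (show Commute a₀ z from D.H.h.comm a₀ (mem_Cx.mp ha₀).1).mul_left (mem_Cx.mp hb₀).2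
    have hdz : Commute d z := D.H.h.comm d D.hd
    have hw : d⁻¹ * (a₀ * b₀) * d ∈ Cx Q' z :=
      mem_Cx.mpr ⟨h, ((hdz.inv_left.mul_left hyz).mul_left hdz).eq⟩
    obtain ⟨a₁, ha₁, he₁, hd₁⟩ := D.d_conj_C' hw
    rw [show d * (d⁻¹ * (a₀ * b₀) * d) * d⁻¹ = a₀ * b₀ by group] at hd₁
    obtain ⟨u1, u2⟩ := D.decomp_unique ha₀ hb₀ ha₁ hw hd₁
    rw [← hα, u1, he₁, ← u2, hβ]

theorem not_conj {a₀ b₀ : G} (ha₀ : a₀ ∈ Cx Q t) (hb₀ : b₀ ∈ Cx Q' z) (hα : ν a₀ = α₀)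
    (hβ : ev ν d b₀ = β₀) : ¬ IsConj z (a₀ * b₀) := by
  classical
  rintro hconj
  obtain ⟨h, hh⟩ := isConj_iff.mp hconj
  obtain ⟨nQ, nQ', ndQ'⟩ := D.ne_of_coord ha₀ hb₀ hα hβ
  obtain ⟨gt, hgt⟩ := isConj_iff.mp D.tz
  set y := a₀ * b₀ with hy
  have hyR : y ∈ D.P.R := mul_mem (D.Cx_le_R ha₀) (D.C'_le_R hb₀)
  have hcQ : 32 ≤ Nat.card Q := by rw [D.H.cardQ]; norm_num
  -- `Q'` is the conjugate of `Q` belonging to `t`
  have hQ'g : Q.map (MulAut.conj gt).toMonoidHom ≤ Q' := by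
    rintro _ ⟨w, hw, rfl⟩
    have hQ'card : Nat.card Q' = 128 := D.H'.cardQ
    let φ : ↥Q' → ↥Q := fun u =>
      ⟨(D.P.conj_eq 1 gt (by rw [hgt]; group) u u.2).choose,
        (D.P.conj_eq 1 gt (by rw [hgt]; group) u u.2).choose_spec.1⟩
    have hφ : ∀ u : ↥Q', (u : G) = gt * (φ u : G) * gt⁻¹ := fun u => by
      have := (D.P.conj_eq 1 gt (by rw [hgt]; group) u u.2).choose_spec.2
      simpa [φ] using this
    have hinj : Function.Injective φ := fun u v e => Subtype.ext (by rw [hφ u, hφ v, e])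
    obtain ⟨u, hu⟩ := (Nat.bijective_iff_injective_and_card φ).mpr
      ⟨hinj, hQ'card.trans D.H.cardQ.symm⟩ |>.2 ⟨w, hw⟩
    have := hφ u
    rw [hu] at this
    simp only [MulEquiv.coe_toMonoidHom, MulAut.conj_apply]
    rw [← this]
    exact u.2
  have hVQ : ∀ v ∈ D.P.V, h⁻¹ * v * h ∈ Q → v = 1 := by
    have key : ∀ g : G, h⁻¹ * (g * z * g⁻¹) * h ∈ Q → y ≠ g * z * g⁻¹ →
        g⁻¹ * y * g ∈ Q := by
      intro g hg hne
      have h1 : (h⁻¹ * g) * z * (h⁻¹ * g)⁻¹ ∈ Q := by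
        rw [show (h⁻¹ * g) * z * (h⁻¹ * g)⁻¹ = h⁻¹ * (g * z * g⁻¹) * h by group]
        exact hg
      have h2 : (h⁻¹ * g) * z * (h⁻¹ * g)⁻¹ ≠ z := fun e => hne (by
        calc y = h * ((h⁻¹ * g) * z * (h⁻¹ * g)⁻¹) * h⁻¹ := by rw [e, hh]
          _ = g * z * g⁻¹ := by group)
      obtain ⟨w, hw, ew⟩ := D.H.h.z_mem_conj h1 h2 hcQ
      simp only [MulEquiv.coe_toMonoidHom, MulAut.conj_apply] at ew
      rw [show g⁻¹ * y * g = w by rw [← hh, ← ew]; group]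
      exact hw
    intro v hv hvQ
    rcases D.P.mem_V.mp hv with e | e | e | e
    · exact e
    · exfalso
      have := key 1 (by simpa [← e] using hvQ) fun e' => nQ (by rw [e']; simpa using D.H.h.mem)
      exact nQ (by simpa using this)
    · exfalso
      have := key gt (by rw [hgt, ← e]; exact hvQ)
        fun e' => nQ' (by rw [e', hgt]; exact D.P.h'.mem)
      exact nQ' (hQ'g ⟨_, this, by simp only [MulEquiv.coe_toMonoidHom, MulAut.conj_apply]; group⟩)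
    · exfalso
      have hzt' : d * gt * z * (d * gt)⁻¹ = z * t := by
        rw [show d * gt * z * (d * gt)⁻¹ = d * (gt * z * gt⁻¹) * d⁻¹ by group, hgt, D.ed]
      have := key (d * gt) (by rw [hzt', ← e]; exact hvQ) fun e' => nQ (by
        rw [e', hzt']; exact Q.mul_mem D.H.h.mem D.P.z'Q)
      refine ndQ' (hQ'g ⟨_, this, ?_⟩)
      simp only [MulEquiv.coe_toMonoidHom, MulAut.conj_apply]
      group
  -- the centraliser of `y` in `R`
  set Y := D.P.R ⊓ centralizer ({y} : Set G) with hYdef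
  have hY256 : 256 ≤ Nat.card Y := by
    let S : Finset G := (Finset.univ : Finset (ZMod 2 × ZMod 2)).image fun p => vv z t p * y
    have h1 := card_le_mul_cent D.P.R y (S : Set G) fun r hr => by
      obtain ⟨p, hp⟩ := D.vv_surj (D.comm_V hr hyR)
      simp only [S, Finset.coe_image, Finset.coe_univ, Set.image_univ, Set.mem_range]
      exact ⟨p, by rw [← hp]; group⟩
    rw [D.card_R, Set.ncard_coe_finset, ← hYdef] at h1
    have : S.card ≤ 4 := Finset.card_image_le.trans (le_of_eq rfl)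
    have := h1.trans (Nat.mul_le_mul_right _ this)
    omega
  have hYy : ∀ r ∈ Y, r * y = y * r := fun r hr => mem_centralizer_singleton_iff.mp hr.2
  have hYC : ∀ r ∈ Y, h⁻¹ * r * h ∈ centralizer ({z} : Set G) := fun r hr => by
    refine mem_centralizer_singleton_iff.mpr ?_
    calc h⁻¹ * r * h * z = h⁻¹ * (r * (h * z * h⁻¹)) * h := by group
      _ = h⁻¹ * (h * z * h⁻¹ * r) * h := by rw [hh, hYy r hr]
      _ = z * (h⁻¹ * r * h) := by group
  let Qc := Q.subgroupOf (centralizer ({z} : Set G))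
  haveI : Qc.Normal := ⟨fun a ha c => D.H.h.norm c (mem_centralizer_singleton_iff.mp c.2) a ha⟩
  let φ := QuotientGroup.mk' Qc
  have hφ : ∀ a, φ a = 1 ↔ (a : G) ∈ Q := fun a => QuotientGroup.eq_one_iff a
  have hK : Nat.card (↥(centralizer ({z} : Set G)) ⧸ Qc) = 25920 := by
    have h1 := Subgroup.card_eq_card_quotient_mul_card_subgroup Qc
    rw [D.H.cardC, Nat.card_congr (Subgroup.subgroupOfEquivOfLe
      (show Q ≤ centralizer ({z} : Set G) from fun a ha =>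
        mem_centralizer_singleton_iff.mpr (D.H.h.comm a ha))).toEquiv, D.H.cardQ] at h1
    omega
  let ι : ↥Y →* ↥(centralizer ({z} : Set G)) := MonoidHom.mk'
    (fun r => ⟨h⁻¹ * (r : G) * h, hYC r r.2⟩) fun r r' => Subtype.ext (by
      simp only [coe_mul]; group)
  let ψ := φ.comp ι
  choose fa hfa fb hfb hf using fun r : ↥Y => D.decomp r.2.1
  let cd : ↥Y → M4 × M4 := fun r => (ν (fa r), ev ν d (fb r))
  have hcd : ∀ r r' : ↥Y, (r : G) * r' * (r : G)⁻¹ * (r' : G)⁻¹ = vv z t (cm (cd r) (cd r')) :=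
    fun r r' => by rw [hf r, hf r']; exact D.comm_R (hfa r) (hfb r) (hfa r') (hfb r')
  have hcdy : ∀ r : ↥Y, cm (cd r) (α₀, β₀) = (0, 0) := fun r => by
    apply D.vv_inj (z := z) (t := t)
    rw [show vv z t (0, 0) = 1 from vv_zero z t, ← hα, ← hβ,
      ← D.comm_R (hfa r) (hfb r) ha₀ hb₀, ← hf r, ← hy, hYy r r.2]
    group
  have hker : Nat.card ψ.ker ≤ 4 := by
    have hq : ∀ r : ↥ψ.ker, h⁻¹ * ((r : ↥Y) : G) * h ∈ Q := fun r => (hφ _).mp r.2
    have hz : ∀ r : ↥ψ.ker, cd (r : ↥Y) ∈ zpairs := by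
      intro r
      refine mem_zpairs (hcdy _) fun q hq' => ?_
      obtain ⟨a', ha', hνa⟩ := D.K.surj q.1
      obtain ⟨b', hb', hνb⟩ := D.ev_surj q.2
      have hm : a' * b' ∈ Y := by
        refine ⟨mul_mem (D.Cx_le_R ha') (D.C'_le_R hb'), mem_centralizer_singleton_iff.mpr ?_⟩
        have := D.comm_R ha' hb' ha₀ hb₀
        rw [hνa, hνb, hα, hβ, show cm (q.1, q.2) (α₀, β₀) = 0 from hq', vv_zero] at this
        exact mul_inv_eq_iff_eq_mul.mp (mul_inv_eq_one.mp this)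
      have hQm : h⁻¹ * (((r : ↥Y) : G) * (a' * b') * ((r : ↥Y) : G)⁻¹ * (a' * b')⁻¹) * h ∈ Q := by
        have hn := D.H.h.norm _ (mem_centralizer_singleton_iff.mp (hYC _ hm)) _ (Q.inv_mem (hq r))
        rw [show h⁻¹ * (((r : ↥Y) : G) * (a' * b') * ((r : ↥Y) : G)⁻¹ * (a' * b')⁻¹) * h
          = (h⁻¹ * ((r : ↥Y) : G) * h) * (h⁻¹ * (a' * b') * h * (h⁻¹ * ((r : ↥Y) : G) * h)⁻¹
            * (h⁻¹ * (a' * b') * h)⁻¹) by group]
        exact Q.mul_mem (hq r) hn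
      have hv := hVQ _ (D.comm_V (r : ↥Y).2.1 hm.1) hQm
      apply D.vv_inj (z := z) (t := t)
      rw [show vv z t (0, 0) = 1 from vv_zero z t, ← hv, hf (r : ↥Y),
        D.comm_R (hfa _) (hfb _) ha' hb', hνa, hνb]
    have hinj : Function.Injective fun r : ↥ψ.ker => (⟨cd (r : ↥Y), hz r⟩ : {p // p ∈ zpairs}) := by
      intro r r' e
      have e' := congrArg Subtype.val e
      simp only [cd, Prod.mk.injEq] at e'
      have h1 : fa r.1 * (fa r'.1)⁻¹ ∈ D.P.V :=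
        D.inU_iff.mp ((D.H.nu_eq D.sing D.K (hfa _) (hfa _)).mp e'.1)
      have h2 : fb r.1 * (fb r'.1)⁻¹ ∈ D.P.V := by
        have hbi : ev ν d (fb r'.1)⁻¹ = ev ν d (fb r'.1) := by
          have := D.ev_mul (D.triv_of_R (D.C'_le_R (hfb r'.1))) (D.C'_le_Sx (inv_mem (hfb r'.1)))
          rw [mul_inv_cancel, D.ev_one] at this
          exact eq_of_add this.symm
        refine (D.ev_eq_zero (mul_mem (hfb _) (inv_mem (hfb _)))).mp ?_
        rw [D.ev_mul (D.triv_of_R (D.C'_le_R (hfb _))) (D.C'_le_Sx (inv_mem (hfb _))), hbi, e'.2,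
          add_self]
      have hv : ((r : ↥Y) : G) * ((r' : ↥Y) : G)⁻¹ ∈ D.P.V := by
        have hc : Commute (fa r.1) (fb r.1 * (fb r'.1)⁻¹) :=
          D.P.V_comm (D.Cx_le_R (hfa _)) h2
        rw [hf (r : ↥Y), hf (r' : ↥Y),
          show fa r.1 * fb r.1 * (fa r'.1 * fb r'.1)⁻¹
            = (fa r.1 * (fb r.1 * (fb r'.1)⁻¹)) * (fa r'.1)⁻¹ by group, hc.eq, mul_assoc]
        exact mul_mem h2 h1
      have := hVQ _ hv (by
        rw [show h⁻¹ * (((r : ↥Y) : G) * ((r' : ↥Y) : G)⁻¹) * h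
          = (h⁻¹ * ((r : ↥Y) : G) * h) * (h⁻¹ * ((r' : ↥Y) : G) * h)⁻¹ by group]
        exact Q.mul_mem (hq r) (Q.inv_mem (hq r')))
      exact Subtype.ext (Subtype.ext (mul_inv_eq_one.mp this))
    refine (Nat.card_le_card_of_injective _ hinj).trans ?_
    rw [Nat.card_eq_fintype_card, Fintype.card_subtype]
    refine le_trans ?_ zpairs_le
    refine le_trans (Finset.card_le_card fun p hp => ?_) (List.toFinset_card_le zpairs)
    simpa using hp
  haveI : Fact (Nat.Prime 2) := ⟨Nat.prime_two⟩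
  have hYp : IsPGroup 2 Y := fun r => ⟨2, Subtype.ext (D.P.R_pow r.2.1)⟩
  have hT : 64 ≤ Nat.card ψ.range := by
    have h1 : Nat.card ψ.ker * Nat.card ψ.range = Nat.card Y := by
      rw [← Subgroup.index_ker, Subgroup.card_mul_index]
    have := Nat.mul_le_mul_right (Nat.card ψ.range) hker
    omega
  have hTp : IsPGroup 2 ψ.range := hYp.of_surjective ψ.rangeRestrict ψ.rangeRestrict_surjective
  obtain ⟨P2, hP2⟩ := hTp.exists_le_sylow
  have hP2eq : (P2 : Subgroup _) = ψ.range := by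
    refine (Subgroup.eq_of_le_of_card_ge hP2 ?_).symm
    obtain ⟨k, hk⟩ := P2.isPGroup'.exists_card_eq
    have hd := Subgroup.card_subgroup_dvd_card (P2 : Subgroup (↥(centralizer ({z} : Set G)) ⧸ Qc))
    rw [hK, hk] at hd
    have hk6 : k ≤ 6 := by
      by_contra hlt
      have : 2 ^ 7 ∣ 25920 := (pow_dvd_pow 2 (by omega : 7 ≤ k)).trans hd
      norm_num at this
    rw [hk]
    exact (Nat.pow_le_pow_right (by norm_num) hk6).trans hT
  let T := (Finset.univ : Finset (ZMod 2 × ZMod 2)).image fun p =>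
    φ ⟨h⁻¹ * vv z t p * h, mem_centralizer_singleton_iff.mpr (by
      have hvy : Commute (vv z t p) (h * z * h⁻¹) := by
        rw [hh]
        exact (D.vv_comm p hyR).symm
      calc h⁻¹ * vv z t p * h * z = h⁻¹ * (vv z t p * (h * z * h⁻¹)) * h := by group
        _ = h⁻¹ * (h * z * h⁻¹ * vv z t p) * h := by rw [hvy.eq]
        _ = z * (h⁻¹ * vv z t p * h) := by group)⟩
  have hTcomm : ∀ a ∈ ψ.range, ∀ b ∈ ψ.range, a * b * a⁻¹ * b⁻¹ ∈ T := by
    rintro _ ⟨r, rfl⟩ _ ⟨r', rfl⟩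
    refine Finset.mem_image.mpr ⟨cm (cd r) (cd r'), Finset.mem_univ _, ?_⟩
    rw [show ψ r * ψ r' * (ψ r)⁻¹ * (ψ r')⁻¹ = φ (ι (r * r' * r⁻¹ * r'⁻¹)) by
      simp [ψ, map_mul, map_inv]]
    refine congrArg φ (Subtype.ext ?_)
    show h⁻¹ * vv z t _ * h = h⁻¹ * ((r * r' * r⁻¹ * r'⁻¹ : ↥Y) : G) * h
    rw [← hcd r r']
    rfl
  -- a Sylow subgroup coming from the centraliser of the four group
  have hinc : Sx z t ≤ centralizer ({z} : Set G) := inf_le_left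
  let χ := φ.comp (Subgroup.inclusion hinc)
  have hkerp : IsPGroup 2 ρ.ker := IsPGroup.of_card (n := 10) (by rw [D.card_ker]; norm_num)
  have hkl : IsPGroup 2 ↥klein := fun σ => ⟨1, Subtype.ext (by
    simpa [pow_two] using klein_sq σ σ.2)⟩
  have hSp : IsPGroup 2 ↥((klein.comap ρ).map χ) :=
    (hkl.comap_of_ker_isPGroup ρ hkerp).map χ
  obtain ⟨P1, hP1⟩ := hSp.exists_le_sylow
  obtain ⟨g, hg⟩ := MulAction.exists_smul_eq (↥(centralizer ({z} : Set G)) ⧸ Qc) P1 P2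
  have hconjT : ∀ a ∈ (klein.comap ρ).map χ, ∀ b ∈ (klein.comap ρ).map χ,
      g * (a * b * a⁻¹ * b⁻¹) * g⁻¹ ∈ T := by
    intro a ha b hb
    have hm : ∀ {w}, w ∈ (klein.comap ρ).map χ → g * w * g⁻¹ ∈ ψ.range := fun {w} hw => by
      rw [← hP2eq, ← hg, Sylow.coe_subgroup_smul]
      exact ⟨w, hP1 hw, rfl⟩
    rw [show g * (a * b * a⁻¹ * b⁻¹) * g⁻¹
      = (g * a * g⁻¹) * (g * b * g⁻¹) * (g * a * g⁻¹)⁻¹ * (g * b * g⁻¹)⁻¹ by group]
    exact hTcomm _ (hm ha) _ (hm hb)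
  obtain ⟨c₁, hc₁⟩ := D.exists_rho_eq sign_sigma.1
  obtain ⟨c₂, hc₂⟩ := D.exists_rho_eq sign_sigma.2
  let L := [act σ₁ 0 + 0, act σ₁ (pt 0) + pt 0, act σ₁ (pt 2) + pt 2,
    act σ₁ (pt 0 + pt 2) + (pt 0 + pt 2), act σ₂ (pt 0) + pt 0, act σ₂ (pt 1) + pt 1]
  have hmem : ∀ w ∈ L, ∃ c : ↥(Sx z t), ρ c ∈ klein ∧ ∃ v, w = act (ρ c) v + v := by
    intro w hw
    simp only [L, List.mem_cons, List.not_mem_nil, or_false] at hw
    rcases hw with rfl | rfl | rfl | rfl | rfl | rfl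
    · exact ⟨c₁, hc₁ ▸ Or.inr (Or.inl rfl), 0, by rw [hc₁]⟩
    · exact ⟨c₁, hc₁ ▸ Or.inr (Or.inl rfl), pt 0, by rw [hc₁]⟩
    · exact ⟨c₁, hc₁ ▸ Or.inr (Or.inl rfl), pt 2, by rw [hc₁]⟩
    · exact ⟨c₁, hc₁ ▸ Or.inr (Or.inl rfl), pt 0 + pt 2, by rw [hc₁]⟩
    · exact ⟨c₂, hc₂ ▸ Or.inr (Or.inr (Or.inl rfl)), pt 0, by rw [hc₂]⟩
    · exact ⟨c₂, hc₂ ▸ Or.inr (Or.inr (Or.inl rfl)), pt 1, by rw [hc₂]⟩
  have hev : ∀ w : {w // w ∈ L}, ∃ m : ↥(Sx z t), (m : G) ∈ Cx Q' z ∧ ev ν d (m : G) = w ∧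
      g * χ m * g⁻¹ ∈ T := by
    rintro ⟨w, hw⟩
    obtain ⟨c, hcK, v, rfl⟩ := hmem w hw
    obtain ⟨b, hb, rfl⟩ := D.ev_surj v
    have hcb := D.conj_C' c.2 hb
    let bb : ↥(Sx z t) := ⟨b, D.C'_le_Sx hb⟩
    refine ⟨c * bb * c⁻¹ * bb⁻¹, mul_mem hcb (inv_mem hb), ?_, ?_⟩
    · show ev ν d ((c : G) * b * (c : G)⁻¹ * b⁻¹) = _
      have hbi : ev ν d b⁻¹ = ev ν d b := by
        have := D.ev_mul (D.triv_of_R (D.C'_le_R hb)) (D.C'_le_Sx (inv_mem hb))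
        rw [mul_inv_cancel, D.ev_one] at this
        exact eq_of_add this.symm
      rw [D.ev_mul (D.triv_of_R (D.C'_le_R hcb)) (D.C'_le_Sx (inv_mem hb)), hbi, D.ev_conj hb,
        add_comm]
    · rw [map_mul, map_mul, map_mul, map_inv, map_inv]
      refine hconjT _ ⟨c, hcK, rfl⟩ _ ⟨bb, ?_, rfl⟩
      show ρ bb ∈ klein
      rw [D.rho_R.mpr (show (bb : G) ∈ D.P.R from D.C'_le_R hb)]
      exact one_mem _
  choose m hm1 hm2 hm3 using hev
  have hinj : Function.Injective fun w : {w // w ∈ L} => (⟨g * χ (m w) * g⁻¹, hm3 w⟩ : {x // x ∈ T}) := by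
    intro w w' e
    have e1 : χ (m w) = χ (m w') := mul_left_cancel (mul_right_cancel (congrArg Subtype.val e))
    have e2 : χ (m w * (m w')⁻¹) = 1 := by rw [map_mul, map_inv, e1, mul_inv_cancel]
    have hQ2 : (m w : G) * (m w' : G)⁻¹ ∈ Q := (hφ _).mp e2
    have hV : (m w : G) * (m w' : G)⁻¹ ∈ D.P.V := by
      rw [← D.E_eq]
      exact ⟨hQ2, (mem_Cx.mp (mul_mem (hm1 w) (inv_mem (hm1 w')))).1⟩
    apply Subtype.ext
    rw [← hm2 w, ← hm2 w']
    have hadd := D.ev_mul (D.triv_of_R (D.P.V_le_R hV)) (D.C'_le_Sx (hm1 w'))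
    rw [inv_mul_cancel_right, D.ev_Cx (D.V_le_Cx hV), add_zero] at hadd
    exact hadd
  have h6 : Nat.card {w // w ∈ L} = 6 := by
    rw [Nat.card_eq_fintype_card, Fintype.card_of_subtype L.toFinset fun w => List.mem_toFinset,
      List.toFinset_card_of_nodup six_moved]
    rfl
  have h4 : Nat.card {x // x ∈ T} ≤ 4 := by
    rw [Nat.card_eq_fintype_card, Fintype.card_coe]
    exact Finset.card_image_le.trans (le_of_eq rfl)
  have := Nat.card_le_card_of_injective _ hinj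
  omega

end Ctx

end Cfsg.Agent.SuzTypeRadical62
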