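import Mathlib
import Cfsg.Agent.Lib.SuzTypeClasses62
import Cfsg.Agent.Lib.ConwayTypePair62
import Cfsg.Agent.Lib.ConwayTypeFacts62

/-!
# Involutions of a group of Conway type meeting the product of the two centralisers

The classes of involutions in `R`, and singular vectors commuting with a given involution.
-/

set_option autoImplicit false

namespace Cfsg.Agent.ConwayTypeRadical62

open Subgroup Cfsg.Agent.LargeExtraspecial Cfsg.Agent.LargeExtraspecialPair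
open Cfsg.Agent.ConwayTypeModel62 Cfsg.Agent.ConwayTypeCoord62

variable {G : Type*} [Group G] [Finite G]

theorem exists_ctx {Q : Subgroup G} {z g : G} (H : Hyp Q z) (hgQ : g * z * g⁻¹ ∈ Q)
    (hgz : g * z * g⁻¹ ≠ z) :
    ∃ ν d ρ, Ctx Q (Q.map (MulAut.conj g).toMonoidHom) z (g * z * g⁻¹) ν d ρ := by
  have P := pair_of_conj H.h hgQ hgz (by rw [H.cardQ]; norm_num)
  have hx : Sing Q z (g * z * g⁻¹) := ⟨hgQ, P.h'.zz, P.h'.ne_one, hgz⟩
  obtain ⟨ν, K⟩ := H.exists_nf hx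
  obtain ⟨d, hd, ed⟩ := H.h.partner _ hgQ P.h'.ne_one hgz
  obtain ⟨ρ, hρ, -⟩ := H.exists_rho hx K
  refine ⟨ν, d, ρ, H, hyp_map_conj H g, P, K, hd, ed, hρ, ?_, isConj_iff.mpr ⟨g, rfl⟩⟩
  rintro _ ⟨y, hy, rfl⟩
  exact ⟨y, hy, isConj_iff.mpr ⟨g, rfl⟩⟩

namespace Ctx

variable {Q Q' : Subgroup G} {z t : G} {ν : G → M6} {d : G}
  {ρ : ↥(Sx z t) →* P8} (D : Ctx Q Q' z t ν d ρ)
include D

theorem exists_swap : ∃ ν' d' ρ', Ctx Q' Q t z ν' d' ρ' := by
  obtain ⟨g, rfl⟩ := isConj_iff.mp D.tz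
  have e : g⁻¹ * (g * z * g⁻¹) * g⁻¹⁻¹ = z := by group
  obtain ⟨ν', d', ρ', D'⟩ := exists_ctx D.H' (g := g⁻¹) (by rw [e]; exact D.P.zQ')
    (by rw [e]; exact D.P.ne.symm)
  have hQ : Q'.map (MulAut.conj g⁻¹).toMonoidHom = Q := by
    refine Subgroup.eq_of_le_of_card_ge ?_ ?_
    · rintro _ ⟨x, hx, rfl⟩
      obtain ⟨y, hy, ey⟩ := D.P.conj_eq 1 g (by group) x hx
      have ey' : x = g * y * g⁻¹ := by simpa using ey
      simp only [MulEquiv.coe_toMonoidHom, MulAut.conj_apply]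
      rw [ey', show g⁻¹ * (g * y * g⁻¹) * g⁻¹⁻¹ = y by group]
      exact hy
    · rw [Subgroup.card_map_of_injective (MulAut.conj g⁻¹).injective, D.H.cardQ, D.H'.cardQ]
  revert ρ' D'
  rw [hQ, e]
  exact fun ρ' D' => ⟨ν', d', ρ', D'⟩

theorem ev_inv {b : G} (hb : b ∈ Cx Q' z) : ev ν d b⁻¹ = ev ν d b := by
  have := D.ev_mul (D.triv_of_R (D.C'_le_R hb)) (D.C'_le_Sx (inv_mem hb))
  rw [mul_inv_cancel, D.ev_one] at this
  exact eq_of_add this.symm

theorem conj_z_Q {y : G} (hy : y ∈ Q) (hyy : y * y = 1) (h1 : y ≠ 1) : IsConj y z := by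
  by_cases hz : y = z
  · subst hz
    exact IsConj.refl _
  · obtain ⟨c, -, hc⟩ := D.H.transitive D.sing ⟨hy, hyy, h1, hz⟩
    exact (D.tz.trans (isConj_iff.mpr ⟨c, hc⟩)).symm

theorem conj_z_Q' {y : G} (hy : y ∈ Q') (hyy : y * y = 1) (h1 : y ≠ 1) : IsConj y z := by
  obtain ⟨w, hw, hc⟩ := D.conj y hy
  obtain ⟨c, rfl⟩ := isConj_iff.mp hc
  refine hc.symm.trans (D.conj_z_Q hw ?_ fun e => h1 (by rw [e]; group))
  calc w * w = c⁻¹ * (c * w * c⁻¹ * (c * w * c⁻¹)) * c := by group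
    _ = 1 := by rw [hyy]; group

theorem V_le_C' : D.P.V ≤ Cx Q' z := D.P.V_le_E.trans D.P.E_le_C'

theorem d_inv_V {v : G} (hv : v ∈ D.P.V) : d⁻¹ * v * d ∈ D.P.V := by
  obtain ⟨⟨i, j⟩, rfl⟩ := D.vv_surj hv
  have h := D.d_vv (i + j, j)
  have e : ((i + j) + j, j) = (i, j) := by
    rw [add_assoc, CharTwo.add_self_eq_zero, add_zero]
  simp only [e] at h
  rw [← h, show d⁻¹ * (d * vv z t (i + j, j) * d⁻¹) * d = vv z t (i + j, j) by group]
  exact D.vv_mem _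

/-- An involution with given coordinates. -/
def Rep (_D : Ctx Q Q' z t ν d ρ) (u w : M6) (y : G) : Prop :=
  ∃ a ∈ Cx Q t, ∃ b ∈ Cx Q' z, ν a = u ∧ ev ν d b = w ∧ y = a * b

theorem exists_rep {u w : M6} (h1 : f u = B u w) (h2 : f w = B u w) (hu : u ≠ 0) :
    ∃ y, D.Rep u w y ∧ y * y = 1 ∧ y ≠ 1 := by
  obtain ⟨a, ha, rfl⟩ := D.K.surj u
  obtain ⟨b, hb, rfl⟩ := D.ev_surj w
  refine ⟨a * b, ⟨a, ha, b, hb, rfl, rfl, rfl⟩, ?_, fun e => hu ?_⟩
  · rw [D.sq_R ha hb, h1, h2, CharTwo.add_self_eq_zero]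
    exact vv_zero z t
  · rw [(D.decomp_unique ha hb (one_mem _) (one_mem _) (by rw [e, one_mul])).1]
    exact D.H.nu_one D.sing D.K

/-- Two involutions of `R` with coordinates in one orbit are fused. -/
theorem fuse {a₀ b₀ a b : G} (ha₀ : a₀ ∈ Cx Q t) (hb₀ : b₀ ∈ Cx Q' z) (ha : a ∈ Cx Q t)
    (hb : b ∈ Cx Q' z)
    (hdual : ∀ i j, ∃ x, B x (ν a₀) + B x (ev ν d b₀) = i ∧ B x (ev ν d b₀) = j)
    {σ : P8} (hσ : Equiv.Perm.sign σ = 1) (hσa : act σ (ν a₀) = ν a)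
    (hσb : act σ (ev ν d b₀) = ev ν d b) : IsConj (a * b) (a₀ * b₀) := by
  obtain ⟨c, rfl⟩ := D.exists_rho_eq hσ
  rw [D.hρ c a₀ ha₀] at hσa
  rw [← D.ev_conj hb₀] at hσb
  set a' := (c : G) * a₀ * (c : G)⁻¹ with ha'
  set b' := (c : G) * b₀ * (c : G)⁻¹ with hb'
  have ha'm : a' ∈ Cx Q t := D.H.conj_Cx c.2 ha₀
  have hb'm : b' ∈ Cx Q' z := D.conj_C' c.2 hb₀
  have hva : a * a'⁻¹ ∈ D.P.V :=
    D.inU_iff.mp ((D.H.nu_eq D.sing D.K ha ha'm).mp hσa.symm)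
  have hvb : b * b'⁻¹ ∈ D.P.V := by
    have hbi : ev ν d b'⁻¹ = ev ν d b' := by
      have := D.ev_mul (D.triv_of_R (D.C'_le_R hb'm)) (D.C'_le_Sx (inv_mem hb'm))
      rw [mul_inv_cancel, D.ev_one] at this
      exact eq_of_add this.symm
    refine (D.ev_eq_zero (mul_mem hb (inv_mem hb'm))).mp ?_
    rw [D.ev_mul (D.triv_of_R (D.C'_le_R hb)) (D.C'_le_Sx (inv_mem hb'm)), hbi, hσb, add_self]
  obtain ⟨p, hp⟩ := D.vv_surj (mul_mem hva hvb)
  have hab : a * b = (c : G) * (vv z t p * (a₀ * b₀)) * (c : G)⁻¹ := by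
    have hc := D.vv_comm_Sx p c.2
    have h1 : Commute a' (b * b'⁻¹) := D.P.V_comm (D.Cx_le_R ha'm) hvb
    calc a * b = (a * a'⁻¹) * (a' * (b * b'⁻¹)) * b' := by group
      _ = ((a * a'⁻¹) * (b * b'⁻¹)) * (a' * b') := by rw [h1.eq]; group
      _ = (vv z t p * (c : G)) * (a₀ * b₀) * (c : G)⁻¹ := by rw [hp, ha', hb']; group
      _ = _ := by rw [← hc]; group
  obtain ⟨α, h1, h2⟩ := hdual p.1 p.2
  obtain ⟨a₂, ha₂, rfl⟩ := D.K.surj α
  have hcm := D.comm_R ha₂ (one_mem (Cx Q' z)) ha₀ hb₀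
  rw [mul_one, D.ev_one,
    show cm (ν a₂, 0) (ν a₀, ev ν d b₀) = p by
      simp only [cm, B_zero_left, B_zero_right, add_zero]; rw [h1, h2]] at hcm
  refine isConj_iff.mpr ⟨a₂⁻¹ * (c : G)⁻¹, ?_⟩
  rw [hab, ← hcm]
  group

theorem class_R {y y' : G} (hy : D.Rep α₀ β₀ y) (hy' : D.Rep α₁ β₁ y') {r : G} (hr : r ∈ D.P.R) (hrr : r * r = 1) (hr1 : r ≠ 1) :
    IsConj r z ∨ IsConj r y ∨ IsConj r y' := by
  obtain ⟨a, ha, b, hb, rfl⟩ := D.decomp hr
  rw [D.sq_R ha hb, ← vv_zero z t] at hrr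
  have h := D.vv_inj hrr
  simp only [Prod.ext_iff, Prod.fst_zero, Prod.snd_zero] at h
  have hf1 : f (ν a) = B (ν a) (ev ν d b) := eq_of_two h.1
  have hf2 : f (ev ν d b) = B (ν a) (ev ν d b) := eq_of_two h.2
  have hr2 : (a * b) * (a * b) = 1 := by rw [D.sq_R ha hb, hrr, vv_zero]
  rcases two_eq (B (ν a) (ev ν d b)) with hB | hB
  · rw [hB] at hf1 hf2
    rcases zero_cases hf1 hf2 hB with e | e | e | ⟨σ, hσ, hσa, hσb⟩
    · have haV : a ∈ Cx Q' z := D.V_le_C' (D.inU_iff.mp ((D.K.ker a ha).mp e))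
      exact Or.inl (D.conj_z_Q' (mem_Cx.mp (mul_mem haV hb)).1 hr2 hr1)
    · have hbV : b ∈ Cx Q t := D.V_le_Cx ((D.ev_eq_zero hb).mp e)
      exact Or.inl (D.conj_z_Q (mem_Cx.mp (mul_mem ha hbV)).1 hr2 hr1)
    · obtain ⟨a₁, ha₁, he₁, hd₁⟩ := D.d_conj_C' hb
      have hv : a * a₁⁻¹ ∈ D.P.V :=
        D.inU_iff.mp ((D.H.nu_eq D.sing D.K ha ha₁).mp (by rw [he₁, e]))
      have hw : d⁻¹ * (a * b) * d ∈ Q' := by
        rw [show d⁻¹ * (a * b) * d = (d⁻¹ * (a * a₁⁻¹) * d) * (d⁻¹ * (a₁ * b) * d) by group, ← hd₁,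
          show d⁻¹ * (d * b * d⁻¹) * d = b by group]
        exact Q'.mul_mem (mem_Cx.mp (D.V_le_C' (D.d_inv_V hv))).1 (mem_Cx.mp hb).1
      have hne : d⁻¹ * (a * b) * d ≠ 1 := fun e' => hr1 (by
        rw [show a * b = d * (d⁻¹ * (a * b) * d) * d⁻¹ by group, e']; group)
      refine Or.inl ((isConj_iff.mpr ⟨d⁻¹, by rw [inv_inv]⟩).trans (D.conj_z_Q' hw ?_ hne))
      calc d⁻¹ * (a * b) * d * (d⁻¹ * (a * b) * d) = d⁻¹ * ((a * b) * (a * b)) * d := by group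
        _ = 1 := by rw [hr2]; group
    · obtain ⟨a₀, ha₀, b₀, hb₀, hα, hβ, rfl⟩ := hy
      exact Or.inr (Or.inl (D.fuse ha₀ hb₀ ha hb (by rw [hα, hβ]; exact dual₀) hσ
        (by rw [hα, hσa]) (by rw [hβ, hσb])))
  · rw [hB] at hf1 hf2
    obtain ⟨σ, hσ, hσa, hσb⟩ := pair1_to hf1 hf2 hB
    obtain ⟨a₀, ha₀, b₀, hb₀, hα, hβ, rfl⟩ := hy'
    exact Or.inr (Or.inr (D.fuse ha₀ hb₀ ha hb (by rw [hα, hβ]; exact dual₁) hσ
      (by rw [hα, hσa]) (by rw [hβ, hσb])))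

theorem in_C {x : G} (hx : orderOf x = 2) : ∃ g, g * x * g⁻¹ ∈ centralizer ({z} : Set G) := by
  haveI : Fact (Nat.Prime 2) := ⟨Nat.prime_two⟩
  obtain ⟨P, hQP⟩ := D.H.h.toExt.isPGroup.exists_le_sylow
  have hxp : IsPGroup 2 (zpowers x) := IsPGroup.of_card (n := 1) (by
    rw [Nat.card_zpowers, hx]; rfl)
  obtain ⟨P', hxP'⟩ := hxp.exists_le_sylow
  obtain ⟨g, hg⟩ := MulAction.exists_smul_eq G P' P
  refine ⟨g, ?_⟩
  have hmem : g * x * g⁻¹ ∈ (P : Subgroup G) := by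
    rw [← hg, Sylow.coe_subgroup_smul]
    exact ⟨x, hxP' (mem_zpowers x), rfl⟩
  -- the centre of `P` is `⟨z⟩`
  have hne : Nontrivial ↥(P : Subgroup G) :=
    ⟨⟨⟨z, hQP D.H.h.mem⟩, 1, fun e => D.H.h.ne_one (congrArg Subtype.val e)⟩⟩
  haveI := P.isPGroup'.center_nontrivial
  obtain ⟨⟨⟨w, hwP⟩, hwc⟩, hw1⟩ := exists_ne (1 : Subgroup.center ↥(P : Subgroup G))
  have hwcomm : ∀ y ∈ (P : Subgroup G), y * w = w * y := fun y hy =>
    congrArg Subtype.val (mem_center_iff.mp hwc ⟨y, hy⟩)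
  rcases D.H.h.cent w fun y hy => (hwcomm y (hQP hy)).symm with e | e
  · exact absurd (Subtype.ext (Subtype.ext e)) hw1
  · subst e
    exact mem_centralizer_singleton_iff.mpr (hwcomm _ hmem)

theorem exists_sing_comm {x : G} (hxz : x * z = z * x) (hxx : x * x = 1) :
    ∃ t', Sing Q z t' ∧ t' * x = x * t' := by
  have hxi : x⁻¹ = x := inv_eq_of_mul_eq_one_right hxx
  have hwQ : ∀ q ∈ Q, q * x * q⁻¹ * x⁻¹ ∈ Q := fun q hq => by
    rw [show q * x * q⁻¹ * x⁻¹ = q * (x * q⁻¹ * x⁻¹) by group]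
    exact Q.mul_mem hq (D.H.h.norm x hxz _ (Q.inv_mem hq))
  have hinv : ∀ q, x * (q * x * q⁻¹ * x⁻¹) * x⁻¹ = (q * x * q⁻¹ * x⁻¹)⁻¹ := fun q => by
    calc x * (q * x * q⁻¹ * x⁻¹) * x⁻¹ = x * q * x * q⁻¹ * (x * x)⁻¹ := by group
      _ = x * q * x⁻¹ * q⁻¹ := by rw [hxx, inv_one, mul_one, hxi]
      _ = _ := by group
  by_cases hA : ∃ q ∈ Q, Sing Q z (q * x * q⁻¹ * x⁻¹)
  · obtain ⟨q, hq, hs⟩ := hA
    refine ⟨_, hs, ?_⟩
    have h := hinv q
    rw [inv_eq_of_mul_eq_one_right hs.2.1] at h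
    exact (mul_inv_eq_iff_eq_mul.mp h).symm
  push Not at hA
  have h12 : ∀ q ∈ Q, q * x * q⁻¹ * x⁻¹ = 1 ∨ q * x * q⁻¹ * x⁻¹ = z ∨
      (q * x * q⁻¹ * x⁻¹) * (q * x * q⁻¹ * x⁻¹) = z := fun q hq => by
    by_contra hne
    push Not at hne
    exact hA q hq ⟨hwQ q hq, (D.H.h.sq _ (hwQ q hq)).resolve_right hne.2.2, hne.1, hne.2.1⟩
  obtain ⟨u, hu⟩ : ∃ u, ∀ q ∈ Q, q * x * q⁻¹ * x⁻¹ = 1 ∨ q * x * q⁻¹ * x⁻¹ = z ∨
      q * x * q⁻¹ * x⁻¹ = u ∨ q * x * q⁻¹ * x⁻¹ = z * u := by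
    by_cases hex : ∃ q ∈ Q, (q * x * q⁻¹ * x⁻¹) * (q * x * q⁻¹ * x⁻¹) = z
    · obtain ⟨q₀, hq₀, hsq⟩ := hex
      refine ⟨q₀ * x * q₀⁻¹ * x⁻¹, fun q hq => ?_⟩
      rcases h12 q hq with e | e | e
      · exact Or.inl e
      · exact Or.inr (Or.inl e)
      set w := q₀ * x * q₀⁻¹ * x⁻¹ with hw
      set w' := q * x * q⁻¹ * x⁻¹ with hw'
      have hwm : w ∈ Q := hwQ q₀ hq₀
      have hwm' : w' ∈ Q := hwQ q hq
      have hinvz : ∀ v ∈ Q, v * v = z → v⁻¹ = z * v := fun v hv hvv =>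
        inv_eq_of_mul_eq_one_right (by rw [← mul_assoc, D.H.h.comm v hv, mul_assoc, hvv, D.H.h.zz])
      have hx1 : x * w * x⁻¹ = z * w := by rw [hw, hinv, ← hw, hinvz w hwm hsq]
      have hx2 : x * w' * x⁻¹ = z * w' := by rw [hw', hinv, ← hw', hinvz w' hwm' e]
      have hxp : x * (w' * w) * x⁻¹ = w' * w := by
        calc x * (w' * w) * x⁻¹ = (x * w' * x⁻¹) * (x * w * x⁻¹) := by group
          _ = z * (w' * z) * w := by rw [hx1, hx2]; group
          _ = z * z * (w' * w) := by rw [D.H.h.comm w' hwm']; group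
          _ = w' * w := by rw [D.H.h.zz, one_mul]
      obtain ⟨k, hk⟩ : ∃ k, (q * q₀) * x * (q * q₀)⁻¹ * x⁻¹ = zp z k * (w * w') := by
        have e1 : (q * q₀) * x * (q * q₀)⁻¹ * x⁻¹ = (q * w * q⁻¹) * w' := by rw [hw, hw']; group
        rcases D.H.h.conj q hq w hwm with e2 | e2
        · exact ⟨0, by rw [e1, e2, zp_zero, one_mul]⟩
        · exact ⟨1, by rw [e1, e2, zp_one, mul_assoc]⟩
      have hxp' : x * (w * w') * x⁻¹ = w * w' := by
        calc x * (w * w') * x⁻¹ = (x * w * x⁻¹) * (x * w' * x⁻¹) := by group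
          _ = z * (w * z) * w' := by rw [hx1, hx2]; group
          _ = z * z * (w * w') := by rw [D.H.h.comm w hwm]; group
          _ = w * w' := by rw [D.H.h.zz, one_mul]
      have hi := hinv (q * q₀)
      have hkQ : zp z k ∈ Q ∧ x * zp z k * x⁻¹ = zp z k ∧ Commute (zp z k) (w * w') := by
        rcases two_eq k with rfl | rfl
        · rw [zp_zero]; exact ⟨one_mem _, by group, Commute.one_left _⟩
        · rw [zp_one]
          exact ⟨D.H.h.mem, by rw [hxz, mul_inv_cancel_right],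
            (D.H.h.comm _ (Q.mul_mem hwm hwm')).symm⟩
      have hself : zp z k * (w * w') * (zp z k * (w * w')) = 1 := by
        rw [hk] at hi
        have : x * (zp z k * (w * w')) * x⁻¹ = zp z k * (w * w') := by
          calc x * (zp z k * (w * w')) * x⁻¹
              = (x * zp z k * x⁻¹) * (x * (w * w') * x⁻¹) := by group
            _ = _ := by rw [hkQ.2.1, hxp']
        rw [this] at hi
        exact eq_inv_iff_mul_eq_one.mp hi
      have hp12 : zp z k * (w * w') = 1 ∨ zp z k * (w * w') = z := by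
        have := h12 _ (Q.mul_mem hq hq₀)
        rw [hk] at this
        rcases this with h' | h' | h'
        · exact Or.inl h'
        · exact Or.inr h'
        · exact absurd (hself.symm.trans h').symm D.H.h.ne_one
      have hp : w * w' = 1 ∨ w * w' = z := by
        rcases two_eq k with rfl | rfl
        · simpa [zp_zero] using hp12
        · rw [zp_one] at hp12
          rcases hp12 with h' | h'
          · exact Or.inr (by rw [← D.H.h.z_mul_z_mul (w * w'), h', mul_one])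
          · exact Or.inl (by rw [← D.H.h.z_mul_z_mul (w * w'), h', D.H.h.zz])
      rcases hp with h' | h'
      · exact Or.inr (Or.inr (Or.inr (by
          rw [← hinvz w hwm hsq]; exact eq_inv_of_mul_eq_one_right h')))
      · refine Or.inr (Or.inr (Or.inl ?_))
        rw [eq_inv_mul_of_mul_eq h', hinvz w hwm hsq, mul_assoc, D.H.h.comm w hwm,
          D.H.h.z_mul_z_mul]
    · push Not at hex
      refine ⟨1, fun q hq => ?_⟩
      rcases h12 q hq with e | e | e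
      exacts [Or.inl e, Or.inr (Or.inl e), absurd e (hex q hq)]
  -- the centraliser of `x` in `Q` is large
  have four : ∀ a b c e : G, ({a, b, c, e} : Set G).ncard ≤ 4 := fun a b c e => by
    refine (Set.ncard_insert_le _ _).trans ?_
    refine (Nat.add_le_add_right (Set.ncard_insert_le _ _) _).trans ?_
    refine (Nat.add_le_add_right (Nat.add_le_add_right (Set.ncard_insert_le _ _) _) _).trans ?_
    rw [Set.ncard_singleton]
  have hF : 128 ≤ Nat.card ↥(Q ⊓ centralizer ({x} : Set G)) := by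
    have h1 := SuzTypeRadical62.card_le_mul_cent Q x {x, z * x, u * x, z * u * x} fun q hq => by
      have : q * x * q⁻¹ = (q * x * q⁻¹ * x⁻¹) * x := by group
      rw [this]
      rcases hu q hq with e | e | e | e <;> rw [e] <;> simp [mul_assoc]
    rw [D.H.cardQ] at h1
    have := h1.trans (Nat.mul_le_mul_right _ (four _ _ _ _))
    omega
  set N := Q ⊓ centralizer ({x} : Set G) ⊓ centralizer ({t} : Set G) with hN
  have hN64 : 64 ≤ Nat.card N := by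
    have h1 := SuzTypeRadical62.card_le_mul_cent (Q ⊓ centralizer ({x} : Set G)) t {t, z * t} fun q hq => by
      rcases D.H.h.conj q hq.1 t D.sing.1 with e | e <;> rw [e] <;> simp
    have h2 : ({t, z * t} : Set G).ncard ≤ 2 :=
      (Set.ncard_insert_le _ _).trans (by rw [Set.ncard_singleton])
    have := h1.trans (Nat.mul_le_mul_right _ h2)
    rw [← hN] at this
    omega
  have hNC : ∀ a ∈ N, a ∈ Cx Q t ∧ a * x = x * a := fun a ha =>
    ⟨mem_Cx.mpr ⟨ha.1.1, mem_centralizer_singleton_iff.mp ha.2⟩,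
      mem_centralizer_singleton_iff.mp ha.1.2⟩
  by_cases hU : ∃ a ∈ N, InU z t a ∧ a ≠ 1 ∧ a ≠ z
  · obtain ⟨a, ha, haU, h1, h2⟩ := hU
    exact ⟨a, ⟨(mem_Cx.mp (hNC a ha).1).1, (D.H.U_inv D.sing haU).1, h1, h2⟩, (hNC a ha).2⟩
  push Not at hU
  classical
  haveI := Fintype.ofFinite G
  let FN : Finset G := Finset.univ.filter fun a => a ∈ N
  have hcard : FN.card = Nat.card N := by
    rw [Nat.card_eq_fintype_card, Fintype.card_subtype]
  have hfib : ∀ w ∈ FN.image ν, (FN.filter fun a => ν a = w).card ≤ 2 := by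
    intro w hw
    obtain ⟨a, ha, rfl⟩ := Finset.mem_image.mp hw
    replace ha : a ∈ N := (Finset.mem_filter.mp ha).2
    refine (Finset.card_le_card (t := {a, z * a}) fun b hb => ?_).trans Finset.card_le_two
    obtain ⟨hb', e⟩ := Finset.mem_filter.mp hb
    replace hb' : b ∈ N := (Finset.mem_filter.mp hb').2
    have hu := (D.H.nu_eq D.sing D.K (hNC b hb').1 (hNC a ha).1).mp e
    simp only [Finset.mem_insert, Finset.mem_singleton]
    by_cases h1 : b * a⁻¹ = 1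
    · exact Or.inl (mul_inv_eq_one.mp h1)
    · exact Or.inr (mul_inv_eq_iff_eq_mul.mp (hU _ (mul_mem hb' (inv_mem ha)) hu h1))
  have h32 : 32 ≤ (FN.image ν).card := by
    have := Finset.card_le_mul_card_image FN 2 hfib
    omega
  obtain ⟨w, hw, hw0, hwf⟩ := exists_sing h32
  obtain ⟨m, hm, rfl⟩ := Finset.mem_image.mp hw
  replace hm : m ∈ N := (Finset.mem_filter.mp hm).2
  have hmC := (hNC m hm).1
  refine ⟨m, ⟨(mem_Cx.mp hmC).1, ?_, fun e => hw0 ?_, fun e => hw0 ?_⟩, (hNC m hm).2⟩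
  · rw [D.K.sq _ hmC, hwf, zp_zero]
  · rw [e]; exact D.H.nu_one D.sing D.K
  · rw [e]; exact (D.K.ker z (D.H.z_mem D.sing)).mpr (Or.inr (Or.inl rfl))

end Ctx

end Cfsg.Agent.ConwayTypeRadical62
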