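import Mathlib
import Cfsg.Agent.Lib.ConwayTypeClasses62

/-!
# Centralisers of the two outer classes of involutions of a group of Conway type

A two-group centralising the non-singular representative has order at most `2^15`; the
centraliser of the singular representative in the centraliser of the four group has order `2^17`.
-/

set_option autoImplicit false
set_option maxRecDepth 100000

namespace Cfsg.Agent.ConwayTypeRadical62

open Subgroup Cfsg.Agent.LargeExtraspecial Cfsg.Agent.LargeExtraspecialPair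
open Cfsg.Agent.ConwayTypeModel62 Cfsg.Agent.ConwayTypeCoord62

variable {G : Type*} [Group G] [Finite G]

/-- Orbit times point centraliser. -/
theorem orbit_card (K : Subgroup G) (x : G) :
    ((fun c => c * x * c⁻¹) '' (K : Set G)).ncard * Nat.card ↥(K ⊓ centralizer ({x} : Set G))
      = Nat.card K := by
  letI : MulAction ↥K G := MulAction.compHom G (ConjAct.toConjAct.toMonoidHom.comp K.subtype)
  have ha : ∀ (c : ↥K) (y : G), c • y = (c : G) * y * (c : G)⁻¹ := fun c y =>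
    ConjAct.smul_def (ConjAct.toConjAct (c : G)) y
  have ho : MulAction.orbit ↥K x = (fun c => c * x * c⁻¹) '' (K : Set G) := by
    ext y
    simp only [MulAction.mem_orbit_iff, Set.mem_image, SetLike.mem_coe, ha]
    exact ⟨fun ⟨c, e⟩ => ⟨c, c.2, e⟩, fun ⟨c, hc, e⟩ => ⟨⟨c, hc⟩, e⟩⟩
  have hs : Nat.card (MulAction.stabilizer ↥K x) = Nat.card ↥(K ⊓ centralizer ({x} : Set G)) :=
    Nat.card_congr
      { toFun := fun c => ⟨(c : ↥K), ⟨(c : ↥K).2, mem_centralizer_singleton_iff.mpr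
          (mul_inv_eq_iff_eq_mul.mp ((ha c x).symm.trans c.2))⟩⟩
        invFun := fun c => ⟨⟨c, c.2.1⟩, (ha _ x).trans
          (mul_inv_eq_iff_eq_mul.mpr (mem_centralizer_singleton_iff.mp c.2.2))⟩
        left_inv := fun _ => rfl
        right_inv := fun _ => rfl }
  rw [← ho, ← MulAction.index_stabilizer ↥K x, ← hs, Subgroup.index_mul_card]

/-- Subgroup of the alternating group fixing a pair of vectors. -/
def stabPair (u w : M6) : Subgroup P8 where
  carrier := {σ | Equiv.Perm.sign σ = 1 ∧ act σ u = u ∧ act σ w = w}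
  one_mem' := ⟨map_one _, act_one u, act_one w⟩
  mul_mem' := fun {a b} ha hb => ⟨by rw [map_mul, ha.1, hb.1, one_mul],
    by rw [act_mul, hb.2.1, ha.2.1], by rw [act_mul, hb.2.2, ha.2.2]⟩
  inv_mem' := fun {a} ha => ⟨by rw [map_inv, ha.1, inv_one],
    by conv_lhs => rw [← ha.2.1, act_inv_act],
    by conv_lhs => rw [← ha.2.2, act_inv_act]⟩

theorem mem_stabPair {u w : M6} {σ : P8} :
    σ ∈ stabPair u w ↔ Equiv.Perm.sign σ = 1 ∧ act σ u = u ∧ act σ w = w := Iff.rfl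

theorem stab_card₀ : Nat.card ↥(stabPair α₀ β₀) = 32 := by
  let A := alternatingGroup (Fin 8)
  letI : MulAction ↥A (M6 × M6) :=
    { smul := fun σ p => (act (σ : P8) p.1, act (σ : P8) p.2)
      one_smul := fun p => Prod.ext (act_one p.1) (act_one p.2)
      mul_smul := fun σ τ p => Prod.ext (act_mul _ _ p.1) (act_mul _ _ p.2) }
  have ho : MulAction.orbit ↥A (α₀, β₀) = ↑lineBases := by
    ext p
    simp only [MulAction.mem_orbit_iff, Finset.mem_coe, lineBases, Finset.mem_filter,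
      Finset.mem_univ, true_and]
    constructor
    · rintro ⟨σ, rfl⟩
      show f (act (σ : P8) α₀) = 0 ∧ f (act (σ : P8) β₀) = 0 ∧
        B (act (σ : P8) α₀) (act (σ : P8) β₀) = 0 ∧ act (σ : P8) α₀ ≠ 0 ∧
        act (σ : P8) β₀ ≠ 0 ∧ act (σ : P8) α₀ ≠ act (σ : P8) β₀
      have hinj : ∀ {x y : M6}, act (σ : P8) x = act (σ : P8) y → x = y := fun {x y} h => by
        rw [← act_inv_act (σ : P8) x, h, act_inv_act]
      rw [f_act, f_act, B_act]
      refine ⟨chosen.1, chosen.2.1, chosen.2.2.1, fun h => chosen.2.2.2.2.2.2.2.1 (hinj ?_),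
        fun h => chosen.2.2.2.2.2.2.2.2.1 (hinj ?_), fun h => chosen.2.2.2.2.2.2.1 (hinj h)⟩
      · rw [h, act_zero]
      · rw [h, act_zero]
    · rintro ⟨h1, h2, h3, h4, h5, h6⟩
      obtain ⟨σ, hσ, e1, e2⟩ := pair0_to h1 h2 h3 h4 h5 h6
      exact ⟨⟨σ, Equiv.Perm.mem_alternatingGroup.mpr hσ⟩, Prod.ext e1 e2⟩
  have hs : Nat.card (MulAction.stabilizer ↥A (α₀, β₀)) = Nat.card ↥(stabPair α₀ β₀) :=
    Nat.card_congr
      { toFun := fun σ => ⟨((σ : ↥A) : P8), Equiv.Perm.mem_alternatingGroup.mp (σ : ↥A).2,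
          congrArg Prod.fst σ.2, congrArg Prod.snd σ.2⟩
        invFun := fun σ => ⟨⟨σ, Equiv.Perm.mem_alternatingGroup.mpr σ.2.1⟩,
          Prod.ext σ.2.2.1 σ.2.2.2⟩
        left_inv := fun _ => rfl
        right_inv := fun _ => rfl }
  have h := Subgroup.card_mul_index (MulAction.stabilizer ↥A (α₀, β₀))
  rw [MulAction.index_stabilizer, ho, Set.ncard_coe_finset, lineBases_card, hs,
    nat_card_alternatingGroup, Nat.card_fin, show Nat.factorial 8 / 2 = 20160 from rfl] at h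
  omega

theorem stab_two₁ {H : Type*} [Group H] [Finite H] (hH : IsPGroup 2 H) (χ : H →* P8)
    (hχ : ∀ a, χ a ∈ stabPair α₁ β₁) : Nat.card χ.range ≤ 4 := by
  have hfix : ∀ σ ∈ stabPair α₁ β₁, σ 0 = 0 ∧ σ 1 = 1 ∧ σ 2 = 2 := by
    rintro σ ⟨-, h1, h2⟩
    simp only [α₁, β₁, act_pair] at h1 h2
    have hne : ∀ {i j : Fin 8}, i ≠ j → σ i ≠ σ j := fun h e => h (σ.injective e)
    have p1 := pair_inj (σ 0) (σ 1) 0 1 (hne (by decide)) h1
    have p2 := pair_inj (σ 0) (σ 2) 0 2 (hne (by decide)) h2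
    rcases p1 with ⟨a1, a2⟩ | ⟨a1, a2⟩ <;> rcases p2 with ⟨b1, b2⟩ | ⟨b1, b2⟩
    · exact ⟨a1, a2, b2⟩
    · exact absurd (a1.symm.trans b1) (by decide)
    · exact absurd (a1.symm.trans b1) (by decide)
    · exact absurd (a1.symm.trans b1) (by decide)
  let T := {i : Fin 8 // 3 ≤ i.val}
  have hp : ∀ σ ∈ stabPair α₁ β₁, ∀ i, 3 ≤ (σ i).val ↔ 3 ≤ i.val := fun σ hσ i => by
    obtain ⟨h0, h1, h2⟩ := hfix σ hσ
    have key : ∀ j : Fin 8, ¬ 3 ≤ j.val → σ j = j := fun j hj => by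
      obtain rfl | rfl | rfl : j = 0 ∨ j = 1 ∨ j = 2 := by
        revert j; decide
      all_goals assumption
    refine ⟨fun h => ?_, fun h => ?_⟩
    · by_contra hc
      rw [key i hc] at h
      exact hc h
    · by_contra hc
      exact hc ((σ.injective (key (σ i) hc)).symm ▸ h)
  have hsupp : ∀ σ ∈ stabPair α₁ β₁, ∀ i, σ i ≠ i → 3 ≤ i.val := fun σ hσ i hi => by
    obtain ⟨h0, h1, h2⟩ := hfix σ hσ
    by_contra hc
    obtain rfl | rfl | rfl : i = 0 ∨ i = 1 ∨ i = 2 :=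
      (show ∀ j : Fin 8, ¬ 3 ≤ j.val → j = 0 ∨ j = 1 ∨ j = 2 by decide) i hc
    exacts [hi h0, hi h1, hi h2]
  let θ : ↥χ.range →* ↥(alternatingGroup T) := MonoidHom.mk'
    (fun a => ⟨(a : P8).subtypePerm (hp _ (by obtain ⟨_, b, rfl⟩ := a; exact hχ b)), by
      have hm : (a : P8) ∈ stabPair α₁ β₁ := by obtain ⟨_, b, rfl⟩ := a; exact hχ b
      rw [Equiv.Perm.mem_alternatingGroup,
        Equiv.Perm.sign_subtypePerm _ _ (hsupp _ hm)]
      exact hm.1⟩) fun a b => Subtype.ext (Equiv.ext fun i => rfl)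
  have hinj : Function.Injective θ := fun a b h => Subtype.ext (Equiv.ext fun i => by
    have ha : (a : P8) ∈ stabPair α₁ β₁ := by obtain ⟨_, c, rfl⟩ := a; exact hχ c
    have hb : (b : P8) ∈ stabPair α₁ β₁ := by obtain ⟨_, c, rfl⟩ := b; exact hχ c
    by_cases hi : 3 ≤ i.val
    · exact congrArg Subtype.val (Equiv.congr_fun (congrArg Subtype.val h) ⟨i, hi⟩)
    · rw [not_not.mp (mt (hsupp _ ha i) hi), not_not.mp (mt (hsupp _ hb i) hi)])
  haveI : Fact (Nat.Prime 2) := ⟨Nat.prime_two⟩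
  obtain ⟨k, hk⟩ := (hH.of_surjective χ.rangeRestrict χ.rangeRestrict_surjective).exists_card_eq
  have hd := Subgroup.card_dvd_of_injective θ hinj
  haveI : Nontrivial T := ⟨⟨⟨3, le_rfl⟩, ⟨4, by decide⟩, fun e => absurd (congrArg (fun i : T => i.val.val) e) (by decide)⟩⟩
  have hT : Nat.card T = 5 := by rw [Nat.card_eq_fintype_card]; rfl
  rw [hk, nat_card_alternatingGroup, hT, show Nat.factorial 5 / 2 = 60 from rfl] at hd
  rw [hk]
  by_contra hlt
  have hk3 : 3 ≤ k := by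
    by_contra hk3
    exact hlt ((Nat.pow_le_pow_right (by norm_num) (by omega : k ≤ 2)).trans le_rfl)
  have := (pow_dvd_pow 2 hk3).trans hd
  norm_num at this

namespace Ctx

variable {Q Q' : Subgroup G} {z t : G} {ν : G → M6} {d : G}
  {ρ : ↥(Sx z t) →* P8} (D : Ctx Q Q' z t ν d ρ)
include D

open Classical in
/-- The pair of coordinates of an element of `R`. -/
noncomputable def cd (_D : Ctx Q Q' z t ν d ρ) (r : G) : M6 × M6 :=
  if h : ∃ ab : G × G, ab.1 ∈ Cx Q t ∧ ab.2 ∈ Cx Q' z ∧ r = ab.1 * ab.2 then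
    (ν h.choose.1, ev ν d h.choose.2) else 0

theorem cd_eq {a b : G} (ha : a ∈ Cx Q t) (hb : b ∈ Cx Q' z) :
    D.cd (a * b) = (ν a, ev ν d b) := by
  have h : ∃ ab : G × G, ab.1 ∈ Cx Q t ∧ ab.2 ∈ Cx Q' z ∧ a * b = ab.1 * ab.2 :=
    ⟨(a, b), ha, hb, rfl⟩
  rw [cd, dif_pos h]
  obtain ⟨h1, h2, h3⟩ := h.choose_spec
  obtain ⟨e1, e2⟩ := D.decomp_unique ha hb h1 h2 h3
  rw [e1, e2]

theorem cd_mul {r s : G} (hr : r ∈ D.P.R) (hs : s ∈ D.P.R) :
    D.cd (r * s) = D.cd r + D.cd s := by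
  obtain ⟨a, ha, b, hb, rfl⟩ := D.decomp hr
  obtain ⟨a', ha', b', hb', rfl⟩ := D.decomp hs
  have hv := D.comm_V (D.C'_le_R hb) (D.Cx_le_R ha')
  have hvC := D.V_le_Cx hv
  rw [D.cd_eq ha hb, D.cd_eq ha' hb',
    show a * b * (a' * b') = (a * (b * a' * b⁻¹ * a'⁻¹) * a') * (b * b') by group,
    D.cd_eq (mul_mem (mul_mem ha hvC) ha') (mul_mem hb hb'),
    D.K.add _ (mul_mem ha hvC) _ ha', D.K.add _ ha _ hvC,
    (D.K.ker _ hvC).mpr (D.inU_iff.mpr hv), add_zero,
    D.ev_mul (D.triv_of_R (D.C'_le_R hb)) (D.C'_le_Sx hb'), add_comm (ev ν d b') (ev ν d b)]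
  rfl

theorem cd_one : D.cd 1 = 0 := by
  have h := D.cd_mul (one_mem D.P.R) (one_mem D.P.R)
  rw [mul_one] at h
  exact left_eq_add.mp h

theorem cd_inv {r : G} (hr : r ∈ D.P.R) : D.cd r⁻¹ = D.cd r := by
  have h := D.cd_mul hr (inv_mem hr)
  rw [mul_inv_cancel, D.cd_one] at h
  obtain ⟨h1, h2⟩ := Prod.ext_iff.mp h
  exact Prod.ext (ConwayTypeModel62.eq_of_add h1.symm).symm
    (ConwayTypeModel62.eq_of_add h2.symm).symm

theorem cd_zero {r : G} (hr : r ∈ D.P.R) : D.cd r = 0 ↔ r ∈ D.P.V := by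
  constructor
  · intro h
    obtain ⟨a, ha, b, hb, rfl⟩ := D.decomp hr
    rw [D.cd_eq ha hb] at h
    exact mul_mem (D.inU_iff.mp ((D.K.ker a ha).mp (congrArg Prod.fst h)))
      ((D.ev_eq_zero hb).mp (congrArg Prod.snd h))
  · intro h
    rw [← mul_one r, D.cd_eq (D.V_le_Cx h) (one_mem _), D.ev_one,
      (D.K.ker _ (D.V_le_Cx h)).mpr (D.inU_iff.mpr h)]
    rfl

theorem cd_inj {r s : G} (hr : r ∈ D.P.R) (hs : s ∈ D.P.R) (h : D.cd r = D.cd s) :
    r * s⁻¹ ∈ D.P.V := by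
  refine (D.cd_zero (mul_mem hr (inv_mem hs))).mp ?_
  rw [D.cd_mul hr (inv_mem hs), D.cd_inv hs, h]
  exact Prod.ext (ConwayTypeModel62.add_self _) (ConwayTypeModel62.add_self _)

theorem cd_comm {r s : G} (hr : r ∈ D.P.R) (hs : s ∈ D.P.R) :
    r * s * r⁻¹ * s⁻¹ = vv z t (cm (D.cd r) (D.cd s)) := by
  obtain ⟨a, ha, b, hb, rfl⟩ := D.decomp hr
  obtain ⟨a', ha', b', hb', rfl⟩ := D.decomp hs
  rw [D.cd_eq ha hb, D.cd_eq ha' hb', D.comm_R ha hb ha' hb']

theorem Rep.mem {u w : M6} {y : G} (hy : D.Rep u w y) : y ∈ D.P.R ∧ D.cd y = (u, w) := by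
  obtain ⟨a, ha, b, hb, rfl, rfl, rfl⟩ := hy
  exact ⟨mul_mem (D.Cx_le_R ha) (D.C'_le_R hb), D.cd_eq ha hb⟩

theorem card_R : Nat.card D.P.R = 16384 := by
  rw [← D.card_ker]
  exact Nat.card_congr
    { toFun := fun r => ⟨⟨r, D.R_le_Sx r.2⟩, D.rho_R.mpr r.2⟩
      invFun := fun c => ⟨((c : ↥(Sx z t)) : G), D.rho_R.mp c.2⟩
      left_inv := fun _ => rfl
      right_inv := fun _ => rfl }

theorem card_V : Nat.card D.P.V = 4 := by
  have e : Nat.card D.P.V = Nat.card (ZMod 2 × ZMod 2) := by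
    refine (Nat.card_congr (Equiv.ofBijective
      (fun p => (⟨vv z t p, D.vv_mem p⟩ : ↥D.P.V)) ⟨fun p q h => ?_, fun v => ?_⟩)).symm
    · exact D.vv_inj (congrArg Subtype.val h)
    · obtain ⟨p, hp⟩ := D.vv_surj v.2
      exact ⟨p, Subtype.ext hp.symm⟩
  rw [e, Nat.card_prod, Nat.card_zmod]

section Point

variable {u w : M6} {y : G} (hy : D.Rep u w y)
  (hdual : ∀ i j, ∃ x, B x u + B x w = i ∧ B x w = j)
include hy

theorem card_Y (hdual : ∀ i j, ∃ x, B x u + B x w = i ∧ B x w = j) :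
    Nat.card ↥(D.P.R ⊓ centralizer ({y} : Set G)) = 4096 := by
  obtain ⟨hyR, hcd⟩ := Rep.mem D hy
  have horb : (fun c => c * y * c⁻¹) '' (D.P.R : Set G)
      = (fun p => vv z t p * y) '' (Set.univ : Set (ZMod 2 × ZMod 2)) := by
    ext g
    simp only [Set.mem_image, SetLike.mem_coe, Set.mem_univ, true_and]
    constructor
    · rintro ⟨c, hc, rfl⟩
      exact ⟨_, by rw [← D.cd_comm hc hyR]; group⟩
    · rintro ⟨p, rfl⟩
      obtain ⟨x, h1, h2⟩ := hdual p.1 p.2
      obtain ⟨a₂, ha₂, rfl⟩ := D.K.surj x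
      refine ⟨a₂, D.Cx_le_R ha₂, ?_⟩
      have h := D.cd_comm (D.Cx_le_R ha₂) hyR
      rw [show D.cd a₂ = (ν a₂, 0) by
          conv_lhs => rw [← mul_one a₂]
          rw [D.cd_eq ha₂ (one_mem _), D.ev_one], hcd,
        show cm (ν a₂, 0) (u, w) = p by
          simp only [cm, B_zero_left, B_zero_right, add_zero]; rw [h1, h2]] at h
      exact mul_inv_eq_iff_eq_mul.mp h
  have h := orbit_card D.P.R y
  rw [horb, Set.ncard_image_of_injective _ (fun p q e => D.vv_inj (mul_right_cancel e)),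
    Set.ncard_univ, Nat.card_prod, Nat.card_zmod, D.card_R] at h
  omega

omit hdual in
theorem cent_fixes (c : ↥(Sx z t)) (hc : (c : G) * y = y * (c : G)) :
    ρ c ∈ stabPair u w := by
  obtain ⟨a, ha, b, hb, rfl, rfl, rfl⟩ := hy
  have e : ((c : G) * a * (c : G)⁻¹) * ((c : G) * b * (c : G)⁻¹) = a * b := by
    calc _ = ((c : G) * (a * b)) * (c : G)⁻¹ := by group
      _ = a * b := by rw [hc, mul_inv_cancel_right]
  obtain ⟨e1, e2⟩ := D.decomp_unique (D.H.conj_Cx c.2 ha) (D.conj_C' c.2 hb) ha hb e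
  rw [← D.hρ c a ha] at e1
  rw [D.ev_conj hb] at e2
  exact ⟨D.sign_rho c, e1, e2⟩

end Point

/-- The centraliser of the singular representative inside the centraliser of the four group. -/
theorem big_centralizer {y : G} (hy : D.Rep α₀ β₀ y) :
    Nat.card ↥(Sx z t ⊓ centralizer ({y} : Set G)) = 2 ^ 17 := by
  obtain ⟨hyR, hcd⟩ := Rep.mem D hy
  set M := Sx z t ⊓ centralizer ({y} : Set G) with hM
  let χ : ↥M →* P8 := ρ.comp (Subgroup.inclusion inf_le_left)
  have hrange : χ.range = stabPair α₀ β₀ := by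
    refine le_antisymm ?_ fun σ hσ => ?_
    · rintro _ ⟨m, rfl⟩
      exact D.cent_fixes hy _ (mem_centralizer_singleton_iff.mp m.2.2)
    · obtain ⟨c, rfl⟩ := D.exists_rho_eq hσ.1
      obtain ⟨a, ha, b, hb, hα, hβ, hab⟩ := hy
      have hca := D.H.conj_Cx c.2 ha
      have hcb := D.conj_C' c.2 hb
      have e : D.cd ((c : G) * y * (c : G)⁻¹) = D.cd y := by
        rw [hab, show (c : G) * (a * b) * (c : G)⁻¹
          = ((c : G) * a * (c : G)⁻¹) * ((c : G) * b * (c : G)⁻¹) by group, D.cd_eq hca hcb,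
          D.cd_eq ha hb, ← D.hρ c a ha, D.ev_conj hb, hα, hβ, hσ.2.1, hσ.2.2]
      have hcyR : (c : G) * y * (c : G)⁻¹ ∈ D.P.R := by
        rw [hab, show (c : G) * (a * b) * (c : G)⁻¹
          = ((c : G) * a * (c : G)⁻¹) * ((c : G) * b * (c : G)⁻¹) by group]
        exact mul_mem (D.Cx_le_R hca) (D.C'_le_R hcb)
      obtain ⟨p, hp⟩ := D.vv_surj (D.cd_inj hcyR hyR e)
      obtain ⟨x, h1, h2⟩ := dual₀ p.1 p.2
      obtain ⟨a₂, ha₂, rfl⟩ := D.K.surj x
      have h := D.cd_comm (D.Cx_le_R ha₂) hyR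
      rw [show D.cd a₂ = (ν a₂, 0) by
          conv_lhs => rw [← mul_one a₂]
          rw [D.cd_eq ha₂ (one_mem _), D.ev_one], hcd,
        show cm (ν a₂, 0) (α₀, β₀) = p by
          simp only [cm, B_zero_left, B_zero_right, add_zero]; rw [h1, h2]] at h
      have hm : a₂⁻¹ * (c : G) ∈ M := by
        refine ⟨(Sx z t).mul_mem ((Sx z t).inv_mem (D.H.Cx_le_Sx ha₂)) c.2, mem_centralizer_singleton_iff.mpr ?_⟩
        refine mul_inv_eq_iff_eq_mul.mp ?_
        calc a₂⁻¹ * (c : G) * y * (a₂⁻¹ * (c : G))⁻¹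
            = a₂⁻¹ * ((c : G) * y * (c : G)⁻¹ * y⁻¹) * y * a₂ := by group
          _ = a₂⁻¹ * (a₂ * y * a₂⁻¹ * y⁻¹) * y * a₂ := by rw [hp, h]
          _ = y := by group
      refine ⟨⟨_, hm⟩, ?_⟩
      show ρ (⟨a₂⁻¹ * (c : G), _⟩ : ↥(Sx z t)) = ρ c
      rw [show (⟨a₂⁻¹ * (c : G), mul_mem (inv_mem (D.H.Cx_le_Sx ha₂)) c.2⟩ : ↥(Sx z t))
        = ⟨a₂⁻¹, inv_mem (D.H.Cx_le_Sx ha₂)⟩ * c from rfl, map_mul,
        D.rho_R.mpr (inv_mem (D.Cx_le_R ha₂)), one_mul]
  have hker : Nat.card χ.ker = 4096 := by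
    rw [← D.card_Y hy dual₀]
    exact Nat.card_congr
      { toFun := fun m => ⟨((m : ↥M) : G), D.rho_R.mp m.2, (m : ↥M).2.2⟩
        invFun := fun r => ⟨⟨r, D.R_le_Sx r.2.1, r.2.2⟩, D.rho_R.mpr r.2.1⟩
        left_inv := fun _ => rfl
        right_inv := fun _ => rfl }
  have h := Subgroup.card_mul_index χ.ker
  rw [Subgroup.index_ker, hker, hrange, stab_card₀] at h
  omega

/-- A two-group centralising the non-singular representative and normalising the four group. -/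
theorem two_bound_V {y : G} (hy : D.Rep α₁ β₁ y) {S : Subgroup G} (hS : IsPGroup 2 S)
    (hSy : ∀ s ∈ S, s * y = y * s) (hSV : ∀ s ∈ S, ∀ v ∈ D.P.V, s * v * s⁻¹ ∈ D.P.V) :
    Nat.card S ≤ 32768 := by
  haveI : Fact (Nat.Prime 2) := ⟨Nat.prime_two⟩
  obtain ⟨hd1, hd2, hd3⟩ := D.H.U_distinct D.sing
  set T := S ⊓ centralizer ({z} : Set G) ⊓ centralizer ({t} : Set G) with hT
  have hTS : T ≤ S := inf_le_left.trans inf_le_left
  have hTx : T ≤ Sx z t := fun s hs => ⟨hs.1.2, hs.2⟩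
  have hTc : Nat.card T ≤ 16384 := by
    let χ : ↥T →* P8 := ρ.comp (Subgroup.inclusion hTx)
    have hχ : ∀ m, χ m ∈ stabPair α₁ β₁ := fun m => D.cent_fixes hy _ (hSy _ (hTS m.2))
    have hr := stab_two₁ (hS.to_le hTS) χ hχ
    have hk : Nat.card χ.ker ≤ 4096 := by
      rw [← D.card_Y hy dual₁]
      refine Nat.card_le_card_of_injective (fun m => (⟨((m : ↥T) : G), D.rho_R.mp m.2,
        mem_centralizer_singleton_iff.mpr (hSy _ (hTS (m : ↥T).2))⟩ :
          ↥(D.P.R ⊓ centralizer ({y} : Set G)))) fun a b h => ?_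
      exact Subtype.ext (Subtype.ext (congrArg Subtype.val h :))
    have h := Subgroup.card_mul_index χ.ker
    rw [Subgroup.index_ker] at h
    rw [← h]
    exact (Nat.mul_le_mul hk hr).trans le_rfl
  set O := (fun c => c * z * c⁻¹) '' (S : Set G) with hO
  have hOsub : O ⊆ ({z, t, z * t} : Set G) := by
    rintro _ ⟨c, hc, rfl⟩
    have hm := hSV c hc z D.P.z_mem_V
    have hne : c * z * c⁻¹ ≠ 1 := fun e => D.H.h.ne_one (conj_eq_one_iff.mp e)
    simpa [hne] using D.P.mem_V.mp hm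
  have hzO : z ∈ O := ⟨1, one_mem _, by group⟩
  have hmul := orbit_card S z
  rw [← hO] at hmul
  have hle : O.ncard ≤ 3 := by
    refine (Set.ncard_le_ncard hOsub (Set.toFinite _)).trans ?_
    refine (Set.ncard_insert_le _ _).trans ?_
    refine (Nat.add_le_add_right (Set.ncard_insert_le _ _) _).trans ?_
    rw [Set.ncard_singleton]
  have hne3 : O.ncard ≠ 3 := fun e => by
    obtain ⟨k, hk⟩ := hS.exists_card_eq
    rw [e, hk] at hmul
    have := (Nat.prime_three.dvd_of_dvd_pow (Dvd.intro _ hmul))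
    norm_num at this
  have h12 : O.ncard = 1 ∨ O.ncard = 2 := by
    have : 0 < O.ncard := (Set.ncard_pos (Set.toFinite _)).mpr ⟨z, hzO⟩
    omega
  set Sz := S ⊓ centralizer ({z} : Set G) with hSz
  rcases h12 with e | e
  · have h2 := orbit_card Sz t
    have hsub : (fun c => c * t * c⁻¹) '' (Sz : Set G) ⊆ {t, z * t} := by
      rintro _ ⟨c, hc, rfl⟩
      have hm := hSV c hc.1 t D.P.z'_mem_V
      have hcz : c * z = z * c := mem_centralizer_singleton_iff.mp hc.2
      rcases D.P.mem_V.mp hm with w | w | w | w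
      · exact absurd (conj_eq_one_iff.mp w) D.sing.2.2.1
      · exfalso
        refine D.sing.2.2.2 ?_
        calc t = c⁻¹ * (c * t * c⁻¹) * c := by group
          _ = z := by rw [w, mul_assoc, ← hcz, inv_mul_cancel_left]
      · exact Or.inl w
      · exact Or.inr w
    have hc2 : ((fun c => c * t * c⁻¹) '' (Sz : Set G)).ncard ≤ 2 :=
      (Set.ncard_le_ncard hsub (Set.toFinite _)).trans
        ((Set.ncard_insert_le _ _).trans (by rw [Set.ncard_singleton]))
    rw [e, one_mul] at hmul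
    rw [← hmul, ← h2]
    exact (Nat.mul_le_mul hc2 hTc).trans le_rfl
  · obtain ⟨w, hwO, hwz⟩ := Set.exists_ne_of_one_lt_ncard (by omega : 1 < O.ncard) z
    have hOeq : O = {z, w} := by
      symm
      refine Set.eq_of_subset_of_ncard_le ?_ (by rw [e, Set.ncard_pair (Ne.symm hwz)]) (Set.toFinite _)
      intro a ha
      rcases ha with rfl | rfl
      exacts [hzO, hwO]
    have hfix : Sz ≤ T := by
      intro s hs
      refine ⟨hs, mem_centralizer_singleton_iff.mpr ?_⟩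
      have hsz : s * z = z * s := mem_centralizer_singleton_iff.mp hs.2
      have hsw : s * w * s⁻¹ = w := by
        obtain ⟨c, hc, rfl⟩ := hwO
        have : s * (c * z * c⁻¹) * s⁻¹ ∈ O := ⟨s * c, mul_mem hs.1 hc, by group⟩
        rw [hOeq] at this
        rcases this with w' | w'
        · exfalso
          refine hwz ?_
          calc c * z * c⁻¹ = s⁻¹ * (s * (c * z * c⁻¹) * s⁻¹) * s := by group
            _ = z := by rw [w', mul_assoc, ← hsz, inv_mul_cancel_left]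
        · exact w'
      rcases hOsub hwO with w' | w' | w'
      · exact absurd w' hwz
      · rw [w'] at hsw
        exact mul_inv_eq_iff_eq_mul.mp hsw
      · rw [Set.mem_singleton_iff] at w'
        rw [w'] at hsw
        refine mul_inv_eq_iff_eq_mul.mp ?_
        calc s * t * s⁻¹ = s * (z * (z * t)) * s⁻¹ := by rw [D.H.h.z_mul_z_mul]
          _ = z * (s * (z * t) * s⁻¹) := by rw [show s * (z * (z * t)) * s⁻¹ = (s * z) * (z * t) * s⁻¹ by group, hsz]; group
          _ = t := by rw [hsw, D.H.h.z_mul_z_mul]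
    have h3 : Nat.card Sz ≤ 16384 := (Subgroup.card_le_of_le hfix).trans hTc
    rw [e] at hmul
    rw [← hmul]
    omega

/-- The two-groups centralising the non-singular representative have order at most `2^15`. -/
theorem two_bound {y : G} (hy : D.Rep α₁ β₁ y) {P₀ : Subgroup G} (hP₀ : IsPGroup 2 P₀)
    (hP₀y : P₀ ≤ centralizer ({y} : Set G)) : Nat.card P₀ ≤ 32768 := by
  classical
  haveI : Fact (Nat.Prime 2) := ⟨Nat.prime_two⟩
  obtain ⟨hyR, -⟩ := Rep.mem D hy
  set C₁ := centralizer ({y} : Set G) with hC₁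
  set N0 := C₁ ⊓ normalizer (D.P.V : Set G) with hN0
  set Y := D.P.R ⊓ C₁ with hY
  have hYN : Y ≤ N0 := fun r hr => ⟨hr.2, Subgroup.mem_normalizer_iff.mpr fun v => by
    refine ⟨fun hv => ?_, fun hv => ?_⟩
    · rw [D.P.V_comm hr.1 hv, mul_inv_cancel_right]; exact hv
    · have := D.P.V_comm (inv_mem hr.1) hv
      have e : v = r * v * r⁻¹ := by
        calc v = r⁻¹ * (r * v * r⁻¹) * r := by group
          _ = r * v * r⁻¹ := by rw [this, inv_mul_cancel_right]
      rw [e]; exact hv⟩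
  have hYp : IsPGroup 2 Y := IsPGroup.of_card (n := 12) (by rw [D.card_Y hy dual₁]; norm_num)
  have hY' : IsPGroup 2 (Y.subgroupOf N0) :=
    hYp.of_equiv (Subgroup.subgroupOfEquivOfLe hYN).symm
  obtain ⟨S₀, hS₀⟩ := hY'.exists_le_sylow
  set S := (S₀ : Subgroup ↥N0).map N0.subtype with hSd
  have hSN : S ≤ N0 := Subgroup.map_subtype_le _
  have hYS : Y ≤ S := fun r hr => ⟨⟨r, hYN hr⟩, hS₀ hr, rfl⟩
  have hSp : IsPGroup 2 S := S₀.isPGroup'.map _
  have hS15 : Nat.card S ≤ 32768 := D.two_bound_V hy hSp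
    (fun s hs => mem_centralizer_singleton_iff.mp (hSN hs).1)
    (fun s hs v hv => (Subgroup.mem_normalizer_iff.mp (hSN hs).2 v).mp hv)
  have hS' : IsPGroup 2 (S.subgroupOf C₁) :=
    hSp.of_equiv (Subgroup.subgroupOfEquivOfLe (hSN.trans inf_le_left)).symm
  obtain ⟨P₁, hP₁⟩ := hS'.exists_le_sylow
  set P := (P₁ : Subgroup ↥C₁).map C₁.subtype with hPd
  have hSP : S ≤ P := fun s hs => ⟨⟨s, (hSN hs).1⟩, hP₁ hs, rfl⟩
  have hPp : IsPGroup 2 P := P₁.isPGroup'.map _
  -- any two-group in the centraliser is no larger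
  have hle : Nat.card P₀ ≤ Nat.card P := by
    have h0 : IsPGroup 2 (P₀.subgroupOf C₁) :=
      hP₀.of_equiv (Subgroup.subgroupOfEquivOfLe hP₀y).symm
    obtain ⟨P₂, hP₂⟩ := h0.exists_le_sylow
    rw [hPd, Subgroup.card_map_of_injective (Subgroup.subtype_injective _),
      Sylow.card_eq_multiplicity P₁, ← Sylow.card_eq_multiplicity P₂,
      ← Nat.card_congr (Subgroup.subgroupOfEquivOfLe hP₀y).toEquiv]
    exact Subgroup.card_le_of_le hP₂
  suffices hPS : P ≤ S from hle.trans ((Subgroup.card_le_of_le hPS).trans hS15)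
  by_contra hPS
  -- the normaliser grows
  haveI : Group.IsNilpotent ↥P := hPp.isNilpotent
  have hlt : S.subgroupOf P < ⊤ := lt_top_iff_ne_top.mpr fun h => hPS fun p hp => by
    have : (⟨p, hp⟩ : ↥P) ∈ S.subgroupOf P := by rw [h]; exact mem_top _
    exact this
  obtain ⟨⟨n, hnP⟩, hn, hnS⟩ := SetLike.exists_of_lt
    (Group.normalizerCondition_of_isNilpotent _ hlt)
  have hnS' : n ∉ S := hnS
  have hconj : ∀ s ∈ S, n * s * n⁻¹ ∈ S := fun s hs =>
    (Subgroup.mem_normalizer_iff.mp hn ⟨s, hSP hs⟩).mp hs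
  have hny : n * y = y * n := by
    obtain ⟨c, -, e⟩ := hnP
    rw [← e]
    exact mem_centralizer_singleton_iff.mp c.2
  set Y' := Y.map (MulAut.conj n).toMonoidHom with hY'd
  have hY'S : Y' ≤ S := by
    rintro _ ⟨r, hr, rfl⟩
    exact hconj r (hYS hr)
  have hcard' : Nat.card Y' = 4096 := by
    rw [hY'd, Subgroup.card_map_of_injective (MulAut.conj n).injective]
    exact D.card_Y hy dual₁
  set I := Y' ⊓ Y with hI
  have hI512 : 512 ≤ Nat.card I := by
    have h1 := Subgroup.card_mul_index (Y'.subgroupOf Y)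
    have h2 := Subgroup.card_mul_index (Y'.subgroupOf S)
    rw [← Subgroup.inf_subgroupOf_right Y' Y,
      Nat.card_congr (Subgroup.subgroupOfEquivOfLe (inf_le_right : Y' ⊓ Y ≤ Y)).toEquiv,
      Subgroup.inf_subgroupOf_right, D.card_Y hy dual₁] at h1
    rw [Nat.card_congr (Subgroup.subgroupOfEquivOfLe hY'S).toEquiv, hcard'] at h2
    have h3 : (Y'.subgroupOf Y).index ≤ (Y'.subgroupOf S).index :=
      Subgroup.relIndex_le_of_le_right hYS (Subgroup.index_ne_zero_of_finite (H := Y'.subgroupOf S))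
    have h4 : (Y'.subgroupOf Y).index ≤ 8 := by omega
    rw [← hI] at h1
    have := Nat.mul_le_mul_left (Nat.card I) h4
    omega
  -- the coordinates of the intersection
  haveI := Fintype.ofFinite G
  let FI : Finset G := Finset.univ.filter fun a => a ∈ I
  have hFI : FI.card = Nat.card I := by
    rw [Nat.card_eq_fintype_card, Fintype.card_subtype]
  have hIR : ∀ a ∈ I, a ∈ D.P.R := fun a ha => ha.2.1
  have hfib : ∀ c ∈ FI.image D.cd, (FI.filter fun a => D.cd a = c).card ≤ 4 := by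
    intro c hc
    obtain ⟨a, ha, rfl⟩ := Finset.mem_image.mp hc
    replace ha : a ∈ I := (Finset.mem_filter.mp ha).2
    refine (Finset.card_le_card (t := (Finset.univ : Finset (ZMod 2 × ZMod 2)).image
      fun p => vv z t p * a) fun b hb => ?_).trans (Finset.card_image_le.trans le_rfl)
    obtain ⟨hb', e⟩ := Finset.mem_filter.mp hb
    replace hb' : b ∈ I := (Finset.mem_filter.mp hb').2
    obtain ⟨p, hp⟩ := D.vv_surj (D.cd_inj (hIR b hb') (hIR a ha) e)
    exact Finset.mem_image.mpr ⟨p, Finset.mem_univ _, by rw [← hp]; group⟩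
  have h128 : 128 ≤ (FI.image D.cd).card := by
    have := Finset.card_le_mul_card_image FI 4 hfib
    omega
  -- commutators of the intersection lie in both four groups
  set V' := D.P.V.map (MulAut.conj n).toMonoidHom with hV'
  have hcomm : ∀ a ∈ I, ∀ b ∈ I, vv z t (cm (D.cd a) (D.cd b)) ∈ V' := by
    intro a ha b hb
    rw [← D.cd_comm (hIR a ha) (hIR b hb)]
    obtain ⟨a', ha', ea⟩ := ha.1
    obtain ⟨b', hb', eb⟩ := hb.1
    refine ⟨a' * b' * a'⁻¹ * b'⁻¹, D.comm_V ha'.1 hb'.1, ?_⟩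
    rw [← ea, ← eb]
    simp only [map_mul, map_inv]
  have hfind : ∀ ξ : ZMod 2 × ZMod 2 → ZMod 2, (∀ a b, ξ (a + b) = ξ a + ξ b) → (∃ a, ξ a = 1) →
      ∃ p, vv z t p ∈ V' ∧ ξ p = 1 := by
    intro ξ hξ hξ0
    by_contra hno
    push Not at hno
    have h64 := isotropic_le ξ hξ hξ0 (FI.image D.cd)
      (Finset.mem_image.mpr ⟨1, Finset.mem_filter.mpr ⟨Finset.mem_univ _, one_mem _⟩, D.cd_one⟩)
      (fun a ha b hb => by
        obtain ⟨a', ha', rfl⟩ := Finset.mem_image.mp ha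
        obtain ⟨b', hb', rfl⟩ := Finset.mem_image.mp hb
        replace ha' : a' ∈ I := (Finset.mem_filter.mp ha').2
        replace hb' : b' ∈ I := (Finset.mem_filter.mp hb').2
        rw [← D.cd_mul (hIR _ ha') (hIR _ hb')]
        exact Finset.mem_image.mpr
          ⟨a' * b', Finset.mem_filter.mpr ⟨Finset.mem_univ _, mul_mem ha' hb'⟩, rfl⟩)
      (fun a ha b hb => by
        obtain ⟨a', ha', rfl⟩ := Finset.mem_image.mp ha
        obtain ⟨b', hb', rfl⟩ := Finset.mem_image.mp hb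
        exact (two_eq _).resolve_right
          (hno _ (hcomm _ (Finset.mem_filter.mp ha').2 _ (Finset.mem_filter.mp hb').2)))
    omega
  obtain ⟨p, hp, hp1⟩ := hfind Prod.fst (fun _ _ => rfl) ⟨(1, 0), rfl⟩
  obtain ⟨q, hq, hq1⟩ := hfind Prod.snd (fun _ _ => rfl) ⟨(0, 1), rfl⟩
  obtain ⟨r, hr, hr1⟩ := hfind (fun a => a.1 + a.2) (fun a b => by
    simp only [Prod.fst_add, Prod.snd_add]; ring) ⟨(1, 0), rfl⟩
  have hadd : ∀ {a b}, vv z t a ∈ V' → vv z t b ∈ V' → vv z t (a + b) ∈ V' := fun ha hb => by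
    rw [D.vv_add]; exact mul_mem ha hb
  have hmem : ∀ e ∈ [p, q, r, p + q, p + r, q + r], vv z t e ∈ V' := by
    intro e he
    simp only [List.mem_cons, List.not_mem_nil, or_false] at he
    rcases he with rfl | rfl | rfl | rfl | rfl | rfl
    exacts [hp, hq, hr, hadd hp hq, hadd hp hr, hadd hq hr]
  obtain ⟨g1, g2⟩ := gen_pairs p q r hp1 hq1 hr1
  have hVV' : D.P.V ≤ V' := (Subgroup.closure_le _).mpr (by
    rintro a (rfl | rfl)
    · have := hmem _ g1
      rwa [vv, zp_one, zp_zero, mul_one] at this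
    · have := hmem _ g2
      rwa [vv, zp_one, zp_zero, one_mul] at this)
  have heq : D.P.V = V' := Subgroup.eq_of_le_of_card_ge hVV'
    (by rw [hV', Subgroup.card_map_of_injective (MulAut.conj n).injective])
  have hnN : n ∈ N0 := ⟨mem_centralizer_singleton_iff.mpr hny,
    Subgroup.mem_normalizer_iff.mpr fun v => by
      constructor
      · intro hv; rw [heq, hV']; exact ⟨v, hv, rfl⟩
      · intro hv
        rw [heq, hV'] at hv
        obtain ⟨v', hv', e⟩ := hv
        have e' : n * v' * n⁻¹ = n * v * n⁻¹ := e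
        rwa [mul_left_cancel (mul_right_cancel e')] at hv'⟩
  refine hnS' ?_
  have hT : IsPGroup 2 ((P ⊓ N0).subgroupOf N0) :=
    (hPp.to_le inf_le_left).of_equiv (Subgroup.subgroupOfEquivOfLe inf_le_right).symm
  have hmax := S₀.is_maximal' hT fun a ha => by
    refine ⟨hSP ⟨a, ha, rfl⟩, a.2⟩
  exact ⟨⟨n, hnN⟩, hmax ▸ (⟨hnP, hnN⟩ : ((⟨n, hnN⟩ : ↥N0) : G) ∈ P ⊓ N0), rfl⟩

end Ctx

end Cfsg.Agent.ConwayTypeRadical62
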