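import Cfsg.Agent.Lib.Co1Class89
import Cfsg.Agent.Lib.ConwayTypeCentral62

/-!
A lower bound for the order of the normaliser.
-/

set_option autoImplicit false
set_option linter.unusedSectionVars false

namespace Cfsg.Agent.Co1Frame89

open Cfsg.Agent.LargeExtraspecial Cfsg.Agent.ConwayTypeModel62 Cfsg.Agent.ConwayTypeCoord62
  Cfsg.Agent.ConwayTypeRadical62 Cfsg.Agent.Co1Bits89 Cfsg.Agent.Co1Calc89 Cfsg.Agent.Co1Data89
  Cfsg.Agent.Co1Check89

theorem step_le {H : Subgroup P8} {i₀ : Fin 8} {l : List (ℕ × List ℕ)} (hnd : (l.map fun p => p.1).Nodup)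
    (hl : ∀ p ∈ l, swP p.2 ∈ H ∧ (swP p.2 i₀).val = p.1) :
    l.length * Nat.card ↥(H ⊓ MulAction.stabilizer P8 i₀) ≤ Nat.card ↥H := by
  have hget : ∀ k : Fin l.length, swP (l[k.val]).2 ∈ H ∧ (swP (l[k.val]).2 i₀).val = (l[k.val]).1 :=
    fun k => hl _ (List.getElem_mem k.2)
  let f : Fin l.length × ↥(H ⊓ MulAction.stabilizer P8 i₀) → ↥H := fun p =>
    ⟨swP (l[p.1.val]).2 * p.2, mul_mem (hget p.1).1 p.2.2.1⟩
  have hfix : ∀ σ : ↥(H ⊓ MulAction.stabilizer P8 i₀), (σ : P8) i₀ = i₀ := fun σ => σ.2.2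
  have hf : Function.Injective f := by
    rintro ⟨a, x⟩ ⟨b, y⟩ e
    have e' : swP (l[a.val]).2 * (x : P8) = swP (l[b.val]).2 * y := congrArg Subtype.val e
    have h := congrArg (fun σ : P8 => (σ i₀).val) e'
    simp only [Equiv.Perm.mul_apply, hfix] at h
    rw [(hget a).2, (hget b).2] at h
    have hab : a = b := by
      refine Fin.ext ?_
      refine (List.Nodup.getElem_inj_iff hnd (hi := by rw [List.length_map]; exact a.2)
        (hj := by rw [List.length_map]; exact b.2)).mp ?_
      rw [List.getElem_map, List.getElem_map]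
      exact h
    subst hab
    exact Prod.ext rfl (Subtype.ext (mul_left_cancel e'))
  have := Nat.card_le_card_of_injective f hf
  rwa [Nat.card_prod, Nat.card_fin] at this

/-- The subgroup fixing the first base points. -/
def chainH (H : Subgroup P8) : ℕ → Subgroup P8
  | 0 => H
  | k + 1 => chainH H k ⊓ MulAction.stabilizer P8 (baseP k)

theorem mem_chainH {H : Subgroup P8} {σ : P8} (hσ : σ ∈ H) :
    ∀ k, (∀ i < k, σ (baseP i) = baseP i) → σ ∈ chainH H k
  | 0, _ => hσ
  | k + 1, h => ⟨mem_chainH hσ k fun i hi => h i (by omega), h k (by omega)⟩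

theorem swP_mem {H : Subgroup P8} (hH : ∀ k, wordP (wS.getD k []) ∈ H) (l : List ℕ) : swP l ∈ H := by
  induction l using List.reverseRecOn with
  | nil => exact one_mem _
  | append_singleton l a ih =>
    rw [swP, List.foldl_append]
    exact mul_mem (hH a) ih

theorem card_ge {H : Subgroup P8} (hH : ∀ k, wordP (wS.getD k []) ∈ H) : 1344 ≤ Nat.card ↥H := by
  have step : ∀ k < 4,
      [8, 7, 6, 4].getD k 0 * Nat.card ↥(chainH H (k + 1)) ≤ Nat.card ↥(chainH H k) := by
    intro k hk
    obtain ⟨hnd, hlen, hp⟩ := chain_ok k hk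
    rw [← hlen]
    exact step_le hnd fun p hm => ⟨mem_chainH (swP_mem hH p.2) k (hp p hm).2, (hp p hm).1⟩
  have s0 := step 0 (by norm_num)
  have s1 := step 1 (by norm_num)
  have s2 := step 2 (by norm_num)
  have s3 := step 3 (by norm_num)
  have : 1 ≤ Nat.card ↥(chainH H 4) := Nat.card_pos
  simp only [List.getD_cons_zero, List.getD_cons_succ, show (chainH H 0) = H from rfl] at s0 s1 s2 s3
  simp only [Nat.reduceAdd] at s0 s1 s2 s3
  omega

theorem wS_pad : ∀ k, 2 ≤ k → wS.getD k [] = [] := fun k hk =>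
  List.getD_eq_default _ _ (show wS.length ≤ k from hk)

variable {G : Type*} [Group G] [Finite G]

section

variable {Q Q' : Subgroup G} {z t : G} {ν : G → M6} {d g : G}
  {ρ : ↥(Sx z t) →* P8} {s : ℕ → G} (F : Fr Q Q' z t ν d ρ g s)
  {kw : List ℕ → ↥(Sx z t)} (K : Lift z t d g ρ s kw)
include F K

theorem z_mem_A : z ∈ subA F K := ⟨1, by norm_num, (psi_one F K).1⟩

theorem A_le_norm : subA F K ≤ Subgroup.normalizer (subA F K : Set G) := Subgroup.le_normalizer

theorem rnf_norm {x : ℕ} (hx : x < 16384) :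
    rnf z t g s x ∈ Subgroup.normalizer (subA F K : Set G) := by
  set N := Subgroup.normalizer (subA F K : Set G) with hN
  obtain ⟨hu, hw, -⟩ := code_parts hx
  obtain ⟨p1, p2, -⟩ := psi_one F K
  have hb : ∀ y, y ∈ N → ∀ b, bp y b ∈ N := fun y hy b => by
    cases b
    · exact one_mem N
    · exact hy
  have hzN : z ∈ N := A_le_norm F K (z_mem_A F K)
  have htN : t ∈ N := A_le_norm F K ⟨2, by norm_num, p2⟩
  have hs : ∀ k, k < 6 → s k ∈ N ∧ g * s k * g⁻¹ ∈ N := by
    intro k hk
    have e0 : bG g s 0 = 1 := by simp [bG, aP, prodK, bp]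
    have e1 : aP s 0 = 1 := by simp [aP, prodK, bp]
    have e2 : aP s (2 ^ k) = s k := by
      simp only [aP, prodK, Nat.testBit_two_pow]
      rcases (show k = 0 ∨ k = 1 ∨ k = 2 ∨ k = 3 ∨ k = 4 ∨ k = 5 by omega) with rfl | rfl | rfl | rfl | rfl | rfl <;>
        simp [bp]
    have h2k : 2 ^ k < 64 := show 2 ^ k < 2 ^ 6 from Nat.pow_lt_pow_right (by norm_num) hk
    have h1 := mEl_norm F K (m := k) (by omega)
    have h2 := mEl_norm F K (m := k + 6) (by omega)
    rw [mEl, show Nat.blt k 12 = true by simp [Nat.blt_eq]; omega, cond_true, rG,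
      show Nat.blt k 6 = true by simpa [Nat.blt_eq] using hk, cond_true,
      rnf_rc F (by norm_num) h2k, X, e0, e2] at h1
    rw [mEl, show Nat.blt (k + 6) 12 = true by simp [Nat.blt_eq]; omega, cond_true, rG,
      show Nat.blt (k + 6) 6 = false by rw [← Bool.not_eq_true, Nat.blt_eq]; omega, cond_false,
      rnf_rc F (by norm_num) (by norm_num), X, e1, Nat.add_sub_cancel,
      show bG g s (2 ^ k) = g * s k * g⁻¹ by rw [bG, e2]] at h2
    simp only [show Nat.testBit 0 0 = false from rfl, show Nat.testBit 0 1 = false from rfl, bp,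
      cond_false, one_mul, mul_one] at h1 h2
    exact ⟨h1, h2⟩
  have hp : ∀ k ≤ 6, ∀ v, prodK s k v ∈ N ∧ g * prodK s k v * g⁻¹ ∈ N := by
    intro k
    induction k with
    | zero => intro _ v; exact ⟨one_mem N, by simp [prodK]⟩
    | succ k ih =>
      intro hk v
      obtain ⟨h1, h2⟩ := ih (by omega) v
      refine ⟨mul_mem h1 (hb _ (hs k (by omega)).1 _), ?_⟩
      rw [prodK, ← conj_mul_conj, conj_bp]
      exact mul_mem h2 (hb _ (hs k (by omega)).2 _)
  exact mul_mem (mul_mem (mul_mem (hb z hzN _) (hb t htN _)) (hp 6 le_rfl _).1) (hp 6 le_rfl _).2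

/-- The part of the normaliser centralising the four group. -/
theorem card_X : 22020096 ≤ Nat.card ↥(Subgroup.normalizer (subA F K : Set G) ⊓ Sx z t) := by
  set X := Subgroup.normalizer (subA F K : Set G) ⊓ Sx z t with hX
  let χ : ↥X →* P8 := ρ.comp (Subgroup.inclusion inf_le_right)
  have hk : 16384 ≤ Nat.card χ.ker := by
    let f : Fin 16384 → ↥χ.ker := fun x => ⟨⟨rnf z t g s x, rnf_norm F K x.2, F.D.R_le_Sx (rnf_mem F x)⟩,
      F.D.rho_R.mpr (rnf_mem F x)⟩
    have hf : Function.Injective f := fun a b e => Fin.ext (rnf_inj F a.2 b.2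
      (congrArg (fun y : ↥χ.ker => ((y : ↥X) : G)) e))
    have := Nat.card_le_card_of_injective f hf
    rwa [Nat.card_fin] at this
  have hr : 1344 ≤ Nat.card χ.range := by
    refine card_ge fun k => ?_
    by_cases hk2 : k < 2
    · have h := mEl_norm F K (m := 12 + k) (by omega)
      rw [mEl, show Nat.blt (12 + k) 12 = false by rw [← Bool.not_eq_true, Nat.blt_eq]; omega, cond_false,
        show Nat.blt (12 + k) 14 = true by simp [Nat.blt_eq]; omega, cond_true, Nat.add_sub_cancel_left] at h
      exact ⟨⟨_, h, (kw (swd k)).2⟩, K.rho (swd k)⟩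
    · rw [wS_pad k (by omega)]
      exact one_mem _
  have hm := Subgroup.card_mul_index χ.ker
  rw [Subgroup.index_ker] at hm
  have := Nat.mul_le_mul hk hr
  omega

variable {h : G} (C : Classes F K h)
include C

theorem card_N : 501397585920 ≤ Nat.card ↥(Subgroup.normalizer (subA F K : Set G)) := by
  classical
  set N := Subgroup.normalizer (subA F K : Set G) with hN
  obtain ⟨p1, p2, p4⟩ := psi_one F K
  have hC1 : 30 * 22020096 ≤ Nat.card ↥(N ⊓ Subgroup.centralizer ({z} : Set G)) := by
    set N₁ := N ⊓ Subgroup.centralizer ({z} : Set G) with hN₁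
    rw [← orbit_card N₁ t]
    refine Nat.mul_le_mul ?_ ((card_X F K).trans (Nat.le_of_dvd Nat.card_pos
      (Subgroup.card_dvd_of_le ?_)))
    · let S := ({2, 3} : Finset ℕ) ∪ ((Finset.range 2048).filter fun x => tb orbT x = true)
      have hS : S.card = 30 := by
        rw [Finset.card_union_of_disjoint]
        · rw [← cntB_eq, class_ok.2.2.2.2.1]; rfl
        · rw [Finset.disjoint_left]
          intro x hx hx'
          simp only [Finset.mem_insert, Finset.mem_singleton] at hx
          have hb := (Finset.mem_filter.mp hx').2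
          obtain ⟨-, -, -, -, -, n2, n3, -⟩ := class_ok
          rcases hx with rfl | rfl
          · rw [n2] at hb; exact Bool.false_ne_true hb
          · rw [n3] at hb; exact Bool.false_ne_true hb
      have hlt : ∀ x ∈ S, x < 2048 := fun x hx => by
        rcases Finset.mem_union.mp hx with h | h
        · simp only [Finset.mem_insert, Finset.mem_singleton] at h; omega
        · exact Finset.mem_range.mp (Finset.mem_filter.mp h).1
      have hinj : Set.InjOn (psi z t g s kw) (S : Set ℕ) := fun a ha b hb e =>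
        psi_inj F K (hlt a ha) (hlt b hb) e
      rw [← hS, ← Set.ncard_coe_finset, ← Set.ncard_image_of_injOn hinj]
      refine Set.ncard_le_ncard ?_ (Set.toFinite _)
      rintro _ ⟨x, hx, rfl⟩
      have hh1 : h ∈ N₁ := ⟨C.norm, Subgroup.mem_centralizer_singleton_iff.mpr C.hz⟩
      rcases Finset.mem_union.mp (Finset.mem_coe.mp hx) with hx' | hx'
      · simp only [Finset.mem_insert, Finset.mem_singleton] at hx'
        rcases hx' with rfl | rfl
        · exact ⟨1, one_mem N₁, by simp [p2]⟩
        · refine ⟨d, ⟨?_, Subgroup.mem_centralizer_singleton_iff.mpr (F.D.H.h.comm d F.D.hd)⟩, ?_⟩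
          · have := mEl_norm F K (m := 14) (by norm_num)
            exact this
          · show d * t * d⁻¹ = _
            rw [F.D.ed, show (3 : ℕ) = Nat.xor 1 2 from rfl, psi_xor F K, p1, p2]
      · obtain ⟨-, hx2⟩ := Finset.mem_filter.mp hx'
        refine treeOK_spec (P := fun x => ∃ c ∈ (N₁ : Set G), c * t * c⁻¹ = psi z t g s kw x)
          trees_ok.2.2.2.2.2.2 (fun m hm y hy => ?_) ⟨h, hh1, C.ht⟩ x hx2
        rw [fT]
        cases hm15 : Nat.blt m 15
        · exact hy
        · obtain ⟨c, hc, e⟩ := hy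
          have hm' : m < 15 := by simpa [Nat.blt_eq] using hm15
          have hmz : mEl z t d g s kw m * z = z * mEl z t d g s kw m := by
            rw [mEl]
            cases h12 : Nat.blt m 12
            · cases h14 : Nat.blt m 14
              · rw [show Nat.beq m 14 = true by
                  have a : ¬ m < 14 := fun h' => by simp [Nat.blt_eq.mpr h'] at h14
                  obtain rfl : m = 14 := by omega
                  rfl]
                exact F.D.H.h.comm d F.D.hd
              · exact (mem_Sx.mp (kw _).2).1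
            · exact (mem_Sx.mp (F.D.R_le_Sx (rnf_mem F _))).1
          refine ⟨mEl z t d g s kw m * c, mul_mem ⟨mEl_norm F K hm,
            Subgroup.mem_centralizer_singleton_iff.mpr hmz⟩ hc, ?_⟩
          show _ = psi z t g s kw (fM m y)
          rw [fM, ← mEl_conj F K hm y, ← e]
          group
    · intro x hx
      obtain ⟨hxN, hxS⟩ := hx
      obtain ⟨hxz, hxt⟩ := mem_Sx.mp hxS
      exact ⟨⟨hxN, Subgroup.mem_centralizer_singleton_iff.mpr hxz⟩,
        Subgroup.mem_centralizer_singleton_iff.mpr hxt⟩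
  rw [← orbit_card N z]
  refine le_trans ?_ (Nat.mul_le_mul ?_ hC1 : 759 * (30 * 22020096) ≤ _)
  · norm_num
  · let S := (Finset.range 2048).filter fun x => tb classK x = true
    have hinj : Set.InjOn (psi z t g s kw) (S : Set ℕ) := fun a ha b hb e =>
      psi_inj F K (Finset.mem_range.mp (Finset.mem_filter.mp (Finset.mem_coe.mp ha)).1)
        (Finset.mem_range.mp (Finset.mem_filter.mp (Finset.mem_coe.mp hb)).1) e
    rw [← class_ok.2.2.2.1, cntB_eq, ← Set.ncard_coe_finset, ← Set.ncard_image_of_injOn hinj]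
    refine Set.ncard_le_ncard ?_ (Set.toFinite _)
    rintro _ ⟨x, hx, rfl⟩
    obtain ⟨hx1, hx2⟩ := Finset.mem_filter.mp (Finset.mem_coe.mp hx)
    obtain ⟨-, n, hn, e⟩ := C.relK x (Finset.mem_range.mp hx1) hx2
    exact ⟨n, hn, by rw [← e, p1]⟩

end

end Cfsg.Agent.Co1Frame89
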