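import Cfsg.Agent.Lib.Co1Frame89

/-!
Normalised signs for the lifts of two generators of the alternating group.
-/

set_option autoImplicit false
set_option linter.unusedSectionVars false

namespace Cfsg.Agent.Co1Frame89

open Cfsg.Agent.LargeExtraspecial Cfsg.Agent.ConwayTypeModel62 Cfsg.Agent.ConwayTypeCoord62
  Cfsg.Agent.ConwayTypeRadical62 Cfsg.Agent.Co1Bits89 Cfsg.Agent.Co1Calc89 Cfsg.Agent.Co1Data89
  Cfsg.Agent.Co1Check89

variable {G : Type*} [Group G] [Finite G]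

/-- The lifts of the two generators act by the fixed tables. -/
def Norm (z t d g : G) (ρ : ↥(Sx z t) →* P8) (s : ℕ → G) : Prop :=
  ∀ c : ↥(Sx z t), In0 z t d g (c : G) →
    (ρ c = s1P → Act z s (c : G) T1) ∧ (ρ c = s2P → Act z s (c : G) T2)

theorem exists_bits : ∀ F : Fin 6 → Bool, ∃ b < 64, ∀ k : Fin 6, Nat.testBit b k.val = F k := by
  decide +kernel

theorem gSh_facts : ∀ l < 64, ∀ k < 6,
    gSh l k < 128 ∧ vec (Nat.shiftRight (gSh l k) 1) = vec (2 ^ k) := by decide +kernel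

theorem gPi_facts : ∀ k < 6,
    gPi k < 128 ∧ act piP (vec (Nat.shiftRight (gPi k) 1)) = vec (2 ^ k) := by decide +kernel

section

variable {Q Q' : Subgroup G} {z t : G} {ν : G → M6} {d g : G}
  {ρ : ↥(Sx z t) →* P8} (D : Ctx Q Q' z t ν d ρ) (S : Sw Q Q' z t d g)
include D S

theorem act_congr {s : ℕ → G} (E : Sect Q t ν d s) {c c' : ↥(Sx z t)} (hc : In0 z t d g (c : G))
    (hc' : In0 z t d g (c' : G)) (he : ρ c = ρ c') {T : List ℕ} (hT : Act z s (c : G) T) :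
    Act z s (c' : G) T := by
  refine ⟨hT.1, fun v hv => ?_⟩
  have hu : InU z t ((c : G)⁻¹ * c') :=
    in0_R D S (c := c⁻¹ * c') (in0_mul D (in0_inv D hc) hc')
      (by rw [map_mul, map_inv, he, inv_mul_cancel])
  rw [← hT.2 v hv]
  calc (c' : G) * aP s v * (c' : G)⁻¹
      = c * (((c : G)⁻¹ * c') * aP s v * ((c : G)⁻¹ * c')⁻¹) * (c : G)⁻¹ := by group
    _ = c * aP s v * (c : G)⁻¹ := by
      rw [← U_comm' D hu (D.H.Cx_le_Sx (aP_mem D E v).1), mul_inv_cancel_right]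

theorem conj_code {s : ℕ → G} (E : Sect Q t ν d s) {c : ↥(Sx z t)} (hc : In0 z t d g (c : G))
    {a : G} (ha : a ∈ Cx Q t) (hd : d * a * d⁻¹ = a) :
    ∃ x < 128, el z s x = (c : G) * a * (c : G)⁻¹ ∧ vec (Nat.shiftRight x 1) = act (ρ c) (ν a) := by
  have hm := D.H.conj_Cx c.2 ha
  obtain ⟨u, hu, e⟩ := in0_d D hc
  obtain ⟨x, hx, ex, vx⟩ := exists_code D E hm (by
    rw [← conj_mul_conj, ← conj_mul_conj, ← conj_inv, e, hd,
      show (c : G) * u * a * ((c : G) * u)⁻¹ = c * (u * a * u⁻¹) * (c : G)⁻¹ by group,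
      ← U_comm' D hu (D.H.Cx_le_Sx ha), mul_inv_cancel_right])
  exact ⟨x, hx, ex, by rw [vx, D.hρ c a ha]⟩

theorem exists_tab {s : ℕ → G} (E : Sect Q t ν d s) {c : ↥(Sx z t)} (hc : In0 z t d g (c : G))
    {p : List ℕ} (hp : ∀ k < 6, act (ρ c) (vec (2 ^ k)) = vec (imgOf p k))
    (hlt : ∀ k < 6, imgOf p k < 64) : ∃ b < 64, Act z s (c : G) (tabOf p b) := by
  choose F hF1 hF2 hF3 using fun k : Fin 6 => conj_code D S E hc (E.mem k k.2) (E.fix k k.2)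
  obtain ⟨b, hb, eb⟩ := exists_bits fun k => Nat.testBit (F k) 0
  refine ⟨b, hb, act_tabOf D E hlt fun k hk => ?_⟩
  have e : Nat.shiftRight (F ⟨k, hk⟩) 1 = imgOf p k :=
    vec_inj (Nat.shiftRight (F ⟨k, hk⟩) 1) (show F ⟨k, hk⟩ / 2 < 64 by have := hF1 ⟨k, hk⟩; omega) _ (hlt k hk)
      (by rw [hF3 ⟨k, hk⟩, E.nu k hk, hp k hk])
  rw [← hF2 ⟨k, hk⟩]
  conv_lhs => rw [code_eq (F ⟨k, hk⟩), e]
  rw [show Nat.testBit b k = Nat.testBit (F ⟨k, hk⟩) 0 from eb ⟨k, hk⟩]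

theorem word_lift {s : ℕ → G} (E : Sect Q t ν d s) {k₁ k₂ : ↥(Sx z t)} (h₁ : In0 z t d g (k₁ : G))
    (h₂ : In0 z t d g (k₂ : G)) (r₁ : ρ k₁ = s1P) (r₂ : ρ k₂ = s2P) {A B : List ℕ}
    (a₁ : Act z s (k₁ : G) A) (a₂ : Act z s (k₂ : G) B) (l : List ℕ) :
    ∃ c : ↥(Sx z t), In0 z t d g (c : G) ∧ ρ c = wordP l ∧ Act z s (c : G) (wordT A B l) := by
  induction l using List.reverseRecOn with
  | nil => exact ⟨1, in0_one D g, map_one ρ, act_U D E (Or.inl rfl)⟩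
  | append_singleton l a ih =>
    obtain ⟨c, hc, rc', ac⟩ := ih
    rw [wordP, wordT, List.foldl_append, List.foldl_append]
    simp only [List.foldl_cons, List.foldl_nil]
    cases Nat.beq a 0
    · exact ⟨k₂ * c, in0_mul D h₂ hc, by rw [map_mul, r₂, rc']; rfl, act_mul' D E k₂.2 a₂ ac⟩
    · exact ⟨k₁ * c, in0_mul D h₁ hc, by rw [map_mul, r₁, rc']; rfl, act_mul' D E k₁.2 a₁ ac⟩

theorem word_one {s : ℕ → G} (E : Sect Q t ν d s) {k₁ k₂ : ↥(Sx z t)} (h₁ : In0 z t d g (k₁ : G))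
    (h₂ : In0 z t d g (k₂ : G)) (r₁ : ρ k₁ = s1P) (r₂ : ρ k₂ = s2P) {A B : List ℕ}
    (a₁ : Act z s (k₁ : G) A) (a₂ : Act z s (k₂ : G) B) {l : List ℕ} (hl : wordP l = 1) :
    wordT A B l = idT := by
  obtain ⟨c, hc, hr, ha⟩ := word_lift D S E h₁ h₂ r₁ r₂ a₁ a₂ l
  exact act_uniq D E ha (act_U D E (in0_R D S hc (hr.trans hl)))

end

section

variable {Q Q' : Subgroup G} {z t : G} {ν : G → M6} {d g : G}
  {ρ : ↥(Sx z t) →* P8} (D : Ctx Q Q' z t ν d ρ)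
include D

theorem reframe {s : ℕ → G} (E : Sect Q t ν d s) {c : G} (hc : c ∈ Sx z t) {T : List ℕ}
    (hT : Act z s c T) (F : ℕ → ℕ) (hF : ∀ k < 6, F k < 128) (p : List ℕ) (bits : ℕ)
    (hchk : ∀ k < 6, cjT T (F k) = Nat.xor (cI F 6 (imgOf p k)) (bn (Nat.testBit bits k))) :
    ∀ k < 6, c * el z s (F k) * c⁻¹ =
      el z (fun j => el z s (F j)) (2 * imgOf p k + bn (Nat.testBit bits k)) := by
  intro k hk
  rw [conj_el D E hc hT (hF k hk), hchk k hk, el_xor_bit D E]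
  show _ = bp z (Nat.testBit (2 * _ + _) 0) * aP (fun j => el z s (F j)) (Nat.shiftRight (2 * _ + _) 1)
  rw [(two_mul_parts _ _).1, (two_mul_parts _ _).2,
    show aP (fun j => el z s (F j)) (imgOf p k) = el z s (cI F 6 (imgOf p k)) from
      prodK_el D E 6 (fun j _ => rfl) _]

theorem relabel_ctx :
    Ctx Q Q' z t (fun a => act piP (ν a)) d ((MulAut.conj piP).toMonoidHom.comp ρ) := by
  refine ⟨D.H, D.H', D.P, ⟨fun a ha b hb => ?_, fun w => ?_, fun a ha => ?_, fun a ha => ?_⟩, D.hd,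
    D.ed, fun c a ha => ?_, D.conj, D.tz⟩
  · simp only [D.K.add a ha b hb, act_add]
  · obtain ⟨a, ha, e⟩ := D.K.surj (act piP⁻¹ w)
    exact ⟨a, ha, by simp only [e, ← act_mul, mul_inv_cancel, act_one]⟩
  · rw [← D.K.ker a ha]
    constructor
    · intro h
      rw [← act_inv_act piP (ν a), h, act_zero]
    · intro h
      simp only [h, act_zero]
  · simp only [f_act]
    exact D.K.sq a ha
  · simp only [MonoidHom.comp_apply, MulEquiv.coe_toMonoidHom, MulAut.conj_apply, act_mul,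
      act_inv_act, D.hρ c a ha]

theorem exists_sect : ∃ s, Sect Q t ν d s := by
  have h : ∀ w : M6, ∃ a ∈ Cx Q t, ν a = w ∧ d * a * d⁻¹ = a := by
    intro w
    obtain ⟨a, ha, rfl⟩ := D.K.surj w
    rcases D.nu_zero_of_Cx_dz ha with e | e
    · exact ⟨a, ha, rfl, e⟩
    · refine ⟨a * t, mul_mem ha (D.H.x_mem D.sing), ?_, ?_⟩
      · rw [D.K.add _ ha _ (D.H.x_mem D.sing),
          (D.K.ker _ (D.H.x_mem D.sing)).mpr (Or.inr (Or.inr (Or.inl rfl))), add_zero]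
      · have hz : a * z = z * a := D.H.h.comm a (mem_Cx.mp ha).1
        rw [← conj_mul_conj, e, D.ed, mul_assoc, ← mul_assoc a z t, hz, mul_assoc z a t,
          D.H.h.z_mul_z_mul]
  choose F h1 h2 h3 using h
  exact ⟨fun k => F (vec (2 ^ k)), fun k _ => h1 _, fun k _ => h2 _, fun k _ => h3 _⟩

variable (S : Sw Q Q' z t d g)
include S

/-- Sections with normalised signs, after relabelling. -/
theorem exists_norm : ∃ (ν' : G → M6) (ρ' : ↥(Sx z t) →* P8) (s : ℕ → G),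
    Ctx Q Q' z t ν' d ρ' ∧ Sect Q t ν' d s ∧ Norm z t d g ρ' s := by
  obtain ⟨p1, p2, p3, -⟩ := perm_facts
  obtain ⟨a1, a2, -, a4⟩ := gen_act
  obtain ⟨-, -, -, -, -, -, -, q1, q2, sg1, sg2, -⟩ := perm_facts
  obtain ⟨k₁, h₁, r₁⟩ := exists_lift D S sg1
  obtain ⟨k₂, h₂, r₂⟩ := exists_lift D S sg2
  obtain ⟨s₀, E₀⟩ := exists_sect D
  obtain ⟨b₂, hb₂, t₂⟩ := exists_tab D S E₀ h₂ (by rw [r₂]; exact a2) (fun k hk => (a4 k hk).2.1)
  obtain ⟨l, hl, hchk⟩ := shift_ok b₂ hb₂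
  have E : Sect Q t ν d (fun j => el z s₀ (gSh l j)) := by
    refine ⟨fun k _ => el_mem D E₀ _, fun k hk => ?_, fun k _ => ?_⟩
    · rw [nu_el D E₀ (gSh_facts l hl k hk).1, (gSh_facts l hl k hk).2]
    · rw [el, ← conj_mul_conj, (aP_mem D E₀ _).2, conj_bp, (d_zt D).1]
  set s := fun j => el z s₀ (gSh l j) with hs
  have u₂ : Act z s (k₂ : G) T2 := tabs_eq.2 ▸ act_tabOf D E (fun k hk => (a4 k hk).2.1)
    (reframe D E₀ k₂.2 t₂ _ (fun k hk => (gSh_facts l hl k hk).1) _ _ hchk)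
  obtain ⟨b₁, hb₁, u₁⟩ := exists_tab D S E h₁ (by rw [r₁]; exact a1) (fun k hk => (a4 k hk).1)
  have hrel : relOK (tabOf s1L b₁) T2 = true := by
    rw [relOK, decide_eq_true (word_one D S E h₁ h₂ r₁ r₂ u₁ u₂ rel_perm.1),
      decide_eq_true (word_one D S E h₁ h₂ r₁ r₂ u₁ u₂ rel_perm.2)]
    rfl
  rcases bits_options b₁ hb₁ hrel with rfl | rfl
  · rw [tabs_eq.1] at u₁
    exact ⟨ν, ρ, s, D, E, fun c hc => ⟨fun e => act_congr D S E h₁ hc (r₁.trans e.symm) u₁,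
      fun e => act_congr D S E h₂ hc (r₂.trans e.symm) u₂⟩⟩
  · have D' := relabel_ctx D
    have E' : Sect Q t (fun a => act piP (ν a)) d (fun j => el z s (gPi j)) := by
      refine ⟨fun k _ => el_mem D E _, fun k hk => ?_, fun k _ => ?_⟩
      · simp only [nu_el D E (gPi_facts k hk).1]
        exact (gPi_facts k hk).2
      · rw [el, ← conj_mul_conj, (aP_mem D E _).2, conj_bp, (d_zt D).1]
    obtain ⟨c₁, hc₁, rc₁, ac₁⟩ := word_lift D S E h₁ h₂ r₁ r₂ u₁ u₂ (wPi.getD 0 [])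
    obtain ⟨c₂, hc₂, rc₂, ac₂⟩ := word_lift D S E h₁ h₂ r₁ r₂ u₁ u₂ (wPi.getD 1 [])
    have hpp : piP * piP = 1 := by decide +kernel
    have n₁ : ((MulAut.conj piP).toMonoidHom.comp ρ) c₁ = s1P := by
      simp only [MonoidHom.comp_apply, MulEquiv.coe_toMonoidHom, MulAut.conj_apply, rc₁, q1,
        inv_eq_of_mul_eq_one_right hpp]
      rw [← mul_assoc, ← mul_assoc, hpp, one_mul, mul_assoc, hpp, mul_one]
    have n₂ : ((MulAut.conj piP).toMonoidHom.comp ρ) c₂ = s2P := by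
      simp only [MonoidHom.comp_apply, MulEquiv.coe_toMonoidHom, MulAut.conj_apply, rc₂, q2,
        inv_eq_of_mul_eq_one_right hpp]
      rw [← mul_assoc, ← mul_assoc, hpp, one_mul, mul_assoc, hpp, mul_one]
    have w₁ := act_tabOf D' E' (fun k hk => (a4 k hk).1) (reframe D E c₁.2 ac₁ _
      (fun k hk => (gPi_facts k hk).1) _ _ fun k hk => (relabel_ok k hk).1)
    have w₂ := act_tabOf D' E' (fun k hk => (a4 k hk).2.1) (reframe D E c₂.2 ac₂ _
      (fun k hk => (gPi_facts k hk).1) _ _ fun k hk => (relabel_ok k hk).2)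
    rw [tabs_eq.1] at w₁
    rw [tabs_eq.2] at w₂
    exact ⟨_, _, _, D', E', fun c hc => ⟨fun e => act_congr D' S E' hc₁ hc (n₁.trans e.symm) w₁,
      fun e => act_congr D' S E' hc₂ hc (n₂.trans e.symm) w₂⟩⟩

end

end Cfsg.Agent.Co1Frame89
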