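import Mathlib
import Cfsg.Agent.Lib.ConwayTypeClasses62

/-!
# Every involution of a group of Conway type is conjugate into the product of the two centralisers
-/

set_option autoImplicit false

namespace Cfsg.Agent.ConwayTypeRadical62

open Subgroup Cfsg.Agent.LargeExtraspecial Cfsg.Agent.LargeExtraspecialPair
open Cfsg.Agent.ConwayTypeModel62 Cfsg.Agent.ConwayTypeCoord62

variable {G : Type*} [Group G] [Finite G]

namespace Ctx

variable {Q Q' : Subgroup G} {z t : G} {ν : G → M6} {d : G}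
  {ρ : ↥(Sx z t) →* P8} (D : Ctx Q Q' z t ν d ρ)
include D

/-- All commutators with `C_Q(t)` square to one. -/
def SF (_D : Ctx Q Q' z t ν d ρ) (x : G) : Prop :=
  ∀ a ∈ Cx Q t, x * a * x⁻¹ * a⁻¹ * (x * a * x⁻¹ * a⁻¹) = 1

theorem comm_key (c : ↥(Sx z t)) {a : G} (ha : a ∈ Cx Q t) :
    (c : G) * a * (c : G)⁻¹ * a⁻¹ ∈ Cx Q t ∧
      ν ((c : G) * a * (c : G)⁻¹ * a⁻¹) = act (ρ c) (ν a) + ν a := by
  have hm := D.H.conj_Cx c.2 ha
  refine ⟨mul_mem hm (inv_mem ha), ?_⟩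
  rw [D.K.add _ hm _ (inv_mem ha), D.H.nu_inv D.sing D.K ha, D.hρ c a ha]

theorem d_conj {a : G} (ha : a ∈ Cx Q t) :
    ∃ k, d * a * d⁻¹ = zp z k * a ∧ d⁻¹ * a * d = zp z k * a := by
  rcases D.nu_zero_of_Cx_dz ha with e | e
  · refine ⟨0, by rw [zp_zero, one_mul]; exact e, ?_⟩
    rw [zp_zero, one_mul]
    conv_lhs => rw [← e]
    group
  · refine ⟨1, by rw [zp_one]; exact e, ?_⟩
    rw [zp_one]
    calc d⁻¹ * a * d = d⁻¹ * (z * (d * a * d⁻¹)) * d := by rw [e, D.H.h.z_mul_z_mul]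
      _ = d⁻¹ * (z * d) * a := by group
      _ = z * a := by rw [← D.H.h.comm d D.hd, inv_mul_cancel_left]

theorem zp_comm {c : G} (hc : c * z = z * c) (k : ZMod 2) : c * zp z k = zp z k * c := by
  rcases two_eq k with rfl | rfl
  · rw [zp_zero, mul_one, one_mul]
  · rw [zp_one, hc]

theorem ev_fixed {c : ↥(Sx z t)} (hcc : (c : G) * c = 1) :
    act (ρ c) (ev ν d (c : G)) = ev ν d (c : G) := by
  have hm := D.ev_mem c.2
  have hi : (c : G)⁻¹ = c := inv_eq_of_mul_eq_one_right hcc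
  rw [ev, D.hρ c _ hm]
  have e : (c : G) * ((c : G) * d * (c : G)⁻¹ * d⁻¹) * (c : G)⁻¹
      = ((c : G) * d * (c : G)⁻¹ * d⁻¹)⁻¹ := by
    calc (c : G) * ((c : G) * d * (c : G)⁻¹ * d⁻¹) * (c : G)⁻¹
        = ((c : G) * c) * d * (c : G)⁻¹ * d⁻¹ * (c : G)⁻¹ := by group
      _ = d * (c : G) * d⁻¹ * (c : G)⁻¹ := by rw [hcc, hi, one_mul]
      _ = _ := by group
  rw [e, D.H.nu_inv D.sing D.K hm]

/-- An involution fixing the perpendicular of the line modulo `z` has coordinate in the line. -/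
theorem ev_perp {c : G} (hc : c ∈ Sx z t) (hcc : c * c = 1)
    (hfix : ∀ a ∈ Cx Q t, InP (ν a) → ∃ i, c * a * c⁻¹ = zp z i * a) : InL (ev ν d c) := by
  refine perp_perp_L fun w hw => ?_
  obtain ⟨a, ha, rfl⟩ := D.K.surj w
  obtain ⟨i, hi⟩ := hfix a ha hw
  obtain ⟨k, hk1, hk2⟩ := D.d_conj ha
  have hcz := (mem_Sx.mp hc).1
  have hci : c⁻¹ = c := inv_eq_of_mul_eq_one_right hcc
  have hi' : c⁻¹ * a * c = zp z i * a := by
    rw [← hi, hci]
  set ex := c * d * c⁻¹ * d⁻¹ with hex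
  have e : ex * a * ex⁻¹ = a := by
    calc ex * a * ex⁻¹ = c * d * (c⁻¹ * (d⁻¹ * a * d) * c) * d⁻¹ * c⁻¹ := by rw [hex]; group
      _ = c * d * ((c⁻¹ * zp z k) * a * c) * d⁻¹ * c⁻¹ := by rw [hk2]; group
      _ = c * d * ((zp z k * c⁻¹) * a * c) * d⁻¹ * c⁻¹ := by
          rw [(show Commute c (zp z k) from D.zp_comm hcz k).inv_left.eq]
      _ = c * ((d * zp z k) * (c⁻¹ * a * c) * d⁻¹) * c⁻¹ := by group
      _ = c * (zp z k * zp z i * (d * a * d⁻¹)) * c⁻¹ := by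
          rw [hi', D.zp_comm (D.H.h.comm d D.hd) k,
            show zp z k * d * (zp z i * a) * d⁻¹ = zp z k * (d * zp z i) * a * d⁻¹ by group,
            D.zp_comm (D.H.h.comm d D.hd) i]
          group
      _ = c * (zp z i * a) * c⁻¹ := by
          rw [hk1, show zp z k * zp z i * (zp z k * a) = (zp z k * zp z i * zp z k) * a by group,
            ← zp_add D.H.h.zz, ← zp_add D.H.h.zz, show k + i + k = i by
              rw [add_comm k i, add_assoc, CharTwo.add_self_eq_zero, add_zero]]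
      _ = (c * zp z i) * a * c⁻¹ := by group
      _ = zp z i * (c * a * c⁻¹) := by rw [D.zp_comm hcz i]; group
      _ = a := by
          rw [hi, ← mul_assoc, ← zp_add D.H.h.zz, CharTwo.add_self_eq_zero, zp_zero, one_mul]
  have hcm := D.comm_Cx (D.ev_mem hc) ha
  rw [← hex, e, mul_inv_cancel] at hcm
  exact (congrArg Prod.fst (D.vv_inj ((vv_zero z t).trans hcm))).symm

theorem to_t {x t' : G} (hxz : x * z = z * x) (ht' : Sing Q z t') (htx : t' * x = x * t') :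
    ∃ c, c * z = z * c ∧ c * t' * c⁻¹ = t ∧ c * x * c⁻¹ ∈ Sx z t := by
  obtain ⟨c, hcz, hct⟩ := D.H.transitive ht' D.sing
  refine ⟨c, hcz, hct, mem_Sx.mpr ⟨?_, ?_⟩⟩
  · have h1 : Commute c z := hcz
    exact ((h1.mul_left hxz).mul_left h1.inv_left).eq
  · rw [← hct]
    calc c * x * c⁻¹ * (c * t' * c⁻¹) = c * (x * t') * c⁻¹ := by group
      _ = c * (t' * x) * c⁻¹ := by rw [htx]
      _ = c * t' * c⁻¹ * (c * x * c⁻¹) := by group

theorem back_Q {c a t' : G} (hcz : c * z = z * c) (hct : c * t' * c⁻¹ = t) (ha : a ∈ Cx Q t) :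
    c⁻¹ * a * c ∈ Q ∧ (c⁻¹ * a * c) * t' = t' * (c⁻¹ * a * c) := by
  obtain ⟨haQ, hat⟩ := mem_Cx.mp ha
  refine ⟨?_, ?_⟩
  · have := D.H.h.norm c⁻¹ (show Commute c z from hcz).inv_left.eq a haQ
    rwa [inv_inv] at this
  · calc c⁻¹ * a * c * t' = c⁻¹ * (a * (c * t' * c⁻¹)) * c := by group
      _ = c⁻¹ * (c * t' * c⁻¹ * a) * c := by rw [hct, hat]
      _ = t' * (c⁻¹ * a * c) := by group

theorem outside {q : G} (hq : q ∈ Q) (hqt : ¬ q * t = t * q) {d' : G} (hd' : d' ∈ Q)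
    (hdt : ¬ d' * t = t * d') : d'⁻¹ * q ∈ Cx Q t := by
  refine mem_Cx.mpr ⟨Q.mul_mem (Q.inv_mem hd') hq, mul_inv_eq_iff_eq_mul.mp
    (D.H.h.mul_fix (Q.inv_mem hd') ((D.H.h.not_comm_iff D.sing.1 (Q.inv_mem hd')).mp fun e => hdt ?_)
      ((D.H.h.not_comm_iff D.sing.1 hq).mp hqt))⟩
  have := (show Commute d'⁻¹ t from e).inv_left
  rw [inv_inv] at this
  exact this.eq

theorem d_out : ¬ d * t = t * d := (D.H.h.not_comm_iff D.sing.1 D.hd).mpr D.ed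

theorem f_of_SF (x : ↥(Sx z t)) (h : D.SF (x : G)) (v : M6) : f (act (ρ x) v + v) = 0 := by
  obtain ⟨a, ha, rfl⟩ := D.K.surj v
  obtain ⟨hm, hν⟩ := D.comm_key x ha
  have := h a ha
  rw [D.K.sq _ hm, hν] at this
  exact zp_inj D.H.h.ne_one (this.trans (zp_zero z).symm)

theorem SF_of_f (x : ↥(Sx z t)) (h : ∀ v, f (act (ρ x) v + v) = 0) : D.SF (x : G) := by
  intro a ha
  obtain ⟨hm, hν⟩ := D.comm_key x ha
  rw [D.K.sq _ hm, hν, h, zp_zero]

omit D in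
theorem f_conj_moves (τ σ : P8) (v : M6) :
    act (τ * σ * τ⁻¹) v + v = act τ (act σ (act τ⁻¹ v) + act τ⁻¹ v) := by
  rw [act_add, ← act_mul, ← act_mul, ← act_mul, mul_inv_cancel, act_one, mul_assoc]

/-- A conjugate in the centraliser of the four group all whose commutators are singular. -/
theorem to_SF {x : G} (hxz : x * z = z * x) (hxx : x * x = 1) :
    ∃ g, ∃ x' : ↥(Sx z t), (x' : G) = g * x * g⁻¹ ∧ D.SF (x' : G) := by
  obtain ⟨t₀, ht₀, ht₀x⟩ := D.exists_sing_comm hxz hxx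
  obtain ⟨c, -, -, hx₀⟩ := D.to_t hxz ht₀ ht₀x
  have h2 : (⟨c * x * c⁻¹, hx₀⟩ : ↥(Sx z t)) * ⟨c * x * c⁻¹, hx₀⟩ = 1 := Subtype.ext (by
    show c * x * c⁻¹ * (c * x * c⁻¹) = 1
    calc c * x * c⁻¹ * (c * x * c⁻¹) = c * (x * x) * c⁻¹ := by group
      _ = 1 := by rw [hxx]; group)
  set x₀ : ↥(Sx z t) := ⟨c * x * c⁻¹, hx₀⟩ with hx₀d
  rcases classify (D.sign_rho x₀) (by rw [← map_mul, h2, map_one]) with e | ⟨τ, hτ, e⟩ | ⟨τ, hτ, e⟩
  · exact ⟨c, x₀, rfl, D.SF_of_f x₀ fun v => by rw [e, act_one, add_self, f_zero]⟩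
  swap
  · exact ⟨c, x₀, rfl, D.SF_of_f x₀ fun v => by rw [e, f_conj_moves, f_act, σ4_sing]⟩
  obtain ⟨c2, hc2⟩ := D.exists_rho_eq hτ
  obtain ⟨x₁, hx₁⟩ : ∃ x₁, x₁ = c2⁻¹ * x₀ * c2 := ⟨_, rfl⟩
  have hσ : ρ x₁ = σ22 := by rw [hx₁, map_mul, map_mul, map_inv, hc2, e]; group
  have hx11 : (x₁ : G) * x₁ = 1 := by
    have : x₁ * x₁ = 1 := by
      rw [hx₁]
      calc c2⁻¹ * x₀ * c2 * (c2⁻¹ * x₀ * c2) = c2⁻¹ * (x₀ * x₀) * c2 := by group
        _ = 1 := by rw [h2, mul_one, inv_mul_cancel]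
    exact congrArg Subtype.val this
  obtain ⟨a₁, ha₁, hν₁⟩ := D.K.surj (ConwayTypeModel62.e 0 + ConwayTypeModel62.e 2)
  obtain ⟨hm, hνm⟩ := D.comm_key x₁ ha₁
  rw [hσ, hν₁, σ22_act.2.2] at hνm
  set m := (x₁ : G) * a₁ * (x₁ : G)⁻¹ * a₁⁻¹ with hmd
  have hmm : m * m = 1 := by rw [D.K.sq m hm, hνm, chosen.1, zp_zero]
  have hxm : (x₁ : G) * m * (x₁ : G)⁻¹ = m := by
    calc (x₁ : G) * m * (x₁ : G)⁻¹
        = ((x₁ : G) * x₁) * a₁ * ((x₁ : G) * x₁)⁻¹ * ((x₁ : G) * a₁ * (x₁ : G)⁻¹)⁻¹ := by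
          rw [hmd]; group
      _ = m⁻¹ := by rw [hx11, hmd]; group
      _ = m := inv_eq_of_mul_eq_one_right hmm
  obtain ⟨k, hk, -⟩ := D.d_conj hm
  obtain ⟨η, hη⟩ : ∃ η, η = ev ν d (x₁ : G) := ⟨_, rfl⟩
  obtain ⟨j, hj⟩ : ∃ j, j = f η + k := ⟨_, rfl⟩
  have hVm := D.vv_mem (0, j)
  have hvC : vv z t (0, j) ∈ Cx Q t := D.V_le_Cx hVm
  have htC : vv z t (0, j) * m ∈ Cx Q t := mul_mem hvC hm
  have hνt : ν (vv z t (0, j) * m) = α₀ := by
    rw [D.K.add _ hvC m hm, (D.K.ker _ hvC).mpr (D.inU_iff.mpr hVm), hνm, zero_add]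
  have hsing : Sing Q z (vv z t (0, j) * m) := by
    refine ⟨(mem_Cx.mp htC).1, ?_, fun h => chosen.2.2.2.2.2.2.2.1 ?_,
      fun h => chosen.2.2.2.2.2.2.2.1 ?_⟩
    · rw [D.K.sq _ htC, hνt, chosen.1, zp_zero]
    · rw [← hνt, h]; exact D.H.nu_one D.sing D.K
    · rw [← hνt, h]; exact (D.K.ker z (D.H.z_mem D.sing)).mpr (Or.inr (Or.inl rfl))
  have hcx : Commute (x₁ : G) (vv z t (0, j) * m) :=
    (show Commute (x₁ : G) (vv z t (0, j)) from D.vv_comm_Sx _ x₁.2).mul_right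
      (mul_inv_eq_iff_eq_mul.mp hxm)
  obtain ⟨c3, hc3z, hc3t, hx₂⟩ := D.to_t (mem_Sx.mp x₁.2).1 hsing hcx.symm.eq
  refine ⟨c3 * (c2 : G)⁻¹ * c, ⟨c3 * (x₁ : G) * c3⁻¹, hx₂⟩, ?_, ?_⟩
  · show c3 * (x₁ : G) * c3⁻¹ = _
    rw [hx₁, hx₀d]
    simp only [coe_mul, coe_inv]
    group
  intro a ha
  obtain ⟨hqQ, hqt'⟩ := D.back_Q hc3z hc3t ha
  obtain ⟨q, hq⟩ : ∃ q, q = c3⁻¹ * a * c3 := ⟨_, rfl⟩
  rw [← hq] at hqQ hqt'
  suffices hsuff : (x₁ : G) * q * (x₁ : G)⁻¹ * q⁻¹ * ((x₁ : G) * q * (x₁ : G)⁻¹ * q⁻¹) = 1 by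
    show c3 * (x₁ : G) * c3⁻¹ * a * (c3 * (x₁ : G) * c3⁻¹)⁻¹ * a⁻¹
      * (c3 * (x₁ : G) * c3⁻¹ * a * (c3 * (x₁ : G) * c3⁻¹)⁻¹ * a⁻¹) = 1
    calc _ = c3 * ((x₁ : G) * q * (x₁ : G)⁻¹ * q⁻¹ * ((x₁ : G) * q * (x₁ : G)⁻¹ * q⁻¹)) * c3⁻¹ := by
          rw [hq]; group
      _ = 1 := by rw [hsuff]; group
  by_cases hqC : q * t = t * q
  · have hqm : q ∈ Cx Q t := mem_Cx.mpr ⟨hqQ, hqC⟩
    obtain ⟨hw, hνw⟩ := D.comm_key x₁ hqm
    have hB : B (ν q) α₀ = 0 := by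
      have h := D.comm_Cx hqm htC
      rw [hνt, hqt', mul_inv_cancel_right, mul_inv_cancel] at h
      exact (congrArg Prod.fst (D.vv_inj ((vv_zero z t).trans h))).symm
    rw [D.K.sq _ hw, hνw, hσ, σ22_act.1, hB, zp_zero]
  · have haC : d⁻¹ * q ∈ Cx Q t := D.outside hqQ hqC D.hd D.d_out
    obtain ⟨b, rfl⟩ : ∃ b, q = d * b := ⟨d⁻¹ * q, by group⟩
    rw [inv_mul_cancel_left] at haC
    obtain ⟨hmb, hνmb⟩ := D.comm_key x₁ haC
    obtain ⟨k', hk', -⟩ := D.d_conj hmb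
    have hBj : B (ν b) α₀ = f η := by
      have h := D.comm_Cx haC htC
      rw [hνt] at h
      have e1 : b * (vv z t (0, j) * m) * b⁻¹ = zp z (B (ν b) α₀) * (vv z t (0, j) * m) := by
        rw [mul_inv_eq_iff_eq_mul.mp h, vv, zp_zero, mul_one]
      have e2 : d * (vv z t (0, j) * m) * d⁻¹ = zp z (j + k) * (vv z t (0, j) * m) := by
        calc d * (vv z t (0, j) * m) * d⁻¹ = (d * vv z t (0, j) * d⁻¹) * (d * m * d⁻¹) := by group
          _ = (zp z j * zp t j) * zp z k * m := by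
              rw [D.d_vv, hk, vv, zero_add, ← mul_assoc]
          _ = zp z j * (zp t j * zp z k) * m := by group
          _ = zp z j * (zp z k * zp t j) * m := by
              rw [D.zp_comm (show zp t j * z = z * zp t j by
                rcases two_eq j with rfl | rfl
                · rw [zp_zero, one_mul, mul_one]
                · rw [zp_one, D.H.h.comm t D.sing.1]) k]
          _ = _ := by rw [zp_add D.H.h.zz, vv, zp_zero, one_mul]; group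
      have e3 : d * b * (vv z t (0, j) * m) * (d * b)⁻¹
          = zp z (B (ν b) α₀ + (j + k)) * (vv z t (0, j) * m) := by
        calc d * b * (vv z t (0, j) * m) * (d * b)⁻¹
            = d * (b * (vv z t (0, j) * m) * b⁻¹) * d⁻¹ := by group
          _ = (d * zp z (B (ν b) α₀)) * (vv z t (0, j) * m) * d⁻¹ := by rw [e1]; group
          _ = zp z (B (ν b) α₀) * (d * (vv z t (0, j) * m) * d⁻¹) := by
              rw [D.zp_comm (D.H.h.comm d D.hd)]; group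
          _ = _ := by rw [e2, ← mul_assoc, ← zp_add D.H.h.zz]
      rw [hqt', mul_inv_cancel_right] at e3
      have e4 := zp_inj D.H.h.ne_one ((right_eq_mul.mp e3).trans (zp_zero z).symm)
      rw [hj] at e4
      exact (show ∀ i l k : ZMod 2, i + (l + k + k) = 0 → i = l by decide) _ _ _ e4
    have hzC : zp z k' ∈ Cx Q t := by
      rcases two_eq k' with rfl | rfl
      · rw [zp_zero]; exact one_mem _
      · rw [zp_one]; exact D.H.z_mem D.sing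
    have hex := D.ev_mem x₁.2
    set ex := (x₁ : G) * d * (x₁ : G)⁻¹ * d⁻¹ with hexd
    have hw : (x₁ : G) * (d * b) * (x₁ : G)⁻¹ * (d * b)⁻¹
        = ex * (zp z k' * ((x₁ : G) * b * (x₁ : G)⁻¹ * b⁻¹)) := by
      rw [hexd, ← hk']; group
    rw [hw, D.K.sq _ (mul_mem hex (mul_mem hzC hmb)), D.K.add _ hex _ (mul_mem hzC hmb),
      D.K.add _ hzC _ hmb, (D.K.ker _ hzC).mpr (by
        rcases two_eq k' with rfl | rfl
        · rw [zp_zero]; exact Or.inl rfl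
        · rw [zp_one]; exact Or.inr (Or.inl rfl)), zero_add, hνmb, hexd,
      show ν ((x₁ : G) * d * (x₁ : G)⁻¹ * d⁻¹) = η from hη.symm, f_add, hσ, σ22_act.1, hBj]
    have hfix := D.ev_fixed hx11
    rw [hσ, ← hη] at hfix
    have h0 : B η (act σ22 (ν b) + ν b) = 0 := by
      rw [B_add_right]
      conv_lhs => rw [show B η (act σ22 (ν b)) = B η (ν b) by
        conv_lhs => rw [← hfix, B_act]]
      exact CharTwo.add_self_eq_zero _
    rw [h0, add_zero, CharTwo.add_self_eq_zero, zp_zero]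

/-- Normalise to the fixed-point-free type. -/
theorem normalize (x : ↥(Sx z t)) (hxx : (x : G) * x = 1) (hSF : D.SF (x : G)) :
    (x : G) ∈ D.P.R ∨ ∃ c : ↥(Sx z t), ρ (c * x * c⁻¹) = σ4 := by
  have h2 : x * x = 1 := Subtype.ext hxx
  rcases classify (D.sign_rho x) (by rw [← map_mul, h2, map_one]) with e | ⟨τ, hτ, e⟩ | ⟨τ, hτ, e⟩
  · exact Or.inl (D.rho_R.mp e)
  · exfalso
    obtain ⟨v, hv⟩ := σ22_witness
    have := D.f_of_SF x hSF (act τ v)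
    rw [e, f_conj_moves, f_act, act_inv_act] at this
    exact zero_ne_one (this.symm.trans hv)
  · obtain ⟨c, hc⟩ := D.exists_rho_eq hτ
    exact Or.inr ⟨c⁻¹, by simp only [map_mul, map_inv, hc, inv_inv, e]; group⟩

/-- Involutions moving the fixed vectors only by `z`. -/
theorem easy (x : ↥(Sx z t)) (hxx : (x : G) * x = 1) (hSF : D.SF (x : G))
    (hE : ∀ a ∈ Cx Q t, InU z t ((x : G) * a * (x : G)⁻¹ * a⁻¹) →
      ∃ i, (x : G) * a * (x : G)⁻¹ = zp z i * a) :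
    ∃ g, g * (x : G) * g⁻¹ ∈ D.P.R := by
  rcases D.normalize x hxx hSF with h | ⟨c, hc⟩
  · exact ⟨1, by simpa using h⟩
  obtain ⟨y, hy⟩ : ∃ y, y = c * x * c⁻¹ := ⟨_, rfl⟩
  rw [← hy] at hc
  have hyv : (y : G) = (c : G) * x * (c : G)⁻¹ := congrArg Subtype.val hy
  have hyy : (y : G) * y = 1 := by
    rw [hyv]
    calc (c : G) * x * (c : G)⁻¹ * ((c : G) * x * (c : G)⁻¹)
        = (c : G) * ((x : G) * x) * (c : G)⁻¹ := by group
      _ = 1 := by rw [hxx]; group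
  have hyi : (y : G)⁻¹ = y := inv_eq_of_mul_eq_one_right hyy
  have hcz := (mem_Sx.mp c.2).1
  have hyz := (mem_Sx.mp y.2).1
  have hEy : ∀ a ∈ Cx Q t, InP (ν a) → ∃ i, (y : G) * a * (y : G)⁻¹ = zp z i * a := by
    intro a ha hp
    obtain ⟨hm, hν⟩ := D.comm_key y ha
    rw [hc, (σ4_fix _).mpr hp, add_self] at hν
    have hu := (D.K.ker _ hm).mp hν
    have hb : (c : G)⁻¹ * a * (c : G) ∈ Cx Q t := by
      have := D.H.conj_Cx (inv_mem c.2) ha
      rwa [inv_inv] at this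
    obtain ⟨i, hi⟩ := hE _ hb (by
      have e : (x : G) * ((c : G)⁻¹ * a * (c : G)) * (x : G)⁻¹ * ((c : G)⁻¹ * a * (c : G))⁻¹
          = (c : G)⁻¹ * ((y : G) * a * (y : G)⁻¹ * a⁻¹) * (c : G)⁻¹⁻¹ := by rw [hyv]; group
      rw [e, D.H.U_comm D.sing hu (inv_mem c.2), mul_inv_cancel_right]
      exact hu)
    refine ⟨i, ?_⟩
    calc (y : G) * a * (y : G)⁻¹
        = (c : G) * ((x : G) * ((c : G)⁻¹ * a * (c : G)) * (x : G)⁻¹) * (c : G)⁻¹ := by
          rw [hyv]; group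
      _ = ((c : G) * zp z i) * ((c : G)⁻¹ * a) := by rw [hi]; group
      _ = zp z i * a := by rw [D.zp_comm hcz]; group
  obtain ⟨v, hv⟩ := (L_spec _ (D.ev_perp y.2 hyy hEy)).2.2
  obtain ⟨a₀, ha₀, rfl⟩ := D.K.surj v
  obtain ⟨hm0, hνm0⟩ := D.comm_key y ha₀
  rw [hc, hv] at hνm0
  obtain ⟨k0, hk0, -⟩ := D.d_conj hm0
  set q0 := d * a₀ with hq0
  have hq0Q : q0 ∈ Q := Q.mul_mem D.hd (mem_Cx.mp ha₀).1
  have hq0t : q0 * t * q0⁻¹ = z * t := by
    calc q0 * t * q0⁻¹ = d * (a₀ * t * a₀⁻¹) * d⁻¹ := by rw [hq0]; group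
      _ = z * t := by rw [(mem_Cx.mp ha₀).2, mul_inv_cancel_right, D.ed]
  have hq0out : ¬ q0 * t = t * q0 := (D.H.h.not_comm_iff D.sing.1 hq0Q).mpr hq0t
  obtain ⟨i, hi⟩ : ∃ i, (y : G) * q0 * (y : G)⁻¹ = zp z i * q0 := by
    have hz0 : zp z k0 ∈ Cx Q t := by
      rcases two_eq k0 with rfl | rfl
      · rw [zp_zero]; exact one_mem _
      · rw [zp_one]; exact D.H.z_mem D.sing
    have hex := D.ev_mem y.2
    set w := (y : G) * q0 * (y : G)⁻¹ * q0⁻¹ with hw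
    have hwe : w = ((y : G) * d * (y : G)⁻¹ * d⁻¹) * (zp z k0 * ((y : G) * a₀ * (y : G)⁻¹ * a₀⁻¹)) := by
      rw [hw, hq0, ← hk0]; group
    have hwC : w ∈ Cx Q t := hwe ▸ mul_mem hex (mul_mem hz0 hm0)
    have hwU : InU z t w := (D.K.ker w hwC).mp (by
      rw [hwe, D.K.add _ hex _ (mul_mem hz0 hm0), D.K.add _ hz0 _ hm0, hνm0,
        (D.K.ker _ hz0).mpr (by
          rcases two_eq k0 with rfl | rfl
          · rw [zp_zero]; exact Or.inl rfl
          · rw [zp_one]; exact Or.inr (Or.inl rfl)), zero_add]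
      exact add_self _)
    have hw2 := (D.H.U_inv D.sing hwU).2
    have hfix : w * q0 * w = q0 := by
      have e1 : (y : G) * (q0 * q0) * (y : G)⁻¹ = q0 * q0 := by
        rcases D.H.h.sq q0 hq0Q with e | e <;> rw [e]
        · group
        · rw [hyz, mul_inv_cancel_right]
      rw [show (y : G) * (q0 * q0) * (y : G)⁻¹
          = ((y : G) * q0 * (y : G)⁻¹) * ((y : G) * q0 * (y : G)⁻¹) by group,
        show (y : G) * q0 * (y : G)⁻¹ = w * q0 by rw [hw]; group, ← mul_assoc] at e1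
      exact mul_right_cancel e1
    have hcom : q0 * w * q0⁻¹ = w := by
      calc q0 * w * q0⁻¹ = w⁻¹ * (w * q0 * w) * q0⁻¹ := by group
        _ = w := by rw [hfix, hw2, mul_inv_cancel_right]
    have hyq : (y : G) * q0 * (y : G)⁻¹ = w * q0 := by rw [hw]; group
    rcases hwU with e | e | e | e
    · exact ⟨0, by rw [hyq, e, zp_zero]⟩
    · exact ⟨1, by rw [hyq, e, zp_one]⟩
    · rw [e, hq0t] at hcom
      exact absurd hcom (D.H.h.z_mul_ne t)
    · rw [e] at hcom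
      exfalso
      refine D.H.h.z_mul_ne t (Eq.symm ?_)
      calc t = z * (z * t) := (D.H.h.z_mul_z_mul t).symm
        _ = z * (q0 * t * q0⁻¹) := by rw [hq0t]
        _ = (q0 * z) * t * q0⁻¹ := by rw [D.H.h.comm q0 hq0Q]; group
        _ = z * t := by rw [← hcom]; group
  have hq0c : ∀ a ∈ Cx Q t,
      q0 * ((y : G) * a * (y : G)⁻¹ * a⁻¹) = ((y : G) * a * (y : G)⁻¹ * a⁻¹) * q0 := by
    intro a ha
    obtain ⟨k, hk⟩ : ∃ k, q0 * a * q0⁻¹ = zp z k * a := by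
      rcases D.H.h.conj q0 hq0Q a (mem_Cx.mp ha).1 with e | e
      · exact ⟨0, by rw [zp_zero, one_mul]; exact e⟩
      · exact ⟨1, by rw [zp_one]; exact e⟩
    have hq0y : q0 * (y : G) = (y : G) * (zp z i * q0) := by
      rw [← hi]
      calc q0 * (y : G) = ((y : G) * y) * q0 * (y : G) := by rw [hyy, one_mul]
        _ = (y : G) * ((y : G) * q0 * (y : G)⁻¹) := by rw [hyi]; group
    have hq0y' : q0 * (y : G)⁻¹ = (y : G)⁻¹ * (zp z i * q0) := by rw [hyi]; exact hq0y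
    refine mul_inv_eq_iff_eq_mul.mp ?_
    calc q0 * ((y : G) * a * (y : G)⁻¹ * a⁻¹) * q0⁻¹
        = (q0 * (y : G)) * a * (y : G)⁻¹ * a⁻¹ * q0⁻¹ := by group
      _ = (y : G) * zp z i * (q0 * a * q0⁻¹) * (q0 * (y : G)⁻¹) * a⁻¹ * q0⁻¹ := by
          rw [hq0y]; group
      _ = ((y : G) * zp z i) * zp z k * a * (y : G)⁻¹ * zp z i * (q0 * a⁻¹ * q0⁻¹) := by
          rw [hk, hq0y']; group
      _ = (zp z i * (y : G) * zp z k) * a * (y : G)⁻¹ * zp z i * a⁻¹ * (zp z k)⁻¹ := by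
          rw [show q0 * a⁻¹ * q0⁻¹ = (q0 * a * q0⁻¹)⁻¹ by group, hk, D.zp_comm hyz i]; group
      _ = zp z i * zp z k * ((y : G) * a * (y : G)⁻¹) * (zp z i * a⁻¹) * (zp z k)⁻¹ := by
          rw [mul_assoc (zp z i) (y : G), D.zp_comm hyz k]; group
      _ = (y : G) * a * (y : G)⁻¹ * a⁻¹ := by
          have hcen : ∀ j, ∀ u ∈ Cx Q t, u * zp z j = zp z j * u :=
            fun j u hu => D.zp_comm (D.H.h.comm u (mem_Cx.mp hu).1) j
          have hzi : ∀ j, zp z j ∈ Cx Q t := fun j => by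
            rcases two_eq j with rfl | rfl
            · rw [zp_zero]; exact one_mem _
            · rw [zp_one]; exact D.H.z_mem D.sing
          have hma := D.H.conj_Cx y.2 ha
          have hzz : ∀ j, zp z j * zp z j = 1 := fun j => by
            rw [← zp_add D.H.h.zz, CharTwo.add_self_eq_zero, zp_zero]
          calc zp z i * zp z k * ((y : G) * a * (y : G)⁻¹) * (zp z i * a⁻¹) * (zp z k)⁻¹
              = zp z i * zp z k * (((y : G) * a * (y : G)⁻¹) * zp z i) * a⁻¹ * (zp z k)⁻¹ := by group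
            _ = zp z i * (zp z k * zp z i) * ((y : G) * a * (y : G)⁻¹ * a⁻¹) * (zp z k)⁻¹ := by
                rw [hcen i _ hma]; group
            _ = zp z k * ((y : G) * a * (y : G)⁻¹ * a⁻¹) * (zp z k)⁻¹ := by
                rw [hcen i _ (hzi k), ← mul_assoc (zp z i), hzz, one_mul]
            _ = _ := by
                rw [← hcen k _ (mul_mem hma (inv_mem ha)), mul_inv_cancel_right]
  obtain ⟨a₁, ha₁, hν₁⟩ := D.K.surj v₁
  obtain ⟨hm, hνm⟩ := D.comm_key y ha₁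
  rw [hc, hν₁, σ4_act, v_spec.1, v_spec.2.1, one_smul, zero_smul, zero_add] at hνm
  have hq0m := hq0c a₁ ha₁
  obtain ⟨m, hmd⟩ : ∃ m, m = (y : G) * a₁ * (y : G)⁻¹ * a₁⁻¹ := ⟨_, rfl⟩
  rw [← hmd] at hm hνm hq0m
  have hsing : Sing Q z m := by
    refine ⟨(mem_Cx.mp hm).1, ?_, fun e => chosen.2.2.2.2.2.2.2.2.1 ?_,
      fun e => chosen.2.2.2.2.2.2.2.2.1 ?_⟩
    · rw [D.K.sq m hm, hνm, chosen.2.1, zp_zero]
    · rw [← hνm, e]; exact D.H.nu_one D.sing D.K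
    · rw [← hνm, e]; exact (D.K.ker z (D.H.z_mem D.sing)).mpr (Or.inr (Or.inl rfl))
  have hmy : m * (y : G) = (y : G) * m := by
    refine (mul_inv_eq_iff_eq_mul.mp ?_).symm
    calc (y : G) * m * (y : G)⁻¹
        = ((y : G) * y) * a₁ * ((y : G) * y)⁻¹ * ((y : G) * a₁ * (y : G)⁻¹)⁻¹ := by
          rw [hmd]; group
      _ = m⁻¹ := by rw [hyy, hmd]; group
      _ = m := inv_eq_of_mul_eq_one_right hsing.2.1
  have hin : ∀ a ∈ Cx Q t, a * m = m * a →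
      ∃ j l, (y : G) * a * (y : G)⁻¹ = zp z j * zp m l * a := by
    intro a ha hcom
    have hβ : B (ν a) β₀ = 0 := by
      have h := D.comm_Cx ha hm
      rw [hcom, mul_inv_cancel_right, mul_inv_cancel, hνm] at h
      exact (congrArg Prod.fst (D.vv_inj ((vv_zero z t).trans h))).symm
    rcases two_eq (B (ν a) α₀) with e | e
    · obtain ⟨j, hj⟩ := hEy a ha ⟨e, hβ⟩
      exact ⟨j, 0, by rw [hj, zp_zero, mul_one]⟩
    · obtain ⟨j, hj⟩ := hEy (a₁⁻¹ * a) (mul_mem (inv_mem ha₁) ha) (by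
        rw [D.K.add _ (inv_mem ha₁) a ha, D.H.nu_inv D.sing D.K ha₁, hν₁]
        exact ⟨by rw [B_add_left, e, v_spec.1]; rfl, by rw [B_add_left, hβ, v_spec.2.1, add_zero]⟩)
      refine ⟨j, 1, ?_⟩
      have e1 : (m * a₁) * zp z j = zp z j * (m * a₁) :=
        D.zp_comm (D.H.h.comm _ (Q.mul_mem hsing.1 (mem_Cx.mp ha₁).1)) j
      calc (y : G) * a * (y : G)⁻¹
          = ((y : G) * a₁ * (y : G)⁻¹) * ((y : G) * (a₁⁻¹ * a) * (y : G)⁻¹) := by group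
        _ = (m * a₁) * zp z j * (a₁⁻¹ * a) := by rw [hj, hmd]; group
        _ = zp z j * zp m 1 * a := by rw [e1, zp_one]; group
  obtain ⟨c', hc'z, hc't, hy'⟩ := D.to_t hyz hsing hmy
  refine ⟨c' * (c : G), ?_⟩
  rw [show c' * (c : G) * (x : G) * (c' * (c : G))⁻¹ = c' * (y : G) * c'⁻¹ by rw [hyv]; group]
  refine D.mem_R_iff.mp ⟨hy', fun a ha => ?_⟩
  obtain ⟨hqQ, hqm⟩ := D.back_Q hc'z hc't ha
  obtain ⟨q, hq⟩ : ∃ q, q = c'⁻¹ * a * c' := ⟨_, rfl⟩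
  rw [← hq] at hqQ hqm
  obtain ⟨j, l, hjl⟩ : ∃ j l, (y : G) * q * (y : G)⁻¹ = zp z j * zp m l * q := by
    by_cases hqC : q * t = t * q
    · exact hin q (mem_Cx.mpr ⟨hqQ, hqC⟩) hqm
    · have haC := D.outside hqQ hqC hq0Q hq0out
      obtain ⟨b, hb⟩ : ∃ b, b = q0⁻¹ * q := ⟨_, rfl⟩
      rw [← hb] at haC
      have hqb : q = q0 * b := by rw [hb]; group
      have hbm : Commute b m := by
        rw [hb]
        exact (show Commute q0 m from hq0m).inv_left.mul_left hqm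
      obtain ⟨j, l, hjl⟩ := hin b haC hbm.eq
      refine ⟨i + j, l, ?_⟩
      have e1 : q0 * zp z j = zp z j * q0 := D.zp_comm (D.H.h.comm q0 hq0Q) j
      have e2 : q0 * zp m l = zp m l * q0 := by
        rcases two_eq l with rfl | rfl
        · rw [zp_zero, mul_one, one_mul]
        · rw [zp_one]; exact hq0m
      calc (y : G) * q * (y : G)⁻¹
          = ((y : G) * q0 * (y : G)⁻¹) * ((y : G) * b * (y : G)⁻¹) := by rw [hqb]; group
        _ = zp z i * (q0 * zp z j) * zp m l * b := by rw [hi, hjl]; group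
        _ = zp z i * zp z j * (q0 * zp m l) * b := by rw [e1]; group
        _ = zp z (i + j) * zp m l * q := by rw [e2, zp_add D.H.h.zz, hqb]; group
  have hfin : c' * (y : G) * c'⁻¹ * a * (c' * (y : G) * c'⁻¹)⁻¹ * a⁻¹ = vv z t (j, l) := by
    calc c' * (y : G) * c'⁻¹ * a * (c' * (y : G) * c'⁻¹)⁻¹ * a⁻¹
        = c' * ((y : G) * q * (y : G)⁻¹ * q⁻¹) * c'⁻¹ := by rw [hq]; group
      _ = (c' * zp z j) * zp m l * c'⁻¹ := by rw [hjl]; group
      _ = zp z j * (c' * zp m l * c'⁻¹) := by rw [D.zp_comm hc'z]; group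
      _ = vv z t (j, l) := by
          rw [vv]
          congr 1
          rcases two_eq l with rfl | rfl
          · rw [zp_zero, zp_zero]; group
          · rw [zp_one, zp_one]; exact hc't
  rw [hfin]
  exact D.inU_iff.mpr (D.vv_mem _)

end Ctx

end Cfsg.Agent.ConwayTypeRadical62
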