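import Mathlib
import Cfsg.Agent.Lib.ConwayTypeCentral62
import Cfsg.Agent.Lib.ConwayTypeFusion62

/-!
# The singular outer class of a group of Conway type is not the class of `z`
-/

set_option autoImplicit false
set_option maxRecDepth 100000

namespace Cfsg.Agent.ConwayTypeRadical62

open Subgroup Cfsg.Agent.LargeExtraspecial Cfsg.Agent.LargeExtraspecialPair
open Cfsg.Agent.ConwayTypeModel62 Cfsg.Agent.ConwayTypeCoord62

variable {G : Type*} [Group G] [Finite G]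

theorem B_radical : ∀ v : M6, (∀ u, B v u = 0) → v = 0 := by decide +kernel

namespace Ctx

variable {Q Q' : Subgroup G} {z t : G} {ν : G → M6} {d : G}
  {ρ : ↥(Sx z t) →* P8} (D : Ctx Q Q' z t ν d ρ)
include D

theorem ne_of_coord {a₀ b₀ : G} (ha₀ : a₀ ∈ Cx Q t) (hb₀ : b₀ ∈ Cx Q' z) (hα : ν a₀ = α₀)
    (hβ : ev ν d b₀ = β₀) :
    a₀ * b₀ ∉ Q ∧ a₀ * b₀ ∉ Q' ∧ d⁻¹ * (a₀ * b₀) * d ∉ Q' := by
  obtain ⟨-, -, -, -, -, -, hne, hα0, hβ0, -⟩ := chosen
  refine ⟨fun h => hβ0 ?_, fun h => hα0 ?_, fun h => hne ?_⟩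
  · rw [← hβ]
    refine (D.ev_eq_zero hb₀).mpr ?_
    rw [← D.E_eq]
    refine ⟨?_, (mem_Cx.mp hb₀).1⟩
    have := Q.mul_mem (Q.inv_mem (mem_Cx.mp ha₀).1) h
    rwa [inv_mul_cancel_left] at this
  · rw [← hα]
    refine (D.K.ker a₀ ha₀).mpr (D.inU_iff.mpr ?_)
    rw [← D.E_eq]
    refine ⟨(mem_Cx.mp ha₀).1, ?_⟩
    have := Q'.mul_mem h (Q'.inv_mem (mem_Cx.mp hb₀).1)
    rwa [mul_inv_cancel_right] at this
  · have hyz : Commute (a₀ * b₀) z :=
      (show Commute a₀ z from D.H.h.comm a₀ (mem_Cx.mp ha₀).1).mul_left (mem_Cx.mp hb₀).2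
    have hdz : Commute d z := D.H.h.comm d D.hd
    have hw : d⁻¹ * (a₀ * b₀) * d ∈ Cx Q' z :=
      mem_Cx.mpr ⟨h, ((hdz.inv_left.mul_left hyz).mul_left hdz).eq⟩
    obtain ⟨a₁, ha₁, he₁, hd₁⟩ := D.d_conj_C' hw
    rw [show d * (d⁻¹ * (a₀ * b₀) * d) * d⁻¹ = a₀ * b₀ by group] at hd₁
    obtain ⟨u1, u2⟩ := D.decomp_unique ha₀ hb₀ ha₁ hw hd₁
    rw [← hα, u1, he₁, ← u2, hβ]

/-- No nontrivial element of the four group is moved into `Q`. -/
theorem V_not_Q {y h : G} (hy : D.Rep α₀ β₀ y) (hh : h * z * h⁻¹ = y) :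
    ∀ v ∈ D.P.V, h⁻¹ * v * h ∈ Q → v = 1 := by
  obtain ⟨a₀, ha₀, b₀, hb₀, hα, hβ, hy'⟩ := hy
  obtain ⟨nQ, nQ', ndQ'⟩ := D.ne_of_coord ha₀ hb₀ hα hβ
  rw [← hy'] at nQ nQ' ndQ'
  obtain ⟨gt, hgt⟩ := isConj_iff.mp D.tz
  have hcQ : 32 ≤ Nat.card Q := by rw [D.H.cardQ]; norm_num
  -- `Q'` is the conjugate of `Q` belonging to `t`
  have hQ'g : Q.map (MulAut.conj gt).toMonoidHom ≤ Q' := by
    rintro _ ⟨w, hw, rfl⟩
    have hQ'card : Nat.card Q' = 512 := D.H'.cardQ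
    let φ : ↥Q' → ↥Q := fun u =>
      ⟨(D.P.conj_eq 1 gt (by rw [hgt]; group) u u.2).choose,
        (D.P.conj_eq 1 gt (by rw [hgt]; group) u u.2).choose_spec.1⟩
    have hφ : ∀ u : ↥Q', (u : G) = gt * (φ u : G) * gt⁻¹ := fun u => by
      have := (D.P.conj_eq 1 gt (by rw [hgt]; group) u u.2).choose_spec.2
      simpa [φ] using this
    have hinj : Function.Injective φ := fun u v e => Subtype.ext (by rw [hφ u, hφ v, e])
    obtain ⟨u, hu⟩ := (Nat.bijective_iff_injective_and_card φ).mpr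
      ⟨hinj, hQ'card.trans D.H.cardQ.symm⟩ |>.2 ⟨w, hw⟩
    have := hφ u
    rw [hu] at this
    simp only [MulEquiv.coe_toMonoidHom, MulAut.conj_apply]
    rw [← this]
    exact u.2
  have key : ∀ g : G, h⁻¹ * (g * z * g⁻¹) * h ∈ Q → y ≠ g * z * g⁻¹ →
      g⁻¹ * y * g ∈ Q := by
    intro g hg hne
    have h1 : (h⁻¹ * g) * z * (h⁻¹ * g)⁻¹ ∈ Q := by
      rw [show (h⁻¹ * g) * z * (h⁻¹ * g)⁻¹ = h⁻¹ * (g * z * g⁻¹) * h by group]
      exact hg
    have h2 : (h⁻¹ * g) * z * (h⁻¹ * g)⁻¹ ≠ z := fun e => hne (by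
      calc y = h * ((h⁻¹ * g) * z * (h⁻¹ * g)⁻¹) * h⁻¹ := by rw [e, hh]
        _ = g * z * g⁻¹ := by group)
    obtain ⟨w, hw, ew⟩ := D.H.h.z_mem_conj h1 h2 hcQ
    simp only [MulEquiv.coe_toMonoidHom, MulAut.conj_apply] at ew
    rw [show g⁻¹ * y * g = w by rw [← hh, ← ew]; group]
    exact hw
  intro v hv hvQ
  rcases D.P.mem_V.mp hv with e | e | e | e
  · exact e
  · exfalso
    have := key 1 (by simpa [← e] using hvQ) fun e' => nQ (by rw [e']; simpa using D.H.h.mem)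
    exact nQ (by simpa using this)
  · exfalso
    have := key gt (by rw [hgt, ← e]; exact hvQ)
      fun e' => nQ' (by rw [e', hgt]; exact D.P.h'.mem)
    exact nQ' (hQ'g ⟨_, this, by simp only [MulEquiv.coe_toMonoidHom, MulAut.conj_apply]; group⟩)
  · exfalso
    have hzt' : d * gt * z * (d * gt)⁻¹ = z * t := by
      rw [show d * gt * z * (d * gt)⁻¹ = d * (gt * z * gt⁻¹) * d⁻¹ by group, hgt, D.ed]
    have := key (d * gt) (by rw [hzt', ← e]; exact hvQ) fun e' => nQ (by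
      rw [e', hzt']; exact Q.mul_mem D.H.h.mem D.P.z'Q)
    refine ndQ' (hQ'g ⟨_, this, ?_⟩)
    simp only [MulEquiv.coe_toMonoidHom, MulAut.conj_apply]
    group

/-- The singular representative is not conjugate to `z`. -/
theorem not_conj_z {y : G} (hy : D.Rep α₀ β₀ y) : ¬ IsConj z y := by
  classical
  haveI : Fact (Nat.Prime 2) := ⟨Nat.prime_two⟩
  intro hconj
  obtain ⟨h, hh⟩ := isConj_iff.mp hconj
  have hVQ := D.V_not_Q hy hh
  obtain ⟨hyR, hcdy⟩ := Rep.mem D hy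
  have hyz : y * z = z * y := (mem_Sx.mp (D.R_le_Sx hyR)).1
  set M := Sx z t ⊓ centralizer ({y} : Set G) with hMdef
  have hMmem : ∀ m ∈ M, m * z = z * m ∧ m * y = y * m := fun m hm =>
    ⟨(mem_Sx.mp hm.1).1, mem_centralizer_singleton_iff.mp hm.2⟩
  have hconjC : ∀ m, m * y = y * m → (h⁻¹ * m * h) * z = z * (h⁻¹ * m * h) := by
    intro m hm
    calc h⁻¹ * m * h * z = h⁻¹ * (m * (h * z * h⁻¹)) * h := by group
      _ = h⁻¹ * (h * z * h⁻¹ * m) * h := by rw [hh, hm]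
      _ = z * (h⁻¹ * m * h) := by group
  obtain ⟨x, hx⟩ : ∃ x, x = h⁻¹ * z * h := ⟨_, rfl⟩
  have hxz : x * z = z * x := by rw [hx]; exact hconjC z hyz.symm
  have hmx : ∀ m, m * z = z * m → (h⁻¹ * m * h) * x = x * (h⁻¹ * m * h) := by
    intro m hm
    calc h⁻¹ * m * h * x = h⁻¹ * (m * z) * h := by rw [hx]; group
      _ = h⁻¹ * (z * m) * h := by rw [hm]
      _ = x * (h⁻¹ * m * h) := by rw [hx]; group
  set F := Q ⊓ centralizer ({x} : Set G) with hF
  set C := centralizer ({z} : Set G) with hC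
  let Qc := Q.subgroupOf C
  haveI : Qc.Normal := ⟨fun a ha c => D.H.h.norm c (mem_centralizer_singleton_iff.mp c.2) a ha⟩
  let φ := QuotientGroup.mk' Qc
  have hφ : ∀ a, φ a = 1 ↔ (a : G) ∈ Q := fun a => QuotientGroup.eq_one_iff a
  rcases le_or_gt (Nat.card F) 32 with hsmall | hbig
  · have hbar : Nat.card (↥C ⧸ Qc) = 174182400 := by
      have h1 := Subgroup.card_eq_card_quotient_mul_card_subgroup Qc
      rw [show Nat.card ↥C = _ from D.H.cardC, Nat.card_congr (Subgroup.subgroupOfEquivOfLe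
        (show Q ≤ C from fun a ha =>
          mem_centralizer_singleton_iff.mpr (D.H.h.comm a ha))).toEquiv, D.H.cardQ] at h1
      omega
    let ι : ↥M →* ↥C := MonoidHom.mk'
      (fun m => ⟨h⁻¹ * (m : G) * h,
        mem_centralizer_singleton_iff.mpr (hconjC _ (hMmem _ m.2).2)⟩) fun m m' => Subtype.ext (by
        simp only [coe_mul]; group)
    let ψ := φ.comp ι
    have hker : Nat.card ψ.ker ≤ 32 := by
      refine (Nat.card_le_card_of_injective (fun m : ↥ψ.ker => (⟨h⁻¹ * ((m : ↥M) : G) * h,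
        (hφ _).mp m.2, mem_centralizer_singleton_iff.mpr (hmx _ (hMmem _ (m : ↥M).2).1)⟩ : ↥F))
        fun a b e => ?_).trans hsmall
      have e' : h⁻¹ * ((a : ↥M) : G) * h = h⁻¹ * ((b : ↥M) : G) * h := congrArg Subtype.val e
      exact Subtype.ext (Subtype.ext (mul_left_cancel (mul_right_cancel e')))
    have hMp : IsPGroup 2 M := IsPGroup.of_card (n := 17) (D.big_centralizer hy)
    have hTp : IsPGroup 2 ψ.range := hMp.of_surjective ψ.rangeRestrict ψ.rangeRestrict_surjective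
    have hT : 4096 ≤ Nat.card ψ.range := by
      have h1 := Subgroup.card_mul_index ψ.ker
      rw [Subgroup.index_ker, show Nat.card ↥M = _ from D.big_centralizer hy] at h1
      have := Nat.mul_le_mul_right (Nat.card ψ.range) hker
      omega
    obtain ⟨P2, hP2⟩ := hTp.exists_le_sylow
    have hP2eq : (P2 : Subgroup _) = ψ.range := by
      refine (Subgroup.eq_of_le_of_card_ge hP2 ?_).symm
      obtain ⟨k, hk⟩ := P2.isPGroup'.exists_card_eq
      have hd := Subgroup.card_subgroup_dvd_card (P2 : Subgroup (↥C ⧸ Qc))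
      rw [hbar, hk] at hd
      have hk12 : k ≤ 12 := by
        by_contra hlt
        have : 2 ^ 13 ∣ 174182400 := (pow_dvd_pow 2 (by omega : 13 ≤ k)).trans hd
        norm_num at this
      rw [hk]
      exact (Nat.pow_le_pow_right (by norm_num) hk12).trans hT
    let κ : ↥(Cx Q' z) →* ↥C ⧸ Qc := φ.comp (Subgroup.inclusion fun b hb =>
      mem_centralizer_singleton_iff.mpr (mem_Cx.mp hb).2)
    have hC'p : IsPGroup 2 (Cx Q' z) := IsPGroup.of_card (n := 8) (by rw [D.card_C']; norm_num)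
    obtain ⟨P1, hP1⟩ := (hC'p.of_surjective κ.rangeRestrict
      κ.rangeRestrict_surjective).exists_le_sylow
    obtain ⟨g, hg⟩ := MulAction.exists_smul_eq (↥C ⧸ Qc) P1 P2
    obtain ⟨g, rfl⟩ := QuotientGroup.mk'_surjective Qc g
    obtain ⟨x₁, hx₁⟩ : ∃ x₁ : ↥C, x₁ = g⁻¹ * ⟨x, mem_centralizer_singleton_iff.mpr hxz⟩ * g :=
      ⟨_, rfl⟩
    have hx₁v : (x₁ : G) = (g : G)⁻¹ * x * (g : G) := congrArg Subtype.val hx₁
    have hcomm : ∀ b : ↥(Cx Q' z), Commute (φ x₁) (κ b) := by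
      intro b
      obtain ⟨m, hm⟩ : φ g * κ b * (φ g)⁻¹ ∈ ψ.range := by
        rw [← hP2eq, ← hg, Sylow.coe_subgroup_smul]
        exact ⟨κ b, hP1 ⟨b, rfl⟩, rfl⟩
      have hc : Commute (φ ⟨x, mem_centralizer_singleton_iff.mpr hxz⟩) (ψ m) :=
        (show Commute (⟨x, mem_centralizer_singleton_iff.mpr hxz⟩ : ↥C) (ι m) from
          Subtype.ext (hmx _ (hMmem _ m.2).1).symm).map φ
      have hκ : κ b = (φ g)⁻¹ * ψ m * φ g := by rw [hm]; group
      rw [hκ, hx₁, map_mul, map_mul, map_inv]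
      show _ * _ = _ * _
      calc (φ g)⁻¹ * φ ⟨x, mem_centralizer_singleton_iff.mpr hxz⟩ * φ g
            * ((φ g)⁻¹ * ψ m * φ g)
          = (φ g)⁻¹ * (φ ⟨x, mem_centralizer_singleton_iff.mpr hxz⟩ * ψ m) * φ g := by group
        _ = (φ g)⁻¹ * (ψ m * φ ⟨x, mem_centralizer_singleton_iff.mpr hxz⟩) * φ g := by rw [hc.eq]
        _ = _ := by group
    have hbQ : ∀ b ∈ Cx Q' z, (x₁ : G)⁻¹ * b * (x₁ : G) * b⁻¹ ∈ Q := by
      intro b hb
      obtain ⟨bb, hbb⟩ : ∃ bb : ↥C, bb = ⟨b, mem_centralizer_singleton_iff.mpr (mem_Cx.mp hb).2⟩ :=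
        ⟨_, rfl⟩
      have hc : Commute (φ x₁) (φ bb) := by rw [hbb]; exact hcomm ⟨b, hb⟩
      have hφ1 : φ (x₁⁻¹ * bb * x₁ * bb⁻¹) = 1 := by
        rw [map_mul, map_mul, map_mul, map_inv, map_inv, mul_assoc (φ x₁)⁻¹, ← hc.eq]
        group
      have := (hφ _).mp hφ1
      rw [hbb] at this
      exact this
    have hxz₁ : (x₁ : G) * z = z * (x₁ : G) := mem_centralizer_singleton_iff.mp x₁.2
    obtain ⟨w, hw⟩ : ∃ w, w = (x₁ : G) * t * (x₁ : G)⁻¹ := ⟨_, rfl⟩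
    have hwQ : w ∈ Q := hw ▸ D.H.h.norm _ hxz₁ t D.sing.1
    have hbw : ∀ b ∈ Cx Q' z, ∃ i, b * w * b⁻¹ = zp z i * w := by
      intro b hb
      obtain ⟨i, hi⟩ : ∃ i, ((x₁ : G)⁻¹ * b * (x₁ : G) * b⁻¹) * t
          * ((x₁ : G)⁻¹ * b * (x₁ : G) * b⁻¹)⁻¹ = zp z i * t := by
        rcases D.H.h.conj _ (hbQ b hb) t D.sing.1 with e | e
        · exact ⟨0, by rw [zp_zero, one_mul]; exact e⟩
        · exact ⟨1, by rw [zp_one]; exact e⟩
      refine ⟨i, ?_⟩
      obtain ⟨q, hq⟩ : ∃ q, q = (x₁ : G)⁻¹ * b * (x₁ : G) * b⁻¹ := ⟨_, rfl⟩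
      rw [← hq] at hi
      have hbt : b * t * b⁻¹ = t := by
        rw [(mem_Sx.mp (D.C'_le_Sx hb)).2, mul_inv_cancel_right]
      calc b * w * b⁻¹ = (x₁ : G) * (q * (b * t * b⁻¹) * q⁻¹) * (x₁ : G)⁻¹ := by
            rw [hw, hq]; group
        _ = ((x₁ : G) * zp z i) * t * (x₁ : G)⁻¹ := by rw [hbt, hi]; group
        _ = zp z i * w := by rw [D.zp_comm hxz₁, hw]; group
    have hwU : InU z t w := by
      by_cases hwt : w * t = t * w
      · have hwC : w ∈ Cx Q t := mem_Cx.mpr ⟨hwQ, hwt⟩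
        refine (D.K.ker w hwC).mp
          (B_radical _ fun u => ?_)
        obtain ⟨b, hb, rfl⟩ := D.ev_surj u
        obtain ⟨i, hi⟩ := hbw b hb
        have h1 := D.comm_ab w hwC b hb
        have h2 : w * b * w⁻¹ * b⁻¹ = vv z t (i, 0) := by
          rw [show w * b * w⁻¹ * b⁻¹ = (b * w * b⁻¹ * w⁻¹)⁻¹ by group, hi, mul_inv_cancel_right,
            ← D.vv_inv (i, 0), vv, zp_zero, mul_one]
        rw [h1] at h2
        exact congrArg Prod.snd (D.vv_inj h2)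
      · exfalso
        have haC := D.outside hwQ hwt D.hd D.d_out
        obtain ⟨a, rfl⟩ : ∃ a, w = d * a := ⟨d⁻¹ * w, by group⟩
        rw [inv_mul_cancel_left] at haC
        obtain ⟨b, hb, hbα⟩ := D.ev_surj α₀
        obtain ⟨i, hi⟩ := hbw b hb
        obtain ⟨p, hp⟩ := D.vv_surj (D.comm_V (D.C'_le_R hb) (D.Cx_le_R haC))
        have hU : ∀ q, vv z t q ∈ Cx Q t ∧ ν (vv z t q) = 0 := fun q =>
          ⟨D.V_le_Cx (D.vv_mem q), (D.K.ker _ (D.V_le_Cx (D.vv_mem q))).mpr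
            (D.inU_iff.mpr (D.vv_mem q))⟩
        have hw' : b * (d * a) * b⁻¹ * (d * a)⁻¹
            = (b * d * b⁻¹ * d⁻¹) * vv z t (p.1 + p.2, p.2) := by
          rw [← D.d_vv, ← hp]; group
        have h0 := congrArg ν hw'
        rw [hi, mul_inv_cancel_right, D.K.add _ (D.ev_mem (D.C'_le_Sx hb)) _ (hU _).1, (hU _).2,
          add_zero, show zp z i = vv z t (i, 0) by rw [vv, zp_zero, mul_one], (hU _).2] at h0
        refine chosen.2.2.2.2.2.2.2.1 ?_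
        rw [← hbα, ev, ← h0]
    obtain ⟨e, heQ, het⟩ : ∃ e ∈ Q, e * w * e⁻¹ = t := by
      rcases hwU with u | u | u | u
      · rw [hw] at u
        exact absurd (conj_eq_one_iff.mp u) D.sing.2.2.1
      · exfalso
        refine D.sing.2.2.2 ?_
        calc t = (x₁ : G)⁻¹ * w * (x₁ : G) := by rw [hw]; group
          _ = z := by rw [u, mul_assoc, ← hxz₁, inv_mul_cancel_left]
      · exact ⟨1, one_mem _, by rw [u]; group⟩
      · refine ⟨d⁻¹, Q.inv_mem D.hd, ?_⟩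
        rw [u, ← D.ed]
        group
    have hez : e * z = z * e := D.H.h.comm e heQ
    obtain ⟨x₂, hx₂⟩ : ∃ x₂ : ↥(Sx z t), (x₂ : G) = e * (x₁ : G) := by
      refine ⟨⟨e * (x₁ : G), mem_Sx.mpr ⟨?_, ?_⟩⟩, rfl⟩
      · exact ((show Commute e z from hez).mul_left hxz₁).eq
      · refine mul_inv_eq_iff_eq_mul.mp ?_
        calc e * (x₁ : G) * t * (e * (x₁ : G))⁻¹ = e * w * e⁻¹ := by rw [hw]; group
          _ = t := het
    have hρ : ρ x₂ = 1 := by
      refine act_inj fun v => ?_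
      obtain ⟨b, hb, rfl⟩ := D.ev_surj v
      rw [act_one, ← D.ev_conj hb]
      have hc := D.conj_C' x₂.2 hb
      have hQ : (x₂ : G) * b * (x₂ : G)⁻¹ * b⁻¹ ∈ Q := by
        obtain ⟨bb, hbb⟩ : ∃ bb : ↥C, bb = ⟨b, mem_centralizer_singleton_iff.mpr (mem_Cx.mp hb).2⟩ :=
          ⟨_, rfl⟩
        obtain ⟨ee, hee⟩ : ∃ ee : ↥C, ee = ⟨e, mem_centralizer_singleton_iff.mpr hez⟩ := ⟨_, rfl⟩
        have hc1 : Commute (φ x₁) (φ bb) := by rw [hbb]; exact hcomm ⟨b, hb⟩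
        have he1 : φ ee = 1 := (hφ _).mpr (by rw [hee]; exact heQ)
        have hφ1 : φ (ee * x₁ * bb * (ee * x₁)⁻¹ * bb⁻¹) = 1 := by
          rw [map_mul, map_mul, map_inv, map_inv, map_mul, map_mul, he1, one_mul, hc1.eq]
          group
        have := (hφ _).mp hφ1
        rw [hbb, hee] at this
        rw [hx₂]
        exact this
      have hV : (x₂ : G) * b * (x₂ : G)⁻¹ * b⁻¹ ∈ D.P.V := by
        rw [← D.E_eq]
        exact ⟨hQ, (mem_Cx.mp (mul_mem hc (inv_mem hb))).1⟩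
      have h0 := (D.ev_eq_zero (mul_mem hc (inv_mem hb))).mpr hV
      rw [D.ev_mul (D.triv_of_R (D.C'_le_R hc)) (D.C'_le_Sx (inv_mem hb)), D.ev_inv hb] at h0
      exact (eq_of_add h0).symm
    obtain ⟨a, ha, b, hb, hab⟩ := D.decomp (D.rho_R.mp hρ)
    obtain ⟨q, hq⟩ : ∃ q, q = e⁻¹ * a := ⟨_, rfl⟩
    have hqQ : q ∈ Q := hq ▸ Q.mul_mem (Q.inv_mem heQ) (mem_Cx.mp ha).1
    have hx₁q : (x₁ : G) = q * b := by
      rw [hq, mul_assoc, ← hab, hx₂, inv_mul_cancel_left]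
    have hV4 : ∀ a' ∈ Cx Q t, (x₁ : G) * a' * (x₁ : G)⁻¹ * a'⁻¹ ∈ D.P.V := by
      intro a' ha'
      have hv := D.comm_V (D.C'_le_R hb) (D.Cx_le_R ha')
      set v := b * a' * b⁻¹ * a'⁻¹ with hvd
      have hva : v * a' ∈ Q := Q.mul_mem (mem_Cx.mp (D.V_le_Cx hv)).1 (mem_Cx.mp ha').1
      have e1 : (x₁ : G) * a' * (x₁ : G)⁻¹ = q * (v * a') * q⁻¹ := by
        rw [hx₁q, hvd]; group
      rw [e1]
      rcases D.H.h.conj q hqQ _ hva with w' | w' <;> rw [w']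
      · rw [mul_inv_cancel_right]; exact hv
      · rw [show z * (v * a') * a'⁻¹ = z * v by group]; exact mul_mem D.P.z_mem_V hv
    let S4 : Finset G := (Finset.univ : Finset (ZMod 2 × ZMod 2)).image fun p =>
      vv z t p * (x₁ : G)
    have h1 := SuzTypeRadical62.card_le_mul_cent (Cx Q t) (x₁ : G) (S4 : Set G) fun a' ha' => by
      obtain ⟨p, hp⟩ := D.vv_surj (hV4 a' ha')
      simp only [S4, Finset.coe_image, Finset.coe_univ, Set.image_univ, Set.mem_range]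
      refine ⟨p, ?_⟩
      rw [← D.vv_inv p, ← hp]
      group
    rw [D.H.card_Cx D.sing.1 D.sing.2.2.1 D.sing.2.2.2, Set.ncard_coe_finset] at h1
    have h4 : S4.card ≤ 4 := Finset.card_image_le.trans (le_of_eq rfl)
    have h2 := h1.trans (Nat.mul_le_mul_right _ h4)
    have hgx : ∀ u : G, u * (x₁ : G) = (x₁ : G) * u →
        (g : G) * u * (g : G)⁻¹ * x = x * ((g : G) * u * (g : G)⁻¹) := by
      intro u e2
      calc (g : G) * u * (g : G)⁻¹ * x = (g : G) * (u * (x₁ : G)) * (g : G)⁻¹ := by rw [hx₁v]; group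
        _ = (g : G) * ((x₁ : G) * u) * (g : G)⁻¹ := by rw [e2]
        _ = x * ((g : G) * u * (g : G)⁻¹) := by rw [hx₁v]; group
    have h3 : Nat.card ↥(Cx Q t ⊓ centralizer ({(x₁ : G)} : Set G)) ≤ 32 := by
      refine (Nat.card_le_card_of_injective
        (fun a' : ↥(Cx Q t ⊓ centralizer ({(x₁ : G)} : Set G)) => (⟨(g : G) * (a' : G) * (g : G)⁻¹,
        D.H.h.norm _ (mem_centralizer_singleton_iff.mp g.2) _ (mem_Cx.mp a'.2.1).1,
        mem_centralizer_singleton_iff.mpr (hgx _ (mem_centralizer_singleton_iff.mp a'.2.2))⟩ : ↥F))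
        fun a b e => ?_).trans hsmall
      have e' : (g : G) * (a : G) * (g : G)⁻¹ = (g : G) * (b : G) * (g : G)⁻¹ :=
        congrArg Subtype.val e
      exact Subtype.ext (mul_left_cancel (mul_right_cancel e'))
    omega
  -- a large centraliser
  have hF64 : 64 ≤ Nat.card F := by
    obtain ⟨k, hk⟩ := (D.H.h.toExt.isPGroup.to_le (inf_le_left : F ≤ Q)).exists_card_eq
    have : 5 < k := (Nat.pow_lt_pow_iff_right (by norm_num : 1 < 2)).mp
      (show (2 : ℕ) ^ 5 < 2 ^ k by rw [← hk]; omega)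
    rw [hk]
    exact (show (64 : ℕ) = 2 ^ 6 by norm_num).le.trans (Nat.pow_le_pow_right (by norm_num) this)
  set Dd := F.map (MulAut.conj h).toMonoidHom with hDd
  have hDcard : Nat.card Dd = Nat.card F :=
    Subgroup.card_map_of_injective (MulAut.conj h).injective
  have hDmem : ∀ e, e ∈ Dd → h⁻¹ * e * h ∈ Q ∧ e * z = z * e ∧ e * y = y * e := by
    rintro _ ⟨u, ⟨hu1, hu2⟩, rfl⟩
    simp only [MulEquiv.coe_toMonoidHom, MulAut.conj_apply]
    have hux : u * x = x * u := mem_centralizer_singleton_iff.mp hu2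
    refine ⟨by rw [show h⁻¹ * (h * u * h⁻¹) * h = u by group]; exact hu1, ?_, ?_⟩
    · calc h * u * h⁻¹ * z = h * (u * x) * h⁻¹ := by rw [hx]; group
        _ = h * (x * u) * h⁻¹ := by rw [hux]
        _ = z * (h * u * h⁻¹) := by rw [hx]; group
    · rw [← hh]
      calc h * u * h⁻¹ * (h * z * h⁻¹) = h * (u * z) * h⁻¹ := by group
        _ = h * (z * u) * h⁻¹ := by rw [D.H.h.comm u hu1]
        _ = h * z * h⁻¹ * (h * u * h⁻¹) := by group
  have hDnorm : ∀ m, m * z = z * m → m * y = y * m → ∀ e ∈ Dd, m * e * m⁻¹ ∈ Dd := by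
    rintro m hmz hmy _ ⟨u, ⟨hu1, hu2⟩, rfl⟩
    refine ⟨(h⁻¹ * m * h) * u * (h⁻¹ * m * h)⁻¹, ⟨D.H.h.norm _ (hconjC m hmy) u hu1,
      mem_centralizer_singleton_iff.mpr ?_⟩, by
        simp only [MulEquiv.coe_toMonoidHom, MulAut.conj_apply]; group⟩
    have h1 : Commute (h⁻¹ * m * h) x := hmx m hmz
    have h2 : Commute u x := mem_centralizer_singleton_iff.mp hu2
    exact ((h1.mul_left h2).mul_left h1.inv_left).eq
  set Y := D.P.R ⊓ centralizer ({y} : Set G) with hYdef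
  have hYM : ∀ r ∈ Y, r * z = z * r ∧ r * y = y * r := fun r hr =>
    ⟨(mem_Sx.mp (D.R_le_Sx hr.1)).1, mem_centralizer_singleton_iff.mp hr.2⟩
  have hzp : ∀ r ∈ Dd, r ∈ D.P.R → D.cd r ∈ zpairs (α₀, β₀) := by
    intro r hr hrR
    refine mem_zpairs (fun v h => perp_perp₀ v h) fun q hq => ?_
    obtain ⟨a', ha', hνa⟩ := D.K.surj q.1
    obtain ⟨b', hb', hνb⟩ := D.ev_surj q.2
    have hsR : a' * b' ∈ D.P.R := mul_mem (D.Cx_le_R ha') (D.C'_le_R hb')
    have hscd : D.cd (a' * b') = q := by rw [D.cd_eq ha' hb', hνa, hνb]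
    have hsy : a' * b' * y = y * (a' * b') := by
      have h1 := D.cd_comm hsR hyR
      rw [hscd, hcdy, hq, show ((0 : ZMod 2), (0 : ZMod 2)) = 0 from rfl, vv_zero] at h1
      exact mul_inv_eq_iff_eq_mul.mp (mul_inv_eq_one.mp h1)
    have hsz := (mem_Sx.mp (D.R_le_Sx hsR)).1
    have hv : r * (a' * b') * r⁻¹ * (a' * b')⁻¹ = 1 := by
      refine hVQ _ (D.comm_V hrR hsR) ?_
      have h2 : r * (a' * b') * r⁻¹ * (a' * b')⁻¹ ∈ Dd := by
        rw [show r * (a' * b') * r⁻¹ * (a' * b')⁻¹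
          = r * ((a' * b') * r⁻¹ * (a' * b')⁻¹) by group]
        exact mul_mem hr (hDnorm _ hsz hsy _ (inv_mem hr))
      exact (hDmem _ h2).1
    rw [D.cd_comm hrR hsR, hscd] at hv
    exact D.vv_inj (hv.trans (vv_zero z t).symm)
  have hDV : ∀ r ∈ Dd, r ∈ D.P.V → r = 1 := fun r hr hrV => hVQ r hrV (hDmem r hr).1
  have hR4 : Nat.card ↥(Dd ⊓ D.P.R) ≤ 4 := by
    refine (Nat.card_le_card_of_injective
      (fun r : ↥(Dd ⊓ D.P.R) => (⟨D.cd (r : G), hzp _ r.2.1 r.2.2⟩ : {p // p ∈ zpairs (α₀, β₀)})) ?_).trans ?_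
    · intro r s e
      have h1 := D.cd_inj r.2.2 s.2.2 (congrArg Subtype.val e)
      exact Subtype.ext (mul_inv_eq_one.mp (hDV _ (mul_mem r.2.1 (inv_mem s.2.1)) h1))
    · rw [Nat.card_eq_fintype_card, Fintype.card_subtype]
      refine le_trans (le_trans (Finset.card_le_card fun p hp => ?_)
        (List.toFinset_card_le (zpairs (α₀, β₀)))) zpairs₀_le
      simpa using hp
  have hspec : ∀ p ∈ zpairs (α₀, β₀), InL p.1 ∧ (p.2 = 0 → p.1 = 0) := fun p hp => by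
    simpa [imp_iff_not_or] using List.all_eq_true.mp zpairs₀_spec p hp
  have hDQt : ∀ e ∈ Dd, e ∈ Q → e * t = t * e → e = 1 := by
    intro e he heQ het
    have heC : e ∈ Cx Q t := mem_Cx.mpr ⟨heQ, het⟩
    have hcd : D.cd e = (ν e, 0) := by
      conv_lhs => rw [← mul_one e]
      rw [D.cd_eq heC (one_mem _), D.ev_one]
    have h1 := hzp e he (D.Cx_le_R heC)
    rw [hcd] at h1
    exact hDV e he (D.inU_iff.mp ((D.K.ker e heC).mp ((hspec _ h1).2 rfl)))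
  set DQ := Dd ⊓ Q with hDQ
  have hDQ2 : Nat.card DQ ≤ 2 := by
    have h1 := SuzTypeRadical62.card_le_mul_cent DQ t {t, z * t} fun q hq => by
      rcases D.H.h.conj q hq.2 t D.sing.1 with e | e <;> rw [e] <;> simp
    have h2 : ({t, z * t} : Set G).ncard ≤ 2 :=
      (Set.ncard_insert_le _ _).trans (by rw [Set.ncard_singleton])
    have h3 : Nat.card ↥(DQ ⊓ centralizer ({t} : Set G)) ≤ 1 := by
      rw [show DQ ⊓ centralizer ({t} : Set G) = ⊥ from (Subgroup.eq_bot_iff_forall _).mpr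
        fun e he => hDQt e he.1.1 he.1.2 (mem_centralizer_singleton_iff.mp he.2)]
      simp
    have := h1.trans (Nat.mul_le_mul h2 h3)
    omega
  set DT := Dd ⊓ centralizer ({t} : Set G) with hDT
  have hty : t * y = y * t := (mem_Sx.mp (D.R_le_Sx hyR)).2.symm
  have hDT32 : 32 ≤ Nat.card DT := by
    have h1 := SuzTypeRadical62.card_le_mul_cent Dd t ((fun e => e * t) '' (DQ : Set G))
      fun q hq => ⟨q * t * q⁻¹ * t⁻¹, ⟨by
        rw [show q * t * q⁻¹ * t⁻¹ = q * (t * q⁻¹ * t⁻¹) by group]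
        exact mul_mem hq (hDnorm t (D.H.h.comm t D.sing.1) hty _ (inv_mem hq)),
        Q.mul_mem (D.H.h.norm q (hDmem q hq).2.1 t D.sing.1) (Q.inv_mem D.sing.1)⟩, by group⟩
    have h2 : ((fun e => e * t) '' (DQ : Set G)).ncard ≤ 2 := by
      refine (Set.ncard_image_le (Set.toFinite _)).trans ?_
      rw [← Nat.card_coe_set_eq]
      exact hDQ2
    have := h1.trans (Nat.mul_le_mul_right _ h2)
    rw [← hDT] at this
    omega
  have hDTS : DT ≤ Sx z t := fun e he =>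
    mem_Sx.mpr ⟨(hDmem e he.1).2.1, mem_centralizer_singleton_iff.mp he.2⟩
  let χ : ↥DT →* P8 := ρ.comp (Subgroup.inclusion hDTS)
  have hk4 : Nat.card χ.ker ≤ 4 := by
    refine (Nat.card_le_card_of_injective (fun m : ↥χ.ker => (⟨((m : ↥DT) : G), (m : ↥DT).2.1,
      D.rho_R.mp m.2⟩ : ↥(Dd ⊓ D.P.R))) fun a b h => ?_).trans hR4
    exact Subtype.ext (Subtype.ext (congrArg Subtype.val h :))
  have hrange : ∀ m, χ m = 1 ∨ χ m = σ4 := by
    intro m
    obtain ⟨c, hc⟩ : ∃ c : ↥(Sx z t), c = Subgroup.inclusion hDTS m := ⟨_, rfl⟩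
    show ρ (Subgroup.inclusion hDTS m) = 1 ∨ ρ (Subgroup.inclusion hDTS m) = σ4
    rw [← hc]
    have hcD : (c : G) ∈ Dd := by rw [hc]; exact m.2.1
    obtain ⟨-, hfa, hfb⟩ := D.cent_fixes hy c (hDmem _ hcD).2.2
    refine line_moves hfa hfb fun v => ?_
    obtain ⟨w, hw⟩ := partner₀ v
    obtain ⟨a, ha, rfl⟩ := D.K.surj v
    obtain ⟨b, hb, rfl⟩ := D.ev_surj w
    have hrR : a * b ∈ D.P.R := mul_mem (D.Cx_le_R ha) (D.C'_le_R hb)
    have hry : a * b * y = y * (a * b) := by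
      have h1 := D.cd_comm hrR hyR
      rw [D.cd_eq ha hb, hcdy, hw, show ((0 : ZMod 2), (0 : ZMod 2)) = 0 from rfl, vv_zero] at h1
      exact mul_inv_eq_iff_eq_mul.mp (mul_inv_eq_one.mp h1)
    obtain ⟨u, hu⟩ : ∃ u, u = (c : G) * (a * b) * (c : G)⁻¹ * (a * b)⁻¹ := ⟨_, rfl⟩
    have huD : u ∈ Dd := by
      rw [hu, show (c : G) * (a * b) * (c : G)⁻¹ * (a * b)⁻¹
        = (c : G) * ((a * b) * (c : G)⁻¹ * (a * b)⁻¹) by group]
      exact mul_mem hcD (hDnorm _ (mem_Sx.mp (D.R_le_Sx hrR)).1 hry _ (inv_mem hcD))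
    have hca := D.H.conj_Cx c.2 ha
    have hcb := D.conj_C' c.2 hb
    have hcr : (c : G) * (a * b) * (c : G)⁻¹
        = ((c : G) * a * (c : G)⁻¹) * ((c : G) * b * (c : G)⁻¹) := by group
    have huR : u ∈ D.P.R := by
      rw [hu, hcr]
      exact mul_mem (mul_mem (D.Cx_le_R hca) (D.C'_le_R hcb)) (inv_mem hrR)
    have h1 := (hspec _ (hzp u huD huR)).1
    rw [hu, hcr, D.cd_mul (mul_mem (D.Cx_le_R hca) (D.C'_le_R hcb)) (inv_mem hrR), D.cd_inv hrR,
      D.cd_eq hca hcb, D.cd_eq ha hb, ← D.hρ c a ha] at h1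
    exact h1
  have h2 : Nat.card χ.range ≤ 2 := by
    have hsub : (χ.range : Set P8) ⊆ {1, σ4} := by
      rintro _ ⟨m, rfl⟩
      rcases hrange m with e | e <;> rw [e] <;> simp
    rw [← SetLike.coe_sort_coe, Nat.card_coe_set_eq]
    exact (Set.ncard_le_ncard hsub (Set.toFinite _)).trans
      ((Set.ncard_insert_le _ _).trans (by rw [Set.ncard_singleton]))
  have hc := Subgroup.card_mul_index χ.ker
  rw [Subgroup.index_ker] at hc
  have := Nat.mul_le_mul hk4 h2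
  omega

/-- The three classes are distinct. -/
theorem separate {y y' : G} (hy : D.Rep α₀ β₀ y) (hy' : D.Rep α₁ β₁ y') :
    ¬ IsConj z y ∧ ¬ IsConj z y' ∧ ¬ IsConj y y' := by
  haveI : Fact (Nat.Prime 2) := ⟨Nat.prime_two⟩
  have key : ∀ w, (∀ m ∈ Sx z t ⊓ centralizer ({y} : Set G), m * w = w * m) → ¬ IsConj w y' := by
    intro w hw hconj
    obtain ⟨g, hg⟩ := isConj_iff.mp hconj
    have h := D.two_bound hy'
      ((IsPGroup.of_card (n := 17) (D.big_centralizer hy)).map (MulAut.conj g).toMonoidHom) (by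
        rintro _ ⟨m, hm, rfl⟩
        simp only [MulEquiv.coe_toMonoidHom, MulAut.conj_apply]
        refine mem_centralizer_singleton_iff.mpr ?_
        rw [← hg]
        calc g * m * g⁻¹ * (g * w * g⁻¹) = g * (m * w) * g⁻¹ := by group
          _ = g * (w * m) * g⁻¹ := by rw [hw m hm]
          _ = g * w * g⁻¹ * (g * m * g⁻¹) := by group)
    rw [Subgroup.card_map_of_injective (MulAut.conj g).injective, D.big_centralizer hy] at h
    norm_num at h
  exact ⟨D.not_conj_z hy, key z fun m hm => (mem_Sx.mp hm.1).1,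
    key y fun m hm => mem_centralizer_singleton_iff.mp hm.2⟩

end Ctx

end Cfsg.Agent.ConwayTypeRadical62
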