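import Cfsg.Agent.Lib.Co1Abel89
import Cfsg.Agent.Lib.Co1CheckO89
import Cfsg.Agent.Lib.Co1CheckS89
import Cfsg.Agent.Lib.ConwayTypeSeparate62

/-!
An element moving `t` inside the abelian subgroup, and the two classes of its involutions.
-/

set_option autoImplicit false
set_option linter.unusedSectionVars false

namespace Cfsg.Agent.Co1Frame89

open Cfsg.Agent.LargeExtraspecial Cfsg.Agent.ConwayTypeModel62 Cfsg.Agent.ConwayTypeCoord62
  Cfsg.Agent.ConwayTypeRadical62 Cfsg.Agent.Co1Bits89 Cfsg.Agent.Co1Calc89 Cfsg.Agent.Co1Data89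
  Cfsg.Agent.Co1Check89

variable {G : Type*} [Group G] [Finite G]

theorem tb_lor (S T x : ℕ) : tb (Nat.lor S T) x = (tb S x || tb T x) := Nat.testBit_or S T x

theorem tb_bif (b : Bool) (S x : ℕ) : tb (bif b then S else 0) x = (b && tb S x) := by
  cases b <;> simp [tb]

theorem xK_lt {F : ℕ → ℕ} (hF : ∀ j < 11, F j < 2048) (x : ℕ) : ∀ k ≤ 11, xK F k x < 2048 := by
  intro k
  induction k with
  | zero => intro _; simp [xK]
  | succ k ih =>
    intro hk
    rw [xK]
    cases Nat.testBit x k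
    · exact ih (by omega)
    · exact Nat.xor_lt_two_pow (n := 11) (ih (by omega)) (hF k (by omega))

theorem fM_lt {m : ℕ} (hm : m < 16) (x : ℕ) : fM m x < 2048 :=
  xK_lt (img_bound m hm) x 11 le_rfl

theorem cnt_eq (S c : ℕ) : cnt S c = ((Finset.range 32).filter fun i => tb S (32 * c + i) = true).card :=
  cntB_eq _ 32

theorem zero_orbits : tb orb0 0 = false ∧ tb orb1 0 = false ∧ tb orb2 0 = false ∧ tb orb3 0 = false ∧
    tb orb4 0 = false ∧ tb orb5 0 = false := by decide +kernel

section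

variable {Q Q' : Subgroup G} {z t : G} {ν : G → M6} {d g : G}
  {ρ : ↥(Sx z t) →* P8} {s : ℕ → G} (F : Fr Q Q' z t ν d ρ g s)
  {kw : List ℕ → ↥(Sx z t)} (K : Lift z t d g ρ s kw)
include F K

theorem mem_norm {x : G} (h : ∀ i < 2048, ∃ j < 2048,
    x * psi z t g s kw i * x⁻¹ = psi z t g s kw j) :
    x ∈ Subgroup.normalizer (subA F K : Set G) := by
  have hle : (subA F K).map (MulAut.conj x).toMonoidHom = subA F K := by
    refine Subgroup.eq_of_le_of_card_ge ?_
      (by rw [Subgroup.card_map_of_injective (MulAut.conj x).injective])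
    rintro _ ⟨_, ⟨i, hi, rfl⟩, rfl⟩
    obtain ⟨j, hj, e⟩ := h i hi
    exact ⟨j, hj, e.symm⟩
  rw [Subgroup.mem_normalizer_iff]
  intro a
  constructor
  · intro ha
    have : (MulAut.conj x).toMonoidHom a ∈ (subA F K).map (MulAut.conj x).toMonoidHom :=
      Subgroup.mem_map_of_mem _ ha
    rw [hle] at this
    exact this
  · intro ha
    rw [← hle] at ha
    obtain ⟨b, hb, e⟩ := ha
    rwa [← (MulAut.conj x).injective e]

theorem mEl_norm {m : ℕ} (hm : m < 16) : mEl z t d g s kw m ∈ Subgroup.normalizer (subA F K : Set G) :=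
  mem_norm F K fun i _ => ⟨fM m i, fM_lt hm i, mEl_conj F K hm i⟩

/-- Conjugate under the normaliser, as codes. -/
def Rel (x y : ℕ) : Prop :=
  y < 2048 ∧ ∃ n ∈ Subgroup.normalizer (subA F K : Set G),
    n * psi z t g s kw x * n⁻¹ = psi z t g s kw y

theorem rel_trans {x y w : ℕ} (h : Rel F K x y) (h' : Rel F K y w) : Rel F K x w := by
  obtain ⟨-, n, hn, e⟩ := h
  obtain ⟨hw, n', hn', e'⟩ := h'
  refine ⟨hw, n' * n, mul_mem hn' hn, ?_⟩
  rw [← e', ← e]
  group

theorem rel_symm {x y : ℕ} (hx : x < 2048) (h : Rel F K x y) : Rel F K y x := by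
  obtain ⟨-, n, hn, e⟩ := h
  refine ⟨hx, n⁻¹, inv_mem hn, ?_⟩
  rw [← e]
  group

theorem rel_refl {x : ℕ} (hx : x < 2048) : Rel F K x x := ⟨hx, 1, one_mem _, by group⟩

theorem tree_rel {root : ℕ} {l : List ℕ} {S : ℕ} (hroot : root < 2048)
    (hok : treeOK fM root l S = true) {x : ℕ} (hx : tb S x = true) : Rel F K root x := by
  refine treeOK_spec (P := fun x => Rel F K root x) hok (fun m hm y hy => ?_) (rel_refl F K hroot) x hx
  exact rel_trans F K hy ⟨fM_lt hm y, _, mEl_norm F K hm, mEl_conj F K hm y⟩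

theorem psi_one : psi z t g s kw 1 = z ∧ psi z t g s kw 2 = t ∧ psi z t g s kw 4 = aP s 7 := by
  have h := fun j hj => (psi_basis F K (j := j) hj).symm
  have r0 : gRf 0 = rc 1 0 0 ∧ gRf 1 = rc 2 0 0 ∧ gRf 2 = rc 0 7 0 := by decide +kernel
  refine ⟨?_, ?_, ?_⟩
  · rw [show (1 : ℕ) = 2 ^ 0 from rfl, h 0 (by norm_num), r0.1, rnf_rc F (by norm_num) (by norm_num)]
    simp [X, bp, aP, bG, prodK, show Nat.testBit 1 0 = true from rfl, show Nat.testBit 1 1 = false from rfl]
  · rw [show (2 : ℕ) = 2 ^ 1 from rfl, h 1 (by norm_num), r0.2.1, rnf_rc F (by norm_num) (by norm_num)]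
    simp [X, bp, aP, bG, prodK, show Nat.testBit 2 0 = false from rfl, show Nat.testBit 2 1 = true from rfl]
  · rw [show (4 : ℕ) = 2 ^ 2 from rfl, h 2 (by norm_num), r0.2.2, rnf_rc F (by norm_num) (by norm_num)]
    simp [X, bp, bG, show aP s 0 = 1 by simp [aP, prodK, bp]]

theorem psi_sq (i : ℕ) : psi z t g s kw i * psi z t g s kw i = 1 := by
  rw [← psi_xor F K, show Nat.xor i i = 0 from Nat.xor_self i, psi_zero F K]

theorem psi_comm (i j : ℕ) :
    psi z t g s kw i * psi z t g s kw j = psi z t g s kw j * psi z t g s kw i := by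
  rw [← psi_xor F K, ← psi_xor F K, show Nat.xor i j = Nat.xor j i from Nat.xor_comm i j]

theorem AQ_form {i : ℕ} (hi : i < 32) :
    psi z t g s kw i ∈ Cx Q t ∧ ν (psi z t g s kw i) = vec (pU (rA i)) ∧ pU (rA i) ∈ wList := by
  have hlt := (base_ok.2.1 i (by omega)).1
  obtain ⟨hu, -, -⟩ := code_parts hlt
  have hy : psi z t g s kw i =
      bp z (Nat.testBit (rA i) 0) * bp t (Nat.testBit (rA i) 1) * aP s (pU (rA i)) := by
    rw [psi_low F K (by omega), rnf, X, (row_w i (by omega)).2.2 hi,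
      show bG g s 0 = 1 by simp [bG, aP, prodK, bp], mul_one]
  have hV := fun a b => F.D.V_le_Cx (bp_vv z t a b ▸ F.D.vv_mem _)
  rw [hy]
  refine ⟨mul_mem (hV _ _) (aP_mem F.D F.E _).1, ?_, (m0_ok.2.2.2.2.2.2 i (by omega)).1⟩
  rw [F.D.K.add _ (hV _ _) _ (aP_mem F.D F.E _).1, (F.D.K.ker _ (hV _ _)).mpr
    (F.D.inU_iff.mpr (bp_vv z t _ _ ▸ F.D.vv_mem _)), zero_add, nu_aP F.D F.E hu]

theorem sing_four : Sing Q z (psi z t g s kw 4) := by
  refine ⟨(mem_Cx.mp (AQ_form F K (by norm_num)).1).1, psi_sq F K 4, fun e => ?_, fun e => ?_⟩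
  · exact absurd (psi_inj F K (by norm_num) (by norm_num) (e.trans (psi_zero F K).symm)) (by norm_num)
  · exact absurd (psi_inj F K (by norm_num) (by norm_num) (e.trans (psi_one F K).1.symm)) (by norm_num)

theorem exists_h : ∃ h : G, h * z = z * h ∧ h * t * h⁻¹ = psi z t g s kw 4 ∧
    (∀ i < 32, ∃ j < 32, h * psi z t g s kw i * h⁻¹ = psi z t g s kw j) ∧
    h ∈ Subgroup.normalizer (subA F K : Set G) := by
  obtain ⟨h0, hz, ht⟩ := F.D.H.transitive F.D.sing (sing_four F K)
  obtain ⟨p1, p2, p4⟩ := psi_one F K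
  let u : ℕ → G := fun i => h0⁻¹ * psi z t g s kw i * h0
  have hu : ∀ i < 32, u i ∈ Cx Q t := by
    intro i hi
    refine mem_Cx.mpr ⟨?_, ?_⟩
    · have := F.D.H.h.norm h0⁻¹ (show Commute h0⁻¹ z from (show Commute h0 z from hz).inv_left) _
        (mem_Cx.mp (AQ_form F K hi).1).1
      rwa [inv_inv] at this
    · show u i * t = t * u i
      have e := psi_comm F K i 4
      rw [← ht] at e
      calc u i * t = h0⁻¹ * (psi z t g s kw i * (h0 * t * h0⁻¹)) * h0 := by simp only [u]; group
        _ = t * u i := by rw [e]; simp only [u]; group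
  have hmul : ∀ i j, u (Nat.xor i j) = u i * u j := fun i j => by
    simp only [u, psi_xor F K]; group
  have hV : ∀ m < 32, InU z t (u m) → m = 0 ∨ m = 1 ∨ m = 4 ∨ m = 5 := by
    intro m hm h
    have back : psi z t g s kw m = h0 * u m * h0⁻¹ := by simp only [u]; group
    rcases h with e | e | e | e <;> rw [e] at back
    · exact Or.inl (psi_inj F K (by omega) (by norm_num) (back.trans (by rw [psi_zero F K]; group)))
    · exact Or.inr (Or.inl (psi_inj F K (by omega) (by norm_num)
        (back.trans (by rw [conj_comm hz, p1]))))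
    · exact Or.inr (Or.inr (Or.inl (psi_inj F K (by omega) (by norm_num) (back.trans ht))))
    · refine Or.inr (Or.inr (Or.inr (psi_inj F K (by omega) (by norm_num) (back.trans ?_))))
      rw [← conj_mul_conj, conj_comm hz, ht, show (5 : ℕ) = Nat.xor 1 4 from rfl, psi_xor F K, p1]
  choose code hc1 hc2 using vec_surj
  let a := code (ν (u 2))
  let b := code (ν (u 8))
  let c := code (ν (u 16))
  have hν : ∀ i < 32, ∀ j < 32, ν (u (Nat.xor i j)) = ν (u i) + ν (u j) := fun i hi j hj => by
    rw [hmul, F.D.K.add _ (hu i hi) _ (hu j hj)]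
  have hcl : ∀ m < 32, ∀ m' < 32, ν (u m) = ν (u m') → Nat.xor m m' = 0 ∨ Nat.xor m m' = 1 ∨
      Nat.xor m m' = 4 ∨ Nat.xor m m' = 5 := fun m hm m' hm' e => by
    have hx : Nat.xor m m' < 32 := Nat.xor_lt_two_pow (n := 5) hm hm'
    refine hV _ hx ((F.D.K.ker _ (hu _ hx)).mp ?_)
    rw [hν m hm m' hm', e, add_self]
  have h0v : ν (u 0) = 0 := by
    rw [show u 0 = 1 by simp only [u, psi_zero F K]; group]
    exact F.D.H.nu_one F.D.sing F.D.K
  have hspan : ∀ x ∈ span3 a b c, ∃ m < 32, ν (u m) = vec x := by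
    intro x hx
    simp only [span3, List.mem_cons, List.not_mem_nil, or_false] at hx
    have ea : ν (u 2) = vec a := (hc2 _).symm
    have eb : ν (u 8) = vec b := (hc2 _).symm
    have ec : ν (u 16) = vec c := (hc2 _).symm
    rcases hx with rfl | rfl | rfl | rfl | rfl | rfl | rfl | rfl
    · exact ⟨0, by norm_num, by rw [h0v]; decide +kernel⟩
    · exact ⟨2, by norm_num, ea⟩
    · exact ⟨8, by norm_num, eb⟩
    · exact ⟨Nat.xor 2 8, by decide, by rw [hν 2 (by norm_num) 8 (by norm_num), ea, eb, vec_xor]⟩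
    · exact ⟨16, by norm_num, ec⟩
    · exact ⟨Nat.xor 2 16, by decide, by rw [hν 2 (by norm_num) 16 (by norm_num), ea, ec, vec_xor]⟩
    · exact ⟨Nat.xor 8 16, by decide, by rw [hν 8 (by norm_num) 16 (by norm_num), eb, ec, vec_xor]⟩
    · refine ⟨Nat.xor (Nat.xor 2 8) 16, by decide, ?_⟩
      rw [hν (Nat.xor 2 8) (by decide) 16 (by norm_num), hν 2 (by norm_num) 8 (by norm_num), ea, eb,
        ec, vec_xor, vec_xor]
  have hiso : ∀ m < 32, ∀ m' < 32, f (ν (u m)) = 0 ∧ B (ν (u m)) (ν (u m')) = 0 := by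
    intro m hm m' hm'
    constructor
    · refine zp_inj F.D.H.h.ne_one ?_
      rw [zp_zero, ← F.D.K.sq _ (hu m hm), ← hmul, show Nat.xor m m = 0 from Nat.xor_self m]
      simp only [u, psi_zero F K]; group
    · have e := F.D.comm_Cx (hu m hm) (hu m' hm')
      rw [← hmul, show Nat.xor m m' = Nat.xor m' m from Nat.xor_comm m m', hmul,
        show u m' * u m * (u m)⁻¹ * (u m')⁻¹ = 1 by group] at e
      exact (congrArg Prod.fst (F.D.vv_inj (e.symm.trans (vv_zero z t).symm)))
  have hts : tsOK a b c = true := by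
    have hf : ∀ m < 32, fN (code (ν (u m))) = false := fun m hm => by
      refine bz_inj _ _ ?_
      rw [← (forms _ (hc1 _)).1, hc2, (hiso m hm m hm).1]
      rfl
    have hB : ∀ m < 32, ∀ m' < 32, BN (code (ν (u m))) (code (ν (u m'))) = false := fun m hm m' hm' => by
      refine bz_inj _ _ ?_
      rw [← (forms _ (hc1 _)).2 _ (hc1 _), hc2, hc2, (hiso m hm m' hm').2]
      rfl
    have hne : ∀ m < 32, ∀ m' < 32, Nat.xor m m' ∉ [0, 1, 4, 5] →
        (Nat.beq (code (ν (u m))) (code (ν (u m')))) = false := fun m hm m' hm' h => by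
      rw [← Bool.not_eq_true]
      intro e
      apply h
      simp only [List.mem_cons, List.not_mem_nil, or_false]
      exact hcl m hm m' hm' (by rw [← hc2 (ν (u m)), Nat.eq_of_beq_eq_true e, hc2])
    have hz0 : code (ν (u 0)) = 0 := vec_inj _ (hc1 _) 0 (by norm_num)
      (by rw [hc2, h0v]; decide +kernel)
    have hab : code (ν (u 10)) = Nat.xor a b := vec_inj _ (hc1 _) _ (Nat.xor_lt_two_pow (n := 6) (hc1 _) (hc1 _))
      (by rw [hc2, vec_xor, hc2, hc2, ← hν 2 (by norm_num) 8 (by norm_num)]; rfl)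
    rw [tsOK, hf 2 (by norm_num), hf 8 (by norm_num), hf 16 (by norm_num),
      hB 2 (by norm_num) 8 (by norm_num), hB 2 (by norm_num) 16 (by norm_num),
      hB 8 (by norm_num) 16 (by norm_num), ← hab, ← hz0,
      hne 2 (by norm_num) 0 (by norm_num) (by decide), hne 8 (by norm_num) 0 (by norm_num) (by decide),
      hne 8 (by norm_num) 2 (by norm_num) (by decide), hne 16 (by norm_num) 0 (by norm_num) (by decide),
      hne 16 (by norm_num) 2 (by norm_num) (by decide), hne 16 (by norm_num) 8 (by norm_num) (by decide),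
      hne 16 (by norm_num) 10 (by norm_num) (by decide)]
    rfl
  have h1 := allB_spec spaces_cover a (hc1 _)
  have hts' := hts
  simp only [tsOK, Bool.and_eq_true, Bool.not_eq_true'] at hts'
  obtain ⟨⟨⟨⟨⟨⟨⟨⟨⟨⟨⟨⟨fa, fb⟩, -⟩, bab⟩, -⟩, -⟩, -⟩, -⟩, -⟩, -⟩, -⟩, -⟩, -⟩ := hts'
  rw [fa, Bool.false_or] at h1
  have h2 := allB_spec h1 b (hc1 _)
  rw [fb, bab, Bool.false_or, Bool.false_or] at h2
  have h3 := allB_spec h2 c (hc1 _)
  rw [hts, Bool.not_true, Bool.false_or, List.any_eq_true] at h3
  obtain ⟨p, hp, hsub⟩ := h3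
  have hok := List.all_eq_true.mp spaces_ok p hp
  have hmov := List.all_eq_true.mp movers_ok p hp
  simp only [spaceOK, Bool.and_eq_true] at hok
  obtain ⟨hpop, hkind⟩ := hok
  have hspan_lt : ∀ x ∈ span3 a b c, x < 64 := by
    intro x hx
    simp only [span3, List.mem_cons, List.not_mem_nil, or_false] at hx
    have e1 := Nat.xor_lt_two_pow (n := 6) (hc1 (ν (u 2))) (hc1 (ν (u 8)))
    have e2 := Nat.xor_lt_two_pow (n := 6) (hc1 (ν (u 2))) (hc1 (ν (u 16)))
    have e3 := Nat.xor_lt_two_pow (n := 6) (hc1 (ν (u 8))) (hc1 (ν (u 16)))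
    have e4 := Nat.xor_lt_two_pow (n := 6) e1 (hc1 (ν (u 16)))
    rcases hx with rfl | rfl | rfl | rfl | rfl | rfl | rfl | rfl
    exacts [by norm_num, hc1 _, hc1 _, e1, hc1 _, e2, e3, e4]
  have hback : ∀ x < 64, tb p.1 x = true → ∃ m < 32, ν (u m) = vec x := by
    intro x hx hxS
    refine hspan x ?_
    have hnd : (span3 a b c).toFinset.card = 8 := by
      rw [List.toFinset_card_of_nodup (span3_nodup hts)]
      rfl
    have hle : (span3 a b c).toFinset ⊆ (Finset.range 64).filter fun y => tb p.1 y = true := by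
      intro y hy
      rw [List.mem_toFinset] at hy
      exact Finset.mem_filter.mpr ⟨Finset.mem_range.mpr (hspan_lt y hy), List.all_eq_true.mp hsub y hy⟩
    have := Finset.eq_of_subset_of_card_le hle (by
      rw [← cntB_eq, Nat.eq_of_beq_eq_true hpop, hnd])
    rw [← List.mem_toFinset, this]
    exact Finset.mem_filter.mpr ⟨Finset.mem_range.mpr hx, hxS⟩
  cases hk : Nat.beq p.2.1 0
  · exfalso
    rw [hk, cond_false] at hkind
    rw [hk, Bool.false_or, Bool.not_eq_true'] at hmov
    simp only [Bool.and_eq_true, Nat.blt_eq] at hkind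
    obtain ⟨⟨⟨⟨hall, hx1⟩, -⟩, hu64⟩, hx64⟩ := hkind
    set k := kw p.2.2.1
    set T := wordT T1 T2 p.2.2.1 with hT
    set u0 := p.2.2.2.1
    set x1 := p.2.2.2.2
    have hA := aP_mem F.D F.E u0
    have hb1 := bG_mem F.D F.S F.E x1
    have inA : ∀ y : G, y * z = z * y → (∀ i < 32, y * u i = u i * y) → h0 * y * h0⁻¹ ∈ subA F K := by
      intro y hy hc
      refine cent_AQ F K ?_ fun i hi => ?_
      · exact (((show Commute h0 z from hz).mul_left hy).mul_left
          (show Commute h0 z from hz).inv_left).eq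
      · have e := congrArg (fun r => h0 * r * h0⁻¹) (hc i hi)
        simp only [u] at e
        calc h0 * y * h0⁻¹ * psi z t g s kw i = h0 * (y * (h0⁻¹ * psi z t g s kw i * h0)) * h0⁻¹ := by group
          _ = _ := by rw [e]; group
    have hform : ∀ i < 32, ∃ x v, x < 64 ∧ tb p.1 x = true ∧ InU z t v ∧ u i = v * aP s x ∧
        BN x x1 = false := by
      intro i hi
      obtain ⟨x, hx, ex⟩ := vec_surj (ν (u i))
      have hxS : tb p.1 x = true := by
        have hm : ∀ i < 32, ∃ y ∈ span3 a b c, ν (u i) = vec y := by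
          intro i hi
          have hsplit : ∀ i < 32, ∃ m ∈ [0, 2, 8, 10, 16, 18, 24, 26],
              Nat.xor i m ∈ [0, 1, 4, 5] := by decide +kernel
          obtain ⟨m, hm, hx⟩ := hsplit i hi
          have hm32 : m < 32 := (show ∀ m ∈ [0, 2, 8, 10, 16, 18, 24, 26], m < 32 by decide) m hm
          have h4 : ν (u (Nat.xor i m)) = 0 := by
            refine (F.D.K.ker _ (hu _ (Nat.xor_lt_two_pow (n := 5) hi hm32))).mpr ?_
            simp only [List.mem_cons, List.not_mem_nil, or_false] at hx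
            rcases hx with e | e | e | e <;> rw [show (i ^^^ m) = _ from e] <;> simp only [u]
            · exact Or.inl (by rw [psi_zero F K]; group)
            · exact Or.inr (Or.inl (by rw [p1, mul_assoc, ← hz]; group))
            · exact Or.inr (Or.inr (Or.inl (by rw [← ht]; group)))
            · refine Or.inr (Or.inr (Or.inr ?_))
              rw [show (5 : ℕ) = Nat.xor 1 4 from rfl, psi_xor F K, p1, ← ht,
                show h0⁻¹ * (z * (h0 * t * h0⁻¹)) * h0 = h0⁻¹ * (z * h0) * t by group, ← hz]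
              group
          have hi' : ν (u i) = ν (u m) := by
            rw [hν i hi m hm32] at h4
            exact eq_of_add h4
          rw [hi']
          simp only [List.mem_cons, List.not_mem_nil, or_false] at hm
          have ea : ν (u 2) = vec a := (hc2 _).symm
          have eb : ν (u 8) = vec b := (hc2 _).symm
          have ec : ν (u 16) = vec c := (hc2 _).symm
          have e2 := hν 2 (by norm_num) 8 (by norm_num)
          have e3 := hν 2 (by norm_num) 16 (by norm_num)
          have e4 := hν 8 (by norm_num) 16 (by norm_num)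
          have e5 := hν 10 (by norm_num) 16 (by norm_num)
          rw [show Nat.xor 2 8 = 10 from rfl] at e2
          rw [show Nat.xor 2 16 = 18 from rfl] at e3
          rw [show Nat.xor 8 16 = 24 from rfl] at e4
          rw [show Nat.xor 10 16 = 26 from rfl, e2] at e5
          rcases hm with rfl | rfl | rfl | rfl | rfl | rfl | rfl | rfl
          · exact ⟨0, by simp [span3], by rw [h0v]; decide +kernel⟩
          · exact ⟨a, by simp [span3], ea⟩
          · exact ⟨b, by simp [span3], eb⟩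
          · exact ⟨Nat.xor a b, by simp [span3], by rw [e2, ea, eb, vec_xor]⟩
          · exact ⟨c, by simp [span3], ec⟩
          · exact ⟨Nat.xor a c, by simp [span3], by rw [e3, ea, ec, vec_xor]⟩
          · exact ⟨Nat.xor b c, by simp [span3], by rw [e4, eb, ec, vec_xor]⟩
          · exact ⟨Nat.xor (Nat.xor a b) c, by simp [span3], by rw [e5, ea, eb, ec, vec_xor, vec_xor]⟩
        obtain ⟨y, hy, ey⟩ := hm i hi
        rw [vec_inj x hx y (hspan_lt y hy) (by rw [ex, ey])]
        exact List.all_eq_true.mp hsub y hy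
      refine ⟨x, u i * (aP s x)⁻¹, hx, hxS, (F.D.H.nu_eq F.D.sing F.D.K (hu i hi)
        (aP_mem F.D F.E x).1).mp (by rw [nu_aP F.D F.E hx, ex]), by group, ?_⟩
      obtain ⟨m, hm, em⟩ := hback x1 hx64 hx1
      refine bz_inj _ _ ?_
      rw [← (forms x hx).2 x1 hx64, ex, ← em, (hiso i hi m hm).2]
      rfl
    have hy1 : h0 * bG g s x1 * h0⁻¹ ∈ subA F K := by
      refine inA _ (mem_Cx.mp hb1).2 fun i hi => ?_
      obtain ⟨x, v, hx, hxS, hv, e, hBN⟩ := hform i hi
      have e' := b_a F.D F.S F.E (p := fun w => w) F.hev hx hx64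
      rw [hBN] at e'
      simp only [bp, cond_false, one_mul] at e'
      rw [e]
      exact ((show Commute (bG g s x1) v from U_comm' F.D hv (F.D.C'_le_Sx hb1)).mul_right e').eq
    have hy2 : h0 * (aP s u0 * (k : G)) * h0⁻¹ ∈ subA F K := by
      refine inA _ ?_ fun i hi => ?_
      · exact ((show Commute (aP s u0) z from F.D.H.h.comm _ (mem_Cx.mp hA.1).1).mul_left
          (mem_Sx.mp k.2).1).eq
      · obtain ⟨x, v, hx, hxS, hv, e, -⟩ := hform i hi
        have hw := allB_spec hall x hx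
        simp only [hxS, Bool.not_true, Bool.false_or, Bool.and_eq_true] at hw
        obtain ⟨himg, hzeta⟩ := hw
        have hka : (k : G) * aP s x * (k : G)⁻¹ = bp z (BN u0 x) * aP s x := by
          rw [(K.act _).2 x hx, el, ← hT, Nat.eq_of_beq_eq_true himg, eq_of_beq hzeta]
        have haa : aP s u0 * aP s x * (aP s u0)⁻¹ = bp z (BN u0 x) * aP s x := by
          have h := F.D.comm_Cx hA.1 (aP_mem F.D F.E x).1
          rw [nu_aP F.D F.E hu64, nu_aP F.D F.E hx, (forms u0 hu64).2 x hx, vv, zp_zero, mul_one, bp_zp] at h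
          rw [← h]
          group
        rw [e]
        refine ((show Commute (aP s u0 * (k : G)) v from
          (show Commute (aP s u0) v from U_comm' F.D hv (F.D.H.Cx_le_Sx hA.1)).mul_left
            (U_comm' F.D hv k.2)).mul_right ?_).eq
        refine mul_inv_eq_iff_eq_mul.mp ?_
        calc aP s u0 * (k : G) * aP s x * (aP s u0 * (k : G))⁻¹
            = aP s u0 * ((k : G) * aP s x * (k : G)⁻¹) * (aP s u0)⁻¹ := by group
          _ = (aP s u0 * bp z (BN u0 x) * (aP s u0)⁻¹) * (aP s u0 * aP s x * (aP s u0)⁻¹) := by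
            rw [hka]; group
          _ = bp z (BN u0 x) * bp z (BN u0 x) * aP s x := by
            rw [conj_comm (bp_comm_aP F.D F.E _ u0).symm.eq, haa, mul_assoc]
          _ = aP s x := by
            rw [← bp_xor F.D.H.h.zz, Bool.xor_self]
            simp [bp]
    obtain ⟨i, hi, ei⟩ := hy1
    obtain ⟨j, hj, ej⟩ := hy2
    have hc := psi_comm F K j i
    rw [ej, ei, conj_mul_conj, conj_mul_conj] at hc
    have hc' : aP s u0 * ((k : G) * bG g s x1 * (k : G)⁻¹) = bG g s x1 * aP s u0 := by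
      have := mul_left_cancel (mul_right_cancel hc)
      calc aP s u0 * ((k : G) * bG g s x1 * (k : G)⁻¹) = aP s u0 * (k : G) * bG g s x1 * (k : G)⁻¹ := by group
        _ = _ := by rw [this]; group
    have r1 : rnf z t g s (rc 0 u0 0) = aP s u0 := by
      rw [rnf_rc F (by norm_num) hu64]
      simp [X, bp, bG, show aP s 0 = 1 by simp [aP, prodK, bp]]
    have r2 : rnf z t g s (rc 0 0 x1) = bG g s x1 := by
      rw [rnf_rc F (by norm_num) (by norm_num)]
      simp [X, bp, show aP s 0 = 1 by simp [aP, prodK, bp]]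
    have l1 := rc_lt (v := 0) (w := 0) (by norm_num) hu64 (by norm_num)
    have l2 := rc_lt (v := 0) (u := 0) (by norm_num) (by norm_num) hx64
    rw [← r1, ← r2, conj_rnf_Sx F k.2 (K.act _) (K.fix _).2.2 l2] at hc'
    have l3 : cjR T (rc 0 0 x1) < 16384 := by
      have hTl := (K.act p.2.2.1).1.2
      obtain ⟨cu, cw, cv, -⟩ := code_parts l2
      refine rc_lt (Nat.xor_lt_two_pow (n := 2) cv ?_) (sr_lt (hTl _ cu)) (sr_lt (hTl _ cw))
      simp only [show ∀ y, Nat.land y 1 = y % 2 from fun y => Nat.and_one_is_mod y]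
      omega
    rw [rnf_mul F l1 l3, rnf_mul F l2 l1] at hc'
    rw [rnf_inj F (mulR_lt l1 l3) (mulR_lt l2 l1) hc'] at hmov
    simp at hmov
  · rw [hk, cond_true] at hkind
    set k := kw p.2.2.1
    have hstep : ∀ i < 32, ∃ m < 32, (k : G) * psi z t g s kw i * (k : G)⁻¹ = u m := by
      intro i hi
      obtain ⟨hmem, hνi, hW⟩ := AQ_form F K hi
      have hw := List.all_eq_true.mp hkind _ hW
      have hwlt : pU (rA i) < 64 := (code_parts (base_ok.2.1 i (by omega)).1).1
      obtain ⟨m, hm, em⟩ := hback _ (sr_lt ((K.act p.2.2.1).1.2 _ hwlt)) hw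
      have hk' := F.D.H.conj_Cx k.2 hmem
      have hνk : ν ((k : G) * psi z t g s kw i * (k : G)⁻¹) = ν (u m) := by
        rw [em, ← F.D.hρ k _ hmem, hνi]
        have h1 := F.D.hρ k _ (aP_mem F.D F.E (pU (rA i))).1
        rw [nu_aP F.D F.E hwlt, (K.act p.2.2.1).2 _ hwlt,
          nu_el F.D F.E ((K.act p.2.2.1).1.2 _ hwlt)] at h1
        exact h1
      obtain ⟨m', hm', em'⟩ : ∃ m' < 32, (k : G) * psi z t g s kw i * (k : G)⁻¹ * (u m)⁻¹ = u m' := by
        have hU := (F.D.H.nu_eq F.D.sing F.D.K hk' (hu m hm)).mp hνk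
        rcases hU with e | e | e | e <;> rw [e]
        · exact ⟨0, by norm_num, by simp only [u, psi_zero F K]; group⟩
        · exact ⟨1, by norm_num, by simp only [u]; rw [p1, mul_assoc, ← hz]; group⟩
        · exact ⟨4, by norm_num, by simp only [u]; rw [← ht]; group⟩
        · refine ⟨Nat.xor 1 4, by decide, ?_⟩
          simp only [u, psi_xor F K]
          rw [p1, ← ht, show h0⁻¹ * (z * (h0 * t * h0⁻¹)) * h0 = h0⁻¹ * (z * h0) * t by group, ← hz]
          group
      exact ⟨Nat.xor m' m, Nat.xor_lt_two_pow (n := 5) hm' hm, by rw [hmul, ← em']; group⟩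
    obtain ⟨hkz, hkt⟩ := mem_Sx.mp k.2
    have hH : ∀ i < 32, ∃ j < 32, h0 * (k : G) * psi z t g s kw i * (h0 * (k : G))⁻¹ = psi z t g s kw j := by
      intro i hi
      obtain ⟨m, hm, e⟩ := hstep i hi
      refine ⟨m, hm, ?_⟩
      rw [show h0 * (k : G) * psi z t g s kw i * (h0 * (k : G))⁻¹
        = h0 * ((k : G) * psi z t g s kw i * (k : G)⁻¹) * h0⁻¹ by group, e]
      simp only [u]; group
    have hzz : h0 * (k : G) * z = z * (h0 * (k : G)) :=
      ((show Commute h0 z from hz).mul_left hkz).eq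
    refine ⟨h0 * k, hzz, ?_, hH, mem_norm F K fun i hi => ?_⟩
    · rw [show h0 * (k : G) * t * (h0 * (k : G))⁻¹ = h0 * ((k : G) * t * (k : G)⁻¹) * h0⁻¹ by group,
        conj_comm hkt, ht]
    · have hmem : h0 * (k : G) * psi z t g s kw i * (h0 * (k : G))⁻¹ ∈ subA F K := by
        refine cent_AQ F K ?_ fun j hj => ?_
        · exact (((show Commute (h0 * (k : G)) z from hzz).mul_left
            (show psi z t g s kw i * z = z * psi z t g s kw i by
              have hpz := psi_comm F K i 1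
              rw [p1] at hpz
              exact hpz)).mul_left
              (show Commute (h0 * (k : G)) z from hzz).inv_left).eq
        · choose H hH1 hH2 using hH
          let φ : Fin 32 → Fin 32 := fun a => ⟨H a a.2, hH1 a a.2⟩
          have hinj : Function.Injective φ := fun a b e => by
            have e' := congrArg Fin.val e
            have h1 := hH2 a a.2
            rw [show H a a.2 = H b b.2 from e', ← hH2 b b.2] at h1
            exact Fin.ext (psi_inj F K (by omega) (by omega) (mul_left_cancel (mul_right_cancel h1)))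
          obtain ⟨a, ha⟩ := Finite.injective_iff_surjective.mp hinj ⟨j, hj⟩
          rw [← show H a a.2 = j from congrArg Fin.val ha, ← hH2 a a.2, conj_mul_conj, conj_mul_conj,
            psi_comm F K]
      obtain ⟨j, hj, e⟩ := hmem
      exact ⟨j, hj, e.symm⟩

end

end Cfsg.Agent.Co1Frame89
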