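import Cfsg.Agent.Lib.Co1Local89
import Cfsg.Agent.Lib.CoprimeGaschutz

/-!
A subgroup of order two to the ten meeting the abelian subgroup trivially, and a complement.
-/

set_option autoImplicit false
set_option linter.unusedSectionVars false

namespace Cfsg.Agent.Co1Frame89

open Cfsg Cfsg.Agent.LargeExtraspecial Cfsg.Agent.ConwayTypeModel62 Cfsg.Agent.ConwayTypeCoord62
  Cfsg.Agent.ConwayTypeRadical62 Cfsg.Agent.Co1Bits89 Cfsg.Agent.Co1Calc89 Cfsg.Agent.Co1Data89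
  Cfsg.Agent.Co1Check89

/-- Words for the dihedral group in the two generators of the normaliser. -/
def w8s : List (List ℕ) := [[], [0, 0, 1, 0, 1, 0, 0, 1, 1, 1, 0, 1], [0, 1, 0, 1, 0, 0, 1, 0, 0, 1, 1], [0, 1, 0, 0, 1, 0, 1, 1, 1, 0, 1, 0, 0, 1], [1, 0, 1, 0, 0, 1, 0, 0, 1, 0, 1, 0, 0], [0, 1, 0, 1, 0, 0, 1, 1, 1, 0, 1, 0], [1, 0, 0, 1, 0, 1, 1, 1], [0, 0, 1, 1, 1, 0]]

theorem w8s_ok : ∀ a < 8, wordP (w8.getD a []) = swP (w8s.getD a []) := by decide +kernel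

theorem eP_zero : eP 0 = 1 := by decide +kernel

variable {G : Type*} [Group G] [Finite G]

section

variable {Q Q' : Subgroup G} {z t : G} {ν : G → M6} {d g : G}
  {ρ : ↥(Sx z t) →* P8} {s : ℕ → G} (F : Fr Q Q' z t ν d ρ g s)
  {kw : List ℕ → ↥(Sx z t)} (K : Lift z t d g ρ s kw)
include F K

/-- A member of the complement candidate. -/
def tEl (F : Fr Q Q' z t ν d ρ g s) (K : Lift z t d g ρ s kw) (i a : ℕ) (b : Bool) : G :=
  rnf z t g s (mI i) * (kw (w8.getD a []) : G) * bp d b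

theorem sw_lift : ∀ l : List ℕ, ∃ c : ↥(Sx z t), Fix z t d g (c : G) ∧
    (c : G) ∈ Subgroup.normalizer (subA F K : Set G) ∧ ρ c = swP l := by
  intro l
  induction l using List.reverseRecOn with
  | nil => exact ⟨1, ⟨in0_one F.D g, by simp, by simp⟩, one_mem _, map_one ρ⟩
  | append_singleton l x ih =>
    obtain ⟨c, hf, hn, hr⟩ := ih
    have e : swP (l ++ [x]) = wordP (wS.getD x []) * swP l := by
      simp only [swP, List.foldl_append, List.foldl_cons, List.foldl_nil]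
    by_cases hx : x < 2
    · refine ⟨kw (swd x) * c, fix_mul F (K.fix _) hf, mul_mem ?_ hn, by rw [map_mul, K.rho, hr, e]; rfl⟩
      have h := mEl_norm F K (m := 12 + x) (by omega)
      rwa [mEl, show Nat.blt (12 + x) 12 = false by rw [← Bool.not_eq_true, Nat.blt_eq]; omega, cond_false,
        show Nat.blt (12 + x) 14 = true by simp [Nat.blt_eq]; omega, cond_true, Nat.add_sub_cancel_left] at h
    · refine ⟨c, hf, hn, ?_⟩
      rw [hr, e, wS_pad x (by omega), show wordP [] = 1 from rfl, one_mul]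

theorem kw8_norm {a : ℕ} (ha : a < 8) :
    (kw (w8.getD a []) : G) ∈ Subgroup.normalizer (subA F K : Set G) := by
  obtain ⟨c, hf, hn, hr⟩ := sw_lift F K (w8s.getD a [])
  rwa [fix_ext F (a := kw (w8.getD a [])) (b := c) (K.fix _) hf (by rw [K.rho, hr, w8s_ok a ha])]

theorem kw8_zero : (kw (w8.getD 0 []) : G) = 1 :=
  fix_ext F (a := kw (w8.getD 0 [])) (b := 1) (K.fix _) ⟨in0_one F.D g, by simp, by simp⟩
    (by rw [K.rho, d8_ok.2.2.2, map_one])

theorem tEl_norm {i a : ℕ} (hi : i < 64) (ha : a < 8) (b : Bool) :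
    tEl F K i a b ∈ Subgroup.normalizer (subA F K : Set G) := by
  refine mul_mem (mul_mem (rnf_norm F K (m0_ok.2.1 i hi)) (kw8_norm F K ha)) ?_
  cases b
  · exact one_mem _
  · exact mEl_norm F K (m := 14) (by norm_num)

theorem d_moves {b : Bool} (h : bp d b * t * (bp d b)⁻¹ = t) : b = false := by
  cases b
  · rfl
  · obtain ⟨d1, d2, d3⟩ := F.D.H.U_distinct F.D.sing
    exact absurd ((d_zt F.D).2.1.symm.trans h) d3

theorem tEl_bool {i a : ℕ} {b : Bool}
    (h : tEl F K i a b * t = t * tEl F K i a b) : b = false := by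
  refine d_moves F K ?_
  have hS : rnf z t g s (mI i) * (kw (w8.getD a []) : G) ∈ Sx z t :=
    mul_mem (F.D.R_le_Sx (rnf_mem F _)) (kw _).2
  obtain ⟨-, ht⟩ := mem_Sx.mp hS
  have h1 : bp d b * t = t * bp d b := by
    refine mul_left_cancel (a := rnf z t g s (mI i) * (kw (w8.getD a []) : G)) ?_
    rw [← mul_assoc, ← mul_assoc, ht, mul_assoc t]
    exact h
  exact conj_comm h1

theorem mI_inj {i j : ℕ} (hi : i < 64) (hj : j < 64) (h : mI i = mI j) : i = j := by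
  obtain ⟨-, -, hx, -, h0, -, -⟩ := m0_ok
  have e : mI (Nat.xor i j) = 0 := by
    rw [← hx i hi j hj, h, hx j hj j hj, show Nat.xor j j = 0 from Nat.xor_self j]
    rfl
  exact Nat.xor_eq_zero_iff.mp (h0 _ (Nat.xor_lt_two_pow (n := 6) hi hj) e)

theorem tEl_inj {i a i' a' : ℕ} {b b' : Bool} (hi : i < 64) (ha : a < 8) (hi' : i' < 64) (ha' : a' < 8)
    (h : tEl F K i a b = tEl F K i' a' b') : i = i' ∧ a = a' ∧ b = b' := by
  have hbb : b = b' := by
    have hS : ∀ i a, rnf z t g s (mI i) * (kw (w8.getD a []) : G) ∈ Sx z t := fun i a =>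
      mul_mem (F.D.R_le_Sx (rnf_mem F _)) (kw _).2
    have e : bp d b * (bp d b')⁻¹ ∈ Sx z t := by
      have : bp d b * (bp d b')⁻¹ = (rnf z t g s (mI i) * (kw (w8.getD a []) : G))⁻¹ *
          (rnf z t g s (mI i') * (kw (w8.getD a' []) : G)) := by
        rw [eq_inv_mul_iff_mul_eq, ← mul_assoc, mul_inv_eq_iff_eq_mul]
        exact h
      rw [this]
      exact mul_mem (inv_mem (hS i a)) (hS i' a')
    have hd : ¬ d ∈ Sx z t := fun hd => by
      obtain ⟨d1, d2, d3⟩ := F.D.H.U_distinct F.D.sing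
      exact d3 ((d_zt F.D).2.1.symm.trans (conj_comm (mem_Sx.mp hd).2))
    cases b <;> cases b'
    · rfl
    · exact absurd (inv_mem_iff.mp (by simpa [bp] using e)) hd
    · exact absurd (by simpa [bp] using e) hd
    · rfl
  subst hbb
  have h1 : rnf z t g s (mI i) * (kw (w8.getD a []) : G) =
      rnf z t g s (mI i') * (kw (w8.getD a' []) : G) := mul_right_cancel h
  have hR : ∀ k, ρ ⟨rnf z t g s (mI k), F.D.R_le_Sx (rnf_mem F _)⟩ = 1 := fun k =>
    F.D.rho_R.mpr (rnf_mem F _)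
  have haa : a = a' := by
    refine d8_ok.2.1 a ha a' ha' ?_
    have := congrArg ρ (Subtype.ext h1 : (⟨rnf z t g s (mI i), F.D.R_le_Sx (rnf_mem F _)⟩ : ↥(Sx z t)) *
      kw (w8.getD a []) = ⟨rnf z t g s (mI i'), F.D.R_le_Sx (rnf_mem F _)⟩ * kw (w8.getD a' []))
    rwa [map_mul, map_mul, hR, hR, one_mul, one_mul, K.rho, K.rho] at this
  subst haa
  exact ⟨mI_inj F K hi hi' (rnf_inj F (m0_ok.2.1 i hi) (m0_ok.2.1 i' hi') (mul_right_cancel h1)), rfl, rfl⟩

theorem tEl_mul {i a i' a' : ℕ} {b b' : Bool} (hi : i < 64) (ha : a < 8) (hi' : i' < 64) (ha' : a' < 8) :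
    ∃ j < 64, ∃ c < 8, tEl F K i a b * tEl F K i' a' b' = tEl F K j c (xor b b') := by
  obtain ⟨-, hlt, hx, hD, -, -, -⟩ := m0_ok
  have hMd : ∀ b, ∃ j < 64, bp d b * rnf z t g s (mI i') = rnf z t g s (mI j) * bp d b := by
    intro b
    cases b
    · exact ⟨i', hi', by simp [bp]⟩
    · obtain ⟨j, hj, e⟩ := hD i' hi'
      exact ⟨j, hj, mul_inv_eq_iff_eq_mul.mp ((conj_rnf_d F (hlt i' hi')).trans (by rw [e]))⟩
  obtain ⟨j₁, hj₁, e₁⟩ := hMd b
  obtain ⟨j₂, hj₂, e₂⟩ : ∃ j < 64, (kw (w8.getD a []) : G) * rnf z t g s (mI j₁) =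
      rnf z t g s (mI j) * (kw (w8.getD a []) : G) := by
    obtain ⟨j, hj, e⟩ := m0_conj a ha j₁ hj₁
    refine ⟨j, hj, mul_inv_eq_iff_eq_mul.mp ?_⟩
    rw [conj_rnf_Sx F (kw _).2 (K.act _) (K.fix _).2.2 (hlt j₁ hj₁), e]
  obtain ⟨c, hc, ec⟩ := d8_ok.1 a ha a' ha'
  have e₃ : (kw (w8.getD a []) : G) * (kw (w8.getD a' []) : G) = (kw (w8.getD c []) : G) :=
    fix_ext F (a := kw (w8.getD a []) * kw (w8.getD a' [])) (b := kw (w8.getD c []))
      (fix_mul F (K.fix _) (K.fix _)) (K.fix _) (by rw [map_mul, K.rho, K.rho, K.rho, ec])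
  have e₄ : bp d b * (kw (w8.getD a' []) : G) = (kw (w8.getD a' []) : G) * bp d b := by
    cases b
    · simp [bp]
    · exact (K.fix _).2.1
  refine ⟨Nat.xor i j₂, Nat.xor_lt_two_pow (n := 6) hi hj₂, c, hc, ?_⟩
  rw [tEl, tEl, tEl, ← hx i hi j₂ hj₂, ← rnf_mul F (hlt i hi) (hlt j₂ hj₂), bp_xor F.dd, ← e₃]
  calc rnf z t g s (mI i) * (kw (w8.getD a []) : G) * bp d b *
        (rnf z t g s (mI i') * (kw (w8.getD a' []) : G) * bp d b')
      = rnf z t g s (mI i) * (kw (w8.getD a []) : G) * (bp d b * rnf z t g s (mI i')) *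
        (kw (w8.getD a' []) : G) * bp d b' := by group
    _ = rnf z t g s (mI i) * ((kw (w8.getD a []) : G) * rnf z t g s (mI j₁)) *
        (bp d b * (kw (w8.getD a' []) : G)) * bp d b' := by rw [e₁]; group
    _ = _ := by rw [e₂, e₄]; group

theorem tEl_zero : tEl F K 0 0 false = 1 := by
  rw [tEl, show mI 0 = 0 from rfl, rnf_zero F, kw8_zero F K]
  simp [bp]

/-- The complement candidate. -/
def subT (F : Fr Q Q' z t ν d ρ g s) (K : Lift z t d g ρ s kw) : Subgroup G where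
  carrier := {x | ∃ i < 64, ∃ a < 8, ∃ b, tEl F K i a b = x}
  mul_mem' := by
    rintro _ _ ⟨i, hi, a, ha, b, rfl⟩ ⟨i', hi', a', ha', b', rfl⟩
    obtain ⟨j, hj, c, hc, e⟩ := tEl_mul F K (b := b) (b' := b') hi ha hi' ha'
    exact ⟨j, hj, c, hc, _, e.symm⟩
  one_mem' := ⟨0, by norm_num, 0, by norm_num, false, tEl_zero F K⟩
  inv_mem' := by
    intro x hx
    have hp : ∀ n : ℕ, ∃ i < 64, ∃ a < 8, ∃ b, tEl F K i a b = x ^ n := by
      intro n
      induction n with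
      | zero => exact ⟨0, by norm_num, 0, by norm_num, false, by rw [tEl_zero F K, pow_zero]⟩
      | succ n ih =>
        obtain ⟨i, hi, a, ha, b, e⟩ := ih
        obtain ⟨i', hi', a', ha', b', e'⟩ := hx
        obtain ⟨j, hj, c, hc, e''⟩ := tEl_mul F K (b := b) (b' := b') hi ha hi' ha'
        exact ⟨j, hj, c, hc, _, by rw [pow_succ, ← e, ← e'']; rw [e']⟩
    obtain ⟨i, hi, a, ha, b, e⟩ := hp (orderOf x - 1)
    refine ⟨i, hi, a, ha, b, e.trans (eq_inv_of_mul_eq_one_left ?_)⟩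
    rw [← pow_succ, Nat.sub_add_cancel (orderOf_pos x), pow_orderOf_eq_one]

theorem card_subT : Nat.card ↥(subT F K) = 2 ^ 10 := by
  let f : Fin 64 × Fin 8 × Bool → ↥(subT F K) := fun p =>
    ⟨tEl F K p.1 p.2.1 p.2.2, p.1, p.1.2, p.2.1, p.2.1.2, p.2.2, rfl⟩
  have hf : Function.Bijective f := by
    refine ⟨fun p q e => ?_, ?_⟩
    · obtain ⟨e1, e2, e3⟩ := tEl_inj F K p.1.2 p.2.1.2 q.1.2 q.2.1.2
        (congrArg (fun y : ↥(subT F K) => (y : G)) e)
      exact Prod.ext (Fin.ext e1) (Prod.ext (Fin.ext e2) e3)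
    · rintro ⟨_, i, hi, a, ha, b, rfl⟩
      exact ⟨(⟨i, hi⟩, ⟨a, ha⟩, b), rfl⟩
  rw [← Nat.card_eq_of_bijective f hf]
  simp [Nat.card_eq_fintype_card]

theorem subT_le_norm : subT F K ≤ Subgroup.normalizer (subA F K : Set G) := by
  rintro _ ⟨i, hi, a, ha, b, rfl⟩
  exact tEl_norm F K hi ha b

theorem subT_inf : subT F K ⊓ subA F K = ⊥ := by
  rw [eq_bot_iff]
  rintro _ ⟨⟨i, hi, a, ha, b, rfl⟩, ⟨j, hj, ej⟩⟩
  obtain rfl : b = false := by
    refine tEl_bool F K (i := i) (a := a) ?_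
    have := psi_comm F K j 2
    rwa [(psi_one F K).2.1, ej] at this
  have hb : tEl F K i a false = rnf z t g s (mI i) * (kw (w8.getD a []) : G) := by simp [tEl, bp]
  obtain ⟨-, hlo, hhi⟩ := split_code j hj
  rw [psi_code F K hj, hb] at ej
  obtain ⟨hm, hr, -⟩ := psi_high F K hhi
  have hR : ∀ x, ρ ⟨rnf z t g s x, F.D.R_le_Sx (rnf_mem F _)⟩ = 1 := fun x =>
    F.D.rho_R.mpr (rnf_mem F _)
  have hρ := congrArg ρ (Subtype.ext ej : (⟨rnf z t g s (rA (j % 256)), F.D.R_le_Sx (rnf_mem F _)⟩ : ↥(Sx z t)) *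
    ⟨_, hm⟩ = ⟨rnf z t g s (mI i), F.D.R_le_Sx (rnf_mem F _)⟩ * kw (w8.getD a []))
  rw [map_mul, map_mul, hR, hR, one_mul, one_mul, hr, K.rho] at hρ
  obtain rfl : a = 0 := d8_ok.2.2.1 a ha _ hhi hρ.symm
  rw [d8_ok.2.2.2] at hρ
  have he : j / 256 = 0 := base_ok.2.2.2 _ hhi hρ
  rw [he, mul_zero, psi_zero F K, mul_one, kw8_zero F K, mul_one] at ej
  have e := rnf_inj F (base_ok.2.1 _ hlo).1 (m0_ok.2.1 i hi) ej
  obtain ⟨h1, h2⟩ := m0_ok.2.2.2.2.2.2 _ hlo
  rw [e] at h1 h2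
  obtain rfl : i = 0 := m0_ok.2.2.2.2.2.1 i hi h1 h2
  rw [Subgroup.mem_bot, tEl_zero F K]

/-- The abelian subgroup has a complement in its normaliser. -/
theorem exists_split {φ : ↥(Subgroup.normalizer (subA F K : Set G)) →* ↥Cfsg.M24}
    (hk : φ.ker = (subA F K).subgroupOf (Subgroup.normalizer (subA F K : Set G)))
    (hs : Function.Surjective φ) (hA : Nat.card ↥(subA F K) = 2 ^ 11) :
    ∃ H : Subgroup ↥(Subgroup.normalizer (subA F K : Set G)),
      ((subA F K).subgroupOf (Subgroup.normalizer (subA F K : Set G))).IsComplement' H := by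
  classical
  set A := (subA F K).subgroupOf (Subgroup.normalizer (subA F K : Set G)) with hA'
  set T := (subT F K).subgroupOf (Subgroup.normalizer (subA F K : Set G)) with hT'
  haveI hAn : A.Normal := hk ▸ φ.normal_ker
  haveI : IsMulCommutative ↥A := ⟨⟨fun x y => by
    obtain ⟨i, hi, ei⟩ := Subgroup.mem_subgroupOf.mp x.2
    obtain ⟨j, hj, ej⟩ := Subgroup.mem_subgroupOf.mp y.2
    refine Subtype.ext (Subtype.ext ?_)
    show ((x : ↥(Subgroup.normalizer (subA F K : Set G))) : G) * ((y : ↥(Subgroup.normalizer (subA F K : Set G))) : G) = ((y : ↥(Subgroup.normalizer (subA F K : Set G))) : G) * ((x : ↥(Subgroup.normalizer (subA F K : Set G))) : G)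
    rw [← ei, ← ej]
    exact psi_comm F K i j⟩⟩
  have hcA : Nat.card ↥A = 2 ^ 11 := by
    rw [Nat.card_congr (Subgroup.subgroupOfEquivOfLe (A_le_norm F K)).toEquiv, hA]
  have hcT : Nat.card ↥T = 2 ^ 10 := by
    rw [Nat.card_congr (Subgroup.subgroupOfEquivOfLe (subT_le_norm F K)).toEquiv, card_subT F K]
  have hinf : T ⊓ A = ⊥ := by
    rw [eq_bot_iff]
    intro x hx
    have : (x : G) ∈ subT F K ⊓ subA F K := ⟨Subgroup.mem_subgroupOf.mp hx.1, Subgroup.mem_subgroupOf.mp hx.2⟩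
    rw [subT_inf F K, Subgroup.mem_bot] at this
    exact Subgroup.mem_bot.mpr (Subtype.ext this)
  have hU : Nat.card ↥(A ⊔ T) = 2 ^ 21 := by
    let f : ↥A × ↥T → ↥(A ⊔ T) := fun p => ⟨(p.1 : ↥(Subgroup.normalizer (subA F K : Set G))) * p.2,
      mul_mem (Subgroup.mem_sup_left p.1.2) (Subgroup.mem_sup_right p.2.2)⟩
    have hf : Function.Bijective f := by
      refine ⟨fun p q e => ?_, ?_⟩
      · have e' : (p.1 : ↥(Subgroup.normalizer (subA F K : Set G))) * p.2 = (q.1 : ↥(Subgroup.normalizer (subA F K : Set G))) * q.2 := congrArg (fun y : ↥(A ⊔ T) => (y : ↥(Subgroup.normalizer (subA F K : Set G)))) e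
        have hmem : (q.1 : ↥(Subgroup.normalizer (subA F K : Set G)))⁻¹ * p.1 ∈ T ⊓ A := by
          refine ⟨?_, Subgroup.mul_mem _ (Subgroup.inv_mem _ q.1.2) p.1.2⟩
          rw [show (q.1 : ↥(Subgroup.normalizer (subA F K : Set G)))⁻¹ * p.1 = (q.2 : ↥(Subgroup.normalizer (subA F K : Set G))) * (p.2 : ↥(Subgroup.normalizer (subA F K : Set G)))⁻¹ by
            rw [inv_mul_eq_iff_eq_mul, ← mul_assoc, eq_mul_inv_iff_mul_eq, e']]
          exact Subgroup.mul_mem _ q.2.2 (Subgroup.inv_mem _ p.2.2)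
        rw [hinf, Subgroup.mem_bot, inv_mul_eq_one] at hmem
        rw [hmem] at e'
        exact Prod.ext (Subtype.ext hmem.symm) (Subtype.ext (mul_left_cancel e'))
      · rintro ⟨x, hx⟩
        have h1 : x ∈ ((A ⊔ T : Subgroup ↥(Subgroup.normalizer (subA F K : Set G))) : Set ↥(Subgroup.normalizer (subA F K : Set G))) := hx
        rw [Subgroup.normal_mul] at h1
        obtain ⟨a, ha, b, hb, rfl⟩ := h1
        exact ⟨(⟨a, ha⟩, ⟨b, hb⟩), rfl⟩
    rw [← Nat.card_eq_of_bijective f hf, Nat.card_prod, hcA, hcT]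
    norm_num
  have hN2 : Nat.card ↥(Subgroup.normalizer (subA F K : Set G)) = 2 ^ 11 * 244823040 := by
    rw [← Subgroup.card_mul_index φ.ker, Subgroup.index_ker, MonoidHom.range_eq_top.mpr hs,
      Subgroup.card_top, GolayM24.card_M24, hk, hcA]
  have hidx : (A ⊔ T).index = 239085 := by
    have := Subgroup.card_mul_index (A ⊔ T)
    rw [hU, hN2] at this
    omega
  obtain ⟨H, hH⟩ := CoprimeGaschutz.exists_complement (K := A) (U := A ⊔ T) le_sup_left
    (by rw [hcA, hidx]; exact Nat.Coprime.pow_left 11 (by decide)) T le_sup_right hinf rfl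
  exact ⟨H, hH⟩

end

end Cfsg.Agent.Co1Frame89
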