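import Cfsg.Agent.Lib.Co1Norm89
import Cfsg.Agent.Lib.ConwayTypeClasses62

/-!
The swap and `d` in normalised coordinates.
-/

set_option autoImplicit false
set_option linter.unusedSectionVars false

namespace Cfsg.Agent.Co1Frame89

open Cfsg.Agent.LargeExtraspecial Cfsg.Agent.ConwayTypeModel62 Cfsg.Agent.ConwayTypeCoord62
  Cfsg.Agent.ConwayTypeRadical62 Cfsg.Agent.Co1Bits89 Cfsg.Agent.Co1Calc89 Cfsg.Agent.Co1Data89
  Cfsg.Agent.Co1Check89

variable {G : Type*} [Group G] [Finite G]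

/-- The image of a section under the swap. -/
def bG (g : G) (s : ℕ → G) (w : ℕ) : G := g * aP s w * g⁻¹

/-- The element of four coordinates. -/
def X (z t g : G) (s : ℕ → G) (i j : Bool) (u w : ℕ) : G := bp z i * bp t j * aP s u * bG g s w

section

variable {Q Q' : Subgroup G} {z t : G} {ν : G → M6} {d g : G}
  {ρ : ↥(Sx z t) →* P8} (D : Ctx Q Q' z t ν d ρ)
include D

theorem exists_inv_d : ∃ d', d' * d' = 1 ∧ Ctx Q Q' z t ν d' ρ := by
  rcases D.H.h.sq d D.hd with e | e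
  · exact ⟨d, e, D⟩
  · refine ⟨d * t, ?_, ⟨D.H, D.H', D.P, D.K, Q.mul_mem D.hd D.sing.1, ?_, D.hρ, D.conj, D.tz⟩⟩
    · calc d * t * (d * t) = (d * t * d⁻¹) * (d * d) * t := by group
        _ = z * t * z * t := by rw [D.ed, e]
        _ = z * (z * t) * t := by rw [mul_assoc z t z, ← D.H.zx D.sing]
        _ = 1 := by rw [D.H.h.z_mul_z_mul, D.sing.2.1]
    · rw [← D.ed]; group

theorem exists_sw : ∃ g, Sw Q Q' z t d g := by
  obtain ⟨g0, hg0⟩ := isConj_iff.mp D.tz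
  have hmap : ∀ g : G, g * z * g⁻¹ = t → (∀ x ∈ Q, g * x * g⁻¹ ∈ Q') ∧
      ∀ y ∈ Q', ∃ x ∈ Q, g * x * g⁻¹ = y := by
    intro g hg
    have hy : ∀ y ∈ Q', ∃ x ∈ Q, g * x * g⁻¹ = y := fun y hy => by
      obtain ⟨x, hx, e⟩ := D.P.conj_eq 1 g (by rw [hg]; group) y hy
      exact ⟨x, hx, by rw [← e]; group⟩
    refine ⟨fun x hx => ?_, hy⟩
    have he : Q' = Q.map (MulAut.conj g).toMonoidHom :=
      Subgroup.eq_of_le_of_card_ge (fun y h => by
        obtain ⟨x, hx, e⟩ := hy y h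
        exact ⟨x, hx, e⟩)
        (by rw [Subgroup.card_map_of_injective (MulAut.conj g).injective, D.H.cardQ, D.H'.cardQ])
    rw [he]
    exact ⟨x, hx, rfl⟩
  have hS' : Sing Q' t z := ⟨D.P.zQ', D.H.h.zz, D.H.h.ne_one, D.P.ne.symm⟩
  have hS : Sing Q' t (g0 * t * g0⁻¹) :=
    ⟨(hmap g0 hg0).1 t D.sing.1, by rw [conj_mul_conj, D.sing.2.1]; group,
      fun e => D.sing.2.2.1 (conj_eq_one_iff.mp e),
      fun e => D.P.ne (by
        have := e.trans hg0.symm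
        exact mul_left_cancel (mul_right_cancel this))⟩
  obtain ⟨c, hc, ec⟩ := D.H'.transitive hS hS'
  obtain ⟨g1, hg1z, hg1t⟩ : ∃ g1 : G, g1 * z * g1⁻¹ = t ∧ g1 * t * g1⁻¹ = z :=
    ⟨c * g0, by rw [show c * g0 * z * (c * g0)⁻¹ = c * (g0 * z * g0⁻¹) * c⁻¹ by group, hg0,
        conj_comm hc],
      by rw [← ec]; group⟩
  obtain ⟨m1, m2⟩ := hmap g1 hg1z
  have hsq : g1 * g1 ∈ Sx z t := by
    refine mem_Sx.mpr ⟨mul_inv_eq_iff_eq_mul.mp ?_, mul_inv_eq_iff_eq_mul.mp ?_⟩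
    · calc g1 * g1 * z * (g1 * g1)⁻¹ = g1 * (g1 * z * g1⁻¹) * g1⁻¹ := by group
        _ = z := by rw [hg1z, hg1t]
    · calc g1 * g1 * t * (g1 * g1)⁻¹ = g1 * (g1 * t * g1⁻¹) * g1⁻¹ := by group
        _ = t := by rw [hg1t, hg1z]
  have m3 : ∀ y ∈ Q', g1 * y * g1⁻¹ ∈ Q := fun y hy => by
    obtain ⟨x, hx, rfl⟩ := m2 y hy
    have := D.H.h.norm _ (mem_Sx.mp hsq).1 x hx
    rwa [show g1 * g1 * x * (g1 * g1)⁻¹ = g1 * (g1 * x * g1⁻¹) * g1⁻¹ by group] at this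
  obtain ⟨b, hb, eb⟩ := D.ev_surj (act (ρ ⟨_, hsq⟩)⁻¹ (ev ν d (g1 * g1)))
  have hbS := D.C'_le_Sx hb
  obtain ⟨hbz, hbt⟩ := mem_Sx.mp hbS
  have gz : g1 * b * z * (g1 * b)⁻¹ = t := by
    rw [show g1 * b * z * (g1 * b)⁻¹ = g1 * (b * z * b⁻¹) * g1⁻¹ by group, conj_comm hbz, hg1z]
  have gt : g1 * b * t * (g1 * b)⁻¹ = z := by
    rw [show g1 * b * t * (g1 * b)⁻¹ = g1 * (b * t * b⁻¹) * g1⁻¹ by group, conj_comm hbt, hg1t]
  have hgS : g1 * b * (g1 * b) ∈ Sx z t := by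
    refine mem_Sx.mpr ⟨mul_inv_eq_iff_eq_mul.mp ?_, mul_inv_eq_iff_eq_mul.mp ?_⟩
    · calc g1 * b * (g1 * b) * z * (g1 * b * (g1 * b))⁻¹
          = g1 * b * (g1 * b * z * (g1 * b)⁻¹) * (g1 * b)⁻¹ := by group
        _ = z := by rw [gz, gt]
    · calc g1 * b * (g1 * b) * t * (g1 * b * (g1 * b))⁻¹
          = g1 * b * (g1 * b * t * (g1 * b)⁻¹) * (g1 * b)⁻¹ := by group
        _ = t := by rw [gt, gz]
  have ha : g1 * b * g1⁻¹ ∈ Cx Q t := by
    refine mem_Cx.mpr ⟨m3 b (mem_Cx.mp hb).1, ?_⟩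
    have e := conj_mul_conj g1 b z
    rwa [hbz, ← conj_mul_conj, hg1z] at e
  have hev : ev ν d (g1 * b * (g1 * b)) = 0 := by
    rw [show g1 * b * (g1 * b) = g1 * b * g1⁻¹ * (g1 * g1 * b) by group,
      D.ev_mul (D.triv_of_R (D.Cx_le_R ha)) (mul_mem hsq hbS), D.ev_Cx ha, add_zero,
      show ev ν d (g1 * g1 * b) = _ from ev_cocycle D ⟨_, hsq⟩ ⟨b, hbS⟩]
    show act _ (ev ν d b) + _ = _
    rw [eb, ← act_mul, mul_inv_cancel, act_one, add_self]
  refine ⟨g1 * b, gz, gt, fun x hx => ?_, fun x hx => ?_, hgS, (ev_zero D hgS).1 hev, ?_⟩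
  · rw [show g1 * b * x * (g1 * b)⁻¹ = g1 * (b * x * b⁻¹) * g1⁻¹ by group]
    exact m1 _ (D.H.h.norm b hbz x hx)
  · rw [show g1 * b * x * (g1 * b)⁻¹ = g1 * (b * x * b⁻¹) * g1⁻¹ by group]
    exact m3 _ (D.P.h'.norm b hbt x hx)
  · rw [show g1 * b * (g1 * b) * (g1 * b * d * (g1 * b)⁻¹) * (g1 * b * (g1 * b))⁻¹ *
        (g1 * b * d * (g1 * b)⁻¹)⁻¹
      = g1 * b * (g1 * b * (g1 * b) * d * (g1 * b * (g1 * b))⁻¹ * d⁻¹) * (g1 * b)⁻¹ by group]
    rcases (ev_zero D hgS).1 hev with h | h | h | h <;> rw [h]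
    · exact Or.inl (by group)
    · exact Or.inr (Or.inr (Or.inl gz))
    · exact Or.inr (Or.inl gt)
    · refine Or.inr (Or.inr (Or.inr ?_))
      rw [← conj_mul_conj, gz, gt, D.H.zx D.sing]

variable (S : Sw Q Q' z t d g) {x₀ : G} (hx₀ : In0 z t d g x₀)
include S hx₀

theorem in0_iff (c : G) : In0 z t d (g * x₀) c ↔ In0 z t d g c := by
  obtain ⟨u, hu, e⟩ : ∃ u, InU z t u ∧ g * x₀ * d * (g * x₀)⁻¹ = u * (g * d * g⁻¹) := by
    refine ⟨_, g_InU D S hx₀.2.1, ?_⟩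
    group
  have key : ∀ c ∈ Sx z t, c * (g * x₀ * d * (g * x₀)⁻¹) * c⁻¹ * (g * x₀ * d * (g * x₀)⁻¹)⁻¹ =
      u * (c * (g * d * g⁻¹) * c⁻¹ * (g * d * g⁻¹)⁻¹) * u⁻¹ := by
    intro c hc
    rw [e]
    calc c * (u * (g * d * g⁻¹)) * c⁻¹ * (u * (g * d * g⁻¹))⁻¹
        = (c * u * c⁻¹) * (c * (g * d * g⁻¹) * c⁻¹) * (g * d * g⁻¹)⁻¹ * u⁻¹ := by group
      _ = _ := by rw [U_fix D hu hc]; group
  constructor
  · rintro ⟨h1, h2, h3⟩
    refine ⟨h1, h2, ?_⟩
    rw [key c h1] at h3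
    have h := U_fix D h3 (inv_mem (U_mem_Sx D hu))
    rw [show u⁻¹ * (u * (c * (g * d * g⁻¹) * c⁻¹ * (g * d * g⁻¹)⁻¹) * u⁻¹) * u⁻¹⁻¹ =
      c * (g * d * g⁻¹) * c⁻¹ * (g * d * g⁻¹)⁻¹ by group] at h
    exact h ▸ h3
  · rintro ⟨h1, h2, h3⟩
    exact ⟨h1, h2, by rw [key c h1, U_fix D h3 (U_mem_Sx D hu)]; exact h3⟩

theorem sw_mul : Sw Q Q' z t d (g * x₀) := by
  obtain ⟨hz, ht⟩ := mem_Sx.mp hx₀.1
  refine ⟨?_, ?_, fun x hx => ?_, fun x hx => ?_, ?_⟩
  · rw [show g * x₀ * z * (g * x₀)⁻¹ = g * (x₀ * z * x₀⁻¹) * g⁻¹ by group, conj_comm hz, S.gz]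
  · rw [show g * x₀ * t * (g * x₀)⁻¹ = g * (x₀ * t * x₀⁻¹) * g⁻¹ by group, conj_comm ht, S.gt]
  · rw [show g * x₀ * x * (g * x₀)⁻¹ = g * (x₀ * x * x₀⁻¹) * g⁻¹ by group]
    exact S.toQ' _ (D.H.h.norm x₀ hz x hx)
  · rw [show g * x₀ * x * (g * x₀)⁻¹ = g * (x₀ * x * x₀⁻¹) * g⁻¹ by group]
    exact S.toQ _ (D.P.h'.norm x₀ ht x hx)
  · rw [in0_iff D S hx₀]
    have h := in0_mul D S.sq (in0_mul D (in0_g D S hx₀).1 hx₀)
    rwa [show g * g * (g⁻¹ * x₀ * g * x₀) = g * x₀ * (g * x₀) by group] at h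

end

section Twist

variable {Q Q' : Subgroup G} {z t : G} {ν : G → M6} {d g : G}
  {ρ : ↥(Sx z t) →* P8} {s : ℕ → G}
  (D : Ctx Q Q' z t ν d ρ) (S : Sw Q Q' z t d g) (E : Sect Q t ν d s)
include D S E

theorem bG_mem (w : ℕ) : bG g s w ∈ Cx Q' z := g_Cx D S (aP_mem D E w).1

theorem g_bp (b : Bool) : g * bp z b * g⁻¹ = bp t b ∧ g * bp t b * g⁻¹ = bp z b :=
  ⟨by rw [conj_bp, S.gz], by rw [conj_bp, S.gt]⟩

theorem bG_mul (u v : ℕ) :
    bG g s u * bG g s v = bp t (Co1Bits89.beta u v) * bG g s (Nat.xor u v) := by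
  rw [bG, bG, bG, conj_mul_conj, aP_mul D E, ← conj_mul_conj, (g_bp D S E _).1]

theorem g_el (x : ℕ) : g * el z s x * g⁻¹ = bp t (Nat.testBit x 0) * bG g s (Nat.shiftRight x 1) := by
  rw [el, ← conj_mul_conj, (g_bp D S E _).1]
  rfl

theorem ev_bp_t (b : Bool) {y : G} (hy : y ∈ Cx Q' z) : ev ν d (bp t b * y) = ev ν d y := by
  cases b
  · simp [bp]
  · have ht : t ∈ Cx Q t := D.H.x_mem D.sing
    rw [show bp t true = t from rfl,
      D.ev_mul (D.triv_of_R (D.Cx_le_R ht)) (D.C'_le_Sx hy), D.ev_Cx ht, add_zero]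

/-- The twist is given by a permutation. -/
theorem exists_twist : ∃ τ : P8, ∀ w < 64, ev ν d (bG g s w) = act τ (vec w) := by
  choose code hc1 hc2 using vec_surj
  have hadd : ∀ u v, ev ν d (bG g s (Nat.xor u v)) = ev ν d (bG g s u) + ev ν d (bG g s v) := by
    intro u v
    rw [← ev_bp_t D S E (Co1Bits89.beta u v) (bG_mem D S E _), ← bG_mul D S E,
      D.ev_mul (D.triv_of_R (D.C'_le_R (bG_mem D S E u))) (D.C'_le_Sx (bG_mem D S E v)), add_comm]
  let L : M6 →+ M6 := AddMonoidHom.mk' (fun x => ev ν d (bG g s (code x))) fun x y => by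
    rw [← hadd]
    congr 2
    refine vec_inj _ (hc1 _) _ (Nat.xor_lt_two_pow (n := 6) (hc1 x) (hc1 y)) ?_
    rw [hc2, vec_xor, hc2, hc2]
  have h0 : ∀ x, L x = 0 → x = 0 := fun x hx => by
    have h := ginv_InU D S (D.inU_iff.mpr ((D.ev_eq_zero (bG_mem D S E _)).1 hx))
    rw [show g⁻¹ * bG g s (code x) * g = aP s (code x) by rw [bG]; group] at h
    have := (D.K.ker _ (aP_mem D E _).1).mpr h
    rwa [nu_aP D E (hc1 x), hc2] at this
  have hf : ∀ x, f (L x) = f x := fun x => by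
    have h := D.sq_C' _ (bG_mem D S E (code x))
    rw [bG, conj_mul_conj, D.K.sq _ (aP_mem D E _).1, nu_aP D E (hc1 x), hc2] at h
    obtain ⟨b, hb⟩ := exists_bz (f x)
    rw [← hb, bp_zp, (g_bp D S E b).1, show bp t b = bp z false * bp t b by simp [bp],
      bp_vv, hb] at h
    exact (congrArg Prod.snd (D.vv_inj h)).symm
  obtain ⟨τ, hτ⟩ := exists_perm L h0 hf
  refine ⟨τ, fun w hw => ?_⟩
  rw [← hτ]
  show _ = ev ν d (bG g s (code (vec w)))
  rw [vec_inj _ (hc1 (vec w)) _ hw (hc2 _)]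

theorem twist_conj {τ : P8} (hτ : ∀ w < 64, ev ν d (bG g s w) = act τ (vec w)) (c : ↥(Sx z t))
    (hc : In0 z t d g (c : G)) :
    ρ ⟨g⁻¹ * c * g, ginv_Sx D S c.2⟩ = τ⁻¹ * ρ c * τ := by
  set c' : ↥(Sx z t) := ⟨g⁻¹ * c * g, ginv_Sx D S c.2⟩ with hc'
  refine act_inj fun x => ?_
  obtain ⟨v, hv, rfl⟩ := vec_surj x
  obtain ⟨y, hy, ey, vy⟩ := conj_code D S E (c := c') (in0_g D S hc).1 (aP_mem D E v).1 (aP_mem D E v).2
  rw [nu_aP D E hv] at vy
  have e : (c : G) * bG g s v * (c : G)⁻¹ =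
      bp t (Nat.testBit y 0) * bG g s (Nat.shiftRight y 1) := by
    rw [← g_el D S E, ey, bG, hc']
    group
  have h := congrArg (ev ν d) e
  rw [D.ev_conj (bG_mem D S E v), hτ v hv, ev_bp_t D S E _ (bG_mem D S E _),
    hτ (Nat.shiftRight y 1) (show y / 2 < 64 by omega), vy] at h
  have h2 := congrArg (act τ⁻¹) h
  rw [act_inv_act] at h2
  rw [← h2, act_mul, act_mul]

theorem twist_shift {τ : P8} (hτ : ∀ w < 64, ev ν d (bG g s w) = act τ (vec w)) (x₀ : ↥(Sx z t))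
    (hx : In0 z t d g (x₀ : G)) :
    ∀ w < 64, ev ν d (bG (g * (x₀ : G)) s w) = act (τ * ρ x₀) (vec w) := by
  intro w hw
  obtain ⟨y, hy, ey, vy⟩ := conj_code D S E hx (aP_mem D E w).1 (aP_mem D E w).2
  rw [show bG (g * (x₀ : G)) s w = g * ((x₀ : G) * aP s w * (x₀ : G)⁻¹) * g⁻¹ by rw [bG]; group,
    ← ey, g_el D S E, ev_bp_t D S E _ (bG_mem D S E _), hτ (Nat.shiftRight y 1) (show y / 2 < 64 by omega),
    vy, nu_aP D E hw, act_mul]

/-! ### Normal forms -/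

theorem bp_central (i j : Bool) {r : G} (hr : r ∈ D.P.R) :
    r * (bp z i * bp t j) = bp z i * bp t j * r := by
  rw [bp_vv]
  exact D.vv_comm _ hr

variable {p : ℕ → ℕ} (hev : ∀ w < 64, ev ν d (bG g s w) = vec (p w) ∧ p w < 64)
include hev

theorem b_a {u w : ℕ} (hu : u < 64) (hw : w < 64) :
    bG g s w * aP s u = bp z (BN u (p w)) * bp t (BN u (p w)) * (aP s u * bG g s w) := by
  obtain ⟨h1, h2⟩ := hev w hw
  have h := D.comm_ab _ (aP_mem D E u).1 _ (bG_mem D S E w)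
  rw [nu_aP D E hu, h1, (forms u hu).2 _ h2] at h
  rw [bp_vv]
  have hc := D.vv_comm (bz (BN u (p w)), bz (BN u (p w)))
    (mul_mem (D.Cx_le_R (aP_mem D E u).1) (D.C'_le_R (bG_mem D S E w)))
  calc bG g s w * aP s u
      = (aP s u * bG g s w * (aP s u)⁻¹ * (bG g s w)⁻¹)⁻¹ * (aP s u * bG g s w) := by group
    _ = _ := by rw [h, D.vv_inv]

theorem X_mul {i j i' j' : Bool} {u w u' w' : ℕ} (hu : u' < 64) (hw : w < 64) :
    X z t g s i j u w * X z t g s i' j' u' w' =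
      X z t g s (xor (xor (xor i i') (BN u' (p w))) (Co1Bits89.beta u u'))
        (xor (xor (xor j j') (BN u' (p w))) (Co1Bits89.beta w w')) (Nat.xor u u') (Nat.xor w w') := by
  have ha := fun u => D.Cx_le_R (aP_mem D E u).1
  have hb := fun w => D.C'_le_R (bG_mem D S E w)
  have hr := mul_mem (ha u) (hb w)
  simp only [X]
  calc bp z i * bp t j * aP s u * bG g s w * (bp z i' * bp t j' * aP s u' * bG g s w')
      = bp z i * bp t j * ((aP s u * bG g s w) * (bp z i' * bp t j')) * aP s u' * bG g s w' := by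
        group
    _ = bp z i * bp t j * (bp z i' * bp t j') * aP s u * (bG g s w * aP s u') * bG g s w' := by
        rw [bp_central D S E i' j' hr]; group
    _ = bp z i * bp t j * (bp z i' * bp t j') * (aP s u * (bp z (BN u' (p w)) * bp t (BN u' (p w)))) * aP s u' *
          (bG g s w * bG g s w') := by
        rw [b_a D S E hev hu hw]; group
    _ = bp z i * bp t j * (bp z i' * bp t j') * (bp z (BN u' (p w)) * bp t (BN u' (p w))) * (aP s u * aP s u') *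
          (bG g s w * bG g s w') := by
        rw [bp_central D S E (BN u' (p w)) (BN u' (p w)) (ha u)]; group
    _ = bp z i * bp t j * (bp z i' * bp t j') * (bp z (BN u' (p w)) * bp t (BN u' (p w))) * bp z (Co1Bits89.beta u u') *
          ((aP s (Nat.xor u u')) * bp t (Co1Bits89.beta w w')) * bG g s (Nat.xor w w') := by
        rw [aP_mul D E, bG_mul D S E]; group
    _ = (bp z i * bp t j * (bp z i' * bp t j') * (bp z (BN u' (p w)) * bp t (BN u' (p w))) *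
          (bp z (Co1Bits89.beta u u') * bp t false) * (bp z false * bp t (Co1Bits89.beta w w'))) *
          aP s (Nat.xor u u') * bG g s (Nat.xor w w') := by
        rw [show bp t (Co1Bits89.beta w w') = bp z false * bp t (Co1Bits89.beta w w') by simp [bp],
          bp_central D S E _ _ (ha _)]
        simp only [bp, cond_false, mul_one, one_mul, mul_assoc]
    _ = _ := by
        congr 2
        rw [bp_vv, bp_vv, bp_vv, bp_vv, bp_vv, bp_vv, ← D.vv_add, ← D.vv_add, ← D.vv_add, ← D.vv_add]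
        simp only [Prod.mk_add_mk, ← bz_xor, show bz false = 0 from rfl, add_zero]

theorem X_inj {i j i' j' : Bool} {u w u' w' : ℕ} (hu : u < 64) (hw : w < 64) (hu' : u' < 64)
    (hw' : w' < 64) (hpi : ∀ a < 64, ∀ b < 64, p a = p b → a = b)
    (h : X z t g s i j u w = X z t g s i' j' u' w') : i = i' ∧ j = j' ∧ u = u' ∧ w = w' := by
  have hm : ∀ i j u, bp z i * bp t j * aP s u ∈ Cx Q t := fun i j u =>
    mul_mem (D.V_le_Cx (bp_vv z t i j ▸ D.vv_mem _)) (aP_mem D E u).1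
  obtain ⟨e1, e2⟩ := D.decomp_unique (hm i j u) (bG_mem D S E w) (hm i' j' u') (bG_mem D S E w') h
  have hn : ∀ i j, ∀ u < 64, ν (bp z i * bp t j * aP s u) = vec u := fun i j u hu => by
    rw [D.K.add _ (D.V_le_Cx (bp_vv z t i j ▸ D.vv_mem _)) _ (aP_mem D E u).1, nu_aP D E hu,
      (D.K.ker _ (D.V_le_Cx (bp_vv z t i j ▸ D.vv_mem _))).mpr
        (D.inU_iff.mpr (bp_vv z t i j ▸ D.vv_mem _)), zero_add]
  rw [hn i j u hu, hn i' j' u' hu'] at e1
  obtain rfl := vec_inj u hu u' hu' e1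
  rw [(hev w hw).1, (hev w' hw').1] at e2
  obtain rfl := hpi w hw w' hw' (vec_inj _ (hev w hw).2 _ (hev w' hw').2 e2)
  have h3 := mul_right_cancel (mul_right_cancel h)
  rw [bp_vv, bp_vv] at h3
  obtain ⟨h4, h5⟩ := Prod.ext_iff.mp (D.vv_inj h3)
  exact ⟨bz_inj _ _ h4, bz_inj _ _ h5, rfl, rfl⟩

theorem exists_k (hdd : d * d = 1) {v : ℕ} (hv : v < 64) :
    ∃ k, d * bG g s v * d⁻¹ = X z t g s k (fN v) (p v) v := by
  obtain ⟨h1, h2⟩ := hev v hv
  obtain ⟨a, ha, ea, e⟩ := D.d_conj_C' (bG_mem D S E v)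
  have hA := (aP_mem D E (p v)).1
  obtain ⟨⟨i, j⟩, hij⟩ := D.vv_surj (D.inU_iff.mp ((D.H.nu_eq D.sing D.K ha hA).mp
    (by rw [ea, h1, nu_aP D E h2])))
  obtain ⟨k, rfl⟩ := exists_bz i
  obtain ⟨m, rfl⟩ := exists_bz j
  have eX : d * bG g s v * d⁻¹ = X z t g s k m (p v) v := by
    rw [e, X, bp_vv, ← hij]; group
  refine ⟨k, ?_⟩
  suffices m = fN v by rw [← this]; exact eX
  have hdX : d * X z t g s k m (p v) v * d⁻¹ =
      X z t g s (xor k m) m (p v) 0 * X z t g s k m (p v) v := by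
    have e0 : bG g s 0 = 1 := by simp [bG, aP, prodK, bp]
    rw [X, ← conj_mul_conj, ← conj_mul_conj, ← conj_mul_conj, (aP_mem D E _).2, eX, conj_bp,
      conj_bp, (d_zt D).1, D.ed]
    simp only [X, e0, mul_one]
    congr 2
    cases k <;> cases m <;> simp [bp, D.H.h.z_mul_z_mul]
  have e1 : d * X z t g s k m (p v) v * d⁻¹ = bG g s v := by
    rw [← eX, show d * (d * bG g s v * d⁻¹) * d⁻¹ = (d * d) * bG g s v * (d * d)⁻¹ by group, hdd]
    group
  rw [hdX, X_mul D S E hev h2 (by norm_num : 0 < 64), show ∀ a, Nat.xor a a = 0 from Nat.xor_self, show ∀ a, Nat.xor 0 a = a from Nat.zero_xor] at e1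
  have hB : BN (p v) (p 0) = false := by
    refine bz_inj _ _ ?_
    rw [← (forms _ h2).2 _ (hev 0 (by norm_num)).2, ← (hev 0 (by norm_num)).1,
      show bG g s 0 = 1 by simp [bG, aP, prodK, bp], D.ev_one, B_zero_right]
    rfl
  have hb0 : Co1Bits89.beta 0 v = false := (by decide +kernel : ∀ v < 64, Co1Bits89.beta 0 v = false) v hv
  rw [hB, hb0] at e1
  have e2 : bp z (xor (xor (xor (xor k m) k) false) (Co1Bits89.beta (p v) (p v))) *
      bp t (xor (xor (xor m m) false) false) * aP s 0 = 1 := mul_eq_right.mp e1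
  simp only [Bool.xor_false, Bool.xor_self, show aP s 0 = 1 by simp [aP, prodK, bp],
    show bp t false = 1 from rfl, mul_one] at e2
  have e3 : xor (xor (xor k m) k) (fN (p v)) = false :=
    bp_inj D.H.h.ne_one (show bp z _ = bp z false from e2)
  have e4 : fN (p v) = fN v := by
    refine bz_inj _ _ ?_
    have hs := D.sq_C' _ (bG_mem D S E v)
    rw [h1, bG, conj_mul_conj, D.K.sq _ (aP_mem D E v).1, nu_aP D E hv, (forms v hv).1, bp_zp,
      (g_bp D S E _).1, show bp t (fN v) = bp z false * bp t (fN v) by simp [bp], bp_vv,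
      (forms _ h2).1] at hs
    exact (congrArg Prod.snd (D.vv_inj hs)).symm
  rw [e4] at e3
  revert e3
  cases k <;> cases m <;> cases fN v <;> simp

theorem k_rule {u v : ℕ} (hu : u < 64) (hv : v < 64) {ku kv kw : Bool}
    (hpi : ∀ a < 64, ∀ b < 64, p a = p b → a = b) (hB : BN (p v) (p u) = BN u v)
    (h1 : d * bG g s u * d⁻¹ = X z t g s ku (fN u) (p u) u)
    (h2 : d * bG g s v * d⁻¹ = X z t g s kv (fN v) (p v) v)
    (h3 : d * bG g s (Nat.xor u v) * d⁻¹ =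
      X z t g s kw (fN (Nat.xor u v)) (p (Nat.xor u v)) (Nat.xor u v)) :
    xor (Co1Bits89.beta u v) kw = xor (xor (xor ku kv) (BN u v)) (Co1Bits89.beta (p u) (p v)) := by
  have e := congrArg (fun y => d * y * d⁻¹) (bG_mul D S E u v)
  simp only [← conj_mul_conj] at e
  rw [h1, h2, h3, conj_bp, D.ed, X_mul D S E hev (hev v hv).2 hu, hB] at e
  have e' : bp (z * t) (Co1Bits89.beta u v) * X z t g s kw (fN (Nat.xor u v)) (p (Nat.xor u v))
      (Nat.xor u v) = X z t g s (xor (Co1Bits89.beta u v) kw)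
        (xor (Co1Bits89.beta u v) (fN (Nat.xor u v))) (p (Nat.xor u v)) (Nat.xor u v) := by
    simp only [X, ← mul_assoc]
    congr 2
    cases Co1Bits89.beta u v <;> cases kw <;> cases fN (Nat.xor u v) <;>
      simp [bp, D.H.h.zz, D.sing.2.1, D.H.h.z_mul_z_mul, mul_assoc, D.H.zx D.sing]
    all_goals first
      | rw [← D.H.zx D.sing, ← mul_assoc, D.H.h.zz, one_mul]
      | rw [D.H.zx D.sing, mul_assoc, D.sing.2.1, mul_one]
      | rw [← mul_assoc, D.sing.2.1, one_mul]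
  rw [e'] at e
  have hx : Nat.xor u v < 64 := Nat.xor_lt_two_pow (n := 6) hu hv
  exact (X_inj D S E hev (Nat.xor_lt_two_pow (n := 6) (hev u hu).2 (hev v hv).2) hx
    (hev _ hx).2 hx hpi e).1.symm

theorem k_invariant (hpi : ∀ a < 64, ∀ b < 64, p a = p b → a = b) {k : ℕ → Bool}
    (hk : ∀ v < 64, d * bG g s v * d⁻¹ = X z t g s (k v) (fN v) (p v) v)
    {c : ↥(Sx z t)} (hc : In0 z t d g (c : G)) {T T' : List ℕ} (hT : Act z s (c : G) T)
    (hT' : Act z s (g⁻¹ * (c : G) * g) T') {v : ℕ} (hv : v < 64) :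
    xor (k v) (Nat.testBit (T.getD (p v) 0) 0) =
      xor (Nat.testBit (T'.getD v 0) 0) (k (Nat.shiftRight (T'.getD v 0) 1)) := by
  set a := T.getD (p v) 0 with ha
  set b := T'.getD v 0 with hb
  have hb2 : Nat.shiftRight b 1 < 64 := show b / 2 < 64 by have := hT'.1.2 v hv; omega
  have ha2 : Nat.shiftRight a 1 < 64 := show a / 2 < 64 by have := hT.1.2 _ (hev v hv).2; omega
  have eb : (c : G) * bG g s v * (c : G)⁻¹ = bp t (Nat.testBit b 0) * bG g s (Nat.shiftRight b 1) := by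
    rw [← g_el D S E, hb, ← hT'.2 v hv, bG]
    group
  have ea : (c : G) * aP s (p v) * (c : G)⁻¹ = bp z (Nat.testBit a 0) * aP s (Nat.shiftRight a 1) :=
    hT.2 _ (hev v hv).2
  obtain ⟨u, hu, eu⟩ : ∃ u, InU z t u ∧ (c : G) * d * (c : G)⁻¹ = u * d :=
    ⟨_, hc.2.1, by group⟩
  have lhs : (c : G) * (d * bG g s v * d⁻¹) * (c : G)⁻¹ =
      X z t g s (xor (k v) (Nat.testBit a 0)) (xor (fN v) (Nat.testBit b 0))
        (Nat.shiftRight a 1) (Nat.shiftRight b 1) := by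
    have hz := (mem_Sx.mp c.2).1
    have ht := (mem_Sx.mp c.2).2
    rw [hk v hv, X, ← conj_mul_conj, ← conj_mul_conj, ← conj_mul_conj, ea, eb, conj_bp, conj_bp,
      conj_comm hz, conj_comm ht, X, bp_xor D.H.h.zz, bp_xor D.sing.2.1]
    have h1 := bp_central D S E false (Nat.testBit b 0) (D.Cx_le_R (aP_mem D E (Nat.shiftRight a 1)).1)
    have h2 := bp_central D S E (Nat.testBit a 0) false (D.Cx_le_R (D.V_le_Cx
      (bp_vv z t false (fN v) ▸ D.vv_mem _)))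
    simp only [show bp z false = 1 from rfl, show bp t false = 1 from rfl, one_mul, mul_one] at h1 h2
    calc _ = bp z (k v) * (bp t (fN v) * bp z (Nat.testBit a 0)) *
          (aP s (Nat.shiftRight a 1) * bp t (Nat.testBit b 0)) * bG g s (Nat.shiftRight b 1) := by group
      _ = _ := by rw [h1, h2]; group
  have rhs : (c : G) * (d * bG g s v * d⁻¹) * (c : G)⁻¹ =
      X z t g s (xor (Nat.testBit b 0) (k (Nat.shiftRight b 1)))
        (xor (Nat.testBit b 0) (fN (Nat.shiftRight b 1))) (p (Nat.shiftRight b 1))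
        (Nat.shiftRight b 1) := by
    have hm : d * ((c : G) * bG g s v * (c : G)⁻¹) * d⁻¹ =
        X z t g s (xor (Nat.testBit b 0) (k (Nat.shiftRight b 1)))
          (xor (Nat.testBit b 0) (fN (Nat.shiftRight b 1))) (p (Nat.shiftRight b 1))
          (Nat.shiftRight b 1) := by
      rw [eb, ← conj_mul_conj, hk _ hb2, conj_bp, D.ed, X, X]
      simp only [← mul_assoc]
      congr 2
      cases Nat.testBit b 0 <;> cases k (Nat.shiftRight b 1) <;> cases fN (Nat.shiftRight b 1) <;>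
        simp [bp, D.H.h.zz, D.sing.2.1, D.H.h.z_mul_z_mul, mul_assoc, D.H.zx D.sing]
      all_goals first
        | rw [← D.H.zx D.sing, ← mul_assoc, D.H.h.zz, one_mul]
        | rw [D.H.zx D.sing, mul_assoc, D.sing.2.1, mul_one]
        | rw [← mul_assoc, D.sing.2.1, one_mul]
    have hR : d * ((c : G) * bG g s v * (c : G)⁻¹) * d⁻¹ ∈ D.P.R := by
      rw [hm, X]
      exact mul_mem (mul_mem (D.P.V_le_R (bp_vv z t _ _ ▸ D.vv_mem _))
        (D.Cx_le_R (aP_mem D E _).1)) (D.C'_le_R (bG_mem D S E _))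
    rw [← hm, show (c : G) * (d * bG g s v * d⁻¹) * (c : G)⁻¹
      = ((c : G) * d * (c : G)⁻¹) * ((c : G) * bG g s v * (c : G)⁻¹) * ((c : G) * d * (c : G)⁻¹)⁻¹
        by group, eu, show ∀ y, u * d * y * (u * d)⁻¹ = u * (d * y * d⁻¹) * u⁻¹ from fun y => by group,
      conj_comm (D.P.V_comm hR (D.inU_iff.mp hu)).symm]
  rw [lhs] at rhs
  exact (X_inj D S E hev ha2 hb2 (hev _ hb2).2 hb2 hpi rhs).1

end Twist

end Cfsg.Agent.Co1Frame89
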