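import Cfsg.Agent.Lib.LeechCoSimple

/-!
Simplicity of the automorphism group modulo its centre, and of the stabilisers of pairs.
-/

set_option autoImplicit false

open scoped Pointwise

namespace Cfsg.Agent.LeechCoOneSimple

open Cfsg Cfsg.Agent.GolayBasic Cfsg.Agent.LeechBasic Cfsg.Agent.LeechAut Cfsg.Agent.LeechOrder
open Cfsg.Agent.LeechCert Cfsg.Agent.LeechNormalizers Cfsg.Agent.LeechCoSimple

theorem negAut_sq : negAut * negAut = 1 := by
  refine ext_frame fun i => ?_
  rw [mul_smul, negAut_smul, negAut_smul, neg_neg, one_smul]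

theorem card_quot : Nat.card (Co0 ⧸ Subgroup.center Co0) = 4157776806543360000 := by
  have h := Subgroup.card_eq_card_quotient_mul_card_subgroup (Subgroup.center Co0)
  rw [card_Co0, card_center] at h
  omega

theorem isSimple_quot : IsSimpleGroup (Co0 ⧸ Subgroup.center Co0) := by
  haveI := finite_Co0
  set π := QuotientGroup.mk' (Subgroup.center Co0) with hπ
  have hcen : ∀ z, π z = 1 → z = 1 ∨ z = negAut := fun z hz =>
    center_eq ((QuotientGroup.eq_one_iff z).mp hz)
  have hg1 : π g23 ≠ 1 := by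
    intro h
    rcases hcen _ h with e | e
    · have := orderOf_g23; rw [e, orderOf_one] at this; norm_num at this
    · have h2 : g23 ^ 2 = 1 := by rw [e, pow_two]; exact negAut_sq
      have := orderOf_dvd_of_pow_eq_one h2
      rw [orderOf_g23] at this; norm_num at this
  haveI : Fact (Nat.Prime 23) := ⟨by norm_num⟩
  have hord : orderOf (π g23) = 23 :=
    orderOf_eq_prime (by rw [← map_pow, ← orderOf_g23, pow_orderOf_eq_one, map_one]) hg1
  set P : Subgroup (Co0 ⧸ Subgroup.center Co0) := Subgroup.zpowers (π g23) with hP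
  have hG : Nat.card (Co0 ⧸ Subgroup.center Co0) = 23 * 180772904632320000 := by rw [card_quot]
  refine LeechSimpleCrit.isSimpleGroup_of_bound (p := 23) (q := 11) (B := 11) (P := P) (q₀ := 2) (a₀ := 11)
    (by norm_num) (by norm_num) (by norm_num) hG (by norm_num) (by norm_num)
    (by rw [hP, Nat.card_zpowers, hord]) ?_ (by decide +kernel) ?_ Nat.prime_two ?_ ?_
  · set N := Subgroup.normalizer (P : Set (Co0 ⧸ Subgroup.center Co0)) with hN
    set S := N.comap π with hS
    have hgS : g23 ∈ S := Subgroup.le_normalizer (Subgroup.mem_zpowers _)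
    have hn : ∀ h ∈ S, h * g23 * h⁻¹ ∈ Subgroup.zpowers g23 := by
      intro h hh
      have hh' : π h ∈ N := hh
      rw [hN, Subgroup.mem_normalizer_iff] at hh'
      obtain ⟨i, hi⟩ := Subgroup.mem_zpowers_iff.mp ((hh' (π g23)).1 (Subgroup.mem_zpowers _))
      refine Subgroup.mem_zpowers_iff.mpr ⟨i, ?_⟩
      have hz : π ((g23 ^ i)⁻¹ * (h * g23 * h⁻¹)) = 1 := by
        rw [map_mul, map_inv, map_zpow, map_mul, map_mul, map_inv, hi]; group
      rcases hcen _ hz with e | e
      · exact inv_mul_eq_one.mp e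
      · exfalso
        have he : h * g23 * h⁻¹ = g23 ^ i * negAut := inv_mul_eq_iff_eq_mul.mp e
        have hc : Commute (g23 ^ i) negAut := (Subgroup.mem_center_iff.mp negAut_mem_center (g23 ^ i))
        have h23 := congrArg (fun t => t ^ 23) he
        simp only [conj_pow] at h23
        rw [← orderOf_g23, pow_orderOf_eq_one, mul_one, mul_inv_cancel, orderOf_g23, hc.mul_pow] at h23
        rw [show (g23 ^ i) ^ 23 = 1 by
          rw [← zpow_natCast, ← zpow_mul, mul_comm, zpow_mul, zpow_natCast, ← orderOf_g23,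
            pow_orderOf_eq_one, one_zpow], one_mul,
          show (23 : ℕ) = 2 * 11 + 1 by norm_num, pow_succ, pow_mul, pow_two, negAut_sq, one_pow, one_mul] at h23
        exact negAut_ne_one h23.symm
    have hb := (bound23 hgS hn).1
    have h1 := Subgroup.card_mul_index S
    have h2 := Subgroup.card_mul_index N
    rw [hS, Subgroup.index_comap_of_surjective _ (QuotientGroup.mk'_surjective _), ← hS, card_Co0] at h1
    rw [card_quot] at h2
    have hidx : 0 < N.index := Nat.pos_of_ne_zero N.index_ne_zero_of_finite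
    have : Nat.card S = 2 * Nat.card N := by
      apply Nat.eq_of_mul_eq_mul_right hidx
      rw [h1, mul_assoc, h2]
      all_goals norm_num
    omega
  · intro hle
    have hnorm : π g11 ∈ Subgroup.normalizer (P : Set (Co0 ⧸ Subgroup.center Co0)) :=
      mem_normalizer_zpowers (k := 2) (by rw [← map_inv, ← map_mul, ← map_mul, ← map_pow, conj_g23.1])
        (by rw [hord]; norm_num)
    have hc := Subgroup.mem_centralizer_iff.mp (hle hnorm) (π g23) (Subgroup.mem_zpowers _)
    have he : π (g23 ^ 2) = π g23 := by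
      rw [← conj_g23.1, map_mul, map_mul, map_inv, ← hc, mul_inv_cancel_right]
    apply hg1
    rw [map_pow, pow_two] at he
    exact mul_eq_left.mp he
  · rw [card_quot]
    exact harith_of_list [(2, 21), (3, 9), (5, 4), (7, 2), (11, 1), (13, 1), (23, 1)] (by norm_num)
      (by norm_num) (by decide +kernel) (by decide +kernel)
  · rw [card_quot]; decide +kernel

theorem negU_stab : MulAction.stabilizer Co0 (-Spor.leechU) = MulAction.stabilizer Co0 Spor.leechU := by
  ext g
  rw [MulAction.mem_stabilizer_iff, MulAction.mem_stabilizer_iff, smul_neg_vec, neg_inj]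

theorem isSimple_McL : IsSimpleGroup ↥(MulAction.stabilizer Co0 Spor.leechV ⊓ MulAction.stabilizer Co0 Spor.leechU) :=
  isSimple_pair (Or.inl rfl) (m := 81648000) (q₀ := 3) (a₀ := 5) (by norm_num)
    (by rw [← negU_stab, LeechCertOrders.card_stab_pair552 LeechPairs.sqNorm_leechV
      (by decide +kernel) (by decide +kernel)])
    (by norm_num) (by norm_num) (by decide +kernel) Nat.prime_three
    (harith_of_list [(2, 7), (3, 6), (5, 3), (7, 1), (11, 1)] (by norm_num) (by norm_num)
      (by decide +kernel) (by decide +kernel)) (by decide +kernel)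

theorem isSimple_HS : IsSimpleGroup ↥(MulAction.stabilizer Co0 Spor.leechV ⊓ MulAction.stabilizer Co0 Spor.leechU') :=
  isSimple_pair (Or.inr rfl) (m := 4032000) (q₀ := 2) (a₀ := 0) (by norm_num)
    (by rw [LeechCertOrders.card_stab_pair11178 LeechPairs.sqNorm_leechV
      (by decide +kernel) (by decide +kernel)])
    (by norm_num) (by norm_num) (by decide +kernel) Nat.prime_two
    (harith_of_list [(2, 9), (3, 2), (5, 3), (7, 1), (11, 1)] (by norm_num) (by norm_num)
      (by decide +kernel) (by decide +kernel)) (by decide +kernel)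

/-- Stabilisers of pairs moved by an automorphism. -/
noncomputable def infStabilizerEquiv {v w v' w' : leechLattice} (g : Co0) (hv : g • v = v') (hw : g • w = w') :
    ↥(MulAction.stabilizer Co0 v ⊓ MulAction.stabilizer Co0 w) ≃*
      ↥(MulAction.stabilizer Co0 v' ⊓ MulAction.stabilizer Co0 w') :=
  ((MulAut.conj g).subgroupMap _).trans (MulEquiv.subgroupCongr (by
    subst hv; subst hw
    rw [Subgroup.map_inf _ _ _ (MulAut.conj g).injective, MulAction.stabilizer_smul_eq_stabilizer_map_conj,
      MulAction.stabilizer_smul_eq_stabilizer_map_conj]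
    rfl))

/-- The joint stabiliser of two minimal vectors with product −8 is simple. -/
theorem isSimple_pair8 {v w : leechLattice} (hv : sqNorm (v : GolayPt → ℤ) = 32)
    (hw : sqNorm (w : GolayPt → ℤ) = 32) (hd : dotInt (v : GolayPt → ℤ) w = -8) :
    IsSimpleGroup ↥(MulAction.stabilizer Co0 v ⊓ MulAction.stabilizer Co0 w) := by
  obtain ⟨h, h1, h2⟩ := LeechPairs.pairMcL hv hw hd
  have h3 : h • (v + w) = Spor.leechV := by rw [smul_add_vec, h1, h2]; abel
  haveI := isSimple_McL
  have e1 : MulAction.stabilizer Co0 v ⊓ MulAction.stabilizer Co0 w =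
      MulAction.stabilizer Co0 (v + w) ⊓ MulAction.stabilizer Co0 (-v) := by
    ext g
    simp only [Subgroup.mem_inf, MulAction.mem_stabilizer_iff, smul_neg_vec, neg_inj]
    constructor
    · rintro ⟨a, b⟩; exact ⟨by rw [smul_add_vec, a, b], a⟩
    · rintro ⟨a, b⟩; rw [smul_add_vec, b] at a; exact ⟨b, add_left_cancel a⟩
  rw [e1]
  exact MulEquiv.isSimpleGroup (infStabilizerEquiv h h3 (by rw [smul_neg_vec, h1, neg_neg]))

/-- The joint stabiliser of two norm 48 vectors with product −32 is simple. -/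
theorem isSimple_pair32 {v w : leechLattice} (hv : sqNorm (v : GolayPt → ℤ) = 48)
    (hw : sqNorm (w : GolayPt → ℤ) = 48) (hd : dotInt (v : GolayPt → ℤ) w = -32) :
    IsSimpleGroup ↥(MulAction.stabilizer Co0 v ⊓ MulAction.stabilizer Co0 w) := by
  obtain ⟨h, h1, h2⟩ := LeechPairs.pairHS hv hw hd
  haveI := isSimple_HS
  have e1 : MulAction.stabilizer Co0 Spor.leechV ⊓ MulAction.stabilizer Co0 (-(Spor.leechV + Spor.leechU')) =
      MulAction.stabilizer Co0 Spor.leechV ⊓ MulAction.stabilizer Co0 Spor.leechU' := by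
    ext g
    simp only [Subgroup.mem_inf, MulAction.mem_stabilizer_iff, smul_neg_vec, neg_inj]
    constructor
    · rintro ⟨a, b⟩; rw [smul_add_vec, a] at b; exact ⟨a, add_left_cancel b⟩
    · rintro ⟨a, b⟩; exact ⟨a, by rw [smul_add_vec, a, b]⟩
  exact MulEquiv.isSimpleGroup
    ((infStabilizerEquiv h h1 h2).trans (MulEquiv.subgroupCongr e1))

theorem card_pair8 {v w : leechLattice} (hv : sqNorm (v : GolayPt → ℤ) = 32)
    (hw : sqNorm (w : GolayPt → ℤ) = 32) (hd : dotInt (v : GolayPt → ℤ) w = -8) :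
    Nat.card ↥(MulAction.stabilizer Co0 v ⊓ MulAction.stabilizer Co0 w) = 898128000 := by
  obtain ⟨h, h1, h2⟩ := LeechPairs.pairMcL hv hw hd
  rw [Nat.card_congr (infStabilizerEquiv h h1 h2).toEquiv]
  have e1 : MulAction.stabilizer Co0 (-Spor.leechU) ⊓ MulAction.stabilizer Co0 (Spor.leechV + Spor.leechU) =
      MulAction.stabilizer Co0 Spor.leechV ⊓ MulAction.stabilizer Co0 (-Spor.leechU) := by
    ext g
    simp only [Subgroup.mem_inf, MulAction.mem_stabilizer_iff, smul_neg_vec, neg_inj, smul_add_vec]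
    constructor
    · rintro ⟨a, b⟩; rw [a] at b; exact ⟨add_right_cancel b, a⟩
    · rintro ⟨a, b⟩; exact ⟨b, by rw [a, b]⟩
  rw [e1]
  exact LeechCertOrders.card_stab_pair552 LeechPairs.sqNorm_leechV (by decide +kernel) (by decide +kernel)

theorem card_pair32 {v w : leechLattice} (hv : sqNorm (v : GolayPt → ℤ) = 48)
    (hw : sqNorm (w : GolayPt → ℤ) = 48) (hd : dotInt (v : GolayPt → ℤ) w = -32) :
    Nat.card ↥(MulAction.stabilizer Co0 v ⊓ MulAction.stabilizer Co0 w) = 44352000 := by
  obtain ⟨h, h1, h2⟩ := LeechPairs.pairHS hv hw hd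
  rw [Nat.card_congr (infStabilizerEquiv h h1 h2).toEquiv]
  have e1 : MulAction.stabilizer Co0 Spor.leechV ⊓ MulAction.stabilizer Co0 (-(Spor.leechV + Spor.leechU')) =
      MulAction.stabilizer Co0 Spor.leechV ⊓ MulAction.stabilizer Co0 Spor.leechU' := by
    ext g
    simp only [Subgroup.mem_inf, MulAction.mem_stabilizer_iff, smul_neg_vec, neg_inj]
    constructor
    · rintro ⟨a, b⟩; rw [smul_add_vec, a] at b; exact ⟨a, add_left_cancel b⟩
    · rintro ⟨a, b⟩; exact ⟨a, by rw [smul_add_vec, a, b]⟩
  rw [e1]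
  exact LeechCertOrders.card_stab_pair11178 LeechPairs.sqNorm_leechV (by decide +kernel) (by decide +kernel)

theorem isCo2_Co2 : IsCo2 Spor.Co2 :=
  ⟨by
    haveI := isSimple_stab32 (v := Spor.leechU) (by decide +kernel)
    exact MulEquiv.isSimpleGroup (LeechCertOrders.infStabEquiv Spor.leechU).symm, LeechCertOrders.card_Co2⟩

theorem isCo3_Co3 : IsCo3 Spor.Co3 :=
  ⟨by
    haveI := isSimple_stab48 (v := Spor.leechV) LeechPairs.sqNorm_leechV
    exact MulEquiv.isSimpleGroup (LeechCertOrders.infStabEquiv Spor.leechV).symm, LeechCertOrders.card_Co3⟩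

theorem isMcL_McL : IsMcL Spor.McL :=
  ⟨by
    haveI := isSimple_McL
    exact MulEquiv.isSimpleGroup (LeechCertOrders.infStabEquiv₂ Spor.leechV Spor.leechU).symm, LeechCertOrders.card_McL⟩

theorem isHS_HS : IsHS Spor.HS :=
  ⟨by
    haveI := isSimple_HS
    exact MulEquiv.isSimpleGroup (LeechCertOrders.infStabEquiv₂ Spor.leechV Spor.leechU').symm, LeechCertOrders.card_HS⟩

end Cfsg.Agent.LeechCoOneSimple
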