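import Cfsg.Agent.Lib.CoOneMultP250
import Cfsg.Agent.Lib.CoOneMultP3Data50
import Cfsg.Agent.Lib.CoOneMultP5Data50
import Cfsg.Agent.Lib.CoOneMultP7Data50
import Cfsg.Agent.Lib.LeechCoOneSimple
import Cfsg.Agent.Lib.StemBasic

/-!
The multiplier of the automorphism group of the lattice modulo its centre has order two.
-/

set_option autoImplicit false
set_option maxRecDepth 100000

open scoped Pointwise

namespace Cfsg.Agent.CoOneMult50

open Cfsg Cfsg.Agent.LeechCert Cfsg.Agent.LeechOutTool Cfsg.Agent.LeechRepMod50 Cfsg.Agent.LeechAut
  Cfsg.Agent.GolayBasic Cfsg.Agent.LeechBasic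
open Cfsg.Agent.ConwayMult50 (Data censplit_of_data)

instance finiteCoNought50 : Finite Co0 := LeechOrder.finite_Co0

theorem mem_range (w : List Step) : El w ∈ (MonoidHom.id Co0).range := ⟨El w, rfl⟩

theorem split {D : Data} {m : ℕ} (hp : D.C.p.Prime) (hS : D.C.shapeOK = true)
    (hC : D.C.combOK = true) (hY : ConwayMult50.wordsOK D.yW D.yM = true)
    (hX : ConwayMult50.wordsOK D.xW D.xM = true) (hR : D.rangeOK = true)
    (hrels : D.relsOK = true) (hsep : D.sepOK = true)
    (hcard : D.C.p ^ D.C.n * m = 8315553613086720000) (hm : ¬ D.C.p ∣ m) :
    SplitVoltage.CenSplit D.C.p Co0 :=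
  censplit_of_data (MonoidHom.id Co0) Function.injective_id D hp hS hC hY hX hR hrels hsep
    (fun w _ => mem_range w) (fun w _ => mem_range w) (LeechOrder.card_Co0.trans hcard.symm) hm

theorem split_two : SplitVoltage.CenSplit 2 Co0 :=
  ConwayMult50.censplit_two_of_data (MonoidHom.id Co0) Function.injective_id P2.cert P2.data rfl
    P2.shape_ok P2.comb_ok P2.words_y P2.words_x P2.range_ok P2.rels_ok P2.sep_ok
    (fun w _ => mem_range w) (fun w _ => mem_range w)
    (m := 1982582476875) (LeechOrder.card_Co0.trans (by decide +kernel)) (by decide +kernel)

theorem split_three : SplitVoltage.CenSplit 3 Co0 :=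
  split (D := P3.data) (m := 8315553613086720000 / 19683) Nat.prime_three P3.shape_ok P3.comb_ok
    P3.words_y P3.words_x P3.range_ok P3.rels_ok P3.sep_ok (by decide +kernel) (by decide +kernel)

theorem split_five : SplitVoltage.CenSplit 5 Co0 :=
  split (D := P5.data) (m := 8315553613086720000 / 625) (by decide +kernel) P5.shape_ok P5.comb_ok
    P5.words_y P5.words_x P5.range_ok P5.rels_ok P5.sep_ok (by decide +kernel) (by decide +kernel)

theorem split_seven : SplitVoltage.CenSplit 7 Co0 :=
  split (D := P7.data) (m := 8315553613086720000 / 49) (by decide +kernel) P7.shape_ok P7.comb_ok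
    P7.words_y P7.words_x P7.range_ok P7.rels_ok P7.sep_ok (by decide +kernel) (by decide +kernel)

theorem multiplier_cover : Cfsg.HasCyclicSchurMultiplier Co0 1 := by
  refine SplitVoltage.trivial_multiplier fun p hp hd => ?_
  rw [LeechOrder.card_Co0,
    show (8315553613086720000 : ℕ) = 2 ^ 22 * 3 ^ 9 * 5 ^ 4 * 7 ^ 2 * (11 * 13 * 23) by norm_num] at hd
  by_cases h2 : p = 2
  · subst h2; exact split_two
  by_cases h3 : p = 3
  · subst h3; exact split_three
  by_cases h5 : p = 5
  · subst h5; exact split_five
  by_cases h7 : p = 7
  · subst h7; exact split_seven
  exfalso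
  have hc : ∀ q k : ℕ, q.Prime → p ≠ q → Nat.Coprime (p ^ 2) (q ^ k) := fun q k hq hne =>
    Nat.Coprime.pow _ _ ((Nat.coprime_primes hp hq).2 hne)
  have h4 : Nat.Coprime (p ^ 2) (2 ^ 22 * 3 ^ 9 * 5 ^ 4 * 7 ^ 2) :=
    Nat.Coprime.mul_right (Nat.Coprime.mul_right (Nat.Coprime.mul_right (hc 2 22 Nat.prime_two h2)
      (hc 3 9 Nat.prime_three h3)) (hc 5 4 (by norm_num) h5)) (hc 7 2 (by norm_num) h7)
  have h6 := h4.dvd_of_dvd_mul_left hd
  have hsq : Squarefree (11 * 13 * 23) := by decide +kernel
  exact hp.not_isUnit (hsq p (by rwa [← sq]))

/-- data -/
def rootW : List Step := [some (523507627221509268973830885746059620, 4644513, [(20, true), (55, false), (50, false), (25, false), (0, false), (15, true), (35, false), (30, true), (75, false), (105, true), (10, true), (5, true), (115, true), (90, false), (100, true), (40, true), (85, false), (80, true), (65, true), (110, false), (70, false), (45, false), (95, true), (60, false)])]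

/-- data -/
def negM : List ℕ := [4, 67108864, 1125899906842624, 18889465931478580854784, 316912650057057350374175801344, 5316911983139663491615228241121378304, 89202980794122492566142873090593446023921664, 1496577676626844588240573268701473812127674924007424, 25108406941546723055343157692830665664409421777856138051584, 421249166674228746791672110734681729275580381602196445017243910144, 7067388259113537318333190002971674063309935587502475832486424805170479104, 118571099379011784113736688648896417641748464297615937576404566024103044751294464, 1989292945639146568621528992587283360401824603189390869761855907572637988050133502132224, 33374797436264220037422214158899251790667258161822699530422525122222183215322508594108782608384, 559936185544451052639360570142111069530411374308662383724997275240947967795040236345219373317901778944, 9394170331095332911557922387157348109502730195633279482829163886128836100458433773854795993539074812127739904, 157608024785577916849116160400574455220318957081861786671793173616982887085988842445657065019539662563226511961227264, 2644223875160994395807661232131084159313618731857124877138595181097623164945245383300756841758861139390364848100093433217024,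 44362715105933037753254626946289339254982993206013065202727673289833940924890009968639590497666233249558259375382457149263586525184, 744282853678701455922507579277316643178128753343813693728245963960974631028119473486019635930893891134220822124816566203939432067701407744, 12486994201263968925526388919172665222994392570659884603436627838501486955279062480481224412253967884639307724485626491581791902717153141225160704, 209496998905353079680844140596966345741865090946756146526930647558152562969899171512529285908857866057656747784163844544589904418936665155413025765720064, 3514776401986872174070733209129673327241950873673372369609965291102998109899599898686750536018664732148375711432438199315006457855854921632037902485050909261824, 58968162887836583628774290327941701420576894069006881693378223441337877537377325813845730080900918242835443359855685076558915384842574884883772410178635875682021801984]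

theorem toM_negM : toM negM = -1 := by
  have h : ((List.range 24).all fun i => (List.range 24).all fun j =>
      decide (toM negM (pt i) (pt j) = if i = j then (4 : ZMod 5) else 0)) = true := by decide +kernel
  ext a b
  have h1 := List.all_eq_true.1 (List.all_eq_true.1 h (idx a) (List.mem_range.2 (idx_lt a)))
    (idx b) (List.mem_range.2 (idx_lt b))
  rw [decide_eq_true_eq, pt_idx, pt_idx] at h1
  rw [h1, Matrix.neg_apply, Matrix.one_apply]
  by_cases e : a = b
  · subst e; simp; decide
  · rw [if_neg e, if_neg (fun he => e (idx_inj he)), neg_zero]

theorem rho_negAut : ρ negAut = -1 := by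
  ext a b
  show (2 : ZMod 5) * ((((negAut • frame b : leechLattice) : GolayPt → ℤ) a : ℤ) : ZMod 5) = _
  rw [coe_negAut_smul, Matrix.neg_apply, Matrix.one_apply, Pi.neg_apply]
  show (2 : ZMod 5) * ((-(unitVec 8 b a) : ℤ) : ZMod 5) = _
  by_cases h : a = b
  · subst h; simp [unitVec]; decide
  · simp [unitVec, h]

theorem root_sq : (El rootW : Co0) * El rootW = negAut := by
  have hv : wordValid rootW = true := by decide +kernel
  have hM : okM (matW rootW) = true := by decide +kernel
  have e : mulM (matW rootW) (matW rootW) = negM := by decide +kernel
  refine ρ_injective ?_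
  rw [map_mul, ρ_El hv, ← toM_mul hM hM, e, toM_negM, rho_negAut]

theorem perfect_cover : commutator Co0 = ⊤ := by
  haveI := LeechCoOneSimple.isSimple_quot
  set π := QuotientGroup.mk' (Subgroup.center Co0) with hπ
  set C := commutator Co0 with hC
  have hmap : C.map π = commutator (Co0 ⧸ Subgroup.center Co0) := by
    rw [hC, commutator_def, commutator_def, Subgroup.map_commutator,
      Subgroup.map_top_of_surjective _ (QuotientGroup.mk'_surjective _)]
  have htop : commutator (Co0 ⧸ Subgroup.center Co0) = ⊤ := by
    have hN : (commutator (Co0 ⧸ Subgroup.center Co0)).Normal := inferInstance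
    rcases hN.eq_bot_or_eq_top with h | h
    · exfalso
      rw [commutator_def, Subgroup.commutator_eq_bot_iff_le_centralizer] at h
      have hcomm : ∀ a b : Co0 ⧸ Subgroup.center Co0, Commute a b := fun a b =>
        (Subgroup.mem_centralizer_iff.1 (h (Subgroup.mem_top a)) b (Subgroup.mem_top b)).symm
      letI : CommGroup (Co0 ⧸ Subgroup.center Co0) :=
        { (inferInstance : Group (Co0 ⧸ Subgroup.center Co0)) with mul_comm := hcomm }
      have hp := IsSimpleGroup.prime_card (α := Co0 ⧸ Subgroup.center Co0)
      rw [LeechCoOneSimple.card_quot] at hp
      norm_num at hp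
    · exact h
  have hsup : C ⊔ Subgroup.center Co0 = ⊤ := by
    have := Subgroup.comap_map_eq π C
    rw [hmap, htop, Subgroup.comap_top, hπ, QuotientGroup.ker_mk'] at this
    exact this.symm
  have hn : negAut ∈ C := by
    have hg : (El rootW : Co0) ∈ C ⊔ Subgroup.center Co0 := by rw [hsup]; exact Subgroup.mem_top _
    obtain ⟨c, hc, z, hz, e⟩ := Subgroup.mem_sup_of_normal_right.1 hg
    have hz2 : z * z = 1 := by
      rcases center_eq hz with rfl | rfl
      · exact one_mul _
      · exact LeechCoOneSimple.negAut_sq
    have h2 : (El rootW : Co0) * El rootW = c * c := by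
      rw [← e, mul_assoc, ← mul_assoc z, ← (Subgroup.mem_center_iff.1 hz) c, mul_assoc, hz2, mul_one]
    rw [← root_sq, h2]
    exact mul_mem hc hc
  refine top_unique (hsup ▸ sup_le le_rfl fun z hz => ?_)
  rcases center_eq hz with rfl | rfl
  · exact one_mem _
  · exact hn

theorem multiplier : Cfsg.HasCyclicSchurMultiplier Cfsg.Spor.Co1 2 := by
  have hker : (QuotientGroup.mk' (Subgroup.center Co0)).ker = Subgroup.center Co0 :=
    QuotientGroup.ker_mk' _
  have hcard : Nat.card (QuotientGroup.mk' (Subgroup.center Co0)).ker = 2 := by
    rw [hker]; exact card_center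
  haveI : Fact (Nat.Prime 2) := ⟨Nat.prime_two⟩
  haveI : IsCyclic (QuotientGroup.mk' (Subgroup.center Co0)).ker := isCyclic_of_prime_card hcard
  refine StemBasic.hasSchurMultiplier_of_cover (QuotientGroup.mk' (Subgroup.center Co0))
    (QuotientGroup.mk'_surjective _) hker.le perfect_cover (fun Δ _ _ τ hτ => ?_)
    (mulEquivOfCyclicCardEq (by rw [hcard]; simp))
  obtain ⟨f, hf⟩ := multiplier_cover.2 Δ τ hτ
  haveI : Subsingleton τ.ker := hf.subsingleton
  exact Subgroup.eq_bot_of_subsingleton _

end Cfsg.Agent.CoOneMult50
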