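import Cfsg.Agent.Lib.CoOneMultP2Data50

/-!
The fusion pairs.
-/

set_option autoImplicit false
set_option maxRecDepth 100000
set_option Elab.async false
set_option maxHeartbeats 1000000

namespace Cfsg.Agent.CoOneMult50.P2

theorem pairs_0 : (((data.C.pairs.drop 0).take 24).all pairAt) = true := by decide +kernel

theorem pairs_24 : (((data.C.pairs.drop 24).take 24).all pairAt) = true := by decide +kernel

theorem pairs_48 : (((data.C.pairs.drop 48).take 24).all pairAt) = true := by decide +kernel

theorem pairs_72 : (((data.C.pairs.drop 72).take 22).all pairAt) = true := by decide +kernel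


end Cfsg.Agent.CoOneMult50.P2
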