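import Cfsg.Agent.Lib.CoOneMultP2Data50

/-!
Separation, first part.
-/

set_option autoImplicit false
set_option maxRecDepth 100000
set_option Elab.async false
set_option maxHeartbeats 1000000

namespace Cfsg.Agent.CoOneMult50.P2

theorem sep0_0 : ((List.range' 0 256).all fun k => sepPt 0 k) = true := by decide +kernel

theorem sep0_256 : ((List.range' 256 256).all fun k => sepPt 0 k) = true := by decide +kernel

theorem sep0_512 : ((List.range' 512 256).all fun k => sepPt 0 k) = true := by decide +kernel

theorem sep0_768 : ((List.range' 768 256).all fun k => sepPt 0 k) = true := by decide +kernel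


end Cfsg.Agent.CoOneMult50.P2
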