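import Cfsg.Agent.Lib.CoOneMultP2Data50

/-!
Separation, third part.
-/

set_option autoImplicit false
set_option maxRecDepth 100000
set_option Elab.async false
set_option maxHeartbeats 1000000

namespace Cfsg.Agent.CoOneMult50.P2

theorem sep1 : sepRow 1 = true := by decide +kernel

theorem sep2 : sepRow 2 = true := by decide +kernel

theorem sep3 : sepRow 3 = true := by decide +kernel

theorem sep4 : sepRow 4 = true := by decide +kernel

theorem sep5 : sepRow 5 = true := by decide +kernel

theorem sep6 : sepRow 6 = true := by decide +kernel

theorem sep7 : sepRow 7 = true := by decide +kernel

theorem sep8 : sepRow 8 = true := by decide +kernel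

theorem sep9 : sepRow 9 = true := by decide +kernel

theorem sep10 : sepRow 10 = true := by decide +kernel

theorem sep11 : sepRow 11 = true := by decide +kernel

theorem sep12 : sepRow 12 = true := by decide +kernel

theorem sep13 : sepRow 13 = true := by decide +kernel

theorem sep14 : sepRow 14 = true := by decide +kernel

theorem sep15 : sepRow 15 = true := by decide +kernel

theorem sep16 : sepRow 16 = true := by decide +kernel

theorem sep17 : sepRow 17 = true := by decide +kernel

theorem sep18 : sepRow 18 = true := by decide +kernel

theorem sep19 : sepRow 19 = true := by decide +kernel

theorem sep20 : sepRow 20 = true := by decide +kernel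

theorem sep21 : sepRow 21 = true := by decide +kernel


end Cfsg.Agent.CoOneMult50.P2
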