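import Cfsg.Agent.Lib.CoOneMultP2RelsA50
import Cfsg.Agent.Lib.CoOneMultP2RelsB50
import Cfsg.Agent.Lib.CoOneMultP2Pairs50
import Cfsg.Agent.Lib.CoOneMultP2SepA50
import Cfsg.Agent.Lib.CoOneMultP2SepB50
import Cfsg.Agent.Lib.CoOneMultP2SepC50

/-!
The certificate at the prime two.
-/

set_option autoImplicit false
set_option maxRecDepth 100000

namespace Cfsg.Agent.CoOneMult50.P2

theorem all_drop {α : Type} {f : α → Bool} (L : List α) :
    ∀ (ps : List (ℕ × ℕ)), (∀ x ∈ ps, ((L.drop x.1).take x.2).all f = true) →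
      (List.range L.length).all (fun k => ps.any fun x => decide (x.1 ≤ k) && decide (k < x.1 + x.2)) = true →
      L.all f = true := by
  intro ps h hc
  rw [List.all_eq_true] at hc ⊢
  intro a ha
  obtain ⟨k, hk, rfl⟩ := List.getElem_of_mem ha
  obtain ⟨x, hx, hx'⟩ := List.any_eq_true.1 (hc k (List.mem_range.2 hk))
  simp only [Bool.and_eq_true, decide_eq_true_eq] at hx'
  refine List.all_eq_true.1 (h x hx) _ ?_
  rw [List.mem_iff_getElem]
  refine ⟨k - x.1, ?_, ?_⟩
  · rw [List.length_take, List.length_drop]; omega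
  · simp only [List.getElem_take, List.getElem_drop]
    congr 1
    omega

theorem rels_ok : data.relsOK = true := by
  show (data.C.rels.all relAt && data.C.pairs.all pairAt) = true
  rw [Bool.and_eq_true]
  constructor
  · refine all_drop _ [(0, 45), (45, 45), (90, 45), (135, 40), (175, 40), (215, 38)] ?_ (by decide +kernel)
    simp only [List.mem_cons, List.not_mem_nil, or_false, forall_eq_or_imp, forall_eq]
    exact ⟨rels_0, rels_45, rels_90, rels_135, rels_175, rels_215⟩
  · refine all_drop _ [(0, 24), (24, 24), (48, 24), (72, 22)] ?_ (by decide +kernel)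
    simp only [List.mem_cons, List.not_mem_nil, or_false, forall_eq_or_imp, forall_eq]
    exact ⟨pairs_0, pairs_24, pairs_48, pairs_72⟩

theorem sep0 : sepRow 0 = true := by
  have h : (List.range (data.sep.getD 0 (0, .lf 0, [])).1) = List.range' 0 256 ++ List.range' 256 256 ++ List.range' 512 256 ++ List.range' 768 256 ++ List.range' 1024 256 ++ List.range' 1280 256 ++ List.range' 1536 256 ++ List.range' 1792 256 := by decide +kernel
  have h0 : decide (0 < (data.sep.getD 0 (0, .lf 0, [])).1) = true := by decide +kernel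
  show (decide (0 < (data.sep.getD 0 (0, .lf 0, [])).1) &&
    (List.range (data.sep.getD 0 (0, .lf 0, [])).1).all fun k => sepPt 0 k) = true
  rw [h0, Bool.true_and, h]
  simp only [List.all_append, Bool.and_eq_true]
  exact ⟨⟨⟨⟨⟨⟨⟨sep0_0, sep0_256⟩, sep0_512⟩, sep0_768⟩, sep0_1024⟩, sep0_1280⟩, sep0_1536⟩, sep0_1792⟩

theorem sep_ok : data.sepOK = true := by
  show ((List.range data.C.n).all sepRow) = true
  rw [List.all_eq_true]
  intro i hi
  have hn : data.C.n = 22 := rfl
  rw [List.mem_range, hn] at hi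
  interval_cases i
  exacts [sep0, sep1, sep2, sep3, sep4, sep5, sep6, sep7, sep8, sep9, sep10, sep11, sep12, sep13, sep14, sep15, sep16, sep17, sep18, sep19, sep20, sep21]

end Cfsg.Agent.CoOneMult50.P2
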