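import Cfsg.Agent.Lib.CoOneMultP2Data50

/-!
Relations of the chain, first part.
-/

set_option autoImplicit false
set_option maxRecDepth 100000
set_option Elab.async false
set_option maxHeartbeats 1000000

namespace Cfsg.Agent.CoOneMult50.P2

theorem rels_0 : (((data.C.rels.drop 0).take 45).all relAt) = true := by decide +kernel

theorem rels_45 : (((data.C.rels.drop 45).take 45).all relAt) = true := by decide +kernel

theorem rels_90 : (((data.C.rels.drop 90).take 45).all relAt) = true := by decide +kernel


end Cfsg.Agent.CoOneMult50.P2
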