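import Cfsg.Agent.Lib.LeechBasic
import Cfsg.Agent.Lib.GolayM24

/-!
Automorphisms of the rank-24 lattice: linearity, the frame `8e_i`, monomial automorphisms, the centre.
-/

set_option autoImplicit false

open scoped Pointwise

namespace Cfsg.Agent.LeechAut

open Cfsg Cfsg.Agent.GolayBasic Cfsg.Agent.LeechBasic

/-- The vector `n · e_i`. -/
def unitVec (n : ℤ) (i : GolayPt) : GolayPt → ℤ := fun j => if j = i then n else 0

theorem isLeech_unitVec_eight (i : GolayPt) : IsLeech (unitVec 8 i) := by
  refine ⟨fun j => ?_, ?_, ?_⟩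
  · simp only [unitVec]; split_ifs <;> rfl
  · simp only [unitVec, Finset.sum_ite_eq', Finset.mem_univ, if_true]
    split_ifs <;> rfl
  · have : wbit (unitVec 8 i) = 0 := by
      funext j; simp only [wbit, unitVec]; split_ifs <;> rfl
    rw [this]; exact zero_mem _

/-- The frame vector `8e_i` in the lattice. -/
def frame (i : GolayPt) : leechLattice := ⟨unitVec 8 i, mem_leechLattice.mpr (isLeech_unitVec_eight i)⟩

theorem sqNorm_frame (i : GolayPt) : sqNorm (frame i : GolayPt → ℤ) = 64 := by
  show sqNorm (unitVec 8 i) = 64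
  simp [sqNorm, unitVec, ite_pow]

theorem dotInt_comm (x y : GolayPt → ℤ) : dotInt x y = dotInt y x := by
  simp only [dotInt, mul_comm]

theorem sqNorm_add (x y : GolayPt → ℤ) : sqNorm (x + y) = sqNorm x + 2 * dotInt x y + sqNorm y := by
  simp only [sqNorm, dotInt, Finset.mul_sum, ← Finset.sum_add_distrib]
  exact Finset.sum_congr rfl fun i _ => by simp only [Pi.add_apply]; ring

theorem sqNorm_sub (x y : GolayPt → ℤ) : sqNorm (x - y) = sqNorm x - 2 * dotInt x y + sqNorm y := by
  simp only [sqNorm, dotInt, Finset.mul_sum, ← Finset.sum_add_distrib, ← Finset.sum_sub_distrib]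
  exact Finset.sum_congr rfl fun i _ => by simp only [Pi.sub_apply]; ring

theorem dotInt_unitVec (x : GolayPt → ℤ) (n : ℤ) (i : GolayPt) : dotInt x (unitVec n i) = n * x i := by
  simp [dotInt, unitVec, mul_ite, mul_comm]

section Linear

variable (g : Co0)

theorem smul_add_vec (v w : leechLattice) : g • (v + w) = g • v + g • w := g.2.1 v w

/-- An automorphism as an additive map. -/
def toHom : leechLattice →+ leechLattice := AddMonoidHom.mk' (fun v => g • v) (smul_add_vec g)

theorem toHom_apply (v : leechLattice) : toHom g v = g • v := rfl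

theorem sqNorm_smul (v : leechLattice) :
    sqNorm ((g • v : leechLattice) : GolayPt → ℤ) = sqNorm (v : GolayPt → ℤ) := g.2.2 v

theorem dotInt_smul (v w : leechLattice) :
    dotInt ((g • v : leechLattice) : GolayPt → ℤ) ((g • w : leechLattice) : GolayPt → ℤ) =
      dotInt (v : GolayPt → ℤ) (w : GolayPt → ℤ) := by
  have h := sqNorm_smul g (v + w)
  rw [smul_add_vec, AddSubgroup.coe_add, AddSubgroup.coe_add, sqNorm_add, sqNorm_add, sqNorm_smul,
    sqNorm_smul] at h
  omega

theorem smul_zero_vec : g • (0 : leechLattice) = 0 := (toHom g).map_zero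

theorem smul_neg_vec (v : leechLattice) : g • (-v) = -(g • v) := (toHom g).map_neg v

theorem smul_sub_vec (v w : leechLattice) : g • (v - w) = g • v - g • w := (toHom g).map_sub v w

theorem smul_zsmul_vec (n : ℤ) (v : leechLattice) : g • (n • v) = n • (g • v) :=
  map_zsmul (toHom g) n v

theorem eight_zsmul (v : leechLattice) :
    (8 : ℤ) • v = ∑ i, (v : GolayPt → ℤ) i • frame i := by
  apply Subtype.ext
  rw [AddSubgroup.coe_zsmul, AddSubgroup.val_finsetSum]
  funext j
  simp only [Pi.smul_apply, smul_eq_mul, Finset.sum_apply, AddSubgroup.coe_zsmul, frame, unitVec,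
    mul_ite, mul_zero, Finset.sum_ite_eq, Finset.mem_univ, if_true]
  ring

theorem eight_mul_coe_smul (v : leechLattice) (j : GolayPt) :
    8 * ((g • v : leechLattice) : GolayPt → ℤ) j =
      ∑ i, (v : GolayPt → ℤ) i * ((g • frame i : leechLattice) : GolayPt → ℤ) j := by
  have h := congrArg (fun u : leechLattice => (toHom g u : GolayPt → ℤ) j) (eight_zsmul v)
  simp only [map_zsmul, map_sum, toHom_apply, AddSubgroup.coe_zsmul, AddSubgroup.val_finsetSum,
    Pi.smul_apply, smul_eq_mul, Finset.sum_apply] at h
  exact h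

end Linear

theorem ext_frame {g h : Co0} (hf : ∀ i, g • frame i = h • frame i) : g = h := by
  apply Subtype.ext
  apply Equiv.ext
  intro v
  apply Subtype.ext
  funext j
  have h1 := eight_mul_coe_smul g v j
  have h2 := eight_mul_coe_smul h v j
  simp only [hf] at h1
  have : ((g • v : leechLattice) : GolayPt → ℤ) j = ((h • v : leechLattice) : GolayPt → ℤ) j := by omega
  exact this

/-- Build an automorphism from a pair of mutually inverse additive, length-preserving maps. -/
def mkAut (F F' : (GolayPt → ℤ) → GolayPt → ℤ) (h1 : ∀ x, F' (F x) = x) (h2 : ∀ x, F (F' x) = x)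
    (hF : ∀ x ∈ leechLattice, F x ∈ leechLattice) (hF' : ∀ x ∈ leechLattice, F' x ∈ leechLattice)
    (hadd : ∀ x ∈ leechLattice, ∀ y ∈ leechLattice, F (x + y) = F x + F y)
    (hnorm : ∀ x ∈ leechLattice, sqNorm (F x) = sqNorm x) : Co0 :=
  ⟨{ toFun := fun v => ⟨F v, hF v v.2⟩
     invFun := fun v => ⟨F' v, hF' v v.2⟩
     left_inv := fun v => Subtype.ext (h1 v)
     right_inv := fun v => Subtype.ext (h2 v) },
    ⟨fun v w => Subtype.ext (hadd v v.2 w w.2), fun v => hnorm v v.2⟩⟩

theorem coe_mkAut_smul (F F' : (GolayPt → ℤ) → GolayPt → ℤ) (h1 h2 hF hF' hadd hnorm) (v : leechLattice) :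
    ((mkAut F F' h1 h2 hF hF' hadd hnorm • v : leechLattice) : GolayPt → ℤ) = F v := rfl

theorem sqNorm_signedPerm (σ : Equiv.Perm GolayPt) (c : Finset GolayPt) (x : GolayPt → ℤ) :
    sqNorm (signedPerm σ c x) = sqNorm x := by
  rw [sqNorm, sqNorm, ← Equiv.sum_comp σ.symm (fun i => x i ^ 2)]
  exact Finset.sum_congr rfl fun i _ => by simp only [signedPerm]; split_ifs <;> ring

theorem signedPerm_add (σ : Equiv.Perm GolayPt) (c : Finset GolayPt) (x y : GolayPt → ℤ) :
    signedPerm σ c (x + y) = signedPerm σ c x + signedPerm σ c y := by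
  funext i; simp only [signedPerm, Pi.add_apply]; split_ifs <;> ring

theorem signedPerm_inv (σ : Equiv.Perm GolayPt) (c : Finset GolayPt) (x : GolayPt → ℤ) :
    signedPerm σ⁻¹ (σ⁻¹ • c) (signedPerm σ c x) = x := by
  funext i
  have h : i ∈ σ⁻¹ • c ↔ σ i ∈ c := by
    rw [Finset.mem_inv_smul_finset_iff, Equiv.Perm.smul_def]
  have h' : (σ⁻¹).symm i = σ i := rfl
  simp only [signedPerm, h, h', Equiv.symm_apply_apply]
  split_ifs <;> simp

theorem signedPerm_inv' (σ : Equiv.Perm GolayPt) (c : Finset GolayPt) (x : GolayPt → ℤ) :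
    signedPerm σ c (signedPerm σ⁻¹ (σ⁻¹ • c) x) = x := by
  have := signedPerm_inv σ⁻¹ (σ⁻¹ • c) x
  rwa [inv_inv, smul_inv_smul] at this

/-- The monomial automorphism of a permutation in the code's group and a codeword. -/
def monomial (σ : Equiv.Perm GolayPt) (hσ : σ ∈ M24) (c : Finset GolayPt)
    (hc : c ∈ supports (golayCode : Set (GolayPt → ZMod 2))) : Co0 :=
  mkAut (signedPerm σ c) (signedPerm σ⁻¹ (σ⁻¹ • c)) (signedPerm_inv σ c) (signedPerm_inv' σ c)
    (fun _ hx => mem_leechLattice.mpr (isLeech_signedPerm hσ hc (mem_leechLattice.mp hx)))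
    (fun _ hx => mem_leechLattice.mpr (isLeech_signedPerm (inv_mem hσ)
      (GolayPerm.smul_mem_supports (inv_mem hσ) hc) (mem_leechLattice.mp hx)))
    (fun x _ y _ => signedPerm_add σ c x y) (fun x _ => sqNorm_signedPerm σ c x)

theorem coe_monomial_smul {σ : Equiv.Perm GolayPt} (hσ : σ ∈ M24) {c : Finset GolayPt}
    (hc : c ∈ supports (golayCode : Set (GolayPt → ZMod 2))) (v : leechLattice) :
    ((monomial σ hσ c hc • v : leechLattice) : GolayPt → ℤ) = signedPerm σ c v := rfl

theorem empty_mem_supports : (∅ : Finset GolayPt) ∈ supports (golayCode : Set (GolayPt → ZMod 2)) :=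
  ⟨0, Submodule.zero_mem _, by ext; simp [support₂]⟩

/-- Negation. -/
def negAut : Co0 :=
  monomial 1 (one_mem _) Finset.univ univ_mem_supports

theorem coe_negAut_smul (v : leechLattice) :
    ((negAut • v : leechLattice) : GolayPt → ℤ) = -(v : GolayPt → ℤ) := by
  rw [negAut, coe_monomial_smul]
  funext i
  simp [signedPerm, Equiv.Perm.one_apply, show (1 : Equiv.Perm GolayPt).symm = 1 from rfl]

theorem negAut_smul (v : leechLattice) : negAut • v = -v := Subtype.ext (coe_negAut_smul v)

theorem negAut_ne_one : negAut ≠ 1 := by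
  intro h
  have h1 := congrFun (congrArg Subtype.val (negAut_smul (frame none))) none
  rw [h, one_smul] at h1
  norm_num [frame, unitVec] at h1

theorem negAut_mem_center : negAut ∈ Subgroup.center Co0 := by
  rw [Subgroup.mem_center_iff]
  intro g
  apply ext_frame
  intro i
  rw [mul_smul, mul_smul, negAut_smul, negAut_smul, smul_neg_vec]

theorem separating_aux : (List.range 24).all (fun i => (List.range 24).all fun j =>
    i == j || basisRows.any fun b => b.testBit i != b.testBit j) = true := by decide +kernel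

theorem exists_separating {i j : GolayPt} (h : i ≠ j) :
    ∃ c ∈ supports (golayCode : Set (GolayPt → ZMod 2)), ¬ (i ∈ c ↔ j ∈ c) := by
  have h1 := List.all_eq_true.1 (List.all_eq_true.1 separating_aux (idx i) (List.mem_range.2 (idx_lt i)))
    (idx j) (List.mem_range.2 (idx_lt j))
  simp only [Bool.or_eq_true, beq_iff_eq, List.any_eq_true, bne_iff_ne] at h1
  rcases h1 with h1 | ⟨b, hb, h1⟩
  · exact absurd (idx_inj h1) h
  · refine ⟨mset b, ?_, ?_⟩
    · have hall : basisRows.all (fun b => inCode b && decide (b < 16777216)) = true := by decide +kernel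
      have := List.all_eq_true.1 hall b hb
      simp only [Bool.and_eq_true, decide_eq_true_eq] at this
      exact (mset_mem_supports (by norm_num; exact this.2)).2 this.1
    · rw [mem_mset, mem_mset]
      revert h1
      cases b.testBit (idx i) <;> cases b.testBit (idx j) <;> simp

theorem eq_unitVec_of_flips {u : GolayPt → ℤ} {i : GolayPt}
    (h : ∀ c ∈ supports (golayCode : Set (GolayPt → ZMod 2)),
      LeechBasic.flip c u = if i ∈ c then -u else u) : u = unitVec (u i) i := by
  funext j
  simp only [unitVec]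
  split_ifs with hj
  · rw [hj]
  · obtain ⟨c, hc, hsep⟩ := exists_separating (i := i) (j := j) (fun hh => hj hh.symm)
    have h1 := congrFun (h c hc) j
    simp only [LeechBasic.flip] at h1
    by_cases hi : i ∈ c <;> by_cases hjc : j ∈ c <;>
      simp only [hi, hjc, if_true, if_false, Pi.neg_apply, iff_self, not_true_eq_false] at h1 hsep <;> omega

theorem exists_mem_M24_apply (a b : GolayPt) : ∃ σ ∈ M24, σ a = b := by
  classical
  have hemb : ∀ p : GolayPt, ∃ x : Fin 5 → GolayPt, Function.Injective x ∧ x 0 = p := by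
    intro p
    obtain ⟨e⟩ : Nonempty (Fin 5 ↪ GolayPt) :=
      Function.Embedding.nonempty_of_card_le (by simp)
    exact ⟨Equiv.swap (e 0) p ∘ e, (Equiv.injective _).comp e.injective, by simp⟩
  obtain ⟨x, hx, hxa⟩ := hemb a
  obtain ⟨y, hy, hyb⟩ := hemb b
  obtain ⟨σ, hσ, h⟩ := GolayM24.exists_map_five_five x y hx hy
  exact ⟨σ, hσ, by rw [← hxa, ← hyb]; exact h 0⟩

theorem center_eq {g : Co0} (hg : g ∈ Subgroup.center Co0) : g = 1 ∨ g = negAut := by
  rw [Subgroup.mem_center_iff] at hg
  have hcomm : ∀ (h : Co0) (v : leechLattice), h • g • v = g • h • v := fun h v => by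
    rw [← mul_smul, hg h, mul_smul]
  set s : GolayPt → ℤ := fun i => ((g • frame i : leechLattice) : GolayPt → ℤ) i with hs
  have hval : ∀ i, ((g • frame i : leechLattice) : GolayPt → ℤ) = unitVec (s i) i := by
    intro i
    refine eq_unitVec_of_flips fun c hc => ?_
    have h1 := hcomm (monomial 1 (one_mem _) c hc) (frame i)
    have h2 : monomial 1 (one_mem _) c hc • frame i = if i ∈ c then -frame i else frame i := by
      apply Subtype.ext
      rw [coe_monomial_smul]
      funext j
      by_cases hi : i ∈ c <;> by_cases hj : j = i <;>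
        simp [hi, hj, signedPerm, frame, unitVec, show (1 : Equiv.Perm GolayPt).symm = 1 from rfl]
    rw [h2] at h1
    have h3 := congrArg Subtype.val h1
    rw [coe_monomial_smul] at h3
    by_cases hi : i ∈ c
    · rw [if_pos hi] at h3 ⊢
      rw [smul_neg_vec, AddSubgroup.coe_neg] at h3
      exact h3
    · rw [if_neg hi] at h3 ⊢
      exact h3
  have hpm : ∀ i, s i = 8 ∨ s i = -8 := fun i => by
    have := sqNorm_smul g (frame i)
    rw [hval, sqNorm_frame] at this
    simp [sqNorm, unitVec, ite_pow] at this
    exact sq_eq_sq_iff_eq_or_eq_neg.mp (this.trans (by norm_num : (64 : ℤ) = 8 ^ 2))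
  have hconst : ∀ i, s i = s none := by
    intro i
    obtain ⟨σ, hσ, hσi⟩ := exists_mem_M24_apply none i
    have h1 := congrArg Subtype.val (hcomm (monomial σ hσ ∅ empty_mem_supports) (frame none))
    rw [coe_monomial_smul] at h1
    have h2 : monomial σ hσ ∅ empty_mem_supports • frame none = frame i := by
      apply Subtype.ext
      rw [coe_monomial_smul]
      funext j
      simp only [signedPerm, Finset.notMem_empty, if_false, frame, unitVec]
      exact if_congr (by rw [← hσi]; exact ⟨fun h => by rw [← h, Equiv.apply_symm_apply],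
        fun h => by rw [h, Equiv.symm_apply_apply]⟩) rfl rfl
    rw [h2, hval, hval] at h1
    have h3 := congrFun h1 i
    have hsi : σ.symm i = none := by rw [← hσi, Equiv.symm_apply_apply]
    simp only [signedPerm, Finset.notMem_empty, if_false, unitVec, hsi, if_true] at h3
    exact h3.symm
  rcases hpm none with h | h
  · left
    apply ext_frame
    intro i
    rw [one_smul]
    exact Subtype.ext (by rw [hval, hconst, h]; rfl)
  · right
    apply ext_frame
    intro i
    rw [negAut_smul]
    refine Subtype.ext ?_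
    rw [hval, hconst, h, AddSubgroup.coe_neg]
    funext j
    simp only [frame, unitVec, Pi.neg_apply]
    split_ifs <;> norm_num

theorem card_center : Nat.card (Subgroup.center Co0) = 2 := by
  have : (Subgroup.center Co0 : Set Co0) = {1, negAut} := by
    ext g
    constructor
    · intro hg; exact center_eq hg
    · rintro (rfl | rfl)
      · exact one_mem _
      · exact negAut_mem_center
  rw [show Nat.card (Subgroup.center Co0) = ((Subgroup.center Co0 : Set Co0)).ncard from
    (Nat.card_coe_set_eq _), this, Set.ncard_pair negAut_ne_one.symm]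

end Cfsg.Agent.LeechAut
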