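import Cfsg.Agent.Lib.LeechBasic

/-!
Counting lattice vectors of given norm with coordinates in a given set.

`countRec` counts functions into a list of values with prescribed cost, by choosing for each value
the number of coordinates taking it; its evaluation by the kernel is cheap.
-/

set_option autoImplicit false

namespace Cfsg.Agent.LeechCount

open Cfsg Cfsg.Agent.GolayBasic Cfsg.Agent.LeechBasic

/-- Sum of `f` over `0, …, k`. -/
def sumUpTo (f : ℕ → ℕ) : ℕ → ℕ
  | 0 => f 0
  | k + 1 => sumUpTo f k + f (k + 1)

theorem sumUpTo_eq (f : ℕ → ℕ) : ∀ k, sumUpTo f k = ∑ j ∈ Finset.range (k + 1), f j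
  | 0 => by simp [sumUpTo]
  | k + 1 => by rw [sumUpTo, sumUpTo_eq f k, Finset.sum_range_succ _ (k + 1)]

/-- Binomial coefficient, by factorials. -/
def binom (k j : ℕ) : ℕ := k.descFactorial j / j.factorial

theorem binom_eq (k j : ℕ) : binom k j = k.choose j :=
  (Nat.choose_eq_descFactorial_div_factorial k j).symm

section Generic

variable {V A : Type}

/-- Count functions from `k` points to the listed values. -/
def countRec [AddGroup A] (φ : V → ℕ) (ψ : V → A) (Φ : ℕ → A → ℕ) : List V → ℕ → ℕ → A → ℕ
  | [], k, n, a => if k = 0 then Φ n a else 0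
  | v :: vs, k, n, a => sumUpTo (fun j =>
      if j * φ v ≤ n then binom k j * countRec φ ψ Φ vs (k - j) (n - j * φ v) (a - j • ψ v) else 0) k

variable [AddCommGroup A] [DecidableEq V]

theorem countRec_spec (φ : V → ℕ) (ψ : V → A) (Φ : ℕ → A → ℕ) :
    ∀ (vs : List V), vs.Nodup → ∀ (ι : Type) [Fintype ι] [DecidableEq ι] (n : ℕ) (a : A),
      (∑ g ∈ Fintype.piFinset (fun _ : ι => vs.toFinset),
        if ∑ i, φ (g i) ≤ n then Φ (n - ∑ i, φ (g i)) (a - ∑ i, ψ (g i)) else 0) =
      countRec φ ψ Φ vs (Fintype.card ι) n a := by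
  intro vs
  induction vs with
  | nil =>
    intro _ ι _ _ n a
    rw [countRec]
    by_cases hι : Fintype.card ι = 0
    · haveI := Fintype.card_eq_zero_iff.mp hι
      rw [if_pos hι]
      have : Fintype.piFinset (fun _ : ι => ([] : List V).toFinset) = {isEmptyElim} := by
        ext g
        exact ⟨fun _ => Finset.mem_singleton.mpr (Subsingleton.elim _ _),
          fun _ => Fintype.mem_piFinset.mpr isEmptyElim⟩
      rw [this, Finset.sum_singleton]
      simp
    · rw [if_neg hι]
      haveI : Nonempty ι := Fintype.card_pos_iff.mp (Nat.pos_of_ne_zero hι)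
      have : Fintype.piFinset (fun _ : ι => ([] : List V).toFinset) = ∅ := by
        ext g; simp
      rw [this, Finset.sum_empty]
  | cons v vs ih =>
    intro hnd ι _ _ n a
    obtain ⟨hv, hnd⟩ := List.nodup_cons.mp hnd
    rw [countRec, sumUpTo_eq,
      ← Finset.sum_fiberwise_of_maps_to (t := (Finset.univ : Finset ι).powerset)
        (g := fun g : ι → V => Finset.univ.filter fun i => g i = v) (fun g _ => by simp)]
    set T : ℕ → ℕ := fun j =>
      if j * φ v ≤ n then countRec φ ψ Φ vs (Fintype.card ι - j) (n - j * φ v) (a - j • ψ v) else 0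
      with hT
    have hfib : ∀ J ∈ (Finset.univ : Finset ι).powerset,
        (∑ g ∈ (Fintype.piFinset (fun _ : ι => (v :: vs).toFinset)).filter
            (fun g => (Finset.univ.filter fun i => g i = v) = J),
          if ∑ i, φ (g i) ≤ n then Φ (n - ∑ i, φ (g i)) (a - ∑ i, ψ (g i)) else 0) = T J.card := by
      intro J _
      have hsplit : ∀ {M : Type _} [AddCommMonoid M] (f : V → M) (g : ι → V), (∀ i ∈ J, g i = v) →
          ∑ i, f (g i) = J.card • f v + ∑ i : {i // i ∉ J}, f (g i.1) := by
        intro M _ f g hg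
        rw [← Finset.sum_add_sum_compl J, Finset.sum_congr rfl (fun i hi => congrArg f (hg i hi)),
          Finset.sum_const, Finset.sum_subtype (p := fun i => i ∉ J) Jᶜ (by simp)]
      have hJ : ∀ g : ι → V, g ∈ (Fintype.piFinset (fun _ : ι => (v :: vs).toFinset)).filter
            (fun g => (Finset.univ.filter fun i => g i = v) = J) ↔
          (∀ i, i ∈ J → g i = v) ∧ ∀ i, i ∉ J → g i ∈ vs.toFinset := by
        intro g
        simp only [Finset.mem_filter, Fintype.mem_piFinset, List.toFinset_cons, Finset.mem_insert,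
          Finset.ext_iff, Finset.mem_univ, true_and]
        constructor
        · rintro ⟨h1, h2⟩
          exact ⟨fun i hi => (h2 i).mpr hi, fun i hi => (h1 i).resolve_left (fun h => hi ((h2 i).mp h))⟩
        · rintro ⟨h1, h2⟩
          refine ⟨fun i => ?_, fun i => ⟨fun h => ?_, h1 i⟩⟩
          · by_cases hi : i ∈ J
            · exact Or.inl (h1 i hi)
            · exact Or.inr (h2 i hi)
          · by_contra hi
            exact hv (List.mem_toFinset.mp (h ▸ h2 i hi))
      have hcard : Fintype.card {i // i ∉ J} = Fintype.card ι - J.card := by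
        rw [Fintype.card_subtype_compl, Fintype.card_coe]
      have heq : (∑ g ∈ (Fintype.piFinset (fun _ : ι => (v :: vs).toFinset)).filter
            (fun g => (Finset.univ.filter fun i => g i = v) = J),
          if ∑ i, φ (g i) ≤ n then Φ (n - ∑ i, φ (g i)) (a - ∑ i, ψ (g i)) else 0) =
          ∑ r ∈ Fintype.piFinset (fun _ : {i // i ∉ J} => vs.toFinset),
            if J.card * φ v + ∑ i, φ (r i) ≤ n then
              Φ (n - (J.card * φ v + ∑ i, φ (r i))) (a - (J.card • ψ v + ∑ i, ψ (r i))) else 0 := by
        refine Finset.sum_bij' (fun g _ i => g i.1) (fun r _ i => if h : i ∈ J then v else r ⟨i, h⟩)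
          ?_ ?_ ?_ ?_ ?_
        · intro g hg
          rw [Fintype.mem_piFinset]
          exact fun i => ((hJ g).mp hg).2 i.1 i.2
        · intro r hr
          rw [hJ]
          rw [Fintype.mem_piFinset] at hr
          exact ⟨fun i hi => dif_pos hi, fun i hi => by rw [dif_neg hi]; exact hr _⟩
        · intro g hg
          funext i
          by_cases hi : i ∈ J
          · simp only [dif_pos hi]; exact (((hJ g).mp hg).1 i hi).symm
          · simp only [dif_neg hi]
        · intro r _
          funext i
          simp only [dif_neg i.2]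
        · intro g hg
          rw [hsplit φ g ((hJ g).mp hg).1, hsplit ψ g ((hJ g).mp hg).1, smul_eq_mul]
      rw [heq, hT]
      by_cases hle : J.card * φ v ≤ n
      · simp only [if_pos hle]
        rw [← hcard, ← ih hnd {i // i ∉ J} (n - J.card * φ v) (a - J.card • ψ v)]
        refine Finset.sum_congr rfl fun r _ => ?_
        by_cases h : J.card * φ v + ∑ i, φ (r i) ≤ n
        · rw [if_pos h, if_pos (by omega), Nat.sub_sub, sub_sub]
        · rw [if_neg h, if_neg (by omega)]
      · simp only [if_neg hle]
        exact Finset.sum_eq_zero fun r _ => if_neg (by omega)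
    rw [Finset.sum_congr rfl hfib, Finset.sum_powerset_apply_card, Finset.card_univ]
    refine Finset.sum_congr rfl fun j _ => ?_
    rw [hT, smul_eq_mul, binom_eq]
    simp only [mul_ite, mul_zero]

/-- Two groups of coordinates with different value lists. -/
theorem countRec_spec_two (φ : V → ℕ) (ψ : V → A) (Φ : ℕ → A → ℕ) (vs₁ vs₀ : List V) (h₁ : vs₁.Nodup)
    (h₀ : vs₀.Nodup) (ι : Type) [Fintype ι] [DecidableEq ι] (p : ι → Prop) [DecidablePred p]
    (n : ℕ) (a : A) :
    (∑ g ∈ Fintype.piFinset (fun i : ι => if p i then vs₁.toFinset else vs₀.toFinset),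
        if ∑ i, φ (g i) ≤ n then Φ (n - ∑ i, φ (g i)) (a - ∑ i, ψ (g i)) else 0) =
      countRec φ ψ (fun n' a' => countRec φ ψ Φ vs₀ (Fintype.card {i // ¬ p i}) n' a')
        vs₁ (Fintype.card {i // p i}) n a := by
  rw [← countRec_spec φ ψ _ vs₁ h₁ {i // p i} n a]
  have hsum : ∀ {M : Type _} [AddCommMonoid M] (f : V → M) (g : ι → V),
      ∑ i, f (g i) = ∑ i : {i // p i}, f (g i.1) + ∑ i : {i // ¬ p i}, f (g i.1) := fun f g =>
    (Fintype.sum_subtype_add_sum_subtype p (fun i => f (g i))).symm
  rw [show (∑ g₁ ∈ Fintype.piFinset (fun _ : {i // p i} => vs₁.toFinset),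
      if ∑ i, φ (g₁ i) ≤ n then countRec φ ψ Φ vs₀ (Fintype.card {i // ¬ p i}) (n - ∑ i, φ (g₁ i))
        (a - ∑ i, ψ (g₁ i)) else 0) =
      ∑ g₁ ∈ Fintype.piFinset (fun _ : {i // p i} => vs₁.toFinset),
        ∑ g₀ ∈ Fintype.piFinset (fun _ : {i // ¬ p i} => vs₀.toFinset),
          if ∑ i, φ (g₁ i) + ∑ i, φ (g₀ i) ≤ n then
            Φ (n - (∑ i, φ (g₁ i) + ∑ i, φ (g₀ i))) (a - (∑ i, ψ (g₁ i) + ∑ i, ψ (g₀ i))) else 0 from by
    refine Finset.sum_congr rfl fun g₁ _ => ?_
    by_cases hle : ∑ i, φ (g₁ i) ≤ n
    · rw [if_pos hle, ← countRec_spec φ ψ Φ vs₀ h₀ {i // ¬ p i}]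
      refine Finset.sum_congr rfl fun g₀ _ => ?_
      by_cases h : ∑ i, φ (g₁ i) + ∑ i, φ (g₀ i) ≤ n
      · rw [if_pos h, if_pos (by omega), Nat.sub_sub, sub_sub]
      · rw [if_neg h, if_neg (by omega)]
    · rw [if_neg hle]
      exact (Finset.sum_eq_zero fun g₀ _ => if_neg (by omega)).symm]
  rw [← Finset.sum_product']
  refine Finset.sum_nbij' (fun g => (fun i => g i.1, fun i => g i.1))
    (fun q i => if h : p i then q.1 ⟨i, h⟩ else q.2 ⟨i, h⟩) ?_ ?_ ?_ ?_ ?_
  · intro g hg
    simp only [Finset.mem_coe, Finset.mem_product, Fintype.mem_piFinset] at hg ⊢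
    exact ⟨fun i => by simpa [i.2] using hg i.1, fun i => by simpa [i.2] using hg i.1⟩
  · intro q hq
    simp only [Finset.mem_coe, Finset.mem_product, Fintype.mem_piFinset] at hq ⊢
    intro i
    by_cases h : p i
    · simpa [h] using hq.1 ⟨i, h⟩
    · simpa [h] using hq.2 ⟨i, h⟩
  · intro g _
    funext i
    by_cases h : p i <;> simp [h]
  · intro q _
    refine Prod.ext (funext fun i => ?_) (funext fun i => ?_)
    · simp [i.2]
    · simp [i.2]
  · intro g _
    rw [hsum φ g, hsum ψ g]

end Generic

/-- The squared length of one coordinate. -/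
def cost (v : ℤ) : ℕ := v.natAbs * v.natAbs

/-- Indicator of a valid end state. -/
def final (n : ℕ) (a : ℤ) : ℕ := if n = 0 ∧ a % 8 = 0 then 1 else 0

/-- Number of vectors of norm `N` with coordinates in `vals`, parity `m` and a codeword of weight `w`. -/
def countShape (vals : List ℤ) (N : ℕ) (m : ℤ) (w : ℕ) : ℕ :=
  countRec cost id (fun n' a' => countRec cost id final (vals.filter fun v => v % 4 == m) (24 - w) n' a')
    (vals.filter fun v => v % 4 == m + 2) w N (4 * m)

/-- Number of lattice vectors of norm `N` with coordinates in `vals`. -/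
def countLattice (vals : List ℤ) (N : ℕ) : ℕ :=
  (countShape vals N 0 0 + countShape vals N 1 0) + 759 * (countShape vals N 0 8 + countShape vals N 1 8)
    + 2576 * (countShape vals N 0 12 + countShape vals N 1 12)
    + 759 * (countShape vals N 0 16 + countShape vals N 1 16)
    + (countShape vals N 0 24 + countShape vals N 1 24)

theorem weight_mem_aux :
    (List.range 4096).all (fun x => [0, 8, 12, 16, 24].contains (wt (enc x))) = true := by decide +kernel

theorem length_ofWeight : (ofWeight 0).length = 1 ∧ (ofWeight 8).length = 759 ∧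
    (ofWeight 12).length = 2576 ∧ (ofWeight 16).length = 759 ∧ (ofWeight 24).length = 1 := by
  decide +kernel

/-- A sum over the code of a function of the weight. -/
theorem sum_over_code (F : Finset (GolayPt → ZMod 2)) (hF : ∀ w, w ∈ F ↔ w ∈ golayCode) (f : ℕ → ℕ) :
    ∑ w ∈ F, f (support₂ w).card = f 0 + 759 * f 8 + 2576 * f 12 + 759 * f 16 + f 24 := by
  have h1 : ∑ w ∈ F, f (support₂ w).card = ∑ x ∈ Finset.range 4096, f (wt (enc x)) := by
    refine (Finset.sum_nbij (fun x => word (enc x)) ?_ ?_ ?_ ?_).symm
    · intro x hx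
      exact (hF _).mpr (word_enc_mem (Finset.mem_range.mp hx))
    · intro x hx y hy h
      have := word_inj (enc_lt (Finset.mem_range.mp hx)) (enc_lt (Finset.mem_range.mp hy)) h
      rw [← enc_and (Finset.mem_range.mp hx), ← enc_and (Finset.mem_range.mp hy), this]
    · intro w hw
      obtain ⟨x, hx, h⟩ := exists_enc ((hF w).mp hw)
      exact ⟨x, Finset.mem_coe.mpr (Finset.mem_range.mpr hx), h⟩
    · intro x _
      rw [support₂_word, card_mset]
  have h2 : ∀ x ∈ Finset.range 4096, wt (enc x) ∈ ({0, 8, 12, 16, 24} : Finset ℕ) := by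
    intro x hx
    have := List.all_eq_true.1 weight_mem_aux x (List.mem_range.2 (Finset.mem_range.mp hx))
    simpa using this
  rw [h1, ← Finset.sum_fiberwise_of_maps_to h2]
  have h3 : ∀ n : ℕ, (∑ x ∈ (Finset.range 4096).filter (fun x => wt (enc x) = n), f (wt (enc x))) =
      (ofWeight n).length * f n := by
    intro n
    have hnd : (ofWeight n).Nodup := List.nodup_range.filter _
    rw [Finset.sum_congr rfl (fun x hx => by rw [(Finset.mem_filter.mp hx).2]), Finset.sum_const,
      smul_eq_mul, ← List.toFinset_card_of_nodup hnd]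
    have hfilt : (Finset.range 4096).filter (fun x => wt (enc x) = n) = (ofWeight n).toFinset := by
      ext x
      rw [List.mem_toFinset, ofWeight, List.mem_filter, List.mem_range, Finset.mem_filter,
        Finset.mem_range, beq_iff_eq]
    rw [hfilt]
  simp only [h3]
  obtain ⟨l0, l8, l12, l16, l24⟩ := length_ofWeight
  simp [l0, l8, l12, l16, l24]
  ring

theorem cost_cast (v : ℤ) : (cost v : ℤ) = v ^ 2 := by
  rw [cost]; push_cast; rw [abs_mul_abs_self, pow_two]

/-- The count of lattice vectors of norm `N` with coordinates in the listed values. -/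
theorem ncard_eq_countLattice (vals : List ℤ) (hnd : vals.Nodup) (N : ℕ) :
    {x : GolayPt → ℤ | x ∈ leechLattice ∧ sqNorm x = N ∧ ∀ i, x i ∈ vals}.ncard =
      countLattice vals N := by
  classical
  let S : Finset (GolayPt → ℤ) :=
    (Fintype.piFinset fun _ : GolayPt => vals.toFinset).filter fun x => IsLeech x ∧ sqNorm x = N
  have hS : {x : GolayPt → ℤ | x ∈ leechLattice ∧ sqNorm x = N ∧ ∀ i, x i ∈ vals} = (S : Set _) := by
    ext x
    simp only [S, Set.mem_setOf_eq, Finset.coe_filter, Fintype.mem_piFinset, List.mem_toFinset,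
      mem_leechLattice]
    tauto
  rw [hS, Set.ncard_coe_finset]
  let F : Finset (GolayPt → ZMod 2) := Finset.univ.filter fun w => w ∈ golayCode
  have hmap : ∀ x ∈ S, (x none % 2, wbit x) ∈ ({0, 1} : Finset ℤ) ×ˢ F := by
    intro x hx
    simp only [S, Finset.mem_filter] at hx
    simp only [F, Finset.mem_product, Finset.mem_insert, Finset.mem_singleton, Finset.mem_filter,
      Finset.mem_univ, true_and]
    exact ⟨by omega, hx.2.1.2.2⟩
  rw [Finset.card_eq_sum_card_fiberwise hmap, Finset.sum_product]
  have hfib : ∀ m ∈ ({0, 1} : Finset ℤ), ∀ c ∈ F,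
      (S.filter fun x => (x none % 2, wbit x) = (m, c)).card = countShape vals N m (support₂ c).card := by
    intro m hm c hc
    simp only [Finset.mem_insert, Finset.mem_singleton] at hm
    simp only [F, Finset.mem_filter, Finset.mem_univ, true_and] at hc
    have hset : (S.filter fun x => (x none % 2, wbit x) = (m, c)) =
        (Fintype.piFinset fun i : GolayPt => if c i ≠ 0 then (vals.filter fun v => v % 4 == m + 2).toFinset
          else (vals.filter fun v => v % 4 == m).toFinset).filter
          (fun x => ∑ i, cost (x i) = N ∧ (4 * m - ∑ i, x i) % 8 = 0) := by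
      ext x
      simp only [S, Finset.mem_filter, Fintype.mem_piFinset, List.mem_toFinset, Prod.mk.injEq]
      have hcost : (∑ i, cost (x i) = N) ↔ sqNorm x = N := by
        rw [sqNorm, ← Nat.cast_inj (R := ℤ), Nat.cast_sum]
        simp only [cost_cast]
      constructor
      · rintro ⟨⟨hv, hL, hn⟩, hpar, hw⟩
        refine ⟨fun i => ?_, hcost.mpr hn, ?_⟩
        · have h1 := hL.1 i
          by_cases h : c i = 0
          · rw [if_neg (by simp [h])]
            have : ¬ (x i / 2 % 2 = 1) := fun hh => (wbit_ne_zero_iff x i).mpr hh (by rw [hw, h])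
            simp only [List.mem_toFinset, List.mem_filter, beq_iff_eq]
            exact ⟨hv i, by omega⟩
          · rw [if_pos h]
            have := (wbit_ne_zero_iff x i).mp (by rw [hw]; exact h)
            simp only [List.mem_toFinset, List.mem_filter, beq_iff_eq]
            exact ⟨hv i, by omega⟩
        · have := hL.2.1; omega
      · rintro ⟨hv, hn, hs⟩
        have key : ∀ i, x i ∈ vals ∧ x i % 2 = m ∧ wbit x i = c i := by
          intro i
          have := hv i
          by_cases h : c i = 0
          · rw [if_neg (by simp [h])] at this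
            simp only [List.mem_toFinset, List.mem_filter, beq_iff_eq] at this
            refine ⟨this.1, by omega, ?_⟩
            by_contra hne
            rw [h] at hne
            have := (wbit_ne_zero_iff x i).mp hne
            omega
          · rw [if_pos h] at this
            simp only [List.mem_toFinset, List.mem_filter, beq_iff_eq] at this
            refine ⟨this.1, by omega, ?_⟩
            have h1 : c i = 1 := by revert h; generalize c i = z; revert z; decide
            have h2 : wbit x i ≠ 0 := (wbit_ne_zero_iff x i).mpr (by omega)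
            rw [h1]
            revert h2; generalize wbit x i = z; revert z; decide
        have hw : wbit x = c := funext fun i => (key i).2.2
        refine ⟨⟨fun i => (key i).1, ⟨fun i => (key i).2.1.trans (key none).2.1.symm, ?_, hw ▸ hc⟩,
          hcost.mp hn⟩, (key none).2.1, hw⟩
        rw [(key none).2.1]
        omega
    rw [hset, Finset.card_filter]
    have := countRec_spec_two cost (id : ℤ → ℤ) final (vals.filter fun v => v % 4 == m + 2)
      (vals.filter fun v => v % 4 == m) (hnd.filter _) (hnd.filter _) GolayPt (fun i => c i ≠ 0) N (4 * m)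
    have hcard : Fintype.card {i // c i ≠ 0} = (support₂ c).card := by
      rw [Fintype.card_subtype]; rfl
    have hcard' : Fintype.card {i // ¬ (c i ≠ 0)} = 24 - (support₂ c).card := by
      rw [Fintype.card_subtype_compl, hcard]; simp
    rw [hcard, hcard'] at this
    rw [countShape, ← this]
    refine Finset.sum_congr rfl fun g _ => ?_
    simp only [id_eq, final]
    by_cases hle : ∑ i, cost (g i) ≤ N
    · rw [if_pos hle]
      by_cases h : ∑ i, cost (g i) = N ∧ (4 * m - ∑ i, g i) % 8 = 0
      · rw [if_pos h, if_pos ⟨by omega, h.2⟩]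
      · rw [if_neg h, if_neg (fun hh => h ⟨by omega, hh.2⟩)]
    · rw [if_neg hle, if_neg (fun h => hle h.1.le)]
  rw [Finset.sum_congr rfl (fun m hm => Finset.sum_congr rfl (hfib m hm)), Finset.sum_pair (by decide),
    sum_over_code F (fun w => by simp [F]), sum_over_code F (fun w => by simp [F]), countLattice]
  ring

/-- All values a coordinate can take in a vector of norm below 81. -/
def allVals : List ℤ := [8, -8, 7, -7, 6, -6, 5, -5, 4, -4, 3, -3, 2, -2, 1, -1, 0]

theorem mem_allVals_of_sqNorm {x : GolayPt → ℤ} (h : sqNorm x < 81) (i : GolayPt) : x i ∈ allVals := by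
  have h1 : x i ^ 2 ≤ sqNorm x :=
    Finset.single_le_sum (fun k _ => sq_nonneg (x k)) (Finset.mem_univ i)
  have h2 : -8 ≤ x i := by nlinarith
  have h3 : x i ≤ 8 := by nlinarith
  simp only [allVals, List.mem_cons, List.not_mem_nil, or_false]
  omega

theorem ncard_norm (N : ℕ) (hN : N < 81) :
    {x : GolayPt → ℤ | x ∈ leechLattice ∧ sqNorm x = N}.ncard = countLattice allVals N := by
  rw [← ncard_eq_countLattice allVals (by decide) N]
  congr 1
  ext x
  simp only [Set.mem_setOf_eq]
  exact ⟨fun ⟨a, b⟩ => ⟨a, b, mem_allVals_of_sqNorm (by omega)⟩, fun ⟨a, b, _⟩ => ⟨a, b⟩⟩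

theorem count_32 : countLattice allVals 32 = 196560 := by decide +kernel

theorem count_48 : countLattice allVals 48 = 16773120 := by decide +kernel

theorem count_64 : countLattice allVals 64 = 398034000 := by decide +kernel

end Cfsg.Agent.LeechCount
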