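import Cfsg.Agent.Lib.LeechIndex
import Cfsg.Agent.Lib.LeechCount
import Cfsg.Agent.Lib.LeechAut

/-!
The classes of the lattice modulo twice the lattice.
-/

set_option autoImplicit false

namespace Cfsg.Agent.LeechMod2

open Cfsg Cfsg.Agent.LeechBasic Cfsg.Agent.LeechIndex Cfsg.Agent.LeechAut

theorem mem_zero : (0 : GolayPt → ℤ) ∈ leechLattice := zero_mem _

theorem sqNorm_nonneg (x : GolayPt → ℤ) : 0 ≤ sqNorm x :=
  Finset.sum_nonneg fun i _ => sq_nonneg _

theorem sqNorm_two_nsmul (z : GolayPt → ℤ) : sqNorm (2 • z) = 4 * sqNorm z := by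
  simp only [sqNorm, Finset.mul_sum, Pi.smul_apply, nsmul_eq_mul]
  exact Finset.sum_congr rfl fun i _ => by push_cast; ring

theorem sqNorm_eq_zero {x : GolayPt → ℤ} (h : sqNorm x = 0) : x = 0 := by
  funext i
  have := (Finset.sum_eq_zero_iff_of_nonneg fun j _ => sq_nonneg (x j)).mp h i (Finset.mem_univ i)
  exact pow_eq_zero_iff (by norm_num) |>.mp this

theorem eq_zero_or_128_le {u : GolayPt → ℤ} (hu : u ∈ twiceLeech) : u = 0 ∨ 128 ≤ sqNorm u := by
  obtain ⟨z, hz, rfl⟩ := mem_twiceLeech.mp hu
  by_cases h0 : z = 0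
  · left; rw [h0, smul_zero]
  · right
    have := thirtytwo_le_sqNorm (mem_leechLattice.mp hz) h0
    rw [sqNorm_two_nsmul]
    omega

/-- Short vectors congruent modulo twice the lattice. -/
theorem congr_short {x y : GolayPt → ℤ} (hy : y ∈ leechLattice)
    (hxy : x - y ∈ twiceLeech) (hnx : sqNorm x ≤ 64) (hny : sqNorm y ≤ 64) :
    x = y ∨ x = -y ∨ (sqNorm x = 64 ∧ sqNorm y = 64 ∧ dotInt x y = 0) := by
  rcases eq_zero_or_128_le hxy with h | h
  · exact Or.inl (sub_eq_zero.mp h)
  have hadd : x + y ∈ twiceLeech := by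
    have h2 : y + y ∈ twiceLeech := ⟨y, hy, rfl⟩
    have := add_mem hxy h2
    rwa [← add_assoc, sub_add_cancel] at this
  rcases eq_zero_or_128_le hadd with h' | h'
  · exact Or.inr (Or.inl (eq_neg_of_add_eq_zero_left h'))
  right; right
  rw [sqNorm_sub] at h
  rw [sqNorm_add] at h'
  omega

theorem eq_zero_of_mem_twice {x : GolayPt → ℤ} (hx : x ∈ twiceLeech) (hn : sqNorm x ≤ 64) : x = 0 := by
  rcases eq_zero_or_128_le hx with h | h
  · exact h
  · omega

/-- Pairwise orthogonal nonzero vectors: at most 24. -/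
theorem card_orthogonal_le (P : Finset (GolayPt → ℤ)) (hne : ∀ x ∈ P, sqNorm x ≠ 0)
    (horth : ∀ x ∈ P, ∀ y ∈ P, x ≠ y → dotInt x y = 0) : P.card ≤ 24 := by
  classical
  have hli : LinearIndependent ℤ (fun x : P => (x : GolayPt → ℤ)) := by
    rw [Fintype.linearIndependent_iff]
    intro g hg k
    have h1 : dotInt (∑ x : P, g x • (x : GolayPt → ℤ)) k = g k * sqNorm (k : GolayPt → ℤ) := by
      have h2 : dotInt (∑ x : P, g x • (x : GolayPt → ℤ)) k =
          ∑ x : P, g x * dotInt (x : GolayPt → ℤ) k := by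
        simp only [dotInt, Finset.sum_apply, Pi.smul_apply, smul_eq_mul, Finset.sum_mul, Finset.mul_sum]
        rw [Finset.sum_comm]
        exact Finset.sum_congr rfl fun x _ => Finset.sum_congr rfl fun i _ => mul_assoc _ _ _
      rw [h2, Finset.sum_eq_single k]
      · congr 1
        simp [dotInt, sqNorm, pow_two]
      · intro x _ hx
        rw [horth x x.2 k k.2 (fun h => hx (Subtype.ext h)), mul_zero]
      · simp
    rw [hg] at h1
    have h0 : dotInt (0 : GolayPt → ℤ) k = 0 := by simp [dotInt]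
    rw [h0] at h1
    rcases mul_eq_zero.mp h1.symm with h | h
    · exact h
    · exact absurd h (hne k k.2)
  have := hli.fintype_card_le_finrank
  rwa [Fintype.card_coe, Module.finrank_pi, show Fintype.card GolayPt = 24 by simp] at this

/-- The class of a vector. -/
def cls (x : GolayPt → ℤ) : (GolayPt → ℤ) ⧸ twiceLeech := QuotientAddGroup.mk x

theorem cls_eq {x y : GolayPt → ℤ} : cls x = cls y ↔ x - y ∈ twiceLeech :=
  QuotientAddGroup.eq_iff_sub_mem

/-- The finset of lattice vectors of given norm (below 81). -/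
noncomputable def shell (N : ℕ) : Finset (GolayPt → ℤ) :=
  haveI := Classical.decPred fun x : GolayPt → ℤ => x ∈ leechLattice ∧ sqNorm x = N
  (Fintype.piFinset fun _ : GolayPt => LeechCount.allVals.toFinset).filter
    fun x => x ∈ leechLattice ∧ sqNorm x = N

theorem mem_shell {N : ℕ} (hN : N < 81) {x : GolayPt → ℤ} :
    x ∈ shell N ↔ x ∈ leechLattice ∧ sqNorm x = N := by
  simp only [shell, Finset.mem_filter, Fintype.mem_piFinset, List.mem_toFinset, and_iff_right_iff_imp]
  exact fun h => LeechCount.mem_allVals_of_sqNorm (by omega)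

attribute [local irreducible] LeechCount.countLattice

theorem card_shell {N : ℕ} (hN : N < 81) : (shell N).card = LeechCount.countLattice LeechCount.allVals N := by
  have h : ((shell N : Finset (GolayPt → ℤ)) : Set (GolayPt → ℤ)) =
      {x : GolayPt → ℤ | x ∈ leechLattice ∧ sqNorm x = N} := Set.ext fun x => mem_shell hN
  rw [← LeechCount.ncard_norm N hN, ← h, Set.ncard_coe_finset]

attribute [local irreducible] shell

theorem fiber_le_two {N : ℕ} (hN : N < 64) (q : (GolayPt → ℤ) ⧸ twiceLeech) [DecidableEq ((GolayPt → ℤ) ⧸ twiceLeech)] :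
    ((shell N).filter fun x => cls x = q).card ≤ 2 := by
  classical
  rcases ((shell N).filter fun x => cls x = q).eq_empty_or_nonempty with h | ⟨x, hx⟩
  · simp [h]
  refine le_trans (Finset.card_le_card ?_) (Finset.card_le_two : ({x, -x} : Finset _).card ≤ 2)
  intro y hy
  simp only [Finset.mem_filter, mem_shell (show N < 81 by omega)] at hx hy
  rcases congr_short hx.1.1 (cls_eq.mp (hy.2.trans hx.2.symm)) (by omega) (by omega) with h | h | h
  · simp [h]
  · simp [h]
  · omega

theorem fiber_le_48 (q : (GolayPt → ℤ) ⧸ twiceLeech) [DecidableEq ((GolayPt → ℤ) ⧸ twiceLeech)] :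
    ((shell 64).filter fun x => cls x = q).card ≤ 48 := by
  classical
  set S := (shell 64).filter fun x => cls x = q with hS
  have key : ∀ x ∈ S, ∀ y ∈ S, x ≠ y → x ≠ -y → dotInt x y = 0 := by
    intro x hx y hy h1 h2
    simp only [hS, Finset.mem_filter, mem_shell (show 64 < 81 by omega)] at hx hy
    rcases congr_short hy.1.1 (cls_eq.mp (hx.2.trans hy.2.symm)) (by omega) (by omega) with h | h | h
    · exact absurd h h1
    · exact absurd h h2
    · exact h.2.2
  let f : (GolayPt → ℤ) → Finset (GolayPt → ℤ) := fun x => {x, -x}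
  have hne : ∀ p ∈ S.image f, p.Nonempty := by
    intro p hp
    obtain ⟨x, _, rfl⟩ := Finset.mem_image.mp hp
    exact Finset.insert_nonempty _ _
  -- choose one representative of each pair
  obtain ⟨r, hr⟩ : ∃ r : Finset (GolayPt → ℤ) → (GolayPt → ℤ), ∀ p ∈ S.image f, r p ∈ S ∧ f (r p) = p := by
    refine ⟨fun p => if h : ∃ x ∈ S, f x = p then h.choose else 0, fun p hp => ?_⟩
    have h : ∃ x ∈ S, f x = p := Finset.mem_image.mp hp
    simp only [dif_pos h]
    exact h.choose_spec
  have hP : ((S.image f).image r).card ≤ 24 := by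
    refine card_orthogonal_le _ ?_ ?_
    · intro x hx
      obtain ⟨p, hp, rfl⟩ := Finset.mem_image.mp hx
      have := (hr p hp).1
      simp only [hS, Finset.mem_filter, mem_shell (show 64 < 81 by omega)] at this
      omega
    · intro x hx y hy hxy
      obtain ⟨p, hp, rfl⟩ := Finset.mem_image.mp hx
      obtain ⟨p', hp', rfl⟩ := Finset.mem_image.mp hy
      refine key _ (hr p hp).1 _ (hr p' hp').1 hxy fun h => hxy ?_
      have hpp : p = p' := by
        rw [← (hr p hp).2, ← (hr p' hp').2, h]
        simp only [f, neg_neg, Finset.pair_comm]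
      rw [hpp]
  have hcard : ((S.image f).image r).card = (S.image f).card := Finset.card_image_of_injOn fun p hp p' hp' h => by
    rw [← (hr p hp).2, ← (hr p' hp').2, h]
  have h2 : S.card ≤ 2 * (S.image f).card := by
    refine Finset.card_le_mul_card_image S 2 fun p hp => ?_
    obtain ⟨x, -, rfl⟩ := Finset.mem_image.mp hp
    refine le_trans (Finset.card_le_card ?_) (Finset.card_le_two : ({x, -x} : Finset _).card ≤ 2)
    intro y hy
    have h := (Finset.mem_filter.mp hy).2
    have : y ∈ f x := by rw [← h]; exact Finset.mem_insert_self _ _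
    exact this
  omega

/-- Every class has a representative of norm at most 64; classes of norm 64 have exactly 48 members. -/
theorem main :
    (∀ x ∈ leechLattice, ∃ y ∈ leechLattice, sqNorm y ≤ 64 ∧ x - y ∈ twiceLeech) ∧
      ∀ x ∈ leechLattice, sqNorm x = 64 →
        {y | y ∈ leechLattice ∧ sqNorm y = 64 ∧ x - y ∈ twiceLeech}.ncard = 48 := by
  classical
  set T : Set ((GolayPt → ℤ) ⧸ twiceLeech) := cls '' (leechLattice : Set (GolayPt → ℤ)) with hT
  have hTc : T.ncard = 2 ^ 24 := by
    rw [← relIndex_twiceLeech, ← Nat.card_coe_set_eq]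
    show Nat.card ↥(T) = Nat.card (leechLattice ⧸ twiceLeech.addSubgroupOf leechLattice)
    let φ : leechLattice →+ (GolayPt → ℤ) ⧸ twiceLeech :=
      (QuotientAddGroup.mk' twiceLeech).comp leechLattice.subtype
    have hk : φ.ker = twiceLeech.addSubgroupOf leechLattice := by
      ext v
      show (QuotientAddGroup.mk (v : GolayPt → ℤ) : (GolayPt → ℤ) ⧸ twiceLeech) = 0 ↔ _
      rw [QuotientAddGroup.eq_zero_iff]
      rfl
    rw [← hk, Nat.card_congr (QuotientAddGroup.quotientKerEquivRange φ).toEquiv]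
    refine Nat.card_congr (Equiv.setCongr ?_)
    ext q
    constructor
    · rintro ⟨v, hv, rfl⟩; exact ⟨⟨v, hv⟩, rfl⟩
    · rintro ⟨v, rfl⟩; exact ⟨v.1, v.2, rfl⟩
  have hTfin : T.Finite := Set.finite_of_ncard_ne_zero (by rw [hTc]; norm_num)
  set A := (shell 32).image cls with hA
  set B := (shell 48).image cls with hB
  set C := (shell 64).image cls with hC
  set Z : Finset ((GolayPt → ℤ) ⧸ twiceLeech) := {cls 0} with hZ
  have hA2 : 196560 ≤ 2 * A.card := by
    rw [← LeechCount.count_32, ← card_shell (by norm_num : 32 < 81)]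
    exact Finset.card_le_mul_card_image _ 2 fun q _ => fiber_le_two (by norm_num) q
  have hB2 : 16773120 ≤ 2 * B.card := by
    rw [← LeechCount.count_48, ← card_shell (by norm_num : 48 < 81)]
    exact Finset.card_le_mul_card_image _ 2 fun q _ => fiber_le_two (by norm_num) q
  have hC2 : 398034000 ≤ 48 * C.card := by
    rw [← LeechCount.count_64, ← card_shell (by norm_num : 64 < 81)]
    exact Finset.card_le_mul_card_image _ 48 fun q _ => fiber_le_48 q
  have hsep : ∀ M N : ℕ, M < 65 → N < 65 → M ≠ N → Disjoint ((shell M).image cls) ((shell N).image cls) := by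
    intro M N hM hN hMN
    rw [Finset.disjoint_left]
    intro q hq hq'
    simp only [Finset.mem_image, mem_shell (show M < 81 by omega), mem_shell (show N < 81 by omega)] at hq hq'
    obtain ⟨x, ⟨hx, hxn⟩, rfl⟩ := hq
    obtain ⟨y, ⟨hy, hyn⟩, hxy⟩ := hq'
    rcases congr_short hy (cls_eq.mp hxy.symm) (by omega) (by omega) with h | h | h
    · rw [h] at hxn; omega
    · rw [h, show sqNorm (-y) = sqNorm y by simp [sqNorm]] at hxn; omega
    · omega
  have hzero : ∀ N : ℕ, 0 < N → N < 65 → Disjoint Z ((shell N).image cls) := by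
    intro N hN0 hN
    rw [hZ, Finset.disjoint_singleton_left, Finset.mem_image]
    rintro ⟨x, hx, hx'⟩
    rw [mem_shell (by omega)] at hx
    have := eq_zero_of_mem_twice (by simpa using cls_eq.mp hx') (by omega)
    rw [this] at hx
    simp [sqNorm] at hx
    omega
  set U := ((Z ∪ A) ∪ B) ∪ C with hU
  have hUc : U.card = 1 + A.card + B.card + C.card := by
    rw [hU, Finset.card_union_of_disjoint, Finset.card_union_of_disjoint, Finset.card_union_of_disjoint,
      hZ, Finset.card_singleton]
    · exact hzero 32 (by norm_num) (by norm_num)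
    · exact Finset.disjoint_union_left.mpr ⟨hzero 48 (by norm_num) (by norm_num),
        hsep 32 48 (by norm_num) (by norm_num) (by norm_num)⟩
    · exact Finset.disjoint_union_left.mpr ⟨Finset.disjoint_union_left.mpr
        ⟨hzero 64 (by norm_num) (by norm_num), hsep 32 64 (by norm_num) (by norm_num) (by norm_num)⟩,
        hsep 48 64 (by norm_num) (by norm_num) (by norm_num)⟩
  have hUT : (U : Set _) ⊆ T := by
    intro q hq
    simp only [hU, hZ, hA, hB, hC, Finset.coe_union, Finset.coe_singleton, Finset.coe_image,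
      Set.mem_union, Set.mem_singleton_iff, Set.mem_image, Finset.mem_coe] at hq
    rcases hq with ((rfl | ⟨x, hx, rfl⟩) | ⟨x, hx, rfl⟩) | ⟨x, hx, rfl⟩
    · exact ⟨0, mem_zero, rfl⟩
    · exact ⟨x, ((mem_shell (show 32 < 81 by norm_num)).mp hx).1, rfl⟩
    · exact ⟨x, ((mem_shell (show 48 < 81 by norm_num)).mp hx).1, rfl⟩
    · exact ⟨x, ((mem_shell (show 64 < 81 by norm_num)).mp hx).1, rfl⟩
  have hle := Set.ncard_le_ncard hUT hTfin
  rw [Set.ncard_coe_finset, hTc, hUc] at hle
  have hUeq : (U : Set _) = T := Set.eq_of_subset_of_ncard_le hUT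
    (by rw [Set.ncard_coe_finset, hTc, hUc]; omega) hTfin
  constructor
  · intro x hx
    have : cls x ∈ (U : Set _) := hUeq ▸ ⟨x, hx, rfl⟩
    simp only [hU, hZ, hA, hB, hC, Finset.coe_union, Finset.coe_singleton, Finset.coe_image,
      Set.mem_union, Set.mem_singleton_iff, Set.mem_image, Finset.mem_coe] at this
    rcases this with ((h | ⟨y, hy, h⟩) | ⟨y, hy, h⟩) | ⟨y, hy, h⟩
    · exact ⟨0, mem_zero, by simp [sqNorm], cls_eq.mp h⟩
    · have hy' := (mem_shell (show 32 < 81 by norm_num)).mp hy
      exact ⟨y, hy'.1, by omega, cls_eq.mp h.symm⟩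
    · have hy' := (mem_shell (show 48 < 81 by norm_num)).mp hy
      exact ⟨y, hy'.1, by omega, cls_eq.mp h.symm⟩
    · have hy' := (mem_shell (show 64 < 81 by norm_num)).mp hy
      exact ⟨y, hy'.1, by omega, cls_eq.mp h.symm⟩
  · intro x hx hxn
    have hq : cls x ∈ C := Finset.mem_image.mpr ⟨x, (mem_shell (show 64 < 81 by norm_num)).mpr ⟨hx, hxn⟩, rfl⟩
    have hsum := Finset.card_eq_sum_card_fiberwise (s := shell 64) (t := C) (f := cls)
      (fun y hy => Finset.mem_image_of_mem _ hy)
    rw [card_shell (by norm_num), LeechCount.count_64, ← Finset.sum_erase_add _ _ hq] at hsum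
    have hrest := Finset.sum_le_card_nsmul (C.erase (cls x))
      (fun q => ((shell 64).filter fun y => cls y = q).card) 48 (fun q _ => fiber_le_48 q)
    rw [Finset.card_erase_of_mem hq, smul_eq_mul] at hrest
    have h48 := fiber_le_48 (cls x)
    have : ((shell 64).filter fun y => cls y = cls x).card = 48 := by
      skip
      omega
    rw [← this, ← Set.ncard_coe_finset]
    congr 1
    ext y
    simp only [Set.mem_setOf_eq, Finset.coe_filter, mem_shell (show 64 < 81 by norm_num), cls_eq]
    constructor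
    · rintro ⟨h1, h2, h3⟩
      refine ⟨⟨h1, h2⟩, ?_⟩
      have := neg_mem h3
      rwa [neg_sub] at this
    · rintro ⟨⟨h1, h2⟩, h3⟩
      refine ⟨h1, h2, ?_⟩
      have := neg_mem h3
      rwa [neg_sub] at this

end Cfsg.Agent.LeechMod2
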