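import Cfsg.Agent.Lib.LeechTransitive
import Cfsg.Agent.Lib.LeechMod2

/-!
The crosses of the lattice and the order of the automorphism group.
-/

set_option autoImplicit false

open scoped Pointwise

namespace Cfsg.Agent.LeechOrder

open Cfsg Cfsg.Agent.LeechBasic Cfsg.Agent.LeechAut Cfsg.Agent.LeechIndex Cfsg.Agent.LeechMonomial

/-- The norm-64 vectors congruent to `v` modulo twice the lattice. -/
def crossL (v : leechLattice) : Set leechLattice :=
  {y | sqNorm (y : GolayPt → ℤ) = 64 ∧ (v : GolayPt → ℤ) - y ∈ twiceLeech}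

/-- The vectors of norm 64. -/
def norm64 : Set leechLattice := {v | sqNorm (v : GolayPt → ℤ) = 64}

theorem twiceLeech_smul (g : Co0) {v y : leechLattice} (h : (v : GolayPt → ℤ) - y ∈ twiceLeech) :
    ((g • v : leechLattice) : GolayPt → ℤ) - (g • y : leechLattice) ∈ twiceLeech := by
  obtain ⟨z, hz, hzv⟩ := mem_twiceLeech.mp h
  have : v - y = (2 : ℤ) • (⟨z, hz⟩ : leechLattice) := Subtype.ext (by
    rw [AddSubgroup.coe_sub, AddSubgroup.coe_zsmul, hzv, two_nsmul, two_zsmul])
  refine mem_twiceLeech.mpr ⟨_, (g • (⟨z, hz⟩ : leechLattice)).2, ?_⟩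
  rw [← AddSubgroup.coe_sub, ← smul_sub_vec, this, smul_zsmul_vec, AddSubgroup.coe_zsmul, two_nsmul,
    two_zsmul]

theorem smul_crossL (g : Co0) (v : leechLattice) : g • crossL v = crossL (g • v) := by
  ext y
  rw [Set.mem_smul_set_iff_inv_smul_mem]
  constructor
  · rintro ⟨h1, h2⟩
    refine ⟨by rwa [sqNorm_smul] at h1, ?_⟩
    have := twiceLeech_smul g h2
    rwa [smul_inv_smul] at this
  · rintro ⟨h1, h2⟩
    refine ⟨by rwa [sqNorm_smul], ?_⟩
    have := twiceLeech_smul g⁻¹ h2
    rwa [inv_smul_smul] at this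

theorem mem_crossL_self {v : leechLattice} (hv : v ∈ norm64) : v ∈ crossL v :=
  ⟨hv, by rw [sub_self]; exact zero_mem _⟩

theorem crossL_eq {v w : leechLattice} (h : w ∈ crossL v) : crossL w = crossL v := by
  ext y
  constructor
  · rintro ⟨h1, h2⟩
    refine ⟨h1, ?_⟩
    have := add_mem h.2 h2
    rwa [sub_add_sub_cancel] at this
  · rintro ⟨h1, h2⟩
    refine ⟨h1, ?_⟩
    have := sub_mem h2 h.2
    rwa [sub_sub_sub_cancel_left] at this

theorem ncard_crossL {v : leechLattice} (hv : v ∈ norm64) : (crossL v).ncard = 48 := by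
  rw [← LeechMod2.main.2 (v : GolayPt → ℤ) v.2 hv, ← Set.ncard_image_of_injective _ Subtype.val_injective]
  congr 1
  ext y
  constructor
  · rintro ⟨y, hy, rfl⟩; exact ⟨y.2, hy.1, hy.2⟩
  · rintro ⟨h1, h2, h3⟩; exact ⟨⟨y, h1⟩, ⟨h2, h3⟩, rfl⟩

theorem ncard_norm64 : norm64.ncard = 398034000 := by
  rw [← LeechCount.count_64, ← LeechCount.ncard_norm 64 (by norm_num),
    ← Set.ncard_image_of_injective _ Subtype.val_injective]
  congr 1
  ext y
  constructor
  · rintro ⟨y, hy, rfl⟩; exact ⟨y.2, hy⟩
  · rintro ⟨h1, h2⟩; exact ⟨⟨y, h1⟩, h2, rfl⟩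

theorem finite_norm64 : norm64.Finite := Set.finite_of_ncard_ne_zero (by rw [ncard_norm64]; norm_num)

theorem ncard_crosses : (crossL '' norm64).ncard = 8292375 := by
  classical
  set S := finite_norm64.toFinset with hS
  have h1 : S.card = 398034000 := by rw [← ncard_norm64, Set.ncard_eq_toFinset_card _ finite_norm64]
  have hfib : ∀ C ∈ S.image crossL, (S.filter fun y => crossL y = C).card = 48 := by
    intro C hC
    obtain ⟨v, hv, rfl⟩ := Finset.mem_image.mp hC
    rw [hS, Set.Finite.mem_toFinset] at hv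
    rw [← ncard_crossL hv, ← Set.ncard_coe_finset]
    congr 1
    ext y
    simp only [Finset.coe_filter, Set.mem_setOf_eq, hS, Set.Finite.mem_toFinset]
    exact ⟨fun h => h.2 ▸ mem_crossL_self h.1, fun h => ⟨h.1, crossL_eq h⟩⟩
  have h2 := Finset.card_eq_sum_card_image crossL S
  rw [Finset.sum_congr rfl hfib, Finset.sum_const, smul_eq_mul, h1] at h2
  have h3 : (crossL '' norm64).ncard = (S.image crossL).card := by
    rw [← Set.ncard_coe_finset, Finset.coe_image, hS, Set.Finite.coe_toFinset]
  omega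

theorem frame_mem_norm64 (i : GolayPt) : frame i ∈ norm64 := sqNorm_frame i

/-- The standard cross, inside the lattice. -/
def stdL : Set leechLattice := {v | (v : GolayPt → ℤ) ∈ stdCross}

theorem ncard_stdCross : (stdCross : Set (GolayPt → ℤ)).ncard = 48 := by
  let f : GolayPt × Bool → (GolayPt → ℤ) := fun q => Pi.single q.1 (if q.2 then 8 else -8)
  have hf : Function.Injective f := by
    rintro ⟨i, b⟩ ⟨j, b'⟩ h
    have h1 := congrFun h i
    simp only [f, Pi.single_apply, if_true] at h1
    by_cases hij : i = j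
    · subst hij; cases b <;> cases b' <;> simp at h1 ⊢
    · rw [if_neg hij] at h1; cases b <;> simp at h1
  have hr : stdCross = Set.range f := by
    ext y
    constructor
    · rintro ⟨i, s, rfl | rfl, rfl⟩
      · exact ⟨(i, true), rfl⟩
      · exact ⟨(i, false), rfl⟩
    · rintro ⟨⟨i, b⟩, rfl⟩
      exact ⟨i, _, by cases b <;> simp, rfl⟩
  rw [hr, Set.ncard_range_of_injective hf]
  simp

theorem mem_stdCross_of_unit (i : GolayPt) {s : ℤ} (hs : s = 8 ∨ s = -8) : Pi.single i s ∈ leechLattice := by
  rcases hs with rfl | rfl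
  · rw [← unitVec_eq_single]; exact (frame i).2
  · rw [show (Pi.single i (-8) : GolayPt → ℤ) = -Pi.single i 8 by rw [← Pi.single_neg], ← unitVec_eq_single]
    exact neg_mem (frame i).2

theorem stdL_eq : stdL = crossL (frame none) := by
  have hfin : (crossL (frame none)).Finite := finite_norm64.subset fun y hy => hy.1
  refine Set.eq_of_subset_of_ncard_le ?_ ?_ hfin
  · rintro v ⟨i, s, hs, hv⟩
    refine ⟨by rw [hv]; rcases hs with rfl | rfl <;> simp [sqNorm, Pi.single_apply, ite_pow], ?_⟩
    rw [mem_twiceLeech]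
    refine ⟨fun p => (if p = none then 4 else 0) - (if p = i then s / 2 else 0), ?_, ?_⟩
    · rcases hs with rfl | rfl
      · have := neg_mem (LeechXi.fourDiff_mem i)
        convert this using 1
        funext p
        simp [LeechXi.fourDiff]
      · have := add_mem (neg_mem (LeechXi.fourDiff_mem i)) ((frame i).2 : unitVec 8 i ∈ leechLattice)
        convert this using 1
        funext p
        simp only [LeechXi.fourDiff, frame, unitVec, Pi.add_apply, Pi.neg_apply]
        split_ifs <;> norm_num
    · rw [hv]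
      funext p
      show unitVec 8 none p - _ = _
      rcases hs with rfl | rfl <;>
      · simp only [unitVec, Pi.single_apply, Pi.smul_apply, nsmul_eq_mul]
        push_cast
        split_ifs <;> norm_num
  · rw [ncard_crossL (frame_mem_norm64 none), ← ncard_stdCross,
      ← Set.ncard_image_of_injective stdL Subtype.val_injective]
    refine le_of_eq (congrArg Set.ncard ?_)
    ext y
    constructor
    · intro hy
      obtain ⟨i, s, hs, rfl⟩ := hy
      exact ⟨⟨_, mem_stdCross_of_unit i hs⟩, ⟨i, s, hs, rfl⟩, rfl⟩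
    · rintro ⟨v, hv, rfl⟩; exact hv

theorem mem_stabilizer_stdL {g : Co0} : g ∈ MulAction.stabilizer Co0 stdL ↔ MapsStd g := by
  rw [MulAction.mem_stabilizer_iff]
  constructor
  · intro h v hv
    have : g • v ∈ g • stdL := Set.smul_mem_smul_set hv
    rw [h] at this
    exact this
  · intro h
    have hfin : stdL.Finite := by
      rw [stdL_eq]; exact finite_norm64.subset fun y hy => hy.1
    refine Set.eq_of_subset_of_ncard_le ?_ ?_ hfin
    · rintro _ ⟨v, hv, rfl⟩; exact h v hv
    · rw [Set.ncard_smul_set]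

theorem orbit_stdL : MulAction.orbit Co0 stdL = crossL '' norm64 := by
  rw [stdL_eq]
  ext C
  constructor
  · rintro ⟨g, rfl⟩
    exact ⟨g • frame none, (sqNorm_smul g _).trans (sqNorm_frame none), (smul_crossL g _).symm⟩
  · rintro ⟨v, hv, rfl⟩
    obtain ⟨g, hg⟩ := LeechOrbit.exists_smul_eq (N := 64) (Or.inr (Or.inr rfl))
      (v := frame none) (w := v) (by exact_mod_cast sqNorm_frame none) (by exact_mod_cast hv)
    exact ⟨g, by rw [← hg]; exact smul_crossL g _⟩

theorem card_stabilizer_stdL : Nat.card (MulAction.stabilizer Co0 stdL) = 4096 * 244823040 := by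
  rw [← card_mapsStd]
  exact Nat.card_congr (Equiv.subtypeEquivRight fun g => mem_stabilizer_stdL)

theorem card_Co0 : Nat.card Co0 = 8315553613086720000 := by
  rw [← (MulAction.stabilizer Co0 stdL).card_mul_index, card_stabilizer_stdL,
    MulAction.index_stabilizer, orbit_stdL, ncard_crosses]

theorem finite_Co0 : Finite Co0 := Nat.finite_of_card_ne_zero (by rw [card_Co0]; norm_num)

end Cfsg.Agent.LeechOrder
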