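import Cfsg.Agent.Lib.LeechPairs
import Cfsg.Agent.Lib.LeechOrder

/-!
Orders of the stabilisers of short vectors and of pairs of short vectors.
-/

set_option autoImplicit false

open scoped Pointwise

namespace Cfsg.Agent.LeechCertOrders

open Cfsg Cfsg.Agent.GolayBasic Cfsg.Agent.LeechBasic Cfsg.Agent.LeechAut Cfsg.Agent.LeechOrbit
open Cfsg.Agent.LeechCert Cfsg.Agent.LeechPairs Cfsg.Agent.LeechCount Cfsg.Agent.LeechOrder

theorem card_orbit_mul {H : Subgroup Co0} {S : Set leechLattice} {y : leechLattice} (hy : y ∈ S)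
    (hclosed : ∀ g ∈ H, ∀ z ∈ S, g • z ∈ S) (htrans : ∀ z ∈ S, ∃ g ∈ H, g • y = z) :
    S.ncard * Nat.card ↥(H ⊓ MulAction.stabilizer Co0 y) = Nat.card H := by
  rw [← orbit_eq_of_transitive hy hclosed htrans, ← MulAction.index_stabilizer,
    ← Subgroup.index_mul_card (MulAction.stabilizer H y)]
  congr 1
  exact Nat.card_congr
    { toFun := fun g => ⟨⟨g.1, (Subgroup.mem_inf.mp g.2).1⟩,
        MulAction.mem_stabilizer_iff.mpr (MulAction.mem_stabilizer_iff.mp (Subgroup.mem_inf.mp g.2).2)⟩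
      invFun := fun g => ⟨g.1.1, Subgroup.mem_inf.mpr ⟨g.1.2,
        MulAction.mem_stabilizer_iff.mpr (MulAction.mem_stabilizer_iff.mp g.2 :)⟩⟩
      left_inv := fun _ => rfl
      right_inv := fun _ => rfl }

theorem card_stabilizer_norm {N : ℕ} (hN : N = 32 ∨ N = 48 ∨ N = 64) {v : leechLattice}
    (hv : sqNorm (v : GolayPt → ℤ) = N) :
    countLattice allVals N * Nat.card (MulAction.stabilizer Co0 v) = 8315553613086720000 := by
  have hS : {x : leechLattice | sqNorm (x : GolayPt → ℤ) = N}.ncard = countLattice allVals N := by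
    rw [← ncard_coe (fun x => sqNorm x = (N : ℤ)), ncard_norm N (by rcases hN with h | h | h <;> omega)]
  rw [← hS, ← card_Co0, ← Nat.card_congr (Subgroup.topEquiv (G := Co0)).toEquiv,
    ← card_orbit_mul (H := ⊤) (show v ∈ {x : leechLattice | sqNorm (x : GolayPt → ℤ) = N} from hv)
      (fun g _ z hz => by rw [Set.mem_ofPred_eq, sqNorm_smul]; exact hz)
      (fun z hz => let ⟨g, hg⟩ := exists_smul_eq hN hv hz; ⟨g, trivial, hg⟩), top_inf_eq]

theorem card_stab_norm32 {v : leechLattice} (hv : sqNorm (v : GolayPt → ℤ) = 32) :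
    Nat.card (MulAction.stabilizer Co0 v) = 42305421312000 := by
  have h := card_stabilizer_norm (Or.inl rfl) (N := 32) hv
  rw [count_32] at h; omega

theorem card_stab_norm48 {v : leechLattice} (hv : sqNorm (v : GolayPt → ℤ) = 48) :
    Nat.card (MulAction.stabilizer Co0 v) = 495766656000 := by
  have h := card_stabilizer_norm (Or.inr (Or.inl rfl)) (N := 48) hv
  rw [count_48] at h; omega

theorem card_stab_pair {u x : leechLattice} {d : ℤ} (hu : sqNorm (u : GolayPt → ℤ) = 48)
    (hx : sqNorm (x : GolayPt → ℤ) = 32) (hd : dotInt (u : GolayPt → ℤ) x = d) (n : ℕ)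
    (hn : (census (cV, c0, c0) 32 (d, 0, 0)).ncard = n)
    (htr : ∀ {a b : leechLattice}, a ∈ census (cV, c0, c0) 32 (d, 0, 0) → b ∈ census (cV, c0, c0) 32 (d, 0, 0) →
      ∃ g : Co0, g • Spor.leechV = Spor.leechV ∧ g • a = b) :
    n * Nat.card ↥(MulAction.stabilizer Co0 u ⊓ MulAction.stabilizer Co0 x) = 495766656000 := by
  obtain ⟨h, hh⟩ := move48 hu
  let S : Set leechLattice := {z | sqNorm (z : GolayPt → ℤ) = 32 ∧ dotInt (u : GolayPt → ℤ) z = d}
  have hiff : ∀ z, z ∈ S ↔ h • z ∈ census (cV, c0, c0) 32 (d, 0, 0) := fun z => by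
    rw [mem_census₁, sqNorm_smul, dotInt_eq_of_smul hh coe_leechV]; rfl
  have hS : S.ncard = n := (ncard_of_smul h hiff).trans hn
  rw [← hS, ← card_stab_norm48 hu]
  refine card_orbit_mul (S := S) ⟨hx, hd⟩ ?_ ?_
  · intro g hg z hz
    rw [MulAction.mem_stabilizer_iff] at hg
    refine ⟨by rw [sqNorm_smul]; exact hz.1, ?_⟩
    rw [← hz.2]; conv_lhs => rw [← hg]
    exact dotInt_smul g u z
  · intro z hz
    obtain ⟨g, hg, hgz⟩ := htr ((hiff x).mp ⟨hx, hd⟩) ((hiff z).mp hz)
    exact ⟨h⁻¹ * g * h, MulAction.mem_stabilizer_iff.mpr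
      (by rw [mul_smul, mul_smul, hh, hg, inv_smul_eq_iff, hh]),
      by rw [mul_smul, mul_smul, hgz, inv_smul_smul]⟩

/-- Order of the joint stabiliser with product 24. -/
theorem card_stab_pair552 {u x : leechLattice} (hu : sqNorm (u : GolayPt → ℤ) = 48)
    (hx : sqNorm (x : GolayPt → ℤ) = 32) (hd : dotInt (u : GolayPt → ℤ) x = 24) :
    Nat.card ↥(MulAction.stabilizer Co0 u ⊓ MulAction.stabilizer Co0 x) = 898128000 := by
  have := card_stab_pair hu hx hd 552 LeechCert.OrbB.ncard stabV_trans_552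
  omega

/-- Order of the joint stabiliser with product −16. -/
theorem card_stab_pair11178 {u x : leechLattice} (hu : sqNorm (u : GolayPt → ℤ) = 48)
    (hx : sqNorm (x : GolayPt → ℤ) = 32) (hd : dotInt (u : GolayPt → ℤ) x = -16) :
    Nat.card ↥(MulAction.stabilizer Co0 u ⊓ MulAction.stabilizer Co0 x) = 44352000 := by
  have := card_stab_pair hu hx hd 11178 LeechCert.OrbC.ncard stabV_trans_11178
  omega

/-- The stabiliser in the automorphism group as a subgroup of the permutation group. -/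
def infStabEquiv (v : leechLattice) :
    ↥(MulAction.stabilizer Co0 v) ≃* ↥(Co0 ⊓ MulAction.stabilizer (Equiv.Perm leechLattice) v) where
  toFun g := ⟨g.1.1, Subgroup.mem_inf.mpr ⟨g.1.2, g.2⟩⟩
  invFun g := ⟨⟨g.1, (Subgroup.mem_inf.mp g.2).1⟩, (Subgroup.mem_inf.mp g.2).2⟩
  left_inv _ := rfl
  right_inv _ := rfl
  map_mul' _ _ := rfl

/-- The joint stabiliser as a subgroup of the permutation group. -/
def infStabEquiv₂ (v w : leechLattice) :
    ↥(MulAction.stabilizer Co0 v ⊓ MulAction.stabilizer Co0 w) ≃*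
      ↥((Co0 ⊓ MulAction.stabilizer (Equiv.Perm leechLattice) v) ⊓ MulAction.stabilizer (Equiv.Perm leechLattice) w) where
  toFun g := ⟨g.1.1, Subgroup.mem_inf.mpr ⟨Subgroup.mem_inf.mpr ⟨g.1.2, (Subgroup.mem_inf.mp g.2).1⟩,
    (Subgroup.mem_inf.mp g.2).2⟩⟩
  invFun g := ⟨⟨g.1, (Subgroup.mem_inf.mp (Subgroup.mem_inf.mp g.2).1).1⟩, Subgroup.mem_inf.mpr
    ⟨(Subgroup.mem_inf.mp (Subgroup.mem_inf.mp g.2).1).2, (Subgroup.mem_inf.mp g.2).2⟩⟩
  left_inv _ := rfl
  right_inv _ := rfl
  map_mul' _ _ := rfl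

theorem card_Co2 : Nat.card Spor.Co2 = 42305421312000 :=
  (Nat.card_congr (infStabEquiv Spor.leechU).toEquiv).symm.trans (card_stab_norm32 (by decide +kernel))

theorem card_Co3 : Nat.card Spor.Co3 = 495766656000 :=
  (Nat.card_congr (infStabEquiv Spor.leechV).toEquiv).symm.trans (card_stab_norm48 sqNorm_leechV)

theorem card_HS : Nat.card Spor.HS = 44352000 :=
  (Nat.card_congr (infStabEquiv₂ Spor.leechV Spor.leechU').toEquiv).symm.trans
    (card_stab_pair11178 sqNorm_leechV (by decide +kernel) (by decide +kernel))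

theorem card_McL : Nat.card Spor.McL = 898128000 := by
  refine (Nat.card_congr (infStabEquiv₂ Spor.leechV Spor.leechU).toEquiv).symm.trans ?_
  have e : MulAction.stabilizer Co0 Spor.leechU = MulAction.stabilizer Co0 (-Spor.leechU) := by
    ext g
    rw [MulAction.mem_stabilizer_iff, MulAction.mem_stabilizer_iff, smul_neg_vec, neg_inj]
  rw [e]
  exact card_stab_pair552 sqNorm_leechV (by decide +kernel) (by decide +kernel)

end Cfsg.Agent.LeechCertOrders
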