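import Cfsg.Agent.Lib.CoTwoMultP2Data50
import Cfsg.Agent.Lib.CoTwoMultP3Data50
import Cfsg.Agent.Lib.CoTwoMultP5Data50
import Cfsg.Agent.Lib.LeechCertOrders

/-!
The multiplier of the stabiliser of a vector of norm 32 is trivial.
-/

set_option autoImplicit false

open scoped Pointwise

namespace Cfsg.Agent.CoTwoMult50

open Cfsg Cfsg.Agent.LeechCert Cfsg.Agent.LeechOutTool
open Cfsg.Agent.ConwayMult50 (Data censplit_of_data)

/-- the inclusion -/
def ι : ↥Spor.Co2 →* Co0 := Subgroup.inclusion inf_le_left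

theorem mem_range {w : List Step} (h : fixes w cU = true) : El w ∈ ι.range :=
  ⟨⟨(El w : Co0), (El w).2, MulAction.mem_stabilizer_iff.2 (El_fixes h coe_leechU)⟩, rfl⟩

instance finiteCoTwo50 : Finite ↥Spor.Co2 := Nat.finite_of_card_ne_zero (by
  rw [LeechCertOrders.card_Co2]; norm_num)

theorem split {D : Data} {m : ℕ} (hp : D.C.p.Prime) (hS : D.C.shapeOK = true)
    (hC : D.C.combOK = true) (hY : ConwayMult50.wordsOK D.yW D.yM = true)
    (hX : ConwayMult50.wordsOK D.xW D.xM = true) (hR : D.rangeOK = true)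
    (hrels : D.relsOK = true) (hsep : D.sepOK = true)
    (hy : (D.yW.all fun w => fixes w cU) = true) (hx : (D.xW.all fun w => fixes w cU) = true)
    (hcard : D.C.p ^ D.C.n * m = 42305421312000) (hm : ¬ D.C.p ∣ m) :
    SplitVoltage.CenSplit D.C.p ↥Spor.Co2 :=
  censplit_of_data ι (Subgroup.inclusion_injective inf_le_left) D hp hS hC hY hX hR hrels hsep
    (fun w hw => mem_range (List.all_eq_true.1 hy w hw))
    (fun w hw => mem_range (List.all_eq_true.1 hx w hw))
    (LeechCertOrders.card_Co2.trans hcard.symm) hm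

theorem split_two : SplitVoltage.CenSplit 2 ↥Spor.Co2 :=
  ConwayMult50.censplit_two_of_data ι (Subgroup.inclusion_injective inf_le_left) P2.cert P2.data rfl
    P2.shape_ok P2.comb_ok P2.words_y P2.words_x P2.range_ok P2.rels_ok P2.sep_ok
    (fun w hw => mem_range (List.all_eq_true.1 (show (P2.data.yW.all fun w => fixes w cU) = true by
      decide +kernel) w hw))
    (fun w hw => mem_range (List.all_eq_true.1 (show (P2.data.xW.all fun w => fixes w cU) = true by
      decide +kernel) w hw))
    (m := 161382375) (LeechCertOrders.card_Co2.trans (by decide +kernel)) (by decide +kernel)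

theorem split_three : SplitVoltage.CenSplit 3 ↥Spor.Co2 :=
  split (D := P3.data) (m := 58032128000) Nat.prime_three P3.shape_ok P3.comb_ok P3.words_y P3.words_x
    P3.range_ok P3.rels_ok P3.sep_ok (by decide +kernel) (by decide +kernel) (by decide +kernel)
    (by decide +kernel)

theorem split_five : SplitVoltage.CenSplit 5 ↥Spor.Co2 :=
  split (D := P5.data) (m := 338443370496) (by decide +kernel) P5.shape_ok P5.comb_ok P5.words_y
    P5.words_x P5.range_ok P5.rels_ok P5.sep_ok (by decide +kernel) (by decide +kernel)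
    (by decide +kernel) (by decide +kernel)

theorem multiplier : Cfsg.HasCyclicSchurMultiplier ↥Spor.Co2 1 := by
  refine SplitVoltage.trivial_multiplier fun p hp hd => ?_
  rw [LeechCertOrders.card_Co2, show (42305421312000 : ℕ) = 2 ^ 18 * 3 ^ 6 * 5 ^ 3 * (7 * 11 * 23) by norm_num] at hd
  by_cases h2 : p = 2
  · subst h2; exact split_two
  by_cases h3 : p = 3
  · subst h3; exact split_three
  by_cases h5 : p = 5
  · subst h5; exact split_five
  exfalso
  have hc : ∀ q k : ℕ, q.Prime → p ≠ q → Nat.Coprime (p ^ 2) (q ^ k) := fun q k hq hne =>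
    Nat.Coprime.pow _ _ ((Nat.coprime_primes hp hq).2 hne)
  have h4 : Nat.Coprime (p ^ 2) (2 ^ 18 * 3 ^ 6 * 5 ^ 3) :=
    Nat.Coprime.mul_right (Nat.Coprime.mul_right (hc 2 18 Nat.prime_two h2)
      (hc 3 6 Nat.prime_three h3)) (hc 5 3 (by norm_num) h5)
  have h6 := h4.dvd_of_dvd_mul_left hd
  have hsq : Squarefree (7 * 11 * 23) := by decide +kernel
  exact hp.not_isUnit (hsq p (by rwa [← sq]))

end Cfsg.Agent.CoTwoMult50
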