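import Cfsg.Agent.Lib.LeechCert

/-!
Words for the involutions of Co0 and witnesses about their centralisers.
-/

set_option autoImplicit false

namespace Cfsg.Agent.CoZeroInvolData

open Cfsg.Agent.LeechCert (Step)

/-- an octad -/
def mOct : ℕ :=
  13062145

/-- a dodecad -/
def mDod : ℕ :=
  8245261

/-- a second octad -/
def mOct2 : ℕ :=
  4845570

/-- a second dodecad -/
def mDod2 : ℕ :=
  15953934

/-- sign change on the octad -/
def wR8 : List Step :=
  [some (984818244535754528103549039458486304, 13062145,
      [(0, true), (5, false), (10, false), (15, false), (20, false), (25, false), (30, false), (35, false), (40, false), (45, false), (50, false), (55, false), (60, true), (65, false), (70, true), (75, false), (80, true), (85, true), (90, true), (95, false), (100, false), (105, false), (110, true), (115, true)])]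

/-- sign change outside the octad -/
def wR16 : List Step :=
  [some (984818244535754528103549039458486304, 3715070,
      [(0, false), (5, true), (10, true), (15, true), (20, true), (25, true), (30, true), (35, true), (40, true), (45, true), (50, true), (55, true), (60, false), (65, true), (70, false), (75, true), (80, false), (85, false), (90, false), (95, true), (100, true), (105, true), (110, false), (115, false)])]

/-- sign change on the dodecad -/
def wR12 : List Step :=
  [some (984818244535754528103549039458486304, 8245261,
      [(0, true), (5, false), (10, true), (15, true), (20, false), (25, false), (30, false), (35, false), (40, false), (45, false), (50, false), (55, false), (60, true), (65, false), (70, true), (75, true), (80, true), (85, false), (90, true), (95, true), (100, true), (105, true), (110, true), (115, false)])]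

/-- sign change outside the dodecad -/
def wR12n : List Step :=
  [some (984818244535754528103549039458486304, 8531954,
      [(0, false), (5, true), (10, false), (15, false), (20, true), (25, true), (30, true), (35, true), (40, true), (45, true), (50, true), (55, true), (60, false), (65, true), (70, false), (75, false), (80, false), (85, true), (90, false), (95, false), (100, false), (105, false), (110, false), (115, true)])]

/-- second octad -/
def wO2 : List Step :=
  [some (984818244535754528103549039458486304, 4845570,
      [(0, false), (5, true), (10, false), (15, false), (20, false), (25, false), (30, false), (35, false), (40, false), (45, false), (50, false), (55, false), (60, true), (65, true), (70, true), (75, true), (80, true), (85, false), (90, false), (95, true), (100, false), (105, false), (110, true), (115, false)])]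

/-- third octad -/
def wO3 : List Step :=
  [some (984818244535754528103549039458486304, 9347075,
      [(0, true), (5, true), (10, false), (15, false), (20, false), (25, false), (30, false), (35, false), (40, false), (45, false), (50, false), (55, false), (60, false), (65, true), (70, false), (75, true), (80, false), (85, true), (90, true), (95, true), (100, false), (105, false), (110, false), (115, true)])]

/-- second dodecad -/
def wD2 : List Step :=
  [some (984818244535754528103549039458486304, 15953934,
      [(0, false), (5, true), (10, true), (15, true), (20, false), (25, false), (30, false), (35, false), (40, false), (45, false), (50, false), (55, false), (60, true), (65, true), (70, true), (75, false), (80, true), (85, true), (90, false), (95, false), (100, true), (105, true), (110, true), (115, true)])]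

/-- sum of the dodecads -/
def wD3 : List Step :=
  [some (984818244535754528103549039458486304, 9347075,
      [(0, true), (5, true), (10, false), (15, false), (20, false), (25, false), (30, false), (35, false), (40, false), (45, false), (50, false), (55, false), (60, false), (65, true), (70, false), (75, true), (80, false), (85, true), (90, true), (95, true), (100, false), (105, false), (110, false), (115, true)])]

/-- the identity -/
def pId : ℕ :=
  984818244535754528103549039458486304

/-- witness -/
def wPOct : List Step :=
  [some (984818244535754528103549039458486304, 258862,
      [(0, false), (5, true), (10, true), (15, true), (20, false), (25, true), (30, false), (35, false), (40, true), (45, true), (50, false), (55, false), (60, true), (65, true), (70, true), (75, true), (80, true), (85, true), (90, false), (95, false), (100, false), (105, false), (110, false), (115, false)])]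

/-- witness -/
def wQOct : List Step :=
  [some (517163791737465098493624007311855953, 0,
      [(85, false), (55, false), (100, false), (30, false), (10, false), (20, false), (45, false), (65, false), (35, false), (95, false), (5, false), (15, false), (115, false), (105, false), (110, false), (50, false), (90, false), (0, false), (70, false), (25, false), (75, false), (40, false), (60, false), (80, false)])]

/-- witness -/
def wPDod : List Step :=
  [some (984818244535754528103549039458486304, 12153634,
      [(0, false), (5, true), (10, false), (15, false), (20, false), (25, true), (30, false), (35, false), (40, true), (45, true), (50, false), (55, false), (60, true), (65, true), (70, true), (75, false), (80, true), (85, false), (90, false), (95, true), (100, true), (105, true), (110, false), (115, true)])]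

/-- witness -/
def wQDod : List Step :=
  [some (316749265713288840230694838836146389, 0,
      [(105, false), (50, false), (70, false), (95, false), (45, false), (85, false), (5, false), (115, false), (55, false), (30, false), (25, false), (40, false), (10, false), (35, false), (75, false), (100, false), (15, false), (65, false), (60, false), (90, false), (110, false), (0, false), (80, false), (20, false)])]

/-- a square root of negation -/
def wRoot : List Step :=
  [some (1645554591871241457770148299124439, 16375860,
      [(115, false), (110, false), (55, true), (95, false), (50, true), (30, true), (25, false), (80, false), (105, false), (75, false), (20, false), (10, false), (70, false), (85, true), (60, true), (45, true), (35, true), (65, false), (100, false), (15, true), (90, true), (40, true), (5, true), (0, true)])]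

/-- witness -/
def wPRoot : List Step :=
  [some (984818244535754528103549039458486304, 13267995,
      [(0, true), (5, true), (10, false), (15, true), (20, true), (25, false), (30, false), (35, false), (40, false), (45, false), (50, true), (55, false), (60, true), (65, true), (70, true), (75, false), (80, false), (85, true), (90, false), (95, true), (100, false), (105, false), (110, true), (115, true)])]

/-- witness -/
def wQRoot : List Step :=
  [some (269131892618466102716376261319012645, 7815223,
      [(25, true), (45, true), (60, true), (90, false), (40, true), (0, true), (115, false), (65, false), (20, false), (5, false), (105, false), (70, false), (10, false), (35, false), (55, true), (110, false), (85, true), (80, true), (15, true), (100, false), (95, true), (50, true), (75, true), (30, false)])]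

/-- mask of the root -/
def mRoot : ℕ :=
  16375860

/-- perm witness -/
def SP : List Step :=
  [some (499082497312470293501321005292067127, 0,
      [(110, false), (20, false), (35, false), (25, false), (65, false), (50, false), (10, false), (55, false), (15, false), (5, false), (100, false), (30, false), (115, false), (75, false), (90, false), (105, false), (60, false), (80, false), (70, false), (40, false), (45, false), (95, false), (85, false), (0, false)])]

/-- perm witness -/
def SQ : List Step :=
  [some (15672825380191510596606491213699182, 0,
      [(115, false), (20, false), (105, false), (5, false), (40, false), (50, false), (10, false), (55, false), (15, false), (25, false), (30, false), (100, false), (110, false), (75, false), (0, false), (35, false), (85, false), (70, false), (80, false), (65, false), (45, false), (95, false), (60, false), (90, false)])]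

/-- perm witness -/
def SH : List Step :=
  [some (23655762459486015586672833304635600, 0,
      [(115, false), (20, false), (65, false), (95, false), (55, false), (100, false), (5, false), (105, false), (50, false), (25, false), (10, false), (30, false), (90, false), (40, false), (60, false), (45, false), (0, false), (80, false), (110, false), (35, false), (75, false), (15, false), (70, false), (85, false)])]

/-- perm witness -/
def SK : List Step :=
  [some (935234108679043845792892819535334830, 0,
      [(90, false), (15, false), (55, false), (10, false), (65, false), (20, false), (45, false), (30, false), (40, false), (100, false), (50, false), (25, false), (60, false), (5, false), (0, false), (105, false), (110, false), (80, false), (85, false), (75, false), (95, false), (35, false), (115, false), (70, false)])]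

/-- inverse -/
def SPi : List Step :=
  [some (22849736947216759869259460241431702, 0,
      [(115, false), (45, false), (30, false), (40, false), (5, false), (15, false), (55, false), (10, false), (95, false), (100, false), (25, false), (35, false), (80, false), (20, false), (90, false), (65, false), (85, false), (110, false), (70, false), (105, false), (50, false), (75, false), (0, false), (60, false)])]

/-- inverse -/
def SQi : List Step :=
  [some (764050313977472988356934702366512279, 0,
      [(70, false), (15, false), (30, false), (40, false), (5, false), (45, false), (50, false), (75, false), (20, false), (100, false), (25, false), (35, false), (110, false), (95, false), (85, false), (65, false), (90, false), (80, false), (115, false), (105, false), (55, false), (10, false), (60, false), (0, false)])]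

/-- inverse -/
def SHi : List Step :=
  [some (724466426134807965095127842498917527, 0,
      [(80, false), (30, false), (50, false), (105, false), (5, false), (45, false), (55, false), (95, false), (65, false), (75, false), (40, false), (20, false), (70, false), (10, false), (110, false), (100, false), (85, false), (115, false), (60, false), (15, false), (25, false), (35, false), (90, false), (0, false)])]

/-- inverse -/
def SKi : List Step :=
  [some (611701610090890734002022232567655538, 0,
      [(70, false), (65, false), (15, false), (5, false), (25, false), (55, false), (35, false), (105, false), (40, false), (30, false), (50, false), (10, false), (60, false), (20, false), (115, false), (95, false), (85, false), (90, false), (0, false), (100, false), (45, false), (75, false), (80, false), (110, false)])]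

/-- the involution -/
def SI : List Step :=
  [some (943750819000286244059827628846399154, 0,
      [(90, false), (105, false), (75, false), (45, false), (95, false), (35, false), (65, false), (25, false), (100, false), (15, false), (55, false), (50, false), (85, false), (30, false), (80, false), (10, false), (70, false), (60, false), (0, false), (20, false), (40, false), (5, false), (115, false), (110, false)])]

/-- the product -/
def SX : List Step :=
  [some (978066811671500810062033722016899254, 0,
      [(70, false), (65, false), (55, false), (15, false), (40, false), (5, false), (100, false), (75, false), (10, false), (30, false), (50, false), (25, false), (80, false), (20, false), (90, false), (105, false), (85, false), (110, false), (60, false), (45, false), (35, false), (95, false), (0, false), (115, false)])]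

/-- witness -/
def SF : List Step :=
  [some (984818244535754528103549039458486304, 3704512,
      [(0, false), (5, false), (10, false), (15, false), (20, false), (25, false), (30, true), (35, true), (40, false), (45, true), (50, true), (55, false), (60, false), (65, false), (70, false), (75, true), (80, false), (85, false), (90, false), (95, true), (100, true), (105, true), (110, false), (115, false)])]

/-- witness -/
def SS : List Step :=
  [some (984266143084858087375752989286682240, 0,
      [(0, false), (100, false), (95, false), (50, false), (75, false), (30, false), (25, false), (65, false), (105, false), (55, false), (15, false), (45, false), (60, false), (35, false), (70, false), (20, false), (80, false), (85, false), (90, false), (10, false), (5, false), (40, false), (110, false), (115, false)])]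

/-- perm witness -/
def TP : List Step :=
  [some (403217392993599935326174824398148643, 0,
      [(90, false), (5, false), (100, false), (0, false), (85, false), (50, false), (30, false), (45, false), (20, false), (115, false), (55, false), (25, false), (70, false), (65, false), (95, false), (75, false), (80, false), (40, false), (15, false), (60, false), (105, false), (10, false), (110, false), (35, false)])]

/-- perm witness -/
def TQ : List Step :=
  [some (234955892206687497737931854804627507, 0,
      [(105, false), (5, false), (70, false), (100, false), (50, false), (115, false), (65, false), (85, false), (25, false), (20, false), (35, false), (55, false), (10, false), (40, false), (15, false), (75, false), (95, false), (45, false), (90, false), (0, false), (60, false), (110, false), (80, false), (30, false)])]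

/-- perm witness -/
def TH : List Step :=
  [some (361533414422748829746325637097509612, 0,
      [(80, false), (50, false), (60, false), (70, false), (20, false), (35, false), (45, false), (30, false), (115, false), (40, false), (65, false), (25, false), (0, false), (85, false), (90, false), (100, false), (105, false), (55, false), (95, false), (75, false), (10, false), (15, false), (110, false), (5, false)])]

/-- perm witness -/
def TK : List Step :=
  [some (361639777787835329673314401642873589, 0,
      [(10, false), (85, false), (75, false), (100, false), (50, false), (40, false), (55, false), (20, false), (115, false), (45, false), (30, false), (35, false), (60, false), (65, false), (90, false), (95, false), (15, false), (25, false), (80, false), (105, false), (70, false), (0, false), (110, false), (5, false)])]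

/-- inverse -/
def TPi : List Step :=
  [some (319434486513123936199426073393385522, 0,
      [(15, false), (5, false), (105, false), (90, false), (40, false), (55, false), (30, false), (115, false), (85, false), (35, false), (25, false), (50, false), (95, false), (65, false), (60, false), (75, false), (80, false), (20, false), (0, false), (70, false), (10, false), (100, false), (110, false), (45, false)])]

/-- inverse -/
def TQi : List Step :=
  [some (270907097128205906304493152119699509, 0,
      [(95, false), (5, false), (60, false), (70, false), (45, false), (40, false), (115, false), (50, false), (65, false), (85, false), (20, false), (55, false), (100, false), (30, false), (10, false), (75, false), (110, false), (35, false), (90, false), (80, false), (15, false), (0, false), (105, false), (25, false)])]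

/-- inverse -/
def THi : List Step :=
  [some (70220855532828930258340460638974288, 0,
      [(60, false), (115, false), (100, false), (105, false), (20, false), (55, false), (35, false), (25, false), (45, false), (30, false), (5, false), (85, false), (10, false), (50, false), (15, false), (95, false), (0, false), (65, false), (70, false), (90, false), (75, false), (80, false), (110, false), (40, false)])]

/-- inverse -/
def TKi : List Step :=
  [some (70114606599164849199868487790116386, 0,
      [(105, false), (115, false), (0, false), (80, false), (35, false), (85, false), (50, false), (55, false), (25, false), (45, false), (20, false), (30, false), (60, false), (65, false), (100, false), (10, false), (90, false), (5, false), (70, false), (75, false), (15, false), (95, false), (110, false), (40, false)])]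

/-- the involution -/
def TI : List Step :=
  [some (403240938867023704299094967907893299, 0,
      [(95, false), (5, false), (80, false), (15, false), (50, false), (25, false), (30, false), (65, false), (40, false), (115, false), (20, false), (85, false), (90, false), (35, false), (70, false), (75, false), (10, false), (55, false), (60, false), (0, false), (105, false), (100, false), (110, false), (45, false)])]

/-- the product -/
def TX : List Step :=
  [some (402508366664956343303759266824861970, 0,
      [(15, false), (35, false), (105, false), (95, false), (25, false), (50, false), (45, false), (85, false), (5, false), (115, false), (30, false), (55, false), (70, false), (20, false), (10, false), (80, false), (60, false), (65, false), (0, false), (100, false), (75, false), (90, false), (110, false), (40, false)])]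

/-- conjugating word -/
def wK0 : List Step :=
  [some (339488418719436696037188416030493359, 6594610,
      [(75, false), (100, true), (70, false), (15, false), (95, true), (110, true), (45, false), (80, false), (115, false), (50, false), (20, false), (25, false), (30, false), (60, true), (65, false), (0, true), (90, false), (105, false), (10, true), (40, false), (55, false), (5, true), (85, true), (35, false)]),
    none,
    some (984818244535754528103549039458486304, 15335473,
      [(0, true), (5, false), (10, false), (15, false), (20, true), (25, true), (30, false), (35, false), (40, false), (45, false), (50, false), (55, false), (60, false), (65, false), (70, false), (75, false), (80, false), (85, true), (90, false), (95, true), (100, false), (105, true), (110, true), (115, true)]),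
    none,
    some (29312703359478866577084091578288279, 0,
      [(115, false), (20, false), (10, false), (55, false), (5, false), (25, false), (85, false), (35, false), (40, false), (60, false), (70, false), (15, false), (45, false), (65, false), (50, false), (75, false), (80, false), (30, false), (105, false), (100, false), (95, false), (90, false), (110, false), (0, false)]),
    none,
    some (984818244535754528103549039458486304, 15335473,
      [(0, true), (5, false), (10, false), (15, false), (20, true), (25, true), (30, false), (35, false), (40, false), (45, false), (50, false), (55, false), (60, false), (65, false), (70, false), (75, false), (80, false), (85, true), (90, false), (95, true), (100, false), (105, true), (110, true), (115, true)]),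
    none,
    some (29312703359478866577084091578288279, 0,
      [(115, false), (20, false), (10, false), (55, false), (5, false), (25, false), (85, false), (35, false), (40, false), (60, false), (70, false), (15, false), (45, false), (65, false), (50, false), (75, false), (80, false), (30, false), (105, false), (100, false), (95, false), (90, false), (110, false), (0, false)]),
    none,
    some (604550664360755722468078838960540800, 1667135,
      [(0, true), (80, true), (30, true), (45, true), (5, true), (50, true), (55, false), (65, false), (75, false), (90, false), (100, false), (60, false), (95, true), (15, true), (115, true), (35, false), (20, true), (110, false), (85, false), (10, true), (70, true), (40, false), (25, false), (105, false)])]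

/-- its inverse -/
def wKi0 : List Step :=
  [some (879138610098435599641954399047424512, 8996447,
      [(0, true), (20, true), (95, true), (65, true), (80, true), (110, false), (10, true), (75, false), (105, false), (15, true), (25, true), (30, false), (55, false), (35, false), (100, true), (40, false), (5, true), (90, false), (45, false), (60, true), (50, false), (115, false), (85, false), (70, true)]),
    none,
    some (29312703359478866577084091578288279, 0,
      [(115, false), (20, false), (10, false), (55, false), (5, false), (25, false), (85, false), (35, false), (40, false), (60, false), (70, false), (15, false), (45, false), (65, false), (50, false), (75, false), (80, false), (30, false), (105, false), (100, false), (95, false), (90, false), (110, false), (0, false)]),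
    none,
    some (984818244535754528103549039458486304, 15335473,
      [(0, true), (5, false), (10, false), (15, false), (20, true), (25, true), (30, false), (35, false), (40, false), (45, false), (50, false), (55, false), (60, false), (65, false), (70, false), (75, false), (80, false), (85, true), (90, false), (95, true), (100, false), (105, true), (110, true), (115, true)]),
    none,
    some (29312703359478866577084091578288279, 0,
      [(115, false), (20, false), (10, false), (55, false), (5, false), (25, false), (85, false), (35, false), (40, false), (60, false), (70, false), (15, false), (45, false), (65, false), (50, false), (75, false), (80, false), (30, false), (105, false), (100, false), (95, false), (90, false), (110, false), (0, false)]),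
    none,
    some (984818244535754528103549039458486304, 15335473,
      [(0, true), (5, false), (10, false), (15, false), (20, true), (25, true), (30, false), (35, false), (40, false), (45, false), (50, false), (55, false), (60, false), (65, false), (70, false), (75, false), (80, false), (85, true), (90, false), (95, true), (100, false), (105, true), (110, true), (115, true)]),
    none,
    some (312890714925237927160913217000159887, 5902343,
      [(75, true), (105, true), (90, true), (15, false), (50, false), (55, false), (60, false), (115, false), (95, false), (30, false), (45, false), (100, false), (65, true), (70, false), (10, false), (0, false), (35, false), (110, true), (80, false), (20, true), (5, true), (85, false), (25, true), (40, false)])]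

/-- representative -/
def wT0 : List Step :=
  [some (984330238668445353307680420861740096, 0,
      [(0, false), (10, false), (5, false), (25, false), (65, false), (15, false), (50, false), (75, false), (55, false), (105, false), (30, false), (40, false), (60, false), (20, false), (70, false), (35, false), (80, false), (85, false), (90, false), (100, false), (95, false), (45, false), (110, false), (115, false)])]

/-- conjugating word -/
def wK1 : List Step :=
  [some (276107400274082124097234664024360323, 587102,
      [(35, false), (60, true), (55, true), (0, true), (75, true), (30, false), (115, true), (45, false), (40, true), (80, false), (95, true), (20, false), (5, true), (15, true), (70, true), (25, true), (50, false), (10, false), (100, false), (65, true), (110, false), (90, false), (105, false), (85, false)]),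
    none,
    some (984818244535754528103549039458486304, 1262845,
      [(0, true), (5, false), (10, true), (15, true), (20, true), (25, true), (30, true), (35, true), (40, false), (45, false), (50, true), (55, false), (60, false), (65, false), (70, true), (75, false), (80, true), (85, true), (90, false), (95, false), (100, true), (105, false), (110, false), (115, false)]),
    none,
    some (965346804293276759987154913627054116, 480827,
      [(20, true), (5, true), (40, false), (15, true), (0, true), (80, true), (30, false), (110, false), (10, false), (45, true), (90, true), (95, false), (85, true), (75, false), (70, true), (65, false), (25, true), (60, true), (50, true), (55, false), (100, false), (105, false), (35, false), (115, false)]),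
    none,
    some (984818244535754528103549039458486304, 1262845,
      [(0, true), (5, false), (10, true), (15, true), (20, true), (25, true), (30, true), (35, true), (40, false), (45, false), (50, true), (55, false), (60, false), (65, false), (70, true), (75, false), (80, true), (85, true), (90, false), (95, false), (100, true), (105, false), (110, false), (115, false)]),
    none,
    some (965346804293276759987154913627054116, 480827,
      [(20, true), (5, true), (40, false), (15, true), (0, true), (80, true), (30, false), (110, false), (10, false), (45, true), (90, true), (95, false), (85, true), (75, false), (70, true), (65, false), (25, true), (60, true), (50, true), (55, false), (100, false), (105, false), (35, false), (115, false)]),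
    none,
    some (984818244535754528103549039458486304, 1262845,
      [(0, true), (5, false), (10, true), (15, true), (20, true), (25, true), (30, true), (35, true), (40, false), (45, false), (50, true), (55, false), (60, false), (65, false), (70, true), (75, false), (80, true), (85, true), (90, false), (95, false), (100, true), (105, false), (110, false), (115, false)]),
    none,
    some (965346804293276759987154913627054116, 480827,
      [(20, true), (5, true), (40, false), (15, true), (0, true), (80, true), (30, false), (110, false), (10, false), (45, true), (90, true), (95, false), (85, true), (75, false), (70, true), (65, false), (25, true), (60, true), (50, true), (55, false), (100, false), (105, false), (35, false), (115, false)]),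
    none,
    some (984818244535754528103549039458486304, 1262845,
      [(0, true), (5, false), (10, true), (15, true), (20, true), (25, true), (30, true), (35, true), (40, false), (45, false), (50, true), (55, false), (60, false), (65, false), (70, true), (75, false), (80, true), (85, true), (90, false), (95, false), (100, true), (105, false), (110, false), (115, false)]),
    none,
    some (965346804293276759987154913627054116, 480827,
      [(20, true), (5, true), (40, false), (15, true), (0, true), (80, true), (30, false), (110, false), (10, false), (45, true), (90, true), (95, false), (85, true), (75, false), (70, true), (65, false), (25, true), (60, true), (50, true), (55, false), (100, false), (105, false), (35, false), (115, false)]),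
    none,
    some (984818244535754528103549039458486304, 1262845,
      [(0, true), (5, false), (10, true), (15, true), (20, true), (25, true), (30, true), (35, true), (40, false), (45, false), (50, true), (55, false), (60, false), (65, false), (70, true), (75, false), (80, true), (85, true), (90, false), (95, false), (100, true), (105, false), (110, false), (115, false)]),
    none,
    some (965346804293276759987154913627054116, 480827,
      [(20, true), (5, true), (40, false), (15, true), (0, true), (80, true), (30, false), (110, false), (10, false), (45, true), (90, true), (95, false), (85, true), (75, false), (70, true), (65, false), (25, true), (60, true), (50, true), (55, false), (100, false), (105, false), (35, false), (115, false)]),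
    none,
    some (713996767579541515315041239028154676, 5078057,
      [(50, true), (105, false), (35, false), (30, true), (95, false), (55, true), (110, false), (45, false), (60, false), (5, false), (75, true), (90, true), (100, true), (40, true), (70, true), (80, false), (10, true), (115, false), (20, true), (25, true), (0, false), (85, false), (15, true), (65, false)])]

/-- its inverse -/
def wKi1 : List Step :=
  [some (544582901773022358625233297959231146, 1363324,
      [(100, false), (45, false), (80, true), (110, true), (90, true), (95, true), (15, true), (10, false), (65, true), (35, false), (0, true), (25, true), (40, false), (115, false), (70, true), (50, true), (75, false), (105, false), (55, true), (20, false), (60, true), (5, false), (30, false), (85, false)]),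
    none,
    some (965346804293276759987154913627054116, 480827,
      [(20, true), (5, true), (40, false), (15, true), (0, true), (80, true), (30, false), (110, false), (10, false), (45, true), (90, true), (95, false), (85, true), (75, false), (70, true), (65, false), (25, true), (60, true), (50, true), (55, false), (100, false), (105, false), (35, false), (115, false)]),
    none,
    some (984818244535754528103549039458486304, 1262845,
      [(0, true), (5, false), (10, true), (15, true), (20, true), (25, true), (30, true), (35, true), (40, false), (45, false), (50, true), (55, false), (60, false), (65, false), (70, true), (75, false), (80, true), (85, true), (90, false), (95, false), (100, true), (105, false), (110, false), (115, false)]),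
    none,
    some (965346804293276759987154913627054116, 480827,
      [(20, true), (5, true), (40, false), (15, true), (0, true), (80, true), (30, false), (110, false), (10, false), (45, true), (90, true), (95, false), (85, true), (75, false), (70, true), (65, false), (25, true), (60, true), (50, true), (55, false), (100, false), (105, false), (35, false), (115, false)]),
    none,
    some (984818244535754528103549039458486304, 1262845,
      [(0, true), (5, false), (10, true), (15, true), (20, true), (25, true), (30, true), (35, true), (40, false), (45, false), (50, true), (55, false), (60, false), (65, false), (70, true), (75, false), (80, true), (85, true), (90, false), (95, false), (100, true), (105, false), (110, false), (115, false)]),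
    none,
    some (965346804293276759987154913627054116, 480827,
      [(20, true), (5, true), (40, false), (15, true), (0, true), (80, true), (30, false), (110, false), (10, false), (45, true), (90, true), (95, false), (85, true), (75, false), (70, true), (65, false), (25, true), (60, true), (50, true), (55, false), (100, false), (105, false), (35, false), (115, false)]),
    none,
    some (984818244535754528103549039458486304, 1262845,
      [(0, true), (5, false), (10, true), (15, true), (20, true), (25, true), (30, true), (35, true), (40, false), (45, false), (50, true), (55, false), (60, false), (65, false), (70, true), (75, false), (80, true), (85, true), (90, false), (95, false), (100, true), (105, false), (110, false), (115, false)]),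
    none,
    some (965346804293276759987154913627054116, 480827,
      [(20, true), (5, true), (40, false), (15, true), (0, true), (80, true), (30, false), (110, false), (10, false), (45, true), (90, true), (95, false), (85, true), (75, false), (70, true), (65, false), (25, true), (60, true), (50, true), (55, false), (100, false), (105, false), (35, false), (115, false)]),
    none,
    some (984818244535754528103549039458486304, 1262845,
      [(0, true), (5, false), (10, true), (15, true), (20, true), (25, true), (30, true), (35, true), (40, false), (45, false), (50, true), (55, false), (60, false), (65, false), (70, true), (75, false), (80, true), (85, true), (90, false), (95, false), (100, true), (105, false), (110, false), (115, false)]),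
    none,
    some (965346804293276759987154913627054116, 480827,
      [(20, true), (5, true), (40, false), (15, true), (0, true), (80, true), (30, false), (110, false), (10, false), (45, true), (90, true), (95, false), (85, true), (75, false), (70, true), (65, false), (25, true), (60, true), (50, true), (55, false), (100, false), (105, false), (35, false), (115, false)]),
    none,
    some (984818244535754528103549039458486304, 1262845,
      [(0, true), (5, false), (10, true), (15, true), (20, true), (25, true), (30, true), (35, true), (40, false), (45, false), (50, true), (55, false), (60, false), (65, false), (70, true), (75, false), (80, true), (85, true), (90, false), (95, false), (100, true), (105, false), (110, false), (115, false)]),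
    none,
    some (734170526158504057730780192899607943, 8976683,
      [(15, true), (60, true), (85, false), (65, true), (55, false), (75, true), (25, false), (0, false), (40, true), (35, false), (80, false), (10, true), (5, true), (95, true), (70, true), (20, true), (45, false), (115, false), (105, false), (50, true), (90, false), (110, false), (100, false), (30, true)])]

/-- representative -/
def wT1 : List Step :=
  [some (984330238668445353307680420861740096, 95313,
      [(0, true), (10, false), (5, false), (25, false), (65, true), (15, false), (50, true), (75, false), (55, false), (105, false), (30, true), (40, false), (60, true), (20, true), (70, true), (35, false), (80, true), (85, false), (90, false), (100, false), (95, false), (45, false), (110, false), (115, false)])]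

/-- conjugating word -/
def wK2 : List Step :=
  [some (277884371390143226793077761865231604, 6901517,
      [(60, true), (80, false), (105, true), (95, true), (35, false), (70, false), (115, false), (5, false), (55, true), (40, true), (15, true), (10, true), (100, false), (75, false), (20, true), (50, false), (45, true), (25, false), (85, false), (65, true), (0, false), (30, true), (110, true), (90, false)]),
    none,
    some (984818244535754528103549039458486304, 9524910,
      [(0, false), (5, true), (10, true), (15, true), (20, false), (25, true), (30, false), (35, true), (40, false), (45, true), (50, true), (55, false), (60, true), (65, false), (70, true), (75, false), (80, true), (85, false), (90, false), (95, false), (100, true), (105, false), (110, false), (115, true)]),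
    none,
    some (984574657262612311324662570656612384, 10787753,
      [(0, true), (5, false), (80, false), (60, true), (65, false), (25, true), (30, false), (55, true), (45, true), (40, true), (85, false), (35, true), (15, true), (20, false), (95, false), (105, true), (10, false), (50, false), (90, true), (70, false), (100, false), (75, true), (110, false), (115, true)]),
    none,
    some (984818244535754528103549039458486304, 9524910,
      [(0, false), (5, true), (10, true), (15, true), (20, false), (25, true), (30, false), (35, true), (40, false), (45, true), (50, true), (55, false), (60, true), (65, false), (70, true), (75, false), (80, true), (85, false), (90, false), (95, false), (100, true), (105, false), (110, false), (115, true)]),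
    none,
    some (984574657262612311324662570656612384, 10787753,
      [(0, true), (5, false), (80, false), (60, true), (65, false), (25, true), (30, false), (55, true), (45, true), (40, true), (85, false), (35, true), (15, true), (20, false), (95, false), (105, true), (10, false), (50, false), (90, true), (70, false), (100, false), (75, true), (110, false), (115, true)]),
    none,
    some (984818244535754528103549039458486304, 9524910,
      [(0, false), (5, true), (10, true), (15, true), (20, false), (25, true), (30, false), (35, true), (40, false), (45, true), (50, true), (55, false), (60, true), (65, false), (70, true), (75, false), (80, true), (85, false), (90, false), (95, false), (100, true), (105, false), (110, false), (115, true)]),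
    none,
    some (984574657262612311324662570656612384, 10787753,
      [(0, true), (5, false), (80, false), (60, true), (65, false), (25, true), (30, false), (55, true), (45, true), (40, true), (85, false), (35, true), (15, true), (20, false), (95, false), (105, true), (10, false), (50, false), (90, true), (70, false), (100, false), (75, true), (110, false), (115, true)]),
    none,
    some (984818244535754528103549039458486304, 9524910,
      [(0, false), (5, true), (10, true), (15, true), (20, false), (25, true), (30, false), (35, true), (40, false), (45, true), (50, true), (55, false), (60, true), (65, false), (70, true), (75, false), (80, true), (85, false), (90, false), (95, false), (100, true), (105, false), (110, false), (115, true)]),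
    none,
    some (984574657262612311324662570656612384, 10787753,
      [(0, true), (5, false), (80, false), (60, true), (65, false), (25, true), (30, false), (55, true), (45, true), (40, true), (85, false), (35, true), (15, true), (20, false), (95, false), (105, true), (10, false), (50, false), (90, true), (70, false), (100, false), (75, true), (110, false), (115, true)]),
    none,
    some (984818244535754528103549039458486304, 9524910,
      [(0, false), (5, true), (10, true), (15, true), (20, false), (25, true), (30, false), (35, true), (40, false), (45, true), (50, true), (55, false), (60, true), (65, false), (70, true), (75, false), (80, true), (85, false), (90, false), (95, false), (100, true), (105, false), (110, false), (115, true)]),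
    none,
    some (984574657262612311324662570656612384, 10787753,
      [(0, true), (5, false), (80, false), (60, true), (65, false), (25, true), (30, false), (55, true), (45, true), (40, true), (85, false), (35, true), (15, true), (20, false), (95, false), (105, true), (10, false), (50, false), (90, true), (70, false), (100, false), (75, true), (110, false), (115, true)]),
    none,
    some (880321929418243814626749532182415460, 6406417,
      [(60, true), (75, false), (10, false), (5, false), (0, true), (105, false), (110, false), (65, false), (55, true), (40, false), (30, false), (20, false), (25, false), (85, false), (50, true), (70, true), (15, true), (95, false), (35, false), (100, false), (80, false), (115, true), (45, true), (90, false)])]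

/-- its inverse -/
def wKi2 : List Step :=
  [some (760327490498490606675446126098811372, 8412681,
      [(20, true), (15, false), (10, false), (80, true), (55, false), (60, false), (50, false), (90, false), (45, false), (110, true), (70, true), (40, true), (0, true), (35, false), (75, true), (5, false), (100, false), (65, false), (115, false), (85, false), (95, false), (25, false), (30, false), (105, true)]),
    none,
    some (984574657262612311324662570656612384, 10787753,
      [(0, true), (5, false), (80, false), (60, true), (65, false), (25, true), (30, false), (55, true), (45, true), (40, true), (85, false), (35, true), (15, true), (20, false), (95, false), (105, true), (10, false), (50, false), (90, true), (70, false), (100, false), (75, true), (110, false), (115, true)]),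
    none,
    some (984818244535754528103549039458486304, 9524910,
      [(0, false), (5, true), (10, true), (15, true), (20, false), (25, true), (30, false), (35, true), (40, false), (45, true), (50, true), (55, false), (60, true), (65, false), (70, true), (75, false), (80, true), (85, false), (90, false), (95, false), (100, true), (105, false), (110, false), (115, true)]),
    none,
    some (984574657262612311324662570656612384, 10787753,
      [(0, true), (5, false), (80, false), (60, true), (65, false), (25, true), (30, false), (55, true), (45, true), (40, true), (85, false), (35, true), (15, true), (20, false), (95, false), (105, true), (10, false), (50, false), (90, true), (70, false), (100, false), (75, true), (110, false), (115, true)]),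
    none,
    some (984818244535754528103549039458486304, 9524910,
      [(0, false), (5, true), (10, true), (15, true), (20, false), (25, true), (30, false), (35, true), (40, false), (45, true), (50, true), (55, false), (60, true), (65, false), (70, true), (75, false), (80, true), (85, false), (90, false), (95, false), (100, true), (105, false), (110, false), (115, true)]),
    none,
    some (984574657262612311324662570656612384, 10787753,
      [(0, true), (5, false), (80, false), (60, true), (65, false), (25, true), (30, false), (55, true), (45, true), (40, true), (85, false), (35, true), (15, true), (20, false), (95, false), (105, true), (10, false), (50, false), (90, true), (70, false), (100, false), (75, true), (110, false), (115, true)]),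
    none,
    some (984818244535754528103549039458486304, 9524910,
      [(0, false), (5, true), (10, true), (15, true), (20, false), (25, true), (30, false), (35, true), (40, false), (45, true), (50, true), (55, false), (60, true), (65, false), (70, true), (75, false), (80, true), (85, false), (90, false), (95, false), (100, true), (105, false), (110, false), (115, true)]),
    none,
    some (984574657262612311324662570656612384, 10787753,
      [(0, true), (5, false), (80, false), (60, true), (65, false), (25, true), (30, false), (55, true), (45, true), (40, true), (85, false), (35, true), (15, true), (20, false), (95, false), (105, true), (10, false), (50, false), (90, true), (70, false), (100, false), (75, true), (110, false), (115, true)]),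
    none,
    some (984818244535754528103549039458486304, 9524910,
      [(0, false), (5, true), (10, true), (15, true), (20, false), (25, true), (30, false), (35, true), (40, false), (45, true), (50, true), (55, false), (60, true), (65, false), (70, true), (75, false), (80, true), (85, false), (90, false), (95, false), (100, true), (105, false), (110, false), (115, true)]),
    none,
    some (984574657262612311324662570656612384, 10787753,
      [(0, true), (5, false), (80, false), (60, true), (65, false), (25, true), (30, false), (55, true), (45, true), (40, true), (85, false), (35, true), (15, true), (20, false), (95, false), (105, true), (10, false), (50, false), (90, true), (70, false), (100, false), (75, true), (110, false), (115, true)]),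
    none,
    some (984818244535754528103549039458486304, 9524910,
      [(0, false), (5, true), (10, true), (15, true), (20, false), (25, true), (30, false), (35, true), (40, false), (45, true), (50, true), (55, false), (60, true), (65, false), (70, true), (75, false), (80, true), (85, false), (90, false), (95, false), (100, true), (105, false), (110, false), (115, true)]),
    none,
    some (776492305498929112816521597662385676, 6830940,
      [(100, false), (35, false), (55, true), (50, true), (70, true), (85, false), (105, true), (20, false), (45, true), (80, true), (75, false), (40, true), (0, true), (95, true), (25, false), (65, false), (5, false), (90, false), (115, false), (15, true), (60, false), (10, true), (110, true), (30, false)])]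

/-- representative -/
def wT2 : List Step :=
  [some (984330238668445353307680420861740096, 416040,
      [(0, false), (10, false), (5, false), (25, true), (65, false), (15, true), (50, false), (75, false), (55, true), (105, false), (30, false), (40, true), (60, true), (20, false), (70, true), (35, false), (80, false), (85, true), (90, true), (100, false), (95, false), (45, false), (110, false), (115, false)])]

/-- conjugating word -/
def wK3 : List Step :=
  [some (187353743283935225703865457667574515, 15777,
      [(55, true), (95, false), (10, false), (20, false), (115, false), (80, true), (50, false), (65, true), (35, true), (45, false), (105, true), (15, true), (90, true), (25, true), (60, false), (40, false), (110, false), (30, false), (85, false), (0, false), (100, false), (70, false), (75, false), (5, false)]),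
    none,
    some (984818244535754528103549039458486304, 4696816,
      [(0, false), (5, false), (10, false), (15, false), (20, true), (25, true), (30, true), (35, true), (40, false), (45, true), (50, false), (55, true), (60, false), (65, true), (70, false), (75, true), (80, true), (85, true), (90, true), (95, false), (100, false), (105, false), (110, true), (115, false)]),
    none,
    some (94315247509518607253652505914236559, 13539309,
      [(75, true), (100, false), (115, true), (35, true), (20, false), (25, true), (85, true), (15, true), (110, true), (50, true), (45, true), (65, false), (60, true), (55, false), (70, false), (0, true), (80, false), (30, true), (90, true), (95, true), (5, false), (105, false), (40, true), (10, true)]),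
    none,
    some (568809088487190515456337967147460151, 3819356,
      [(80, false), (70, false), (90, true), (65, true), (60, true), (40, false), (105, true), (100, false), (95, true), (10, true), (15, true), (50, false), (45, false), (115, false), (25, true), (55, false), (85, false), (5, true), (75, false), (30, true), (20, true), (35, true), (110, false), (0, false)])]

/-- its inverse -/
def wKi3 : List Step :=
  [some (28846913372041415994167399157254608, 2896126,
      [(115, false), (85, true), (45, true), (50, true), (100, true), (70, true), (95, true), (105, true), (25, false), (60, false), (55, false), (75, false), (20, true), (15, true), (5, false), (90, false), (0, false), (80, false), (10, true), (40, true), (35, false), (30, true), (110, false), (65, false)]),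
    none,
    some (94315247509518607253652505914236559, 13539309,
      [(75, true), (100, false), (115, true), (35, true), (20, false), (25, true), (85, true), (15, true), (110, true), (50, true), (45, true), (65, false), (60, true), (55, false), (70, false), (0, true), (80, false), (30, true), (90, true), (95, true), (5, false), (105, false), (40, true), (10, true)]),
    none,
    some (984818244535754528103549039458486304, 4696816,
      [(0, false), (5, false), (10, false), (15, false), (20, true), (25, true), (30, true), (35, true), (40, false), (45, true), (50, false), (55, true), (60, false), (65, true), (70, false), (75, true), (80, true), (85, true), (90, true), (95, false), (100, false), (105, false), (110, true), (115, false)]),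
    none,
    some (61602769872698433150564294894684779, 2435240,
      [(95, false), (115, false), (10, false), (55, true), (15, false), (65, true), (85, false), (40, true), (75, false), (45, false), (30, false), (0, true), (70, false), (35, true), (105, false), (110, false), (25, true), (90, false), (60, true), (5, false), (100, false), (50, true), (80, false), (20, false)])]

/-- representative -/
def wT3 : List Step :=
  [some (984330238668445353307680420861740096, 459847,
      [(0, true), (10, true), (5, true), (25, false), (65, false), (15, false), (50, true), (75, false), (55, false), (105, false), (30, true), (40, false), (60, false), (20, false), (70, false), (35, false), (80, true), (85, true), (90, true), (100, false), (95, false), (45, false), (110, false), (115, false)])]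

/-- conjugating word -/
def wK4 : List Step :=
  [some (914668480411485784614879416878075120, 11085546,
      [(110, false), (70, true), (65, false), (10, true), (25, false), (30, true), (95, true), (5, true), (40, false), (35, true), (100, true), (85, false), (45, false), (50, true), (55, false), (15, false), (0, true), (20, false), (90, false), (60, true), (105, false), (80, true), (115, false), (75, true)]),
    none,
    some (984818244535754528103549039458486304, 9374696,
      [(0, false), (5, false), (10, false), (15, true), (20, false), (25, true), (30, true), (35, true), (40, true), (45, true), (50, false), (55, true), (60, false), (65, false), (70, false), (75, false), (80, true), (85, true), (90, true), (95, true), (100, false), (105, false), (110, false), (115, true)]),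
    none,
    some (403270854594344676729144943144322080, 632881,
      [(0, true), (5, false), (85, false), (35, false), (75, true), (65, true), (50, false), (15, false), (70, false), (115, false), (30, false), (55, true), (100, false), (25, true), (40, false), (20, true), (80, true), (10, false), (90, false), (95, true), (60, false), (105, false), (110, false), (45, false)]),
    none,
    some (984818244535754528103549039458486304, 9374696,
      [(0, false), (5, false), (10, false), (15, true), (20, false), (25, true), (30, true), (35, true), (40, true), (45, true), (50, false), (55, true), (60, false), (65, false), (70, false), (75, false), (80, true), (85, true), (90, true), (95, true), (100, false), (105, false), (110, false), (115, true)]),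
    none,
    some (403270854594344676729144943144322080, 632881,
      [(0, true), (5, false), (85, false), (35, false), (75, true), (65, true), (50, false), (15, false), (70, false), (115, false), (30, false), (55, true), (100, false), (25, true), (40, false), (20, true), (80, true), (10, false), (90, false), (95, true), (60, false), (105, false), (110, false), (45, false)]),
    none,
    some (984818244535754528103549039458486304, 9374696,
      [(0, false), (5, false), (10, false), (15, true), (20, false), (25, true), (30, true), (35, true), (40, true), (45, true), (50, false), (55, true), (60, false), (65, false), (70, false), (75, false), (80, true), (85, true), (90, true), (95, true), (100, false), (105, false), (110, false), (115, true)]),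
    none,
    some (403270854594344676729144943144322080, 632881,
      [(0, true), (5, false), (85, false), (35, false), (75, true), (65, true), (50, false), (15, false), (70, false), (115, false), (30, false), (55, true), (100, false), (25, true), (40, false), (20, true), (80, true), (10, false), (90, false), (95, true), (60, false), (105, false), (110, false), (45, false)]),
    none,
    some (984818244535754528103549039458486304, 9374696,
      [(0, false), (5, false), (10, false), (15, true), (20, false), (25, true), (30, true), (35, true), (40, true), (45, true), (50, false), (55, true), (60, false), (65, false), (70, false), (75, false), (80, true), (85, true), (90, true), (95, true), (100, false), (105, false), (110, false), (115, true)]),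
    none,
    some (403270854594344676729144943144322080, 632881,
      [(0, true), (5, false), (85, false), (35, false), (75, true), (65, true), (50, false), (15, false), (70, false), (115, false), (30, false), (55, true), (100, false), (25, true), (40, false), (20, true), (80, true), (10, false), (90, false), (95, true), (60, false), (105, false), (110, false), (45, false)]),
    none,
    some (984818244535754528103549039458486304, 9374696,
      [(0, false), (5, false), (10, false), (15, true), (20, false), (25, true), (30, true), (35, true), (40, true), (45, true), (50, false), (55, true), (60, false), (65, false), (70, false), (75, false), (80, true), (85, true), (90, true), (95, true), (100, false), (105, false), (110, false), (115, true)]),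
    none,
    some (403270854594344676729144943144322080, 632881,
      [(0, true), (5, false), (85, false), (35, false), (75, true), (65, true), (50, false), (15, false), (70, false), (115, false), (30, false), (55, true), (100, false), (25, true), (40, false), (20, true), (80, true), (10, false), (90, false), (95, true), (60, false), (105, false), (110, false), (45, false)]),
    none,
    some (99997489088783893097551425029810441, 2769128,
      [(15, false), (105, false), (115, false), (95, true), (100, false), (50, true), (70, true), (75, true), (5, false), (0, false), (10, false), (65, false), (85, false), (110, false), (30, true), (40, false), (90, false), (60, true), (35, false), (25, true), (45, false), (55, true), (80, false), (20, false)])]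

/-- its inverse -/
def wKi4 : List Step :=
  [some (187380515996221072316285588750327459, 580704,
      [(45, false), (40, false), (50, false), (0, false), (115, false), (95, true), (70, true), (90, false), (75, false), (100, false), (25, true), (105, true), (85, true), (55, false), (30, true), (35, true), (110, false), (60, false), (80, false), (15, true), (20, false), (5, false), (65, false), (10, false)]),
    none,
    some (403270854594344676729144943144322080, 632881,
      [(0, true), (5, false), (85, false), (35, false), (75, true), (65, true), (50, false), (15, false), (70, false), (115, false), (30, false), (55, true), (100, false), (25, true), (40, false), (20, true), (80, true), (10, false), (90, false), (95, true), (60, false), (105, false), (110, false), (45, false)]),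
    none,
    some (984818244535754528103549039458486304, 9374696,
      [(0, false), (5, false), (10, false), (15, true), (20, false), (25, true), (30, true), (35, true), (40, true), (45, true), (50, false), (55, true), (60, false), (65, false), (70, false), (75, false), (80, true), (85, true), (90, true), (95, true), (100, false), (105, false), (110, false), (115, true)]),
    none,
    some (403270854594344676729144943144322080, 632881,
      [(0, true), (5, false), (85, false), (35, false), (75, true), (65, true), (50, false), (15, false), (70, false), (115, false), (30, false), (55, true), (100, false), (25, true), (40, false), (20, true), (80, true), (10, false), (90, false), (95, true), (60, false), (105, false), (110, false), (45, false)]),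
    none,
    some (984818244535754528103549039458486304, 9374696,
      [(0, false), (5, false), (10, false), (15, true), (20, false), (25, true), (30, true), (35, true), (40, true), (45, true), (50, false), (55, true), (60, false), (65, false), (70, false), (75, false), (80, true), (85, true), (90, true), (95, true), (100, false), (105, false), (110, false), (115, true)]),
    none,
    some (403270854594344676729144943144322080, 632881,
      [(0, true), (5, false), (85, false), (35, false), (75, true), (65, true), (50, false), (15, false), (70, false), (115, false), (30, false), (55, true), (100, false), (25, true), (40, false), (20, true), (80, true), (10, false), (90, false), (95, true), (60, false), (105, false), (110, false), (45, false)]),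
    none,
    some (984818244535754528103549039458486304, 9374696,
      [(0, false), (5, false), (10, false), (15, true), (20, false), (25, true), (30, true), (35, true), (40, true), (45, true), (50, false), (55, true), (60, false), (65, false), (70, false), (75, false), (80, true), (85, true), (90, true), (95, true), (100, false), (105, false), (110, false), (115, true)]),
    none,
    some (403270854594344676729144943144322080, 632881,
      [(0, true), (5, false), (85, false), (35, false), (75, true), (65, true), (50, false), (15, false), (70, false), (115, false), (30, false), (55, true), (100, false), (25, true), (40, false), (20, true), (80, true), (10, false), (90, false), (95, true), (60, false), (105, false), (110, false), (45, false)]),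
    none,
    some (984818244535754528103549039458486304, 9374696,
      [(0, false), (5, false), (10, false), (15, true), (20, false), (25, true), (30, true), (35, true), (40, true), (45, true), (50, false), (55, true), (60, false), (65, false), (70, false), (75, false), (80, true), (85, true), (90, true), (95, true), (100, false), (105, false), (110, false), (115, true)]),
    none,
    some (403270854594344676729144943144322080, 632881,
      [(0, true), (5, false), (85, false), (35, false), (75, true), (65, true), (50, false), (15, false), (70, false), (115, false), (30, false), (55, true), (100, false), (25, true), (40, false), (20, true), (80, true), (10, false), (90, false), (95, true), (60, false), (105, false), (110, false), (45, false)]),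
    none,
    some (984818244535754528103549039458486304, 9374696,
      [(0, false), (5, false), (10, false), (15, true), (20, false), (25, true), (30, true), (35, true), (40, true), (45, true), (50, false), (55, true), (60, false), (65, false), (70, false), (75, false), (80, true), (85, true), (90, true), (95, true), (100, false), (105, false), (110, false), (115, true)]),
    none,
    some (653607485537441221442105167804708310, 1692871,
      [(80, true), (35, true), (15, true), (75, false), (85, false), (20, false), (25, true), (45, true), (40, false), (60, false), (65, true), (70, false), (95, true), (10, false), (5, true), (115, true), (105, true), (55, false), (90, false), (30, true), (50, true), (100, false), (0, false), (110, false)])]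

/-- representative -/
def wT4 : List Step :=
  [some (984330238668445353307680420861740096, 4330601,
      [(0, true), (10, false), (5, false), (25, true), (65, false), (15, true), (50, true), (75, false), (55, false), (105, false), (30, true), (40, false), (60, true), (20, false), (70, false), (35, false), (80, false), (85, true), (90, false), (100, false), (95, false), (45, false), (110, true), (115, false)])]

/-- conjugating word -/
def wK5 : List Step :=
  [some (526498959807737874122010422662119505, 9157218,
      [(55, false), (25, true), (5, false), (30, false), (60, false), (40, true), (100, true), (15, false), (90, false), (75, true), (35, false), (20, true), (115, true), (50, true), (95, false), (70, true), (10, true), (0, true), (80, false), (105, true), (65, false), (110, false), (45, false), (85, true)]),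
    none,
    some (984818244535754528103549039458486304, 10365553,
      [(0, true), (5, false), (10, false), (15, false), (20, true), (25, true), (30, true), (35, false), (40, false), (45, true), (50, false), (55, true), (60, false), (65, true), (70, false), (75, false), (80, false), (85, true), (90, true), (95, true), (100, true), (105, false), (110, false), (115, true)]),
    none,
    some (980912731861760349894760325171298533, 16576202,
      [(25, false), (35, true), (80, false), (65, true), (20, false), (0, false), (70, true), (5, true), (40, false), (50, true), (45, true), (100, true), (60, false), (15, true), (30, true), (75, true), (10, false), (85, false), (90, true), (110, true), (55, true), (105, true), (95, true), (115, true)]),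
    none,
    some (984818244535754528103549039458486304, 10365553,
      [(0, true), (5, false), (10, false), (15, false), (20, true), (25, true), (30, true), (35, false), (40, false), (45, true), (50, false), (55, true), (60, false), (65, true), (70, false), (75, false), (80, false), (85, true), (90, true), (95, true), (100, true), (105, false), (110, false), (115, true)]),
    none,
    some (980912731861760349894760325171298533, 16576202,
      [(25, false), (35, true), (80, false), (65, true), (20, false), (0, false), (70, true), (5, true), (40, false), (50, true), (45, true), (100, true), (60, false), (15, true), (30, true), (75, true), (10, false), (85, false), (90, true), (110, true), (55, true), (105, true), (95, true), (115, true)]),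
    none,
    some (984818244535754528103549039458486304, 10365553,
      [(0, true), (5, false), (10, false), (15, false), (20, true), (25, true), (30, true), (35, false), (40, false), (45, true), (50, false), (55, true), (60, false), (65, true), (70, false), (75, false), (80, false), (85, true), (90, true), (95, true), (100, true), (105, false), (110, false), (115, true)]),
    none,
    some (980912731861760349894760325171298533, 16576202,
      [(25, false), (35, true), (80, false), (65, true), (20, false), (0, false), (70, true), (5, true), (40, false), (50, true), (45, true), (100, true), (60, false), (15, true), (30, true), (75, true), (10, false), (85, false), (90, true), (110, true), (55, true), (105, true), (95, true), (115, true)]),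
    none,
    some (984818244535754528103549039458486304, 10365553,
      [(0, true), (5, false), (10, false), (15, false), (20, true), (25, true), (30, true), (35, false), (40, false), (45, true), (50, false), (55, true), (60, false), (65, true), (70, false), (75, false), (80, false), (85, true), (90, true), (95, true), (100, true), (105, false), (110, false), (115, true)]),
    none,
    some (980912731861760349894760325171298533, 16576202,
      [(25, false), (35, true), (80, false), (65, true), (20, false), (0, false), (70, true), (5, true), (40, false), (50, true), (45, true), (100, true), (60, false), (15, true), (30, true), (75, true), (10, false), (85, false), (90, true), (110, true), (55, true), (105, true), (95, true), (115, true)]),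
    none,
    some (984818244535754528103549039458486304, 10365553,
      [(0, true), (5, false), (10, false), (15, false), (20, true), (25, true), (30, true), (35, false), (40, false), (45, true), (50, false), (55, true), (60, false), (65, true), (70, false), (75, false), (80, false), (85, true), (90, true), (95, true), (100, true), (105, false), (110, false), (115, true)]),
    none,
    some (980912731861760349894760325171298533, 16576202,
      [(25, false), (35, true), (80, false), (65, true), (20, false), (0, false), (70, true), (5, true), (40, false), (50, true), (45, true), (100, true), (60, false), (15, true), (30, true), (75, true), (10, false), (85, false), (90, true), (110, true), (55, true), (105, true), (95, true), (115, true)]),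
    none,
    some (755660050624412719612591245233790210, 12158374,
      [(20, false), (35, true), (0, true), (65, false), (105, false), (80, true), (110, false), (10, true), (5, true), (60, false), (70, true), (75, false), (25, false), (50, false), (100, false), (90, true), (30, true), (15, false), (115, false), (55, true), (45, true), (95, true), (85, false), (40, true)])]

/-- its inverse -/
def wKi5 : List Step :=
  [some (355156865366871976668279636558774500, 871367,
      [(10, true), (40, true), (35, true), (85, false), (0, false), (60, false), (80, true), (5, true), (115, true), (100, true), (65, false), (95, true), (45, false), (15, false), (50, true), (55, false), (25, true), (110, false), (75, true), (105, true), (70, false), (20, false), (30, false), (90, false)]),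
    none,
    some (980912731861760349894760325171298533, 16576202,
      [(25, false), (35, true), (80, false), (65, true), (20, false), (0, false), (70, true), (5, true), (40, false), (50, true), (45, true), (100, true), (60, false), (15, true), (30, true), (75, true), (10, false), (85, false), (90, true), (110, true), (55, true), (105, true), (95, true), (115, true)]),
    none,
    some (984818244535754528103549039458486304, 10365553,
      [(0, true), (5, false), (10, false), (15, false), (20, true), (25, true), (30, true), (35, false), (40, false), (45, true), (50, false), (55, true), (60, false), (65, true), (70, false), (75, false), (80, false), (85, true), (90, true), (95, true), (100, true), (105, false), (110, false), (115, true)]),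
    none,
    some (980912731861760349894760325171298533, 16576202,
      [(25, false), (35, true), (80, false), (65, true), (20, false), (0, false), (70, true), (5, true), (40, false), (50, true), (45, true), (100, true), (60, false), (15, true), (30, true), (75, true), (10, false), (85, false), (90, true), (110, true), (55, true), (105, true), (95, true), (115, true)]),
    none,
    some (984818244535754528103549039458486304, 10365553,
      [(0, true), (5, false), (10, false), (15, false), (20, true), (25, true), (30, true), (35, false), (40, false), (45, true), (50, false), (55, true), (60, false), (65, true), (70, false), (75, false), (80, false), (85, true), (90, true), (95, true), (100, true), (105, false), (110, false), (115, true)]),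
    none,
    some (980912731861760349894760325171298533, 16576202,
      [(25, false), (35, true), (80, false), (65, true), (20, false), (0, false), (70, true), (5, true), (40, false), (50, true), (45, true), (100, true), (60, false), (15, true), (30, true), (75, true), (10, false), (85, false), (90, true), (110, true), (55, true), (105, true), (95, true), (115, true)]),
    none,
    some (984818244535754528103549039458486304, 10365553,
      [(0, true), (5, false), (10, false), (15, false), (20, true), (25, true), (30, true), (35, false), (40, false), (45, true), (50, false), (55, true), (60, false), (65, true), (70, false), (75, false), (80, false), (85, true), (90, true), (95, true), (100, true), (105, false), (110, false), (115, true)]),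
    none,
    some (980912731861760349894760325171298533, 16576202,
      [(25, false), (35, true), (80, false), (65, true), (20, false), (0, false), (70, true), (5, true), (40, false), (50, true), (45, true), (100, true), (60, false), (15, true), (30, true), (75, true), (10, false), (85, false), (90, true), (110, true), (55, true), (105, true), (95, true), (115, true)]),
    none,
    some (984818244535754528103549039458486304, 10365553,
      [(0, true), (5, false), (10, false), (15, false), (20, true), (25, true), (30, true), (35, false), (40, false), (45, true), (50, false), (55, true), (60, false), (65, true), (70, false), (75, false), (80, false), (85, true), (90, true), (95, true), (100, true), (105, false), (110, false), (115, true)]),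
    none,
    some (980912731861760349894760325171298533, 16576202,
      [(25, false), (35, true), (80, false), (65, true), (20, false), (0, false), (70, true), (5, true), (40, false), (50, true), (45, true), (100, true), (60, false), (15, true), (30, true), (75, true), (10, false), (85, false), (90, true), (110, true), (55, true), (105, true), (95, true), (115, true)]),
    none,
    some (984818244535754528103549039458486304, 10365553,
      [(0, true), (5, false), (10, false), (15, false), (20, true), (25, true), (30, true), (35, false), (40, false), (45, true), (50, false), (55, true), (60, false), (65, true), (70, false), (75, false), (80, false), (85, true), (90, true), (95, true), (100, true), (105, false), (110, false), (115, true)]),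
    none,
    some (718744797878520171997567922936677547, 11715893,
      [(85, true), (10, false), (80, true), (35, false), (55, true), (5, true), (15, false), (50, false), (25, true), (110, false), (65, true), (0, false), (20, false), (100, false), (75, true), (45, true), (90, false), (115, true), (40, false), (70, false), (30, true), (95, true), (105, false), (60, true)])]

/-- representative -/
def wT5 : List Step :=
  [some (984330238668445353307680420861740096, 4409606,
      [(0, false), (10, true), (5, true), (25, false), (65, false), (15, false), (50, false), (75, false), (55, true), (105, false), (30, false), (40, true), (60, false), (20, false), (70, true), (35, false), (80, true), (85, true), (90, false), (100, false), (95, false), (45, false), (110, true), (115, false)])]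

/-- conjugating word -/
def wK6 : List Step :=
  [some (624519935431936123067201581968137655, 13707171,
      [(30, true), (110, true), (35, false), (105, false), (40, false), (75, true), (65, false), (10, true), (85, true), (20, true), (70, true), (95, false), (45, false), (5, true), (55, false), (115, false), (60, true), (25, false), (90, false), (100, false), (15, true), (50, false), (80, true), (0, true)]),
    none,
    some (984818244535754528103549039458486304, 14944447,
      [(0, true), (5, true), (10, true), (15, true), (20, true), (25, true), (30, false), (35, true), (40, false), (45, false), (50, false), (55, true), (60, false), (65, false), (70, false), (75, false), (80, false), (85, false), (90, true), (95, false), (100, false), (105, true), (110, true), (115, true)]),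
    none,
    some (983962263583995257517888223626794037, 9848438,
      [(105, false), (5, true), (25, true), (60, false), (70, true), (10, true), (45, true), (65, false), (40, false), (30, true), (50, true), (95, false), (15, false), (35, false), (20, true), (75, false), (80, false), (100, true), (90, true), (55, false), (85, true), (0, false), (110, false), (115, true)]),
    none,
    some (110951175983401625039563130818396272, 8581192,
      [(10, false), (95, false), (115, false), (5, true), (60, false), (100, false), (85, true), (65, false), (30, false), (50, false), (45, false), (40, false), (15, true), (75, true), (90, true), (105, true), (0, false), (80, true), (55, false), (35, false), (25, false), (110, false), (20, false), (70, true)])]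

/-- its inverse -/
def wKi6 : List Step :=
  [some (587628600825691753754766107142577762, 2605066,
      [(80, false), (15, true), (0, false), (60, true), (110, false), (100, false), (40, false), (95, false), (55, false), (50, false), (45, false), (90, false), (20, false), (35, false), (115, true), (65, true), (85, true), (30, true), (70, true), (5, false), (25, false), (75, true), (105, false), (10, false)]),
    none,
    some (983962263583995257517888223626794037, 9848438,
      [(105, false), (5, true), (25, true), (60, false), (70, true), (10, true), (45, true), (65, false), (40, false), (30, true), (50, true), (95, false), (15, false), (35, false), (20, true), (75, false), (80, false), (100, true), (90, true), (55, false), (85, true), (0, false), (110, false), (115, true)]),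
    none,
    some (984818244535754528103549039458486304, 14944447,
      [(0, true), (5, true), (10, true), (15, true), (20, true), (25, true), (30, false), (35, true), (40, false), (45, false), (50, false), (55, true), (60, false), (65, false), (70, false), (75, false), (80, false), (85, false), (90, true), (95, false), (100, false), (105, true), (110, true), (115, true)]),
    none,
    some (21179453351376069275669371682463430, 4444255,
      [(115, true), (65, true), (35, true), (100, true), (45, true), (85, false), (0, true), (10, false), (20, false), (60, false), (105, false), (70, false), (80, true), (30, false), (50, true), (25, true), (110, true), (40, true), (90, false), (55, false), (95, false), (15, false), (5, true), (75, false)])]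

/-- representative -/
def wT6 : List Step :=
  [some (984330238668445353307680420861740096, 4476225,
      [(0, true), (10, false), (5, false), (25, false), (65, false), (15, false), (50, true), (75, false), (55, true), (105, false), (30, true), (40, true), (60, false), (20, false), (70, true), (35, false), (80, false), (85, false), (90, true), (100, false), (95, false), (45, false), (110, true), (115, false)])]

/-- conjugating word -/
def wK7 : List Step :=
  [some (936752456281234548874376701098135745, 16638425,
      [(85, true), (0, false), (20, false), (30, true), (10, true), (80, false), (5, true), (65, true), (75, true), (60, false), (15, false), (45, false), (95, false), (35, true), (55, true), (70, true), (90, true), (110, false), (40, true), (25, true), (105, true), (50, true), (115, true), (100, true)]),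
    none,
    some (984818244535754528103549039458486304, 16278241,
      [(0, true), (5, false), (10, false), (15, false), (20, false), (25, true), (30, true), (35, true), (40, false), (45, true), (50, false), (55, false), (60, false), (65, true), (70, true), (75, false), (80, false), (85, false), (90, false), (95, true), (100, true), (105, true), (110, true), (115, true)]),
    none,
    some (527154183905069262177525799739628576, 9640692,
      [(0, false), (5, false), (35, true), (105, false), (30, true), (25, true), (20, true), (10, true), (65, false), (45, true), (95, false), (100, true), (115, true), (40, false), (90, false), (75, false), (80, true), (85, true), (70, false), (50, false), (55, true), (15, false), (110, false), (60, true)]),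
    none,
    some (984818244535754528103549039458486304, 16278241,
      [(0, true), (5, false), (10, false), (15, false), (20, false), (25, true), (30, true), (35, true), (40, false), (45, true), (50, false), (55, false), (60, false), (65, true), (70, true), (75, false), (80, false), (85, false), (90, false), (95, true), (100, true), (105, true), (110, true), (115, true)]),
    none,
    some (527154183905069262177525799739628576, 9640692,
      [(0, false), (5, false), (35, true), (105, false), (30, true), (25, true), (20, true), (10, true), (65, false), (45, true), (95, false), (100, true), (115, true), (40, false), (90, false), (75, false), (80, true), (85, true), (70, false), (50, false), (55, true), (15, false), (110, false), (60, true)]),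
    none,
    some (984818244535754528103549039458486304, 16278241,
      [(0, true), (5, false), (10, false), (15, false), (20, false), (25, true), (30, true), (35, true), (40, false), (45, true), (50, false), (55, false), (60, false), (65, true), (70, true), (75, false), (80, false), (85, false), (90, false), (95, true), (100, true), (105, true), (110, true), (115, true)]),
    none,
    some (527154183905069262177525799739628576, 9640692,
      [(0, false), (5, false), (35, true), (105, false), (30, true), (25, true), (20, true), (10, true), (65, false), (45, true), (95, false), (100, true), (115, true), (40, false), (90, false), (75, false), (80, true), (85, true), (70, false), (50, false), (55, true), (15, false), (110, false), (60, true)]),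
    none,
    some (984818244535754528103549039458486304, 16278241,
      [(0, true), (5, false), (10, false), (15, false), (20, false), (25, true), (30, true), (35, true), (40, false), (45, true), (50, false), (55, false), (60, false), (65, true), (70, true), (75, false), (80, false), (85, false), (90, false), (95, true), (100, true), (105, true), (110, true), (115, true)]),
    none,
    some (527154183905069262177525799739628576, 9640692,
      [(0, false), (5, false), (35, true), (105, false), (30, true), (25, true), (20, true), (10, true), (65, false), (45, true), (95, false), (100, true), (115, true), (40, false), (90, false), (75, false), (80, true), (85, true), (70, false), (50, false), (55, true), (15, false), (110, false), (60, true)]),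
    none,
    some (984818244535754528103549039458486304, 16278241,
      [(0, true), (5, false), (10, false), (15, false), (20, false), (25, true), (30, true), (35, true), (40, false), (45, true), (50, false), (55, false), (60, false), (65, true), (70, true), (75, false), (80, false), (85, false), (90, false), (95, true), (100, true), (105, true), (110, true), (115, true)]),
    none,
    some (527154183905069262177525799739628576, 9640692,
      [(0, false), (5, false), (35, true), (105, false), (30, true), (25, true), (20, true), (10, true), (65, false), (45, true), (95, false), (100, true), (115, true), (40, false), (90, false), (75, false), (80, true), (85, true), (70, false), (50, false), (55, true), (15, false), (110, false), (60, true)]),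
    none,
    some (692364703095984909492941250887393490, 7641639,
      [(70, true), (75, true), (30, true), (100, false), (85, false), (20, true), (5, false), (40, false), (10, false), (90, true), (55, false), (50, true), (105, true), (60, false), (95, false), (35, true), (115, false), (80, false), (0, true), (25, false), (45, true), (110, true), (65, true), (15, false)])]

/-- its inverse -/
def wKi7 : List Step :=
  [some (142394122990505730665746126394235374, 6612689,
      [(90, true), (30, false), (40, false), (115, false), (25, true), (95, false), (10, true), (75, true), (35, false), (100, true), (55, true), (50, false), (65, false), (110, true), (0, true), (5, true), (85, false), (20, false), (45, true), (70, false), (15, false), (60, true), (105, true), (80, false)]),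
    none,
    some (527154183905069262177525799739628576, 9640692,
      [(0, false), (5, false), (35, true), (105, false), (30, true), (25, true), (20, true), (10, true), (65, false), (45, true), (95, false), (100, true), (115, true), (40, false), (90, false), (75, false), (80, true), (85, true), (70, false), (50, false), (55, true), (15, false), (110, false), (60, true)]),
    none,
    some (984818244535754528103549039458486304, 16278241,
      [(0, true), (5, false), (10, false), (15, false), (20, false), (25, true), (30, true), (35, true), (40, false), (45, true), (50, false), (55, false), (60, false), (65, true), (70, true), (75, false), (80, false), (85, false), (90, false), (95, true), (100, true), (105, true), (110, true), (115, true)]),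
    none,
    some (527154183905069262177525799739628576, 9640692,
      [(0, false), (5, false), (35, true), (105, false), (30, true), (25, true), (20, true), (10, true), (65, false), (45, true), (95, false), (100, true), (115, true), (40, false), (90, false), (75, false), (80, true), (85, true), (70, false), (50, false), (55, true), (15, false), (110, false), (60, true)]),
    none,
    some (984818244535754528103549039458486304, 16278241,
      [(0, true), (5, false), (10, false), (15, false), (20, false), (25, true), (30, true), (35, true), (40, false), (45, true), (50, false), (55, false), (60, false), (65, true), (70, true), (75, false), (80, false), (85, false), (90, false), (95, true), (100, true), (105, true), (110, true), (115, true)]),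
    none,
    some (527154183905069262177525799739628576, 9640692,
      [(0, false), (5, false), (35, true), (105, false), (30, true), (25, true), (20, true), (10, true), (65, false), (45, true), (95, false), (100, true), (115, true), (40, false), (90, false), (75, false), (80, true), (85, true), (70, false), (50, false), (55, true), (15, false), (110, false), (60, true)]),
    none,
    some (984818244535754528103549039458486304, 16278241,
      [(0, true), (5, false), (10, false), (15, false), (20, false), (25, true), (30, true), (35, true), (40, false), (45, true), (50, false), (55, false), (60, false), (65, true), (70, true), (75, false), (80, false), (85, false), (90, false), (95, true), (100, true), (105, true), (110, true), (115, true)]),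
    none,
    some (527154183905069262177525799739628576, 9640692,
      [(0, false), (5, false), (35, true), (105, false), (30, true), (25, true), (20, true), (10, true), (65, false), (45, true), (95, false), (100, true), (115, true), (40, false), (90, false), (75, false), (80, true), (85, true), (70, false), (50, false), (55, true), (15, false), (110, false), (60, true)]),
    none,
    some (984818244535754528103549039458486304, 16278241,
      [(0, true), (5, false), (10, false), (15, false), (20, false), (25, true), (30, true), (35, true), (40, false), (45, true), (50, false), (55, false), (60, false), (65, true), (70, true), (75, false), (80, false), (85, false), (90, false), (95, true), (100, true), (105, true), (110, true), (115, true)]),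
    none,
    some (527154183905069262177525799739628576, 9640692,
      [(0, false), (5, false), (35, true), (105, false), (30, true), (25, true), (20, true), (10, true), (65, false), (45, true), (95, false), (100, true), (115, true), (40, false), (90, false), (75, false), (80, true), (85, true), (70, false), (50, false), (55, true), (15, false), (110, false), (60, true)]),
    none,
    some (984818244535754528103549039458486304, 16278241,
      [(0, true), (5, false), (10, false), (15, false), (20, false), (25, true), (30, true), (35, true), (40, false), (45, true), (50, false), (55, false), (60, false), (65, true), (70, true), (75, false), (80, false), (85, false), (90, false), (95, true), (100, true), (105, true), (110, true), (115, true)]),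
    none,
    some (861055682004138719402399527124275217, 11988454,
      [(5, false), (30, true), (20, true), (50, false), (10, false), (95, true), (15, true), (65, true), (90, true), (55, false), (105, true), (70, true), (45, false), (35, true), (75, true), (40, true), (25, false), (0, true), (80, true), (60, false), (115, true), (100, true), (85, false), (110, true)])]

/-- representative -/
def wT7 : List Step :=
  [some (984330238668445353307680420861740096, 4526126,
      [(0, false), (10, true), (5, true), (25, true), (65, false), (15, true), (50, false), (75, false), (55, false), (105, false), (30, false), (40, false), (60, true), (20, false), (70, false), (35, false), (80, true), (85, false), (90, true), (100, false), (95, false), (45, false), (110, true), (115, false)])]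

/-- conjugating word -/
def wK8 : List Step :=
  [some (707755046426554539438785507864196466, 11946270,
      [(40, false), (110, true), (60, true), (15, true), (25, true), (90, false), (50, false), (105, false), (80, true), (95, false), (20, false), (5, true), (35, false), (10, false), (45, true), (85, false), (100, false), (115, true), (0, true), (75, false), (70, true), (65, true), (55, false), (30, true)]),
    none,
    some (984818244535754528103549039458486304, 11678641,
      [(0, true), (5, false), (10, false), (15, false), (20, true), (25, true), (30, false), (35, true), (40, true), (45, true), (50, false), (55, false), (60, true), (65, true), (70, false), (75, false), (80, false), (85, true), (90, false), (95, false), (100, true), (105, true), (110, false), (115, true)]),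
    none,
    some (249661748734756471481491245637961782, 11977944,
      [(110, false), (5, false), (10, false), (20, true), (15, true), (25, false), (115, true), (70, true), (40, false), (80, false), (105, true), (65, false), (95, false), (55, false), (35, true), (75, true), (45, false), (85, true), (90, true), (60, false), (100, true), (50, true), (0, false), (30, true)]),
    none,
    some (984818244535754528103549039458486304, 11678641,
      [(0, true), (5, false), (10, false), (15, false), (20, true), (25, true), (30, false), (35, true), (40, true), (45, true), (50, false), (55, false), (60, true), (65, true), (70, false), (75, false), (80, false), (85, true), (90, false), (95, false), (100, true), (105, true), (110, false), (115, true)]),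
    none,
    some (249661748734756471481491245637961782, 11977944,
      [(110, false), (5, false), (10, false), (20, true), (15, true), (25, false), (115, true), (70, true), (40, false), (80, false), (105, true), (65, false), (95, false), (55, false), (35, true), (75, true), (45, false), (85, true), (90, true), (60, false), (100, true), (50, true), (0, false), (30, true)]),
    none,
    some (984818244535754528103549039458486304, 11678641,
      [(0, true), (5, false), (10, false), (15, false), (20, true), (25, true), (30, false), (35, true), (40, true), (45, true), (50, false), (55, false), (60, true), (65, true), (70, false), (75, false), (80, false), (85, true), (90, false), (95, false), (100, true), (105, true), (110, false), (115, true)]),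
    none,
    some (249661748734756471481491245637961782, 11977944,
      [(110, false), (5, false), (10, false), (20, true), (15, true), (25, false), (115, true), (70, true), (40, false), (80, false), (105, true), (65, false), (95, false), (55, false), (35, true), (75, true), (45, false), (85, true), (90, true), (60, false), (100, true), (50, true), (0, false), (30, true)]),
    none,
    some (984818244535754528103549039458486304, 11678641,
      [(0, true), (5, false), (10, false), (15, false), (20, true), (25, true), (30, false), (35, true), (40, true), (45, true), (50, false), (55, false), (60, true), (65, true), (70, false), (75, false), (80, false), (85, true), (90, false), (95, false), (100, true), (105, true), (110, false), (115, true)]),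
    none,
    some (249661748734756471481491245637961782, 11977944,
      [(110, false), (5, false), (10, false), (20, true), (15, true), (25, false), (115, true), (70, true), (40, false), (80, false), (105, true), (65, false), (95, false), (55, false), (35, true), (75, true), (45, false), (85, true), (90, true), (60, false), (100, true), (50, true), (0, false), (30, true)]),
    none,
    some (984818244535754528103549039458486304, 11678641,
      [(0, true), (5, false), (10, false), (15, false), (20, true), (25, true), (30, false), (35, true), (40, true), (45, true), (50, false), (55, false), (60, true), (65, true), (70, false), (75, false), (80, false), (85, true), (90, false), (95, false), (100, true), (105, true), (110, false), (115, true)]),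
    none,
    some (249661748734756471481491245637961782, 11977944,
      [(110, false), (5, false), (10, false), (20, true), (15, true), (25, false), (115, true), (70, true), (40, false), (80, false), (105, true), (65, false), (95, false), (55, false), (35, true), (75, true), (45, false), (85, true), (90, true), (60, false), (100, true), (50, true), (0, false), (30, true)]),
    none,
    some (840761868950093456689389456002914645, 15090917,
      [(45, true), (50, false), (85, true), (40, false), (30, false), (95, true), (10, true), (110, true), (15, false), (80, false), (5, true), (75, false), (100, false), (90, false), (35, true), (65, false), (60, false), (55, true), (25, true), (20, false), (115, false), (0, true), (105, true), (70, true)])]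

/-- its inverse -/
def wKi8 : List Step :=
  [some (608826127713588089955641772998935881, 6965927,
      [(105, true), (50, true), (30, true), (40, false), (95, false), (90, true), (20, false), (70, true), (15, false), (0, true), (5, false), (85, true), (80, false), (75, false), (115, true), (55, false), (45, false), (10, true), (65, false), (25, true), (60, false), (110, true), (35, true), (100, false)]),
    none,
    some (249661748734756471481491245637961782, 11977944,
      [(110, false), (5, false), (10, false), (20, true), (15, true), (25, false), (115, true), (70, true), (40, false), (80, false), (105, true), (65, false), (95, false), (55, false), (35, true), (75, true), (45, false), (85, true), (90, true), (60, false), (100, true), (50, true), (0, false), (30, true)]),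
    none,
    some (984818244535754528103549039458486304, 11678641,
      [(0, true), (5, false), (10, false), (15, false), (20, true), (25, true), (30, false), (35, true), (40, true), (45, true), (50, false), (55, false), (60, true), (65, true), (70, false), (75, false), (80, false), (85, true), (90, false), (95, false), (100, true), (105, true), (110, false), (115, true)]),
    none,
    some (249661748734756471481491245637961782, 11977944,
      [(110, false), (5, false), (10, false), (20, true), (15, true), (25, false), (115, true), (70, true), (40, false), (80, false), (105, true), (65, false), (95, false), (55, false), (35, true), (75, true), (45, false), (85, true), (90, true), (60, false), (100, true), (50, true), (0, false), (30, true)]),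
    none,
    some (984818244535754528103549039458486304, 11678641,
      [(0, true), (5, false), (10, false), (15, false), (20, true), (25, true), (30, false), (35, true), (40, true), (45, true), (50, false), (55, false), (60, true), (65, true), (70, false), (75, false), (80, false), (85, true), (90, false), (95, false), (100, true), (105, true), (110, false), (115, true)]),
    none,
    some (249661748734756471481491245637961782, 11977944,
      [(110, false), (5, false), (10, false), (20, true), (15, true), (25, false), (115, true), (70, true), (40, false), (80, false), (105, true), (65, false), (95, false), (55, false), (35, true), (75, true), (45, false), (85, true), (90, true), (60, false), (100, true), (50, true), (0, false), (30, true)]),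
    none,
    some (984818244535754528103549039458486304, 11678641,
      [(0, true), (5, false), (10, false), (15, false), (20, true), (25, true), (30, false), (35, true), (40, true), (45, true), (50, false), (55, false), (60, true), (65, true), (70, false), (75, false), (80, false), (85, true), (90, false), (95, false), (100, true), (105, true), (110, false), (115, true)]),
    none,
    some (249661748734756471481491245637961782, 11977944,
      [(110, false), (5, false), (10, false), (20, true), (15, true), (25, false), (115, true), (70, true), (40, false), (80, false), (105, true), (65, false), (95, false), (55, false), (35, true), (75, true), (45, false), (85, true), (90, true), (60, false), (100, true), (50, true), (0, false), (30, true)]),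
    none,
    some (984818244535754528103549039458486304, 11678641,
      [(0, true), (5, false), (10, false), (15, false), (20, true), (25, true), (30, false), (35, true), (40, true), (45, true), (50, false), (55, false), (60, true), (65, true), (70, false), (75, false), (80, false), (85, true), (90, false), (95, false), (100, true), (105, true), (110, false), (115, true)]),
    none,
    some (249661748734756471481491245637961782, 11977944,
      [(110, false), (5, false), (10, false), (20, true), (15, true), (25, false), (115, true), (70, true), (40, false), (80, false), (105, true), (65, false), (95, false), (55, false), (35, true), (75, true), (45, false), (85, true), (90, true), (60, false), (100, true), (50, true), (0, false), (30, true)]),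
    none,
    some (984818244535754528103549039458486304, 11678641,
      [(0, true), (5, false), (10, false), (15, false), (20, true), (25, true), (30, false), (35, true), (40, true), (45, true), (50, false), (55, false), (60, true), (65, true), (70, false), (75, false), (80, false), (85, true), (90, false), (95, false), (100, true), (105, true), (110, false), (115, true)]),
    none,
    some (264054750454560366466660659083981512, 12677739,
      [(90, true), (55, true), (65, false), (15, true), (50, false), (20, true), (115, true), (60, false), (0, false), (70, true), (30, false), (110, false), (10, true), (105, true), (100, true), (95, false), (40, true), (75, false), (25, false), (45, false), (80, false), (35, false), (5, true), (85, true)])]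

/-- representative -/
def wT8 : List Step :=
  [some (984330238668445353307680420861740096, 8536111,
      [(0, true), (10, true), (5, true), (25, true), (65, false), (15, true), (50, false), (75, false), (55, false), (105, false), (30, false), (40, false), (60, false), (20, false), (70, true), (35, false), (80, false), (85, true), (90, false), (100, false), (95, false), (45, false), (110, false), (115, true)])]

/-- conjugating word -/
def wK9 : List Step :=
  [some (313792980893462752175109042366199062, 7882666,
      [(95, false), (25, true), (55, false), (65, true), (15, false), (40, true), (80, false), (115, true), (5, true), (75, true), (85, true), (20, false), (50, false), (10, false), (70, true), (90, false), (60, false), (110, false), (35, false), (100, true), (45, true), (30, true), (0, true), (105, false)]),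
    none,
    some (984818244535754528103549039458486304, 1383893,
      [(0, true), (5, false), (10, true), (15, false), (20, true), (25, false), (30, true), (35, true), (40, true), (45, false), (50, true), (55, true), (60, true), (65, false), (70, false), (75, false), (80, true), (85, false), (90, true), (95, false), (100, true), (105, false), (110, false), (115, false)]),
    none,
    some (859841075700849206180705539401815187, 10301403,
      [(95, true), (20, true), (25, false), (55, true), (5, true), (10, false), (30, true), (35, true), (65, true), (90, true), (50, true), (15, true), (105, false), (40, true), (70, false), (75, false), (80, true), (85, false), (45, true), (0, true), (115, true), (60, false), (110, false), (100, true)]),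
    none,
    some (984818244535754528103549039458486304, 1383893,
      [(0, true), (5, false), (10, true), (15, false), (20, true), (25, false), (30, true), (35, true), (40, true), (45, false), (50, true), (55, true), (60, true), (65, false), (70, false), (75, false), (80, true), (85, false), (90, true), (95, false), (100, true), (105, false), (110, false), (115, false)]),
    none,
    some (859841075700849206180705539401815187, 10301403,
      [(95, true), (20, true), (25, false), (55, true), (5, true), (10, false), (30, true), (35, true), (65, true), (90, true), (50, true), (15, true), (105, false), (40, true), (70, false), (75, false), (80, true), (85, false), (45, true), (0, true), (115, true), (60, false), (110, false), (100, true)]),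
    none,
    some (260328590025561911105873936914821494, 3596691,
      [(50, true), (95, true), (80, false), (60, false), (70, true), (65, false), (115, false), (15, true), (110, true), (25, false), (85, false), (5, false), (10, false), (75, true), (55, true), (30, true), (90, false), (105, true), (35, true), (100, false), (20, true), (40, true), (0, false), (45, false)])]

/-- its inverse -/
def wKi9 : List Step :=
  [some (374175764752171377936257058590835306, 6868440,
      [(110, false), (55, false), (60, false), (35, true), (100, true), (45, false), (75, true), (90, true), (105, true), (115, false), (0, true), (70, true), (15, false), (25, false), (20, true), (65, true), (10, false), (50, false), (80, false), (5, true), (95, false), (85, true), (40, true), (30, false)]),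
    none,
    some (859841075700849206180705539401815187, 10301403,
      [(95, true), (20, true), (25, false), (55, true), (5, true), (10, false), (30, true), (35, true), (65, true), (90, true), (50, true), (15, true), (105, false), (40, true), (70, false), (75, false), (80, true), (85, false), (45, true), (0, true), (115, true), (60, false), (110, false), (100, true)]),
    none,
    some (984818244535754528103549039458486304, 1383893,
      [(0, true), (5, false), (10, true), (15, false), (20, true), (25, false), (30, true), (35, true), (40, true), (45, false), (50, true), (55, true), (60, true), (65, false), (70, false), (75, false), (80, true), (85, false), (90, true), (95, false), (100, true), (105, false), (110, false), (115, false)]),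
    none,
    some (859841075700849206180705539401815187, 10301403,
      [(95, true), (20, true), (25, false), (55, true), (5, true), (10, false), (30, true), (35, true), (65, true), (90, true), (50, true), (15, true), (105, false), (40, true), (70, false), (75, false), (80, true), (85, false), (45, true), (0, true), (115, true), (60, false), (110, false), (100, true)]),
    none,
    some (984818244535754528103549039458486304, 1383893,
      [(0, true), (5, false), (10, true), (15, false), (20, true), (25, false), (30, true), (35, true), (40, true), (45, false), (50, true), (55, true), (60, true), (65, false), (70, false), (75, false), (80, true), (85, false), (90, true), (95, false), (100, true), (105, false), (110, false), (115, false)]),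
    none,
    some (872561471817989854724136342362959027, 9626467,
      [(110, true), (40, true), (65, false), (20, false), (55, false), (5, true), (105, true), (90, false), (25, true), (100, true), (60, false), (10, false), (80, false), (15, true), (70, true), (45, true), (30, false), (50, true), (75, false), (0, false), (95, true), (115, false), (85, false), (35, true)])]

/-- representative -/
def wT9 : List Step :=
  [some (984330238668445353307680420861740096, 8592704,
      [(0, false), (10, false), (5, false), (25, false), (65, false), (15, false), (50, true), (75, false), (55, true), (105, false), (30, true), (40, true), (60, true), (20, false), (70, false), (35, false), (80, true), (85, true), (90, false), (100, false), (95, false), (45, false), (110, false), (115, true)])]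

/-- conjugating word -/
def wK10 : List Step :=
  [some (176966023961330021014927498546977223, 6254884,
      [(70, false), (60, false), (30, true), (25, false), (115, false), (80, true), (10, false), (0, false), (110, true), (45, false), (105, false), (20, false), (40, true), (75, true), (5, true), (90, false), (65, true), (100, true), (95, true), (35, true), (50, true), (55, false), (15, true), (85, false)]),
    none,
    some (984818244535754528103549039458486304, 4208622,
      [(0, false), (5, true), (10, true), (15, true), (20, false), (25, true), (30, true), (35, true), (40, true), (45, true), (50, true), (55, false), (60, true), (65, true), (70, false), (75, false), (80, false), (85, false), (90, false), (95, false), (100, false), (105, false), (110, true), (115, false)]),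
    none,
    some (959766694484248460905683087736393760, 4294810,
      [(0, false), (5, true), (100, false), (110, true), (20, true), (25, false), (70, false), (35, true), (40, false), (50, false), (45, false), (80, true), (105, false), (95, false), (30, false), (75, true), (55, true), (90, false), (85, false), (65, false), (10, false), (60, false), (15, true), (115, false)]),
    none,
    some (984818244535754528103549039458486304, 4208622,
      [(0, false), (5, true), (10, true), (15, true), (20, false), (25, true), (30, true), (35, true), (40, true), (45, true), (50, true), (55, false), (60, true), (65, true), (70, false), (75, false), (80, false), (85, false), (90, false), (95, false), (100, false), (105, false), (110, true), (115, false)]),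
    none,
    some (959766694484248460905683087736393760, 4294810,
      [(0, false), (5, true), (100, false), (110, true), (20, true), (25, false), (70, false), (35, true), (40, false), (50, false), (45, false), (80, true), (105, false), (95, false), (30, false), (75, true), (55, true), (90, false), (85, false), (65, false), (10, false), (60, false), (15, true), (115, false)]),
    none,
    some (984818244535754528103549039458486304, 4208622,
      [(0, false), (5, true), (10, true), (15, true), (20, false), (25, true), (30, true), (35, true), (40, true), (45, true), (50, true), (55, false), (60, true), (65, true), (70, false), (75, false), (80, false), (85, false), (90, false), (95, false), (100, false), (105, false), (110, true), (115, false)]),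
    none,
    some (959766694484248460905683087736393760, 4294810,
      [(0, false), (5, true), (100, false), (110, true), (20, true), (25, false), (70, false), (35, true), (40, false), (50, false), (45, false), (80, true), (105, false), (95, false), (30, false), (75, true), (55, true), (90, false), (85, false), (65, false), (10, false), (60, false), (15, true), (115, false)]),
    none,
    some (984818244535754528103549039458486304, 4208622,
      [(0, false), (5, true), (10, true), (15, true), (20, false), (25, true), (30, true), (35, true), (40, true), (45, true), (50, true), (55, false), (60, true), (65, true), (70, false), (75, false), (80, false), (85, false), (90, false), (95, false), (100, false), (105, false), (110, true), (115, false)]),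
    none,
    some (959766694484248460905683087736393760, 4294810,
      [(0, false), (5, true), (100, false), (110, true), (20, true), (25, false), (70, false), (35, true), (40, false), (50, false), (45, false), (80, true), (105, false), (95, false), (30, false), (75, true), (55, true), (90, false), (85, false), (65, false), (10, false), (60, false), (15, true), (115, false)]),
    none,
    some (984818244535754528103549039458486304, 4208622,
      [(0, false), (5, true), (10, true), (15, true), (20, false), (25, true), (30, true), (35, true), (40, true), (45, true), (50, true), (55, false), (60, true), (65, true), (70, false), (75, false), (80, false), (85, false), (90, false), (95, false), (100, false), (105, false), (110, true), (115, false)]),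
    none,
    some (959766694484248460905683087736393760, 4294810,
      [(0, false), (5, true), (100, false), (110, true), (20, true), (25, false), (70, false), (35, true), (40, false), (50, false), (45, false), (80, true), (105, false), (95, false), (30, false), (75, true), (55, true), (90, false), (85, false), (65, false), (10, false), (60, false), (15, true), (115, false)]),
    none,
    some (356127670705835352453863109862035063, 388325,
      [(45, true), (80, false), (30, true), (10, false), (70, false), (20, true), (95, true), (100, true), (115, false), (90, false), (55, true), (105, true), (50, false), (85, true), (35, true), (25, true), (40, true), (75, false), (110, true), (5, false), (60, false), (65, false), (15, false), (0, false)])]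

/-- its inverse -/
def wKi10 : List Step :=
  [some (4436844539714522576534654492416521, 7998448,
      [(115, false), (95, false), (15, false), (110, false), (25, true), (75, true), (10, true), (70, true), (80, true), (0, true), (60, false), (50, true), (100, false), (105, false), (20, false), (85, false), (5, false), (65, true), (45, false), (30, true), (35, true), (55, true), (90, true), (40, false)]),
    none,
    some (959766694484248460905683087736393760, 4294810,
      [(0, false), (5, true), (100, false), (110, true), (20, true), (25, false), (70, false), (35, true), (40, false), (50, false), (45, false), (80, true), (105, false), (95, false), (30, false), (75, true), (55, true), (90, false), (85, false), (65, false), (10, false), (60, false), (15, true), (115, false)]),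
    none,
    some (984818244535754528103549039458486304, 4208622,
      [(0, false), (5, true), (10, true), (15, true), (20, false), (25, true), (30, true), (35, true), (40, true), (45, true), (50, true), (55, false), (60, true), (65, true), (70, false), (75, false), (80, false), (85, false), (90, false), (95, false), (100, false), (105, false), (110, true), (115, false)]),
    none,
    some (959766694484248460905683087736393760, 4294810,
      [(0, false), (5, true), (100, false), (110, true), (20, true), (25, false), (70, false), (35, true), (40, false), (50, false), (45, false), (80, true), (105, false), (95, false), (30, false), (75, true), (55, true), (90, false), (85, false), (65, false), (10, false), (60, false), (15, true), (115, false)]),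
    none,
    some (984818244535754528103549039458486304, 4208622,
      [(0, false), (5, true), (10, true), (15, true), (20, false), (25, true), (30, true), (35, true), (40, true), (45, true), (50, true), (55, false), (60, true), (65, true), (70, false), (75, false), (80, false), (85, false), (90, false), (95, false), (100, false), (105, false), (110, true), (115, false)]),
    none,
    some (959766694484248460905683087736393760, 4294810,
      [(0, false), (5, true), (100, false), (110, true), (20, true), (25, false), (70, false), (35, true), (40, false), (50, false), (45, false), (80, true), (105, false), (95, false), (30, false), (75, true), (55, true), (90, false), (85, false), (65, false), (10, false), (60, false), (15, true), (115, false)]),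
    none,
    some (984818244535754528103549039458486304, 4208622,
      [(0, false), (5, true), (10, true), (15, true), (20, false), (25, true), (30, true), (35, true), (40, true), (45, true), (50, true), (55, false), (60, true), (65, true), (70, false), (75, false), (80, false), (85, false), (90, false), (95, false), (100, false), (105, false), (110, true), (115, false)]),
    none,
    some (959766694484248460905683087736393760, 4294810,
      [(0, false), (5, true), (100, false), (110, true), (20, true), (25, false), (70, false), (35, true), (40, false), (50, false), (45, false), (80, true), (105, false), (95, false), (30, false), (75, true), (55, true), (90, false), (85, false), (65, false), (10, false), (60, false), (15, true), (115, false)]),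
    none,
    some (984818244535754528103549039458486304, 4208622,
      [(0, false), (5, true), (10, true), (15, true), (20, false), (25, true), (30, true), (35, true), (40, true), (45, true), (50, true), (55, false), (60, true), (65, true), (70, false), (75, false), (80, false), (85, false), (90, false), (95, false), (100, false), (105, false), (110, true), (115, false)]),
    none,
    some (959766694484248460905683087736393760, 4294810,
      [(0, false), (5, true), (100, false), (110, true), (20, true), (25, false), (70, false), (35, true), (40, false), (50, false), (45, false), (80, true), (105, false), (95, false), (30, false), (75, true), (55, true), (90, false), (85, false), (65, false), (10, false), (60, false), (15, true), (115, false)]),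
    none,
    some (984818244535754528103549039458486304, 4208622,
      [(0, false), (5, true), (10, true), (15, true), (20, false), (25, true), (30, true), (35, true), (40, true), (45, true), (50, true), (55, false), (60, true), (65, true), (70, false), (75, false), (80, false), (85, false), (90, false), (95, false), (100, false), (105, false), (110, true), (115, false)]),
    none,
    some (710505786531460167959594963047717262, 5875146,
      [(35, false), (70, true), (30, false), (110, true), (55, false), (15, false), (10, true), (95, true), (60, true), (45, false), (100, true), (105, false), (5, false), (80, true), (0, false), (65, true), (25, true), (115, false), (75, false), (90, true), (85, true), (50, false), (40, true), (20, false)])]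

/-- representative -/
def wT10 : List Step :=
  [some (984330238668445353307680420861740096, 8657159,
      [(0, true), (10, true), (5, true), (25, false), (65, false), (15, false), (50, false), (75, false), (55, true), (105, false), (30, false), (40, true), (60, true), (20, false), (70, false), (35, false), (80, false), (85, false), (90, true), (100, false), (95, false), (45, false), (110, false), (115, true)])]

/-- conjugating word -/
def wK11 : List Step :=
  [some (984156359457093402781366112297895330, 3917193,
      [(50, true), (85, false), (0, false), (60, true), (35, false), (105, false), (15, false), (80, true), (90, true), (30, false), (100, true), (25, false), (45, false), (5, false), (65, true), (95, true), (55, true), (10, true), (40, false), (20, true), (70, true), (75, true), (110, false), (115, false)]),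
    none,
    some (984818244535754528103549039458486304, 2564016,
      [(0, false), (5, false), (10, false), (15, false), (20, true), (25, true), (30, false), (35, true), (40, true), (45, true), (50, true), (55, true), (60, true), (65, false), (70, false), (75, false), (80, true), (85, true), (90, true), (95, false), (100, false), (105, true), (110, false), (115, false)]),
    none,
    some (984128441910436501433546742632122409, 12003792,
      [(45, false), (5, false), (10, false), (15, false), (105, true), (60, false), (55, true), (35, true), (40, true), (0, false), (75, false), (30, true), (25, false), (85, true), (95, false), (50, false), (90, true), (65, true), (80, true), (70, false), (100, true), (20, true), (110, false), (115, true)]),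
    none,
    some (984818244535754528103549039458486304, 2564016,
      [(0, false), (5, false), (10, false), (15, false), (20, true), (25, true), (30, false), (35, true), (40, true), (45, true), (50, true), (55, true), (60, true), (65, false), (70, false), (75, false), (80, true), (85, true), (90, true), (95, false), (100, false), (105, true), (110, false), (115, false)]),
    none,
    some (984128441910436501433546742632122409, 12003792,
      [(45, false), (5, false), (10, false), (15, false), (105, true), (60, false), (55, true), (35, true), (40, true), (0, false), (75, false), (30, true), (25, false), (85, true), (95, false), (50, false), (90, true), (65, true), (80, true), (70, false), (100, true), (20, true), (110, false), (115, true)]),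
    none,
    some (467961206398072539231038974118828071, 12656663,
      [(50, true), (5, true), (20, true), (85, false), (100, true), (70, false), (10, false), (0, false), (110, false), (95, false), (65, false), (115, false), (25, false), (75, true), (55, false), (80, false), (105, true), (30, false), (45, false), (60, false), (90, false), (35, false), (40, true), (15, true)])]

/-- its inverse -/
def wKi11 : List Step :=
  [some (135306976535715398017875821925535786, 3179802,
      [(35, false), (5, true), (30, false), (115, true), (10, true), (60, false), (85, false), (105, false), (110, true), (90, false), (0, true), (70, false), (95, false), (50, false), (25, false), (65, true), (75, false), (15, false), (100, false), (45, false), (20, true), (80, true), (40, false), (55, false)]),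
    none,
    some (984128441910436501433546742632122409, 12003792,
      [(45, false), (5, false), (10, false), (15, false), (105, true), (60, false), (55, true), (35, true), (40, true), (0, false), (75, false), (30, true), (25, false), (85, true), (95, false), (50, false), (90, true), (65, true), (80, true), (70, false), (100, true), (20, true), (110, false), (115, true)]),
    none,
    some (984818244535754528103549039458486304, 2564016,
      [(0, false), (5, false), (10, false), (15, false), (20, true), (25, true), (30, false), (35, true), (40, true), (45, true), (50, true), (55, true), (60, true), (65, false), (70, false), (75, false), (80, true), (85, true), (90, true), (95, false), (100, false), (105, true), (110, false), (115, false)]),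
    none,
    some (984128441910436501433546742632122409, 12003792,
      [(45, false), (5, false), (10, false), (15, false), (105, true), (60, false), (55, true), (35, true), (40, true), (0, false), (75, false), (30, true), (25, false), (85, true), (95, false), (50, false), (90, true), (65, true), (80, true), (70, false), (100, true), (20, true), (110, false), (115, true)]),
    none,
    some (984818244535754528103549039458486304, 2564016,
      [(0, false), (5, false), (10, false), (15, false), (20, true), (25, true), (30, false), (35, true), (40, true), (45, true), (50, true), (55, true), (60, true), (65, false), (70, false), (75, false), (80, true), (85, true), (90, true), (95, false), (100, false), (105, true), (110, false), (115, false)]),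
    none,
    some (984566642540110555082823635817595434, 1965076,
      [(10, false), (65, false), (85, true), (30, false), (95, true), (55, false), (45, false), (20, false), (90, false), (60, false), (0, true), (80, true), (15, true), (70, true), (100, true), (105, true), (35, true), (5, false), (40, true), (75, true), (50, true), (25, false), (110, false), (115, false)])]

/-- representative -/
def wT11 : List Step :=
  [some (984330238668445353307680420861740096, 8733800,
      [(0, false), (10, false), (5, false), (25, true), (65, false), (15, true), (50, true), (75, false), (55, false), (105, false), (30, true), (40, false), (60, false), (20, false), (70, true), (35, false), (80, true), (85, false), (90, true), (100, false), (95, false), (45, false), (110, false), (115, true)])]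

/-- conjugating word -/
def wK12 : List Step :=
  [some (468707713378832399533652845577821776, 7478453,
      [(70, true), (75, false), (105, true), (90, false), (50, true), (45, true), (95, false), (35, true), (65, false), (110, false), (25, true), (115, true), (40, true), (15, false), (20, false), (60, false), (0, false), (100, true), (5, false), (55, false), (85, true), (80, true), (30, true), (10, false)]),
    none,
    some (984818244535754528103549039458486304, 12668874,
      [(0, false), (5, true), (10, false), (15, true), (20, false), (25, false), (30, true), (35, true), (40, true), (45, true), (50, true), (55, true), (60, false), (65, false), (70, true), (75, false), (80, true), (85, false), (90, false), (95, false), (100, false), (105, false), (110, true), (115, true)]),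
    none,
    some (753760762796537020474958168287450336, 13549267,
      [(0, true), (35, true), (25, false), (15, false), (110, true), (10, false), (85, true), (5, true), (70, false), (45, true), (65, true), (55, true), (95, true), (50, true), (40, false), (75, true), (80, false), (30, true), (115, true), (60, true), (100, false), (105, false), (20, true), (90, true)]),
    none,
    some (984818244535754528103549039458486304, 12668874,
      [(0, false), (5, true), (10, false), (15, true), (20, false), (25, false), (30, true), (35, true), (40, true), (45, true), (50, true), (55, true), (60, false), (65, false), (70, true), (75, false), (80, true), (85, false), (90, false), (95, false), (100, false), (105, false), (110, true), (115, true)]),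
    none,
    some (753760762796537020474958168287450336, 13549267,
      [(0, true), (35, true), (25, false), (15, false), (110, true), (10, false), (85, true), (5, true), (70, false), (45, true), (65, true), (55, true), (95, true), (50, true), (40, false), (75, true), (80, false), (30, true), (115, true), (60, true), (100, false), (105, false), (20, true), (90, true)]),
    none,
    some (833814980822045739324353198612160198, 290352,
      [(80, false), (95, false), (110, false), (55, false), (100, true), (60, true), (0, false), (10, false), (75, false), (90, true), (65, true), (105, true), (15, false), (20, true), (35, true), (45, false), (40, false), (85, false), (50, true), (30, false), (115, false), (70, false), (5, false), (25, false)])]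

/-- its inverse -/
def wKi12 : List Step :=
  [some (209587262720297722503268315055905392, 3421328,
      [(30, false), (110, false), (35, false), (60, false), (65, true), (115, false), (95, false), (70, true), (80, false), (75, false), (90, true), (15, false), (25, true), (50, true), (105, false), (40, false), (0, false), (85, false), (45, true), (5, false), (20, true), (55, true), (10, false), (100, false)]),
    none,
    some (753760762796537020474958168287450336, 13549267,
      [(0, true), (35, true), (25, false), (15, false), (110, true), (10, false), (85, true), (5, true), (70, false), (45, true), (65, true), (55, true), (95, true), (50, true), (40, false), (75, true), (80, false), (30, true), (115, true), (60, true), (100, false), (105, false), (20, true), (90, true)]),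
    none,
    some (984818244535754528103549039458486304, 12668874,
      [(0, false), (5, true), (10, false), (15, true), (20, false), (25, false), (30, true), (35, true), (40, true), (45, true), (50, true), (55, true), (60, false), (65, false), (70, true), (75, false), (80, true), (85, false), (90, false), (95, false), (100, false), (105, false), (110, true), (115, true)]),
    none,
    some (753760762796537020474958168287450336, 13549267,
      [(0, true), (35, true), (25, false), (15, false), (110, true), (10, false), (85, true), (5, true), (70, false), (45, true), (65, true), (55, true), (95, true), (50, true), (40, false), (75, true), (80, false), (30, true), (115, true), (60, true), (100, false), (105, false), (20, true), (90, true)]),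
    none,
    some (984818244535754528103549039458486304, 12668874,
      [(0, false), (5, true), (10, false), (15, true), (20, false), (25, false), (30, true), (35, true), (40, true), (45, true), (50, true), (55, true), (60, false), (65, false), (70, true), (75, false), (80, true), (85, false), (90, false), (95, false), (100, false), (105, false), (110, true), (115, true)]),
    none,
    some (91536219958884799433030429697463790, 11749344,
      [(80, false), (90, false), (115, false), (65, false), (70, false), (50, true), (110, true), (35, true), (60, true), (25, true), (20, true), (95, false), (75, false), (40, false), (0, true), (5, false), (105, true), (100, true), (15, false), (30, false), (85, true), (10, true), (45, false), (55, true)])]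

/-- representative -/
def wT12 : List Step :=
  [some (984330238668445353307680420861740096, 12604486,
      [(0, false), (10, true), (5, true), (25, false), (65, false), (15, false), (50, true), (75, false), (55, false), (105, false), (30, true), (40, false), (60, true), (20, false), (70, true), (35, false), (80, false), (85, false), (90, false), (100, false), (95, false), (45, false), (110, true), (115, true)])]

/-- conjugating word -/
def wK13 : List Step :=
  [some (798896254954232383783046222374275782, 16020553,
      [(95, true), (15, false), (10, false), (80, true), (55, false), (30, false), (0, true), (110, false), (25, false), (40, false), (100, true), (75, false), (65, true), (85, true), (105, true), (20, false), (35, false), (45, false), (70, true), (115, false), (60, true), (50, true), (5, true), (90, true)]),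
    none,
    some (984818244535754528103549039458486304, 236787,
      [(0, true), (5, true), (10, false), (15, false), (20, true), (25, true), (30, true), (35, true), (40, false), (45, false), (50, true), (55, true), (60, true), (65, false), (70, false), (75, true), (80, true), (85, true), (90, false), (95, false), (100, false), (105, false), (110, false), (115, false)]),
    none,
    some (958207723013552237332991861821921546, 7001086,
      [(50, false), (40, true), (110, true), (15, true), (45, true), (105, true), (30, true), (35, true), (5, true), (20, true), (0, false), (80, false), (75, true), (65, false), (85, true), (60, true), (55, false), (70, true), (90, false), (95, true), (100, false), (25, true), (10, true), (115, false)]),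
    none,
    some (984818244535754528103549039458486304, 236787,
      [(0, true), (5, true), (10, false), (15, false), (20, true), (25, true), (30, true), (35, true), (40, false), (45, false), (50, true), (55, true), (60, true), (65, false), (70, false), (75, true), (80, true), (85, true), (90, false), (95, false), (100, false), (105, false), (110, false), (115, false)]),
    none,
    some (958207723013552237332991861821921546, 7001086,
      [(50, false), (40, true), (110, true), (15, true), (45, true), (105, true), (30, true), (35, true), (5, true), (20, true), (0, false), (80, false), (75, true), (65, false), (85, true), (60, true), (55, false), (70, true), (90, false), (95, true), (100, false), (25, true), (10, true), (115, false)]),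
    none,
    some (292605907410526675910140518832803948, 563843,
      [(80, true), (110, true), (20, false), (5, false), (10, false), (70, false), (40, false), (115, true), (15, false), (100, true), (65, false), (95, true), (0, true), (105, false), (30, false), (75, true), (55, false), (90, false), (60, false), (35, true), (50, false), (85, false), (25, false), (45, false)])]

/-- its inverse -/
def wKi13 : List Step :=
  [some (381038316184265833332631616593367760, 14254209,
      [(60, true), (15, false), (20, false), (40, false), (10, false), (110, false), (70, false), (95, true), (30, false), (115, false), (100, false), (80, false), (90, false), (50, false), (25, false), (75, true), (0, true), (105, false), (85, false), (55, true), (45, true), (65, false), (5, true), (35, true)]),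
    none,
    some (958207723013552237332991861821921546, 7001086,
      [(50, false), (40, true), (110, true), (15, true), (45, true), (105, true), (30, true), (35, true), (5, true), (20, true), (0, false), (80, false), (75, true), (65, false), (85, true), (60, true), (55, false), (70, true), (90, false), (95, true), (100, false), (25, true), (10, true), (115, false)]),
    none,
    some (984818244535754528103549039458486304, 236787,
      [(0, true), (5, true), (10, false), (15, false), (20, true), (25, true), (30, true), (35, true), (40, false), (45, false), (50, true), (55, true), (60, true), (65, false), (70, false), (75, true), (80, true), (85, true), (90, false), (95, false), (100, false), (105, false), (110, false), (115, false)]),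
    none,
    some (958207723013552237332991861821921546, 7001086,
      [(50, false), (40, true), (110, true), (15, true), (45, true), (105, true), (30, true), (35, true), (5, true), (20, true), (0, false), (80, false), (75, true), (65, false), (85, true), (60, true), (55, false), (70, true), (90, false), (95, true), (100, false), (25, true), (10, true), (115, false)]),
    none,
    some (984818244535754528103549039458486304, 236787,
      [(0, true), (5, true), (10, false), (15, false), (20, true), (25, true), (30, true), (35, true), (40, false), (45, false), (50, true), (55, true), (60, true), (65, false), (70, false), (75, true), (80, true), (85, true), (90, false), (95, false), (100, false), (105, false), (110, false), (115, false)]),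
    none,
    some (749410610654763789290345424217442419, 4158467,
      [(30, true), (110, true), (10, false), (5, false), (75, false), (40, false), (25, false), (80, false), (45, false), (85, false), (105, true), (20, false), (100, true), (60, true), (90, true), (55, false), (15, true), (65, true), (115, true), (0, true), (50, true), (70, true), (35, false), (95, false)])]

/-- representative -/
def wT13 : List Step :=
  [some (984330238668445353307680420861740096, 12650793,
      [(0, true), (10, false), (5, false), (25, true), (65, false), (15, true), (50, false), (75, false), (55, true), (105, false), (30, false), (40, true), (60, false), (20, false), (70, false), (35, false), (80, true), (85, false), (90, false), (100, false), (95, false), (45, false), (110, true), (115, true)])]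

/-- conjugating word -/
def wK14 : List Step :=
  [some (708247921005296642267606497407457295, 5986807,
      [(5, true), (110, true), (90, true), (95, false), (25, true), (20, true), (40, true), (70, true), (55, true), (65, false), (50, false), (30, true), (85, true), (15, false), (35, true), (0, false), (80, true), (115, true), (75, false), (105, true), (45, true), (100, false), (10, true), (60, false)]),
    none,
    some (984818244535754528103549039458486304, 10793623,
      [(0, true), (5, true), (10, true), (15, false), (20, true), (25, false), (30, false), (35, true), (40, false), (45, true), (50, false), (55, false), (60, true), (65, true), (70, false), (75, true), (80, false), (85, false), (90, true), (95, false), (100, false), (105, true), (110, false), (115, true)]),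
    none,
    some (955529212079806778062659120615032886, 421910,
      [(110, false), (5, true), (10, true), (105, false), (65, true), (45, false), (40, false), (35, false), (30, false), (25, false), (55, false), (50, false), (60, true), (20, true), (90, true), (75, false), (80, false), (85, true), (70, true), (100, false), (95, false), (15, false), (0, false), (115, false)]),
    none,
    some (984818244535754528103549039458486304, 10793623,
      [(0, true), (5, true), (10, true), (15, false), (20, true), (25, false), (30, false), (35, true), (40, false), (45, true), (50, false), (55, false), (60, true), (65, true), (70, false), (75, true), (80, false), (85, false), (90, true), (95, false), (100, false), (105, true), (110, false), (115, true)]),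
    none,
    some (955529212079806778062659120615032886, 421910,
      [(110, false), (5, true), (10, true), (105, false), (65, true), (45, false), (40, false), (35, false), (30, false), (25, false), (55, false), (50, false), (60, true), (20, true), (90, true), (75, false), (80, false), (85, true), (70, true), (100, false), (95, false), (15, false), (0, false), (115, false)]),
    none,
    some (984818244535754528103549039458486304, 10793623,
      [(0, true), (5, true), (10, true), (15, false), (20, true), (25, false), (30, false), (35, true), (40, false), (45, true), (50, false), (55, false), (60, true), (65, true), (70, false), (75, true), (80, false), (85, false), (90, true), (95, false), (100, false), (105, true), (110, false), (115, true)]),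
    none,
    some (955529212079806778062659120615032886, 421910,
      [(110, false), (5, true), (10, true), (105, false), (65, true), (45, false), (40, false), (35, false), (30, false), (25, false), (55, false), (50, false), (60, true), (20, true), (90, true), (75, false), (80, false), (85, true), (70, true), (100, false), (95, false), (15, false), (0, false), (115, false)]),
    none,
    some (984818244535754528103549039458486304, 10793623,
      [(0, true), (5, true), (10, true), (15, false), (20, true), (25, false), (30, false), (35, true), (40, false), (45, true), (50, false), (55, false), (60, true), (65, true), (70, false), (75, true), (80, false), (85, false), (90, true), (95, false), (100, false), (105, true), (110, false), (115, true)]),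
    none,
    some (955529212079806778062659120615032886, 421910,
      [(110, false), (5, true), (10, true), (105, false), (65, true), (45, false), (40, false), (35, false), (30, false), (25, false), (55, false), (50, false), (60, true), (20, true), (90, true), (75, false), (80, false), (85, true), (70, true), (100, false), (95, false), (15, false), (0, false), (115, false)]),
    none,
    some (984818244535754528103549039458486304, 10793623,
      [(0, true), (5, true), (10, true), (15, false), (20, true), (25, false), (30, false), (35, true), (40, false), (45, true), (50, false), (55, false), (60, true), (65, true), (70, false), (75, true), (80, false), (85, false), (90, true), (95, false), (100, false), (105, true), (110, false), (115, true)]),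
    none,
    some (955529212079806778062659120615032886, 421910,
      [(110, false), (5, true), (10, true), (105, false), (65, true), (45, false), (40, false), (35, false), (30, false), (25, false), (55, false), (50, false), (60, true), (20, true), (90, true), (75, false), (80, false), (85, true), (70, true), (100, false), (95, false), (15, false), (0, false), (115, false)]),
    none,
    some (819093135123808578855628475977681552, 10082482,
      [(105, false), (80, true), (20, false), (35, false), (70, true), (30, true), (100, false), (15, true), (55, false), (85, false), (50, false), (25, true), (45, true), (40, false), (65, true), (60, true), (0, true), (95, false), (10, false), (115, true), (5, true), (90, false), (75, false), (110, true)])]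

/-- its inverse -/
def wKi14 : List Step :=
  [some (934047709053211846118994597690708501, 12677739,
      [(80, true), (100, true), (90, false), (35, true), (10, false), (55, true), (25, true), (15, false), (65, false), (60, true), (50, false), (40, false), (75, true), (70, true), (20, true), (110, false), (5, true), (45, false), (105, false), (85, false), (30, false), (0, false), (115, true), (95, true)]),
    none,
    some (955529212079806778062659120615032886, 421910,
      [(110, false), (5, true), (10, true), (105, false), (65, true), (45, false), (40, false), (35, false), (30, false), (25, false), (55, false), (50, false), (60, true), (20, true), (90, true), (75, false), (80, false), (85, true), (70, true), (100, false), (95, false), (15, false), (0, false), (115, false)]),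
    none,
    some (984818244535754528103549039458486304, 10793623,
      [(0, true), (5, true), (10, true), (15, false), (20, true), (25, false), (30, false), (35, true), (40, false), (45, true), (50, false), (55, false), (60, true), (65, true), (70, false), (75, true), (80, false), (85, false), (90, true), (95, false), (100, false), (105, true), (110, false), (115, true)]),
    none,
    some (955529212079806778062659120615032886, 421910,
      [(110, false), (5, true), (10, true), (105, false), (65, true), (45, false), (40, false), (35, false), (30, false), (25, false), (55, false), (50, false), (60, true), (20, true), (90, true), (75, false), (80, false), (85, true), (70, true), (100, false), (95, false), (15, false), (0, false), (115, false)]),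
    none,
    some (984818244535754528103549039458486304, 10793623,
      [(0, true), (5, true), (10, true), (15, false), (20, true), (25, false), (30, false), (35, true), (40, false), (45, true), (50, false), (55, false), (60, true), (65, true), (70, false), (75, true), (80, false), (85, false), (90, true), (95, false), (100, false), (105, true), (110, false), (115, true)]),
    none,
    some (955529212079806778062659120615032886, 421910,
      [(110, false), (5, true), (10, true), (105, false), (65, true), (45, false), (40, false), (35, false), (30, false), (25, false), (55, false), (50, false), (60, true), (20, true), (90, true), (75, false), (80, false), (85, true), (70, true), (100, false), (95, false), (15, false), (0, false), (115, false)]),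
    none,
    some (984818244535754528103549039458486304, 10793623,
      [(0, true), (5, true), (10, true), (15, false), (20, true), (25, false), (30, false), (35, true), (40, false), (45, true), (50, false), (55, false), (60, true), (65, true), (70, false), (75, true), (80, false), (85, false), (90, true), (95, false), (100, false), (105, true), (110, false), (115, true)]),
    none,
    some (955529212079806778062659120615032886, 421910,
      [(110, false), (5, true), (10, true), (105, false), (65, true), (45, false), (40, false), (35, false), (30, false), (25, false), (55, false), (50, false), (60, true), (20, true), (90, true), (75, false), (80, false), (85, true), (70, true), (100, false), (95, false), (15, false), (0, false), (115, false)]),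
    none,
    some (984818244535754528103549039458486304, 10793623,
      [(0, true), (5, true), (10, true), (15, false), (20, true), (25, false), (30, false), (35, true), (40, false), (45, true), (50, false), (55, false), (60, true), (65, true), (70, false), (75, true), (80, false), (85, false), (90, true), (95, false), (100, false), (105, true), (110, false), (115, true)]),
    none,
    some (955529212079806778062659120615032886, 421910,
      [(110, false), (5, true), (10, true), (105, false), (65, true), (45, false), (40, false), (35, false), (30, false), (25, false), (55, false), (50, false), (60, true), (20, true), (90, true), (75, false), (80, false), (85, true), (70, true), (100, false), (95, false), (15, false), (0, false), (115, false)]),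
    none,
    some (984818244535754528103549039458486304, 10793623,
      [(0, true), (5, true), (10, true), (15, false), (20, true), (25, false), (30, false), (35, true), (40, false), (45, true), (50, false), (55, false), (60, true), (65, true), (70, false), (75, true), (80, false), (85, false), (90, true), (95, false), (100, false), (105, true), (110, false), (115, true)]),
    none,
    some (501880203462086587090591056093891265, 15158262,
      [(75, false), (0, true), (110, true), (65, false), (25, true), (20, true), (55, true), (70, true), (30, true), (100, true), (50, false), (40, true), (115, false), (45, false), (35, true), (90, false), (80, true), (60, true), (10, true), (15, false), (105, false), (95, true), (5, true), (85, true)])]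

/-- representative -/
def wT14 : List Step :=
  [some (984330238668445353307680420861740096, 12985424,
      [(0, false), (10, false), (5, false), (25, false), (65, true), (15, false), (50, true), (75, false), (55, false), (105, false), (30, true), (40, false), (60, false), (20, true), (70, false), (35, false), (80, false), (85, true), (90, true), (100, false), (95, false), (45, false), (110, true), (115, true)])]

/-- conjugating word -/
def wK15 : List Step :=
  [some (934821937360005894685957756142538120, 5108207,
      [(35, true), (55, true), (20, true), (40, true), (100, false), (105, true), (50, true), (85, true), (0, true), (15, false), (60, false), (90, false), (5, true), (25, true), (75, true), (95, true), (110, true), (45, false), (30, true), (10, true), (70, false), (80, false), (115, true), (65, false)]),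
    none,
    some (222103463768820458847648109528659457, 11797828,
      [(50, false), (0, false), (55, true), (105, false), (70, false), (115, false), (20, true), (85, false), (100, true), (15, false), (80, true), (110, false), (25, false), (10, false), (75, false), (30, false), (5, false), (40, false), (45, true), (60, false), (35, true), (90, true), (65, false), (95, true)]),
    none,
    some (984818244535754528103549039458486304, 7326111,
      [(0, true), (5, true), (10, true), (15, true), (20, true), (25, false), (30, false), (35, true), (40, true), (45, false), (50, false), (55, true), (60, false), (65, false), (70, true), (75, true), (80, true), (85, true), (90, true), (95, true), (100, false), (105, true), (110, true), (115, false)]),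
    none,
    some (806843614408838884693688253820873738, 1903248,
      [(5, false), (80, false), (65, false), (45, false), (30, true), (60, false), (75, false), (100, true), (85, false), (90, true), (0, false), (10, true), (95, false), (110, false), (20, false), (70, false), (50, true), (35, false), (105, true), (115, true), (40, true), (15, false), (55, false), (25, false)]),
    none,
    some (112512079683394464392119297690885230, 15970228,
      [(70, false), (15, false), (115, true), (5, false), (75, true), (85, true), (90, false), (35, true), (40, true), (65, true), (50, true), (55, true), (95, false), (45, true), (0, false), (20, true), (80, true), (25, true), (30, false), (60, false), (100, true), (105, true), (110, true), (10, true)]),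
    none,
    some (222103463768820458847648109528659457, 11797828,
      [(50, false), (0, false), (55, true), (105, false), (70, false), (115, false), (20, true), (85, false), (100, true), (15, false), (80, true), (110, false), (25, false), (10, false), (75, false), (30, false), (5, false), (40, false), (45, true), (60, false), (35, true), (90, true), (65, false), (95, true)]),
    none,
    some (984818244535754528103549039458486304, 7326111,
      [(0, true), (5, true), (10, true), (15, true), (20, true), (25, false), (30, false), (35, true), (40, true), (45, false), (50, false), (55, true), (60, false), (65, false), (70, true), (75, true), (80, true), (85, true), (90, true), (95, true), (100, false), (105, true), (110, true), (115, false)]),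
    none,
    some (806843614408838884693688253820873738, 1903248,
      [(5, false), (80, false), (65, false), (45, false), (30, true), (60, false), (75, false), (100, true), (85, false), (90, true), (0, false), (10, true), (95, false), (110, false), (20, false), (70, false), (50, true), (35, false), (105, true), (115, true), (40, true), (15, false), (55, false), (25, false)]),
    none,
    some (112512079683394464392119297690885230, 15970228,
      [(70, false), (15, false), (115, true), (5, false), (75, true), (85, true), (90, false), (35, true), (40, true), (65, true), (50, true), (55, true), (95, false), (45, true), (0, false), (20, true), (80, true), (25, true), (30, false), (60, false), (100, true), (105, true), (110, true), (10, true)]),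
    none,
    some (222103463768820458847648109528659457, 11797828,
      [(50, false), (0, false), (55, true), (105, false), (70, false), (115, false), (20, true), (85, false), (100, true), (15, false), (80, true), (110, false), (25, false), (10, false), (75, false), (30, false), (5, false), (40, false), (45, true), (60, false), (35, true), (90, true), (65, false), (95, true)]),
    none,
    some (524706002453954769213864694678360485, 9035526,
      [(100, false), (95, true), (15, true), (75, false), (10, false), (0, false), (55, false), (105, false), (80, true), (35, true), (85, true), (40, true), (115, true), (5, false), (65, true), (20, true), (30, true), (60, false), (45, false), (70, true), (110, false), (90, false), (25, false), (50, true)])]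

/-- its inverse -/
def wKi15 : List Step :=
  [some (422632741025136776205528061398453876, 9135576,
      [(25, false), (65, false), (20, false), (10, true), (75, true), (110, false), (80, true), (45, true), (55, true), (90, false), (115, true), (30, false), (85, false), (70, true), (95, true), (15, false), (40, true), (50, true), (105, false), (5, true), (0, false), (35, false), (100, false), (60, true)]),
    none,
    some (806843614408838884693688253820873738, 1903248,
      [(5, false), (80, false), (65, false), (45, false), (30, true), (60, false), (75, false), (100, true), (85, false), (90, true), (0, false), (10, true), (95, false), (110, false), (20, false), (70, false), (50, true), (35, false), (105, true), (115, true), (40, true), (15, false), (55, false), (25, false)]),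
    none,
    some (112512079683394464392119297690885230, 15970228,
      [(70, false), (15, false), (115, true), (5, false), (75, true), (85, true), (90, false), (35, true), (40, true), (65, true), (50, true), (55, true), (95, false), (45, true), (0, false), (20, true), (80, true), (25, true), (30, false), (60, false), (100, true), (105, true), (110, true), (10, true)]),
    none,
    some (222103463768820458847648109528659457, 11797828,
      [(50, false), (0, false), (55, true), (105, false), (70, false), (115, false), (20, true), (85, false), (100, true), (15, false), (80, true), (110, false), (25, false), (10, false), (75, false), (30, false), (5, false), (40, false), (45, true), (60, false), (35, true), (90, true), (65, false), (95, true)]),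
    none,
    some (984818244535754528103549039458486304, 7326111,
      [(0, true), (5, true), (10, true), (15, true), (20, true), (25, false), (30, false), (35, true), (40, true), (45, false), (50, false), (55, true), (60, false), (65, false), (70, true), (75, true), (80, true), (85, true), (90, true), (95, true), (100, false), (105, true), (110, true), (115, false)]),
    none,
    some (806843614408838884693688253820873738, 1903248,
      [(5, false), (80, false), (65, false), (45, false), (30, true), (60, false), (75, false), (100, true), (85, false), (90, true), (0, false), (10, true), (95, false), (110, false), (20, false), (70, false), (50, true), (35, false), (105, true), (115, true), (40, true), (15, false), (55, false), (25, false)]),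
    none,
    some (112512079683394464392119297690885230, 15970228,
      [(70, false), (15, false), (115, true), (5, false), (75, true), (85, true), (90, false), (35, true), (40, true), (65, true), (50, true), (55, true), (95, false), (45, true), (0, false), (20, true), (80, true), (25, true), (30, false), (60, false), (100, true), (105, true), (110, true), (10, true)]),
    none,
    some (222103463768820458847648109528659457, 11797828,
      [(50, false), (0, false), (55, true), (105, false), (70, false), (115, false), (20, true), (85, false), (100, true), (15, false), (80, true), (110, false), (25, false), (10, false), (75, false), (30, false), (5, false), (40, false), (45, true), (60, false), (35, true), (90, true), (65, false), (95, true)]),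
    none,
    some (984818244535754528103549039458486304, 7326111,
      [(0, true), (5, true), (10, true), (15, true), (20, true), (25, false), (30, false), (35, true), (40, true), (45, false), (50, false), (55, true), (60, false), (65, false), (70, true), (75, true), (80, true), (85, true), (90, true), (95, true), (100, false), (105, true), (110, true), (115, false)]),
    none,
    some (806843614408838884693688253820873738, 1903248,
      [(5, false), (80, false), (65, false), (45, false), (30, true), (60, false), (75, false), (100, true), (85, false), (90, true), (0, false), (10, true), (95, false), (110, false), (20, false), (70, false), (50, true), (35, false), (105, true), (115, true), (40, true), (15, false), (55, false), (25, false)]),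
    none,
    some (570521451471222829815768007978520935, 15371767,
      [(40, true), (60, true), (95, true), (45, false), (10, true), (65, true), (90, true), (0, true), (15, true), (85, false), (30, true), (5, true), (50, false), (115, false), (100, false), (70, true), (105, false), (35, true), (55, false), (75, true), (20, false), (25, true), (80, true), (110, true)])]

/-- representative -/
def wT15 : List Step :=
  [some (984330238668445353307680420861740096, 13062145,
      [(0, true), (10, false), (5, false), (25, false), (65, false), (15, false), (50, false), (75, false), (55, false), (105, false), (30, false), (40, false), (60, true), (20, false), (70, true), (35, false), (80, true), (85, true), (90, true), (100, false), (95, false), (45, false), (110, true), (115, true)])]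

/-- conjugating word -/
def wK16 : List Step :=
  [some (976302082949098371911667970332735082, 4906134,
      [(85, false), (50, true), (80, true), (105, false), (25, true), (35, false), (65, false), (70, true), (60, false), (15, false), (0, true), (30, true), (55, true), (10, false), (90, true), (20, true), (110, false), (95, true), (40, false), (5, true), (75, false), (45, false), (100, true), (115, false)]),
    none,
    some (984818244535754528103549039458486304, 15899910,
      [(0, false), (5, true), (10, true), (15, false), (20, false), (25, false), (30, false), (35, false), (40, true), (45, false), (50, true), (55, true), (60, true), (65, false), (70, false), (75, true), (80, false), (85, true), (90, false), (95, false), (100, true), (105, true), (110, true), (115, true)]),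
    none,
    some (434395342644733635037191554918323686, 9123748,
      [(30, false), (75, false), (25, true), (90, false), (55, false), (10, true), (0, false), (40, true), (35, true), (85, true), (115, true), (20, false), (65, true), (60, true), (110, false), (5, false), (95, true), (45, true), (15, false), (80, true), (105, false), (100, false), (70, false), (50, true)]),
    none,
    some (984818244535754528103549039458486304, 15899910,
      [(0, false), (5, true), (10, true), (15, false), (20, false), (25, false), (30, false), (35, false), (40, true), (45, false), (50, true), (55, true), (60, true), (65, false), (70, false), (75, true), (80, false), (85, true), (90, false), (95, false), (100, true), (105, true), (110, true), (115, true)]),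
    none,
    some (434395342644733635037191554918323686, 9123748,
      [(30, false), (75, false), (25, true), (90, false), (55, false), (10, true), (0, false), (40, true), (35, true), (85, true), (115, true), (20, false), (65, true), (60, true), (110, false), (5, false), (95, true), (45, true), (15, false), (80, true), (105, false), (100, false), (70, false), (50, true)]),
    none,
    some (934187809721585739867602801716137349, 1502971,
      [(85, true), (45, true), (75, false), (10, true), (30, true), (0, true), (25, true), (95, true), (35, false), (65, true), (70, true), (20, true), (5, false), (80, true), (60, true), (110, true), (100, false), (15, true), (50, true), (55, false), (40, true), (105, false), (115, false), (90, false)])]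

/-- its inverse -/
def wKi16 : List Step :=
  [some (778408905249121144957925149435313457, 4945789,
      [(25, true), (60, false), (15, true), (85, true), (55, true), (30, true), (20, true), (40, false), (100, true), (5, true), (90, true), (95, false), (70, true), (45, true), (50, true), (10, false), (65, true), (0, true), (115, false), (35, true), (80, false), (105, false), (75, true), (110, false)]),
    none,
    some (434395342644733635037191554918323686, 9123748,
      [(30, false), (75, false), (25, true), (90, false), (55, false), (10, true), (0, false), (40, true), (35, true), (85, true), (115, true), (20, false), (65, true), (60, true), (110, false), (5, false), (95, true), (45, true), (15, false), (80, true), (105, false), (100, false), (70, false), (50, true)]),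
    none,
    some (984818244535754528103549039458486304, 15899910,
      [(0, false), (5, true), (10, true), (15, false), (20, false), (25, false), (30, false), (35, false), (40, true), (45, false), (50, true), (55, true), (60, true), (65, false), (70, false), (75, true), (80, false), (85, true), (90, false), (95, false), (100, true), (105, true), (110, true), (115, true)]),
    none,
    some (434395342644733635037191554918323686, 9123748,
      [(30, false), (75, false), (25, true), (90, false), (55, false), (10, true), (0, false), (40, true), (35, true), (85, true), (115, true), (20, false), (65, true), (60, true), (110, false), (5, false), (95, true), (45, true), (15, false), (80, true), (105, false), (100, false), (70, false), (50, true)]),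
    none,
    some (984818244535754528103549039458486304, 15899910,
      [(0, false), (5, true), (10, true), (15, false), (20, false), (25, false), (30, false), (35, false), (40, true), (45, false), (50, true), (55, true), (60, true), (65, false), (70, false), (75, true), (80, false), (85, true), (90, false), (95, false), (100, true), (105, true), (110, true), (115, true)]),
    none,
    some (981728254674348866135374295492903249, 1920115,
      [(50, true), (95, true), (65, false), (45, false), (75, true), (20, true), (55, true), (25, false), (90, false), (105, false), (5, true), (60, true), (40, false), (30, false), (35, true), (100, false), (10, true), (0, false), (70, true), (85, true), (110, true), (15, false), (80, false), (115, false)])]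

/-- representative -/
def wT16 : List Step :=
  [some (1645554591871241457770148299124439, 0,
      [(115, false), (110, false), (55, false), (95, false), (50, false), (30, false), (25, false), (80, false), (105, false), (75, false), (20, false), (10, false), (70, false), (85, false), (60, false), (45, false), (35, false), (65, false), (100, false), (15, false), (90, false), (40, false), (5, false), (0, false)])]

/-- representatives: permutation, mask, word, target, conjugator -/
def reps : List (ℕ × ℕ × List Step × List Step × List Step × List Step) :=
  [(984330238668445353307680420861740096, 0, wT0, wR8, wK0, wKi0),
   (984330238668445353307680420861740096, 95313, wT1, wR12, wK1, wKi1),
   (984330238668445353307680420861740096, 416040, wT2, wR12, wK2, wKi2),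
   (984330238668445353307680420861740096, 459847, wT3, wR12, wK3, wKi3),
   (984330238668445353307680420861740096, 4330601, wT4, wR12, wK4, wKi4),
   (984330238668445353307680420861740096, 4409606, wT5, wR12, wK5, wKi5),
   (984330238668445353307680420861740096, 4476225, wT6, wR12, wK6, wKi6),
   (984330238668445353307680420861740096, 4526126, wT7, wR12, wK7, wKi7),
   (984330238668445353307680420861740096, 8536111, wT8, wR12, wK8, wKi8),
   (984330238668445353307680420861740096, 8592704, wT9, wR12, wK9, wKi9),
   (984330238668445353307680420861740096, 8657159, wT10, wR12, wK10, wKi10),
   (984330238668445353307680420861740096, 8733800, wT11, wR12, wK11, wKi11),
   (984330238668445353307680420861740096, 12604486, wT12, wR12, wK12, wKi12),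
   (984330238668445353307680420861740096, 12650793, wT13, wR12, wK13, wKi13),
   (984330238668445353307680420861740096, 12985424, wT14, wR12, wK14, wKi14),
   (984330238668445353307680420861740096, 13062145, wT15, wR16, wK15, wKi15),
   (1645554591871241457770148299124439, 0, wT16, wR12, wK16, wKi16)]

/-- preimages of the image of one plus the permutation -/
def fOne : List ℕ :=
  [0, 1728778, 2605066, 4038912, 4845570, 5476616, 7221256, 7622914, 8581192, 9998658, 10825794, 12538184, 13303882, 13721920, 15515712, 16163146]

/-- preimages of the image of one plus the permutation -/
def fTwo : List ℕ :=
  [0, 421910, 692282, 843820, 1302533, 1413139, 1667135, 2031657, 2207772, 2605066, 2826278, 2969648, 3297305, 3416079, 3719203, 4108341, 4415544, 4526126, 4845570, 5210132, 5275709, 5697579, 5902343, 6053905, 6475812, 6594610, 6832158, 7221256, 7417889, 7815223, 8101915, 8245261, 8536111, 8663097, 8966165, 9347075, 9543722, 9949244, 10170384, 10305542, 10743859, 10846245, 11100169, 11472927, 11538486, 11952160, 12222476, 12382234, 12656663, 13062145, 13348909, 13484091, 13811730, 13938692, 14176296, 14557246, 14716939, 15130653, 15335473, 15495207, 15953934, 16056344, 16375860, 16748578]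

end Cfsg.Agent.CoZeroInvolData
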