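import Cfsg.Agent.Lib.LeechCert

/-!
Words used for the automorphism bounds of the lattice groups.
-/

set_option autoImplicit false

namespace Cfsg.Agent.LeechOutData

open Cfsg.Agent.LeechCert (Step)

/-- the element of order 23 -/
def w23 : List Step :=
  [some (956302485175575353788796878166559809, 0,
      [(110, false), (0, false), (5, false), (10, false), (15, false), (20, false), (25, false), (30, false), (35, false), (40, false), (45, false), (50, false), (55, false), (60, false), (65, false), (70, false), (75, false), (80, false), (85, false), (90, false), (95, false), (100, false), (105, false), (115, false)])]

/-- its inverse -/
def w23i : List Step :=
  [some (983478296959358443554250846857397270, 0,
      [(5, false), (10, false), (15, false), (20, false), (25, false), (30, false), (35, false), (40, false), (45, false), (50, false), (55, false), (60, false), (65, false), (70, false), (75, false), (80, false), (85, false), (90, false), (95, false), (100, false), (105, false), (110, false), (0, false), (115, false)])]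

/-- the element of order 11 -/
def w11 : List Step :=
  [some (983435072843990828779021698901151808, 0,
      [(0, false), (60, false), (5, false), (65, false), (10, false), (70, false), (15, false), (75, false), (20, false), (80, false), (25, false), (85, false), (30, false), (90, false), (35, false), (95, false), (40, false), (100, false), (45, false), (105, false), (50, false), (110, false), (55, false), (115, false)])]

/-- its inverse -/
def w11i : List Step :=
  [some (970567384681219435340729552166356352, 0,
      [(0, false), (10, false), (20, false), (30, false), (40, false), (50, false), (60, false), (70, false), (80, false), (90, false), (100, false), (110, false), (5, false), (15, false), (25, false), (35, false), (45, false), (55, false), (65, false), (75, false), (85, false), (95, false), (105, false), (115, false)])]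

/-- the element of order 5 -/
def wU : List Step :=
  [some (965300289861748889990672440075108384, 0,
      [(0, false), (5, false), (40, false), (20, false), (90, false), (25, false), (45, false), (110, false), (30, false), (80, false), (85, false), (50, false), (15, false), (60, false), (75, false), (100, false), (10, false), (35, false), (65, false), (70, false), (105, false), (95, false), (55, false), (115, false)])]

/-- its inverse -/
def wUi : List Step :=
  [some (970459361523271695787015306425278496, 0,
      [(0, false), (5, false), (80, false), (60, false), (15, false), (25, false), (40, false), (85, false), (10, false), (30, false), (55, false), (110, false), (65, false), (90, false), (95, false), (70, false), (45, false), (50, false), (20, false), (105, false), (75, false), (100, false), (35, false), (115, false)])]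

/-- the central involution -/
def wNeg : List Step :=
  [some (984818244535754528103549039458486304, 16777215,
      [(0, true), (5, true), (10, true), (15, true), (20, true), (25, true), (30, true), (35, true), (40, true), (45, true), (50, true), (55, true), (60, true), (65, true), (70, true), (75, true), (80, true), (85, true), (90, true), (95, true), (100, true), (105, true), (110, true), (115, true)])]

/-- elements commuting with the element of order 11, one for each image of the frame vector -/
def g11ws : List (List Step) :=
  [[some (975321029209702984740283278908700806, 715640,
      [(70, false), (55, false), (50, false), (85, true), (5, true), (90, true), (0, true), (15, false), (65, true), (80, true), (20, false), (105, true), (30, false), (40, true), (10, true), (110, true), (100, false), (75, true), (35, false), (60, true), (95, false), (45, false), (25, false), (115, false)]),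
    none,
    some (276676531263665847622539139616495629, 0,
      [(5, false), (20, false), (85, false), (40, false), (105, false), (30, false), (115, false), (70, false), (35, false), (95, false), (25, false), (50, false), (45, false), (0, false), (65, false), (60, false), (55, false), (80, false), (90, false), (100, false), (15, false), (110, false), (10, false), (75, false)]),
    none,
    some (644546653258293667307640344482091342, 0,
      [(90, false), (20, false), (65, false), (85, false), (10, false), (80, false), (75, false), (60, false), (50, false), (100, false), (5, false), (55, false), (70, false), (35, false), (0, false), (115, false), (110, false), (105, false), (25, false), (30, false), (40, false), (95, false), (15, false), (45, false)]),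
    none,
    some (234288825908508569179514863627538704, 657763,
      [(15, true), (80, true), (25, false), (30, false), (10, false), (115, true), (60, true), (55, false), (5, true), (95, false), (75, false), (40, true), (85, false), (45, false), (90, false), (105, false), (0, false), (70, true), (35, false), (20, true), (110, false), (100, false), (65, false), (50, false)])],
   [some (968891550660210725515474965340856385, 5820827,
      [(100, true), (0, true), (5, false), (70, true), (80, true), (60, false), (55, false), (15, true), (10, true), (90, false), (110, false), (45, false), (50, true), (105, false), (35, true), (30, true), (40, false), (65, false), (75, false), (20, true), (25, true), (95, false), (85, true), (115, false)]),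
    none,
    some (91516241474273382408632685393368628, 138790,
      [(65, false), (100, true), (115, true), (40, false), (85, false), (20, true), (110, false), (75, false), (15, false), (80, true), (50, true), (30, true), (35, true), (25, false), (45, false), (55, false), (105, false), (5, true), (95, false), (60, false), (0, false), (10, false), (70, false), (90, false)]),
    none,
    some (276676531263665847622539139616495629, 0,
      [(5, false), (20, false), (85, false), (40, false), (105, false), (30, false), (115, false), (70, false), (35, false), (95, false), (25, false), (50, false), (45, false), (0, false), (65, false), (60, false), (55, false), (80, false), (90, false), (100, false), (15, false), (110, false), (10, false), (75, false)]),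
    none,
    some (666293833341281624017124613088226434, 0,
      [(90, false), (110, false), (0, false), (60, false), (5, false), (95, false), (20, false), (50, false), (85, false), (105, false), (45, false), (10, false), (65, false), (100, false), (40, false), (70, false), (115, false), (75, false), (55, false), (80, false), (15, false), (35, false), (30, false), (25, false)]),
    none],
   [some (984818244535754528103549039458486304, 16436384,
      [(0, false), (5, false), (10, false), (15, false), (20, false), (25, true), (30, false), (35, true), (40, false), (45, false), (50, true), (55, true), (60, false), (65, false), (70, true), (75, true), (80, false), (85, true), (90, false), (95, true), (100, true), (105, true), (110, true), (115, true)])],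
   [],
   [some (955612715690161736059594395364055121, 570301,
      [(110, true), (75, false), (5, true), (60, true), (55, true), (105, true), (20, false), (85, true), (80, true), (45, true), (30, false), (40, false), (90, true), (25, true), (15, false), (65, true), (95, false), (0, false), (50, false), (70, true), (35, false), (100, false), (10, false), (115, false)]),
    none,
    some (260118478676720496882887167564196214, 0,
      [(80, false), (50, false), (60, false), (25, false), (35, false), (75, false), (115, false), (30, false), (110, false), (95, false), (10, false), (5, false), (105, false), (100, false), (65, false), (70, false), (45, false), (90, false), (20, false), (40, false), (15, false), (55, false), (0, false), (85, false)]),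
    none,
    some (4803968924354815597490008686114952, 12584506,
      [(115, false), (15, true), (70, false), (110, true), (5, true), (80, true), (85, false), (90, false), (0, false), (40, true), (65, true), (50, false), (55, false), (100, false), (10, false), (35, false), (30, false), (75, false), (60, false), (20, false), (25, false), (95, false), (105, true), (45, true)]),
    none,
    some (984818244535754528103549039458486304, 9503954,
      [(0, false), (5, true), (10, false), (15, false), (20, true), (25, false), (30, true), (35, true), (40, false), (45, false), (50, true), (55, false), (60, false), (65, false), (70, false), (75, false), (80, true), (85, false), (90, false), (95, false), (100, true), (105, false), (110, false), (115, true)])],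
   [some (978239684710435152265543671554051092, 418953,
      [(5, true), (95, false), (55, false), (10, true), (35, false), (25, false), (60, false), (85, true), (45, false), (20, false), (15, true), (30, false), (90, false), (65, true), (75, true), (100, false), (40, false), (110, true), (50, true), (105, false), (0, false), (70, false), (80, false), (115, false)]),
    none,
    some (964834997902029136082283649678021954, 0,
      [(100, false), (80, false), (0, false), (15, false), (50, false), (10, false), (75, false), (110, false), (25, false), (105, false), (5, false), (45, false), (70, false), (65, false), (30, false), (85, false), (90, false), (60, false), (20, false), (95, false), (40, false), (35, false), (55, false), (115, false)]),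
    none,
    some (736460095769455351644264557428595203, 0,
      [(25, false), (65, false), (70, false), (0, false), (100, false), (50, false), (20, false), (15, false), (40, false), (35, false), (30, false), (105, false), (55, false), (45, false), (75, false), (90, false), (5, false), (115, false), (95, false), (80, false), (60, false), (85, false), (10, false), (110, false)]),
    none,
    some (167958663261563241555070748387823179, 0,
      [(95, false), (110, false), (55, false), (15, false), (115, false), (25, false), (70, false), (45, false), (80, false), (75, false), (35, false), (0, false), (105, false), (40, false), (20, false), (65, false), (100, false), (30, false), (5, false), (10, false), (50, false), (60, false), (85, false), (90, false)])]]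

/-- monomial maps commuting with the element of order 11 -/
def m11 : List Step :=
  [some (984818244535754528103549039458486304, 0,
      [(0, false), (5, false), (10, false), (15, false), (20, false), (25, false), (30, false), (35, false), (40, false), (45, false), (50, false), (55, false), (60, false), (65, false), (70, false), (75, false), (80, false), (85, false), (90, false), (95, false), (100, false), (105, false), (110, false), (115, false)]),
   some (984818244535754528103549039458486304, 340831,
      [(0, true), (5, true), (10, true), (15, true), (20, true), (25, false), (30, true), (35, false), (40, true), (45, true), (50, false), (55, false), (60, true), (65, true), (70, false), (75, false), (80, true), (85, false), (90, true), (95, false), (100, false), (105, false), (110, false), (115, false)]),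
   some (983435072843990828779021698901151808, 0,
      [(0, false), (60, false), (5, false), (65, false), (10, false), (70, false), (15, false), (75, false), (20, false), (80, false), (25, false), (85, false), (30, false), (90, false), (35, false), (95, false), (40, false), (100, false), (45, false), (105, false), (50, false), (110, false), (55, false), (115, false)]),
   some (983435072843990828779021698901151808, 340831,
      [(0, true), (60, true), (5, true), (65, true), (10, true), (70, false), (15, true), (75, false), (20, true), (80, true), (25, false), (85, false), (30, true), (90, true), (35, false), (95, false), (40, true), (100, false), (45, true), (105, false), (50, false), (110, false), (55, false), (115, false)]),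
   some (980668730378935070469623699575545984, 0,
      [(0, false), (30, false), (60, false), (90, false), (5, false), (35, false), (65, false), (95, false), (10, false), (40, false), (70, false), (100, false), (15, false), (45, false), (75, false), (105, false), (20, false), (50, false), (80, false), (110, false), (25, false), (55, false), (85, false), (115, false)]),
   some (980668730378935070469623699575545984, 340831,
      [(0, true), (30, true), (60, true), (90, true), (5, true), (35, false), (65, true), (95, false), (10, true), (40, true), (70, false), (100, false), (15, true), (45, true), (75, false), (105, false), (20, true), (50, false), (80, true), (110, false), (25, false), (55, false), (85, false), (115, false)]),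
   some (975166140090675008210365318152896768, 0,
      [(0, false), (15, false), (30, false), (45, false), (60, false), (75, false), (90, false), (105, false), (5, false), (20, false), (35, false), (50, false), (65, false), (80, false), (95, false), (110, false), (10, false), (25, false), (40, false), (55, false), (70, false), (85, false), (100, false), (115, false)]),
   some (975166140090675008210365318152896768, 340831,
      [(0, true), (15, true), (30, true), (45, true), (60, true), (75, false), (90, true), (105, false), (5, true), (20, true), (35, false), (50, false), (65, true), (80, true), (95, false), (110, false), (10, true), (25, false), (40, true), (55, false), (70, false), (85, false), (100, false), (115, false)]),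
   some (965063883269089610517257152230401536, 0,
      [(0, false), (65, false), (15, false), (80, false), (30, false), (95, false), (45, false), (110, false), (60, false), (10, false), (75, false), (25, false), (90, false), (40, false), (105, false), (55, false), (5, false), (70, false), (20, false), (85, false), (35, false), (100, false), (50, false), (115, false)]),
   some (965063883269089610517257152230401536, 340831,
      [(0, true), (65, true), (15, true), (80, true), (30, true), (95, false), (45, true), (110, false), (60, true), (10, true), (75, false), (25, false), (90, true), (40, true), (105, false), (55, false), (5, true), (70, false), (20, true), (85, false), (35, false), (100, false), (50, false), (115, false)]),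
   some (973782968399780250007192978068752672, 0,
      [(0, false), (90, false), (65, false), (40, false), (15, false), (105, false), (80, false), (55, false), (30, false), (5, false), (95, false), (70, false), (45, false), (20, false), (110, false), (85, false), (60, false), (35, false), (10, false), (100, false), (75, false), (50, false), (25, false), (115, false)]),
   some (973782968399780250007192978068752672, 340831,
      [(0, true), (90, true), (65, true), (40, true), (15, true), (105, false), (80, true), (55, false), (30, true), (5, true), (95, false), (70, false), (45, true), (20, true), (110, false), (85, false), (60, true), (35, false), (10, true), (100, false), (75, false), (50, false), (25, false), (115, false)]),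
   some (962298451038133363011374430748423744, 0,
      [(0, false), (45, false), (90, false), (20, false), (65, false), (110, false), (40, false), (85, false), (15, false), (60, false), (105, false), (35, false), (80, false), (10, false), (55, false), (100, false), (30, false), (75, false), (5, false), (50, false), (95, false), (25, false), (70, false), (115, false)]),
   some (962298451038133363011374430748423744, 340831,
      [(0, true), (45, true), (90, true), (20, true), (65, true), (110, false), (40, true), (85, false), (15, true), (60, true), (105, false), (35, false), (80, true), (10, true), (55, false), (100, false), (30, true), (75, false), (5, true), (50, false), (95, false), (25, false), (70, false), (115, false)]),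
   some (969184212989482915311201746032266656, 0,
      [(0, false), (80, false), (45, false), (10, false), (90, false), (55, false), (20, false), (100, false), (65, false), (30, false), (110, false), (75, false), (40, false), (5, false), (85, false), (50, false), (15, false), (95, false), (60, false), (25, false), (105, false), (70, false), (35, false), (115, false)]),
   some (969184212989482915311201746032266656, 340831,
      [(0, true), (80, true), (45, true), (10, true), (90, true), (55, false), (20, true), (100, false), (65, true), (30, true), (110, false), (75, false), (40, true), (5, true), (85, false), (50, false), (15, true), (95, false), (60, true), (25, false), (105, false), (70, false), (35, false), (115, false)]),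
   some (982051901153124072706648311500937312, 0,
      [(0, false), (40, false), (80, false), (5, false), (45, false), (85, false), (10, false), (50, false), (90, false), (15, false), (55, false), (95, false), (20, false), (60, false), (100, false), (25, false), (65, false), (105, false), (30, false), (70, false), (110, false), (35, false), (75, false), (115, false)]),
   some (982051901153124072706648311500937312, 340831,
      [(0, true), (40, true), (80, true), (5, true), (45, true), (85, false), (10, true), (50, false), (90, true), (15, true), (55, false), (95, false), (20, true), (60, true), (100, false), (25, false), (65, true), (105, false), (30, true), (70, false), (110, false), (35, false), (75, false), (115, false)]),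
   some (977903326592794432676351619257413824, 0,
      [(0, false), (20, false), (40, false), (60, false), (80, false), (100, false), (5, false), (25, false), (45, false), (65, false), (85, false), (105, false), (10, false), (30, false), (50, false), (70, false), (90, false), (110, false), (15, false), (35, false), (55, false), (75, false), (95, false), (115, false)]),
   some (977903326592794432676351619257413824, 340831,
      [(0, true), (20, true), (40, true), (60, true), (80, true), (100, false), (5, true), (25, false), (45, true), (65, true), (85, false), (105, false), (10, true), (30, true), (50, false), (70, false), (90, true), (110, false), (15, true), (35, false), (55, false), (75, false), (95, false), (115, false)]),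
   some (970567384681219435340729552166356352, 0,
      [(0, false), (10, false), (20, false), (30, false), (40, false), (50, false), (60, false), (70, false), (80, false), (90, false), (100, false), (110, false), (5, false), (15, false), (25, false), (35, false), (45, false), (55, false), (65, false), (75, false), (85, false), (95, false), (105, false), (115, false)]),
   some (970567384681219435340729552166356352, 340831,
      [(0, true), (10, true), (20, true), (30, true), (40, true), (50, false), (60, true), (70, false), (80, true), (90, true), (100, false), (110, false), (5, true), (15, true), (25, false), (35, false), (45, true), (55, false), (65, true), (75, false), (85, false), (95, false), (105, false), (115, false)])]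

/-- elements inverting the element of order 11 -/
def n11ws : List (List Step) :=
  [[some (23738686339186281899546858814486711, 340831,
      [(115, true), (25, true), (70, true), (85, true), (35, true), (5, false), (100, true), (20, false), (75, true), (105, true), (60, false), (65, false), (50, true), (55, true), (10, false), (40, false), (95, true), (15, false), (110, true), (80, false), (30, false), (45, false), (90, false), (0, false)])],
   [some (969933249743352696396980950167861257, 5601351,
      [(5, true), (45, true), (35, true), (20, false), (25, false), (70, false), (105, true), (60, false), (75, false), (0, false), (80, false), (110, true), (65, true), (95, true), (10, true), (90, false), (85, true), (55, false), (30, true), (50, false), (15, true), (40, false), (100, true), (115, false)]),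
    none,
    some (520619172474468596884319397501715108, 10537016,
      [(70, false), (65, false), (105, false), (95, true), (0, true), (55, true), (50, false), (15, false), (100, false), (75, false), (80, false), (85, true), (115, false), (35, false), (40, true), (30, true), (10, false), (110, false), (90, false), (60, false), (45, false), (5, true), (20, false), (25, true)]),
    none,
    some (964046426277136328948210009862447124, 8716939,
      [(5, true), (30, true), (55, false), (50, true), (15, false), (90, false), (110, false), (20, true), (10, false), (80, true), (70, false), (65, false), (85, false), (60, false), (45, false), (75, false), (35, true), (95, false), (100, true), (40, false), (0, false), (105, false), (25, false), (115, true)]),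
    none,
    some (429808902444389950329527509689080400, 0,
      [(55, false), (40, false), (90, false), (105, false), (80, false), (30, false), (10, false), (70, false), (25, false), (15, false), (115, false), (110, false), (45, false), (85, false), (95, false), (20, false), (0, false), (60, false), (5, false), (100, false), (50, false), (65, false), (75, false), (35, false)]),
    none],
   [some (969920935675546047505360147364519953, 684577,
      [(5, true), (40, false), (35, false), (75, false), (80, false), (25, true), (105, false), (45, false), (10, false), (85, true), (70, false), (110, false), (100, true), (65, true), (20, true), (30, false), (55, false), (0, true), (15, false), (50, true), (90, false), (60, false), (95, false), (115, false)]),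
    none,
    some (260118478676720496882887167564196214, 0,
      [(80, false), (50, false), (60, false), (25, false), (35, false), (75, false), (115, false), (30, false), (110, false), (95, false), (10, false), (5, false), (105, false), (100, false), (65, false), (70, false), (45, false), (90, false), (20, false), (40, false), (15, false), (55, false), (0, false), (85, false)]),
    none,
    some (4803968924354815597490008686114952, 12584506,
      [(115, false), (15, true), (70, false), (110, true), (5, true), (80, true), (85, false), (90, false), (0, false), (40, true), (65, true), (50, false), (55, false), (100, false), (10, false), (35, false), (30, false), (75, false), (60, false), (20, false), (25, false), (95, false), (105, true), (45, true)]),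
    none,
    some (984818244535754528103549039458486304, 9503954,
      [(0, false), (5, true), (10, false), (15, false), (20, true), (25, false), (30, true), (35, true), (40, false), (45, false), (50, true), (55, false), (60, false), (65, false), (70, false), (75, false), (80, true), (85, false), (90, false), (95, false), (100, true), (105, false), (110, false), (115, true)]),
    none],
   [some (967236921068462251737938400175634529, 5902343,
      [(25, true), (0, true), (70, true), (5, false), (105, false), (15, false), (20, false), (100, false), (35, false), (110, false), (75, false), (55, false), (95, true), (40, false), (10, false), (50, false), (30, false), (85, true), (90, false), (45, true), (65, true), (80, false), (60, true), (115, false)]),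
    none,
    some (91516241474273382408632685393368628, 138790,
      [(65, false), (100, true), (115, true), (40, false), (85, false), (20, true), (110, false), (75, false), (15, false), (80, true), (50, true), (30, true), (35, true), (25, false), (45, false), (55, false), (105, false), (5, true), (95, false), (60, false), (0, false), (10, false), (70, false), (90, false)]),
    none,
    some (276676531263665847622539139616495629, 0,
      [(5, false), (20, false), (85, false), (40, false), (105, false), (30, false), (115, false), (70, false), (35, false), (95, false), (25, false), (50, false), (45, false), (0, false), (65, false), (60, false), (55, false), (80, false), (90, false), (100, false), (15, false), (110, false), (10, false), (75, false)]),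
    none,
    some (666293833341281624017124613088226434, 0,
      [(90, false), (110, false), (0, false), (60, false), (5, false), (95, false), (20, false), (50, false), (85, false), (105, false), (45, false), (10, false), (65, false), (100, false), (40, false), (70, false), (115, false), (75, false), (55, false), (80, false), (15, false), (35, false), (30, false), (25, false)])],
   [some (644624613792148419953301552729038890, 15073798,
      [(90, false), (5, true), (45, true), (85, false), (70, false), (95, false), (50, false), (100, false), (10, false), (35, true), (0, false), (75, false), (55, false), (30, false), (40, false), (115, false), (110, false), (60, true), (65, true), (105, false), (15, false), (25, true), (20, true), (80, true)]),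
    none,
    some (962725196662448182279789476205374657, 0,
      [(100, false), (0, false), (40, false), (20, false), (35, false), (110, false), (5, false), (80, false), (95, false), (70, false), (15, false), (10, false), (65, false), (55, false), (50, false), (75, false), (45, false), (60, false), (25, false), (85, false), (90, false), (105, false), (30, false), (115, false)]),
    none,
    some (276676531263665847622539139616495629, 0,
      [(5, false), (20, false), (85, false), (40, false), (105, false), (30, false), (115, false), (70, false), (35, false), (95, false), (25, false), (50, false), (45, false), (0, false), (65, false), (60, false), (55, false), (80, false), (90, false), (100, false), (15, false), (110, false), (10, false), (75, false)]),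
    none,
    some (278136886074947364939671404741145329, 657763,
      [(15, true), (25, true), (75, false), (90, false), (70, false), (50, true), (115, true), (65, false), (105, true), (85, false), (95, false), (35, true), (10, false), (40, false), (55, false), (60, false), (30, false), (0, true), (45, false), (100, true), (20, false), (80, false), (110, false), (5, false)]),
    none],
   [some (23738686339186281899546858814486711, 0,
      [(115, false), (25, false), (70, false), (85, false), (35, false), (5, false), (100, false), (20, false), (75, false), (105, false), (60, false), (65, false), (50, false), (55, false), (10, false), (40, false), (95, false), (15, false), (110, false), (80, false), (30, false), (45, false), (90, false), (0, false)])]]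

/-- the fixed vectors of norm 64 -/
def fix11 : List ℕ :=
  [686053159114795289240674611757597192, 766450016176858368501447849939583500, 605656302052732209979901373575610892, 519899662119978811430580411339197006, 852206661066207779656532176409283150, 353746160168566321014722846687511056, 1018360158061024257466626376827683344, 519899657163382798824817047105911250, 852206656109611767050768812175997394, 766450016176858368501447849939583508, 605656302052732209979901373575610900, 686053159114795289240674611757597208]

/-- elements commuting with the element of order 5 -/
def g5M : List (List Step) :=
  [[],
   [some (4164511189226929929651063095482675, 13629219,
      [(115, true), (90, true), (45, false), (110, false), (80, false), (15, true), (105, false), (95, false), (55, true), (5, true), (25, true), (85, false), (65, true), (50, true), (40, true), (75, true), (20, true), (30, true), (35, true), (0, true), (70, false), (100, false), (10, true), (60, true)]),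
    none,
    some (258784077795162200192732444115373472, 14101751,
      [(0, true), (15, true), (40, true), (10, false), (60, true), (30, true), (115, true), (110, true), (85, false), (20, false), (70, true), (105, true), (65, false), (5, true), (35, false), (50, false), (100, true), (90, true), (75, true), (55, false), (95, true), (80, false), (45, true), (25, true)]),
    none,
    some (715777984645649763547742138814451718, 1127686,
      [(5, false), (65, true), (50, true), (20, false), (70, false), (75, false), (0, false), (110, false), (95, true), (100, false), (40, true), (85, false), (35, true), (105, true), (55, false), (80, false), (15, true), (115, false), (30, false), (90, false), (10, true), (45, false), (25, false), (60, false)]),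
    none,
    some (258784077795162200192732444115373472, 14101751,
      [(0, true), (15, true), (40, true), (10, false), (60, true), (30, true), (115, true), (110, true), (85, false), (20, false), (70, true), (105, true), (65, false), (5, true), (35, false), (50, false), (100, true), (90, true), (75, true), (55, false), (95, true), (80, false), (45, true), (25, true)]),
    none,
    some (681674634758743498925333276215773940, 11361349,
      [(90, true), (45, false), (10, true), (40, false), (105, false), (70, false), (55, true), (65, false), (35, false), (20, false), (25, true), (30, true), (60, true), (110, false), (50, true), (95, false), (115, true), (15, false), (100, true), (75, true), (0, false), (80, true), (85, false), (5, true)])],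
   [some (45806780264351157218325901822280370, 9804902,
      [(55, false), (115, true), (50, true), (110, false), (75, false), (95, true), (25, true), (100, false), (45, false), (105, false), (30, true), (60, true), (15, true), (85, false), (80, false), (65, true), (10, true), (20, false), (0, true), (40, false), (35, true), (5, false), (90, false), (70, true)]),
    none,
    some (220048119786717969456457942323765344, 16569195,
      [(0, true), (65, true), (15, false), (5, true), (45, false), (115, true), (25, true), (70, false), (10, true), (110, true), (75, false), (95, false), (20, true), (60, false), (50, true), (90, true), (105, false), (40, false), (85, true), (100, true), (80, true), (55, true), (35, true), (30, true)]),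
    none,
    some (675058179405286524919430908197619831, 16349549,
      [(95, true), (105, false), (65, true), (5, true), (15, false), (40, true), (90, true), (30, false), (110, true), (35, false), (55, false), (45, true), (75, true), (80, true), (60, true), (100, false), (115, true), (20, false), (10, false), (50, true), (85, true), (25, true), (70, true), (0, true)])],
   [some (18645141155486421749859557393608915, 13629219,
      [(115, true), (20, true), (85, false), (65, false), (75, false), (50, true), (5, false), (45, false), (70, true), (15, true), (25, true), (105, false), (10, true), (95, true), (110, true), (40, true), (55, true), (90, true), (80, true), (0, true), (100, false), (60, false), (35, true), (30, true)]),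
    none,
    some (258784077795162200192732444115373472, 14101751,
      [(0, true), (15, true), (40, true), (10, false), (60, true), (30, true), (115, true), (110, true), (85, false), (20, false), (70, true), (105, true), (65, false), (5, true), (35, false), (50, false), (100, true), (90, true), (75, true), (55, false), (95, true), (80, false), (45, true), (25, true)]),
    none,
    some (310753476269186866884764762881369106, 11006430,
      [(5, false), (85, true), (50, true), (25, true), (30, true), (80, false), (60, true), (115, true), (95, true), (10, false), (75, false), (45, false), (105, true), (20, true), (35, true), (110, true), (70, true), (40, true), (0, true), (90, false), (65, false), (100, true), (55, false), (15, true)]),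
    none,
    some (258784077795162200192732444115373472, 14101751,
      [(0, true), (15, true), (40, true), (10, false), (60, true), (30, true), (115, true), (110, true), (85, false), (20, false), (70, true), (105, true), (65, false), (5, true), (35, false), (50, false), (100, true), (90, true), (75, true), (55, false), (95, true), (80, false), (45, true), (25, true)]),
    none,
    some (551167350658764319848948886024162019, 8578263,
      [(90, true), (30, true), (10, true), (0, false), (75, true), (85, false), (25, true), (55, true), (110, false), (35, false), (100, true), (40, false), (95, false), (115, true), (50, true), (60, true), (20, false), (80, true), (65, false), (105, false), (45, false), (70, false), (15, false), (5, true)])],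
   [some (22701218618443307285306235306026195, 13629219,
      [(115, true), (50, true), (40, false), (95, false), (70, false), (35, true), (5, false), (65, false), (55, true), (10, true), (90, true), (85, false), (60, true), (45, true), (25, true), (105, true), (75, true), (110, true), (80, true), (0, true), (100, false), (15, false), (20, true), (30, true)]),
    none,
    some (258784077795162200192732444115373472, 14101751,
      [(0, true), (15, true), (40, true), (10, false), (60, true), (30, true), (115, true), (110, true), (85, false), (20, false), (70, true), (105, true), (65, false), (5, true), (35, false), (50, false), (100, true), (90, true), (75, true), (55, false), (95, true), (80, false), (45, true), (25, true)]),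
    none,
    some (141989132273303787815889008212387848, 8632760,
      [(5, false), (80, false), (15, false), (115, true), (55, true), (40, true), (65, false), (50, true), (0, true), (100, false), (10, false), (25, true), (105, true), (110, true), (60, false), (45, true), (35, true), (70, true), (30, false), (90, false), (85, false), (95, false), (75, false), (20, true)]),
    none,
    some (258784077795162200192732444115373472, 14101751,
      [(0, true), (15, true), (40, true), (10, false), (60, true), (30, true), (115, true), (110, true), (85, false), (20, false), (70, true), (105, true), (65, false), (5, true), (35, false), (50, false), (100, true), (90, true), (75, true), (55, false), (95, true), (80, false), (45, true), (25, true)]),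
    none,
    some (971620576635340505064640470816363541, 5365074,
      [(5, false), (45, true), (35, false), (70, false), (60, true), (10, false), (80, true), (15, false), (65, true), (100, false), (85, true), (75, true), (110, true), (50, false), (20, true), (95, true), (105, true), (55, false), (30, false), (90, false), (25, true), (0, false), (40, true), (115, false)]),
    none,
    some (258784077795162200192732444115373472, 14101751,
      [(0, true), (15, true), (40, true), (10, false), (60, true), (30, true), (115, true), (110, true), (85, false), (20, false), (70, true), (105, true), (65, false), (5, true), (35, false), (50, false), (100, true), (90, true), (75, true), (55, false), (95, true), (80, false), (45, true), (25, true)]),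
    none,
    some (395516178563854897490496848473299683, 8817383,
      [(90, true), (25, true), (75, true), (0, false), (65, false), (55, true), (10, true), (100, true), (95, false), (115, true), (45, false), (80, true), (35, false), (20, false), (15, false), (60, true), (110, false), (50, true), (30, true), (40, false), (70, false), (85, false), (105, false), (5, true)])]]

/-- elements commuting with the element of order 5 -/
def g5H : List (List Step) :=
  [[some (188452274868421494761278041585039757, 15048437,
      [(25, true), (20, false), (80, true), (55, false), (115, true), (105, true), (15, true), (90, true), (35, false), (50, true), (85, true), (60, true), (5, true), (0, false), (10, false), (30, true), (70, true), (110, false), (65, true), (40, false), (95, false), (75, true), (100, true), (45, true)]),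
    none,
    some (338094597766541383408962466926083296, 6714673,
      [(0, true), (80, false), (45, false), (85, false), (110, true), (20, true), (30, false), (5, false), (115, true), (15, false), (25, true), (40, false), (75, true), (35, true), (105, true), (10, false), (55, false), (90, true), (60, true), (95, false), (50, false), (100, true), (70, true), (65, false)]),
    none,
    some (595213462162605248575372138077980235, 1862238,
      [(35, false), (10, true), (60, true), (70, true), (100, true), (90, false), (55, true), (80, false), (50, false), (30, true), (110, false), (0, true), (20, false), (25, true), (115, true), (75, false), (65, false), (105, false), (5, true), (45, true), (95, true), (40, false), (85, false), (15, false)]),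
    none,
    some (338094597766541383408962466926083296, 6714673,
      [(0, true), (80, false), (45, false), (85, false), (110, true), (20, true), (30, false), (5, false), (115, true), (15, false), (25, true), (40, false), (75, true), (35, true), (105, true), (10, false), (55, false), (90, true), (60, true), (95, false), (50, false), (100, true), (70, true), (65, false)]),
    none,
    some (185167394989396175333065006757006439, 3145329,
      [(25, true), (60, false), (50, false), (5, false), (115, true), (75, true), (90, true), (0, false), (55, false), (40, true), (95, true), (20, true), (80, true), (65, true), (110, true), (85, true), (45, true), (35, true), (15, true), (10, true), (105, false), (70, true), (30, false), (100, false)])],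
   [some (851835855358908965219336740583988549, 13624252,
      [(95, false), (85, false), (20, true), (30, true), (90, true), (0, true), (45, false), (105, true), (70, true), (50, true), (5, false), (25, false), (100, false), (75, true), (15, true), (40, true), (110, true), (65, true), (55, true), (60, true), (115, false), (35, false), (80, true), (10, true)]),
    none,
    some (558996653415206758357550315011089920, 16044209,
      [(0, true), (35, false), (75, false), (45, false), (25, true), (50, true), (30, false), (65, true), (55, false), (10, false), (100, false), (80, false), (90, true), (115, false), (110, true), (60, true), (5, false), (15, false), (85, true), (95, false), (105, true), (70, true), (20, true), (40, true)]),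
    none,
    some (736387674286017519017462394396511432, 1332261,
      [(35, true), (70, false), (85, true), (10, false), (80, false), (65, true), (5, false), (45, false), (0, false), (105, false), (90, true), (100, false), (25, true), (75, false), (95, true), (55, false), (30, false), (115, false), (40, true), (60, false), (20, true), (15, false), (50, false), (110, false)]),
    none,
    some (558996653415206758357550315011089920, 16044209,
      [(0, true), (35, false), (75, false), (45, false), (25, true), (50, true), (30, false), (65, true), (55, false), (10, false), (100, false), (80, false), (90, true), (115, false), (110, true), (60, true), (5, false), (15, false), (85, true), (95, false), (105, true), (70, true), (20, true), (40, true)]),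
    none,
    some (646780892717315303492377228131075693, 14149586,
      [(65, false), (10, true), (40, false), (70, false), (90, true), (95, false), (25, true), (55, true), (105, true), (30, true), (35, true), (85, false), (100, false), (0, true), (45, true), (115, true), (75, true), (80, true), (110, true), (5, false), (60, true), (15, false), (50, true), (20, true)])],
   [some (175372055592406048016863494116147597, 15048437,
      [(10, true), (45, false), (90, true), (105, false), (115, true), (95, true), (25, true), (110, true), (100, false), (40, true), (85, true), (60, true), (5, true), (0, false), (15, false), (20, true), (70, true), (80, false), (35, true), (75, false), (55, false), (50, true), (65, true), (30, true)]),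
    none,
    some (338094597766541383408962466926083296, 6714673,
      [(0, true), (80, false), (45, false), (85, false), (110, true), (20, true), (30, false), (5, false), (115, true), (15, false), (25, true), (40, false), (75, true), (35, true), (105, true), (10, false), (55, false), (90, true), (60, true), (95, false), (50, false), (100, true), (70, true), (65, false)]),
    none,
    some (188777620681059469749000511209656816, 7756731,
      [(25, true), (15, true), (50, false), (90, true), (115, true), (65, true), (60, false), (80, true), (75, true), (95, true), (30, false), (45, true), (70, true), (105, false), (40, true), (5, false), (0, false), (110, true), (85, true), (55, false), (10, true), (20, true), (35, true), (100, false)])],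
   [some (191386968571169277398009509172352109, 15048437,
      [(85, true), (100, false), (50, true), (5, false), (115, true), (10, true), (55, true), (60, true), (45, false), (80, true), (90, true), (75, true), (15, true), (0, false), (105, false), (40, true), (30, true), (35, false), (25, true), (110, false), (20, false), (65, true), (95, true), (70, true)]),
    none,
    some (338094597766541383408962466926083296, 6714673,
      [(0, true), (80, false), (45, false), (85, false), (110, true), (20, true), (30, false), (5, false), (115, true), (15, false), (25, true), (40, false), (75, true), (35, true), (105, true), (10, false), (55, false), (90, true), (60, true), (95, false), (50, false), (100, true), (70, true), (65, false)]),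
    none,
    some (712956422623603395316950740173409684, 7302503,
      [(25, true), (70, true), (15, true), (60, false), (50, false), (110, true), (40, true), (105, false), (20, true), (55, false), (65, true), (90, true), (5, false), (75, true), (95, true), (30, false), (45, true), (115, true), (35, true), (10, true), (0, false), (80, true), (85, true), (100, false)])],
   []]

/-- powers of the element of order 5 -/
def m5 : List Step :=
  [some (984818244535754528103549039458486304, 0,
      [(0, false), (5, false), (10, false), (15, false), (20, false), (25, false), (30, false), (35, false), (40, false), (45, false), (50, false), (55, false), (60, false), (65, false), (70, false), (75, false), (80, false), (85, false), (90, false), (95, false), (100, false), (105, false), (110, false), (115, false)]),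
   some (965300289861748889990672440075108384, 0,
      [(0, false), (5, false), (40, false), (20, false), (90, false), (25, false), (45, false), (110, false), (30, false), (80, false), (85, false), (50, false), (15, false), (60, false), (75, false), (100, false), (10, false), (35, false), (65, false), (70, false), (105, false), (95, false), (55, false), (115, false)]),
   some (978076899444677511050001024522036256, 0,
      [(0, false), (5, false), (30, false), (90, false), (65, false), (25, false), (80, false), (55, false), (45, false), (10, false), (35, false), (85, false), (20, false), (15, false), (100, false), (105, false), (40, false), (110, false), (60, false), (75, false), (95, false), (70, false), (50, false), (115, false)]),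
   some (968955966875123533138286166201145376, 0,
      [(0, false), (5, false), (45, false), (65, false), (60, false), (25, false), (10, false), (50, false), (80, false), (40, false), (110, false), (35, false), (90, false), (20, false), (105, false), (95, false), (30, false), (55, false), (15, false), (100, false), (70, false), (75, false), (85, false), (115, false)]),
   some (970459361523271695787015306425278496, 0,
      [(0, false), (5, false), (80, false), (60, false), (15, false), (25, false), (40, false), (85, false), (10, false), (30, false), (55, false), (110, false), (65, false), (90, false), (95, false), (70, false), (45, false), (50, false), (20, false), (105, false), (75, false), (100, false), (35, false), (115, false)])]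

/-- third generator for Co3 -/
def zCo3 : List Step :=
  [some (983380516787631494726792395209491041, 5820827,
      [(25, true), (0, true), (30, false), (75, true), (20, true), (15, false), (100, false), (90, true), (60, true), (80, false), (85, false), (40, false), (70, true), (55, false), (95, true), (65, true), (10, false), (45, false), (105, false), (5, true), (35, true), (110, false), (50, true), (115, false)]),
    none,
    some (91516241474273382408632685393368628, 138790,
      [(65, false), (100, true), (115, true), (40, false), (85, false), (20, true), (110, false), (75, false), (15, false), (80, true), (50, true), (30, true), (35, true), (25, false), (45, false), (55, false), (105, false), (5, true), (95, false), (60, false), (0, false), (10, false), (70, false), (90, false)]),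
    none,
    some (276676531263665847622539139616495629, 0,
      [(5, false), (20, false), (85, false), (40, false), (105, false), (30, false), (115, false), (70, false), (35, false), (95, false), (25, false), (50, false), (45, false), (0, false), (65, false), (60, false), (55, false), (80, false), (90, false), (100, false), (15, false), (110, false), (10, false), (75, false)]),
    none,
    some (666293833341281624017124613088226434, 0,
      [(90, false), (110, false), (0, false), (60, false), (5, false), (95, false), (20, false), (50, false), (85, false), (105, false), (45, false), (10, false), (65, false), (100, false), (40, false), (70, false), (115, false), (75, false), (55, false), (80, false), (15, false), (35, false), (30, false), (25, false)]),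
    none]

/-- its inverse -/
def zCo3i : List Step :=
  [none,
    some (215768724366716490897935849477243602, 0,
      [(10, false), (20, false), (55, false), (100, false), (30, false), (115, false), (110, false), (105, false), (70, false), (50, false), (35, false), (90, false), (15, false), (60, false), (75, false), (85, false), (95, false), (40, false), (0, false), (25, false), (65, false), (45, false), (5, false), (80, false)]),
    none,
    some (626568815625090846479767447912334465, 0,
      [(65, false), (0, false), (110, false), (100, false), (5, false), (50, false), (25, false), (40, false), (15, false), (60, false), (55, false), (80, false), (75, false), (70, false), (35, false), (115, false), (85, false), (10, false), (90, false), (45, false), (95, false), (20, false), (105, false), (30, false)]),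
    none,
    some (765945415226636968678738951836819085, 9503954,
      [(100, false), (85, true), (105, false), (40, false), (25, true), (65, false), (55, true), (60, true), (15, false), (70, false), (50, true), (75, false), (95, false), (0, false), (110, false), (35, false), (45, true), (20, false), (115, false), (90, false), (5, true), (80, false), (30, false), (10, true)]),
    none,
    some (969264729655432173271028970436401157, 849075,
      [(5, true), (95, true), (80, false), (25, false), (20, true), (0, true), (10, false), (100, true), (55, false), (85, false), (110, true), (65, false), (40, true), (75, true), (60, true), (15, true), (45, false), (50, false), (35, true), (70, true), (30, false), (90, false), (105, false), (115, false)])]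

/-- third generator for Co1 -/
def zCo1 : List Step :=
  [some (970477221075006822316643914280741318, 2268296,
      [(35, false), (85, false), (25, false), (100, true), (60, false), (45, false), (0, false), (65, true), (90, false), (40, false), (10, true), (110, true), (15, true), (20, false), (5, false), (55, true), (50, false), (95, true), (75, false), (30, false), (105, false), (80, true), (70, false), (115, false)]),
    none,
    some (276676531263665847622539139616495629, 0,
      [(5, false), (20, false), (85, false), (40, false), (105, false), (30, false), (115, false), (70, false), (35, false), (95, false), (25, false), (50, false), (45, false), (0, false), (65, false), (60, false), (55, false), (80, false), (90, false), (100, false), (15, false), (110, false), (10, false), (75, false)]),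
    none,
    some (644546653258293667307640344482091342, 0,
      [(90, false), (20, false), (65, false), (85, false), (10, false), (80, false), (75, false), (60, false), (50, false), (100, false), (5, false), (55, false), (70, false), (35, false), (0, false), (115, false), (110, false), (105, false), (25, false), (30, false), (40, false), (95, false), (15, false), (45, false)]),
    none,
    some (234288825908508569179514863627538704, 657763,
      [(15, true), (80, true), (25, false), (30, false), (10, false), (115, true), (60, true), (55, false), (5, true), (95, false), (75, false), (40, true), (85, false), (45, false), (90, false), (105, false), (0, false), (70, true), (35, false), (20, true), (110, false), (100, false), (65, false), (50, false)])]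

/-- its inverse -/
def zCo1i : List Step :=
  [some (433098065834694518817788406419101187, 8474906,
      [(80, false), (40, true), (20, false), (0, true), (95, true), (10, false), (15, false), (90, false), (55, true), (65, false), (115, false), (35, false), (30, true), (110, false), (85, true), (50, false), (5, true), (60, false), (70, false), (45, false), (105, false), (75, false), (100, false), (25, true)]),
    none,
    some (378520713942200747545706269283759250, 0,
      [(70, false), (50, false), (20, false), (110, false), (5, false), (90, false), (95, false), (65, false), (100, false), (115, false), (40, false), (55, false), (35, false), (10, false), (60, false), (30, false), (25, false), (15, false), (0, false), (105, false), (45, false), (85, false), (80, false), (75, false)]),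
    none,
    some (626568815625090846479767447912334465, 0,
      [(65, false), (0, false), (110, false), (100, false), (5, false), (50, false), (25, false), (40, false), (15, false), (60, false), (55, false), (80, false), (75, false), (70, false), (35, false), (115, false), (85, false), (10, false), (90, false), (45, false), (95, false), (20, false), (105, false), (30, false)]),
    none,
    some (974231575746323015886040935720162855, 5842956,
      [(30, false), (70, false), (50, true), (60, true), (65, false), (10, false), (95, false), (0, false), (45, false), (25, false), (80, false), (75, true), (20, false), (35, true), (110, false), (90, false), (105, true), (5, false), (40, false), (85, true), (15, true), (100, false), (55, true), (115, false)])]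

/-- third generator for McL -/
def zMcL : List Step :=
  [some (45806780264351157218325901822280370, 9804902,
      [(55, false), (115, true), (50, true), (110, false), (75, false), (95, true), (25, true), (100, false), (45, false), (105, false), (30, true), (60, true), (15, true), (85, false), (80, false), (65, true), (10, true), (20, false), (0, true), (40, false), (35, true), (5, false), (90, false), (70, true)]),
    none,
    some (220048119786717969456457942323765344, 16569195,
      [(0, true), (65, true), (15, false), (5, true), (45, false), (115, true), (25, true), (70, false), (10, true), (110, true), (75, false), (95, false), (20, true), (60, false), (50, true), (90, true), (105, false), (40, false), (85, true), (100, true), (80, true), (55, true), (35, true), (30, true)]),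
    none,
    some (675058179405286524919430908197619831, 16349549,
      [(95, true), (105, false), (65, true), (5, true), (15, false), (40, true), (90, true), (30, false), (110, true), (35, false), (55, false), (45, true), (75, true), (80, true), (60, true), (100, false), (115, true), (20, false), (10, false), (50, true), (85, true), (25, true), (70, true), (0, true)])]

/-- its inverse -/
def zMcLi : List Step :=
  [some (18397811961123095621434634260231859, 13629219,
      [(115, true), (15, true), (90, false), (20, false), (85, false), (105, true), (35, false), (45, false), (25, true), (55, true), (95, true), (50, false), (70, true), (10, true), (110, true), (60, true), (65, true), (100, true), (30, true), (0, true), (75, false), (5, false), (40, true), (80, true)]),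
    none,
    some (258784077795162200192732444115373472, 14101751,
      [(0, true), (15, true), (40, true), (10, false), (60, true), (30, true), (115, true), (110, true), (85, false), (20, false), (70, true), (105, true), (65, false), (5, true), (35, false), (50, false), (100, true), (90, true), (75, true), (55, false), (95, true), (80, false), (45, true), (25, true)]),
    none,
    some (604952339463037379945776726599740139, 8942829,
      [(90, true), (105, false), (80, true), (60, true), (85, false), (30, true), (50, true), (100, true), (95, false), (40, false), (10, true), (0, false), (55, true), (75, true), (115, true), (20, false), (70, false), (65, false), (110, false), (25, true), (35, false), (45, false), (15, false), (5, true)])]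

/-- third generator for HS -/
def zHS : List Step :=
  [some (175372055592406048016863494116147597, 15048437,
      [(10, true), (45, false), (90, true), (105, false), (115, true), (95, true), (25, true), (110, true), (100, false), (40, true), (85, true), (60, true), (5, true), (0, false), (15, false), (20, true), (70, true), (80, false), (35, true), (75, false), (55, false), (50, true), (65, true), (30, true)]),
    none,
    some (338094597766541383408962466926083296, 6714673,
      [(0, true), (80, false), (45, false), (85, false), (110, true), (20, true), (30, false), (5, false), (115, true), (15, false), (25, true), (40, false), (75, true), (35, true), (105, true), (10, false), (55, false), (90, true), (60, true), (95, false), (50, false), (100, true), (70, true), (65, false)]),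
    none,
    some (188777620681059469749000511209656816, 7756731,
      [(25, true), (15, true), (50, false), (90, true), (115, true), (65, true), (60, false), (80, true), (75, true), (95, true), (30, false), (45, true), (70, true), (105, false), (40, true), (5, false), (0, false), (110, true), (85, true), (55, false), (10, true), (20, true), (35, true), (100, false)])]

/-- its inverse -/
def zHSi : List Step :=
  [some (840019269097044326951703717644675173, 13624252,
      [(80, false), (75, false), (100, true), (5, true), (105, true), (0, true), (50, false), (110, true), (70, true), (55, true), (10, false), (95, false), (30, false), (25, true), (60, true), (40, true), (35, true), (90, true), (15, true), (45, true), (115, false), (65, false), (85, true), (20, true)]),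
    none,
    some (558996653415206758357550315011089920, 16044209,
      [(0, true), (35, false), (75, false), (45, false), (25, true), (50, true), (30, false), (65, true), (55, false), (10, false), (100, false), (80, false), (90, true), (115, false), (110, true), (60, true), (5, false), (15, false), (85, true), (95, false), (105, true), (70, true), (20, true), (40, true)]),
    none,
    some (266525409861434232098597742688520482, 13530614,
      [(65, false), (60, true), (0, true), (70, false), (75, true), (30, true), (115, true), (90, true), (45, true), (5, false), (105, true), (100, false), (55, true), (110, true), (80, true), (95, false), (85, false), (50, true), (10, true), (25, true), (40, false), (15, false), (35, true), (20, true)])]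

/-- third generator for Co2 -/
def zCo2 : List Step :=
  [some (967236921068462251737938400175634529, 2584685,
      [(25, true), (0, false), (70, true), (5, true), (105, false), (15, true), (20, true), (100, false), (35, false), (110, false), (75, false), (55, false), (95, true), (40, true), (10, true), (50, false), (30, true), (85, true), (90, true), (45, false), (65, false), (80, true), (60, false), (115, false)]),
    none,
    some (91516241474273382408632685393368628, 138790,
      [(65, false), (100, true), (115, true), (40, false), (85, false), (20, true), (110, false), (75, false), (15, false), (80, true), (50, true), (30, true), (35, true), (25, false), (45, false), (55, false), (105, false), (5, true), (95, false), (60, false), (0, false), (10, false), (70, false), (90, false)]),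
    none,
    some (276676531263665847622539139616495629, 0,
      [(5, false), (20, false), (85, false), (40, false), (105, false), (30, false), (115, false), (70, false), (35, false), (95, false), (25, false), (50, false), (45, false), (0, false), (65, false), (60, false), (55, false), (80, false), (90, false), (100, false), (15, false), (110, false), (10, false), (75, false)]),
    none,
    some (666293833341281624017124613088226434, 0,
      [(90, false), (110, false), (0, false), (60, false), (5, false), (95, false), (20, false), (50, false), (85, false), (105, false), (45, false), (10, false), (65, false), (100, false), (40, false), (70, false), (115, false), (75, false), (55, false), (80, false), (15, false), (35, false), (30, false), (25, false)])]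

/-- its inverse -/
def zCo2i : List Step :=
  [some (215768724366716490897935849477243602, 0,
      [(10, false), (20, false), (55, false), (100, false), (30, false), (115, false), (110, false), (105, false), (70, false), (50, false), (35, false), (90, false), (15, false), (60, false), (75, false), (85, false), (95, false), (40, false), (0, false), (25, false), (65, false), (45, false), (5, false), (80, false)]),
    none,
    some (626568815625090846479767447912334465, 0,
      [(65, false), (0, false), (110, false), (100, false), (5, false), (50, false), (25, false), (40, false), (15, false), (60, false), (55, false), (80, false), (75, false), (70, false), (35, false), (115, false), (85, false), (10, false), (90, false), (45, false), (95, false), (20, false), (105, false), (30, false)]),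
    none,
    some (765945415226636968678738951836819085, 9503954,
      [(100, false), (85, true), (105, false), (40, false), (25, true), (65, false), (55, true), (60, true), (15, false), (70, false), (50, true), (75, false), (95, false), (0, false), (110, false), (35, false), (45, true), (20, false), (115, false), (90, false), (5, true), (80, false), (30, false), (10, true)]),
    none,
    some (971625408586074277054671231481067525, 999806,
      [(5, false), (15, true), (70, true), (25, true), (30, true), (0, true), (80, true), (40, false), (65, true), (95, false), (75, false), (55, false), (110, false), (100, false), (10, true), (50, false), (105, true), (85, true), (90, true), (60, true), (35, false), (20, false), (45, false), (115, false)])]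

/-- an outer map for the first pair -/
def eHS : List Step :=
  [some (1795248432537898728475572672376535, 0,
      [(115, false), (110, false), (55, false), (75, false), (85, false), (45, false), (95, false), (65, false), (100, false), (25, false), (80, false), (10, false), (105, false), (35, false), (90, false), (15, false), (50, false), (20, false), (70, false), (30, false), (40, false), (60, false), (5, false), (0, false)])]

/-- its inverse -/
def eHSi : List Step :=
  [some (1795248432537898728475572672376535, 0,
      [(115, false), (110, false), (55, false), (75, false), (85, false), (45, false), (95, false), (65, false), (100, false), (25, false), (80, false), (10, false), (105, false), (35, false), (90, false), (15, false), (50, false), (20, false), (70, false), (30, false), (40, false), (60, false), (5, false), (0, false)])]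

/-- an outer map for the second pair -/
def eMcL : List Step :=
  [some (968891550660210725515474965340856385, 5820827,
      [(100, true), (0, true), (5, false), (70, true), (80, true), (60, false), (55, false), (15, true), (10, true), (90, false), (110, false), (45, false), (50, true), (105, false), (35, true), (30, true), (40, false), (65, false), (75, false), (20, true), (25, true), (95, false), (85, true), (115, false)]),
    none,
    some (91516241474273382408632685393368628, 138790,
      [(65, false), (100, true), (115, true), (40, false), (85, false), (20, true), (110, false), (75, false), (15, false), (80, true), (50, true), (30, true), (35, true), (25, false), (45, false), (55, false), (105, false), (5, true), (95, false), (60, false), (0, false), (10, false), (70, false), (90, false)]),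
    none,
    some (276676531263665847622539139616495629, 0,
      [(5, false), (20, false), (85, false), (40, false), (105, false), (30, false), (115, false), (70, false), (35, false), (95, false), (25, false), (50, false), (45, false), (0, false), (65, false), (60, false), (55, false), (80, false), (90, false), (100, false), (15, false), (110, false), (10, false), (75, false)]),
    none,
    some (666293833341281624017124613088226434, 0,
      [(90, false), (110, false), (0, false), (60, false), (5, false), (95, false), (20, false), (50, false), (85, false), (105, false), (45, false), (10, false), (65, false), (100, false), (40, false), (70, false), (115, false), (75, false), (55, false), (80, false), (15, false), (35, false), (30, false), (25, false)]),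
    none]

/-- its inverse -/
def eMcLi : List Step :=
  [none,
    some (215768724366716490897935849477243602, 0,
      [(10, false), (20, false), (55, false), (100, false), (30, false), (115, false), (110, false), (105, false), (70, false), (50, false), (35, false), (90, false), (15, false), (60, false), (75, false), (85, false), (95, false), (40, false), (0, false), (25, false), (65, false), (45, false), (5, false), (80, false)]),
    none,
    some (626568815625090846479767447912334465, 0,
      [(65, false), (0, false), (110, false), (100, false), (5, false), (50, false), (25, false), (40, false), (15, false), (60, false), (55, false), (80, false), (75, false), (70, false), (35, false), (115, false), (85, false), (10, false), (90, false), (45, false), (95, false), (20, false), (105, false), (30, false)]),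
    none,
    some (765945415226636968678738951836819085, 9503954,
      [(100, false), (85, true), (105, false), (40, false), (25, true), (65, false), (55, true), (60, true), (15, false), (70, false), (50, true), (75, false), (95, false), (0, false), (110, false), (35, false), (45, true), (20, false), (115, false), (90, false), (5, true), (80, false), (30, false), (10, true)]),
    none,
    some (978227130975367095394619004562113556, 1262845,
      [(5, true), (10, false), (40, true), (35, true), (95, true), (100, true), (75, true), (70, true), (80, false), (55, false), (60, true), (30, false), (25, false), (85, false), (15, true), (90, false), (20, true), (110, true), (45, false), (105, false), (0, true), (65, false), (50, false), (115, false)])]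

/-- separating products -/
def sepWordsCo3 : List (List ℕ × ℕ) :=
  [([2], 2), ([1, 1, 1, 2, 0, 1], 10)]

/-- product used for each candidate -/
def sepTabCo3 : List ℕ :=
  [0, 0, 1, 0, 0, 0, 0, 0, 0, 0, 0, 2, 0, 0, 0, 0, 0, 0, 0, 0, 0, 0, 0, 0, 1, 0, 0, 0, 0, 0, 0, 0, 0, 1, 0, 0, 0, 0, 0, 0, 0, 0, 0, 0]

/-- separating products -/
def sepWordsCo1 : List (List ℕ × ℕ) :=
  [([2, 2, 2], 1), ([2, 0, 2, 1, 0, 1], 5), ([0, 2, 0, 2, 1, 0], 10)]

/-- product used for each candidate -/
def sepTabCo1 : List ℕ :=
  [0, 0, 0, 1, 0, 0, 0, 0, 0, 0, 0, 0, 0, 0, 0, 0, 0, 0, 0, 0, 0, 0, 0, 0, 0, 0, 0, 1, 0, 0, 0, 0, 0, 0, 0, 0, 0, 0, 0, 0, 0, 0, 0, 0, 0, 3, 0, 0, 0, 0, 0, 0, 0, 0, 0, 0, 0, 0, 0, 0, 0, 0, 0, 0, 0, 0, 3, 0, 0, 0, 0, 0, 0, 0, 0, 0, 0, 0, 0, 0, 0, 0, 0, 0, 0, 0, 0, 0, 0, 0, 0, 0, 0, 0, 0, 0, 0, 0, 0, 0, 0, 0, 1, 0, 0, 0, 0, 0, 0, 0, 0, 1, 0, 0, 0, 0, 0, 0, 0, 0, 0, 0, 0, 0, 0, 0, 0, 0, 0, 0, 0, 0, 0, 0, 0, 2, 0, 0, 0, 0, 0, 0, 0, 0, 0, 0, 0, 0, 0, 0, 0, 0, 0, 0, 0, 0, 0, 0, 0, 1, 0, 0, 0, 0, 0, 0, 0, 0, 0, 0, 0, 0, 0, 0, 0, 0, 0, 1, 0, 0, 0, 0, 0, 0, 0, 0, 0, 0, 0, 0, 0, 0, 0, 0, 0, 0, 0, 0, 1, 0, 0, 0, 0, 0, 0, 0, 0, 0, 0, 0, 0, 0, 0, 0, 0, 0, 0, 0, 0, 0, 0, 0, 0, 0, 0, 0, 0, 0, 0, 0, 0, 0, 0, 0, 1, 0, 0, 0, 0, 0, 0, 0, 0, 2, 0, 0, 0, 0, 0, 0, 0, 0, 0, 0, 0, 0, 0, 0, 0, 0, 0, 0, 0, 0]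

/-- separating products -/
def sepWordsMcL : List (List ℕ × ℕ) :=
  [([1, 1, 2, 0, 1], 7), ([1, 1, 0, 2], 9)]

/-- product used for each candidate -/
def sepTabMcL : List ℕ :=
  [2, 0, 0, 0, 0, 0, 0, 0, 0, 0, 0, 0, 0, 0, 0, 0, 0, 0, 2, 0, 0, 0, 0, 0, 0, 1, 0, 0, 0, 0, 0, 0, 0, 0, 0, 0, 0, 0, 0, 0, 0, 0, 0, 1, 0, 0, 0, 0, 0, 0]

/-- separating products -/
def sepWordsHS : List (List ℕ × ℕ) :=
  [([2, 0, 2, 1, 0, 1], 4), ([0, 0, 1, 0, 2, 0, 2], 4), ([2, 0], 8)]

/-- product used for each candidate -/
def sepTabHS : List ℕ :=
  [0, 0, 0, 0, 0, 0, 0, 0, 0, 0, 0, 0, 1, 1, 0, 0, 0, 0, 0, 0, 3, 0, 2, 0, 1, 0, 1, 1, 0, 0, 0, 1, 3, 0, 2, 0, 0, 0, 0, 0, 0, 0, 0, 0, 0, 0, 0, 0, 0, 0]

/-- separating products -/
def sepWordsCo2 : List (List ℕ × ℕ) :=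
  [([2, 0, 1], 11), ([0, 0, 1, 0, 2, 0, 2], 12)]

/-- product used for each candidate -/
def sepTabCo2 : List ℕ :=
  [2, 0, 0, 0, 0, 0, 0, 0, 0, 0, 0, 1, 0, 0, 0, 0, 0, 0, 0, 0, 0, 0]

end Cfsg.Agent.LeechOutData
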