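import Cfsg.Agent.Lib.LeechOutTool
import Cfsg.Agent.Lib.LeechOutData
import Cfsg.Agent.Lib.GolayOutConst

/-!
The centralisers of the elements of order 11 and 23 in the automorphism group of the lattice.
-/

set_option autoImplicit false

open scoped Pointwise

namespace Cfsg.Agent.LeechCent11

open Cfsg Cfsg.Agent.GolayBasic Cfsg.Agent.LeechBasic Cfsg.Agent.LeechAut Cfsg.Agent.LeechOrbit
open Cfsg.Agent.LeechCert Cfsg.Agent.LeechOutTool Cfsg.Agent.LeechOutData
open Cfsg.Agent.LeechNormalizers
open Cfsg.Agent.GolayPerm (good pts mem_pts pimg permOf permOf_mem_M24 permOf_apply valid_of_good pfun)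
open Cfsg.Agent.GolaySimple (z11 z23 loc11 zs11 table11)
open Cfsg.Agent.LeechStab (mono mem_mono permHom monomial_mul monomial_congr)
open Cfsg.Agent.LeechMonomial (monomial_injective)
open Cfsg.Agent.LeechXi (isL isL_iff)

/-- A word of one permutation step. -/
theorem El_perm {w : List Step} {P : ℕ} {h : good P = true} (hw : monoOK' w P 0 = true) :
    El w = permElt P h := by
  rw [El_mono hw (permOf_mem_M24 h) (monoOK'_mem hw).2]
  have e : mset 0 = (∅ : Finset GolayPt) := by ext p; simp [mem_mset]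
  show _ = monomial (permOf P) (permOf_mem_M24 h) ∅ empty_mem_supports
  exact monomial_congr (permOf_mem_M24 h) _ (monoOK'_mem hw).2 empty_mem_supports rfl e

theorem El_w11 : El w11 = g11 := El_perm (by decide +kernel)

theorem El_w23 : El w23 = g23 := El_perm (by decide +kernel)

theorem El_wNeg : El wNeg = negAut := by
  refine ext_frame fun i => Subtype.ext ?_
  rw [El_frame (by decide +kernel), coe_negAut_smul]
  funext p
  have h : ∀ i p : GolayPt, vec (applyWord wNeg (LeechFreeInvolution.frameCodes.getD (idx i) 0)) p =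
      -(if p = i then 8 else 0) := by decide +kernel
  rw [h, Pi.neg_apply]
  rfl

theorem El_inv {a b : List Step} (h : eqOK (a ++ b) [] = true) : El b = (El a)⁻¹ := by
  obtain ⟨h1, -⟩ := eqOK_valid h
  rw [wordValid_append, Bool.and_eq_true] at h1
  have := El_eq h
  rw [El_append h1.1 h1.2, El_nil] at this
  exact eq_inv_of_mul_eq_one_left this

theorem El_append' {a b c : List Step} (h : eqOK (a ++ b) c = true) : El b * El a = El c := by
  obtain ⟨h1, -⟩ := eqOK_valid h
  rw [wordValid_append, Bool.and_eq_true] at h1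
  rw [← El_append h1.1 h1.2, El_eq h]

theorem El_rel {a b c d : List Step} (h : eqOK (a ++ b) (c ++ d) = true) : El b * El a = El d * El c := by
  obtain ⟨-, h2⟩ := eqOK_valid h
  rw [wordValid_append, Bool.and_eq_true] at h2
  rw [El_append' h, El_append h2.1 h2.2]

theorem monomial_split {σ : Equiv.Perm GolayPt} (hσ : σ ∈ M24) {c : Finset GolayPt}
    (hc : c ∈ supports (golayCode : Set (GolayPt → ZMod 2))) :
    monomial σ hσ c hc = monomial 1 (one_mem _) c hc * monomial σ hσ ∅ empty_mem_supports := by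
  rw [monomial_mul]
  exact monomial_congr _ _ _ _ (one_mul σ).symm
    (by rw [Finset.smul_finset_empty]; exact (symmDiff_bot c).symm)

theorem smul_frame_fixed {g h : Co0} (hc : g * h = h * g) {x : leechLattice} (hx : g • x = x) :
    g • (h • x) = h • x := by rw [← mul_smul, hc, mul_smul, hx]

/-! ### elements centralising or inverting inside the monomial group -/

/-- The permutations fixing the two fixed points and normalising the cycle group of `z11`. -/
noncomputable def normS : Subgroup (Equiv.Perm GolayPt) :=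
  M24 ⊓ MulAction.stabilizer (Equiv.Perm GolayPt) (pt 0) ⊓
    MulAction.stabilizer (Equiv.Perm GolayPt) (pt 23) ⊓
    Subgroup.normalizer ((Subgroup.zpowers (permOf z11) : Subgroup _) : Set (Equiv.Perm GolayPt))

theorem z11_mem : permOf z11 ∈ normS := by
  refine ⟨⟨⟨permOf_mem_M24 z11_good, ?_⟩, ?_⟩, Subgroup.le_normalizer (Subgroup.mem_zpowers _)⟩
  all_goals refine MulAction.mem_stabilizer_iff.mpr ?_
  all_goals rw [Equiv.Perm.smul_def,
    permOf_apply (valid_of_good z11_good)]
  all_goals decide +kernel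

theorem card_normS : Nat.card normS = 55 := by
  set t := permOf 974380510768821363662145534143076928 with ht
  have hv := valid_of_good tw_good
  have hrel : t * permOf z11 * t⁻¹ = permOf z11 ^ 3 := by
    have hp : ∀ p : GolayPt, pfun 974380510768821363662145534143076928 (pfun z11 p) =
        pfun z11 (pfun z11 (pfun z11 (pfun 974380510768821363662145534143076928 p))) := by decide +kernel
    rw [mul_inv_eq_iff_eq_mul]
    refine Equiv.ext fun p => ?_
    simp only [ht, Equiv.Perm.mul_apply, pow_succ, pow_zero, one_mul,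
      permOf_apply hv, permOf_apply (valid_of_good z11_good)]
    exact hp p
  have htS : t ∈ normS := by
    refine ⟨⟨⟨permOf_mem_M24 tw_good, ?_⟩, ?_⟩, LeechCoSimple.mem_normalizer_zpowers hrel
      (by rw [orderOf_z11]; norm_num)⟩
    all_goals refine MulAction.mem_stabilizer_iff.mpr ?_
    all_goals rw [Equiv.Perm.smul_def, ht, permOf_apply hv]
    all_goals decide +kernel
  have hle : Nat.card normS ≤ 11 * 5 := GolaySimple.bound11 (fun g hg => hg.1.1.1) (fun g hg => hg.1.1.2)
    (fun g hg => hg.1.2) z11_mem (fun g hg => (Subgroup.mem_normalizer_iff.1 hg.2 _).1 (Subgroup.mem_zpowers _))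
  have ht5 : orderOf t = 5 :=
    GolayOutConst.orderOf_eq_of_word hv (by norm_num) (by decide +kernel) (by decide +kernel)
  have d11 : 11 ∣ Nat.card normS := by
    rw [← orderOf_z11, ← Nat.card_zpowers]
    exact Subgroup.card_dvd_of_le (Subgroup.zpowers_le.2 z11_mem)
  have d5 : 5 ∣ Nat.card normS := by
    rw [← ht5, ← Nat.card_zpowers]
    exact Subgroup.card_dvd_of_le (Subgroup.zpowers_le.2 htS)
  have d55 : 55 ∣ Nat.card normS := Nat.Coprime.mul_dvd_of_dvd_of_dvd (m := 11) (n := 5) (by norm_num) d11 d5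
  have := Nat.le_of_dvd Nat.card_pos d55
  omega

theorem mem_normS {σ : Equiv.Perm GolayPt} (hσ : σ ∈ M24) (hn : σ none = none) {z : Equiv.Perm GolayPt}
    (hz : z = permOf z11 ∨ z = (permOf z11)⁻¹) (hs : σ * permOf z11 = z * σ) : σ ∈ normS := by
  have hv := valid_of_good z11_good
  have hfix : ∀ q, permOf z11 q = q → q = pt 0 ∨ q = pt 23 := by
    intro q h
    rw [permOf_apply hv] at h
    exact (by decide +kernel : ∀ q : GolayPt, pfun z11 q = q → q = pt 0 ∨ q = pt 23) q h
  have h0 : permOf z11 (pt 0) = pt 0 := by rw [permOf_apply hv]; decide +kernel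
  have h23 : σ (pt 23) = pt 23 := hn
  have hzs : z (σ (pt 0)) = σ (pt 0) := by
    have := congrArg (fun f : Equiv.Perm GolayPt => f (pt 0)) hs
    simpa [h0] using this.symm
  have h1 : permOf z11 (σ (pt 0)) = σ (pt 0) := by
    rcases hz with rfl | rfl
    · exact hzs
    · exact (Equiv.Perm.inv_eq_iff_eq.1 hzs).symm
  have hzero : σ (pt 0) = pt 0 := by
    rcases hfix _ h1 with e | e
    · exact e
    · rw [← h23] at e; exact absurd (σ.injective e) (by decide +kernel)
  have hconj : σ * permOf z11 * σ⁻¹ = z := by rw [hs, mul_inv_cancel_right]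
  refine ⟨⟨⟨hσ, hzero⟩, h23⟩, ?_⟩
  rcases hz with rfl | rfl
  · exact LeechCoSimple.mem_normalizer_zpowers (k := 1) (by rw [pow_one]; exact hconj)
      (by rw [orderOf_z11]; norm_num)
  · refine LeechCoSimple.mem_normalizer_zpowers (k := 10) ?_ (by rw [orderOf_z11]; norm_num)
    rw [hconj, inv_eq_iff_mul_eq_one, ← pow_succ',
      show 10 + 1 = orderOf (permOf z11) by rw [orderOf_z11]]
    exact pow_orderOf_eq_one _

theorem no_invert_perm {σ : Equiv.Perm GolayPt} (hσ : σ ∈ M24) (hn : σ none = none)
    (hs : σ * permOf z11 = (permOf z11)⁻¹ * σ) : False := by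
  have h55 : σ ^ 55 = 1 := by
    have := congrArg Subtype.val (pow_card_eq_one' (G := normS) (x := ⟨σ, mem_normS hσ hn (Or.inr rfl) hs⟩))
    rwa [card_normS, SubgroupClass.coe_pow, OneMemClass.coe_one] at this
  have h2 : SemiconjBy (σ * σ) (permOf z11) (permOf z11) := by
    have h : SemiconjBy σ (permOf z11) (permOf z11)⁻¹ := hs
    have h' := h.inv_right
    rw [inv_inv] at h'
    exact h'.mul_left h
  have hc : Commute σ (permOf z11) := by
    have : σ = (σ * σ) ^ 28 := by
      rw [← pow_two, ← pow_mul, show 2 * 28 = 55 + 1 by norm_num, pow_add, h55, one_mul, pow_one]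
    rw [this]
    exact Commute.pow_left h2 28
  have hsq : permOf z11 ^ 2 = 1 := by
    rw [hc.eq] at hs
    rw [pow_two]
    exact mul_eq_one_iff_eq_inv.2 (mul_right_cancel hs)
  have := orderOf_dvd_of_pow_eq_one hsq
  rw [orderOf_z11] at this
  norm_num at this

theorem cent_perm {σ : Equiv.Perm GolayPt} (hσ : σ ∈ M24) (hn : σ none = none)
    (hs : σ * permOf z11 = permOf z11 * σ) : ∃ k < 11, σ = permOf z11 ^ k := by
  set C := normS ⊓ Subgroup.centralizer {permOf z11} with hC
  have hσC : σ ∈ C := ⟨mem_normS hσ hn (Or.inl rfl) hs, Subgroup.mem_centralizer_singleton_iff.2 hs⟩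
  have hle : Subgroup.zpowers (permOf z11) ≤ C :=
    Subgroup.zpowers_le.2 ⟨z11_mem, Subgroup.mem_centralizer_singleton_iff.2 rfl⟩
  have hdvd : Nat.card C ∣ 55 := card_normS ▸ Subgroup.card_dvd_of_le inf_le_left
  have hd : Nat.card (Subgroup.zpowers (permOf z11)) ∣ Nat.card C := Subgroup.card_dvd_of_le hle
  rw [Nat.card_zpowers, orderOf_z11] at hd
  have hne : Nat.card C ≠ 55 := by
    intro h
    have he : C = normS := Subgroup.eq_of_le_of_card_ge inf_le_left (by rw [h, card_normS])
    have ht : permOf 974380510768821363662145534143076928 ∈ C := by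
      rw [he]
      refine ⟨⟨⟨permOf_mem_M24 tw_good, ?_⟩, ?_⟩, LeechCoSimple.mem_normalizer_zpowers (k := 3) ?_
        (by rw [orderOf_z11]; norm_num)⟩
      rotate_left 2
      · rw [mul_inv_eq_iff_eq_mul]
        refine Equiv.ext fun p => ?_
        simp only [Equiv.Perm.mul_apply, pow_succ, pow_zero, one_mul,
          permOf_apply (valid_of_good tw_good), permOf_apply (valid_of_good z11_good)]
        revert p
        decide +kernel
      all_goals refine MulAction.mem_stabilizer_iff.mpr ?_
      all_goals rw [Equiv.Perm.smul_def,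
        permOf_apply (valid_of_good tw_good)]
      all_goals decide +kernel
    have hc := congrArg (fun f : Equiv.Perm GolayPt => f (pt 1))
      (Subgroup.mem_centralizer_singleton_iff.1 ht.2)
    simp only [Equiv.Perm.mul_apply, permOf_apply (valid_of_good tw_good),
      permOf_apply (valid_of_good z11_good)] at hc
    exact absurd hc (by decide +kernel)
  have h11 : Nat.card C = 11 := by
    obtain ⟨m, hm⟩ := hd
    have := Nat.le_of_dvd (by norm_num) hdvd
    have hm5 : m ≤ 5 := by omega
    interval_cases m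
    all_goals (first | omega | (rw [hm] at hdvd; norm_num at hdvd))
  have he : Subgroup.zpowers (permOf z11) = C := Subgroup.eq_of_le_of_card_ge hle
    (by rw [h11, Nat.card_zpowers, orderOf_z11])
  rw [← he] at hσC
  classical
  obtain ⟨k, hk, e⟩ := Finset.mem_image.1 ((mem_zpowers_iff_mem_range_orderOf).1 hσC)
  exact ⟨k, by have := Finset.mem_range.1 hk; rwa [orderOf_z11] at this, e.symm⟩

theorem perm_eq {σ τ : Equiv.Perm GolayPt} {c d : Finset GolayPt} {hσ : σ ∈ M24} {hτ : τ ∈ M24}
    {hc : c ∈ supports (golayCode : Set (GolayPt → ZMod 2))}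
    {hd : d ∈ supports (golayCode : Set (GolayPt → ZMod 2))}
    (h : monomial σ hσ c hc = monomial τ hτ d hd) : σ = τ :=
  (monomial_injective _ _ _ _ h).1

/-- Nothing fixing the frame vector inverts `g11`. -/
theorem no_invert {g : Co0} (hf : g • frame none = frame none) (h : g * g11 = g11⁻¹ * g) : False := by
  obtain ⟨σ, hσ, c, hc, rfl⟩ := mem_mono.mp (mem_mono_of_frame (Or.inl hf))
  have hn := (fixes_none (Or.inl hf)).1
  refine no_invert_perm hσ hn ?_
  have e : g11⁻¹ = permHom ⟨(permOf z11)⁻¹, inv_mem (permOf_mem_M24 z11_good)⟩ := by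
    rw [g11, permElt, ← map_inv]; rfl
  rw [e, g11] at h
  simp only [permElt, permHom, MonoidHom.mk'_apply, monomial_mul] at h
  exact perm_eq h

/-! ### the list of centralising elements -/

/-- The centraliser of the element of order 11, as words. -/
def c11 : List (List Step) := g11ws.flatMap fun g => m11.map fun s => s :: g

/-- The sign masks invariant under the cycles. -/
def invMasks : List ℕ := [0, 340831]

theorem mask_inv {c : Finset GolayPt} (hc : c ∈ supports (golayCode : Set (GolayPt → ZMod 2)))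
    (hn : none ∉ c) (hinv : ∀ p, (permOf z11 p ∈ c ↔ p ∈ c)) : ∃ m ∈ invMasks, c = mset m := by
  have hpow : ∀ e : ℕ, ∀ p, ((permOf z11 ^ e) p ∈ c ↔ p ∈ c) := by
    intro e
    induction e with
    | zero => simp
    | succ e ih =>
      intro p
      rw [pow_succ', Equiv.Perm.mul_apply, hinv, ih]
  have hrep : ∀ p, p ≠ none → p ≠ some 0 → (p ∈ c ↔ pt (if (loc11.getD (idx p) (2, 0)).1 = 0 then 1 else 5) ∈ c) := by
    intro p h1 h2
    have h : ∀ p : GolayPt, p ≠ none → p ≠ some 0 → (loc11.getD (idx p) (2, 0)).2 < 11 ∧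
        pimg (zs11.getD (loc11.getD (idx p) (2, 0)).2 0)
          (if (loc11.getD (idx p) (2, 0)).1 = 0 then 1 else 5) = idx p := by decide +kernel
    obtain ⟨he, hp⟩ := h p h1 h2
    have hlt : (if (loc11.getD (idx p) (2, 0)).1 = 0 then 1 else 5) < 24 := by split_ifs <;> norm_num
    have e : (permOf z11 ^ (loc11.getD (idx p) (2, 0)).2)
        (pt (if (loc11.getD (idx p) (2, 0)).1 = 0 then 1 else 5)) = p := idx_inj (by
      rw [GolayNormalizer.idx_pow table11 _ _ he, idx_pt hlt]; exact hp)
    conv_lhs => rw [← e]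
    exact hpow _ _
  classical
  have key : ∀ a b d : Bool, ∃ m, m < 2 ^ 24 ∧ (inCode m = true → m ∈ invMasks) ∧ ∀ p : GolayPt,
      (p ∈ mset m ↔ p ≠ none ∧ (if p = some 0 then a = true else
        if (loc11.getD (idx p) (2, 0)).1 = 0 then b = true else d = true)) := by
    intro a b d
    refine ⟨(if a then 1 else 0) + (if b then (pts.map fun i => if (loc11.getD i (2, 0)).1 = 0 ∧ i ≠ 0 ∧ i ≠ 23
      then 2 ^ i else 0).sum else 0) + (if d then (pts.map fun i => if (loc11.getD i (2, 0)).1 ≠ 0 ∧ i ≠ 0 ∧ i ≠ 23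
      then 2 ^ i else 0).sum else 0), ?_⟩
    revert a b d
    decide +kernel
  obtain ⟨m, hm, hmi, hmm⟩ := key (decide (some 0 ∈ c)) (decide (pt 1 ∈ c)) (decide (pt 5 ∈ c))
  have he : c = mset m := by
    ext p
    rw [hmm]
    by_cases h1 : p = none
    · subst h1; simp [hn]
    by_cases h2 : p = some 0
    · subst h2; simp
    rw [hrep p h1 h2]
    split_ifs <;> simp_all
  exact ⟨m, hmi ((mset_mem_supports hm).1 (he ▸ hc)), he⟩

/-- The candidates in the box are listed. -/
def boxOK : Bool :=
  (List.range 17).all fun i => (List.range 17).all fun j => (List.range 5).all fun k => (List.range 5).all fun l =>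
    !((((i : ℕ) : ℤ) - 8) ^ 2 + (((j : ℕ) : ℤ) - 8) ^ 2 + 11 * (((k : ℕ) : ℤ) - 2) ^ 2 +
        11 * (((l : ℕ) : ℤ) - 2) ^ 2 == 64) ||
      !(isL (patt ((i : ℤ) - 8) ((j : ℤ) - 8) ((k : ℤ) - 2) ((l : ℤ) - 2))) ||
      fix11.any (fun n => pts.all fun q =>
        dig n q == patt ((i : ℤ) - 8) ((j : ℤ) - 8) ((k : ℤ) - 2) ((l : ℤ) - 2) (pt q))

/-- The fixed vectors of norm 64. -/
theorem fixed11' {y : leechLattice} (hn : sqNorm (y : GolayPt → ℤ) = 64) (hy : g11 • y = y) :
    ∃ n ∈ fix11, (y : GolayPt → ℤ) = vec n := by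
  set a := (y : GolayPt → ℤ) (some 0) with ha
  set b := (y : GolayPt → ℤ) none with hb
  set c := (y : GolayPt → ℤ) (pt 1) with hc
  set d := (y : GolayPt → ℤ) (pt 5) with hd
  have hpat : (y : GolayPt → ℤ) = patt a b c d := by
    funext p
    have h : ∀ p : GolayPt, p ≠ none → p ≠ some 0 → (loc11.getD (idx p) (2, 0)).2 < 11 ∧
        pimg (zs11.getD (loc11.getD (idx p) (2, 0)).2 0)
          (if (loc11.getD (idx p) (2, 0)).1 = 0 then 1 else 5) = idx p := by decide +kernel
    unfold patt
    split_ifs with h1 h2 h3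
    · rw [h1]
    · rw [h2]
    · obtain ⟨he, hp⟩ := h p h1 h2
      rw [if_pos h3] at hp
      have e : (permOf z11 ^ (loc11.getD (idx p) (2, 0)).2) (pt 1) = p := idx_inj (by
        rw [GolayNormalizer.idx_pow table11 (pt 1) _ he, idx_pt (by norm_num)]; exact hp)
      conv_lhs => rw [← e]
      exact apply_pow (h := z11_good) hy _ _
    · obtain ⟨he, hp⟩ := h p h1 h2
      rw [if_neg h3] at hp
      have e : (permOf z11 ^ (loc11.getD (idx p) (2, 0)).2) (pt 5) = p := idx_inj (by
        rw [GolayNormalizer.idx_pow table11 (pt 5) _ he, idx_pt (by norm_num)]; exact hp)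
      conv_lhs => rw [← e]
      exact apply_pow (h := z11_good) hy _ _
  have hmem : isL (patt a b c d) = true := isL_iff.mpr (hpat ▸ y.2)
  rw [hpat, (patt_sums a b c d).1] at hn
  have h1 : -2 ≤ c ∧ c ≤ 2 := by constructor <;> nlinarith
  have h2 : -2 ≤ d ∧ d ≤ 2 := by constructor <;> nlinarith
  have h3 : -8 ≤ a ∧ a ≤ 8 := by constructor <;> nlinarith
  have h4 : -8 ≤ b ∧ b ≤ 8 := by constructor <;> nlinarith
  have key : boxOK = true := by decide +kernel
  simp only [boxOK, List.all_eq_true, List.mem_range, Bool.or_eq_true, Bool.not_eq_true', beq_eq_false_iff_ne] at key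
  have h := key (a + 8).toNat (by omega) (b + 8).toNat (by omega) (c + 2).toNat (by omega) (d + 2).toNat (by omega)
  rw [Int.toNat_of_nonneg (by omega), Int.toNat_of_nonneg (by omega), Int.toNat_of_nonneg (by omega),
    Int.toNat_of_nonneg (by omega)] at h
  simp only [add_sub_cancel_right, List.any_eq_true, List.all_eq_true, beq_iff_eq, hmem, Bool.true_eq_false,
    or_false] at h
  obtain ⟨n, hn', he⟩ := h.resolve_left (fun h' => h' hn)
  refine ⟨n, hn', ?_⟩
  rw [hpat]
  funext p
  rw [← pt_idx p, vec_pt _ (idx_lt p), he _ (mem_pts.2 (idx_lt p))]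

theorem commute_g11 {h : Co0} (hc : Commute h g11) : ∃ w ∈ c11, h = El w := by
  have hy : g11 • (h • frame none) = h • frame none := smul_frame_fixed hc.eq.symm g11_frame
  obtain ⟨n, hn, hv⟩ := fixed11' (by rw [sqNorm_smul, sqNorm_frame]) hy
  have key : ∀ n ∈ fix11,
      (g11ws.any (fun g => (applyWord g (LeechFreeInvolution.frameCodes.getD 23 0) == n) && eqOK (w11 ++ g) (g ++ w11)) ||
      n11ws.any (fun g => (applyWord g (LeechFreeInvolution.frameCodes.getD 23 0) == n) && eqOK (w11 ++ g) (g ++ w11i))) = true := by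
    decide +kernel
  have hwi : El w11i = g11⁻¹ := (El_inv (by decide +kernel : eqOK (w11 ++ w11i) [] = true)).trans (by rw [El_w11])
  have hk := key n hn
  simp only [Bool.or_eq_true, List.any_eq_true, Bool.and_eq_true, beq_iff_eq] at hk
  have htr : ∀ g : List Step, wordValid g = true →
      applyWord g (LeechFreeInvolution.frameCodes.getD 23 0) = n → ((El g)⁻¹ * h) • frame none = frame none := by
    intro g hg hgn
    rw [mul_smul, inv_smul_eq_iff]
    refine Subtype.ext ?_
    rw [hv, El_frame hg, show idx (none : GolayPt) = 23 from rfl, hgn]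
  have valid_of : ∀ {a b : List Step}, eqOK (w11 ++ a) b = true → wordValid a = true := by
    intro a b h
    have := (eqOK_valid h).1
    rw [wordValid_append, Bool.and_eq_true] at this
    exact this.2
  rcases hk with ⟨g, hg, hgn, hgc⟩ | ⟨g, -, hgn, hgc⟩
  · have hcg : El g * g11 = g11 * El g := by simpa [El_w11] using El_rel hgc
    have hf := htr g (valid_of hgc) hgn
    have hcom : ((El g)⁻¹ * h) * g11 = g11 * ((El g)⁻¹ * h) := by
      have h1 : Commute (El g)⁻¹ g11 := Commute.inv_left hcg
      exact (h1.mul_left hc).eq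
    obtain ⟨σ, hσ, c, hcs, e⟩ := mem_mono.mp (mem_mono_of_frame (Or.inl hf))
    have hn' := fixes_none (e ▸ Or.inl hf)
    rw [e, g11] at hcom
    simp only [permElt, permHom, MonoidHom.mk'_apply, monomial_mul] at hcom
    obtain ⟨hp, hmk⟩ := monomial_injective _ _ _ _ hcom
    obtain ⟨k, hk, rfl⟩ := cent_perm hσ hn'.1 hp
    simp only [Finset.smul_finset_empty] at hmk
    simp only [← Finset.bot_eq_empty, symmDiff_bot, bot_symmDiff] at hmk
    obtain ⟨m, hm, rfl⟩ := mask_inv hcs (hn'.2 (e ▸ hf)) (fun p => by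
      conv_lhs => rw [hmk]
      exact Finset.smul_mem_smul_finset_iff (permOf z11))
    have key2 : ∀ k < 11, ∀ m ∈ invMasks, m11.any (fun s =>
        monoOK' [s] (zs11.getD k 0) m) = true := by decide +kernel
    have hk2 := key2 k hk m hm
    simp only [List.any_eq_true] at hk2
    obtain ⟨s, hs, hok⟩ := hk2
    refine ⟨s :: g, List.mem_flatMap.2 ⟨g, hg, List.mem_map.2 ⟨s, hs, rfl⟩⟩, ?_⟩
    have hzk : permOf (zs11.getD k 0) = permOf z11 ^ k := by
      refine Equiv.ext fun p => idx_inj ?_
      rw [GolayNormalizer.idx_pow table11 p _ hk]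
      exact GolayChain.idx_permOf ((by decide +kernel : ∀ k < 11, GolayPerm.valid (zs11.getD k 0) = true) k hk) p
    have hw : wordValid [s] = true := by
      simp only [monoOK', Bool.and_eq_true] at hok; exact hok.1.1.1
    rw [show s :: g = [s] ++ g from rfl, El_append hw (valid_of hgc),
      El_mono hok (monoOK'_mem hok).1 (monoOK'_mem hok).2,
      monomial_congr _ (pow_mem (permOf_mem_M24 z11_good) k) _ hcs hzk rfl, ← e, mul_inv_cancel_left]
  · have hcg : El g * g11 = g11⁻¹ * El g := by simpa [El_w11, hwi] using El_rel hgc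
    refine (no_invert (htr g (valid_of hgc) hgn) ?_).elim
    have h1 : (El g)⁻¹ * g11⁻¹ = g11 * (El g)⁻¹ := by
      rw [inv_mul_eq_iff_eq_mul, ← mul_assoc, hcg, mul_inv_cancel_right]
    have h2 : (El g)⁻¹ * g11 = g11⁻¹ * (El g)⁻¹ := by
      rw [eq_inv_mul_iff_mul_eq, ← mul_assoc, ← h1, mul_assoc, inv_mul_cancel, mul_one]
    calc ((El g)⁻¹ * h) * g11 = (El g)⁻¹ * (g11 * h) := by rw [mul_assoc, hc.eq]
      _ = g11⁻¹ * ((El g)⁻¹ * h) := by rw [← mul_assoc, h2, mul_assoc]

/-! ### the element of order 23 -/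

theorem commute_g23 {h : Co0} (hc : Commute h g23) : ∃ k : ℕ, h = g23 ^ k ∨ h = g23 ^ k * negAut := by
  haveI := LeechOrder.finite_Co0
  suffices key : ∀ h : Co0, Commute h g23 → h • frame none = frame none → ∃ k : ℕ, h = g23 ^ k by
    rcases fixed23 (by rw [sqNorm_smul, sqNorm_frame]) (smul_frame_fixed hc.eq.symm g23_frame) with e | e
    · obtain ⟨k, hk⟩ := key h hc e; exact ⟨k, Or.inl hk⟩
    · have hcn : Commute negAut g23 := (Subgroup.mem_center_iff.1 negAut_mem_center g23).symm
      obtain ⟨k, hk⟩ := key (h * negAut) (hc.mul_left hcn) (by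
        rw [mul_smul, negAut_smul, smul_neg_vec, e, neg_neg])
      exact ⟨k, Or.inr (by rw [← hk, mul_assoc, LeechCoOneSimple.negAut_sq, mul_one])⟩
  intro h hc hf
  obtain ⟨σ, hσ, c, hcs, e⟩ := mem_mono.mp (mem_mono_of_frame (Or.inl hf))
  obtain ⟨hn, hcn⟩ := fixes_none (e ▸ Or.inl hf)
  have hcn := hcn (e ▸ hf)
  have hcom := hc.eq
  rw [e, g23] at hcom
  simp only [permElt, permHom, MonoidHom.mk'_apply, monomial_mul] at hcom
  obtain ⟨hp, hmk⟩ := monomial_injective _ _ _ _ hcom
  simp only [Finset.smul_finset_empty] at hmk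
  simp only [← Finset.bot_eq_empty, symmDiff_bot, bot_symmDiff] at hmk
  have hreach : ∀ p : GolayPt, p ≠ none → ∃ j : ℕ, j < 23 ∧ (permOf z23 ^ j) (some 0) = p := by
    intro p hp
    have h : ∀ p : GolayPt, p ≠ none → GolayPerm.pimg (GolaySimple.zs23.getD (idx p) 0) 0 = idx p := by
      decide +kernel
    have hlt : idx p < 23 := by
      cases p with
      | none => exact absurd rfl hp
      | some a => exact ZMod.val_lt a
    exact ⟨idx p, hlt, idx_inj (by
      rw [GolayNormalizer.idx_pow GolaySimple.table23 (some 0) _ hlt]; exact h p hp)⟩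
  have hne : σ (some 0) ≠ none := fun he => by
    rw [← hn] at he; exact absurd (σ.injective he) (by decide)
  obtain ⟨j, hj, hjs⟩ := hreach _ hne
  have hfix : permOf z23 none = none := by
    rw [permOf_apply (valid_of_good z23_good)]; decide +kernel
  have hσj : σ = permOf z23 ^ j := by
    refine Equiv.ext fun p => ?_
    by_cases hp' : p = none
    · subst hp'
      rw [hn]
      exact ((MulAction.stabilizer (Equiv.Perm GolayPt) (none : GolayPt)).pow_mem hfix j).symm
    · obtain ⟨i, -, rfl⟩ := hreach p hp'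
      rw [← Equiv.Perm.mul_apply, (Commute.pow_right hp i).eq, Equiv.Perm.mul_apply, ← hjs,
        ← Equiv.Perm.mul_apply, ← Equiv.Perm.mul_apply, ← pow_add, ← pow_add, add_comm]
  refine ⟨j, ?_⟩
  have hc0 : c = ∅ := by
    have hpow : ∀ e : ℕ, ∀ p, ((permOf z23 ^ e) p ∈ c ↔ p ∈ c) := by
      intro e
      induction e with
      | zero => simp
      | succ e ih =>
        intro p
        rw [pow_succ', Equiv.Perm.mul_apply, ← ih p]
        conv_lhs => rw [hmk]
        exact Finset.smul_mem_smul_finset_iff (permOf z23)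
    by_contra hne0
    obtain ⟨q, hq⟩ := Finset.nonempty_iff_ne_empty.2 hne0
    have h0 : some 0 ∈ c := by
      obtain ⟨i, -, hi⟩ := hreach q (fun h => hcn (h ▸ hq))
      exact (hpow i _).1 (hi ▸ hq)
    have : c = mset 8388607 := by
      ext p
      have hm : ∀ p : GolayPt, p ∈ mset 8388607 ↔ p ≠ none := by decide +kernel
      rw [hm]
      by_cases hp' : p = none
      · subst hp'; simp [hcn]
      · obtain ⟨i, -, rfl⟩ := hreach p hp'
        simp [hp', (hpow i _).2 h0]
    rw [this] at hcs
    exact absurd ((mset_mem_supports (by norm_num)).1 hcs) (by decide +kernel)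
  subst hc0
  rw [e, show g23 ^ j = permHom (⟨permOf z23, permOf_mem_M24 z23_good⟩ ^ j) by rw [map_pow]; rfl]
  exact monomial_congr hσ (pow_mem (permOf_mem_M24 z23_good) j) empty_mem_supports empty_mem_supports hσj rfl

end Cfsg.Agent.LeechCent11
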