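import Cfsg.Agent.Lib.LeechRepMod50
import Cfsg.Agent.Lib.LeechCent11
import Cfsg.Agent.Lib.CoZeroInvolData

/-!
Sign changes, their matrices modulo five, and the traces.
-/

set_option autoImplicit false

open scoped Pointwise symmDiff

namespace Cfsg.Agent.CoZeroInvolBasic

open Cfsg Cfsg.Agent.GolayBasic Cfsg.Agent.LeechBasic Cfsg.Agent.LeechAut
open Cfsg.Agent.LeechCert Cfsg.Agent.LeechOutTool Cfsg.Agent.LeechStab Cfsg.Agent.LeechOrbit
open Cfsg.Agent.LeechRepMod50 (ρ)
open Cfsg.Agent.GolayPerm (good pts mem_pts pimg pmask permOf permOf_mem_M24 valid_of_good)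
open Cfsg.Agent.CoZeroInvolData

/-- A sign change. -/
noncomputable def sgn (c : Finset GolayPt) (hc : c ∈ CodeSupp) : Co0 := monomial 1 (one_mem _) c hc

theorem permOf_pId : permOf pId = 1 := by
  have hv : GolayPerm.valid pId = true := by decide +kernel
  have h : ∀ i < 24, pimg pId i = i := by decide +kernel
  refine Equiv.ext fun p => idx_inj ?_
  rw [GolayChain.idx_permOf hv p, h _ (idx_lt p)]
  rfl

theorem mem_code {m : ℕ} (h : inCode m = true) : mset m ∈ CodeSupp :=
  (mset_mem_supports (inCode_lt h)).2 h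

theorem El_sgn {w : List Step} {m : ℕ} (h : monoOK' w pId m = true) :
    ∃ hc, El w = sgn (mset m) hc := by
  obtain ⟨h1, h2⟩ := monoOK'_mem h
  exact ⟨h2, (El_mono h h1 h2).trans (monomial_congr h1 (one_mem _) h2 h2 permOf_pId rfl)⟩

theorem ρ_sgn (c : Finset GolayPt) (hc : c ∈ CodeSupp) (a b : GolayPt) :
    ρ (sgn c hc) a b = if a = b then (if a ∈ c then -1 else 1) else 0 := by
  show (2 : ZMod 5) * (((monomial 1 (one_mem _) c hc • frame b : leechLattice) : GolayPt → ℤ) a : ZMod 5) = _
  rw [coe_monomial_smul]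
  simp only [signedPerm, show (1 : Equiv.Perm GolayPt).symm = 1 from rfl, Equiv.Perm.one_apply]
  change (2 : ZMod 5) * ((if a ∈ c then -(unitVec 8 b a) else unitVec 8 b a : ℤ) : ZMod 5) = _
  have h1 : (2 : ZMod 5) * ((-8 : ℤ) : ZMod 5) = -1 := by decide
  have h2 : (2 : ZMod 5) * ((8 : ℤ) : ZMod 5) = 1 := by decide
  simp only [unitVec]
  by_cases e : a = b <;> by_cases h : a ∈ c <;> simp only [e, h, if_true, if_false, neg_zero]
  all_goals first
    | exact h1
    | exact h2
    | simp_all

theorem ρ_negAut (a b : GolayPt) : ρ negAut a b = if a = b then -1 else 0 := by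
  rw [show negAut = sgn Finset.univ univ_mem_supports from rfl, ρ_sgn]
  simp

theorem ρ_one (a b : GolayPt) : ρ (1 : Co0) a b = if a = b then 1 else 0 := by
  rw [map_one, Matrix.one_apply]

/-- The trace modulo five. -/
noncomputable def tr (g : Co0) : ZMod 5 := Matrix.trace (ρ g)

theorem tr_conj (k g : Co0) : tr (k * g * k⁻¹) = tr g := by
  rw [tr, map_mul, Matrix.trace_mul_comm, ← map_mul, ← mul_assoc, inv_mul_cancel, one_mul, tr]

/-- The trace of a word. -/
noncomputable def trW (w : List Step) : ZMod 5 :=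
  ∑ a : GolayPt, 2 * ((dig (applyWord w (LeechFreeInvolution.frameCodes.getD (idx a) 0)) (idx a) : ℤ) : ZMod 5)

theorem tr_El {w : List Step} (h : wordValid w = true) : tr (El w) = trW w := by
  simp only [tr, trW, Matrix.trace, Matrix.diag_apply, ρ, MonoidHom.coe_mk, OneHom.coe_mk, Matrix.of_apply]
  refine Finset.sum_congr rfl fun a _ => ?_
  rw [El_frame h a, vec]

/-- A column of the matrix determines the image of a frame vector. -/
theorem frame_eq_of_column {g : Co0} {b : GolayPt} (h : ∀ a, ρ g a b = if a = b then 1 else 0) :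
    g • frame b = frame b := by
  refine Subtype.ext ?_
  set v : GolayPt → ℤ := ((g • frame b : leechLattice) : GolayPt → ℤ) with hv
  set w : GolayPt → ℤ := ((frame b : leechLattice) : GolayPt → ℤ) with hw
  have h5 : ∀ a, (5 : ℤ) ∣ v a - w a := by
    intro a
    have h1 : (2 : ZMod 5) * (v a : ZMod 5) = 2 * (w a : ZMod 5) := by
      show ρ g a b = _
      rw [h a, hw]
      show _ = (2 : ZMod 5) * ((unitVec 8 b a : ℤ) : ZMod 5)
      simp only [unitVec]
      split_ifs <;> decide
    have h2 : ((v a - w a : ℤ) : ZMod 5) = 0 := by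
      rw [Int.cast_sub, sub_eq_zero]
      exact (by decide : ∀ x y : ZMod 5, 2 * x = 2 * y → x = y) _ _ h1
    exact_mod_cast (ZMod.intCast_zmod_eq_zero_iff_dvd _ 5).1 h2
  choose d hd using h5
  have hdl : IsLeech d := by
    have h8d : (8 : ℤ) • d ∈ leechLattice := by
      have : (8 : ℤ) • d = ∑ i, d i • unitVec 8 i := by
        funext a
        simp [unitVec, Finset.sum_apply, mul_comm]
      rw [this]
      exact sum_mem fun i _ => zsmul_mem (mem_leechLattice.2 (isLeech_unitVec_eight i)) _
    have h5d : (5 : ℤ) • d ∈ leechLattice := by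
      have : (5 : ℤ) • d = v - w := by funext a; simp [hd a]
      rw [this]
      exact (g • frame b - frame b : leechLattice).2
    refine mem_leechLattice.1 ?_
    have : d = (2 : ℤ) • ((8 : ℤ) • d) + (-3 : ℤ) • ((5 : ℤ) • d) := by funext a; simp; ring
    rw [this]
    exact add_mem (zsmul_mem h8d _) (zsmul_mem h5d _)
  by_contra hne
  have hd0 : d ≠ 0 := by
    intro h0
    refine hne (funext fun a => ?_)
    have := hd a
    rw [h0, Pi.zero_apply, mul_zero] at this
    exact sub_eq_zero.1 this
  have hbig := thirtytwo_le_sqNorm hdl hd0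
  have h25 : sqNorm (v - w) = 25 * sqNorm d := by
    simp only [sqNorm, Pi.sub_apply, hd, Finset.mul_sum, mul_pow]
    norm_num
  have hv64 : sqNorm v = 64 := by rw [hv, sqNorm_smul, sqNorm_frame]
  have hw64 : sqNorm w = 64 := by rw [hw, sqNorm_frame]
  have : sqNorm (v - w) ≤ 256 := by
    calc sqNorm (v - w) ≤ ∑ a, (2 * v a ^ 2 + 2 * w a ^ 2) :=
          Finset.sum_le_sum fun a _ => by rw [Pi.sub_apply]; nlinarith [sq_nonneg (v a + w a)]
      _ = 2 * sqNorm v + 2 * sqNorm w := by
        rw [Finset.sum_add_distrib, ← Finset.mul_sum, ← Finset.mul_sum]; rfl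
      _ = 256 := by rw [hv64, hw64]; norm_num
  omega

end Cfsg.Agent.CoZeroInvolBasic
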