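import Cfsg.Agent.Lib.ZStarTheorem

/-!
A standard subgroup isomorphic to a group with the involution pattern of Co0 whose centraliser has
cyclic Sylow 2-subgroups is normal: the central involution is isolated.
-/

set_option autoImplicit false

namespace Cfsg.Agent.CoZeroStandard

variable {K G : Type*} [Group K] [Group G]

/-- `t` is conjugate to `r`. -/
def Cl (r t : K) : Prop := ∃ k : K, k * t * k⁻¹ = r

theorem Cl.self (r : K) : Cl r r := ⟨1, by group⟩

theorem Cl.mul_central {r t n : K} (hn : ∀ x : K, Commute n x) (h : Cl r t) : Cl (n * r) (n * t) := by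
  obtain ⟨k, rfl⟩ := h
  exact ⟨k, by rw [← mul_assoc k n t, ← (hn k).eq]; group⟩

/-- The facts about the group `K` that are needed. -/
structure Pattern (n r8 r12 : K) : Prop where
  central : ∀ x : K, Commute n x
  sq : n * n = 1
  center : ∀ x : K, (∀ y : K, Commute x y) → x = 1 ∨ x = n
  ne : n ≠ 1
  cases_invol : ∀ t : K, t * t = 1 → t = 1 ∨ t = n ∨ Cl r8 t ∨ Cl (n * r8) t ∨ Cl r12 t
  invol_comm : ∀ t : K, t * t = 1 ∨ t * t = n → ∃ p q : K, Commute p t ∧ Commute q t ∧ p * q * p⁻¹ * q⁻¹ = n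
  neg12 : Cl r12 (n * r12)
  octads : ∃ o : K, Cl r8 o ∧ Cl r8 (r8 * o) ∧ Commute r8 o ∧ o ≠ r8 ∧ n * o ≠ r8
  dodecads : ∃ d : K, Cl r12 d ∧ Cl r8 (r12 * d) ∧ Commute r12 d ∧ d ≠ r12
  wit16 : ∃ p1 q1 h k p q : K,
    (∀ y ∈ [p1, q1, h, k, p, q], Commute y (n * r8)) ∧
    (p1 * q1 * p1⁻¹ * q1⁻¹) * (p1 * q1 * p1⁻¹ * q1⁻¹) = 1 ∧
    (∃ x : K, x = (p1 * q1 * p1⁻¹ * q1⁻¹) * (h * (p1 * q1 * p1⁻¹ * q1⁻¹) * h⁻¹) *
        (k * (p1 * q1 * p1⁻¹ * q1⁻¹) * k⁻¹) ∧ x ^ 7 = 1 ∧ x ≠ 1 ∧ Commute p x ∧ Commute q x) ∧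
    p * q * p⁻¹ * q⁻¹ = n * r8
  wit12 : ∃ p1 q1 h k : K,
    (∀ y ∈ [p1, q1, h, k], Commute y r12) ∧
    (p1 * q1 * p1⁻¹ * q1⁻¹) * (p1 * q1 * p1⁻¹ * q1⁻¹) = 1 ∧
    ∃ x : K, x = (p1 * q1 * p1⁻¹ * q1⁻¹) * (h * (p1 * q1 * p1⁻¹ * q1⁻¹) * h⁻¹) *
        (k * (p1 * q1 * p1⁻¹ * q1⁻¹) * k⁻¹) ∧ x ^ 11 = 1 ∧ x ≠ 1
  no_eleven : ∀ x : K, x ^ 11 = 1 → x ≠ 1 → ¬ Commute x r8
  no_seven : ∀ x p q : K, x ^ 7 = 1 → x ≠ 1 → Commute x r8 → Commute p x → Commute q x →
    Commute p r8 → Commute q r8 → p * q * p⁻¹ * q⁻¹ ≠ n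

/-- The embedding of `K` with the hypotheses on the centraliser of the central involution. -/
structure Embedded (ι : K →* G) (n : K) (C : Subgroup G) : Prop where
  inj : Function.Injective ι
  comm : ∀ a : K, ∀ c ∈ C, Commute (ι a) c
  decomp : ∀ g : G, Commute g (ι n) → ∃ a : K, ∃ c ∈ C, g = ι a * c
  inter : ∀ a : K, ι a ∈ C → ∀ y : K, Commute a y
  only : ∀ c ∈ C, c * c = 1 → c = 1 ∨ c = ι n
  odd_comm : ∀ c ∈ C, ∀ d ∈ C, Odd (orderOf (c * d * c⁻¹ * d⁻¹))

variable {ι : K →* G} {n r8 r12 : K} {C : Subgroup G}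

theorem eq_of_mul {g a b : G} (h : g * a * g⁻¹ = b) : g⁻¹ * b * g = a := by rw [← h]; group

theorem comm_mem_aux (H : Pattern n r8 r12) (E : Embedded ι n C) {a b : K} {c d : G} (hc : c ∈ C)
    (hd : d ∈ C) (h : (ι a * c * (ι b * d) * (ι a * c)⁻¹ * (ι b * d)⁻¹) *
      (ι a * c * (ι b * d) * (ι a * c)⁻¹ * (ι b * d)⁻¹) = 1) :
    ι a * c * (ι b * d) * (ι a * c)⁻¹ * (ι b * d)⁻¹ = ι (a * b * a⁻¹ * b⁻¹) := by
  set w := c * d * c⁻¹ * d⁻¹ with hw
  have hwC : w ∈ C := mul_mem (mul_mem (mul_mem hc hd) (inv_mem hc)) (inv_mem hd)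
  have e : ι a * c * (ι b * d) * (ι a * c)⁻¹ * (ι b * d)⁻¹ = ι (a * b * a⁻¹ * b⁻¹) * w := by
    have e1 : c * ι b = ι b * c := (E.comm b c hc).eq.symm
    have e2 : c * d * c⁻¹ * (ι a)⁻¹ = (ι a)⁻¹ * (c * d * c⁻¹) := by
      rw [← map_inv]; exact (E.comm a⁻¹ _ (mul_mem (mul_mem hc hd) (inv_mem hc))).eq.symm
    have e3 : w * (ι b)⁻¹ = (ι b)⁻¹ * w := by rw [← map_inv]; exact (E.comm b⁻¹ w hwC).eq.symm
    calc ι a * c * (ι b * d) * (ι a * c)⁻¹ * (ι b * d)⁻¹
        = ι a * (c * ι b) * d * c⁻¹ * (ι a)⁻¹ * d⁻¹ * (ι b)⁻¹ := by group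
      _ = ι a * ι b * (c * d * c⁻¹ * (ι a)⁻¹) * d⁻¹ * (ι b)⁻¹ := by rw [e1]; group
      _ = ι a * ι b * (ι a)⁻¹ * (w * (ι b)⁻¹) := by rw [e2, hw]; group
      _ = _ := by rw [e3, map_mul, map_mul, map_mul, map_inv, map_inv]; group
  rw [e] at h ⊢
  set s := a * b * a⁻¹ * b⁻¹
  have hcomm : Commute (ι s) w := E.comm s w hwC
  have h2 : ι (s * s) * (w * w) = 1 := by
    rw [map_mul, hcomm.mul_mul_mul_comm (ι s) w, h]
  have hmem : ι (s * s) ∈ C := by
    rw [eq_inv_of_mul_eq_one_left h2]; exact inv_mem (mul_mem hwC hwC)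
  have hss : (s * s) * (s * s) = 1 := by
    rcases H.center _ (E.inter _ hmem) with e' | e' <;> rw [e']
    · simp
    · exact H.sq
  have hw4 : w ^ 4 = 1 := by
    have h3 : (w * w)⁻¹ = ι (s * s) := (eq_inv_of_mul_eq_one_left h2).symm
    have h4 : (w * w)⁻¹ * (w * w)⁻¹ = 1 := by rw [h3, ← map_mul, hss, map_one]
    rw [← mul_inv_rev, inv_eq_one] at h4
    simpa [pow_succ, mul_assoc] using h4
  have hodd : Odd (orderOf w) := E.odd_comm c hc d hd
  have : orderOf w = 1 := by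
    have hd4 : orderOf w ∣ 2 ^ 2 := orderOf_dvd_of_pow_eq_one (by simpa using hw4)
    obtain ⟨i, -, hi⟩ := (Nat.dvd_prime_pow Nat.prime_two).1 hd4
    rw [hi] at hodd
    cases i with
    | zero => simpa using hi
    | succ i => exact absurd hodd (by simp [pow_succ])
  rw [orderOf_eq_one_iff] at this
  rw [this, mul_one]

/-- A commutator in the centraliser which squares to one lies in the image. -/
theorem comm_mem (H : Pattern n r8 r12) (E : Embedded ι n C) {x y : G} (hx : Commute x (ι n))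
    (hy : Commute y (ι n)) (h : (x * y * x⁻¹ * y⁻¹) * (x * y * x⁻¹ * y⁻¹) = 1) :
    ∃ a b : K, ∃ c ∈ C, ∃ d ∈ C, x = ι a * c ∧ y = ι b * d ∧ x * y * x⁻¹ * y⁻¹ = ι (a * b * a⁻¹ * b⁻¹) := by
  obtain ⟨a, c, hc, rfl⟩ := E.decomp x hx
  obtain ⟨b, d, hd, rfl⟩ := E.decomp y hy
  exact ⟨a, b, c, hc, d, hd, rfl, rfl, comm_mem_aux H E hc hd h⟩

/-- The image of `K` is normalised by the centraliser of `ι n`. -/
theorem conj_mem (E : Embedded ι n C) {g : G} (hg : Commute g (ι n)) (a : K) :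
    ∃ b : K, g * ι a * g⁻¹ = ι b := by
  obtain ⟨k, c, hc, rfl⟩ := E.decomp g hg
  refine ⟨k * a * k⁻¹, ?_⟩
  have e : c * ι a * c⁻¹ = ι a := by rw [← (E.comm a c hc).eq, mul_inv_cancel_right]
  rw [map_mul, map_mul, map_inv]
  calc ι k * c * ι a * (ι k * c)⁻¹ = ι k * (c * ι a * c⁻¹) * (ι k)⁻¹ := by group
    _ = _ := by rw [e]

theorem commute_n (H : Pattern n r8 r12) (a : K) : Commute (ι a) (ι n) := ((H.central a).map ι).symm

/-- Conjugates of `ι n` commuting with it lie in the image. -/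
theorem conj_in_range (H : Pattern n r8 r12) (E : Embedded ι n C) (g : G)
    (hg : Commute (ι n) (g * ι n * g⁻¹)) : ∃ a : K, g * ι n * g⁻¹ = ι a := by
  set z := ι n with hz
  have hzz : z * z = 1 := by rw [hz, ← map_mul, H.sq, map_one]
  set t := g⁻¹ * z * g with ht
  have htt : t * t = 1 := by
    calc t * t = g⁻¹ * (z * z) * g := by rw [ht]; group
      _ = 1 := by rw [hzz]; group
  have htz : Commute t z := by
    have := congrArg (fun y => g⁻¹ * y * g) hg.eq
    show t * z = z * t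
    calc t * z = g⁻¹ * (z * (g * z * g⁻¹)) * g := by rw [ht]; group
      _ = g⁻¹ * ((g * z * g⁻¹) * z) * g := this
      _ = z * t := by rw [ht]; group
  obtain ⟨a, c, hc, htac⟩ := E.decomp t htz
  have hac : Commute (ι a) c := E.comm a c hc
  have h2 : ι (a * a) * (c * c) = 1 := by
    rw [map_mul, hac.mul_mul_mul_comm (ι a) c, ← htac, htt]
  have hmem : ι (a * a) ∈ C := by
    rw [eq_inv_of_mul_eq_one_left h2]; exact inv_mem (mul_mem hc hc)
  obtain ⟨p, q, hp, hq, hpq⟩ := H.invol_comm a (H.center _ (E.inter _ hmem))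
  have hpt : Commute (ι p) t := by rw [htac]; exact (hp.map ι).mul_right (E.comm p c hc)
  have hqt : Commute (ι q) t := by rw [htac]; exact (hq.map ι).mul_right (E.comm q c hc)
  have key : ∀ y : G, Commute y t → Commute (g * y * g⁻¹) z := fun y hy => by
    show _ = _
    calc g * y * g⁻¹ * z = g * (y * t) * g⁻¹ := by rw [ht]; group
      _ = g * (t * y) * g⁻¹ := by rw [hy.eq]
      _ = z * (g * y * g⁻¹) := by rw [ht]; group
  have e : (g * ι p * g⁻¹) * (g * ι q * g⁻¹) * (g * ι p * g⁻¹)⁻¹ * (g * ι q * g⁻¹)⁻¹ = g * z * g⁻¹ := by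
    rw [hz, ← hpq, map_mul, map_mul, map_mul, map_inv, map_inv]; group
  obtain ⟨a', b', -, -, -, -, -, -, h⟩ := comm_mem H E (key _ hpt) (key _ hqt) (by
    rw [e]
    calc g * z * g⁻¹ * (g * z * g⁻¹) = g * (z * z) * g⁻¹ := by group
      _ = 1 := by rw [hzz]; group)
  exact ⟨_, e.symm.trans h⟩

/-- The image of `a` is conjugate to the central involution. -/
def Fused (ι : K →* G) (n a : K) : Prop := ∃ g : G, g * ι n * g⁻¹ = ι a

theorem Fused.of_cl {a r : K} (hc : Cl r a) (h : Fused ι n a) : Fused ι n r := by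
  obtain ⟨k, rfl⟩ := hc
  obtain ⟨g, hg⟩ := h
  exact ⟨ι k * g, by rw [map_mul, map_mul, map_inv, ← hg]; group⟩

theorem Fused.of_cl' {a r : K} (hc : Cl r a) (h : Fused ι n r) : Fused ι n a := by
  obtain ⟨k, hk⟩ := hc
  exact Fused.of_cl ⟨k⁻¹, by rw [← hk]; group⟩ h

/-- Transport to the view of a fused element. -/
theorem view (H : Pattern n r8 r12) (E : Embedded ι n C) {u v : K}
    (hv : Fused ι n v) (huv : Commute u v) {g : G} (hg : g * ι n * g⁻¹ = ι u) :
    ∃ b : K, g⁻¹ * ι v * g = ι b ∧ Fused ι n b ∧ b * b = 1 := by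
  obtain ⟨k, hk⟩ := hv
  have hzu : g⁻¹ * ι u * g = ι n := eq_of_mul hg
  have hcomm : Commute (ι n) ((g⁻¹ * k) * ι n * (g⁻¹ * k)⁻¹) := by
    have e : (g⁻¹ * k) * ι n * (g⁻¹ * k)⁻¹ = g⁻¹ * ι v * g := by rw [← hk]; group
    rw [e, ← hzu]
    show _ = _
    calc g⁻¹ * ι u * g * (g⁻¹ * ι v * g) = g⁻¹ * (ι u * ι v) * g := by group
      _ = g⁻¹ * (ι v * ι u) * g := by rw [(huv.map ι).eq]
      _ = _ := by group
  obtain ⟨b, hb⟩ := conj_in_range H E (g⁻¹ * k) hcomm
  refine ⟨b, ?_, ⟨g⁻¹ * k, hb⟩, E.inj ?_⟩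
  · rw [← hk, ← hb]; group
  · rw [map_mul, map_one, ← hb]
    calc g⁻¹ * k * ι n * (g⁻¹ * k)⁻¹ * (g⁻¹ * k * ι n * (g⁻¹ * k)⁻¹)
        = g⁻¹ * k * ι (n * n) * (g⁻¹ * k)⁻¹ := by rw [map_mul]; group
      _ = 1 := by rw [H.sq, map_one]; group

theorem fused_n (ι : K →* G) (n : K) : Fused ι n n := ⟨1, by group⟩

/-- the element with `γ`-image in the centraliser -/
theorem view_commute (H : Pattern n r8 r12) {u a y : K} {g : G} (hg : g * ι n * g⁻¹ = ι u)
    (ha : g⁻¹ * ι n * g = ι a) (hy : Commute y u) :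
    Commute (g⁻¹ * ι y * g) (ι n) ∧ Commute (g⁻¹ * ι y * g) (ι a) := by
  constructor
  · rw [← eq_of_mul hg]
    show _ = _
    calc g⁻¹ * ι y * g * (g⁻¹ * ι u * g) = g⁻¹ * (ι y * ι u) * g := by group
      _ = g⁻¹ * (ι u * ι y) * g := by rw [(hy.map ι).eq]
      _ = _ := by group
  · rw [← ha]
    show _ = _
    calc g⁻¹ * ι y * g * (g⁻¹ * ι n * g) = g⁻¹ * (ι y * ι n) * g := by group
      _ = g⁻¹ * (ι n * ι y) * g := by rw [(commute_n H y).eq]
      _ = _ := by group

/-- Transport of a product of three conjugates of a commutator involution. -/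
theorem view_prod (H : Pattern n r8 r12) (E : Embedded ι n C) {u a p1 q1 h k x : K} {g : G}
    (hg : g * ι n * g⁻¹ = ι u) (ha : g⁻¹ * ι n * g = ι a)
    (hy : ∀ y ∈ [p1, q1, h, k], Commute y u)
    (hii : (p1 * q1 * p1⁻¹ * q1⁻¹) * (p1 * q1 * p1⁻¹ * q1⁻¹) = 1)
    (hx : x = (p1 * q1 * p1⁻¹ * q1⁻¹) * (h * (p1 * q1 * p1⁻¹ * q1⁻¹) * h⁻¹) *
        (k * (p1 * q1 * p1⁻¹ * q1⁻¹) * k⁻¹)) :
    ∃ x' : K, g⁻¹ * ι x * g = ι x' ∧ Commute x' a := by
  obtain ⟨i, hi⟩ : ∃ i, i = p1 * q1 * p1⁻¹ * q1⁻¹ := ⟨_, rfl⟩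
  rw [← hi] at hx hii
  have hv : ∀ y ∈ [p1, q1, h, k], Commute (g⁻¹ * ι y * g) (ι n) ∧ Commute (g⁻¹ * ι y * g) (ι a) :=
    fun y h' => view_commute H hg ha (hy y h')
  have ei : (g⁻¹ * ι p1 * g) * (g⁻¹ * ι q1 * g) * (g⁻¹ * ι p1 * g)⁻¹ * (g⁻¹ * ι q1 * g)⁻¹ =
      g⁻¹ * ι i * g := by rw [hi, map_mul, map_mul, map_mul, map_inv, map_inv]; group
  obtain ⟨a', b', -, -, -, -, -, -, hi'⟩ := comm_mem H E (hv p1 (by simp)).1 (hv q1 (by simp)).1 (by
    rw [ei]
    calc g⁻¹ * ι i * g * (g⁻¹ * ι i * g) = g⁻¹ * ι (i * i) * g := by rw [map_mul]; group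
      _ = 1 := by rw [hii, map_one]; group)
  rw [ei] at hi'
  obtain ⟨b2, hb2⟩ := conj_mem E (hv h (by simp)).1 (a' * b' * a'⁻¹ * b'⁻¹)
  obtain ⟨b3, hb3⟩ := conj_mem E (hv k (by simp)).1 (a' * b' * a'⁻¹ * b'⁻¹)
  rw [← hi'] at hb2 hb3
  have e : g⁻¹ * ι x * g = ι ((a' * b' * a'⁻¹ * b'⁻¹) * b2 * b3) := by
    rw [map_mul, map_mul ι _ b2, ← hi', ← hb2, ← hb3, hx]
    simp only [map_mul, map_inv]
    group
  refine ⟨(a' * b' * a'⁻¹ * b'⁻¹) * b2 * b3, e, ?_⟩
  ·
    have hxu : Commute x u := by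
      have h1 : ∀ y ∈ [p1, q1, h, k], Commute y u := hy
      have hp1 := h1 p1 (by simp); have hq1 := h1 q1 (by simp)
      have hh := h1 h (by simp); have hk := h1 k (by simp)
      have hiu : Commute i u := hi ▸ ((hp1.mul_left hq1).mul_left hp1.inv_left).mul_left hq1.inv_left
      rw [hx]
      exact (hiu.mul_left ((hh.mul_left hiu).mul_left hh.inv_left)).mul_left
        ((hk.mul_left hiu).mul_left hk.inv_left)
    have h2 := (view_commute H hg ha hxu).2
    rw [e] at h2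
    exact E.inj (by rw [map_mul ι _ a, map_mul ι a]; exact h2.eq)

theorem pow_view {g y : G} {x' : K} (h : g⁻¹ * y * g = ι x') (m : ℕ) (hy : y ^ m = 1) :
    ι (x' ^ m) = 1 := by
  rw [map_pow, ← h]
  have : (g⁻¹ * y * g) ^ m = g⁻¹ * y ^ m * g := by
    have := conj_pow (i := m) (a := g⁻¹) (b := y)
    rwa [inv_inv] at this
  rw [this, hy]; group

theorem no_eleven_conj (H : Pattern n r8 r12) {x : K} (hx : x ^ 11 = 1) (hne : x ≠ 1)
    (hxu : Commute x r8) : False := H.no_eleven x hx hne hxu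

/-- Commutation is transported to a view. -/
theorem commute_of_view (hinj : Function.Injective ι) {x y x' y' : K} {g : G} (hx : g⁻¹ * ι x * g = ι x')
    (hy : g⁻¹ * ι y * g = ι y') (h : Commute x y) : Commute x' y' := by
  apply hinj
  rw [map_mul, map_mul, ← hx, ← hy]
  calc g⁻¹ * ι x * g * (g⁻¹ * ι y * g) = g⁻¹ * (ι x * ι y) * g := by group
    _ = g⁻¹ * (ι y * ι x) * g := by rw [(h.map ι).eq]
    _ = _ := by group

theorem no_seven_conj (H : Pattern n r8 r12) {a x p q : K} (j : K) (hj : j * a * j⁻¹ = r8)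
    (hx : x ^ 7 = 1) (hne : x ≠ 1) (hxa : Commute x a) (hpx : Commute p x) (hqx : Commute q x)
    (hpa : Commute p a) (hqa : Commute q a) (hpq : p * q * p⁻¹ * q⁻¹ = n) : False := by
  have hr : MulAut.conj j a = r8 := hj
  refine H.no_seven (MulAut.conj j x) (MulAut.conj j p) (MulAut.conj j q)
    (by rw [← map_pow, hx, map_one]) (fun e => hne ((map_eq_one_iff _ (MulEquiv.injective _)).1 e))
    (hr ▸ hxa.map _) (hpx.map _) (hqx.map _) (hr ▸ hpa.map _) (hr ▸ hqa.map _) ?_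
  rw [← map_inv, ← map_inv, ← map_mul, ← map_mul, ← map_mul, hpq, MulAut.conj_apply,
    ← (H.central j).eq, mul_inv_cancel_right]

/-- The mixed pair of a sixteen and a dodecad is impossible. -/
theorem false_of_twelve (H : Pattern n r8 r12) (E : Embedded ι n C) {a : K}
    (h12 : Cl r12 a) {g : G} (ha : g⁻¹ * ι n * g = ι a)
    (hg : g * ι n * g⁻¹ = ι (n * r8)) : False := by
  obtain ⟨p1, q1, h, k, hcent, hii, x, hx, hx11, hx1⟩ := H.wit12
  obtain ⟨j, hj⟩ := h12
  set φ := MulAut.conj j⁻¹ with hφ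
  have hφ12 : φ r12 = a := by rw [hφ, MulAut.conj_apply, ← hj]; group
  obtain ⟨x', hx', hxu⟩ := view_prod H E (u := a) (a := n * r8) (g := g⁻¹) (x := φ x)
    (p1 := φ p1) (q1 := φ q1) (h := φ h) (k := φ k)
    (by rw [inv_inv, ha]) (by rw [inv_inv, hg]) (by
      intro y hy
      simp only [List.mem_cons, List.not_mem_nil, or_false] at hy
      rw [← hφ12]
      rcases hy with rfl | rfl | rfl | rfl <;> exact (hcent _ (by simp)).map φ)
    (by rw [← map_inv, ← map_inv, ← map_mul, ← map_mul, ← map_mul, ← map_mul, hii, map_one])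
    (by rw [hx]; simp only [map_mul, map_inv])
  have hx11' : x' ^ 11 = 1 := E.inj (by
    rw [pow_view hx' 11 (by rw [← map_pow, ← map_pow, hx11, map_one, map_one]), map_one])
  have hne : x' ≠ 1 := by
    intro e
    rw [e, map_one, inv_inv] at hx'
    refine hx1 ((map_eq_one_iff φ (MulEquiv.injective _)).1 (E.inj ?_))
    calc ι (φ x) = g⁻¹ * (g * ι (φ x) * g⁻¹) * g := by group
      _ = ι 1 := by rw [hx', map_one]; group
  refine no_eleven_conj H hx11' hne ?_
  have h' := (H.central x').symm.mul_right hxu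
  rwa [← mul_assoc, H.sq, one_mul] at h'

theorem not_fused16 (H : Pattern n r8 r12) (E : Embedded ι n C) (h16 : Fused ι n (n * r8)) : False := by
  obtain ⟨g, hg⟩ := h16
  obtain ⟨p1, q1, h, k, p, q, hcent, hii, ⟨x, hx, hx7, hx1, hpx, hqx⟩, hpq⟩ := H.wit16
  obtain ⟨a, ha, hfa, haa⟩ := view H E (fused_n ι n) (H.central _).symm hg
  have hy : ∀ y ∈ [p1, q1, h, k], Commute y (n * r8) := fun y hy' =>
    hcent y (by simp only [List.mem_cons, List.not_mem_nil, or_false] at hy' ⊢; tauto)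
  obtain ⟨x', hx', hxa⟩ := view_prod H E hg ha hy hii hx
  have hne : x' ≠ 1 := by
    intro e
    rw [e, map_one] at hx'
    refine hx1 (E.inj ?_)
    calc ι x = g * (g⁻¹ * ι x * g) * g⁻¹ := by group
      _ = ι 1 := by rw [hx', map_one]; group
  -- the images of `p`, `q`
  have hp := view_commute H hg ha (hcent p (by simp))
  have hq := view_commute H hg ha (hcent q (by simp))
  have ez : (g⁻¹ * ι p * g) * (g⁻¹ * ι q * g) * (g⁻¹ * ι p * g)⁻¹ * (g⁻¹ * ι q * g)⁻¹ = ι n := by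
    rw [← eq_of_mul hg, ← hpq, map_mul, map_mul, map_mul, map_inv, map_inv]; group
  obtain ⟨p', q', c, hc, d, hd, ep, eq', hcomm⟩ := comm_mem H E hp.1 hq.1 (by
    rw [ez, ← map_mul, H.sq, map_one])
  rw [ez] at hcomm
  have hn' : p' * q' * p'⁻¹ * q'⁻¹ = n := (E.inj hcomm).symm
  have hstrip : ∀ (y : K) (f : G) (y' : K) (f' : G), f' ∈ C → f = ι y' * f' → Commute f (ι y) →
      Commute y' y := by
    intro y f y' f' hf' hf hc'
    apply E.inj
    rw [map_mul, map_mul]
    have h1 : Commute f' (ι y) := (E.comm y f' hf').symm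
    have h2 : Commute (f * f'⁻¹) (ι y) := hc'.mul_left h1.inv_left
    rw [hf, mul_inv_cancel_right] at h2
    exact h2.eq
  have hpa : Commute p' a := hstrip a _ p' c hc ep hp.2
  have hqa : Commute q' a := hstrip a _ q' d hd eq' hq.2
  have hgam : ∀ y : K, Commute y x → Commute (g⁻¹ * ι y * g) (ι x') := by
    intro y hyx
    rw [← hx']
    show _ = _
    calc g⁻¹ * ι y * g * (g⁻¹ * ι x * g) = g⁻¹ * (ι y * ι x) * g := by group
      _ = g⁻¹ * (ι x * ι y) * g := by rw [(hyx.map ι).eq]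
      _ = _ := by group
  have hpx' : Commute p' x' := hstrip x' _ p' c hc ep (hgam p hpx)
  have hqx' : Commute q' x' := hstrip x' _ q' d hd eq' (hgam q hqx)
  have hx7' : x' ^ 7 = 1 := E.inj (by rw [pow_view hx' 7 (by rw [← map_pow, hx7, map_one]), map_one])
  -- the three types of `a`
  rcases H.cases_invol a haa with e1 | e1 | h8 | h16' | h12
  · refine H.ne (E.inj ?_)
    calc ι n = g * (g⁻¹ * ι n * g) * g⁻¹ := by group
      _ = ι 1 := by rw [ha, e1, map_one]; group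
  · have e : n * r8 = n := E.inj (by
      rw [← hg]
      calc g * ι n * g⁻¹ = g * (g⁻¹ * ι n * g) * g⁻¹ := by rw [ha, e1]
        _ = ι n := by group)
    have hr : r8 = 1 := by simpa using e
    exact H.no_seven x' p' q' hx7' hne (hr ▸ Commute.one_right x') hpx' hqx'
      (hr ▸ Commute.one_right p') (hr ▸ Commute.one_right q') hn'
  · obtain ⟨j, hj⟩ := h8
    exact no_seven_conj H j hj hx7' hne hxa hpx' hqx' hpa hqa hn'
  · obtain ⟨j, hj⟩ := h16'
    have hj' : j * (n * a) * j⁻¹ = r8 := by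
      rw [← mul_assoc j n a, ← (H.central j).eq, mul_assoc n, mul_assoc n, hj, ← mul_assoc, H.sq, one_mul]
    exact no_seven_conj H j hj' hx7' hne ((H.central x').symm.mul_right hxa) hpx' hqx'
      ((H.central p').symm.mul_right hpa) ((H.central q').symm.mul_right hqa) hn'
  · exact false_of_twelve H E h12 ha hg

theorem isolated (H : Pattern n r8 r12) (E : Embedded ι n C) (g : G)
    (hg : Commute (ι n) (g * ι n * g⁻¹)) : g * ι n * g⁻¹ = ι n := by
  by_contra hne
  obtain ⟨v, hv⟩ := conj_in_range H E g hg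
  have hfv : Fused ι n v := ⟨g, hv⟩
  have hn16 : ¬ Fused ι n (n * r8) := not_fused16 H E
  have hvv : v * v = 1 := E.inj (by
    rw [map_mul, map_one, ← hv]
    calc g * ι n * g⁻¹ * (g * ι n * g⁻¹) = g * ι (n * n) * g⁻¹ := by rw [map_mul]; group
      _ = 1 := by rw [H.sq, map_one]; group)
  have hcases : Fused ι n r8 ∨ Fused ι n r12 := by
    rcases H.cases_invol v hvv with e | e | h | h | h
    · rw [e, map_one] at hv
      refine absurd (E.inj ?_) H.ne
      calc ι n = g⁻¹ * (g * ι n * g⁻¹) * g := by group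
        _ = ι 1 := by rw [hv, map_one]; group
    · exact absurd (e ▸ hv) hne
    · exact Or.inl (hfv.of_cl h)
    · exact absurd (hfv.of_cl h) hn16
    · exact Or.inr (hfv.of_cl h)
  have hne1 : ∀ {b : K}, Fused ι n b → b ≠ 1 := by
    rintro b ⟨k, hk⟩ rfl
    rw [map_one] at hk
    refine H.ne (E.inj ?_)
    calc ι n = k⁻¹ * (k * ι n * k⁻¹) * k := by group
      _ = ι 1 := by rw [hk, map_one]; group
  by_cases h8 : Fused ι n r8
  · obtain ⟨k, hk⟩ := h8
    obtain ⟨o, ho, ho3, hco, hor, hnor⟩ := H.octads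
    have h8 : Fused ι n r8 := ⟨k, hk⟩
    have hfo : Fused ι n o := h8.of_cl' ho
    have hfo3 : Fused ι n (r8 * o) := h8.of_cl' ho3
    obtain ⟨a, ha, hfa, haa⟩ := view H E (fused_n ι n) (H.central r8).symm hk
    obtain ⟨b, hb, hfb, hbb⟩ := view H E hfo hco hk
    have hku : k⁻¹ * ι r8 * k = ι n := eq_of_mul hk
    have hno : ¬ Fused ι n (n * o) := fun h => hn16 (h.of_cl (ho.mul_central H.central))
    have hno3 : ¬ Fused ι n (n * (r8 * o)) := fun h => hn16 (h.of_cl (ho3.mul_central H.central))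
    have hb_ne : b ≠ n := by
      intro e
      refine hor (E.inj ?_)
      calc ι o = k * (k⁻¹ * ι o * k) * k⁻¹ := by group
        _ = ι r8 := by rw [hb, e, hk]
    by_cases h12 : Fused ι n r12
    · have eab : k⁻¹ * ι (n * o) * k = ι (a * b) := by
        rw [map_mul, map_mul ι a b, ← ha, ← hb]; group
      have eab' : k * ι (a * b) * k⁻¹ = ι (n * o) := by rw [← eab]; group
      have hnab : ¬ Fused ι n (a * b) := by
        rintro ⟨l, hl⟩
        refine hno ⟨k * l, ?_⟩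
        rw [← eab', ← hl]; group
      have hcab : Commute a b := by
        apply commute_of_view (ι := ι) E.inj (g := k) ha hb
        exact (H.central o)
      have habab : (a * b) * (a * b) = 1 := by
        calc a * b * (a * b) = (a * a) * (b * b) := by
              rw [mul_assoc, ← mul_assoc b a b, ← hcab.eq, mul_assoc a b b, ← mul_assoc]
          _ = 1 := by rw [haa, hbb, one_mul]
      rcases H.cases_invol (a * b) habab with e | e | h | h | h
      · have hno1 : n * o ≠ 1 := by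
          intro e1
          have ho' : o = n := by rw [← one_mul o, ← H.sq, mul_assoc, e1, mul_one]
          exact hn16 (by have h3 := hfo3; rwa [ho', ← (H.central r8).eq] at h3)
        refine hno1 (E.inj ?_)
        rw [← eab', e, map_one]; group
      · refine hnor (E.inj ?_)
        rw [← eab', e, hk]
      · exact hnab (h8.of_cl' h)
      · have h' : Cl r8 (n * (a * b)) := by
          have := h.mul_central H.central
          rwa [← mul_assoc, H.sq, one_mul] at this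
        obtain ⟨l, hl⟩ := h8.of_cl' h'
        refine hno3 ⟨k * l, ?_⟩
        have e : k * ι (n * (a * b)) * k⁻¹ = ι (n * (r8 * o)) := by
          rw [map_mul ι n (a * b), map_mul ι n, map_mul ι r8, ← hk]
          have : k * ι (a * b) * k⁻¹ = ι n * ι o := by rw [eab', map_mul]
          calc k * (ι n * ι (a * b)) * k⁻¹ = (k * ι n * k⁻¹) * (k * ι (a * b) * k⁻¹) := by group
            _ = (k * ι n * k⁻¹) * (ι n * ι o) := by rw [this]
            _ = _ := by
              rw [hk, ← mul_assoc, ← mul_assoc, ((H.central r8).map ι).eq]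
        rw [← e, ← hl]; group
      · exact hnab (h12.of_cl' h)
    · rcases H.cases_invol b hbb with e | e | h | h | h
      · exact hne1 hfb e
      · exact hb_ne e
      · obtain ⟨b', hb', hfb', -⟩ := view H E hfo3 (Commute.refl r8 |>.mul_right hco) hk
        have e : b' = n * b := E.inj (by rw [← hb', map_mul, map_mul, ← hku, ← hb]; group)
        exact hn16 ((e ▸ hfb').of_cl (h.mul_central H.central))
      · exact hn16 (hfb.of_cl h)
      · exact h12 (hfb.of_cl h)
  · have h12 : Fused ι n r12 := hcases.resolve_left h8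
    obtain ⟨k, hk⟩ := h12
    have h12 : Fused ι n r12 := ⟨k, hk⟩
    obtain ⟨d, hd, hd8, hcd, hdne⟩ := H.dodecads
    obtain ⟨b, hb, hfb, hbb⟩ := view H E (h12.of_cl' hd) hcd hk
    have hb12 : Cl r12 b := by
      rcases H.cases_invol b hbb with e | e | h | h | h
      · exact absurd e (hne1 hfb)
      · refine absurd (E.inj ?_) hdne
        calc ι d = k * (k⁻¹ * ι d * k) * k⁻¹ := by group
          _ = ι r12 := by rw [hb, e, hk]
      · exact absurd (hfb.of_cl h) h8
      · exact absurd (hfb.of_cl h) hn16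
      · exact h
    have hnb : Cl r12 (n * b) := by
      obtain ⟨j, hj⟩ := hb12
      obtain ⟨l, hl⟩ := H.neg12
      refine ⟨l * j, ?_⟩
      calc l * j * (n * b) * (l * j)⁻¹ = l * (j * n * b * j⁻¹) * l⁻¹ := by group
        _ = l * (n * (j * b * j⁻¹)) * l⁻¹ := by rw [← (H.central j).eq]; group
        _ = r12 := by rw [hj, hl]
    obtain ⟨l, hl⟩ := h12.of_cl' hnb
    refine h8 (Fused.of_cl hd8 ⟨k * l, ?_⟩)
    calc k * l * ι n * (k * l)⁻¹ = k * (l * ι n * l⁻¹) * k⁻¹ := by group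
      _ = (k * ι n * k⁻¹) * (k * ι b * k⁻¹) := by rw [hl, map_mul]; group
      _ = ι (r12 * d) := by rw [hk, ← hb, map_mul]; group

/-- The commutator of two elements of a group with cyclic Sylow 2-subgroups has odd order. -/
theorem odd_commutator_of_cyclic {C : Type*} [Group C] [Finite C]
    (hR : ∀ R : Sylow 2 C, IsCyclic ↥(R : Subgroup C)) (c d : C) :
    Odd (orderOf (c * d * c⁻¹ * d⁻¹)) := by
  have : Fact (Nat.Prime 2) := ⟨Nat.prime_two⟩
  by_cases he : 2 ∣ Nat.card C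
  · obtain ⟨R⟩ : Nonempty (Sylow 2 C) := inferInstance
    have hmin : (Nat.card C).minFac = 2 := Nat.minFac_eq_two_iff _ |>.2 he
    have hN := (hR R).normalizer_le_centralizer hmin
    set f := MonoidHom.transferSylow R hN
    have hf : c * d * c⁻¹ * d⁻¹ ∈ f.ker := by
      rw [MonoidHom.mem_ker, map_mul, map_mul, map_mul, map_inv, map_inv]
      have := (hR R).isMulCommutative
      have h := mul_comm' (f c) (f d)
      rw [h, mul_inv_cancel_right, mul_inv_cancel]
    rw [Nat.odd_iff, ← Nat.two_dvd_ne_zero]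
    intro h2
    refine MonoidHom.not_dvd_card_ker_transferSylow R hN (h2.trans ?_)
    have := orderOf_dvd_natCard (⟨_, hf⟩ : f.ker)
    rwa [Subgroup.orderOf_mk] at this
  · rw [Nat.odd_iff, ← Nat.two_dvd_ne_zero]
    exact fun h2 => he (h2.trans (orderOf_dvd_natCard _))

/-- A standard subgroup isomorphic to `K` with cyclic centraliser Sylow 2-subgroups is normal. -/
theorem normal_of_standard {G K : Type*} [Group G] [Finite G] [Group K] {n r8 r12 : K}
    (H : Pattern n r8 r12) (hout : ∀ α : K ≃* K, ∃ a : K, ∀ x, α x = a * x * a⁻¹)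
    (hO : Cfsg.oddCore G = ⊥) {A : Subgroup G} (hA : Cfsg.IsStandardSubgroup A) (e : ↥A ≃* K)
    (hR : ∀ R : Sylow 2 ↥(Subgroup.centralizer (A : Set G)),
      IsCyclic ↥(R : Subgroup ↥(Subgroup.centralizer (A : Set G)))) : A.Normal := by
  have : Fact (Nat.Prime 2) := ⟨Nat.prime_two⟩
  obtain ⟨-, ⟨-, htight⟩, -, hNC⟩ := hA
  set C := Subgroup.centralizer (A : Set G) with hC
  set ι : K →* G := A.subtype.comp e.symm.toMonoidHom with hι
  have hιA : ∀ a, ι a ∈ A := fun a => (e.symm a).2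
  have hsurj : ∀ x ∈ A, ∃ a, ι a = x := fun x hx => ⟨e ⟨x, hx⟩, by simp [hι]⟩
  have hinj : Function.Injective ι := A.subtype_injective.comp e.symm.injective
  have hcomm : ∀ a : K, ∀ c ∈ C, Commute (ι a) c := fun a c hc => (Subgroup.mem_centralizer_iff.1 hc _ (hιA a))
  have hzC : ι n ∈ C := Subgroup.mem_centralizer_iff.2 fun x hx => by
    obtain ⟨a, rfl⟩ := hsurj x hx
    exact (((H.central a).map ι).eq).symm
  have hz2 : orderOf (ι n) = 2 := orderOf_eq_prime (by rw [sq, ← map_mul, H.sq, map_one])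
    (fun h => H.ne (hinj (h.trans (map_one ι).symm)))
  set zC : C := ⟨ι n, hzC⟩
  have hzC2 : orderOf zC = 2 := by rw [Subgroup.orderOf_mk, hz2]
  have honly : ∀ c ∈ C, c * c = 1 → c = 1 ∨ c = ι n := by
    intro c hc hcc
    by_cases h1 : c = 1
    · exact Or.inl h1
    right
    set cC : C := ⟨c, hc⟩
    have hc2 : orderOf cC = 2 := by
      rw [Subgroup.orderOf_mk]; exact orderOf_eq_prime (by rw [sq, hcc]) h1
    have hcen : Commute zC cC := Subtype.ext (hcomm n c hc).eq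
    have hP : IsPGroup 2 ↥(Subgroup.closure ({zC, cC} : Set C)) := by
      rintro ⟨y, hy⟩
      refine ⟨1, Subtype.ext ?_⟩
      show y ^ 2 ^ 1 = 1
      rw [pow_one]
      have : y ^ 2 = 1 ∧ Commute y zC ∧ Commute y cC := by
        induction hy using Subgroup.closure_induction with
        | mem w hw =>
          rcases hw with rfl | rfl
          · exact ⟨hzC2 ▸ pow_orderOf_eq_one _, Commute.refl _, hcen⟩
          · exact ⟨hc2 ▸ pow_orderOf_eq_one _, hcen.symm, Commute.refl _⟩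
        | one => exact ⟨one_pow _, Commute.one_left _, Commute.one_left _⟩
        | mul x y hx hy ihx ihy =>
          have hxy : Commute x y := by
            have hsub : Subgroup.closure ({zC, cC} : Set C) ≤ Subgroup.centralizer {x} := by
              rw [Subgroup.closure_le]
              rintro w (rfl | rfl)
              · exact Subgroup.mem_centralizer_iff.2 fun v hv => by rw [Set.mem_singleton_iff.1 hv]; exact ihx.2.1.eq
              · exact Subgroup.mem_centralizer_iff.2 fun v hv => by rw [Set.mem_singleton_iff.1 hv]; exact ihx.2.2.eq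
            exact Subgroup.mem_centralizer_iff.1 (hsub hy) x rfl
          exact ⟨by rw [hxy.mul_pow, ihx.1, ihy.1, one_mul], ihx.2.1.mul_left ihy.2.1, ihx.2.2.mul_left ihy.2.2⟩
        | inv x _ ih => exact ⟨by rw [inv_pow, ih.1, inv_one], ih.2.1.inv_left, ih.2.2.inv_left⟩
      exact this.1
    obtain ⟨R, hR'⟩ := hP.exists_le_sylow
    have := hR R
    have h1' : zC ∈ (R : Subgroup C) := hR' (Subgroup.subset_closure (by simp))
    have h2' : cC ∈ (R : Subgroup C) := hR' (Subgroup.subset_closure (by simp))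
    have := Fintype.ofFinite ↥(R : Subgroup C)
    classical
    have hcard := IsCyclic.card_pow_eq_one_le (α := ↥(R : Subgroup C)) (n := 2) two_pos
    have hne : (⟨zC, h1'⟩ : (R : Subgroup C)) ≠ 1 := fun h => by
      rw [Subgroup.mk_eq_one] at h; rw [h, orderOf_one] at hzC2; omega
    have hne' : (⟨cC, h2'⟩ : (R : Subgroup C)) ≠ 1 := fun h => by
      rw [Subgroup.mk_eq_one] at h; rw [h, orderOf_one] at hc2; omega
    by_contra hcz
    have hcz' : (⟨cC, h2'⟩ : (R : Subgroup C)) ≠ ⟨zC, h1'⟩ := fun h =>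
      hcz (congrArg (fun y : (R : Subgroup C) => ((y : C) : G)) h)
    have hsub : ({1, ⟨zC, h1'⟩, ⟨cC, h2'⟩} : Finset (R : Subgroup C)) ⊆
        Finset.univ.filter fun y => y ^ 2 = 1 := by
      intro y hy
      simp only [Finset.mem_insert, Finset.mem_singleton] at hy
      simp only [Finset.mem_filter, Finset.mem_univ, true_and]
      rcases hy with rfl | rfl | rfl
      · exact one_pow _
      · exact Subtype.ext (by have h' := pow_orderOf_eq_one zC; rwa [hzC2] at h')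
      · exact Subtype.ext (by have h' := pow_orderOf_eq_one cC; rwa [hc2] at h')
    have h3 : ({1, ⟨zC, h1'⟩, ⟨cC, h2'⟩} : Finset (R : Subgroup C)).card = 3 :=
      Finset.card_eq_three.2 ⟨_, _, _, Ne.symm hne, Ne.symm hne', Ne.symm hcz', rfl⟩
    have := Finset.card_le_card hsub
    omega
  have hnorm : ∀ g : G, Commute g (ι n) → g ∈ Subgroup.normalizer (A : Set G) := by
    intro g hg
    rw [hNC]
    by_contra hgn
    have hodd := htight g hgn
    have hmem : ι n ∈ C ⊓ C.map (MulAut.conj g).toMonoidHom := by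
      refine ⟨hzC, ι n, hzC, ?_⟩
      show g * ι n * g⁻¹ = ι n
      rw [hg.eq, mul_inv_cancel_right]
    have := orderOf_dvd_natCard (⟨_, hmem⟩ : ↥(C ⊓ C.map (MulAut.conj g).toMonoidHom))
    rw [Subgroup.orderOf_mk, hz2] at this
    exact (Nat.not_even_iff_odd.2 hodd) (even_iff_two_dvd.2 this)
  have E : Embedded ι n C := by
    refine ⟨hinj, hcomm, fun g hg => ?_, fun a ha y => hinj ?_, honly, fun c hc d hd => ?_⟩
    · have hgA := Subgroup.mem_normalizer_iff.1 (hnorm g hg)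
      let φ : A ≃* A :=
        { toFun := fun x => ⟨g * x * g⁻¹, (hgA x).1 x.2⟩
          invFun := fun x => ⟨g⁻¹ * x * g, (hgA _).2 (by
            rw [show g * (g⁻¹ * (x : G) * g) * g⁻¹ = x by group]; exact x.2)⟩
          left_inv := fun x => Subtype.ext (by simp [mul_assoc])
          right_inv := fun x => Subtype.ext (by simp [mul_assoc])
          map_mul' := fun x y => Subtype.ext (by simp [mul_assoc]) }
      obtain ⟨a, ha⟩ := hout (e.symm.trans (φ.trans e))
      refine ⟨a, (ι a)⁻¹ * g, Subgroup.mem_centralizer_iff.2 fun x hx => ?_, by group⟩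
      have h1 := congrArg (fun y => ((e.symm y : A) : G)) (ha (e ⟨x, hx⟩))
      simp only [MulEquiv.trans_apply, MulEquiv.symm_apply_apply] at h1
      have h2 : g * x * g⁻¹ = ι a * x * (ι a)⁻¹ := by
        have : ι (e ⟨x, hx⟩) = x := by simp [hι]
        rw [← this]
        calc g * ι (e ⟨x, hx⟩) * g⁻¹ = ι (a * e ⟨x, hx⟩ * a⁻¹) := by rw [this]; exact h1
          _ = _ := by rw [map_mul, map_mul, map_inv]
      calc x * ((ι a)⁻¹ * g) = (ι a)⁻¹ * (ι a * x * (ι a)⁻¹) * g := by group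
        _ = (ι a)⁻¹ * (g * x * g⁻¹) * g := by rw [h2]
        _ = (ι a)⁻¹ * g * x := by group
    · rw [map_mul, map_mul]
      exact (hcomm y _ ha).eq.symm
    · have h := odd_commutator_of_cyclic hR (⟨c, hc⟩ : C) ⟨d, hd⟩
      rwa [← Subgroup.orderOf_coe] at h
  have hiso : Cfsg.IsIsolatedInvolution (ι n) := ⟨hz2, fun g hg => isolated H E g hg⟩
  have hcen := ZStarTheorem.mem_center_of_isolated hiso hO
  have htop : Subgroup.normalizer (A : Set G) = ⊤ :=
    eq_top_iff.2 fun g _ => hnorm g (Subgroup.mem_center_iff.1 hcen g)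
  exact Subgroup.normalizer_eq_top_iff.1 htop

end Cfsg.Agent.CoZeroStandard
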