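import Mathlib
import Cfsg.Agent.Lib.GolayM24

/-!
The binary permutation module of M24: invariant subspaces, and moves of cosets of the code.
-/

set_option autoImplicit false

namespace Cfsg.Agent.GolayModule

open Cfsg Cfsg.Agent.GolayBasic Cfsg.Agent.GolayPerm Cfsg.Agent.GolaySteiner
open scoped Pointwise symmDiff

/-- permuting the coordinates -/
def act (σ : Equiv.Perm GolayPt) (w : GolayPt → ZMod 2) : GolayPt → ZMod 2 := fun p => w (σ.symm p)

/-- indicator word of a set -/
def ind (s : Finset GolayPt) : GolayPt → ZMod 2 := fun p => if p ∈ s then 1 else 0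

theorem support₂_ind (s : Finset GolayPt) : support₂ (ind s) = s := by
  ext p; simp [support₂, ind]

theorem ind_support₂ (w : GolayPt → ZMod 2) : ind (support₂ w) = w :=
  support₂_inj (support₂_ind _)

theorem ind_mem_iff {s : Finset GolayPt} :
    ind s ∈ golayCode ↔ s ∈ supports (golayCode : Set (GolayPt → ZMod 2)) := by
  constructor
  · exact fun h => ⟨_, h, support₂_ind s⟩
  · rintro ⟨w, hw, rfl⟩; rw [ind_support₂]; exact hw

theorem ind_symmDiff (s t : Finset GolayPt) : ind (s ∆ t) = ind s + ind t := by
  funext p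
  simp only [ind, Pi.add_apply, Finset.mem_symmDiff]
  by_cases hs : p ∈ s <;> by_cases ht : p ∈ t <;> simp [hs, ht]
  decide

theorem ind_empty : ind ∅ = 0 := by funext p; simp [ind]

theorem ind_univ : ind Finset.univ = 1 := by funext p; simp [ind]

theorem act_ind (σ : Equiv.Perm GolayPt) (s : Finset GolayPt) : act σ (ind s) = ind (σ • s) := by
  funext p
  simp only [act, ind, Finset.mem_smul_finset, Equiv.Perm.smul_def]
  by_cases h : σ.symm p ∈ s
  · rw [if_pos h, if_pos ⟨_, h, Equiv.apply_symm_apply σ p⟩]
  · rw [if_neg h, if_neg]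
    rintro ⟨q, hq, rfl⟩
    exact h (by simpa using hq)

theorem act_add (σ : Equiv.Perm GolayPt) (v w : GolayPt → ZMod 2) :
    act σ (v + w) = act σ v + act σ w := rfl

theorem act_sub (σ : Equiv.Perm GolayPt) (v w : GolayPt → ZMod 2) :
    act σ (v - w) = act σ v - act σ w := rfl

theorem act_mul (σ τ : Equiv.Perm GolayPt) (w : GolayPt → ZMod 2) :
    act (σ * τ) w = act σ (act τ w) := rfl

theorem act_word {P : ℕ} (h : valid P = true) (m : ℕ) : act (permOf P) (word m) = word (pmask P m) := by
  rw [← ind_support₂ (word m), act_ind, support₂_word, smul_mset h, ← support₂_word, ind_support₂]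

theorem act_mem {σ : Equiv.Perm GolayPt} (hσ : σ ∈ M24) {w : GolayPt → ZMod 2} (hw : w ∈ golayCode) :
    act σ w ∈ golayCode := by
  rw [← ind_support₂ w, act_ind, ind_mem_iff]
  exact smul_mem_supports hσ ⟨w, hw, rfl⟩

/-! ### moving a coset -/

/-- some listed permutation moves each non-zero class modulo the code -/
def moved (gs : List ℕ) : Bool :=
  (List.range 4096).all fun x => x == 0 || gs.any fun P => !inCode (pmask P (x <<< 12) ^^^ (x <<< 12))

theorem pmask_lt {P m : ℕ} (h : valid P = true) : pmask P m < 2 ^ 24 := by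
  apply Nat.lt_pow_two_of_testBit
  intro j hj
  by_contra hb
  rw [Bool.not_eq_false, testBit_pmask] at hb
  obtain ⟨i, hi, -, rfl⟩ := hb
  have := pimg_lt h hi
  omega

theorem exists_move {gs : List ℕ} (hgood : gs.all good = true) (h : moved gs = true)
    {w : GolayPt → ZMod 2} (hw : w ∉ golayCode) :
    ∃ P ∈ gs, act (permOf P) w - w ∉ golayCode := by
  set m := wmask w with hm
  have hmlt : m < 2 ^ 24 := wmask_lt w
  have hlow := and_lt_4096 m
  set r := m ^^^ enc (m &&& 4095) with hr
  have hrlt : r < 2 ^ 24 := Nat.xor_lt_two_pow hmlt (enc_lt hlow)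
  have hwr : w = word r + word (enc (m &&& 4095)) := by
    rw [← word_xor, hr, Nat.xor_assoc, Nat.xor_self, Nat.xor_zero, word_wmask]
  have hrcode : word r ∉ golayCode := fun hc =>
    hw (hwr ▸ Submodule.add_mem _ hc (word_enc_mem hlow))
  have hr0 : r &&& 4095 = 0 := by
    rw [hr, Nat.and_xor_distrib_right, enc_and hlow, Nat.xor_self]
  have hshift : r = (r >>> 12) <<< 12 := by
    have h1 : r % 4096 = 0 := by
      rw [← hr0, show (4095 : ℕ) = 2 ^ 12 - 1 from rfl, Nat.and_two_pow_sub_one_eq_mod]
    rw [Nat.shiftLeft_eq, Nat.shiftRight_eq_div_pow]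
    omega
  have hx : r >>> 12 < 4096 := by rw [Nat.shiftRight_eq_div_pow]; omega
  have hxne : r >>> 12 ≠ 0 := by
    intro h0
    rw [h0] at hshift
    apply hrcode
    rw [hshift, Nat.zero_shiftLeft, word_zero]
    exact zero_mem _
  have := List.all_eq_true.1 h _ (List.mem_range.2 hx)
  simp only [Bool.or_eq_true, beq_iff_eq, List.any_eq_true, Bool.not_eq_true'] at this
  obtain ⟨P, hP, hPc⟩ := this.resolve_left hxne
  have hgP := List.all_eq_true.1 hgood P hP
  refine ⟨P, hP, fun hc => ?_⟩
  have hc' : act (permOf P) (word r) - word r ∈ golayCode := by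
    have h2 : act (permOf P) (word (enc (m &&& 4095))) - word (enc (m &&& 4095)) ∈ golayCode :=
      Submodule.sub_mem _ (act_mem (permOf_mem_M24 hgP) (word_enc_mem hlow)) (word_enc_mem hlow)
    have h3 := Submodule.sub_mem _ hc h2
    rw [hwr, act_add] at h3
    convert h3 using 1
    abel
  rw [sub_eq_add_neg, show -word r = word r by funext p; exact ZMod.neg_eq_self_mod_two _,
    act_word (valid_of_good hgP), ← word_xor,
    word_mem_iff (Nat.xor_lt_two_pow (pmask_lt (valid_of_good hgP)) hrlt)] at hc'
  rw [← hshift] at hPc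
  rw [hPc] at hc'
  exact Bool.false_ne_true hc'

/-- generators of M24 -/
def gsAll : List ℕ :=
  [956302485175575353788796878166559809, 1795248432537898728475572672376535]

/-- stabilisers of the standard octad -/
def gsOct : List ℕ :=
  [499278430730655547116089894887927415, 736189810146373550366607327945367788]

/-- stabilisers of the dodecad of squares -/
def gsDod : List ℕ :=
  [984818244535754528103549039458486304, 721292815942592319262280299290075266,
    861093785467597201181806452825692560]

theorem gsAll_check : gsAll.all good = true ∧ moved gsAll = true := by decide +kernel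

theorem gsOct_check : gsOct.all good = true ∧ moved gsOct = true ∧
    gsOct.all (fun P => pmask P 13062145 == 13062145) = true := by decide +kernel

theorem gsDod_check : gsDod.all good = true ∧ moved gsDod = true ∧
    gsDod.all (fun P => pmask P 340831 == 340831) = true := by decide +kernel

theorem smul_compl (σ : Equiv.Perm GolayPt) (s : Finset GolayPt) : σ • sᶜ = (σ • s)ᶜ := by
  rw [Finset.compl_eq_univ_sdiff, Finset.smul_finset_sdiff, Finset.smul_finset_univ,
    ← Finset.compl_eq_univ_sdiff]

theorem exists_move_fix {s : Finset GolayPt}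
    (hs : s ∈ supports (golayCode : Set (GolayPt → ZMod 2))) {w : GolayPt → ZMod 2}
    (hw : w ∉ golayCode) : ∃ σ ∈ M24, σ • s = s ∧ act σ w - w ∉ golayCode := by
  have conj : ∀ (gs : List ℕ) (m : ℕ) (τ : Equiv.Perm GolayPt), τ ∈ M24 → gs.all good = true →
      moved gs = true → gs.all (fun P => pmask P m == m) = true →
      ∃ σ ∈ M24, σ • (τ • mset m) = τ • mset m ∧ act σ w - w ∉ golayCode := by
    intro gs m τ hτ hgood hmov hfix
    have hw' : act τ⁻¹ w ∉ golayCode := fun h => hw (by
      have := act_mem hτ h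
      rwa [← act_mul, mul_inv_cancel] at this)
    obtain ⟨P, hP, hPw⟩ := exists_move hgood hmov hw'
    have hgP := List.all_eq_true.1 hgood P hP
    refine ⟨τ * permOf P * τ⁻¹, mul_mem (mul_mem hτ (permOf_mem_M24 hgP)) (inv_mem hτ), ?_, ?_⟩
    · rw [mul_smul, mul_smul, inv_smul_smul, smul_mset (valid_of_good hgP),
        beq_iff_eq.1 (List.all_eq_true.1 hfix P hP)]
    · intro h
      apply hPw
      have := act_mem (inv_mem hτ) h
      rwa [act_sub, ← act_mul, ← mul_assoc, ← mul_assoc, inv_mul_cancel, one_mul, act_mul] at this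
  have honly : ∀ t : Finset GolayPt, t = ∅ ∨ t = Finset.univ →
      ∃ σ ∈ M24, σ • t = t ∧ act σ w - w ∉ golayCode := by
    intro t ht
    obtain ⟨P, hP, hPw⟩ := exists_move gsAll_check.1 gsAll_check.2 hw
    refine ⟨_, permOf_mem_M24 (List.all_eq_true.1 gsAll_check.1 P hP),
      ?_, hPw⟩
    rcases ht with rfl | rfl
    · rw [Finset.smul_finset_empty]
    · rw [Finset.smul_finset_univ]
  rcases card_support_cases hs with h | h | h | h | h
  · exact honly s (Or.inl h)
  · obtain ⟨τ, hτ, rfl⟩ := GolayM24.exists_smul_eq_of_octads GolayM24.octad_five_mem ⟨hs, h⟩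
    exact conj gsOct 13062145 τ hτ gsOct_check.1 gsOct_check.2.1 gsOct_check.2.2
  · obtain ⟨τ, hτ, rfl⟩ := GolayM24.exists_smul_eq_of_dodecads
      ((mset_mem_dodecads (by norm_num)).2 (by decide +kernel : inCode 340831 = true ∧ wt 340831 = 12))
      ⟨hs, h⟩
    exact conj gsDod 340831 τ hτ gsDod_check.1 gsDod_check.2.1 gsDod_check.2.2
  · have hc : sᶜ ∈ octads := ⟨compl_mem_supports hs, by
      rw [Finset.card_compl, h]; decide⟩
    obtain ⟨τ, hτ, hτs⟩ := GolayM24.exists_smul_eq_of_octads GolayM24.octad_five_mem hc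
    obtain ⟨σ, hσ, hσs, hσw⟩ :=
      conj gsOct 13062145 τ hτ gsOct_check.1 gsOct_check.2.1 gsOct_check.2.2
    rw [hτs] at hσs
    exact ⟨σ, hσ, by rwa [smul_compl, compl_inj_iff] at hσs, hσw⟩
  · exact honly s (Or.inr (Finset.eq_univ_of_card s (by rw [h]; rfl)))

/-! ### invariant subspaces -/

/-- five-transitivity on lists -/
theorem exists_map_lists {l l' : List GolayPt} (hl : l.Nodup) (hl' : l'.Nodup)
    (hlen : l.length = l'.length) (h5 : l.length ≤ 5) :
    ∃ σ ∈ M24, l.map σ = l' := by
  have ext5 : ∀ k : List GolayPt, k.Nodup → k.length ≤ 5 → ∃ x : Fin 5 → GolayPt,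
      Function.Injective x ∧ ∀ (i : Fin 5) (hi : i.1 < k.length), x i = k[i.1] := by
    intro k hk hk5
    have hnd : (k ++ (Finset.univ \ k.toFinset).toList).Nodup := by
      rw [List.nodup_append']
      refine ⟨hk, Finset.nodup_toList _, ?_⟩
      intro a ha hb
      simp only [Finset.mem_toList, Finset.mem_sdiff, List.mem_toFinset] at hb
      exact hb.2 ha
    have hle : 5 ≤ (k ++ (Finset.univ \ k.toFinset).toList).length := by
      rw [List.length_append, Finset.length_toList, Finset.card_sdiff_of_subset (Finset.subset_univ _),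
        List.toFinset_card_of_nodup hk, show (Finset.univ : Finset GolayPt).card = 24 from rfl]
      omega
    refine ⟨fun i => (k ++ (Finset.univ \ k.toFinset).toList)[i.1]'(lt_of_lt_of_le i.2 hle),
      fun i j hij => Fin.ext ((List.Nodup.getElem_inj_iff hnd).1 hij), fun i hi => ?_⟩
    simp only [List.getElem_append_left hi]
  obtain ⟨x, hx, hxl⟩ := ext5 l hl h5
  obtain ⟨y, hy, hyl⟩ := ext5 l' hl' (hlen ▸ h5)
  obtain ⟨σ, hσ, hσxy⟩ := GolayM24.exists_map_five_five x y hx hy
  refine ⟨σ, hσ, List.ext_getElem (by rw [List.length_map, hlen]) fun i h1 h2 => ?_⟩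
  rw [List.getElem_map]
  rw [List.length_map] at h1
  have hi : i < 5 := lt_of_lt_of_le h1 h5
  rw [← hxl ⟨i, hi⟩ h1, hσxy, hyl ⟨i, hi⟩ h2]

theorem smul_toFinset (σ : Equiv.Perm GolayPt) (l : List GolayPt) :
    σ • l.toFinset = (l.map σ).toFinset := by
  ext p; simp [Finset.mem_smul_finset]

theorem exists_map_sets {s t : Finset GolayPt} (h : s.card = t.card) (h5 : s.card ≤ 5) :
    ∃ σ ∈ M24, σ • s = t := by
  obtain ⟨σ, hσ, e⟩ := exists_map_lists s.nodup_toList t.nodup_toList
    (by rw [Finset.length_toList, Finset.length_toList, h]) (by rwa [Finset.length_toList])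
  exact ⟨σ, hσ, by rw [← s.toList_toFinset, smul_toFinset, e, Finset.toList_toFinset]⟩

/-- invariance under M24 -/
def Inv (W : Submodule (ZMod 2) (GolayPt → ZMod 2)) : Prop :=
  ∀ σ ∈ M24, ∀ w ∈ W, act σ w ∈ W

theorem Inv.ind_smul {W : Submodule (ZMod 2) (GolayPt → ZMod 2)} (hW : Inv W) {σ : Equiv.Perm GolayPt}
    (hσ : σ ∈ M24) {s : Finset GolayPt} (hs : ind s ∈ W) : ind (σ • s) ∈ W := by
  rw [← act_ind]; exact hW σ hσ _ hs

theorem code_le_of_octad {W : Submodule (ZMod 2) (GolayPt → ZMod 2)} (hW : Inv W)
    {o : Finset GolayPt} (ho : o ∈ octads) (h : ind o ∈ W) : golayCode ≤ W := by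
  have hall : ∀ o' ∈ octads, ind o' ∈ W := by
    intro o' ho'
    obtain ⟨σ, hσ, rfl⟩ := GolayM24.exists_smul_eq_of_octads ho ho'
    exact hW.ind_smul hσ h
  intro w hw
  rw [← ind_support₂ w]
  refine supports_induction (P := fun s => ind s ∈ W) ?_ hall ?_ _ ⟨w, hw, rfl⟩
  · simpa only [ind_empty] using zero_mem W
  · intro s _ t _ hs ht
    simpa only [ind_symmDiff] using W.add_mem hs ht

theorem code_le_of_mem {W : Submodule (ZMod 2) (GolayPt → ZMod 2)} (hW : Inv W)
    {s : Finset GolayPt} (hs : s ∈ supports (golayCode : Set (GolayPt → ZMod 2))) (h : ind s ∈ W)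
    (h0 : s ≠ ∅) (h1 : s ≠ Finset.univ) : golayCode ≤ W := by
  have step : ∀ (m P : ℕ) (τ : Equiv.Perm GolayPt), τ ∈ M24 → s = τ • mset m → good P = true →
      m < 2 ^ 24 → inCode (m ^^^ pmask P m) = true → wt (m ^^^ pmask P m) = 8 →
      golayCode ≤ W := by
    intro m P τ hτ e hP hm hc hw
    have hmem : ind ((τ * permOf P * τ⁻¹) • s) ∈ W :=
      hW.ind_smul (mul_mem (mul_mem hτ (permOf_mem_M24 hP)) (inv_mem hτ)) h
    have hsum := W.add_mem h hmem
    rw [← ind_symmDiff, mul_smul, mul_smul, e, inv_smul_smul, smul_mset (valid_of_good hP),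
      ← smul_finset_symmDiff, ← mset_xor] at hsum
    exact code_le_of_octad hW (smul_mem_octads hτ ((mset_mem_octads
      (Nat.xor_lt_two_pow hm (pmask_lt (valid_of_good hP)))).2 ⟨hc, hw⟩)) hsum
  rcases card_support_cases hs with hc | hc | hc | hc | hc
  · exact absurd hc h0
  · exact code_le_of_octad hW ⟨hs, hc⟩ h
  · obtain ⟨τ, hτ, e⟩ := GolayM24.exists_smul_eq_of_dodecads
      ((mset_mem_dodecads (by norm_num)).2 (by decide +kernel : inCode 340831 = true ∧ wt 340831 = 12))
      ⟨hs, hc⟩
    exact step 340831 632881074505512097874445238446111349 τ hτ e.symm (by decide +kernel)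
      (by norm_num) (by decide +kernel) (by decide +kernel)
  · have hco : sᶜ ∈ octads := ⟨compl_mem_supports hs, by rw [Finset.card_compl, hc]; decide⟩
    obtain ⟨τ, hτ, e⟩ := GolayM24.exists_smul_eq_of_octads GolayM24.octad_five_mem hco
    have e' : s = τ • mset 3715070 := by
      rw [show (3715070 : ℕ) = 16777215 ^^^ 13062145 from by decide, mset_compl,
        smul_compl, e, compl_compl]
    exact step 3715070 9752653350570568362575234405055158 τ hτ e' (by decide +kernel)
      (by norm_num) (by decide +kernel) (by decide +kernel)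
  · exact absurd (Finset.eq_univ_of_card s (by rw [hc]; rfl)) h1

theorem pairs_of_not_le {W : Submodule (ZMod 2) (GolayPt → ZMod 2)} (hW : Inv W)
    (hC : golayCode ≤ W) : ∀ (n : ℕ) (s : Finset GolayPt), s.card = n → ind s ∈ W →
    s ∉ supports (golayCode : Set (GolayPt → ZMod 2)) →
    ∀ t : Finset GolayPt, t.card = 2 → ind t ∈ W := by
  intro n
  induction n using Nat.strong_induction_on with
  | h n ih =>
    intro s hn hs hnot t ht
    by_cases h5 : 5 ≤ n
    · obtain ⟨u, hu, hu5⟩ := Finset.exists_subset_card_eq (hn ▸ h5)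
      obtain ⟨o, ho, huo⟩ := exists_octad_five hu5
      have hlt : (s ∆ o).card < n := by
        have h1 := Finset.card_sdiff_add_card_inter s o
        have h2 := Finset.card_sdiff_add_card_inter o s
        rw [Finset.inter_comm o s] at h2
        have h3 : (s ∆ o).card = (s \ o).card + (o \ s).card := by
          rw [symmDiff_def, Finset.sup_eq_union, Finset.card_union_of_disjoint disjoint_sdiff_sdiff]
        have h4 : 5 ≤ (s ∩ o).card := hu5 ▸ Finset.card_le_card (Finset.subset_inter hu huo)
        have := ho.2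
        omega
      refine ih _ hlt (s ∆ o) rfl ?_ (fun h => hnot ?_) t ht
      · rw [ind_symmDiff]; exact W.add_mem hs (hC (ind_mem_iff.2 ho.1))
      · have := symmDiff_mem_supports h ho.1
        rwa [symmDiff_symmDiff_cancel_right] at this
    · have hn4 : n ≤ 4 := by omega
      obtain ⟨a, b, hab, rfl⟩ := Finset.card_eq_two.1 ht
      rcases Nat.eq_zero_or_pos n with rfl | hpos
      · exact absurd (by rw [Finset.card_eq_zero.1 hn, ← ind_mem_iff, ind_empty]; exact zero_mem _) hnot
      · obtain ⟨u, hu, huc⟩ := Finset.exists_subset_card_eq (s := ({a, b} : Finset GolayPt)ᶜ)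
          (n := n - 1) (by rw [Finset.card_compl, ht]; show n - 1 ≤ 24 - 2; omega)
        have hau : a ∉ u := fun h => by simpa using hu h
        have hbu : b ∉ u := fun h => by simpa using hu h
        obtain ⟨σ, hσ, eσ⟩ := exists_map_sets (s := s) (t := insert a u)
          (by rw [Finset.card_insert_of_notMem hau, hn, huc]; omega) (by omega)
        obtain ⟨τ, hτ, eτ⟩ := exists_map_sets (s := s) (t := insert b u)
          (by rw [Finset.card_insert_of_notMem hbu, hn, huc]; omega) (by omega)
        have h1 := hW.ind_smul hσ hs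
        have h2 := hW.ind_smul hτ hs
        rw [eσ] at h1
        rw [eτ] at h2
        have := W.add_mem h1 h2
        rw [← ind_symmDiff] at this
        convert this using 2
        ext p
        simp only [Finset.mem_symmDiff, Finset.mem_insert, Finset.mem_singleton]
        by_cases hpa : p = a <;> by_cases hpb : p = b <;> by_cases hpu : p ∈ u <;> grind

theorem ind_mem_of_pairs {W : Submodule (ZMod 2) (GolayPt → ZMod 2)}
    (hp : ∀ t : Finset GolayPt, t.card = 2 → ind t ∈ W) :
    ∀ (n : ℕ) (s : Finset GolayPt), s.card = 2 * n → ind s ∈ W := by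
  intro n
  induction n with
  | zero => intro s hs; rw [Finset.card_eq_zero.1 hs, ind_empty]; exact zero_mem _
  | succ n ih =>
    intro s hs
    obtain ⟨t, ht, htc⟩ := Finset.exists_subset_card_eq (s := s) (n := 2) (by omega)
    have e : s = (s \ t) ∆ t := by
      rw [Disjoint.symmDiff_eq_sup Finset.sdiff_disjoint]
      exact (Finset.sdiff_union_of_subset ht).symm
    rw [e, ind_symmDiff]
    exact W.add_mem (ih _ (by rw [Finset.card_sdiff_of_subset ht, hs, htc]; omega)) (hp t htc)

theorem sum_eq (w : GolayPt → ZMod 2) : ∑ p, w p = ((support₂ w).card : ZMod 2) := by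
  rw [← Finset.inter_self (support₂ w), cast_card_inter]
  refine Finset.sum_congr rfl fun p _ => ?_
  generalize w p = a
  revert a; decide

theorem code_le_of_not_le {W : Submodule (ZMod 2) (GolayPt → ZMod 2)} (hW : Inv W)
    {w : GolayPt → ZMod 2} (hw : w ∈ W) (hwc : w ∉ golayCode) : golayCode ≤ W := by
  by_contra hC
  have hsmall : ∀ v ∈ W, v ∈ golayCode → v = 0 ∨ v = 1 := by
    intro v hv hvc
    by_contra hne
    rw [not_or] at hne
    refine hC (code_le_of_mem hW ⟨v, hvc, rfl⟩ (by rwa [ind_support₂]) (fun h => hne.1 ?_)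
      (fun h => hne.2 ?_))
    · rw [← ind_support₂ v, h, ind_empty]
    · rw [← ind_support₂ v, h, ind_univ]
  have hWC : Inv (W ⊔ golayCode) := by
    intro σ hσ v hv
    obtain ⟨a, ha, c, hc, rfl⟩ := Submodule.mem_sup.1 hv
    rw [act_add]
    exact Submodule.add_mem_sup (hW σ hσ a ha) (act_mem hσ hc)
  have hpairs := pairs_of_not_le hWC le_sup_right _ (support₂ w) rfl
    (by rw [ind_support₂]; exact Submodule.mem_sup_left hw)
    (fun h => hwc (by rw [← ind_support₂ w]; exact ind_mem_iff.2 h))
  set S := W ⊔ Submodule.span (ZMod 2) {(1 : GolayPt → ZMod 2)} with hS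
  have hS2 : ∀ t : Finset GolayPt, t.card = 2 → ind t ∈ S := by
    intro t ht
    obtain ⟨x, hx, c, hc, hxc⟩ := Submodule.mem_sup.1 (hpairs t ht)
    obtain ⟨a, b, hab, rfl⟩ := Finset.card_eq_two.1 ht
    have hfix : ∀ σ ∈ M24, σ a = a → σ b = b → act σ c = c := by
      intro σ hσ ha hb
      have hd : act σ c - c ∈ W := by
        have he : act σ (ind {a, b}) = ind {a, b} := by
          rw [act_ind, Finset.smul_finset_insert, Finset.smul_finset_singleton, Equiv.Perm.smul_def,
            Equiv.Perm.smul_def, ha, hb]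
        rw [← hxc, act_add] at he
        have : act σ c - c = x - act σ x := by
          rw [sub_eq_sub_iff_add_eq_add, add_comm, he]
        rw [this]
        exact W.sub_mem hx (hW σ hσ x hx)
      rcases hsmall _ hd (Submodule.sub_mem _ (act_mem hσ hc) hc) with h | h
      · exact sub_eq_zero.1 h
      · exfalso
        have := congrFun h a
        rw [Pi.sub_apply, act, show σ.symm a = a by rw [Equiv.symm_apply_eq, ha], sub_self,
          Pi.one_apply] at this
        exact zero_ne_one this
    have hconst : ∀ p q, p ≠ a → p ≠ b → q ≠ a → q ≠ b → c p = c q := by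
      intro p q hpa hpb hqa hqb
      obtain ⟨σ, hσ, e⟩ := exists_map_lists (l := [a, b, q]) (l' := [a, b, p])
        (by simp [hab, Ne.symm hqa, Ne.symm hqb]) (by simp [hab, Ne.symm hpa, Ne.symm hpb]) rfl
        (by simp)
      simp only [List.map_cons, List.map_nil, List.cons.injEq, and_true] at e
      obtain ⟨ea, eb, eq⟩ := e
      have := congrFun (hfix σ hσ ea eb) p
      rw [act, show σ.symm p = q by rw [Equiv.symm_apply_eq, eq]] at this
      exact this.symm
    have hc01 : c = 0 ∨ c = 1 := by
      have hsupp : support₂ c ⊆ {a, b} ∨ ({a, b} : Finset GolayPt)ᶜ ⊆ support₂ c := by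
        by_cases h : support₂ c ⊆ {a, b}
        · exact Or.inl h
        · right
          obtain ⟨q, hq, hqn⟩ := Finset.not_subset.1 h
          intro p hp
          simp only [Finset.mem_compl, Finset.mem_insert, Finset.mem_singleton, not_or] at hp hqn
          simp only [support₂, Finset.mem_filter, Finset.mem_univ, true_and] at hq ⊢
          rw [hconst p q hp.1 hp.2 hqn.1 hqn.2]; exact hq
      rcases hsupp with h | h
      · left
        have := eq_empty_of_card_lt ⟨c, hc, rfl⟩
          (lt_of_le_of_lt (Finset.card_le_card h) (by rw [Finset.card_pair hab]; norm_num))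
        rw [← ind_support₂ c, this, ind_empty]
      · right
        have h22 : 22 ≤ (support₂ c).card := by
          refine le_trans ?_ (Finset.card_le_card h)
          rw [Finset.card_compl, Finset.card_pair hab]; decide
        rcases card_support_cases ⟨c, hc, rfl⟩ with h' | h' | h' | h' | h'
        · rw [h'] at h22; simp at h22
        iterate 3 omega
        · rw [← ind_support₂ c, Finset.eq_univ_of_card (support₂ c) (by rw [h']; rfl), ind_univ]
    rw [← hxc]
    rcases hc01 with rfl | rfl
    · rw [add_zero]; exact Submodule.mem_sup_left hx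
    · exact Submodule.add_mem_sup hx (Submodule.mem_span_singleton_self _)
  have ho : ind (mset 13062145) ∈ S :=
    ind_mem_of_pairs hS2 4 _ (by rw [card_mset]; decide +kernel)
  obtain ⟨x, hx, y, hy, hxy⟩ := Submodule.mem_sup.1 ho
  obtain ⟨k, rfl⟩ := Submodule.mem_span_singleton.1 hy
  have hoc : ind (mset 13062145) ∈ golayCode := ind_mem_iff.2 GolayM24.octad_five_mem.1
  have h1c : (1 : GolayPt → ZMod 2) ∈ golayCode := by
    rw [← ind_univ]; exact ind_mem_iff.2 univ_mem_supports
  have hxc : x ∈ golayCode := by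
    rw [eq_sub_of_add_eq hxy]; exact Submodule.sub_mem _ hoc (Submodule.smul_mem _ _ h1c)
  have hcard : (mset 13062145).card = 8 := GolayM24.octad_five_mem.2
  obtain rfl | rfl : k = 0 ∨ k = 1 := by clear * - k; revert k; decide
  all_goals rcases hsmall x hx hxc with rfl | rfl
  all_goals
    have := congrArg (fun v => (support₂ v).card) hxy
    simp only [support₂_ind, hcard] at this
    revert this
    decide +kernel

theorem classify {W : Submodule (ZMod 2) (GolayPt → ZMod 2)} (hW : Inv W) :
    W = ⊥ ∨ W = Submodule.span (ZMod 2) {fun _ => (1 : ZMod 2)} ∨ W = golayCode ∨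
      (W : Set (GolayPt → ZMod 2)) = {w | ∑ p, w p = 0} ∨ W = ⊤ := by
  by_cases hle : W ≤ golayCode
  · by_cases hbig : ∀ v ∈ W, v = 0 ∨ v = 1
    · by_cases h1 : (1 : GolayPt → ZMod 2) ∈ W
      · right; left
        refine le_antisymm (fun v hv => ?_) ((Submodule.span_singleton_le_iff_mem _ _).2 h1)
        rcases hbig v hv with rfl | rfl
        · exact zero_mem _
        · exact Submodule.mem_span_singleton_self _
      · left
        rw [Submodule.eq_bot_iff]
        exact fun v hv => (hbig v hv).resolve_right fun e => h1 (e ▸ hv)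
    · push Not at hbig
      obtain ⟨v, hv, hv0, hv1⟩ := hbig
      right; right; left
      refine le_antisymm hle (code_le_of_mem hW ⟨v, hle hv, rfl⟩ (by rwa [ind_support₂]) ?_ ?_)
      · exact fun h => hv0 (by rw [← ind_support₂ v, h, ind_empty])
      · exact fun h => hv1 (by rw [← ind_support₂ v, h, ind_univ])
  · obtain ⟨w, hw, hwc⟩ := SetLike.not_le_iff_exists.1 hle
    have hC := code_le_of_not_le hW hw hwc
    have hp := pairs_of_not_le hW hC _ (support₂ w) rfl (by rwa [ind_support₂])
      (fun h => hwc (by rw [← ind_support₂ w]; exact ind_mem_iff.2 h))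
    have heven : ∀ v : GolayPt → ZMod 2, ∑ p, v p = 0 → v ∈ W := by
      intro v hv
      rw [sum_eq, ZMod.natCast_eq_zero_iff_even] at hv
      obtain ⟨n, hn⟩ := hv
      rw [← ind_support₂ v]
      exact ind_mem_of_pairs hp n _ (by omega)
    by_cases hodd : ∀ v ∈ W, ∑ p, v p = 0
    · right; right; right; left
      ext v
      exact ⟨fun h => hodd v h, fun h => heven v h⟩
    · push Not at hodd
      obtain ⟨u, hu, hus⟩ := hodd
      right; right; right; right
      rw [Submodule.eq_top_iff']
      intro v
      by_cases hv : ∑ p, v p = 0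
      · exact heven v hv
      · have h2 : ∑ p, (v - u) p = 0 := by
          simp only [Pi.sub_apply, Finset.sum_sub_distrib]
          revert hv hus
          generalize ∑ p, v p = a
          generalize ∑ p, u p = b
          revert a b; decide
        simpa using W.add_mem (heven _ h2) hu

end Cfsg.Agent.GolayModule
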