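import Mathlib
import Cfsg.Agent.Lib.LargeExtraspecial

/-!
The model `2^{1+2n}_+ : GL_n(2)`: the centralizer of a transvection of `SL_{n+2}(2)`, equally the
stabiliser of a non-zero vector in `AGL_{n+1}(2)`.
-/

set_option autoImplicit false

namespace Cfsg.Agent.LargeExtraspecialAffine

open Matrix LargeExtraspecial

variable {n : ℕ}

theorem z2_cases (x : ZMod 2) : x = 0 ∨ x = 1 := by revert x; decide

theorem z2_add (x : ZMod 2) : x + x = 0 := CharTwo.add_self_eq_zero x

theorem vec_add (v : Fin n → ZMod 2) : v + v = 0 := funext fun i => z2_add (v i)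

/-- Transitivity of `GL_n(2)` on non-zero vectors. -/
theorem exists_trans {v w : Fin n → ZMod 2} (hv : v ≠ 0) (hw : w ≠ 0) :
    ∃ A : GL (Fin n) (ZMod 2), (A : Matrix (Fin n) (Fin n) (ZMod 2)) *ᵥ v = w := by
  obtain ⟨f, fv, fw⟩ : ∃ f : Fin n → ZMod 2, f ⬝ᵥ v = 1 ∧ f ⬝ᵥ w = 1 := by
    obtain ⟨i, hi⟩ := Function.ne_iff.mp hv
    obtain ⟨j, hj⟩ := Function.ne_iff.mp hw
    have hi1 := (z2_cases (v i)).resolve_left hi
    have hj1 := (z2_cases (w j)).resolve_left hj
    rcases z2_cases (w i) with e | e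
    · rcases z2_cases (v j) with e' | e'
      · exact ⟨Pi.single i 1 + Pi.single j 1, by simp [add_dotProduct, hi1, e'],
          by simp [add_dotProduct, hj1, e]⟩
      · exact ⟨Pi.single j 1, by simp [e'], by simp [hj1]⟩
    · exact ⟨Pi.single i 1, by simp [hi1], by simp [e]⟩
  let T : Matrix (Fin n) (Fin n) (ZMod 2) := 1 + vecMulVec (v + w) f
  have hT : ∀ x, T *ᵥ x = x + (f ⬝ᵥ x) • (v + w) := fun x => by
    rw [add_mulVec, one_mulVec, vecMulVec_mulVec, op_smul_eq_smul]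
  have hsq : T * T = 1 := by
    refine Matrix.ext_of_mulVec_single fun k => ?_
    rw [← mulVec_mulVec, one_mulVec, hT, hT]
    simp only [dotProduct_add, dotProduct_smul, fv, fw, z2_add, smul_zero, add_zero]
    rw [add_assoc, vec_add, add_zero]
  refine ⟨⟨T, T, hsq, hsq⟩, ?_⟩
  show T *ᵥ v = w
  rw [hT, fv, one_smul, ← add_assoc, vec_add, zero_add]

/-- A normal 2-subgroup of `GL_n(2)` is trivial. -/
theorem normal_two_trivial {N : Subgroup (GL (Fin n) (ZMod 2))} (hN : N.Normal)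
    (h2 : IsPGroup 2 N) : N = ⊥ := by
  classical
  rcases Nat.eq_zero_or_pos n with rfl | hn
  · exact eq_bot_iff.mpr fun g _ => Subgroup.mem_bot.mpr (Units.ext (Subsingleton.elim _ _))
  letI : MulAction ↥N (Fin n → ZMod 2) :=
    { smul := fun g v => ((g : GL (Fin n) (ZMod 2)) : Matrix (Fin n) (Fin n) (ZMod 2)) *ᵥ v
      one_smul := fun v => one_mulVec v
      mul_smul := fun g g' v => (mulVec_mulVec v _ _).symm }
  have hsm : ∀ (g : ↥N) (v : Fin n → ZMod 2),
      g • v = ((g : GL (Fin n) (ZMod 2)) : Matrix (Fin n) (Fin n) (ZMod 2)) *ᵥ v := fun _ _ => rfl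
  have h0 : (0 : Fin n → ZMod 2) ∈ MulAction.fixedPoints ↥N (Fin n → ZMod 2) :=
    fun g => by rw [hsm]; exact mulVec_zero _
  have hdvd : 2 ∣ Nat.card (Fin n → ZMod 2) := by
    rw [Nat.card_fun, Nat.card_zmod, Nat.card_fin]; exact dvd_pow_self 2 hn.ne'
  haveI : Fact (Nat.Prime 2) := ⟨Nat.prime_two⟩
  obtain ⟨v, hv, hv0⟩ := h2.exists_fixed_point_of_prime_dvd_card_of_fixed_point _ hdvd h0
  rw [eq_bot_iff]
  intro g hg
  rw [Subgroup.mem_bot]
  apply Units.ext
  refine Matrix.ext_of_mulVec_single fun k => ?_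
  rw [Units.val_one, one_mulVec]
  obtain ⟨A, hA⟩ := exists_trans (Ne.symm hv0) (w := Pi.single k 1) (by simp)
  have hfix : ((A⁻¹ * g * A : GL (Fin n) (ZMod 2)) : Matrix (Fin n) (Fin n) (ZMod 2)) *ᵥ v = v :=
    hv ⟨_, by simpa using hN.conj_mem g hg A⁻¹⟩
  calc (g : Matrix (Fin n) (Fin n) (ZMod 2)) *ᵥ Pi.single k 1
      = ((A * (A⁻¹ * g * A) : GL (Fin n) (ZMod 2)) : Matrix (Fin n) (Fin n) (ZMod 2)) *ᵥ v := by
        rw [← hA, mulVec_mulVec, ← Units.val_mul]; group
    _ = Pi.single k 1 := by rw [Units.val_mul, ← mulVec_mulVec, hfix, hA]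

/-! ### The model -/

/-- The matrices `[[1, a, c], [0, A, b], [0, 0, 1]]`. -/
@[ext]
structure Pb (n : ℕ) where
  row : Fin n → ZMod 2
  cc : ZMod 2
  lev : GL (Fin n) (ZMod 2)
  col : Fin n → ZMod 2

instance : Mul (Pb n) where
  mul p r := ⟨r.row + p.row ᵥ* (r.lev : Matrix (Fin n) (Fin n) (ZMod 2)),
    p.cc + r.cc + p.row ⬝ᵥ r.col, p.lev * r.lev,
    p.col + (p.lev : Matrix (Fin n) (Fin n) (ZMod 2)) *ᵥ r.col⟩

instance : One (Pb n) where one := ⟨0, 0, 1, 0⟩

instance : Inv (Pb n) where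
  inv p := ⟨p.row ᵥ* ((p.lev⁻¹ : GL (Fin n) (ZMod 2)) : Matrix (Fin n) (Fin n) (ZMod 2)),
    p.cc + p.row ⬝ᵥ (((p.lev⁻¹ : GL (Fin n) (ZMod 2)) : Matrix (Fin n) (Fin n) (ZMod 2)) *ᵥ p.col),
    p.lev⁻¹, ((p.lev⁻¹ : GL (Fin n) (ZMod 2)) : Matrix (Fin n) (Fin n) (ZMod 2)) *ᵥ p.col⟩

theorem mul_row (p r : Pb n) :
    (p * r).row = r.row + p.row ᵥ* (r.lev : Matrix (Fin n) (Fin n) (ZMod 2)) := rfl
theorem mul_cc (p r : Pb n) : (p * r).cc = p.cc + r.cc + p.row ⬝ᵥ r.col := rfl
theorem mul_lev (p r : Pb n) : (p * r).lev = p.lev * r.lev := rfl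
theorem mul_col (p r : Pb n) :
    (p * r).col = p.col + (p.lev : Matrix (Fin n) (Fin n) (ZMod 2)) *ᵥ r.col := rfl
theorem one_row : (1 : Pb n).row = 0 := rfl
theorem one_cc : (1 : Pb n).cc = 0 := rfl
theorem one_lev : (1 : Pb n).lev = 1 := rfl
theorem one_col : (1 : Pb n).col = 0 := rfl

instance : Group (Pb n) :=
  Group.ofLeftAxioms
    (fun p r s => by
      ext1
      · simp only [mul_row, mul_lev, Units.val_mul, add_vecMul, vecMul_vecMul]; abel
      · simp only [mul_cc, mul_row, mul_col, dotProduct_add, add_dotProduct, dotProduct_mulVec]; abel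
      · exact mul_assoc _ _ _
      · simp only [mul_col, mul_lev, Units.val_mul, mulVec_add, mulVec_mulVec]; abel)
    (fun p => by
      ext1
      · simp [mul_row, one_row]
      · simp [mul_cc, one_row, one_cc]
      · exact one_mul _
      · simp [mul_col, one_col, one_lev])
    (fun p => by
      ext1
      · show p.row + (p.row ᵥ* ((p.lev⁻¹ : GL (Fin n) (ZMod 2)) : Matrix (Fin n) (Fin n) (ZMod 2))) ᵥ*
          (p.lev : Matrix (Fin n) (Fin n) (ZMod 2)) = 0
        rw [vecMul_vecMul, ← Units.val_mul, inv_mul_cancel, Units.val_one, vecMul_one, vec_add]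
      · show p.cc + p.row ⬝ᵥ (((p.lev⁻¹ : GL (Fin n) (ZMod 2)) : Matrix (Fin n) (Fin n) (ZMod 2)) *ᵥ p.col)
          + p.cc + (p.row ᵥ* ((p.lev⁻¹ : GL (Fin n) (ZMod 2)) : Matrix (Fin n) (Fin n) (ZMod 2))) ⬝ᵥ p.col = 0
        rw [← dotProduct_mulVec]
        linear_combination z2_add p.cc + z2_add (p.row ⬝ᵥ
          (((p.lev⁻¹ : GL (Fin n) (ZMod 2)) : Matrix (Fin n) (Fin n) (ZMod 2)) *ᵥ p.col))
      · exact inv_mul_cancel _
      · show _ + _ = 0
        exact vec_add _)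

noncomputable instance : Finite (Pb n) :=
  Finite.of_injective (fun p => (p.row, p.cc, p.lev, p.col)) fun p r e => by
    simp only [Prod.mk.injEq] at e
    exact Pb.ext e.1 e.2.1 e.2.2.1 e.2.2.2

/-- The Levi projection. -/
def levHom : Pb n →* GL (Fin n) (ZMod 2) := ⟨⟨Pb.lev, rfl⟩, fun _ _ => rfl⟩

/-- The unipotent radical. -/
def rad (n : ℕ) : Subgroup (Pb n) := levHom.ker

theorem mem_rad {p : Pb n} : p ∈ rad n ↔ p.lev = 1 := MonoidHom.mem_ker

/-- The Levi complement. -/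
def levEmb : GL (Fin n) (ZMod 2) →* Pb n where
  toFun A := ⟨0, 0, A, 0⟩
  map_one' := rfl
  map_mul' A B := by
    ext1
    · simp [mul_row]
    · simp [mul_cc]
    · rfl
    · simp [mul_col]

theorem levEmb_inj : Function.Injective (levEmb (n := n)) := fun A B e => congrArg Pb.lev e

/-- The central involution. -/
def zP (n : ℕ) : Pb n := ⟨0, 1, 1, 0⟩

theorem rad_ext : Ext (rad n) (zP n) where
  mem := mem_rad.mpr rfl
  ne_one e := one_ne_zero (α := ZMod 2) (congrArg Pb.cc e)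
  zz := by
    ext1
    · simp [mul_row, one_row, zP]
    · simp [mul_cc, one_cc, zP, z2_add]
    · exact one_mul _
    · simp [mul_col, one_col, zP]
  comm x hx := by
    ext1
    · simp [mul_row, zP, mem_rad.mp hx]
    · simp [mul_cc, zP, add_comm]
    · simp [mul_lev, zP]
    · simp [mul_col, zP, mem_rad.mp hx]
  sq x hx := by
    have e := mem_rad.mp hx
    rcases z2_cases (x.row ⬝ᵥ x.col) with d | d
    · left
      ext1
      · simp [mul_row, one_row, e, vec_add]
      · simp [mul_cc, one_cc, d, z2_add]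
      · simp [mul_lev, one_lev, e]
      · simp [mul_col, one_col, e, vec_add]
    · right
      ext1
      · simp [mul_row, e, zP, vec_add]
      · simp [mul_cc, d, z2_add, zP]
      · simp [mul_lev, e, zP]
      · simp [mul_col, e, zP, vec_add]
  conj x hx y hy := by
    have ex := mem_rad.mp hx
    have ey := mem_rad.mp hy
    have key : x * y = ⟨0, x.row ⬝ᵥ y.col + y.row ⬝ᵥ x.col, 1, 0⟩ * y * x := by
      ext1
      · simp only [mul_row, mul_lev, ex, ey, Units.val_one, vecMul_one, one_mul, add_zero]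
        rw [add_comm]
      · simp only [mul_cc, mul_row, mul_lev, ex, ey, Units.val_one, vecMul_one, zero_dotProduct,
          add_zero]
        linear_combination -(z2_add (y.row ⬝ᵥ x.col))
      · simp [mul_lev, ex, ey]
      · simp only [mul_col, mul_lev, ex, ey, Units.val_one, one_mulVec, one_mul, zero_add]
        rw [add_comm]
    rcases z2_cases (x.row ⬝ᵥ y.col + y.row ⬝ᵥ x.col) with d | d <;> rw [d] at key
    · left; rw [key, show (⟨0, 0, 1, 0⟩ : Pb n) = 1 from rfl, one_mul, mul_inv_cancel_right]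
    · right; rw [key]; exact mul_inv_cancel_right _ _
  partner x hx h1 hz := by
    have ex := mem_rad.mp hx
    obtain ⟨y, hy, d⟩ : ∃ y : Pb n, y.lev = 1 ∧ y.row ⬝ᵥ x.col + x.row ⬝ᵥ y.col = 1 := by
      by_cases hr : x.row = 0
      · by_cases hc : x.col = 0
        · exfalso
          rcases z2_cases x.cc with e | e
          · exact h1 (Pb.ext hr e ex hc)
          · exact hz (Pb.ext hr e ex hc)
        · obtain ⟨i, hi⟩ := Function.ne_iff.mp hc
          exact ⟨⟨Pi.single i 1, 0, 1, 0⟩, rfl, by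
            simpa using (z2_cases (x.col i)).resolve_left hi⟩
      · obtain ⟨i, hi⟩ := Function.ne_iff.mp hr
        exact ⟨⟨0, 0, 1, Pi.single i 1⟩, rfl, by
          simpa using (z2_cases (x.row i)).resolve_left hi⟩
    refine ⟨y, mem_rad.mpr hy, ?_⟩
    rw [mul_inv_eq_iff_eq_mul]
    ext1
    · simp only [mul_row, mul_lev, zP, ex, hy, Units.val_one, vecMul_one, one_mul, add_zero]
      rw [add_comm]
    · simp only [mul_cc, mul_row, zP, ex, Units.val_one, vecMul_one, zero_dotProduct, add_zero]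
      linear_combination d - z2_add (x.row ⬝ᵥ y.col)
    · simp [mul_lev, zP, ex, hy]
    · simp only [mul_col, mul_lev, zP, ex, hy, Units.val_one, one_mulVec, one_mul, zero_add]
      rw [add_comm]

/-- The radical is its own centralizer modulo the centre. -/
theorem cent_rad {p : Pb n} (hp : ∀ x ∈ rad n, p * x = x * p) : p = 1 ∨ p = zP n := by
  have hrow : ∀ v : Fin n → ZMod 2, v ᵥ* (p.lev : Matrix (Fin n) (Fin n) (ZMod 2)) = v ∧
      v ⬝ᵥ p.col = 0 := fun v => by
    have e := hp ⟨v, 0, 1, 0⟩ (mem_rad.mpr rfl)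
    have e1 := congrArg Pb.row e
    have e2 := congrArg Pb.cc e
    simp only [mul_row, mul_cc, Units.val_one, vecMul_one, dotProduct_zero, add_zero] at e1 e2
    refine ⟨?_, by simpa using e2⟩
    rw [add_comm v p.row] at e1
    exact (add_left_cancel e1).symm
  have hcol : ∀ v : Fin n → ZMod 2, p.row ⬝ᵥ v = 0 := fun v => by
    have e2 := congrArg Pb.cc (hp ⟨0, 0, 1, v⟩ (mem_rad.mpr rfl))
    simpa [mul_cc] using e2
  have hl : p.lev = 1 := by
    apply Units.ext
    ext i j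
    have := congrFun (hrow (Pi.single i 1)).1 j
    rw [single_one_vecMul] at this
    rw [Units.val_one]
    exact this.trans (by simp [Matrix.one_apply, Pi.single_apply, eq_comm])
  have hr : p.row = 0 := funext fun i => by simpa using hcol (Pi.single i 1)
  have hc : p.col = 0 := funext fun i => by simpa using (hrow (Pi.single i 1)).2
  rcases z2_cases p.cc with e | e
  · exact Or.inl (Pb.ext hr e hl hc)
  · exact Or.inr (Pb.ext hr e hl hc)

/-- The column translations. -/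
def colSub (n : ℕ) : Subgroup (Pb n) where
  carrier := {p | p.lev = 1 ∧ p.row = 0}
  mul_mem' {p r} hp hr := ⟨by simp [mul_lev, hp.1, hr.1], by simp [mul_row, hp.2, hr.2]⟩
  one_mem' := ⟨rfl, rfl⟩
  inv_mem' {p} hp := ⟨inv_eq_one.mpr hp.1, by
    show p.row ᵥ* _ = 0
    rw [hp.2, zero_vecMul]⟩

theorem card_rad : Nat.card (rad n) = 2 ^ (2 * n + 1) := by
  have e : ↥(rad n) ≃ (Fin n → ZMod 2) × ZMod 2 × (Fin n → ZMod 2) :=
    { toFun := fun p => (p.1.row, p.1.cc, p.1.col)
      invFun := fun t => ⟨⟨t.1, t.2.1, 1, t.2.2⟩, mem_rad.mpr rfl⟩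
      left_inv := fun p => Subtype.ext (Pb.ext rfl rfl (mem_rad.mp p.2).symm rfl)
      right_inv := fun t => rfl }
  rw [Nat.card_congr e]
  simp only [Nat.card_prod, Nat.card_fun, Nat.card_zmod, Nat.card_fin]
  ring

theorem card_colSub : Nat.card (colSub n) = 2 ^ (n + 1) := by
  have e : ↥(colSub n) ≃ ZMod 2 × (Fin n → ZMod 2) :=
    { toFun := fun p => (p.1.cc, p.1.col)
      invFun := fun t => ⟨⟨0, t.1, 1, t.2⟩, rfl, rfl⟩
      left_inv := fun p => Subtype.ext (Pb.ext p.2.2.symm rfl p.2.1.symm rfl)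
      right_inv := fun t => rfl }
  rw [Nat.card_congr e]
  simp only [Nat.card_prod, Nat.card_fun, Nat.card_zmod, Nat.card_fin]
  ring

theorem colSub_le : colSub n ≤ rad n := fun _ hp => mem_rad.mpr hp.1

theorem colSub_elem : Cfsg.IsElementaryAbelian 2 (colSub n) := by
  refine ⟨⟨⟨fun a b => Subtype.ext ?_⟩⟩, fun a ha => ?_⟩
  · ext1 <;> simp [mul_row, mul_cc, mul_lev, mul_col, a.2.1, a.2.2, b.2.1, b.2.2, add_comm]
  · rw [pow_two]
    ext1 <;> simp [mul_row, mul_cc, mul_lev, mul_col, one_row, one_cc, one_lev, one_col, ha.1, ha.2,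
      z2_add, vec_add]

theorem pCore_eq : Cfsg.pCore 2 (Pb n) = rad n := by
  apply le_antisymm
  · refine sSup_le ?_
    rintro N ⟨hN, h2⟩ p hp
    have hM : (N.map levHom).Normal := hN.map levHom fun A => ⟨levEmb A, rfl⟩
    have := normal_two_trivial hM (h2.map levHom)
    exact (Subgroup.map_eq_bot_iff N).mp this hp
  · exact le_sSup ⟨MonoidHom.normal_ker levHom, rad_ext.isPGroup⟩

theorem levEmb_inf : rad n ⊓ (levEmb (n := n)).range = ⊥ := by
  rw [eq_bot_iff]
  rintro p ⟨hp, A, rfl⟩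
  obtain rfl : A = 1 := mem_rad.mp hp
  exact Subgroup.mem_bot.mpr rfl

theorem levEmb_sup : rad n ⊔ (levEmb (n := n)).range = ⊤ := by
  rw [eq_top_iff]
  intro p _
  rw [← mul_inv_cancel_right p (levEmb p.lev)⁻¹, inv_inv]
  refine Subgroup.mul_mem_sup (mem_rad.mpr ?_) ⟨p.lev, rfl⟩
  show p.lev * (p.lev)⁻¹ = 1
  exact mul_inv_cancel _

/-! ### A group whose involution centralizer is the model -/

section Embed

variable {G : Type*} [Group G] [Finite G] (φ : Pb n →* G)

theorem map_pCore (hφ : Function.Injective φ) (z : G) (hr : φ.range = Subgroup.centralizer ({z} : Set G)) :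
    (Cfsg.pCore 2 ↥(Subgroup.centralizer ({z} : Set G))).map
      (Subgroup.centralizer ({z} : Set G)).subtype = (rad n).map φ := by
  set C := Subgroup.centralizer ({z} : Set G) with hC
  let e : Pb n ≃* ↥C := (MonoidHom.ofInjective hφ).trans (MulEquiv.subgroupCongr hr)
  have key : Cfsg.pCore 2 ↥C = (rad n).map e.toMonoidHom := by
    apply le_antisymm
    · refine sSup_le ?_
      rintro N ⟨hN, h2⟩
      have : N.comap e.toMonoidHom ≤ rad n := pCore_eq (n := n) ▸ le_sSup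
        ⟨hN.comap _, h2.comap_of_injective _ e.injective⟩
      exact (Subgroup.map_comap_eq_self_of_surjective e.surjective N).symm.le.trans
        (Subgroup.map_mono this)
    · exact le_sSup ⟨(MonoidHom.normal_ker levHom).map _ e.surjective, rad_ext.isPGroup.map _⟩
  rw [key, Subgroup.map_map]
  rfl

theorem lhyp (hφ : Function.Injective φ) (z : G) (hz : φ (zP n) = z)
    (hr : φ.range = Subgroup.centralizer ({z} : Set G)) (hn : 1 ≤ n) :
    LHyp ((rad n).map φ) z := by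
  have hmem : ∀ g, g * z = z * g → ∃ p, φ p = g := fun g hg => by
    have : g ∈ φ.range := by
      rw [hr]; exact Subgroup.mem_centralizer_singleton_iff.mpr hg
    exact this
  refine ⟨⟨⟨_, rad_ext.mem, hz⟩, ?_, ?_, ?_, ?_, ?_, ?_⟩, ?_, ?_, ?_⟩
  · rw [← hz, ne_eq, map_eq_one_iff _ hφ]; exact rad_ext.ne_one
  · rw [← hz, ← map_mul, rad_ext.zz, map_one]
  · rintro _ ⟨x, hx, rfl⟩; rw [← hz, ← map_mul, ← map_mul, rad_ext.comm x hx]
  · rintro _ ⟨x, hx, rfl⟩
    rcases rad_ext.sq x hx with e | e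
    · left; rw [← map_mul, e, map_one]
    · right; rw [← map_mul, e, hz]
  · rintro _ ⟨x, hx, rfl⟩ _ ⟨y, hy, rfl⟩
    rcases rad_ext.conj x hx y hy with e | e
    · left; rw [← map_inv, ← map_mul, ← map_mul, e]
    · right; rw [← map_inv, ← map_mul, ← map_mul, e, map_mul, hz]
  · rintro _ ⟨x, hx, rfl⟩ h1 h2
    obtain ⟨y, hy, e⟩ := rad_ext.partner x hx (fun e => h1 (by rw [e, map_one]))
      (fun e => h2 (by rw [e, hz]))
    exact ⟨φ y, ⟨y, hy, rfl⟩, by rw [← map_inv, ← map_mul, ← map_mul, e, map_mul, hz]⟩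
  · intro g hg
    obtain ⟨p, rfl⟩ := hmem g (hg z ⟨_, rad_ext.mem, hz⟩)
    rcases cent_rad (p := p) (fun x hx => hφ (by
      rw [map_mul, map_mul]; exact hg _ ⟨x, hx, rfl⟩)) with e | e
    · left; rw [e, map_one]
    · right; rw [e, hz]
  · rintro g hg _ ⟨x, hx, rfl⟩
    obtain ⟨p, rfl⟩ := hmem g hg
    exact ⟨p * x * p⁻¹, (MonoidHom.normal_ker levHom).conj_mem x hx p, by simp⟩
  · obtain ⟨i⟩ : Nonempty (Fin n) := ⟨⟨0, hn⟩⟩
    refine ⟨_, ⟨⟨Pi.single i 1, 0, 1, 0⟩, mem_rad.mpr rfl, rfl⟩, fun e => ?_, fun e => ?_⟩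
    · have := congrFun (congrArg Pb.row ((map_eq_one_iff _ hφ).mp e)) i
      simp [one_row] at this
    · have := congrFun (congrArg Pb.row (hφ (e.trans hz.symm))) i
      simp [zP] at this

/-- Everything except largeness. -/
theorem structure_of_model (hφ : Function.Injective φ) (z : G)
    (hr : φ.range = Subgroup.centralizer ({z} : Set G)) (Q : Subgroup G)
    (hQ : Q = (Cfsg.pCore 2 ↥(Subgroup.centralizer ({z} : Set G))).map
      (Subgroup.centralizer ({z} : Set G)).subtype) :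
    Q = (rad n).map φ ∧ Nat.card ↥Q = 2 ^ (2 * n + 1) ∧
      (∃ E : Subgroup G, E ≤ Q ∧ Cfsg.IsElementaryAbelian 2 E ∧ Nat.card ↥E = 2 ^ (n + 1)) ∧
      ∃ K : Subgroup G, K ≤ Subgroup.centralizer ({z} : Set G) ∧ Q ⊓ K = ⊥ ∧
        Q ⊔ K = Subgroup.centralizer ({z} : Set G) ∧
        Nonempty (↥K ≃* GL (Fin n) (ZMod 2)) := by
  rw [map_pCore φ hφ z hr] at hQ
  subst hQ
  refine ⟨rfl, ?_, ⟨(colSub n).map φ, Subgroup.map_mono colSub_le, ⟨?_, ?_⟩, ?_⟩,
    (levEmb (n := n)).range.map φ, ?_, ?_, ?_,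
    ⟨((Subgroup.equivMapOfInjective _ φ hφ).symm.trans (MonoidHom.ofInjective levEmb_inj).symm)⟩⟩
  · rw [Subgroup.card_map_of_injective hφ, card_rad]
  · haveI := (colSub_elem (n := n)).1
    exact Subgroup.map_isMulCommutative _ φ
  · rintro _ ⟨a, ha, rfl⟩
    rw [← map_pow, colSub_elem.2 a ha, map_one]
  · rw [Subgroup.card_map_of_injective hφ, card_colSub]
  · exact (Subgroup.map_mono le_top).trans (by rw [← hr, MonoidHom.range_eq_map])
  · rw [← Subgroup.map_inf _ _ φ hφ, levEmb_inf, Subgroup.map_bot]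
  · rw [← Subgroup.map_sup, levEmb_sup, ← hr, MonoidHom.range_eq_map]

end Embed

end Cfsg.Agent.LargeExtraspecialAffine
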