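import Mathlib
import Cfsg.Agent.Lib.LargeExtraspecialAGL

/-!
An elementary abelian subgroup with a complement realising all its automorphisms, inside a bigger
group: the model of the centraliser of an involution in it.
-/

set_option autoImplicit false

namespace Cfsg.Agent.GolayModel

open Matrix LargeExtraspecial LargeExtraspecialAffine LargeExtraspecialAGL

variable {G : Type*} [Group G] [Finite G] {n : ℕ}

/-- Embedding of the model with image the centraliser of `u₀`. -/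
theorem exists_model (U M : Subgroup G) (hU : Cfsg.IsElementaryAbelian 2 U)
    (hUcard : Nat.card ↥U = 2 ^ (n + 1)) (hUM : U ⊓ M = ⊥)
    (hnorm : ∀ m ∈ M, ∀ u ∈ U, m * u * m⁻¹ ∈ U)
    (hfaith : ∀ m ∈ M, (∀ u ∈ U, m * u * m⁻¹ = u) → m = 1)
    (hfull : ∀ φ : ↥U ≃* ↥U, ∃ m ∈ M, ∀ u : ↥U, ((φ u : ↥U) : G) = m * u * m⁻¹)
    (u₀ : G) (hu₀U : u₀ ∈ U) (hu₀ : u₀ ≠ 1)
    (hdec : ∀ g, g * u₀ = u₀ * g → ∃ u ∈ U, ∃ m ∈ M, u * m = g) :
    ∃ φ : Pb n →* G, Function.Injective φ ∧ φ (zP n) = u₀ ∧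
      φ.range = Subgroup.centralizer ({u₀} : Set G) ∧ ∀ p ∈ colSub n, φ p ∈ U := by
  classical
  obtain ⟨e, hmul, he₀⟩ := exists_coord hU hUcard ⟨u₀, hu₀U⟩ (fun e0 => hu₀ (congrArg Subtype.val e0))
  set ι : ZMod 2 × (Fin n → ZMod 2) → G := fun x => ((e.symm x : ↥U) : G) with hιdef
  have ιU : ∀ x, ι x ∈ U := fun x => (e.symm x).2
  have ιadd : ∀ x y, ι (x + y) = ι x * ι y := fun x y => by
    show ((e.symm (x + y) : ↥U) : G) = ((e.symm x * e.symm y : ↥U) : G)
    congr 1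
    apply e.injective
    rw [hmul, e.apply_symm_apply, e.apply_symm_apply, e.apply_symm_apply]
  have ιinj : Function.Injective ι := fun x y h => e.symm.injective (Subtype.ext h)
  have ιe : ∀ u : ↥U, ι (e u) = u := fun u => by simp [ι]
  have ι0 : ι 0 = 1 := by
    have := ιadd 0 0
    rwa [add_zero, right_eq_mul] at this
  -- the unique element of `M` realising the action of a model element
  have hex : ∀ p : Pb n, ∃ m ∈ M, ∀ x, m * ι x * m⁻¹ = ι (act p x) := by
    intro p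
    let φ : ↥U ≃* ↥U :=
      { toFun := fun u => e.symm (act p (e u))
        invFun := fun u => e.symm (act p⁻¹ (e u))
        left_inv := fun u => by simp [← act_mul, act_one]
        right_inv := fun u => by simp [← act_mul, act_one]
        map_mul' := fun u v => e.injective (by simp [hmul, act_add]) }
    obtain ⟨m, hm, hm'⟩ := hfull φ
    refine ⟨m, hm, fun x => ?_⟩
    have := hm' (e.symm x)
    simpa [φ, ι] using this.symm
  choose μ hμM hμ using hex
  have huniq : ∀ m ∈ M, ∀ m' ∈ M, (∀ x, m * ι x * m⁻¹ = m' * ι x * m'⁻¹) → m = m' := by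
    intro m hm m' hm' h
    refine (inv_mul_eq_one.mp (hfaith (m'⁻¹ * m) (M.mul_mem (M.inv_mem hm') hm) fun u hu => ?_)).symm
    have := h (e ⟨u, hu⟩)
    rw [ιe] at this
    calc m'⁻¹ * m * u * (m'⁻¹ * m)⁻¹ = m'⁻¹ * (m * u * m⁻¹) * m' := by group
      _ = u := by rw [this]; group
  have μmul : ∀ p r, μ (p * r) = μ p * μ r := fun p r =>
    huniq _ (hμM _) _ (M.mul_mem (hμM p) (hμM r)) fun x => by
      rw [hμ, act_mul, ← hμ p, ← hμ r]; group
  let φ : Pb n →* G := MonoidHom.mk' (fun p => ι (p.cc, p.col) * μ p) (fun p r => by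
    have e1 : ((p * r).cc, (p * r).col) = (p.cc, p.col) + act p (r.cc, r.col) := by
      refine Prod.ext ?_ rfl
      simp only [mul_cc, act, Prod.fst_add]; ring
    show ι ((p * r).cc, (p * r).col) * μ (p * r) = _
    rw [e1, ιadd, μmul, ← hμ p]; group)
  have hφ : Function.Injective φ := by
    rw [injective_iff_map_eq_one]
    intro p hp
    change ι (p.cc, p.col) * μ p = 1 at hp
    have hm : μ p = (ι (p.cc, p.col))⁻¹ := eq_inv_of_mul_eq_one_right hp
    have hmU : μ p ∈ U ⊓ M := ⟨hm ▸ U.inv_mem (ιU _), hμM p⟩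
    rw [hUM, Subgroup.mem_bot] at hmU
    rw [hmU, mul_one, ← ι0] at hp
    have h1 := ιinj hp
    have hact : ∀ x, act p x = x := fun x => ιinj (by rw [← hμ p x, hmU]; group)
    have hrow : p.row = 0 := funext fun i => by
      simpa [act] using congrArg Prod.fst (hact (0, Pi.single i 1))
    have hlev : p.lev = 1 := Units.ext (Matrix.ext_of_mulVec_single fun k => by
      rw [Units.val_one, one_mulVec]
      exact congrArg Prod.snd (hact (0, Pi.single k 1)))
    exact Pb.ext hrow (congrArg Prod.fst h1) hlev (congrArg Prod.snd h1)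
  have hι₀ : ι (1, 0) = u₀ := by rw [← he₀, ιe]
  have hz : φ (zP n) = u₀ := by
    have : μ (zP n) = 1 := huniq _ (hμM _) 1 M.one_mem fun x => by
      rw [hμ]; simp [act, zP]
    show ι ((zP n).cc, (zP n).col) * μ (zP n) = u₀
    rw [this, mul_one]; exact hι₀
  have hrange : φ.range = Subgroup.centralizer ({u₀} : Set G) := by
    apply le_antisymm
    · rintro _ ⟨p, rfl⟩
      rw [Subgroup.mem_centralizer_singleton_iff, ← hz, ← map_mul, ← map_mul]
      congr 1
      ext1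
      · simp [mul_row, zP]
      · simp [mul_cc, zP, add_comm]
      · simp [mul_lev, zP]
      · simp [mul_col, zP]
    intro g hg
    rw [Subgroup.mem_centralizer_singleton_iff] at hg
    obtain ⟨u, hu, m, hm, rfl⟩ := hdec g hg
    haveI := hU.1
    have hUc : ∀ a ∈ U, ∀ b ∈ U, a * b = b * a := fun a ha b hb =>
      congrArg Subtype.val (mul_comm' (⟨a, ha⟩ : ↥U) ⟨b, hb⟩)
    have hm0 : m * u₀ * m⁻¹ = u₀ := by
      calc m * u₀ * m⁻¹ = u⁻¹ * (u * m * u₀) * m⁻¹ := by group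
        _ = u⁻¹ * (u₀ * u) := by rw [hg]; group
        _ = u₀ := by rw [hUc u₀ hu₀U u hu]; group
    have hcl : ∀ x, m * ι x * m⁻¹ ∈ U := fun x => hnorm m hm _ (ιU x)
    set θ : ZMod 2 × (Fin n → ZMod 2) → ZMod 2 × (Fin n → ZMod 2) := fun x => e ⟨_, hcl x⟩ with hθ
    have hθι : ∀ x, ι (θ x) = m * ι x * m⁻¹ := fun x => by rw [hθ, ιe]
    have θadd : ∀ x y, θ (x + y) = θ x + θ y := fun x y => ιinj (by
      rw [ιadd, hθι, hθι, hθι, ιadd]; group)
    have θ10 : ∀ c : ZMod 2, θ (c, 0) = (c, 0) := fun c => ιinj (by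
      rw [hθι]
      rcases z2_cases c with rfl | rfl
      · rw [show ((0 : ZMod 2), (0 : Fin n → ZMod 2)) = 0 from rfl, ι0]; group
      · rw [hι₀, hm0])
    have θinj : Function.Injective θ := fun x y h => ιinj (by
      have := congrArg ι h
      rw [hθι, hθι] at this
      exact mul_left_cancel (mul_right_cancel this))
    let f₁ : (Fin n → ZMod 2) →ₗ[ZMod 2] ZMod 2 := (AddMonoidHom.mk' (fun v => (θ (0, v)).1)
      (fun v w => by rw [← Prod.fst_add, ← θadd, Prod.mk_add_mk, add_zero])).toZModLinearMap 2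
    let f₂ : (Fin n → ZMod 2) →ₗ[ZMod 2] (Fin n → ZMod 2) := (AddMonoidHom.mk' (fun v => (θ (0, v)).2)
      (fun v w => by rw [← Prod.snd_add, ← θadd, Prod.mk_add_mk, add_zero])).toZModLinearMap 2
    set a : Fin n → ZMod 2 := fun i => f₁ (Pi.single i 1) with ha
    set A := LinearMap.toMatrix' f₂ with hA
    have hf₁ : ∀ v, a ⬝ᵥ v = f₁ v := fun v => by
      conv_rhs => rw [pi_eq_sum_univ' v, map_sum]
      simp [dotProduct, ha, map_smul, mul_comm]
    have hf₂ : ∀ v, A *ᵥ v = f₂ v := fun v => by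
      rw [← Matrix.toLin'_apply, hA, Matrix.toLin'_toMatrix']
    have hθ' : ∀ x, θ x = (x.1 + a ⬝ᵥ x.2, A *ᵥ x.2) := fun x => by
      have : x = (x.1, 0) + (0, x.2) := by simp
      conv_lhs => rw [this, θadd, θ10]
      rw [hf₁, hf₂]
      exact Prod.ext rfl (zero_add _)
    have hAu : IsUnit A := Matrix.mulVec_injective_iff_isUnit.mp fun v w hvw => by
      have h1 : θ (a ⬝ᵥ v, v) = θ (a ⬝ᵥ w, w) := by
        rw [hθ', hθ']; exact Prod.ext (by simp [z2_add]) hvw
      exact congrArg Prod.snd (θinj h1)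
    obtain ⟨AU, hAU⟩ := hAu
    refine ⟨⟨a, (e ⟨u, hu⟩).1, AU, (e ⟨u, hu⟩).2⟩, ?_⟩
    show ι ((e ⟨u, hu⟩).1, (e ⟨u, hu⟩).2) * μ _ = u * m
    rw [Prod.mk.eta, ιe]
    congr 1
    refine huniq _ (hμM _) _ hm fun x => ?_
    rw [hμ, ← hθι, hθ', act, hAU]
  refine ⟨φ, hφ, hz, hrange, fun p hp => ?_⟩
  have hμ1 : μ p = 1 := huniq _ (hμM _) 1 M.one_mem fun x => by
    rw [hμ]; simp [act, hp.1, hp.2]
  show ι (p.cc, p.col) * μ p ∈ U
  rw [hμ1, mul_one]
  exact ιU _

end Cfsg.Agent.GolayModel
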