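import Mathlib
import Cfsg.Agent.Lib.GolayM24
import Cfsg.Agent.Lib.GolayModel

/-!
The stabiliser of an octad in M24 as a split extension of its pointwise fixer by the full
automorphism group of the latter.
-/

set_option autoImplicit false

namespace Cfsg.Agent.GolayOctadStab

open Cfsg Cfsg.Agent.GolayBasic Cfsg.Agent.GolayPerm Cfsg.Agent.GolayData Cfsg.Agent.GolaySteiner
open scoped Pointwise

/-- the standard octad -/
def O0 : Finset GolayPt := mset 13062145

theorem O0_mem : O0 ∈ octads := GolayM24.octad_five_mem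

/-- pointwise fixer of a set of points -/
def pfix (o : Finset GolayPt) : Subgroup ↥M24 where
  carrier := {g | ∀ p ∈ o, (g : Equiv.Perm GolayPt) p = p}
  one_mem' := fun _ _ => rfl
  mul_mem' := fun {a b} ha hb p hp => by
    rw [Subgroup.coe_mul, Equiv.Perm.mul_apply, hb p hp, ha p hp]
  inv_mem' := fun {a} ha p hp => by
    rw [Subgroup.coe_inv, Equiv.Perm.inv_eq_iff_eq, ha p hp]

/-- setwise stabiliser of a set of points -/
def soct (o : Finset GolayPt) : Subgroup ↥M24 := MulAction.stabilizer ↥M24 o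

/-- stabiliser of a point inside the setwise stabiliser -/
def comp (o : Finset GolayPt) (p : GolayPt) : Subgroup ↥M24 :=
  soct o ⊓ MulAction.stabilizer ↥M24 p

theorem mem_pfix {o : Finset GolayPt} {g : ↥M24} :
    g ∈ pfix o ↔ ∀ p ∈ o, (g : Equiv.Perm GolayPt) p = p := Iff.rfl

theorem mem_soct {o : Finset GolayPt} {g : ↥M24} :
    g ∈ soct o ↔ (g : Equiv.Perm GolayPt) • o = o := Iff.rfl

theorem mem_comp {o : Finset GolayPt} {p : GolayPt} {g : ↥M24} :
    g ∈ comp o p ↔ (g : Equiv.Perm GolayPt) • o = o ∧ (g : Equiv.Perm GolayPt) p = p := Iff.rfl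

theorem smul_eq_of_pfix {o : Finset GolayPt} {g : ↥M24} (hg : g ∈ pfix o) :
    (g : Equiv.Perm GolayPt) • o = o := by
  refine Finset.eq_of_subset_of_card_le ?_ (by rw [Finset.card_smul_finset])
  intro q hq
  obtain ⟨p, hp, rfl⟩ := Finset.mem_smul_finset.1 hq
  rw [Equiv.Perm.smul_def, hg p hp]
  exact hp

theorem pfix_le_soct (o : Finset GolayPt) : pfix o ≤ soct o := fun _ hg => smul_eq_of_pfix hg

theorem mem_O0 {p : GolayPt} (h : p ∈ O0) : (13062145 : ℕ).testBit (idx p) = true := mem_mset.1 h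

theorem tr6_check : (tr24_6.all fun P => good P &&
    (pts.all fun i => !(13062145 : ℕ).testBit i || pimg P i == i) &&
    (pts.all fun i => pimg P (pimg P i) == i) &&
    ((pts.all fun i => (13062145 : ℕ).testBit i || pimg P i != i) || pts.all fun i => pimg P i == i))
      = true := by decide +kernel

theorem tr6_tcheck : tcheck 16777215 [23, 0, 12, 14, 16, 17] 1 3715070 tr24_6 = true := by
  decide +kernel

/-- the elements fixing the standard octad pointwise are listed -/
theorem exists_listed {g : ↥M24} (hg : g ∈ pfix O0) :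
    ∃ P ∈ tr24_6, (g : Equiv.Perm GolayPt) = permOf P := by
  have hin : ∀ b ∈ [23, 0, 12, 14, 16, 17], pt b ∈ O0 := by decide +kernel
  have h1 : pt 1 ∈ O0ᶜ := by decide +kernel
  have hg1 : (g : Equiv.Perm GolayPt) (pt 1) ∈ mset 3715070 := by
    have e : mset 3715070 = O0ᶜ := by
      rw [O0, ← mset_compl]; rfl
    rw [e, Finset.mem_compl, ← smul_eq_of_pfix hg, ← Equiv.Perm.smul_def,
      Finset.smul_mem_smul_finset_iff]
    exact Finset.mem_compl.1 h1
  have hc := tr6_tcheck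
  simp only [tcheck, Bool.and_eq_true, List.all_eq_true, beq_iff_eq] at hc
  have : idx ((g : Equiv.Perm GolayPt) (pt 1)) ∈ tr24_6.map fun P => pimg P 1 := by
    rw [hc.2, List.mem_filter]; exact ⟨mem_pts.2 (idx_lt _), mem_mset.1 hg1⟩
  obtain ⟨P, hP, hPy⟩ := List.mem_map.1 this
  obtain ⟨⟨hgood, hfix⟩, -⟩ := hc.1 P hP
  have hv := valid_of_good hgood
  refine ⟨P, hP, ?_⟩
  have hmem : (permOf P)⁻¹ * (g : Equiv.Perm GolayPt) ∈ fixList M24 [23, 0, 12, 14, 16, 17, 1] := by
    refine mem_fixList.2 ⟨mul_mem (inv_mem (permOf_mem_M24 hgood)) g.2, fun b hb => ?_⟩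
    rw [Equiv.Perm.mul_apply, Equiv.Perm.inv_eq_iff_eq]
    rcases List.mem_append.1 (show b ∈ [23, 0, 12, 14, 16, 17] ++ [1] from hb) with hb' | hb'
    · have hb24 : b < 24 := (by decide : ∀ b ∈ [23, 0, 12, 14, 16, 17], b < 24) b hb'
      rw [hg _ (hin b hb'), permOf_apply hv, pfun, idx_pt hb24, hfix b hb']
    · rw [List.mem_singleton.1 hb', permOf_apply hv, pfun, idx_pt (by norm_num), hPy, pt_idx]
  rw [GolayM24.fixList_base_eq_bot, Subgroup.mem_bot, inv_mul_eq_one] at hmem
  exact hmem.symm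

theorem check_of_mem {P : ℕ} (hP : P ∈ tr24_6) : good P = true ∧
    (∀ p ∈ O0, permOf P p = p) ∧ (∀ p, permOf P (permOf P p) = p) ∧
    ((∀ p, p ∉ O0 → permOf P p ≠ p) ∨ ∀ p, permOf P p = p) := by
  have h := List.all_eq_true.1 tr6_check P hP
  simp only [Bool.and_eq_true, Bool.or_eq_true, List.all_eq_true, beq_iff_eq, bne_iff_ne,
    Bool.not_eq_true'] at h
  obtain ⟨⟨⟨hgood, hin⟩, hsq⟩, hout⟩ := h
  have hv := valid_of_good hgood
  have hidx : ∀ q, idx (permOf P q) = pimg P (idx q) := fun q => by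
    rw [permOf_apply hv, pfun, idx_pt (pimg_lt hv (idx_lt q))]
  refine ⟨hgood, fun p hp => idx_inj ?_, fun p => idx_inj ?_, ?_⟩
  · rcases hin _ (mem_pts.2 (idx_lt p)) with h | h
    · rw [mem_O0 hp] at h; simp at h
    · rw [hidx, h]
  · rw [hidx, hidx, hsq _ (mem_pts.2 (idx_lt p))]
  · rcases hout with h | h
    · left
      intro p hp e
      rcases h _ (mem_pts.2 (idx_lt p)) with h' | h'
      · exact hp (mem_mset.2 h')
      · exact h' (by rw [← hidx, e])
    · right
      exact fun p => idx_inj (by rw [hidx, h _ (mem_pts.2 (idx_lt p))])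

theorem card_pfix_O0 : Nat.card (pfix O0) = 16 := by
  have hin : ∀ b ∈ [23, 0, 12, 14, 16, 17], pt b ∈ O0 := by decide +kernel
  have e : Nat.card (pfix O0) = Nat.card (fixList M24 [23, 0, 12, 14, 16, 17]) := by
    refine Nat.card_congr
      { toFun := fun g => ⟨g.1.1, mem_fixList.2 ⟨g.1.2, fun b hb => g.2 _ (hin b hb)⟩⟩
        invFun := fun h => ⟨⟨h.1, (mem_fixList.1 h.2).1⟩, ?_⟩
        left_inv := fun g => rfl
        right_inv := fun h => rfl }
    obtain ⟨h1, h2⟩ := mem_fixList.1 h.2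
    have h5 : ∀ b ∈ [23, 0, 12, 14, 16], h.1 (pt b) = pt b :=
      fun b hb => h2 b (List.mem_append_left [17] hb)
    have hin1 : h.1 (pt 1) ∈ mset 3715070 := by
      rw [show (3715070 : ℕ) = 16777215 ^^^ 13062145 by decide, mset_compl, Finset.mem_compl,
        ← GolayM24.smul_octad_five h1 h5, ← Equiv.Perm.smul_def, Finset.smul_mem_smul_finset_iff]
      decide +kernel
    have hc := tr6_tcheck
    intro p hp
    have hc' := hc
    simp only [tcheck, Bool.and_eq_true, List.all_eq_true, beq_iff_eq] at hc'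
    have : idx (h.1 (pt 1)) ∈ tr24_6.map fun P => pimg P 1 := by
      rw [hc'.2, List.mem_filter]; exact ⟨mem_pts.2 (idx_lt _), mem_mset.1 hin1⟩
    obtain ⟨P, hP, hPy⟩ := List.mem_map.1 this
    obtain ⟨hgood, hfixO, -, -⟩ := check_of_mem hP
    obtain ⟨⟨-, hfix⟩, -⟩ := hc'.1 P hP
    have hv := valid_of_good hgood
    have hmem2 : (permOf P)⁻¹ * h.1 ∈ fixList M24 [23, 0, 12, 14, 16, 17, 1] := by
      refine mem_fixList.2 ⟨mul_mem (inv_mem (permOf_mem_M24 hgood)) h1, fun b hb => ?_⟩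
      rw [Equiv.Perm.mul_apply, Equiv.Perm.inv_eq_iff_eq]
      rcases List.mem_append.1 (show b ∈ [23, 0, 12, 14, 16, 17] ++ [1] from hb) with hb' | hb'
      · have hb24 : b < 24 := (by decide : ∀ b ∈ [23, 0, 12, 14, 16, 17], b < 24) b hb'
        rw [h2 b hb', permOf_apply hv, pfun, idx_pt hb24, hfix b hb']
      · rw [List.mem_singleton.1 hb', permOf_apply hv, pfun, idx_pt (by norm_num), hPy, pt_idx]
    rw [GolayM24.fixList_base_eq_bot, Subgroup.mem_bot, inv_mul_eq_one] at hmem2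
    show h.1 p = p
    rw [← hmem2]
    exact hfixO p hp
  rw [e, GolayM24.card_chain6, GolayM24.card_chain7]

theorem exists_tau {o : Finset GolayPt} (ho : o ∈ octads) :
    ∃ τ : ↥M24, (τ : Equiv.Perm GolayPt) • O0 = o := by
  obtain ⟨τ, hτ, e⟩ := GolayM24.exists_smul_eq_of_octads O0_mem ho
  exact ⟨⟨τ, hτ⟩, e⟩

theorem conj_mem_pfix (τ g : ↥M24) {o : Finset GolayPt} (hg : g ∈ pfix o) :
    τ * g * τ⁻¹ ∈ pfix ((τ : Equiv.Perm GolayPt) • o) := by
  intro q hq
  obtain ⟨p, hp, rfl⟩ := Finset.mem_smul_finset.1 hq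
  simp only [Subgroup.coe_mul, Subgroup.coe_inv, Equiv.Perm.mul_apply, Equiv.Perm.smul_def,
    ← Equiv.Perm.mul_apply (τ : Equiv.Perm GolayPt)⁻¹, inv_mul_cancel, Equiv.Perm.one_apply, hg p hp]

theorem conj_mem_pfix' {τ g : ↥M24} {o : Finset GolayPt}
    (hg : g ∈ pfix ((τ : Equiv.Perm GolayPt) • o)) : τ⁻¹ * g * τ ∈ pfix o := by
  have h := conj_mem_pfix τ⁻¹ g hg
  rwa [Subgroup.coe_inv, inv_smul_smul, inv_inv] at h

variable {o : Finset GolayPt}

theorem pfix_sq (ho : o ∈ octads) {g : ↥M24} (hg : g ∈ pfix o) : g * g = 1 := by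
  obtain ⟨τ, rfl⟩ := exists_tau ho
  obtain ⟨P, hP, e⟩ := exists_listed (conj_mem_pfix' hg)
  have h2 : τ⁻¹ * g * τ * (τ⁻¹ * g * τ) = 1 := by
    apply Subtype.ext
    rw [Subgroup.coe_mul, e]
    exact Equiv.ext fun p => (check_of_mem hP).2.2.1 p
  calc g * g = τ * (τ⁻¹ * g * τ * (τ⁻¹ * g * τ)) * τ⁻¹ := by group
    _ = 1 := by rw [h2]; group

theorem pfix_comm (ho : o ∈ octads) {g h : ↥M24} (hg : g ∈ pfix o) (hh : h ∈ pfix o) :
    g * h = h * g := by
  have e : ∀ {a : ↥M24}, a ∈ pfix o → a⁻¹ = a := fun ha => inv_eq_of_mul_eq_one_right (pfix_sq ho ha)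
  calc g * h = (g * h)⁻¹ := (e (mul_mem hg hh)).symm
    _ = h⁻¹ * g⁻¹ := mul_inv_rev _ _
    _ = h * g := by rw [e hh, e hg]

theorem pfix_semireg (ho : o ∈ octads) {g : ↥M24} (hg : g ∈ pfix o) {p : GolayPt} (hp : p ∉ o)
    (hfix : (g : Equiv.Perm GolayPt) p = p) : g = 1 := by
  obtain ⟨τ, rfl⟩ := exists_tau ho
  obtain ⟨P, hP, e⟩ := exists_listed (conj_mem_pfix' hg)
  have hq : permOf P ((τ : Equiv.Perm GolayPt)⁻¹ p) = (τ : Equiv.Perm GolayPt)⁻¹ p := by
    rw [← e]
    simp [hfix]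
  rcases (check_of_mem hP).2.2.2 with h | h
  · refine absurd hq (h _ fun hin => hp ?_)
    exact Finset.mem_smul_finset.2 ⟨_, hin, by simp⟩
  · have h2 : τ⁻¹ * g * τ = 1 := Subtype.ext (by rw [e]; exact Equiv.ext h)
    calc g = τ * (τ⁻¹ * g * τ) * τ⁻¹ := by group
      _ = 1 := by rw [h2]; group

theorem card_pfix (ho : o ∈ octads) : Nat.card (pfix o) = 16 := by
  obtain ⟨τ, rfl⟩ := exists_tau ho
  rw [← card_pfix_O0]
  exact Nat.card_congr
    { toFun := fun g => ⟨τ⁻¹ * g.1 * τ, conj_mem_pfix' g.2⟩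
      invFun := fun h => ⟨τ * h.1 * τ⁻¹, conj_mem_pfix τ h.1 h.2⟩
      left_inv := fun g => Subtype.ext (by group)
      right_inv := fun h => Subtype.ext (by group) }

theorem pfix_conj {g v : ↥M24} (hg : g ∈ soct o) (hv : v ∈ pfix o) : g * v * g⁻¹ ∈ pfix o := by
  have := conj_mem_pfix g v hv
  rwa [mem_soct.1 hg] at this

theorem isElementaryAbelian_pfix (ho : o ∈ octads) : Cfsg.IsElementaryAbelian 2 (pfix o) :=
  ⟨⟨⟨fun a b => Subtype.ext (pfix_comm ho a.2 b.2)⟩⟩, fun a ha => by rw [sq]; exact pfix_sq ho ha⟩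

theorem pfix_trans (ho : o ∈ octads) {p q : GolayPt} (hp : p ∉ o) (hq : q ∉ o) :
    ∃ v ∈ pfix o, (v : Equiv.Perm GolayPt) p = q := by
  classical
  have key : ∀ g : ↥M24, (g : Equiv.Perm GolayPt) • o = o → (g : Equiv.Perm GolayPt) p ∈ oᶜ := by
    intro g hg
    rw [Finset.mem_compl]
    intro h
    rw [← hg, ← Equiv.Perm.smul_def, Finset.smul_mem_smul_finset_iff] at h
    exact hp h
  let f : pfix o → {x : GolayPt // x ∈ oᶜ} := fun v => ⟨_, key v.1 (smul_eq_of_pfix v.2)⟩
  have hinj : Function.Injective f := by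
    intro a b h
    have h' : ((a.1 : Equiv.Perm GolayPt)) p = (b.1 : Equiv.Perm GolayPt) p := congrArg Subtype.val h
    refine Subtype.ext (inv_mul_eq_one.1 (pfix_semireg ho (mul_mem (inv_mem b.2) a.2) hp ?_)).symm
    rw [Subgroup.coe_mul, Subgroup.coe_inv, Equiv.Perm.mul_apply, h', Equiv.Perm.inv_eq_iff_eq]
  have hcard : Nat.card {x : GolayPt // x ∈ oᶜ} ≤ Nat.card (pfix o) := by
    rw [card_pfix ho, Nat.card_eq_fintype_card, Fintype.card_coe, Finset.card_compl, ho.2]
    decide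
  obtain ⟨v, hv⟩ := (hinj.bijective_of_nat_card_le hcard).2 ⟨q, Finset.mem_compl.2 hq⟩
  exact ⟨v.1, v.2, congrArg Subtype.val hv⟩

theorem exists_decomp (ho : o ∈ octads) {p : GolayPt} (hp : p ∉ o) {g : ↥M24} (hg : g ∈ soct o) :
    ∃ v ∈ pfix o, ∃ m ∈ comp o p, v * m = g := by
  have hgp : (g : Equiv.Perm GolayPt) p ∉ o := by
    intro h
    rw [← mem_soct.1 hg, ← Equiv.Perm.smul_def, Finset.smul_mem_smul_finset_iff] at h
    exact hp h
  obtain ⟨v, hv, hvp⟩ := pfix_trans ho hp hgp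
  refine ⟨v, hv, v⁻¹ * g, ⟨(soct o).mul_mem ((soct o).inv_mem (pfix_le_soct o hv)) hg, ?_⟩, by group⟩
  show ((v⁻¹ * g : ↥M24) : Equiv.Perm GolayPt) p = p
  rw [Subgroup.coe_mul, Subgroup.coe_inv, Equiv.Perm.mul_apply, Equiv.Perm.inv_eq_iff_eq, hvp]

theorem pfix_inf_comp (ho : o ∈ octads) {p : GolayPt} (hp : p ∉ o) : pfix o ⊓ comp o p = ⊥ := by
  rw [eq_bot_iff]
  rintro g ⟨hg, hg'⟩
  exact pfix_semireg ho hg hp hg'.2

theorem card_soct (ho : o ∈ octads) : Nat.card (soct o) = 322560 := by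
  have horb : MulAction.orbit ↥M24 o = octads := by
    ext s
    constructor
    · rintro ⟨g, rfl⟩
      exact smul_mem_octads g.2 ho
    · intro hs
      obtain ⟨g, hg, e⟩ := GolayM24.exists_smul_eq_of_octads ho hs
      exact ⟨⟨g, hg⟩, e⟩
  have h := Subgroup.card_eq_card_quotient_mul_card_subgroup (soct o)
  rw [soct, ← Nat.card_congr (MulAction.orbitEquivQuotientStabilizer ↥M24 o), horb,
    Nat.card_coe_set_eq, ncard_octads, GolayM24.card_M24] at h
  rw [soct]
  omega

theorem card_comp (ho : o ∈ octads) {p : GolayPt} (hp : p ∉ o) : Nat.card (comp o p) = 20160 := by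
  let f : pfix o × comp o p → soct o := fun x =>
    ⟨x.1.1 * x.2.1, (soct o).mul_mem (pfix_le_soct o x.1.2) x.2.2.1⟩
  have hf : Function.Bijective f := by
    constructor
    · intro a b h
      have h' : (a.1.1 * a.2.1 : ↥M24) = b.1.1 * b.2.1 := congrArg Subtype.val h
      have h1 : b.1.1⁻¹ * a.1.1 ∈ pfix o ⊓ comp o p := by
        refine ⟨(pfix o).mul_mem ((pfix o).inv_mem b.1.2) a.1.2, ?_⟩
        have e : b.1.1⁻¹ * a.1.1 = b.2.1 * a.2.1⁻¹ := by
          rw [inv_mul_eq_iff_eq_mul, ← mul_assoc, eq_mul_inv_iff_mul_eq, h']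
        rw [e]
        exact (comp o p).mul_mem b.2.2 ((comp o p).inv_mem a.2.2)
      rw [pfix_inf_comp ho hp, Subgroup.mem_bot, inv_mul_eq_one] at h1
      rw [← h1] at h'
      exact Prod.ext (Subtype.ext h1.symm) (Subtype.ext (mul_left_cancel h'))
    · intro g
      obtain ⟨v, hv, m, hm, e⟩ := exists_decomp ho hp g.2
      exact ⟨(⟨v, hv⟩, ⟨m, hm⟩), Subtype.ext e⟩
  have h := Nat.card_eq_of_bijective f hf
  rw [Nat.card_prod, card_pfix ho, card_soct ho] at h
  omega

/-- Two octads through each point of the standard octad cut out that point. -/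
theorem pair_check : (pts.all fun i => !(13062145 : ℕ).testBit i ||
    (((ofWeight 8).map enc).filter fun c => wt (c &&& 13062145) == 2 && c.testBit i).any fun a =>
      (((ofWeight 8).map enc).filter fun c => wt (c &&& 13062145) == 2 && c.testBit i).any fun b =>
        a &&& b &&& 13062145 == 1 <<< i) = true := by decide +kernel

/-- an element fixing every point outside an octad is trivial -/
theorem eq_one_of_fix_compl (ho : o ∈ octads) {g : ↥M24}
    (hg : ∀ p, p ∉ o → (g : Equiv.Perm GolayPt) p = p) : g = 1 := by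
  obtain ⟨τ, rfl⟩ := exists_tau ho
  suffices h : τ⁻¹ * g * τ = 1 by
    calc g = τ * (τ⁻¹ * g * τ) * τ⁻¹ := by group
      _ = 1 := by rw [h]; group
  set h := τ⁻¹ * g * τ with hh
  have hout : ∀ p, p ∉ O0 → (h : Equiv.Perm GolayPt) p = p := by
    intro p hp
    have := hg ((τ : Equiv.Perm GolayPt) p) (by
      rw [← Equiv.Perm.smul_def, Finset.smul_mem_smul_finset_iff]; exact hp)
    simp [hh, this]
  have hO : (h : Equiv.Perm GolayPt) • O0 = O0 := by
    have : (h : Equiv.Perm GolayPt) • O0ᶜ = O0ᶜ := by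
      refine Finset.eq_of_subset_of_card_le ?_ (by rw [Finset.card_smul_finset])
      intro q hq
      obtain ⟨p, hp, rfl⟩ := Finset.mem_smul_finset.1 hq
      rw [Equiv.Perm.smul_def, hout p (Finset.mem_compl.1 hp)]
      exact hp
    rw [Finset.compl_eq_univ_sdiff, Finset.smul_finset_sdiff, Finset.smul_finset_univ,
      ← Finset.compl_eq_univ_sdiff, ← Finset.compl_eq_univ_sdiff] at this
    exact compl_injective this
  have hfixed : ∀ s ∈ octads, (s ∩ O0).card = 2 →
      (h : Equiv.Perm GolayPt) • (s ∩ O0) = s ∩ O0 := by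
    intro s hs h2
    have hs' : (h : Equiv.Perm GolayPt) • s = s := by
      refine octad_eq_of_five (smul_mem_octads h.2 hs) hs (s := s \ O0) ?_ ?_ Finset.sdiff_subset
      · have := Finset.card_sdiff_add_card_inter s O0
        have := hs.2
        omega
      · intro p hp
        rw [Finset.mem_sdiff] at hp
        exact Finset.mem_smul_finset.2 ⟨p, hp.1, hout p hp.2⟩
    rw [Finset.smul_finset_inter, hs', hO]
  apply Subtype.ext
  refine Equiv.ext fun p => ?_
  by_cases hp : p ∈ O0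
  · have hchk := List.all_eq_true.1 pair_check _ (mem_pts.2 (idx_lt p))
    rw [mem_O0 hp] at hchk
    simp only [Bool.not_true, Bool.false_or, List.any_eq_true, List.mem_filter, List.mem_map,
      Bool.and_eq_true, beq_iff_eq] at hchk
    obtain ⟨a, ⟨⟨x, hx, rfl⟩, ha2, -⟩, b, ⟨⟨y, hy, rfl⟩, hb2, -⟩, hab⟩ := hchk
    have hxo : mset (enc x) ∈ octads := mem_wordsOfWeight.2 ⟨x, hx, rfl⟩
    have hyo : mset (enc y) ∈ octads := mem_wordsOfWeight.2 ⟨y, hy, rfl⟩
    have e1 := hfixed _ hxo (by rw [O0, ← mset_and, card_mset]; exact ha2)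
    have e2 := hfixed _ hyo (by rw [O0, ← mset_and, card_mset]; exact hb2)
    have e3 : mset (enc x) ∩ O0 ∩ (mset (enc y) ∩ O0) = {p} := by
      rw [← show mset (1 <<< idx p) = {p} by rw [mset_one_shiftLeft (idx_lt p), pt_idx],
        ← hab, mset_and, mset_and, ← O0]
      generalize mset (enc x) = A
      generalize mset (enc y) = B
      generalize O0 = C
      rw [Finset.inter_inter_inter_comm, Finset.inter_self]
    have : (h : Equiv.Perm GolayPt) • ({p} : Finset GolayPt) = {p} := by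
      rw [← e3, Finset.smul_finset_inter, e1, e2]
    rw [Finset.smul_finset_singleton, Finset.singleton_inj, Equiv.Perm.smul_def] at this
    rw [this]; rfl
  · rw [hout p hp]; rfl

theorem comp_faithful (ho : o ∈ octads) {p : GolayPt} (hp : p ∉ o) {m : ↥M24} (hm : m ∈ comp o p)
    (h : ∀ v ∈ pfix o, m * v * m⁻¹ = v) : m = 1 := by
  refine eq_one_of_fix_compl ho fun q hq => ?_
  obtain ⟨v, hv, rfl⟩ := pfix_trans ho hp hq
  have e : m * v = v * m := mul_inv_eq_iff_eq_mul.1 (h v hv)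
  have := congrArg (fun g : ↥M24 => (g : Equiv.Perm GolayPt) p) e
  simp only [Subgroup.coe_mul, Equiv.Perm.mul_apply, (mem_comp.1 hm).2] at this
  exact this

/-- the automorphism group of an elementary abelian group of order 16 -/
theorem card_mulAut_le {G : Type*} [Group G] [Finite G] {U : Subgroup G} (hU : Cfsg.IsElementaryAbelian 2 U)
    (hcard : Nat.card U = 16) : Nat.card (MulAut U) ≤ 20160 := by
  classical
  obtain ⟨u, hu⟩ : ∃ u : U, u ≠ 1 := by
    haveI : Nontrivial U := Finite.one_lt_card_iff_nontrivial.1 (by omega)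
    exact exists_ne 1
  obtain ⟨e, he, -⟩ := LargeExtraspecialAGL.exists_coord (n := 3) hU (by rw [hcard]; norm_num) u hu
  let c : ↥U ≃ (Fin 4 → ZMod 2) := e.trans (Fin.consEquiv fun _ => ZMod 2)
  have hc : ∀ u v, c (u * v) = c u + c v := fun u v => by
    funext i
    refine Fin.cases ?_ (fun j => ?_) i <;> simp [c, he, Fin.consEquiv]
  let lin : MulAut U → (Fin 4 → ZMod 2) →ₗ[ZMod 2] (Fin 4 → ZMod 2) := fun α =>
    (AddMonoidHom.mk' (fun v => c (α (c.symm v))) fun v w => by
      rw [← hc, ← map_mul]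
      congr 2
      apply c.injective
      rw [hc, c.apply_symm_apply, c.apply_symm_apply, c.apply_symm_apply]).toZModLinearMap 2
  have hlin : ∀ α v, lin α v = c (α (c.symm v)) := fun α v => rfl
  let F : MulAut U → GL (Fin 4) (ZMod 2) := fun α =>
    ⟨LinearMap.toMatrix' (lin α), LinearMap.toMatrix' (lin α⁻¹),
      by rw [← LinearMap.toMatrix'_comp, ← LinearMap.toMatrix'_id]
         congr 1
         refine LinearMap.ext fun v => ?_
         simp [hlin],
      by rw [← LinearMap.toMatrix'_comp, ← LinearMap.toMatrix'_id]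
         congr 1
         refine LinearMap.ext fun v => ?_
         simp [hlin]⟩
  have hF : Function.Injective F := by
    intro α β h
    have h' : lin α = lin β := LinearMap.toMatrix'.injective (congrArg Units.val h)
    refine MulEquiv.ext fun x => c.injective ?_
    have := LinearMap.congr_fun h' (c x)
    simpa [hlin] using this
  refine (Nat.card_le_card_of_injective F hF).trans (le_of_eq ?_)
  rw [Matrix.card_GL_field, ZMod.card]
  decide

theorem comp_full (ho : o ∈ octads) {p : GolayPt} (hp : p ∉ o) (φ : ↥(pfix o) ≃* ↥(pfix o)) :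
    ∃ m ∈ comp o p, ∀ u : ↥(pfix o), ((φ u : ↥(pfix o)) : ↥M24) = m * u * m⁻¹ := by
  let f : comp o p → MulAut (pfix o) := fun m =>
    { toFun := fun u => ⟨m.1 * u.1 * m.1⁻¹, pfix_conj m.2.1 u.2⟩
      invFun := fun u => ⟨m.1⁻¹ * u.1 * m.1, by
        simpa using pfix_conj ((soct o).inv_mem m.2.1) u.2⟩
      left_inv := fun u => Subtype.ext (by group)
      right_inv := fun u => Subtype.ext (by group)
      map_mul' := fun u v => Subtype.ext (by simp [mul_assoc]) }
  have hinj : Function.Injective f := by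
    intro a b h
    refine Subtype.ext (inv_mul_eq_one.1 (comp_faithful ho hp ((comp o p).mul_mem ((comp o p).inv_mem b.2) a.2)
      fun v hv => ?_)).symm
    have e : a.1 * v * a.1⁻¹ = b.1 * v * b.1⁻¹ :=
      congrArg Subtype.val (DFunLike.congr_fun h ⟨v, hv⟩)
    calc b.1⁻¹ * a.1 * v * (b.1⁻¹ * a.1)⁻¹ = b.1⁻¹ * (a.1 * v * a.1⁻¹) * b.1 := by group
      _ = v := by rw [e]; group
  obtain ⟨m, hm⟩ := (hinj.bijective_of_nat_card_le (by
    rw [card_comp ho hp]; exact card_mulAut_le (isElementaryAbelian_pfix ho) (card_pfix ho))).2 φ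
  exact ⟨m.1, m.2, fun u => by rw [← hm]; rfl⟩

/-- fixed points of an involution fixing an octad pointwise -/
theorem fix_eq (ho : o ∈ octads) {z : ↥M24} (hz : z ∈ pfix o) (hz1 : z ≠ 1) (p : GolayPt) :
    (z : Equiv.Perm GolayPt) p = p ↔ p ∈ o :=
  ⟨fun h => by_contra fun hp => hz1 (pfix_semireg ho hz hp h), fun hp => hz p hp⟩

/-- if `g` conjugates an involution of the fixer of `o` to one of the fixer of `o'`, it carries `o` to `o'` -/
theorem smul_eq_of_conj {o' : Finset GolayPt} (ho : o ∈ octads) (ho' : o' ∈ octads) {g z : ↥M24}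
    (hz : z ∈ pfix o) (hz1 : z ≠ 1) (h : g * z * g⁻¹ ∈ pfix o') :
    (g : Equiv.Perm GolayPt) • o = o' := by
  have h1 : g * z * g⁻¹ ≠ 1 := fun e => hz1 (by
    calc z = g⁻¹ * (g * z * g⁻¹) * g := by group
      _ = 1 := by rw [e]; group)
  ext q
  have hq := fix_eq ho hz hz1 ((g : Equiv.Perm GolayPt)⁻¹ q)
  rw [← fix_eq ho' h h1 q, Finset.mem_smul_finset]
  simp only [Subgroup.coe_mul, Subgroup.coe_inv, Equiv.Perm.mul_apply, Equiv.Perm.smul_def]
  constructor
  · rintro ⟨p, hp, rfl⟩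
    simp [hz p hp]
  · intro e
    exact ⟨_, hq.1 (by rw [Equiv.Perm.eq_inv_iff_eq]; exact e), by simp⟩

theorem mem_soct_of_commute (ho : o ∈ octads) {g z : ↥M24} (hz : z ∈ pfix o) (hz1 : z ≠ 1)
    (h : g * z = z * g) : g ∈ soct o :=
  smul_eq_of_conj ho ho hz hz1 (by rw [h]; simpa using hz)

theorem exists_notMem (ho : o ∈ octads) : ∃ p, p ∉ o := by
  by_contra h
  push Not at h
  have := ho.2
  rw [Finset.eq_univ_of_forall h, Finset.card_univ] at this
  exact absurd this (by decide +kernel)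

/-- the model embedding for an involution fixing an octad -/
theorem exists_embedding (ho : o ∈ octads) {z : ↥M24} (hz : z ∈ pfix o) (hz1 : z ≠ 1) :
    ∃ φ : LargeExtraspecialAffine.Pb 3 →* ↥M24, Function.Injective φ ∧
      φ (LargeExtraspecialAffine.zP 3) = z ∧
      φ.range = Subgroup.centralizer ({z} : Set ↥M24) ∧
      ∀ q ∈ LargeExtraspecialAffine.colSub 3, φ q ∈ pfix o := by
  obtain ⟨p, hp⟩ := exists_notMem ho
  exact GolayModel.exists_model (pfix o) (comp o p) (isElementaryAbelian_pfix ho)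
    (by rw [card_pfix ho]; norm_num) (pfix_inf_comp ho hp)
    (fun m hm u hu => pfix_conj hm.1 hu) (fun m hm h => comp_faithful ho hp hm h)
    (comp_full ho hp) z hz hz1
    (fun g hg => exists_decomp ho hp (mem_soct_of_commute ho hz hz1 hg))

theorem mem_pfix_of_filter {z : ↥M24}
    (h : (Finset.univ.filter fun p : GolayPt => (z : Equiv.Perm GolayPt) p = p) = o) : z ∈ pfix o :=
  fun p hp => by rw [← h, Finset.mem_filter] at hp; exact hp.2

end Cfsg.Agent.GolayOctadStab
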