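import Mathlib
import Cfsg.Agent.Lib.GolayChain

/-!
Every element of a group with a chain is one of the listed words.
-/

set_option autoImplicit false

namespace Cfsg.Agent.GolayWords

open Cfsg Cfsg.Agent.GolayBasic Cfsg.Agent.GolayPerm Cfsg.Agent.GolayChain

/-- all words of a chain -/
def words : List Level → List (List ℕ)
  | [] => [[]]
  | (_, ts) :: r => ts.flatMap fun T => (words r).map (T :: ·)

theorem mem_words_of_sift : ∀ (lv : List Level) (ys w : List ℕ), sift lv ys = some w → w ∈ words lv
  | [], _, w, h => by
    simp only [sift, Option.some.injEq] at h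
    simp [words, ← h]
  | (b, ts) :: r, [], w, h => by simp [sift] at h
  | (b, ts) :: r, y :: ys, w, h => by
    simp only [sift] at h
    cases hT : ts.find? (fun T => pimg T b == y) with
    | none => simp [hT] at h
    | some T =>
      simp only [hT] at h
      cases hw : sift r (ys.map (pre T)) with
      | none => simp [hw] at h
      | some v =>
        simp only [hw, Option.some.injEq] at h
        simp only [words, List.mem_flatMap, List.mem_map]
        exact ⟨T, List.mem_of_find?_eq_some hT, v, mem_words_of_sift r _ v hw, h⟩

/-- every element acts as one of the words -/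
theorem exists_word {H : Subgroup (Equiv.Perm GolayPt)} {lv : List Level}
    (hc : chainCheck [] lv = true) (hH : ∀ T ∈ elts lv, permOf T ∈ H) (hcard : Nat.card H = size lv)
    {g : Equiv.Perm GolayPt} (hg : g ∈ H) : ∃ w ∈ words lv, ∀ x, idx (g x) = wimg w (idx x) := by
  obtain ⟨w, hw, hwg, -⟩ := exists_sift hc hH hcard hg
  exact ⟨w, mem_words_of_sift _ _ _ hw, hwg⟩

/-- iterating a word -/
def wit (w : List ℕ) : ℕ → ℕ → ℕ
  | 0, i => i
  | n + 1, i => wimg w (wit w n i)

theorem idx_pow_word {g : Equiv.Perm GolayPt} {w : List ℕ} (h : ∀ x, idx (g x) = wimg w (idx x))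
    (n : ℕ) (x : GolayPt) : idx ((g ^ n) x) = wit w n (idx x) := by
  induction n with
  | zero => rfl
  | succ n ih => rw [pow_succ', Equiv.Perm.mul_apply, h, ih, wit]

end Cfsg.Agent.GolayWords
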