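import Mathlib
import Cfsg.Agent.Lib.GolayOctadStab
import Cfsg.Agent.Lib.GolayModule
import Cfsg.Agent.Lib.GolayOutTool
import Cfsg.Agent.Lib.GolayWords
import Cfsg.Agent.Lib.GolayInvolutionData

/-!
The two classes of involutions of M24.
-/

set_option autoImplicit false

namespace Cfsg.Agent.GolayInvolutions

open Cfsg Cfsg.Agent.GolayBasic Cfsg.Agent.GolayPerm Cfsg.Agent.GolayData Cfsg.Agent.GolayChain
open Cfsg.Agent.GolayOutTool Cfsg.Agent.GolayWords Cfsg.Agent.GolayInvolutionData
open scoped Pointwise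

/-- chain of the stabiliser of four base points -/
def lv4 : List Level := [(16, tr24_4), (17, tr24_5), (1, tr24_6)]

theorem lv4_check : chainCheck [23, 0, 12, 14] lv4 = true ∧ (elts lv4).all good = true ∧
    size lv4 = 960 := by decide +kernel

/-- acceptance test for a candidate involution -/
def accept (w : List ℕ) (k : ℕ) : Bool :=
  !isId ((pS :: w) ++ (pS :: w)) || (good k &&
    (sameWord (k :: pS :: w) [pZ1, k] || sameWord (k :: pS :: w) [pZ2, k]))

theorem accept_all : ((words lv4).zip certs).all (fun q => accept q.1 q.2) = true ∧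
    (words lv4).length ≤ certs.length := by decide +kernel

theorem consts : good pS = true ∧ good pZ1 = true ∧ good pZ2 = true ∧
    pimg pS 23 = 0 ∧ pimg pS 0 = 23 ∧ pimg pS 12 = 14 ∧ pimg pS 14 = 12 ∧
    (pts.filter fun i => pimg pZ1 i == i) = (pts.filter fun i => (13062145 : ℕ).testBit i) ∧
    (pts.all fun i => pimg pZ2 i != i) = true := by decide +kernel

theorem fix_pZ1 : (Finset.univ.filter fun p => permOf pZ1 p = p) = GolayOctadStab.O0 := by
  have hv := valid_of_good consts.2.1
  ext p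
  have h := congrArg (fun l => idx p ∈ l) consts.2.2.2.2.2.2.2.1
  simp only [List.mem_filter, beq_iff_eq, mem_pts.2 (idx_lt p), true_and] at h
  rw [Finset.mem_filter, GolayOctadStab.O0, mem_mset]
  simp only [Finset.mem_univ, true_and]
  rw [← h]
  constructor
  · intro e; rw [← idx_permOf hv, e]
  · intro e; exact idx_inj (by rw [idx_permOf hv, e])

theorem fixfree_pZ2 (p : GolayPt) : permOf pZ2 p ≠ p := by
  intro h
  have h2 := List.all_eq_true.1 consts.2.2.2.2.2.2.2.2 _ (mem_pts.2 (idx_lt p))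
  rw [bne_iff_ne] at h2
  exact h2 (by rw [← idx_permOf (valid_of_good consts.2.2.1), h])

theorem permOf_ne_one {z : Equiv.Perm GolayPt} {p : GolayPt} (h : z p ≠ p) : z ≠ 1 :=
  fun e => h (by rw [e]; rfl)

/-- an element of M24 that moves at most two points is trivial -/
theorem exists_two_pairs {g : Equiv.Perm GolayPt} (hg : g ∈ M24) (h2 : g * g = 1) (h1 : g ≠ 1) :
    ∃ a b, g a ≠ a ∧ b ≠ a ∧ b ≠ g a ∧ g b ≠ b := by
  obtain ⟨a, ha⟩ : ∃ a, g a ≠ a := by
    by_contra h
    push Not at h
    exact h1 (Equiv.ext fun p => h p)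
  by_contra hb
  push Not at hb
  obtain ⟨u, hu, huc⟩ : ∃ u, ({a, g a} : Finset GolayPt) ⊆ u ∧ u.card = 5 := by
    obtain ⟨t, ht, -, htc⟩ := Finset.exists_subsuperset_card_eq
      (s := ({a, g a} : Finset GolayPt)) (t := Finset.univ) (n := 5) (Finset.subset_univ _)
      (le_trans Finset.card_le_two (by norm_num)) (by rw [Finset.card_univ]; decide +kernel)
    exact ⟨t, ht, htc⟩
  obtain ⟨o, ho, huo⟩ := GolaySteiner.exists_octad_five huc
  have := GolayOctadStab.eq_one_of_fix_compl ho (g := ⟨g, hg⟩) fun p hp => by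
    refine hb a p ha ?_ ?_
    · rintro rfl; exact hp (huo (hu (Finset.mem_insert_self _ _)))
    · rintro rfl; exact hp (huo (hu (Finset.mem_insert_of_mem (Finset.mem_singleton_self _))))
  exact h1 (congrArg Subtype.val this)

/-- every involution is conjugate to one of the two representatives -/
theorem exists_conj_rep {g : Equiv.Perm GolayPt} (hg : g ∈ M24) (h2 : g * g = 1) (h1 : g ≠ 1) :
    ∃ k ∈ M24, k * g * k⁻¹ = permOf pZ1 ∨ k * g * k⁻¹ = permOf pZ2 := by
  obtain ⟨a, b, ha, hba, hbga, hb⟩ := exists_two_pairs hg h2 h1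
  have hgg : ∀ p, g (g p) = p := fun p => by
    rw [← Equiv.Perm.mul_apply, h2]; rfl
  have hne1 : g b ≠ a := fun e => hbga (by rw [← e, hgg])
  have hne2 : g b ≠ g a := fun e => hba (g.injective e)
  obtain ⟨τ, hτ, e⟩ := GolayModule.exists_map_lists (l := [pt 23, pt 0, pt 12, pt 14])
    (l' := [a, g a, b, g b]) (by decide +kernel)
    (by simp [Ne.symm ha, Ne.symm hba, Ne.symm hne1, Ne.symm hbga, Ne.symm hne2, Ne.symm hb]) rfl
    (by simp)
  simp only [List.map_cons, List.map_nil, List.cons.injEq, and_true] at e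
  obtain ⟨e1, e2, e3, e4⟩ := e
  obtain ⟨hsg, -, -, s1, s2, s3, s4, -, -⟩ := consts
  have hsv := valid_of_good hsg
  have hs : ∀ i j, i < 24 → pimg pS i = j → permOf pS (pt i) = pt j := fun i j hi h => by
    rw [permOf_apply hsv, pfun, idx_pt hi, h]
  set h := (permOf pS)⁻¹ * (τ⁻¹ * g * τ) with hh
  have hmem : h ∈ fixList M24 [23, 0, 12, 14] := by
    refine mem_fixList.2 ⟨mul_mem (inv_mem (permOf_mem_M24 hsg))
      (mul_mem (mul_mem (inv_mem hτ) hg) hτ), ?_⟩
    intro i hi
    rw [hh, Equiv.Perm.mul_apply, Equiv.Perm.mul_apply, Equiv.Perm.mul_apply,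
      Equiv.Perm.inv_eq_iff_eq, Equiv.Perm.inv_eq_iff_eq]
    simp only [List.mem_cons, List.not_mem_nil, or_false] at hi
    rcases hi with rfl | rfl | rfl | rfl
    · rw [hs 23 0 (by norm_num) s1, e1, e2]
    · rw [hs 0 23 (by norm_num) s2, e2, e1, hgg]
    · rw [hs 12 14 (by norm_num) s3, e3, e4]
    · rw [hs 14 12 (by norm_num) s4, e4, e3, hgg]
  obtain ⟨hc, hgood, hsize⟩ := lv4_check
  have hgood' := List.all_eq_true.1 hgood
  obtain ⟨w, hw, hwh, hwT⟩ := exists_sift_aux lv4 [23, 0, 12, 14] hc (by decide)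
    (fun T hT => permOf_mem_M24 (hgood' T hT))
    (by rw [hsize, GolayM24.card_chain4, GolayM24.card_chain5, GolayM24.card_chain6,
      GolayM24.card_chain7]) h hmem
  obtain ⟨hall, hlen⟩ := accept_all
  obtain ⟨i, hi, hiw⟩ := List.mem_iff_getElem.1 (mem_words_of_sift _ _ _ hw)
  have hi' : i < certs.length := lt_of_lt_of_le hi hlen
  have hq : accept w certs[i] = true := List.all_eq_true.1 hall (w, certs[i])
    (List.mem_iff_getElem.2 ⟨i, by rw [List.length_zip]; omega, by rw [List.getElem_zip, hiw]⟩)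
  have hwv : ∀ P ∈ pS :: w, valid P = true := by
    intro P hP
    rcases List.mem_cons.1 hP with rfl | hP
    · exact hsv
    · exact valid_of_good (hgood' P (hwT P hP))
  have hg' : ((pS :: w).map permOf).prod = τ⁻¹ * g * τ := by
    rw [List.map_cons, List.prod_cons]
    have hwprod : (w.map permOf).prod = h := Equiv.ext fun p => idx_inj (by
      rw [idx_prod w (fun P hP => hwv P (List.mem_cons_of_mem _ hP)), hwh])
    rw [hwprod, hh, mul_inv_cancel_left]
  have hinv : isId ((pS :: w) ++ (pS :: w)) = true := by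
    rw [← prod_eq_one_iff (by
      intro P hP
      rcases List.mem_append.1 hP with h' | h' <;> exact hwv P h'), List.map_append, List.prod_append,
      hg', show τ⁻¹ * g * τ * (τ⁻¹ * g * τ) = τ⁻¹ * (g * g) * τ by group, h2]
    group
  simp only [accept, hinv, Bool.not_true, Bool.false_or, Bool.and_eq_true, Bool.or_eq_true] at hq
  obtain ⟨hkg, hk⟩ := hq
  set K := permOf certs[i] with hK
  have hcons : ∀ Z, valid Z = true → sameWord (certs[i] :: pS :: w) [Z, certs[i]] = true →
      (K * τ⁻¹) * g * (K * τ⁻¹)⁻¹ = permOf Z := by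
    intro Z hZ hsame
    have h3 := prod_eq_of_sameWord
      (by intro P hP
          rcases List.mem_cons.1 hP with rfl | hP
          · exact valid_of_good hkg
          · exact hwv P hP)
      (by intro P hP
          simp only [List.mem_cons, List.not_mem_nil, or_false] at hP
          rcases hP with rfl | rfl
          · exact hZ
          · exact valid_of_good hkg) hsame
    rw [List.map_cons, List.prod_cons, hg'] at h3
    simp only [List.map_cons, List.map_nil, List.prod_cons, List.prod_nil, mul_one] at h3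
    calc (K * τ⁻¹) * g * (K * τ⁻¹)⁻¹ = K * (τ⁻¹ * g * τ) * K⁻¹ := by group
      _ = permOf Z := by rw [hK, h3, mul_inv_cancel_right]
  refine ⟨K * τ⁻¹, mul_mem (permOf_mem_M24 hkg) (inv_mem hτ), ?_⟩
  rcases hk with hk | hk
  · exact Or.inl (hcons _ (valid_of_good consts.2.1) hk)
  · exact Or.inr (hcons _ (valid_of_good consts.2.2.1) hk)

theorem kind_of_conj {g k z : Equiv.Perm GolayPt} (h : k * g * k⁻¹ = z) :
    (∀ p, g p ≠ p) ↔ ∀ p, z p ≠ p := by
  subst h
  constructor
  · intro hg p e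
    apply hg (k⁻¹ p)
    rw [Equiv.Perm.mul_apply, Equiv.Perm.mul_apply] at e
    rw [Equiv.Perm.eq_inv_iff_eq, e]
  · intro hz p e
    exact hz (k p) (by simp [e])

theorem filter_of_conj {g k z : Equiv.Perm GolayPt} (h : k * g * k⁻¹ = z) :
    (Finset.univ.filter fun p => g p = p) = k⁻¹ • (Finset.univ.filter fun p => z p = p) := by
  subst h
  ext p
  rw [Finset.mem_inv_smul_finset_iff]
  refine (Finset.mem_filter.trans ?_).trans Finset.mem_filter.symm
  simp [Equiv.Perm.smul_def]

theorem classification :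
    (∀ g ∈ M24, orderOf g = 2 →
      (Finset.univ.filter fun p => g p = p) ∈ octads ∨ ∀ p, g p ≠ p) ∧
    (∃ g ∈ M24, orderOf g = 2 ∧ (Finset.univ.filter fun p => g p = p) ∈ octads) ∧
    (∃ g ∈ M24, orderOf g = 2 ∧ ∀ p, g p ≠ p) ∧
    ∀ g ∈ M24, ∀ h ∈ M24, orderOf g = 2 → orderOf h = 2 →
      ((∀ p, g p ≠ p) ↔ (∀ p, h p ≠ p)) → ∃ k ∈ M24, k * g * k⁻¹ = h := by
  have hzero : ∃ p, permOf pZ1 p = p := by
    refine ⟨pt 23, ?_⟩
    have : pt 23 ∈ GolayOctadStab.O0 := by decide +kernel
    rw [← fix_pZ1, Finset.mem_filter] at this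
    exact this.2
  have split : ∀ {g : Equiv.Perm GolayPt}, orderOf g = 2 → g * g = 1 ∧ g ≠ 1 := fun {g} hg =>
    ⟨by rw [← sq, ← hg]; exact pow_orderOf_eq_one g, fun e => by rw [e, orderOf_one] at hg; omega⟩
  have hone : permOf pZ1 ≠ 1 := by
    intro e
    have : (Finset.univ.filter fun p => permOf pZ1 p = p) = Finset.univ := by rw [e]; simp
    rw [fix_pZ1] at this
    have := congrArg Finset.card this
    rw [GolayOctadStab.O0_mem.2] at this
    exact absurd this (by decide +kernel)
  have hord : ∀ Z, good Z = true → permOf Z ≠ 1 → isId [Z, Z] = true → orderOf (permOf Z) = 2 := by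
    intro Z hZ hne hid
    refine orderOf_eq_prime ?_ hne
    rw [sq]
    simpa using (prod_eq_one_iff (l := [Z, Z]) (by simp [valid_of_good hZ])).2 hid
  refine ⟨fun g hg hg2 => ?_, ⟨_, permOf_mem_M24 consts.2.1,
    hord _ consts.2.1 hone (by decide +kernel), by rw [fix_pZ1]; exact GolayOctadStab.O0_mem⟩,
    ⟨_, permOf_mem_M24 consts.2.2.1, hord _ consts.2.2.1 (permOf_ne_one (fixfree_pZ2 none))
      (by decide +kernel), fixfree_pZ2⟩, ?_⟩
  · obtain ⟨k, hk, h | h⟩ := exists_conj_rep hg (split hg2).1 (split hg2).2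
    · left
      rw [filter_of_conj h, fix_pZ1]
      exact smul_mem_octads (inv_mem hk) GolayOctadStab.O0_mem
    · right
      exact (kind_of_conj h).2 fixfree_pZ2
  · intro g hg h hh hg2 hh2 hiff
    obtain ⟨k, hk, ek⟩ := exists_conj_rep hg (split hg2).1 (split hg2).2
    obtain ⟨l, hl, el⟩ := exists_conj_rep hh (split hh2).1 (split hh2).2
    refine ⟨l⁻¹ * k, mul_mem (inv_mem hl) hk, ?_⟩
    have key : k * g * k⁻¹ = l * h * l⁻¹ := by
      rcases ek with ek | ek <;> rcases el with el | el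
      · rw [ek, el]
      · obtain ⟨p, hp⟩ := hzero
        exact absurd hp ((kind_of_conj ek).1 (hiff.2 ((kind_of_conj el).2 fixfree_pZ2)) p)
      · obtain ⟨p, hp⟩ := hzero
        exact absurd hp ((kind_of_conj el).1 (hiff.1 ((kind_of_conj ek).2 fixfree_pZ2)) p)
      · rw [ek, el]
    calc l⁻¹ * k * g * (l⁻¹ * k)⁻¹ = l⁻¹ * (k * g * k⁻¹) * l := by group
      _ = h := by rw [key]; group

end Cfsg.Agent.GolayInvolutions
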