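import Mathlib
import Cfsg.Prelude.Def_SporadicCombinatorics
import Cfsg.Agent.Lib.GolayM24

/-!
Orbit certificates for the stabilisers in the group of the code of families of point sets.
-/

set_option autoImplicit false

namespace Cfsg.Agent.GolayOrbit

open Cfsg Cfsg.Agent.GolayBasic Cfsg.Agent.GolayPerm
open scoped Pointwise

/-! ### families of point sets as sorted lists of masks -/

/-- sorted insertion -/
def ins (a : ℕ) : List ℕ → List ℕ
  | [] => [a]
  | b :: l => if Nat.ble a b then a :: b :: l else b :: ins a l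

/-- insertion sort -/
def isort : List ℕ → List ℕ
  | [] => []
  | a :: l => ins a (isort l)

theorem mem_ins {a x : ℕ} : ∀ {l : List ℕ}, x ∈ ins a l ↔ x = a ∨ x ∈ l
  | [] => by simp [ins]
  | b :: l => by
    rw [ins]; split
    · simp
    · simp [mem_ins (l := l), or_left_comm]

theorem mem_isort {x : ℕ} : ∀ {l : List ℕ}, x ∈ isort l ↔ x ∈ l
  | [] => by simp [isort]
  | a :: l => by simp [isort, mem_ins, mem_isort (l := l)]

/-- the family of point sets coded by a list of masks -/
def fam (l : List ℕ) : Finset (Finset GolayPt) := (l.map mset).toFinset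

theorem mem_fam {l : List ℕ} {s : Finset GolayPt} : s ∈ fam l ↔ ∃ m ∈ l, mset m = s := by
  simp [fam]

theorem fam_singleton (m : ℕ) : fam [m] = {mset m} := by simp [fam]

theorem fam_nil : fam [] = ∅ := rfl

/-- one entry of an image table -/
def entry (T j : ℕ) : ℕ := (T >>> (24 * j)) &&& 16777215

/-- image of a mask by an image table with one entry for each four-bit block and each value -/
def tmap (T m : ℕ) : ℕ :=
  entry T (m &&& 15) ||| entry T (16 + ((m >>> 4) &&& 15)) ||| entry T (32 + ((m >>> 8) &&& 15)) |||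
    entry T (48 + ((m >>> 12) &&& 15)) ||| entry T (64 + ((m >>> 16) &&& 15)) |||
    entry T (80 + ((m >>> 20) &&& 15))

/-- a table is the image table of an encoded permutation -/
def tableOk (P T : ℕ) : Bool :=
  (List.range 16).all fun v => (List.range 6).all fun k =>
    entry T (16 * k + v) == pmask P (v <<< (4 * k))

theorem pmask_or (P a b : ℕ) : pmask P (a ||| b) = pmask P a ||| pmask P b := by
  refine Nat.eq_of_testBit_eq fun j => ?_
  rw [Nat.testBit_or, Bool.eq_iff_iff, Bool.or_eq_true]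
  simp only [testBit_pmask, Nat.testBit_or, Bool.or_eq_true, or_and_right, and_or_left, exists_or]

theorem split_mask {m : ℕ} (h : m < 2 ^ 24) :
    m = (m &&& 15) <<< (4 * 0) ||| ((m >>> 4) &&& 15) <<< (4 * 1) |||
      ((m >>> 8) &&& 15) <<< (4 * 2) ||| ((m >>> 12) &&& 15) <<< (4 * 3) |||
      ((m >>> 16) &&& 15) <<< (4 * 4) ||| ((m >>> 20) &&& 15) <<< (4 * 5) := by
  refine Nat.eq_of_testBit_eq fun j => ?_
  simp only [Nat.testBit_or, Nat.testBit_shiftLeft, Nat.testBit_and, Nat.testBit_shiftRight,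
    show (15 : ℕ) = 2 ^ 4 - 1 by norm_num, Nat.testBit_two_pow_sub_one]
  rcases Nat.lt_or_ge j 24 with hj | hj
  · interval_cases j <;> simp
  · rw [Nat.testBit_lt_two_pow (lt_of_lt_of_le h (Nat.pow_le_pow_right (by norm_num) hj))]
    have : ∀ i ≤ 5, decide (j - 4 * i < 4) = false := fun i hi => by simp; omega
    rw [this 0 (by omega), this 1 (by omega), this 2 (by omega), this 3 (by omega),
      this 4 (by omega), this 5 (by omega)]
    simp

theorem tmap_eq {P T m : ℕ} (h : tableOk P T = true) (hm : m < 2 ^ 24) : tmap T m = pmask P m := by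
  simp only [tableOk, List.all_eq_true, beq_iff_eq, List.mem_range] at h
  have e : ∀ v k, k < 6 → entry T (16 * k + (v &&& 15)) = pmask P ((v &&& 15) <<< (4 * k)) :=
    fun v k hk => h _ (lt_of_le_of_lt Nat.and_le_right (by norm_num)) k hk
  conv_rhs => rw [split_mask hm]
  rw [pmask_or, pmask_or, pmask_or, pmask_or, pmask_or, ← e m 0 (by norm_num),
    ← e (m >>> 4) 1 (by norm_num), ← e (m >>> 8) 2 (by norm_num), ← e (m >>> 12) 3 (by norm_num),
    ← e (m >>> 16) 4 (by norm_num), ← e (m >>> 20) 5 (by norm_num)]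
  simp [tmap]

/-- image of a coded family -/
def img (P : ℕ) (l : List ℕ) : List ℕ := isort (l.map (pmask P))

/-- image of a coded family by a table -/
def timg (T : ℕ) (l : List ℕ) : List ℕ := isort (l.map (tmap T))

theorem timg_eq {P T : ℕ} (h : tableOk P T = true) {l : List ℕ} (hl : ∀ m ∈ l, m < 2 ^ 24) :
    timg T l = img P l := by
  rw [timg, img, List.map_congr_left fun m hm => tmap_eq h (hl m hm)]

theorem smul_fam {P : ℕ} (h : valid P = true) (l : List ℕ) :
    permOf P • fam l = fam (img P l) := by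
  ext s
  simp only [Finset.mem_smul_finset, mem_fam, img, mem_isort, List.mem_map]
  constructor
  · rintro ⟨_, ⟨m, hm, rfl⟩, rfl⟩
    exact ⟨_, ⟨m, hm, rfl⟩, (smul_mset h m).symm⟩
  · rintro ⟨_, ⟨m, hm, rfl⟩, rfl⟩
    exact ⟨_, ⟨m, hm, rfl⟩, smul_mset h m⟩

/-- strictly increasing -/
def incr : List ℕ → Bool
  | [] => true
  | [_] => true
  | a :: b :: l => Nat.blt a b && incr (b :: l)

theorem sortedLT_of_incr : ∀ {l : List ℕ}, incr l = true → l.Pairwise (· < ·)
  | [], _ => List.Pairwise.nil
  | [a], _ => List.pairwise_singleton _ a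
  | a :: b :: l, h => by
    rw [incr, Bool.and_eq_true, Nat.blt_eq] at h
    have h2 := sortedLT_of_incr h.2
    refine List.pairwise_cons.2 ⟨fun c hc => ?_, h2⟩
    rcases List.mem_cons.1 hc with rfl | hc
    · exact h.1
    · exact lt_trans h.1 ((List.pairwise_cons.1 h2).1 c hc)

/-- a well-formed code -/
def ok (l : List ℕ) : Bool := incr l && l.all fun m => Nat.blt m 16777216

theorem ok_lt {l : List ℕ} (h : ok l = true) {m : ℕ} (hm : m ∈ l) : m < 2 ^ 24 := by
  simp only [ok, Bool.and_eq_true, List.all_eq_true, Nat.blt_eq] at h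
  exact h.2 m hm

theorem ok_nodup {l : List ℕ} (h : ok l = true) : l.Nodup := by
  simp only [ok, Bool.and_eq_true] at h
  exact (sortedLT_of_incr h.1).imp fun h => ne_of_lt h

theorem fam_inj {a b : List ℕ} (ha : ok a = true) (hb : ok b = true) (h : fam a = fam b) :
    a = b := by
  have key : ∀ {a b : List ℕ}, ok a = true → ok b = true → fam a = fam b → ∀ m ∈ a, m ∈ b := by
    intro a b ha hb h m hm
    have : mset m ∈ fam b := h ▸ mem_fam.2 ⟨m, hm, rfl⟩
    obtain ⟨m', hm', e⟩ := mem_fam.1 this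
    rwa [← mset_inj (ok_lt hb hm') (ok_lt ha hm) e]
  have hperm : a.Perm b := (List.perm_ext_iff_of_nodup (ok_nodup ha) (ok_nodup hb)).2
    fun m => ⟨key ha hb h m, key hb ha h.symm m⟩
  simp only [ok, Bool.and_eq_true] at ha hb
  exact hperm.eq_of_pairwise (fun x y _ _ h1 h2 => absurd h2 (not_lt.2 h1.le))
    (sortedLT_of_incr ha.1) (sortedLT_of_incr hb.1)

theorem nodup_mset {l : List ℕ} (h : ok l = true) : (l.map mset).Nodup :=
  List.Nodup.map_on (fun _ hx _ hy e => mset_inj (ok_lt h hx) (ok_lt h hy) e) (ok_nodup h)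

theorem card_fam {l : List ℕ} (h : ok l = true) : (fam l).card = l.length := by
  rw [fam, List.toFinset_card_of_nodup (nodup_mset h), List.length_map]

theorem sum_fam {β : Type*} [AddCommMonoid β] {l : List ℕ} (h : ok l = true)
    (f : Finset GolayPt → β) : ∑ s ∈ fam l, f s = (l.map fun m => f (mset m)).sum := by
  rw [fam, List.sum_toFinset _ (nodup_mset h), List.map_map]; rfl

/-- the image of a well-formed code is well-formed -/
theorem ins_sorted {a : ℕ} : ∀ {l : List ℕ}, l.Pairwise (· < ·) → a ∉ l →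
    (ins a l).Pairwise (· < ·)
  | [], _, _ => List.pairwise_singleton _ a
  | b :: l, h, ha => by
    rw [ins]
    obtain ⟨h1, h2⟩ := List.pairwise_cons.1 h
    simp only [List.mem_cons, not_or] at ha
    split
    · rename_i hab
      rw [Nat.ble_eq] at hab
      have hlt : a < b := lt_of_le_of_ne hab ha.1
      refine List.pairwise_cons.2 ⟨fun c hc => ?_, h⟩
      rcases List.mem_cons.1 hc with rfl | hc
      · exact hlt
      · exact lt_trans hlt (h1 c hc)
    · rename_i hab
      rw [Nat.ble_eq] at hab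
      refine List.pairwise_cons.2 ⟨fun c hc => ?_, ins_sorted h2 ha.2⟩
      rcases mem_ins.1 hc with rfl | hc
      · omega
      · exact h1 c hc

theorem isort_sorted : ∀ {l : List ℕ}, l.Nodup → (isort l).Pairwise (· < ·)
  | [], _ => List.Pairwise.nil
  | a :: l, h => ins_sorted (isort_sorted (List.nodup_cons.1 h).2)
      (fun hc => (List.nodup_cons.1 h).1 (mem_isort.1 hc))

theorem incr_of_pairwise : ∀ {l : List ℕ}, l.Pairwise (· < ·) → incr l = true
  | [], _ => rfl
  | [_], _ => rfl
  | a :: b :: l, h => by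
    rw [incr, Bool.and_eq_true, Nat.blt_eq]
    exact ⟨(List.pairwise_cons.1 h).1 b List.mem_cons_self,
      incr_of_pairwise (List.pairwise_cons.1 h).2⟩

theorem pmask_lt {P : ℕ} (hv : valid P = true) (a : ℕ) : pmask P a < 2 ^ 24 := by
  refine Nat.lt_pow_two_of_testBit _ fun j hj => ?_
  by_contra hc
  rw [Bool.not_eq_false] at hc
  obtain ⟨i, hi, -, e⟩ := testBit_pmask.1 hc
  have := pimg_lt hv hi
  omega

theorem ok_timg {P T : ℕ} (hv : valid P = true) (ht : tableOk P T = true) {l : List ℕ}
    (h : ok l = true) : ok (timg T l) = true := by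
  rw [timg_eq ht (fun m hm => ok_lt h hm)]
  have hnd : (l.map (pmask P)).Nodup := by
    refine List.Nodup.map_on (fun a ha b hb e => mset_inj (ok_lt h ha) (ok_lt h hb) ?_) (ok_nodup h)
    have := congrArg mset e
    rw [← smul_mset hv, ← smul_mset hv] at this
    exact MulAction.injective _ this
  simp only [ok, Bool.and_eq_true, List.all_eq_true, Nat.blt_eq]
  refine ⟨incr_of_pairwise (isort_sorted hnd), fun m hm => ?_⟩
  rw [img, mem_isort, List.mem_map] at hm
  obtain ⟨a, -, rfl⟩ := hm
  exact pmask_lt hv a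

/-! ### distinctness by a perfect hash -/

/-- a key of a code -/
noncomputable def key (l : List ℕ) : ℕ :=
  @List.rec ℕ (fun _ => ℕ) 0 (fun a _ r => r * 16777216 + a) l

/-- a hash of a key, given by two moduli and a table of displacements -/
def hash (H : ℕ × ℕ × ℕ) (k : ℕ) : ℕ :=
  (k % H.1) ^^^ ((H.2.2 >>> (16 * (k % H.2.1))) &&& 65535)

/-- no value of `f` repeats along the list, nor lies in the set `acc` -/
noncomputable def distinct {α : Type} (f : α → ℕ) (l : List α) : ℕ → Bool :=
  @List.rec α (fun _ => ℕ → Bool) (fun _ => true)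
    (fun a _ r acc => Nat.beq ((acc >>> f a) &&& 1) 0 && r (acc ||| (1 <<< f a))) l

theorem nodup_of_distinct {α : Type} (f : α → ℕ) : ∀ (l : List α) (acc : ℕ),
    distinct f l acc = true → l.Nodup ∧ ∀ a ∈ l, acc.testBit (f a) = false
  | [], _, _ => ⟨List.nodup_nil, by simp⟩
  | a :: l, acc, h => by
    change (Nat.beq ((acc >>> f a) &&& 1) 0 && distinct f l (acc ||| (1 <<< f a))) = true at h
    rw [Bool.and_eq_true, Nat.beq_eq, GolayBasic.shiftRight_and_one] at h
    obtain ⟨h1, h2⟩ := h
    obtain ⟨hn, hacc⟩ := nodup_of_distinct f l _ h2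
    have ha : acc.testBit (f a) = false := by simpa using h1
    refine ⟨List.nodup_cons.2 ⟨fun hm => ?_, hn⟩, ?_⟩
    · have := hacc a hm
      simp [Nat.testBit_or, Nat.shiftLeft_eq, Nat.testBit_two_pow] at this
    · intro b hb
      rcases List.mem_cons.1 hb with rfl | hb
      · exact ha
      · have := hacc b hb
        rw [Nat.testBit_or, Bool.or_eq_false_iff] at this
        exact this.1

/-! ### orbits -/

/-- the identity -/
def idP : ℕ := 984818244535754528103549039458486304

/-- one breadth-first layer: each step moves forward in the previous layer and applies a generator,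
given with its image table -/
def layer (gens : List (ℕ × ℕ)) : List (List ℕ) → List ℕ → List (List ℕ)
  | _, [] => []
  | cur, c :: cs =>
    match cur.drop (c >>> 4) with
    | [] => []
    | X :: rest =>
      match gens[c &&& 15]? with
      | none => []
      | some g => timg g.2 X :: layer gens (X :: rest) cs

/-- all elements listed by a certificate -/
def orb (gens : List (ℕ × ℕ)) : List (List ℕ) → List (List ℕ) → List (List ℕ)
  | cur, [] => cur
  | cur, cs :: css => cur ++ orb gens (layer gens cur cs) css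

theorem mem_layer {gens : List (ℕ × ℕ)} {Y : List ℕ} : ∀ {cs : List ℕ} {cur : List (List ℕ)},
    Y ∈ layer gens cur cs → ∃ X ∈ cur, ∃ g ∈ gens, timg g.2 X = Y
  | [], cur, h => by simp [layer] at h
  | c :: cs, cur, h => by
    rw [layer] at h
    split at h
    · simp at h
    · rename_i X rest e
      have hsub : ∀ Z ∈ X :: rest, Z ∈ cur := fun Z hZ => List.mem_of_mem_drop (e ▸ hZ)
      split at h
      · simp at h
      · rename_i g hg
        rcases List.mem_cons.1 h with rfl | h
        · exact ⟨X, hsub X List.mem_cons_self, g, List.mem_of_getElem? hg, rfl⟩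
        · obtain ⟨Z, hZ, hP⟩ := mem_layer h
          exact ⟨Z, hsub Z hZ, hP⟩

/-- the group fixing a family inside the group of the code -/
abbrev stabOf (B : Finset (Finset GolayPt)) : Subgroup ↥M24 := MulAction.stabilizer ↥M24 B

/-- generators of the stabiliser of a coded family, with their tables -/
def gensOk (B : List ℕ) (gens : List (ℕ × ℕ)) : Bool :=
  gens.all fun g => good g.1 && (img g.1 B == B) && tableOk g.1 g.2

theorem orb_mem_orbit {B : List ℕ} {gens : List (ℕ × ℕ)} (hg : gensOk B gens = true)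
    (R : Finset (Finset GolayPt)) :
    ∀ {css : List (List ℕ)} {cur : List (List ℕ)},
    (∀ X ∈ cur, ok X = true ∧ fam X ∈ MulAction.orbit ↥(stabOf (fam B)) R) →
      ∀ Y ∈ orb gens cur css, ok Y = true ∧ fam Y ∈ MulAction.orbit ↥(stabOf (fam B)) R
  | [], cur, h, Y, hY => h Y hY
  | cs :: css, cur, h, Y, hY => by
    rw [orb, List.mem_append] at hY
    rcases hY with hY | hY
    · exact h Y hY
    refine orb_mem_orbit hg R (fun Z hZ => ?_) Y hY
    obtain ⟨X, hX, g, hgm, rfl⟩ := mem_layer hZ
    rw [gensOk, List.all_eq_true] at hg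
    have hgo := hg g hgm
    simp only [Bool.and_eq_true, beq_iff_eq] at hgo
    obtain ⟨⟨hgood, hfix⟩, htab⟩ := hgo
    have hv := valid_of_good hgood
    refine ⟨ok_timg hv htab (h X hX).1, ?_⟩
    have hmem : (⟨permOf g.1, permOf_mem_M24 hgood⟩ : ↥M24) ∈ stabOf (fam B) := by
      rw [MulAction.mem_stabilizer_iff]
      show permOf g.1 • fam B = fam B
      rw [smul_fam hv, hfix]
    rw [timg_eq htab (fun m hm => ok_lt (h X hX).1 hm), ← smul_fam hv]
    exact MulAction.mem_orbit_of_mem_orbit (⟨_, hmem⟩ : ↥(stabOf (fam B))) (h X hX).2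

/-! ### an invariant -/

/-- an invariant of a pair of families -/
def inv (A X : Finset (Finset GolayPt)) : ℕ := ∑ a ∈ A, ∑ b ∈ X, 32 ^ (a ∩ b).card

theorem inv_smul (g : Equiv.Perm GolayPt) (A X : Finset (Finset GolayPt)) :
    inv (g • A) (g • X) = inv A X := by
  unfold inv
  rw [Finset.smul_finset_def, Finset.sum_image (fun _ _ _ _ h => MulAction.injective g h)]
  refine Finset.sum_congr rfl fun a _ => ?_
  rw [Finset.smul_finset_def, Finset.sum_image (fun _ _ _ _ h => MulAction.injective g h)]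
  refine Finset.sum_congr rfl fun b _ => ?_
  rw [← Finset.smul_finset_inter, Finset.card_smul_finset]

/-- the invariant on codes -/
def invL (A X : List ℕ) : ℕ := (A.map fun a => (X.map fun b => 32 ^ wt (a &&& b)).sum).sum

theorem inv_fam {A X : List ℕ} (hA : ok A = true) (hX : ok X = true) :
    inv (fam A) (fam X) = invL A X := by
  rw [inv, sum_fam hA, invL]
  refine congrArg List.sum (List.map_congr_left fun a _ => ?_)
  rw [sum_fam hX]
  refine congrArg List.sum (List.map_congr_left fun b _ => ?_)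
  rw [← mset_and, card_mset]

/-- all elements of the orbits of a certificate -/
def allOrbs (gens : List (ℕ × ℕ)) (parts : List (List ℕ × List (List ℕ))) : List (List ℕ) :=
  (parts.map fun p => orb gens [p.1] p.2).flatten

/-- the full check of a partition into orbits: well-formed base and elements, distinctness,
separated roots, the total number, the sizes -/
noncomputable def check (B : List ℕ) (gens : List (ℕ × ℕ)) (H : ℕ × ℕ × ℕ) (parts : List (List ℕ × List (List ℕ))) (N : ℕ) (sizes : List ℕ) :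
    Bool :=
  ok B && gensOk B gens && (parts.all fun p => ok p.1) &&
    distinct (fun X => hash H (key X)) (allOrbs gens parts) 0 &&
    (allOrbs gens parts).length == N &&
    ((parts.map fun p => (orb gens [p.1] p.2).length) == sizes) &&
    decide (parts.map fun p => invL B p.1).Nodup

/-- What a checked partition gives. -/
theorem orbits_of_check {B : List ℕ} {gens : List (ℕ × ℕ)} {H : ℕ × ℕ × ℕ} {parts : List (List ℕ × List (List ℕ))} {N : ℕ}
    {sizes : List ℕ} (hc : check B gens H parts N sizes = true)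
    {U : Set (Finset (Finset GolayPt))}
    (hinv : ∀ g ∈ M24, g • fam B = fam B → ∀ X ∈ U, g • X ∈ U) (hroot : ∀ p ∈ parts, fam p.1 ∈ U) (hN : U.ncard ≤ N) :
    (∀ X, X ∈ U ↔ ∃ Y ∈ allOrbs gens parts, fam Y = X) ∧
    (∀ p ∈ parts, MulAction.orbit ↥(stabOf (fam B)) (fam p.1) =
        {X | ∃ Y ∈ orb gens [p.1] p.2, fam Y = X}) ∧
    (parts.map fun p => (MulAction.orbit ↥(stabOf (fam B)) (fam p.1)).ncard) = sizes := by
  simp only [check, Bool.and_eq_true, beq_iff_eq, List.all_eq_true, decide_eq_true_eq] at hc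
  obtain ⟨⟨⟨⟨⟨⟨hB, hg⟩, hokr⟩, hnd⟩, hlen⟩, hsz⟩, hinvs⟩ := hc
  have hnd' := (nodup_of_distinct _ _ _ hnd).1
  have hmemall : ∀ p ∈ parts, ∀ Y ∈ orb gens [p.1] p.2, Y ∈ allOrbs gens parts := fun p hp Y hY =>
    List.mem_flatten.2 ⟨_, List.mem_map.2 ⟨p, hp, rfl⟩, hY⟩
  have hrootmem : ∀ p ∈ parts, p.1 ∈ orb gens [p.1] p.2 := by
    rintro ⟨r, _ | ⟨cs, css⟩⟩ - <;> simp [orb]
  have hboth : ∀ p ∈ parts, ∀ Y ∈ orb gens [p.1] p.2,
      ok Y = true ∧ fam Y ∈ MulAction.orbit ↥(stabOf (fam B)) (fam p.1) := by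
    intro p hp
    refine orb_mem_orbit hg _ fun X hX => ?_
    rw [List.mem_singleton] at hX
    subst hX
    exact ⟨hokr p hp, MulAction.mem_orbit_self _⟩
  have hreach : ∀ p ∈ parts, ∀ Y ∈ orb gens [p.1] p.2,
      fam Y ∈ MulAction.orbit ↥(stabOf (fam B)) (fam p.1) := fun p hp Y hY => (hboth p hp Y hY).2
  have hok : ∀ Y ∈ allOrbs gens parts, ok Y = true := by
    intro Y hY
    obtain ⟨l, hl, hYl⟩ := List.mem_flatten.1 hY
    obtain ⟨p, hp, rfl⟩ := List.mem_map.1 hl
    exact (hboth p hp Y hYl).1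
  have hsubU : ∀ Y ∈ allOrbs gens parts, fam Y ∈ U := by
    intro Y hY
    obtain ⟨l, hl, hYl⟩ := List.mem_flatten.1 hY
    obtain ⟨p, hp, rfl⟩ := List.mem_map.1 hl
    obtain ⟨g, hgY⟩ := hreach p hp Y hYl
    rw [← hgY]
    exact hinv _ (g : ↥M24).2 (MulAction.mem_stabilizer_iff.1 g.2) _ (hroot p hp)
  have hinjOn : ∀ a ∈ allOrbs gens parts, ∀ b ∈ allOrbs gens parts, fam a = fam b → a = b :=
    fun a ha b hb h => fam_inj (hok a ha) (hok b hb) h
  have hcard : ((allOrbs gens parts).toFinset.image fam).card = N := by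
    rw [Finset.card_image_of_injOn fun a ha b hb => hinjOn a (List.mem_toFinset.1 ha) b
      (List.mem_toFinset.1 hb), List.toFinset_card_of_nodup hnd', hlen]
  have hUeq : (((allOrbs gens parts).toFinset.image fam : Finset _) : Set _) = U := by
    refine Set.eq_of_subset_of_ncard_le ?_ (by rw [Set.ncard_coe_finset, hcard]; exact hN)
      (Set.toFinite U)
    intro X hX
    rw [Finset.mem_coe, Finset.mem_image] at hX
    obtain ⟨Y, hY, rfl⟩ := hX
    exact hsubU Y (List.mem_toFinset.1 hY)
  have hU : ∀ X, X ∈ U ↔ ∃ Y ∈ allOrbs gens parts, fam Y = X := by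
    intro X; rw [← hUeq]; simp
  have horb : ∀ p ∈ parts, MulAction.orbit ↥(stabOf (fam B)) (fam p.1) =
      {X | ∃ Y ∈ orb gens [p.1] p.2, fam Y = X} := by
    intro p hp
    ext X
    refine ⟨?_, fun ⟨Y, hY, e⟩ => e ▸ hreach p hp Y hY⟩
    rintro ⟨g, rfl⟩
    have hgU : g • fam p.1 ∈ U :=
      hinv _ (g : ↥M24).2 (MulAction.mem_stabilizer_iff.1 g.2) _ (hroot p hp)
    obtain ⟨Y, hY, hYX⟩ := (hU _).1 hgU
    obtain ⟨l, hl, hYl⟩ := List.mem_flatten.1 hY
    obtain ⟨q, hq, rfl⟩ := List.mem_map.1 hl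
    refine ⟨Y, ?_, hYX⟩
    suffices p = q by rwa [this]
    obtain ⟨k, hk⟩ := hreach q hq Y hYl
    have h1 : ∀ (s : ↥(stabOf (fam B))) (Z : Finset (Finset GolayPt)),
        inv (fam B) (s • Z) = inv (fam B) Z := fun s Z => by
      have e := inv_smul ((s : ↥M24) : Equiv.Perm GolayPt) (fam B) Z
      rwa [show ((s : ↥M24) : Equiv.Perm GolayPt) • fam B = fam B from
        MulAction.mem_stabilizer_iff.1 s.2] at e
    have h2 : invL B p.1 = invL B q.1 := by
      rw [← inv_fam hB (hok _ (hmemall p hp _ (hrootmem p hp))),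
        ← inv_fam hB (hok _ (hmemall q hq _ (hrootmem q hq))), ← h1 g, ← h1 k (fam q.1)]
      exact congrArg _ (hYX.symm.trans hk.symm)
    exact (List.inj_on_of_nodup_map hinvs) hp hq h2
  refine ⟨hU, horb, ?_⟩
  rw [← hsz]
  refine List.map_congr_left fun p hp => ?_
  have hndp : (orb gens [p.1] p.2).Nodup := by
    have h := (List.nodup_flatten.1 hnd').1
    exact h _ (List.mem_map.2 ⟨p, hp, rfl⟩)
  rw [horb p hp, show {X | ∃ Y ∈ orb gens [p.1] p.2, fam Y = X} =
      (((orb gens [p.1] p.2).toFinset.image fam : Finset _) : Set _) by ext; simp,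
    Set.ncard_coe_finset,
    Finset.card_image_of_injOn fun a ha b hb => hinjOn a (hmemall p hp a (List.mem_toFinset.1 ha))
      b (hmemall p hp b (List.mem_toFinset.1 hb)), List.toFinset_card_of_nodup hndp]

/-! ### transport -/

theorem orbit_conj {α β : Type*} [MulAction ↥M24 α] [MulAction ↥M24 β] (g : ↥M24) (b : α) (x : β) :
    MulAction.orbit ↥(MulAction.stabilizer ↥M24 (g • b)) (g • x) =
      (g • ·) '' MulAction.orbit ↥(MulAction.stabilizer ↥M24 b) x := by
  ext y
  constructor
  · rintro ⟨⟨s, hs⟩, rfl⟩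
    refine ⟨(g⁻¹ * s * g) • x, ⟨⟨g⁻¹ * s * g, ?_⟩, rfl⟩, ?_⟩
    · rw [MulAction.mem_stabilizer_iff, mul_smul, mul_smul, MulAction.mem_stabilizer_iff.1 hs,
        inv_smul_smul]
    · show g • (g⁻¹ * s * g) • x = s • g • x
      simp [mul_smul]
  · rintro ⟨_, ⟨⟨s, hs⟩, rfl⟩, rfl⟩
    refine ⟨⟨g * s * g⁻¹, ?_⟩, ?_⟩
    · rw [MulAction.mem_stabilizer_iff, mul_smul, mul_smul, inv_smul_smul,
        MulAction.mem_stabilizer_iff.1 hs]
    · show (g * s * g⁻¹) • g • x = g • s • x
      simp [mul_smul]

theorem stabilizer_singleton {G α : Type*} [Group G] [MulAction G α] [DecidableEq α] (a : α) :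
    MulAction.stabilizer G ({a} : Finset α) = MulAction.stabilizer G a := by
  ext g
  simp [MulAction.mem_stabilizer_iff]

theorem card_mul_stab {α : Type*} [MulAction ↥M24 α] (a : α) :
    (MulAction.orbit ↥M24 a).ncard * Nat.card ↥(MulAction.stabilizer ↥M24 a) = 244823040 := by
  rw [← GolayM24.card_M24, Subgroup.card_eq_card_quotient_mul_card_subgroup
    (MulAction.stabilizer ↥M24 a), ← Nat.card_congr (MulAction.orbitEquivQuotientStabilizer ↥M24 a)]
  rfl

end Cfsg.Agent.GolayOrbit
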