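import Cfsg.Agent.Lib.LeechOrbit

/-!
Kernel checks of the certificates, and transitivity on vectors of norm 32, 48 and 64.
-/

set_option autoImplicit false

namespace Cfsg.Agent.LeechOrbit

open Cfsg Cfsg.Agent.GolayBasic Cfsg.Agent.LeechBasic Cfsg.Agent.LeechAut Cfsg.Agent.LeechXi

theorem check32 : oddOK 32 686053159114795289240674611757597332 LeechOrbitData.data32odd = true ∧
    evenOK 32 0 686053159114795289240674611757597332 LeechOrbitData.data32zero = true ∧
    evenOK 32 13062145 686053159114795289240674611757597332 LeechOrbitData.data32octad = true := by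
  decide +kernel

theorem check48 : oddOK 48 895084981032584478931192657527490097 LeechOrbitData.data48odd = true ∧
    evenOK 48 0 895084981032584478931192657527490097 LeechOrbitData.data48zero = true ∧
    evenOK 48 13062145 895084981032584478931192657527490097 LeechOrbitData.data48octad = true ∧
    evenOK 48 340831 895084981032584478931192657527490097 LeechOrbitData.data48dodecad = true := by
  decide +kernel

theorem check64 : oddOK 64 1018360158061024257466626376827683344 LeechOrbitData.data64odd = true ∧
    evenOK 64 0 1018360158061024257466626376827683344 LeechOrbitData.data64zero = true ∧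
    evenOK 64 13062145 1018360158061024257466626376827683344 LeechOrbitData.data64octad = true ∧
    evenOK 64 340831 1018360158061024257466626376827683344 LeechOrbitData.data64dodecad = true ∧
    evenOK 64 3715070 1018360158061024257466626376827683344 LeechOrbitData.data64co = true := by
  decide +kernel

theorem exists_smul_eq {N : ℕ} (hN : N = 32 ∨ N = 48 ∨ N = 64) {v w : leechLattice}
    (hv : sqNorm (v : GolayPt → ℤ) = N) (hw : sqNorm (w : GolayPt → ℤ) = N) : ∃ g : Co0, g • v = w := by
  obtain ⟨tgt, key⟩ : ∃ tgt : ℕ, ∀ x : leechLattice, sqNorm (x : GolayPt → ℤ) = N →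
      Reaches (vec tgt) (x : GolayPt → ℤ) := by
    rcases hN with rfl | rfl | rfl
    · obtain ⟨a, b, c⟩ := check32
      exact ⟨_, fun x hx => reaches_all (edod := []) (eco := []) (by norm_num) a b c (Or.inl (by norm_num))
        (Or.inl (by norm_num)) x.2 hx⟩
    · obtain ⟨a, b, c, d⟩ := check48
      exact ⟨_, fun x hx => reaches_all (eco := []) (by norm_num) a b c (Or.inr d) (Or.inl (by norm_num)) x.2 hx⟩
    · obtain ⟨a, b, c, d, e⟩ := check64
      exact ⟨_, fun x hx => reaches_all (by norm_num) a b c (Or.inr d) (Or.inr e) x.2 hx⟩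
  obtain ⟨g, hg⟩ := key v hv v.2
  obtain ⟨k, hk⟩ := key w hw w.2
  refine ⟨k⁻¹ * g, ?_⟩
  rw [mul_smul, inv_smul_eq_iff]
  exact Subtype.ext ((hg v rfl).trans (hk w rfl).symm)

end Cfsg.Agent.LeechOrbit
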