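import Cfsg.Agent.Lib.LeechCert
import Cfsg.Agent.Lib.LeechTransitive
import Cfsg.Prelude.Def_Spor_Conway

/-!
Standard vectors for stabiliser arguments and transport of counts and orbits along an automorphism.
-/

set_option autoImplicit false

open scoped Pointwise

namespace Cfsg.Agent.LeechCert

open Cfsg Cfsg.Agent.GolayBasic Cfsg.Agent.LeechBasic Cfsg.Agent.LeechAut Cfsg.Agent.LeechXi
open Cfsg.Agent.LeechOrbit

/-- The lattice vector with a given code. -/
def ofCode (n : ℕ) (h : isL (vec n) = true) : leechLattice := ⟨vec n, isL_iff.mp h⟩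

theorem coe_ofCode (n : ℕ) (h : isL (vec n) = true) : ((ofCode n h : leechLattice) : GolayPt → ℤ) = vec n := rfl

/-- The code of the zero vector. -/
def c0 : ℕ := 686053159114795289240674611757597200

/-- The code of `vecU`. -/
def cU : ℕ := 852206658587909773353650494292640276

/-- The code of `vecV`. -/
def cV : ℕ := 477021337197006099550156565987704303

/-- The code of `vecU'`. -/
def cU' : ℕ := 852206658587909773353650494292640268

/-- The code of `-vecU`. -/
def cX : ℕ := 519899659641680805127698729222554124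

/-- The code of `-(vecV + vecU')`. -/
def cW : ℕ := 728931481559469994818216774992447029

theorem vec_c0 : vec c0 = 0 := by funext p; revert p; decide +kernel

theorem vec_cU : vec cU = Spor.vecU := by funext p; revert p; decide +kernel

theorem vec_cV : vec cV = Spor.vecV := by funext p; revert p; decide +kernel

theorem vec_cU' : vec cU' = Spor.vecU' := by funext p; revert p; decide +kernel

theorem vec_cX : vec cX = -Spor.vecU := by funext p; revert p; decide +kernel

theorem vec_cW : vec cW = -(Spor.vecV + Spor.vecU') := by funext p; revert p; decide +kernel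

theorem coe_leechU : ((Spor.leechU : leechLattice) : GolayPt → ℤ) = vec cU := vec_cU.symm

theorem coe_leechV : ((Spor.leechV : leechLattice) : GolayPt → ℤ) = vec cV := vec_cV.symm

theorem coe_leechU' : ((Spor.leechU' : leechLattice) : GolayPt → ℤ) = vec cU' := vec_cU'.symm

theorem coe_negU : ((-Spor.leechU : leechLattice) : GolayPt → ℤ) = vec cX := by
  rw [vec_cX]; rfl

theorem coe_negVU' : ((-(Spor.leechV + Spor.leechU') : leechLattice) : GolayPt → ℤ) = vec cW := by
  rw [vec_cW]; rfl

theorem coe_zero_vec : ((0 : leechLattice) : GolayPt → ℤ) = vec c0 := by rw [vec_c0]; rfl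

theorem dotInt_c0 (x : GolayPt → ℤ) : dotInt (vec c0) x = 0 := by
  rw [vec_c0]; simp [dotInt]

theorem mem_census₁ {a : ℕ} {N : ℕ} {d : ℤ} {x : leechLattice} :
    x ∈ census (a, c0, c0) N (d, 0, 0) ↔
      sqNorm (x : GolayPt → ℤ) = N ∧ dotInt (vec a) x = d := by
  simp only [census, Set.mem_ofPred_eq, dotInt_c0, and_true]

theorem mem_census₂ {a b : ℕ} {N : ℕ} {d e : ℤ} {x : leechLattice} :
    x ∈ census (a, b, c0) N (d, e, 0) ↔
      sqNorm (x : GolayPt → ℤ) = N ∧ dotInt (vec a) x = d ∧ dotInt (vec b) x = e := by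
  simp only [census, Set.mem_ofPred_eq, dotInt_c0, and_true]

theorem mem_census₃ {a b c : ℕ} {N : ℕ} {d e f : ℤ} {x : leechLattice} :
    x ∈ census (a, b, c) N (d, e, f) ↔
      sqNorm (x : GolayPt → ℤ) = N ∧ dotInt (vec a) x = d ∧ dotInt (vec b) x = e ∧ dotInt (vec c) x = f :=
  Iff.rfl

theorem fixes₁ {a : ℕ} {g : Co0} (hg : Fixes (a, c0, c0) g) {v : leechLattice}
    (hv : (v : GolayPt → ℤ) = vec a) : g • v = v := hg v (Or.inl hv)

/-- The product with a fixed image. -/
theorem dotInt_eq_of_smul {h : Co0} {u u₀ : leechLattice} {a : ℕ} (hu : h • u = u₀)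
    (ha : (u₀ : GolayPt → ℤ) = vec a) (x : leechLattice) :
    dotInt (vec a) (h • x : leechLattice) = dotInt (u : GolayPt → ℤ) x := by
  rw [← ha, ← hu]; exact dotInt_smul h u x

/-- Counts are carried along by an automorphism. -/
theorem ncard_of_smul (h : Co0) {P : leechLattice → Prop} {S : Set leechLattice}
    (hPS : ∀ x, P x ↔ h • x ∈ S) : {x : leechLattice | P x}.ncard = S.ncard := by
  rw [← Set.ncard_image_of_injective {x : leechLattice | P x} (MulAction.injective h)]
  congr 1
  ext y
  constructor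
  · rintro ⟨x, hx, rfl⟩; exact (hPS x).mp hx
  · intro hy; exact ⟨h⁻¹ • y, (hPS _).mpr (by rwa [smul_inv_smul]), smul_inv_smul h y⟩

/-- A set of coordinate vectors as a set of lattice vectors. -/
theorem ncard_coe (P : (GolayPt → ℤ) → Prop) :
    {x : GolayPt → ℤ | x ∈ leechLattice ∧ P x}.ncard = {x : leechLattice | P (x : GolayPt → ℤ)}.ncard := by
  rw [← Set.ncard_image_of_injective {x : leechLattice | P (x : GolayPt → ℤ)} Subtype.val_injective]
  congr 1
  ext x
  constructor
  · rintro ⟨h1, h2⟩; exact ⟨⟨x, h1⟩, h2, rfl⟩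
  · rintro ⟨v, hv, rfl⟩; exact ⟨v.2, hv⟩

/-- An orbit inside an invariant set on which the group is transitive is that set. -/
theorem orbit_eq_of_transitive {H : Subgroup Co0} {S : Set leechLattice} {y : leechLattice} (hy : y ∈ S)
    (hclosed : ∀ g ∈ H, ∀ z ∈ S, g • z ∈ S) (htrans : ∀ z ∈ S, ∃ g ∈ H, g • y = z) :
    MulAction.orbit H y = S := by
  ext z
  constructor
  · rintro ⟨⟨g, hg⟩, rfl⟩; exact hclosed g hg y hy
  · intro hz
    obtain ⟨g, hg, rfl⟩ := htrans z hz
    exact ⟨⟨g, hg⟩, rfl⟩

/-- Two disjoint parts and a point exhaust a finite set when the numbers add up. -/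
theorem eq_or_of_card_split {S : Set leechLattice} {x : leechLattice} {n a b : ℕ} (hS : S.ncard = n)
    (hx : x ∈ S) (f : leechLattice → ℤ) (d e : ℤ) (hde : d ≠ e) (hxd : f x ≠ d) (hxe : f x ≠ e)
    (ha : {y | y ∈ S ∧ f y = d}.ncard = a) (hb : {y | y ∈ S ∧ f y = e}.ncard = b)
    (hn : n = 1 + a + b) (hn0 : 0 < n) {y : leechLattice} (hy : y ∈ S) (hyx : y ≠ x) :
    f y = d ∨ f y = e := by
  have hfin : S.Finite := Set.finite_of_ncard_pos (by rw [hS]; exact hn0)
  set A := {y | y ∈ S ∧ f y = d}
  set B := {y | y ∈ S ∧ f y = e}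
  have hA : A.Finite := hfin.subset fun z hz => hz.1
  have hB : B.Finite := hfin.subset fun z hz => hz.1
  have hd : Disjoint A B := Set.disjoint_left.mpr fun z h1 h2 => hde (h1.2.symm.trans h2.2)
  have hx' : x ∉ A ∪ B := by rintro (h | h) <;> [exact hxd h.2; exact hxe h.2]
  have heq : insert x (A ∪ B) = S := by
    refine Set.eq_of_subset_of_ncard_le ?_ ?_ hfin
    · rintro z (rfl | h | h)
      · exact hx
      · exact h.1
      · exact h.1
    · rw [hS, Set.ncard_insert_of_notMem hx' (hA.union hB), Set.ncard_union_eq hd hA hB, ha, hb]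
      omega
  rw [← heq] at hy
  rcases hy with h | h | h
  · exact absurd h hyx
  · exact Or.inl h.2
  · exact Or.inr h.2

end Cfsg.Agent.LeechCert
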