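import Cfsg.Agent.Lib.LeechStab
import Cfsg.Agent.Lib.GolaySimple
import Cfsg.Agent.Lib.LeechCertBase

/-!
Normalisers of elements of order 11 and 23 in the automorphism group of the lattice: they fix a
frame vector up to sign, hence are monomial.
-/

set_option autoImplicit false

open scoped Pointwise

namespace Cfsg.Agent.LeechNormalizers

open Cfsg Cfsg.Agent.GolayBasic Cfsg.Agent.LeechBasic Cfsg.Agent.LeechAut Cfsg.Agent.LeechOrder
open Cfsg.Agent.LeechOrbit Cfsg.Agent.LeechCert
open Cfsg.Agent.GolayPerm (good permOf permOf_mem_M24 permOf_apply valid_of_good pfun pimg)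
open Cfsg.Agent.GolaySimple (z11 z23 zs11 loc11 zs23 loc23 table11 table23)
open Cfsg.Agent.GolayNormalizer (cyc)
open Cfsg.Agent.LeechStab (permHom mono mem_mono prj prj_eq permHom_injective)

/-- A code permutation as an automorphism. -/
noncomputable def permElt (z : ℕ) (h : good z = true) : Co0 := permHom ⟨permOf z, permOf_mem_M24 h⟩

theorem coe_permElt_smul {z : ℕ} (h : good z = true) (v : leechLattice) (p : GolayPt) :
    ((permElt z h • v : leechLattice) : GolayPt → ℤ) (permOf z p) = (v : GolayPt → ℤ) p := by
  simp only [permElt, permHom, MonoidHom.mk'_apply]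
  rw [coe_monomial_smul]
  simp [signedPerm]

theorem tw_good : good 974380510768821363662145534143076928 = true := by decide +kernel

theorem z11_good : good z11 = true := GolaySimple.z11_good.1

theorem z23_good : good z23 = true := GolaySimple.z23_good.1

/-- The element of order 11. -/
noncomputable def g11 : Co0 := permElt z11 z11_good

/-- The element of order 23. -/
noncomputable def g23 : Co0 := permElt z23 z23_good

/-- An element normalising `g11`. -/
noncomputable def h11 : Co0 := permElt 974380510768821363662145534143076928 tw_good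

theorem orderOf_z11 : orderOf (permOf z11) = 11 :=
  GolayNormalizer.orderOf_eq (by norm_num) table11 (by decide +kernel) (by norm_num)

theorem orderOf_z23 : orderOf (permOf z23) = 23 :=
  GolayNormalizer.orderOf_eq (by norm_num) table23 (by decide +kernel) (by norm_num)

theorem orderOf_g11 : orderOf g11 = 11 := by
  rw [g11, permElt, orderOf_injective _ permHom_injective, ← Subgroup.orderOf_coe]; exact orderOf_z11

theorem orderOf_g23 : orderOf g23 = 23 := by
  rw [g23, permElt, orderOf_injective _ permHom_injective, ← Subgroup.orderOf_coe]; exact orderOf_z23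

theorem conj_g11 : h11 * g11 * h11⁻¹ = g11 ^ 3 ∧ g11 ^ 3 ≠ g11 := by
  have e : permOf 974380510768821363662145534143076928 * permOf z11 =
      permOf z11 ^ 3 * permOf 974380510768821363662145534143076928 := by
    have hp : ∀ p : GolayPt, pfun 974380510768821363662145534143076928 (pfun z11 p) =
        pfun z11 (pfun z11 (pfun z11 (pfun 974380510768821363662145534143076928 p))) := by decide +kernel
    refine Equiv.ext fun p => ?_
    simp only [Equiv.Perm.mul_apply, pow_succ, pow_zero, one_mul,
      permOf_apply (valid_of_good tw_good), permOf_apply (valid_of_good z11_good)]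
    exact hp p
  constructor
  · rw [h11, g11, permElt, permElt, ← map_inv, ← map_mul, ← map_mul, ← map_pow, mul_inv_eq_iff_eq_mul.mpr]
    exact Subtype.ext e
  · intro h
    have h2 : g11 ^ 2 = 1 := mul_right_cancel (b := g11) (by rw [one_mul, ← pow_succ]; exact h)
    have := orderOf_dvd_of_pow_eq_one h2
    rw [orderOf_g11] at this
    norm_num at this

theorem conj_g23 : g11 * g23 * g11⁻¹ = g23 ^ 2 ∧ g23 ^ 2 ≠ g23 := by
  have e : permOf z11 * permOf z23 = permOf z23 ^ 2 * permOf z11 := by
    have hp : ∀ p : GolayPt, pfun z11 (pfun z23 p) = pfun z23 (pfun z23 (pfun z11 p)) := by decide +kernel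
    refine Equiv.ext fun p => ?_
    simp only [Equiv.Perm.mul_apply, pow_succ, pow_zero, one_mul,
      permOf_apply (valid_of_good z23_good), permOf_apply (valid_of_good z11_good)]
    exact hp p
  constructor
  · rw [g23, g11, permElt, permElt, ← map_inv, ← map_mul, ← map_mul, ← map_pow, mul_inv_eq_iff_eq_mul.mpr]
    exact Subtype.ext e
  · intro h
    have h2 : g23 = 1 := mul_right_cancel (b := g23) (by rw [one_mul, ← pow_two]; exact h)
    have := orderOf_g23
    rw [h2, orderOf_one] at this
    norm_num at this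

theorem g11_smul_eq {v : leechLattice} (h : ∀ p, (v : GolayPt → ℤ) (pfun z11 p) = (v : GolayPt → ℤ) p) :
    g11 • v = v := by
  apply Subtype.ext
  funext q
  obtain ⟨p, rfl⟩ := (permOf z11).surjective q
  rw [g11, coe_permElt_smul, permOf_apply (valid_of_good z11_good), h]

theorem g23_smul_eq {v : leechLattice} (h : ∀ p, (v : GolayPt → ℤ) (pfun z23 p) = (v : GolayPt → ℤ) p) :
    g23 • v = v := by
  apply Subtype.ext
  funext q
  obtain ⟨p, rfl⟩ := (permOf z23).surjective q
  rw [g23, coe_permElt_smul, permOf_apply (valid_of_good z23_good), h]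

theorem g11_fix : g11 • Spor.leechV = Spor.leechV ∧ g11 • Spor.leechU = Spor.leechU ∧
    g11 • Spor.leechU' = Spor.leechU' :=
  ⟨g11_smul_eq (by decide +kernel), g11_smul_eq (by decide +kernel), g11_smul_eq (by decide +kernel)⟩

theorem h11_fix : h11 • Spor.leechV = Spor.leechV ∧ h11 • Spor.leechU = Spor.leechU ∧
    h11 • Spor.leechU' = Spor.leechU' := by
  have key : ∀ v : leechLattice,
      (∀ p, (v : GolayPt → ℤ) (pfun 974380510768821363662145534143076928 p) = (v : GolayPt → ℤ) p) →
      h11 • v = v := by
    intro v h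
    apply Subtype.ext
    funext q
    obtain ⟨p, rfl⟩ := (permOf 974380510768821363662145534143076928).surjective q
    rw [h11, coe_permElt_smul, permOf_apply (valid_of_good tw_good), h]
  exact ⟨key _ (by decide +kernel), key _ (by decide +kernel), key _ (by decide +kernel)⟩

/-- A vector fixed by an element is fixed pointwise along its cycles. -/
theorem apply_pow {z : ℕ} {h : good z = true} {v : leechLattice} (hv : permElt z h • v = v) :
    ∀ (e : ℕ) (p : GolayPt), (v : GolayPt → ℤ) ((permOf z ^ e) p) = (v : GolayPt → ℤ) p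
  | 0, p => rfl
  | e + 1, p => by
    rw [pow_succ', Equiv.Perm.mul_apply]
    conv_lhs => rw [← hv]
    rw [coe_permElt_smul, apply_pow hv e p]

/-- The images of a vector fixed by `g` under the normaliser of `⟨g⟩` are fixed by `g`. -/
theorem smul_fixed {g h : Co0} (hn : h⁻¹ * g * h ∈ Subgroup.zpowers g) {x : leechLattice} (hx : g • x = x) :
    g • (h • x) = h • x := by
  obtain ⟨k, hk⟩ := Subgroup.mem_zpowers_iff.mp hn
  have hfix : (g ^ k) • x = x := (MulAction.stabilizer Co0 x).zpow_mem hx k
  calc g • (h • x) = h • ((h⁻¹ * g * h) • x) := by rw [← mul_smul, ← mul_smul]; group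
    _ = h • x := by rw [← hk, hfix]

theorem frame_none_apply (p : GolayPt) : ((frame none : leechLattice) : GolayPt → ℤ) p = if p = none then 8 else 0 :=
  rfl

theorem g23_frame : g23 • frame none = frame none := g23_smul_eq (by decide +kernel)

theorem g11_frame : g11 • frame none = frame none := g11_smul_eq (by decide +kernel)

theorem neg_mem_stdL : -frame none ∈ stdL := by
  refine ⟨none, -8, Or.inr rfl, ?_⟩
  rw [AddSubgroup.coe_neg]
  funext p
  rw [Pi.neg_apply, frame_none_apply, Pi.single_apply]
  split_ifs <;> rfl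

theorem mem_mono_of_frame {h : Co0} (hh : h • frame none = frame none ∨ h • frame none = -frame none) :
    h ∈ mono := by
  rw [MulAction.mem_stabilizer_iff, stdL_eq, smul_crossL]
  rcases hh with e | e <;> rw [e]
  exact crossL_eq (stdL_eq ▸ neg_mem_stdL)

theorem fixes_none {σ : Equiv.Perm GolayPt} {hσ : σ ∈ M24} {c : Finset GolayPt}
    {hc : c ∈ supports (golayCode : Set (GolayPt → ZMod 2))}
    (hh : monomial σ hσ c hc • frame none = frame none ∨ monomial σ hσ c hc • frame none = -frame none) :
    σ none = none ∧ (monomial σ hσ c hc • frame none = frame none → none ∉ c) := by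
  have e : ∀ w : GolayPt → ℤ, ((monomial σ hσ c hc • frame none : leechLattice) : GolayPt → ℤ) = w →
      w (σ none) = if σ none ∈ c then -8 else 8 := by
    intro w hw
    rw [← hw, coe_monomial_smul]
    simp [signedPerm, frame_none_apply]
  have hnone : σ none = none := by
    by_contra hne
    rcases hh with h | h
    · have := e _ (congrArg Subtype.val h)
      rw [frame_none_apply, if_neg hne] at this
      split_ifs at this <;> omega
    · have := e _ (congrArg Subtype.val h)
      rw [AddSubgroup.coe_neg, Pi.neg_apply, frame_none_apply, if_neg hne] at this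
      split_ifs at this <;> omega
  refine ⟨hnone, fun h hc' => ?_⟩
  have := e _ (congrArg Subtype.val h)
  rw [hnone, frame_none_apply, if_pos rfl, if_pos hc'] at this
  norm_num at this

/-- The vectors of norm 64 fixed by `g23`. -/
theorem fixed23 {y : leechLattice} (hn : sqNorm (y : GolayPt → ℤ) = 64) (hy : g23 • y = y) :
    y = frame none ∨ y = -frame none := by
  have hcyc : ∀ p : GolayPt, p ≠ none → (y : GolayPt → ℤ) p = (y : GolayPt → ℤ) (some 0) := by
    intro p hp
    have h : ∀ p : GolayPt, p ≠ none → pimg (zs23.getD (idx p) 0) 0 = idx p := by decide +kernel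
    have hlt : idx p < 23 := by
      cases p with
      | none => exact absurd rfl hp
      | some a => exact ZMod.val_lt a
    have e : (permOf z23 ^ idx p) (some 0) = p := idx_inj (by
      rw [GolayNormalizer.idx_pow table23 (some 0) _ hlt]; exact h p hp)
    conv_lhs => rw [← e]
    exact apply_pow (h := z23_good) hy _ _
  set a := (y : GolayPt → ℤ) (some 0) with ha
  set b := (y : GolayPt → ℤ) none with hb
  have hsum : 23 * a ^ 2 + b ^ 2 = 64 := by
    rw [← hn, sqNorm, Fintype.sum_option, Finset.sum_congr rfl (fun i _ => by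
      rw [hcyc (some i) (by simp)] : ∀ i ∈ Finset.univ, (y : GolayPt → ℤ) (some i) ^ 2 = a ^ 2),
      Finset.sum_const, Finset.card_univ, ZMod.card]
    simp; ring
  have h1 : -1 ≤ a := by nlinarith
  have h2 : a ≤ 1 := by nlinarith
  have h3 : -8 ≤ b := by nlinarith
  have h4 : b ≤ 8 := by nlinarith
  have hab : a = 0 ∧ (b = 8 ∨ b = -8) := by
    interval_cases a <;> interval_cases b <;> omega
  rcases hab with ⟨ha0, hb8 | hb8⟩
  · refine Or.inl (Subtype.ext (funext fun p => ?_))
    rw [frame_none_apply]
    split_ifs with hp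
    · rw [hp]; exact hb8
    · rw [hcyc p hp]; exact ha0
  · refine Or.inr (Subtype.ext (funext fun p => ?_))
    rw [AddSubgroup.coe_neg, Pi.neg_apply, frame_none_apply]
    split_ifs with hp
    · rw [hp]; exact hb8
    · rw [hcyc p hp]; exact ha0

/-- A vector constant on the cycles of `z11`. -/
def patt (a b c d : ℤ) : GolayPt → ℤ := fun p =>
  if p = none then b else if p = some 0 then a else
    if (loc11.getD (idx p) (2, 0)).1 = 0 then c else d

theorem patt_sums (a b c d : ℤ) : sqNorm (patt a b c d) = a ^ 2 + b ^ 2 + 11 * c ^ 2 + 11 * d ^ 2 ∧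
    dotInt Spor.vecV (patt a b c d) = -a - 5 * b - 11 * c - 11 * d ∧
    dotInt Spor.vecU (patt a b c d) = 4 * a + 4 * b ∧
    dotInt Spor.vecU' (patt a b c d) = 4 * b - 4 * a := by
  have key : ∀ f : GolayPt → ℤ, ∀ x y : ℤ, ∀ k l : ℤ,
      f none = x → f (some 0) = y →
      (∀ p, p ≠ none → p ≠ some 0 → (loc11.getD (idx p) (2, 0)).1 = 0 → f p = k) →
      (∀ p, p ≠ none → p ≠ some 0 → (loc11.getD (idx p) (2, 0)).1 ≠ 0 → f p = l) →
      ∑ p, f p = x + y + 11 * k + 11 * l := by
    intro f x y k l hx hy hk hl
    have hf : ∀ p, f p = (if p = none then x else 0) + (if p = some 0 then y else 0) +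
        (if p ≠ none ∧ p ≠ some 0 ∧ (loc11.getD (idx p) (2, 0)).1 = 0 then k else 0) +
        (if p ≠ none ∧ p ≠ some 0 ∧ (loc11.getD (idx p) (2, 0)).1 ≠ 0 then l else 0) := by
      intro p
      by_cases h1 : p = none
      · subst h1; simp [hx]
      · by_cases h2 : p = some 0
        · subst h2; simp [hy]
        · by_cases h3 : (loc11.getD (idx p) (2, 0)).1 = 0
          · rw [if_neg h1, if_neg h2, if_pos ⟨h1, h2, h3⟩, if_neg (fun hh => hh.2.2 h3), hk p h1 h2 h3]
            ring
          · rw [if_neg h1, if_neg h2, if_neg (fun hh => h3 hh.2.2), if_pos ⟨h1, h2, h3⟩, hl p h1 h2 h3]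
            ring
    rw [Finset.sum_congr rfl (fun p _ => hf p), Finset.sum_add_distrib, Finset.sum_add_distrib,
      Finset.sum_add_distrib, ← Finset.sum_filter, ← Finset.sum_filter, ← Finset.sum_filter, ← Finset.sum_filter]
    simp only [Finset.sum_const, nsmul_eq_mul]
    rw [show (Finset.univ.filter fun p : GolayPt => p = none).card = 1 by decide +kernel,
      show (Finset.univ.filter fun p : GolayPt => p = some 0).card = 1 by decide +kernel,
      show (Finset.univ.filter fun p : GolayPt =>
        p ≠ none ∧ p ≠ some 0 ∧ (loc11.getD (idx p) (2, 0)).1 = 0).card = 11 by decide +kernel,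
      show (Finset.univ.filter fun p : GolayPt =>
        p ≠ none ∧ p ≠ some 0 ∧ (loc11.getD (idx p) (2, 0)).1 ≠ 0).card = 11 by decide +kernel]
    push_cast; ring
  refine ⟨?_, ?_, ?_, ?_⟩
  · rw [sqNorm, key (fun p => patt a b c d p ^ 2) (b ^ 2) (a ^ 2) (c ^ 2) (d ^ 2)]
    · ring
    all_goals (intros; simp_all [patt])
  · rw [dotInt, key (fun p => Spor.vecV p * patt a b c d p) (-5 * b) (-a) (-c) (-d)]
    · ring
    all_goals (intros; simp_all [patt, Spor.vecV])
  · rw [dotInt, key (fun p => Spor.vecU p * patt a b c d p) (4 * b) (4 * a) 0 0]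
    · ring
    all_goals (intros; simp_all [patt, Spor.vecU])
  · rw [dotInt, key (fun p => Spor.vecU' p * patt a b c d p) (4 * b) (-4 * a) 0 0]
    · ring
    all_goals (intros; simp_all [patt, Spor.vecU'])

/-- The only vector of norm 64 fixed by `g11` with the same products as the frame vector. -/
theorem fixed11 {y : leechLattice} (hn : sqNorm (y : GolayPt → ℤ) = 64) (hy : g11 • y = y)
    (hV : dotInt Spor.vecV (y : GolayPt → ℤ) = -40)
    (hU : dotInt Spor.vecU (y : GolayPt → ℤ) = 32 ∨ dotInt Spor.vecU' (y : GolayPt → ℤ) = 32) :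
    y = frame none := by
  set a := (y : GolayPt → ℤ) (some 0) with ha
  set b := (y : GolayPt → ℤ) none with hb
  set c := (y : GolayPt → ℤ) (pt 1) with hc
  set d := (y : GolayPt → ℤ) (pt 5) with hd
  have hpat : (y : GolayPt → ℤ) = patt a b c d := by
    funext p
    have h : ∀ p : GolayPt, p ≠ none → p ≠ some 0 → (loc11.getD (idx p) (2, 0)).2 < 11 ∧
        pimg (zs11.getD (loc11.getD (idx p) (2, 0)).2 0)
          (if (loc11.getD (idx p) (2, 0)).1 = 0 then 1 else 5) = idx p := by decide +kernel
    unfold patt
    split_ifs with h1 h2 h3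
    · rw [h1]
    · rw [h2]
    · obtain ⟨he, hp⟩ := h p h1 h2
      rw [if_pos h3] at hp
      have e : (permOf z11 ^ (loc11.getD (idx p) (2, 0)).2) (pt 1) = p := idx_inj (by
        rw [GolayNormalizer.idx_pow table11 (pt 1) _ he, idx_pt (by norm_num)]; exact hp)
      conv_lhs => rw [← e]
      exact apply_pow (h := z11_good) hy _ _
    · obtain ⟨he, hp⟩ := h p h1 h2
      rw [if_neg h3] at hp
      have e : (permOf z11 ^ (loc11.getD (idx p) (2, 0)).2) (pt 5) = p := idx_inj (by
        rw [GolayNormalizer.idx_pow table11 (pt 5) _ he, idx_pt (by norm_num)]; exact hp)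
      conv_lhs => rw [← e]
      exact apply_pow (h := z11_good) hy _ _
  obtain ⟨s1, s2, s3, s4⟩ := patt_sums a b c d
  rw [hpat] at hn hV hU
  rw [s1] at hn
  rw [s2] at hV
  rw [s3, s4] at hU
  clear_value a b c d
  clear ha hb hc hd
  have h1 : -2 ≤ c := by nlinarith
  have h2 : c ≤ 2 := by nlinarith
  have h3 : -2 ≤ d := by nlinarith
  have h4 : d ≤ 2 := by nlinarith
  have h5 : -8 ≤ b := by nlinarith
  have h6 : b ≤ 8 := by nlinarith
  have hz : a = 0 ∧ b = 8 ∧ c = 0 ∧ d = 0 := by
    have hc2 : c = 2 ∨ c = 1 ∨ c = 0 ∨ c = -1 ∨ c = -2 := by omega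
    have hd2 : d = 2 ∨ d = 1 ∨ d = 0 ∨ d = -1 ∨ d = -2 := by omega
    rcases hU with hU | hU <;> rcases hc2 with rfl | rfl | rfl | rfl | rfl <;>
      rcases hd2 with rfl | rfl | rfl | rfl | rfl <;>
      first
      | omega
      | (obtain rfl : b = 8 := by omega
         exact ⟨by omega, rfl, rfl, rfl⟩)
      | (exfalso; nlinarith)
  obtain ⟨e1, e2, e3, e4⟩ := hz
  apply Subtype.ext
  rw [hpat, e1, e2, e3, e4]
  funext p
  rw [frame_none_apply]
  unfold patt
  split_ifs <;> rfl

end Cfsg.Agent.LeechNormalizers
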