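import Cfsg.Agent.Lib.CoZeroInvolBasic
import Cfsg.Agent.Lib.CoZeroStandard
import Cfsg.Agent.Lib.GolayInvolutions
import Cfsg.Agent.Lib.LeechNormalizers
import Cfsg.Agent.Lib.GolayOrbit

/-!
The classes of involutions of Co0 and of square roots of negation, found in the monomial group.
-/

set_option autoImplicit false

open scoped Pointwise symmDiff

namespace Cfsg.Agent.CoZeroInvolCases

open Cfsg Cfsg.Agent.GolayBasic Cfsg.Agent.LeechBasic Cfsg.Agent.LeechAut
open Cfsg.Agent.LeechCert Cfsg.Agent.LeechOutTool Cfsg.Agent.LeechStab Cfsg.Agent.LeechOutData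
open Cfsg.Agent.GolayPerm (good pts mem_pts pimg pmask permOf permOf_mem_M24 valid_of_good smul_mset)
open Cfsg.Agent.GolayInvolutionData (pZ1 pZ2)
open Cfsg.Agent.CoZeroInvolBasic Cfsg.Agent.CoZeroInvolData
open Cfsg.Agent.CoZeroStandard (Cl)
open Cfsg.Agent.LeechCent11 (El_inv El_append' El_rel El_wNeg)
open Cfsg.Agent.LeechCoOneSimple (negAut_sq)

/-- The octad sign change. -/
noncomputable def r8 : Co0 := El wR8
/-- The dodecad sign change. -/
noncomputable def r12 : Co0 := El wR12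

theorem neg_central (x : Co0) : Commute negAut x := (Subgroup.mem_center_iff.1 negAut_mem_center x).symm

theorem El_mul {a b c : List Step} (h : eqOK (b ++ a) c = true) : El a * El b = El c := El_append' h

theorem El_comm {a b : List Step} (h : eqOK (a ++ b) (b ++ a) = true) : Commute (El a) (El b) :=
  (El_rel h).symm

theorem El_conj {k ki t r : List Step} (h1 : eqOK (ki ++ (t ++ k)) r = true)
    (h2 : eqOK (k ++ ki) [] = true) : El k * El t * (El k)⁻¹ = El r := by
  obtain ⟨h3, -⟩ := eqOK_valid h1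
  rw [wordValid_append, Bool.and_eq_true] at h3
  have e := El_append' h1
  rw [← El_inv h2, ← e]
  obtain ⟨-, htk⟩ := h3
  rw [wordValid_append, Bool.and_eq_true] at htk
  rw [El_append htk.1 htk.2]

theorem El_r16 : El wR16 = negAut * r8 := by
  rw [← El_wNeg]; exact (El_mul (by decide +kernel)).symm

theorem Cl.trans' {r s t : Co0} (h1 : Cl r s) (h2 : ∃ k, k * t * k⁻¹ = s) : Cl r t := by
  obtain ⟨j, rfl⟩ := h1
  obtain ⟨k, rfl⟩ := h2
  exact ⟨j * k, by group⟩

theorem monomial_conj_perm {σ k : Equiv.Perm GolayPt} (hσ : σ ∈ M24) (hk : k ∈ M24) {c : Finset GolayPt}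
    (hc : c ∈ CodeSupp) :
    monomial k hk ∅ empty_mem_supports * monomial σ hσ c hc * (monomial k hk ∅ empty_mem_supports)⁻¹ =
      monomial (k * σ * k⁻¹) (mul_mem (mul_mem hk hσ) (inv_mem hk)) (k • c)
        (GolayPerm.smul_mem_supports hk hc) := by
  rw [mul_inv_eq_iff_eq_mul, monomial_mul, monomial_mul]
  exact monomial_congr _ _ _ _ (by group) (by
    rw [Finset.smul_finset_empty, ← Finset.bot_eq_empty, symmDiff_bot, bot_symmDiff])

theorem sgn_conj {k : Equiv.Perm GolayPt} (hk : k ∈ M24) {c : Finset GolayPt} (hc : c ∈ CodeSupp) :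
    monomial k hk ∅ empty_mem_supports * sgn c hc * (monomial k hk ∅ empty_mem_supports)⁻¹ =
      sgn (k • c) (GolayPerm.smul_mem_supports hk hc) := by
  rw [sgn, monomial_conj_perm]
  exact monomial_congr _ _ _ _ (by group) rfl

theorem cl_octad {c : Finset GolayPt} (hc : c ∈ CodeSupp) (h : c.card = 8) : Cl r8 (sgn c hc) := by
  obtain ⟨hd, e⟩ := El_sgn (w := wR8) (m := mOct) (by decide +kernel)
  have ho : mset mOct ∈ octads := (mset_mem_octads (by decide)).2 (by decide +kernel)
  obtain ⟨k, hk, hkc⟩ := GolayM24.exists_smul_eq_of_octads (mem_octads.2 ⟨hc, h⟩) ho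
  refine ⟨monomial k hk ∅ empty_mem_supports, ?_⟩
  rw [sgn_conj, r8, e]
  exact monomial_congr _ _ _ _ rfl hkc

theorem cl_dodecad {c : Finset GolayPt} (hc : c ∈ CodeSupp) (h : c.card = 12) : Cl r12 (sgn c hc) := by
  obtain ⟨hd, e⟩ := El_sgn (w := wR12) (m := mDod) (by decide +kernel)
  have ho : mset mDod ∈ dodecads := (mset_mem_dodecads (by decide)).2 (by decide +kernel)
  obtain ⟨k, hk, hkc⟩ := GolayM24.exists_smul_eq_of_dodecads (mem_dodecads.2 ⟨hc, h⟩) ho
  refine ⟨monomial k hk ∅ empty_mem_supports, ?_⟩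
  rw [sgn_conj, r12, e]
  exact monomial_congr _ _ _ _ rfl hkc

theorem cases_sgn {c : Finset GolayPt} (hc : c ∈ CodeSupp) :
    sgn c hc = 1 ∨ sgn c hc = negAut ∨ Cl r8 (sgn c hc) ∨ Cl (negAut * r8) (sgn c hc) ∨
      Cl r12 (sgn c hc) := by
  rcases card_support_cases hc with h | h | h | h | h
  · left
    rw [← monomial_one]; exact monomial_congr _ _ _ _ rfl h
  · exact Or.inr (Or.inr (Or.inl (cl_octad hc h)))
  · exact Or.inr (Or.inr (Or.inr (Or.inr (cl_dodecad hc h))))
  · right; right; right; left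
    have hu := symmDiff_mem_supports univ_mem_supports hc
    have hcard : (Finset.univ ∆ c : Finset GolayPt).card = 8 := by
      rw [← Finset.top_eq_univ, top_symmDiff, hnot_eq_compl, Finset.card_compl, h]
      decide +kernel
    have e : sgn c hc = negAut * sgn (Finset.univ ∆ c) hu := by
      rw [show negAut = sgn Finset.univ univ_mem_supports from rfl, sgn, sgn, sgn, monomial_mul]
      exact monomial_congr _ _ _ _ (one_mul 1).symm (by rw [one_smul, symmDiff_symmDiff_cancel_left])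
    rw [e]
    exact (cl_octad hu hcard).mul_central neg_central
  · right; left
    exact monomial_congr _ _ _ _ rfl (Finset.eq_univ_of_card _ (by rw [h]; decide +kernel))

/-- A certificate that every admissible mask reduces to a listed one. -/
noncomputable def coverOK (P : ℕ) (tgt : ℕ) (F : List ℕ) (R : List ℕ) : Bool :=
  (List.range 4096).all fun x => force (enc x) fun c => !(pmask P c ^^^ c == tgt) ||
    R.any fun r => F.any fun f => c == r ^^^ (f ^^^ pmask P f)

/-- The masks of the representatives with a given permutation. -/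
def repMasks (P : ℕ) : List ℕ := (reps.filter fun q => q.1 == P).map fun q => q.2.1

theorem cover_one : coverOK pZ1 0 fOne (repMasks pZ1) = true ∧ good pZ1 = true ∧
    (fOne.all inCode) = true ∧ coverOK pZ1 16777215 [] [] = true := by decide +kernel

theorem cover_two : coverOK pZ2 0 fTwo (repMasks pZ2) = true ∧ coverOK pZ2 16777215 fTwo [mRoot] = true ∧
    good pZ2 = true ∧ (fTwo.all inCode) = true := by decide +kernel

theorem reps_ok : (reps.all fun q =>
    monoOK' q.2.2.1 q.1 q.2.1 && eqOK (q.2.2.2.2.2 ++ (q.2.2.1 ++ q.2.2.2.2.1)) q.2.2.2.1 &&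
      eqOK (q.2.2.2.2.1 ++ q.2.2.2.2.2) [] &&
      (q.2.2.2.1 == wR8 || q.2.2.2.1 == wR16 || q.2.2.2.1 == wR12)) = true := by decide +kernel

/-- Reduce a monomial element with a given permutation to a listed one. -/
theorem exists_rep {P tgt : ℕ} {F R : List ℕ} (hP : good P = true) (hF : F.all inCode = true)
    (hcov : coverOK P tgt F R = true) {c : Finset GolayPt} (hc : c ∈ CodeSupp) (htgt : tgt < 2 ^ 24)
    (h : c ∆ (permOf P • c) = mset tgt) :
    ∃ r ∈ R, ∃ k : Co0, ∃ hr, k * monomial (permOf P) (permOf_mem_M24 hP) c hc * k⁻¹ =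
      monomial (permOf P) (permOf_mem_M24 hP) (mset r) hr := by
  have hv := valid_of_good hP
  obtain ⟨x, hx, rfl⟩ := mem_supports_iff.1 hc
  rw [smul_mset hv, ← mset_xor] at h
  have hlt : enc x < 2 ^ 24 := enc_lt hx
  have h' := mset_inj (Nat.xor_lt_two_pow hlt (GolayOrbit.pmask_lt hv _)) htgt h
  have hh := List.all_eq_true.1 hcov x (List.mem_range.2 hx)
  simp only [force_eq, Nat.xor_comm (pmask P (enc x)), h', beq_self_eq_true, Bool.not_true,
    Bool.false_or, List.any_eq_true, beq_iff_eq] at hh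
  obtain ⟨r, hr, f, hf, e⟩ := hh
  have hfc := mem_code (List.all_eq_true.1 hF f hf)
  have hms : mset r = mset (enc x) ∆ (mset f ∆ (permOf P • mset f)) := by
    rw [e, mset_xor, mset_xor, smul_mset hv, symmDiff_symmDiff_cancel_right]
  refine ⟨r, hr, monomial 1 (one_mem _) (mset f) hfc,
    hms ▸ symmDiff_mem_supports hc (symmDiff_mem_supports hfc
      (GolayPerm.smul_mem_supports (permOf_mem_M24 hP) hfc)), ?_⟩
  rw [mul_inv_eq_iff_eq_mul, monomial_mul, monomial_mul]
  refine monomial_congr _ _ _ _ (by simp) ?_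
  rw [one_smul, hms]
  rw [symmDiff_assoc, symmDiff_assoc, symmDiff_self, symmDiff_bot, symmDiff_comm]

theorem smul_compl_or {k σ : Equiv.Perm GolayPt} {c d : Finset GolayPt} (h : c ∆ (σ • c) = d) :
    (k • c) ∆ ((k * σ * k⁻¹) • (k • c)) = k • d := by
  rw [← mul_smul, inv_mul_cancel_right, mul_smul, ← GolayPerm.smul_finset_symmDiff, h]

theorem cases_monomial {σ : Equiv.Perm GolayPt} (hσ : σ ∈ M24) {c : Finset GolayPt} (hc : c ∈ CodeSupp)
    (h : monomial σ hσ c hc * monomial σ hσ c hc = 1) :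
    monomial σ hσ c hc = 1 ∨ monomial σ hσ c hc = negAut ∨ Cl r8 (monomial σ hσ c hc) ∨
      Cl (negAut * r8) (monomial σ hσ c hc) ∨ Cl r12 (monomial σ hσ c hc) := by
  rw [monomial_mul, ← monomial_one] at h
  obtain ⟨hss, hcc⟩ := LeechMonomial.monomial_injective _ _ _ _ h
  by_cases h1 : σ = 1
  · have e : monomial σ hσ c hc = sgn c hc := monomial_congr _ _ _ _ h1 rfl
    rw [e]; exact cases_sgn hc
  obtain ⟨k, hk, hkσ⟩ := GolayInvolutions.exists_conj_rep hσ hss h1
  have main : ∀ (P : ℕ) (F : List ℕ) (hP : good P = true), F.all inCode = true →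
      coverOK P 0 F (repMasks P) = true → k * σ * k⁻¹ = permOf P →
      Cl r8 (monomial σ hσ c hc) ∨ Cl (negAut * r8) (monomial σ hσ c hc) ∨
        Cl r12 (monomial σ hσ c hc) := by
    intro P F hP hF hcov hkP
    have hd := GolayPerm.smul_mem_supports hk hc
    obtain ⟨r, hr, j, hr', hj⟩ := exists_rep hP hF hcov hd (by decide) (by
      rw [← hkP, smul_compl_or hcc, Finset.smul_finset_empty, mset_zero])
    obtain ⟨q, hq, rfl⟩ := List.mem_map.1 hr
    obtain ⟨hq', hqP⟩ := List.mem_filter.1 hq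
    have hqP : q.1 = P := beq_iff_eq.1 hqP
    have hok := List.all_eq_true.1 reps_ok q hq'
    simp only [Bool.and_eq_true, Bool.or_eq_true, beq_iff_eq] at hok
    obtain ⟨⟨⟨hm, he1⟩, he2⟩, htag⟩ := hok
    have hconj : ∃ l, l * monomial σ hσ c hc * l⁻¹ = El q.2.2.1 := by
      refine ⟨j * monomial k hk ∅ empty_mem_supports, ?_⟩
      obtain ⟨hm1, hm2⟩ := monoOK'_mem hm
      rw [El_mono hm hm1 hm2, show ∀ a b y : Co0, a * b * y * (a * b)⁻¹ = a * (b * y * b⁻¹) * a⁻¹ from
        fun a b y => by group, monomial_conj_perm,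
        monomial_congr _ (permOf_mem_M24 hP) _ hd hkP rfl, hj]
      exact monomial_congr _ _ _ _ (by rw [hqP]) rfl
    have hcl : Cl (El q.2.2.2.1) (monomial σ hσ c hc) :=
      Cl.trans' ⟨El q.2.2.2.2.1, El_conj he1 he2⟩ hconj
    rcases htag with (e | e) | e <;> rw [e] at hcl
    · exact Or.inl hcl
    · exact Or.inr (Or.inl (El_r16 ▸ hcl))
    · exact Or.inr (Or.inr hcl)
  rcases hkσ with e | e
  · exact Or.inr (Or.inr (main pZ1 fOne cover_one.2.1 cover_one.2.2.1 cover_one.1 e))
  · exact Or.inr (Or.inr (main pZ2 fTwo cover_two.2.2.1 cover_two.2.2.2 cover_two.1 e))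

theorem cases_root {σ : Equiv.Perm GolayPt} (hσ : σ ∈ M24) {c : Finset GolayPt} (hc : c ∈ CodeSupp)
    (h : monomial σ hσ c hc * monomial σ hσ c hc = negAut) :
    ∃ l, l * monomial σ hσ c hc * l⁻¹ = El wRoot := by
  rw [monomial_mul, negAut] at h
  obtain ⟨hss, hcc⟩ := LeechMonomial.monomial_injective _ _ _ _ h
  have h1 : σ ≠ 1 := by
    rintro rfl
    rw [one_smul, symmDiff_self] at hcc
    exact absurd (congrArg Finset.card hcc) (by decide +kernel)
  obtain ⟨k, hk, hkσ⟩ := GolayInvolutions.exists_conj_rep hσ hss h1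
  have hd := GolayPerm.smul_mem_supports hk hc
  have hu : k • (Finset.univ : Finset GolayPt) = mset 16777215 := by rw [mset_all, Finset.smul_finset_univ]
  rcases hkσ with e | e
  · obtain ⟨r, hr, -⟩ := exists_rep (P := pZ1) cover_one.2.1 (F := []) rfl cover_one.2.2.2 hd
      (by decide) (by rw [← e, smul_compl_or hcc, hu])
    simp at hr
  · obtain ⟨r, hr, j, hr', hj⟩ := exists_rep (P := pZ2) cover_two.2.2.1 cover_two.2.2.2 cover_two.2.1 hd
      (by decide) (by rw [← e, smul_compl_or hcc, hu])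
    rw [List.mem_singleton] at hr
    subst hr
    refine ⟨j * monomial k hk ∅ empty_mem_supports, ?_⟩
    have hm : monoOK' wRoot pZ2 mRoot = true := by decide +kernel
    rw [El_mono hm (monoOK'_mem hm).1 (monoOK'_mem hm).2,
      show ∀ a b y : Co0, a * b * y * (a * b)⁻¹ = a * (b * y * b⁻¹) * a⁻¹ from fun a b y => by group,
      monomial_conj_perm, monomial_congr _ (permOf_mem_M24 cover_two.2.2.1) _ hd e rfl, hj]

/-- An element whose fourth power is trivial is conjugate into the monomial group. -/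
theorem exists_conj_mono {t : Co0} (h : t ^ 4 = 1) : ∃ g : Co0, g * t * g⁻¹ ∈ mono := by
  have := LeechOrder.finite_Co0
  have : Fact (Nat.Prime 2) := ⟨Nat.prime_two⟩
  have hP : IsPGroup 2 ↥(Subgroup.zpowers t) := by
    rintro ⟨y, hy⟩
    obtain ⟨m, rfl⟩ := Subgroup.mem_zpowers_iff.1 hy
    refine ⟨2, Subtype.ext ?_⟩
    show (t ^ m) ^ 2 ^ 2 = 1
    rw [← zpow_natCast (t ^ m), ← zpow_mul, mul_comm, zpow_mul, zpow_natCast]
    norm_num [h]
  have hidx : ¬ 2 ∣ Nat.card (Co0 ⧸ mono) := by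
    rw [← Subgroup.index_eq_card, MulAction.index_stabilizer, LeechOrder.orbit_stdL, LeechOrder.ncard_crosses]
    norm_num
  obtain ⟨q, hq⟩ := hP.nonempty_fixed_point_of_prime_not_dvd_card (Co0 ⧸ mono) hidx
  obtain ⟨g, rfl⟩ := QuotientGroup.mk_surjective q
  refine ⟨g⁻¹, ?_⟩
  have := hq ⟨t, Subgroup.mem_zpowers t⟩
  change ((t * g : Co0) : Co0 ⧸ mono) = (g : Co0 ⧸ mono) at this
  rw [QuotientGroup.eq] at this
  rw [← inv_mem_iff] at this
  simpa [mul_assoc] using this

theorem cases_invol (t : Co0) (h : t * t = 1) :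
    t = 1 ∨ t = negAut ∨ Cl r8 t ∨ Cl (negAut * r8) t ∨ Cl r12 t := by
  obtain ⟨g, hg⟩ := exists_conj_mono (t := t) (by
    rw [pow_succ, pow_succ, pow_succ, pow_one, h, one_mul, h])
  obtain ⟨σ, hσ, c, hc, e⟩ := mem_mono.1 hg
  have h2 : monomial σ hσ c hc * monomial σ hσ c hc = 1 := by
    rw [← e, show g * t * g⁻¹ * (g * t * g⁻¹) = g * (t * t) * g⁻¹ by group, h]; group
  have hcl : ∀ {r : Co0}, Cl r (monomial σ hσ c hc) → Cl r t := fun h' => Cl.trans' h' ⟨g, e⟩
  rcases cases_monomial hσ hc h2 with h' | h' | h' | h' | h'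
  · left
    rw [h'] at e
    calc t = g⁻¹ * (g * t * g⁻¹) * g := by group
      _ = 1 := by rw [e]; group
  · right; left
    rw [h'] at e
    calc t = g⁻¹ * (g * t * g⁻¹) * g := by group
      _ = negAut := by rw [e, ← (neg_central g⁻¹).eq]; group
  · exact Or.inr (Or.inr (Or.inl (hcl h')))
  · exact Or.inr (Or.inr (Or.inr (Or.inl (hcl h'))))
  · exact Or.inr (Or.inr (Or.inr (Or.inr (hcl h'))))

/-- `t` commutes with two elements whose commutator is negation. -/
def Wit (t : Co0) : Prop := ∃ p q : Co0, Commute p t ∧ Commute q t ∧ p * q * p⁻¹ * q⁻¹ = negAut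

theorem Wit.of_cl {r t : Co0} (hc : Cl r t) (h : Wit r) : Wit t := by
  obtain ⟨k, hk⟩ := hc
  obtain ⟨p, q, hp, hq, e⟩ := h
  have ht : MulAut.conj k⁻¹ r = t := by rw [MulAut.conj_apply, ← hk]; group
  refine ⟨MulAut.conj k⁻¹ p, MulAut.conj k⁻¹ q, ht ▸ hp.map _, ht ▸ hq.map _, ?_⟩
  rw [← map_inv, ← map_inv, ← map_mul, ← map_mul, ← map_mul, e, MulAut.conj_apply,
    ← (neg_central k⁻¹).eq, mul_inv_cancel_right]

theorem wit_words {p q t : List Step} (h1 : eqOK (p ++ t) (t ++ p) = true)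
    (h2 : eqOK (q ++ t) (t ++ q) = true) (h3 : eqOK (q ++ p) (p ++ (q ++ wNeg)) = true) : Wit (El t) := by
  refine ⟨El p, El q, El_comm h1, El_comm h2, ?_⟩
  obtain ⟨-, hv⟩ := eqOK_valid h3
  rw [wordValid_append, Bool.and_eq_true] at hv
  rw [wordValid_append, Bool.and_eq_true] at hv
  rw [El_append' h3, El_append hv.1 (by rw [wordValid_append, hv.2.1, hv.2.2]; rfl), El_append hv.2.1 hv.2.2,
    El_wNeg]
  group

theorem invol_comm (t : Co0) (h : t * t = 1 ∨ t * t = negAut) : Wit t := by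
  have w8 : Wit r8 := wit_words (p := wPOct) (q := wQOct) (by decide +kernel) (by decide +kernel) (by decide +kernel)
  have w12 : Wit r12 := wit_words (p := wPDod) (q := wQDod) (by decide +kernel) (by decide +kernel) (by decide +kernel)
  rcases h with h | h
  · rcases cases_invol t h with rfl | rfl | h' | h' | h'
    · obtain ⟨p, q, -, -, e⟩ := w8; exact ⟨p, q, Commute.one_right _, Commute.one_right _, e⟩
    · obtain ⟨p, q, -, -, e⟩ := w8; exact ⟨p, q, (neg_central p).symm, (neg_central q).symm, e⟩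
    · exact w8.of_cl h'
    · obtain ⟨p, q, hp, hq, e⟩ := w8
      exact Wit.of_cl h' ⟨p, q, (neg_central p).symm.mul_right hp, (neg_central q).symm.mul_right hq, e⟩
    · exact w12.of_cl h'
  · obtain ⟨g, hg⟩ := exists_conj_mono (t := t) (by
      rw [pow_succ, pow_succ, pow_succ, pow_one, h, mul_assoc, h, negAut_sq])
    obtain ⟨σ, hσ, c, hc, e⟩ := mem_mono.1 hg
    have h2 : monomial σ hσ c hc * monomial σ hσ c hc = negAut := by
      rw [← e, show g * t * g⁻¹ * (g * t * g⁻¹) = g * (t * t) * g⁻¹ by group, h, ← (neg_central g).eq,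
        mul_inv_cancel_right]
    exact Wit.of_cl (Cl.trans' (cases_root hσ hc h2) ⟨g, e⟩)
      (wit_words (p := wPRoot) (q := wQRoot) (by decide +kernel) (by decide +kernel) (by decide +kernel))

end Cfsg.Agent.CoZeroInvolCases
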