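import Mathlib

/-!
Two anticommuting invertible maps cannot centralise an element of order seven on a space of dimension at
most eight over the field of five elements: its moving part is irreducible.
-/

set_option autoImplicit false

namespace Cfsg.Agent.CoZeroSevenSpace

open Polynomial

instance fact5 : Fact (Nat.Prime 5) := ⟨by norm_num⟩
instance fact7 : Fact (Nat.Prime 7) := ⟨by norm_num⟩

variable {V : Type*} [AddCommGroup V] [Module (ZMod 5) V] [Finite V]

/-- An invariant subspace without fixed vectors has dimension zero or six. -/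
theorem finrank_cases (X : Module.End (ZMod 5) V) (hX : X ^ 7 = 1) (U : Submodule (ZMod 5) V)
    (hU : ∀ v ∈ U, X v ∈ U) (hfix : ∀ v ∈ U, X v = v → v = 0)
    (hdim : Module.finrank (ZMod 5) V ≤ 8) :
    Module.finrank (ZMod 5) U = 0 ∨ Module.finrank (ZMod 5) U = 6 := by
  classical
  let T : Module.End (ZMod 5) U := X.restrict hU
  have hval : ∀ (k : ℕ) (u : U), (((T ^ k) u : U) : V) = (X ^ k) (u : V) := by
    intro k
    induction k with
    | zero => intro u; rfl
    | succ k ih => intro u; rw [pow_succ', pow_succ']; show X ((T ^ k) u : U) = X ((X ^ k) (u : V)); rw [ih]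
  have hT : T ^ 7 = 1 := LinearMap.ext fun u => Subtype.ext (by rw [hval, hX]; rfl)
  let t : (Module.End (ZMod 5) U)ˣ := Units.ofPowEqOne T 7 hT (by norm_num)
  have ht : t ^ 7 = 1 := Units.ext (by simp [t])
  have hP : IsPGroup 7 ↥(Subgroup.zpowers t) := by
    rintro ⟨y, hy⟩
    obtain ⟨m, rfl⟩ := Subgroup.mem_zpowers_iff.1 hy
    refine ⟨1, Subtype.ext ?_⟩
    show (t ^ m) ^ 7 ^ 1 = 1
    rw [pow_one, ← zpow_natCast (t ^ m), ← zpow_mul, mul_comm, zpow_mul, zpow_natCast, ht, one_zpow]
  let act : MulAction ↥(Subgroup.zpowers t) U :=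
    { smul := fun g u => ((g : (Module.End (ZMod 5) U)ˣ) : Module.End (ZMod 5) U) u
      one_smul := fun _ => rfl
      mul_smul := fun _ _ _ => rfl }
  have hfp : MulAction.fixedPoints ↥(Subgroup.zpowers t) U = {0} := by
    ext u
    simp only [MulAction.mem_fixedPoints, Set.mem_singleton_iff]
    constructor
    · intro h
      have := h ⟨t, Subgroup.mem_zpowers t⟩
      exact Subtype.ext (hfix u u.2 (congrArg Subtype.val (this : T u = u)))
    · rintro rfl g
      exact map_zero (((g : (Module.End (ZMod 5) U)ˣ) : Module.End (ZMod 5) U))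
  have h := hP.card_modEq_card_fixedPoints U
  rw [hfp, Module.natCard_eq_pow_finrank (K := ZMod 5), Nat.card_zmod, Nat.card_coe_set_eq,
    Set.ncard_singleton] at h
  have hle : Module.finrank (ZMod 5) U ≤ 8 := (Submodule.finrank_le U).trans hdim
  generalize Module.finrank (ZMod 5) U = k at h hle
  interval_cases k <;> simp_all [Nat.ModEq]

omit [Finite V] in
theorem commute_aeval {R X : Module.End (ZMod 5) V} (hR : Commute R X) (e : Polynomial (ZMod 5)) :
    Commute R (Polynomial.aeval X e) := by
  induction e using Polynomial.induction_on' with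
  | add a b ha hb => rw [map_add]; exact ha.add_right hb
  | monomial k a =>
    rw [Polynomial.aeval_monomial]
    exact ((Algebra.commute_algebraMap_right a R)).mul_right (hR.pow_right k)

theorem no_anticommuting (X P Q P' Q' : Module.End (ZMod 5) V)
    (hdim : Module.finrank (ZMod 5) V ≤ 8) (hX : X ^ 7 = 1) (hne : X ≠ 1) (hP : Commute P X)
    (hQ : Commute Q X) (hP' : P' * P = 1) (hQ' : Q' * Q = 1) (h : P * Q = -(Q * P)) : False := by
  set W : Submodule (ZMod 5) V := LinearMap.range (X - 1) with hW
  have hcomm : ∀ R : Module.End (ZMod 5) V, Commute R X → ∀ v ∈ W, R v ∈ W := by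
    rintro R hR v ⟨u, rfl⟩
    refine ⟨R u, ?_⟩
    have : (X - 1) * R = R * (X - 1) := (hR.symm.sub_left (Commute.one_left R)).eq
    exact LinearMap.congr_fun this u
  have hsum : (∑ i ∈ Finset.range 7, X ^ i) * (X - 1) = 0 := by rw [geom_sum_mul, hX, sub_self]
  have hpow : ∀ {v : V}, X v = v → ∀ i : ℕ, (X ^ i) v = v := by
    intro v hv i
    induction i with
    | zero => rfl
    | succ i ih => rw [pow_succ']; show X ((X ^ i) v) = v; rw [ih, hv]
  have hfix : ∀ v ∈ W, X v = v → v = 0 := by
    rintro v ⟨u, rfl⟩ hv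
    have h0 : (∑ i ∈ Finset.range 7, X ^ i) ((X - 1) u) = 0 := LinearMap.congr_fun hsum u
    rw [LinearMap.sum_apply, Finset.sum_congr rfl fun i _ => hpow hv i, Finset.sum_const, Finset.card_range,
      ← Nat.cast_smul_eq_nsmul (ZMod 5)] at h0
    exact (smul_eq_zero.1 h0).resolve_left (by decide)
  obtain ⟨u₀, hu₀⟩ : ∃ u, X u ≠ u := by
    by_contra hc
    push Not at hc
    exact hne (LinearMap.ext hc)
  set v := (X - 1) u₀ with hv
  have hvW : v ∈ W := ⟨u₀, rfl⟩
  have hv0 : v ≠ 0 := by
    rw [hv]; simpa [sub_eq_zero] using hu₀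
  let ev : Polynomial (ZMod 5) →ₗ[ZMod 5] V :=
    { toFun := fun f => (Polynomial.aeval X f) v
      map_add' := fun f g => by rw [map_add]; rfl
      map_smul' := fun a f => by rw [map_smul]; rfl }
  have hevap : ∀ f : Polynomial (ZMod 5), ev f = (Polynomial.aeval X f) v := fun _ => rfl
  have hUW : LinearMap.range ev ≤ W := by
    rintro _ ⟨f, rfl⟩
    rw [hevap]
    exact hcomm _ (commute_aeval (Commute.refl X) f).symm v hvW
  have hUinv : ∀ w ∈ LinearMap.range ev, X w ∈ LinearMap.range ev := by
    rintro _ ⟨f, rfl⟩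
    refine ⟨Polynomial.X * f, ?_⟩
    rw [hevap, hevap, map_mul, Polynomial.aeval_X]
    rfl
  have hWinv : ∀ w ∈ W, X w ∈ W := hcomm X (Commute.refl X)
  have h6 : Module.finrank (ZMod 5) (LinearMap.range ev) = 6 := by
    refine (finrank_cases X hX _ hUinv (fun w hw => hfix w (hUW hw)) hdim).resolve_left fun h0 => hv0 ?_
    have := Submodule.finrank_eq_zero.1 h0
    have hmem : v ∈ LinearMap.range ev := ⟨1, by rw [hevap, map_one]; rfl⟩
    rw [this] at hmem
    exact (Submodule.mem_bot _).1 hmem
  have hW6 : Module.finrank (ZMod 5) W = 6 := by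
    refine (finrank_cases X hX W hWinv hfix hdim).resolve_left fun h0 => ?_
    have := Submodule.finrank_mono hUW
    omega
  have heq : LinearMap.range ev = W := Submodule.eq_of_le_of_finrank_eq hUW (h6.trans hW6.symm)
  obtain ⟨f, hf⟩ : P v ∈ LinearMap.range ev := heq ▸ hcomm P hP v hvW
  obtain ⟨g, hg⟩ : Q v ∈ LinearMap.range ev := heq ▸ hcomm Q hQ v hvW
  rw [hevap] at hf hg
  have hswap : ∀ (R : Module.End (ZMod 5) V) (e : Polynomial (ZMod 5)), Commute R X → ∀ w,
      R ((Polynomial.aeval X e) w) = (Polynomial.aeval X e) (R w) := by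
    intro R e hR w
    have h' := commute_aeval hR e
    exact LinearMap.congr_fun h'.eq w
  have e1 : P (Q v) = Q (P v) := by
    rw [← hg, hswap P g hP, ← hf, hswap Q f hQ, ← hg, ← Module.End.mul_apply, ← map_mul, mul_comm,
      map_mul]
    rfl
  have e2 : P (Q v) = -(Q (P v)) := LinearMap.congr_fun h v
  have e3 : Q (P v) = 0 := by
    have : (2 : ZMod 5) • Q (P v) = 0 := by
      rw [two_smul]; nth_rw 1 [← e1]; rw [e2, neg_add_cancel]
    exact (smul_eq_zero.1 this).resolve_left (by decide)
  have e4 : P v = 0 := by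
    have := congrArg Q' e3
    rwa [← Module.End.mul_apply, hQ', map_zero] at this
  have := congrArg P' e4
  rw [← Module.End.mul_apply, hP', map_zero] at this
  exact hv0 this

end Cfsg.Agent.CoZeroSevenSpace
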