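import Cfsg.Agent.Lib.LeechCert

/-!
Products of generators reaching the monomial groups, with orbit scripts.
-/

set_option autoImplicit false

namespace Cfsg.Agent.LeechOutGenData

open Cfsg.Agent.LeechCert (Step)

/-- orbit scripts -/
def scriptsHS : List ℕ :=
  [0x24,
   0xa4d,
   0x1]

/-- product giving a permutation -/
def liftHS : List ℕ :=
  [4, 2, 2, 3, 3, 2, 3, 2, 0, 2, 0, 5, 3, 5, 3, 2, 1, 2, 2, 3, 3, 2, 3, 2]

/-- orbit scripts -/
def scriptsMcL : List ℕ :=
  [0x24,
   0xa4d,
   0x27edfe277,
   0xfb7a6091d92981d974a6091d93ede981d974,
   0x37a4da6091d92981597427ede927a677a4d92881d]

/-- product giving a permutation -/
def liftMcL : List ℕ :=
  [2, 0, 2, 3, 2, 3, 2, 0, 2, 2, 2, 0, 2, 3, 2, 2, 0, 2, 0, 5, 0, 2, 4, 3, 2, 3, 3, 5, 3, 2, 0, 2, 3, 2, 3, 2, 0, 2]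

/-- orbit scripts -/
def scriptsCo3 : List ℕ :=
  [0x4,
   0x9,
   0x595,
   0x619391647,
   0x20c65e5c424605565e5c91c4,
   0x10424971560e64e4591c725658910401910971560e64e4591c7596244109,
   0x24971551460c65164560c3893997971893995597972471891c779761939164759624925c54951460c65164560c3893997971893995597972471891c7619391647596249797,
   0x10461560465164461945960c10965c55955971524421c30938931e5c624c65c5583993916471c931659624e05455064565c5583993916471d65893d624479724f18914760664645918660c65e5c624e65565e5c91c661939164751471571560465164471561945960c10965c55955971524421c30938931e5c624c65c5583993916471c939659624e05455064565c5583993916471d65893d624679724f18914720c65e5c624e25565e5c91c661939164759671560664e4591c6,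
   0x91c02471d864e4591d65842421006447912583993916471d658424410911e5c910910420c24461e5c910955979724424400430965c5583993916471c111658420e00410064565c5583993916471d65891c424020465e5c424e04465e5c91c401801900e64064720464164400c25979721565e5c920e64164740465c55851971501410925e5d971560e65164700450064465c5583994591de5c911011910971510911e5c42583993916471c911658424971560c65164560c3893997971893995596972471891c779710911864e4591c064459610918441941911065c44910971560c65164560c3893997971893995597972471891c761939164759610918401911e5c91183893916471d658424410911e5c910910410424971560e64e4591c724459618938410064425c5583993916471d65891c624420465e5c624e04465e5c91c601938064760e65164760c24465e5c424665565e5c9184244]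

/-- product giving a permutation -/
def liftCo3 : List ℕ :=
  [0, 2, 3, 4, 3, 3, 2, 3, 2, 3, 5, 3, 4, 3, 5, 0, 5, 1, 2, 0, 2, 0, 4, 0, 2, 0, 2, 1, 1, 0, 5, 3, 3, 5, 3, 5, 4, 4, 0, 0]

/-- moves the first minimal vector to the second -/
def g0 : List Step :=
  [none,
    some (626568815625090846479767447912334465, 0,
      [(65, false), (0, false), (110, false), (100, false), (5, false), (50, false), (25, false), (40, false), (15, false), (60, false), (55, false), (80, false), (75, false), (70, false), (35, false), (115, false), (85, false), (10, false), (90, false), (45, false), (95, false), (20, false), (105, false), (30, false)]),
    none,
    some (276676531263665847622539139616495629, 0,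
      [(5, false), (20, false), (85, false), (40, false), (105, false), (30, false), (115, false), (70, false), (35, false), (95, false), (25, false), (50, false), (45, false), (0, false), (65, false), (60, false), (55, false), (80, false), (90, false), (100, false), (15, false), (110, false), (10, false), (75, false)]),
    none,
    some (984818244535754528103549039458486304, 9503954,
      [(0, false), (5, true), (10, false), (15, false), (20, true), (25, false), (30, true), (35, true), (40, false), (45, false), (50, true), (55, false), (60, false), (65, false), (70, false), (75, false), (80, true), (85, false), (90, false), (95, false), (100, true), (105, false), (110, false), (115, true)])]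

/-- its inverse -/
def g0i : List Step :=
  [some (984818244535754528103549039458486304, 9503954,
      [(0, false), (5, true), (10, false), (15, false), (20, true), (25, false), (30, true), (35, true), (40, false), (45, false), (50, true), (55, false), (60, false), (65, false), (70, false), (75, false), (80, true), (85, false), (90, false), (95, false), (100, true), (105, false), (110, false), (115, true)]),
    none,
    some (626568815625090846479767447912334465, 0,
      [(65, false), (0, false), (110, false), (100, false), (5, false), (50, false), (25, false), (40, false), (15, false), (60, false), (55, false), (80, false), (75, false), (70, false), (35, false), (115, false), (85, false), (10, false), (90, false), (45, false), (95, false), (20, false), (105, false), (30, false)]),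
    none,
    some (276676531263665847622539139616495629, 0,
      [(5, false), (20, false), (85, false), (40, false), (105, false), (30, false), (115, false), (70, false), (35, false), (95, false), (25, false), (50, false), (45, false), (0, false), (65, false), (60, false), (55, false), (80, false), (90, false), (100, false), (15, false), (110, false), (10, false), (75, false)]),
    none]

/-- generators and inverses -/
def gensCo1 : List (List Step) :=
  [[some (956302485175575353788796878166559809, 0,
      [(110, false), (0, false), (5, false), (10, false), (15, false), (20, false), (25, false), (30, false), (35, false), (40, false), (45, false), (50, false), (55, false), (60, false), (65, false), (70, false), (75, false), (80, false), (85, false), (90, false), (95, false), (100, false), (105, false), (115, false)])],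
   [some (983435072843990828779021698901151808, 0,
      [(0, false), (60, false), (5, false), (65, false), (10, false), (70, false), (15, false), (75, false), (20, false), (80, false), (25, false), (85, false), (30, false), (90, false), (35, false), (95, false), (40, false), (100, false), (45, false), (105, false), (50, false), (110, false), (55, false), (115, false)])],
   [some (970477221075006822316643914280741318, 2268296,
      [(35, false), (85, false), (25, false), (100, true), (60, false), (45, false), (0, false), (65, true), (90, false), (40, false), (10, true), (110, true), (15, true), (20, false), (5, false), (55, true), (50, false), (95, true), (75, false), (30, false), (105, false), (80, true), (70, false), (115, false)]),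
    none,
    some (276676531263665847622539139616495629, 0,
      [(5, false), (20, false), (85, false), (40, false), (105, false), (30, false), (115, false), (70, false), (35, false), (95, false), (25, false), (50, false), (45, false), (0, false), (65, false), (60, false), (55, false), (80, false), (90, false), (100, false), (15, false), (110, false), (10, false), (75, false)]),
    none,
    some (644546653258293667307640344482091342, 0,
      [(90, false), (20, false), (65, false), (85, false), (10, false), (80, false), (75, false), (60, false), (50, false), (100, false), (5, false), (55, false), (70, false), (35, false), (0, false), (115, false), (110, false), (105, false), (25, false), (30, false), (40, false), (95, false), (15, false), (45, false)]),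
    none,
    some (234288825908508569179514863627538704, 657763,
      [(15, true), (80, true), (25, false), (30, false), (10, false), (115, true), (60, true), (55, false), (5, true), (95, false), (75, false), (40, true), (85, false), (45, false), (90, false), (105, false), (0, false), (70, true), (35, false), (20, true), (110, false), (100, false), (65, false), (50, false)])],
   [some (983478296959358443554250846857397270, 0,
      [(5, false), (10, false), (15, false), (20, false), (25, false), (30, false), (35, false), (40, false), (45, false), (50, false), (55, false), (60, false), (65, false), (70, false), (75, false), (80, false), (85, false), (90, false), (95, false), (100, false), (105, false), (110, false), (0, false), (115, false)])],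
   [some (970567384681219435340729552166356352, 0,
      [(0, false), (10, false), (20, false), (30, false), (40, false), (50, false), (60, false), (70, false), (80, false), (90, false), (100, false), (110, false), (5, false), (15, false), (25, false), (35, false), (45, false), (55, false), (65, false), (75, false), (85, false), (95, false), (105, false), (115, false)])],
   [some (433098065834694518817788406419101187, 8474906,
      [(80, false), (40, true), (20, false), (0, true), (95, true), (10, false), (15, false), (90, false), (55, true), (65, false), (115, false), (35, false), (30, true), (110, false), (85, true), (50, false), (5, true), (60, false), (70, false), (45, false), (105, false), (75, false), (100, false), (25, true)]),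
    none,
    some (378520713942200747545706269283759250, 0,
      [(70, false), (50, false), (20, false), (110, false), (5, false), (90, false), (95, false), (65, false), (100, false), (115, false), (40, false), (55, false), (35, false), (10, false), (60, false), (30, false), (25, false), (15, false), (0, false), (105, false), (45, false), (85, false), (80, false), (75, false)]),
    none,
    some (626568815625090846479767447912334465, 0,
      [(65, false), (0, false), (110, false), (100, false), (5, false), (50, false), (25, false), (40, false), (15, false), (60, false), (55, false), (80, false), (75, false), (70, false), (35, false), (115, false), (85, false), (10, false), (90, false), (45, false), (95, false), (20, false), (105, false), (30, false)]),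
    none,
    some (974231575746323015886040935720162855, 5842956,
      [(30, false), (70, false), (50, true), (60, true), (65, false), (10, false), (95, false), (0, false), (45, false), (25, false), (80, false), (75, true), (20, false), (35, true), (110, false), (90, false), (105, true), (5, false), (40, false), (85, true), (15, true), (100, false), (55, true), (115, false)])]]

/-- product giving a sign map -/
def signIdxCo1 : List ℕ :=
  [2, 0, 5, 0, 0, 5, 0, 4, 0, 5, 3, 3, 2, 1, 3, 2, 0, 2, 1, 1, 3, 5, 2, 0, 5, 0, 0, 5, 0, 4, 0, 5, 3, 3, 2, 1, 3, 2, 0, 2, 1, 1, 3, 5]

/-- independent sign masks -/
def masksCo1 : List ℕ :=
  [2141072, 2255372, 4282144, 5063048, 5652556, 4510744, 4982904, 2150610, 175681, 1737489, 2916505, 9323032]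

/-- conjugations producing the sign masks -/
def stepsCo1 : List (ℕ × ℕ) :=
  [(0, 0), (1, 0), (2, 0), (0, 1), (1, 1), (2, 1), (0, 2), (1, 2), (1, 3), (1, 4), (0, 8)]

/-- permutations used -/
def permsCo1 : List (List Step) :=
  [[some (15678632630496079850456276719587511, 0,
      [(115, false), (25, false), (105, false), (55, false), (50, false), (5, false), (70, false), (60, false), (95, false), (75, false), (90, false), (20, false), (110, false), (35, false), (45, false), (80, false), (100, false), (65, false), (85, false), (30, false), (10, false), (40, false), (15, false), (0, false)])],
   [some (956302485175575353788796878166559809, 0,
      [(110, false), (0, false), (5, false), (10, false), (15, false), (20, false), (25, false), (30, false), (35, false), (40, false), (45, false), (50, false), (55, false), (60, false), (65, false), (70, false), (75, false), (80, false), (85, false), (90, false), (95, false), (100, false), (105, false), (115, false)])],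
   [some (983435072843990828779021698901151808, 0,
      [(0, false), (60, false), (5, false), (65, false), (10, false), (70, false), (15, false), (75, false), (20, false), (80, false), (25, false), (85, false), (30, false), (90, false), (35, false), (95, false), (40, false), (100, false), (45, false), (105, false), (50, false), (110, false), (55, false), (115, false)])]]

/-- sign maps -/
def signsCo1 : List (List Step) :=
  [[some (984818244535754528103549039458486304, 2141072,
      [(0, false), (5, false), (10, false), (15, false), (20, true), (25, false), (30, false), (35, true), (40, true), (45, true), (50, false), (55, true), (60, false), (65, true), (70, false), (75, true), (80, false), (85, false), (90, false), (95, false), (100, false), (105, true), (110, false), (115, false)])],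
   [some (984818244535754528103549039458486304, 2255372,
      [(0, false), (5, false), (10, true), (15, true), (20, false), (25, false), (30, false), (35, false), (40, false), (45, true), (50, false), (55, true), (60, false), (65, true), (70, true), (75, false), (80, false), (85, true), (90, false), (95, false), (100, false), (105, true), (110, false), (115, false)])],
   [some (984818244535754528103549039458486304, 4282144,
      [(0, false), (5, false), (10, false), (15, false), (20, false), (25, true), (30, false), (35, false), (40, true), (45, true), (50, true), (55, false), (60, true), (65, false), (70, true), (75, false), (80, true), (85, false), (90, false), (95, false), (100, false), (105, false), (110, true), (115, false)])],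
   [some (984818244535754528103549039458486304, 5063048,
      [(0, false), (5, false), (10, false), (15, true), (20, false), (25, false), (30, false), (35, true), (40, true), (45, false), (50, false), (55, false), (60, false), (65, false), (70, true), (75, false), (80, true), (85, false), (90, true), (95, true), (100, false), (105, false), (110, true), (115, false)])],
   [some (984818244535754528103549039458486304, 5652556,
      [(0, false), (5, false), (10, true), (15, true), (20, false), (25, false), (30, true), (35, false), (40, false), (45, false), (50, false), (55, false), (60, false), (65, false), (70, true), (75, false), (80, false), (85, true), (90, true), (95, false), (100, true), (105, false), (110, true), (115, false)])],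
   [some (984818244535754528103549039458486304, 4510744,
      [(0, false), (5, false), (10, false), (15, true), (20, true), (25, false), (30, false), (35, false), (40, false), (45, false), (50, true), (55, false), (60, true), (65, false), (70, true), (75, true), (80, false), (85, false), (90, true), (95, false), (100, false), (105, false), (110, true), (115, false)])],
   [some (984818244535754528103549039458486304, 4982904,
      [(0, false), (5, false), (10, false), (15, true), (20, true), (25, true), (30, true), (35, false), (40, false), (45, false), (50, false), (55, true), (60, false), (65, false), (70, false), (75, false), (80, false), (85, false), (90, true), (95, true), (100, false), (105, false), (110, true), (115, false)])],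
   [some (984818244535754528103549039458486304, 2150610,
      [(0, false), (5, true), (10, false), (15, false), (20, true), (25, false), (30, true), (35, true), (40, false), (45, false), (50, false), (55, false), (60, true), (65, false), (70, true), (75, true), (80, false), (85, false), (90, false), (95, false), (100, false), (105, true), (110, false), (115, false)])],
   [some (984818244535754528103549039458486304, 175681,
      [(0, true), (5, false), (10, false), (15, false), (20, false), (25, false), (30, true), (35, false), (40, false), (45, true), (50, true), (55, true), (60, false), (65, true), (70, false), (75, true), (80, false), (85, true), (90, false), (95, false), (100, false), (105, false), (110, false), (115, false)])],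
   [some (984818244535754528103549039458486304, 1737489,
      [(0, true), (5, false), (10, false), (15, false), (20, true), (25, false), (30, false), (35, false), (40, true), (45, true), (50, false), (55, false), (60, false), (65, false), (70, false), (75, true), (80, false), (85, true), (90, false), (95, true), (100, true), (105, false), (110, false), (115, false)])],
   [some (984818244535754528103549039458486304, 2916505,
      [(0, true), (5, false), (10, false), (15, true), (20, true), (25, false), (30, false), (35, true), (40, false), (45, false), (50, false), (55, false), (60, false), (65, false), (70, false), (75, true), (80, false), (85, false), (90, true), (95, true), (100, false), (105, true), (110, false), (115, false)])],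
   [some (984818244535754528103549039458486304, 9323032,
      [(0, false), (5, false), (10, false), (15, true), (20, true), (25, false), (30, false), (35, false), (40, false), (45, true), (50, false), (55, false), (60, false), (65, false), (70, true), (75, false), (80, false), (85, true), (90, true), (95, true), (100, false), (105, false), (110, false), (115, true)])]]

/-- product giving a monomial map -/
def liftCo1_0 : List ℕ :=
  [0, 2, 3, 5, 0, 5, 3, 3, 5, 0, 2, 1, 3, 5, 3, 2, 3, 2, 5, 0, 0, 1, 1, 5, 0, 5, 3, 2, 4, 3, 5, 4, 3, 3, 2, 5, 0, 5, 0, 2, 0, 4, 5, 3, 2, 0, 0, 2, 3, 2, 0, 5, 4, 2, 0, 0, 2, 3, 1, 1, 5, 3, 3, 2, 3, 5, 0, 1, 0, 5, 4, 2, 0, 0, 2, 3, 1, 1, 5, 3, 3, 2, 3, 5, 0, 1, 0, 5, 2, 3, 5, 0, 5, 3, 3, 5, 0, 2, 1, 3, 5, 3, 2, 3, 2]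

/-- its sign mask -/
def liftMaskCo1_0 : ℕ :=
  16256316

/-- its sign part -/
def liftSignCo1_0 : List Step :=
  [some (984818244535754528103549039458486304, 16256316,
      [(0, false), (5, false), (10, true), (15, true), (20, true), (25, true), (30, false), (35, false), (40, true), (45, false), (50, true), (55, true), (60, false), (65, false), (70, false), (75, false), (80, false), (85, false), (90, false), (95, true), (100, true), (105, true), (110, true), (115, true)])]

/-- generators and inverses -/
def gensCo2 : List (List Step) :=
  [[some (984818244535754528103549039458486304, 9503954,
      [(0, false), (5, true), (10, false), (15, false), (20, true), (25, false), (30, true), (35, true), (40, false), (45, false), (50, true), (55, false), (60, false), (65, false), (70, false), (75, false), (80, true), (85, false), (90, false), (95, false), (100, true), (105, false), (110, false), (115, true)]),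
    none,
    some (626568815625090846479767447912334465, 0,
      [(65, false), (0, false), (110, false), (100, false), (5, false), (50, false), (25, false), (40, false), (15, false), (60, false), (55, false), (80, false), (75, false), (70, false), (35, false), (115, false), (85, false), (10, false), (90, false), (45, false), (95, false), (20, false), (105, false), (30, false)]),
    none,
    some (276676531263665847622539139616495629, 0,
      [(5, false), (20, false), (85, false), (40, false), (105, false), (30, false), (115, false), (70, false), (35, false), (95, false), (25, false), (50, false), (45, false), (0, false), (65, false), (60, false), (55, false), (80, false), (90, false), (100, false), (15, false), (110, false), (10, false), (75, false)]),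
    none,
    some (956302485175575353788796878166559809, 0,
      [(110, false), (0, false), (5, false), (10, false), (15, false), (20, false), (25, false), (30, false), (35, false), (40, false), (45, false), (50, false), (55, false), (60, false), (65, false), (70, false), (75, false), (80, false), (85, false), (90, false), (95, false), (100, false), (105, false), (115, false)]),
    none,
    some (626568815625090846479767447912334465, 0,
      [(65, false), (0, false), (110, false), (100, false), (5, false), (50, false), (25, false), (40, false), (15, false), (60, false), (55, false), (80, false), (75, false), (70, false), (35, false), (115, false), (85, false), (10, false), (90, false), (45, false), (95, false), (20, false), (105, false), (30, false)]),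
    none,
    some (276676531263665847622539139616495629, 0,
      [(5, false), (20, false), (85, false), (40, false), (105, false), (30, false), (115, false), (70, false), (35, false), (95, false), (25, false), (50, false), (45, false), (0, false), (65, false), (60, false), (55, false), (80, false), (90, false), (100, false), (15, false), (110, false), (10, false), (75, false)]),
    none,
    some (984818244535754528103549039458486304, 9503954,
      [(0, false), (5, true), (10, false), (15, false), (20, true), (25, false), (30, true), (35, true), (40, false), (45, false), (50, true), (55, false), (60, false), (65, false), (70, false), (75, false), (80, true), (85, false), (90, false), (95, false), (100, true), (105, false), (110, false), (115, true)])],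
   [some (984818244535754528103549039458486304, 9503954,
      [(0, false), (5, true), (10, false), (15, false), (20, true), (25, false), (30, true), (35, true), (40, false), (45, false), (50, true), (55, false), (60, false), (65, false), (70, false), (75, false), (80, true), (85, false), (90, false), (95, false), (100, true), (105, false), (110, false), (115, true)]),
    none,
    some (626568815625090846479767447912334465, 0,
      [(65, false), (0, false), (110, false), (100, false), (5, false), (50, false), (25, false), (40, false), (15, false), (60, false), (55, false), (80, false), (75, false), (70, false), (35, false), (115, false), (85, false), (10, false), (90, false), (45, false), (95, false), (20, false), (105, false), (30, false)]),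
    none,
    some (276676531263665847622539139616495629, 0,
      [(5, false), (20, false), (85, false), (40, false), (105, false), (30, false), (115, false), (70, false), (35, false), (95, false), (25, false), (50, false), (45, false), (0, false), (65, false), (60, false), (55, false), (80, false), (90, false), (100, false), (15, false), (110, false), (10, false), (75, false)]),
    none,
    some (983435072843990828779021698901151808, 0,
      [(0, false), (60, false), (5, false), (65, false), (10, false), (70, false), (15, false), (75, false), (20, false), (80, false), (25, false), (85, false), (30, false), (90, false), (35, false), (95, false), (40, false), (100, false), (45, false), (105, false), (50, false), (110, false), (55, false), (115, false)]),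
    none,
    some (626568815625090846479767447912334465, 0,
      [(65, false), (0, false), (110, false), (100, false), (5, false), (50, false), (25, false), (40, false), (15, false), (60, false), (55, false), (80, false), (75, false), (70, false), (35, false), (115, false), (85, false), (10, false), (90, false), (45, false), (95, false), (20, false), (105, false), (30, false)]),
    none,
    some (276676531263665847622539139616495629, 0,
      [(5, false), (20, false), (85, false), (40, false), (105, false), (30, false), (115, false), (70, false), (35, false), (95, false), (25, false), (50, false), (45, false), (0, false), (65, false), (60, false), (55, false), (80, false), (90, false), (100, false), (15, false), (110, false), (10, false), (75, false)]),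
    none,
    some (984818244535754528103549039458486304, 9503954,
      [(0, false), (5, true), (10, false), (15, false), (20, true), (25, false), (30, true), (35, true), (40, false), (45, false), (50, true), (55, false), (60, false), (65, false), (70, false), (75, false), (80, true), (85, false), (90, false), (95, false), (100, true), (105, false), (110, false), (115, true)])],
   [some (984818244535754528103549039458486304, 9503954,
      [(0, false), (5, true), (10, false), (15, false), (20, true), (25, false), (30, true), (35, true), (40, false), (45, false), (50, true), (55, false), (60, false), (65, false), (70, false), (75, false), (80, true), (85, false), (90, false), (95, false), (100, true), (105, false), (110, false), (115, true)]),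
    none,
    some (626568815625090846479767447912334465, 0,
      [(65, false), (0, false), (110, false), (100, false), (5, false), (50, false), (25, false), (40, false), (15, false), (60, false), (55, false), (80, false), (75, false), (70, false), (35, false), (115, false), (85, false), (10, false), (90, false), (45, false), (95, false), (20, false), (105, false), (30, false)]),
    none,
    some (276676531263665847622539139616495629, 0,
      [(5, false), (20, false), (85, false), (40, false), (105, false), (30, false), (115, false), (70, false), (35, false), (95, false), (25, false), (50, false), (45, false), (0, false), (65, false), (60, false), (55, false), (80, false), (90, false), (100, false), (15, false), (110, false), (10, false), (75, false)]),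
    none,
    some (967236921068462251737938400175634529, 2584685,
      [(25, true), (0, false), (70, true), (5, true), (105, false), (15, true), (20, true), (100, false), (35, false), (110, false), (75, false), (55, false), (95, true), (40, true), (10, true), (50, false), (30, true), (85, true), (90, true), (45, false), (65, false), (80, true), (60, false), (115, false)]),
    none,
    some (91516241474273382408632685393368628, 138790,
      [(65, false), (100, true), (115, true), (40, false), (85, false), (20, true), (110, false), (75, false), (15, false), (80, true), (50, true), (30, true), (35, true), (25, false), (45, false), (55, false), (105, false), (5, true), (95, false), (60, false), (0, false), (10, false), (70, false), (90, false)]),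
    none,
    some (276676531263665847622539139616495629, 0,
      [(5, false), (20, false), (85, false), (40, false), (105, false), (30, false), (115, false), (70, false), (35, false), (95, false), (25, false), (50, false), (45, false), (0, false), (65, false), (60, false), (55, false), (80, false), (90, false), (100, false), (15, false), (110, false), (10, false), (75, false)]),
    none,
    some (666293833341281624017124613088226434, 0,
      [(90, false), (110, false), (0, false), (60, false), (5, false), (95, false), (20, false), (50, false), (85, false), (105, false), (45, false), (10, false), (65, false), (100, false), (40, false), (70, false), (115, false), (75, false), (55, false), (80, false), (15, false), (35, false), (30, false), (25, false)]),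
    none,
    some (626568815625090846479767447912334465, 0,
      [(65, false), (0, false), (110, false), (100, false), (5, false), (50, false), (25, false), (40, false), (15, false), (60, false), (55, false), (80, false), (75, false), (70, false), (35, false), (115, false), (85, false), (10, false), (90, false), (45, false), (95, false), (20, false), (105, false), (30, false)]),
    none,
    some (276676531263665847622539139616495629, 0,
      [(5, false), (20, false), (85, false), (40, false), (105, false), (30, false), (115, false), (70, false), (35, false), (95, false), (25, false), (50, false), (45, false), (0, false), (65, false), (60, false), (55, false), (80, false), (90, false), (100, false), (15, false), (110, false), (10, false), (75, false)]),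
    none,
    some (984818244535754528103549039458486304, 9503954,
      [(0, false), (5, true), (10, false), (15, false), (20, true), (25, false), (30, true), (35, true), (40, false), (45, false), (50, true), (55, false), (60, false), (65, false), (70, false), (75, false), (80, true), (85, false), (90, false), (95, false), (100, true), (105, false), (110, false), (115, true)])],
   [some (984818244535754528103549039458486304, 9503954,
      [(0, false), (5, true), (10, false), (15, false), (20, true), (25, false), (30, true), (35, true), (40, false), (45, false), (50, true), (55, false), (60, false), (65, false), (70, false), (75, false), (80, true), (85, false), (90, false), (95, false), (100, true), (105, false), (110, false), (115, true)]),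
    none,
    some (626568815625090846479767447912334465, 0,
      [(65, false), (0, false), (110, false), (100, false), (5, false), (50, false), (25, false), (40, false), (15, false), (60, false), (55, false), (80, false), (75, false), (70, false), (35, false), (115, false), (85, false), (10, false), (90, false), (45, false), (95, false), (20, false), (105, false), (30, false)]),
    none,
    some (276676531263665847622539139616495629, 0,
      [(5, false), (20, false), (85, false), (40, false), (105, false), (30, false), (115, false), (70, false), (35, false), (95, false), (25, false), (50, false), (45, false), (0, false), (65, false), (60, false), (55, false), (80, false), (90, false), (100, false), (15, false), (110, false), (10, false), (75, false)]),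
    none,
    some (983478296959358443554250846857397270, 0,
      [(5, false), (10, false), (15, false), (20, false), (25, false), (30, false), (35, false), (40, false), (45, false), (50, false), (55, false), (60, false), (65, false), (70, false), (75, false), (80, false), (85, false), (90, false), (95, false), (100, false), (105, false), (110, false), (0, false), (115, false)]),
    none,
    some (626568815625090846479767447912334465, 0,
      [(65, false), (0, false), (110, false), (100, false), (5, false), (50, false), (25, false), (40, false), (15, false), (60, false), (55, false), (80, false), (75, false), (70, false), (35, false), (115, false), (85, false), (10, false), (90, false), (45, false), (95, false), (20, false), (105, false), (30, false)]),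
    none,
    some (276676531263665847622539139616495629, 0,
      [(5, false), (20, false), (85, false), (40, false), (105, false), (30, false), (115, false), (70, false), (35, false), (95, false), (25, false), (50, false), (45, false), (0, false), (65, false), (60, false), (55, false), (80, false), (90, false), (100, false), (15, false), (110, false), (10, false), (75, false)]),
    none,
    some (984818244535754528103549039458486304, 9503954,
      [(0, false), (5, true), (10, false), (15, false), (20, true), (25, false), (30, true), (35, true), (40, false), (45, false), (50, true), (55, false), (60, false), (65, false), (70, false), (75, false), (80, true), (85, false), (90, false), (95, false), (100, true), (105, false), (110, false), (115, true)])],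
   [some (984818244535754528103549039458486304, 9503954,
      [(0, false), (5, true), (10, false), (15, false), (20, true), (25, false), (30, true), (35, true), (40, false), (45, false), (50, true), (55, false), (60, false), (65, false), (70, false), (75, false), (80, true), (85, false), (90, false), (95, false), (100, true), (105, false), (110, false), (115, true)]),
    none,
    some (626568815625090846479767447912334465, 0,
      [(65, false), (0, false), (110, false), (100, false), (5, false), (50, false), (25, false), (40, false), (15, false), (60, false), (55, false), (80, false), (75, false), (70, false), (35, false), (115, false), (85, false), (10, false), (90, false), (45, false), (95, false), (20, false), (105, false), (30, false)]),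
    none,
    some (276676531263665847622539139616495629, 0,
      [(5, false), (20, false), (85, false), (40, false), (105, false), (30, false), (115, false), (70, false), (35, false), (95, false), (25, false), (50, false), (45, false), (0, false), (65, false), (60, false), (55, false), (80, false), (90, false), (100, false), (15, false), (110, false), (10, false), (75, false)]),
    none,
    some (970567384681219435340729552166356352, 0,
      [(0, false), (10, false), (20, false), (30, false), (40, false), (50, false), (60, false), (70, false), (80, false), (90, false), (100, false), (110, false), (5, false), (15, false), (25, false), (35, false), (45, false), (55, false), (65, false), (75, false), (85, false), (95, false), (105, false), (115, false)]),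
    none,
    some (626568815625090846479767447912334465, 0,
      [(65, false), (0, false), (110, false), (100, false), (5, false), (50, false), (25, false), (40, false), (15, false), (60, false), (55, false), (80, false), (75, false), (70, false), (35, false), (115, false), (85, false), (10, false), (90, false), (45, false), (95, false), (20, false), (105, false), (30, false)]),
    none,
    some (276676531263665847622539139616495629, 0,
      [(5, false), (20, false), (85, false), (40, false), (105, false), (30, false), (115, false), (70, false), (35, false), (95, false), (25, false), (50, false), (45, false), (0, false), (65, false), (60, false), (55, false), (80, false), (90, false), (100, false), (15, false), (110, false), (10, false), (75, false)]),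
    none,
    some (984818244535754528103549039458486304, 9503954,
      [(0, false), (5, true), (10, false), (15, false), (20, true), (25, false), (30, true), (35, true), (40, false), (45, false), (50, true), (55, false), (60, false), (65, false), (70, false), (75, false), (80, true), (85, false), (90, false), (95, false), (100, true), (105, false), (110, false), (115, true)])],
   [some (984818244535754528103549039458486304, 9503954,
      [(0, false), (5, true), (10, false), (15, false), (20, true), (25, false), (30, true), (35, true), (40, false), (45, false), (50, true), (55, false), (60, false), (65, false), (70, false), (75, false), (80, true), (85, false), (90, false), (95, false), (100, true), (105, false), (110, false), (115, true)]),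
    none,
    some (626568815625090846479767447912334465, 0,
      [(65, false), (0, false), (110, false), (100, false), (5, false), (50, false), (25, false), (40, false), (15, false), (60, false), (55, false), (80, false), (75, false), (70, false), (35, false), (115, false), (85, false), (10, false), (90, false), (45, false), (95, false), (20, false), (105, false), (30, false)]),
    none,
    some (276676531263665847622539139616495629, 0,
      [(5, false), (20, false), (85, false), (40, false), (105, false), (30, false), (115, false), (70, false), (35, false), (95, false), (25, false), (50, false), (45, false), (0, false), (65, false), (60, false), (55, false), (80, false), (90, false), (100, false), (15, false), (110, false), (10, false), (75, false)]),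
    none,
    some (215768724366716490897935849477243602, 0,
      [(10, false), (20, false), (55, false), (100, false), (30, false), (115, false), (110, false), (105, false), (70, false), (50, false), (35, false), (90, false), (15, false), (60, false), (75, false), (85, false), (95, false), (40, false), (0, false), (25, false), (65, false), (45, false), (5, false), (80, false)]),
    none,
    some (626568815625090846479767447912334465, 0,
      [(65, false), (0, false), (110, false), (100, false), (5, false), (50, false), (25, false), (40, false), (15, false), (60, false), (55, false), (80, false), (75, false), (70, false), (35, false), (115, false), (85, false), (10, false), (90, false), (45, false), (95, false), (20, false), (105, false), (30, false)]),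
    none,
    some (765945415226636968678738951836819085, 9503954,
      [(100, false), (85, true), (105, false), (40, false), (25, true), (65, false), (55, true), (60, true), (15, false), (70, false), (50, true), (75, false), (95, false), (0, false), (110, false), (35, false), (45, true), (20, false), (115, false), (90, false), (5, true), (80, false), (30, false), (10, true)]),
    none,
    some (971625408586074277054671231481067525, 999806,
      [(5, false), (15, true), (70, true), (25, true), (30, true), (0, true), (80, true), (40, false), (65, true), (95, false), (75, false), (55, false), (110, false), (100, false), (10, true), (50, false), (105, true), (85, true), (90, true), (60, true), (35, false), (20, false), (45, false), (115, false)]),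
    none,
    some (626568815625090846479767447912334465, 0,
      [(65, false), (0, false), (110, false), (100, false), (5, false), (50, false), (25, false), (40, false), (15, false), (60, false), (55, false), (80, false), (75, false), (70, false), (35, false), (115, false), (85, false), (10, false), (90, false), (45, false), (95, false), (20, false), (105, false), (30, false)]),
    none,
    some (276676531263665847622539139616495629, 0,
      [(5, false), (20, false), (85, false), (40, false), (105, false), (30, false), (115, false), (70, false), (35, false), (95, false), (25, false), (50, false), (45, false), (0, false), (65, false), (60, false), (55, false), (80, false), (90, false), (100, false), (15, false), (110, false), (10, false), (75, false)]),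
    none,
    some (984818244535754528103549039458486304, 9503954,
      [(0, false), (5, true), (10, false), (15, false), (20, true), (25, false), (30, true), (35, true), (40, false), (45, false), (50, true), (55, false), (60, false), (65, false), (70, false), (75, false), (80, true), (85, false), (90, false), (95, false), (100, true), (105, false), (110, false), (115, true)])]]

/-- product giving a sign map -/
def signIdxCo2 : List ℕ :=
  [2, 3, 2, 0, 4, 4, 5, 0, 5, 0, 5, 3, 3, 1, 3, 2, 0, 2, 0, 1, 5, 0, 5, 4, 4, 4, 4, 3, 2, 3, 2, 0, 2, 1, 0, 1, 3, 5, 0, 5, 3, 3, 1, 3, 2, 0, 2, 0, 2, 0, 0, 5, 4, 4, 4, 3]

/-- independent sign masks -/
def masksCo2 : List ℕ :=
  [277580, 5255258, 208020, 2232654, 4921504, 5262104, 4465308, 596054, 231532, 2365978]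

/-- conjugations producing the sign masks -/
def stepsCo2 : List (ℕ × ℕ) :=
  [(0, 0), (1, 0), (0, 1), (1, 1), (0, 2), (1, 2), (0, 3), (1, 3), (1, 4)]

/-- permutations used -/
def permsCo2 : List (List Step) :=
  [[some (983435072843990828779021698901151808, 0,
      [(0, false), (60, false), (5, false), (65, false), (10, false), (70, false), (15, false), (75, false), (20, false), (80, false), (25, false), (85, false), (30, false), (90, false), (35, false), (95, false), (40, false), (100, false), (45, false), (105, false), (50, false), (110, false), (55, false), (115, false)])],
   [some (971592914598343034710976577235617952, 0,
      [(0, false), (25, false), (10, false), (85, false), (55, false), (5, false), (40, false), (65, false), (45, false), (80, false), (90, false), (60, false), (110, false), (50, false), (70, false), (105, false), (30, false), (15, false), (35, false), (100, false), (75, false), (95, false), (20, false), (115, false)])]]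

/-- sign maps -/
def signsCo2 : List (List Step) :=
  [[some (984818244535754528103549039458486304, 277580,
      [(0, false), (5, false), (10, true), (15, true), (20, false), (25, false), (30, true), (35, false), (40, false), (45, false), (50, true), (55, true), (60, true), (65, true), (70, false), (75, false), (80, false), (85, false), (90, true), (95, false), (100, false), (105, false), (110, false), (115, false)])],
   [some (984818244535754528103549039458486304, 5255258,
      [(0, false), (5, true), (10, false), (15, true), (20, true), (25, false), (30, true), (35, false), (40, false), (45, false), (50, false), (55, false), (60, true), (65, true), (70, false), (75, false), (80, false), (85, false), (90, false), (95, false), (100, true), (105, false), (110, true), (115, false)])],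
   [some (984818244535754528103549039458486304, 208020,
      [(0, false), (5, false), (10, true), (15, false), (20, true), (25, false), (30, false), (35, true), (40, false), (45, false), (50, true), (55, true), (60, false), (65, true), (70, false), (75, false), (80, true), (85, true), (90, false), (95, false), (100, false), (105, false), (110, false), (115, false)])],
   [some (984818244535754528103549039458486304, 2232654,
      [(0, false), (5, true), (10, true), (15, true), (20, false), (25, false), (30, true), (35, false), (40, true), (45, false), (50, false), (55, false), (60, true), (65, false), (70, false), (75, false), (80, false), (85, true), (90, false), (95, false), (100, false), (105, true), (110, false), (115, false)])],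
   [some (984818244535754528103549039458486304, 4921504,
      [(0, false), (5, false), (10, false), (15, false), (20, false), (25, true), (30, false), (35, true), (40, false), (45, false), (50, false), (55, true), (60, true), (65, false), (70, false), (75, false), (80, true), (85, true), (90, false), (95, true), (100, false), (105, false), (110, true), (115, false)])],
   [some (984818244535754528103549039458486304, 5262104,
      [(0, false), (5, false), (10, false), (15, true), (20, true), (25, false), (30, false), (35, false), (40, true), (45, true), (50, false), (55, true), (60, false), (65, false), (70, true), (75, false), (80, false), (85, false), (90, false), (95, false), (100, true), (105, false), (110, true), (115, false)])],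
   [some (984818244535754528103549039458486304, 4465308,
      [(0, false), (5, false), (10, true), (15, true), (20, true), (25, false), (30, false), (35, true), (40, false), (45, true), (50, false), (55, false), (60, false), (65, true), (70, false), (75, false), (80, false), (85, false), (90, true), (95, false), (100, false), (105, false), (110, true), (115, false)])],
   [some (984818244535754528103549039458486304, 596054,
      [(0, false), (5, true), (10, true), (15, false), (20, true), (25, false), (30, true), (35, false), (40, false), (45, false), (50, false), (55, true), (60, true), (65, false), (70, false), (75, false), (80, true), (85, false), (90, false), (95, true), (100, false), (105, false), (110, false), (115, false)])],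
   [some (984818244535754528103549039458486304, 231532,
      [(0, false), (5, false), (10, true), (15, true), (20, false), (25, true), (30, true), (35, false), (40, false), (45, false), (50, false), (55, true), (60, false), (65, false), (70, false), (75, true), (80, true), (85, true), (90, false), (95, false), (100, false), (105, false), (110, false), (115, false)])],
   [some (984818244535754528103549039458486304, 2365978,
      [(0, false), (5, true), (10, false), (15, true), (20, true), (25, false), (30, false), (35, false), (40, false), (45, true), (50, false), (55, true), (60, true), (65, false), (70, false), (75, false), (80, false), (85, false), (90, true), (95, false), (100, false), (105, true), (110, false), (115, false)])]]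

/-- product giving a monomial map -/
def liftCo2_0 : List ℕ :=
  [1, 1, 2, 0, 2, 3, 3, 5, 4, 0, 0, 2, 3, 2, 3, 2, 1, 1, 3, 5, 0, 5, 0, 0, 2, 3, 2, 3, 2, 1, 1, 3, 5, 0, 5, 4, 4, 0, 2, 3, 1, 5, 0, 0, 5, 3, 5, 1, 1, 2, 0, 2, 3, 3, 5, 4, 4, 3, 3, 2, 0, 2, 1, 1, 0, 5, 4, 0]

/-- its sign mask -/
def liftMaskCo2_0 : ℕ :=
  4147618

/-- its sign part -/
def liftSignCo2_0 : List Step :=
  [some (984818244535754528103549039458486304, 4147618,
      [(0, false), (5, true), (10, false), (15, false), (20, false), (25, true), (30, false), (35, true), (40, true), (45, false), (50, false), (55, true), (60, false), (65, false), (70, true), (75, false), (80, true), (85, true), (90, true), (95, true), (100, true), (105, true), (110, false), (115, false)])]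

/-- product giving a monomial map -/
def liftCo2_1 : List ℕ :=
  [0, 0, 2, 3, 2, 3, 2, 1, 1, 3, 5, 0, 5, 3, 1, 2, 3, 2, 1, 1, 3, 5, 0, 0, 1, 2, 0, 2, 3, 3, 1, 2, 0, 5, 3, 1, 1, 1, 1, 2, 0, 2, 3, 3, 5, 4, 4, 4, 0, 2, 3, 1, 5, 0, 0, 5, 3, 5, 0, 0, 2, 3, 2, 3, 2, 1, 1, 3, 5, 0, 5, 1, 1, 2, 0, 2, 3, 3, 5, 4]

/-- its sign mask -/
def liftMaskCo2_1 : ℕ :=
  5293790

/-- its sign part -/
def liftSignCo2_1 : List Step :=
  [some (984818244535754528103549039458486304, 5293790,
      [(0, false), (5, true), (10, true), (15, true), (20, true), (25, false), (30, true), (35, true), (40, false), (45, true), (50, true), (55, false), (60, false), (65, false), (70, true), (75, true), (80, false), (85, false), (90, false), (95, false), (100, true), (105, false), (110, true), (115, false)])]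

/-- orbit scripts -/
def scriptsCo2 : List ℕ :=
  [0x1f,
   0x1978b3d7,
   0x65c55838b39e2d75893d644b1c7,
   0x65c55830b44b15830e24e78b5c624e60e2ce58b5912c71d82ce7155893d640b19955e2d724f5891c7,
   0x65451810b44b11830c2562d665558b58915970c24e24c79718931838b3962d644b1c724e71558939830624e78b5c624e60b3962d640b19955e2d724f5891c660c78b5c624e60e2d12c360b39c45624f1902c665e2d724f65c5512c560e2ce58b5912c71dc55624f5902c679724f5891c7,
   0x2545102d02d010958b5985102d625050424425e0d82ce58b5912c74045002c460b3962d644b1de5c91185044042c425658424479710960e2ce44b1c724471510960c18939e2d71893982ce58b5902c665578b5c93d624719e5c424460e2d12c700b11c54424661c30924c71518931838b3962d644b1c724e71558938831e2d71893882ce58b1802c625e2d724f45c5512c560e2ce58b5912c71dc55624f5902c671524f5891c010c25818b3962d644b1c724671518919830624e78b5d955e2d70c620478b5c424660e2d11c02c671518934624601e2d724f00411838b3962d644b1c771518918644451010b40b1101162d624460c18939e2d71893982ce58b5902c665578b5c93d624719838b44b1c02c67151891c640b18078b5c911838b3912c71dc5442461002c4797244509104,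
   0x58b58048958025e5d82ce58b5912c700400b6162d644b1de5c000b25658979740e2ce0c760c78b5c624e60b3962d640b19955e2d724f5802402d625625831e0d71893982ce58b5902c665578b5c93d660e2ce44b1c77972401002c900958b58979760b3912c725c54960e2ce44b1c725c55830624e78b5c624e65578b5c91c624719e5c960e2d12c725c55870c24930454624c60e2ce58b5912c71c939c55624e20c78b5c624e20b3962c600b18978b5c93d171544b15838b3962d644a1c77155893d640b19c5493d624760e2ce44b1c725c54960c18939e05765570b5c91c67895c960e2d12c725c54911010010b10959679710960e2d12c724471510960c18939e2d71893982ce58b5902c66557885c93d624719e5c024460e2d12c700b11c54424410425838b39625644b1872467151891847895c404000b1862462467895c93c411838b39625644b1c77151891064040042c02c400458b58911830620a78b5c624e60b3962d640b19955e2d724f5891c660e2d12c700b19c5462471802c601e2d724460e2d12c771510918400b11e5c910424425659820939e2d70893982ce5895902c665578b4c93d624719e5c911830b44b1c911c54919850404931c54424460e2ce58b5912c71d151440b11820b3962d64431c700424510960e2ce5895912c71c971524460410919e2d765424611e2572444042d02c424471510918919e5c931838b39625644a1c771518918424960c18939e2d71893982ce58959028265578b5c93d624719838b44b1c919c54918918150900b40958b59058b58940960b3962d644b1de5c961c30924c71518931838b3962d644b1c724e71558938831e2d71893882ce58b1802c625e2d724f45c5512c560e2ce58b5912c71dc55624f5902c671524f5891d830624e78b5d955e2d724719e25724460e2d12c724671524518918078b5c919838b39625644b1c771525830624e28b5c624e65578b5c91c624719838b44b1c971524625e25725838b3912c11dc54900b715249]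

end Cfsg.Agent.LeechOutGenData
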