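import Cfsg.Agent.Lib.LeechOutSep
import Cfsg.Agent.Lib.LeechOutGenData

/-!
Common steps of the automorphism bounds: normal forms inside a subgroup and generation by three elements.
-/

set_option autoImplicit false

open scoped Pointwise

namespace Cfsg.Agent.LeechOutGroup

open Cfsg Cfsg.Agent.GolayBasic Cfsg.Agent.LeechBasic Cfsg.Agent.LeechAut Cfsg.Agent.LeechOrbit
open Cfsg.Agent.LeechCert Cfsg.Agent.LeechOutTool Cfsg.Agent.LeechCent11 Cfsg.Agent.LeechOutSep
open Cfsg.Agent.GolayOutGen (Sim)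
open Cfsg.Agent.LeechNormalizers (mem_mono_of_frame fixes_none frame_none_apply)
open Cfsg.Agent.GolayPerm (good permOf permOf_mem_M24)
open Cfsg.Agent.LeechStab (mono mem_mono permHom permHom_injective monomial_mul monomial_congr signElt CodeSupp)
open Cfsg.Agent.LeechFreeInvolution (frameCodes)

/-! ### relations between words -/

theorem pow_eq {w : List Step} (hw : wordValid w = true) (n : ℕ) : El (rep n w) = El w ^ n :=
  El_replicate hw n

theorem orderOf_El {w : List Step} {p : ℕ} (hp : p.Prime) (h1 : eqOK (rep p w) [] = true)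
    (h2 : neOK w [] = true) : orderOf (El w) = p := by
  haveI : Fact p.Prime := ⟨hp⟩
  have hw : wordValid w = true := by
    simp only [neOK, Bool.and_eq_true] at h2; exact h2.1.1
  refine orderOf_eq_prime ?_ ?_
  · rw [← pow_eq hw, El_eq h1, El_nil]
  · have := El_ne h2
    rwa [El_nil] at this

/-- The relations used for the normal form. -/
noncomputable def relOK (wx wy wz : List Step) (r r' a : ℕ) : Bool :=
  wordValid wx && wordValid wy && wordValid wz && eqOK (wx ++ wy) (wy ++ rep r wx) &&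
    eqOK (wy ++ wx) (rep r' wx ++ wy) && eqOK (wy ++ wz) (wz ++ rep a wy)

theorem rels {wx wy wz : List Step} {r r' a : ℕ} (h : relOK wx wy wz r r' a = true) :
    El wy * El wx = El wx ^ r * El wy ∧ El wx * El wy = El wy * El wx ^ r' ∧
      El wz * El wy = El wy ^ a * El wz := by
  simp only [relOK, Bool.and_eq_true] at h
  obtain ⟨⟨⟨⟨⟨hx, hy⟩, hz⟩, h1⟩, h2⟩, h3⟩ := h
  refine ⟨?_, ?_, ?_⟩
  · rw [El_rel h1, pow_eq hx]
  · rw [El_rel h2, pow_eq hx]
  · rw [El_rel h3, pow_eq hy]

/-- Normal form of an automorphism of a subgroup, among the allowed candidates. -/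
theorem normal_form_sub {S : Subgroup Co0} {p m r r' a : ℕ} (hp : p.Prime) (hm : ¬ p ∣ m)
    (hG : Nat.card S = p * m) {wx wxi wy wz : List Step} (hxS : El wx ∈ S) (hyS : El wy ∈ S) (hzS : El wz ∈ S)
    (ho1 : eqOK (rep p wx) [] = true) (ho2 : neOK wx [] = true) (hxi : eqOK (wx ++ wxi) [] = true)
    (hrel : relOK wx wy wz r r' a = true)
    (hjs : ∀ j < p, 0 < j → ∃ k < p, (j * r ^ k) % p = 1 ∨ (j * r ^ k) % p = p - 1)
    (hks : ∀ k < p, ∃ j < p, (j * r' + k) % p = j)
    (hCx : ∀ g ∈ S, Commute g (El wx) → ∃ k : ℕ, g = El wx ^ k) {C : List (List Step)}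
    (hCy : ∀ g ∈ S, Commute g (El wy) → ∃ w ∈ C, g = El w)
    {ps : List (List ℕ × ℕ)} {tab : List ℕ} {allowed : List (Bool × ℕ)}
    (htab : tableOK wx wxi wy wz [[]] C ps tab allowed = true) (φ : MulAut S) :
    ∃ ψ, Sim φ ψ ∧ ψ ⟨_, hyS⟩ = ⟨_, hyS⟩ ∧ ∃ b i, (b, i) ∈ allowed ∧
      ψ ⟨_, hxS⟩ = (bif b then (⟨_, hxS⟩ : S)⁻¹ else ⟨_, hxS⟩) ∧
      ∃ c : S, ψ ⟨_, hzS⟩ = ⟨_, hzS⟩ * c ∧ (c : Co0) = El (C.getD i []) := by
  haveI := LeechOrder.finite_Co0
  obtain ⟨h1, h2, h3⟩ := rels hrel
  set x : S := ⟨_, hxS⟩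
  set y : S := ⟨_, hyS⟩
  set z : S := ⟨_, hzS⟩
  have hx : orderOf x = p := by rw [← Subgroup.orderOf_coe]; exact orderOf_El hp ho1 ho2
  obtain ⟨ψ, hψ, hsx, hsy, c, hc, hcz⟩ := LeechOutCrit.normal_form hp hm hG (x := x) (y := y) (z := z) hx
    (Subtype.ext h1) (Subtype.ext h2) (Subtype.ext h3) hjs hks
    (fun g hg => by
      obtain ⟨k, hk⟩ := hCx g g.2 (congrArg Subtype.val hg.eq)
      exact ⟨k, Subtype.ext hk⟩) φ
  obtain ⟨b, i, hbi, hbx, hfc⟩ := exists_allowed S.subtype (MonoidHom.id S)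
    (fun a => mem_one_list S.subtype_injective a) (x := x) (y := y) (z := z) (c := c) rfl hxi rfl rfl
    (hCy c c.2 (congrArg Subtype.val hc.eq)) hsx hsy hcz htab
  exact ⟨ψ, hψ, hsy, b, i, hbi, hbx, c, hcz, hfc⟩

/-! ### generation -/

theorem closure_sub {S : Subgroup Co0} {s : Set S}
    (h : S ≤ Subgroup.closure ((fun g : S => (g : Co0)) '' s)) : Subgroup.closure s = ⊤ := by
  rw [eq_top_iff]
  intro g _
  have : ((g : S) : Co0) ∈ (Subgroup.closure s).map S.subtype := by
    rw [MonoidHom.map_closure]; exact h g.2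
  obtain ⟨g', hg', e⟩ := this
  rwa [← Subtype.ext (a1 := g') e]

theorem le_of_bound {S K : Subgroup Co0} [IsSimpleGroup S] (hKS : K ≤ S) {p b : ℕ} (hp : p.Prime)
    (hdvd : p ∣ Nat.card S) (hb : b ≤ Nat.card K) (hlt : Nat.card S < p * b) : S ≤ K := by
  haveI := LeechOrder.finite_Co0
  rw [← Subgroup.subgroupOf_eq_top]
  exact eq_top_of_bound hp hdvd
    (hb.trans_eq (Nat.card_congr (Subgroup.subgroupOfEquivOfLe hKS).toEquiv).symm) hlt

theorem mem_of_closure {H : Type*} [Group H] (f : H →* Co0) {s : Set H} (hs : Subgroup.closure s = ⊤)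
    {K : Subgroup Co0} (h : ∀ g ∈ s, f g ∈ K) (g : H) : f g ∈ K := by
  have : Subgroup.closure s ≤ K.comap f := (Subgroup.closure_le _).2 h
  exact this (hs ▸ Subgroup.mem_top g)

/-- The three generators with their inverses. -/
def gens6 (wx wxi wy wyi wz wzi : List Step) : List (List Step) := [wx, wy, wz, wxi, wyi, wzi]

theorem gens6_mem {wx wxi wy wyi wz wzi : List Step} (hx : eqOK (wx ++ wxi) [] = true)
    (hy : eqOK (wy ++ wyi) [] = true) (hz : eqOK (wz ++ wzi) [] = true) {K : Subgroup Co0}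
    (h : El wx ∈ K ∧ El wy ∈ K ∧ El wz ∈ K) : ∀ w ∈ gens6 wx wxi wy wyi wz wzi, El w ∈ K := by
  intro w hw
  simp only [gens6, List.mem_cons, List.not_mem_nil, or_false] at hw
  rcases hw with rfl | rfl | rfl | rfl | rfl | rfl
  · exact h.1
  · exact h.2.1
  · exact h.2.2
  · rw [El_inv hx]; exact inv_mem h.1
  · rw [El_inv hy]; exact inv_mem h.2.1
  · rw [El_inv hz]; exact inv_mem h.2.2

theorem gens6_valid {wx wxi wy wyi wz wzi : List Step} (hx : eqOK (wx ++ wxi) [] = true)
    (hy : eqOK (wy ++ wyi) [] = true) (hz : eqOK (wz ++ wzi) [] = true) :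
    ∀ w ∈ gens6 wx wxi wy wyi wz wzi, wordValid w = true := by
  intro w hw
  have h1 := (eqOK_valid hx).1
  have h2 := (eqOK_valid hy).1
  have h3 := (eqOK_valid hz).1
  rw [wordValid_append, Bool.and_eq_true] at h1 h2 h3
  simp only [gens6, List.mem_cons, List.not_mem_nil, or_false] at hw
  rcases hw with rfl | rfl | rfl | rfl | rfl | rfl
  exacts [h1.1, h2.1, h3.1, h1.2, h2.2, h3.2]

/-- A product of generators giving a permutation puts that permutation in the subgroup. -/
theorem permHom_mem {W : List (List Step)} (hW : ∀ w ∈ W, wordValid w = true) {K : Subgroup Co0}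
    (hK : ∀ w ∈ W, El w ∈ K) {l : List ℕ} {P : ℕ} (h : monoOK' (expand W l) P 0 = true) {σ : M24}
    (hσ : (σ : Equiv.Perm GolayPt) = permOf P) : permHom σ ∈ K := by
  have := expand_mem hW hK l
  rw [El_mono h (monoOK'_mem h).1 (monoOK'_mem h).2] at this
  have e : mset 0 = (∅ : Finset GolayPt) := by ext p; simp [mem_mset]
  rwa [show permHom σ = monomial (permOf P) (monoOK'_mem h).1 (mset 0) (monoOK'_mem h).2 from
    monomial_congr σ.2 _ empty_mem_supports _ hσ e.symm]

theorem permHom_frame {σ : M24} (h : (σ : Equiv.Perm GolayPt) none = none) :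
    permHom σ • frame none = frame none := by
  refine Subtype.ext ?_
  show ((monomial (σ : Equiv.Perm GolayPt) σ.2 ∅ empty_mem_supports • frame none : leechLattice) : GolayPt → ℤ) = _
  rw [coe_monomial_smul]
  funext p
  simp only [signedPerm, Finset.notMem_empty, if_false]
  change ((frame none : leechLattice) : GolayPt → ℤ) ((σ : Equiv.Perm GolayPt).symm p) = _
  rw [frame_none_apply, frame_none_apply]
  by_cases hp : p = none
  · subst hp
    rw [if_pos (by rw [Equiv.symm_apply_eq, h]), if_pos rfl]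
  · rw [if_neg (fun e => hp (by rw [Equiv.symm_apply_eq, h] at e; exact e)), if_neg hp]

/-- Permutations fixing the frame vector inside a subgroup, with an orbit certificate. -/
theorem card_ge_perm {H : Type*} [Group H] (ι : H →* M24) (hι : Function.Injective ι)
    (hfix : ∀ h, (ι h : Equiv.Perm GolayPt) none = none) {K : Subgroup Co0} (hK : ∀ h, permHom (ι h) ∈ K)
    {W : List (List Step)} (hW : ∀ w ∈ W, El w ∈ K) {B count : ℕ} {scripts : List ℕ}
    (horb : orbitOK W (frameCodes.getD 23 0) B scripts count = true) : count * Nat.card H ≤ Nat.card K := by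
  haveI := LeechOrder.finite_Co0
  have hA := card_ge hW horb (r := frame none) (frame_code none)
    (A := K ⊓ MulAction.stabilizer Co0 (frame none)) inf_le_left inf_le_right
  refine le_trans (Nat.mul_le_mul_left _ ?_) hA
  exact Nat.card_le_card_of_injective (fun h => (⟨permHom (ι h), hK h, permHom_frame (hfix h)⟩ :
    ↥(K ⊓ MulAction.stabilizer Co0 (frame none))))
    fun a b e => hι (permHom_injective (congrArg Subtype.val e))

end Cfsg.Agent.LeechOutGroup
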