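import Cfsg.Agent.Lib.CoZeroInvolCases
import Cfsg.Agent.Lib.CoZeroSevenSpace
import Cfsg.Agent.Lib.LeechOutGroup

/-!
Co0 satisfies the involution pattern used for the standard-subgroup theorem.
-/

set_option autoImplicit false

open scoped Pointwise symmDiff

namespace Cfsg.Agent.CoZeroPattern

open Cfsg Cfsg.Agent.GolayBasic Cfsg.Agent.LeechBasic Cfsg.Agent.LeechAut
open Cfsg.Agent.LeechCert Cfsg.Agent.LeechOutTool Cfsg.Agent.LeechStab Cfsg.Agent.LeechOutData
open Cfsg.Agent.LeechRepMod50 (ρ)
open Cfsg.Agent.GolayPerm (permOf)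
open Cfsg.Agent.CoZeroInvolBasic Cfsg.Agent.CoZeroInvolData Cfsg.Agent.CoZeroInvolCases
open Cfsg.Agent.CoZeroStandard (Cl Pattern)
open Cfsg.Agent.LeechCent11 (El_inv El_append' El_rel El_wNeg commute_g11)
open Cfsg.Agent.LeechCoOneSimple (negAut_sq)
open Cfsg.Agent.LeechNormalizers (g11 mem_mono_of_frame)

theorem perm_pow {σ : Equiv.Perm GolayPt} (hσ : σ ∈ M24) {c : Finset GolayPt} (hc : c ∈ CodeSupp) :
    ∀ k : ℕ, ∃ d hd, monomial σ hσ c hc ^ k = monomial (σ ^ k) (pow_mem hσ k) d hd
  | 0 => ⟨∅, empty_mem_supports, by rw [pow_zero, ← monomial_one]; exact monomial_congr _ _ _ _ (pow_zero σ).symm rfl⟩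
  | k + 1 => by
    obtain ⟨d, hd, e⟩ := perm_pow hσ hc k
    exact ⟨_, symmDiff_mem_supports hd (GolayPerm.smul_mem_supports (pow_mem hσ k) hc), by
      rw [pow_succ, e, monomial_mul]; exact monomial_congr _ _ _ _ (pow_succ σ k).symm rfl⟩

/-- The signs of the octad sign change. -/
theorem ρ_r8 (a b : GolayPt) :
    ρ r8 a b = if a = b then (if a ∈ mset mOct then -1 else 1) else 0 := by
  obtain ⟨hd, e⟩ := El_sgn (w := wR8) (m := mOct) (by decide +kernel)
  rw [r8, e, ρ_sgn]

/-- The block of an element commuting with the octad sign change. -/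
theorem block_zero {y : Co0} (hy : Commute y r8) {a b : GolayPt}
    (h : ¬ (a ∈ mset mOct ↔ b ∈ mset mOct)) : ρ y a b = 0 := by
  have e := congrFun (congrFun (congrArg ρ hy.eq) a) b
  rw [map_mul, map_mul, Matrix.mul_apply, Matrix.mul_apply] at e
  simp only [ρ_r8, mul_ite, mul_zero, ite_mul, zero_mul, Finset.sum_ite_eq, Finset.sum_ite_eq',
    Finset.mem_univ, if_true] at e
  have key : ∀ x : ZMod 5, x * -1 = 1 * x → x = 0 := by decide
  have key' : ∀ x : ZMod 5, x * 1 = -1 * x → x = 0 := by decide
  by_cases ha : a ∈ mset mOct <;> by_cases hb : b ∈ mset mOct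
  · exact absurd (iff_of_true ha hb) h
  · rw [if_pos ha, if_neg hb] at e; exact key' _ e
  · rw [if_neg ha, if_pos hb] at e; exact key _ e
  · exact absurd (iff_of_false ha hb) h

/-- The octad as a type. -/
abbrev Oct : Type := {a : GolayPt // a ∈ mset mOct}

/-- The matrix on the octad. -/
noncomputable def blk (y : Co0) : Matrix Oct Oct (ZMod 5) := fun a b => ρ y a.1 b.1

theorem blk_mul {y w : Co0} (hy : Commute y r8) : blk (y * w) = blk y * blk w := by
  ext a b
  show ρ (y * w) a.1 b.1 = _
  rw [map_mul, Matrix.mul_apply, Matrix.mul_apply]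
  show _ = ∑ c : Oct, ρ y a.1 c.1 * ρ w c.1 b.1
  rw [← Finset.sum_subtype (mset mOct) (fun _ => Iff.rfl) (fun c => ρ y a.1 c * ρ w c b.1)]
  refine (Finset.sum_subset (Finset.subset_univ _) fun c _ hc => ?_).symm
  rw [block_zero hy (fun h => hc (h.1 a.2)), zero_mul]

theorem blk_one : blk 1 = 1 := by
  ext a b
  show ρ 1 a.1 b.1 = _
  rw [ρ_one, Matrix.one_apply]
  by_cases e : a = b
  · subst e; rw [if_pos rfl, if_pos rfl]
  · rw [if_neg (fun h => e (Subtype.ext h)), if_neg e]

theorem blk_neg : blk negAut = -1 := by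
  ext a b
  show ρ negAut a.1 b.1 = _
  rw [ρ_negAut, Matrix.neg_apply, Matrix.one_apply]
  by_cases e : a = b
  · subst e; rw [if_pos rfl, if_pos rfl]
  · rw [if_neg (fun h => e (Subtype.ext h)), if_neg e, neg_zero]

theorem blk_pow {y : Co0} (hy : Commute y r8) : ∀ k : ℕ, blk (y ^ k) = blk y ^ k
  | 0 => by rw [pow_zero, pow_zero, blk_one]
  | k + 1 => by rw [pow_succ', pow_succ', blk_mul hy, blk_pow hy k]

theorem no_seven (x p q : Co0) (hx : x ^ 7 = 1) (hne : x ≠ 1) (hxr : Commute x r8) (hpx : Commute p x)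
    (hqx : Commute q x) (hpr : Commute p r8) (hqr : Commute q r8) :
    p * q * p⁻¹ * q⁻¹ ≠ negAut := by
  intro h
  let φ := Matrix.toLinAlgEquiv' (R := ZMod 5) (n := Oct)
  by_cases hX : blk x = 1
  · have hfix : ∀ b ∈ mset mOct, x • frame b = frame b := by
      intro b hb
      refine frame_eq_of_column fun a => ?_
      by_cases ha : a ∈ mset mOct
      · have := congrFun (congrFun hX ⟨a, ha⟩) ⟨b, hb⟩
        simp only [blk, Matrix.one_apply, Subtype.mk.injEq] at this
        exact this
      · rw [block_zero hxr (fun h => ha (h.2 hb)), if_neg]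
        rintro rfl
        exact ha hb
    obtain ⟨σ, hσ, c, hc, rfl⟩ := mem_mono.1 (mem_mono_of_frame (Or.inl (hfix none (by decide +kernel))))
    have hσb : ∀ b ∈ mset mOct, σ b = b := by
      intro b hb
      by_contra hne'
      have := congrFun (congrArg Subtype.val (hfix b hb)) (σ b)
      rw [coe_monomial_smul] at this
      simp only [signedPerm, Equiv.symm_apply_apply] at this
      change (if σ b ∈ c then -(unitVec 8 b b) else unitVec 8 b b) = unitVec 8 b (σ b) at this
      simp [unitVec, hne'] at this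
      split_ifs at this <;> omega
    have ho : mset mOct ∈ octads := (mset_mem_octads (by decide)).2 (by decide +kernel)
    have hsq := GolayOctadStab.pfix_sq ho (g := ⟨σ, hσ⟩) (GolayOctadStab.mem_pfix.2 hσb)
    have hσ2 : σ ^ 2 = 1 := by rw [sq]; exact congrArg Subtype.val hsq
    obtain ⟨d, hd, e⟩ := perm_pow hσ hc 7
    rw [hx, ← monomial_one] at e
    obtain ⟨e7, -⟩ := LeechMonomial.monomial_injective _ _ _ _ e.symm
    have hσ1 : σ = 1 := by
      rw [show (7 : ℕ) = 2 * 3 + 1 by norm_num, pow_succ, pow_mul, hσ2, one_pow, one_mul] at e7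
      exact e7
    subst hσ1
    have h2 : monomial (1 : Equiv.Perm GolayPt) hσ c hc * monomial 1 hσ c hc = 1 := by
      rw [monomial_mul, ← monomial_one]
      exact monomial_congr _ _ _ _ (one_mul 1) (by rw [one_smul, symmDiff_self]; rfl)
    rw [show (7 : ℕ) = 2 * 3 + 1 by norm_num, pow_succ, pow_mul, sq, h2, one_pow, one_mul] at hx
    exact hne hx
  · have hdim : Module.finrank (ZMod 5) (Oct → ZMod 5) ≤ 8 := by
      rw [Module.finrank_pi, Fintype.card_coe]
      exact le_of_eq (by decide +kernel)
    have hc : ∀ {y w : Co0}, Commute y r8 → Commute w r8 → Commute y w → Commute (φ (blk y)) (φ (blk w)) :=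
      fun {y w} hy hw hyw => by
        refine Commute.map (f := φ) ?_
        show blk y * blk w = blk w * blk y
        rw [← blk_mul hy, ← blk_mul hw, hyw.eq]
    refine CoZeroSevenSpace.no_anticommuting (φ (blk x)) (φ (blk p)) (φ (blk q)) (φ (blk p⁻¹)) (φ (blk q⁻¹))
      hdim ?_ ?_ (hc hpr hxr hpx) (hc hqr hxr hqx) ?_ ?_ ?_
    · rw [← map_pow, ← blk_pow hxr, hx, blk_one, map_one]
    · exact fun e => hX (φ.injective (e.trans (map_one φ).symm))
    · rw [← map_mul, ← blk_mul hpr.inv_left, inv_mul_cancel, blk_one, map_one]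
    · rw [← map_mul, ← blk_mul hqr.inv_left, inv_mul_cancel, blk_one, map_one]
    · have e : p * q = negAut * (q * p) := by rw [← h]; group
      rw [← map_mul, ← map_mul, ← blk_mul hpr, e,
        blk_mul (neg_central r8), blk_neg,
        blk_mul hqr, neg_one_mul, map_neg]

theorem no_eleven (x : Co0) (hx : x ^ 11 = 1) (hne : x ≠ 1) : ¬ Commute x r8 := by
  intro hc
  have := LeechOrder.finite_Co0
  have : Fact (Nat.Prime 11) := ⟨by norm_num⟩
  have hg : orderOf g11 = 11 := LeechCent11.El_w11 ▸ LeechOutGroup.orderOf_El (p := 11) (by norm_num)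
    (by decide +kernel) (by decide +kernel)
  have hxo : orderOf x = 11 := orderOf_eq_prime hx hne
  have hfact : (Nat.card Co0).factorization 11 = 1 := by
    rw [LeechOrder.card_Co0, show (8315553613086720000 : ℕ) = 11 * 755959419371520000 by norm_num,
      Nat.factorization_mul (by norm_num) (by norm_num), Finsupp.add_apply,
      Nat.Prime.factorization_self (by norm_num), Nat.factorization_eq_zero_of_not_dvd (by norm_num)]
  have c1 : Nat.card (Subgroup.zpowers x) = 11 ^ (Nat.card Co0).factorization 11 := by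
    rw [Nat.card_zpowers, hxo, hfact, pow_one]
  have c2 : Nat.card (Subgroup.zpowers g11) = 11 ^ (Nat.card Co0).factorization 11 := by
    rw [Nat.card_zpowers, hg, hfact, pow_one]
  obtain ⟨g, hgS⟩ := MulAction.exists_smul_eq Co0 (Sylow.ofCard _ c1) (Sylow.ofCard _ c2)
  have hmem : g11 ∈ ((g • (Sylow.ofCard _ c1 : Sylow 11 Co0) : Sylow 11 Co0) : Subgroup Co0) := by
    rw [hgS]; exact Subgroup.mem_zpowers g11
  obtain ⟨y, hy, hyg⟩ := hmem
  obtain ⟨k, rfl⟩ := Subgroup.mem_zpowers_iff.1 (hy : y ∈ Subgroup.zpowers x)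
  replace hyg : g * x ^ k * g⁻¹ = g11 := hyg
  have hcomm : Commute (g * r8 * g⁻¹) g11 := by
    rw [← hyg]
    exact (hc.zpow_left k).symm.map (MulAut.conj g)
  obtain ⟨w, hw, e⟩ := commute_g11 hcomm
  have hall : (LeechCent11.c11.all fun w => wordValid w && (neOK (w ++ w) [] || !(trW w == trW wR8))) = true := by
    decide +kernel
  have h' := List.all_eq_true.1 hall w hw
  simp only [Bool.and_eq_true, Bool.or_eq_true, Bool.not_eq_true', beq_eq_false_iff_ne] at h'
  obtain ⟨hv, h' | h'⟩ := h'
  · apply El_ne h'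
    rw [El_append hv hv, El_nil, ← e]
    have h2 : r8 * r8 = 1 := by
      rw [r8, El_mul (c := []) (by decide +kernel : eqOK (wR8 ++ wR8) [] = true), El_nil]
    rw [show g * r8 * g⁻¹ * (g * r8 * g⁻¹) = g * (r8 * r8) * g⁻¹ by group, h2]
    group
  · exact h' (by rw [← tr_El hv, ← tr_El (show wordValid wR8 = true by decide +kernel), ← e, tr_conj]; rfl)

theorem sq_of_words {w : List Step} (h : eqOK (w ++ w) [] = true) : El w * El w = 1 := by
  rw [El_mul h, El_nil]

theorem comm_words {p q pi qi r : List Step} (hp : eqOK (p ++ pi) [] = true) (hq : eqOK (q ++ qi) [] = true)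
    (h : eqOK (qi ++ (pi ++ (q ++ p))) r = true) :
    El p * El q * (El p)⁻¹ * (El q)⁻¹ = El r := by
  obtain ⟨hv, -⟩ := eqOK_valid h
  simp only [wordValid_append, Bool.and_eq_true] at hv
  obtain ⟨hqi, hpi, hqv, hpv⟩ := hv
  rw [← El_eq h, El_append hqi (by simp [wordValid_append, hpi, hqv, hpv]),
    El_append hpi (by simp [wordValid_append, hqv, hpv]), El_append hqv hpv, El_inv hp, El_inv hq]

theorem three_words {i h hi k ki r : List Step} (hh : eqOK (h ++ hi) [] = true) (hk : eqOK (k ++ ki) [] = true)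
    (e : eqOK (ki ++ (i ++ (k ++ (hi ++ (i ++ (h ++ i)))))) r = true) :
    El r = El i * (El h * El i * (El h)⁻¹) * (El k * El i * (El k)⁻¹) := by
  obtain ⟨hv, -⟩ := eqOK_valid e
  simp only [wordValid_append, Bool.and_eq_true] at hv
  obtain ⟨h1, h2, h3, h4, -, h6, -⟩ := hv
  rw [← El_eq e, El_append h1 (by simp [wordValid_append, h2, h3, h4, h6]),
    El_append h2 (by simp [wordValid_append, h2, h3, h4, h6]), El_append h3 (by simp [wordValid_append, h2, h4, h6]),
    El_append h4 (by simp [wordValid_append, h2, h6]), El_append h2 (by simp [wordValid_append, h2, h6]),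
    El_append h6 h2, El_inv hh, El_inv hk]
  group

theorem pow_words {w : List Step} {n : ℕ} (h1 : eqOK (rep n w) [] = true) (h2 : neOK w [] = true) :
    El w ^ n = 1 ∧ El w ≠ 1 := by
  have hw : wordValid w = true := by simp only [neOK, Bool.and_eq_true] at h2; exact h2.1.1
  refine ⟨by rw [← El_replicate hw, ← El_nil, ← El_eq h1]; rfl, ?_⟩
  have := El_ne h2
  rwa [El_nil] at this

theorem pattern : Pattern negAut r8 r12 where
  central := neg_central
  sq := negAut_sq
  center x hx := center_eq (Subgroup.mem_center_iff.2 fun g => (hx g).eq.symm)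
  ne := negAut_ne_one
  cases_invol := cases_invol
  invol_comm := invol_comm
  neg12 := by
    obtain ⟨hd, e⟩ := El_sgn (w := wR12n) (m := 16777215 ^^^ mDod) (by decide +kernel)
    have h : negAut * r12 = El wR12n := by
      rw [← El_wNeg]; exact El_mul (by decide +kernel)
    rw [h, e]
    exact cl_dodecad hd (by decide +kernel)
  octads := by
    obtain ⟨h2, e2⟩ := El_sgn (w := wO2) (m := mOct2) (by decide +kernel)
    obtain ⟨h3, e3⟩ := El_sgn (w := wO3) (m := mOct2 ^^^ mOct) (by decide +kernel)
    refine ⟨El wO2, e2 ▸ cl_octad h2 (by decide +kernel), ?_, El_comm (by decide +kernel),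
      El_ne (by decide +kernel), ?_⟩
    · rw [r8, El_mul (c := wO3) (by decide +kernel), e3]; exact cl_octad h3 (by decide +kernel)
    · rw [← El_wNeg, El_append' (c := wO2 ++ wNeg) (by decide +kernel)]
      exact El_ne (by decide +kernel)
  dodecads := by
    obtain ⟨h2, e2⟩ := El_sgn (w := wD2) (m := mDod2) (by decide +kernel)
    obtain ⟨h3, e3⟩ := El_sgn (w := wD3) (m := mDod2 ^^^ mDod) (by decide +kernel)
    refine ⟨El wD2, e2 ▸ cl_dodecad h2 (by decide +kernel), ?_, El_comm (by decide +kernel),
      El_ne (by decide +kernel)⟩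
    rw [r12, El_mul (c := wD3) (by decide +kernel), e3]; exact cl_octad h3 (by decide +kernel)
  wit16 := by
    refine ⟨El SP, El SQ, El SH, El SK, El SF, El SS, ?_, ?_, ⟨El SX, ?_, (pow_words (by decide +kernel)
      (by decide +kernel)).1, (pow_words (n := 7) (by decide +kernel) (by decide +kernel)).2,
      El_comm (by decide +kernel), El_comm (by decide +kernel)⟩, ?_⟩
    · intro y hy
      rw [← El_r16]
      simp only [List.mem_cons, List.not_mem_nil, or_false] at hy
      rcases hy with rfl | rfl | rfl | rfl | rfl | rfl <;> exact El_comm (by decide +kernel)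
    · rw [comm_words (pi := SPi) (qi := SQi) (r := SI) (by decide +kernel) (by decide +kernel) (by decide +kernel)]
      exact sq_of_words (by decide +kernel)
    · rw [comm_words (pi := SPi) (qi := SQi) (r := SI) (by decide +kernel) (by decide +kernel) (by decide +kernel)]
      exact three_words (hi := SHi) (ki := SKi) (by decide +kernel) (by decide +kernel) (by decide +kernel)
    · rw [← El_r16]
      exact comm_words (pi := SF) (qi := SS) (by decide +kernel) (by decide +kernel) (by decide +kernel)
  wit12 := by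
    refine ⟨El TP, El TQ, El TH, El TK, ?_, ?_, El TX, ?_, (pow_words (by decide +kernel)
      (by decide +kernel)).1, (pow_words (n := 11) (by decide +kernel) (by decide +kernel)).2⟩
    · intro y hy
      simp only [List.mem_cons, List.not_mem_nil, or_false] at hy
      rcases hy with rfl | rfl | rfl | rfl <;> exact El_comm (by decide +kernel)
    · rw [comm_words (pi := TPi) (qi := TQi) (r := TI) (by decide +kernel) (by decide +kernel) (by decide +kernel)]
      exact sq_of_words (by decide +kernel)
    · rw [comm_words (pi := TPi) (qi := TQi) (r := TI) (by decide +kernel) (by decide +kernel) (by decide +kernel)]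
      exact three_words (hi := THi) (ki := TKi) (by decide +kernel) (by decide +kernel) (by decide +kernel)
  no_eleven := no_eleven
  no_seven := no_seven

end Cfsg.Agent.CoZeroPattern
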