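/-
Groups with a bijective crossed homomorphism into an abelian module of squarefree exponent, and
the fully ramified monomial group attached to them.
-/
import Mathlib
import Cfsg.Agent.Lib.CharBasicDecomp
import Cfsg.Agent.Lib.CharBasicLinear

set_option autoImplicit false

open scoped ComplexConjugate
open Finset
open Cfsg

namespace Cfsg.Agent.CocycleMonomial80

open CharBasic CharBasicOrth CharBasicDecomp

universe u

/-- An action with a bijective crossed homomorphism. -/
structure Cocycle (W A : Type u) [Group W] [CommGroup A] where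
  act : W →* MulAut A
  π : W → A
  cocycle : ∀ a b, π (a * b) = π a * act a (π b)
  bij : Function.Bijective π

/-- The product of the primes dividing `n`. -/
def rad (n : ℕ) : ℕ := ∏ p ∈ n.primeFactors, p

theorem squarefree_rad (n : ℕ) : Squarefree (rad n) :=
  Finset.squarefree_prod_of_pairwise_isCoprime
    (fun a ha b hb hab => Nat.coprime_iff_isRelPrime.1
      ((Nat.coprime_primes (Nat.prime_of_mem_primeFactors ha) (Nat.prime_of_mem_primeFactors hb)).2 hab))
    (fun a ha => (Nat.prime_of_mem_primeFactors ha).squarefree)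

theorem rad_dvd_rad {m n : ℕ} (h : m ∣ n) (hn : n ≠ 0) : rad m ∣ rad n :=
  Finset.prod_dvd_prod_of_subset _ _ _ (Nat.primeFactors_mono h hn)

theorem dvd_rad {p n : ℕ} (hp : p.Prime) (h : p ∣ n) (hn : n ≠ 0) : p ∣ rad n :=
  Finset.dvd_prod_of_mem _ (Nat.mem_primeFactors.2 ⟨hp, h, hn⟩)

theorem rad_pos (n : ℕ) : 0 < rad n :=
  Finset.prod_pos fun _ h => (Nat.prime_of_mem_primeFactors h).pos

/-! ### The wreath step -/

section Step

variable {W A Q : Type u} [Group W] [CommGroup A] [CommGroup Q]

/-- The crossed homomorphism of a wreath product with a cyclic group. -/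
def Cocycle.wreath (C : Cocycle W A) : Cocycle (W ≀ᵣ Q) ((Q → A) × Q) where
  act :=
    { toFun := fun w =>
        { toFun := fun x => (fun q => C.act (w.left q) (x.1 (w.right⁻¹ * q)), x.2)
          invFun := fun x => (fun q => (C.act (w.left (w.right * q))).symm (x.1 (w.right * q)), x.2)
          left_inv := fun x => by simp
          right_inv := fun x => by simp
          map_mul' := fun x y => Prod.ext (funext fun q => map_mul (C.act _) _ _) rfl }
      map_one' := MulEquiv.ext fun x => Prod.ext (funext fun q => by simp) rfl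
      map_mul' := fun a b => MulEquiv.ext fun x => Prod.ext (funext fun q => by
        simp [mul_assoc]) rfl }
  π w := (fun q => C.π (w.left q), w.right)
  cocycle a b := Prod.ext (funext fun q => C.cocycle _ _) rfl
  bij := by
    refine ⟨fun a b h => ?_, fun x => ?_⟩
    · exact RegularWreathProduct.ext
        (funext fun q => C.bij.1 (congrFun (congrArg Prod.fst h) q))
        (congrArg Prod.snd h :)
    · choose l hl using fun q => C.bij.2 (x.1 q)
      exact ⟨⟨l, x.2⟩, Prod.ext (funext hl) rfl⟩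

end Step

/-! ### The monomial group -/

section Mono

variable {W A : Type u} [Group W] [CommGroup A]

/-- Triples `(c, λ, q)`, acting on functions on `A` as `c`, `λ` and a translate of `q`. -/
@[ext]
structure Mono (C : Cocycle W A) (n : ℕ) (he : ∀ a : A, a ^ n = 1) where
  c : rootsOfUnity n ℂ
  l : A →* rootsOfUnity n ℂ
  q : W

variable {C : Cocycle W A} {n : ℕ} {he : ∀ a : A, a ^ n = 1}

theorem π_one (C : Cocycle W A) : C.π 1 = 1 := by
  have h := C.cocycle 1 1
  rw [mul_one, map_one, MulAut.one_apply, left_eq_mul] at h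
  exact h

/-- Pullback of a character along the action. -/
def pull (C : Cocycle W A) (l : A →* rootsOfUnity n ℂ) (q : W) : A →* rootsOfUnity n ℂ :=
  l.comp (C.act q⁻¹).toMonoidHom

theorem pull_apply (l : A →* rootsOfUnity n ℂ) (q : W) (a : A) :
    pull C l q a = l (C.act q⁻¹ a) := rfl

/-- The point map of `q`. -/
def mv (C : Cocycle W A) (q : W) (a : A) : A := C.π q * C.act q a

theorem mv_one (a : A) : mv C 1 a = a := by simp [mv, π_one]

theorem mv_mul (q q' : W) (a : A) : mv C (q * q') a = mv C q (mv C q' a) := by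
  simp [mv, C.cocycle, mul_assoc]

instance : Mul (Mono C n he) where
  mul x y :=
    ⟨x.c * y.c * (y.l (C.π x.q⁻¹)), x.l * pull C y.l x.q, x.q * y.q⟩

theorem mul_def (x y : Mono C n he) :
    x * y = ⟨x.c * y.c * (y.l (C.π x.q⁻¹)), x.l * pull C y.l x.q, x.q * y.q⟩ := rfl

instance : One (Mono C n he) where one := ⟨1, 1, 1⟩

theorem one_def : (1 : Mono C n he) = ⟨1, 1, 1⟩ := rfl

instance : Inv (Mono C n he) where
  inv x := ⟨x.c⁻¹ * (x.l (C.π x.q))⁻¹, (pull C x.l x.q⁻¹)⁻¹, x.q⁻¹⟩

theorem inv_def (x : Mono C n he) :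
    x⁻¹ = ⟨x.c⁻¹ * (x.l (C.π x.q))⁻¹, (pull C x.l x.q⁻¹)⁻¹, x.q⁻¹⟩ := rfl

instance : Group (Mono C n he) where
  mul_assoc x y z := by
    refine Mono.ext ?_ ?_ (mul_assoc _ _ _)
    · simp only [mul_def, mul_inv_rev, C.cocycle, map_mul, MonoidHom.mul_apply, pull_apply]
      simp only [mul_comm, mul_left_comm, mul_assoc]
    · ext a
      simp only [mul_def, MonoidHom.mul_apply, pull_apply, mul_inv_rev, map_mul,
        MulAut.mul_apply, mul_assoc]
  one_mul x := by
    refine Mono.ext ?_ ?_ (one_mul _)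
    · simp [mul_def, one_def, π_one]
    · ext a; simp [mul_def, one_def, pull_apply]
  mul_one x := by
    refine Mono.ext ?_ ?_ (mul_one _)
    · simp [mul_def, one_def]
    · ext a; simp [mul_def, one_def, pull_apply]
  inv_mul_cancel x := by
    refine Mono.ext ?_ ?_ (inv_mul_cancel _)
    · simp only [mul_def, one_def, inv_def, inv_inv]
      rw [mul_assoc, mul_comm x.c⁻¹, mul_assoc]
      simp [mul_comm, mul_left_comm]
    · ext a; simp [mul_def, one_def, inv_def, pull_apply]

/-- The coefficient of a triple at the point `a`. -/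
def coef (x : Mono C n he) (a : A) : ℂ := ((x.c * x.l a : rootsOfUnity n ℂ) : ℂˣ)

theorem coef_mul (x y : Mono C n he) (a : A) :
    coef (x * y) a = coef x a * coef y (mv C x.q⁻¹ a) := by
  simp only [coef, mul_def, MonoidHom.mul_apply, pull_apply, mv, map_mul,
    Subgroup.coe_mul, Units.val_mul]
  ring

/-- The monomial representation on functions on `A`. -/
def rep (C : Cocycle W A) (n : ℕ) (he : ∀ a : A, a ^ n = 1) :
    Representation ℂ (Mono C n he) (A → ℂ) where
  toFun x :=
    { toFun := fun f a => coef x a * f (mv C x.q⁻¹ a)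
      map_add' := fun f g => funext fun a => mul_add _ _ _
      map_smul' := fun c f => funext fun a => by simp [mul_left_comm] }
  map_one' := by
    refine LinearMap.ext fun f => funext fun a => ?_
    simp [one_def, coef, mv_one]
  map_mul' x y := by
    refine LinearMap.ext fun f => funext fun a => ?_
    show coef (x * y) a * f (mv C (x.q * y.q)⁻¹ a) =
      coef x a * (coef y (mv C x.q⁻¹ a) * f (mv C y.q⁻¹ (mv C x.q⁻¹ a)))
    rw [coef_mul, mul_inv_rev, mv_mul, mul_assoc]

theorem character_rep [Fintype A] [DecidableEq A] (x : Mono C n he) :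
    (rep C n he).character x = ∑ a, if mv C x.q⁻¹ a = a then coef x a else 0 := by
  rw [Representation.character, LinearMap.trace_eq_matrix_trace ℂ (Pi.basisFun ℂ A), Matrix.trace]
  refine Finset.sum_congr rfl fun a _ => ?_
  rw [Matrix.diag_apply, LinearMap.toMatrix_apply, Pi.basisFun_repr, Pi.basisFun_apply]
  show coef x a * (Pi.single a (1 : ℂ) : A → ℂ) (mv C x.q⁻¹ a) = _
  by_cases h : mv C x.q⁻¹ a = a
  · rw [if_pos h, h, Pi.single_eq_same, mul_one]
  · rw [if_neg h, Pi.single_eq_of_ne h, mul_zero]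

/-- The triples as a product type. -/
def equivProd (C : Cocycle W A) (n : ℕ) (he : ∀ a : A, a ^ n = 1) :
    Mono C n he ≃ rootsOfUnity n ℂ × (A →* rootsOfUnity n ℂ) × W where
  toFun x := (x.c, x.l, x.q)
  invFun y := ⟨y.1, y.2.1, y.2.2⟩
  left_inv _ := rfl
  right_inv _ := rfl

/-- Characters of a group of exponent dividing `n` take values in the `n`-th roots of unity. -/
def homEquiv (he : ∀ a : A, a ^ n = 1) : (A →* rootsOfUnity n ℂ) ≃ (A →* ℂˣ) where
  toFun l := (rootsOfUnity n ℂ).subtype.comp l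
  invFun l := l.codRestrict _ fun a => by
    rw [mem_rootsOfUnity, ← map_pow, he, map_one]
  left_inv l := rfl
  right_inv l := rfl

theorem card_homs [Finite A] (he : ∀ a : A, a ^ n = 1) :
    Nat.card (A →* rootsOfUnity n ℂ) = Nat.card A := by
  rw [Nat.card_congr (homEquiv he), CharBasicLinear.card_hom_units,
    show commutator A = ⊥ from (commutator_eq_bot_iff A).2 ⟨⟨mul_comm⟩⟩, Subgroup.index_bot]

theorem exists_apply_ne_one [Finite A] (he : ∀ a : A, a ^ n = 1) {a : A} (ha : a ≠ 1) :
    ∃ l : A →* rootsOfUnity n ℂ, l a ≠ 1 := by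
  haveI : NeZero (Monoid.exponent A) := ⟨Monoid.exponent_ne_zero_of_finite⟩
  obtain ⟨l, hl⟩ := CommGroup.exists_apply_ne_one_of_hasEnoughRootsOfUnity A ℂ ha
  exact ⟨(homEquiv he).symm l, fun h => hl (congrArg Subtype.val h)⟩

variable [Fintype A] [DecidableEq A] [Fintype W] [NeZero n]

noncomputable instance instFintypeRoots (m : ℕ) [NeZero m] : Fintype (rootsOfUnity m ℂ) :=
  Fintype.ofFinite _

noncomputable instance : Fintype (A →* rootsOfUnity n ℂ) :=
  Fintype.ofInjective (fun l a => l a) fun _ _ h => MonoidHom.ext (congrFun h)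

noncomputable instance : Fintype (Mono C n he) := Fintype.ofEquiv _ (equivProd C n he).symm

theorem card_mono : Nat.card (Mono C n he) = n * (Nat.card A * Nat.card W) := by
  rw [Nat.card_congr (equivProd C n he), Nat.card_prod, Nat.card_prod, card_homs he,
    HasEnoughRootsOfUnity.natCard_rootsOfUnity ℂ n]

theorem sum_homs (he : ∀ a : A, a ^ n = 1) {a b : A} :
    ∑ l : A →* rootsOfUnity n ℂ, ((l a : ℂˣ) : ℂ) * conj ((l b : ℂˣ) : ℂ) =
      if a = b then (Nat.card A : ℂ) else 0 := by
  classical
  have hab : ∀ l : A →* rootsOfUnity n ℂ,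
      ((l a : ℂˣ) : ℂ) * conj ((l b : ℂˣ) : ℂ) = ((l (a * b⁻¹) : ℂˣ) : ℂ) := fun l => by
    rw [map_mul, map_inv, Subgroup.coe_mul, InvMemClass.coe_inv, Units.val_mul,
      Units.val_inv_eq_inv_val]
    congr 1
    refine (Complex.inv_eq_conj ?_).symm
    exact Complex.norm_eq_one_of_pow_eq_one
      (by rw [← Units.val_pow_eq_pow_val, (mem_rootsOfUnity _ _).1 (l b).2, Units.val_one])
      (NeZero.ne n)
  simp only [hab]
  split_ifs with h
  · subst h
    simp only [mul_inv_cancel, map_one, OneMemClass.coe_one, Units.val_one, Finset.sum_const, Finset.card_univ, nsmul_eq_mul, mul_one]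
    rw [← card_homs he, Nat.card_eq_fintype_card]
  · obtain ⟨l0, hl0⟩ := exists_apply_ne_one he (a := a * b⁻¹)
      (fun h' => h (mul_inv_eq_one.1 h'))
    have h1 : ((l0 (a * b⁻¹) : ℂˣ) : ℂ) * ∑ l : A →* rootsOfUnity n ℂ, ((l (a * b⁻¹) : ℂˣ) : ℂ) =
        ∑ l : A →* rootsOfUnity n ℂ, ((l (a * b⁻¹) : ℂˣ) : ℂ) := by
      rw [Finset.mul_sum]
      refine Fintype.sum_equiv (Equiv.mulLeft l0) _ _ fun l => ?_
      simp
    by_contra hne
    exact hl0 (Subtype.ext (Units.ext
      (mul_right_cancel₀ hne (h1.trans (one_mul _).symm))))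

theorem irreducible_rep : classInner (rep C n he).character (rep C n he).character = 1 := by
  classical
  let inst : MulAction W A := { smul := mv C, one_smul := mv_one, mul_smul := mv_mul }
  haveI : MulAction.IsPretransitive W A := ⟨fun x y => by
    obtain ⟨q, hq⟩ := C.bij.2 x
    obtain ⟨q', hq'⟩ := C.bij.2 y
    refine ⟨q' * q⁻¹, ?_⟩
    have h1 : ∀ w : W, mv C w 1 = C.π w := fun w => by simp [mv]
    show mv C (q' * q⁻¹) x = y
    rw [← hq, ← h1 q, ← mv_mul, inv_mul_cancel_right, h1, hq']⟩
  have hburn : ∑ q : W, (∑ a : A, if mv C q⁻¹ a = a then 1 else 0) = Fintype.card W := by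
    have h := MulAction.sum_card_fixedBy_eq_card_orbits_mul_card_group W A
    have h1 : Fintype.card (MulAction.orbitRel.Quotient W A) = 1 := by
      refine Fintype.card_eq_one_iff.2 ⟨Quotient.mk'' 1, fun o => ?_⟩
      induction o using Quotient.inductionOn' with
      | h a => exact Quotient.sound' (MulAction.exists_smul_eq W 1 a)
    rw [h1, one_mul] at h
    rw [← h]
    refine Fintype.sum_equiv (Equiv.inv W) _ _ fun q => ?_
    rw [Finset.sum_boole, Fintype.card_subtype]
    rfl
  rw [classInner, card_mono, ← Equiv.sum_comp (equivProd C n he).symm, Fintype.sum_prod_type]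
  have key : ∀ c : rootsOfUnity n ℂ, ∑ y : (A →* rootsOfUnity n ℂ) × W,
      (rep C n he).character ((equivProd C n he).symm (c, y)) *
        conj ((rep C n he).character ((equivProd C n he).symm (c, y))) =
      (Nat.card A : ℂ) * Fintype.card W := by
    intro c
    rw [Fintype.sum_prod_type, Finset.sum_comm, ← hburn, Nat.cast_sum, Finset.mul_sum]
    refine Finset.sum_congr rfl fun q _ => ?_
    simp only [character_rep, equivProd, Equiv.coe_fn_symm_mk, coef, Finset.sum_mul,
      map_sum, Finset.mul_sum]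
    rw [Finset.sum_comm, Nat.cast_sum, Finset.mul_sum]
    refine Finset.sum_congr rfl fun a _ => ?_
    by_cases ha : mv C q⁻¹ a = a
    · simp only [if_pos ha, Nat.cast_one, mul_one]
      rw [Finset.sum_comm]
      have hc : ((c : ℂˣ) : ℂ) * conj ((c : ℂˣ) : ℂ) = 1 := by
        rw [Complex.mul_conj', Complex.norm_eq_one_of_pow_eq_one
          (by rw [← Units.val_pow_eq_pow_val, (mem_rootsOfUnity _ _).1 c.2, Units.val_one])
          (NeZero.ne n), Complex.ofReal_one, one_pow]
      rw [Finset.sum_eq_single a]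
      · simp only [if_pos ha]
        rw [Finset.sum_congr rfl (fun l _ => show
          ((c * l a : rootsOfUnity n ℂ) : ℂˣ) * conj (((c * l a : rootsOfUnity n ℂ) : ℂˣ) : ℂ) =
            ((l a : ℂˣ) : ℂ) * conj ((l a : ℂˣ) : ℂ) by
          rw [Subgroup.coe_mul, Units.val_mul, map_mul, mul_mul_mul_comm, hc, one_mul]),
          sum_homs he, if_pos rfl]
      · intro b _ hb
        by_cases hb' : mv C q⁻¹ b = b
        · simp only [if_pos hb']
          rw [Finset.sum_congr rfl (fun l _ => show
            ((c * l b : rootsOfUnity n ℂ) : ℂˣ) * conj (((c * l a : rootsOfUnity n ℂ) : ℂˣ) : ℂ) =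
              ((l b : ℂˣ) : ℂ) * conj ((l a : ℂˣ) : ℂ) by
            rw [Subgroup.coe_mul, Subgroup.coe_mul, Units.val_mul, Units.val_mul, map_mul,
              mul_mul_mul_comm, hc, one_mul]),
            sum_homs he, if_neg hb]
        · simp [hb']
      · simp
    · simp [ha]
  simp only [key, Finset.sum_const, Finset.card_univ, nsmul_eq_mul]
  have hn0 : (n : ℂ) ≠ 0 := Nat.cast_ne_zero.2 (NeZero.ne n)
  have hA : (Nat.card A : ℂ) ≠ 0 := Nat.cast_ne_zero.2 Nat.card_pos.ne'
  have hW : (Fintype.card W : ℂ) ≠ 0 := Nat.cast_ne_zero.2 Fintype.card_ne_zero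
  rw [← Nat.card_eq_fintype_card (α := rootsOfUnity n ℂ),
    HasEnoughRootsOfUnity.natCard_rootsOfUnity ℂ n, Nat.card_eq_fintype_card (α := W)]
  push_cast
  field_simp

/-- An element acting as a scalar is a scalar triple. -/
theorem scalar_iff (x : Mono C n he) {z : ℂ} (h : rep C n he x = z • LinearMap.id) :
    x.q = 1 ∧ x.l = 1 ∧ z = ((x.c : ℂˣ) : ℂ) := by
  have hp : ∀ (f : A → ℂ) (a : A), coef x a * f (mv C x.q⁻¹ a) = z * f a := fun f a =>
    congrFun (LinearMap.congr_fun h f) a
  have hne : ∀ a, coef x a ≠ 0 := fun a => Units.ne_zero _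
  have hfix : mv C x.q⁻¹ 1 = 1 := by
    by_contra hne'
    have h1 := hp (Pi.single (mv C x.q⁻¹ 1) 1) 1
    rw [Pi.single_eq_same, Pi.single_eq_of_ne (Ne.symm hne'), mul_one, mul_zero] at h1
    exact hne 1 h1
  have hq : x.q = 1 := by
    rw [mv, map_one, mul_one] at hfix
    exact inv_eq_one.1 (C.bij.1 (hfix.trans (π_one C).symm))
  have hc : ∀ a, coef x a = z := fun a => by
    have h1 := hp (fun _ => 1) a
    simpa using h1
  have h1 : z = ((x.c : ℂˣ) : ℂ) := by rw [← hc 1]; simp [coef]
  refine ⟨hq, MonoidHom.ext fun a => ?_, h1⟩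
  have h2 : coef x a = coef x 1 := by rw [hc, hc]
  simp only [coef, map_one, mul_one] at h2
  have h3 : x.c * x.l a = x.c := Subtype.ext (Units.ext h2)
  simpa using h3

theorem center_eq (C : Cocycle W A) (n : ℕ) [NeZero n] (he : ∀ a : A, a ^ n = 1) :
    (Subgroup.center (Mono C n he) : Set (Mono C n he)) = {x | x.q = 1 ∧ x.l = 1} := by
  ext x
  constructor
  · intro hx
    haveI : (rep C n he).IsIrreducible :=
      (isIrreducible_iff_classInner _).2 irreducible_rep
    obtain ⟨z, hz⟩ := exists_scalar_of_mem_center (rep C n he) hx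
    exact ⟨(scalar_iff x hz).1, (scalar_iff x hz).2.1⟩
  · rintro ⟨hq, hl⟩
    rw [SetLike.mem_coe, Subgroup.mem_center_iff]
    intro y
    refine Mono.ext ?_ ?_ ?_
    · simp [mul_def, hq, hl, π_one, mul_comm]
    · ext a; simp [mul_def, hq, hl, pull_apply]
    · simp [mul_def, hq]

theorem card_center (C : Cocycle W A) (n : ℕ) [NeZero n] (he : ∀ a : A, a ^ n = 1) :
    Nat.card (Subgroup.center (Mono C n he)) = n := by
  have h := center_eq C n he
  refine (Nat.card_congr (β := rootsOfUnity n ℂ) ?_).trans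
    (HasEnoughRootsOfUnity.natCard_rootsOfUnity ℂ n)
  exact
    { toFun := fun x => x.1.c
      invFun := fun c => ⟨⟨c, 1, 1⟩, h.symm.subset ⟨rfl, rfl⟩⟩
      left_inv := fun x => Subtype.ext (Mono.ext rfl (h.subset x.2).2.symm (h.subset x.2).1.symm)
      right_inv := fun c => rfl }

/-- The embedding of `W`. -/
def embW (C : Cocycle W A) (n : ℕ) (he : ∀ a : A, a ^ n = 1) : W →* Mono C n he where
  toFun q := ⟨1, 1, q⟩
  map_one' := rfl
  map_mul' a b := Mono.ext (by simp [mul_def]) (by ext; simp [mul_def, pull_apply]) rfl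

end Mono

end Cfsg.Agent.CocycleMonomial80
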