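import Mathlib
import Cfsg.Agent.Lib.Model108

/-!
Integer vectors with the Gram matrix of the virtual characters vanishing outside the exceptional
set of `3^3 : 2^2` determine fifteen signed basis vectors.
-/

set_option autoImplicit false

open Finset

namespace Cfsg.Agent.Coherence108

variable {I : Type*} [Fintype I] [DecidableEq I]

/-- Scalar product. -/
def dot (f g : I → ℤ) : ℤ := ∑ x, f x * g x

/-- Signed basis vector. -/
def uv (s : ℤ) (x : I) : I → ℤ := fun y => if x = y then s else 0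

lemma dot_add_left (f g h : I → ℤ) : dot (f + g) h = dot f h + dot g h := by
  simp [dot, add_mul, Finset.sum_add_distrib]

lemma dot_sub_left (f g h : I → ℤ) : dot (f - g) h = dot f h - dot g h := by
  simp [dot, sub_mul, Finset.sum_sub_distrib]

lemma dot_comm (f g : I → ℤ) : dot f g = dot g f := by simp [dot, mul_comm]

lemma dot_uv (s : ℤ) (x : I) (g : I → ℤ) : dot (uv s x) g = s * g x := by
  rw [dot, Finset.sum_eq_single x (fun y _ hy => by simp [uv, Ne.symm hy]) (by simp)]
  simp [uv]

lemma uv_apply (s : ℤ) (x y : I) : uv s x y = if x = y then s else 0 := rfl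

lemma sq_pos_int {z : ℤ} (h : z ≠ 0) : 1 ≤ z * z := by
  rcases lt_or_gt_of_ne h with h | h <;> nlinarith

/-- Squares on a subset are bounded by the norm. -/
lemma sum_sq_le (f : I → ℤ) (s : Finset I) : ∑ x ∈ s, f x * f x ≤ dot f f :=
  Finset.sum_le_sum_of_subset_of_nonneg (Finset.subset_univ s) fun _ _ _ => mul_self_nonneg _

lemma eq_zero_of_norm {f : I → ℤ} (s : Finset I) (h : dot f f ≤ ∑ x ∈ s, f x * f x) (x : I)
    (hx : x ∉ s) : f x = 0 := by
  by_contra hne
  have h1 := sum_sq_le f (insert x s)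
  rw [Finset.sum_insert hx] at h1
  have := sq_pos_int hne
  omega

lemma norm_one {f : I → ℤ} (h : dot f f = 1) : ∃ x s, s * s = 1 ∧ f = uv s x := by
  obtain ⟨x, -, hx⟩ := Finset.exists_ne_zero_of_sum_ne_zero
    (show ∑ x, f x * f x ≠ 0 from by rw [show (∑ x, f x * f x) = 1 from h]; exact one_ne_zero)
  have hfx : f x ≠ 0 := fun e => hx (by rw [e, mul_zero])
  have h1 := sum_sq_le f {x}
  rw [Finset.sum_singleton, h] at h1
  have h2 := sq_pos_int hfx
  refine ⟨x, f x, by omega, funext fun y => ?_⟩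
  by_cases hy : x = y
  · simp [uv, hy]
  · rw [uv_apply, if_neg hy]
    exact eq_zero_of_norm {x} (by rw [Finset.sum_singleton, h]; omega) y (by simp [Ne.symm hy])

lemma norm_two {f : I → ℤ} (h : dot f f = 2) :
    ∃ x y s t, x ≠ y ∧ s * s = 1 ∧ t * t = 1 ∧ f = uv s x + uv t y := by
  obtain ⟨x, -, hx⟩ := Finset.exists_ne_zero_of_sum_ne_zero
    (show ∑ x, f x * f x ≠ 0 from by rw [show (∑ x, f x * f x) = 2 from h]; exact two_ne_zero)
  have hfx : f x ≠ 0 := fun e => hx (by rw [e, mul_zero])
  have h1 := sum_sq_le f {x}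
  rw [Finset.sum_singleton, h] at h1
  have h2 := sq_pos_int hfx
  have h3 : f x * f x = 1 := by
    rcases (show f x * f x = 1 ∨ f x * f x = 2 by omega) with e | e
    · exact e
    · exfalso
      have : -2 < f x ∧ f x < 2 := by constructor <;> nlinarith
      obtain ⟨l1, l2⟩ := this
      interval_cases f x <;> omega
  have hd : dot (f - uv (f x) x) (f - uv (f x) x) = 1 := by
    rw [dot_sub_left, dot_comm f, dot_sub_left, dot_uv, dot_comm (uv (f x) x) (f - _), dot_sub_left,
      dot_comm f (uv (f x) x), dot_uv, dot_uv]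
    simp [uv, h, h3]
  obtain ⟨y, t, ht, hy⟩ := norm_one hd
  refine ⟨x, y, f x, t, ?_, h3, ht, ?_⟩
  · rintro rfl
    have := congrFun hy x
    simp [uv] at this
    rw [← this] at ht; simp at ht
  · rw [← hy]; simp

/-- Two orthogonal signed pairs of equal weighted sum are disjoint. -/
lemma disj_aux {n : I → ℤ} (hn : ∀ x, 0 < n x) {x y y' : I} {p q p' q' : ℤ} (hxy : x ≠ y)
    (hxy' : x ≠ y') (hp : p * p = 1) (hq : q * q = 1) (hp' : p' * p' = 1) (hq' : q' * q' = 1)
    (hd : p * n x + q * n y = -1) (hd' : p' * n x + q' * n y' = -1)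
    (ho : dot (uv p x + uv q y) (uv p' x + uv q' y') = 0) : False := by
  rw [dot_add_left, dot_uv, dot_uv] at ho
  simp only [Pi.add_apply, uv_apply, if_true, if_neg hxy, if_neg (Ne.symm hxy'), add_zero,
    zero_add] at ho
  by_cases h : y' = y
  · subst h
    rw [if_pos rfl] at ho
    have := hn x; have := hn y'
    rcases mul_self_eq_one_iff.mp hp with rfl | rfl <;>
      rcases mul_self_eq_one_iff.mp hq with rfl | rfl <;>
      rcases mul_self_eq_one_iff.mp hp' with rfl | rfl <;>
      rcases mul_self_eq_one_iff.mp hq' with rfl | rfl <;> omega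
  · rw [if_neg h, mul_zero, add_zero] at ho
    rcases mul_eq_zero.mp ho with h0 | h0
    · rw [h0] at hp; simp at hp
    · rw [h0] at hp'; simp at hp'

/-- Differences: a norm two vector of weighted sum zero. -/
lemma norm_two_diff {f n : I → ℤ} (hn : ∀ x, 0 < n x) (h : dot f f = 2) (h0 : dot f n = 0) :
    ∃ x y, x ≠ y ∧ f = uv 1 x + uv (-1) y := by
  obtain ⟨x, y, s, t, hxy, hs, ht, rfl⟩ := norm_two h
  rw [dot_add_left, dot_uv, dot_uv] at h0
  have hx := hn x
  have hy := hn y
  rcases mul_self_eq_one_iff.mp hs with rfl | rfl <;> rcases mul_self_eq_one_iff.mp ht with rfl | rfl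
  · omega
  · exact ⟨x, y, hxy, rfl⟩
  · exact ⟨y, x, hxy.symm, add_comm _ _⟩
  · omega

/-- The star lemma. -/
lemma star {n : I → ℤ} (hn : ∀ x, 0 < n x) (D : Fin 4 → I → ℤ) (hnorm : ∀ a, dot (D a) (D a) = 2)
    (hip : ∀ a b, a ≠ b → dot (D a) (D b) = 1) (h0 : ∀ a, dot (D a) n = 0) :
    ∃ (z : I) (s : ℤ) (w : Fin 4 → I), s * s = 1 ∧ (∀ a, w a ≠ z) ∧ Function.Injective w ∧
      ∀ a, D a = uv (-s) z + uv s (w a) := by
  choose X Y hXY hD using fun a => norm_two_diff hn (hnorm a) (h0 a)
  have hval : ∀ a b, a ≠ b →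
      ((if X b = X a then (1:ℤ) else 0) + (if Y b = X a then -1 else 0)) -
      ((if X b = Y a then (1:ℤ) else 0) + (if Y b = Y a then -1 else 0)) = 1 := by
    intro a b hab
    have := hip a b hab
    rw [hD a, hD b, dot_add_left, dot_uv, dot_uv] at this
    simp only [Pi.add_apply, uv_apply] at this
    linarith
  have pair : ∀ a b, a ≠ b → (X a = X b ∧ Y a ≠ Y b) ∨ (Y a = Y b ∧ X a ≠ X b) := by
    intro a b hab
    have := hval a b hab
    have := hXY a
    have := hXY b
    by_cases h1 : X b = X a <;> by_cases h2 : Y b = Y a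
    · simp [h1, h2, hXY a, (hXY a).symm] at *
    · exact Or.inl ⟨h1.symm, fun e => h2 e.symm⟩
    · exact Or.inr ⟨h2.symm, fun e => h1 e.symm⟩
    · exfalso
      have h := hval a b hab
      rw [if_neg h1, if_neg h2] at h
      split_ifs at h with h3 h4 <;> omega
  have hall : (∀ a, X a = X 0) ∨ (∀ a, Y a = Y 0) := by
    by_contra hcon
    push Not at hcon
    obtain ⟨⟨a, ha⟩, ⟨b, hb⟩⟩ := hcon
    have ha0 : a ≠ 0 := fun e => ha (by rw [e])
    have hb0 : b ≠ 0 := fun e => hb (by rw [e])
    obtain ⟨ya, -⟩ := (pair a 0 ha0).resolve_left fun h => ha h.1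
    obtain ⟨xb, -⟩ := (pair b 0 hb0).resolve_right fun h => hb h.1
    have hab : a ≠ b := fun e => hb (e ▸ ya)
    rcases pair a b hab with ⟨h, -⟩ | ⟨h, -⟩
    · exact ha (h.trans xb)
    · exact hb (h.symm.trans ya)
  rcases hall with hc | hc
  · refine ⟨X 0, -1, Y, by norm_num, fun a e => hXY a ((hc a).trans e.symm), fun a b e => ?_,
      fun a => by rw [hD a, hc a, neg_neg]⟩
    by_contra hab
    rcases pair a b hab with ⟨-, h⟩ | ⟨-, h⟩
    · exact h e
    · exact h ((hc a).trans (hc b).symm)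
  · refine ⟨Y 0, 1, X, by norm_num, fun a e => hXY a (e.trans (hc a).symm), fun a b e => ?_,
      fun a => by rw [hD a, hc a, add_comm]⟩
    by_contra hab
    rcases pair a b hab with ⟨-, h⟩ | ⟨-, h⟩
    · exact h ((hc a).trans (hc b).symm)
    · exact h e

/-- Conclusion of the coherence argument. -/
theorem coherence (e : I) (n : I → ℤ) (hne : n e = 1) (hn : ∀ x, 0 < n x)
    (V : Fin 11 → I → ℤ)
    (hgram : ∀ a b, dot (V a) (V b) = ∑ c, Model108.A a c * Model108.A b c)
    (he : ∀ a, V a e = Model108.A a 0) (h0 : ∀ a, dot (V a) n = 0) :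
    ∃ (σ : Fin 15 → I) (sg : Fin 15 → ℤ), Function.Injective σ ∧ (∀ c, sg c * sg c = 1) ∧
      σ 0 = e ∧ sg 0 = 1 ∧ ∀ a x, V a x = ∑ c, Model108.A a c * (if σ c = x then sg c else 0) := by
  let Al : Fin 3 → I → ℤ := ![V 0, V 1, V 2]
  let Be : Fin 3 → I → ℤ := ![V 3, V 4, V 5]
  let De : Fin 4 → I → ℤ := ![V 7, V 8, V 9, V 10]
  -- basic scalar products
  have gAA : ∀ j k, dot (Al j) (Al k) = if j = k then 3 else 1 := by
    intro j k; fin_cases j <;> fin_cases k <;> (simp only [Al]; exact (hgram _ _).trans (by decide))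
  have gAD : ∀ j a, dot (Al j) (De a) = 0 := by
    intro j a; fin_cases j <;> fin_cases a <;> (simp only [Al, De]; exact (hgram _ _).trans (by decide))
  have gDD : ∀ a b, dot (De a) (De b) = if a = b then 2 else 1 := by
    intro a b; fin_cases a <;> fin_cases b <;> (simp only [De]; exact (hgram _ _).trans (by decide))
  have gBA : ∀ j k, dot (Be j) (Al k) = if j = k then 0 else 1 := by
    intro j k; fin_cases j <;> fin_cases k <;> (simp only [Be, Al]; exact (hgram _ _).trans (by decide))
  have gBB : ∀ j k, dot (Be j) (Be k) = if j = k then 3 else 1 := by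
    intro j k; fin_cases j <;> fin_cases k <;> (simp only [Be]; exact (hgram _ _).trans (by decide))
  have gBD : ∀ j a, dot (Be j) (De a) = 0 := by
    intro j a; fin_cases j <;> fin_cases a <;> (simp only [Be, De]; exact (hgram _ _).trans (by decide))
  have gBG : ∀ j, dot (Be j) (V 6) = 2 := by
    intro j; fin_cases j <;> (simp only [Be]; exact (hgram _ _).trans (by decide))
  have gAG : ∀ j, dot (Al j) (V 6) = 2 := by
    intro j; fin_cases j <;> (simp only [Al]; exact (hgram _ _).trans (by decide))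
  have gDG : ∀ a, dot (De a) (V 6) = 1 := by
    intro a; fin_cases a <;> (simp only [De]; exact (hgram _ _).trans (by decide))
  have gGG : dot (V 6) (V 6) = 5 := (hgram _ _).trans (by decide)
  have eA : ∀ j, Al j e = 1 := by intro j; fin_cases j <;> exact he _
  have eB : ∀ j, Be j e = 0 := by intro j; fin_cases j <;> exact he _
  have eD : ∀ a, De a e = 0 := by intro a; fin_cases a <;> exact he _
  have eG : V 6 e = 1 := he 6
  have zA : ∀ j, dot (Al j) n = 0 := by intro j; fin_cases j <;> exact h0 _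
  have zD : ∀ a, dot (De a) n = 0 := by intro a; fin_cases a <;> exact h0 _
  -- the degree four part
  obtain ⟨z, s, w, hs, hwz, hwinj, hD⟩ := star hn De (fun a => by rw [gDD, if_pos rfl])
    (fun a b h => by rw [gDD, if_neg h]) zD
  have hs0 : s ≠ 0 := fun h => by rw [h] at hs; simp at hs
  have hze : z ≠ e := fun h => by
    have := eD 0
    rw [hD 0, h] at this
    have hne' : w 0 ≠ e := fun h' => hwz 0 (by rw [h', h])
    simp [uv, hne'] at this
    exact hs0 this
  have hwe : ∀ a, w a ≠ e := fun a h => by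
    have := eD a
    rw [hD a] at this
    simp [uv, h, fun h' : z = e => hze h'] at this
    exact hs0 this
  have hDdot : ∀ (f : I → ℤ) a, dot (De a) f = s * (f (w a) - f z) := fun f a => by
    rw [hD a, dot_add_left, dot_uv, dot_uv]; ring
  -- the α's
  have hAl : ∀ j, ∃ x y p q, x ≠ y ∧ p * p = 1 ∧ q * q = 1 ∧ x ≠ e ∧ y ≠ e ∧
      Al j = uv 1 e + (uv p x + uv q y) := by
    intro j
    have hd : dot (Al j - uv 1 e) (Al j - uv 1 e) = 2 := by
      rw [dot_sub_left, dot_comm (Al j), dot_sub_left, dot_comm (uv 1 e) (Al j - _), dot_sub_left,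
        dot_comm (Al j) (uv 1 e), dot_uv, dot_uv, gAA, if_pos rfl, eA]
      simp [uv]
    obtain ⟨x, y, p, q, hxy, hp, hq, hf⟩ := norm_two hd
    have hx0 : (Al j - uv 1 e) e = 0 := by simp [uv, eA]
    rw [hf] at hx0
    refine ⟨x, y, p, q, hxy, hp, hq, ?_, ?_, by rw [← hf]; simp⟩
    · rintro rfl
      simp [uv, hxy.symm] at hx0
      rw [hx0] at hp; simp at hp
    · rintro rfl
      simp [uv, hxy] at hx0
      rw [hx0] at hq; simp at hq
  choose x y p q hxy hp hq hxe hye hA using hAl
  have hAX : ∀ j, Al j z = 0 ∧ ∀ a, Al j (w a) = 0 := by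
    intro j
    have heq : ∀ a, Al j (w a) = Al j z := fun a => by
      have := gAD j a
      rw [dot_comm, hDdot] at this
      exact sub_eq_zero.mp ((mul_eq_zero.mp this).resolve_left hs0)
    have h := sum_sq_le (Al j) (insert e (insert z (Finset.univ.image w)))
    rw [Finset.sum_insert (by simp [Ne.symm hze, hwe]), Finset.sum_insert (by simp [hwz]),
      Finset.sum_image fun a _ b _ h => hwinj h, gAA, if_pos rfl, eA,
      Fin.sum_univ_four, heq, heq, heq, heq] at h
    have hz0 : Al j z = 0 := by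
      by_contra h'
      have := sq_pos_int h'
      omega
    exact ⟨hz0, fun a => (heq a).trans hz0⟩
  have hAsupp : ∀ j k, j ≠ k → x j ≠ x k ∧ x j ≠ y k ∧ y j ≠ x k ∧ y j ≠ y k := by
    intro j k hjk
    have h := gAA j k
    rw [if_neg hjk, hA j, hA k, dot_add_left, dot_add_left, dot_uv, dot_uv, dot_uv] at h
    simp [uv, hxe k, hye k, Ne.symm (hxe j), Ne.symm (hye j)] at h
    have ho : dot (uv (p j) (x j) + uv (q j) (y j)) (uv (p k) (x k) + uv (q k) (y k)) = 0 := by
      rw [dot_add_left, dot_uv, dot_uv]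
      simp only [Pi.add_apply, uv_apply]
      linarith
    have d1 := zA j
    have d2 := zA k
    rw [hA j, dot_add_left, dot_add_left, dot_uv, dot_uv, dot_uv, hne] at d1
    rw [hA k, dot_add_left, dot_add_left, dot_uv, dot_uv, dot_uv, hne] at d2
    refine ⟨fun e' => ?_, fun e' => ?_, fun e' => ?_, fun e' => ?_⟩
    · rw [← e'] at ho d2
      exact disj_aux hn (hxy j) (e' ▸ hxy k) (hp j) (hq j) (hp k) (hq k) (by linarith) (by linarith) ho
    · rw [← e', add_comm (uv (p k) _)] at ho
      rw [← e'] at d2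
      exact disj_aux hn (hxy j) (e' ▸ (hxy k).symm) (hp j) (hq j) (hq k) (hp k) (by linarith) (by linarith) ho
    · rw [← e', add_comm (uv (p j) _)] at ho
      rw [← e'] at d2
      exact disj_aux hn (hxy j).symm (e' ▸ hxy k) (hq j) (hp j) (hp k) (hq k) (by linarith) (by linarith) ho
    · rw [← e', add_comm (uv (p j) _), add_comm (uv (p k) _)] at ho
      rw [← e'] at d2
      exact disj_aux hn (hxy j).symm (e' ▸ (hxy k).symm) (hq j) (hp j) (hq k) (hp k) (by linarith) (by linarith) ho
  have hxw : ∀ j, x j ≠ z ∧ y j ≠ z ∧ (∀ a, x j ≠ w a) ∧ ∀ a, y j ≠ w a := by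
    intro j
    have hx : Al j (x j) ≠ 0 := by
      rw [hA j]; simp [uv, Ne.symm (hxe j), (hxy j).symm]
      intro h; have := hp j; rw [h] at this; simp at this
    have hy : Al j (y j) ≠ 0 := by
      rw [hA j]; simp [uv, Ne.symm (hye j), hxy j]
      intro h; have := hq j; rw [h] at this; simp at this
    exact ⟨fun h => hx (h ▸ (hAX j).1), fun h => hy (h ▸ (hAX j).1),
      fun a h => hx (h ▸ (hAX j).2 a), fun a h => hy (h ▸ (hAX j).2 a)⟩
  -- γ
  have hGpair : ∀ j, p j * V 6 (x j) + q j * V 6 (y j) = 1 := by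
    intro j
    have := gAG j
    rw [hA j, dot_add_left, dot_add_left, dot_uv, dot_uv, dot_uv, eG] at this
    linarith
  have hGX : ∀ a, V 6 (w a) = V 6 z + s := fun a => by
    have := gDG a
    rw [hDdot] at this
    have : V 6 (w a) - V 6 z = s := by linear_combination s * this - (V 6 (w a) - V 6 z) * hs
    linarith
  -- the finite support
  let S : Finset I := insert e (insert z ((Finset.univ.image w) ∪ (Finset.univ.image x ∪ Finset.univ.image y)))
  have hxinj : Function.Injective x := fun j k h => by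
    by_contra hjk; exact (hAsupp j k hjk).1 h
  have hyinj : Function.Injective y := fun j k h => by
    by_contra hjk; exact (hAsupp j k hjk).2.2.2 h
  have hxyne : ∀ j k, x j ≠ y k := fun j k h => by
    by_cases hjk : j = k
    · exact hxy j (hjk ▸ h)
    · exact (hAsupp j k hjk).2.1 h
  have hsumS : ∀ f : I → ℤ, ∑ i ∈ S, f i * f i = f e * f e + (f z * f z + ((∑ a, f (w a) * f (w a)) +
      ((∑ j, f (x j) * f (x j)) + ∑ j, f (y j) * f (y j)))) := by
    intro f
    rw [Finset.sum_insert (by simp [Ne.symm hze, hwe, hxe, hye]),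
      Finset.sum_insert (by simp [hwz, fun j => (hxw j).1, fun j => (hxw j).2.1]),
      Finset.sum_union (by
        simp only [Finset.disjoint_left, Finset.mem_image, Finset.mem_union, Finset.mem_univ,
          true_and, not_or, not_exists]
        rintro _ ⟨a, rfl⟩
        exact ⟨fun j h => (hxw j).2.2.1 a h, fun j h => (hxw j).2.2.2 a h⟩),
      Finset.sum_union (by
        simp only [Finset.disjoint_left, Finset.mem_image, Finset.mem_univ, true_and, not_exists]
        rintro _ ⟨j, rfl⟩ k h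
        exact hxyne j k h.symm),
      Finset.sum_image fun a _ b _ h => hwinj h, Finset.sum_image fun a _ b _ h => hxinj h,
      Finset.sum_image fun a _ b _ h => hyinj h]
  have hG5 := sum_sq_le (V 6) S
  rw [hsumS, gGG, eG, Fin.sum_univ_four, hGX 0, hGX 1, hGX 2, hGX 3, Fin.sum_univ_three,
    Fin.sum_univ_three] at hG5
  have hpair : ∀ j, 1 ≤ V 6 (x j) * V 6 (x j) + V 6 (y j) * V 6 (y j) := fun j => by
    by_contra h
    have h1 : V 6 (x j) = 0 := by
      by_contra hh; have := sq_pos_int hh; have := mul_self_nonneg (V 6 (y j)); omega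
    have h2 : V 6 (y j) = 0 := by
      by_contra hh; have := sq_pos_int hh; have := mul_self_nonneg (V 6 (x j)); omega
    have := hGpair j
    rw [h1, h2] at this
    simp at this
  have hz : V 6 z = -s := by
    by_contra hne'
    have h1 : 1 ≤ (V 6 z + s) * (V 6 z + s) := sq_pos_int (fun h => hne' (by linarith))
    have := hpair 0; have := hpair 1; have := hpair 2; have := mul_self_nonneg (V 6 z)
    omega
  have hGw : ∀ a, V 6 (w a) = 0 := fun a => by rw [hGX, hz]; ring
  have h16 : ∀ j, V 6 (x j) * V 6 (x j) + V 6 (y j) * V 6 (y j) = 1 := by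
    intro j
    rw [hz] at hG5
    have := hpair 0; have := hpair 1; have := hpair 2
    have : ((-s) * (-s) : ℤ) = 1 := by rw [neg_mul_neg]; exact hs
    fin_cases j <;> simp only [Fin.zero_eta, Fin.mk_one, Fin.reduceFinMk] <;> omega
  have hsel : ∀ j, ∃ L M eL eM, L ≠ M ∧ eL * eL = 1 ∧ eM * eM = 1 ∧
      ((L = x j ∧ M = y j) ∨ (L = y j ∧ M = x j)) ∧
      Al j = uv 1 e + (uv eL L + uv eM M) ∧ V 6 L = eL ∧ V 6 M = 0 := by
    intro j
    have h1 := h16 j
    have h2 := hGpair j
    by_cases hx0 : V 6 (x j) = 0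
    · refine ⟨y j, x j, q j, p j, (hxy j).symm, hq j, hp j, Or.inr ⟨rfl, rfl⟩, ?_, ?_, hx0⟩
      · rw [hA j]; ring
      · rw [hx0, mul_zero, zero_add] at h2
        linear_combination q j * h2 - V 6 (y j) * hq j
    · have := sq_pos_int hx0
      have hy0 : V 6 (y j) = 0 := by
        by_contra hh; have := sq_pos_int hh; omega
      refine ⟨x j, y j, p j, q j, hxy j, hp j, hq j, Or.inl ⟨rfl, rfl⟩, hA j, ?_, hy0⟩
      rw [hy0, mul_zero, add_zero] at h2
      linear_combination p j * h2 - V 6 (x j) * hp j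
  choose L M eL eM hLM heL heM hLMxy hA' hGL hGM using hsel
  have hG : V 6 = uv 1 e + (uv (-s) z + (uv (eL 0) (L 0) + (uv (eL 1) (L 1) + uv (eL 2) (L 2)))) := by
    have hzero : ∀ i, i ∉ S → V 6 i = 0 := fun i hi => eq_zero_of_norm S (by
      rw [gGG, hsumS, eG, hz, Fin.sum_univ_four, hGw 0, hGw 1, hGw 2, hGw 3, Fin.sum_univ_three,
        Fin.sum_univ_three]
      have := h16 0; have := h16 1; have := h16 2
      have : ((-s) * (-s) : ℤ) = 1 := by rw [neg_mul_neg]; exact hs
      omega) i hi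
    funext i
    by_cases hi : i ∈ S
    · simp only [S, Finset.mem_insert, Finset.mem_union, Finset.mem_image, Finset.mem_univ,
        true_and] at hi
      have hLe : ∀ j, L j ≠ e ∧ L j ≠ z ∧ (∀ a, L j ≠ w a) := fun j => by
        rcases hLMxy j with ⟨h, -⟩ | ⟨h, -⟩ <;> rw [h]
        exacts [⟨hxe j, (hxw j).1, (hxw j).2.2.1⟩, ⟨hye j, (hxw j).2.1, (hxw j).2.2.2⟩]
      have hLinj : ∀ j k, j ≠ k → L j ≠ L k ∧ L j ≠ M k := by
        intro j k hjk
        obtain ⟨h1, h2, h3, h4⟩ := hAsupp j k hjk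
        rcases hLMxy j with ⟨a1, a2⟩ | ⟨a1, a2⟩ <;> rcases hLMxy k with ⟨b1, b2⟩ | ⟨b1, b2⟩ <;>
          simp only [a1, a2, b1, b2] <;> constructor <;> assumption
      rcases hi with hi | hi | ⟨a, rfl⟩ | hi
      · subst hi
        simp [eG, uv, fun j => (hLe j).1, hze]
      · subst hi
        simp [hz, uv, fun j => (hLe j).2.1, Ne.symm hze]
      · simp [hGw, uv, Ne.symm (hwe a), Ne.symm (hwz a), fun j => (hLe j).2.2 a]
      · obtain ⟨j, hj⟩ : ∃ j, i = L j ∨ i = M j := by
          rcases hi with ⟨j, rfl⟩ | ⟨j, rfl⟩ <;> refine ⟨j, ?_⟩ <;>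
            rcases hLMxy j with ⟨h, h'⟩ | ⟨h, h'⟩ <;> simp [h, h']
        have hMe : M j ≠ e ∧ M j ≠ z := by
          rcases hLMxy j with ⟨-, h⟩ | ⟨-, h⟩ <;> rw [h]
          exacts [⟨hye j, (hxw j).2.1⟩, ⟨hxe j, (hxw j).1⟩]
        rcases hj with rfl | rfl
        · rw [hGL]
          have o : ∀ k, uv (eL k) (L k) (L j) = if k = j then eL j else 0 := fun k => by
            by_cases hkj : k = j
            · simp [uv, hkj]
            · simp [uv, hkj, (hLinj k j hkj).1]
          simp only [Pi.add_apply, o]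
          simp only [uv_apply, if_neg (Ne.symm (hLe j).1), if_neg (Ne.symm (hLe j).2.1)]
          fin_cases j <;> simp
        · rw [hGM]
          have o : ∀ k, uv (eL k) (L k) (M j) = 0 := fun k => by
            by_cases hkj : k = j
            · simp [uv, hkj, hLM j]
            · simp [uv, (hLinj k j hkj).2]
          simp only [Pi.add_apply, o]
          simp [uv, Ne.symm hMe.1, Ne.symm hMe.2]
    · rw [hzero i hi]
      simp only [S, Finset.mem_insert, Finset.mem_union, Finset.mem_image, Finset.mem_univ,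
        true_and, not_or, not_exists] at hi
      obtain ⟨h1, h2, -, h3, h4⟩ := hi
      have : ∀ j, L j ≠ i := fun j => by
        rcases hLMxy j with ⟨h, -⟩ | ⟨h, -⟩ <;> rw [h]
        exacts [h3 j, h4 j]
      simp [uv, Ne.symm h1, Ne.symm h2, this]
  -- β's
  have hLMfacts : ∀ j, L j ≠ e ∧ M j ≠ e ∧ L j ≠ z ∧ M j ≠ z ∧ (∀ a, L j ≠ w a) ∧ (∀ a, M j ≠ w a) := by
    intro j
    rcases hLMxy j with ⟨h, h'⟩ | ⟨h, h'⟩ <;> rw [h, h']
    exacts [⟨hxe j, hye j, (hxw j).1, (hxw j).2.1, (hxw j).2.2.1, (hxw j).2.2.2⟩,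
      ⟨hye j, hxe j, (hxw j).2.1, (hxw j).1, (hxw j).2.2.2, (hxw j).2.2.1⟩]
  have hdisj : ∀ j k, j ≠ k → L j ≠ L k ∧ L j ≠ M k ∧ M j ≠ M k := by
    intro j k hjk
    obtain ⟨h1, h2, h3, h4⟩ := hAsupp j k hjk
    rcases hLMxy j with ⟨a1, a2⟩ | ⟨a1, a2⟩ <;> rcases hLMxy k with ⟨b1, b2⟩ | ⟨b1, b2⟩ <;>
      simp only [a1, a2, b1, b2] <;> refine ⟨?_, ?_, ?_⟩ <;> assumption
  have hLinj : Function.Injective L := fun j k h => by
    by_contra hjk; exact (hdisj j k hjk).1 h
  have hMinj : Function.Injective M := fun j k h => by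
    by_contra hjk; exact (hdisj j k hjk).2.2 h
  have hLMne : ∀ j k, L j ≠ M k := fun j k h => by
    by_cases hjk : j = k
    · exact hLM j (hjk ▸ h)
    · exact (hdisj j k hjk).2.1 h
  have hBe : ∀ j, ∃ Z t, t * t = 1 ∧ Z ≠ e ∧ Z ≠ z ∧ (∀ a, Z ≠ w a) ∧ (∀ k, Z ≠ L k) ∧ (∀ k, Z ≠ M k) ∧
      Be j = uv (eL (j + 1)) (L (j + 1)) + uv (eL (j + 2)) (L (j + 2)) + uv t Z := by
    intro j
    have hb : ∀ k, eL k * Be j (L k) + eM k * Be j (M k) = if j = k then 0 else 1 := fun k => by
      have := gBA j k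
      rw [dot_comm, hA' k, dot_add_left, dot_add_left, dot_uv, dot_uv, dot_uv, eB] at this
      linarith
    have hbG : (-s) * Be j z + (eL 0 * Be j (L 0) + (eL 1 * Be j (L 1) + eL 2 * Be j (L 2))) = 2 := by
      have := gBG j
      rw [dot_comm, hG, dot_add_left, dot_add_left, dot_add_left, dot_add_left, dot_uv, dot_uv, dot_uv,
        dot_uv, dot_uv, eB] at this
      linarith
    have hwq : ∀ a, Be j (w a) = Be j z := fun a => by
      have := gBD j a
      rw [dot_comm, hDdot] at this
      exact sub_eq_zero.mp ((mul_eq_zero.mp this).resolve_left hs0)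
    have hz0 : Be j z = 0 := by
      have h := sum_sq_le (Be j) (insert z (Finset.univ.image w))
      rw [Finset.sum_insert (by simp [hwz]), Finset.sum_image fun a _ b _ h => hwinj h,
        gBB, if_pos rfl, Fin.sum_univ_four, hwq, hwq, hwq, hwq] at h
      by_contra h'
      have := sq_pos_int h'
      omega
    set P : Fin 3 → ℤ := fun k => eL k * Be j (L k) with hP
    set Q : Fin 3 → ℤ := fun k => eM k * Be j (M k) with hQ
    have hPQ : ∀ k, P k + Q k = if j = k then 0 else 1 := hb
    have hsum : P 0 + P 1 + P 2 = 2 := by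
      have : P 0 = eL 0 * Be j (L 0) := rfl
      have : P 1 = eL 1 * Be j (L 1) := rfl
      have : P 2 = eL 2 * Be j (L 2) := rfl
      rw [hz0, mul_zero] at hbG
      linarith
    have hnormPQ : P 0 * P 0 + P 1 * P 1 + P 2 * P 2 + (Q 0 * Q 0 + Q 1 * Q 1 + Q 2 * Q 2) ≤ 3 := by
      have h := sum_sq_le (Be j) (Finset.univ.image L ∪ Finset.univ.image M)
      rw [Finset.sum_union (by
          simp only [Finset.disjoint_left, Finset.mem_image, Finset.mem_univ, true_and, not_exists]
          rintro _ ⟨i, rfl⟩ k hk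
          exact hLMne i k hk.symm),
        Finset.sum_image fun a _ b _ h => hLinj h, Finset.sum_image fun a _ b _ h => hMinj h,
        gBB, if_pos rfl, Fin.sum_univ_three, Fin.sum_univ_three] at h
      have e1 : ∀ k, P k * P k = Be j (L k) * Be j (L k) := fun k => by
        show (eL k * _) * (eL k * _) = _
        rw [mul_mul_mul_comm, heL, one_mul]
      have e2 : ∀ k, Q k * Q k = Be j (M k) * Be j (M k) := fun k => by
        show (eM k * _) * (eM k * _) = _
        rw [mul_mul_mul_comm, heM, one_mul]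
      simp only [e1, e2]; exact h
    have hval : ∀ k, P k = (if j = k then 0 else 1) ∧ Q k = 0 := by
      have bd : ∀ u v : ℤ, u + v = 1 → u * u + v * v ≤ 2 → (u = 0 ∧ v = 1) ∨ (u = 1 ∧ v = 0) := by
        intro u v huv hle
        have : -2 < u ∧ u < 2 := by constructor <;> nlinarith
        obtain ⟨l1, l2⟩ := this
        interval_cases u <;> first | omega | nlinarith
      have bd1 : ∀ u v : ℤ, u + v = 1 → 1 ≤ u * u + v * v := by
        intro u v huv
        by_cases hu : u = 0
        · subst hu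
          obtain rfl : v = 1 := by omega
          norm_num
        · have := sq_pos_int hu
          have := mul_self_nonneg v
          omega
      have bd0 : ∀ u v : ℤ, u + v = 0 → u * u + v * v ≤ 1 → u = 0 ∧ v = 0 := by
        intro u v huv hle
        obtain rfl : v = -u := by omega
        by_contra hne'
        have hu : u ≠ 0 := fun h => hne' ⟨h, by rw [h, neg_zero]⟩
        have := sq_pos_int hu
        have : -u * -u = u * u := by ring
        omega
      intro k
      fin_cases j
      all_goals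
        have H0 := hPQ 0
        have H1 := hPQ 1
        have H2 := hPQ 2
        simp at H0 H1 H2
      · have := bd1 _ _ H1; have := bd1 _ _ H2
        obtain ⟨a0, b0⟩ := bd0 _ _ H0 (by linarith)
        rw [a0, b0] at hnormPQ; rw [a0] at hsum
        rcases bd _ _ H1 (by linarith) with ⟨a1, b1⟩ | ⟨a1, b1⟩ <;>
          rcases bd _ _ H2 (by linarith) with ⟨a2, b2⟩ | ⟨a2, b2⟩ <;>
          first | omega | (fin_cases k <;> simp [a0, b0, a1, b1, a2, b2])
      · have := bd1 _ _ H0; have := bd1 _ _ H2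
        obtain ⟨a1, b1⟩ := bd0 _ _ H1 (by linarith)
        rw [a1, b1] at hnormPQ; rw [a1] at hsum
        rcases bd _ _ H0 (by linarith) with ⟨a0, b0⟩ | ⟨a0, b0⟩ <;>
          rcases bd _ _ H2 (by linarith) with ⟨a2, b2⟩ | ⟨a2, b2⟩ <;>
          first | omega | (fin_cases k <;> simp [a0, b0, a1, b1, a2, b2])
      · have := bd1 _ _ H0; have := bd1 _ _ H1
        obtain ⟨a2, b2⟩ := bd0 _ _ H2 (by linarith)
        rw [a2, b2] at hnormPQ; rw [a2] at hsum
        rcases bd _ _ H0 (by linarith) with ⟨a0, b0⟩ | ⟨a0, b0⟩ <;>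
          rcases bd _ _ H1 (by linarith) with ⟨a1, b1⟩ | ⟨a1, b1⟩ <;>
          first | omega | (fin_cases k <;> simp [a0, b0, a1, b1, a2, b2])
    have hBL : ∀ k, Be j (L k) = if j = k then 0 else eL k := fun k => by
      have h := (hval k).1
      have : Be j (L k) = eL k * P k := by
        show _ = eL k * (eL k * _); rw [← mul_assoc, heL, one_mul]
      rw [this, h]; split_ifs <;> simp
    have hBM : ∀ k, Be j (M k) = 0 := fun k => by
      have : Be j (M k) = eM k * Q k := by
        show _ = eM k * (eM k * _); rw [← mul_assoc, heM, one_mul]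
      rw [this, (hval k).2, mul_zero]
    have hj1 : j ≠ j + 1 := by fin_cases j <;> decide
    have hj2 : j ≠ j + 2 := by fin_cases j <;> decide
    have hj12 : j + 1 ≠ j + 2 := by fin_cases j <;> decide
    set f := Be j - uv (eL (j + 1)) (L (j + 1)) - uv (eL (j + 2)) (L (j + 2))
    have hB1 : Be j (L (j + 1)) = eL (j + 1) := by rw [hBL, if_neg hj1]
    have hB2 : Be j (L (j + 2)) = eL (j + 2) := by rw [hBL, if_neg hj2]
    have hf1 : f (L (j + 1)) = 0 := by
      simp [f, uv, hB1, (hdisj _ _ hj12.symm).1]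
    have hf2 : f (L (j + 2)) = 0 := by
      simp [f, uv, hB2, (hdisj _ _ hj12).1]
    have hf : dot f f = 1 := by
      have e1 : dot f f = dot (Be j) f := by
        conv_lhs => arg 1; simp only [f]
        rw [dot_sub_left, dot_sub_left, dot_uv, dot_uv, hf1, hf2, mul_zero, mul_zero, sub_zero,
          sub_zero]
      have e2 : dot (Be j) f = 1 := by
        rw [dot_comm]
        simp only [f]
        rw [dot_sub_left, dot_sub_left, dot_uv, dot_uv, gBB, if_pos rfl, hB1, hB2, heL, heL]
        norm_num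
      rw [e1, e2]
    obtain ⟨Z, t, ht, hZ⟩ := norm_one hf
    have hfZ : f Z = t := by rw [hZ]; simp [uv]
    have ht0 : t ≠ 0 := fun h => by rw [h] at ht; simp at ht
    have hfe : ∀ i, f i = 0 → Z ≠ i := fun i hi h => ht0 (by rw [← hfZ, h, hi])
    refine ⟨Z, t, ht, hfe e ?_, hfe z ?_, fun a => hfe _ ?_, fun k => hfe _ ?_, fun k => hfe _ ?_, ?_⟩
    · simp [f, eB, uv, (hLMfacts _).1]
    · simp [f, hz0, uv, (hLMfacts _).2.2.1]
    · simp [f, hwq a, hz0, uv, fun i => (hLMfacts i).2.2.2.2.1 a]
    · simp only [f, Pi.sub_apply, uv_apply, hBL, hLinj.eq_iff]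
      fin_cases j <;> fin_cases k <;> simp
    · simp [f, hBM, uv, hLMne]
    · rw [← hZ]; simp only [f]; abel
  choose Z t ht hZe hZz hZw hZL hZM hB using hBe
  have hZinj : Function.Injective Z := by
    intro j k h
    by_contra hjk
    have hg := gBB j k
    rw [if_neg hjk, hB j, dot_add_left, dot_add_left, dot_uv, dot_uv, dot_uv] at hg
    have hk : ∀ i, Be k (L i) = if k = i then 0 else eL i := by
      intro i
      rw [hB k]
      simp only [Pi.add_apply, uv_apply, hLinj.eq_iff, if_neg (hZL k i), add_zero]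
      fin_cases k <;> fin_cases i <;> simp
    have hkZ : Be k (Z j) = t k := by
      rw [hB k, h]
      simp only [Pi.add_apply, uv_apply, if_neg (Ne.symm (hZL k _)), zero_add, if_true]
    rw [hk, hk, hkZ] at hg
    have h4 : t j * t k ≠ 0 := by
      intro h0
      rcases mul_eq_zero.mp h0 with h1 | h1
      · have := ht j; rw [h1] at this; simp at this
      · have := ht k; rw [h1] at this; simp at this
    fin_cases j <;> fin_cases k <;> simp [heL] at hg hjk h4 <;> omega
  let σ : Fin 15 → I := ![e, L 0, L 1, L 2, M 0, M 1, M 2, Z 0, Z 1, Z 2, z, w 0, w 1, w 2, w 3]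
  let sg : Fin 15 → ℤ := ![1, eL 0, eL 1, eL 2, -eM 0, -eM 1, -eM 2, -t 0, -t 1, -t 2, s, s, s, s, s]
  refine ⟨σ, sg, ?_, ?_, rfl, rfl, ?_⟩
  · intro c d hcd
    fin_cases c <;> fin_cases d <;> simp [σ] at hcd ⊢
    all_goals
      first
      | (have := hwinj hcd; simp at this)
      | (have := hLinj hcd; simp at this)
      | (have := hMinj hcd; simp at this)
      | (have := hZinj hcd; simp at this)
      | exact hLMne _ _ hcd
      | exact hLMne _ _ hcd.symm
      | exact hZL _ _ hcd
      | exact hZL _ _ hcd.symm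
      | exact hZM _ _ hcd
      | exact hZM _ _ hcd.symm
      | exact hZe _ hcd
      | exact hZe _ hcd.symm
      | exact hZz _ hcd
      | exact hZz _ hcd.symm
      | exact hZw _ _ hcd
      | exact hZw _ _ hcd.symm
      | exact hze hcd
      | exact hze hcd.symm
      | exact hwe _ hcd
      | exact hwe _ hcd.symm
      | exact hwz _ hcd
      | exact hwz _ hcd.symm
      | exact (hLMfacts _).1 hcd
      | exact (hLMfacts _).1 hcd.symm
      | exact (hLMfacts _).2.1 hcd
      | exact (hLMfacts _).2.1 hcd.symm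
      | exact (hLMfacts _).2.2.1 hcd
      | exact (hLMfacts _).2.2.1 hcd.symm
      | exact (hLMfacts _).2.2.2.1 hcd
      | exact (hLMfacts _).2.2.2.1 hcd.symm
      | exact (hLMfacts _).2.2.2.2.1 _ hcd
      | exact (hLMfacts _).2.2.2.2.1 _ hcd.symm
      | exact (hLMfacts _).2.2.2.2.2 _ hcd
      | exact (hLMfacts _).2.2.2.2.2 _ hcd.symm
  · intro c; fin_cases c <;> simp [sg, heL, heM, ht, hs]
  · have k0 := hA' 0; have k1 := hA' 1; have k2 := hA' 2
    have b0 := hB 0; have b1 := hB 1; have b2 := hB 2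
    have d0 := hD 0; have d1 := hD 1; have d2 := hD 2; have d3 := hD 3
    simp only [Al, Be, De, Matrix.cons_val] at k0 k1 k2 b0 b1 b2 d0 d1 d2 d3
    intro a i
    fin_cases a <;>
      simp only [Fin.zero_eta, Fin.mk_one, Fin.reduceFinMk, k0, k1, k2, b0, b1, b2, d0, d1, d2, d3,
        hG, Pi.add_apply, uv_apply] <;>
      simp [Fin.sum_univ_succ, Model108.A, σ, sg] <;>
      split_ifs <;> ring

end Cfsg.Agent.Coherence108
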