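import Mathlib
import Cfsg.Agent.Lib.CohSearch68
import Cfsg.Agent.Lib.Model648

/-!
Integer vectors with the Gram matrix of the virtual characters of `3^3 : S_4` determine seven
signed basis vectors carrying the four virtual characters used in the class equations.
-/

set_option autoImplicit false
set_option maxRecDepth 100000

open Finset

namespace Cfsg.Agent.Coherence648

open Cfsg.Agent.Model648 Cfsg.Agent.CohSearch68

/-- The order in which the virtual characters are used. -/
def idx : Fin 9 → Fin 9 := ![3, 2, 5, 7, 0, 1, 4, 6, 8]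

/-- The search data. -/
def dat : Data where
  gram i j := if h : i < 9 ∧ j < 9 then
      gramM (idx ⟨i, h.1⟩) (idx ⟨j, h.2⟩) - trivM (idx ⟨i, h.1⟩) * trivM (idx ⟨j, h.2⟩) else 0
  tr i := if h : i < 9 then trivM (idx ⟨i, h⟩) else 0
  certs := [[-1, 1], [-1, 0, 0, 0, 1, 0, 0, 1]]

/-- The columns of `2, 3, 3', a₁, a₀, c₁, b₊`. -/
def pat : Fin 7 → Fin 4 → ℤ :=
  ![![0, -1, 1, 0], ![1, 0, 1, 0], ![1, 0, 0, -1], ![-1, -1, 0, 0], ![0, 0, -1, 0],
    ![0, 1, 0, -1], ![0, 0, 0, 1]]

/-- The first four entries, normalised. -/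
def head4 (c : List ℤ) : List ℤ := normc ((List.range 4).map fun j => c.getD j 0)

/-- The columns wanted. -/
def target : List (List ℤ) := List.ofFn fun p => normc (List.ofFn (pat p))

/-- A state with the expected first four rows. -/
def good (S : List (List ℤ)) : Bool :=
  decide (((S.map head4).filter fun c => decide (c ≠ [0, 0, 0, 0])).insertionSort
      (fun a b => code a ≤ code b) = target.insertionSort (fun a b => code a ≤ code b))

lemma all_good : (states dat 9).all good = true := by decide +kernel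

lemma dat_small : ∀ i : Fin 9, dat.gram i i < 4 ∨ (dat.gram i i = 4 ∧ dat.tr i = 0) := by
  decide +kernel

variable {I : Type*} [Fintype I] [DecidableEq I]

theorem coherence (t : I) (deg : I → ℤ) (ht : deg t = 1) (hdeg : ∀ ψ, 0 < deg ψ)
    (V : Fin 9 → I → ℤ) (hgram : ∀ a b, ∑ ψ, V a ψ * V b ψ = gramM a b)
    (he : ∀ a, V a t = trivM a) (h0 : ∀ a, ∑ ψ, V a ψ * deg ψ = 0) :
    ∃ (σ : Fin 7 → I) (sg : Fin 7 → ℤ), Function.Injective σ ∧ (∀ p, sg p * sg p = 1) ∧
      (∀ p, σ p ≠ t) ∧
      ∀ r : Fin 4, ∀ ψ, ψ ≠ t →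
        V (idx (r.castLE (by norm_num))) ψ = ∑ p, if σ p = ψ then sg p * pat p r else 0 := by
  set W : ℕ → I → ℤ := fun i ψ => if h : i < 9 then V (idx ⟨i, h⟩) ψ else 0 with hW
  have H : Hyp dat 9 W t deg :=
    { gram := fun i hi j hj => by
        have h := hgram (idx ⟨i, hi⟩) (idx ⟨j, hj⟩)
        rw [← Finset.add_sum_erase _ _ (Finset.mem_univ t), he, he] at h
        simp only [hW, dat, dif_pos hi, dif_pos hj, dif_pos (And.intro hi hj)]
        linarith
      triv := fun i hi => by simp only [hW, dat, dif_pos hi]; exact he _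
      degZero := fun i hi => by simp only [hW, dif_pos hi]; exact h0 _
      degOne := ht
      degPos := hdeg
      small := fun i hi => dat_small ⟨i, hi⟩ }
  obtain ⟨S, hS, L, hLS, hnd, hL, hz⟩ := exists_state H 9 le_rfl
  have hg := List.all_eq_true.mp all_good S hS
  rw [good, decide_eq_true_eq] at hg
  subst hLS
  rw [List.map_map, List.filter_map] at hg
  set L' := L.filter ((fun c => decide (c ≠ [0, 0, 0, 0])) ∘ (head4 ∘ fun x => x.2.2)) with hL'
  have hperm : (L'.map (head4 ∘ fun x => x.2.2)).Perm target :=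
    ((List.perm_insertionSort _ _).symm.trans (List.Perm.of_eq hg)).trans
      (List.perm_insertionSort _ _)
  obtain ⟨M, hM, hMt⟩ := exists_perm_map (head4 ∘ fun x : I × ℤ × List ℤ => x.2.2) hperm L' rfl
  have hlen : M.length = 7 := by
    have := congrArg List.length hMt
    simpa [target] using this
  let x : Fin 7 → I × ℤ × List ℤ := fun p => M[p.val]'(lt_of_lt_of_eq p.isLt hlen.symm)
  have hxL : ∀ p, x p ∈ L := fun p =>
    (List.mem_filter.mp (hM.mem_iff.mpr (List.getElem_mem _))).1
  have hMnd : (M.map Prod.fst).Nodup :=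
    (hM.map Prod.fst).nodup_iff.mp (hnd.sublist ((List.filter_sublist (l := L)).map Prod.fst))
  have hhead : ∀ p : Fin 7, head4 (x p).2.2 = normc (List.ofFn (pat p)) := fun p => by
    have h : (M.map (head4 ∘ fun x : I × ℤ × List ℤ => x.2.2))[p.val]'(by simp [hlen]) =
        target[p.val]'(by simp [target]) := by simp only [hMt]
    rw [List.getElem_map] at h
    simp only [target, List.getElem_ofFn, Function.comp] at h
    exact h
  have hget : ∀ (c : List ℤ) (j : Fin 4),
      (normc ((List.range 4).map fun j => c.getD j 0)).getD j.val 0 =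
        sgnc ((List.range 4).map fun j => c.getD j 0) * c.getD j.val 0 := fun c j => by
    rw [getD_normc]
    fin_cases j <;> rfl
  have hcol : ∀ p : Fin 7, ∀ r : Fin 4, (x p).2.2.getD r.val 0 =
      (sgnc ((List.range 4).map fun j => (x p).2.2.getD j 0) * sgnc (List.ofFn (pat p))) * pat p r := by
    intro p r
    have h := congrArg (fun l : List ℤ => l.getD r.val 0) (hhead p)
    simp only [head4] at h
    rw [hget, getD_normc] at h
    have e : (List.ofFn (pat p)).getD r.val 0 = pat p r := by fin_cases r <;> rfl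
    rw [e] at h
    have hs := sgnc_sq ((List.range 4).map fun j => (x p).2.2.getD j 0)
    linear_combination (sgnc ((List.range 4).map fun j => (x p).2.2.getD j 0)) * h -
      ((x p).2.2.getD r.val 0) * hs
  refine ⟨fun p => (x p).1, fun p => (x p).2.1 *
    (sgnc ((List.range 4).map fun j => (x p).2.2.getD j 0) * sgnc (List.ofFn (pat p))), ?_, ?_,
    fun p => (hL _ (hxL p)).1, fun r ψ hψ => ?_⟩
  · intro p q h
    apply Fin.ext
    refine (hMnd.getElem_inj_iff (hi := by simp [hlen]) (hj := by simp [hlen])).mp ?_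
    simpa [x] using h
  · intro p
    have h1 := (hL _ (hxL p)).2.1
    have h2 := sgnc_sq ((List.range 4).map fun j => (x p).2.2.getD j 0)
    have h3 := sgnc_sq (List.ofFn (pat p))
    linear_combination (sgnc ((List.range 4).map fun j => (x p).2.2.getD j 0) *
      sgnc (List.ofFn (pat p))) ^ 2 * h1 + (sgnc (List.ofFn (pat p))) ^ 2 * h2 + h3
  · have hr9 : r.val < 9 := by omega
    have hV : V (idx (r.castLE (by norm_num))) ψ = W r.val ψ := by simp [hW, hr9]; rfl
    rw [hV]
    by_cases hψM : ψ ∈ M.map Prod.fst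
    · obtain ⟨y, hy, rfl⟩ := List.mem_map.mp hψM
      obtain ⟨i, hi, rfl⟩ := List.getElem_of_mem hy
      rw [Finset.sum_eq_single (⟨i, lt_of_lt_of_eq hi hlen⟩ : Fin 7) (fun q _ hq => if_neg fun h => hq ?_) (by simp)]
      · rw [if_pos rfl, (hL _ (hxL ⟨i, lt_of_lt_of_eq hi hlen⟩)).2.2.2 r.val hr9, hcol]
        ring
      · apply Fin.ext
        refine (hMnd.getElem_inj_iff (hi := by simp [hlen]) (hj := by simpa using hi)).mp ?_
        simpa [x] using h
    · rw [Finset.sum_eq_zero fun q _ => if_neg fun h => hψM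
        (List.mem_map.mpr ⟨x q, List.getElem_mem _, h⟩)]
      by_cases hψL : ψ ∈ L.map Prod.fst
      · obtain ⟨y, hy, rfl⟩ := List.mem_map.mp hψL
        have hzero : head4 y.2.2 = [0, 0, 0, 0] := by
          by_contra hne
          exact hψM (List.mem_map.mpr ⟨y, hM.mem_iff.mp (List.mem_filter.mpr ⟨hy, by simpa using hne⟩), rfl⟩)
        have h := congrArg (fun l : List ℤ => l.getD r.val 0) hzero
        simp only [head4] at h
        rw [hget] at h
        have h0' : ([0, 0, 0, 0] : List ℤ).getD r.val 0 = 0 := by fin_cases r <;> rfl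
        rw [h0'] at h
        rcases mul_eq_zero.mp h with h | h
        · exact absurd (h ▸ sgnc_sq _) (by norm_num)
        · rw [(hL y hy).2.2.2 r.val hr9, h, mul_zero]
      · exact hz ψ hψ hψL r.val hr9

end Cfsg.Agent.Coherence648
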