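import Mathlib
import Cfsg.Agent.Lib.PSLCard
import Cfsg.Agent.Lib.PSLSimple

/-!
A group whose commuting graph agrees with that of `SL(3,3)` is isomorphic to it: conjugation
permutes the transvections, hence the flags of the projective plane of order 3.
-/

set_option autoImplicit false
set_option maxRecDepth 100000

namespace Cfsg.Agent.CommGraphL33

open Matrix

abbrev S : Type := Matrix.SpecialLinearGroup (Fin 3) (ZMod 3)

instance : Fact (Nat.Prime 3) := ⟨Nat.prime_three⟩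

/-- the thirteen points (and, dually, lines) -/
def pv : Fin 13 → Fin 3 → ZMod 3 :=
  ![![1, 0, 0], ![0, 1, 0], ![0, 0, 1], ![1, 1, 1], ![1, 1, 0], ![1, 0, 1], ![0, 1, 1],
    ![0, 1, 2], ![1, 0, 2], ![1, 1, 2], ![1, 2, 0], ![1, 2, 1], ![1, 2, 2]]

def inc (p l : Fin 13) : Bool :=
  pv p 0 * pv l 0 + pv p 1 * pv l 1 + pv p 2 * pv l 2 == 0

abbrev Fl : Type := {a : Fin 13 × Fin 13 // inc a.1 a.2 = true}

def SameP (a b : Fl) : Prop := a.1.1 = b.1.1
def SameL (a b : Fl) : Prop := a.1.2 = b.1.2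
def Adj (a b : Fl) : Prop := SameP a b ∨ SameL a b

instance (a b : Fl) : Decidable (SameP a b) := by unfold SameP; infer_instance
instance (a b : Fl) : Decidable (SameL a b) := by unfold SameL; infer_instance
instance (a b : Fl) : Decidable (Adj a b) := by unfold Adj; infer_instance

theorem inc_line_unique : ∀ p q l m : Fin 13, p ≠ q → inc p l = true → inc q l = true →
    inc p m = true → inc q m = true → l = m := by decide +kernel

theorem exists_line : ∀ p q : Fin 13, ∃ l, inc p l = true ∧ inc q l = true := by decide +kernel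

theorem exists_point : ∀ p : Fin 13, ∃ l, inc p l = true := fun p => (exists_line p p).imp fun _ h => h.1

theorem exists_two_points : ∀ l : Fin 13, ∀ p, inc p l = true → ∃ q, q ≠ p ∧ inc q l = true := by
  decide +kernel

theorem exists_two_lines : ∀ p : Fin 13, ∀ l, inc p l = true → ∃ m, m ≠ l ∧ inc p m = true := by
  decide +kernel

theorem nbhd_inj : ∀ a b : Fl, (∀ c, Adj a c ↔ Adj b c) → a = b := by decide +kernel

theorem meet_unique {p q l m : Fin 13} (hlm : l ≠ m) (h1 : inc p l = true) (h2 : inc q l = true)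
    (h3 : inc p m = true) (h4 : inc q m = true) : p = q := by
  by_contra h
  exact hlm (inc_line_unique p q l m h h1 h2 h3 h4)

/-- the transvection matrix of a flag -/
def mat (p l : Fin 13) (c : ZMod 3) : Matrix (Fin 3) (Fin 3) (ZMod 3) :=
  1 + Matrix.of fun i j => c * pv p i * pv l j

theorem det_mat : ∀ p l : Fin 13, inc p l = true → ∀ c : ZMod 3, (mat p l c).det = 1 := by
  decide +kernel

def tv (a : Fl) (c : ZMod 3) : S := ⟨mat a.1.1 a.1.2 c, det_mat _ _ a.2 c⟩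

theorem comm_mat_one : ∀ p l : Fin 13, inc p l = true → ∀ q m : Fin 13, inc q m = true →
    ((mat p l 1 * mat q m 1 = mat q m 1 * mat p l 1) ↔ (p = q ∨ l = m)) := by
  decide +kernel

theorem tv_mat_sq : ∀ p l : Fin 13, inc p l = true →
    mat p l 1 * mat p l 1 = mat p l 2 ∧ mat p l 2 * mat p l 2 = mat p l 1 ∧
    mat p l 1 ≠ 1 ∧ mat p l 2 ≠ 1 := by
  decide +kernel

def gTab : Array ℕ :=
  #[0, 4618, 6643, 0, 0, 0, 11017, 17659, 0, 0, 0, 0, 0, 2223, 0, 6594, 0, 0, 8781, 0, 0, 15339, 0, 0, 0, 0, 900, 975, 0, 0, 1137, 0, 0, 0, 0, 0, 1383, 0, 0, 0, 0, 0, 11773, 0, 0, 0, 18415, 14041, 0, 3430, 0, 0, 0, 0, 6670, 0, 0, 0, 0, 0, 0, 0, 2701, 8857, 15499, 0, 5347, 0, 0, 0, 0, 0, 0, 14014, 18388, 0, 0, 16201, 2952, 0, 0, 0, 0, 0, 0, 13881, 0, 16068, 0, 9510, 0, 3681, 0, 0, 10239, 0, 0, 8052, 0, 0, 0, 0, 0, 16797, 0, 6076, 0, 12475, 0, 8101, 0, 0, 0, 0, 0, 10288, 0, 0, 0, 0, 0, 0, 8128, 12502, 0, 0, 19144, 4159, 0, 0, 0, 0, 6697, 11071,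 4672, 0, 0, 0, 0, 17713, 0, 0, 0, 0, 0, 0, 0, 5401, 0, 11800, 0, 14068, 0, 0, 9613, 0, 0, 0, 0, 0, 6130, 8155, 0, 19171, 0, 0, 0, 0, 16984]

def gMat (p l : Fin 13) : Matrix (Fin 3) (Fin 3) (ZMod 3) :=
  Matrix.of fun i j => ((gTab.getD (13 * p.val + l.val) 0 / 3 ^ (3 * i.val + j.val) : ℕ) : ZMod 3)

/-- the root element `1 + E₁₃` -/
def e13 (c : ZMod 3) : Matrix (Fin 3) (Fin 3) (ZMod 3) := !![1, 0, c; 0, 1, 0; 0, 0, 1]

theorem gMat_spec : ∀ p l : Fin 13, inc p l = true →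
    (gMat p l).det = 1 ∧ gMat p l * e13 1 = mat p l 1 * gMat p l := by
  decide +kernel

theorem det_e13 : ∀ c : ZMod 3, (e13 c).det = 1 := by decide +kernel

def z13 (c : ZMod 3) : S := ⟨e13 c, det_e13 c⟩

/-- `27` divides the centralizer and the element is non-trivial -/
def IsTv (x : S) : Prop := x ≠ 1 ∧ 27 ∣ Nat.card {y : S // Commute x y}

end Cfsg.Agent.CommGraphL33
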