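import Cfsg.Agent.Lib.CommGraphL33Transv

/-!
A group with the commuting graph of `SL(3,3)` acts faithfully on the flags of `PG(2,3)`.
-/

set_option autoImplicit false
set_option maxRecDepth 100000

namespace Cfsg.Agent.CommGraphL33

theorem tv_one_ne_two (a : Fl) : tv a 1 ≠ tv a 2 := by
  intro h
  obtain ⟨h1, -, h3, -⟩ := tv_sq a
  rw [← h] at h1
  exact h3 (mul_eq_left.1 h1)

theorem two_ne_zero' : (2 : ZMod 3) ≠ 0 := by decide

theorem tv_flag_inj {a b : Fl} {c d : ZMod 3} (hc : c ≠ 0) (hd : d ≠ 0) (h : tv a c = tv b d) :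
    a = b := by
  refine nbhd_inj a b fun q => ?_
  rw [← commute_tv_iff a q hc one_ne_zero, ← commute_tv_iff b q hd one_ne_zero, h]

/-- a bijection with `SL(3,3)` preserving the identity and commutation -/
structure GI (H : Type*) [Group H] where
  e : H ≃ S
  one : e 1 = 1
  comm : ∀ x y, Commute x y ↔ Commute (e x) (e y)

namespace GI

variable {H : Type*} [Group H] (D : GI H)

/-- conjugation, transported -/
def perm (g : H) : Equiv.Perm S := D.e.symm.trans ((MulAut.conj g).toEquiv.trans D.e)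

theorem perm_apply (g : H) (x : S) : D.perm g x = D.e (g * D.e.symm x * g⁻¹) := rfl

theorem perm_mul (g h : H) (x : S) : D.perm (g * h) x = D.perm g (D.perm h x) := by
  simp [perm_apply, mul_assoc]

theorem perm_one (g : H) : D.perm g 1 = 1 := by
  have : D.e.symm 1 = 1 := by rw [Equiv.symm_apply_eq, D.one]
  rw [perm_apply, this, mul_one, mul_inv_cancel, D.one]

theorem perm_id (x : S) : D.perm 1 x = x := by simp [perm_apply]

theorem perm_comm (g : H) (x y : S) : Commute (D.perm g x) (D.perm g y) ↔ Commute x y := by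
  rw [perm_apply, perm_apply, ← D.comm, Commute.conj_iff, D.comm, Equiv.apply_symm_apply,
    Equiv.apply_symm_apply]

theorem card_comm (g : H) (x : S) :
    Nat.card {y : S // Commute (D.perm g x) y} = Nat.card {y : S // Commute x y} :=
  (Nat.card_congr (Equiv.subtypeEquiv (D.perm g) fun y => (D.perm_comm g x y).symm)).symm

theorem perm_isTv {g : H} {x : S} (hx : IsTv x) : IsTv (D.perm g x) := by
  refine ⟨fun h => hx.1 ((D.perm g).injective (h.trans (D.perm_one g).symm)), ?_⟩
  rw [D.card_comm]; exact hx.2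

/-- the image flag -/
noncomputable def flagMap (g : H) (a : Fl) : Fl :=
  Classical.choose (exists_tv_of_isTv (D.perm_isTv (g := g) (isTv_tv a one_ne_zero)))

theorem flagMap_spec_one (g : H) (a : Fl) :
    ∃ d, d ≠ 0 ∧ D.perm g (tv a 1) = tv (D.flagMap g a) d :=
  Classical.choose_spec (exists_tv_of_isTv (D.perm_isTv (g := g) (isTv_tv a one_ne_zero)))

theorem adj_transport (g : H) {a a' b b' : Fl} {c c' d d' : ZMod 3} (hc : c ≠ 0) (hc' : c' ≠ 0)
    (hd : d ≠ 0) (hd' : d' ≠ 0) (h1 : D.perm g (tv a c) = tv a' c')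
    (h2 : D.perm g (tv b d) = tv b' d') : Adj a' b' ↔ Adj a b := by
  rw [← commute_tv_iff a' b' hc' hd', ← h1, ← h2, D.perm_comm, commute_tv_iff a b hc hd]

theorem flagMap_spec (g : H) (a : Fl) {c : ZMod 3} (hc : c ≠ 0) :
    ∃ d, d ≠ 0 ∧ D.perm g (tv a c) = tv (D.flagMap g a) d := by
  obtain ⟨b, d, hd, h⟩ := exists_tv_of_isTv (D.perm_isTv (g := g) (isTv_tv a hc))
  obtain ⟨d₁, hd₁, h₁⟩ := D.flagMap_spec_one g a
  suffices hb : b = D.flagMap g a by exact ⟨d, hd, hb ▸ h⟩
  refine nbhd_inj _ _ fun q => ?_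
  obtain ⟨r, e, he, hr⟩ :=
    exists_tv_of_isTv (D.perm_isTv (g := g⁻¹) (isTv_tv q one_ne_zero))
  have hq : D.perm g (tv r e) = tv q 1 := by
    rw [← hr, ← D.perm_mul, mul_inv_cancel, D.perm_id]
  rw [D.adj_transport g hc hd he one_ne_zero h hq,
    D.adj_transport g one_ne_zero hd₁ he one_ne_zero h₁ hq]

theorem flagMap_mul (g h : H) (a : Fl) :
    D.flagMap (g * h) a = D.flagMap g (D.flagMap h a) := by
  obtain ⟨d, hd, e1⟩ := D.flagMap_spec_one h a
  obtain ⟨d', hd', e2⟩ := D.flagMap_spec g (D.flagMap h a) hd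
  obtain ⟨d'', hd'', e3⟩ := D.flagMap_spec_one (g * h) a
  rw [D.perm_mul, e1, e2] at e3
  exact (tv_flag_inj hd' hd'' e3).symm

theorem flagMap_one (a : Fl) : D.flagMap 1 a = a := by
  obtain ⟨d, hd, h⟩ := D.flagMap_spec_one 1 a
  rw [D.perm_id] at h
  exact (tv_flag_inj one_ne_zero hd h).symm

/-- the action on flags -/
noncomputable def sigma : H →* Equiv.Perm Fl where
  toFun g := ⟨D.flagMap g, D.flagMap g⁻¹,
    fun a => by rw [← D.flagMap_mul, inv_mul_cancel, D.flagMap_one],
    fun a => by rw [← D.flagMap_mul, mul_inv_cancel, D.flagMap_one]⟩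
  map_one' := Equiv.ext fun a => D.flagMap_one a
  map_mul' g h := Equiv.ext fun a => D.flagMap_mul g h a

theorem sigma_adj (g : H) (a b : Fl) : Adj (D.sigma g a) (D.sigma g b) ↔ Adj a b := by
  obtain ⟨d, hd, h⟩ := D.flagMap_spec_one g a
  obtain ⟨d', hd', h'⟩ := D.flagMap_spec_one g b
  exact D.adj_transport g one_ne_zero hd one_ne_zero hd' h h'

theorem sq_eq_one_of_fix {g : H} (hg : D.sigma g = 1) : g * g = 1 := by
  have hfl : ∀ a, D.flagMap g a = a := fun a => Equiv.congr_fun hg a
  have key : ∀ a, D.perm (g * g) (tv a 1) = tv a 1 := by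
    intro a
    obtain ⟨d, hd, h⟩ := D.flagMap_spec_one g a
    obtain ⟨d', hd', h'⟩ := D.flagMap_spec g a two_ne_zero'
    rw [hfl] at h h'
    rw [D.perm_mul, h]
    rcases zmod_cases d hd with rfl | rfl
    · exact h
    · rcases zmod_cases d' hd' with rfl | rfl
      · exact h'
      · exact absurd ((D.perm g).injective (h.trans h'.symm)) (tv_one_ne_two a)
  have hk : D.e (g * g) = 1 := by
    refine eq_one_of_commute_tv fun a => ?_
    have h := congrArg D.e.symm (key a)
    rw [perm_apply, Equiv.symm_apply_apply, mul_inv_eq_iff_eq_mul] at h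
    have hc := (D.comm _ _).1 (show Commute (g * g) (D.e.symm (tv a 1)) from h)
    rwa [Equiv.apply_symm_apply] at hc
  exact D.e.injective (hk.trans D.one.symm)

theorem card_eq (D : GI H) : Nat.card H = 5616 := by rw [Nat.card_congr D.e, card_S]

theorem card_centralizer_eq (x : H) :
    Nat.card (Subgroup.centralizer ({x} : Set H)) =
      Nat.card (Subgroup.centralizer ({D.e x} : Set S)) := by
  rw [← card_comm_eq, ← card_comm_eq]
  exact Nat.card_congr (Equiv.subtypeEquiv D.e fun y => D.comm x y)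

theorem sigma_injective : Function.Injective D.sigma := by
  haveI : Finite H := Finite.of_equiv S D.e.symm
  rw [← MonoidHom.ker_eq_bot_iff, Subgroup.eq_bot_iff_forall]
  intro k hk
  by_contra hk1
  set K := D.sigma.ker
  have hKp : IsPGroup 2 K := fun x => ⟨1, by
    rw [pow_one, sq]; exact Subtype.ext (D.sq_eq_one_of_fix x.2)⟩
  obtain ⟨n, hn⟩ := IsPGroup.iff_card.1 hKp
  have hK16 : Nat.card K ≤ 16 := by
    have hd : 2 ^ n ∣ 5616 := by rw [← hn, ← D.card_eq]; exact Subgroup.card_subgroup_dvd_card K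
    have hn4 : n ≤ 4 := by
      by_contra h
      have : 2 ^ 5 ∣ 5616 := (pow_dvd_pow 2 (by omega)).trans hd
      norm_num at this
    rw [hn]
    calc 2 ^ n ≤ 2 ^ 4 := Nat.pow_le_pow_right (by norm_num) hn4
      _ = 16 := rfl
  set C := Subgroup.centralizer ({k} : Set H)
  let f : H ⧸ C → {x : K // x ≠ 1} := fun q =>
    ⟨⟨q.out * k * q.out⁻¹, (MonoidHom.normal_ker D.sigma).conj_mem k hk q.out⟩, by
      intro h
      have h' := congrArg Subtype.val h
      exact hk1 (conj_eq_one_iff.1 h')⟩
  have hf : Function.Injective f := by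
    intro q r h
    have h' : q.out * k * q.out⁻¹ = r.out * k * r.out⁻¹ :=
      congrArg (fun z : {x : K // x ≠ 1} => (z.1 : H)) h
    rw [← Quotient.out_eq q, ← Quotient.out_eq r]
    refine QuotientGroup.eq.2 ?_
    rw [Subgroup.mem_centralizer_singleton_iff]
    calc q.out⁻¹ * r.out * k = q.out⁻¹ * (r.out * k * r.out⁻¹) * r.out := by group
      _ = k * (q.out⁻¹ * r.out) := by rw [← h']; group
  have hidx : C.index ≤ 15 := by
    classical
    have := Nat.card_le_card_of_injective f hf
    have h2 : Nat.card {x : K // x ≠ 1} < Nat.card K :=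
      Finite.card_subtype_lt (x := 1) (by simp)
    rw [Subgroup.index]
    omega
  set y := D.e k
  have hy1 : y ≠ 1 := fun h => hk1 (D.e.injective (h.trans D.one.symm))
  set Cy := Subgroup.centralizer ({y} : Set S)
  have hcard : Nat.card C = Nat.card Cy := D.card_centralizer_eq k
  have hCy : Cy.index = C.index := by
    have h1 := C.card_mul_index
    have h2 := Cy.card_mul_index
    rw [D.card_eq, hcard] at h1
    rw [card_S] at h2
    exact Nat.eq_of_mul_eq_mul_left Nat.card_pos (h2.trans h1.symm)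
  have hne : Cy ≠ ⊤ := by
    intro h
    have : y ∈ Subgroup.center S := by
      rw [Subgroup.mem_center_iff]
      intro z
      exact Subgroup.mem_centralizer_singleton_iff.1 (show z ∈ Cy by rw [h]; trivial)
    rw [center_S] at this
    exact hy1 this
  have hm : Cy.index ≤ 15 := hCy ▸ hidx
  have hdvd : Cy.index ∣ 5616 := card_S ▸ Cy.index_dvd_card
  have hfact : 13 ∣ Nat.factorial Cy.index := by
    have hcore : Cy.normalCore = ⊥ :=
      (Cy.normalCore_normal.eq_bot_or_eq_top).resolve_right fun h =>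
        hne (top_le_iff.1 (h ▸ Cy.normalCore_le))
    have hinj : Function.Injective (MulAction.toPermHom S (S ⧸ Cy)) := by
      rw [← MonoidHom.ker_eq_bot_iff, ← Subgroup.normalCore_eq_ker, hcore]
    have h := Subgroup.card_dvd_of_injective _ hinj
    rw [Nat.card_perm, card_S, ← Subgroup.index] at h
    exact (by norm_num : 13 ∣ 5616).trans h
  have h13 : Cy.index = 13 := by
    have h13le : 13 ≤ Cy.index := (Nat.Prime.dvd_factorial (by norm_num)).1 hfact
    rcases (by omega : Cy.index = 13 ∨ Cy.index = 14 ∨ Cy.index = 15) with h | h | h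
    · exact h
    · rw [h] at hdvd; norm_num at hdvd
    · rw [h] at hdvd; norm_num at hdvd
  have hC432 : Nat.card Cy = 432 := by
    have := Cy.card_mul_index
    rw [h13, card_S] at this
    omega
  have hTv : IsTv y := ⟨hy1, by rw [card_comm_eq, hC432]; norm_num⟩
  obtain ⟨a, c, hc, hac⟩ := exists_tv_of_isTv hTv
  have h243 := card_comm_tv_le a hc
  rw [← hac, card_comm_eq, hC432] at h243
  omega

end GI

end Cfsg.Agent.CommGraphL33
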