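import Cfsg.Agent.Lib.CommGraphL33Main

/-!
Collineations of `PG(2,3)`: the point action of the side-preserving elements and the bound `5616`.
-/

set_option autoImplicit false
set_option maxRecDepth 100000

namespace Cfsg.Agent.CommGraphL33

/-- a flag through a point -/
noncomputable def flagAt (p : Fin 13) : Fl :=
  ⟨(p, (exists_point p).choose), (exists_point p).choose_spec⟩

theorem flag_link : ∀ p q : Fin 13, ∃ a b : Fl, a.1.1 = p ∧ b.1.1 = q ∧ SameL a b := by
  intro p q
  obtain ⟨l, h1, h2⟩ := exists_line p q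
  exact ⟨⟨(p, l), h1⟩, ⟨(q, l), h2⟩, rfl, rfl, rfl⟩

theorem sameP_sameL_eq {a b : Fl} (h1 : SameP a b) (h2 : SameL a b) : a = b :=
  Subtype.ext (Prod.ext h1 h2)

theorem adj_corner {a b c : Fl} (hb : SameP a b) (hc : SameL a c) (hab : a ≠ b) (hac : a ≠ c) :
    ¬ Adj b c := by
  rintro (h | h)
  · exact hac (sameP_sameL_eq (show SameP a c from Eq.trans hb h) hc)
  · exact hab (sameP_sameL_eq hb (show SameL a b from Eq.trans hc h.symm))

theorem exists_pmate (a : Fl) : ∃ b, SameP a b ∧ a ≠ b := by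
  obtain ⟨m, hm, h⟩ := exists_two_lines a.1.1 a.1.2 a.2
  exact ⟨⟨(a.1.1, m), h⟩, rfl, fun e => hm (congrArg (fun z : Fl => z.1.2) e).symm⟩

theorem exists_lmate (a : Fl) : ∃ b, SameL a b ∧ a ≠ b := by
  obtain ⟨q, hq, h⟩ := exists_two_points a.1.2 a.1.1 a.2
  exact ⟨⟨(q, a.1.2), h⟩, rfl, fun e => hq (congrArg (fun z : Fl => z.1.1) e).symm⟩

section Auto

variable {σ : Equiv.Perm Fl} (hσ : ∀ a b, Adj (σ a) (σ b) ↔ Adj a b)

/-- `σ` keeps the point pencil of `a` a point pencil -/
def Keep (σ : Equiv.Perm Fl) (a : Fl) : Prop := ∀ b, SameP a b → SameP (σ a) (σ b)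

include hσ in
theorem pencil_dichotomy (a : Fl) :
    Keep σ a ∨ ∀ b, SameP a b → SameL (σ a) (σ b) := by
  by_contra h
  unfold Keep at h
  push Not at h
  obtain ⟨⟨b, hb, hb'⟩, c, hc, hc'⟩ := h
  have hab : SameL (σ a) (σ b) := ((hσ a b).2 (Or.inl hb)).resolve_left hb'
  have hac : SameP (σ a) (σ c) := ((hσ a c).2 (Or.inl hc)).resolve_right hc'
  refine adj_corner hac hab (fun e => hc' (e ▸ rfl)) (fun e => hb' (e ▸ rfl)) ?_
  exact (hσ c b).2 (Or.inl (Eq.trans hc.symm hb))

include hσ in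
theorem opposite {a b c : Fl} (hb : SameP a b) (hc : SameL a c) (hab : a ≠ b) (hac : a ≠ c) :
    (SameP (σ a) (σ b) ↔ SameL (σ a) (σ c)) := by
  have hn : ¬ Adj (σ b) (σ c) := fun h => adj_corner hb hc hab hac ((hσ b c).1 h)
  constructor
  · intro h
    refine ((hσ a c).2 (Or.inr hc)).resolve_left fun h' => hn (Or.inl (Eq.trans h.symm h'))
  · intro h
    refine ((hσ a b).2 (Or.inl hb)).resolve_right fun h' => hn (Or.inr (Eq.trans h'.symm h))

include hσ in
theorem keep_iff {a b : Fl} (hab : a ≠ b) (h : SameP a b) : Keep σ a ↔ SameP (σ a) (σ b) := by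
  refine ⟨fun k => k b h, fun hh => (pencil_dichotomy hσ a).resolve_right fun k => ?_⟩
  exact hab (σ.injective (sameP_sameL_eq hh (k b h)))

include hσ in
theorem keep_sameP {a b : Fl} (h : SameP a b) : Keep σ a ↔ Keep σ b := by
  by_cases hab : a = b
  · rw [hab]
  · rw [keep_iff hσ hab h, keep_iff hσ (Ne.symm hab) (Eq.symm h)]
    exact ⟨Eq.symm, Eq.symm⟩

include hσ in
theorem keep_iff_line {a c : Fl} (hac : a ≠ c) (h : SameL a c) :
    Keep σ a ↔ SameL (σ a) (σ c) := by
  obtain ⟨b, hb, hab⟩ := exists_pmate a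
  rw [keep_iff hσ hab hb]
  exact opposite hσ hb h hab hac

include hσ in
theorem keep_all (a : Fl) (b : Fl) : Keep σ a ↔ Keep σ b := by
  obtain ⟨a', b', ha, hb, hl⟩ := flag_link a.1.1 b.1.1
  have h : Keep σ a' ↔ Keep σ b' := by
    by_cases e : a' = b'
    · rw [e]
    · rw [keep_iff_line hσ e hl, keep_iff_line hσ (Ne.symm e) (Eq.symm hl)]
      exact ⟨Eq.symm, Eq.symm⟩
  exact (keep_sameP hσ (show SameP a a' from ha.symm)).trans
    (h.trans (keep_sameP hσ (show SameP b' b from hb)))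

include hσ in
theorem not_keep_image {a : Fl} (h : ¬ Keep σ a) :
    (∀ x y, SameP x y → SameL (σ x) (σ y)) ∧ (∀ x y, SameL x y → SameP (σ x) (σ y)) := by
  have hx : ∀ x, ¬ Keep σ x := fun x k => h ((keep_all hσ a x).2 k)
  refine ⟨fun x y hxy => (pencil_dichotomy hσ x).resolve_left (hx x) y hxy, fun x y hxy => ?_⟩
  by_cases e : x = y
  · rw [e]; rfl
  · exact ((hσ x y).2 (Or.inr hxy)).resolve_right fun k => hx x ((keep_iff_line hσ e hxy).2 k)

include hσ in
theorem keep_image {a : Fl} (h : Keep σ a) :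
    (∀ x y, SameP x y → SameP (σ x) (σ y)) ∧ (∀ x y, SameL x y → SameL (σ x) (σ y)) := by
  have hx : ∀ x, Keep σ x := fun x => (keep_all hσ a x).1 h
  refine ⟨fun x y hxy => hx x y hxy, fun x y hxy => ?_⟩
  by_cases e : x = y
  · rw [e]; rfl
  · exact (keep_iff_line hσ e hxy).1 (hx x)

end Auto

namespace GI

variable {H : Type*} [Group H] (D : GI H)

/-- elements taking points to points -/
noncomputable def H0 : Subgroup H := by
  haveI : Finite H := Finite.of_equiv S D.e.symm
  exact
  { carrier := {g | ∀ a b, SameP a b → SameP (D.sigma g a) (D.sigma g b)}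
    one_mem' := fun a b h => by simpa using h
    mul_mem' := fun {g k} hg hk a b h => by
      simpa [map_mul] using hg _ _ (hk a b h)
    inv_mem' := fun {g} hg => by
      obtain ⟨n, hn⟩ : ∃ n : ℕ, g⁻¹ = g ^ n := ⟨orderOf g - 1, (inv_eq_of_mul_eq_one_right (by
        rw [← pow_succ', Nat.sub_add_cancel (orderOf_pos g), pow_orderOf_eq_one]))⟩
      intro a b h
      rw [hn, map_pow]
      clear hn
      induction n with
      | zero => simpa using h
      | succ n ih => rw [pow_succ', Equiv.Perm.mul_apply, Equiv.Perm.mul_apply]; exact hg _ _ ih }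

theorem mem_H0 {g : H} :
    g ∈ D.H0 ↔ ∀ a b, SameP a b → SameP (D.sigma g a) (D.sigma g b) := Iff.rfl

theorem H0_index : D.H0.index = 1 ∨ D.H0.index = 2 := by
  by_cases ht : D.H0 = ⊤
  · exact Or.inl (Subgroup.index_eq_one.2 ht)
  right
  obtain ⟨g, hg⟩ : ∃ g, g ∉ D.H0 := by
    by_contra h
    push Not at h
    exact ht ((Subgroup.eq_top_iff' _).2 h)
  have swap : ∀ k, k ∉ D.H0 → (∀ x y, SameP x y → SameL (D.sigma k x) (D.sigma k y)) ∧
      (∀ x y, SameL x y → SameP (D.sigma k x) (D.sigma k y)) := by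
    intro k hk
    obtain ⟨a, ha⟩ : ∃ a, ¬ Keep (D.sigma k) a := by
      by_contra h
      push Not at h
      exact hk fun a b hab => h a b hab
    exact not_keep_image (D.sigma_adj k) ha
  have hmul : ∀ k, k ∉ D.H0 → k * g ∈ D.H0 := by
    intro k hk a b hab
    simpa [map_mul] using (swap k hk).2 _ _ ((swap g hg).1 a b hab)
  refine Subgroup.index_eq_two_iff.2 ⟨g, fun k => ?_⟩
  by_cases hk : k ∈ D.H0
  · exact Or.inr ⟨hk, fun h => hg ((D.H0.mul_mem_cancel_left hk).1 h)⟩
  · exact Or.inl ⟨hmul k hk, hk⟩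

theorem H0_sameL {g : H} (hg : g ∈ D.H0) {a b : Fl} (h : SameL a b) :
    SameL (D.sigma g a) (D.sigma g b) :=
  (keep_image (D.sigma_adj g) (a := a) fun c hc => hg a c hc).2 a b h

/-- the point map -/
noncomputable def pointMap (g : H) (p : Fin 13) : Fin 13 := (D.sigma g (flagAt p)).1.1

theorem pointMap_spec {g : H} (hg : g ∈ D.H0) (a : Fl) :
    (D.sigma g a).1.1 = D.pointMap g a.1.1 :=
  hg a (flagAt a.1.1) rfl

theorem pointMap_mul {g k : H} (hg : g ∈ D.H0) (p : Fin 13) :
    D.pointMap (g * k) p = D.pointMap g (D.pointMap k p) := by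
  rw [pointMap, map_mul, Equiv.Perm.mul_apply, D.pointMap_spec hg]
  rfl

theorem pointMap_one (p : Fin 13) : D.pointMap 1 p = p := by rw [pointMap, map_one]; rfl

/-- the point action of `H0` -/
noncomputable def theta : D.H0 →* Equiv.Perm (Fin 13) where
  toFun g := ⟨D.pointMap g.1, D.pointMap (g⁻¹).1,
    fun p => by
      rw [← D.pointMap_mul (g⁻¹).2, Subgroup.coe_inv, inv_mul_cancel, D.pointMap_one],
    fun p => by
      rw [← D.pointMap_mul g.2, Subgroup.coe_inv, mul_inv_cancel, D.pointMap_one]⟩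
  map_one' := Equiv.ext fun p => D.pointMap_one p
  map_mul' g k := Equiv.ext fun p => D.pointMap_mul g.2 p

theorem theta_injective : Function.Injective D.theta := by
  rw [← MonoidHom.ker_eq_bot_iff, Subgroup.eq_bot_iff_forall]
  intro g hg
  have hp : ∀ a : Fl, (D.sigma g.1 a).1.1 = a.1.1 := by
    intro a
    rw [D.pointMap_spec g.2]
    exact Equiv.congr_fun (MonoidHom.mem_ker.1 hg) a.1.1
  apply Subtype.ext
  refine D.sigma_injective (Equiv.ext fun a => ?_)
  rw [Subgroup.coe_one, map_one, Equiv.Perm.one_apply]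
  refine sameP_sameL_eq (hp a) ?_
  obtain ⟨b, hb, hab⟩ := exists_lmate a
  have hne : a.1.1 ≠ b.1.1 := fun h => hab (sameP_sameL_eq h hb)
  have hl : (D.sigma g.1 a).1.2 = (D.sigma g.1 b).1.2 := D.H0_sameL g.2 hb
  refine inc_line_unique a.1.1 b.1.1 _ _ hne ?_ ?_ a.2 (hb ▸ b.2)
  · have := (D.sigma g.1 a).2; rwa [hp a] at this
  · rw [hl]; have := (D.sigma g.1 b).2; rwa [hp b] at this

end GI

/-- a point permutation mapping lines into lines -/
def IsColl (σ : Equiv.Perm (Fin 13)) : Prop :=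
  ∀ l, ∃ m, ∀ p, inc p l = true → inc (σ p) m = true

/-- the collineation group -/
def Coll : Subgroup (Equiv.Perm (Fin 13)) :=
  { carrier := {σ | IsColl σ}
    one_mem' := fun l => ⟨l, fun p h => h⟩
    mul_mem' := fun {s t} hs ht l => by
      obtain ⟨m, hm⟩ := ht l
      obtain ⟨n, hn⟩ := hs m
      exact ⟨n, fun p h => hn _ (hm p h)⟩
    inv_mem' := fun {s} hs => by
      obtain ⟨n, hn⟩ : ∃ n : ℕ, s⁻¹ = s ^ n := ⟨orderOf s - 1, (inv_eq_of_mul_eq_one_right (by
        rw [← pow_succ', Nat.sub_add_cancel (orderOf_pos s), pow_orderOf_eq_one]))⟩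
      intro l
      rw [hn]
      clear hn
      induction n generalizing l with
      | zero => exact ⟨l, fun p h => by simpa using h⟩
      | succ n ih =>
        obtain ⟨m, hm⟩ := ih l
        obtain ⟨k, hk⟩ := hs m
        exact ⟨k, fun p h => by rw [pow_succ', Equiv.Perm.mul_apply]; exact hk _ (hm p h)⟩ }

theorem GI.theta_range_le {H : Type*} [Group H] (D : GI H) : D.theta.range ≤ Coll := by
  rintro _ ⟨g, rfl⟩ l
  obtain ⟨p₀, hp₀⟩ := (by decide +kernel : ∀ l : Fin 13, ∃ p, inc p l = true) l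
  refine ⟨(D.sigma g.1 ⟨(p₀, l), hp₀⟩).1.2, fun p hp => ?_⟩
  have hl : (D.sigma g.1 ⟨(p₀, l), hp₀⟩).1.2 = (D.sigma g.1 ⟨(p, l), hp⟩).1.2 :=
    D.H0_sameL g.2 rfl
  have h := (D.sigma g.1 ⟨(p, l), hp⟩).2
  rw [hl, ← show (D.sigma g.1 ⟨(p, l), hp⟩).1.1 = D.theta g p from D.pointMap_spec g.2 _]
  exact h

theorem coll_fix {σ : Equiv.Perm (Fin 13)} (hσ : IsColl σ) {r a b c d l m : Fin 13} (hlm : l ≠ m)
    (hab : a ≠ b) (hcd : c ≠ d) (hal : inc a l = true) (hbl : inc b l = true)
    (hrl : inc r l = true) (hcm : inc c m = true) (hdm : inc d m = true) (hrm : inc r m = true)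
    (fa : σ a = a) (fb : σ b = b) (fc : σ c = c) (fd : σ d = d) : σ r = r := by
  obtain ⟨l', hl'⟩ := hσ l
  obtain ⟨m', hm'⟩ := hσ m
  have el : l' = l := inc_line_unique a b _ _ hab (fa ▸ hl' a hal) (fb ▸ hl' b hbl) hal hbl
  have em : m' = m := inc_line_unique c d _ _ hcd (fc ▸ hm' c hcm) (fd ▸ hm' d hdm) hcm hdm
  exact meet_unique hlm (el ▸ hl' r hrl) hrl (em ▸ hm' r hrm) hrm

theorem coll_eq_one {σ : Equiv.Perm (Fin 13)} (hσ : IsColl σ) (h0 : σ 0 = 0) (h1 : σ 1 = 1)
    (h2 : σ 2 = 2) (h3 : σ 3 = 3) : σ = 1 := by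
  have h4 : σ 4 = 4 := coll_fix hσ (a := 0) (b := 1) (c := 2) (d := 3) (l := 2) (m := 10)
    (by decide) (by decide) (by decide) rfl rfl rfl rfl rfl rfl h0 h1 h2 h3
  have h5 : σ 5 = 5 := coll_fix hσ (a := 0) (b := 2) (c := 1) (d := 3) (l := 1) (m := 8)
    (by decide) (by decide) (by decide) rfl rfl rfl rfl rfl rfl h0 h2 h1 h3
  have h6 : σ 6 = 6 := coll_fix hσ (a := 1) (b := 2) (c := 0) (d := 3) (l := 0) (m := 7)
    (by decide) (by decide) (by decide) rfl rfl rfl rfl rfl rfl h1 h2 h0 h3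
  have h7 : σ 7 = 7 := coll_fix hσ (a := 1) (b := 2) (c := 4) (d := 5) (l := 0) (m := 12)
    (by decide) (by decide) (by decide) rfl rfl rfl rfl rfl rfl h1 h2 h4 h5
  have h8 : σ 8 = 8 := coll_fix hσ (a := 0) (b := 2) (c := 3) (d := 7) (l := 1) (m := 3)
    (by decide) (by decide) (by decide) rfl rfl rfl rfl rfl rfl h0 h2 h3 h7
  have h9 : σ 9 = 9 := coll_fix hσ (a := 1) (b := 8) (c := 0) (d := 7) (l := 5) (m := 6)
    (by decide) (by decide) (by decide) rfl rfl rfl rfl rfl rfl h1 h8 h0 h7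
  have h10 : σ 10 = 10 := coll_fix hσ (a := 0) (b := 1) (c := 3) (d := 7) (l := 2) (m := 3)
    (by decide) (by decide) (by decide) rfl rfl rfl rfl rfl rfl h0 h1 h3 h7
  have h11 : σ 11 = 11 := coll_fix hσ (a := 2) (b := 10) (c := 0) (d := 7) (l := 4) (m := 6)
    (by decide) (by decide) (by decide) rfl rfl rfl rfl rfl rfl h2 h10 h0 h7
  have h12 : σ 12 = 12 := coll_fix hσ (a := 2) (b := 10) (c := 1) (d := 8) (l := 4) (m := 5)
    (by decide) (by decide) (by decide) rfl rfl rfl rfl rfl rfl h2 h10 h1 h8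
  apply Equiv.ext
  intro p
  fin_cases p <;> simpa using ‹_›

/-- collinearity, as a Boolean -/
def col (a b c : Fin 13) : Bool := decide (∃ l, inc a l = true ∧ inc b l = true ∧ inc c l = true)

/-- the lines through two points, as bit masks -/
def maskTab : Array ℕ :=
  #[8191, 1043, 293, 4169, 1043, 293, 4169, 2689, 293, 2689, 1043, 2689, 4169, 1043, 8191, 198, 2090, 1043, 2090, 198, 198, 4866, 4866, 1043, 2090, 4866, 293, 198, 8191, 540, 540, 293, 198, 198, 293, 540, 7172, 7172, 7172, 4169, 2090, 540, 8191, 540, 2090, 4169, 1416, 1416, 540, 1416, 2090, 4169, 1043, 1043, 540, 540, 8191, 4272, 2384, 4272, 2384, 540, 1043, 2384, 4272, 293, 2090, 293, 2090, 4272, 8191, 1632, 4272, 293, 1632, 1632, 2090, 4272, 4169, 198, 198, 4169, 2384, 1632, 8191, 198, 2384, 1632, 1632, 2384, 4169, 2689, 198, 198, 1416, 4272, 4272, 198, 8191, 1416, 2689, 1416, 2689, 4272, 293, 4866, 293, 1416, 2384, 293, 2384, 1416, 8191, 4866, 1416, 2384, 4866, 2689, 4866, 540, 540, 540, 1632, 1632, 2689,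 4866, 8191, 1632, 2689, 4866, 1043, 1043, 7172, 1416, 1043, 1632, 1632, 1416, 1416, 1632, 8191, 7172, 7172, 2689, 2090, 7172, 2090, 2384, 2090, 2384, 2689, 2384, 2689, 7172, 8191, 7172, 4169, 4866, 7172, 4169, 4272, 4272, 4169, 4272, 4866, 4866, 7172, 7172, 8191]

def colB (a b c : Fin 13) : Bool := (maskTab.getD (13 * a.val + b.val) 0).testBit c.val

theorem col_eq_colB : ∀ a b c : Fin 13, col a b c = colB a b c := by decide +kernel

/-- ordered quadruples in general position -/
def frames : List (Fin 13 × Fin 13 × Fin 13 × Fin 13) :=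
  (List.finRange 13).flatMap fun a => (List.finRange 13).flatMap fun b =>
    if a = b then [] else (List.finRange 13).flatMap fun c =>
      if colB a b c then [] else (List.finRange 13).filterMap fun d =>
        if colB a b d || colB a c d || colB b c d then none else some (a, b, c, d)

theorem length_frames : frames.length = 5616 := by decide +kernel

theorem mem_frames {a b c d : Fin 13} (hab : a ≠ b) (h1 : col a b c = false) (h2 : col a b d = false)
    (h3 : col a c d = false) (h4 : col b c d = false) : (a, b, c, d) ∈ frames := by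
  rw [col_eq_colB] at h1 h2 h3 h4
  simp only [frames, List.mem_flatMap, List.mem_finRange, true_and]
  refine ⟨a, b, ?_⟩
  rw [if_neg hab, List.mem_flatMap]
  refine ⟨c, List.mem_finRange c, ?_⟩
  rw [h1]
  simp only [Bool.false_eq_true, if_false, List.mem_filterMap]
  exact ⟨d, List.mem_finRange d, by simp [h2, h3, h4]⟩

theorem col_false_map {σ : Equiv.Perm (Fin 13)} (hσ : σ ∈ Coll) {a b c : Fin 13}
    (h : col a b c = false) : col (σ a) (σ b) (σ c) = false := by
  rw [col, decide_eq_false_iff_not] at h ⊢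
  rintro ⟨l, h1, h2, h3⟩
  obtain ⟨m, hm⟩ := (inv_mem hσ : σ⁻¹ ∈ Coll) l
  exact h ⟨m, by simpa using hm _ h1, by simpa using hm _ h2, by simpa using hm _ h3⟩

theorem card_Coll_le : Nat.card Coll ≤ 5616 := by
  let f : Coll → {t // t ∈ frames.toFinset} := fun s =>
    ⟨(s.1 0, s.1 1, s.1 2, s.1 3), by
      have h0 : ∀ a b c : Fin 13, col a b c = false → col (s.1 a) (s.1 b) (s.1 c) = false :=
        fun a b c h => col_false_map s.2 h
      exact List.mem_toFinset.2 (mem_frames (s.1.injective.ne (by decide)) (h0 _ _ _ (by decide +kernel))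
        (h0 _ _ _ (by decide +kernel)) (h0 _ _ _ (by decide +kernel)) (h0 _ _ _ (by decide +kernel)))⟩
  have hf : Function.Injective f := by
    intro s t h
    simp only [f, Subtype.mk.injEq, Prod.mk.injEq] at h
    obtain ⟨e0, e1, e2, e3⟩ := h
    apply Subtype.ext
    have : t.1⁻¹ * s.1 = 1 := by
      refine coll_eq_one (Coll.mul_mem (inv_mem t.2) s.2) ?_ ?_ ?_ ?_ <;> simp [e0, e1, e2, e3]
    exact (inv_mul_eq_one.1 this).symm
  refine (Nat.card_le_card_of_injective f hf).trans ?_
  rw [Nat.card_eq_fintype_card, Fintype.card_coe]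
  exact frames.toFinset_card_le.trans length_frames.le

theorem H0_top_S (D : GI S) : D.H0 = ⊤ := by
  rcases D.H0_index with h | h
  · exact Subgroup.index_eq_one.1 h
  · exfalso
    have hn := Subgroup.normal_of_index_eq_two h
    rcases hn.eq_bot_or_eq_top with e | e
    · rw [e, Subgroup.index_bot, card_S] at h; norm_num at h
    · rw [e, Subgroup.index_top] at h; norm_num at h

/-- `SL(3,3)` is the collineation group of its plane -/
noncomputable def collEquiv : S ≃* Coll :=
  let D : GI S := ⟨Equiv.refl S, rfl, fun _ _ => Iff.rfl⟩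
  let f : S →* Coll := (Subgroup.inclusion D.theta_range_le).comp
    (D.theta.rangeRestrict.comp ((MulEquiv.subgroupCongr (H0_top_S D)).trans
      Subgroup.topEquiv).symm.toMonoidHom)
  have hf : Function.Injective f :=
    (Subgroup.inclusion_injective D.theta_range_le).comp
      ((D.theta.rangeRestrict_injective_iff.2 D.theta_injective).comp (MulEquiv.injective _))
  MulEquiv.ofBijective f ((Nat.bijective_iff_injective_and_card f).2
    ⟨hf, le_antisymm (Nat.card_le_card_of_injective f hf) (card_S ▸ card_Coll_le)⟩)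

theorem GI.iso {H : Type*} [Group H] (D : GI H) : Nonempty (H ≃* S) := by
  haveI : Finite H := Finite.of_equiv S D.e.symm
  let f : D.H0 →* S := collEquiv.symm.toMonoidHom.comp
    ((Subgroup.inclusion D.theta_range_le).comp D.theta.rangeRestrict)
  have hf : Function.Injective f :=
    collEquiv.symm.injective.comp ((Subgroup.inclusion_injective D.theta_range_le).comp
      (D.theta.rangeRestrict_injective_iff.2 D.theta_injective))
  have hcard : Nat.card f.range = Nat.card D.H0 :=
    (Nat.card_congr (MonoidHom.ofInjective hf).toEquiv).symm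
  rcases D.H0_index with h | h
  · have hb : Function.Bijective f := by
      refine (Nat.bijective_iff_injective_and_card f).2 ⟨hf, ?_⟩
      have := D.H0.card_mul_index
      rw [h, mul_one, D.card_eq] at this
      rw [this, card_S]
    exact ⟨((MulEquiv.subgroupCongr (Subgroup.index_eq_one.1 h)).trans
      Subgroup.topEquiv).symm.trans (MulEquiv.ofBijective f hb)⟩
  · exfalso
    have h1 := D.H0.card_mul_index
    rw [h, D.card_eq] at h1
    have h2 : f.range.index = 2 := by
      have := f.range.card_mul_index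
      rw [hcard, card_S] at this
      exact Nat.eq_of_mul_eq_mul_left Nat.card_pos (this.trans h1.symm)
    have hn := Subgroup.normal_of_index_eq_two h2
    rcases hn.eq_bot_or_eq_top with e | e
    · rw [e, Subgroup.index_bot, card_S] at h2; norm_num at h2
    · rw [e, Subgroup.index_top] at h2; norm_num at h2

end Cfsg.Agent.CommGraphL33
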