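import Mathlib
import Cfsg.Agent.Lib.UnipotentGL
import Cfsg.Agent.Lib.PSLCard

/-!
Elements of prime order commuting with a nonzero nilpotent endomorphism.
-/

set_option autoImplicit false

namespace Cfsg.Agent.CommutingUnipotent

open Module

variable {F V : Type*} [Field F] [AddCommGroup V] [Module F V]

theorem eq_of_pow_eq {R : Type*} [Monoid R] {c : R} {r : ℕ} (hc : c ^ r = 1) (m : ℕ) :
    c ^ m = c ^ (m % r) := by
  conv_lhs => rw [← Nat.mod_add_div m r, pow_add, pow_mul, hc, one_pow, mul_one]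

/-- An element of prime order moving a subspace forces a divisibility. -/
theorem dvd_pow_sub_one [Finite F] [FiniteDimensional F V] {r : ℕ} [Fact r.Prime]
    (c : Module.End F V) (hc : c ^ r = 1) (W : Submodule F V) (hW : ∀ v ∈ W, c v ∈ W)
    (W0 : Submodule F V) (hW0 : W0 ≤ W) (hfix : ∀ v ∈ W, v ∈ W0 ↔ c v = v) (hne : W0 ≠ W) :
    ∃ i, 1 ≤ i ∧ i + finrank F W0 = finrank F W ∧
      (r ∣ Nat.card F ∨ r ∣ Nat.card F ^ i - 1) := by
  classical
  have : Finite V := Module.finite_of_finite F
  have := Fintype.ofFinite V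
  let σ : Equiv.Perm W :=
    { toFun := fun w => ⟨c w, hW _ w.2⟩
      invFun := fun w => ⟨(c ^ (r - 1)) w, by
        suffices h : ∀ m : ℕ, (c ^ m) (w : V) ∈ W from h _
        intro m
        induction m with
        | zero => simp
        | succ m ih => rw [pow_succ', Module.End.mul_apply]; exact hW _ ih⟩
      left_inv := fun w => Subtype.ext (by
        show (c ^ (r - 1)) (c w) = w
        rw [← Module.End.mul_apply, ← pow_succ, Nat.sub_add_cancel (Fact.out : r.Prime).one_le, hc,
          Module.End.one_apply])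
      right_inv := fun w => Subtype.ext (by
        show c ((c ^ (r - 1)) w) = w
        rw [← Module.End.mul_apply, ← pow_succ', Nat.sub_add_cancel (Fact.out : r.Prime).one_le, hc,
          Module.End.one_apply]) }
  have hσpow : ∀ (m : ℕ) (w : W), (((σ ^ m) w : W) : V) = (c ^ m) w := by
    intro m
    induction m with
    | zero => simp
    | succ m ih =>
      intro w
      rw [pow_succ', Equiv.Perm.mul_apply, pow_succ', Module.End.mul_apply, ← ih]
      rfl
  have hσr : σ ^ r = 1 := Equiv.ext fun w => Subtype.ext (by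
    rw [hσpow, hc, Module.End.one_apply, Equiv.Perm.one_apply])
  have hP : IsPGroup r (Subgroup.zpowers σ) := by
    intro g
    refine ⟨1, Subtype.ext ?_⟩
    obtain ⟨k, hk⟩ := Subgroup.mem_zpowers_iff.1 g.2
    rw [pow_one, Subgroup.coe_pow, ← hk, Subgroup.coe_one, ← zpow_natCast, ← zpow_mul, mul_comm,
      zpow_mul, zpow_natCast, hσr, one_zpow]
  have hmod := hP.card_modEq_card_fixedPoints W
  have hfp : Nat.card (MulAction.fixedPoints (Subgroup.zpowers σ) W) = Nat.card W0 := by
    refine Nat.card_congr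
      { toFun := fun w => ⟨((w : W) : V), (hfix _ (w : W).2).2 ?_⟩
        invFun := fun v => ⟨⟨v, hW0 v.2⟩, fun g => ?_⟩
        left_inv := fun w => Subtype.ext (Subtype.ext rfl)
        right_inv := fun v => Subtype.ext rfl }
    · have := w.2 ⟨σ, Subgroup.mem_zpowers σ⟩
      exact congrArg Subtype.val this
    · obtain ⟨k, hk⟩ := Subgroup.mem_zpowers_iff.1 g.2
      show (g : Equiv.Perm W) _ = _
      rw [← hk]
      exact Equiv.Perm.zpow_apply_eq_self_of_apply_eq_self
        (Subtype.ext ((hfix _ (hW0 v.2)).1 v.2)) k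
  rw [hfp, Module.natCard_eq_pow_finrank (K := F) (V := W),
    Module.natCard_eq_pow_finrank (K := F) (V := W0)] at hmod
  have hlt : finrank F W0 < finrank F W := Submodule.finrank_lt_finrank_of_lt (lt_of_le_of_ne hW0 hne)
  refine ⟨finrank F W - finrank F W0, by omega, by omega, ?_⟩
  have hq : 0 < Nat.card F := Nat.card_pos
  have h1 : r ∣ Nat.card F ^ finrank F W - Nat.card F ^ finrank F W0 :=
    (Nat.modEq_iff_dvd' (Nat.pow_le_pow_right hq hlt.le)).1 hmod.symm
  conv at h1 => arg 2; rw [← Nat.sub_add_cancel hlt.le, pow_add, ← Nat.sub_one_mul]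
  rcases (Fact.out : r.Prime).dvd_mul.1 h1 with h | h
  · exact Or.inr h
  · exact Or.inl ((Fact.out : r.Prime).dvd_of_dvd_pow h)

/-- The three cases for an element commuting with a square-zero map. -/
theorem exists_dvd_of_commute [Finite F] [FiniteDimensional F V] {p r : ℕ} [Fact p.Prime]
    [CharP F p] [Fact r.Prime] (hrp : r ≠ p) (c : Module.End F V) (hc : c ^ r = 1) (hc1 : c ≠ 1)
    (K : Module.End F V) (hK : K * K = 0) (hK0 : K ≠ 0) (hcK : c * K = K * c) :
    ∃ i, 1 ≤ i ∧ (2 * i ≤ finrank F V ∨ i + 2 ≤ finrank F V) ∧ r ∣ Nat.card F ^ i - 1 := by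
  classical
  have hr : ¬ r ∣ Nat.card F := fun h => hrp (by
    have := Fintype.ofFinite F
    rw [Nat.card_eq_fintype_card] at h
    obtain ⟨n, hp, hn⟩ := FiniteField.card F p
    rw [hn] at h
    exact (Nat.prime_dvd_prime_iff_eq Fact.out hp).1 ((Fact.out : r.Prime).dvd_of_dvd_pow h))
  have hle : LinearMap.range K ≤ LinearMap.ker K := by
    rintro _ ⟨v, rfl⟩
    exact LinearMap.mem_ker.2 (by rw [← Module.End.mul_apply, hK, LinearMap.zero_apply])
  have hrk := LinearMap.finrank_range_add_finrank_ker K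
  have hd : 0 < finrank F (LinearMap.range K) := by
    rw [Nat.pos_iff_ne_zero]
    intro h
    exact hK0 (LinearMap.range_eq_bot.1 (Submodule.finrank_eq_zero.1 h))
  have hmono := Submodule.finrank_mono hle
  have hcv : ∀ v, c (K v) = K (c v) := fun v => by
    rw [← Module.End.mul_apply, hcK, Module.End.mul_apply]
  let Fix : Submodule F V := LinearMap.ker (c - 1)
  have hFix : ∀ v, v ∈ Fix ↔ c v = v := fun v => by simp [Fix, sub_eq_zero]
  have hI : ∀ v ∈ LinearMap.range K, c v ∈ LinearMap.range K := by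
    rintro _ ⟨v, rfl⟩; exact ⟨c v, (hcv v).symm⟩
  have hKer : ∀ v ∈ LinearMap.ker K, c v ∈ LinearMap.ker K := fun v hv => by
    rw [LinearMap.mem_ker] at hv ⊢
    rw [← hcv, hv, map_zero]
  by_cases hA : LinearMap.range K ≤ Fix
  · by_cases hB : LinearMap.ker K ≤ Fix
    · exfalso
      have h1 : (c - 1) * (c - 1) = 0 := by
        refine LinearMap.ext fun v => ?_
        have hK' : K v ∈ Fix := hA ⟨v, rfl⟩
        have : c v - v ∈ LinearMap.ker K := by
          rw [LinearMap.mem_ker, map_sub, ← hcv, (hFix _).1 hK', sub_self]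
        have h2 := (hFix _).1 (hB this)
        show (c - 1) ((c - 1) v) = 0
        simp only [LinearMap.sub_apply, Module.End.one_apply]
        rw [h2, sub_self]
      have : Nontrivial V := by
        by_contra hV
        rw [not_nontrivial_iff_subsingleton] at hV
        exact hc1 (LinearMap.ext fun v => Subsingleton.elim _ _)
      have : CharP (Module.End F V) p :=
        charP_of_injective_algebraMap (algebraMap F (Module.End F V)).injective p
      have h3 : c ^ p = 1 := by
        have h4 : (c - 1) ^ p = 0 :=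
          pow_eq_zero_of_le (Fact.out : p.Prime).two_le (by rw [sq, h1])
        rw [sub_pow_char_of_commute p (Commute.one_right c), one_pow, sub_eq_zero] at h4
        exact h4
      have := pow_gcd_eq_one.2 ⟨hc, h3⟩
      rw [(Nat.coprime_primes Fact.out Fact.out).2 hrp, pow_one] at this
      exact hc1 this
    · obtain ⟨i, hi, hd', hdiv⟩ := dvd_pow_sub_one (r := r) c hc (LinearMap.ker K) hKer
        (LinearMap.ker K ⊓ Fix) inf_le_left (fun v hv => by simp [hv, hFix])
        (fun e => hB (e ▸ inf_le_right))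
      refine ⟨i, hi, Or.inr ?_, hdiv.resolve_left hr⟩
      have := Submodule.finrank_mono (le_inf hle hA)
      omega
  · obtain ⟨i, hi, hd', hdiv⟩ := dvd_pow_sub_one (r := r) c hc (LinearMap.range K) hI
      (LinearMap.range K ⊓ Fix) inf_le_left (fun v hv => by simp [hv, hFix])
      (fun e => hA (e ▸ inf_le_right))
    refine ⟨i, hi, Or.inl ?_, hdiv.resolve_left hr⟩
    omega

/-- A nilpotent map has a nonzero square-zero power. -/
theorem exists_square_zero {R : Type*} [MonoidWithZero R] {M : R} (h : IsNilpotent M) (h0 : M ≠ 0) :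
    ∃ j, M ^ j ≠ 0 ∧ M ^ j * M ^ j = 0 := by
  classical
  have hex : ∃ n, M ^ n = 0 := h
  have h1 : Nat.find hex ≠ 0 := fun e => by
    have := Nat.find_spec hex
    rw [e, pow_zero] at this
    exact h0 (by rw [← mul_one M, this, mul_zero])
  have h2 : Nat.find hex ≠ 1 := fun e => by
    have := Nat.find_spec hex
    rw [e, pow_one] at this
    exact h0 this
  refine ⟨Nat.find hex - 1, Nat.find_min hex (by omega), ?_⟩
  rw [← pow_add]
  exact pow_eq_zero_of_le (by omega) (Nat.find_spec hex)

/-- Divisors of the order of the special linear group. -/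
theorem dvd_card_SL [Finite F] {m r : ℕ} (hm : 2 ≤ m) (hr : r.Prime)
    (h : r ∣ Nat.card F ∨ ∃ i, 1 ≤ i ∧ i ≤ m ∧ r ∣ Nat.card F ^ i - 1) :
    r ∣ Nat.card (Matrix.SpecialLinearGroup (Fin m) F) := by
  have : NeZero m := ⟨by omega⟩
  set q := Nat.card F with hq
  have hq1 : 1 < q := Finite.one_lt_card
  have hcard := PSLCard.card_SL (F := F) m
  rw [← hq] at hcard
  obtain ⟨i, hi2, him, hdiv⟩ : ∃ i, 2 ≤ i ∧ i ≤ m ∧ r ∣ q * (q ^ i - 1) := by
    rcases h with h | ⟨i, hi1, him, h⟩
    · exact ⟨2, le_rfl, hm, dvd_mul_of_dvd_left h _⟩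
    · rcases eq_or_lt_of_le hi1 with rfl | hlt
      · exact ⟨2, le_rfl, hm, dvd_mul_of_dvd_right
          (h.trans (by rw [pow_one]; exact Nat.sub_one_dvd_pow_sub_one q 2)) _⟩
      · exact ⟨i, hlt, him, dvd_mul_of_dvd_right h _⟩
  let a : Fin m := ⟨m - 1, by omega⟩
  let b : Fin m := ⟨m - i, by omega⟩
  have hab : a ≠ b := fun e => by simp [a, b] at e; omega
  have hprod : (q ^ m - q ^ (a : ℕ)) * (q ^ m - q ^ (b : ℕ)) ∣
      ∏ k : Fin m, (q ^ m - q ^ (k : ℕ)) := by
    rw [← Finset.prod_pair hab (f := fun k : Fin m => q ^ m - q ^ (k : ℕ))]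
    exact Finset.prod_dvd_prod_of_subset _ _ _ (Finset.subset_univ _)
  have e1 : q ^ m - q ^ (a : ℕ) = q ^ (m - 1) * (q - 1) := by
    rw [Nat.mul_sub, mul_one, ← pow_succ, Nat.sub_add_cancel (by omega : 1 ≤ m)]
  have e2 : q ^ m - q ^ (b : ℕ) = q ^ (m - i) * (q ^ i - 1) := by
    rw [Nat.mul_sub, mul_one, ← pow_add, Nat.sub_add_cancel him]
  have h4 : (q - 1) * (q * (q ^ i - 1)) ∣ (q - 1) * Nat.card (Matrix.SpecialLinearGroup (Fin m) F) := by
    rw [hcard]
    refine dvd_trans ?_ hprod
    rw [e1, e2]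
    have : q ∣ q ^ (m - 1) := dvd_pow_self q (by omega)
    calc (q - 1) * (q * (q ^ i - 1)) = q * (q - 1) * (q ^ i - 1) := by ring
      _ ∣ q ^ (m - 1) * (q - 1) * (q ^ i - 1) :=
        mul_dvd_mul_right (mul_dvd_mul_right this _) _
      _ ∣ _ := mul_dvd_mul_left _ (dvd_mul_left _ _)
  exact hdiv.trans (Nat.dvd_of_mul_dvd_mul_left (by omega) h4)

end Cfsg.Agent.CommutingUnipotent
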