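import Mathlib

/-!
Bounds on the length of subnormal series, without Jordan–Hölder: `CL G b` says that in every weakly increasing
series ending at the whole group, with each term normal in the next, at most `b` steps are strict.
-/

set_option autoImplicit false

namespace Cfsg.Agent.CompLengthChains

variable {G Q : Type*} [Group G] [Group Q]

open scoped Classical in
/-- The number of strict steps among the first `l` steps. -/
noncomputable def strictCount (H : ℕ → Subgroup G) (l : ℕ) : ℕ :=
  ((Finset.range l).filter (fun i => H i < H (i + 1))).card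

/-- A weakly increasing subnormal series ending at `⊤`. -/
def IsSeries (H : ℕ → Subgroup G) (l : ℕ) : Prop :=
  H l = ⊤ ∧ ∀ i < l, H i ≤ H (i + 1) ∧ ((H i).subgroupOf (H (i + 1))).Normal

/-- Every series has at most `b` strict steps. -/
def CL (G : Type*) [Group G] (b : ℕ) : Prop :=
  ∀ (l : ℕ) (H : ℕ → Subgroup G), IsSeries H l → strictCount H l ≤ b

lemma CL.mono {a b : ℕ} (h : CL G a) (hab : a ≤ b) : CL G b := fun l H hH => (h l H hH).trans hab

lemma strictCount_succ (H : ℕ → Subgroup G) (l : ℕ) [Decidable (H l < H (l + 1))] :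
    strictCount H (l + 1) = strictCount H l + if H l < H (l + 1) then 1 else 0 := by
  classical
  unfold strictCount
  rw [Finset.range_add_one, Finset.filter_insert]
  split_ifs with h
  · rw [Finset.card_insert_of_notMem (by simp)]
  · simp

lemma isSeries_comap (φ : G →* Q) {H : ℕ → Subgroup Q} {l : ℕ} (hH : IsSeries H l) :
    IsSeries (fun i => (H i).comap φ) l := by
  refine ⟨by show (H l).comap φ = ⊤; rw [hH.1]; exact Subgroup.comap_top φ, fun i hi => ?_⟩
  obtain ⟨hle, hn⟩ := hH.2 i hi
  refine ⟨Subgroup.comap_mono hle, ⟨fun x hx g => ?_⟩⟩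
  have := hn.conj_mem ⟨φ x.1, x.2⟩ hx ⟨φ g.1, g.2⟩
  show φ ((g : G) * (x : G) * (g : G)⁻¹) ∈ H i
  rw [map_mul, map_mul, map_inv]
  exact this

/-- Quotients have shorter series. -/
lemma CL.of_surjective {b : ℕ} (h : CL G b) (φ : G →* Q) (hφ : Function.Surjective φ) : CL Q b := by
  classical
  intro l H hH
  refine le_trans (Finset.card_le_card ?_) (h l _ (isSeries_comap φ hH))
  intro i hi
  rw [Finset.mem_filter] at hi ⊢
  refine ⟨hi.1, lt_of_le_of_ne (Subgroup.comap_mono hi.2.le) fun he => hi.2.ne ?_⟩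
  have := congrArg (Subgroup.map φ) he
  rwa [Subgroup.map_comap_eq_self_of_surjective hφ, Subgroup.map_comap_eq_self_of_surjective hφ] at this

lemma CL.of_mulEquiv {b : ℕ} (h : CL G b) (e : G ≃* Q) : CL Q b := h.of_surjective e.toMonoidHom e.surjective

/-- An extension adds lengths. -/
lemma CL.ext {N : Subgroup G} [N.Normal] {a b : ℕ} (hN : CL N a) (hQ : CL (G ⧸ N) b) : CL G (a + b) := by
  classical
  intro l H hH
  have h1 : IsSeries (fun i => (H i).subgroupOf N) l := isSeries_comap N.subtype hH
  have h2 : IsSeries (fun i => (H i).map (QuotientGroup.mk' N)) l := by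
    refine ⟨?_, fun i hi => ?_⟩
    · show (H l).map (QuotientGroup.mk' N) = ⊤
      rw [hH.1]; exact Subgroup.map_top_of_surjective _ (QuotientGroup.mk'_surjective N)
    obtain ⟨hle, hn⟩ := hH.2 i hi
    refine ⟨Subgroup.map_mono hle, ⟨?_⟩⟩
    rintro ⟨x, hx'⟩ hx ⟨g, hg⟩
    obtain ⟨y, hy, rfl⟩ := hx
    obtain ⟨z, hz, rfl⟩ := hg
    exact ⟨z * y * z⁻¹, hn.conj_mem ⟨y, hle hy⟩ hy ⟨z, hz⟩, by simp⟩
  refine le_trans ?_ (Nat.add_le_add (hN l _ h1) (hQ l _ h2))
  refine le_trans (Finset.card_le_card ?_) (Finset.card_union_le _ _)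
  intro i hi
  simp only [Finset.mem_filter, Finset.mem_union] at hi ⊢
  obtain ⟨hl, hlt⟩ := hi
  obtain ⟨hle, -⟩ := hH.2 i (Finset.mem_range.mp hl)
  by_contra hcon
  push Not at hcon
  have e1 : (H i).subgroupOf N = (H (i + 1)).subgroupOf N :=
    eq_of_le_of_not_lt (Subgroup.comap_mono hle) (hcon.1 hl)
  have e2 : (H i).map (QuotientGroup.mk' N) = (H (i + 1)).map (QuotientGroup.mk' N) :=
    eq_of_le_of_not_lt (Subgroup.map_mono hle) (hcon.2 hl)
  apply hlt.ne
  refine le_antisymm hle fun x hx => ?_
  obtain ⟨y, hy, hxy⟩ : QuotientGroup.mk' N x ∈ (H i).map (QuotientGroup.mk' N) := e2 ▸ ⟨x, hx, rfl⟩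
  have hmem : y⁻¹ * x ∈ N := QuotientGroup.eq.mp hxy
  have h4 : (⟨y⁻¹ * x, hmem⟩ : N) ∈ (H (i + 1)).subgroupOf N :=
    (H (i + 1)).mul_mem ((H (i + 1)).inv_mem (hle hy)) hx
  rw [← e1] at h4
  have h5 : y * (y⁻¹ * x) ∈ H i := (H i).mul_mem hy h4
  rwa [mul_inv_cancel_left] at h5

lemma CL.ker_range {b a : ℕ} (φ : G →* Q) (hK : CL φ.ker a) (hR : CL φ.range b) : CL G (a + b) :=
  hK.ext (hR.of_mulEquiv (QuotientGroup.quotientKerEquivRange φ).symm)

lemma cl_subsingleton [Subsingleton G] : CL G 0 := by
  classical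
  intro l H _
  refine le_of_eq (Finset.card_eq_zero.mpr (Finset.filter_eq_empty_iff.mpr fun i _ h => h.ne (Subsingleton.elim _ _)))

lemma cl_isSimple [IsSimpleGroup G] : CL G 1 := by
  classical
  intro l H hH
  have key : ∀ k, k ≤ l → (H k = ⊥ ∨ H k = ⊤) := by
    intro k hk
    induction hk using Nat.decreasingInduction with
    | self => exact Or.inr hH.1
    | of_succ k hk ih =>
      obtain ⟨hle, hn⟩ := hH.2 k hk
      rcases ih with h | h
      · exact Or.inl (le_bot_iff.mp (h ▸ hle))
      · refine IsSimpleGroup.eq_bot_or_eq_top_of_normal (H k) ⟨fun x hx g => ?_⟩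
        exact hn.conj_mem ⟨x, hle hx⟩ hx ⟨g, h ▸ Subgroup.mem_top g⟩
  refine Finset.card_le_one.mpr fun i hi j hj => ?_
  simp only [Finset.mem_filter, Finset.mem_range] at hi hj
  have hmono : ∀ m k, m ≤ k → k ≤ l → H m ≤ H k := by
    intro m k hmk
    induction hmk with
    | refl => intro _; rfl
    | step h ih => intro hkl; exact (ih (by omega)).trans (hH.2 _ (by omega)).1
  have hval : ∀ {k}, k < l → H k < H (k + 1) → H k = ⊥ ∧ H (k + 1) = ⊤ := by
    intro k hk hlt
    refine ⟨(key k hk.le).resolve_right (fun h => not_top_lt (h ▸ hlt)), (key (k + 1) hk).resolve_left (fun h => not_lt_bot (h ▸ hlt))⟩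
  obtain ⟨hi0, hi1⟩ := hval hi.1 hi.2
  obtain ⟨hj0, hj1⟩ := hval hj.1 hj.2
  rcases lt_trichotomy i j with h | h | h
  · have := hmono (i + 1) j h hj.1.le
    rw [hi1, hj0] at this
    exact absurd (le_bot_iff.mp this) top_ne_bot
  · exact h
  · have := hmono (j + 1) i h hi.1.le
    rw [hj1, hi0] at this
    exact absurd (le_bot_iff.mp this) top_ne_bot

lemma cl_of_card_lt [Finite G] {b : ℕ} (h : Nat.card G < 2 ^ (b + 1)) : CL G b := by
  classical
  intro l H hH
  have key : ∀ k, k ≤ l → 2 ^ strictCount H k ≤ Nat.card (H k) := by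
    intro k
    induction k with
    | zero => intro _; exact Nat.one_le_iff_ne_zero.mpr Nat.card_pos.ne'
    | succ k ih =>
      intro hk
      rw [strictCount_succ]
      have h1 := ih (by omega)
      have hd := Subgroup.card_dvd_of_le (hH.2 k (by omega)).1
      split_ifs with hlt
      · obtain ⟨c, hc⟩ := hd
        have hc1 : 2 ≤ c := by
          rcases c with _ | _ | c
          · rw [mul_zero] at hc; exact absurd hc Nat.card_pos.ne'
          · exact absurd (Subgroup.eq_of_le_of_card_ge hlt.le (by simp [hc])) hlt.ne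
          · omega
        rw [pow_succ, hc]
        exact Nat.mul_le_mul h1 hc1
      · exact h1.trans (Nat.le_of_dvd Nat.card_pos hd)
  have := key l le_rfl
  rw [hH.1, Subgroup.card_top] at this
  by_contra hcon
  have := Nat.pow_le_pow_right (show 0 < 2 by norm_num) (not_le.mp hcon : b + 1 ≤ strictCount H l)
  omega

lemma cl_primeFactors [Finite G] {b : ℕ} (h : (Nat.card G).primeFactorsList.length ≤ b) : CL G b := by
  classical
  intro l H hH
  have key : ∀ k, k ≤ l → strictCount H k ≤ (Nat.card (H k)).primeFactorsList.length := by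
    intro k
    induction k with
    | zero => intro _; simp [strictCount]
    | succ k ih =>
      intro hk
      rw [strictCount_succ]
      have h1 := ih (by omega)
      obtain ⟨c, hc⟩ := Subgroup.card_dvd_of_le (hH.2 k (by omega)).1
      have hc0 : c ≠ 0 := fun h0 => by rw [h0, mul_zero] at hc; exact Nat.card_pos.ne' hc
      have hlen : (Nat.card (H (k + 1))).primeFactorsList.length =
          (Nat.card (H k)).primeFactorsList.length + c.primeFactorsList.length := by
        rw [hc, (Nat.perm_primeFactorsList_mul Nat.card_pos.ne' hc0).length_eq, List.length_append]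
      split_ifs with hlt
      · have hc1 : c ≠ 1 := fun h1 => hlt.ne (Subgroup.eq_of_le_of_card_ge hlt.le (by rw [hc, h1, mul_one]))
        have : 0 < c.primeFactorsList.length := by
          rw [List.length_pos_iff]
          intro he
          rcases (Nat.primeFactorsList_eq_nil c).mp he with h' | h' <;> omega
        omega
      · omega
  have := key l le_rfl
  rw [hH.1, Subgroup.card_top] at this
  omega

/-- A strict series gives the bound on its length. -/
lemma CL.length_le {b : ℕ} (h : CL G b) (l : ℕ) (H : Fin (l + 1) → Subgroup G) (hl : H (Fin.last l) = ⊤)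
    (hchain : ∀ i : Fin l, H i.castSucc < H i.succ ∧ ((H i.castSucc).subgroupOf (H i.succ)).Normal) : l ≤ b := by
  classical
  let H' : ℕ → Subgroup G := fun i => if hi : i < l + 1 then H ⟨i, hi⟩ else ⊤
  have e : ∀ i (hi : i < l), H' i = H (Fin.castSucc ⟨i, hi⟩) ∧ H' (i + 1) = H (Fin.succ ⟨i, hi⟩) := by
    intro i hi
    exact ⟨by simp only [H', dif_pos (show i < l + 1 by omega)]; rfl,
      by simp only [H', dif_pos (show i + 1 < l + 1 by omega)]; rfl⟩
  have hs : IsSeries H' l := by
    refine ⟨by simp only [H', dif_pos (Nat.lt_succ_self l)]; exact hl, fun i hi => ?_⟩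
    rw [(e i hi).1, (e i hi).2]
    exact ⟨(hchain ⟨i, hi⟩).1.le, (hchain ⟨i, hi⟩).2⟩
  have := h l H' hs
  rw [strictCount, Finset.filter_true_of_mem (fun i hi => by
    rw [(e i (Finset.mem_range.mp hi)).1, (e i (Finset.mem_range.mp hi)).2]
    exact (hchain _).1), Finset.card_range] at this
  exact this

end Cfsg.Agent.CompLengthChains
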