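import Mathlib

/-! Moments of the fixed point count of a finite transitive action. -/

set_option autoImplicit false

namespace Cfsg.Agent.DerangementMoments

variable {G Ω : Type*} [Group G] [MulAction G Ω]

/-- Number of fixed points of `g`. -/
noncomputable def fix (Ω : Type*) [MulAction G Ω] (g : G) : ℕ := Nat.card (MulAction.fixedBy Ω g)

/-- Number of orbits. -/
noncomputable def numOrbits (G Ω : Type*) [Group G] [MulAction G Ω] : ℕ :=
  Nat.card (Quotient (MulAction.orbitRel G Ω))

theorem sum_fix (G Ω : Type*) [Group G] [MulAction G Ω] [Fintype G] [Finite Ω] :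
    ∑ g : G, fix Ω g = numOrbits G Ω * Nat.card G := by
  classical
  haveI := Fintype.ofFinite Ω
  haveI : Fintype (MulAction.orbitRel.Quotient G Ω) := Fintype.ofFinite _
  haveI : ∀ a : G, Fintype ↥(MulAction.fixedBy Ω a) := fun a => Fintype.ofFinite _
  have := MulAction.sum_card_fixedBy_eq_card_orbits_mul_card_group G Ω
  unfold fix numOrbits
  simp only [Nat.card_eq_fintype_card]
  exact this

theorem numOrbits_eq_one (G Ω : Type*) [Group G] [MulAction G Ω] [MulAction.IsPretransitive G Ω] [Nonempty Ω] :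
    numOrbits G Ω = 1 := by
  haveI : Subsingleton (Quotient (MulAction.orbitRel G Ω)) := ⟨fun a b => by
    induction a using Quotient.inductionOn with | _ x => ?_
    induction b using Quotient.inductionOn with | _ y => ?_
    exact Quotient.sound (MulAction.exists_smul_eq G y x)⟩
  haveI : Nonempty (Quotient (MulAction.orbitRel G Ω)) := ‹Nonempty Ω›.map (Quotient.mk _)
  exact Nat.card_unique

theorem fix_one : fix Ω (1 : G) = Nat.card Ω := by
  unfold fix
  have h : MulAction.fixedBy Ω (1 : G) = Set.univ := Set.ext fun x => by simp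
  rw [h]; exact Nat.card_congr (Equiv.Set.univ Ω)

theorem fix_prod {Ω' : Type*} [MulAction G Ω'] (g : G) : fix (Ω × Ω') g = fix Ω g * fix Ω' g := by
  unfold fix
  rw [← Nat.card_prod]
  exact Nat.card_congr
    { toFun := fun x => (⟨x.1.1, congrArg Prod.fst x.2⟩, ⟨x.1.2, congrArg Prod.snd x.2⟩)
      invFun := fun x => ⟨(x.1.1, x.2.1), Prod.ext x.1.2 x.2.2⟩
      left_inv := fun x => rfl
      right_inv := fun x => rfl }

theorem two_le_numOrbits_prod (G Ω : Type*) [Group G] [MulAction G Ω] [Finite Ω] [Nontrivial Ω] :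
    2 ≤ numOrbits G (Ω × Ω) := by
  obtain ⟨a, b, hab⟩ := exists_pair_ne Ω
  have : Nontrivial (Quotient (MulAction.orbitRel G (Ω × Ω))) := by
    refine ⟨Quotient.mk _ (a, a), Quotient.mk _ (a, b), fun h => hab ?_⟩
    obtain ⟨g, hg⟩ := Quotient.exact h
    have h1 := congrArg Prod.fst hg
    have h2 := congrArg Prod.snd hg
    simp only [Prod.smul_fst, Prod.smul_snd] at h1 h2
    exact smul_left_cancel g (h1.trans h2.symm)
  exact Finite.one_lt_card

theorem fix_le [Finite Ω] (g : G) : fix Ω g ≤ Nat.card Ω :=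
  Finite.card_subtype_le _

theorem fix_eq_zero_iff [Finite Ω] (g : G) : fix Ω g = 0 ↔ ∀ x : Ω, g • x ≠ x := by
  unfold fix
  rw [Finite.card_eq_zero_iff, isEmpty_subtype]
  rfl

theorem eq_one_of_fix_eq [Finite Ω] [FaithfulSMul G Ω] (g : G) (h : fix Ω g = Nat.card Ω) : g = 1 := by
  apply eq_of_smul_eq_smul (α := Ω)
  intro x
  rw [one_smul]
  by_contra hx
  have h' : fix Ω g < Nat.card Ω := Finite.card_subtype_lt (p := fun y => y ∈ MulAction.fixedBy Ω g) hx
  omega

end Cfsg.Agent.DerangementMoments
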