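import Mathlib

/-!
Permutation group basics: orbit-stabilizer counting, regular subgroups, centralizers of
transitive groups, normal subgroups of primitive groups, derangements.
-/

set_option autoImplicit false

open MulAction

namespace Cfsg.Agent.PermBasic

universe u v

section Action

variable {G : Type u} [Group G] {X : Type v} [MulAction G X]

/-- Stabilizer in a subgroup is the stabilizer in the group cut down to the subgroup. -/
theorem stabilizer_subgroup_eq (N : Subgroup G) (a : X) :
    stabilizer N a = (stabilizer G a).subgroupOf N := rfl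

theorem map_stabilizer_subgroup (N : Subgroup G) (a : X) :
    (stabilizer N a).map N.subtype = stabilizer G a ⊓ N := by
  rw [stabilizer_subgroup_eq, Subgroup.subgroupOf_map_subtype]

theorem stabilizer_subgroup_eq_bot_iff (N : Subgroup G) (a : X) :
    stabilizer N a = ⊥ ↔ N ⊓ stabilizer G a = ⊥ := by
  rw [stabilizer_subgroup_eq, Subgroup.subgroupOf_eq_bot, disjoint_comm, disjoint_iff]

theorem stabilizer_subgroup_eq_bot_iff' (N : Subgroup G) (a : X) :
    stabilizer N a = ⊥ ↔ ∀ n ∈ N, n • a = a → n = 1 := by
  constructor
  · intro h n hn hna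
    have : (⟨n, hn⟩ : N) ∈ stabilizer N a := hna
    rw [h, Subgroup.mem_bot] at this
    exact congrArg Subtype.val this
  · intro h
    rw [Subgroup.eq_bot_iff_forall]
    intro n hn
    exact Subtype.ext (h n n.2 hn)

theorem stabilizer_eq_bot_iff' (a : X) : stabilizer G a = ⊥ ↔ ∀ g : G, g • a = a → g = 1 := by
  rw [Subgroup.eq_bot_iff_forall]; rfl

/-- Orbit-stabilizer for a transitive action. -/
theorem card_mul_card_stabilizer [IsPretransitive G X] (a : X) :
    Nat.card X * Nat.card (stabilizer G a) = Nat.card G := by
  rw [← index_stabilizer_of_transitive G a, Subgroup.index_mul_card]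

theorem card_orbit_mul_card_stabilizer (a : X) :
    Nat.card (orbit G a) * Nat.card (stabilizer G a) = Nat.card G := by
  rw [Nat.card_coe_set_eq, ← index_stabilizer, Subgroup.index_mul_card]

theorem card_dvd_of_transitive [IsPretransitive G X] [Nonempty X] :
    Nat.card X ∣ Nat.card G :=
  Dvd.intro _ (card_mul_card_stabilizer (G := G) (Classical.arbitrary X))

theorem card_orbit_dvd (a : X) : Nat.card (orbit G a) ∣ Nat.card G :=
  Dvd.intro _ (card_orbit_mul_card_stabilizer (G := G) a)

/-- The orbit map of a regular action. -/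
theorem orbitMap_bijective [IsPretransitive G X] {a : X} (h : stabilizer G a = ⊥) :
    Function.Bijective (fun g : G => g • a) := by
  refine ⟨fun g g' hgg => ?_, fun x => exists_smul_eq G a x⟩
  have : g'⁻¹ * g ∈ stabilizer G a := by
    rw [mem_stabilizer_iff, mul_smul]
    exact (congrArg (g'⁻¹ • ·) hgg).trans (inv_smul_smul g' a)
  rw [h, Subgroup.mem_bot, inv_mul_eq_one] at this
  exact this.symm

/-- A regular group is in bijection with the points. -/
noncomputable def regularEquiv [IsPretransitive G X] {a : X} (h : stabilizer G a = ⊥) : G ≃ X :=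
  Equiv.ofBijective _ (orbitMap_bijective h)

@[simp]
theorem regularEquiv_apply [IsPretransitive G X] {a : X} (h : stabilizer G a = ⊥) (g : G) :
    regularEquiv h g = g • a := rfl

theorem card_eq_of_regular [IsPretransitive G X] {a : X} (h : stabilizer G a = ⊥) :
    Nat.card G = Nat.card X :=
  Nat.card_congr (regularEquiv h)

theorem stabilizer_eq_bot_of_card_eq [IsPretransitive G X] [Finite G]
    (h : Nat.card G = Nat.card X) (a : X) : stabilizer G a = ⊥ := by
  apply Subgroup.eq_bot_of_card_eq
  have h1 := card_mul_card_stabilizer (G := G) a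
  rw [← h] at h1
  nlinarith [Nat.card_pos (α := G)]

/-- In a transitive action all point stabilizers are trivial as soon as one is. -/
theorem stabilizer_eq_bot_of_eq_bot [IsPretransitive G X] {a : X} (h : stabilizer G a = ⊥)
    (b : X) : stabilizer G b = ⊥ := by
  obtain ⟨g, rfl⟩ := exists_smul_eq G a b
  rw [stabilizer_smul_eq_stabilizer_map_conj, h, Subgroup.map_bot]

/-- An element commuting with a transitive group and fixing a point fixes everything. -/
theorem smul_eq_of_commute_transitive (H : Subgroup G) [IsPretransitive H X] {c : G}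
    (hc : ∀ h ∈ H, c * h = h * c) {a : X} (ha : c • a = a) (x : X) : c • x = x := by
  obtain ⟨h, rfl⟩ := exists_smul_eq H a x
  rw [Subgroup.smul_def, ← mul_smul, hc _ h.2, mul_smul, ha]

/-- The centralizer of a transitive subgroup is semiregular. -/
theorem eq_one_of_commute_transitive [FaithfulSMul G X] (H : Subgroup G) [IsPretransitive H X]
    {c : G} (hc : ∀ h ∈ H, c * h = h * c) {a : X} (ha : c • a = a) : c = 1 :=
  eq_of_smul_eq_smul fun x : X => by rw [one_smul, smul_eq_of_commute_transitive H hc ha x]

theorem stabilizer_centralizer_eq_bot [FaithfulSMul G X] (H : Subgroup G) [IsPretransitive H X]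
    (a : X) : stabilizer (Subgroup.centralizer (H : Set G)) a = ⊥ := by
  rw [stabilizer_subgroup_eq_bot_iff']
  intro c hc ha
  exact eq_one_of_commute_transitive H (fun h hh => ((Subgroup.mem_centralizer_iff.1 hc) h hh).symm) ha

/-- A faithful transitive abelian subgroup is regular. -/
theorem stabilizer_eq_bot_of_abelian [FaithfulSMul G X] (H : Subgroup G) [IsPretransitive H X]
    (hab : IsMulCommutative H) (a : X) : stabilizer H a = ⊥ := by
  rw [stabilizer_subgroup_eq_bot_iff']
  intro h hh ha
  refine eq_one_of_commute_transitive H (fun k hk => ?_) ha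
  exact congrArg Subtype.val (hab.is_comm.comm (⟨h, hh⟩ : H) ⟨k, hk⟩)

/-- If a centralizing subgroup is transitive, the group is semiregular. -/
theorem centralizer_le_of_abelian_transitive [FaithfulSMul G X] [Nonempty X] (H : Subgroup G)
    [IsPretransitive H X] (hab : IsMulCommutative H) :
    Subgroup.centralizer (H : Set G) ≤ H := by
  intro c hc
  let a : X := Classical.arbitrary X
  obtain ⟨h, hh⟩ := exists_smul_eq H a (c • a)
  have h1 : (h : G)⁻¹ * c = 1 := by
    refine eq_one_of_commute_transitive (a := a) H (fun k hk => ?_) ?_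
    · have e1 : c * k = k * c := ((Subgroup.mem_centralizer_iff.1 hc) k hk).symm
      have e2 : (h : G) * k = k * h := congrArg Subtype.val (hab.is_comm.comm h ⟨k, hk⟩)
      have e3 : Commute ((h : G)⁻¹ * c) k := (Commute.inv_left e2).mul_left e1
      exact e3
    · rw [mul_smul, ← hh, Subgroup.smul_def, inv_smul_smul]
  rw [inv_mul_eq_one] at h1
  rw [← h1]
  exact h.2

/-- A non-trivial normal subgroup of a faithful primitive group is transitive. -/
theorem isPretransitive_of_normal [IsPreprimitive G X] [FaithfulSMul G X] (N : Subgroup G)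
    [N.Normal] (hN : N ≠ ⊥) : IsPretransitive N X := by
  refine IsQuasiPreprimitive.isPretransitive_of_normal (G := G) fun h => hN ?_
  rw [Subgroup.eq_bot_iff_forall]
  intro n hn
  refine eq_of_smul_eq_smul fun x : X => ?_
  have hx : x ∈ fixedPoints N X := h ▸ Set.mem_univ x
  rw [one_smul]
  exact hx ⟨n, hn⟩

/-- A supergroup of a transitive subgroup is transitive. -/
theorem isPretransitive_of_le {H K : Subgroup G} (hle : H ≤ K) [IsPretransitive H X] :
    IsPretransitive K X := by
  refine ⟨fun x y => ?_⟩
  obtain ⟨h, hh⟩ := exists_smul_eq H x y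
  exact ⟨⟨h, hle h.2⟩, hh⟩

theorem isPretransitive_of_subgroup (H : Subgroup G) [IsPretransitive H X] :
    IsPretransitive G X := by
  refine ⟨fun x y => ?_⟩
  obtain ⟨h, hh⟩ := exists_smul_eq H x y
  exact ⟨h, hh⟩

theorem mul_stabilizer_eq_univ (N : Subgroup G) [IsPretransitive N X] (a : X) (g : G) :
    ∃ n ∈ N, ∃ s ∈ stabilizer G a, g = n * s := by
  obtain ⟨n, hn⟩ := exists_smul_eq N a (g • a)
  refine ⟨n, n.2, (n : G)⁻¹ * g, ?_, by group⟩
  rw [mem_stabilizer_iff, mul_smul, ← hn, Subgroup.smul_def, inv_smul_smul]

theorem sup_stabilizer_eq_top (N : Subgroup G) [IsPretransitive N X] (a : X) :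
    N ⊔ stabilizer G a = ⊤ := by
  rw [eq_top_iff]
  intro g _
  obtain ⟨n, hn, s, hs, rfl⟩ := mul_stabilizer_eq_univ N a g
  exact Subgroup.mul_mem_sup hn hs

/-- For a transitive subgroup, the index of the stabilizers is preserved. -/
theorem card_stabilizer_subgroup_mul (N : Subgroup G) [IsPretransitive N X] (a : X) :
    Nat.card X * Nat.card ↥(N ⊓ stabilizer G a) = Nat.card N := by
  rw [← card_mul_card_stabilizer (G := N) a]
  congr 1
  rw [inf_comm, ← map_stabilizer_subgroup, Subgroup.card_map_of_injective N.subtype_injective]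

/-- A regular normal subgroup is a complement of a point stabilizer. -/
theorem isComplement_of_regular [Finite G] (N : Subgroup G) [IsPretransitive N X] {a : X}
    (h : stabilizer N a = ⊥) : N.IsComplement' (stabilizer G a) := by
  apply Subgroup.isComplement'_of_disjoint_and_mul_eq_univ
  · rw [disjoint_iff]
    exact (stabilizer_subgroup_eq_bot_iff N a).1 h
  · ext g
    simp only [Set.mem_univ, iff_true]
    obtain ⟨n, hn, s, hs, rfl⟩ := mul_stabilizer_eq_univ N a g
    exact Set.mul_mem_mul hn hs

/-- The action of a point stabilizer corresponds to conjugation on a normal subgroup. -/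
theorem conj_smul_eq {a : X} {g : G} (hg : g • a = a) (n : G) :
    (g * n * g⁻¹) • a = g • (n • a) := by
  have : g⁻¹ • a = a := inv_smul_eq_iff.2 hg.symm
  rw [mul_smul, mul_smul, this]

/-- Elements of a stabilizer centralizing a transitive subgroup are trivial. -/
theorem stabilizer_inf_centralizer_eq_bot [FaithfulSMul G X] (N : Subgroup G)
    [IsPretransitive N X] (a : X) :
    stabilizer G a ⊓ Subgroup.centralizer (N : Set G) = ⊥ := by
  rw [inf_comm, ← stabilizer_subgroup_eq_bot_iff]
  exact stabilizer_centralizer_eq_bot N a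

/-- A point stabilizer fixes `n • a` iff it centralizes `n`, for `n` in a regular normal
subgroup. -/
theorem smul_smul_eq_iff_commute (N : Subgroup G) [N.Normal] [IsPretransitive N X] {a : X}
    (h : stabilizer N a = ⊥) {g : G} (hg : g • a = a) {n : G} (hn : n ∈ N) :
    g • (n • a) = n • a ↔ g * n = n * g := by
  constructor
  · intro he
    rw [← conj_smul_eq hg] at he
    have hmem : g * n * g⁻¹ ∈ N := Subgroup.Normal.conj_mem ‹N.Normal› n hn g
    have := (orbitMap_bijective h).1 (a₁ := ⟨_, hmem⟩) (a₂ := ⟨n, hn⟩) he
    have h' : g * n * g⁻¹ = n := congrArg Subtype.val this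
    exact mul_inv_eq_iff_eq_mul.1 h'
  · intro he
    rw [← mul_smul, he, mul_smul, hg]

end Action

section Derangement

variable {G : Type u} [Group G] {X : Type v} [MulAction G X]

/-- Jordan: a transitive group on at least two points has a fixed-point-free element. -/
theorem exists_derangement [Finite G] [IsPretransitive G X] (hX : 1 < Nat.card X) :
    ∃ g : G, ∀ x : X, g • x ≠ x := by
  classical
  have : Finite X := Nat.finite_of_card_ne_zero (by omega)
  have : Nonempty X := (Nat.card_pos_iff.1 (by omega)).1
  have := Fintype.ofFinite G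
  have := Fintype.ofFinite X
  by_contra hc
  push Not at hc
  have hB := MulAction.sum_card_fixedBy_eq_card_orbits_mul_card_group G X
  have h1 : Fintype.card (Quotient (orbitRel G X)) = 1 := by
    have : Subsingleton (Quotient (orbitRel G X)) :=
      (MulAction.pretransitive_iff_subsingleton_quotient G X).1 ‹_›
    rw [Fintype.card_eq_one_iff]
    exact ⟨⟦Classical.arbitrary X⟧, fun _ => Subsingleton.elim _ _⟩
  rw [h1, one_mul] at hB
  have hpos : ∀ g : G, 1 ≤ Fintype.card (fixedBy X g) := fun g => by
    obtain ⟨x, hx⟩ := hc g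
    exact Fintype.card_pos_iff.2 ⟨⟨x, hx⟩⟩
  have hlt : ∑ _g : G, 1 < ∑ g : G, Fintype.card (fixedBy X g) := by
    refine Finset.sum_lt_sum (fun g _ => hpos g) ⟨1, Finset.mem_univ _, ?_⟩
    rw [Fintype.card_congr (Equiv.subtypeUnivEquiv (p := fun x => x ∈ fixedBy X (1 : G))
      (fun x => by simp)), ← Nat.card_eq_fintype_card]
    exact hX
  rw [hB] at hlt
  simp at hlt

end Derangement

end Cfsg.Agent.PermBasic
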