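import Cfsg.Agent.Lib.MinNormalFactors
import Cfsg.Agent.Lib.PermBasic
import Cfsg.Agent.Lib.PermMinimalNormal

/-!
Finite primitive groups that are neither affine nor almost simple: two commuting simple
subgroups with many derangements in their product.
-/

set_option autoImplicit false

namespace Cfsg.Agent.PrimitiveDichotomy

open MulAction MinNormalFactors

variable (G Ω : Type*) [Group G] [MulAction G Ω]

/-- `G` has a regular elementary abelian normal subgroup. -/
def HasAffine : Prop :=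
  ∃ (N : Subgroup G) (r : ℕ), r.Prime ∧ N.Normal ∧ N ≠ ⊥ ∧ IsMulCommutative N ∧ (∀ n ∈ N, n ^ r = 1) ∧
    IsPretransitive N Ω ∧ ∀ a : Ω, stabilizer N a = ⊥

/-- `G` is almost simple. -/
def HasAlmostSimple : Prop :=
  ∃ T : Subgroup G, T.Normal ∧ IsSimpleGroup T ∧ ¬ IsMulCommutative T ∧ Subgroup.centralizer (T : Set G) = ⊥

/-- Two commuting semiregular non-abelian simple subgroups. -/
structure SemiregPair (T U : Subgroup G) : Prop where
  simple : IsSimpleGroup T
  nonab : ¬ IsMulCommutative T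
  simple' : IsSimpleGroup U
  nonab' : ¬ IsMulCommutative U
  comm : ∀ t ∈ T, ∀ u ∈ U, Commute t u
  inf : T ⊓ U = ⊥
  semireg : ∀ t ∈ T, ∀ a : Ω, t • a = a → t = 1
  semireg' : ∀ t ∈ U, ∀ a : Ω, t • a = a → t = 1

/-- The product case. -/
structure ProductCase (N T U : Subgroup G) (x : G) : Prop where
  mns : IsMNS N
  nonab : ¬ IsMulCommutative N
  factor : IsFactor N T
  factor' : IsFactor N U
  ne : T ≠ U
  mem : x ∈ T
  derangement : ∀ c ∈ N ⊓ Subgroup.centralizer (T : Set G), ∀ ω : Ω, (x * c) • ω ≠ ω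

variable {G Ω} [Finite G] [FaithfulSMul G Ω]

theorem semireg_of_mns {N : Subgroup G} (hN : IsMNS N) (hab : ¬ IsMulCommutative N) {T : Subgroup G}
    (hT : IsFactor N T) [IsPretransitive N Ω] (α : Ω)
    (hle : T ≤ (N ⊓ stabilizer G α) ⊔ (N ⊓ Subgroup.centralizer (T : Set G))) :
    ∀ t ∈ T, ∀ a : Ω, t • a = a → t = 1 := by
  set K := T ⊓ stabilizer G α with hK
  have hKn : N ≤ Subgroup.normalizer (K : Set G) := by
    have hU : (N ⊓ stabilizer G α) ⊔ (N ⊓ Subgroup.centralizer (T : Set G)) ≤ Subgroup.normalizer (K : Set G) := by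
      refine sup_le ?_ ?_
      · refine le_normalizer_of_forall fun n hn k hk => ⟨conj_mem_of_le_normalizer (hT.normalized hn.1) hk.1, ?_⟩
        exact (stabilizer G α).mul_mem ((stabilizer G α).mul_mem hn.2 hk.2) ((stabilizer G α).inv_mem hn.2)
      · refine le_normalizer_of_forall fun n hn k hk => ?_
        have : n * k = k * n := (Subgroup.mem_centralizer_iff.mp hn.2 k hk.1).symm
        rw [this, mul_inv_cancel_right]; exact hk
    intro n hn
    obtain ⟨t, ht, c, hc, rfl⟩ := decomp hN hT hn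
    exact (Subgroup.normalizer (K : Set G)).mul_mem (hU (hle ht)) (hU (Subgroup.mem_sup_right hc))
  have hKbot : K = ⊥ := by
    rcases hT.min K inf_le_left hKn with h | h
    · exact h
    · exfalso
      refine hT.ne_bot (Subgroup.eq_bot_iff_forall T |>.mpr fun t ht => ?_)
      refine eq_of_smul_eq_smul fun a : Ω => ?_
      obtain ⟨n, rfl⟩ := exists_smul_eq N α a
      have h1 : (n : G)⁻¹ * t * n ∈ T := by
        simpa using conj_mem_of_le_normalizer (hT.normalized (N.inv_mem n.2)) ht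
      rw [← h] at h1
      have h2 : ((n : G)⁻¹ * t * n) • α = α := h1.2
      rw [mul_smul, mul_smul, inv_smul_eq_iff] at h2
      rw [one_smul, Subgroup.smul_def, h2]
  intro t ht a ha
  obtain ⟨n, rfl⟩ := exists_smul_eq N α a
  have h1 : (n : G)⁻¹ * t * n ∈ K := by
    refine ⟨by simpa using conj_mem_of_le_normalizer (hT.normalized (N.inv_mem n.2)) ht, ?_⟩
    show ((n : G)⁻¹ * _ * n) • α = α
    rw [mul_smul, mul_smul, inv_smul_eq_iff]
    exact ha
  rw [hKbot, Subgroup.mem_bot] at h1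
  calc t = (n : G) * ((n : G)⁻¹ * t * n) * (n : G)⁻¹ := by group
    _ = 1 := by rw [h1]; group

theorem exists_product_element {N : Subgroup G} (hN : IsMNS N) {T : Subgroup G}
    (hT : IsFactor N T) [IsPretransitive N Ω] (α : Ω)
    (hle : ¬ T ≤ (N ⊓ stabilizer G α) ⊔ (N ⊓ Subgroup.centralizer (T : Set G))) :
    ∃ x ∈ T, ∀ c ∈ N ⊓ Subgroup.centralizer (T : Set G), ∀ ω : Ω, (x * c) • ω ≠ ω := by
  set C := N ⊓ Subgroup.centralizer (T : Set G) with hC
  set U := (N ⊓ stabilizer G α) ⊔ C with hU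
  have hUN : U ≤ N := sup_le inf_le_left inf_le_left
  have hlt : 1 < Nat.card (N ⧸ U.subgroupOf N) := by
    refine Nat.one_lt_iff_ne_zero_and_ne_one.mpr ⟨Nat.card_pos.ne', fun h => hle ?_⟩
    exact hT.le.trans (Subgroup.subgroupOf_eq_top.mp (Subgroup.index_eq_one.mp h))
  obtain ⟨y, hy⟩ := PermBasic.exists_derangement (G := N) hlt
  obtain ⟨t, ht, c, hc, hyt⟩ := decomp hN hT y.2
  have hkey : ∀ n ∈ N, n⁻¹ * t * n ∉ U := by
    intro n hn hmem
    have hcn : n⁻¹ * c * n ∈ C := by
      refine ⟨N.mul_mem (N.mul_mem (N.inv_mem hn) hc.1) hn, Subgroup.mem_centralizer_iff.mpr fun s hs => ?_⟩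
      have h1 := Subgroup.mem_centralizer_iff.mp hc.2 (n * s * n⁻¹) (conj_mem_of_le_normalizer (hT.normalized hn) hs)
      calc s * (n⁻¹ * c * n) = n⁻¹ * ((n * s * n⁻¹) * c) * n := by group
        _ = n⁻¹ * (c * (n * s * n⁻¹)) * n := by rw [h1]
        _ = n⁻¹ * c * n * s := by group
    refine hy (QuotientGroup.mk (⟨n, hn⟩ : N)) ?_
    rw [MulAction.Quotient.smul_mk, QuotientGroup.eq, Subgroup.mem_subgroupOf]
    have h3 : n⁻¹ * (y : G) * n ∈ U := by
      rw [hyt, show n⁻¹ * (t * c) * n = (n⁻¹ * t * n) * (n⁻¹ * c * n) by group]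
      exact U.mul_mem hmem (Subgroup.mem_sup_right hcn)
    have h4 := U.inv_mem h3
    simpa [mul_assoc] using h4
  refine ⟨t, ht, fun d hd ω hω => ?_⟩
  obtain ⟨n, rfl⟩ := exists_smul_eq N α ω
  have h1 : (n : G)⁻¹ * (t * d) * n ∈ N ⊓ stabilizer G α := by
    refine ⟨N.mul_mem (N.mul_mem (N.inv_mem n.2) (N.mul_mem (hT.le ht) hd.1)) n.2, ?_⟩
    show ((n : G)⁻¹ * _ * n) • α = α
    rw [mul_smul, mul_smul, inv_smul_eq_iff]
    exact hω
  have hdn : (n : G)⁻¹ * d * n ∈ C := by
    refine ⟨N.mul_mem (N.mul_mem (N.inv_mem n.2) hd.1) n.2, Subgroup.mem_centralizer_iff.mpr fun s hs => ?_⟩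
    have h1 := Subgroup.mem_centralizer_iff.mp hd.2 ((n : G) * s * (n : G)⁻¹)
      (conj_mem_of_le_normalizer (hT.normalized n.2) hs)
    calc s * ((n : G)⁻¹ * d * n) = (n : G)⁻¹ * (((n : G) * s * (n : G)⁻¹) * d) * n := by group
      _ = (n : G)⁻¹ * (d * ((n : G) * s * (n : G)⁻¹)) * n := by rw [h1]
      _ = (n : G)⁻¹ * d * n * s := by group
  refine hkey n n.2 ?_
  have h2 := U.mul_mem (Subgroup.mem_sup_left (T := C) h1) (Subgroup.mem_sup_right (S := N ⊓ stabilizer G α) (C.inv_mem hdn))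
  simpa [mul_assoc] using h2

theorem dichotomy [Finite Ω] (hΩ : 2 ≤ Nat.card Ω) (hprim : IsPreprimitive G Ω) :
    HasAffine G Ω ∨ HasAlmostSimple G ∨
      (∃ T U : Subgroup G, SemiregPair G Ω T U) ∨
      ∃ (N T U : Subgroup G) (x : G), ProductCase G Ω N T U x := by
  haveI := hprim
  obtain ⟨α⟩ : Nonempty Ω := (Nat.card_pos_iff.mp (by omega)).1
  haveI : Nonempty Ω := ⟨α⟩
  haveI : Nontrivial Ω := Finite.one_lt_card_iff_nontrivial.mp (by omega)
  by_cases hex : ∃ A : Subgroup G, IsMNS A ∧ IsMulCommutative A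
  · obtain ⟨A, hA, hAab⟩ := hex
    haveI := hA.normal
    haveI := PermBasic.isPretransitive_of_normal (X := Ω) A hA.ne_bot
    obtain ⟨r, hr, hrp⟩ :=
      PermMinimalNormal.IsMinNormal.exists_prime_pow_eq_one (M := A) ⟨hA.normal, hA.ne_bot, hA.min⟩ hAab
    exact Or.inl ⟨A, r, hr, hA.normal, hA.ne_bot, hAab, hrp, inferInstance,
      PermBasic.stabilizer_eq_bot_of_abelian A hAab⟩
  push Not at hex
  have htop : (⊤ : Subgroup G) ≠ ⊥ := by
    intro h
    obtain ⟨a, b, hab⟩ := exists_pair_ne Ω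
    obtain ⟨g, hg⟩ := exists_smul_eq G a b
    have : g = 1 := Subgroup.mem_bot.mp (h ▸ Subgroup.mem_top g)
    rw [this, one_smul] at hg
    exact hab hg
  obtain ⟨N, -, hN⟩ := exists_isMNS_le (⊤ : Subgroup G) htop
  have hab := hex N hN
  haveI := hN.normal
  haveI := PermBasic.isPretransitive_of_normal (X := Ω) N hN.ne_bot
  obtain ⟨T, -, hT⟩ := exists_isFactor_le N le_rfl hN.ne_bot Subgroup.le_normalizer
  by_cases hC : Subgroup.centralizer (N : Set G) = ⊥
  · by_cases hTn : ∀ g : G, g ∈ Subgroup.normalizer (T : Set G)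
    · -- `N = T`
      have hTnorm : T.Normal := Subgroup.normalizer_eq_top_iff.mp ((Subgroup.eq_top_iff' _).mpr hTn)
      have hTN : T = N := (hN.min T hTnorm hT.le).resolve_left hT.ne_bot
      exact Or.inr (Or.inl ⟨N, hN.normal, hTN ▸ isSimpleGroup hN hT, hab, hC⟩)
    · push Not at hTn
      obtain ⟨g, hg⟩ := hTn
      have hU : IsFactor N (conjSub g T) := hT.conj hN.normal g
      have hne : T ≠ conjSub g T := fun h => hg (mem_normalizer_of_conjSub_eq h.symm)
      by_cases hle : T ≤ (N ⊓ stabilizer G α) ⊔ (N ⊓ Subgroup.centralizer (T : Set G))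
      · have hs := semireg_of_mns hN hab hT α hle
        refine Or.inr (Or.inr (Or.inl ⟨T, conjSub g T,
          isSimpleGroup hN hT, not_abelian hN hab hT, isSimpleGroup hN hU, not_abelian hN hab hU,
          fun t ht u hu => hT.commute hU hne ht hu, hT.inf_eq_bot hU hne, hs, ?_⟩))
        intro u hu a ha
        rw [mem_conjSub] at hu
        have h1 := hs _ hu (g⁻¹ • a) (by rw [mul_smul, smul_inv_smul, mul_smul, ha])
        calc u = g * (g⁻¹ * u * g) * g⁻¹ := by group
          _ = 1 := by rw [h1]; group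
      · obtain ⟨x, hx, hder⟩ := exists_product_element hN hT α hle
        exact Or.inr (Or.inr (Or.inr ⟨N, T, conjSub g T, x, hN, hab, hT, hU, hne, hx, hder⟩))
  · -- two minimal normal subgroups, both regular
    obtain ⟨L, hLC, hL⟩ := exists_isMNS_le _ hC
    have hLab := hex L hL
    haveI := hL.normal
    haveI := PermBasic.isPretransitive_of_normal (X := Ω) L hL.ne_bot
    have hcomm : ∀ n ∈ N, ∀ l ∈ L, n * l = l * n := fun n hn l hl =>
      Subgroup.mem_centralizer_iff.mp (hLC hl) n hn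
    have hinf : N ⊓ L = ⊥ := by
      rw [← le_bot_iff, ← center_trivial hN hab]
      exact inf_le_inf_left N hLC
    obtain ⟨U, -, hU⟩ := exists_isFactor_le L le_rfl hL.ne_bot Subgroup.le_normalizer
    have hsN : ∀ n ∈ N, ∀ a : Ω, n • a = a → n = 1 := fun n hn a =>
      PermBasic.eq_one_of_commute_transitive L (fun l hl => hcomm n hn l hl)
    have hsL : ∀ l ∈ L, ∀ a : Ω, l • a = a → l = 1 := fun l hl a =>
      PermBasic.eq_one_of_commute_transitive N (fun n hn => (hcomm n hn l hl).symm)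
    exact Or.inr (Or.inr (Or.inl ⟨T, U,
      isSimpleGroup hN hT, not_abelian hN hab hT, isSimpleGroup hL hU, not_abelian hL hLab hU,
      fun t ht u hu => hcomm t (hT.le ht) u (hU.le hu),
      le_bot_iff.mp (hinf ▸ inf_le_inf hT.le hU.le),
      fun t ht => hsN t (hT.le ht), fun u hu => hsL u (hU.le hu)⟩))

omit [FaithfulSMul G Ω] in
/-- a non-abelian simple subgroup has elements of prime order avoiding a given prime -/
theorem exists_prime_order (T : Subgroup G) (hs : IsSimpleGroup T) (hab : ¬ IsMulCommutative T) (p : ℕ) :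
    ∃ (q : ℕ), q.Prime ∧ q ≠ p ∧ ∃ t ∈ T, orderOf t = q := by
  by_contra h
  push Not at h
  have hall : ∀ q : ℕ, q.Prime → q ∣ Nat.card T → q = p := by
    intro q hq hqd
    haveI := Fact.mk hq
    obtain ⟨t, ht⟩ := exists_prime_orderOf_dvd_card' q hqd
    by_contra hne
    exact h q hq hne t t.2 (by rw [Subgroup.orderOf_coe]; exact ht)
  haveI := hs
  obtain ⟨q, hq, hqd⟩ := Nat.exists_prime_and_dvd (Finite.one_lt_card (α := T)).ne'
  haveI := Fact.mk hq
  have hp : IsPGroup q T := by
    refine IsPGroup.of_card (n := (Nat.card T).primeFactorsList.length) ?_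
    exact Nat.eq_prime_pow_of_unique_prime_dvd Nat.card_pos.ne'
      (fun {d} hd hdd => (hall d hd hdd).trans (hall q hq hqd).symm)
  haveI := hp.center_nontrivial
  rcases (inferInstance : (Subgroup.center T).Normal).eq_bot_or_eq_top with h' | h'
  · exact (Subgroup.nontrivial_iff_ne_bot _).mp inferInstance h'
  · exact hab ⟨⟨fun a b => (Subgroup.mem_center_iff.mp (h' ▸ Subgroup.mem_top b) a)⟩⟩

/-- Three derangement classes, and a derangement that is no `p`-element, in the semiregular case. -/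
theorem SemiregPair.derangements {T U : Subgroup G} (h : SemiregPair G Ω T U) :
    ∃ q r : ℕ, q.Prime ∧ r.Prime ∧ q ≠ r ∧
      ∃ f : Fin 3 → G, (∀ i, ∀ ω : Ω, f i • ω ≠ ω) ∧ orderOf (f 0) = q ∧ orderOf (f 1) = r ∧
        orderOf (f 2) = q * r := by
  obtain ⟨q, hq, -, t, ht, hto⟩ := exists_prime_order T h.simple h.nonab 1
  obtain ⟨r, hr, hrq, u, hu, huo⟩ := exists_prime_order U h.simple' h.nonab' q
  refine ⟨q, r, hq, hr, hrq.symm, ![t, u, t * u], ?_, hto, huo, ?_⟩
  · intro i ω
    fin_cases i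
    · intro hω
      exact hq.ne_one (by rw [← hto, h.semireg t ht ω hω, orderOf_one])
    · intro hω
      exact hr.ne_one (by rw [← huo, h.semireg' u hu ω hω, orderOf_one])
    · intro hω
      have hω' : (t * u) • ω = ω := hω
      have hpow : ((t * u) ^ q) • ω = ω :=
        pow_mem (show t * u ∈ stabilizer G ω from hω') q
      rw [(h.comm t ht u hu).mul_pow, ← hto, pow_orderOf_eq_one, one_mul, hto] at hpow
      have h1 := h.semireg' _ (U.pow_mem hu q) ω hpow
      rw [← orderOf_dvd_iff_pow_eq_one, huo] at h1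
      exact hrq ((Nat.prime_dvd_prime_iff_eq hr hq).mp h1)
  · show orderOf (t * u) = q * r
    rw [(h.comm t ht u hu).orderOf_mul_eq_mul_orderOf_of_coprime
      (by rw [hto, huo]; exact (Nat.coprime_primes hq hr).mpr hrq.symm), hto, huo]

omit [FaithfulSMul G Ω] in
theorem ProductCase.exists_non_p {N T U : Subgroup G} {x : G} (h : ProductCase G Ω N T U x) (p : ℕ)
    (hp : p.Prime) : ∃ g : G, (∀ ω : Ω, g • ω ≠ ω) ∧ ∀ k : ℕ, orderOf g ≠ p ^ k := by
  obtain ⟨q, hq, hqp, c, hc, hco⟩ := exists_prime_order U (isSimpleGroup h.mns h.factor')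
    (not_abelian h.mns h.nonab h.factor') p
  have hcC : c ∈ N ⊓ Subgroup.centralizer (T : Set G) := ⟨h.factor'.le hc,
    Subgroup.mem_centralizer_iff.mpr fun t ht => h.factor.commute h.factor' h.ne ht hc⟩
  refine ⟨x * c, h.derangement c hcC, fun k hk => ?_⟩
  have h1 : (x * c) ^ p ^ k = 1 := by rw [← hk]; exact pow_orderOf_eq_one _
  rw [(h.factor.commute h.factor' h.ne h.mem hc).mul_pow, mul_eq_one_iff_eq_inv] at h1
  have h2 : c ^ p ^ k ∈ T ⊓ U := by
    refine ⟨?_, U.pow_mem hc _⟩
    have := T.inv_mem (T.pow_mem h.mem (p ^ k))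
    rwa [h1, inv_inv] at this
  rw [h.factor.inf_eq_bot h.factor' h.ne, Subgroup.mem_bot, ← orderOf_dvd_iff_pow_eq_one, hco] at h2
  exact hqp ((Nat.prime_dvd_prime_iff_eq hq hp).mp (hq.dvd_of_dvd_pow h2))

omit [FaithfulSMul G Ω] in
theorem ProductCase.three_classes [Nonempty Ω] {N T U : Subgroup G} {x : G} (h : ProductCase G Ω N T U x) :
    ∃ f : Fin 3 → G, (∀ i, ∀ ω : Ω, f i • ω ≠ ω) ∧ ∀ i j, IsConj (f i) (f j) → i = j := by
  have hUs := isSimpleGroup h.mns h.factor'
  have hUab := not_abelian h.mns h.nonab h.factor'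
  obtain ⟨q, hq, -, c, hc, hco⟩ := exists_prime_order U hUs hUab 1
  obtain ⟨r, hr, hrq, d, hd, hdo⟩ := exists_prime_order U hUs hUab q
  have hcC : ∀ c ∈ U, c ∈ Subgroup.centralizer (T : Set G) := fun c hc =>
    Subgroup.mem_centralizer_iff.mpr fun t ht => h.factor.commute h.factor' h.ne ht hc
  have hmem : ∀ c ∈ U, c ∈ N ⊓ Subgroup.centralizer (T : Set G) := fun c hc => ⟨h.factor'.le hc, hcC c hc⟩
  have hx1 : x ≠ 1 := by
    intro hx
    exact h.derangement 1 (one_mem _) (Classical.arbitrary Ω) (by rw [hx, one_mul, one_smul])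
  have hxT : x ∉ Subgroup.centralizer (T : Set G) := by
    intro hxc
    have : x ∈ T ⊓ Subgroup.centralizer (T : Set G) := ⟨h.mem, hxc⟩
    rw [inf_centralizer_eq_bot h.mns h.nonab h.factor, Subgroup.mem_bot] at this
    exact hx1 this
  -- `x * c` centralizes every factor but `T` and `U`
  have hcent : ∀ c ∈ U, ∀ V, IsFactor N V → x * c ∉ Subgroup.centralizer (V : Set G) → V = T ∨ V = U := by
    intro c hc V hV hnot
    by_contra hne
    push Not at hne
    refine hnot (mul_mem ?_ ?_)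
    · exact Subgroup.mem_centralizer_iff.mpr fun v hv => hV.commute h.factor hne.1 hv h.mem
    · exact Subgroup.mem_centralizer_iff.mpr fun v hv => hV.commute h.factor' hne.2 hv hc
  have h01 : ∀ c ∈ U, c ≠ 1 → ¬ IsConj x (x * c) := by
    intro c hc hc1 hconj
    obtain ⟨g, hg⟩ := isConj_iff.mp hconj
    have hmem' : x * c ∈ conjSub g T := hg ▸ conj_mem_conjSub h.mem
    by_cases he : conjSub g T = T
    · rw [he] at hmem'
      have : c ∈ T ⊓ U := ⟨by simpa using T.mul_mem (T.inv_mem h.mem) hmem', hc⟩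
      rw [h.factor.inf_eq_bot h.factor' h.ne, Subgroup.mem_bot] at this
      exact hc1 this
    · refine hxT ?_
      have h2 : x * c ∈ Subgroup.centralizer (T : Set G) := Subgroup.mem_centralizer_iff.mpr fun t ht =>
        (h.factor.commute (h.factor.conj h.mns.normal g) (Ne.symm he) ht hmem')
      simpa using mul_mem h2 (inv_mem (hcC c hc))
  have h12 : ¬ IsConj (x * c) (x * d) := by
    intro hconj
    obtain ⟨g, hg⟩ := isConj_iff.mp hconj
    have hd1 : d ≠ 1 := fun e => hr.ne_one (by rw [← hdo, e, orderOf_one])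
    have hc1 : c ≠ 1 := fun e => hq.ne_one (by rw [← hco, e, orderOf_one])
    have key : ∀ V, IsFactor N V → x * c ∉ Subgroup.centralizer (V : Set G) →
        conjSub g V = T ∨ conjSub g V = U := by
      intro V hV hnot
      refine hcent d hd _ (hV.conj h.mns.normal g) fun hcc => hnot ?_
      refine Subgroup.mem_centralizer_iff.mpr fun v hv => ?_
      have h3 := Subgroup.mem_centralizer_iff.mp hcc _ (conj_mem_conjSub (g := g) hv)
      rw [← hg] at h3
      calc v * (x * c) = g⁻¹ * ((g * v * g⁻¹) * (g * (x * c) * g⁻¹)) * g := by group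
        _ = g⁻¹ * ((g * (x * c) * g⁻¹) * (g * v * g⁻¹)) * g := by rw [h3]
        _ = x * c * v := by group
    have hT' : x * c ∉ Subgroup.centralizer (T : Set G) := fun e =>
      hxT (by simpa using mul_mem e (inv_mem (hcC c hc)))
    have hU' : x * c ∉ Subgroup.centralizer (U : Set G) := by
      intro e
      have h4 : c ∈ U ⊓ Subgroup.centralizer (U : Set G) := by
        refine ⟨hc, ?_⟩
        have : x ∈ Subgroup.centralizer (U : Set G) :=
          Subgroup.mem_centralizer_iff.mpr fun u hu => (h.factor.commute h.factor' h.ne h.mem hu).symm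
        simpa using mul_mem (inv_mem this) e
      rw [inf_centralizer_eq_bot h.mns h.nonab h.factor', Subgroup.mem_bot] at h4
      exact hc1 h4
    have hne : conjSub g T ≠ conjSub g U := fun e =>
      h.ne (by simpa [conjSub_conjSub, conjSub_one] using congrArg (conjSub g⁻¹) e)
    have hgx : g * (x * c) * g⁻¹ = (g * x * g⁻¹) * (g * c * g⁻¹) := by group
    have hord : ∀ y : G, orderOf (g * y * g⁻¹) = orderOf y := fun y => by
      rw [← MulAut.conj_apply]
      exact orderOf_injective (MulAut.conj g).toMonoidHom (MulAut.conj g).injective y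
    rcases key T h.factor hT' with hA | hA <;> rcases key U h.factor' hU' with hB | hB
    · exact hne (hA.trans hB.symm)
    · have hu1 := decomp_unique h.mns h.nonab h.factor (hA ▸ conj_mem_conjSub h.mem) h.mem
        (hcC _ (hB ▸ conj_mem_conjSub hc)) (hcC d hd) (hgx.symm.trans hg)
      exact hrq (by rw [← hdo, ← hco, ← hu1.2, hord])
    · have hgT : g * c * g⁻¹ ∈ T := hB ▸ conj_mem_conjSub hc
      have hgU : g * x * g⁻¹ ∈ U := hA ▸ conj_mem_conjSub h.mem
      have hu1 := decomp_unique h.mns h.nonab h.factor hgT h.mem (hcC _ hgU) (hcC d hd)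
        (((h.factor.commute h.factor' h.ne hgT hgU).eq.trans hgx.symm).trans hg)
      -- then `x` and `c` have the same order, and so do `x` and `d`
      refine hrq ?_
      rw [← hdo, ← hco, ← hu1.2, hord x, ← hord c, hu1.1]
    · exact hne (hA.trans hB.symm)
  refine ⟨![x, x * c, x * d], ?_, ?_⟩
  · intro i
    fin_cases i
    · simpa using h.derangement 1 (one_mem _)
    · exact h.derangement c (hmem c hc)
    · exact h.derangement d (hmem d hd)
  · have hc1 : c ≠ 1 := fun e => hq.ne_one (by rw [← hco, e, orderOf_one])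
    have hd1 : d ≠ 1 := fun e => hr.ne_one (by rw [← hdo, e, orderOf_one])
    intro i j hij
    fin_cases i <;> fin_cases j
    · rfl
    · exact absurd hij (h01 c hc hc1)
    · exact absurd hij (h01 d hd hd1)
    · exact absurd hij.symm (h01 c hc hc1)
    · rfl
    · exact absurd hij h12
    · exact absurd hij.symm (h01 d hd hd1)
    · exact absurd hij.symm h12
    · rfl

end Cfsg.Agent.PrimitiveDichotomy
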