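import Mathlib
import Cfsg.Agent.Lib.CompLengthChains
import Cfsg.Agent.Lib.DerangementMoments
import Cfsg.Agent.Lib.PrimitiveDichotomy

/-!
The composition length of a permutation group with `r` orbits on `n` points is at most `4 (n - r) / 3`.
The proof is elementary: in the primitive case the point stabiliser acts faithfully on a smaller set built
from the simple factors of a minimal normal subgroup.
-/

set_option autoImplicit false

namespace Cfsg.Agent.CompLengthPerm

open Cfsg.Agent.CompLengthChains Cfsg.Agent.DerangementMoments MulAction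
open scoped Pointwise

/-- The bound. -/
def bd (m r : ℕ) : ℕ := 4 * (m - r) / 3

/-- The induction hypothesis. -/
def Hyp (n : ℕ) : Prop :=
  ∀ m, m < n → ∀ G : Subgroup (Equiv.Perm (Fin m)), CL G (bd m (numOrbits G (Fin m)))

section
variable {G X : Type*} [Group G] [MulAction G X]

lemma exists_iso [FaithfulSMul G X] {m : ℕ} (e : X ≃ Fin m) :
    ∃ P : Subgroup (Equiv.Perm (Fin m)), Nonempty (G ≃* P) ∧ numOrbits G X = numOrbits P (Fin m) := by
  let φ : G →* Equiv.Perm (Fin m) := e.permCongrHom.toMonoidHom.comp (MulAction.toPermHom G X)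
  have hφ : ∀ g x, φ g (e x) = e (g • x) := fun g x => by simp [φ, Equiv.permCongr_apply]
  have hinj : Function.Injective φ := fun g h hgh => eq_of_smul_eq_smul fun x : X => e.injective (by
    rw [← hφ, ← hφ, hgh])
  refine ⟨φ.range, ⟨MonoidHom.ofInjective hinj⟩, ?_⟩
  refine Nat.card_congr (Quotient.congr e fun x y => ?_)
  constructor
  · rintro ⟨g, rfl⟩
    exact ⟨⟨φ g, g, rfl⟩, hφ g y⟩
  · rintro ⟨⟨_, g, rfl⟩, hg⟩
    exact ⟨g, e.injective ((hφ g y).symm.trans hg)⟩

lemma Hyp.apply {n : ℕ} (ih : Hyp n) [FaithfulSMul G X] [Finite X] (hX : Nat.card X < n) :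
    CL G (bd (Nat.card X) (numOrbits G X)) := by
  obtain ⟨P, ⟨e⟩, hP⟩ := exists_iso (G := G) (Finite.equivFin X)
  rw [hP]
  exact (ih _ hX P).of_mulEquiv e.symm

lemma numOrbits_pos [Finite X] [Nonempty X] : 1 ≤ numOrbits G X := by
  haveI : Nonempty (Quotient (MulAction.orbitRel G X)) := ‹Nonempty X›.map (Quotient.mk _)
  exact Nat.card_pos

lemma numOrbits_le [Finite X] : numOrbits G X ≤ Nat.card X :=
  Nat.card_le_card_of_surjective (Quotient.mk _) Quotient.mk_surjective

lemma isPretransitive_of_numOrbits [Finite X] (h : numOrbits G X ≤ 1) : IsPretransitive G X := by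
  refine ⟨fun x y => ?_⟩
  haveI : Subsingleton (Quotient (MulAction.orbitRel G X)) := Finite.card_le_one_iff_subsingleton.mp h
  obtain ⟨g, hg⟩ := Quotient.exact (Subsingleton.elim (Quotient.mk (MulAction.orbitRel G X) y) (Quotient.mk _ x))
  exact ⟨g, hg⟩

/-- The intransitive step. -/
theorem step_intransitive [Finite X] [FaithfulSMul G X] {n : ℕ} (ih : Hyp n) (hn : Nat.card X = n)
    (hr : 2 ≤ numOrbits G X) : CL G (bd n (numOrbits G X)) := by
  classical
  haveI : Nonempty X := by
    by_contra h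
    haveI := not_nonempty_iff.mp h
    have := numOrbits_le (G := G) (X := X)
    rw [Nat.card_of_isEmpty] at this
    omega
  obtain ⟨a⟩ := ‹Nonempty X›
  let φ := MulAction.toPermHom G (orbit G a)
  haveI hfr : FaithfulSMul φ.range (orbit G a) := ⟨fun {g h} hgh => Subtype.ext (Equiv.ext hgh)⟩
  let K := φ.ker
  letI actC : MulAction K {x : X // x ∉ orbit G a} :=
    { smul := fun k x => ⟨(k : G) • (x : X), fun h => x.2 (by
        have := mem_orbit_of_mem_orbit ((k : G)⁻¹) h
        rwa [inv_smul_smul] at this)⟩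
      one_smul := fun x => Subtype.ext (one_smul G (x : X))
      mul_smul := fun k l x => Subtype.ext (mul_smul (k : G) (l : G) (x : X)) }
  haveI hfK : FaithfulSMul K {x : X // x ∉ orbit G a} := ⟨fun {k l} hkl => by
    apply Subtype.ext
    apply eq_of_smul_eq_smul (α := X)
    intro x
    by_cases hx : x ∈ orbit G a
    · have h1 : φ k = φ l := (MonoidHom.mem_ker.mp k.2).trans (MonoidHom.mem_ker.mp l.2).symm
      exact congrArg Subtype.val (Equiv.Perm.ext_iff.mp h1 ⟨x, hx⟩)
    · exact congrArg Subtype.val (hkl ⟨x, hx⟩)⟩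
  have hcard : Nat.card (orbit G a) + Nat.card {x : X // x ∉ orbit G a} = n := by
    rw [← hn]
    rw [← Nat.card_congr (Equiv.sumCompl (fun x : X => x ∈ orbit G a)), Nat.card_sum]
  haveI : Nonempty (orbit G a) := ⟨⟨a, mem_orbit_self a⟩⟩
  have h1 : 1 ≤ Nat.card (orbit G a) := Nat.card_pos
  have hKr : numOrbits G X - 1 ≤ numOrbits K {x : X // x ∉ orbit G a} := by
    haveI := Fintype.ofFinite (Quotient (MulAction.orbitRel G X))
    have hc : Nat.card {q : Quotient (MulAction.orbitRel G X) // q ≠ Quotient.mk _ a} = numOrbits G X - 1 := by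
      rw [numOrbits, Nat.card_eq_fintype_card, Nat.card_eq_fintype_card, Fintype.card_subtype_compl,
        Fintype.card_subtype_eq]
    rw [← hc]
    refine Nat.card_le_card_of_surjective (Quotient.lift (fun x => ⟨Quotient.mk _ x.1, fun h => x.2 (Quotient.exact h)⟩) ?_) ?_
    · rintro x y ⟨k, rfl⟩
      exact Subtype.ext (Quotient.sound ⟨(k : G), rfl⟩)
    · rintro ⟨q, hq⟩
      induction q using Quotient.inductionOn with | _ x => ?_
      exact ⟨Quotient.mk _ ⟨x, fun h => hq (Quotient.sound h)⟩, rfl⟩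
  haveI : Nonempty {x : X // x ∉ orbit G a} := by
    by_contra h
    haveI := not_nonempty_iff.mp h
    have := (hKr.trans numOrbits_le)
    rw [Nat.card_of_isEmpty] at this
    omega
  have h2 : 1 ≤ Nat.card {x : X // x ∉ orbit G a} := Nat.card_pos
  have hA : CL φ.range (bd (Nat.card (orbit G a)) (numOrbits φ.range (orbit G a))) := ih.apply (by omega)
  have hB : CL K (bd (Nat.card {x : X // x ∉ orbit G a}) (numOrbits K {x : X // x ∉ orbit G a})) := ih.apply (by omega)
  refine (CL.ker_range φ hB hA).mono ?_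
  have := numOrbits_pos (G := φ.range) (X := orbit G a)
  have := numOrbits_le (G := K) (X := {x : X // x ∉ orbit G a})
  unfold bd
  omega

/-- The imprimitive step. -/
theorem step_imprimitive [Finite X] [FaithfulSMul G X] [IsPretransitive G X] {n : ℕ} (ih : Hyp n)
    (hn : Nat.card X = n) (hn2 : 2 ≤ n) (hnp : ¬ IsPreprimitive G X) : CL G (bd n 1) := by
  classical
  haveI : Nonempty X := (Nat.card_pos_iff.mp (by omega)).1
  obtain ⟨a⟩ := ‹Nonempty X›
  obtain ⟨B, haB, hB, hBt⟩ : ∃ B : Set X, a ∈ B ∧ IsBlock G B ∧ ¬ IsTrivialBlock B := by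
    by_contra hcon
    push Not at hcon
    exact hnp (IsPreprimitive.of_isTrivialBlock_base a (fun {B} h1 h2 => hcon B h1 h2))
  have hBne : B.Nonempty := ⟨a, haB⟩
  have hmul := hB.ncard_block_mul_ncard_orbit_eq hBne
  rw [hn] at hmul
  have hBn : B.ncard < n := by
    rw [← hn]
    exact (Set.ncard_lt_card (fun h => hBt (Or.inr h)))
  have hB2 : 2 ≤ B.ncard := by
    by_contra h
    exact hBt (Or.inl (Set.ncard_le_one_iff_subsingleton.mp (by omega)))
  set c := (orbit G B).ncard with hc
  have hc2 : 2 ≤ c := by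
    by_contra h
    interval_cases c <;> omega
  have hcn : c < n := by
    rw [← hmul]
    calc c = 1 * c := (one_mul c).symm
      _ < B.ncard * c := Nat.mul_lt_mul_of_pos_right hB2 (by omega)
  let φ := MulAction.toPermHom G (orbit G B)
  haveI hfr : FaithfulSMul φ.range (orbit G B) := ⟨fun {g h} hgh => Subtype.ext (Equiv.ext hgh)⟩
  haveI : Nonempty (orbit G B) := ⟨⟨B, mem_orbit_self B⟩⟩
  have hA : CL φ.range (bd (Nat.card (orbit G B)) (numOrbits φ.range (orbit G B))) :=
    ih.apply (by rw [Nat.card_coe_set_eq]; exact hcn)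
  let K := φ.ker
  haveI hfK : FaithfulSMul K X := ⟨fun {k l} hkl => Subtype.ext (eq_of_smul_eq_smul fun x => hkl x)⟩
  have hblk : ∀ x : X, ∃ b : orbit G B, x ∈ (b : Set X) := fun x => by
    obtain ⟨g, rfl⟩ := exists_smul_eq G a x
    exact ⟨⟨g • B, mem_orbit B g⟩, Set.smul_mem_smul_set haB⟩
  choose blk hblk using hblk
  have huniq : ∀ (x : X) (b : orbit G B), x ∈ (b : Set X) → b = blk x := by
    rintro x ⟨_, g, rfl⟩ hx
    obtain ⟨g', hg'⟩ := (blk x).2
    have h' : x ∈ g' • B := by rw [show g' • B = (blk x : Set X) from hg']; exact hblk x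
    exact Subtype.ext ((hB.smul_eq_smul_of_nonempty ⟨x, hx, h'⟩).trans hg')
  have hKc : c ≤ numOrbits K X := by
    rw [hc, ← Nat.card_coe_set_eq]
    refine Nat.card_le_card_of_surjective (Quotient.lift blk ?_) ?_
    · rintro x y ⟨k, rfl⟩
      have hk : (k : G) • blk y = blk y := Equiv.Perm.ext_iff.mp (MonoidHom.mem_ker.mp k.2) (blk y)
      refine (huniq _ _ ?_).symm
      rw [← hk]
      exact Set.smul_mem_smul_set (hblk y)
    · rintro ⟨_, g, rfl⟩
      exact ⟨Quotient.mk _ (g • a), (huniq _ _ (Set.smul_mem_smul_set haB)).symm⟩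
  have hB' : CL K (bd n (numOrbits K X)) := step_intransitive ih hn (by omega)
  refine (CL.ker_range φ hB' hA).mono ?_
  have := numOrbits_pos (G := φ.range) (X := orbit G B)
  have := numOrbits_le (G := K) (X := X)
  rw [Nat.card_coe_set_eq]
  unfold bd
  omega

end

section primitive

variable {G X : Type*} [Group G] [Finite G] [MulAction G X] [Finite X] [FaithfulSMul G X]

/-- The other points, with the action of the stabiliser. -/
@[reducible] def otherAction (a : X) : MulAction (stabilizer G a) {x : X // x ≠ a} where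
  smul g x := ⟨(g : G) • (x : X), fun h => x.2 (smul_left_cancel (g : G) (h.trans g.2.symm))⟩
  one_smul x := Subtype.ext (one_smul G (x : X))
  mul_smul g h x := Subtype.ext (mul_smul (g : G) (h : G) (x : X))

/-- The number of suborbits other than the trivial one. -/
noncomputable def suborbits (a : X) : ℕ :=
  @numOrbits (stabilizer G a) {x : X // x ≠ a} _ (otherAction a)

theorem stabilizer_bound {n : ℕ} (ih : Hyp n) (hn : Nat.card X = n) (hn2 : 2 ≤ n) (a : X) :
    CL (stabilizer G a) (bd (n - 1) (suborbits (G := G) a)) ∧ 1 ≤ suborbits (G := G) a ∧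
      suborbits (G := G) a ≤ n - 1 := by
  classical
  haveI := Fintype.ofFinite X
  letI := otherAction (G := G) a
  haveI : FaithfulSMul (stabilizer G a) {x : X // x ≠ a} := ⟨fun {g h} hgh => by
    apply Subtype.ext
    apply eq_of_smul_eq_smul (α := X)
    intro x
    by_cases hx : x = a
    · rw [hx, g.2, h.2]
    · exact congrArg Subtype.val (hgh ⟨x, hx⟩)⟩
  have hc : Nat.card {x : X // x ≠ a} = n - 1 := by
    rw [← hn, Nat.card_eq_fintype_card, Nat.card_eq_fintype_card, Fintype.card_subtype_compl, Fintype.card_subtype_eq]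
  haveI : Nonempty {x : X // x ≠ a} := (Nat.card_pos_iff.mp (by omega)).1
  refine ⟨?_, numOrbits_pos, ?_⟩
  · have := ih.apply (G := stabilizer G a) (X := {x : X // x ≠ a}) (by omega)
    rwa [hc] at this
  · rw [← hc]; exact numOrbits_le

/-- Lengths pass through a transitive normal subgroup to the stabiliser. -/
theorem cl_of_normal {N : Subgroup G} [N.Normal] [IsPretransitive N X] (a : X) {k b : ℕ}
    (hN : CL N k) (hb : CL (stabilizer G a) b) : CL G (k + b) := by
  refine hN.ext (hb.of_surjective ((QuotientGroup.mk' N).comp (stabilizer G a).subtype) ?_)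
  intro q
  induction q using QuotientGroup.induction_on with | _ g => ?_
  obtain ⟨m, hm, s, hs, rfl⟩ := PermBasic.mul_stabilizer_eq_univ N a g
  refine ⟨⟨s, hs⟩, QuotientGroup.eq.mpr ?_⟩
  show s⁻¹ * (m * s) ∈ N
  have := ‹N.Normal›.conj_mem m hm s⁻¹
  simpa [mul_assoc] using this

end primitive

/-- A group of order `p ^ d` is generated by at most `d` elements. -/
theorem exists_gens {G : Type*} [Group G] [Finite G] {p : ℕ} (hp : p.Prime) {d : ℕ} (hd : Nat.card G = p ^ d) :
    ∃ f : Fin d → G, Subgroup.closure (Set.range f) = ⊤ := by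
  have key : ∀ k ≤ d, ∃ f : Fin k → G, p ^ k ≤ Nat.card (Subgroup.closure (Set.range f)) := by
    intro k
    induction k with
    | zero => intro _; exact ⟨Fin.elim0, by simpa using Nat.one_le_iff_ne_zero.mpr Nat.card_pos.ne'⟩
    | succ k ih =>
      intro hk
      obtain ⟨f, hf⟩ := ih (by omega)
      set H := Subgroup.closure (Set.range f)
      by_cases hH : H = ⊤
      · refine ⟨Fin.cons 1 f, ?_⟩
        have : Subgroup.closure (Set.range (Fin.cons 1 f : Fin (k + 1) → G)) = ⊤ := by
          rw [eq_top_iff, ← hH]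
          apply Subgroup.closure_mono
          rintro _ ⟨i, rfl⟩
          exact ⟨i.succ, by simp⟩
        rw [this, Subgroup.card_top, hd]
        exact Nat.pow_le_pow_right hp.pos hk
      · obtain ⟨x, hx⟩ : ∃ x, x ∉ H := by
          by_contra hcon; push Not at hcon; exact hH (Subgroup.eq_top_iff' H |>.mpr hcon)
        refine ⟨Fin.cons x f, ?_⟩
        set H' := Subgroup.closure (Set.range (Fin.cons x f : Fin (k + 1) → G))
        have hlt : H < H' := by
          refine lt_of_le_of_ne (Subgroup.closure_mono ?_) fun e => hx ?_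
          · rintro _ ⟨i, rfl⟩
            exact ⟨i.succ, by simp⟩
          · rw [e]; exact Subgroup.subset_closure ⟨0, by simp⟩
        obtain ⟨i, -, hi⟩ := (Nat.dvd_prime_pow hp).mp (hd ▸ Subgroup.card_subgroup_dvd_card H)
        obtain ⟨j, -, hj⟩ := (Nat.dvd_prime_pow hp).mp (hd ▸ Subgroup.card_subgroup_dvd_card H')
        have h1 : Nat.card H < Nat.card H' := by
          by_contra hcon
          exact hlt.ne (Subgroup.eq_of_le_of_card_ge hlt.le (not_lt.mp hcon))
        rw [hi, hj] at h1
        rw [hi] at hf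
        have h2 := (Nat.pow_lt_pow_iff_right hp.one_lt).mp h1
        have h3 := (Nat.pow_le_pow_iff_right hp.one_lt).mp hf
        rw [hj]
        exact Nat.pow_le_pow_right hp.pos (by omega)
  obtain ⟨f, hf⟩ := key d le_rfl
  exact ⟨f, Subgroup.eq_top_of_le_card _ (by rw [hd]; exact hf)⟩

lemma arith_two : ∀ d, 4 ≤ d → 3 * (d * (d + 1)) ≤ 4 * (2 ^ d - 1) := by
  intro d hd
  induction d, hd using Nat.le_induction with
  | base => norm_num
  | succ d hd ih =>
    have h2 : 2 * (d + 1) ≤ 2 ^ d := by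
      clear ih
      induction d, hd using Nat.le_induction with
      | base => norm_num
      | succ d hd ih => rw [pow_succ]; omega
    rw [pow_succ]
    have e : (d + 1) * (d + 1 + 1) = d * (d + 1) + 2 * (d + 1) := by ring
    have := Nat.one_le_two_pow (n := d)
    rw [e]
    omega

lemma arith_three : ∀ d, 2 ≤ d → 24 * (d * (d + 1)) < 5 * (4 * 3 ^ d - 3) := by
  intro d hd
  induction d, hd using Nat.le_induction with
  | base => norm_num
  | succ d hd ih =>
    have h2 : 2 * (d + 1) ≤ 3 ^ d := by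
      clear ih
      induction d, hd using Nat.le_induction with
      | base => norm_num
      | succ d hd ih => rw [pow_succ]; omega
    rw [pow_succ]
    have h3 : 1 ≤ 3 ^ d := Nat.one_le_pow _ _ (by norm_num)
    have e : (d + 1) * (d + 1 + 1) = d * (d + 1) + 2 * (d + 1) := by ring
    rw [e]
    omega

/-- The numerical inequality for regular abelian normal subgroups. -/
lemma arith_affine {p d : ℕ} (hp : p.Prime) (hd : 1 ≤ d) (h2 : p ^ d ≠ 2) (h3 : p ^ d ≠ 3) (h4 : p ^ d ≠ 4)
    (h8 : p ^ d ≠ 8) {c : ℕ} (hc : 2 ^ c ≤ p ^ (d * (d + 1))) : 3 * c ≤ 4 * (p ^ d - 1) := by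
  rcases (by have := hp.two_le; omega : p = 2 ∨ p = 3 ∨ p = 4 ∨ 5 ≤ p) with rfl | rfl | rfl | hp5
  · have hd4 : 4 ≤ d := by
      by_contra h
      interval_cases d <;> simp_all
    have := (Nat.pow_le_pow_iff_right (by norm_num : 1 < 2)).mp hc
    have := arith_two d hd4
    omega
  · have hd2 : 2 ≤ d := by
      by_contra h
      interval_cases d; simp_all
    have h5 : (2 : ℕ) ^ (5 * c) ≤ 2 ^ (8 * (d * (d + 1))) := by
      calc (2 : ℕ) ^ (5 * c) = (2 ^ c) ^ 5 := by rw [← pow_mul, mul_comm]
        _ ≤ (3 ^ (d * (d + 1))) ^ 5 := Nat.pow_le_pow_left hc 5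
        _ = (3 ^ 5) ^ (d * (d + 1)) := by rw [← pow_mul, ← pow_mul, mul_comm]
        _ ≤ (2 ^ 8) ^ (d * (d + 1)) := Nat.pow_le_pow_left (by norm_num) _
        _ = 2 ^ (8 * (d * (d + 1))) := by rw [← pow_mul]
    have := (Nat.pow_le_pow_iff_right (by norm_num : 1 < 2)).mp h5
    have := arith_three d hd2
    omega
  · norm_num at hp
  · have hp2 : p ^ 2 ≤ 2 ^ p := by
      clear hc h2 h3 h4 h8 hp
      induction p, hp5 using Nat.le_induction with
      | base => norm_num
      | succ m hm ih => rw [pow_succ 2 m]; nlinarith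
    have h5 : (2 : ℕ) ^ (2 * c) ≤ 2 ^ (p * (d * (d + 1))) := by
      calc (2 : ℕ) ^ (2 * c) = (2 ^ c) ^ 2 := by rw [← pow_mul, mul_comm]
        _ ≤ (p ^ (d * (d + 1))) ^ 2 := Nat.pow_le_pow_left hc 2
        _ = (p ^ 2) ^ (d * (d + 1)) := by rw [← pow_mul, ← pow_mul, mul_comm]
        _ ≤ (2 ^ p) ^ (d * (d + 1)) := Nat.pow_le_pow_left hp2 _
        _ = 2 ^ (p * (d * (d + 1))) := by rw [← pow_mul]
    have h6 := (Nat.pow_le_pow_iff_right (by norm_num : 1 < 2)).mp h5
    obtain ⟨e, rfl⟩ : ∃ e, d = e + 1 := ⟨d - 1, by omega⟩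
    rw [pow_succ]
    rcases Nat.eq_zero_or_pos e with rfl | he
    · simp only [pow_zero, one_mul]; norm_num at h6; omega
    · have hk : 3 * ((e + 1) * (e + 1 + 1)) + 2 ≤ 8 * p ^ e := by
        clear hc h2 h3 h4 h8 h5 h6 hd hp2
        induction e, he using Nat.le_induction with
        | base => simp only [pow_one]; omega
        | succ e he ih =>
          rw [pow_succ]
          have : 5 * p ^ e ≤ p ^ e * p := by rw [mul_comm 5]; exact Nat.mul_le_mul_left _ hp5
          nlinarith
      have h7 : p * (3 * ((e + 1) * (e + 1 + 1)) + 2) ≤ p * (8 * p ^ e) := Nat.mul_le_mul_left _ hk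
      have h8' : 8 ≤ p + 3 := by omega
      have h9 : 6 * c ≤ p * (3 * ((e + 1) * (e + 1 + 1))) := by linarith [Nat.mul_le_mul_left 3 h6]
      have h10 : p * (3 * ((e + 1) * (e + 1 + 1))) + 2 * p ≤ 8 * (p ^ e * p) := by linarith
      have h11 : 5 ≤ p ^ e * p := le_trans hp5 (Nat.le_mul_of_pos_left _ (pow_pos (by omega) _))
      omega

end Cfsg.Agent.CompLengthPerm
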