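import Mathlib
import Cfsg.Agent.Lib.CompLengthPerm

/-!
The primitive case of the composition length bound `4 (n - r) / 3`.
-/

set_option autoImplicit false

namespace Cfsg.Agent.CompLengthPrimitive

open Cfsg.Agent.CompLengthChains Cfsg.Agent.CompLengthPerm Cfsg.Agent.MinNormalFactors MulAction

variable {G : Type*} [Group G] [Finite G]

/-- The join of a set of factors. -/
def join (S : Finset (Subgroup G)) : Subgroup G := S.sup id

/-- The centraliser of a factor inside `N`. -/
def cen (N T : Subgroup G) : Subgroup G := N ⊓ Subgroup.centralizer (T : Set G)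

open scoped Classical in
/-- All factors. -/
noncomputable def factors (N : Subgroup G) : Finset (Subgroup G) :=
  (Set.toFinite {T : Subgroup G | IsFactor N T}).toFinset

omit [Finite G] in
/-- Product of two commuting disjoint subgroups. -/
lemma card_sup_of_commute (A B : Subgroup G) (hc : ∀ a ∈ A, ∀ b ∈ B, Commute a b) (hd : A ⊓ B = ⊥) :
    Nat.card ↥(A ⊔ B) = Nat.card A * Nat.card B := by
  rw [← Nat.card_prod]
  refine (Nat.card_congr (Equiv.ofBijective
    (fun p : A × B => (⟨p.1.1 * p.2.1, Subgroup.mul_mem_sup p.1.2 p.2.2⟩ : ↥(A ⊔ B))) ⟨?_, ?_⟩)).symm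
  · rintro ⟨a, b⟩ ⟨a', b'⟩ h
    have h' : (a : G) * b = a' * b' := congrArg Subtype.val h
    have h1 : (a' : G)⁻¹ * a = b' * (b : G)⁻¹ := by
      calc (a' : G)⁻¹ * a = (a' : G)⁻¹ * (a * b) * (b : G)⁻¹ := by group
        _ = b' * (b : G)⁻¹ := by rw [h']; group
    have hm : (a' : G)⁻¹ * a ∈ A ⊓ B := ⟨A.mul_mem (A.inv_mem a'.2) a.2, h1 ▸ B.mul_mem b'.2 (B.inv_mem b.2)⟩
    rw [hd, Subgroup.mem_bot] at hm
    have ha : a' = a := Subtype.ext (inv_mul_eq_one.mp hm)
    subst ha
    rw [Prod.mk.injEq]
    exact ⟨rfl, Subtype.ext (mul_left_cancel h')⟩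
  · rintro ⟨x, hx⟩
    rw [← SetLike.mem_coe, Subgroup.coe_mul_of_left_le_normalizer_right] at hx
    · obtain ⟨a, ha, b, hb, rfl⟩ := hx
      exact ⟨⟨⟨a, ha⟩, ⟨b, hb⟩⟩, rfl⟩
    · exact le_normalizer_of_forall fun a ha b hb => by rw [(hc a ha b hb).eq, mul_inv_cancel_right]; exact hb

variable {N : Subgroup G}

lemma mem_factors {T : Subgroup G} : T ∈ factors N ↔ IsFactor N T := by simp [factors]

omit [Finite G] in
lemma join_insert [DecidableEq (Subgroup G)] (T : Subgroup G) (S : Finset (Subgroup G)) :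
    join (insert T S) = T ⊔ join S := by simp [join]

omit [Finite G] in
lemma le_join {T : Subgroup G} {S : Finset (Subgroup G)} (h : T ∈ S) : T ≤ join S := Finset.le_sup (f := id) h

lemma join_le (S : Finset (Subgroup G)) (hS : S ⊆ factors N) : join S ≤ N :=
  Finset.sup_le fun _ hT => (mem_factors.mp (hS hT)).le

lemma join_le_centralizer {T : Subgroup G} (hT : IsFactor N T) (S : Finset (Subgroup G)) (hS : S ⊆ factors N)
    (hTS : T ∉ S) : join S ≤ Subgroup.centralizer (T : Set G) := by
  refine Finset.sup_le fun U hU u hu => Subgroup.mem_centralizer_iff.mpr fun t ht => ?_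
  exact hT.commute (mem_factors.mp (hS hU)) (fun e => hTS (e ▸ hU)) ht hu

lemma join_normalized (S : Finset (Subgroup G)) (hS : S ⊆ factors N) {n x : G} (hn : n ∈ N) (hx : x ∈ join S) :
    n * x * n⁻¹ ∈ join S := by
  have hle : join S ≤ (join S).comap (MulAut.conj n).toMonoidHom :=
    Finset.sup_le fun U hU u hu => le_join hU (conj_mem_of_le_normalizer ((mem_factors.mp (hS hU)).normalized hn) hu)
  exact hle hx

variable (hN : IsMNS N) (hab : ¬ IsMulCommutative N)

include hN hab in
lemma inf_join {T : Subgroup G} (hT : IsFactor N T) (S : Finset (Subgroup G)) (hS : S ⊆ factors N) (hTS : T ∉ S) :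
    T ⊓ join S = ⊥ :=
  le_bot_iff.mp ((inf_le_inf_left T (join_le_centralizer hT S hS hTS)).trans_eq (inf_centralizer_eq_bot hN hab hT))

include hN hab in
lemma card_factor_eq {T U : Subgroup G} (hT : IsFactor N T) (hU : IsFactor N U) : Nat.card U = Nat.card T := by
  obtain ⟨g, rfl⟩ := exists_conj hN hab hT hU
  exact (Nat.card_congr (Subgroup.equivMapOfInjective T _ (MulAut.conj g).injective).toEquiv).symm

include hN hab in
lemma card_join {T : Subgroup G} (hT : IsFactor N T) (S : Finset (Subgroup G)) (hS : S ⊆ factors N) :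
    Nat.card (join S) = Nat.card T ^ S.card := by
  classical
  induction S using Finset.induction_on with
  | empty => simp [join]
  | @insert U S hU ih =>
    have hUf := mem_factors.mp (hS (Finset.mem_insert_self U S))
    have hSf : S ⊆ factors N := fun x hx => hS (Finset.mem_insert_of_mem hx)
    rw [join_insert, card_sup_of_commute _ _ (fun a ha b hb =>
        Subgroup.mem_centralizer_iff.mp (join_le_centralizer hUf S hSf hU hb) a ha)
      (inf_join hN hab hUf S hSf hU), ih hSf, card_factor_eq hN hab hT hUf, Finset.card_insert_of_notMem hU, pow_succ']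

include hN in
lemma join_factors {T : Subgroup G} (hT : IsFactor N T) : join (factors N) = N :=
  le_antisymm (join_le _ (Finset.Subset.refl _))
    (calc N = ⨆ g : G, conjSub g T := (iSup_conj_eq hN hT).symm
      _ ≤ _ := iSup_le fun g => le_join (mem_factors.mpr (hT.conj hN.normal g)))

include hN hab in
lemma eq_one_of_centralizes (S : Finset (Subgroup G)) (hS : S ⊆ factors N) {x : G} (hx : x ∈ join S)
    (hc : ∀ U ∈ S, x ∈ Subgroup.centralizer (U : Set G)) : x = 1 := by
  obtain ⟨T, -, hT⟩ := exists_isFactor_le N le_rfl hN.ne_bot Subgroup.le_normalizer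
  have hxN : x ∈ N := join_le S hS hx
  have hcent : N ≤ Subgroup.centralizer {x} := by
    rw [← iSup_conj_eq hN hT]
    refine iSup_le fun g y hy => Subgroup.mem_centralizer_iff.mpr ?_
    rintro _ rfl
    by_cases hg : conjSub g T ∈ S
    · exact (Subgroup.mem_centralizer_iff.mp (hc _ hg) y hy).symm
    · exact (Subgroup.mem_centralizer_iff.mp (join_le_centralizer (hT.conj hN.normal g) S hS hg hx) y hy).symm
  have : x ∈ N ⊓ Subgroup.centralizer (N : Set G) :=
    ⟨hxN, Subgroup.mem_centralizer_iff.mpr fun y hy => (Subgroup.mem_centralizer_iff.mp (hcent hy) x rfl).symm⟩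
  rwa [center_trivial hN hab, Subgroup.mem_bot] at this

include hN in
lemma cl_join (S : Finset (Subgroup G)) (hS : S ⊆ factors N) : CL (join S) S.card := by
  classical
  induction S using Finset.induction_on with
  | empty =>
    haveI : Subsingleton (join (∅ : Finset (Subgroup G))) := by
      rw [show join (∅ : Finset (Subgroup G)) = ⊥ from Finset.sup_empty]; infer_instance
    exact cl_subsingleton
  | @insert U S hU ih =>
    have hUf := mem_factors.mp (hS (Finset.mem_insert_self U S))
    have hSf : S ⊆ factors N := fun x hx => hS (Finset.mem_insert_of_mem hx)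
    rw [Finset.card_insert_of_notMem hU, add_comm, join_insert]
    have hJ : U ⊔ join S ≤ Subgroup.normalizer (U : Set G) :=
      (sup_le hUf.le (join_le S hSf)).trans hUf.normalized
    haveI hn : (U.subgroupOf (U ⊔ join S)).Normal := Subgroup.normal_subgroupOf_iff_le_normalizer le_sup_left |>.mpr hJ
    haveI := isSimpleGroup hN hUf
    have h1 : CL (U.subgroupOf (U ⊔ join S)) 1 :=
      (cl_isSimple (G := U)).of_mulEquiv (Subgroup.subgroupOfEquivOfLe le_sup_left).symm
    refine h1.ext ((ih hSf).of_surjective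
      ((QuotientGroup.mk' _).comp (Subgroup.inclusion (le_sup_right : join S ≤ U ⊔ join S))) ?_)
    intro q
    induction q using QuotientGroup.induction_on with | _ g => ?_
    obtain ⟨x, hx⟩ := g
    have hx' := hx
    rw [← SetLike.mem_coe, Subgroup.coe_mul_of_left_le_normalizer_right] at hx'
    · obtain ⟨u, hu, y, hy, rfl⟩ := hx'
      refine ⟨⟨y, hy⟩, QuotientGroup.eq.mpr ?_⟩
      show y⁻¹ * (u * y) ∈ U
      have := conj_mem_of_le_normalizer (hUf.normalized (N.inv_mem (join_le S hSf hy))) hu
      simpa [mul_assoc] using this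
    · exact le_normalizer_of_forall fun u hu y hy => join_normalized S hSf (hUf.le hu) hy

include hN hab in
lemma cl_N {T : Subgroup G} (hT : IsFactor N T) : CL N (factors N).card := by
  have h := cl_join hN (factors N) (Finset.Subset.refl _)
  rwa [join_factors hN hT] at h

include hN hab in
lemma card_N {T : Subgroup G} (hT : IsFactor N T) : Nat.card N = Nat.card T ^ (factors N).card := by
  rw [← card_join hN hab hT (factors N) (Finset.Subset.refl _), join_factors hN hT]

include hN hab in
lemma four_le_card {T : Subgroup G} (hT : IsFactor N T) : 4 ≤ Nat.card T := by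
  by_contra h
  apply not_abelian hN hab hT
  have h2 : 2 ≤ Nat.card T := by
    haveI : Nontrivial T := (Subgroup.nontrivial_iff_ne_bot T).mpr hT.ne_bot
    exact Finite.one_lt_card
  have hp : (Nat.card T).Prime := by
    rcases (by omega : Nat.card T = 2 ∨ Nat.card T = 3) with e | e <;> rw [e] <;> norm_num
  haveI := Fact.mk hp
  haveI : IsCyclic T := isCyclic_of_prime_card rfl
  exact ⟨⟨fun a b => IsCyclic.commGroup.mul_comm a b⟩⟩

lemma mul_lt_pow {μ k : ℕ} (hμ : 3 ≤ μ) (hk : 2 ≤ k) : k * μ < μ ^ k := by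
  induction k, hk using Nat.le_induction with
  | base => nlinarith
  | succ j hj ih =>
    rw [pow_succ]
    have h1 : μ ^ j * 3 ≤ μ ^ j * μ := Nat.mul_le_mul_left _ hμ
    have h2 : 2 * μ ≤ j * μ := Nat.mul_le_mul_right μ hj
    rw [add_mul, one_mul]
    omega

lemma two_mul_le_pow {q s : ℕ} (hq : 4 ≤ q) (hs : 2 ≤ s) : 2 * s * q ≤ q ^ s := by
  induction s, hs using Nat.le_induction with
  | base => rw [pow_two]; exact Nat.mul_le_mul_right q hq
  | succ j hj ih =>
    rw [pow_succ]
    have h1 : q ^ j * 4 ≤ q ^ j * q := Nat.mul_le_mul_left _ hq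
    have h2 : 2 * q ≤ 2 * j * q := Nat.mul_le_mul_right q (by omega)
    rw [show 2 * (j + 1) * q = 2 * j * q + 2 * q by ring]
    omega

variable {X : Type*} [MulAction G X] [Finite X] [FaithfulSMul G X] [IsPretransitive N X] (a : X)

include hN hab in
lemma stab_moves_factor {T U : Subgroup G} (hT : IsFactor N T) (hU : IsFactor N U) :
    ∃ s ∈ stabilizer G a, conjSub s T = U := by
  obtain ⟨g, rfl⟩ := exists_conj hN hab hT hU
  obtain ⟨n, hn, s, hs, rfl⟩ := PermBasic.mul_stabilizer_eq_univ N a g
  refine ⟨s, hs, ?_⟩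
  rw [← conjSub_conjSub, conjSub_eq_self ((hT.conj hN.normal s).normalized hn)]

omit [Finite G] in
include hN in
lemma conj_cen {T : Subgroup G} {s x : G} (hx : x ∈ cen N T) : s * x * s⁻¹ ∈ cen N (conjSub s T) := by
  refine ⟨hN.normal.conj_mem x hx.1 s, Subgroup.mem_centralizer_iff.mpr fun y hy => ?_⟩
  have h := Subgroup.mem_centralizer_iff.mp hx.2 _ (mem_conjSub.mp hy)
  calc y * (s * x * s⁻¹) = s * ((s⁻¹ * y * s) * x) * s⁻¹ := by group
    _ = s * (x * (s⁻¹ * y * s)) * s⁻¹ := by rw [h]
    _ = s * x * s⁻¹ * y := by group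

/-- The part of a factor visible in the stabiliser. -/
def proj (N T : Subgroup G) (a : X) : Subgroup G := T ⊓ ((N ⊓ stabilizer G a) ⊔ cen N T)

include hN in
lemma conj_proj {T : Subgroup G} {s : G} (hs : s ∈ stabilizer G a) :
    (proj N T a).map (MulAut.conj s).toMonoidHom ≤ proj N (conjSub s T) a := by
  rintro _ ⟨x, ⟨hxT, hx⟩, rfl⟩
  refine ⟨⟨x, hxT, rfl⟩, ?_⟩
  have hle : (N ⊓ stabilizer G a) ⊔ cen N T ≤
      ((N ⊓ stabilizer G a) ⊔ cen N (conjSub s T)).comap (MulAut.conj s).toMonoidHom := by
    refine sup_le (fun y hy => ?_) (fun y hy => Subgroup.mem_sup_right (conj_cen hN hy))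
    exact Subgroup.mem_sup_left ⟨hN.normal.conj_mem y hy.1 s,
      (stabilizer G a).mul_mem ((stabilizer G a).mul_mem hs hy.2) ((stabilizer G a).inv_mem hs)⟩
  exact hle hx

include hN hab in
lemma card_proj {T U : Subgroup G} (hT : IsFactor N T) (hU : IsFactor N U) :
    Nat.card (proj N T a) ≤ Nat.card (proj N U a) := by
  obtain ⟨s, hs, rfl⟩ := stab_moves_factor hN hab a hT hU
  rw [Nat.card_congr (Subgroup.equivMapOfInjective (proj N T a) (MulAut.conj s).toMonoidHom (MulAut.conj s).injective).toEquiv]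
  exact Subgroup.card_le_of_le (conj_proj hN a hs)

include hN hab in
/-- The stabiliser acts faithfully on the non-trivial elements of the factors. -/
lemma stabilizer_small {T : Subgroup G} (hT : IsFactor N T) {n : ℕ} (ih : Hyp n)
    (hlt : (factors N).card * Nat.card T ≤ n) :
    CL (stabilizer G a) (bd ((factors N).card * Nat.card T - (factors N).card) 1) := by
  classical
  let Y := {x : G // x ≠ 1 ∧ ∃ U ∈ factors N, x ∈ U}
  have hconj : ∀ (g : G) (x : Y), g * x.1 * g⁻¹ ≠ 1 ∧ ∃ U ∈ factors N, g * x.1 * g⁻¹ ∈ U := by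
    intro g x
    obtain ⟨U, hU, hxU⟩ := x.2.2
    exact ⟨fun e => x.2.1 (conj_eq_one_iff.mp e),
      conjSub g U, mem_factors.mpr ((mem_factors.mp hU).conj hN.normal g), conj_mem_conjSub hxU⟩
  letI act : MulAction (stabilizer G a) Y :=
    { smul := fun g x => ⟨(g : G) * x.1 * (g : G)⁻¹, hconj g x⟩
      one_smul := fun x => Subtype.ext (show (1 : G) * x.1 * (1 : G)⁻¹ = x.1 by group)
      mul_smul := fun g h x => Subtype.ext
        (show ((g : G) * h) * x.1 * ((g : G) * h)⁻¹ = (g : G) * ((h : G) * x.1 * (h : G)⁻¹) * (g : G)⁻¹ by group) }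
  haveI : FaithfulSMul (stabilizer G a) Y := ⟨fun {g h} hgh => by
    apply Subtype.ext
    have hcomm : ∀ U, IsFactor N U → U ≤ Subgroup.centralizer {(h : G)⁻¹ * g} := by
      intro U hU u hu
      rw [Subgroup.mem_centralizer_singleton_iff]
      symm
      by_cases h1 : u = 1
      · simp [h1]
      have e : (g : G) * u * (g : G)⁻¹ = (h : G) * u * (h : G)⁻¹ :=
        congrArg Subtype.val (hgh ⟨u, h1, U, mem_factors.mpr hU, hu⟩)
      calc (h : G)⁻¹ * g * u = (h : G)⁻¹ * ((g : G) * u * (g : G)⁻¹) * g := by group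
        _ = (h : G)⁻¹ * ((h : G) * u * (h : G)⁻¹) * g := by rw [e]
        _ = u * ((h : G)⁻¹ * g) := by group
    have hN' : N ≤ Subgroup.centralizer {(h : G)⁻¹ * g} := by
      rw [← iSup_conj_eq hN hT]; exact iSup_le fun k => hcomm _ (hT.conj hN.normal k)
    have h1 : (h : G)⁻¹ * g = 1 := PermBasic.eq_one_of_commute_transitive N
      (fun u hu => (Subgroup.mem_centralizer_singleton_iff.mp (hN' hu)).symm)
      ((stabilizer G a).mul_mem ((stabilizer G a).inv_mem h.2) g.2)
    exact (inv_mul_eq_one.mp h1).symm⟩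
  have hcard : Nat.card Y ≤ (factors N).card * Nat.card T - (factors N).card := by
    let Z := Σ U : factors N, {u : (U : Subgroup G) // u ≠ 1}
    have hZ : Nat.card Z = (factors N).card * Nat.card T - (factors N).card := by
      rw [Nat.card_sigma]
      have : ∀ U : factors N, Nat.card {u : (U : Subgroup G) // u ≠ 1} = Nat.card T - 1 := fun U => by
        haveI := Fintype.ofFinite (U : Subgroup G)
        rw [← card_factor_eq hN hab hT (mem_factors.mp U.2), Nat.card_eq_fintype_card, Nat.card_eq_fintype_card,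
          Fintype.card_subtype_compl, Fintype.card_subtype_eq]
      simp only [this, Finset.sum_const, Finset.card_univ, Fintype.card_coe, smul_eq_mul, Nat.mul_sub_one]
    rw [← hZ]
    have hsurj : Function.Surjective (fun z : Z => (⟨(z.2.1 : G), fun e => z.2.2 (Subtype.ext e), z.1.1, z.1.2, z.2.1.2⟩ : Y)) := by
      rintro ⟨x, hx1, U, hU, hxU⟩
      exact ⟨⟨⟨U, hU⟩, ⟨⟨x, hxU⟩, fun e => hx1 (congrArg Subtype.val e)⟩⟩, rfl⟩
    exact Nat.card_le_card_of_surjective _ hsurj
  have hk : 1 ≤ (factors N).card := Finset.card_pos.mpr ⟨T, mem_factors.mpr hT⟩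
  haveI : Nonempty Y := by
    obtain ⟨t, ht, ht1⟩ := (Subgroup.bot_or_exists_ne_one T).resolve_left hT.ne_bot
    exact ⟨⟨t, ht1, T, mem_factors.mpr hT, ht⟩⟩
  have : (factors N).card ≤ (factors N).card * Nat.card T := Nat.le_mul_of_pos_right _ Nat.card_pos
  have h := ih.apply (G := stabilizer G a) (X := Y) (by omega)
  refine h.mono ?_
  have := numOrbits_pos (G := stabilizer G a) (X := Y)
  unfold bd
  omega

include hN hab a in
/-- The case where the number of elements of the factors is at most the degree. -/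
lemma small_case {T : Subgroup G} (hT : IsFactor N T) {n : ℕ} (ih : Hyp n)
    (hlt : (factors N).card * Nat.card T ≤ n) : CL G (bd n 1) := by
  haveI := hN.normal
  refine (cl_of_normal a (cl_N hN hab hT) (stabilizer_small hN hab a hT ih hlt)).mono ?_
  have hk : 1 ≤ (factors N).card := Finset.card_pos.mpr ⟨T, mem_factors.mpr hT⟩
  have : (factors N).card * 4 ≤ (factors N).card * Nat.card T := Nat.mul_le_mul_left _ (four_le_card hN hab hT)
  unfold bd
  omega

include hN hab in
/-- The product-action case. -/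
lemma product_case {T : Subgroup G} (hT : IsFactor N T) {n : ℕ} (ih : Hyp n) (hn : Nat.card X = n)
    (hk : 2 ≤ (factors N).card) (hC : Subgroup.centralizer (N : Set G) = ⊥)
    (hW : ¬ T ≤ (N ⊓ stabilizer G a) ⊔ cen N T) : CL G (bd n 1) := by
  classical
  haveI := hN.normal
  set k := (factors N).card with hkdef
  set W := (N ⊓ stabilizer G a) ⊔ cen N T with hWdef
  set R := proj N T a with hR
  set q := Nat.card T with hq
  set ρ := Nat.card R with hρ
  have hRT : R ≤ T := inf_le_left
  set μ := (R.subgroupOf T).index with hμ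
  have hq' : ρ * μ = q := by
    rw [hρ, hμ, hq, ← Subgroup.card_mul_index (R.subgroupOf T),
      Nat.card_congr (Subgroup.subgroupOfEquivOfLe hRT).toEquiv]
  have hμ0 : μ ≠ 0 := fun h => by rw [h, mul_zero] at hq'; exact Nat.card_pos.ne' hq'.symm
  have hμ3 : 3 ≤ μ := by
    by_contra hcon
    rcases (by omega : μ = 1 ∨ μ = 2) with h | h
    · exact hW fun t ht => ((Subgroup.subgroupOf_eq_top.mp (Subgroup.index_eq_one.mp h)) ht).2
    · haveI := Subgroup.normal_of_index_eq_two h
      have hnorm : N ≤ Subgroup.normalizer (R : Set G) := by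
        refine le_normalizer_of_forall fun n hn r hr => ?_
        obtain ⟨t, ht, c, hc, rfl⟩ := decomp hN hT hn
        have h1 : c * r * c⁻¹ = r := by
          rw [← Subgroup.mem_centralizer_iff.mp hc.2 r (hRT hr), mul_inv_cancel_right]
        rw [show t * c * r * (t * c)⁻¹ = t * (c * r * c⁻¹) * t⁻¹ by group, h1]
        exact (inferInstance : (R.subgroupOf T).Normal).conj_mem ⟨r, hRT hr⟩ hr ⟨t, ht⟩
      rcases hT.min R hRT hnorm with h' | h'
      · rw [h, hρ, h', Subgroup.card_bot] at hq'
        have := four_le_card hN hab hT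
        omega
      · exact hW fun t ht => (h'.symm ▸ ht : t ∈ R).2
  -- the degree is at least μ ^ k
  have hNa : Nat.card ↥(N ⊓ stabilizer G a) ≤ ρ ^ k := by
    have hmem : ∀ (x : ↥(N ⊓ stabilizer G a)) (U : factors N),
        ∃ t : proj N (U : Subgroup G) a, (t : G)⁻¹ * x ∈ cen N U := by
      intro x U
      have hU := mem_factors.mp U.2
      obtain ⟨t, ht, c, hc, e⟩ := decomp hN hU x.2.1
      refine ⟨⟨t, ht, ?_⟩, ?_⟩
      · rw [show t = (x : G) * c⁻¹ by rw [e]; group]
        exact Subgroup.mul_mem_sup x.2 ((cen N U).inv_mem hc)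
      · show t⁻¹ * (x : G) ∈ cen N U
        rw [e, inv_mul_cancel_left]; exact hc
    choose f hf using hmem
    have hinj : Function.Injective f := by
      intro x y hxy
      apply Subtype.ext
      have h1 : ∀ U : factors N, (x : G)⁻¹ * y ∈ Subgroup.centralizer ((U : Subgroup G) : Set G) := by
        intro U
        have := (cen N U).mul_mem ((cen N U).inv_mem (hf x U)) (hf y U)
        rw [hxy] at this
        simpa [mul_assoc] using this.2
      refine inv_mul_eq_one.mp (eq_one_of_centralizes hN hab (factors N) (Finset.Subset.refl _) ?_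
        (fun U hU => h1 ⟨U, hU⟩))
      rw [join_factors hN hT]
      exact N.mul_mem (N.inv_mem x.2.1) y.2.1
    refine (Nat.card_le_card_of_injective f hinj).trans ?_
    rw [Nat.card_pi]
    refine (Finset.prod_le_pow_card _ _ ρ fun U _ => card_proj hN hab a (mem_factors.mp U.2) hT).trans ?_
    rw [Finset.card_univ, Fintype.card_coe]
  have hn' : μ ^ k ≤ n := by
    have h1 : n * Nat.card ↥(N ⊓ stabilizer G a) = q ^ k := by
      rw [← hn, PermBasic.card_stabilizer_subgroup_mul N a, card_N hN hab hT]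
    rw [← hq', mul_pow] at h1
    refine Nat.le_of_mul_le_mul_left ?_ (pow_pos (Nat.card_pos : 0 < ρ) k)
    rw [← h1, mul_comm (ρ ^ k)]
    exact Nat.mul_le_mul_left n hNa
  -- a faithful action on fewer points
  set S := stabilizer G a ⊓ Subgroup.normalizer (T : Set G) with hSdef
  have hSW : S ≤ Subgroup.normalizer (W : Set G) := by
    refine le_normalizer_of_forall fun s hs w hw => ?_
    have hle : W ≤ W.comap (MulAut.conj s).toMonoidHom := by
      refine sup_le (fun y hy => Subgroup.mem_sup_left ⟨hN.normal.conj_mem y hy.1 s,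
        (stabilizer G a).mul_mem ((stabilizer G a).mul_mem hs.1 hy.2) ((stabilizer G a).inv_mem hs.1)⟩)
        (fun y hy => Subgroup.mem_sup_right ?_)
      have := conj_cen hN (s := s) hy
      rwa [conjSub_eq_self hs.2] at this
    exact hle hw
  set Y := W ⊔ S with hY
  have hYN : Y ⊓ N ≤ W := by
    rintro y ⟨hy, hyN⟩
    replace hy : y ∈ W ⊔ S := hy
    rw [← SetLike.mem_coe, Subgroup.coe_mul_of_right_le_normalizer_left W S hSW] at hy
    obtain ⟨w, hw, s, hs, rfl⟩ := hy
    have hwN : w ∈ N := (sup_le inf_le_left inf_le_left : W ≤ N) hw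
    have hsN : s ∈ N := by
      have := N.mul_mem (N.inv_mem hwN) hyN
      rwa [inv_mul_cancel_left] at this
    exact W.mul_mem hw (Subgroup.mem_sup_left ⟨hsN, hs.1⟩)
  have hTU : ∀ U : factors N, ∃ s ∈ stabilizer G a, conjSub s T = U := fun U =>
    stab_moves_factor hN hab a hT (mem_factors.mp U.2)
  choose xU hxU hxU' using hTU
  have hindex : Nat.card (G ⧸ Y) ≤ k * μ := by
    have hwd : ∀ U : factors N, ∀ t t' : T, (QuotientGroup.leftRel (R.subgroupOf T)) t t' →
        ((xU U * t : G) : G ⧸ Y) = ((xU U * t' : G) : G ⧸ Y) := by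
      intro U t t' h
      rw [QuotientGroup.leftRel_apply] at h
      refine QuotientGroup.eq.mpr ?_
      rw [show (xU U * t)⁻¹ * (xU U * t' : G) = (t : G)⁻¹ * t' by group]
      exact Subgroup.mem_sup_left h.2
    have hsurj : Function.Surjective (fun p : factors N × (T ⧸ R.subgroupOf T) =>
        Quotient.liftOn' p.2 (fun t => ((xU p.1 * t : G) : G ⧸ Y)) (hwd p.1)) := by
      intro y
      induction y using QuotientGroup.induction_on with | _ g => ?_
      obtain ⟨m, hm, s, hs, rfl⟩ := PermBasic.mul_stabilizer_eq_univ N a g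
      set U : factors N := ⟨conjSub s T, mem_factors.mpr (hT.conj hN.normal s)⟩ with hU
      have hyS : (xU U)⁻¹ * s ∈ S := by
        refine ⟨(stabilizer G a).mul_mem ((stabilizer G a).inv_mem (hxU U)) hs, mem_normalizer_of_conjSub_eq ?_⟩
        rw [← conjSub_conjSub, show conjSub s T = (U : Subgroup G) from rfl, ← hxU' U, conjSub_conjSub,
          inv_mul_cancel, conjSub_one]
      obtain ⟨t, ht, c, hc, e⟩ := decomp hN hT (hN.normal.conj_mem m hm (xU U)⁻¹)
      rw [inv_inv] at e
      refine ⟨(U, ((⟨t, ht⟩ : T) : T ⧸ R.subgroupOf T)), ?_⟩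
      show ((xU U * t : G) : G ⧸ Y) = ((m * s : G) : G ⧸ Y)
      refine QuotientGroup.eq.mpr ?_
      have e' : (xU U * t)⁻¹ * (m * s) = c * ((xU U)⁻¹ * s) := by
        calc (xU U * t)⁻¹ * (m * s) = t⁻¹ * ((xU U)⁻¹ * m * xU U) * ((xU U)⁻¹ * s) := by group
          _ = c * ((xU U)⁻¹ * s) := by rw [e]; group
      rw [e']
      exact Y.mul_mem (Subgroup.mem_sup_left (Subgroup.mem_sup_right hc)) (Subgroup.mem_sup_right hyS)
    refine (Nat.card_le_card_of_surjective _ hsurj).trans ?_
    rw [Nat.card_prod, Nat.card_eq_fintype_card, Fintype.card_coe]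
    exact le_rfl
  have hcore : Y.normalCore = ⊥ := by
    have hle : Y.normalCore ⊓ N ≤ W := (inf_le_inf_right N Y.normalCore_le).trans hYN
    rcases hN.min (Y.normalCore ⊓ N) (Subgroup.normal_inf_normal _ _) inf_le_right with h | h
    · rw [eq_bot_iff, ← hC]
      intro m hm
      refine Subgroup.mem_centralizer_iff.mpr fun n hn => ?_
      exact ((Subgroup.commute_of_normal_of_disjoint _ _ inferInstance hN.normal (disjoint_iff.mpr h) m n hm hn).eq).symm
    · exact absurd (hT.le.trans (h ▸ hle)) hW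
  haveI : FaithfulSMul G (G ⧸ Y) := ⟨fun {g h} hgh => by
    have : g⁻¹ * h ∈ (MulAction.toPermHom G (G ⧸ Y)).ker := by
      rw [MonoidHom.mem_ker, map_mul, map_inv, inv_mul_eq_one]
      exact Equiv.ext hgh
    rw [← Subgroup.normalCore_eq_ker, hcore, Subgroup.mem_bot] at this
    exact inv_mul_eq_one.mp this⟩
  have hkμ : k * μ < μ ^ k := mul_lt_pow hμ3 hk
  refine (ih.apply (G := G) (X := G ⧸ Y) (by omega)).mono ?_
  have := numOrbits_pos (G := G) (X := G ⧸ Y)
  unfold bd
  omega

include hN hab in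
/-- The diagonal case. -/
lemma diagonal_case {T : Subgroup G} (hT : IsFactor N T) {n : ℕ} (ih : Hyp n) (hn : Nat.card X = n)
    (hk : 2 ≤ (factors N).card)
    (hA : ∀ U, IsFactor N U → U ≤ (N ⊓ stabilizer G a) ⊔ cen N U) : CL G (bd n 1) := by
  classical
  haveI := hN.normal
  set q := Nat.card T with hq
  have hq4 : 4 ≤ q := four_le_card hN hab hT
  have hsemi : ∀ U, IsFactor N U → ∀ t ∈ U, t • a = a → t = 1 := fun U hU t ht =>
    Cfsg.Agent.PrimitiveDichotomy.semireg_of_mns hN hab hU a (hA U hU) t ht a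
  obtain ⟨S, hSmem, hSmax⟩ := Finset.exists_max_image
    ((factors N).powerset.filter (fun S => join S ⊓ stabilizer G a = ⊥)) Finset.card
    ⟨∅, Finset.mem_filter.mpr ⟨Finset.empty_mem_powerset _, by simp [join]⟩⟩
  rw [Finset.mem_filter, Finset.mem_powerset] at hSmem
  obtain ⟨hSf, hSreg⟩ := hSmem
  set s := S.card with hs
  have hs1 : 1 ≤ s := by
    refine hSmax {T} (Finset.mem_filter.mpr ⟨Finset.mem_powerset.mpr (by simpa [mem_factors] using hT), ?_⟩)
    rw [Subgroup.eq_bot_iff_forall]
    rintro x ⟨hx, hxa⟩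
    exact hsemi T hT x (by simpa [join] using hx) hxa
  have hqs : q ^ s ≤ n := by
    rw [← hn, hq, ← card_join hN hab hT S hSf]
    refine Nat.card_le_card_of_injective (fun t : join S => (t : G) • a) fun t u h => ?_
    have : (u : G)⁻¹ * t ∈ join S ⊓ stabilizer G a :=
      ⟨(join S).mul_mem ((join S).inv_mem u.2) t.2, by
        show ((u : G)⁻¹ * t) • a = a
        rw [mul_smul, show (t : G) • a = (u : G) • a from h, inv_smul_smul]⟩
    rw [hSreg, Subgroup.mem_bot, inv_mul_eq_one] at this
    exact Subtype.ext this.symm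
  -- projections of stabiliser subgroups
  have hfull : ∀ (D : Subgroup G) (U : Subgroup G), IsFactor N U → D ≤ N →
      (∀ y ∈ N ⊓ stabilizer G a, ∀ d ∈ D, y * d * y⁻¹ ∈ D) → ¬ D ≤ Subgroup.centralizer (U : Set G) →
      ∀ t ∈ U, ∃ d ∈ D, ∃ c ∈ cen N U, t = d * c := by
    intro D U hU hDN hD hne t ht
    have hDc : D ≤ Subgroup.normalizer ((cen N U : Subgroup G) : Set G) := by
      refine le_normalizer_of_forall fun d hd c hc => ?_
      have := conj_cen hN (s := d) hc
      rwa [conjSub_eq_self (hU.normalized (hDN hd))] at this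
    have hnorm : N ≤ Subgroup.normalizer ((U ⊓ (D ⊔ cen N U) : Subgroup G) : Set G) := by
      have hgen : (N ⊓ stabilizer G a) ⊔ cen N U ≤ Subgroup.normalizer ((U ⊓ (D ⊔ cen N U) : Subgroup G) : Set G) := by
        refine sup_le (le_normalizer_of_forall fun y hy x hx => ⟨conj_mem_of_le_normalizer (hU.normalized hy.1) hx.1, ?_⟩)
          (le_normalizer_of_forall fun c hc x hx => ?_)
        · have hle : D ⊔ cen N U ≤ (D ⊔ cen N U).comap (MulAut.conj y).toMonoidHom := by
            refine sup_le (fun d hd => Subgroup.mem_sup_left (hD y hy d hd)) (fun c hc => Subgroup.mem_sup_right ?_)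
            have := conj_cen hN (s := y) hc
            rwa [conjSub_eq_self (hU.normalized hy.1)] at this
          exact hle hx.2
        · rw [← Subgroup.mem_centralizer_iff.mp hc.2 x hx.1, mul_inv_cancel_right]; exact hx
      intro m hm
      obtain ⟨u, hu, c, hc, rfl⟩ := decomp hN hU hm
      exact (Subgroup.normalizer _).mul_mem (hgen (hA U hU hu)) (hgen (Subgroup.mem_sup_right hc))
    rcases hU.min _ inf_le_left hnorm with h | h
    · exfalso
      apply hne
      intro d hd
      obtain ⟨u, hu, c, hc, e⟩ := decomp hN hU (hDN hd)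
      have : u ∈ U ⊓ (D ⊔ cen N U) :=
        ⟨hu, by rw [show u = d * c⁻¹ by rw [e]; group]; exact Subgroup.mul_mem_sup hd ((cen N U).inv_mem hc)⟩
      rw [h, Subgroup.mem_bot] at this
      rw [e, this, one_mul]; exact hc.2
    · have ht' : t ∈ D ⊔ cen N U := (h.symm ▸ ht : t ∈ U ⊓ (D ⊔ cen N U)).2
      rw [← SetLike.mem_coe, Subgroup.coe_mul_of_left_le_normalizer_right D _ hDc] at ht'
      obtain ⟨d, hd, c, hc, rfl⟩ := ht'
      exact ⟨d, hd, c, hc, rfl⟩
  -- the number of factors is at most twice the size of `S`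
  have hk2 : (factors N).card ≤ 2 * s := by
    let D : Subgroup G → Subgroup G := fun j => join (insert j S) ⊓ stabilizer G a
    have hsub : ∀ j ∈ factors N, insert j S ⊆ factors N := fun j hj => Finset.insert_subset hj hSf
    have hDprop : ∀ j ∈ factors N, D j ≤ N ∧ (∀ y ∈ N ⊓ stabilizer G a, ∀ d ∈ D j, y * d * y⁻¹ ∈ D j) :=
      fun j hj => ⟨inf_le_left.trans (join_le _ (hsub j hj)), fun y hy d hd => ⟨join_normalized _ (hsub j hj) hy.1 hd.1,
        (stabilizer G a).mul_mem ((stabilizer G a).mul_mem hy.2 hd.2) ((stabilizer G a).inv_mem hy.2)⟩⟩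
    have hsupp : ∀ j : ↥(factors N \ S), ∃ u : S, ¬ D j ≤ Subgroup.centralizer ((u : Subgroup G) : Set G) := by
      intro j
      obtain ⟨hjf, hjS⟩ := Finset.mem_sdiff.mp j.2
      by_contra hcon
      push Not at hcon
      have hbot : D j = ⊥ := by
        rw [Subgroup.eq_bot_iff_forall]
        rintro x ⟨hx, hxa⟩
        have hx' := hx
        replace hx' : x ∈ join (insert (j : Subgroup G) S) := hx'
        rw [join_insert, ← SetLike.mem_coe, Subgroup.coe_mul_of_left_le_normalizer_right] at hx'
        · obtain ⟨t, ht, y, hy, rfl⟩ := hx'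
          have hy1 : y = 1 := by
            refine eq_one_of_centralizes hN hab S hSf hy fun U hU => ?_
            have h1 : t * y ∈ Subgroup.centralizer (U : Set G) := hcon ⟨U, hU⟩ ⟨hx, hxa⟩
            have h2 : t ∈ Subgroup.centralizer (U : Set G) := Subgroup.mem_centralizer_iff.mpr fun u hu =>
              (mem_factors.mp (hSf hU)).commute (mem_factors.mp hjf) (fun e => hjS (e ▸ hU)) hu ht
            have := (Subgroup.centralizer (U : Set G)).mul_mem ((Subgroup.centralizer (U : Set G)).inv_mem h2) h1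
            rwa [inv_mul_cancel_left] at this
          subst hy1
          simp only [mul_one, SetLike.mem_coe] at hxa ⊢
          exact hsemi _ (mem_factors.mp hjf) t ht hxa
        · exact le_normalizer_of_forall fun t ht y hy => join_normalized S hSf ((mem_factors.mp hjf).le ht) hy
      have hlt : s + 1 ≤ s := by
        have := hSmax (insert (j : Subgroup G) S) (Finset.mem_filter.mpr ⟨Finset.mem_powerset.mpr (hsub _ hjf), hbot⟩)
        rwa [Finset.card_insert_of_notMem hjS] at this
      omega
    choose sup hsup using hsupp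
    have hinj : Function.Injective sup := by
      intro j l hjl
      by_contra hne
      obtain ⟨hjf, hjS⟩ := Finset.mem_sdiff.mp j.2
      obtain ⟨hlf, hlS⟩ := Finset.mem_sdiff.mp l.2
      have hjl' : (j : Subgroup G) ≠ l := fun e => hne (Subtype.ext e)
      set u : Subgroup G := ((sup j : S) : Subgroup G) with hu
      have huf : IsFactor N u := mem_factors.mp (hSf (sup j).2)
      have hl' : ¬ D l ≤ Subgroup.centralizer (u : Set G) := by rw [hu, hjl]; exact hsup l
      apply not_abelian hN hab huf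
      refine ⟨⟨fun t₁ t₂ => Subtype.ext ?_⟩⟩
      obtain ⟨x, hx, c₁, hc₁, e₁⟩ := hfull (D j) u huf (hDprop _ hjf).1 (hDprop _ hjf).2 (hsup j) _ t₁.2
      obtain ⟨y, hy, c₂, hc₂, e₂⟩ := hfull (D l) u huf (hDprop _ hlf).1 (hDprop _ hlf).2 hl' _ t₂.2
      have hxN : x ∈ N := (hDprop _ hjf).1 hx
      have hyN : y ∈ N := (hDprop _ hlf).1 hy
      have hxy : x * y = y * x := by
        have hz1 : x * y * x⁻¹ * y⁻¹ ∈ join (insert (j : Subgroup G) S) := by
          rw [mul_assoc, mul_assoc]
          refine (join _).mul_mem hx.1 ?_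
          rw [← mul_assoc]
          exact join_normalized _ (hsub _ hjf) hyN ((join _).inv_mem hx.1)
        have hz2 : x * y * x⁻¹ * y⁻¹ ∈ join (insert (l : Subgroup G) S) :=
          (join _).mul_mem (join_normalized _ (hsub _ hlf) hxN hy.1) ((join _).inv_mem hy.1)
        have hz3 : x * y * x⁻¹ * y⁻¹ ∈ stabilizer G a :=
          (stabilizer G a).mul_mem ((stabilizer G a).mul_mem ((stabilizer G a).mul_mem hx.2 hy.2)
            ((stabilizer G a).inv_mem hx.2)) ((stabilizer G a).inv_mem hy.2)
        have hzS : x * y * x⁻¹ * y⁻¹ ∈ join S := by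
          have hjnot : (j : Subgroup G) ∉ insert (l : Subgroup G) S := by simp [hjl', hjS]
          have hc := join_le_centralizer (mem_factors.mp hjf) _ (hsub _ hlf) hjnot hz2
          rw [join_insert, ← SetLike.mem_coe, Subgroup.coe_mul_of_left_le_normalizer_right] at hz1
          · obtain ⟨t, ht, w, hw, e⟩ := hz1
            have hw' := join_le_centralizer (mem_factors.mp hjf) S hSf hjS hw
            have h1 : t ∈ (j : Subgroup G) ⊓ Subgroup.centralizer ((j : Subgroup G) : Set G) := by
              refine ⟨ht, ?_⟩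
              have := (Subgroup.centralizer _).mul_mem hc ((Subgroup.centralizer _).inv_mem hw')
              rwa [← e, mul_inv_cancel_right] at this
            rw [inf_centralizer_eq_bot hN hab (mem_factors.mp hjf), Subgroup.mem_bot] at h1
            rw [← e, h1]
            show (1 : G) * w ∈ join S
            rw [one_mul]; exact hw
          · exact le_normalizer_of_forall fun t ht w hw => join_normalized S hSf ((mem_factors.mp hjf).le ht) hw
        have : x * y * x⁻¹ * y⁻¹ ∈ join S ⊓ stabilizer G a := ⟨hzS, hz3⟩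
        rw [hSreg, Subgroup.mem_bot, mul_inv_eq_one, mul_inv_eq_iff_eq_mul] at this
        exact this
      set u₁ : G := ↑t₁
      set u₂ : G := ↑t₂
      have hA1 : u₁ * u₂ = x * y * (c₂ * c₁) := by
        calc u₁ * u₂ = x * (c₁ * u₂) := by rw [e₁, mul_assoc]
          _ = x * (u₂ * c₁) := by rw [Subgroup.mem_centralizer_iff.mp hc₁.2 u₂ t₂.2]
          _ = x * y * (c₂ * c₁) := by rw [e₂]; group
      have hA2 : u₂ * u₁ = y * x * (c₁ * c₂) := by
        calc u₂ * u₁ = y * (c₂ * u₁) := by rw [e₂, mul_assoc]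
          _ = y * (u₁ * c₂) := by rw [Subgroup.mem_centralizer_iff.mp hc₂.2 u₁ t₁.2]
          _ = y * x * (c₁ * c₂) := by rw [e₁]; group
      have hmem : (u₂ * u₁)⁻¹ * (u₁ * u₂) ∈ u ⊓ Subgroup.centralizer (u : Set G) := by
        refine ⟨u.mul_mem (u.inv_mem (u.mul_mem t₂.2 t₁.2)) (u.mul_mem t₁.2 t₂.2), ?_⟩
        rw [hA1, hA2, hxy, show (y * x * (c₁ * c₂))⁻¹ * (y * x * (c₂ * c₁)) = (c₁ * c₂)⁻¹ * (c₂ * c₁) by group]
        exact ((cen N u).mul_mem ((cen N u).inv_mem ((cen N u).mul_mem hc₁ hc₂)) ((cen N u).mul_mem hc₂ hc₁)).2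
      rw [inf_centralizer_eq_bot hN hab huf, Subgroup.mem_bot, inv_mul_eq_one] at hmem
      exact hmem.symm
    have h := Nat.card_le_card_of_injective sup hinj
    rw [Nat.card_eq_fintype_card, Nat.card_eq_fintype_card, Fintype.card_coe, Fintype.card_coe,
      Finset.card_sdiff_of_subset hSf] at h
    omega
  rcases (by omega : s = 1 ∨ 2 ≤ s) with hs' | hs2
  swap
  · refine small_case hN hab a hT ih (le_trans ?_ hqs)
    refine le_trans (Nat.mul_le_mul_right q hk2) ?_
    exact two_mul_le_pow hq4 hs2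
  -- two factors, each regular
  have hk' : (factors N).card = 2 := by omega
  rw [hs', pow_one] at hqs
  obtain ⟨U, hU, hUT⟩ : ∃ U, IsFactor N U ∧ U ≠ T := by
    obtain ⟨U, hU, hne⟩ := Finset.exists_mem_ne (s := factors N) (by omega) T
    exact ⟨U, mem_factors.mp hU, hne⟩
  have htwo : ∀ V, IsFactor N V → V = T ∨ V = U := by
    intro V hV
    obtain ⟨A, B, -, hAB⟩ := Finset.card_eq_two.mp hk'
    have h1 := mem_factors.mpr hV
    have h2 := mem_factors.mpr hT
    have h3 := mem_factors.mpr hU
    rw [hAB, Finset.mem_insert, Finset.mem_singleton] at h1 h2 h3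
    rcases h1 with rfl | rfl <;> rcases h2 with rfl | rfl <;> rcases h3 with rfl | rfl <;>
      first | exact Or.inl rfl | exact Or.inr rfl | exact absurd rfl hUT
  have hNaq : q ≤ Nat.card ↥(N ⊓ stabilizer G a) := by
    have hne : ¬ N ⊓ stabilizer G a ≤ Subgroup.centralizer (T : Set G) := by
      intro hle
      have : T ≤ Subgroup.centralizer (T : Set G) :=
        (hA T hT).trans (sup_le hle inf_le_right)
      exact hT.ne_bot (le_bot_iff.mp ((le_inf le_rfl this).trans_eq (inf_centralizer_eq_bot hN hab hT)))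
    have hex : ∀ t : T, ∃ d : ↥(N ⊓ stabilizer G a), (d : G)⁻¹ * t ∈ cen N T := by
      intro t
      obtain ⟨d, hd, c, hc, e⟩ := hfull (N ⊓ stabilizer G a) T hT inf_le_left
        (fun y hy d hd => (N ⊓ stabilizer G a).mul_mem ((N ⊓ stabilizer G a).mul_mem hy hd) ((N ⊓ stabilizer G a).inv_mem hy))
        hne t t.2
      refine ⟨⟨d, hd⟩, ?_⟩
      show d⁻¹ * (t : G) ∈ cen N T
      rw [e, inv_mul_cancel_left]; exact hc
    choose f hf using hex
    refine Nat.card_le_card_of_injective f fun t t' h => ?_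
    have := (cen N T).mul_mem ((cen N T).inv_mem (hf t)) (hf t')
    rw [h] at this
    have h1 : (t : G)⁻¹ * t' ∈ T ⊓ Subgroup.centralizer (T : Set G) :=
      ⟨T.mul_mem (T.inv_mem t.2) t'.2, by simpa [mul_assoc] using this.2⟩
    rw [inf_centralizer_eq_bot hN hab hT, Subgroup.mem_bot, inv_mul_eq_one] at h1
    exact Subtype.ext h1
  have hnq : n ≤ q := by
    have h1 : n * Nat.card ↥(N ⊓ stabilizer G a) = q ^ 2 := by
      rw [← hn, PermBasic.card_stabilizer_subgroup_mul N a, card_N hN hab hT, hk']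
    rw [pow_two] at h1
    have : n * q ≤ q * q := h1 ▸ Nat.mul_le_mul_left n hNaq
    exact Nat.le_of_mul_le_mul_right this (by omega)
  have hbij : Function.Bijective (fun t : T => (t : G) • a) := by
    haveI := Fintype.ofFinite T
    haveI := Fintype.ofFinite X
    rw [Fintype.bijective_iff_injective_and_card]
    refine ⟨fun t t' h => ?_, by rw [← Nat.card_eq_fintype_card, ← Nat.card_eq_fintype_card, hn]; omega⟩
    have := hsemi T hT _ (T.mul_mem (T.inv_mem t'.2) t.2) (by
      show ((t' : G)⁻¹ * t) • a = a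
      rw [mul_smul, show (t : G) • a = (t' : G) • a from h, inv_smul_smul])
    exact Subtype.ext (inv_mul_eq_one.mp this).symm
  obtain ⟨hcl, -, hr'⟩ := stabilizer_bound (G := G) ih hn (by omega) a
  have hr2 : 2 ≤ suborbits (G := G) a := by
    letI := otherAction (G := G) a
    let e := Equiv.ofBijective _ hbij
    have hinv : ∀ g ∈ stabilizer G a, ∀ x : X, orderOf (e.symm (g • x)) = orderOf (e.symm x) := by
      intro g hg x
      set t := e.symm x with ht
      set w := e.symm (g • x) with hw
      have hx : (t : G) • a = x := e.apply_symm_apply x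
      have hwx : (w : G) • a = g • x := e.apply_symm_apply (g • x)
      set s' := g * t * g⁻¹ with hs''
      have hs2 : s' • a = g • x := by
        rw [hs'', mul_smul, mul_smul, inv_smul_eq_iff.mpr hg.symm, hx]
      have hsT : s' ∈ conjSub g T := conj_mem_conjSub t.2
      have hord : orderOf s' = orderOf t := by
        rw [← Subgroup.orderOf_coe t]
        exact orderOf_injective (MulAut.conj g).toMonoidHom (MulAut.conj g).injective _
      rw [← hord, ← Subgroup.orderOf_coe w]
      rcases htwo _ (hT.conj hN.normal g) with hV | hV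
      · rw [hV] at hsT
        have h1 : w = ⟨s', hsT⟩ := hbij.1 (hwx.trans hs2.symm)
        rw [h1]
      · rw [hV] at hsT
        have hcomm : Commute (w : G) s' := hT.commute hU (Ne.symm hUT) w.2 hsT
        have hfixz : ((w : G)⁻¹ * s') • a = a := by rw [mul_smul, hs2, ← hwx, inv_smul_smul]
        have hpow : ∀ m : ℕ, (w : G) ^ m = 1 ↔ s' ^ m = 1 := by
          intro m
          have hzm : (((w : G)⁻¹ * s') ^ m) • a = a :=
            (stabilizer G a).pow_mem (show (w : G)⁻¹ * s' ∈ stabilizer G a from hfixz) m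
          rw [hcomm.inv_left.mul_pow, inv_pow] at hzm
          constructor
          · intro h
            rw [h, inv_one, one_mul] at hzm
            exact hsemi U hU _ (U.pow_mem hsT m) hzm
          · intro h
            rw [h, mul_one] at hzm
            exact inv_eq_one.mp (hsemi T hT _ (T.inv_mem (T.pow_mem w.2 m)) hzm)
        exact Nat.dvd_antisymm (orderOf_dvd_of_pow_eq_one ((hpow _).mpr (pow_orderOf_eq_one _)))
          (orderOf_dvd_of_pow_eq_one ((hpow _).mp (pow_orderOf_eq_one _)))
    obtain ⟨p₁, hp₁, -, t₁, ht₁, ho₁⟩ :=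
      Cfsg.Agent.PrimitiveDichotomy.exists_prime_order T (isSimpleGroup hN hT) (not_abelian hN hab hT) 0
    obtain ⟨p₂, hp₂, hp12, t₂, ht₂, ho₂⟩ :=
      Cfsg.Agent.PrimitiveDichotomy.exists_prime_order T (isSimpleGroup hN hT) (not_abelian hN hab hT) p₁
    have hne : ∀ t ∈ T, ∀ p : ℕ, p.Prime → orderOf t = p → t • a ≠ a := by
      intro t ht p hp ho h
      rw [hsemi T hT t ht h, orderOf_one] at ho
      exact hp.one_lt.ne ho
    let x₁ : {x : X // x ≠ a} := ⟨t₁ • a, hne t₁ ht₁ p₁ hp₁ ho₁⟩
    let x₂ : {x : X // x ≠ a} := ⟨t₂ • a, hne t₂ ht₂ p₂ hp₂ ho₂⟩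
    have hnt : Nontrivial (Quotient (MulAction.orbitRel (stabilizer G a) {x : X // x ≠ a})) := by
      refine ⟨Quotient.mk _ x₁, Quotient.mk _ x₂, fun h => ?_⟩
      obtain ⟨g, hg⟩ := Quotient.exact h
      have hg' : (g : G) • (t₂ • a) = t₁ • a := congrArg Subtype.val hg
      have h1 := hinv g g.2 (t₂ • a)
      rw [hg', show e.symm (t₁ • a) = ⟨t₁, ht₁⟩ from e.symm_apply_apply ⟨t₁, ht₁⟩,
        show e.symm (t₂ • a) = ⟨t₂, ht₂⟩ from e.symm_apply_apply ⟨t₂, ht₂⟩, ← Subgroup.orderOf_coe,
        ← Subgroup.orderOf_coe, ho₁, ho₂] at h1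
      exact hp12 h1.symm
    exact Finite.one_lt_card
  refine (cl_of_normal a (cl_N hN hab hT) hcl).mono ?_
  unfold bd
  omega

end Cfsg.Agent.CompLengthPrimitive
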