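import Mathlib
import Cfsg.Prelude.Def_Balance
import Cfsg.Agent.Lib.L2Balance
import Cfsg.Agent.Lib.ComponentBalance

/-!
Consequences of `L_{2'}`-balance for components of centralizers of involutions.
-/

set_option autoImplicit false
set_option linter.style.haveILetI false

namespace Cfsg.Agent.L2BalanceUse

open Subgroup Cfsg
open scoped commutatorElement Pointwise
open Cfsg.Agent.ComponentsBasic Cfsg.Agent.ComponentsP Cfsg.Agent.L2BalanceAut

universe u

variable {Y : Type u} [Group Y]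

/-- The conjugate of `J`. -/
abbrev cjg (t : Y) (J : Subgroup Y) : Subgroup Y := J.map (MulAut.conj t).toMonoidHom

/-- A component of `C(t)` lying in the layer lies in `J ⊔ tJt⁻¹` for some component `J`. -/
theorem exists_le_orbit {t : Y} (ht : t * t = 1) {K : Subgroup Y}
    (hKt : K ≤ centralizer ({t} : Set Y))
    (hK : IsComponent (K.subgroupOf (centralizer ({t} : Set Y)))) (hKE : K ≤ layer Y) :
    ∃ J : Subgroup Y, IsComponent J ∧ K ≤ J ⊔ cjg t J := by
  have hperf : ⁅K, K⁆ = K := by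
    have h := congrArg (map (centralizer ({t} : Set Y)).subtype) (IsComponent.perfect hK)
    rwa [map_commutator, map_subgroupOf_eq_of_le hKt] at h
  have hKne : K ≠ ⊥ := fun h => IsComponent.ne_bot hK (by rw [h, bot_subgroupOf])
  obtain ⟨J, hJ, hKJ⟩ : ∃ J, IsComponent J ∧ ¬ J ≤ centralizer (K : Set Y) := by
    by_contra hno
    push Not at hno
    have h1 : layer Y ≤ centralizer (K : Set Y) := sSup_le fun J hJ => hno J hJ
    exact hKne (hperf.symm.trans (commutator_eq_bot_iff_le_centralizer.mpr (hKE.trans h1)))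
  refine ⟨J, hJ, ?_⟩
  set Jt := cjg t J
  have hJt : IsComponent Jt := isComponent_conj hJ t
  set W := J ⊔ Jt
  have hWE : W ≤ layer Y := sup_le (component_le_layer hJ) (component_le_layer hJt)
  have hEW : layer Y ≤ normalizer (W : Set Y) :=
    (le_inf (layer_le_normalizer_component hJ) (layer_le_normalizer_component hJt)).trans
      (normalizer_inf_normalizer_le_normalizer_sup _ _)
  haveI : (layer Y).Normal := inferInstance
  have hWsn : W.IsSubnormal :=
    isSubnormal_of_le_normalizer hWE (Normal.isSubnormal inferInstance) hEW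
  have hWt : ∀ w ∈ W, t * w * t⁻¹ ∈ W := by
    have h1 : W.map (MulAut.conj t).toMonoidHom ≤ W := by
      rw [Subgroup.map_sup]
      refine sup_le le_sup_right ?_
      rintro _ ⟨_, ⟨y, hy, rfl⟩, rfl⟩
      have : (MulAut.conj t).toMonoidHom ((MulAut.conj t).toMonoidHom y) = y := by
        show t * (t * y * t⁻¹) * t⁻¹ = y
        rw [show t * (t * y * t⁻¹) * t⁻¹ = (t * t) * y * (t * t)⁻¹ by group, ht]
        simp
      rw [this]
      exact mem_sup_left hy
    exact fun w hw => h1 ⟨w, hw, rfl⟩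
  set CW := centralizer (W : Set Y)
  set V := (W ⊓ centralizer ({t} : Set Y)) ⊔ CW
  have hEdec : layer Y ≤ W ⊔ CW := by
    refine sSup_le fun L hL => ?_
    rcases component_le_or_commute hL hWsn with h | h
    · exact h.trans le_sup_left
    · exact (commutator_eq_bot_iff_le_centralizer.mp h).trans le_sup_right
  have hdec : ∀ k ∈ K, ∃ j ∈ W, ∃ c ∈ CW, j * c = k := by
    intro k hk
    have h1 := hEdec (hKE hk)
    have h2 : CW ≤ normalizer (W : Set Y) := centralizer_le_normalizer _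
    rw [← SetLike.mem_coe, coe_mul_of_right_le_normalizer_left W CW h2] at h1
    exact Set.mem_mul.mp h1
  -- derived elements are fixed
  have hKV : K ≤ V := by
    conv_lhs => rw [← hperf]
    rw [commutator_le]
    intro k₁ hk₁ k₂ hk₂
    obtain ⟨j₁, hj₁, c₁, hc₁, rfl⟩ := hdec k₁ hk₁
    obtain ⟨j₂, hj₂, c₂, hc₂, rfl⟩ := hdec k₂ hk₂
    have hcomm : ∀ j ∈ W, ∀ c ∈ CW, Commute j c := fun j hj c hc => mem_centralizer_iff.mp hc j hj
    have e : ⁅j₁ * c₁, j₂ * c₂⁆ = ⁅j₁, j₂⁆ * ⁅c₁, c₂⁆ := by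
      have a1 := (hcomm j₂ hj₂ c₁ hc₁).eq
      simp only [commutatorElement_def, mul_inv_rev]
      calc j₁ * c₁ * (j₂ * c₂) * (c₁⁻¹ * j₁⁻¹) * (c₂⁻¹ * j₂⁻¹)
          = j₁ * (c₁ * j₂) * (c₂ * c₁⁻¹) * (j₁⁻¹ * c₂⁻¹) * j₂⁻¹ := by group
        _ = j₁ * (j₂ * c₁) * (c₂ * c₁⁻¹) * (c₂⁻¹ * j₁⁻¹) * j₂⁻¹ := by
          rw [← a1, ((hcomm _ (inv_mem hj₁) _ (inv_mem hc₂)).eq)]
        _ = j₁ * j₂ * ((c₁ * c₂ * c₁⁻¹ * c₂⁻¹) * (j₁⁻¹ * j₂⁻¹)) := by group
        _ = j₁ * j₂ * ((j₁⁻¹ * j₂⁻¹) * (c₁ * c₂ * c₁⁻¹ * c₂⁻¹)) := by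
          rw [((hcomm _ (mul_mem (inv_mem hj₁) (inv_mem hj₂)) _
            (mul_mem (mul_mem (mul_mem hc₁ hc₂) (inv_mem hc₁)) (inv_mem hc₂))).eq)]
        _ = _ := by group
    rw [e]
    refine mul_mem (mem_sup_left (mem_inf.mpr ⟨?_, ?_⟩))
      (mem_sup_right (mul_mem (mul_mem (mul_mem hc₁ hc₂) (inv_mem hc₁)) (inv_mem hc₂)))
    · exact mul_mem (mul_mem (mul_mem hj₁ hj₂) (inv_mem hj₁)) (inv_mem hj₂)
    · have hz : ∀ j ∈ W, ∀ c ∈ CW, j * c ∈ K → j⁻¹ * (t * j * t⁻¹) ∈ CW := by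
        intro j hj c hc hk
        have h1 : t * (j * c) * t⁻¹ = j * c := by
          rw [← mem_centralizer_singleton_iff.mp (hKt hk), mul_inv_cancel_right]
        have h2 : j⁻¹ * (t * j * t⁻¹) = c * (t * c * t⁻¹)⁻¹ := by
          calc j⁻¹ * (t * j * t⁻¹) = j⁻¹ * (t * (j * c) * t⁻¹) * (t * c * t⁻¹)⁻¹ := by group
            _ = _ := by rw [h1]; group
        rw [h2]
        refine mul_mem hc (inv_mem ?_)
        rw [mem_centralizer_iff]
        intro w hw
        have h3 := mem_centralizer_iff.mp hc _ (hWt w hw)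
        have htt : t⁻¹ = t := inv_eq_of_mul_eq_one_right ht
        rw [htt] at h3 ⊢
        calc w * (t * c * t) = t * ((t * w * t) * c) * t := by
              rw [show t * ((t * w * t) * c) * t = (t * t) * w * (t * c * t) by group, ht, one_mul]
          _ = t * (c * (t * w * t)) * t := by rw [h3]
          _ = (t * c * t) * w * (t * t) := by group
          _ = _ := by rw [ht, mul_one]
      set z₁ := j₁⁻¹ * (t * j₁ * t⁻¹) with hz₁
      set z₂ := j₂⁻¹ * (t * j₂ * t⁻¹) with hz₂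
      have hz₁C := hz j₁ hj₁ c₁ hc₁ hk₁
      have hz₂C := hz j₂ hj₂ c₂ hc₂ hk₂
      have hzW : ∀ j ∈ W, j⁻¹ * (t * j * t⁻¹) ∈ W := fun j hj => mul_mem (inv_mem hj) (hWt j hj)
      rw [mem_centralizer_singleton_iff]
      refine (mul_inv_eq_iff_eq_mul.mp ?_).symm
      have e1 : t * ⁅j₁, j₂⁆ * t⁻¹ = ⁅j₁ * z₁, j₂ * z₂⁆ := by
        simp only [hz₁, hz₂, commutatorElement_def]; group
      rw [e1]
      have a1 := hcomm (j₂ * z₂) (mul_mem hj₂ (hzW j₂ hj₂)) z₁ hz₁C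
      have a2 := hcomm j₁ hj₁ z₂ hz₂C
      simp only [commutatorElement_def, mul_inv_rev]
      calc j₁ * z₁ * (j₂ * z₂) * (z₁⁻¹ * j₁⁻¹) * (z₂⁻¹ * j₂⁻¹)
          = j₁ * (z₁ * (j₂ * z₂)) * z₁⁻¹ * j₁⁻¹ * (z₂⁻¹ * j₂⁻¹) := by group
        _ = j₁ * j₂ * (z₂ * j₁⁻¹) * z₂⁻¹ * j₂⁻¹ := by rw [← a1.eq]; group
        _ = j₁ * j₂ * (j₁⁻¹ * z₂) * z₂⁻¹ * j₂⁻¹ := by rw [(a2.inv_left).eq]
        _ = _ := by group
  -- `K` lies in `W` or centralizes `W ⊓ C(t)`
  by_contra hno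
  have hcm : ⁅K, W ⊓ centralizer ({t} : Set Y)⁆ = ⊥ := by
    have h1 : (W.subgroupOf (centralizer ({t} : Set Y))).IsSubnormal := hWsn.subgroupOf
    rcases component_le_or_commute hK h1 with h | h
    · exact absurd (fun k hk => mem_subgroupOf.mp (h (mem_subgroupOf.mpr hk : (⟨k, hKt hk⟩ :
        centralizer ({t} : Set Y)) ∈ K.subgroupOf _))) hno
    · have h2 := congrArg (map (centralizer ({t} : Set Y)).subtype) h
      rwa [map_commutator, map_subgroupOf_eq_of_le hKt, subgroupOf_map_subtype, Subgroup.map_bot] at h2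
  have hKN : K ≤ normalizer (CW : Set Y) :=
    (hKE.trans hEW).trans (L2Balance.normalizer_le_normalizer_centralizer W)
  have hKC : K ≤ CW := by
    conv_lhs => rw [← hperf]
    rw [commutator_le]
    intro k₁ hk₁ k₂ hk₂
    have h1 := hKV hk₁
    have h2 : CW ≤ normalizer (CW : Set Y) := le_normalizer
    rw [← SetLike.mem_coe, coe_mul_of_left_le_normalizer_right (W ⊓ centralizer ({t} : Set Y)) CW
      ((inf_le_left.trans le_normalizer).trans (L2Balance.normalizer_le_normalizer_centralizer W))] at h1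
    obtain ⟨w, hw, c, hc, rfl⟩ := Set.mem_mul.mp h1
    have h3 : k₂ * w = w * k₂ :=
      mem_centralizer_iff.mp ((commutator_eq_bot_iff_le_centralizer.mp hcm) hk₂) w hw |>.symm
    have e : ⁅w * c, k₂⁆ = w * (c * (k₂ * c⁻¹ * k₂⁻¹)) * w⁻¹ := by
      rw [commutatorElement_def, mul_inv_rev]
      calc w * c * k₂ * (c⁻¹ * w⁻¹) * k₂⁻¹ = w * c * k₂ * c⁻¹ * (w⁻¹ * k₂⁻¹) := by group
        _ = w * c * k₂ * c⁻¹ * (k₂⁻¹ * w⁻¹) := by
          rw [show w⁻¹ * k₂⁻¹ = k₂⁻¹ * w⁻¹ from ((show Commute w k₂ from h3.symm).inv_inv).eq]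
        _ = _ := by group
    rw [e]
    exact (mem_normalizer_iff.mp (((inf_le_left.trans le_normalizer).trans
      (L2Balance.normalizer_le_normalizer_centralizer W)) hw) _).mp
      (mul_mem hc ((mem_normalizer_iff.mp (hKN hk₂) c⁻¹).mp (inv_mem hc)))
  exact hKJ (le_centralizer_iff.mp (hKC.trans (centralizer_le (le_sup_left : J ≤ W))))

/-- In the two-component case a perfect subgroup of `C(t)` lies in the diagonal. -/
theorem le_diag {t : Y} (ht : t * t = 1) {J K : Subgroup Y} (hperf : ⁅K, K⁆ = K)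
    (hKt : K ≤ centralizer ({t} : Set Y)) (hKW : K ≤ J ⊔ cjg t J)
    (hcomm : ⁅J, cjg t J⁆ = ⊥) :
    ∀ k ∈ K, ∃ x ∈ J, x * (t * x * t⁻¹) = k := by
  have hc : ∀ x ∈ J, ∀ y ∈ J, Commute x (t * y * t⁻¹) := fun x hx y hy =>
    (mem_centralizer_iff.mp ((commutator_eq_bot_iff_le_centralizer.mp hcomm) hx) _
      (mem_map_of_mem _ hy : (MulAut.conj t).toMonoidHom y ∈ cjg t J)).symm
  let D : Subgroup Y :=
    { carrier := {k | ∃ x ∈ J, x * (t * x * t⁻¹) = k}
      one_mem' := ⟨1, one_mem J, by simp⟩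
      mul_mem' := by
        rintro _ _ ⟨x, hx, rfl⟩ ⟨y, hy, rfl⟩
        refine ⟨x * y, mul_mem hx hy, ?_⟩
        calc x * y * (t * (x * y) * t⁻¹) = x * (y * (t * x * t⁻¹)) * (t * y * t⁻¹) := by group
          _ = x * ((t * x * t⁻¹) * y) * (t * y * t⁻¹) := by rw [(hc y hy x hx).eq]
          _ = _ := by group
      inv_mem' := by
        rintro _ ⟨x, hx, rfl⟩
        refine ⟨x⁻¹, inv_mem hx, ?_⟩
        rw [mul_inv_rev, (hc x⁻¹ (inv_mem hx) x⁻¹ (inv_mem hx)).eq]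
        group }
  suffices K ≤ D from this
  have hform : ∀ k ∈ K, ∃ x ∈ J, ∃ z ∈ J ⊓ cjg t J, x * (t * x * t⁻¹) * z = k := by
    intro k hk
    have h1 := hKW hk
    have hle : cjg t J ≤ normalizer (J : Set Y) :=
      (le_centralizer_iff.mp (commutator_eq_bot_iff_le_centralizer.mp hcomm)).trans
        (centralizer_le_normalizer _)
    rw [← SetLike.mem_coe, coe_mul_of_right_le_normalizer_left J _ hle] at h1
    obtain ⟨u, hu, _, ⟨v, hv, rfl⟩, rfl⟩ := Set.mem_mul.mp h1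
    refine ⟨u, hu, t * u⁻¹ * t⁻¹ * (t * v * t⁻¹), mem_inf.mpr ⟨?_, ?_⟩, by
      show u * (t * u * t⁻¹) * (t * u⁻¹ * t⁻¹ * (t * v * t⁻¹)) = u * (t * v * t⁻¹); group⟩
    · have htt : t⁻¹ = t := inv_eq_of_mul_eq_one_right ht
      have hf : t * (u * (t * v * t⁻¹)) * t⁻¹ = u * (t * v * t⁻¹) := by
        have h := mem_centralizer_singleton_iff.mp (hKt hk)
        change u * (t * v * t⁻¹) * t = t * (u * (t * v * t⁻¹)) at h
        rw [← h, mul_inv_cancel_right]
      have h4 : t * u * t⁻¹ * v = u * (t * v * t⁻¹) := by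
        rw [← hf]
        have h5 : t * (t * v * t⁻¹) * t⁻¹ = v := by
          rw [show t * (t * v * t⁻¹) * t⁻¹ = (t * t) * v * (t * t)⁻¹ by group, ht]; simp
        calc t * u * t⁻¹ * v = t * u * t⁻¹ * (t * (t * v * t⁻¹) * t⁻¹) := by rw [h5]
          _ = _ := by group
      have h6 : t * u⁻¹ * t⁻¹ * (t * v * t⁻¹) = u⁻¹ * v := by
        calc t * u⁻¹ * t⁻¹ * (t * v * t⁻¹)
            = (t * u * t⁻¹)⁻¹ * (u⁻¹ * (u * (t * v * t⁻¹))) := by group
          _ = (t * u * t⁻¹)⁻¹ * (u⁻¹ * (t * u * t⁻¹)) * v := by rw [← h4]; group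
          _ = _ := by rw [(hc u⁻¹ (inv_mem hu) u hu).eq]; group
      rw [h6]
      exact mul_mem (inv_mem hu) hv
    · refine ⟨u⁻¹ * v, mul_mem (inv_mem hu) hv, ?_⟩
      show t * (u⁻¹ * v) * t⁻¹ = _
      group
  conv_lhs => rw [← hperf]
  rw [commutator_le]
  intro k₁ hk₁ k₂ hk₂
  obtain ⟨x, hx, z, hz, rfl⟩ := hform k₁ hk₁
  obtain ⟨y, hy, w, hw, rfl⟩ := hform k₂ hk₂
  have hcen : ∀ z ∈ J ⊓ cjg t J, ∀ k ∈ J ⊔ cjg t J, Commute k z := by
    intro z hz k hk
    have h1 : J ⊔ cjg t J ≤ centralizer ({z} : Set Y) := by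
      refine sup_le (fun a ha => ?_) (fun a ha => ?_) <;> rw [mem_centralizer_singleton_iff]
      · obtain ⟨b, hb, rfl⟩ := (mem_inf.mp hz).2
        exact (hc a ha b hb).eq
      · obtain ⟨b, hb, rfl⟩ := ha
        exact (hc z (mem_inf.mp hz).1 b hb).eq.symm
    exact mem_centralizer_singleton_iff.mp (h1 hk)
  have hd : ∀ x ∈ J, x * (t * x * t⁻¹) ∈ J ⊔ cjg t J := fun x hx =>
    mul_mem (mem_sup_left hx) (mem_sup_right ⟨x, hx, rfl⟩)
  have hz' : z ∈ J ⊔ cjg t J := mem_sup_left (mem_inf.mp hz).1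
  have e : ⁅x * (t * x * t⁻¹) * z, y * (t * y * t⁻¹) * w⁆ =
      ⁅x * (t * x * t⁻¹), y * (t * y * t⁻¹)⁆ := by
    set p := x * (t * x * t⁻¹)
    set q := y * (t * y * t⁻¹)
    simp only [commutatorElement_def, mul_inv_rev]
    calc p * z * (q * w) * (z⁻¹ * p⁻¹) * (w⁻¹ * q⁻¹)
        = p * (z * (q * w)) * z⁻¹ * p⁻¹ * (w⁻¹ * q⁻¹) := by group
      _ = p * q * (w * p⁻¹) * w⁻¹ * q⁻¹ := by
          rw [← (hcen z hz (q * w) (mul_mem (hd y hy) (mem_sup_left (mem_inf.mp hw).1))).eq]; group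
      _ = p * q * (p⁻¹ * w) * w⁻¹ * q⁻¹ := by
          rw [← (hcen w hw p⁻¹ (inv_mem (hd x hx))).eq]
      _ = _ := by group
  rw [e]
  exact mul_mem (mul_mem (mul_mem (show _ ∈ D from ⟨x, hx, rfl⟩) (show _ ∈ D from ⟨y, hy, rfl⟩))
    (inv_mem (show _ ∈ D from ⟨x, hx, rfl⟩))) (inv_mem (show _ ∈ D from ⟨y, hy, rfl⟩))

/-- A component of even order of `C(t)` lies in the layer, if the 2-layer does. -/
theorem component_le_layer_of_two [Finite Y] (hZ : ZStarProp.{u}) (hL : pLayer 2 Y ≤ layer Y)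
    {t : Y} (ht : orderOf t = 2) {K : Subgroup Y} (hKt : K ≤ centralizer ({t} : Set Y))
    (hK : IsComponent (K.subgroupOf (centralizer ({t} : Set Y)))) (heven : 2 ∣ Nat.card K) :
    K ≤ layer Y := by
  refine le_trans ?_ hL
  have hR : IsPGroup 2 (zpowers t) := ComponentBalance.isPGroup_zpowers ht
  have hp : IsPComponent 2 (K.subgroupOf (centralizer ({t} : Set Y))) :=
    isPComponent_of_component_dvd hK (by
      rwa [Nat.card_congr (subgroupOfEquivOfLe hKt).toEquiv])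
  have h1 := map_mono (f := (centralizer ({t} : Set Y)).subtype)
    (ComponentsP.pComponent_le_pLayer hp)
  rw [map_subgroupOf_eq_of_le hKt] at h1
  refine h1.trans ?_
  have h2 := L2Balance.pLayer_centralizer_le hZ hR
  rwa [ComponentBalance.centralizer_zpowers_eq] at h2

/-- With the B-property, the 2-layer of an involution centralizer is its layer. -/
theorem pLayer_le_layer_of_bProperty [Finite Y] (hO : oddCore Y = ⊥) (hB : HasBProperty Y) {t : Y}
    (ht : orderOf t = 2) :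
    pLayer 2 ↥(centralizer ({t} : Set Y)) ≤ layer ↥(centralizer ({t} : Set Y)) := by
  refine sSup_le fun J hJ => component_le_layer ⟨hJ.1, ?_⟩
  refine (isQuasisimple_pComponent_iff_core hJ).mpr ?_
  rw [← le_bot_iff]
  have h1 := hB t ht
  rw [hO, le_bot_iff, Subgroup.map_eq_bot_iff, ker_subtype, le_bot_iff] at h1
  exact (commutator_mono (ComponentsP.pComponent_le_pLayer hJ) le_rfl).trans h1.le

end Cfsg.Agent.L2BalanceUse
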