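import Mathlib
import Cfsg.Prelude.Def_Balance
import Cfsg.Agent.Lib.ComponentsBasic
import Cfsg.Agent.Lib.L2BalanceUse

/-!
Components of centralizers of involutions when the 2-layer is the layer, given that groups of odd
order are solvable (hypothesis `hFT`) and the Z*-theorem (hypothesis `hZ`).
-/

set_option autoImplicit false
set_option linter.style.haveILetI false

namespace Cfsg.Agent.ComponentInvolution67

open Subgroup Cfsg
open scoped commutatorElement Pointwise
open Cfsg.Agent.ComponentsBasic Cfsg.Agent.L2BalanceUse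

universe u

variable {Y : Type u} [Group Y]

/-- A component inside a quasisimple subgroup equals it. -/
theorem eq_of_le_quasisimple {L D : Subgroup Y} (hL : IsComponent L) (hD : IsQuasisimple D)
    (hle : L ≤ D) : L = D := by
  have hn := isComponent_subgroupOf hL hle
  rcases isSubnormal_le_center_or_eq_top hD hn.1 with h | h
  · exfalso
    haveI : Group.IsSolvable (center D) := isSolvable_of_commutative
    exact isQuasisimple_ne_bot hn.2 (perfect_eq_bot_of_le_solvable (isQuasisimple_perfect hn.2)
      (S := center D) (h := h))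
  · exact le_antisymm hle (subgroupOf_eq_top.mp h)

theorem perfect_of_component_subgroupOf {C K : Subgroup Y} (hKC : K ≤ C)
    (hK : IsComponent (K.subgroupOf C)) : ⁅K, K⁆ = K := by
  have h := congrArg (map C.subtype) (IsComponent.perfect hK)
  rwa [map_commutator, map_subgroupOf_eq_of_le hKC] at h

theorem conj_conj_of_invol {t : Y} (ht : t * t = 1) (x : Y) : t * (t * x * t⁻¹) * t⁻¹ = x := by
  rw [show t * (t * x * t⁻¹) * t⁻¹ = (t * t) * x * (t * t)⁻¹ by group, ht]; simp

/-- The components of the centralizer in the two-component case. -/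
theorem eq_of_le_sup {t : Y} (ht : t * t = 1) {J : Subgroup Y} (hJ : IsComponent J)
    (hne : cjg t J ≠ J) {K M : Subgroup Y} (hKt : K ≤ centralizer ({t} : Set Y))
    (hK : IsComponent (K.subgroupOf (centralizer ({t} : Set Y)))) (hKW : K ≤ J ⊔ cjg t J)
    (hMt : M ≤ centralizer ({t} : Set Y))
    (hM : IsComponent (M.subgroupOf (centralizer ({t} : Set Y)))) (hMW : M ≤ J ⊔ cjg t J) :
    K = M := by
  have hcomm : ⁅J, cjg t J⁆ = ⊥ := components_commute hJ (isComponent_conj hJ t) (Ne.symm hne)
  have hc : ∀ x ∈ J, ∀ y ∈ J, Commute x (t * y * t⁻¹) := fun x hx y hy =>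
    (mem_centralizer_iff.mp ((commutator_eq_bot_iff_le_centralizer.mp hcomm) hx) _
      (mem_map_of_mem _ hy : (MulAut.conj t).toMonoidHom y ∈ cjg t J)).symm
  let f : ↥J →* ↥(centralizer ({t} : Set Y)) :=
    { toFun := fun x => ⟨(x : Y) * (t * x * t⁻¹), by
        rw [mem_centralizer_singleton_iff]
        have e := conj_conj_of_invol ht (x : Y)
        have h1 : t * ((x : Y) * (t * x * t⁻¹)) * t⁻¹ = (x : Y) * (t * x * t⁻¹) := by
          calc t * ((x : Y) * (t * x * t⁻¹)) * t⁻¹
              = (t * x * t⁻¹) * (t * (t * x * t⁻¹) * t⁻¹) := by group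
            _ = _ := by rw [e]; exact ((hc x x.2 x x.2).eq).symm
        have h2 := congrArg (· * t) h1
        simp only [inv_mul_cancel_right] at h2
        exact h2.symm⟩
      map_one' := Subtype.ext (by simp)
      map_mul' := fun x y => Subtype.ext (by
        show (x : Y) * y * (t * (x * y) * t⁻¹) = (x * (t * x * t⁻¹)) * (y * (t * y * t⁻¹))
        calc (x : Y) * y * (t * (x * y) * t⁻¹)
            = x * (y * (t * x * t⁻¹)) * (t * y * t⁻¹) := by group
          _ = x * ((t * x * t⁻¹) * y) * (t * y * t⁻¹) := by rw [(hc y y.2 x x.2).eq]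
          _ = _ := by group) }
  have hle : ∀ N : Subgroup Y, N ≤ centralizer ({t} : Set Y) →
      IsComponent (N.subgroupOf (centralizer ({t} : Set Y))) → N ≤ J ⊔ cjg t J →
      N.subgroupOf (centralizer ({t} : Set Y)) ≤ f.range := by
    intro N hNt hN hNW k hk
    obtain ⟨x, hx, e⟩ := le_diag ht (perfect_of_component_subgroupOf hNt hN) hNt hNW hcomm k hk
    exact ⟨⟨x, hx⟩, Subtype.ext e⟩
  haveI : Nontrivial f.range := by
    rw [Subgroup.nontrivial_iff_ne_bot]
    exact fun h => IsComponent.ne_bot hK (le_bot_iff.mp (h ▸ hle K hKt hK hKW))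
  have hq : IsQuasisimple f.range :=
    isQuasisimple_of_surjective f.rangeRestrict f.rangeRestrict_surjective hJ.2
  have h := (eq_of_le_quasisimple hK hq (hle K hKt hK hKW)).trans
    (eq_of_le_quasisimple hM hq (hle M hMt hM hMW)).symm
  rwa [subgroupOf_inj, inf_eq_left.mpr hKt, inf_eq_left.mpr hMt] at h

theorem component_trichotomy [Finite Y] (hFT : ∀ (X : Type u) [Group X] [Finite X], Odd (Nat.card X) → Group.IsSolvable X)
    (hZ : L2BalanceAut.ZStarProp.{u}) (hL2 : Cfsg.pLayer 2 Y = Cfsg.layer Y) (t : Y)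
    (ht : orderOf t = 2) (L : Subgroup Y) (hLt : L ≤ Subgroup.centralizer ({t} : Set Y))
    (hL : Cfsg.IsComponent (L.subgroupOf (Subgroup.centralizer ({t} : Set Y)))) :
    ∃ D : Subgroup Y, Cfsg.IsComponent D ∧ (L = D ∨ (L < D ∧ D = ⁅D, Subgroup.zpowers t⁆) ∨
      (D.map (MulAut.conj t).toMonoidHom ≠ D ∧
        L = (Cfsg.layer ↥((D ⊔ D.map (MulAut.conj t).toMonoidHom) ⊓
          Subgroup.centralizer ({t} : Set Y))).map ((D ⊔ D.map (MulAut.conj t).toMonoidHom) ⊓
            Subgroup.centralizer ({t} : Set Y)).subtype)) := by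
  have htt : t * t = 1 := by rw [← pow_two, ← ht, pow_orderOf_eq_one]
  have heven : 2 ∣ Nat.card L := by
    by_contra h
    haveI := hFT ↥(L.subgroupOf (centralizer ({t} : Set Y))) (by
      rw [Nat.card_congr (subgroupOfEquivOfLe hLt).toEquiv]
      exact Nat.odd_iff.mpr (Nat.two_dvd_ne_zero.mp h))
    exact isQuasisimple_not_solvable hL.2 inferInstance
  obtain ⟨J, hJ, hLJ⟩ := exists_le_orbit htt hLt hL
    (component_le_layer_of_two hZ hL2.le ht hLt hL heven)
  refine ⟨J, hJ, ?_⟩
  by_cases hJt : cjg t J = J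
  · rw [hJt, sup_idem] at hLJ
    by_cases hLD : L = J
    · exact .inl hLD
    refine .inr (.inl ⟨lt_of_le_of_ne hLJ hLD, ?_⟩)
    have htN : zpowers t ≤ normalizer (J : Set Y) := by
      rw [zpowers_le, mem_normalizer_iff]
      intro y
      refine ⟨fun hy => ?_, fun hy => ?_⟩
      · exact hJt.le ⟨y, hy, rfl⟩
      · have h1 : t * (t * y * t⁻¹) * t⁻¹ ∈ J := hJt.le ⟨_, hy, rfl⟩
        rwa [conj_conj_of_invol htt] at h1
    have hB : ⁅J, zpowers t⁆ ≤ J := by
      rw [commutator_comm]; exact le_normalizer_iff_commutator_le_right.mp htN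
    haveI : (⁅J, zpowers t⁆.subgroupOf J).Normal :=
      normal_subgroupOf_of_le_normalizer (normalizer_commutator_ge_left _ _)
    rcases normal_le_center_or_eq_top hJ.2 (⁅J, zpowers t⁆.subgroupOf J) with h | h
    · exfalso
      have h1 : ⁅⁅zpowers t, J⁆, J⁆ = ⊥ := by
        rw [commutator_comm (zpowers t) J, commutator_eq_bot_iff_le_centralizer]
        intro b hb
        rw [mem_centralizer_iff]
        intro z hz
        exact congrArg Subtype.val (mem_center_iff.mp (@h ⟨b, hB hb⟩ hb) ⟨z, hz⟩)
      have h2 := commutator_eq_bot_of_perfect (IsComponent.perfect hJ) h1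
      have hJC : J ≤ centralizer ({t} : Set Y) := fun j hj => by
        rw [mem_centralizer_singleton_iff]
        exact (mem_centralizer_iff.mp (commutator_eq_bot_iff_le_centralizer.mp h2 hj) t
          (mem_zpowers t)).symm
      have h3 := component_eq_of_le hL (isComponent_subgroupOf hJ hJC) fun y hy => hLJ hy
      rw [subgroupOf_inj, inf_eq_left.mpr hLt, inf_eq_left.mpr hJC] at h3
      exact hLD h3
    · exact le_antisymm (subgroupOf_eq_top.mp h) hB
  · refine .inr (.inr ⟨hJt, ?_⟩)
    set W := J ⊔ cjg t J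
    set C := centralizer ({t} : Set Y)
    set H := W ⊓ C
    have hWsn : W.IsSubnormal := isSubnormal_of_le_normalizer
      (sup_le (component_le_layer hJ) (component_le_layer (isComponent_conj hJ t)))
      (Normal.isSubnormal inferInstance)
      ((le_inf (layer_le_normalizer_component hJ)
        (layer_le_normalizer_component (isComponent_conj hJ t))).trans
        (normalizer_inf_normalizer_le_normalizer_sup _ _))
    have hH : (H.subgroupOf C).IsSubnormal := by
      rw [inf_subgroupOf_right]; exact hWsn.subgroupOf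
    have hHC : H ≤ C := inf_le_right
    set e := subgroupOfEquivOfLe hHC
    apply le_antisymm
    · have h1 : IsComponent ((L.subgroupOf C).subgroupOf (H.subgroupOf C)) :=
        isComponent_subgroupOf hL fun y hy => ⟨hLJ hy, y.2⟩
      refine le_trans ?_ (map_mono (component_le_layer (isComponent_map_mulEquiv e h1)))
      intro l hl
      refine ⟨e ⟨⟨l, hLt hl⟩, ⟨hLJ hl, hLt hl⟩⟩, mem_map_of_mem _ hl, rfl⟩
    · rw [Subgroup.map_le_iff_le_comap]
      refine sSup_le fun M hM m hm => ?_
      have h1 := isComponent_map_subtype hH (isComponent_map_mulEquiv e.symm hM)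
      have hMeq : (M.map e.symm.toMonoidHom).map (H.subgroupOf C).subtype =
          (M.map H.subtype).subgroupOf C := by
        ext y
        constructor
        · rintro ⟨z, ⟨w, hw, rfl⟩, rfl⟩
          exact ⟨w, hw, rfl⟩
        · rintro ⟨w, hw, hwy⟩
          exact ⟨e.symm w, ⟨w, hw, rfl⟩, Subtype.ext hwy⟩
      rw [hMeq] at h1
      have hMt : M.map H.subtype ≤ C := by
        rintro _ ⟨w, -, rfl⟩; exact w.2.2
      have hMW : M.map H.subtype ≤ W := by
        rintro _ ⟨w, -, rfl⟩; exact w.2.1
      show (m : Y) ∈ L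
      rw [eq_of_le_sup htt hJ hJt hLt hL hLJ hMt h1 hMW]
      exact ⟨m, hm, rfl⟩

end Cfsg.Agent.ComponentInvolution67
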