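import Mathlib
import Cfsg.Prelude.Def_Local
import Cfsg.Agent.Lib.ComponentsFitting
import Cfsg.Agent.Lib.ComponentsNormalizer

/-!
Bender's method for maximal subgroups of a simple group.
-/

set_option autoImplicit false
set_option linter.style.haveILetI false

namespace Cfsg.Agent.ComponentsBender

open Subgroup Cfsg
open scoped commutatorElement
open Cfsg.Agent.ComponentsBasic Cfsg.Agent.ComponentsCores Cfsg.Agent.ComponentsFitting
open Cfsg.Agent.ComponentsNormalizer

variable {G : Type*} [Group G]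

/-- `F(A)` inside `G`. -/
abbrev fit (A : Subgroup G) : Subgroup G := (fittingSubgroup A).map A.subtype
/-- `E(A)` inside `G`. -/
abbrev lay (A : Subgroup G) : Subgroup G := (layer A).map A.subtype
/-- `F*(A)` inside `G`. -/
abbrev fs (A : Subgroup G) : Subgroup G := (generalizedFittingSubgroup A).map A.subtype
/-- `O_p(A)` inside `G`. -/
abbrev core (p : ℕ) (A : Subgroup G) : Subgroup G := (pCore p A).map A.subtype

theorem normalizer_le_normalizer_centralizer (H : Subgroup G) :
    normalizer (H : Set G) ≤ normalizer ((centralizer (H : Set G) : Subgroup G) : Set G) := by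
  intro m hm
  rw [mem_normalizer_iff]
  intro y
  simp only [mem_centralizer_iff, SetLike.mem_coe]
  constructor
  · intro hy w hw
    have h3 := hy (m⁻¹ * w * m) ((mem_normalizer_iff''.mp hm w).mp hw)
    have h4 := congrArg (fun t => m * t * m⁻¹) h3
    simpa [mul_assoc] using h4
  · intro hy w hw
    have h3 := hy (m * w * m⁻¹) ((mem_normalizer_iff.mp hm w).mp hw)
    have h4 := congrArg (fun t => m⁻¹ * t * m) h3
    simpa [mul_assoc] using h4

theorem le_normalizer_map_normal (A : Subgroup G) (C : Subgroup A) [C.Normal] :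
    A ≤ normalizer (C.map A.subtype : Set G) := by
  have h := le_normalizer_map (H := C) A.subtype
  rw [normalizer_eq_top_iff.mpr (inferInstance : C.Normal), ← MonoidHom.range_eq_map,
    range_subtype] at h
  exact h

theorem normalizer_eq_of_isCoatom [IsSimpleGroup G] {A T : Subgroup G} (hA : IsCoatom A)
    (hT : T ≤ A) (hn : A ≤ normalizer (T : Set G)) (hne : T ≠ ⊥) :
    normalizer (T : Set G) = A := by
  rcases hn.lt_or_eq with h | h
  · exfalso
    rcases (normalizer_eq_top_iff.mp (hA.2 _ h)).eq_bot_or_eq_top with h1 | h1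
    · exact hne h1
    · exact hA.1 (top_le_iff.mp (h1 ▸ hT))
  · exact h.symm

theorem centralizer_le_of_isCoatom [IsSimpleGroup G] {A T : Subgroup G} (hA : IsCoatom A)
    (hT : T ≤ A) (hn : A ≤ normalizer (T : Set G)) (hne : T ≠ ⊥) :
    centralizer (T : Set G) ≤ A :=
  (centralizer_le_normalizer _).trans_eq (normalizer_eq_of_isCoatom hA hT hn hne)

/-- Inside `B`, normalisers of nontrivial `A`-invariant subgroups of `A ⊓ B` lie in `A`. -/
def Ctrl (A B : Subgroup G) : Prop :=
  ∀ T : Subgroup G, T ≠ ⊥ → T ≤ A → T ≤ B → A ≤ normalizer (T : Set G) →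
    B ⊓ normalizer (T : Set G) ≤ A

theorem ctrl_of_isCoatom [IsSimpleGroup G] {A : Subgroup G} (hA : IsCoatom A) (B : Subgroup G) :
    Ctrl A B :=
  fun _ hne hTA _ hn => inf_le_right.trans (normalizer_eq_of_isCoatom hA hTA hn hne).le

theorem Ctrl.centralizer_le {A B T : Subgroup G} (h : Ctrl A B) (hne : T ≠ ⊥) (hTA : T ≤ A)
    (hTB : T ≤ B) (hn : A ≤ normalizer (T : Set G)) : B ⊓ centralizer (T : Set G) ≤ A :=
  (inf_le_inf_left B (centralizer_le_normalizer _)).trans (h T hne hTA hTB hn)

/-- A component normalising a solvable subgroup centralises it. -/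
theorem component_commute_normalized {L H : Subgroup G} (hL : IsComponent L)
    [Group.IsSolvable H] (hinv : L ≤ normalizer (H : Set G)) : ⁅L, H⁆ = ⊥ := by
  haveI : (H.subgroupOf (L ⊔ H)).Normal :=
    normal_subgroupOf_of_le_normalizer (sup_le hinv le_normalizer)
  haveI : Group.IsSolvable ↥(H.subgroupOf (L ⊔ H)) :=
    Group.isSolvable_of_isSolvable_injective
      (f := (subgroupOfEquivOfLe (le_sup_right : H ≤ L ⊔ H)).toMonoidHom)
      (subgroupOfEquivOfLe (le_sup_right : H ≤ L ⊔ H)).injective
  have h := congrArg (map (L ⊔ H).subtype)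
    (component_commute_solvable (isComponent_subgroupOf hL (le_sup_left : L ≤ L ⊔ H))
      (Normal.isSubnormal (inferInstance : (H.subgroupOf (L ⊔ H)).Normal)))
  rwa [map_commutator, map_subgroupOf_eq_of_le le_sup_left,
    map_subgroupOf_eq_of_le le_sup_right, Subgroup.map_bot] at h

theorem centralizer_gen_le_fitting [Finite G] :
    centralizer (generalizedFittingSubgroup G : Set G) ≤ fittingSubgroup G := by
  refine le_fitting ?_
  haveI : IsMulCommutative (centralizer (generalizedFittingSubgroup G : Set G)) :=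
    le_centralizer_iff_isMulCommutative.mp (centralizer_le centralizer_gen_le)
  open scoped IsMulCommutative in infer_instance

theorem pGroup_le_pCore_of_le_fitting [Finite G] {p : ℕ} [Fact p.Prime] {T : Subgroup G}
    (hT : IsPGroup p T) (hle : T ≤ fittingSubgroup G) : T ≤ pCore p G := by
  obtain ⟨P, hP⟩ := (IsPGroup.of_equiv hT (subgroupOfEquivOfLe hle).symm).exists_le_sylow
  haveI : (P : Subgroup (fittingSubgroup G)).Normal := inferInstance
  haveI : (P : Subgroup (fittingSubgroup G)).Characteristic :=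
    P.characteristic_of_normal inferInstance
  haveI : ((P : Subgroup (fittingSubgroup G)).map (fittingSubgroup G).subtype).Normal := inferInstance
  rw [← map_subgroupOf_eq_of_le hle]
  exact (map_mono hP).trans (le_pCore' (P.2.map _))

theorem pCore_commutator_eq_bot [Finite G] {p q : ℕ} (hp : p.Prime) (hq : q.Prime) (hne : p ≠ q) :
    ⁅pCore p G, pCore q G⁆ = ⊥ := by
  rw [commutator_eq_bot_iff_le_centralizer]
  exact fun x hx => mem_centralizer_iff.mpr fun y hy =>
    (commute_pCore hp hq hne x y hx hy).symm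

/-! ### Basic facts about the abbreviations -/

section basics

variable {A : Subgroup G}

theorem fit_le : fit A ≤ A := map_subtype_le _
theorem lay_le_self : lay A ≤ A := map_subtype_le _
theorem fs_le : fs A ≤ A := map_subtype_le _
theorem core_le {p : ℕ} : core p A ≤ A := map_subtype_le _

theorem fs_eq : fs A = lay A ⊔ fit A := Subgroup.map_sup _ _ _

theorem lay_le_fs : lay A ≤ fs A := fs_eq (A := A) ▸ le_sup_left
theorem fit_le_fs : fit A ≤ fs A := fs_eq (A := A) ▸ le_sup_right

theorem commutator_lay_fit [Finite G] : ⁅lay A, fit A⁆ = ⊥ := by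
  rw [← map_commutator, layer_commute_fitting, Subgroup.map_bot]

theorem core_le_fit [Finite G] {p : ℕ} (hp : p.Prime) : core p A ≤ fit A :=
  map_mono (pCore_le_fitting hp)

theorem isPGroup_core [Finite G] (p : ℕ) : IsPGroup p (core p A) := (isPGroup_pCore p).map _

theorem fit_eq_iSup [Finite G] :
    fit A = ⨆ r : (Nat.card A).primeFactors, core r A := by
  show (fittingSubgroup A).map A.subtype = _
  rw [fittingSubgroup_eq_iSup, Subgroup.map_iSup]

theorem commutator_core [Finite G] {p q : ℕ} (hp : p.Prime) (hq : q.Prime) (hne : p ≠ q) :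
    ⁅core p A, core q A⁆ = ⊥ := by
  rw [← map_commutator, pCore_commutator_eq_bot hp hq hne, Subgroup.map_bot]

theorem pGroup_le_core [Finite G] {p : ℕ} [Fact p.Prime] {T : Subgroup G} (hT : IsPGroup p T)
    (hle : T ≤ fit A) : T ≤ core p A := by
  have hTA : T ≤ A := hle.trans fit_le
  rw [← map_subgroupOf_eq_of_le hTA]
  refine map_mono (pGroup_le_pCore_of_le_fitting (IsPGroup.of_equiv hT (subgroupOfEquivOfLe hTA).symm) ?_)
  intro x hx
  obtain ⟨y, hy, hxy⟩ := hle (mem_subgroupOf.mp hx)
  rwa [← A.subtype_injective hxy]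

theorem inf_centralizer_fs_le [Finite G] : A ⊓ centralizer (fs A : Set G) ≤ fit A := by
  rintro x ⟨hx, hc⟩
  refine ⟨⟨x, hx⟩, centralizer_gen_le_fitting (mem_centralizer_iff.mpr fun y hy => Subtype.ext ?_), rfl⟩
  exact mem_centralizer_iff.mp hc y (mem_map_of_mem _ hy)

theorem le_centralizer_fit [Finite G] {T : Subgroup G}
    (h : ∀ r : ℕ, r.Prime → T ≤ centralizer (core r A : Set G)) :
    T ≤ centralizer (fit A : Set G) := by
  rw [le_centralizer_iff, fit_eq_iSup]
  exact iSup_le fun r => le_centralizer_iff.mp (h _ (Nat.prime_of_mem_primeFactors r.2))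

theorem le_centralizer_fs [Finite G] {T : Subgroup G} (hE : T ≤ centralizer (lay A : Set G))
    (h : ∀ r : ℕ, r.Prime → T ≤ centralizer (core r A : Set G)) :
    T ≤ centralizer (fs A : Set G) := by
  rw [le_centralizer_iff, fs_eq]
  exact sup_le (le_centralizer_iff.mp hE) (le_centralizer_iff.mp (le_centralizer_fit h))

theorem core_ne_bot_of_dvd [Finite G] {p : ℕ} (hp : p.Prime)
    (h : p ∣ Nat.card (fittingSubgroup A)) : core p A ≠ ⊥ := by
  haveI := Fact.mk hp
  obtain ⟨x, hx⟩ := exists_prime_orderOf_dvd_card' p h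
  intro hb
  have hT : zpowers ((x : A) : G) ≤ fit A := zpowers_le.mpr (mem_map_of_mem _ x.2)
  have hTp : IsPGroup p (zpowers ((x : A) : G)) := by
    refine IsPGroup.of_card (n := 1) ?_
    rw [Nat.card_zpowers, orderOf_coe, orderOf_coe, hx, pow_one]
  have := pGroup_le_core hTp hT
  rw [hb, le_bot_iff, zpowers_eq_bot, OneMemClass.coe_eq_one, OneMemClass.coe_eq_one] at this
  rw [this, orderOf_one] at hx
  exact hp.ne_one hx.symm

theorem dvd_of_core_ne_bot [Finite G] {p : ℕ} (hp : p.Prime) (h : core p A ≠ ⊥) :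
    p ∣ Nat.card (fittingSubgroup A) := by
  haveI := Fact.mk hp
  obtain ⟨k, hk⟩ := IsPGroup.iff_card.mp (isPGroup_pCore (G := A) p)
  refine (dvd_pow_self p ?_).trans (hk ▸ card_dvd_of_le (pCore_le_fitting hp))
  intro hk0
  rw [hk0, pow_zero] at hk
  exact h (by rw [core, card_eq_one.mp hk, Subgroup.map_bot])

/-- The centre of `O_p(A)`, inside `G`. -/
abbrev zcore (p : ℕ) (A : Subgroup G) : Subgroup G :=
  core p A ⊓ centralizer (core p A : Set G)

theorem le_normalizer_zcore {p : ℕ} : A ≤ normalizer (zcore p A : Set G) :=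
  (le_inf (le_normalizer_map_normal A _)
    ((le_normalizer_map_normal A _).trans (normalizer_le_normalizer_centralizer _))).trans
    (inf_normalizer_le_normalizer_inf ..)

theorem zcore_ne_bot [Finite G] {p : ℕ} [Fact p.Prime] (h : core p A ≠ ⊥) :
    zcore p A ≠ ⊥ := by
  haveI : Nontrivial (core p A) := (nontrivial_iff_ne_bot _).mpr h
  have h1 := (isPGroup_core (A := A) p).center_nontrivial
  rw [nontrivial_iff_ne_bot] at h1
  rw [zcore, ← map_center_subtype]
  exact fun h2 => h1 ((map_eq_bot_iff_of_injective _ (core p A).subtype_injective).mp h2)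

end basics

/-! ### Bender's lemma -/

/-- `S` is a large subnormal subgroup of `F*(A)`. -/
structure Data (A S : Subgroup G) : Prop where
  le : S ≤ fs A
  sn : (S.subgroupOf (fs A)).IsSubnormal
  cen : fs A ⊓ centralizer (S : Set G) ≤ S

section lemmaSection

variable [Finite G] {A S : Subgroup G}

theorem Data.le_self (hS : Data A S) : S ≤ A := hS.le.trans fs_le

theorem Data.sn_self (hS : Data A S) : (S.subgroupOf A).IsSubnormal := by
  have hle : S.subgroupOf A ≤ generalizedFittingSubgroup A := by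
    intro x hx
    obtain ⟨y, hy, hxy⟩ := hS.le (mem_subgroupOf.mp hx)
    rwa [← A.subtype_injective hxy]
  refine IsSubnormal.trans hle ?_ (Normal.isSubnormal inferInstance)
  have h := hS.sn.comap (A.subtype.subgroupMap (generalizedFittingSubgroup A))
  convert h using 1
  ext x
  rfl

theorem Data.lay_le (hS : Data A S) : lay A ≤ S := by
  show (layer A).map A.subtype ≤ S
  rw [map_le_iff_le_comap]
  refine sSup_le fun L hL => ?_
  rcases component_le_or_commute hL hS.sn_self with h | h
  · exact fun x hx => mem_subgroupOf.mp (h hx)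
  · rw [← map_le_iff_le_comap]
    refine le_trans (le_inf ((map_mono (component_le_layer hL)).trans lay_le_fs) ?_) hS.cen
    rw [← commutator_eq_bot_iff_le_centralizer, ← map_subgroupOf_eq_of_le hS.le_self,
      ← map_commutator, h, Subgroup.map_bot]

theorem Data.zcore_le (hS : Data A S) {p : ℕ} (hp : p.Prime) : zcore p A ≤ S := by
  refine le_trans (le_inf (inf_le_left.trans ((core_le_fit hp).trans fit_le_fs)) ?_) hS.cen
  refine le_trans (le_centralizer_fs ?_ fun r hr => ?_) (centralizer_le hS.le)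
  · rw [← commutator_eq_bot_iff_le_centralizer, ← le_bot_iff, ← commutator_lay_fit (A := A),
      commutator_comm (lay A)]
    exact commutator_mono (inf_le_left.trans (core_le_fit hp)) le_rfl
  · rcases eq_or_ne r p with rfl | hne
    · exact inf_le_right
    · exact inf_le_left.trans (commutator_eq_bot_iff_le_centralizer.mp (commutator_core hp hr hne.symm))

theorem Data.core_cen (hS : Data A S) {r : ℕ} (hr : r.Prime) :
    core r A ⊓ centralizer ((S ⊓ core r A : Subgroup G) : Set G) ≤ S ⊓ core r A := by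
  refine le_inf (le_trans (le_inf (inf_le_left.trans ((core_le_fit hr).trans fit_le_fs)) ?_) hS.cen) inf_le_left
  set X := core r A ⊓ centralizer ((S ⊓ core r A : Subgroup G) : Set G)
  have hXE : X ≤ centralizer (lay A : Set G) := by
    rw [← commutator_eq_bot_iff_le_centralizer, ← le_bot_iff, ← commutator_lay_fit (A := A),
      commutator_comm (lay A)]
    exact commutator_mono (inf_le_left.trans (core_le_fit hr)) le_rfl
  have hXS : X ≤ centralizer ((S ⊓ fit A : Subgroup G) : Set G) := by
    haveI : Group.IsNilpotent (fit A) :=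
      (isNilpotent_map_subtype_iff _).mpr inferInstance
    haveI : Group.IsNilpotent ↥(S ⊓ fit A) := nilpotent_of_le inf_le_right inferInstance
    have htop : (⊤ : Subgroup ↥(S ⊓ fit A)) ≤ (centralizer (X : Set G)).subgroupOf (S ⊓ fit A) := by
      rw [← fittingSubgroup_eq_top_iff.mpr (inferInstance : Group.IsNilpotent ↥(S ⊓ fit A)),
        fittingSubgroup_eq_iSup]
      refine iSup_le fun q => ?_
      haveI := Fact.mk (Nat.prime_of_mem_primeFactors q.2)
      rw [subgroupOf, ← map_le_iff_le_comap, le_centralizer_iff]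
      set T := (pCore (q : ℕ) ↥(S ⊓ fit A)).map (S ⊓ fit A).subtype
      have hT : T ≤ S ⊓ core q A := le_inf ((map_subtype_le _).trans inf_le_left)
        (pGroup_le_core ((isPGroup_pCore _).map _) ((map_subtype_le _).trans inf_le_right))
      rcases eq_or_ne (q : ℕ) r with hq | hq
      · exact inf_le_right.trans (centralizer_le (hq ▸ hT))
      · exact (inf_le_left.trans (commutator_eq_bot_iff_le_centralizer.mp
          (commutator_core hr (Nat.prime_of_mem_primeFactors q.2) hq.symm))).trans
          (centralizer_le (hT.trans inf_le_right))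
    rw [le_centralizer_iff]
    exact fun y hy => mem_subgroupOf.mp (htop (mem_top ⟨y, hy⟩))
  rw [le_centralizer_iff]
  intro y hy
  have h1 : fit A ≤ normalizer (lay A : Set G) := fit_le.trans (le_normalizer_map_normal A _)
  have h2 := hS.le hy
  rw [fs_eq, ← SetLike.mem_coe, coe_mul_of_right_le_normalizer_left _ _ h1] at h2
  obtain ⟨e, he, f, hf, rfl⟩ := h2
  refine mul_mem (le_centralizer_iff.mp hXE he) (le_centralizer_iff.mp hXS ⟨?_, hf⟩)
  simpa using S.mul_mem (S.inv_mem (hS.lay_le he)) hy

/-- An `S`-invariant `p`-subgroup of `A` centralises `E(A)` and `S ∩ O_r(A)`, `r ≠ p`. -/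
theorem Data.commute_invariant (hS : Data A S) {p : ℕ} [Fact p.Prime] {D : Subgroup G}
    (hD : IsPGroup p D) (hDA : D ≤ A) (hn : S ≤ normalizer (D : Set G)) :
    ⁅lay A, D⁆ = ⊥ ∧ ∀ r : ℕ, r.Prime → r ≠ p → ⁅S ⊓ core r A, D⁆ = ⊥ := by
  constructor
  · rw [commutator_eq_bot_iff_le_centralizer]
    show (layer A).map A.subtype ≤ _
    rw [map_le_iff_le_comap]
    refine sSup_le fun L hL => ?_
    haveI := (IsPGroup.of_equiv hD (subgroupOfEquivOfLe hDA).symm).isNilpotent
    have hLn : L ≤ normalizer (D.subgroupOf A : Set A) := by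
      intro x hx
      have h1 := hn (hS.lay_le (mem_map_of_mem _ (component_le_layer hL hx)))
      rw [mem_normalizer_iff] at h1 ⊢
      exact fun y => h1 y
    have h := component_commute_normalized hL hLn
    rw [← map_le_iff_le_comap, ← commutator_eq_bot_iff_le_centralizer,
      ← map_subgroupOf_eq_of_le hDA, ← map_commutator, h, Subgroup.map_bot]
  · intro r hr hne
    haveI := Fact.mk hr
    rw [eq_bot_iff]
    refine le_trans (le_inf ?_ ?_)
      (IsPGroup.disjoint_of_ne r p hne _ _ (isPGroup_core (A := A) r) hD).le_bot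
    · exact (commutator_mono inf_le_right hDA).trans
        (commutator_le_left_of_normalizes (le_normalizer_map_normal A _))
    · exact (commutator_mono inf_le_left le_rfl).trans
        (le_normalizer_iff_commutator_le_right.mp hn)

/-- `O_q(B) ⊓ A = 1` for `q` prime to `|F(A)|`. -/
theorem Data.core_inf_eq_bot (hS : Data A S) {B : Subgroup G} (hSB : S ≤ B) {q : ℕ} (hq : q.Prime)
    (hnd : ¬ q ∣ Nat.card (fittingSubgroup A)) : core q B ⊓ A = ⊥ := by
  haveI := Fact.mk hq
  have hqA : core q A = ⊥ := by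
    by_contra h
    exact hnd (dvd_of_core_ne_bot hq h)
  set D := core q B ⊓ A
  have hD : IsPGroup q D := (isPGroup_core (A := B) q).to_le inf_le_left
  have hn : S ≤ normalizer (D : Set G) :=
    (le_inf (hSB.trans (le_normalizer_map_normal B _)) (hS.le_self.trans le_normalizer)).trans
      (inf_normalizer_le_normalizer_inf ..)
  obtain ⟨hE, hr⟩ := hS.commute_invariant hD inf_le_right hn
  have hfs : D ≤ centralizer (fs A : Set G) := by
    refine le_centralizer_fs ?_ fun r hr' => ?_
    · exact commutator_eq_bot_iff_le_centralizer.mp (by rw [commutator_comm]; exact hE)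
    · haveI := Fact.mk hr'
      rcases eq_or_ne r q with rfl | hne
      · rw [hqA]
        intro x _
        rw [mem_centralizer_iff]
        intro y hy
        rw [mem_bot.mp hy, one_mul, mul_one]
      · rw [← commutator_eq_bot_iff_le_centralizer]
        refine commutator_eq_bot_of_centralizes (isPGroup_core r) (.inr ?_)
          (inf_le_right.trans (le_normalizer_map_normal A _)) inf_le_right (hS.core_cen hr')
          (by rw [commutator_comm]; exact hr r hr' hne)
        obtain ⟨k, hk⟩ := IsPGroup.iff_card.mp hD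
        rw [hk]
        exact ((Nat.coprime_primes hq hr').mpr hne.symm).pow_left k
  have h2 := pGroup_le_core hD ((le_inf inf_le_right hfs).trans inf_centralizer_fs_le)
  rwa [hqA, le_bot_iff] at h2

/-- `O_p(B)` centralises `E(A)` and `O_r(A)`, `r ≠ p`, for `p` dividing `|F(A)|`. -/
theorem Data.core_centralizes {B : Subgroup G} (hA : Ctrl A B) (hS : Data A S)
    (hSB : S ≤ B) {p : ℕ} (hp : p.Prime)
    (hd : p ∣ Nat.card (fittingSubgroup A)) :
    ⁅core p B, lay A⁆ = ⊥ ∧ ∀ r : ℕ, r.Prime → r ≠ p → ⁅core p B, core r A⁆ = ⊥ := by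
  haveI := Fact.mk hp
  set P := core p B
  set Z := zcore p A
  have hZS : Z ≤ S := hS.zcore_le hp
  have hSP : S ≤ normalizer (P : Set G) := hSB.trans (le_normalizer_map_normal B _)
  have hCZ : B ⊓ centralizer (Z : Set G) ≤ A := hA.centralizer_le
    (zcore_ne_bot (core_ne_bot_of_dvd hp hd)) (inf_le_left.trans core_le) (hZS.trans hSB)
    le_normalizer_zcore
  have hD : IsPGroup p ↥(P ⊓ A) := (isPGroup_core (A := B) p).to_le inf_le_left
  have hn : S ≤ normalizer ((P ⊓ A : Subgroup G) : Set G) :=
    (le_inf hSP (hS.le_self.trans le_normalizer)).trans (inf_normalizer_le_normalizer_inf ..)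
  obtain ⟨hED, hrD⟩ := hS.commute_invariant hD inf_le_right hn
  have hZP : Z ≤ normalizer (P : Set G) := hZS.trans hSP
  have hR : IsPGroup p ↥(Z ⊔ P) :=
    ((isPGroup_core (A := A) p).to_le inf_le_left).to_sup_of_normal_right' (isPGroup_core p) hZP
  have step : ∀ K : Subgroup G, (⁅K, K⁆ = K ∨ (Nat.card K).Coprime p) → K ≤ S →
      ⁅K, P ⊓ A⁆ = ⊥ → ⁅K, Z⁆ = ⊥ → ⁅K, P⁆ = ⊥ := by
    intro K hK hKS hKD hKZ
    have hKn : K ≤ normalizer ((Z ⊔ P : Subgroup G) : Set G) := by
      refine le_trans (le_inf ?_ (hKS.trans hSP)) (normalizer_inf_normalizer_le_normalizer_sup _ _)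
      rw [le_normalizer_iff_commutator_le_right, hKZ]
      exact bot_le
    have h1 : ⁅K, (Z ⊔ P) ⊓ A⁆ = ⊥ := by
      rw [commutator_eq_bot_iff_le_centralizer, le_centralizer_iff]
      rintro y ⟨hy, hyA⟩
      have hy' : y ∈ ((Z ⊔ P : Subgroup G) : Set G) := hy
      rw [coe_mul_of_left_le_normalizer_right _ _ hZP] at hy'
      obtain ⟨z, hz, x, hx, rfl⟩ := hy'
      have hxA : x ∈ A := by
        simpa using A.mul_mem (A.inv_mem (hS.le_self (hZS hz))) hyA
      exact mul_mem (le_centralizer_iff.mp (commutator_eq_bot_iff_le_centralizer.mp hKZ) hz)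
        (le_centralizer_iff.mp (commutator_eq_bot_iff_le_centralizer.mp hKD) ⟨hx, hxA⟩)
    have h2 := commutator_eq_bot_of_centralizes hR hK hKn inf_le_left
      (le_inf inf_le_left (le_trans (le_inf (inf_le_left.trans (sup_le (hZS.trans hSB) core_le))
        (inf_le_right.trans (Subgroup.centralizer_le
          (le_inf le_sup_left (hZS.trans hS.le_self) : Z ≤ (Z ⊔ P) ⊓ A)))) hCZ)) h1
    rw [← le_bot_iff, ← h2]
    exact commutator_mono le_rfl le_sup_right
  have hEP : ⁅P, lay A⁆ = ⊥ := by
    rw [commutator_comm]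
    refine step _ (.inl (by rw [← map_commutator, layer_perfect])) hS.lay_le hED ?_
    rw [← le_bot_iff, ← commutator_lay_fit (A := A)]
    exact commutator_mono le_rfl (inf_le_left.trans (core_le_fit hp))
  refine ⟨hEP, fun r hr hne => ?_⟩
  haveI := Fact.mk hr
  by_cases hcr : core r A = ⊥
  · rw [hcr, commutator_bot_right]
  have hcop : ∀ {K : Subgroup G} {s t : ℕ}, IsPGroup s K → s.Prime → t.Prime → s ≠ t →
      (Nat.card K).Coprime t := by
    intro K s t hK hs ht hst
    haveI := Fact.mk hs
    obtain ⟨k, hk⟩ := IsPGroup.iff_card.mp hK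
    rw [hk]
    exact ((Nat.coprime_primes hs ht).mpr hst).pow_left k
  have h3 : ⁅S ⊓ core r A, P⁆ = ⊥ := by
    refine step _ (.inr (hcop ((isPGroup_core r).to_le inf_le_right) hr hp hne)) inf_le_left
      (hrD r hr hne) ?_
    rw [← le_bot_iff, ← commutator_core (A := A) hr hp hne]
    exact commutator_mono inf_le_right inf_le_left
  have hPA : P ≤ A := by
    refine le_trans (le_inf core_le ?_) (hA.centralizer_le (zcore_ne_bot hcr)
      (inf_le_left.trans core_le) ((hS.zcore_le hr).trans hSB) le_normalizer_zcore)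
    refine le_trans (commutator_eq_bot_iff_le_centralizer.mp ?_)
      (centralizer_le (le_inf (hS.zcore_le hr) inf_le_left : zcore r A ≤ S ⊓ core r A))
    rw [commutator_comm]; exact h3
  exact commutator_eq_bot_of_centralizes (isPGroup_core r)
    (.inr (hcop (isPGroup_core (A := B) p) hp hr hne.symm))
    (hPA.trans (le_normalizer_map_normal A _)) inf_le_right (hS.core_cen hr)
    (by rw [commutator_comm]; exact h3)

/-- `O_p(B)` centralises `O^p(F*(A))`. -/
theorem Data.core_centralizes_residual {B : Subgroup G} (hA : Ctrl A B) (hS : Data A S)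
    (hSB : S ≤ B) {p : ℕ} (hp : p.Prime)
    (hd : p ∣ Nat.card (fittingSubgroup A)) {y : A} (hy : y ∈ generalizedFittingSubgroup A)
    (hco : (orderOf y).Coprime p) : (y : G) ∈ centralizer (core p B : Set G) := by
  haveI := Fact.mk hp
  obtain ⟨hE, hr⟩ := hS.core_centralizes hA hSB hp hd
  set K : Subgroup A := sSup ({layer A} ∪ {N | ∃ r : ℕ, r.Prime ∧ r ≠ p ∧ N = pCore r A})
  haveI : K.Normal := Subgroup.sSup_normal _ fun N hN => by
    rcases hN with h | ⟨r, -, -, h⟩
    · rw [Set.mem_singleton_iff.mp h]; infer_instance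
    · rw [h]; infer_instance
  have hle : generalizedFittingSubgroup A ≤ pCore p A ⊔ K := by
    refine sup_le (le_sup_of_le_right (le_sSup (.inl rfl))) ?_
    rw [fittingSubgroup_eq_iSup]
    refine iSup_le fun r => ?_
    rcases eq_or_ne (r : ℕ) p with h | h
    · exact h ▸ le_sup_left
    · exact le_sup_of_le_right (le_sSup (.inr ⟨r, Nat.prime_of_mem_primeFactors r.2, h, rfl⟩))
  have hyK : y ∈ K := by
    have h1 : QuotientGroup.mk' K y ∈ (pCore p A).map (QuotientGroup.mk' K) := by
      have := map_mono (f := QuotientGroup.mk' K) hle (mem_map_of_mem _ hy)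
      rwa [Subgroup.map_sup, QuotientGroup.map_mk'_self, sup_bot_eq] at this
    obtain ⟨k, hk⟩ := IsPGroup.iff_orderOf.mp
      ((isPGroup_pCore (G := A) p).map (QuotientGroup.mk' K)) ⟨_, h1⟩
    rw [orderOf_mk] at hk
    have h2 := Nat.dvd_gcd (orderOf_map_dvd (QuotientGroup.mk' K) y) (dvd_of_eq hk)
    rw [(hco.pow_right k).gcd_eq_one, Nat.dvd_one, orderOf_eq_one_iff] at h2
    exact (QuotientGroup.eq_one_iff y).mp h2
  have h3 : K ≤ (centralizer (core p B : Set G)).comap A.subtype := by
    refine sSup_le ?_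
    rintro N (h | ⟨r, hr', hne, h⟩)
    · rw [Set.mem_singleton_iff.mp h, ← map_le_iff_le_comap, ← commutator_eq_bot_iff_le_centralizer,
        commutator_comm]
      exact hE
    · rw [h, ← map_le_iff_le_comap, ← commutator_eq_bot_iff_le_centralizer, commutator_comm]
      exact hr r hr' hne
  exact h3 hyK

end lemmaSection

/-! ### Two maximal subgroups -/

section pair

variable [Finite G] {M N S₁ S₂ : Subgroup G}

theorem dvd_of_dvd (h₁ : Data M S₁) (h₁N : S₁ ≤ N) (h₂ : Data N S₂) (h₂M : S₂ ≤ M) {r : ℕ}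
    (hr : r.Prime) (hd : r ∣ Nat.card (fittingSubgroup N)) :
    r ∣ Nat.card (fittingSubgroup M) := by
  by_contra hn
  haveI := Fact.mk hr
  refine zcore_ne_bot (core_ne_bot_of_dvd hr hd) (le_bot_iff.mp ?_)
  rw [← h₁.core_inf_eq_bot h₁N hr hn]
  exact le_inf inf_le_left ((h₂.zcore_le hr).trans h₂M)

theorem lay_le_lay (hM : Ctrl M N) (h₁ : Data M S₁) (h₁N : S₁ ≤ N) (h₂ : Data N S₂)
    (h₂M : S₂ ≤ M) : lay M ≤ lay N := by
  show (layer M).map M.subtype ≤ _
  rw [map_le_iff_le_comap]
  refine sSup_le fun L hL => ?_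
  rw [← map_le_iff_le_comap]
  set L' := L.map M.subtype
  have hL'N : L' ≤ N := (map_mono (component_le_layer hL)).trans (h₁.lay_le.trans h₁N)
  by_contra hnot
  have hc1 : ⁅L', lay N⁆ = ⊥ := by
    rw [commutator_comm, commutator_eq_bot_iff_le_centralizer]
    show (layer N).map N.subtype ≤ _
    rw [map_le_iff_le_comap]
    refine sSup_le fun K hK => ?_
    rw [← map_le_iff_le_comap, ← commutator_eq_bot_iff_le_centralizer]
    set K' := K.map N.subtype
    have hK'M : K' ≤ M := (map_mono (component_le_layer hK)).trans (h₂.lay_le.trans h₂M)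
    set H := M ⊓ N
    have hLH : L' ≤ H := le_inf (map_subtype_le _) hL'N
    have hKH : K' ≤ H := le_inf hK'M (map_subtype_le _)
    have hcL : IsComponent (L'.subgroupOf H) := by
      have h := hL.1.comap (inclusion (inf_le_left : H ≤ M))
      have e : L.comap (inclusion (inf_le_left : H ≤ M)) = L'.subgroupOf H := by
        ext x
        exact ⟨fun hx => ⟨_, hx, rfl⟩, fun ⟨y, hy, hxy⟩ => by
          rwa [mem_comap, show inclusion (inf_le_left : H ≤ M) x = y from Subtype.ext hxy.symm]⟩
      exact ⟨e ▸ h, isQuasisimple_of_mulEquiv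
        ((L.equivMapOfInjective _ M.subtype_injective).trans (subgroupOfEquivOfLe hLH).symm) hL.2⟩
    have hcK : IsComponent (K'.subgroupOf H) := by
      have h := hK.1.comap (inclusion (inf_le_right : H ≤ N))
      have e : K.comap (inclusion (inf_le_right : H ≤ N)) = K'.subgroupOf H := by
        ext x
        exact ⟨fun hx => ⟨_, hx, rfl⟩, fun ⟨y, hy, hxy⟩ => by
          rwa [mem_comap, show inclusion (inf_le_right : H ≤ N) x = y from Subtype.ext hxy.symm]⟩
      exact ⟨e ▸ h, isQuasisimple_of_mulEquiv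
        ((K.equivMapOfInjective _ N.subtype_injective).trans (subgroupOfEquivOfLe hKH).symm) hK.2⟩
    have hne : K'.subgroupOf H ≠ L'.subgroupOf H := fun h => hnot <| by
      rw [← map_subgroupOf_eq_of_le hLH, ← h, map_subgroupOf_eq_of_le hKH]
      exact map_mono (component_le_layer hK)
    have h := congrArg (map H.subtype) (components_commute hcK hcL hne)
    rwa [map_commutator, map_subgroupOf_eq_of_le hKH, map_subgroupOf_eq_of_le hLH,
      Subgroup.map_bot] at h
  have hc2 : ∀ r : ℕ, r.Prime → L' ≤ centralizer (core r N : Set G) := by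
    intro r hr
    by_cases hd : r ∣ Nat.card (fittingSubgroup N)
    · rw [← commutator_eq_bot_iff_le_centralizer, ← le_bot_iff,
        ← (h₁.core_centralizes hM h₁N hr (dvd_of_dvd h₁ h₁N h₂ h₂M hr hd)).1, commutator_comm L']
      exact commutator_mono le_rfl (map_mono (component_le_layer hL))
    · rw [show core r N = ⊥ by by_contra h; exact hd (dvd_of_core_ne_bot hr h)]
      intro x _
      rw [mem_centralizer_iff]
      intro y hy
      rw [mem_bot.mp hy, one_mul, mul_one]
  have hfs := le_centralizer_fs (commutator_eq_bot_iff_le_centralizer.mp hc1) hc2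
  have h3 : L' ≤ fit N := (le_inf hL'N hfs).trans inf_centralizer_fs_le
  haveI : Group.IsNilpotent (fit N) := (isNilpotent_map_subtype_iff _).mpr inferInstance
  exact isQuasisimple_not_le_solvable (isQuasisimple_map_of_injective _ M.subtype_injective hL.2) h3

theorem core_le_of_two (hM : Ctrl M N) (h₁ : Data M S₁) (h₁N : S₁ ≤ N) {p r : ℕ} (hp : p.Prime)
    (hr : r.Prime) (hne : r ≠ p) (hdp : p ∣ Nat.card (fittingSubgroup M))
    (hdr : r ∣ Nat.card (fittingSubgroup M)) : core p N ≤ M :=
  haveI := Fact.mk hr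
  (le_inf core_le ((commutator_eq_bot_iff_le_centralizer.mp
    ((h₁.core_centralizes hM h₁N hp hdp).2 r hr hne)).trans
      (Subgroup.centralizer_le (inf_le_left : zcore r M ≤ core r M)))).trans
    (hM.centralizer_le (zcore_ne_bot (core_ne_bot_of_dvd hr hdr)) (inf_le_left.trans core_le)
      ((h₁.zcore_le hr).trans h₁N) le_normalizer_zcore)

/-- The two-prime step of Bender's theorem. -/
theorem core_le_core (hM : Ctrl M N) (hN : Ctrl N M) (h₁ : Data M S₁) (h₁N : S₁ ≤ N)
    (h₂ : Data N S₂) (h₂M : S₂ ≤ M) (hE : lay M = ⊥) {r q₀ : ℕ} (hr : r.Prime) (hq₀ : q₀.Prime)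
    (hne₀ : q₀ ≠ r) (hdr : r ∣ Nat.card (fittingSubgroup M))
    (hdq₀ : q₀ ∣ Nat.card (fittingSubgroup M)) : core r N ≤ core r M := by
  haveI := Fact.mk hr
  set Cr := M ⊓ ⨅ s : {s : ℕ // s.Prime ∧ s ≠ r}, centralizer (core (s : ℕ) M : Set G)
  have hCr : ∀ {x : G}, x ∈ Cr ↔
      x ∈ M ∧ ∀ s : ℕ, s.Prime → s ≠ r → x ∈ centralizer (core s M : Set G) := by
    intro x
    simp only [Cr, mem_inf, mem_iInf, Subtype.forall, and_imp]
  have hCrn : M ≤ normalizer (Cr : Set G) := by
    refine (le_inf le_normalizer ?_).trans (inf_normalizer_le_normalizer_inf ..)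
    intro m hm
    rw [mem_normalizer_iff]
    intro x
    simp only [mem_iInf]
    exact forall_congr' fun s => mem_normalizer_iff.mp
      (normalizer_le_normalizer_centralizer _ (le_normalizer_map_normal M _ hm)) x
  have hrN : core r N ≤ Cr := by
    refine le_inf (core_le_of_two hM h₁ h₁N hr hq₀ hne₀ hdr hdq₀) (le_iInf fun s => ?_)
    exact commutator_eq_bot_iff_le_centralizer.mp
      ((h₁.core_centralizes hM h₁N hr hdr).2 _ s.2.1 s.2.2)
  -- elements of order prime to some other q lie in N
  have hmem : ∀ x ∈ Cr, ∀ q : ℕ, q.Prime → q ≠ r → q ∣ Nat.card (fittingSubgroup M) →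
      (orderOf x).Coprime q → x ∈ N := by
    intro x hx q hq hqr hdq hco
    haveI := Fact.mk hq
    obtain ⟨hxM, hxc⟩ := hCr.mp hx
    have hqN : core q N ≤ M := core_le_of_two hM h₁ h₁N hq hr hqr.symm hdq hdr
    have hdqN : q ∣ Nat.card (fittingSubgroup N) := dvd_of_dvd h₂ h₂M h₁ h₁N hq hdq
    refine hN.centralizer_le (core_ne_bot_of_dvd hq hdqN) core_le hqN
      (le_normalizer_map_normal N _) ⟨hxM, mem_centralizer_iff.mpr fun u hu => ?_⟩
    have huc : ∀ s : ℕ, s.Prime → s ≠ q → u ∈ centralizer (core s M : Set G) := fun s hs hsq =>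
      commutator_eq_bot_iff_le_centralizer.mp ((h₁.core_centralizes hM h₁N hq hdq).2 s hs hsq) hu
    set z := x * u * x⁻¹ * u⁻¹
    have hzM : z ∈ M := M.mul_mem (M.mul_mem (M.mul_mem hxM (hqN hu)) (M.inv_mem hxM)) (M.inv_mem (hqN hu))
    have hzc : ∀ s : ℕ, s.Prime → z ∈ centralizer (core s M : Set G) := by
      intro s hs
      have hnc : ∀ {m y : G}, m ∈ M → y ∈ centralizer (core s M : Set G) →
          m * y * m⁻¹ ∈ centralizer (core s M : Set G) := fun {m y} hm hy =>
        (mem_normalizer_iff.mp (normalizer_le_normalizer_centralizer _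
          (le_normalizer_map_normal M _ hm)) y).mp hy
      by_cases hsr : s = r
      · have hu' := huc s hs (hsr ▸ hqr.symm)
        exact mul_mem (hnc hxM hu') (inv_mem hu')
      · have hx' := hxc s hs hsr
        rw [show z = x * (u * x⁻¹ * u⁻¹) by simp [z, mul_assoc]]
        exact mul_mem hx' (hnc (hqN hu) (inv_mem hx'))
    have hzfs : z ∈ centralizer (fs M : Set G) := by
      have h : zpowers z ≤ centralizer (fs M : Set G) :=
        le_centralizer_fs (by rw [hE]; intro y _; rw [mem_centralizer_iff]; intro w hw; rw [mem_bot.mp hw, one_mul, mul_one])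
          fun s hs => zpowers_le.mpr (hzc s hs)
      exact h (mem_zpowers z)
    obtain ⟨z', hz', hzz⟩ := inf_centralizer_fs_le ⟨hzM, hzfs⟩
    set K := ⨆ s : {s : ℕ // s.Prime ∧ s ≠ q}, pCore (s : ℕ) M
    have hle : fittingSubgroup M ≤ pCore q M ⊔ K := by
      rw [fittingSubgroup_eq_iSup]
      refine iSup_le fun s => ?_
      rcases eq_or_ne (s : ℕ) q with h | h
      · exact h ▸ le_sup_left
      · exact le_sup_of_le_right (le_iSup_of_le ⟨s, Nat.prime_of_mem_primeFactors s.2, h⟩ le_rfl)
    obtain ⟨a, ha, b, hb, hab⟩ := mem_sup_of_normal_left.mp (hle hz')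
    have hz : z = (a : G) * b := by rw [← hzz, ← hab]; rfl
    have hKq : K ≤ pPrimeCore q M := iSup_le fun s => le_pPrimeCore' <| by
      haveI := Fact.mk s.2.1
      obtain ⟨k, hk⟩ := IsPGroup.iff_card.mp (isPGroup_pCore (G := M) (s : ℕ))
      rw [hk]
      exact ((Nat.coprime_primes s.2.1 hq).mpr s.2.2).pow_left k
    have hKc : ∀ {w : G}, (∀ s : ℕ, s.Prime → s ≠ q → w ∈ centralizer (core s M : Set G)) →
        (b : G) * w = w * b := by
      intro w hw
      have h1 : K ≤ (centralizer ({w} : Set G)).comap M.subtype := iSup_le fun s => by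
        intro y hy
        exact mem_centralizer_singleton_iff.mpr
          (mem_centralizer_iff.mp (hw _ s.2.1 s.2.2) _ (mem_map_of_mem _ hy))
      exact mem_centralizer_singleton_iff.mp (h1 hb)
    have hac : ∀ s : ℕ, s.Prime → s ≠ q → (a : G) ∈ centralizer (core s M : Set G) :=
      fun s hs hsq => commutator_eq_bot_iff_le_centralizer.mp (commutator_core hq hs hsq.symm)
        (mem_map_of_mem _ ha)
    have hbc : Commute (b : G) ((a : G) * u) :=
      Commute.mul_right (hKc hac) (hKc huc)
    have hT : IsPGroup q ↥(core q N ⊔ core q M) :=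
      (isPGroup_core (A := N) q).to_sup_of_normal_right' (isPGroup_core q)
        (hqN.trans (le_normalizer_map_normal M _))
    obtain ⟨i, hi⟩ := hT ⟨(a : G) * u, mul_mem (mem_sup_right (mem_map_of_mem _ ha)) (mem_sup_left hu)⟩
    obtain ⟨j, hj⟩ := isPGroup_core (A := N) q ⟨u, hu⟩
    have hxu : x * u * x⁻¹ = (a : G) * u * b := by
      have h1 : x * u * x⁻¹ = z * u := by simp [z]
      rw [h1, hz, mul_assoc, mul_assoc, (hKc huc)]
    have hb1 : (b : G) = 1 := by
      have h1 : ((a : G) * u * b) ^ (q ^ (i + j)) = 1 := by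
        rw [← hxu, conj_pow, pow_add, pow_mul',
          show u ^ q ^ j = 1 from congrArg Subtype.val hj, one_pow, mul_one, mul_inv_cancel]
      rw [hbc.symm.mul_pow, pow_add, pow_mul,
        show ((a : G) * u) ^ q ^ i = 1 from congrArg Subtype.val hi, one_pow, one_mul,
        ← pow_add] at h1
      have h2 : orderOf (b : G) ∣ Nat.card (pPrimeCore q M) := by
        rw [orderOf_coe, ← orderOf_mk b (hKq hb)]
        exact _root_.orderOf_dvd_natCard _
      have h3 := Nat.dvd_gcd h2 (orderOf_dvd_of_pow_eq_one h1)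
      rwa [((pPrimeCore_coprime q).pow_right _).gcd_eq_one, Nat.dvd_one, orderOf_eq_one_iff] at h3
    rw [hb1, mul_one] at hxu
    have ha' : u⁻¹ * (a : G) * u ∈ core q M := by
      have := (mem_normalizer_iff.mp (le_normalizer_map_normal M _ (M.inv_mem (hqN hu))) _).mp
        (mem_map_of_mem M.subtype ha)
      simpa using this
    have hax : x * (u⁻¹ * (a : G) * u) = u⁻¹ * (a : G) * u * x :=
      (mem_centralizer_iff.mp (hxc q hq hqr) _ ha').symm
    have h4 := commute_of_pow_conj (isPGroup_core (A := M) q) ha' hax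
      (x := u) (by rw [hxu]; group) (pow_orderOf_eq_one x) hco
    have h5 : (a : G) = 1 := by
      have := congrArg (fun t => u * t * u⁻¹) h4
      simpa [mul_assoc] using this
    rw [h5, one_mul, mul_inv_eq_iff_eq_mul] at hxu
    exact hxu.symm
  set Cs := Subgroup.closure {x | x ∈ Cr ∧ ∃ q : ℕ, q.Prime ∧ q ≠ r ∧
    q ∣ Nat.card (fittingSubgroup M) ∧ (orderOf x).Coprime q}
  have hCsN : Cs ≤ N := (closure_le _).mpr fun x ⟨hx, q, hq, hqr, hd, hco⟩ =>
    hmem x hx q hq hqr hd hco
  have hCsM : Cs ≤ M := (closure_le _).mpr fun x hx => (hCr.mp hx.1).1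
  have hCsn : M ≤ normalizer (Cs : Set G) := by
    have key : ∀ m ∈ M, ∀ x ∈ Cs, m * x * m⁻¹ ∈ Cs := by
      intro m hm x hx
      have h2 : Cs ≤ Cs.comap (MulAut.conj m).toMonoidHom := by
        refine (closure_le _).mpr fun y hy => mem_comap.mpr (subset_closure ⟨?_, ?_⟩)
        · simpa using (mem_normalizer_iff.mp (hCrn hm) y).mp hy.1
        · obtain ⟨q, hq, hqr, hd, hco⟩ := hy.2
          exact ⟨q, hq, hqr, hd, by
            rwa [orderOf_injective (MulAut.conj m).toMonoidHom (MulAut.conj m).injective y]⟩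
      simpa using h2 hx
    intro m hm
    rw [mem_normalizer_iff]
    refine fun x => ⟨key m hm x, fun hx => ?_⟩
    simpa [mul_assoc] using key m⁻¹ (M.inv_mem hm) _ hx
  have hrCs : core r N ≤ Cs := by
    intro x hx
    refine subset_closure ⟨hrN hx, q₀, hq₀, hne₀, hdq₀, ?_⟩
    obtain ⟨k, hk⟩ := IsPGroup.iff_orderOf.mp (isPGroup_core (A := N) r) ⟨x, hx⟩
    rw [orderOf_mk] at hk
    rw [hk]
    exact ((Nat.coprime_primes hr hq₀).mpr hne₀.symm).pow_left k
  haveI : ((core r N).subgroupOf Cs).Normal :=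
    normal_subgroupOf_of_le_normalizer (hCsN.trans (le_normalizer_map_normal N _))
  have h6 : (core r N).subgroupOf Cs ≤ pCore r Cs :=
    le_pCore' (IsPGroup.of_equiv (isPGroup_core r) (subgroupOfEquivOfLe hrCs).symm)
  have h7 : (pCore r Cs).map Cs.subtype ≤ core r M := by
    haveI := normalizer_le_normalizer_map_subtype Cs (pCore r Cs)
    have hle : (pCore r Cs).map Cs.subtype ≤ M := (map_subtype_le _).trans hCsM
    haveI : (((pCore r Cs).map Cs.subtype).subgroupOf M).Normal :=
      normal_subgroupOf_of_le_normalizer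
        (hCsn.trans (normalizer_le_normalizer_map_subtype Cs (pCore r Cs)))
    rw [← map_subgroupOf_eq_of_le hle]
    exact map_mono (le_pCore'
      (IsPGroup.of_equiv ((isPGroup_pCore r).map _) (subgroupOfEquivOfLe hle).symm))
  rw [← map_subgroupOf_eq_of_le hrCs]
  exact (map_mono h6).trans h7

/-- Bender's theorem for a mutually controlling pair. -/
theorem pair_main (hM : Ctrl M N) (hN : Ctrl N M)
    (h₁ : Data M S₁) (h₁N : S₁ ≤ N) (h₂ : Data N S₂) (h₂M : S₂ ≤ M) :
    M = ⊥ ∨ (∃ T : Subgroup G, T ≠ ⊥ ∧ T ≤ M ∧ T ≤ N ∧ M ≤ normalizer (T : Set G) ∧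
        N ≤ normalizer (T : Set G)) ∨
      ∃ p : ℕ, p.Prime ∧ IsPGroup p (generalizedFittingSubgroup M) ∧
        IsPGroup p (generalizedFittingSubgroup N) := by
  have hEeq : lay M = lay N :=
    le_antisymm (lay_le_lay hM h₁ h₁N h₂ h₂M) (lay_le_lay hN h₂ h₂M h₁ h₁N)
  by_cases hE : lay M = ⊥
  swap
  · exact .inr (.inl ⟨_, hE, lay_le_self, hEeq ▸ lay_le_self, le_normalizer_map_normal M _,
      hEeq ▸ le_normalizer_map_normal N _⟩)
  have hgen : ∀ {A : Subgroup G}, lay A = ⊥ → generalizedFittingSubgroup A = fittingSubgroup A :=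
    fun {A} h => gen_eq_fitting_iff.mpr
      ((map_eq_bot_iff_of_injective _ A.subtype_injective).mp h)
  by_cases hne : Nat.card (fittingSubgroup M) = 1
  · refine .inl ?_
    have hfs : fs M = ⊥ := by
      rw [fs_eq, hE, bot_sup_eq, fit, card_eq_one.mp hne, Subgroup.map_bot]
    rw [eq_bot_iff]
    refine le_trans (le_inf le_rfl ?_) (inf_centralizer_fs_le.trans (fit_le_fs.trans hfs.le))
    rw [hfs]
    intro y _
    rw [mem_centralizer_iff]
    intro w hw
    rw [mem_bot.mp hw, one_mul, mul_one]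
  obtain ⟨p, hp, hdp⟩ := Nat.exists_prime_and_dvd hne
  by_cases htwo : ∃ q : ℕ, q.Prime ∧ q ≠ p ∧ q ∣ Nat.card (fittingSubgroup M)
  · refine .inr (.inl ?_)
    obtain ⟨q, hq, hqp, hdq⟩ := htwo
    have heq : core p M = core p N := le_antisymm
      (core_le_core hN hM h₂ h₂M h₁ h₁N (hEeq ▸ hE) hp hq hqp
        (dvd_of_dvd h₂ h₂M h₁ h₁N hp hdp) (dvd_of_dvd h₂ h₂M h₁ h₁N hq hdq))
      (core_le_core hM hN h₁ h₁N h₂ h₂M hE hp hq hqp hdp hdq)
    exact ⟨_, core_ne_bot_of_dvd hp hdp, core_le, heq ▸ core_le,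
      le_normalizer_map_normal M _, heq ▸ le_normalizer_map_normal N _⟩
  · refine .inr (.inr ?_)
    push Not at htwo
    haveI := Fact.mk hp
    have key : ∀ {A : Subgroup G}, lay A = ⊥ →
        (∀ q : ℕ, q.Prime → q ∣ Nat.card (fittingSubgroup A) → q = p) →
        IsPGroup p (generalizedFittingSubgroup A) := by
      intro A hA hall
      rw [hgen hA]
      refine IsPGroup.of_card (n := (Nat.card (fittingSubgroup A)).primeFactorsList.length) ?_
      exact Nat.eq_prime_pow_of_unique_prime_dvd Nat.card_pos.ne' fun hq hd => hall _ hq hd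
    refine ⟨p, hp, key hE fun q hq hd => by_contra fun h => htwo q hq h hd,
      key (hEeq ▸ hE) fun q hq hd => by_contra fun h =>
        htwo q hq h (dvd_of_dvd h₁ h₁N h₂ h₂M hq hd)⟩

/-- Bender's theorem for a pair of maximal subgroups. -/
theorem eq_or_isPGroup [IsSimpleGroup G] (hna : ¬ IsMulCommutative G) (hM : IsCoatom M)
    (hN : IsCoatom N) (h₁ : Data M S₁) (h₁N : S₁ ≤ N) (h₂ : Data N S₂) (h₂M : S₂ ≤ M) :
    M = N ∨ ∃ p : ℕ, p.Prime ∧ IsPGroup p (generalizedFittingSubgroup M) ∧
      IsPGroup p (generalizedFittingSubgroup N) := by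
  rcases pair_main (ctrl_of_isCoatom hM N) (ctrl_of_isCoatom hN M) h₁ h₁N h₂ h₂M with
    h | ⟨T, hT, hTM, hTN, hnM, hnN⟩ | h
  · exfalso
    obtain ⟨x, hx⟩ := exists_ne (1 : G)
    have htop : zpowers x = ⊤ := hM.2 _ (h ▸ bot_lt_iff_ne_bot.mpr (zpowers_ne_bot.mpr hx))
    refine hna ⟨⟨fun a b => ?_⟩⟩
    obtain ⟨i, rfl⟩ := mem_zpowers_iff.mp (htop ▸ mem_top a)
    obtain ⟨j, rfl⟩ := mem_zpowers_iff.mp (htop ▸ mem_top b)
    exact zpow_mul_comm x i j
  · exact .inl ((normalizer_eq_of_isCoatom hM hTM hnM hT).symm.trans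
      (normalizer_eq_of_isCoatom hN hTN hnN hT))
  · exact .inr h

end pair

/-- The subgroup `N_{F*(A)}(Q)`, `Q ≤ F(A)`, qualifies. -/
theorem data_normalizer [Finite G] {A Q : Subgroup G} (hQ : Q ≤ fit A) :
    Data A (fs A ⊓ normalizer (Q : Set G)) := by
  set S := fs A ⊓ normalizer (Q : Set G)
  have hQS : Q ≤ S := le_inf (hQ.trans fit_le_fs) le_normalizer
  refine ⟨inf_le_left, ?_, le_inf inf_le_left
    (inf_le_right.trans ((centralizer_le hQS).trans (centralizer_le_normalizer _)))⟩
  have hE : lay A ≤ S := le_inf lay_le_fs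
    (le_trans ((commutator_eq_bot_iff_le_centralizer.mp (commutator_lay_fit (A := A))).trans
      (centralizer_le hQ)) (centralizer_le_normalizer _))
  haveI hEn : ((lay A).subgroupOf (fs A)).Normal :=
    normal_subgroupOf_of_le_normalizer (fs_le.trans (le_normalizer_map_normal A _))
  haveI : Group.IsNilpotent (↥(fs A) ⧸ (lay A).subgroupOf (fs A)) := by
    haveI : Group.IsNilpotent (fit A) := (isNilpotent_map_subtype_iff _).mpr inferInstance
    refine Group.nilpotent_of_surjective
      ((QuotientGroup.mk' _).comp (inclusion (fit_le_fs (A := A)))) fun y => ?_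
    obtain ⟨⟨x, hx⟩, rfl⟩ := QuotientGroup.mk'_surjective _ y
    have h1 := hx
    rw [fs_eq, ← SetLike.mem_coe, coe_mul_of_right_le_normalizer_left _ _
      (fit_le.trans (le_normalizer_map_normal A _))] at h1
    obtain ⟨e, he, f, hf, hef⟩ := h1
    refine ⟨⟨f, hf⟩, QuotientGroup.eq.mpr (mem_subgroupOf.mpr ?_)⟩
    have hn : f⁻¹ ∈ normalizer (lay A : Set G) :=
      le_normalizer_map_normal A _ (A.inv_mem (fit_le hf))
    have := (mem_normalizer_iff.mp hn e).mp he
    show f⁻¹ * x ∈ lay A
    rw [← hef]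
    simpa [mul_assoc] using this
  have hsn : ∀ H : Subgroup (↥(fs A) ⧸ (lay A).subgroupOf (fs A)), H.IsSubnormal := by
    intro H
    induction H using WellFoundedGT.induction with
    | ind H ih =>
      rcases eq_or_ne H ⊤ with rfl | hne
      · exact .top
      · have hlt := normalizerCondition_of_isNilpotent H (lt_top_iff_ne_top.mpr hne)
        exact isSubnormal_of_le_normalizer le_normalizer (ih _ hlt) le_rfl
  have h := (hsn ((S.subgroupOf (fs A)).map (QuotientGroup.mk' _))).comap (QuotientGroup.mk' _)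
  rwa [comap_map_eq, QuotientGroup.ker_mk', sup_eq_left.mpr] at h
  exact fun x hx => mem_subgroupOf.mpr (hE (mem_subgroupOf.mp hx))

/-- `F*(A)` itself qualifies. -/
theorem data_fs (A : Subgroup G) : Data A (fs A) :=
  ⟨le_rfl, by rw [subgroupOf_self]; exact .top, inf_le_left⟩

end Cfsg.Agent.ComponentsBender
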