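import Mathlib
import Cfsg.Prelude.Def_LocalEven
import Cfsg.Prelude.Def_Amalgam

/-!
Elementary facts about cores, omega subgroups and their behaviour under isomorphisms, used by the
local-analysis statements.
-/

set_option autoImplicit false
set_option linter.all false

namespace Cfsg.Agent.LocGroup56

open Subgroup

theorem pCore_le_sylow {p : ℕ} {G : Type*} [Group G] (P : Sylow p G) :
    Cfsg.pCore p G ≤ (P : Subgroup G) :=
  sSup_le fun N hN => by
    haveI := hN.1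
    exact IsPGroup.le_sylow_of_normal hN.2 P

theorem pCore_isPGroup (p : ℕ) (G : Type*) [Group G] : IsPGroup p ↥(Cfsg.pCore p G) := by
  obtain ⟨P⟩ := (Sylow.nonempty : Nonempty (Sylow p G))
  exact P.isPGroup'.to_le (pCore_le_sylow P)

theorem le_pCore {p : ℕ} {G : Type*} [Group G] {N : Subgroup G} (hn : N.Normal)
    (hp : IsPGroup p ↥N) : N ≤ Cfsg.pCore p G := le_sSup ⟨hn, hp⟩

theorem pCore_map_equiv (p : ℕ) {G H : Type*} [Group G] [Group H] (e : G ≃* H) :
    (Cfsg.pCore p G).map e.toMonoidHom = Cfsg.pCore p H := by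
  apply le_antisymm
  · exact le_pCore ((pCore_normal p G).map _ e.surjective) ((pCore_isPGroup p G).map _)
  · intro x hx
    have h2 : (Cfsg.pCore p H).map e.symm.toMonoidHom ≤ Cfsg.pCore p G :=
      le_pCore ((pCore_normal p H).map _ e.symm.surjective) ((pCore_isPGroup p H).map _)
    exact ⟨e.symm x, h2 ⟨x, hx, rfl⟩, e.apply_symm_apply x⟩

/-- Having characteristic `p` transfers along isomorphisms. -/
theorem charP_equiv {p : ℕ} {G H : Type*} [Group G] [Group H] (e : G ≃* H)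
    (h : Subgroup.centralizer (Cfsg.pCore p G : Set G) ≤ Cfsg.pCore p G) :
    Subgroup.centralizer (Cfsg.pCore p H : Set H) ≤ Cfsg.pCore p H := by
  intro x hx
  rw [← pCore_map_equiv p e] at hx ⊢
  refine ⟨e.symm x, h ?_, e.apply_symm_apply x⟩
  rw [SetLike.mem_coe.symm] at *
  simp only [SetLike.mem_coe, mem_centralizer_iff] at hx ⊢
  intro y hy
  apply e.injective
  simpa using hx (e y) ⟨y, hy, rfl⟩

theorem mem_normalizer_of_map_le {G : Type*} [Group G] {H : Subgroup G} {g : G}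
    (h1 : ∀ x ∈ H, g * x * g⁻¹ ∈ H) (h2 : ∀ x ∈ H, g⁻¹ * x * g ∈ H) :
    g ∈ Subgroup.normalizer (H : Set G) := by
  rw [Subgroup.mem_normalizer_iff]
  refine fun x => ⟨h1 x, fun hx => ?_⟩
  simpa [mul_assoc] using h2 _ hx

theorem le_normalizer_of_conj {G : Type*} [Group G] {H K : Subgroup G}
    (h : ∀ g ∈ K, ∀ x ∈ H, g * x * g⁻¹ ∈ H) : K ≤ Subgroup.normalizer (H : Set G) :=
  fun g hg => mem_normalizer_of_map_le (h g hg) fun x hx => by
    simpa using h g⁻¹ (inv_mem hg) x hx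

theorem conj_mem_of_mem_normalizer {G : Type*} [Group G] {H : Subgroup G} {g x : G}
    (hg : g ∈ Subgroup.normalizer (H : Set G)) (hx : x ∈ H) : g * x * g⁻¹ ∈ H :=
  ((Subgroup.mem_normalizer_iff.mp hg) x).mp hx

theorem le_normalizer_trans_map {G : Type*} [Group G] {H K : Subgroup G}
    (h : ∀ g ∈ K, H.map (MulAut.conj g).toMonoidHom = H) : K ≤ Subgroup.normalizer (H : Set G) :=
  fun g hg => Subgroup.mem_normalizer_iff_map_conj_eq.mpr (h g hg)

theorem map_inf_centralizer {G H : Type*} [Group G] [Group H] (f : G →* H)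
    (hf : Function.Injective f) (S : Subgroup G) :
    (S ⊓ Subgroup.centralizer (S : Set G)).map f =
      S.map f ⊓ Subgroup.centralizer ((S.map f : Subgroup H) : Set H) := by
  apply le_antisymm
  · rintro _ ⟨x, ⟨hxS, hxC⟩, rfl⟩
    refine ⟨⟨x, hxS, rfl⟩, mem_centralizer_iff.mpr ?_⟩
    rintro _ ⟨y, hy, rfl⟩
    rw [← map_mul, ← map_mul, (mem_centralizer_iff.mp hxC) y hy]
  · rintro _ ⟨⟨x, hxS, rfl⟩, hxC⟩
    refine ⟨x, ⟨hxS, mem_centralizer_iff.mpr ?_⟩, rfl⟩
    intro y hy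
    apply hf
    rw [map_mul, map_mul]
    exact (mem_centralizer_iff.mp hxC) (f y) ⟨y, hy, rfl⟩

theorem omegaOne_map {G H : Type*} [Group G] [Group H] (p : ℕ) (f : G →* H)
    (hf : Function.Injective f) (S : Subgroup G) :
    (Cfsg.omegaOne p S).map f = Cfsg.omegaOne p (S.map f) := by
  rw [Cfsg.omegaOne, Cfsg.omegaOne, MonoidHom.map_closure]
  congr 1
  ext y
  constructor
  · rintro ⟨x, ⟨hx, hxp⟩, rfl⟩
    exact ⟨⟨x, hx, rfl⟩, by rw [← map_pow, hxp, map_one]⟩
  · rintro ⟨⟨x, hx, rfl⟩, hxp⟩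
    exact ⟨x, ⟨hx, hf (by rw [map_pow, hxp, map_one])⟩, rfl⟩

theorem omegaOne_le {G : Type*} [Group G] (p : ℕ) (S : Subgroup G) : Cfsg.omegaOne p S ≤ S :=
  (Subgroup.closure_le _).mpr fun _ hx => hx.1

theorem mem_omegaOne {G : Type*} [Group G] {p : ℕ} {S : Subgroup G} {x : G} (hx : x ∈ S)
    (hp : x ^ p = 1) : x ∈ Cfsg.omegaOne p S := Subgroup.subset_closure ⟨hx, hp⟩

theorem omegaOne_mono {G : Type*} [Group G] (p : ℕ) {S T : Subgroup G} (h : S ≤ T) :
    Cfsg.omegaOne p S ≤ Cfsg.omegaOne p T :=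
  Subgroup.closure_mono fun _ hx => ⟨h hx.1, hx.2⟩

theorem omegaOne_ne_bot {G : Type*} [Group G] {p : ℕ} [hp : Fact p.Prime] {S : Subgroup G}
    [Finite S] (hS : IsPGroup p ↥S) (hne : S ≠ ⊥) : Cfsg.omegaOne p S ≠ ⊥ := by
  haveI : Nontrivial S := (Subgroup.nontrivial_iff_ne_bot S).mpr hne
  obtain ⟨n, hn, hc⟩ := hS.nontrivial_iff_card.mp this
  obtain ⟨x, hx⟩ := exists_prime_orderOf_dvd_card' p (G := S) (hc ▸ dvd_pow_self p hn.ne')
  intro h
  have hx1 : (x : G) ∈ Cfsg.omegaOne p S :=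
    mem_omegaOne x.2 (by rw [← SubmonoidClass.coe_pow, ← hx, pow_orderOf_eq_one]; rfl)
  rw [h, Subgroup.mem_bot] at hx1
  have : x = 1 := Subtype.ext hx1
  rw [this, orderOf_one] at hx
  exact hp.out.one_lt.ne hx

theorem pElementClosure_le {G : Type*} [Group G] (p : ℕ) (H : Subgroup G) :
    Cfsg.pElementClosure p H ≤ H := (Subgroup.closure_le _).mpr fun _ hx => hx.1

theorem le_pElementClosure {G : Type*} [Group G] {p : ℕ} [Fact p.Prime] {H P : Subgroup G}
    (hP : IsPGroup p ↥P) (hPH : P ≤ H) : P ≤ Cfsg.pElementClosure p H := fun x hx =>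
  Subgroup.subset_closure ⟨hPH hx, by
    obtain ⟨k, hk⟩ := IsPGroup.iff_orderOf.mp hP ⟨x, hx⟩
    exact ⟨k, (Subgroup.orderOf_coe _).trans hk⟩⟩

theorem pElementClosure_map {G H : Type*} [Group G] [Group H] (p : ℕ) (f : G →* H)
    (hf : Function.Injective f) (S : Subgroup G) :
    (Cfsg.pElementClosure p S).map f = Cfsg.pElementClosure p (S.map f) := by
  rw [Cfsg.pElementClosure, Cfsg.pElementClosure, MonoidHom.map_closure]
  congr 1
  ext y
  constructor
  · rintro ⟨x, ⟨hx, k, hk⟩, rfl⟩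
    exact ⟨⟨x, hx, rfl⟩, k, (orderOf_injective f hf x).trans hk⟩
  · rintro ⟨⟨x, hx, rfl⟩, k, hk⟩
    exact ⟨x, ⟨hx, k, (orderOf_injective f hf x).symm.trans hk⟩, rfl⟩

theorem map_conj_eq_self {G : Type*} [Group G] {H : Subgroup G} {g : G} (hg : g ∈ H) :
    H.map (MulAut.conj g).toMonoidHom = H :=
  Subgroup.mem_normalizer_iff_map_conj_eq.mp (Subgroup.le_normalizer hg)

theorem pElementClosure_normalized {G : Type*} [Group G] (p : ℕ) (H : Subgroup G) :
    H ≤ Subgroup.normalizer (Cfsg.pElementClosure p H : Set G) :=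
  le_normalizer_trans_map fun g hg => by
    rw [pElementClosure_map p _ (MulAut.conj g).injective, map_conj_eq_self hg]

end Cfsg.Agent.LocGroup56
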