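import Cfsg.Agent.Lib.ComponentsBender
import Cfsg.Agent.Lib.CoprimeAction
import Cfsg.Agent.Lib.CoprimeTools
import Cfsg.Agent.Lib.LocGroup56

/-! Commutators of `F*(H)` with a `p`-subgroup when `O_p(H) = 1`. -/

set_option autoImplicit false

namespace Cfsg.Agent.ComponentsCommutator

open Subgroup Cfsg
open scoped commutatorElement
open Cfsg.Agent.ComponentsBasic Cfsg.Agent.ComponentsCores Cfsg.Agent.ComponentsFitting

variable {H : Type*} [Group H] {p : ℕ}

theorem commutator_sSup_le {S : Set (Subgroup H)} {R Y : Subgroup H}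
    (hn : ∀ L ∈ S, L ≤ normalizer (R : Set H)) (h : ∀ L ∈ S, ⁅L, Y⁆ ≤ R) : ⁅sSup S, Y⁆ ≤ R := by
  rw [commutator_le]
  intro g hg x hx
  let T : Subgroup H :=
    { carrier := {g : H | g ∈ normalizer (R : Set H) ∧ ⁅g, x⁆ ∈ R}
      one_mem' := ⟨one_mem _, by simp⟩
      mul_mem' := fun {a b} ha hb => ⟨mul_mem ha.1 hb.1, by
        have : ⁅a * b, x⁆ = (a * ⁅b, x⁆ * a⁻¹) * ⁅a, x⁆ := by
          simp [commutatorElement_def, mul_assoc]
        rw [this]
        exact mul_mem (CoprimeAction.conj_mem ha.1 hb.2) ha.2⟩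
      inv_mem' := fun {a} ha => ⟨inv_mem ha.1, by
        have : ⁅a⁻¹, x⁆ = a⁻¹ * ⁅a, x⁆⁻¹ * a := by simp [commutatorElement_def, mul_assoc]
        rw [this]
        exact CoprimeAction.conj_mem' ha.1 (inv_mem ha.2)⟩ }
  exact (show sSup S ≤ T from
    sSup_le fun L hL l hl => ⟨hn L hL hl, h L hL (commutator_mem_commutator hl hx)⟩) hg |>.2

theorem comp_le_or_centralized {L M Y : Subgroup H} (hL : IsComponent L) (hM : M.IsSubnormal)
    (h : ⁅L, Y⁆ ≤ M) : L ≤ M ∨ ⁅L, Y⁆ = ⊥ := by
  refine (component_le_or_commute hL hM).imp id fun hc => ?_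
  have h1 : ⁅⁅L, Y⁆, L⁆ = ⊥ := by
    rw [← le_bot_iff, ← hc, commutator_comm L M]
    exact commutator_mono h le_rfl
  have h2 : ⁅⁅Y, L⁆, L⁆ = ⊥ := by rwa [commutator_comm Y L]
  have := commutator_commutator_eq_bot_of_rotate (H₁ := L) (H₂ := L) (H₃ := Y) h1 h2
  rwa [IsComponent.perfect hL] at this

variable [Finite H]

theorem gen_le_normalizer_component {L : Subgroup H} (hL : IsComponent L) :
    generalizedFittingSubgroup H ≤ normalizer (L : Set H) :=
  sup_le (layer_le_normalizer_component hL)
    ((commutator_eq_bot_iff_le_centralizer.mp (by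
      rw [commutator_comm]; exact component_commute_fitting hL)).trans
        (centralizer_le_normalizer _))

theorem coprime_fitting [hp : Fact p.Prime] (hO : pCore p H = ⊥) :
    (Nat.card (fittingSubgroup H)).Coprime p := by
  rw [Nat.coprime_comm, hp.out.coprime_iff_not_dvd]
  intro hd
  obtain ⟨x, hx⟩ := exists_prime_orderOf_dvd_card' p hd
  have h1 : IsPGroup p (zpowers (x : H)) :=
    IsPGroup.of_card (n := 1) (by rw [pow_one, Nat.card_zpowers, orderOf_coe, hx])
  have h2 := ComponentsBender.pGroup_le_pCore_of_le_fitting h1 (zpowers_le.mpr x.2)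
  rw [hO, le_bot_iff, zpowers_eq_bot] at h2
  rw [← orderOf_coe, h2, orderOf_one] at hx
  exact hp.out.one_lt.ne hx

theorem coprime_pGroup [Fact p.Prime] {Y N : Subgroup H} (hY : IsPGroup p Y)
    (hN : (Nat.card N).Coprime p) : (Nat.card Y).Coprime (Nat.card N) := by
  obtain ⟨n, hn⟩ := IsPGroup.iff_card.mp hY
  rw [hn]
  exact (hN.symm).pow_left n

theorem eq_bot_of_pGroup_le [Fact p.Prime] {Y N : Subgroup H} (hY : IsPGroup p Y)
    (hN : (Nat.card N).Coprime p) (hle : Y ≤ N) : Y = ⊥ := by
  have h := coprime_pGroup hY hN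
  exact card_eq_one.mp (Nat.eq_one_of_dvd_coprimes h dvd_rfl (card_dvd_of_le hle))

/-- The components not centralised by `Y`. -/
abbrev layOut (Y : Subgroup H) : Subgroup H := sSup {L : Subgroup H | IsComponent L ∧ ⁅L, Y⁆ ≠ ⊥}

theorem layOut_le_layer (Y : Subgroup H) : layOut Y ≤ layer H :=
  sSup_le fun _ hL => component_le_layer hL.1

theorem layOut_le_commutator {Y M : Subgroup H} (hM : M.IsSubnormal)
    (h : ∀ L : Subgroup H, IsComponent L → ⁅L, Y⁆ ≠ ⊥ → ⁅L, Y⁆ ≤ M) : layOut Y ≤ M :=
  sSup_le fun L hL => (comp_le_or_centralized hL.1 hM (h L hL.1 hL.2)).resolve_right hL.2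

theorem commutator_gen_le (Y : Subgroup H) :
    ⁅generalizedFittingSubgroup H, Y⁆ ≤ layOut Y ⊔ ⁅fittingSubgroup H, Y⁆ := by
  have hn : generalizedFittingSubgroup H ≤
      normalizer ((layOut Y ⊔ ⁅fittingSubgroup H, Y⁆ : Subgroup H) : Set H) := by
    refine le_trans (le_inf ?_ ?_) (normalizer_inf_normalizer_le_normalizer_sup _ _)
    · refine sup_le ?_ ?_
      · refine sSup_le fun L hL => CoprimeAction.le_normalizer_of_conj_mem fun a ha b hb => ?_
        exact (show layOut Y ≤ (layOut Y).comap (MulAut.conj a).toMonoidHom from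
          sSup_le fun L' hL' b' hb' => le_sSup hL'
            (CoprimeAction.conj_mem (component_le_normalizer hL hL'.1 ha) hb')) hb
      · exact ((commutator_eq_bot_iff_le_centralizer.mp (by
          rw [commutator_comm]; exact layer_commute_fitting)).trans
            (centralizer_le (layOut_le_layer Y))).trans (centralizer_le_normalizer _)
    · refine sup_le ?_ (normalizer_commutator_ge_left _ _)
      exact (layer_le_centralizer_fitting.trans (centralizer_le (le_normalizer_iff_commutator_le_left.mp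
        (by rw [normalizer_eq_top_iff.mpr inferInstance]; exact le_top)))).trans
          (centralizer_le_normalizer _)
  refine CoprimeTools.commutator_sup_le hn ?_ le_sup_right
  refine commutator_sSup_le (fun L hL => (component_le_gen hL).trans hn) fun L hL => ?_
  by_cases h : ⁅L, Y⁆ = ⊥
  · rw [h]; exact bot_le
  · have hLR : L ≤ layOut Y ⊔ ⁅fittingSubgroup H, Y⁆ :=
      le_sup_of_le_left (le_sSup ⟨hL, h⟩)
    rw [commutator_le]
    intro l hl y hy
    have : ⁅l, y⁆ = l * (y * l⁻¹ * y⁻¹) := by simp [commutatorElement_def, mul_assoc]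
    rw [this]
    refine mul_mem (hLR hl) (mem_sup_left ?_)
    have hL' : L.map (MulAut.conj y).toMonoidHom ≤ layOut Y := by
      refine le_sSup ⟨isComponent_conj hL y, fun h0 => h ?_⟩
      have hY : Y.map (MulAut.conj y).toMonoidHom = Y := LocGroup56.map_conj_eq_self hy
      rw [← hY, ← map_commutator] at h0
      exact (map_eq_bot_iff_of_injective _ (MulAut.conj y).injective).mp h0
    exact hL' ⟨l⁻¹, inv_mem hl, rfl⟩

section main

variable [Fact p.Prime] (hO : pCore p H = ⊥) {Y : Subgroup H} (hY : IsPGroup p Y)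
include hO hY

theorem fit_comm_comm : ⁅⁅fittingSubgroup H, Y⁆, Y⁆ = ⁅fittingSubgroup H, Y⁆ :=
  CoprimeAction.commutator_commutator_eq
    (by rw [normalizer_eq_top_iff.mpr inferInstance]; exact le_top)
    (coprime_pGroup hY (coprime_fitting hO))
    (.inl (CoprimeAction.isSolvable_of_isPGroup hY))

theorem comm_comm_eq : ⁅⁅generalizedFittingSubgroup H, Y⁆, Y⁆ =
    ⁅generalizedFittingSubgroup H, Y⁆ := by
  set X := generalizedFittingSubgroup H
  have hNX : ⁅X, Y⁆ ≤ X := CoprimeAction.commutator_le_self_of_le_normalizer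
    (by rw [normalizer_eq_top_iff.mpr inferInstance]; exact le_top)
  have hNn : X ≤ normalizer ((⁅X, Y⁆ : Subgroup H) : Set H) := normalizer_commutator_ge_left _ _
  have hMN : ⁅⁅X, Y⁆, Y⁆ ≤ ⁅X, Y⁆ :=
    CoprimeAction.commutator_le_self_of_le_normalizer (normalizer_commutator_ge_right _ _)
  have hN : (⁅X, Y⁆).IsSubnormal :=
    isSubnormal_of_le_normalizer hNX (Normal.isSubnormal inferInstance) hNn
  have hM : (⁅⁅X, Y⁆, Y⁆).IsSubnormal :=
    isSubnormal_of_le_normalizer hMN hN (normalizer_commutator_ge_left _ _)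
  refine le_antisymm hMN ((commutator_gen_le Y).trans (sup_le ?_ ?_))
  · have h1 : layOut Y ≤ ⁅X, Y⁆ := layOut_le_commutator hN fun L hL _ =>
      commutator_mono (component_le_gen hL) le_rfl
    exact layOut_le_commutator hM fun L hL hne =>
      commutator_mono ((show L ≤ layOut Y from le_sSup ⟨hL, hne⟩).trans h1) le_rfl
  · rw [← fit_comm_comm hO hY]
    exact commutator_mono (commutator_mono fitting_le_gen le_rfl) le_rfl

theorem comm_sn_eq {K : Subgroup H} (hK : K.IsSubnormal) (hYK : Y ≤ K) :
    ⁅generalizedFittingSubgroup H, Y⁆ = ⁅(generalizedFittingSubgroup K).map K.subtype, Y⁆ := by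
  set XK := (generalizedFittingSubgroup K).map K.subtype
  refine le_antisymm ?_ (commutator_mono (gen_map_subtype_le hK) le_rfl)
  have hn : Y ≤ normalizer (XK : Set H) :=
    hYK.trans (ComponentsBender.le_normalizer_map_normal K _)
  have hle : ⁅XK, Y⁆ ≤ XK := CoprimeAction.commutator_le_self_of_le_normalizer hn
  have hXK : XK.IsSubnormal := isSubnormal_map_subtype hK (Normal.isSubnormal inferInstance)
  have hM : (⁅XK, Y⁆).IsSubnormal :=
    isSubnormal_of_le_normalizer hle hXK (normalizer_commutator_ge_left _ _)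
  refine (commutator_gen_le Y).trans (sup_le ?_ ?_)
  · refine layOut_le_commutator hM fun L hL hne => ?_
    have hLK : L ≤ K := (component_le_or_commute hL hK).resolve_right fun h =>
      hne (le_bot_iff.mp (h ▸ commutator_mono le_rfl hYK))
    refine commutator_mono ?_ le_rfl
    rw [← map_subgroupOf_eq_of_le hLK]
    exact map_mono (component_le_gen (isComponent_subgroupOf hL hLK))
  · have key : ∀ {K : Subgroup H}, K.IsSubnormal → Y ≤ K → ⁅fittingSubgroup H, Y⁆ ≤ K := by
      intro K hK
      induction hK with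
      | top => exact fun _ => le_top
      | step A B h_le hSubn hN ih =>
        intro hA
        rw [← fit_comm_comm hO hY]
        exact (commutator_mono (ih (hA.trans h_le)) hA).trans
          (CoprimeAction.commutator_le_self_of_le_normalizer (A := B) (K := A)
            (le_normalizer_of_normal_subgroupOf h_le hN) |> (commutator_comm B A).trans_le)
    rw [← fit_comm_comm hO hY]
    refine commutator_mono ?_ le_rfl
    refine le_trans (le_inf (CoprimeAction.commutator_le_self_of_le_normalizer
      (by rw [normalizer_eq_top_iff.mpr inferInstance]; exact le_top)) (key hK hYK)) ?_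
    rw [← fitting_map_subtype_eq hK]
    exact map_mono fitting_le_gen

theorem eq_bot_of_centralizes {Y₀ : Subgroup H} (hle : Y₀ ≤ Y)
    (h : ⁅⁅generalizedFittingSubgroup H, Y⁆, Y₀⁆ = ⊥) : Y₀ = ⊥ := by
  have hY₀ : IsPGroup p Y₀ := hY.to_le hle
  have h1 : ⁅generalizedFittingSubgroup H, Y₀⁆ = ⊥ := by
    rw [← comm_comm_eq hO hY₀, ← le_bot_iff, ← h]
    exact commutator_mono (commutator_mono le_rfl hle) le_rfl
  refine eq_bot_of_pGroup_le hY₀ (coprime_fitting hO) ?_
  rw [commutator_comm] at h1
  exact (commutator_eq_bot_iff_le_centralizer.mp h1).trans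
    ComponentsBender.centralizer_gen_le_fitting

end main

end Cfsg.Agent.ComponentsCommutator
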