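import Cfsg.Agent.Lib.ComponentsBender
import Cfsg.Agent.Lib.HallCore

/-! The Thompson-Wielandt configuration: two subgroups controlling each other. -/

set_option autoImplicit false

namespace Cfsg.Agent.ComponentsThompsonWielandt

open Subgroup Cfsg
open scoped commutatorElement
open Cfsg.Agent.ComponentsBasic Cfsg.Agent.ComponentsCores Cfsg.Agent.ComponentsFitting
open Cfsg.Agent.ComponentsBender

variable {G : Type*} [Group G]

/-- The core of `Y` in `M`. -/
abbrev cor (M Y : Subgroup G) : Subgroup G := (Y.subgroupOf M).normalCore.map M.subtype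

theorem cor_le_left {M Y : Subgroup G} : cor M Y ≤ M := map_subtype_le _

theorem cor_le_right {M Y : Subgroup G} : cor M Y ≤ Y := by
  rintro _ ⟨y, hy, rfl⟩
  exact mem_subgroupOf.mp (normalCore_le _ hy)

theorem le_normalizer_cor {M Y : Subgroup G} : M ≤ normalizer (cor M Y : Set G) :=
  le_normalizer_map_normal M _

theorem le_cor {M Y X : Subgroup G} (hXY : X ≤ Y) (hXM : X ≤ M)
    (hn : M ≤ normalizer (X : Set G)) : X ≤ cor M Y := by
  haveI : (X.subgroupOf M).Normal := normal_subgroupOf_of_le_normalizer hn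
  rw [← map_subgroupOf_eq_of_le hXM]
  exact map_mono (normal_le_normalCore.mpr (fun x hx => hXY (mem_subgroupOf.mp hx)))

theorem component_change {X H L : Subgroup G} (hXH : X ≤ H) (hn : H ≤ normalizer (X : Set G))
    (hLX : L ≤ X) : IsComponent (L.subgroupOf X) ↔ IsComponent (L.subgroupOf H) := by
  haveI hnor : (X.subgroupOf H).Normal := normal_subgroupOf_of_le_normalizer hn
  have hle : L.subgroupOf H ≤ X.subgroupOf H := fun x hx => hLX (mem_subgroupOf.mp hx)
  rw [← isComponent_subgroupOf_iff (Normal.isSubnormal hnor) hle]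
  have e : ((L.subgroupOf H).subgroupOf (X.subgroupOf H)).map
      (subgroupOfEquivOfLe hXH).toMonoidHom = L.subgroupOf X := by
    ext x
    constructor
    · rintro ⟨y, hy, rfl⟩
      exact hy
    · intro hx
      exact ⟨(subgroupOfEquivOfLe hXH).symm x, hx, (subgroupOfEquivOfLe hXH).apply_symm_apply x⟩
  constructor
  · intro h
    have := isComponent_map_mulEquiv (subgroupOfEquivOfLe hXH).symm h
    rwa [← e, map_map, show (subgroupOfEquivOfLe hXH).symm.toMonoidHom.comp
      (subgroupOfEquivOfLe hXH).toMonoidHom = MonoidHom.id _ from MonoidHom.ext fun y =>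
        (subgroupOfEquivOfLe hXH).symm_apply_apply y, Subgroup.map_id] at this
  · exact fun h => e ▸ isComponent_map_mulEquiv (subgroupOfEquivOfLe hXH) h

theorem component_dichotomy {X H L : Subgroup G} (hXH : X ≤ H) (hn : H ≤ normalizer (X : Set G))
    (hLH : L ≤ H) (hL : IsComponent (L.subgroupOf H)) : L ≤ X ∨ ⁅L, X⁆ = ⊥ := by
  haveI : (X.subgroupOf H).Normal := normal_subgroupOf_of_le_normalizer hn
  rcases component_le_or_commute_normal hL (X.subgroupOf H) with h | h
  · exact .inl fun x hx => mem_subgroupOf.mp (h (show (⟨x, hLH hx⟩ : H) ∈ L.subgroupOf H from hx))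
  · refine .inr ?_
    have := congrArg (map H.subtype) h
    rwa [map_commutator, map_subgroupOf_eq_of_le hLH, map_subgroupOf_eq_of_le hXH,
      Subgroup.map_bot] at this

theorem not_component_centralizer {X L : Subgroup G} (hL : IsQuasisimple L)
    (hle : L ≤ X) (hc : ⁅L, X⁆ = ⊥) : False := by
  refine isQuasisimple_not_commutative hL (le_centralizer_iff_isMulCommutative.mp ?_)
  exact (commutator_eq_bot_iff_le_centralizer.mp hc).trans (centralizer_le hle)

variable [Finite G] {M₁ M₂ : Subgroup G}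

theorem component_mem {L : Subgroup M₁} (hL : IsComponent L) :
    IsComponent ((L.map M₁.subtype).subgroupOf M₁) := by
  rwa [subgroupOf, comap_map_eq_self_of_injective M₁.subtype_injective]

/-- The first step: all components lie in both first cores and `E(M₁) = E(M₂)`. -/
theorem lay_le (h1 : Ctrl M₁ M₂) (h2 : Ctrl M₂ M₁)
    (hA2 : cor M₁ (cor M₁ (M₁ ⊓ M₂) ⊓ cor M₂ (M₁ ⊓ M₂)) ≠ ⊥)
    (hB2 : cor M₂ (cor M₁ (M₁ ⊓ M₂) ⊓ cor M₂ (M₁ ⊓ M₂)) ≠ ⊥) : lay M₁ ≤ lay M₂ := by
  set A1 := cor M₁ (M₁ ⊓ M₂)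
  set B1 := cor M₂ (M₁ ⊓ M₂)
  set A2 := cor M₁ (A1 ⊓ B1)
  set B2 := cor M₂ (A1 ⊓ B1)
  have hB2A : B2 ≤ A1 := cor_le_right.trans inf_le_left
  have hA2B : A2 ≤ B1 := cor_le_right.trans inf_le_right
  have hn12 : M₁ ⊓ M₂ ≤ normalizer (B1 : Set G) := inf_le_right.trans le_normalizer_cor
  have hn11 : M₁ ⊓ M₂ ≤ normalizer (A1 : Set G) := inf_le_left.trans le_normalizer_cor
  have hcA : M₁ ⊓ centralizer (A1 : Set G) ≤ A1 := by
    refine le_cor (le_inf inf_le_left ?_) inf_le_left ?_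
    · exact (inf_le_inf_left _ (Subgroup.centralizer_le hB2A)).trans
        (h2.centralizer_le hB2 cor_le_left (hB2A.trans cor_le_left) le_normalizer_cor)
    · exact (le_inf le_normalizer (le_normalizer_cor.trans
        (normalizer_le_normalizer_centralizer _))).trans (inf_normalizer_le_normalizer_inf ..)
  have hcB : M₂ ⊓ centralizer (B1 : Set G) ≤ B1 := by
    refine le_cor (le_inf ?_ inf_le_left) inf_le_left ?_
    · exact (inf_le_inf_left _ (Subgroup.centralizer_le hA2B)).trans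
        (h1.centralizer_le hA2 cor_le_left (hA2B.trans cor_le_left) le_normalizer_cor)
    · exact (le_inf le_normalizer (le_normalizer_cor.trans
        (normalizer_le_normalizer_centralizer _))).trans (inf_normalizer_le_normalizer_inf ..)
  show (layer M₁).map M₁.subtype ≤ _
  rw [map_le_iff_le_comap]
  refine sSup_le fun L hL => ?_
  rw [← map_le_iff_le_comap]
  set L' := L.map M₁.subtype
  have hq : IsQuasisimple L' := isQuasisimple_map_of_injective _ M₁.subtype_injective hL.2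
  have hc := component_mem hL
  have hLA : L' ≤ A1 := by
    refine (component_dichotomy cor_le_left le_normalizer_cor (map_subtype_le _) hc).resolve_right
      fun h => not_component_centralizer hq ?_ h
    exact (le_inf (map_subtype_le _) (commutator_eq_bot_iff_le_centralizer.mp h)).trans hcA
  have hc12 : IsComponent (L'.subgroupOf (M₁ ⊓ M₂)) :=
    (component_change cor_le_right hn11 hLA).mp
      ((component_change cor_le_left le_normalizer_cor hLA).mpr hc)
  have hLB : L' ≤ B1 := by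
    refine (component_dichotomy cor_le_right hn12 (hLA.trans cor_le_right) hc12).resolve_right
      fun h => not_component_centralizer hq ?_ h
    exact (le_inf (hLA.trans (cor_le_right.trans inf_le_right))
      (commutator_eq_bot_iff_le_centralizer.mp h)).trans hcB
  have hc2 : IsComponent (L'.subgroupOf M₂) :=
    (component_change cor_le_left le_normalizer_cor hLB).mp
      ((component_change cor_le_right hn12 hLB).mpr hc12)
  rw [← map_subgroupOf_eq_of_le (hLB.trans cor_le_left)]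
  exact map_mono (component_le_layer hc2)

theorem lay_eq_bot (h1 : Ctrl M₁ M₂) (h2 : Ctrl M₂ M₁) (hne : M₁ ≠ M₂)
    (hA2 : cor M₁ (cor M₁ (M₁ ⊓ M₂) ⊓ cor M₂ (M₁ ⊓ M₂)) ≠ ⊥)
    (hB2 : cor M₂ (cor M₁ (M₁ ⊓ M₂) ⊓ cor M₂ (M₁ ⊓ M₂)) ≠ ⊥) : lay M₁ = ⊥ := by
  have heq : lay M₁ = lay M₂ := by
    refine le_antisymm (lay_le h1 h2 hA2 hB2) (lay_le h2 h1 ?_ ?_)
    · rwa [inf_comm M₂ M₁, inf_comm (cor M₂ (M₁ ⊓ M₂))]
    · rwa [inf_comm M₂ M₁, inf_comm (cor M₂ (M₁ ⊓ M₂))]
  by_contra hb
  have a := h1 _ hb lay_le_self (heq ▸ lay_le_self) (le_normalizer_map_normal M₁ _)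
  have b := h2 _ hb (heq ▸ lay_le_self) lay_le_self (heq ▸ le_normalizer_map_normal M₂ _)
  rw [inf_eq_left.mpr (show M₂ ≤ normalizer (lay M₁ : Set G) from
    heq ▸ le_normalizer_map_normal M₂ _)] at a
  rw [inf_eq_left.mpr (le_normalizer_map_normal M₁ _)] at b
  exact hne (le_antisymm b a)

/-- A nontrivial subgroup of `A1 ⊓ B1` normal in `M₂` gives a nilpotent one in `F(M₁)`. -/
theorem exists_leadsTo (hlay : lay M₁ = ⊥)
    (hB2 : cor M₂ (cor M₁ (M₁ ⊓ M₂) ⊓ cor M₂ (M₁ ⊓ M₂)) ≠ ⊥) :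
    ∃ Q : Subgroup G, Q ≠ ⊥ ∧ Q ≤ fit M₁ ∧ Q ≤ M₂ ∧ M₂ ≤ normalizer (Q : Set G) := by
  set A1 := cor M₁ (M₁ ⊓ M₂)
  set B1 := cor M₂ (M₁ ⊓ M₂)
  set B2 := cor M₂ (A1 ⊓ B1)
  have hB2A : B2 ≤ A1 := cor_le_right.trans inf_le_left
  have hB2M : B2 ≤ M₁ := hB2A.trans cor_le_left
  have hA1 : A1 ≤ normalizer (B2 : Set G) :=
    (cor_le_right.trans inf_le_right).trans le_normalizer_cor
  have hsn : (B2.subgroupOf M₁).IsSubnormal := by
    haveI : (A1.subgroupOf M₁).Normal := normal_subgroupOf_of_le_normalizer le_normalizer_cor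
    refine isSubnormal_of_le_normalizer (fun x hx => hB2A (mem_subgroupOf.mp hx))
      (Normal.isSubnormal inferInstance : (A1.subgroupOf M₁).IsSubnormal) ?_
    intro x hx
    rw [mem_normalizer_iff]
    intro y
    exact mem_normalizer_iff.mp (hA1 (mem_subgroupOf.mp hx)) y
  refine ⟨fit B2, ?_, ?_, (map_subtype_le _).trans cor_le_left,
    le_normalizer_cor.trans (normalizer_le_normalizer_map_subtype B2 _)⟩
  · intro h
    have hf : fittingSubgroup B2 = ⊥ := (map_eq_bot_iff_of_injective _ B2.subtype_injective).mp h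
    have hl : layer B2 = ⊥ := by
      refine layer_eq_bot_iff.mpr ?_
      rintro ⟨L, hL⟩
      have hB : IsComponent ((L.map B2.subtype).subgroupOf M₁) := by
        have h0 := isComponent_map_subtype hsn
          (isComponent_map_mulEquiv (subgroupOfEquivOfLe hB2M).symm hL)
        convert h0 using 1
        ext x
        constructor
        · intro hx
          obtain ⟨y, hy, hyx⟩ := mem_subgroupOf.mp hx
          exact ⟨(subgroupOfEquivOfLe hB2M).symm y, ⟨y, hy, rfl⟩, Subtype.ext hyx⟩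
        · rintro ⟨_, ⟨y, hy, rfl⟩, rfl⟩
          exact mem_subgroupOf.mpr ⟨y, hy, rfl⟩
      have h1 := map_mono (f := M₁.subtype) (component_le_layer hB)
      rw [map_subgroupOf_eq_of_le ((map_subtype_le _).trans hB2M),
        show (layer M₁).map M₁.subtype = ⊥ from hlay, le_bot_iff] at h1
      exact IsComponent.ne_bot hL ((map_eq_bot_iff_of_injective _ B2.subtype_injective).mp h1)
    haveI : Nontrivial B2 := (nontrivial_iff_ne_bot B2).mpr hB2
    exact gen_ne_bot (G := B2) (by rw [gen_eq_fitting_iff.mpr hl, hf])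
  · have hle : fit B2 ≤ M₁ := (map_subtype_le _).trans hB2M
    have hsn' : ((fit B2).subgroupOf M₁).IsSubnormal := by
      refine isSubnormal_of_le_normalizer (fun x hx => mem_subgroupOf.mpr (map_subtype_le (fittingSubgroup B2) (mem_subgroupOf.mp hx)))
        hsn ?_
      intro x hx
      rw [mem_normalizer_iff]
      intro y
      exact mem_normalizer_iff.mp (le_normalizer_map_normal B2 _ (mem_subgroupOf.mp hx)) y
    rw [← map_subgroupOf_eq_of_le hle]
    refine map_mono (subnormal_nilpotent_le_fitting hsn' ?_)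
    rw [Group.isNilpotent_congr (subgroupOfEquivOfLe hle)]
    exact (isNilpotent_map_subtype_iff _).mpr inferInstance

/-- Thompson-Wielandt: if both second cores are nontrivial then both `F*` are `p`-groups. -/
theorem isPGroup_gen (h1 : Ctrl M₁ M₂) (h2 : Ctrl M₂ M₁) (hne : M₁ ≠ M₂)
    (hA2 : cor M₁ (cor M₁ (M₁ ⊓ M₂) ⊓ cor M₂ (M₁ ⊓ M₂)) ≠ ⊥)
    (hB2 : cor M₂ (cor M₁ (M₁ ⊓ M₂) ⊓ cor M₂ (M₁ ⊓ M₂)) ≠ ⊥) :
    ∃ p : ℕ, p.Prime ∧ IsPGroup p (generalizedFittingSubgroup M₁) ∧
      IsPGroup p (generalizedFittingSubgroup M₂) := by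
  have hl1 := lay_eq_bot h1 h2 hne hA2 hB2
  have hA2' : cor M₁ (cor M₂ (M₂ ⊓ M₁) ⊓ cor M₁ (M₂ ⊓ M₁)) ≠ ⊥ := by
    rwa [inf_comm M₂ M₁, inf_comm (cor M₂ (M₁ ⊓ M₂))]
  have hB2' : cor M₂ (cor M₂ (M₂ ⊓ M₁) ⊓ cor M₁ (M₂ ⊓ M₁)) ≠ ⊥ := by
    rwa [inf_comm M₂ M₁, inf_comm (cor M₂ (M₁ ⊓ M₂))]
  have hl2 := lay_eq_bot h2 h1 hne.symm hB2' hA2'
  obtain ⟨Q, hQ, hQ1, hQ2, hQn⟩ := exists_leadsTo hl1 hB2
  obtain ⟨R, hR, hR2, hR1, hRn⟩ := exists_leadsTo hl2 hA2'
  have hS1 : fs M₁ ⊓ normalizer (Q : Set G) ≤ M₂ :=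
    (inf_le_inf_right _ fs_le).trans (h2 Q hQ hQ2 (hQ1.trans fit_le) hQn)
  have hS2 : fs M₂ ⊓ normalizer (R : Set G) ≤ M₁ :=
    (inf_le_inf_right _ fs_le).trans (h1 R hR hR1 (hR2.trans fit_le) hRn)
  rcases pair_main h1 h2 (data_normalizer hQ1) hS1 (data_normalizer hR2) hS2 with
    h | ⟨T, hT, hTM, hTN, hnM, hnN⟩ | h
  · exact absurd (le_bot_iff.mp (cor_le_left.trans h.le)) hA2
  · exfalso
    have a := h1 T hT hTM hTN hnM
    have b := h2 T hT hTN hTM hnN
    rw [inf_eq_left.mpr hnN] at a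
    rw [inf_eq_left.mpr hnM] at b
    exact hne (le_antisymm b a)
  · exact h

/-! ### The order bound -/

theorem card_perm_stabilizer {α : Type*} [Finite α] (a : α) :
    Nat.card (MulAction.stabilizer (Equiv.Perm α) a) = (Nat.card α - 1).factorial := by
  have h := card_mul_index (MulAction.stabilizer (Equiv.Perm α) a)
  rw [MulAction.index_stabilizer_of_transitive, Nat.card_perm] at h
  haveI : Nonempty α := ⟨a⟩
  have hpos : 0 < Nat.card α := Nat.card_pos
  obtain ⟨k, hk⟩ := Nat.exists_eq_succ_of_ne_zero hpos.ne'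
  rw [hk, Nat.factorial_succ] at h
  rw [hk, Nat.succ_sub_one]
  exact Nat.eq_of_mul_eq_mul_left (Nat.succ_pos k) (by rw [mul_comm]; exact h)

/-- The index of the second core in `M₁` divides `d! ((d-1)!)^d`. -/
theorem index_dvd {d : ℕ} (hd1 : (M₁ ⊓ M₂).relIndex M₁ = d) (hd2 : (M₁ ⊓ M₂).relIndex M₂ = d) :
    ((cor M₁ (M₁ ⊓ M₂) ⊓ cor M₂ (M₁ ⊓ M₂)).subgroupOf M₁).normalCore.index ∣ d.factorial * ((d - 1).factorial) ^ d := by
  classical
  set S := (M₁ ⊓ M₂).subgroupOf M₁
  set T := (M₁ ⊓ M₂).subgroupOf M₂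
  set A1 := cor M₁ (M₁ ⊓ M₂)
  set B1 := cor M₂ (M₁ ⊓ M₂)
  haveI := Fintype.ofFinite (M₁ ⧸ S)
  set K2 := ((A1 ⊓ B1).subgroupOf M₁).normalCore
  have hKS : K2 ≤ S.normalCore := normalCore_mono fun x hx =>
    mem_subgroupOf.mpr (cor_le_right (mem_subgroupOf.mp hx).1)
  rw [← relIndex_mul_index hKS]
  rw [mul_comm (d.factorial)]
  refine Nat.mul_dvd_mul ?_ ?_
  swap
  · rw [normalCore_eq_ker, Subgroup.index_ker, ← hd1, relIndex, index, ← Nat.card_perm]
    exact card_subgroup_dvd_card _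
  -- the kernel of the first action acts on the neighbours of the neighbours
  have hA1 : ∀ (a : S.normalCore) (c : M₁ ⧸ S), ((c.out⁻¹ * (a : M₁) * c.out : M₁) : G) ∈ A1 :=
    fun a c => mem_map_of_mem _ (by simpa using S.normalCore_normal.conj_mem _ a.2 c.out⁻¹)
  let ι : (c : M₁ ⧸ S) → (S.normalCore →* M₂) := fun c =>
    { toFun := fun a => ⟨_, (cor_le_right (hA1 a c)).2⟩
      map_one' := Subtype.ext (by simp)
      map_mul' := fun a b => Subtype.ext (by simp [mul_assoc]) }
  let e : M₂ ⧸ T := QuotientGroup.mk 1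
  let f : (c : M₁ ⧸ S) → (S.normalCore →* MulAction.stabilizer (Equiv.Perm (M₂ ⧸ T)) e) := fun c =>
    ((MulAction.toPermHom M₂ (M₂ ⧸ T)).comp (ι c)).codRestrict _ (fun a => by
      rw [MulAction.mem_stabilizer_iff]
      show ((ι c a) * 1 : M₂) = (QuotientGroup.mk 1 : M₂ ⧸ T)
      rw [QuotientGroup.eq, mul_one, mul_one, T.inv_mem_iff]
      exact mem_subgroupOf.mpr (cor_le_right (hA1 a c)))
  have hker : (Pi.monoidHom f).ker ≤ K2.subgroupOf S.normalCore := by
    intro a ha
    replace ha : Pi.monoidHom f a = 1 := ha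
    have hB : ∀ c : M₁ ⧸ S, ((c.out⁻¹ * (a : M₁) * c.out : M₁) : G) ∈ B1 := by
      intro c
      have h : (MulAction.toPermHom M₂ (M₂ ⧸ T)) (ι c a) = 1 :=
        congrArg Subtype.val (congrFun ha c)
      have h' : ι c a ∈ (MulAction.toPermHom M₂ (M₂ ⧸ T)).ker := h
      rw [← normalCore_eq_ker] at h'
      exact mem_map_of_mem _ h'
    have hmem : (a : M₁) ∈ ((A1 ⊓ B1).subgroupOf M₁).normalCore := by
      intro m
      rw [mem_subgroupOf]
      refine ⟨mem_map_of_mem _ (S.normalCore_normal.conj_mem _ a.2 m), ?_⟩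
      obtain ⟨s, hs⟩ := QuotientGroup.mk_out_eq_mul S m⁻¹
      have h1 := hB (QuotientGroup.mk m⁻¹)
      rw [hs] at h1
      have hn : ((s : M₁) : G) ∈ normalizer (B1 : Set G) :=
        le_normalizer_cor ((mem_subgroupOf.mp s.2).2)
      have h2 := (mem_normalizer_iff.mp hn _).mp h1
      simpa [mul_assoc] using h2
    exact mem_subgroupOf.mpr hmem
  refine ((index_dvd_of_le hker).trans (dvd_of_eq (Subgroup.index_ker _))).trans
    ((card_subgroup_dvd_card _).trans ?_)
  rw [Nat.card_pi, Finset.prod_congr rfl fun c _ => card_perm_stabilizer e, Finset.prod_const,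
    Finset.card_univ, ← Nat.card_eq_fintype_card, ← index, ← index]
  rw [show T.index = d from hd2, show S.index = d from hd1]

/-- If the second core is trivial the order of `M₁` divides `d! ((d-1)!)^d`. -/
theorem card_dvd {d : ℕ} (hd1 : (M₁ ⊓ M₂).relIndex M₁ = d) (hd2 : (M₁ ⊓ M₂).relIndex M₂ = d)
    (hA2 : cor M₁ (cor M₁ (M₁ ⊓ M₂) ⊓ cor M₂ (M₁ ⊓ M₂)) = ⊥) :
    Nat.card M₁ ∣ d.factorial * ((d - 1).factorial) ^ d := by
  have h := index_dvd hd1 hd2
  rwa [(map_eq_bot_iff_of_injective _ M₁.subtype_injective).mp hA2, index_bot] at h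

theorem ctrl_of_isCoatom_core {M : Subgroup G} (hM : IsCoatom M) (hc : M.normalCore = ⊥)
    (B : Subgroup G) : Ctrl M B := by
  intro T hne hTM _ hn
  rcases hn.lt_or_eq with h | h
  · exfalso
    haveI : T.Normal := normalizer_eq_top_iff.mp (hM.2 _ h)
    exact hne (le_bot_iff.mp (hc ▸ normal_le_normalCore.mpr hTM))
  · exact inf_le_right.trans h.ge

/-- The order bound for conjugate maximal subgroups when one second core is trivial. -/
theorem card_dvd_of_conj {d : ℕ} {g : G} (hconj : M₂ = M₁.map (MulAut.conj g).toMonoidHom)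
    (hd : (M₁ ⊓ M₂).relIndex M₁ = d)
    (h : cor M₁ (cor M₁ (M₁ ⊓ M₂) ⊓ cor M₂ (M₁ ⊓ M₂)) = ⊥ ∨
      cor M₂ (cor M₁ (M₁ ⊓ M₂) ⊓ cor M₂ (M₁ ⊓ M₂)) = ⊥) :
    Nat.card M₁ ∣ d.factorial * ((d - 1).factorial) ^ d := by
  have hc : Nat.card M₂ = Nat.card M₁ := by
    rw [hconj, card_map_of_injective (MulAut.conj g).injective]
  have hd2 : (M₁ ⊓ M₂).relIndex M₂ = d := by
    have e1 := card_mul_index ((M₁ ⊓ M₂).subgroupOf M₁)
    have e2 := card_mul_index ((M₁ ⊓ M₂).subgroupOf M₂)
    rw [Nat.card_congr (subgroupOfEquivOfLe (inf_le_left : M₁ ⊓ M₂ ≤ M₁)).toEquiv] at e1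
    rw [Nat.card_congr (subgroupOfEquivOfLe (inf_le_right : M₁ ⊓ M₂ ≤ M₂)).toEquiv, hc, ← e1] at e2
    rw [← hd]
    exact Nat.eq_of_mul_eq_mul_left Nat.card_pos e2
  rcases h with h | h
  · exact card_dvd hd hd2 h
  · rw [← hc]
    refine card_dvd (M₁ := M₂) (M₂ := M₁) ?_ ?_ ?_
    · rw [inf_comm]; exact hd2
    · rw [inf_comm]; exact hd
    · rwa [inf_comm M₂ M₁, inf_comm (cor M₂ (M₁ ⊓ M₂))]

theorem le_core_of_normalized {p : ℕ} {A X : Subgroup G} (hXA : X ≤ A) (hX : IsPGroup p X)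
    (hn : A ≤ normalizer (X : Set G)) : X ≤ ComponentsBender.core p A := by
  haveI : (X.subgroupOf A).Normal := normal_subgroupOf_of_le_normalizer hn
  rw [← map_subgroupOf_eq_of_le hXA]
  exact map_mono (le_pCore' (hX.of_equiv (subgroupOfEquivOfLe hXA).symm))

/-- A normal `p`-subgroup of the intersection lying in the first core is trivial. -/
theorem core_inf_eq_bot {p : ℕ} [Fact p.Prime] {g : G}
    (h1 : Ctrl M₁ M₂) (h2 : Ctrl M₂ M₁) (hne : M₁ ≠ M₂)
    (hconj : M₂ = M₁.map (MulAut.conj g).toMonoidHom)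
    (hP : ComponentsBender.core p (M₁ ⊓ M₂) ≤ cor M₁ (M₁ ⊓ M₂)) :
    ComponentsBender.core p (M₁ ⊓ M₂) = ⊥ := by
  set P := ComponentsBender.core p (M₁ ⊓ M₂)
  set A1 := cor M₁ (M₁ ⊓ M₂)
  set Q1 := ComponentsBender.core p M₁
  set Q2 := ComponentsBender.core p M₂
  by_contra hbot
  have hPM : P ≤ M₁ := hP.trans cor_le_left
  have hPQ : P ≤ Q1 := by
    haveI : (A1.subgroupOf M₁).Normal := normal_subgroupOf_of_le_normalizer le_normalizer_cor
    have hsn : (P.subgroupOf M₁).IsSubnormal := by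
      refine isSubnormal_of_le_normalizer (fun x hx => mem_subgroupOf.mpr (hP (mem_subgroupOf.mp hx)))
        (Normal.isSubnormal inferInstance : (A1.subgroupOf M₁).IsSubnormal) ?_
      intro x hx
      rw [mem_normalizer_iff]
      intro y
      exact mem_normalizer_iff.mp
        (le_normalizer_map_normal (M₁ ⊓ M₂) _ (cor_le_right (mem_subgroupOf.mp hx))) y
    rw [← map_subgroupOf_eq_of_le hPM]
    exact map_mono (subnormal_pGroup_le_pCore hsn
      ((isPGroup_core p).of_equiv (subgroupOfEquivOfLe hPM).symm))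
  have hnP : M₁ ≤ normalizer (P : Set G) := by
    have heq : P = Q1 ⊓ A1 := by
      refine le_antisymm (le_inf hPQ hP) (le_core_of_normalized (inf_le_right.trans cor_le_right)
        ((isPGroup_core p).to_le inf_le_left) ?_)
      exact inf_le_left.trans ((le_inf (le_normalizer_map_normal M₁ _) le_normalizer_cor).trans
        (inf_normalizer_le_normalizer_inf ..))
    rw [heq]
    exact (le_inf (le_normalizer_map_normal M₁ _) le_normalizer_cor).trans
      (inf_normalizer_le_normalizer_inf ..)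
  have hQ2P : Q2 ⊓ M₁ ≤ P := le_core_of_normalized
    (le_inf inf_le_right (inf_le_left.trans core_le)) ((isPGroup_core p).to_le inf_le_left)
    ((le_inf (inf_le_right.trans (le_normalizer_map_normal M₂ _))
      (inf_le_left.trans le_normalizer)).trans (inf_normalizer_le_normalizer_inf ..))
  have hPN : P ≤ normalizer (Q2 : Set G) :=
    ((map_subtype_le _).trans inf_le_right).trans (le_normalizer_map_normal M₂ _)
  have hcard : Nat.card Q2 = Nat.card Q1 := by
    let e : M₁ ≃* M₂ := (M₁.equivMapOfInjective (MulAut.conj g).toMonoidHom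
      (MulAut.conj g).injective).trans (MulEquiv.subgroupCongr hconj.symm)
    show Nat.card ((pCore p M₂).map M₂.subtype) = Nat.card ((pCore p M₁).map M₁.subtype)
    rw [card_map_of_injective M₂.subtype_injective, card_map_of_injective M₁.subtype_injective,
      ← pCore_map_mulEquiv e p]
    exact card_map_of_injective e.injective
  by_cases hle : Q2 ≤ P
  · have heq : Q2 = Q1 := eq_of_le_of_card_ge (hle.trans hPQ) hcard.ge
    have hQ : Q1 ≠ ⊥ := fun h => hbot (le_bot_iff.mp (hPQ.trans h.le))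
    have a := h1 Q1 hQ core_le (heq ▸ core_le) (le_normalizer_map_normal M₁ _)
    have b := h2 Q1 hQ (heq ▸ core_le) core_le (heq ▸ le_normalizer_map_normal M₂ _)
    rw [inf_eq_left.mpr (show M₂ ≤ normalizer (Q1 : Set G) from
      heq ▸ le_normalizer_map_normal M₂ _)] at a
    rw [inf_eq_left.mpr (le_normalizer_map_normal M₁ _)] at b
    exact hne (le_antisymm b a)
  · set R := Q2 ⊔ P
    have hR : IsPGroup p R :=
      (isPGroup_core (A := M₂) p).to_sup_of_normal_left' (isPGroup_core p) hPN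
    haveI := hR.isNilpotent
    have hlt : P.subgroupOf R < ⊤ := lt_top_iff_ne_top.mpr fun h =>
      hle (le_sup_left.trans (subgroupOf_eq_top.mp h))
    obtain ⟨⟨r, hrR⟩, hrn, hrP⟩ :=
      SetLike.exists_of_lt (Group.normalizerCondition_of_isNilpotent _ hlt)
    have hrP' : r ∉ P := fun h => hrP (mem_subgroupOf.mpr h)
    have hr : r ∈ normalizer (P : Set G) := by
      rw [mem_normalizer_iff]
      intro y
      constructor
      · intro hy
        exact mem_subgroupOf.mp ((mem_normalizer_iff.mp hrn ⟨y, mem_sup_right hy⟩).mp hy)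
      · intro hy
        have hyR : y ∈ R := by
          have := R.mul_mem (R.mul_mem (R.inv_mem hrR) (mem_sup_right hy)) hrR
          simpa [mul_assoc] using this
        exact mem_subgroupOf.mp ((mem_normalizer_iff.mp hrn ⟨y, hyR⟩).mpr hy)
    have hrM : r ∈ M₁ := h1 P hbot hPM ((map_subtype_le _).trans inf_le_right) hnP
      ⟨(sup_le core_le ((map_subtype_le _).trans inf_le_right) : R ≤ M₂) hrR, hr⟩
    have h' : r ∈ ((Q2 ⊔ P : Subgroup G) : Set G) := hrR
    rw [coe_mul_of_right_le_normalizer_left _ _ hPN] at h'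
    obtain ⟨q, hq, u, hu, rfl⟩ := h'
    have hqM : q ∈ M₁ := by simpa using M₁.mul_mem hrM (M₁.inv_mem (hPM hu))
    exact hrP' (P.mul_mem (hQ2P ⟨hq, hqM⟩) hu)

/-- A subnormal subgroup generated by elements of order prime to `p` is normalised by every normal
`p`-subgroup. -/
theorem normalizes_residual {p : ℕ} [Fact p.Prime] {H N : Subgroup G} {T : Set G}
    (hXH : closure T ≤ H) (hsn : ((closure T).subgroupOf H).IsSubnormal) (hNH : N ≤ H)
    (hn : H ≤ normalizer (N : Set G)) (hN : IsPGroup p N)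
    (hco : ∀ x ∈ T, (orderOf x).Coprime p) : N ≤ normalizer (closure T : Set G) := by
  set X := closure T
  set J := X ⊔ N
  have hJH : J ≤ H := sup_le hXH hNH
  set S := X.subgroupOf J
  have hS : S.IsSubnormal := by
    have h := hsn.comap (inclusion hJH)
    exact h
  obtain ⟨k, hk⟩ := IsPGroup.iff_card.mp hN
  have hidx : S.index ∣ p ^ k := by
    rw [← hk]
    show X.relIndex J ∣ _
    have h1 : Nat.card ↥J ∣ Nat.card X * Nat.card N := by
      haveI : (N.subgroupOf H).Normal := normal_subgroupOf_of_le_normalizer hn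
      have h2 := HallCore.card_sup_dvd (X.subgroupOf H) (N.subgroupOf H)
      rw [← subgroupOf_sup hXH hNH, Nat.card_congr (subgroupOfEquivOfLe hJH).toEquiv,
        Nat.card_congr (subgroupOfEquivOfLe hXH).toEquiv,
        Nat.card_congr (subgroupOfEquivOfLe hNH).toEquiv] at h2
      exact h2
    rw [← HallCore.card_mul_relIndex (le_sup_left : X ≤ J)] at h1
    exact (Nat.mul_dvd_mul_iff_left Nat.card_pos).mp h1
  have key : ∀ R : Subgroup J, R.IsSubnormal → R.index ∣ p ^ k →
      ∀ x : J, (orderOf x).Coprime p → x ∈ R := by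
    intro R hR
    induction hR with
    | top => exact fun _ x _ => trivial
    | step A B h_le hSubn hAB ih =>
      intro hd x hx
      rw [← relIndex_mul_index h_le] at hd
      have hxB := ih (dvd_of_mul_left_dvd hd) x hx
      haveI := hAB
      have h1 : orderOf (QuotientGroup.mk' (A.subgroupOf B) ⟨x, hxB⟩) ∣ orderOf x :=
        (orderOf_map_dvd _ _).trans (by rw [orderOf_mk])
      have h2 : orderOf (QuotientGroup.mk' (A.subgroupOf B) ⟨x, hxB⟩) ∣ p ^ k :=
        (_root_.orderOf_dvd_natCard _).trans (dvd_of_mul_right_dvd hd)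
      have h3 := Nat.dvd_gcd h1 h2
      rw [Nat.Coprime.gcd_eq_one (hx.pow_right k), Nat.dvd_one, orderOf_eq_one_iff] at h3
      exact mem_subgroupOf.mp ((QuotientGroup.eq_one_iff _).mp h3)
  have hconj : ∀ g ∈ J, ∀ x ∈ X, g * x * g⁻¹ ∈ X := by
    intro g hg x hx
    have h2 : X ≤ X.comap (MulAut.conj g).toMonoidHom := by
      refine (closure_le _).mpr fun y hy => mem_comap.mpr ?_
      have hyJ : g * y * g⁻¹ ∈ J :=
        J.mul_mem (J.mul_mem hg (mem_sup_left (subset_closure hy))) (J.inv_mem hg)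
      have hc : (orderOf (⟨g * y * g⁻¹, hyJ⟩ : J)).Coprime p := by
        rw [orderOf_mk, show g * y * g⁻¹ = MulAut.conj g y from rfl, MulEquiv.orderOf_eq]
        exact hco y hy
      exact mem_subgroupOf.mp (key S hS hidx _ hc)
    simpa using h2 hx
  intro g hg
  rw [mem_normalizer_iff]
  intro x
  refine ⟨hconj g (mem_sup_right hg) x, fun hx => ?_⟩
  simpa [mul_assoc] using hconj g⁻¹ (J.inv_mem (mem_sup_right hg)) _ hx

theorem fs_isPGroup_of_normal {p : ℕ} {A M : Subgroup G} (hAM : A ≤ M)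
    (hn : M ≤ normalizer (A : Set G)) (h : IsPGroup p (generalizedFittingSubgroup M)) :
    IsPGroup p (generalizedFittingSubgroup A) := by
  haveI : (A.subgroupOf M).Normal := normal_subgroupOf_of_le_normalizer hn
  have h2 := h.to_le (gen_map_subtype_le
    (Normal.isSubnormal inferInstance : (A.subgroupOf M).IsSubnormal))
  have h3 := (h2.of_equiv ((generalizedFittingSubgroup (A.subgroupOf M)).equivMapOfInjective _
    (A.subgroupOf M).subtype_injective).symm).map (subgroupOfEquivOfLe hAM).toMonoidHom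
  rwa [gen_map_mulEquiv] at h3

/-- With both second cores nontrivial the second core of `M₁` is a `p`-group. -/
theorem isPGroup_cor {p : ℕ} [Fact p.Prime] {g : G} (h1 : Ctrl M₁ M₂) (h2 : Ctrl M₂ M₁)
    (hne : M₁ ≠ M₂) (hconj : M₂ = M₁.map (MulAut.conj g).toMonoidHom)
    (hgen : IsPGroup p (generalizedFittingSubgroup M₁))
    (hA2 : cor M₁ (cor M₁ (M₁ ⊓ M₂) ⊓ cor M₂ (M₁ ⊓ M₂)) ≠ ⊥) :
    IsPGroup p (cor M₁ (cor M₁ (M₁ ⊓ M₂) ⊓ cor M₂ (M₁ ⊓ M₂))) := by
  set B1 := cor M₂ (M₁ ⊓ M₂)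
  set A2 := cor M₁ (cor M₁ (M₁ ⊓ M₂) ⊓ B1)
  by_contra hnp
  set T : Set G := {x | x ∈ A2 ∧ (orderOf x).Coprime p}
  set Y := closure T
  have hYA : Y ≤ A2 := (closure_le _).mpr fun x hx => hx.1
  have hYne : Y ≠ ⊥ := by
    intro hY
    refine hnp fun x => ?_
    obtain ⟨a, m, hm, hxm⟩ :=
      Nat.exists_eq_pow_mul_and_not_dvd (orderOf_pos x).ne' p (Fact.out : p.Prime).ne_one
    refine ⟨a, ?_⟩
    have h : ((x ^ p ^ a : A2) : G) ∈ Y := by
      refine subset_closure ⟨(x ^ p ^ a).2, ?_⟩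
      rw [orderOf_coe, orderOf_pow_of_dvd (pow_pos (Fact.out : p.Prime).pos a).ne'
        (hxm ▸ dvd_mul_right _ _), hxm, Nat.mul_div_cancel_left _ (pow_pos (Fact.out : p.Prime).pos a)]
      exact Nat.Coprime.symm ((Fact.out : p.Prime).coprime_iff_not_dvd.mpr hm)
    rw [hY, mem_bot] at h
    exact Subtype.ext h
  have hYn : M₁ ≤ normalizer (Y : Set G) := by
    have key : ∀ m ∈ M₁, ∀ x ∈ Y, m * x * m⁻¹ ∈ Y := by
      intro m hm x hx
      have hle : Y ≤ Y.comap (MulAut.conj m).toMonoidHom := by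
        refine (closure_le _).mpr fun y hy => mem_comap.mpr (subset_closure ⟨?_, ?_⟩)
        · exact (mem_normalizer_iff.mp (le_normalizer_cor hm) y).mp hy.1
        · rw [MulEquiv.coe_toMonoidHom, MulEquiv.orderOf_eq]; exact hy.2
      simpa using hle hx
    intro m hm
    rw [mem_normalizer_iff]
    refine fun x => ⟨key m hm x, fun hx => ?_⟩
    simpa [mul_assoc] using key m⁻¹ (M₁.inv_mem hm) _ hx
  have hYM : Y ≤ M₁ := hYA.trans cor_le_left
  have hYB : Y ≤ B1 := hYA.trans (cor_le_right.trans inf_le_right)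
  set P := ComponentsBender.core p (M₁ ⊓ M₂)
  have hPB : P ≤ B1 := by
    intro u hu
    have huM : u ∈ M₂ := (map_subtype_le _ hu : u ∈ M₁ ⊓ M₂).2
    refine ⟨⟨u, huM⟩, fun m => ?_, rfl⟩
    rw [mem_subgroupOf]
    refine ⟨?_, M₂.mul_mem (M₂.mul_mem m.2 huM) (M₂.inv_mem m.2)⟩
    set c := MulAut.conj (m : G)⁻¹
    have hXeq : Y.map c.toMonoidHom = closure (c '' T) := MonoidHom.map_closure _ _
    have hXB : Y.map c.toMonoidHom ≤ B1 := by
      rintro _ ⟨y, hy, rfl⟩
      show (m : G)⁻¹ * y * (m : G)⁻¹⁻¹ ∈ B1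
      exact (mem_normalizer_iff.mp (le_normalizer_cor (M₂.inv_mem m.2)) y).mp (hYB hy)
    have hXn : B1 ≤ normalizer (Y.map c.toMonoidHom : Set G) := by
      intro y hy
      have hy' : (m : G) * y * (m : G)⁻¹ ∈ M₁ :=
        (cor_le_right ((mem_normalizer_iff.mp (le_normalizer_cor m.2) y).mp hy) :
          _ ∈ M₁ ⊓ M₂).1
      have h := le_normalizer_map c.toMonoidHom (mem_map_of_mem c.toMonoidHom (hYn hy'))
      simpa [c, mul_assoc] using h
    haveI : (B1.subgroupOf (M₁ ⊓ M₂)).Normal :=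
      normal_subgroupOf_of_le_normalizer (inf_le_right.trans le_normalizer_cor)
    have hsn : ((Y.map c.toMonoidHom).subgroupOf (M₁ ⊓ M₂)).IsSubnormal := by
      refine isSubnormal_of_le_normalizer (fun x hx => mem_subgroupOf.mpr (hXB (mem_subgroupOf.mp hx)))
        (Normal.isSubnormal inferInstance : (B1.subgroupOf (M₁ ⊓ M₂)).IsSubnormal) ?_
      intro x hx
      rw [mem_normalizer_iff]
      intro y
      exact mem_normalizer_iff.mp (hXn (mem_subgroupOf.mp hx)) y
    have hN := normalizes_residual (p := p) (T := c '' T) (N := P) (hXeq ▸ hXB.trans cor_le_right)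
      (hXeq ▸ hsn) (map_subtype_le _) (le_normalizer_map_normal _ _) (isPGroup_core p) (by
        rintro _ ⟨y, hy, rfl⟩
        rw [MulEquiv.orderOf_eq]; exact hy.2) hu
    rw [← hXeq] at hN
    have hN' : (m : G) * u * (m : G)⁻¹ ∈ normalizer (Y : Set G) := by
      have h := le_normalizer_map c.symm.toMonoidHom (mem_map_of_mem c.symm.toMonoidHom hN)
      rw [map_map, show c.symm.toMonoidHom.comp c.toMonoidHom = MonoidHom.id G from
        MonoidHom.ext fun z => c.symm_apply_apply z, Subgroup.map_id] at h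
      simpa [c, mul_assoc] using h
    exact h1 Y hYne hYM (hYB.trans cor_le_left) hYn
      ⟨M₂.mul_mem (M₂.mul_mem m.2 huM) (M₂.inv_mem m.2), hN'⟩
  have hPbot : P = ⊥ := by
    have hconj' : M₁ = M₂.map (MulAut.conj g⁻¹).toMonoidHom := by
      rw [hconj, map_map, show (MulAut.conj g⁻¹).toMonoidHom.comp (MulAut.conj g).toMonoidHom =
        MonoidHom.id G from MonoidHom.ext fun z => by simp [mul_assoc], Subgroup.map_id]
    have h := core_inf_eq_bot (p := p) (M₁ := M₂) (M₂ := M₁) h2 h1 hne.symm hconj'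
      (by rw [inf_comm M₂ M₁]; exact hPB)
    rwa [inf_comm M₂ M₁] at h
  haveI : Nontrivial A2 := (nontrivial_iff_ne_bot A2).mpr hA2
  refine gen_ne_bot (G := A2) ((map_eq_bot_iff_of_injective _ A2.subtype_injective).mp ?_)
  rw [← le_bot_iff, ← hPbot]
  refine le_core_of_normalized (((map_subtype_le _).trans cor_le_right).trans
    (inf_le_left.trans cor_le_right))
    ((fs_isPGroup_of_normal cor_le_left le_normalizer_cor hgen).map _)
    ((inf_le_left.trans le_normalizer_cor).trans (normalizer_le_normalizer_map_subtype A2 _))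

end Cfsg.Agent.ComponentsThompsonWielandt
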