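import Mathlib
import Cfsg.Prelude.Def_ConjugacyFunctors

/-!
Conjugacy functors: conjugation bookkeeping, Sylow subgroups of subgroups in the `relIndex` form,
fully normalised and well placed subgroups, and the induction that reduces a statement about fusion
in a Sylow subgroup to normalisers of subgroups.
-/

set_option autoImplicit false

open Subgroup

namespace Cfsg.Agent.ConjFunctorBasic

variable {G : Type*} [Group G]

/-- The conjugate `g A g⁻¹`. -/
abbrev cmap (g : G) (A : Subgroup G) : Subgroup G := A.map (MulAut.conj g).toMonoidHom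

theorem mem_cmap {g x : G} {A : Subgroup G} : x ∈ cmap g A ↔ g⁻¹ * x * g ∈ A := by
  constructor
  · rintro ⟨y, hy, rfl⟩
    simpa [mul_assoc] using hy
  · intro h
    exact ⟨_, h, by simp [mul_assoc]⟩

theorem conj_mem_cmap {g x : G} {A : Subgroup G} (hx : x ∈ A) : g * x * g⁻¹ ∈ cmap g A :=
  mem_cmap.mpr (by simpa [mul_assoc] using hx)

theorem cmap_one (A : Subgroup G) : cmap 1 A = A := by
  ext x; simp [mem_cmap]

theorem cmap_mul (g h : G) (A : Subgroup G) : cmap (g * h) A = cmap g (cmap h A) := by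
  ext x; simp [mem_cmap, mul_assoc]

theorem cmap_inv_cmap (g : G) (A : Subgroup G) : cmap g⁻¹ (cmap g A) = A := by
  rw [← cmap_mul, inv_mul_cancel, cmap_one]

theorem cmap_cmap_inv (g : G) (A : Subgroup G) : cmap g (cmap g⁻¹ A) = A := by
  rw [← cmap_mul, mul_inv_cancel, cmap_one]

theorem cmap_mono (g : G) {A B : Subgroup G} (h : A ≤ B) : cmap g A ≤ cmap g B := Subgroup.map_mono h

theorem cmap_le_iff {g : G} {A B : Subgroup G} : cmap g A ≤ B ↔ ∀ x ∈ A, g * x * g⁻¹ ∈ B := by
  constructor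
  · intro h x hx; exact h (conj_mem_cmap hx)
  · rintro h x ⟨y, hy, rfl⟩; exact h y hy

theorem cmap_bot (g : G) : cmap g (⊥ : Subgroup G) = ⊥ := Subgroup.map_bot _

theorem cmap_eq_bot {g : G} {A : Subgroup G} : cmap g A = ⊥ ↔ A = ⊥ :=
  map_eq_bot_iff_of_injective _ (MulAut.conj g).injective

theorem card_cmap (g : G) (A : Subgroup G) : Nat.card (cmap g A) = Nat.card A :=
  Nat.card_congr (A.equivMapOfInjective _ (MulAut.conj g).injective).toEquiv.symm

theorem cmap_inf (g : G) (A B : Subgroup G) : cmap g (A ⊓ B) = cmap g A ⊓ cmap g B :=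
  Subgroup.map_inf _ _ _ (MulAut.conj g).injective

theorem isPGroup_cmap {p : ℕ} {g : G} {A : Subgroup G} (h : IsPGroup p A) : IsPGroup p (cmap g A) :=
  h.map _

theorem isPGroup_mono {p : ℕ} {A B : Subgroup G} (h : IsPGroup p B) (hAB : A ≤ B) : IsPGroup p A :=
  h.to_le hAB

theorem mem_normalizer_iff_cmap [Finite G] {g : G} {A : Subgroup G} :
    g ∈ normalizer (A : Set G) ↔ cmap g A = A := by
  constructor
  · intro hg
    ext x
    rw [mem_cmap, mem_normalizer_iff.mp hg (g⁻¹ * x * g)]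
    simp [mul_assoc]
  · intro h
    rw [mem_normalizer_iff]
    intro x
    constructor
    · intro hx; rw [← h]; exact conj_mem_cmap hx
    · intro hx; rw [← h, mem_cmap] at hx; simpa [mul_assoc] using hx

theorem mem_normalizer_of_cmap_le [Finite G] {g : G} {A : Subgroup G} (h : cmap g A ≤ A) :
    g ∈ normalizer (A : Set G) :=
  mem_normalizer_iff_cmap.mpr (eq_of_le_of_card_ge h (card_cmap g A).ge)

theorem cmap_normalizer (g : G) (A : Subgroup G) :
    cmap g (normalizer (A : Set G)) = normalizer ((cmap g A : Subgroup G) : Set G) :=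
  map_equiv_normalizer_eq A (MulAut.conj g)

/-! ### Sylow subgroups of subgroups -/

/-- `T` is a `p`-subgroup of `H` of index prime to `p`. -/
def IsSylowIn (p : ℕ) (T H : Subgroup G) : Prop :=
  T ≤ H ∧ IsPGroup p T ∧ ¬ p ∣ T.relIndex H

variable [Finite G] {p : ℕ} [Fact p.Prime]

/-- The Sylow subgroup of `H` given by `T`. -/
noncomputable def IsSylowIn.toSylow {T H : Subgroup G} (h : IsSylowIn p T H) : Sylow p H :=
  IsPGroup.toSylow (P := T.subgroupOf H) h.2.1.comap_subtype h.2.2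

theorem IsSylowIn.map_toSylow {T H : Subgroup G} (h : IsSylowIn p T H) :
    (h.toSylow : Subgroup H).map H.subtype = T := by
  show (T.subgroupOf H).map H.subtype = T
  exact map_subgroupOf_eq_of_le h.1

theorem isSylowIn_of_sylow {H : Subgroup G} (P : Sylow p H) :
    IsSylowIn p ((P : Subgroup H).map H.subtype) H := by
  refine ⟨map_subtype_le _, P.isPGroup'.map _, ?_⟩
  rw [relIndex, ← comap_subtype, comap_map_eq_self_of_injective H.subtype_injective]
  exact P.not_dvd_index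

theorem isSylowIn_top (S : Sylow p G) : IsSylowIn p (S : Subgroup G) ⊤ :=
  ⟨le_top, S.isPGroup', by rw [relIndex_top_right]; exact S.not_dvd_index⟩

theorem exists_isSylowIn (p : ℕ) [Fact p.Prime] {Q H : Subgroup G} (hQ : IsPGroup p Q) (hQH : Q ≤ H) :
    ∃ T, IsSylowIn p T H ∧ Q ≤ T := by
  obtain ⟨P, hP⟩ := (hQ.comap_subtype : IsPGroup p (Q.subgroupOf H)).exists_le_sylow
  exact ⟨_, isSylowIn_of_sylow P, (map_subgroupOf_eq_of_le hQH).ge.trans (Subgroup.map_mono hP)⟩

theorem IsSylowIn.exists_conj_le {T H Q : Subgroup G} (h : IsSylowIn p T H) (hQ : IsPGroup p Q)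
    (hQH : Q ≤ H) : ∃ x ∈ H, cmap x Q ≤ T := by
  obtain ⟨P, hP⟩ := (hQ.comap_subtype : IsPGroup p (Q.subgroupOf H)).exists_le_sylow
  obtain ⟨k, hk⟩ := MulAction.exists_smul_eq H P h.toSylow
  refine ⟨k, k.2, cmap_le_iff.mpr fun x hx => ?_⟩
  have hx' : (⟨x, hQH hx⟩ : H) ∈ (P : Subgroup H) := hP (mem_subgroupOf.mpr hx)
  have : k * ⟨x, hQH hx⟩ * k⁻¹ ∈ (h.toSylow : Subgroup H) := by
    rw [← hk, Sylow.coe_subgroup_smul]
    exact Subgroup.mem_pointwise_smul_iff_inv_smul_mem.mpr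
      (by simpa [MulAut.smul_def, mul_assoc] using hx')
  rw [← h.map_toSylow]
  exact ⟨_, this, rfl⟩

theorem IsSylowIn.card_le {T H Q : Subgroup G} (h : IsSylowIn p T H) (hQ : IsPGroup p Q)
    (hQH : Q ≤ H) : Nat.card Q ≤ Nat.card T := by
  obtain ⟨x, -, hx⟩ := h.exists_conj_le hQ hQH
  exact (card_cmap x Q).ge.trans (Subgroup.card_le_of_le hx)

theorem IsSylowIn.eq_of_le {T H Q : Subgroup G} (h : IsSylowIn p T H) (hQ : IsPGroup p Q)
    (hQH : Q ≤ H) (hTQ : T ≤ Q) : Q = T :=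
  (eq_of_le_of_card_ge hTQ (h.card_le hQ hQH)).symm

theorem IsSylowIn.of_card_le {T H Q : Subgroup G} (h : IsSylowIn p T H) (hQ : IsPGroup p Q)
    (hQH : Q ≤ H) (hc : Nat.card T ≤ Nat.card Q) : IsSylowIn p Q H := by
  obtain ⟨R, hR, hQR⟩ := exists_isSylowIn p hQ hQH
  have : Q = R := eq_of_le_of_card_ge hQR ((h.card_le hR.2.1 hR.1).trans hc)
  exact this ▸ hR

theorem IsSylowIn.cmap {T H : Subgroup G} (h : IsSylowIn p T H) (g : G) :
    IsSylowIn p (cmap g T) (cmap g H) :=
  ⟨cmap_mono g h.1, isPGroup_cmap h.2.1,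
    by rw [relIndex_map_map_of_injective T H (MulAut.conj g).injective]; exact h.2.2⟩

theorem IsSylowIn.conj_eq {T T' H : Subgroup G} (h : IsSylowIn p T H) (h' : IsSylowIn p T' H) :
    ∃ x ∈ H, ConjFunctorBasic.cmap x T' = T := by
  obtain ⟨x, hx, hle⟩ := h.exists_conj_le h'.2.1 h'.1
  exact ⟨x, hx, eq_of_le_of_card_ge hle (by rw [card_cmap]; exact h'.card_le h.2.1 h.1)⟩

theorem IsSylowIn.mono {T H K : Subgroup G} (h : IsSylowIn p T H) (hTK : T ≤ K) (hKH : K ≤ H) :
    IsSylowIn p T K :=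
  ⟨hTK, h.2.1, fun hd => h.2.2 (hd.trans (relIndex_mul_relIndex T K H hTK hKH ▸ dvd_mul_right _ _))⟩

/-! ### Fully normalised subgroups -/

/-- `T ≤ S` and `N_S(T)` has index prime to `p` in `N_G(T)`. -/
def Full (p : ℕ) (S T : Subgroup G) : Prop :=
  T ≤ S ∧ ¬ p ∣ (S ⊓ normalizer (T : Set G)).relIndex (normalizer (T : Set G))

variable {S : Sylow p G}

theorem Full.isSylowIn {T : Subgroup G} (h : Full p (S : Subgroup G) T) :
    IsSylowIn p ((S : Subgroup G) ⊓ normalizer (T : Set G)) (normalizer (T : Set G)) :=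
  ⟨inf_le_right, isPGroup_mono S.isPGroup' inf_le_left, h.2⟩

theorem full_of_isSylowIn {T : Subgroup G} (hT : T ≤ (S : Subgroup G)) {R : Subgroup G}
    (hR : IsSylowIn p R (normalizer (T : Set G))) (hRS : R ≤ (S : Subgroup G)) :
    Full p (S : Subgroup G) T := by
  refine ⟨hT, ?_⟩
  have := hR.eq_of_le (isPGroup_mono S.isPGroup' inf_le_left) inf_le_right (le_inf hRS hR.1)
  rw [this]; exact hR.2.2

theorem Full.adjust {T U : Subgroup G} (hU : Full p (S : Subgroup G) U) {a : G} (ha : cmap a T = U) :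
    ∃ n ∈ normalizer (U : Set G), cmap (n * a) ((S : Subgroup G) ⊓ normalizer (T : Set G))
      ≤ (S : Subgroup G) ⊓ normalizer (U : Set G) := by
  have hle : cmap a ((S : Subgroup G) ⊓ normalizer (T : Set G)) ≤ normalizer (U : Set G) := by
    refine (cmap_mono a inf_le_right).trans ?_
    rw [cmap_normalizer, ha]
  obtain ⟨n, hn, hnle⟩ := hU.isSylowIn.exists_conj_le
    (isPGroup_cmap (isPGroup_mono S.isPGroup' inf_le_left)) hle
  exact ⟨n, hn, by rw [cmap_mul]; exact hnle⟩

theorem le_normalizer_inf {T : Subgroup G} (hT : T ≤ (S : Subgroup G)) :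
    T ≤ (S : Subgroup G) ⊓ normalizer (T : Set G) := le_inf hT le_normalizer

theorem exists_full (S : Sylow p G) {T : Subgroup G} (hT : T ≤ (S : Subgroup G)) :
    ∃ g : G, Full p (S : Subgroup G) (cmap g T) ∧
      cmap g ((S : Subgroup G) ⊓ normalizer (T : Set G)) ≤ (S : Subgroup G) := by
  obtain ⟨R, hR, hle⟩ := exists_isSylowIn (Q := (S : Subgroup G) ⊓ normalizer (T : Set G))
    (H := normalizer (T : Set G)) p (isPGroup_mono S.isPGroup' inf_le_left) inf_le_right
  obtain ⟨g, -, hg⟩ := (isSylowIn_top S).exists_conj_le hR.2.1 le_top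
  have h2 : cmap g ((S : Subgroup G) ⊓ normalizer (T : Set G)) ≤ (S : Subgroup G) :=
    (cmap_mono g hle).trans hg
  refine ⟨g, full_of_isSylowIn ((cmap_mono g (le_normalizer_inf hT)).trans h2) (R := cmap g R) ?_ hg, h2⟩
  rw [← cmap_normalizer]; exact hR.cmap g

theorem full_self (S : Sylow p G) : Full p (S : Subgroup G) (S : Subgroup G) := by
  obtain ⟨g, hg, hle⟩ := exists_full S (le_refl (S : Subgroup G))
  have : cmap g (S : Subgroup G) = (S : Subgroup G) :=
    eq_of_le_of_card_ge hg.1 (card_cmap g _).ge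
  rwa [this] at hg

theorem lt_inf_normalizer {R : Subgroup G} (hR : R ≤ (S : Subgroup G)) (hne : R ≠ (S : Subgroup G)) :
    R < (S : Subgroup G) ⊓ normalizer (R : Set G) := by
  haveI : Group.IsNilpotent (S : Subgroup G) := S.isPGroup'.isNilpotent
  refine lt_of_le_of_ne (le_normalizer_inf hR) fun h => ?_
  have hlt : R.subgroupOf (S : Subgroup G) < ⊤ :=
    lt_top_iff_ne_top.mpr fun h => hne (le_antisymm hR (subgroupOf_eq_top.mp h))
  have := Group.normalizerCondition_of_isNilpotent (G := (S : Subgroup G)) _ hlt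
  refine this.not_ge fun x hx => ?_
  rw [mem_subgroupOf, h]
  refine ⟨x.2, mem_normalizer_iff.mpr fun y => ⟨fun hy => ?_, fun hy => ?_⟩⟩
  · exact (mem_normalizer_iff.mp hx ⟨y, hR hy⟩).mp hy
  · have hy' : y ∈ (S : Subgroup G) := by
      have := mul_mem (mul_mem (inv_mem x.2) (hR hy)) x.2
      simpa [mul_assoc] using this
    exact (mem_normalizer_iff.mp hx ⟨y, hy'⟩).mpr hy

/-! ### Conjugacy functors -/

variable {W : Subgroup G → Subgroup G}

theorem cfun_le (hW : Cfsg.IsConjugacyFunctor p W) {R : Subgroup G} (hR : IsPGroup p R) : W R ≤ R :=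
  (hW R hR).1

theorem cfun_ne_bot (hW : Cfsg.IsConjugacyFunctor p W) {R : Subgroup G} (hR : IsPGroup p R)
    (h : R ≠ ⊥) : W R ≠ ⊥ :=
  (hW R hR).2.1 h

theorem cfun_cmap (hW : Cfsg.IsConjugacyFunctor p W) {R : Subgroup G} (hR : IsPGroup p R) (g : G) :
    W (cmap g R) = cmap g (W R) :=
  (hW R hR).2.2 g

theorem normalizer_le_cfun (hW : Cfsg.IsConjugacyFunctor p W) {R : Subgroup G} (hR : IsPGroup p R) :
    normalizer (R : Set G) ≤ normalizer ((W R : Subgroup G) : Set G) := fun g hg => by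
  rw [mem_normalizer_iff_cmap] at hg ⊢
  rw [← cfun_cmap hW hR, hg]

theorem inf_normalizer_le_cfun (hW : Cfsg.IsConjugacyFunctor p W) {R : Subgroup G}
    (hR : R ≤ (S : Subgroup G)) :
    R ≤ (S : Subgroup G) ⊓ normalizer ((W R : Subgroup G) : Set G) ∧
      (R ≠ (S : Subgroup G) → R < (S : Subgroup G) ⊓ normalizer ((W R : Subgroup G) : Set G)) :=
  ⟨le_inf hR (le_normalizer.trans (normalizer_le_cfun hW (isPGroup_mono S.isPGroup' hR))),
    fun hne => (lt_inf_normalizer hR hne).trans_le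
      (inf_le_inf_left _ (normalizer_le_cfun hW (isPGroup_mono S.isPGroup' hR)))⟩

/-! ### Towers and well placed subgroups -/

/-- The normaliser in `S` of a term of the tower. -/
abbrev towerN (W : Subgroup G → Subgroup G) (S T : Subgroup G) (i : ℕ) : Subgroup G :=
  S ⊓ normalizer ((Cfsg.functorTower W S T i : Subgroup G) : Set G)

omit [Finite G] in
theorem tower_succ (W : Subgroup G → Subgroup G) (S T : Subgroup G) (i : ℕ) :
    Cfsg.functorTower W S T (i + 1) = W (towerN W S T i) := rfl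

omit [Finite G] in
theorem tower_shift (W : Subgroup G → Subgroup G) (S T : Subgroup G) (i : ℕ) :
    Cfsg.functorTower W S (W (towerN W S T 0)) i = Cfsg.functorTower W S T (i + 1) := by
  induction i with
  | zero => rfl
  | succ i ih => rw [tower_succ, tower_succ, towerN, ih]

theorem tower_le (hW : Cfsg.IsConjugacyFunctor p W) {T : Subgroup G} (hT : T ≤ (S : Subgroup G))
    (i : ℕ) : Cfsg.functorTower W (S : Subgroup G) T i ≤ (S : Subgroup G) := by
  cases i with
  | zero => exact hT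
  | succ i => exact (cfun_le hW (isPGroup_mono S.isPGroup' inf_le_left)).trans inf_le_left

theorem towerN_le_succ (hW : Cfsg.IsConjugacyFunctor p W) (T : Subgroup G) (i : ℕ) :
    towerN W (S : Subgroup G) T i ≤ towerN W (S : Subgroup G) T (i + 1) :=
  (inf_normalizer_le_cfun hW inf_le_left).1

theorem towerN_mono (hW : Cfsg.IsConjugacyFunctor p W) (T : Subgroup G) :
    Monotone (towerN W (S : Subgroup G) T) :=
  monotone_nat_of_le_succ (towerN_le_succ hW T)

theorem wellPlaced_full {T : Subgroup G} (h : Cfsg.IsWellPlaced p W (S : Subgroup G) T) :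
    Full p (S : Subgroup G) T :=
  ⟨h.1, h.2 0⟩

theorem wellPlaced_shift (hW : Cfsg.IsConjugacyFunctor p W) {T : Subgroup G}
    (h : Cfsg.IsWellPlaced p W (S : Subgroup G) T) :
    Cfsg.IsWellPlaced p W (S : Subgroup G)
      (W ((S : Subgroup G) ⊓ normalizer (T : Set G))) := by
  refine ⟨(cfun_le hW (isPGroup_mono S.isPGroup' inf_le_left)).trans inf_le_left, fun i => ?_⟩
  have key := h.2 (i + 1)
  rw [← tower_shift W (S : Subgroup G) T i] at key
  exact key

theorem tower_const (hW : Cfsg.IsConjugacyFunctor p W) {T : Subgroup G} {i : ℕ}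
    (h : towerN W (S : Subgroup G) T (i + 1) = towerN W (S : Subgroup G) T i) (j : ℕ) :
    Cfsg.functorTower W (S : Subgroup G) T (i + 1 + j) = Cfsg.functorTower W (S : Subgroup G) T (i + 1) := by
  induction j with
  | zero => rfl
  | succ j ih =>
    rw [← add_assoc, tower_succ, towerN, ih]
    change W (towerN W (S : Subgroup G) T (i + 1)) = _
    rw [h, tower_succ]

theorem exists_stationary (hW : Cfsg.IsConjugacyFunctor p W) (T : Subgroup G) :
    ∃ i ≤ Nat.card G, towerN W (S : Subgroup G) T (i + 1) = towerN W (S : Subgroup G) T i := by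
  by_contra hcon
  push Not at hcon
  have key : ∀ i ≤ Nat.card G + 1, i < Nat.card (towerN W (S : Subgroup G) T i) := by
    intro i hi
    induction i with
    | zero => exact Nat.card_pos
    | succ i ih =>
      have hlt : towerN W (S : Subgroup G) T i < towerN W (S : Subgroup G) T (i + 1) :=
        lt_of_le_of_ne (towerN_le_succ hW T i) fun h => hcon i (by omega) h.symm
      have hc : Nat.card (towerN W (S : Subgroup G) T i) < Nat.card (towerN W (S : Subgroup G) T (i + 1)) := by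
        refine lt_of_le_of_ne (Subgroup.card_le_of_le hlt.le) fun h => ?_
        exact hlt.ne (eq_of_le_of_card_ge hlt.le h.ge)
      have := ih (by omega)
      omega
  have h1 := key (Nat.card G + 1) le_rfl
  have h2 := Subgroup.card_le_card_group (towerN W (S : Subgroup G) T (Nat.card G + 1))
  omega

theorem exists_prefix_full (hW : Cfsg.IsConjugacyFunctor p W) {T : Subgroup G}
    (hT : T ≤ (S : Subgroup G)) (n : ℕ) :
    ∃ g : G, cmap g T ≤ (S : Subgroup G) ∧
      cmap g ((S : Subgroup G) ⊓ normalizer (T : Set G)) ≤ (S : Subgroup G) ∧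
      ∀ i < n, Full p (S : Subgroup G) (Cfsg.functorTower W (S : Subgroup G) (cmap g T) i) := by
  induction n with
  | zero => exact ⟨1, by rw [cmap_one]; exact hT, by rw [cmap_one]; exact inf_le_left, fun i hi => absurd hi i.not_lt_zero⟩
  | succ n ih =>
    obtain ⟨g, hgT, hgN, hfull⟩ := ih
    set T' := cmap g T with hT'
    obtain ⟨k, hk, hkN⟩ := exists_full S (tower_le hW hgT n)
    have hN0 : cmap g ((S : Subgroup G) ⊓ normalizer (T : Set G)) ≤ towerN W (S : Subgroup G) T' 0 := by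
      refine le_inf hgN ((cmap_mono g inf_le_right).trans ?_)
      rw [cmap_normalizer]; exact le_rfl
    have hkR : ∀ i ≤ n, cmap k (towerN W (S : Subgroup G) T' i) ≤ (S : Subgroup G) := fun i hi =>
      (cmap_mono k (towerN_mono hW T' hi)).trans hkN
    have hk0 : cmap k T' ≤ (S : Subgroup G) :=
      (cmap_mono k (le_normalizer_inf hgT)).trans (hkR 0 (Nat.zero_le n))
    have heq : ∀ i ≤ n, Cfsg.functorTower W (S : Subgroup G) (cmap k T') i
        = cmap k (Cfsg.functorTower W (S : Subgroup G) T' i) := by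
      intro i hi
      induction i with
      | zero => rfl
      | succ i ih' =>
        have e := ih' (by omega)
        have hR := (hfull i (by omega)).isSylowIn.cmap k
        rw [cmap_normalizer, ← e] at hR
        have := hR.eq_of_le (isPGroup_mono S.isPGroup' inf_le_left) inf_le_right
          (le_inf (hkR i (by omega)) hR.1)
        rw [tower_succ, tower_succ, towerN, this, cfun_cmap hW (isPGroup_mono S.isPGroup' inf_le_left)]
    refine ⟨k * g, by rw [cmap_mul]; exact hk0, ?_, fun i hi => ?_⟩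
    · rw [cmap_mul]; exact (cmap_mono k hN0).trans (hkR 0 (Nat.zero_le n))
    rw [cmap_mul, ← hT', heq i (by omega)]
    by_cases hin : i < n
    · have hR := (hfull i hin).isSylowIn.cmap k
      rw [cmap_normalizer] at hR
      exact full_of_isSylowIn ((cmap_mono k (le_normalizer_inf (tower_le hW hgT i))).trans
        (hkR i hin.le)) hR (hkR i hin.le)
    · have : i = n := by omega
      subst this; exact hk

theorem exists_wellPlaced (hW : Cfsg.IsConjugacyFunctor p W) {T : Subgroup G}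
    (hT : T ≤ (S : Subgroup G)) :
    ∃ g : G, Cfsg.IsWellPlaced p W (S : Subgroup G) (cmap g T) ∧
      cmap g ((S : Subgroup G) ⊓ normalizer (T : Set G)) ≤ (S : Subgroup G) := by
  obtain ⟨g, hgT, hgN, hfull⟩ := exists_prefix_full hW hT (Nat.card G + 2)
  refine ⟨g, ⟨hgT, fun j => ?_⟩, hgN⟩
  obtain ⟨i, hi, hst⟩ := exists_stationary (S := S) hW (cmap g T)
  by_cases hj : j < Nat.card G + 2
  · exact (hfull j hj).2
  · obtain ⟨j, rfl⟩ : ∃ k, j = i + 1 + k := ⟨j - (i + 1), by omega⟩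
    rw [tower_const hW hst j]
    exact (hfull (i + 1) (by omega)).2

/-! ### The induction -/

/-- Closure properties of a relation "conjugation by `g` on `Q` is under control". -/
structure FusRel (S : Subgroup G) (Φ : Subgroup G → G → Prop) : Prop where
  triv : ∀ g : G, Φ ⊥ g
  mono : ∀ {Q Q' : Subgroup G} {g : G}, Q ≤ Q' → Q' ≤ S → cmap g Q' ≤ S → Φ Q' g → Φ Q g
  trans : ∀ {Q : Subgroup G} {g h : G}, Q ≤ S → cmap g Q ≤ S → cmap h (cmap g Q) ≤ S →
    Φ Q g → Φ (cmap g Q) h → Φ Q (h * g)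
  symm : ∀ {Q : Subgroup G} {g : G}, Q ≤ S → cmap g Q ≤ S → Φ Q g → Φ (cmap g Q) g⁻¹

/-- All fusion of subgroups larger than `U` is under control. -/
def Above (S : Subgroup G) (Φ : Subgroup G → G → Prop) (n : ℕ) : Prop :=
  ∀ Q : Subgroup G, n < Nat.card Q → Q ≤ S → ∀ g : G, cmap g Q ≤ S → Φ Q g

variable {Φ : Subgroup G → G → Prop}

theorem fusion_induction (hΦ : FusRel (S : Subgroup G) Φ) (Good : Subgroup G → Prop)
    (hgood : ∀ U, Good U → Full p (S : Subgroup G) U)
    (hex : ∀ T ≤ (S : Subgroup G), ∃ a : G, Good (cmap a T))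
    (hloc : ∀ U, Good U → U ≠ ⊥ → Above (S : Subgroup G) Φ (Nat.card U) →
      ∀ n ∈ normalizer (U : Set G), Φ U n) :
    ∀ Q ≤ (S : Subgroup G), ∀ g : G, cmap g Q ≤ (S : Subgroup G) → Φ Q g := by
  suffices ∀ k, ∀ Q : Subgroup G, Nat.card G - Nat.card Q ≤ k → Q ≤ (S : Subgroup G) →
      ∀ g : G, cmap g Q ≤ (S : Subgroup G) → Φ Q g from
    fun Q hQ g hg => this _ Q le_rfl hQ g hg
  intro k
  induction k using Nat.strong_induction_on with
  | _ k ih =>
  intro Q hk hQ g hg
  by_cases hQ1 : Q = ⊥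
  · subst hQ1; exact hΦ.triv g
  have habove : Above (S : Subgroup G) Φ (Nat.card Q) := by
    intro Q' hlt hQ' g' hg'
    have := Subgroup.card_le_card_group Q'
    exact ih _ (by omega) Q' le_rfl hQ' g' hg'
  obtain ⟨a, hU⟩ := hex Q hQ
  set U := cmap a Q with hUdef
  have hUfull := hgood U hU
  have hU1 : U ≠ ⊥ := fun h => hQ1 (cmap_eq_bot.mp h)
  have hcard : Nat.card U = Nat.card Q := card_cmap a Q
  have hlocU := hloc U hU hU1 (hcard.symm ▸ habove)
  by_cases hQS : Q = (S : Subgroup G)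
  · subst hQS
    have hUS : U = (S : Subgroup G) := eq_of_le_of_card_ge hUfull.1 hcard.ge
    exact hUS ▸ hlocU g (by
      rw [hUS]
      exact mem_normalizer_of_cmap_le hg)
  -- a conjugation carrying a strictly larger subgroup
  have big : ∀ (Q' : Subgroup G) (c : G), Q' ≤ (S : Subgroup G) → Nat.card Q' = Nat.card Q →
      cmap c Q' = U → ∃ b, cmap b Q' = U ∧ Φ Q' b := by
    intro Q' c hQ' hc hcU
    obtain ⟨n, hn, hle⟩ := hUfull.adjust hcU
    have hne : Q' ≠ (S : Subgroup G) := fun h => hQS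
      (eq_of_le_of_card_ge hQ (by rw [← hc, h]))
    have hlt := lt_inf_normalizer hQ' hne
    refine ⟨n * c, by rw [cmap_mul, hcU]; exact mem_normalizer_iff_cmap.mp hn, ?_⟩
    refine hΦ.mono hlt.le inf_le_left (hle.trans inf_le_left) (habove _ ?_ inf_le_left _ (hle.trans inf_le_left))
    rw [← hc]
    exact lt_of_le_of_ne (Subgroup.card_le_of_le hlt.le)
      fun h => hlt.ne (eq_of_le_of_card_ge hlt.le h.ge)
  obtain ⟨a', ha', hΦa⟩ := big Q a hQ rfl rfl
  obtain ⟨b, hb, hΦb⟩ := big (cmap g Q) (a * g⁻¹) hg (card_cmap g Q)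
    (by rw [cmap_mul, cmap_inv_cmap])
  have hn : b * g * a'⁻¹ ∈ normalizer (U : Set G) := by
    rw [mem_normalizer_iff_cmap, cmap_mul, cmap_mul]
    nth_rw 1 [← ha']
    rw [cmap_inv_cmap, hb]
  have h1 : Φ U (b * g * a'⁻¹) := hlocU _ hn
  have hUn : cmap (b * g * a'⁻¹) U = U := mem_normalizer_iff_cmap.mp hn
  have h2 : Φ Q (b * g * a'⁻¹ * a') :=
    hΦ.trans hQ (ha' ▸ hUfull.1) (by rw [ha', hUn]; exact hUfull.1) hΦa (ha'.symm ▸ h1)
  have h3 : Φ U b⁻¹ := hb ▸ hΦ.symm hg (hb ▸ hUfull.1) hΦb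
  have hQbg : cmap (b * g * a'⁻¹ * a') Q = U := by rw [cmap_mul, ha', hUn]
  have hbU : cmap b⁻¹ U = cmap g Q := by rw [← hb, cmap_inv_cmap]
  have h4 := hΦ.trans (h := b⁻¹) hQ (hQbg.symm ▸ hUfull.1) (by rw [hQbg, hbU]; exact hg) h2 (hQbg.symm ▸ h3)
  rwa [show b⁻¹ * (b * g * a'⁻¹ * a') = g by group] at h4

/-- Control in the normalisers of the members of `Good` by a set of functors gives control everywhere. -/
theorem local_of_functors (hΦ : FusRel (S : Subgroup G) Φ) (𝓦 : Set (Subgroup G → Subgroup G))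
    (h𝓦 : ∀ W ∈ 𝓦, Cfsg.IsConjugacyFunctor p W) (Good : Subgroup G → Prop)
    (hgood : ∀ U, Good U → Full p (S : Subgroup G) U)
    (hex : ∀ T ≤ (S : Subgroup G), ∃ a : G, Good (cmap a T))
    (hbase : ∀ W ∈ 𝓦, ∀ x ∈ normalizer ((W (S : Subgroup G) : Subgroup G) : Set G),
      ∀ Q ≤ (S : Subgroup G), cmap x Q ≤ (S : Subgroup G) → Φ Q x)
    {n : ℕ} (habove : Above (S : Subgroup G) Φ n)
    (hloc : ∀ V, Good V → V ≠ ⊥ → n ≤ Nat.card ((S : Subgroup G) ⊓ normalizer (V : Set G) : Subgroup G) →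
      (∀ W ∈ 𝓦, ∀ x ∈ normalizer (V : Set G) ⊓
          normalizer ((W ((S : Subgroup G) ⊓ normalizer (V : Set G)) : Subgroup G) : Set G),
        ∀ Q ≤ (S : Subgroup G) ⊓ normalizer (V : Set G),
          cmap x Q ≤ (S : Subgroup G) ⊓ normalizer (V : Set G) → Φ Q x) →
      ∀ x ∈ normalizer (V : Set G), ∀ Q ≤ (S : Subgroup G) ⊓ normalizer (V : Set G),
        cmap x Q ≤ (S : Subgroup G) ⊓ normalizer (V : Set G) → Φ Q x) :
    ∀ V, Good V → V ≠ ⊥ → n ≤ Nat.card ((S : Subgroup G) ⊓ normalizer (V : Set G) : Subgroup G) →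
      ∀ x ∈ normalizer (V : Set G), ∀ Q ≤ (S : Subgroup G) ⊓ normalizer (V : Set G),
        cmap x Q ≤ (S : Subgroup G) ⊓ normalizer (V : Set G) → Φ Q x := by
  suffices ∀ k, ∀ V, Good V → V ≠ ⊥ →
      n ≤ Nat.card ((S : Subgroup G) ⊓ normalizer (V : Set G) : Subgroup G) →
      Nat.card G - Nat.card ((S : Subgroup G) ⊓ normalizer (V : Set G) : Subgroup G) ≤ k →
      ∀ x ∈ normalizer (V : Set G), ∀ Q ≤ (S : Subgroup G) ⊓ normalizer (V : Set G),
        cmap x Q ≤ (S : Subgroup G) ⊓ normalizer (V : Set G) → Φ Q x from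
    fun V hV hV1 hn => this _ V hV hV1 hn le_rfl
  intro k
  induction k using Nat.strong_induction_on with
  | _ k ih =>
  intro V hV hV1 hn hk
  refine hloc V hV hV1 hn fun W hW x hx Q hQ hxQ => ?_
  set R := (S : Subgroup G) ⊓ normalizer (V : Set G) with hR
  by_cases hRS : R = (S : Subgroup G)
  · exact hbase W hW x (hRS ▸ hx.2) Q (hQ.trans inf_le_left) (hxQ.trans inf_le_left)
  have hWW := h𝓦 W hW
  obtain ⟨hle, hlt⟩ := inf_normalizer_le_cfun (W := W) hWW (S := S) (R := R) inf_le_left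
  specialize hlt hRS
  set R1 := (S : Subgroup G) ⊓ normalizer ((W R : Subgroup G) : Set G) with hR1
  have hcR1 : Nat.card R < Nat.card R1 := lt_of_le_of_ne (Subgroup.card_le_of_le hlt.le)
    fun h => hlt.ne (eq_of_le_of_card_ge hlt.le h.ge)
  have hVS : V ≤ (S : Subgroup G) := (hgood V hV).1
  have hWRS : W R ≤ (S : Subgroup G) :=
    (cfun_le hWW (isPGroup_mono S.isPGroup' inf_le_left)).trans inf_le_left
  have hWR1 : W R ≠ ⊥ := cfun_ne_bot hWW (isPGroup_mono S.isPGroup' inf_le_left)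
    fun h => hV1 (le_bot_iff.mp (h ▸ le_normalizer_inf hVS))
  obtain ⟨a₀, ha₀⟩ := hex _ hWRS
  obtain ⟨n₀, hn₀, hle'⟩ := (hgood _ ha₀).adjust (rfl : cmap a₀ (W R) = cmap a₀ (W R))
  set a := n₀ * a₀ with ha
  set V1 := cmap a₀ (W R) with hV1def
  have haWR : cmap a (W R) = V1 := by rw [ha, cmap_mul]; exact mem_normalizer_iff_cmap.mp hn₀
  have hR1a : Φ R1 a := habove R1 (by omega) inf_le_left a (hle'.trans inf_le_left)
  have hcR1' : Nat.card R1 ≤ Nat.card ((S : Subgroup G) ⊓ normalizer (V1 : Set G) : Subgroup G) :=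
    (card_cmap a R1).ge.trans (Subgroup.card_le_of_le hle')
  have hx' : a * x * a⁻¹ ∈ normalizer (V1 : Set G) := by
    rw [← haWR, ← cmap_normalizer]; exact conj_mem_cmap hx.2
  have hQ1 : Q ≤ R1 := hQ.trans hle
  have hxQ1 : cmap x Q ≤ R1 := hxQ.trans hle
  have hQa : cmap a Q ≤ (S : Subgroup G) ⊓ normalizer (V1 : Set G) := (cmap_mono a hQ1).trans hle'
  have hxQa : cmap (a * x * a⁻¹) (cmap a Q) = cmap a (cmap x Q) := by
    rw [← cmap_mul, ← cmap_mul]; congr 1; group
  have hxQa' : cmap (a * x * a⁻¹) (cmap a Q) ≤ (S : Subgroup G) ⊓ normalizer (V1 : Set G) := by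
    rw [hxQa]; exact (cmap_mono a hxQ1).trans hle'
  have hcG := Subgroup.card_le_card_group ((S : Subgroup G) ⊓ normalizer (V1 : Set G) : Subgroup G)
  have h2 : Φ (cmap a Q) (a * x * a⁻¹) :=
    ih _ (by omega) V1 ha₀ (fun h => hWR1 (cmap_eq_bot.mp h)) (by omega) le_rfl _ hx' _ hQa hxQa'
  have haS : cmap a R1 ≤ (S : Subgroup G) := hle'.trans inf_le_left
  have h3 : Φ Q (a * x * a⁻¹ * a) :=
    hΦ.trans (hQ.trans inf_le_left) (hQa.trans inf_le_left) (hxQa'.trans inf_le_left)
      (hΦ.mono hQ1 inf_le_left haS hR1a) h2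
  have e : a * x * a⁻¹ * a = a * x := by group
  rw [e] at h3
  have h4 : Φ (cmap a (cmap x Q)) a⁻¹ :=
    hΦ.symm (hxQ.trans inf_le_left) ((cmap_mono a hxQ1).trans haS)
      (hΦ.mono hxQ1 inf_le_left haS hR1a)
  have hax : cmap (a * x) Q = cmap a (cmap x Q) := cmap_mul _ _ _
  have h5 := hΦ.trans (h := a⁻¹) (hQ.trans inf_le_left)
    (hax ▸ (cmap_mono a hxQ1).trans haS) (by rw [hax, cmap_inv_cmap]; exact hxQ.trans inf_le_left)
    h3 (hax.symm ▸ h4)
  rwa [show a⁻¹ * (a * x) = x by group] at h5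

end Cfsg.Agent.ConjFunctorBasic
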