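import Mathlib
import Cfsg.Prelude.Def_ConjugacyFunctors
import Cfsg.Agent.Lib.ConjFunctorBasic

/-!
Chains of conjugations: control of strong fusion by a set of functors and conjugation families as
reflexive transitive closures, so that they can be fed to the induction of `ConjFunctorBasic`.
-/

set_option autoImplicit false

open Subgroup Cfsg.Agent.ConjFunctorBasic

namespace Cfsg.Agent.ConjFunctorControl

variable {G : Type*} [Group G]

theorem subset_cmap_iff {A : Set G} {g : G} {T : Subgroup G} :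
    (fun a => g * a * g⁻¹) '' A ⊆ T ↔ cmap g (closure A) ≤ T := by
  constructor
  · intro h
    rw [cmap, MonoidHom.map_closure, closure_le]
    exact h
  · rintro h _ ⟨a, ha, rfl⟩
    exact h (conj_mem_cmap (subset_closure ha))

theorem agree_closure {A : Set G} {g h : G} (H : ∀ a ∈ A, g * a * g⁻¹ = h * a * h⁻¹) :
    ∀ a ∈ closure A, g * a * g⁻¹ = h * a * h⁻¹ := fun _ ha =>
  MonoidHom.eqOn_closure (f := (MulAut.conj g).toMonoidHom) (g := (MulAut.conj h).toMonoidHom) H ha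

theorem cmap_congr {Q : Subgroup G} {g h : G} (H : ∀ q ∈ Q, g * q * g⁻¹ = h * q * h⁻¹) :
    cmap g Q = cmap h Q := by
  ext x
  constructor <;> rintro ⟨y, hy, rfl⟩ <;> refine ⟨y, hy, ?_⟩
  · exact (H y hy).symm
  · exact H y hy

/-! ### Control by a set of functors -/

/-- One link of a chain: both ends carry `Q` into `T` and differ by an element of some `N_H(W T)`. -/
def Step (𝓦 : Set (Subgroup G → Subgroup G)) (T H Q : Subgroup G) (c c' : G) : Prop :=
  (∃ W ∈ 𝓦, c' * c⁻¹ ∈ H ⊓ normalizer ((W T : Subgroup G) : Set G)) ∧ cmap c Q ≤ T ∧ cmap c' Q ≤ T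

/-- The map induced by `g` on `Q` is reached by a chain. -/
def Reach (𝓦 : Set (Subgroup G → Subgroup G)) (T H Q : Subgroup G) (g : G) : Prop :=
  ∃ c, Relation.ReflTransGen (Step 𝓦 T H Q) 1 c ∧ ∀ q ∈ Q, c * q * c⁻¹ = g * q * g⁻¹

variable {𝓦 : Set (Subgroup G → Subgroup G)} {T H Q : Subgroup G}

theorem Step.symm {c c' : G} (h : Step 𝓦 T H Q c c') : Step 𝓦 T H Q c' c := by
  obtain ⟨⟨W, hW, hm⟩, h1, h2⟩ := h
  exact ⟨⟨W, hW, by simpa using inv_mem hm⟩, h2, h1⟩

theorem chain_symm {a b : G} (h : Relation.ReflTransGen (Step 𝓦 T H Q) a b) :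
    Relation.ReflTransGen (Step 𝓦 T H Q) b a := by
  induction h with
  | refl => exact Relation.ReflTransGen.refl
  | tail _ h2 ih => exact Relation.ReflTransGen.head h2.symm ih

theorem chain_translate {Q' : Subgroup G} {k a b : G} (hQ : Q' = cmap k Q)
    (h : Relation.ReflTransGen (Step 𝓦 T H Q') a b) :
    Relation.ReflTransGen (Step 𝓦 T H Q) (a * k) (b * k) := by
  refine h.lift (fun c => c * k) fun c c' hc => ?_
  obtain ⟨⟨W, hW, hm⟩, h1, h2⟩ := hc
  refine ⟨⟨W, hW, by simpa using hm⟩, ?_, ?_⟩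
  · rw [cmap_mul, ← hQ]; exact h1
  · rw [cmap_mul, ← hQ]; exact h2

theorem chain_mono {Q' : Subgroup G} (hle : Q ≤ Q') {a b : G}
    (h : Relation.ReflTransGen (Step 𝓦 T H Q') a b) :
    Relation.ReflTransGen (Step 𝓦 T H Q) a b :=
  Relation.ReflTransGen.mono (fun _ _ hc => ⟨hc.1, (cmap_mono _ hle).trans hc.2.1, (cmap_mono _ hle).trans hc.2.2⟩) _ _ h

theorem Reach.congr {g h : G} (hr : Reach 𝓦 T H Q g)
    (hag : ∀ q ∈ Q, g * q * g⁻¹ = h * q * h⁻¹) : Reach 𝓦 T H Q h := by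
  obtain ⟨c, hc, he⟩ := hr
  exact ⟨c, hc, fun q hq => (he q hq).trans (hag q hq)⟩

theorem fusRel_reach : FusRel T (Reach 𝓦 T H) where
  triv g := ⟨1, Relation.ReflTransGen.refl, fun q hq => by simp [mem_bot.mp hq]⟩
  mono := by
    rintro Q Q' g hle - - ⟨c, hc, he⟩
    exact ⟨c, chain_mono hle hc, fun q hq => he q (hle hq)⟩
  trans := by
    rintro Q g h - - - ⟨c, hc, he⟩ ⟨d, hd, hde⟩
    refine ⟨d * c, hc.trans ?_, fun q hq => ?_⟩
    · have := chain_translate (cmap_congr fun q hq => (he q hq).symm) hd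
      rwa [one_mul] at this
    · calc d * c * q * (d * c)⁻¹ = d * (c * q * c⁻¹) * d⁻¹ := by group
        _ = d * (g * q * g⁻¹) * d⁻¹ := by rw [he q hq]
        _ = h * (g * q * g⁻¹) * h⁻¹ := hde _ (conj_mem_cmap hq)
        _ = h * g * q * (h * g)⁻¹ := by group
  symm := by
    rintro Q g - - ⟨c, hc, he⟩
    have hQ : cmap c Q = cmap g Q := cmap_congr he
    refine ⟨c⁻¹, ?_, fun q hq => ?_⟩
    · have := chain_translate (Q := cmap g Q) (k := c⁻¹) (by rw [← hQ, cmap_inv_cmap]) (chain_symm hc)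
      rwa [mul_inv_cancel, one_mul] at this
    · rw [mem_cmap] at hq
      have := he _ hq
      calc c⁻¹ * q * c⁻¹⁻¹ = c⁻¹ * (g * (g⁻¹ * q * g) * g⁻¹) * c := by group
        _ = c⁻¹ * (c * (g⁻¹ * q * g) * c⁻¹) * c := by rw [this]
        _ = g⁻¹ * q * g⁻¹⁻¹ := by group

theorem reach_single {W : Subgroup G → Subgroup G} (hW : W ∈ 𝓦) {x : G}
    (hx : x ∈ H ⊓ normalizer ((W T : Subgroup G) : Set G)) (hQ : Q ≤ T) (hxQ : cmap x Q ≤ T) :
    Reach 𝓦 T H Q x :=
  ⟨x, Relation.ReflTransGen.single ⟨⟨W, hW, by simpa using hx⟩, by rwa [cmap_one], hxQ⟩, fun _ _ => rfl⟩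

theorem famControls_iff {p : ℕ} :
    Cfsg.FamilyControlsStrongFusionIn p 𝓦 H ↔
      ∃ T, IsSylowIn p T H ∧ ∀ Q ≤ T, ∀ h ∈ H, cmap h Q ≤ T → Reach 𝓦 T H Q h := by
  constructor
  · rintro ⟨T, h1, h2, h3, h4⟩
    refine ⟨T, ⟨h1, h2, h3⟩, fun Q hQ h hh hhQ => ?_⟩
    obtain ⟨n, c, hc0, hstep, hc, hlast⟩ := h4 Q h hh hQ (by rintro _ ⟨a, ha, rfl⟩; exact hhQ (conj_mem_cmap ha))
    have hcQ : ∀ i, cmap (c i) Q ≤ T := fun i => cmap_le_iff.mpr fun x hx => hc i ⟨x, hx, rfl⟩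
    have key : ∀ i : Fin (n + 1), Relation.ReflTransGen (Step 𝓦 T H Q) 1 (c i) := by
      intro i
      induction i using Fin.induction with
      | zero => rw [hc0]
      | succ i ih => exact ih.tail ⟨hstep i, hcQ _, hcQ _⟩
    exact ⟨_, key _, hlast⟩
  · rintro ⟨T, hT, hr⟩
    refine ⟨T, hT.1, hT.2.1, hT.2.2, fun A h hh hA hhA => ?_⟩
    obtain ⟨c, hc, he⟩ := hr (closure A) ((closure_le T).mpr hA) h hh (subset_cmap_iff.mp hhA)
    suffices ∃ (n : ℕ) (d : Fin (n + 1) → G), d 0 = 1 ∧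
        (∀ i : Fin n, ∃ W ∈ 𝓦, d i.succ * (d i.castSucc)⁻¹ ∈ H ⊓ normalizer ((W T : Subgroup G) : Set G)) ∧
        (∀ i : Fin (n + 1), cmap (d i) (closure A) ≤ T) ∧ d (Fin.last n) = c by
      obtain ⟨n, d, h0, h1, h2, h3⟩ := this
      exact ⟨n, d, h0, h1, fun i => subset_cmap_iff.mpr (h2 i),
        fun a ha => h3 ▸ he a (subset_closure ha)⟩
    clear he
    induction hc with
    | refl =>
      exact ⟨0, fun _ => 1, rfl, fun i => i.elim0,
        fun _ => by rw [cmap_one]; exact (closure_le T).mpr hA, rfl⟩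
    | @tail b c' _ hb ih =>
      obtain ⟨n, d, h0, h1, h2, h3⟩ := ih
      refine ⟨n + 1, Fin.snoc d c', ?_, fun i => ?_, fun i => ?_, Fin.snoc_last _ _⟩
      · rw [← Fin.castSucc_zero, Fin.snoc_castSucc, h0]
      · induction i using Fin.lastCases with
        | last =>
          rw [Fin.succ_last, Fin.snoc_last, Fin.snoc_castSucc, h3]; exact hb.1
        | cast i =>
          rw [Fin.succ_castSucc, Fin.snoc_castSucc, Fin.snoc_castSucc]; exact h1 i
      · induction i using Fin.lastCases with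
        | last => rw [Fin.snoc_last]; exact hb.2.2
        | cast i => rw [Fin.snoc_castSucc]; exact h2 i

theorem controls_iff_singleton {p : ℕ} {W : Subgroup G → Subgroup G} :
    Cfsg.ControlsStrongFusionIn p W H ↔ Cfsg.FamilyControlsStrongFusionIn p {W} H := by
  rw [famControls_iff]
  constructor
  · rintro ⟨T, h1, h2, h3, h4⟩
    refine ⟨T, ⟨h1, h2, h3⟩, fun Q hQ h hh hhQ => ?_⟩
    obtain ⟨x, hx, he⟩ := h4 Q h hh hQ (by rintro _ ⟨a, ha, rfl⟩; exact hhQ (conj_mem_cmap ha))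
    exact (reach_single (Set.mem_singleton W) hx hQ ((cmap_congr he).le.trans hhQ)).congr he
  · rintro ⟨T, hT, hr⟩
    refine ⟨T, hT.1, hT.2.1, hT.2.2, fun A h hh hA hhA => ?_⟩
    obtain ⟨c, hc, he⟩ := hr (closure A) ((closure_le T).mpr hA) h hh (subset_cmap_iff.mp hhA)
    refine ⟨c, ?_, fun a ha => he a (subset_closure ha)⟩
    clear he
    induction hc with
    | refl => exact one_mem _
    | @tail b c' _ hb ih =>
      obtain ⟨W', hW', hm⟩ := hb.1
      rw [Set.mem_singleton_iff.mp hW'] at hm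
      simpa using mul_mem hm ih

variable [Finite G] {p : ℕ} [Fact p.Prime]

/-- Control may be read off any Sylow subgroup of `H`. -/
theorem reach_of_controls (h𝓦 : ∀ W ∈ 𝓦, Cfsg.IsConjugacyFunctor p W)
    (hctl : Cfsg.FamilyControlsStrongFusionIn p 𝓦 H) (hT : IsSylowIn p T H) :
    ∀ Q ≤ T, ∀ h ∈ H, cmap h Q ≤ T → Reach 𝓦 T H Q h := by
  obtain ⟨T0, hT0, hr⟩ := famControls_iff.mp hctl
  obtain ⟨x, hx, hxT⟩ := hT0.conj_eq hT
  intro Q hQ h hh hhQ
  have hxQ : cmap (x * h * x⁻¹) (cmap x Q) ≤ T0 := by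
    rw [← cmap_mul, show x * h * x⁻¹ * x = x * h by group, cmap_mul]
    exact (cmap_mono x hhQ).trans hxT.le
  obtain ⟨c, hc, he⟩ := hr (cmap x Q) ((cmap_mono x hQ).trans hxT.le) _
    (mul_mem (mul_mem hx hh) (inv_mem hx)) hxQ
  refine ⟨x⁻¹ * c * x, ?_, fun q hq => ?_⟩
  · have := hc.lift (p := Step 𝓦 T H Q) (fun c => x⁻¹ * c * x) ?_
    · change Relation.ReflTransGen _ (x⁻¹ * 1 * x) (x⁻¹ * c * x) at this
      simpa using this
    intro a b hab
    obtain ⟨⟨W, hW, hm⟩, h1, h2⟩ := hab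
    have hTx : cmap x⁻¹ T0 = T := by rw [← hxT, cmap_inv_cmap]
    have key : ∀ d, cmap d (cmap x Q) ≤ T0 → cmap (x⁻¹ * d * x) Q ≤ T := fun d hd => by
      rw [cmap_mul, cmap_mul, ← hTx]; exact cmap_mono _ hd
    refine ⟨⟨W, hW, ?_, ?_⟩, key _ h1, key _ h2⟩
    · have := mul_mem (mul_mem (inv_mem hx) hm.1) hx
      simpa [mul_assoc] using this
    · show x⁻¹ * b * x * (x⁻¹ * a * x)⁻¹ ∈ normalizer ((W T : Subgroup G) : Set G)
      rw [← hTx, cfun_cmap (h𝓦 W hW) hT0.2.1, ← cmap_normalizer, mem_cmap]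
      simpa [mul_assoc] using hm.2
  · have := he (x * q * x⁻¹) (conj_mem_cmap hq)
    calc x⁻¹ * c * x * q * (x⁻¹ * c * x)⁻¹ = x⁻¹ * (c * (x * q * x⁻¹) * c⁻¹) * x := by group
      _ = x⁻¹ * (x * h * x⁻¹ * (x * q * x⁻¹) * (x * h * x⁻¹)⁻¹) * x := by rw [this]
      _ = h * q * h⁻¹ := by group

variable {S : Sylow p G} {Φ : Subgroup G → G → Prop}

/-- A chain inside `H` whose links are under control is under control. -/
theorem rel_of_reach {R : Subgroup G} (hRS : R ≤ (S : Subgroup G)) (hΦ : FusRel (S : Subgroup G) Φ)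
    (hcongr : ∀ {Q : Subgroup G} {g h : G}, Q ≤ (S : Subgroup G) → cmap g Q ≤ (S : Subgroup G) →
      (∀ q ∈ Q, g * q * g⁻¹ = h * q * h⁻¹) → Φ Q g → Φ Q h)
    (h1 : ∀ Q ≤ (S : Subgroup G), Φ Q 1)
    (hstep : ∀ W ∈ 𝓦, ∀ x ∈ H ⊓ normalizer ((W R : Subgroup G) : Set G),
      ∀ Q ≤ R, cmap x Q ≤ R → Φ Q x)
    {g : G} (hQ : Q ≤ R) (hr : Reach 𝓦 R H Q g) : Φ Q g := by
  obtain ⟨c, hc, he⟩ := hr
  have key : cmap c Q ≤ R ∧ Φ Q c := by
    clear he
    induction hc with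
    | refl => exact ⟨by rwa [cmap_one], h1 Q (hQ.trans hRS)⟩
    | @tail b c' _ hb ih =>
      obtain ⟨W, hW, hm⟩ := hb.1
      have hbc : cmap (c' * b⁻¹) (cmap b Q) = cmap c' Q := by rw [← cmap_mul, inv_mul_cancel_right]
      have := hΦ.trans (hQ.trans hRS) (ih.1.trans hRS) (hbc.le.trans (hb.2.2.trans hRS)) ih.2
        (hstep W hW _ hm _ ih.1 (hbc.le.trans hb.2.2))
      rw [inv_mul_cancel_right] at this
      exact ⟨hb.2.2, this⟩
  exact hcongr (hQ.trans hRS) (key.1.trans hRS) he key.2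

theorem controls_top_of_local (h𝓦 : ∀ W ∈ 𝓦, Cfsg.IsConjugacyFunctor p W)
    (Good : Subgroup G → Prop) (hgood : ∀ U, Good U → Full p (S : Subgroup G) U)
    (hex : ∀ T ≤ (S : Subgroup G), ∃ a : G, Good (cmap a T))
    (hloc : ∀ V, Good V → V ≠ ⊥ → Cfsg.FamilyControlsStrongFusionIn p 𝓦 (normalizer (V : Set G))) :
    Cfsg.FamilyControlsStrongFusionIn p 𝓦 ⊤ := by
  refine famControls_iff.mpr ⟨(S : Subgroup G), isSylowIn_top S, fun Q hQ h _ hhQ => ?_⟩
  refine fusion_induction fusRel_reach Good hgood hex (fun U hU hU1 habove n hn => ?_) Q hQ h hhQ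
  have hUf := hgood U hU
  refine local_of_functors fusRel_reach 𝓦 h𝓦 Good hgood hex
    (fun W hW x hx Q hQ hxQ => reach_single hW ⟨mem_top x, hx⟩ hQ hxQ) habove
    (fun V hV hV1 _ hstep x hx Q hQ hxQ => ?_) U hU hU1
    (Subgroup.card_le_of_le (le_normalizer_inf hUf.1)) n hn U (le_normalizer_inf hUf.1)
    ((mem_normalizer_iff_cmap.mp hn).le.trans (le_normalizer_inf hUf.1))
  exact rel_of_reach inf_le_left fusRel_reach (fun _ _ he hr => hr.congr he)
    (fun Q _ => ⟨1, Relation.ReflTransGen.refl, fun _ _ => rfl⟩) hstep hQ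
    (reach_of_controls h𝓦 (hloc V hV hV1) (hgood V hV).isSylowIn Q hQ x hx hxQ)

/-! ### Conjugation families -/

/-- One link: `Q` conjugated by `c` on the right lies in `T ∈ 𝓕` and `c' ∈ c N(T)`. -/
def FamStep (𝓕 : Set (Subgroup G)) (Q : Subgroup G) (c c' : G) : Prop :=
  ∃ T ∈ 𝓕, cmap c⁻¹ Q ≤ T ∧ c⁻¹ * c' ∈ normalizer (T : Set G)

/-- Left conjugation by `g` on `Q` is reached inside the normalisers of the family. -/
def FamReach (𝓕 : Set (Subgroup G)) (Q : Subgroup G) (g : G) : Prop :=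
  Relation.ReflTransGen (FamStep 𝓕 Q) 1 g⁻¹

theorem FamStep.symm {𝓕 : Set (Subgroup G)} {c c' : G} (h : FamStep 𝓕 Q c c') : FamStep 𝓕 Q c' c := by
  obtain ⟨T, hT, hQT, hm⟩ := h
  refine ⟨T, hT, ?_, by simpa using inv_mem hm⟩
  rw [show c'⁻¹ = (c⁻¹ * c')⁻¹ * c⁻¹ by group, cmap_mul]
  exact (cmap_mono _ hQT).trans (mem_normalizer_iff_cmap.mp (inv_mem hm)).le

omit [Fact p.Prime] in
theorem famChain_symm {𝓕 : Set (Subgroup G)} {a b : G}
    (h : Relation.ReflTransGen (FamStep 𝓕 Q) a b) : Relation.ReflTransGen (FamStep 𝓕 Q) b a := by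
  induction h with
  | refl => exact Relation.ReflTransGen.refl
  | tail _ h2 ih => exact Relation.ReflTransGen.head h2.symm ih

theorem famChain_translate {𝓕 : Set (Subgroup G)} {Q' : Subgroup G} {k a b : G}
    (hQ : Q' = cmap k Q) (h : Relation.ReflTransGen (FamStep 𝓕 Q') a b) :
    Relation.ReflTransGen (FamStep 𝓕 Q) (k⁻¹ * a) (k⁻¹ * b) := by
  refine h.lift (fun c => k⁻¹ * c) fun c c' hc => ?_
  obtain ⟨T, hT, hQT, hm⟩ := hc
  refine ⟨T, hT, ?_, by simpa [mul_assoc] using hm⟩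
  show cmap (k⁻¹ * c)⁻¹ Q ≤ T
  rw [mul_inv_rev, inv_inv, cmap_mul, ← hQ]
  exact hQT

theorem fusRel_fam {𝓕 : Set (Subgroup G)} {S : Subgroup G} (hbot : (⊥ : Subgroup G) ∈ 𝓕) :
    FusRel S (FamReach 𝓕) where
  triv g := Relation.ReflTransGen.single
    ⟨⊥, hbot, (cmap_bot _).le, by rw [normalizer_eq_top]; exact mem_top _⟩
  mono := by
    intro Q Q' g hle _ _ h
    refine Relation.ReflTransGen.mono (fun c c' hc => ?_) _ _ h
    obtain ⟨T, hT, hQT, hm⟩ := hc
    exact ⟨T, hT, (cmap_mono _ hle).trans hQT, hm⟩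
  trans := by
    intro Q g h _ _ _ hg hh
    refine Relation.ReflTransGen.trans hg ?_
    have := famChain_translate rfl hh
    rwa [mul_one, ← mul_inv_rev] at this
  symm := by
    intro Q g _ _ hg
    have := famChain_translate (Q := cmap g Q) (k := g⁻¹) (cmap_inv_cmap g Q).symm (famChain_symm hg)
    rw [inv_inv, mul_inv_cancel, mul_one] at this
    unfold FamReach
    rwa [inv_inv]

theorem isConjugationFamily_of_reach {𝓕 : Set (Subgroup G)} {S : Subgroup G} (h𝓕 : ∀ T ∈ 𝓕, T ≤ S)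
    (hr : ∀ Q ≤ S, ∀ g : G, cmap g Q ≤ S → FamReach 𝓕 Q g) :
    Cfsg.IsConjugationFamily 𝓕 S := by
  refine ⟨h𝓕, fun A g _ hAS hgA => ?_⟩
  have hchain := hr (closure A) ((closure_le S).mpr hAS) g⁻¹
    (subset_cmap_iff.mp (by simpa using hgA))
  rw [FamReach, inv_inv] at hchain
  suffices ∃ (n : ℕ) (T : Fin n → Subgroup G) (x : Fin n → G), (List.ofFn x).prod = g ∧
      (∀ i, T i ∈ 𝓕) ∧ (∀ i, x i ∈ normalizer ((T i : Subgroup G) : Set G)) ∧
      ∀ i : Fin n, (fun a => (((List.ofFn x).take i.val).prod)⁻¹ * a * ((List.ofFn x).take i.val).prod) '' A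
        ⊆ T i by
    obtain ⟨n, T, x, h1, h2, h3, h4⟩ := this
    refine ⟨n, T, x, h1, h2, h3, fun h a ha => ?_, fun i h => h4 ⟨i.val + 1, h⟩⟩
    have := h4 ⟨0, h⟩ ⟨a, ha, rfl⟩
    simpa using this
  clear hgA
  induction hchain with
  | refl => exact ⟨0, Fin.elim0, Fin.elim0, by simp, fun i => i.elim0, fun i => i.elim0, fun i => i.elim0⟩
  | @tail b c _ hb ih =>
    obtain ⟨n, T, x, h1, h2, h3, h4⟩ := ih
    obtain ⟨U, hU, hQU, hm⟩ := hb
    have hofn : List.ofFn (Fin.snoc x (b⁻¹ * c) : Fin (n + 1) → G) = List.ofFn x ++ [b⁻¹ * c] := by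
      rw [List.ofFn_succ', List.concat_eq_append]
      simp
    refine ⟨n + 1, Fin.snoc T U, Fin.snoc x (b⁻¹ * c), ?_, fun i => ?_, fun i => ?_, fun i => ?_⟩
    · rw [hofn, List.prod_append, h1]; simp
    · induction i using Fin.lastCases with
      | last => rw [Fin.snoc_last]; exact hU
      | cast i => rw [Fin.snoc_castSucc]; exact h2 i
    · induction i using Fin.lastCases with
      | last => rw [Fin.snoc_last, Fin.snoc_last]; exact hm
      | cast i => rw [Fin.snoc_castSucc, Fin.snoc_castSucc]; exact h3 i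
    · rw [hofn]
      induction i using Fin.lastCases with
      | last =>
        rw [Fin.snoc_last, Fin.val_last, List.take_append_of_le_length (by simp),
          List.take_of_length_le (by simp), h1]
        have := subset_cmap_iff.mpr hQU
        simpa using this
      | cast i =>
        rw [Fin.snoc_castSucc, Fin.val_castSucc, List.take_append_of_le_length (by simp)]
        exact h4 i

theorem conjugationFamily_of_criterion (S : Sylow p G) (𝓕 : Set (Subgroup G))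
    (h𝓕 : ∀ U ∈ 𝓕, U ≤ (S : Subgroup G))
    (h : ∀ T ≤ (S : Subgroup G), ∃ g : G, cmap g T ∈ 𝓕 ∧ Full p (S : Subgroup G) (cmap g T)) :
    Cfsg.IsConjugationFamily 𝓕 (S : Subgroup G) := by
  obtain ⟨g, hg, -⟩ := h ⊥ bot_le
  rw [cmap_bot] at hg
  refine isConjugationFamily_of_reach h𝓕 (fusion_induction (fusRel_fam hg)
    (fun U => U ∈ 𝓕 ∧ Full p (S : Subgroup G) U) (fun U hU => hU.2) h ?_)
  intro U hU _ _ n hn
  exact Relation.ReflTransGen.single ⟨U, hU.1, by simp [cmap_one], by simpa using inv_mem hn⟩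

theorem wellPlaced_family (S : Sylow p G) {W : Subgroup G → Subgroup G}
    (hW : Cfsg.IsConjugacyFunctor p W) (Q : Subgroup G) (hQ : Q ≤ (S : Subgroup G)) (g : G)
    (hg : cmap g Q ≤ (S : Subgroup G)) :
    FamReach {T : Subgroup G | Cfsg.IsWellPlaced p W (S : Subgroup G) T} Q g := by
  have hbot : Cfsg.IsWellPlaced p W (S : Subgroup G) ⊥ := by
    obtain ⟨a, ha, -⟩ := exists_wellPlaced (S := S) hW (bot_le : (⊥ : Subgroup G) ≤ S)
    rwa [cmap_bot] at ha
  refine fusion_induction (fusRel_fam hbot) (Cfsg.IsWellPlaced p W (S : Subgroup G))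
    (fun U hU => wellPlaced_full hU)
    (fun T hT => (exists_wellPlaced hW hT).imp fun a ha => ha.1) ?_ Q hQ g hg
  intro U hU _ _ n hn
  exact Relation.ReflTransGen.single ⟨U, hU, by simp [cmap_one], by simpa using inv_mem hn⟩

end Cfsg.Agent.ConjFunctorControl
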