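import Mathlib
import Cfsg.Prelude.Def_LocalEven
import Cfsg.Prelude.Def_PLocal
import Cfsg.Agent.Lib.ConjFunctorBasic

/-!
Engel elements: orbit sums of an invariant vector over a Sylow subgroup vanish away from the fixed
points of the Engel elements, and the consequence for transfer.
-/

set_option autoImplicit false

open scoped commutatorElement Pointwise
open Subgroup Cfsg.Agent.ConjFunctorBasic

namespace Cfsg.Agent.ConjFunctorEngel

/-! ### The geometric sum in characteristic `p` -/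

theorem geom_sum_prime_pow {p : ℕ} [Fact p.Prime] (m : ℕ) :
    ∑ j ∈ Finset.range (p ^ m), (Polynomial.X : Polynomial (ZMod p)) ^ j
      = (Polynomial.X - 1) ^ (p ^ m - 1) := by
  have h1 := geom_sum_mul (Polynomial.X : Polynomial (ZMod p)) (p ^ m)
  have h2 : ((Polynomial.X : Polynomial (ZMod p)) - 1) ^ (p ^ m) = Polynomial.X ^ (p ^ m) - 1 := by
    rw [sub_pow_char_pow, one_pow]
  have h3 : p ^ m = p ^ m - 1 + 1 := (Nat.sub_add_cancel (Nat.one_le_pow _ _ (Fact.out : p.Prime).pos)).symm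
  have h4 : ((Polynomial.X : Polynomial (ZMod p)) - 1) ≠ 0 :=
    sub_ne_zero.mpr fun h => by simpa using congrArg Polynomial.natDegree h
  apply mul_right_cancel₀ h4
  rw [h1, ← h2, ← pow_succ, ← h3]

/-- In an abelian group of exponent `p`, if `(φ - 1)^n = 0` then the sums over powers of length `p^m`
vanish once `n < p^m`. -/
theorem sum_pow_apply_eq_zero_aux {p : ℕ} [Fact p.Prime] {Y : Type*} [AddCommGroup Y]
    [Module (ZMod p) Y] (φ : AddMonoid.End Y) {n : ℕ} (hφ : ∀ y, ((φ - 1) ^ n) y = 0)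
    {m : ℕ} (hn : n < p ^ m) (y : Y) : ∑ j ∈ Finset.range (p ^ m), (φ ^ j) y = 0 := by
  let L : Module.End (ZMod p) Y := AddMonoidHom.toZModLinearMap p (φ : Y →+ Y)
  have hpow : ∀ (j : ℕ) (z : Y), (L ^ j) z = (φ ^ j) z := by
    intro j
    induction j with
    | zero => intro z; rfl
    | succ j ih => intro z; rw [pow_succ, pow_succ]; exact ih (φ z)
  have hsub : ∀ z : Y, ((L - 1) ^ n) z = ((φ - 1) ^ n) z := by
    clear hn hφ
    induction n with
    | zero => intro z; rfl
    | succ k ih =>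
      intro z
      rw [pow_succ, pow_succ]
      exact ih ((φ - 1) z)
  have h := congrArg (fun q : Polynomial (ZMod p) => Polynomial.aeval L q) (geom_sum_prime_pow (p := p) m)
  simp only [map_sum, map_pow, map_sub, map_one, Polynomial.aeval_X] at h
  have h2 := LinearMap.congr_fun h y
  rw [LinearMap.sum_apply] at h2
  simp only [hpow] at h2
  rw [h2, show p ^ m - 1 = (p ^ m - 1 - n) + n by omega, pow_add]
  show ((L - 1) ^ (p ^ m - 1 - n)) (((L - 1) ^ n) y) = 0
  rw [hsub y, hφ y, map_zero]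

/-- In an abelian group of exponent `p`, if `(φ - 1)^n = 0` then the sums over powers of length `p^m`
vanish once `n < p^m`. -/
theorem sum_pow_apply_eq_zero {p : ℕ} [Fact p.Prime] {Y : Type*} [AddCommGroup Y]
    (hpY : ∀ y : Y, p • y = 0) (φ : AddMonoid.End Y) {n : ℕ} (hφ : ∀ y, ((φ - 1) ^ n) y = 0)
    {m : ℕ} (hn : n < p ^ m) (y : Y) : ∑ j ∈ Finset.range (p ^ m), (φ ^ j) y = 0 :=
  @sum_pow_apply_eq_zero_aux p _ Y _ (AddCommGroup.zmodModule hpY) φ n hφ m hn y

/-! ### Orbit sums -/

variable {G : Type*} [Group G] [Finite G] {p : ℕ} [Fact p.Prime] {Y : Type*} [AddCommGroup Y]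

/-- The value at a coset of the equivariant function with value `y` at the base point. -/
noncomputable def orbitVal (ρ : G →* AddMonoid.End Y) (M : Subgroup G) (y : Y)
    (hy : ∀ m ∈ M, ρ m y = y) : G ⧸ M → Y :=
  Quotient.lift (fun t => ρ t y) fun a b hab => by
    have h : a⁻¹ * b ∈ M := QuotientGroup.leftRel_apply.mp hab
    calc ρ a y = ρ a (ρ (a⁻¹ * b) y) := by rw [hy _ h]
      _ = ρ b y := by
        rw [show ρ a (ρ (a⁻¹ * b) y) = (ρ a * ρ (a⁻¹ * b)) y from rfl, ← map_mul, mul_inv_cancel_left]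

omit [Finite G] in
theorem orbitVal_smul (ρ : G →* AddMonoid.End Y) (M : Subgroup G) (y : Y) (hy : ∀ m ∈ M, ρ m y = y)
    (g : G) (q : G ⧸ M) : orbitVal ρ M y hy (g • q) = ρ g (orbitVal ρ M y hy q) := by
  induction q using QuotientGroup.induction_on with
  | H t => exact (congrArg (fun z : AddMonoid.End Y => z y) (map_mul ρ g t))

/-- The orbit sum over a `p`-group vanishes when some element with vanishing sums moves the point. -/
theorem orbit_sum_eq_zero {P : Type*} [Group P] [Fintype P] (hP : IsPGroup p P)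
    (ρ : P →* AddMonoid.End Y) (E : Set P) (hE : ∀ s : P, ∀ e ∈ E, s * e * s⁻¹ ∈ E)
    (hsum : ∀ e ∈ E, ∀ m : ℕ, 1 ≤ m → ∀ y : Y, ∑ j ∈ Finset.range (p ^ m), (ρ e ^ j) y = 0)
    (K : Subgroup P) [Fintype (P ⧸ K)] (y : Y) (hy : ∀ k ∈ K, ρ k y = y) (hK : ¬ E ⊆ K) :
    ∑ c : P ⧸ K, orbitVal ρ K y hy c = 0 := by
  classical
  obtain ⟨H, ⟨hKH, hH⟩, hmax⟩ := Set.Finite.exists_maximal
    (s := {H : Subgroup P | K ≤ H ∧ ¬ E ⊆ H}) (Set.toFinite _) ⟨K, le_rfl, hK⟩
  -- all of `E` normalises `H`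
  have hHlt : H < ⊤ := lt_top_iff_ne_top.mpr fun h => hH (h ▸ fun x _ => mem_top x)
  haveI : Group.IsNilpotent P := hP.isNilpotent
  have hN := Group.normalizerCondition_of_isNilpotent (G := P) H hHlt
  have hEN : E ⊆ normalizer (H : Set P) := by
    by_contra hcon
    exact hN.not_ge (hmax ⟨hKH.trans hN.le, hcon⟩ hN.le)
  obtain ⟨e, heE, heH⟩ := Set.not_subset.mp hH
  set H' := H ⊔ zpowers e with hH'
  have hH'N : H' ≤ normalizer (H : Set P) := sup_le le_normalizer (zpowers_le.mpr (hEN heE))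
  haveI : (H.subgroupOf H').Normal := normal_subgroupOf_of_le_normalizer hH'N
  set e' : H' := ⟨e, mem_sup_right (mem_zpowers e)⟩ with he'
  set r := orderOf (QuotientGroup.mk' (H.subgroupOf H') e') with hr
  obtain ⟨m, hm⟩ := (IsPGroup.iff_orderOf.mp ((hP.to_subgroup H').to_quotient _))
    (QuotientGroup.mk' (H.subgroupOf H') e')
  have hm1 : 1 ≤ m := by
    by_contra hcon
    have : m = 0 := by omega
    subst this
    rw [pow_zero, orderOf_eq_one_iff, QuotientGroup.mk'_apply, QuotientGroup.eq_one_iff] at hm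
    exact heH hm
  letI := Fintype.ofFinite (P ⧸ H)
  letI := Fintype.ofFinite (P ⧸ H')
  letI := Fintype.ofFinite (↥H ⧸ K.subgroupOf H)
  letI := Fintype.ofFinite (↥H' ⧸ H.subgroupOf H')
  set θ : Y := ∑ b : ↥H ⧸ K.subgroupOf H,
    orbitVal (ρ.comp H.subtype) (K.subgroupOf H) y (fun k hk => hy k (mem_subgroupOf.mp hk)) b with hθ
  have hθH : ∀ h ∈ H, ρ h θ = θ := by
    intro h hh
    rw [hθ, map_sum]
    refine Fintype.sum_equiv (MulAction.toPerm (⟨h, hh⟩ : H)) _ _ fun b => ?_
    exact (orbitVal_smul (ρ.comp H.subtype) (K.subgroupOf H) y _ (⟨h, hh⟩ : H) b).symm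
  have split : ∀ (A B : Subgroup P) (hAB : A ≤ B) (z : Y) (hz : ∀ a ∈ A, ρ a z = z)
      [Fintype (P ⧸ A)] [Fintype (P ⧸ B)] [Fintype (↥B ⧸ A.subgroupOf B)],
      ∑ c : P ⧸ A, orbitVal ρ A z hz c = ∑ c : P ⧸ B, ρ c.out
        (∑ b : ↥B ⧸ A.subgroupOf B,
          orbitVal (ρ.comp B.subtype) (A.subgroupOf B) z (fun a ha => hz a (mem_subgroupOf.mp ha)) b) := by
    intro A B hAB z hz _ _ _
    rw [← (quotientEquivProdOfLE hAB).symm.sum_comp, Fintype.sum_prod_type]
    refine Fintype.sum_congr _ _ fun c => ?_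
    rw [map_sum]
    refine Fintype.sum_congr _ _ fun b => ?_
    induction b using QuotientGroup.induction_on with
    | H b =>
      show ρ (c.out * (b : P)) z = ρ c.out (ρ (b : P) z)
      rw [map_mul]; rfl
  rw [split K H hKH y hy]
  have h2 : ∑ c : P ⧸ H, ρ c.out θ = ∑ c : P ⧸ H, orbitVal ρ H θ hθH c :=
    Fintype.sum_congr _ _ fun c => by
      conv_rhs => rw [← Quotient.out_eq' c]
      rfl
  rw [← hθ, h2, split H H' le_sup_left θ hθH]
  refine Finset.sum_eq_zero fun c _ => ?_
  suffices h3 : ∑ b : ↥H' ⧸ H.subgroupOf H',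
      orbitVal (ρ.comp H'.subtype) (H.subgroupOf H') θ (fun a ha => hθH a (mem_subgroupOf.mp ha)) b = 0 by
    rw [h3, map_zero]
  -- the powers of `e` represent the cosets
  have hbij : Function.Bijective
      (fun j : Fin r => (QuotientGroup.mk' (H.subgroupOf H') e') ^ (j : ℕ)) := by
    constructor
    · intro i j hij
      exact Fin.ext (pow_injOn_Iio_orderOf i.2 j.2 hij)
    · intro b
      obtain ⟨⟨b, hb⟩, rfl⟩ := QuotientGroup.mk'_surjective _ b
      have hz : zpowers e ≤ normalizer (H : Set P) := zpowers_le.mpr (hEN heE)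
      have hb' : b ∈ ((zpowers e : Subgroup P) : Set P) * (H : Set P) := by
        rw [← coe_mul_of_left_le_normalizer_right (zpowers e) H hz, sup_comm]
        exact hb
      obtain ⟨x, hx, h, hh, rfl⟩ := Set.mem_mul.mp hb'
      obtain ⟨j, rfl⟩ := mem_zpowers_iff.mp hx
      have hmk : QuotientGroup.mk' (H.subgroupOf H') ⟨e ^ j * h, hb⟩
          = (QuotientGroup.mk' (H.subgroupOf H') e') ^ j := by
        rw [← map_zpow, QuotientGroup.mk'_apply, QuotientGroup.mk'_apply, QuotientGroup.eq, mem_subgroupOf]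
        simpa [he'] using inv_mem hh
      rw [hmk]
      obtain ⟨k, hk⟩ : ∃ k : ℕ, (QuotientGroup.mk' (H.subgroupOf H') e') ^ k
          = (QuotientGroup.mk' (H.subgroupOf H') e') ^ j :=
        (mem_powers_iff_mem_zpowers.mpr (zpow_mem (mem_zpowers _) j) : _)
      refine ⟨⟨k % r, Nat.mod_lt _ (orderOf_pos _)⟩, ?_⟩
      simp only [hr, pow_mod_orderOf]
      exact hk
  refine Eq.trans ((Equiv.ofBijective _ hbij).sum_comp _).symm ?_
  simp only [Equiv.ofBijective_apply]
  refine Eq.trans (Fin.sum_univ_eq_sum_range (fun j => orbitVal (ρ.comp H'.subtype) (H.subgroupOf H') θ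
      (fun a ha => hθH a (mem_subgroupOf.mp ha)) ((QuotientGroup.mk' (H.subgroupOf H') e') ^ j)) r) ?_
  have hrm : r = p ^ m := hr.trans hm
  rw [hrm]
  refine Eq.trans (Finset.sum_congr rfl fun j _ => ?_) (hsum e heE m hm1 θ)
  rw [← map_pow]
  show ρ ((e' ^ j : H') : P) θ = (ρ e ^ j) θ
  rw [← map_pow, Subgroup.coe_pow]

/-- With all Engel-fixed cosets trivial, the full sum over cosets is the base value. -/
theorem coset_sum_eq (S : Sylow p G) (M : Subgroup G) [Fintype (G ⧸ M)]
    (ρ : G →* AddMonoid.End Y) (E : Set G)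
    (hE : ∀ s ∈ (S : Subgroup G), ∀ e ∈ E, s * e * s⁻¹ ∈ E) (hES : E ⊆ (S : Subgroup G))
    (hSM : (S : Subgroup G) ≤ M)
    (hfix : ∀ t : G, (∀ e ∈ E, t⁻¹ * e * t ∈ M) → t ∈ M)
    (hsum : ∀ e ∈ E, ∀ m : ℕ, 1 ≤ m → ∀ y : Y, ∑ j ∈ Finset.range (p ^ m), (ρ e ^ j) y = 0)
    (y : Y) (hy : ∀ m ∈ M, ρ m y = y) :
    ∑ q : G ⧸ M, orbitVal ρ M y hy q = y := by
  classical
  letI := Fintype.ofFinite (S : Subgroup G)
  letI := Fintype.ofFinite (MulAction.orbitRel.Quotient (S : Subgroup G) (G ⧸ M))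
  letI : ∀ ω : MulAction.orbitRel.Quotient (S : Subgroup G) (G ⧸ M),
      Fintype (MulAction.orbitRel.Quotient.orbit ω) := fun ω => Fintype.ofFinite _
  set f := orbitVal ρ M y hy with hf
  set ω₀ : MulAction.orbitRel.Quotient (S : Subgroup G) (G ⧸ M) :=
    Quotient.mk'' ((1 : G) : G ⧸ M) with hω₀
  have hfix1 : ∀ s : (S : Subgroup G), s • ((1 : G) : G ⧸ M) = ((1 : G) : G ⧸ M) := fun s => by
    show (((s : G) * 1 : G) : G ⧸ M) = _
    rw [mul_one, QuotientGroup.eq]; simpa using hSM s.2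
  rw [← (MulAction.selfEquivSigmaOrbits' (S : Subgroup G) (G ⧸ M)).symm.sum_comp, Fintype.sum_sigma,
    Fintype.sum_eq_single ω₀ ?_]
  · have horb : MulAction.orbitRel.Quotient.orbit ω₀ = {((1 : G) : G ⧸ M)} := by
      rw [hω₀, MulAction.orbitRel.Quotient.orbit_mk]
      exact Set.eq_singleton_iff_unique_mem.mpr
        ⟨MulAction.mem_orbit_self _, fun x ⟨s, hs⟩ => hs ▸ hfix1 s⟩
    haveI : Unique (MulAction.orbitRel.Quotient.orbit ω₀) :=
      { default := ⟨((1 : G) : G ⧸ M), by rw [horb]; rfl⟩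
        uniq := fun x => Subtype.ext ((Set.ext_iff.mp horb x.1).mp x.2) }
    rw [Fintype.sum_unique]
    show f (default : MulAction.orbitRel.Quotient.orbit ω₀).1 = y
    rw [(Set.ext_iff.mp horb _).mp (default : MulAction.orbitRel.Quotient.orbit ω₀).2]
    show ρ 1 y = y
    rw [map_one]; rfl
  · intro ω hω
    obtain ⟨x, rfl⟩ := Quotient.exists_rep ω
    obtain ⟨t, rfl⟩ := QuotientGroup.mk_surjective x
    set K := MulAction.stabilizer (S : Subgroup G) (t : G ⧸ M) with hKdef
    letI := Fintype.ofFinite ((S : Subgroup G) ⧸ K)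
    set z := f (t : G ⧸ M) with hz
    have hzK : ∀ k ∈ K, (ρ.comp (S : Subgroup G).subtype) k z = z := fun k hk => by
      show ρ (k : G) z = z
      rw [hz, hf, ← orbitVal_smul]
      exact congrArg _ hk
    have hnot : ¬ {x : (S : Subgroup G) | (x : G) ∈ E} ⊆ (K : Set (S : Subgroup G)) := fun hsub => hω (by
      have htM : t ∈ M := hfix t fun e he => by
        have h1 := hsub (show (⟨e, hES he⟩ : (S : Subgroup G)) ∈ {x : (S : Subgroup G) | (x : G) ∈ E} from he)
        have h2 : ((e * t : G) : G ⧸ M) = (t : G ⧸ M) := h1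
        have h3 := M.inv_mem (QuotientGroup.eq.mp h2)
        simpa [mul_assoc] using h3
      rw [hω₀]
      apply congrArg Quotient.mk''
      rw [QuotientGroup.eq]; simpa using inv_mem htM)
    have h0 := orbit_sum_eq_zero (S.isPGroup') (ρ.comp (S : Subgroup G).subtype)
      {x : (S : Subgroup G) | (x : G) ∈ E} (fun s e he => hE s s.2 e he)
      (fun e he m hm y => hsum e he m hm y) K z hzK hnot
    rw [← h0]
    let oe : MulAction.orbitRel.Quotient.orbit
        (Quotient.mk'' (t : G ⧸ M) : MulAction.orbitRel.Quotient (S : Subgroup G) (G ⧸ M)) ≃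
        (S : Subgroup G) ⧸ K :=
      (Equiv.setCongr (MulAction.orbitRel.Quotient.orbit_mk (t : G ⧸ M))).trans
        (MulAction.orbitEquivQuotientStabilizer (S : Subgroup G) (t : G ⧸ M))
    refine (Fintype.sum_equiv oe.symm _ _ fun c => ?_).symm
    induction c using QuotientGroup.induction_on with
    | H s =>
      show ρ (s : G) z = f ((oe.symm (QuotientGroup.mk s)).1)
      have hs : (oe.symm (QuotientGroup.mk s)).1 = s • (t : G ⧸ M) :=
        MulAction.orbitEquivQuotientStabilizer_symm_apply (S : Subgroup G) (t : G ⧸ M) s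
      rw [hs]
      exact (orbitVal_smul ρ M y hy (s : G) (t : G ⧸ M)).symm

/-! ### Chief factors below a normal p-subgroup -/

/-- Every normal `p`-subgroup has a normal subgroup below it with elementary abelian chief quotient. -/
theorem exists_chief_below {U : Subgroup G} [U.Normal] (hU : IsPGroup p U) (hU1 : U ≠ ⊥) :
    ∃ V : Subgroup G, V.Normal ∧ Cfsg.IsChiefFactor U V ∧
      (∀ a ∈ U, ∀ b ∈ U, ⁅a, b⁆ ∈ V) ∧ ∀ a ∈ U, a ^ p ∈ V := by
  obtain ⟨V, ⟨hVn, hVU⟩, hmax⟩ := Set.Finite.exists_maximal (s := {V : Subgroup G | V.Normal ∧ V < U})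
    (Set.toFinite _) ⟨⊥, inferInstance, bot_lt_iff_ne_bot.mpr hU1⟩
  haveI := hVn
  have hchief : Cfsg.IsChiefFactor U V := ⟨hVU, inferInstance, hVn, fun N hN hVN hNU => by
    rcases eq_or_lt_of_le hNU with h | h
    · exact Or.inr h
    · exact Or.inl (le_antisymm (hmax ⟨hN, h⟩ hVN) hVN)⟩
  set gens : Set G := {x | ∃ a ∈ U, ∃ b ∈ U, x = ⁅a, b⁆} ∪ {x | ∃ a ∈ U, x = a ^ p}
  set W := normalClosure ((V : Set G) ∪ gens) with hW
  have hWV : W = V := by
    rcases hchief.2.2.2 W normalClosure_normal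
      (fun x hx => subset_normalClosure (Or.inl hx))
      (normalClosure_le_normal (by
        rintro x (hx | ⟨a, ha, b, hb, rfl⟩ | ⟨a, ha, rfl⟩)
        · exact hVU.le hx
        · exact mul_mem (mul_mem (mul_mem ha hb) (inv_mem ha)) (inv_mem hb)
        · exact pow_mem ha p)) with h | h
    · exact h
    · exfalso
      haveI : Group.IsNilpotent U := hU.isNilpotent
      obtain hc | ⟨H, hH, hle⟩ := eq_top_or_exists_le_coatom (V.subgroupOf U)
      · exact absurd (subgroupOf_eq_top.mp hc) hVU.not_ge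
      haveI hHn : H.Normal :=
        (Group.normalizerCondition_of_isNilpotent (G := U)).normal_of_coatom H hH
      haveI : Nontrivial (↥U ⧸ H) := Finite.one_lt_card_iff_nontrivial.mp
        (lt_of_lt_of_eq (one_lt_index_of_ne_top hH.1) (index_eq_card H))
      haveI : IsSimpleGroup (↥U ⧸ H) := by
        refine ⟨fun K hK => ?_⟩
        have h1 := hH.le_iff.mp (QuotientGroup.le_comap_mk' H K)
        rcases h1 with h1 | h1
        · right
          rw [← map_comap_eq_self_of_surjective (QuotientGroup.mk'_surjective H) K, h1,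
            map_top_of_surjective _ (QuotientGroup.mk'_surjective H)]
        · left
          rw [← map_comap_eq_self_of_surjective (QuotientGroup.mk'_surjective H) K, h1,
            QuotientGroup.map_mk'_self]
      have hHp : IsPGroup p (↥U ⧸ H) := hU.to_quotient H
      have hcen : center (↥U ⧸ H) = ⊤ :=
        ((IsSimpleGroup.eq_bot_or_eq_top_of_normal (center (↥U ⧸ H)) inferInstance).resolve_left
          (nontrivial_iff_ne_bot _ |>.mp hHp.center_nontrivial))
      have hcomm : ∀ a b : ↥U ⧸ H, ⁅a, b⁆ = 1 := fun a b =>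
        commutatorElement_eq_one_iff_commute.mpr ((mem_center_iff.mp (hcen ▸ mem_top b : b ∈ center _) a))
      have hcyc : ∀ a : ↥U ⧸ H, a ^ p = 1 := by
        intro a
        by_contra hne
        have htop : zpowers (a ^ p) = ⊤ :=
          ((IsSimpleGroup.eq_bot_or_eq_top_of_normal (zpowers (a ^ p))
            ⟨fun n hn g => by
              rw [show g * n * g⁻¹ = n by
                rw [mem_center_iff.mp (hcen ▸ mem_top n : n ∈ center _) g, mul_inv_cancel_right]]
              exact hn⟩).resolve_left fun h => hne (zpowers_eq_bot.mp h))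
        obtain ⟨k, hk⟩ := hHp a
        obtain ⟨i, hi⟩ := mem_zpowers_iff.mp (htop ▸ mem_top a : a ∈ zpowers (a ^ p))
        have key : ∀ n : ℕ, ∃ j : ℤ, a = (a ^ p ^ n) ^ j := by
          intro n
          induction n with
          | zero => exact ⟨1, by simp⟩
          | succ n ih =>
            obtain ⟨j, hj⟩ := ih
            refine ⟨i * j, ?_⟩
            conv_lhs => rw [hj, ← hi]
            rw [← zpow_natCast ((a ^ p) ^ i), ← zpow_natCast a p, ← zpow_mul, ← zpow_mul, ← zpow_mul,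
              ← zpow_natCast, ← zpow_mul]
            congr 1
            push_cast
            ring
        obtain ⟨j, hj⟩ := key k
        rw [hk, one_zpow] at hj
        exact hne (by rw [hj, one_pow])
      have hWH : W ≤ H.map U.subtype := by
        haveI hn : (V ⊔ closure gens).Normal := by
          refine ⟨fun x hx g => ?_⟩
          have hmap : (V ⊔ closure gens).map (MulAut.conj g).toMonoidHom ≤ V ⊔ closure gens := by
            rw [Subgroup.map_sup, MonoidHom.map_closure]
            refine sup_le ((mem_normalizer_iff_cmap.mp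
              (by rw [normalizer_eq_top]; exact mem_top g : g ∈ normalizer (V : Set G))).le.trans le_sup_left) ?_
            rw [closure_le]
            rintro _ ⟨z, ⟨a, ha, b, hb, rfl⟩ | ⟨a, ha, rfl⟩, rfl⟩
            · exact mem_sup_right (subset_closure (Or.inl ⟨_, Normal.conj_mem inferInstance a ha g, _,
                Normal.conj_mem inferInstance b hb g, map_commutatorElement _ a b⟩))
            · exact mem_sup_right (subset_closure (Or.inr ⟨_, Normal.conj_mem inferInstance a ha g,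
                map_pow _ a p⟩))
          exact hmap ⟨x, hx, rfl⟩
        have h1 : W ≤ V ⊔ closure gens := normalClosure_le_normal (Set.union_subset
          (fun x hx => mem_sup_left hx) fun x hx => mem_sup_right (subset_closure hx))
        refine h1.trans (sup_le ?_ ((closure_le _).mpr ?_))
        · rw [← map_subgroupOf_eq_of_le hVU.le]; exact Subgroup.map_mono hle
        · rintro _ (⟨a, ha, b, hb, rfl⟩ | ⟨a, ha, rfl⟩)
          · refine ⟨⁅(⟨a, ha⟩ : U), ⟨b, hb⟩⁆, ?_, rfl⟩
            rw [SetLike.mem_coe, ← QuotientGroup.eq_one_iff]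
            exact (map_commutatorElement (QuotientGroup.mk' H) _ _).trans (hcomm _ _)
          · refine ⟨(⟨a, ha⟩ : U) ^ p, ?_, rfl⟩
            rw [SetLike.mem_coe, ← QuotientGroup.eq_one_iff, QuotientGroup.mk_pow]
            exact hcyc _
      rw [h] at hWH
      refine hH.1 (top_le_iff.mp fun u _ => ?_)
      obtain ⟨v, hv, he⟩ := hWH u.2
      rwa [← Subtype.ext he]
  exact ⟨V, hVn, hchief, fun a ha b hb => hWV ▸ subset_normalClosure (Or.inr (Or.inl ⟨a, ha, b, hb, rfl⟩)),
    fun a ha => hWV ▸ subset_normalClosure (Or.inr (Or.inr ⟨a, ha, rfl⟩))⟩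

/-! ### The action on a quotient of normal subgroups -/

section Act

variable (U V : Subgroup G) [hUn : U.Normal] [hVn : V.Normal]

/-- Conjugation by `g` on `U / V`. -/
noncomputable def conjQ (g : G) : (↥U ⧸ V.subgroupOf U) →* (↥U ⧸ V.subgroupOf U) :=
  QuotientGroup.map _ _ (MulAut.conjNormal (H := U) g).toMonoidHom fun x hx => by
    rw [mem_comap, mem_subgroupOf]
    simpa using hVn.conj_mem _ (mem_subgroupOf.mp hx) g

omit [Finite G] in
theorem conjQ_mk (g : G) (u : U) :
    conjQ U V g (u : ↥U ⧸ V.subgroupOf U) = ((MulAut.conjNormal g u : U) : ↥U ⧸ V.subgroupOf U) := rfl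

omit [Finite G] in
theorem conjQ_mul (g h : G) (x : ↥U ⧸ V.subgroupOf U) :
    conjQ U V (g * h) x = conjQ U V g (conjQ U V h x) := by
  induction x using QuotientGroup.induction_on with
  | H u => rw [conjQ_mk, conjQ_mk, conjQ_mk, map_mul]; rfl

omit [Finite G] in
theorem conjQ_one (x : ↥U ⧸ V.subgroupOf U) : conjQ U V 1 x = x := by
  induction x using QuotientGroup.induction_on with
  | H u => rw [conjQ_mk, map_one]; rfl

omit [Finite G] hUn in
theorem conjQ_comm (hab : ∀ a ∈ U, ∀ b ∈ U, ⁅a, b⁆ ∈ V) (a b : ↥U ⧸ V.subgroupOf U) :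
    a * b = b * a := by
  induction a using QuotientGroup.induction_on with
  | H a =>
    induction b using QuotientGroup.induction_on with
    | H b =>
      refine (commutatorElement_eq_one_iff_mul_comm).mp ?_
      rw [← QuotientGroup.mk'_apply, ← QuotientGroup.mk'_apply, ← map_commutatorElement,
        QuotientGroup.mk'_apply, QuotientGroup.eq_one_iff]
      exact mem_subgroupOf.mpr (hab a a.2 b b.2)

end Act

/-! ### Engel elements and transfer -/

/-- If suitable Engel elements exist, a normal `p`-subgroup inside the derived subgroup lies in the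
derived subgroup of `M`. -/
theorem le_commutator_of_engel (S : Sylow p G) (Z M : Subgroup G) [hZn : Z.Normal] (hZ : IsPGroup p Z)
    (hSM : (S : Subgroup G) ≤ M) (E : Set G) (hE : ∀ s ∈ (S : Subgroup G), ∀ e ∈ E, s * e * s⁻¹ ∈ E)
    (hES : E ⊆ (S : Subgroup G)) (hfix : ∀ t : G, (∀ e ∈ E, t⁻¹ * e * t ∈ M) → t ∈ M)
    (heng : ∀ e ∈ E, ∀ U V : Subgroup G, Cfsg.IsChiefFactor U V → U ≤ Z →
      Cfsg.iterCommutator U (zpowers e) (p - 1) ≤ V) :
    Z ⊓ ⁅(⊤ : Subgroup G), ⊤⁆ ≤ ⁅M, M⁆ := by
  suffices ∀ n : ℕ, ∀ U : Subgroup G, U.Normal → Nat.card U ≤ n → U ≤ Z ⊓ ⁅(⊤ : Subgroup G), ⊤⁆ →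
      U ≤ ⁅M, M⁆ from this _ _ inferInstance le_rfl le_rfl
  intro n
  induction n with
  | zero => intro U _ hc; exact absurd hc Nat.card_pos.not_ge
  | succ n ih =>
  intro U hUn hc hU
  by_cases hU1 : U = ⊥
  · rw [hU1]; exact bot_le
  haveI := hUn
  have hUp : IsPGroup p U := isPGroup_mono hZ (hU.trans inf_le_left)
  obtain ⟨V, hVn, hchief, hab, hexp⟩ := exists_chief_below hUp hU1
  haveI := hVn
  have hVU : V ≤ U := hchief.1.le
  have hVlt : Nat.card V < Nat.card U := lt_of_le_of_ne (Subgroup.card_le_of_le hVU)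
    fun h => hchief.1.ne (eq_of_le_of_card_ge hVU h.ge)
  have hVM : V ≤ ⁅M, M⁆ := ih V hVn (by omega) (hVU.trans hU)
  have hUS : U ≤ (S : Subgroup G) := (hU.trans inf_le_left).trans (hZ.le_sylow_of_normal S)
  have hUM : U ≤ M := hUS.trans hSM
  classical
  letI := M.fintypeQuotientOfFiniteIndex
  let XQ := ↥U ⧸ V.subgroupOf U
  letI : CommGroup XQ := { (inferInstance : Group XQ) with mul_comm := conjQ_comm U V hab }
  let Λ0 : XQ →* Abelianization M :=
    QuotientGroup.lift (V.subgroupOf U) (Abelianization.of.comp (Subgroup.inclusion hUM)) fun x hx => by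
      rw [MonoidHom.mem_ker, MonoidHom.comp_apply, ← MonoidHom.mem_ker, Abelianization.ker_of,
        ← mem_map_iff_mem M.subtype_injective, map_subtype_commutator]
      exact hVM (mem_subgroupOf.mp hx)
  let ψ : G → (Additive XQ →+ Additive XQ) := fun g => MonoidHom.toAdditive (conjQ U V g)
  have hψ : ∀ g h x, ψ (g * h) x = ψ g (ψ h x) := fun g h x => conjQ_mul U V g h (Additive.toMul x)
  have hψ1 : ∀ x, ψ 1 x = x := fun x => conjQ_one U V (Additive.toMul x)
  let Yt := Additive XQ →+ Additive (Abelianization M)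
  let ρ : G →* AddMonoid.End Yt :=
    { toFun := fun g =>
        { toFun := fun Λ => Λ.comp (ψ g⁻¹)
          map_zero' := rfl
          map_add' := fun _ _ => rfl }
      map_one' := by
        refine AddMonoidHom.ext fun Λ => AddMonoidHom.ext fun x => ?_
        show Λ (ψ 1⁻¹ x) = Λ x
        rw [inv_one, hψ1]
      map_mul' := fun g h => by
        refine AddMonoidHom.ext fun Λ => AddMonoidHom.ext fun x => ?_
        show Λ (ψ (g * h)⁻¹ x) = Λ (ψ h⁻¹ (ψ g⁻¹ x))
        rw [mul_inv_rev, hψ] }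
  have hXp : ∀ x : XQ, x ^ p = 1 := by
    intro x
    induction x using QuotientGroup.induction_on with
    | H u =>
      rw [← QuotientGroup.mk_pow, QuotientGroup.eq_one_iff, mem_subgroupOf]
      exact hexp u u.2
  have hYp : ∀ Λ : Yt, p • Λ = 0 := fun Λ => by
    refine AddMonoidHom.ext fun x => ?_
    rw [AddMonoidHom.nsmul_apply, ← map_nsmul, AddMonoidHom.zero_apply,
      show p • x = 0 from hXp (Additive.toMul x), map_zero]
  let Λ : Yt := MonoidHom.toAdditive Λ0
  have hΛM : ∀ m ∈ M, ρ m Λ = Λ := by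
    intro m hm
    refine AddMonoidHom.ext fun x => ?_
    obtain ⟨u, rfl⟩ : ∃ u : U, Additive.ofMul (u : XQ) = x := QuotientGroup.mk_surjective (Additive.toMul x)
    show Additive.ofMul (Λ0 (conjQ U V m⁻¹ (u : XQ))) = Additive.ofMul (Λ0 (u : XQ))
    congr 1
    rw [conjQ_mk]
    show Abelianization.of (Subgroup.inclusion hUM (MulAut.conjNormal m⁻¹ u))
      = Abelianization.of (Subgroup.inclusion hUM u)
    have e : Subgroup.inclusion hUM (MulAut.conjNormal m⁻¹ u)
        = (⟨m, hm⟩ : M)⁻¹ * Subgroup.inclusion hUM u * ⟨m, hm⟩ := Subtype.ext (by simp [mul_assoc])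
    rw [e, map_mul, map_mul, map_inv, mul_comm (Abelianization.of (⟨m, hm⟩ : M))⁻¹, inv_mul_cancel_right]
  have hsum : ∀ e ∈ E, ∀ m : ℕ, 1 ≤ m → ∀ y : Yt, ∑ j ∈ Finset.range (p ^ m), (ρ e ^ j) y = 0 := by
    intro e he m hm y
    refine sum_pow_apply_eq_zero hYp (ρ e) (n := p - 1) (fun Λ' => ?_) ?_ y
    swap
    · calc p - 1 < p := Nat.sub_lt (Fact.out : p.Prime).pos one_pos
        _ = p ^ 1 := (pow_one p).symm
        _ ≤ p ^ m := Nat.pow_le_pow_right (Fact.out : p.Prime).pos hm
    refine AddMonoidHom.ext fun x => ?_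
    have hmove : ∀ (i : ℕ) (u : U), ∃ w : U, (w : G) ∈ Cfsg.iterCommutator U (zpowers e) i ∧
        ∀ Λ' : Yt, ((ρ e - 1) ^ i) Λ' (Additive.ofMul (u : XQ)) = Λ' (Additive.ofMul (w : XQ)) := by
      intro i
      induction i with
      | zero => exact fun u => ⟨u, u.2, fun Λ' => rfl⟩
      | succ i ih' =>
        intro u
        obtain ⟨w, hw, hval⟩ := ih' u
        refine ⟨MulAut.conjNormal e⁻¹ w * w⁻¹, ?_, fun Λ' => ?_⟩
        · have h1 : ⁅(w : G), e⁻¹⁆⁻¹ ∈ Cfsg.iterCommutator U (zpowers e) (i + 1) :=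
            inv_mem (commutator_mem_commutator hw (inv_mem (mem_zpowers e)))
          simpa [commutatorElement_def, mul_assoc] using h1
        · have hstep : ∀ Λ'' : Yt, (ρ e - 1) Λ'' (Additive.ofMul (w : XQ)) =
              Λ'' (Additive.ofMul ((MulAut.conjNormal e⁻¹ w * w⁻¹ : U) : XQ)) := by
            intro Λ''
            rw [show ((MulAut.conjNormal e⁻¹ w * w⁻¹ : U) : XQ) = conjQ U V e⁻¹ (w : XQ) * (w : XQ)⁻¹
              from rfl, ofMul_mul, ofMul_inv, map_add, map_neg, ← sub_eq_add_neg]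
            rfl
          rw [pow_succ]
          show ((ρ e - 1) ^ i) ((ρ e - 1) Λ') _ = _
          rw [hval]
          exact hstep Λ'
    obtain ⟨u, rfl⟩ : ∃ u : U, Additive.ofMul (u : XQ) = x := QuotientGroup.mk_surjective (Additive.toMul x)
    obtain ⟨w, hw, hval⟩ := hmove (p - 1) u
    rw [hval, AddMonoidHom.zero_apply, show (w : XQ) = 1 from (QuotientGroup.eq_one_iff w).mpr
      (mem_subgroupOf.mpr (heng e he U V hchief (hU.trans inf_le_left) hw)), ofMul_one, map_zero]
  have hkey := coset_sum_eq S M ρ E hE hES hSM hfix hsum Λ hΛM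
  intro u hu
  have hfix' : ∀ q : G ⧸ M, u⁻¹ • q = q := by
    intro q
    induction q using QuotientGroup.induction_on with
    | H t =>
      refine QuotientGroup.eq.mpr ?_
      have : t⁻¹ * u * t⁻¹⁻¹ ∈ M := hUM (hUn.conj_mem u hu t⁻¹)
      simpa [mul_assoc] using this
  obtain ⟨T⟩ : Nonempty M.LeftTransversal := inferInstance
  let φ : M →* Abelianization M := Abelianization.of
  have htr : Additive.ofMul (φ.transfer u) = Λ (Additive.ofMul ((⟨u, hu⟩ : U) : XQ)) := by
    rw [← hkey, AddMonoidHom.finsetSum_apply, MonoidHom.transfer_def φ T u,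
      Subgroup.leftTransversals.diff, ofMul_prod]
    refine Finset.sum_congr rfl fun q _ => ?_
    set t := ((T.2.leftQuotientEquiv q : T.1) : G) with ht
    have hq : (QuotientGroup.mk t : G ⧸ M) = q := T.2.quotientGroupMk_leftQuotientEquiv q
    conv_rhs => rw [← hq]
    show _ = Additive.ofMul (Λ0 (conjQ U V t⁻¹ ((⟨u, hu⟩ : U) : XQ)))
    rw [conjQ_mk]
    congr 1
    show _ = Abelianization.of (Subgroup.inclusion hUM (MulAut.conjNormal t⁻¹ ⟨u, hu⟩))
    refine congrArg φ (Subtype.ext ?_)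
    show _ = ((MulAut.conjNormal t⁻¹ (⟨u, hu⟩ : U) : U) : G)
    rw [MulAut.conjNormal_apply]
    simp only [smul_apply_eq_smul_apply_inv_smul, hfix', smul_eq_mul, ← ht, inv_inv, mul_assoc]
  have h1 : φ.transfer u = 1 :=
    Abelianization.commutator_subset_ker φ.transfer (by rw [_root_.commutator_def]; exact (hU hu).2)
  rw [h1, ofMul_one] at htr
  have h2 : φ ⟨u, hUM hu⟩ = 1 := Additive.ofMul.injective htr.symm
  rw [← MonoidHom.mem_ker, Abelianization.ker_of, ← mem_map_iff_mem M.subtype_injective,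
    map_subtype_commutator] at h2
  exact h2

end Cfsg.Agent.ConjFunctorEngel
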