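import Mathlib
import Cfsg.Prelude.Def_ConjugacyFunctors
import Cfsg.Agent.Lib.ConjFunctorBasic

/-!
Control of transfer by conjugacy functors: the target subgroup, the focal subgroup inside a subgroup, and
the reduction to normalisers.
-/

set_option autoImplicit false

open scoped commutatorElement
open Subgroup Cfsg.Agent.ConjFunctorBasic

namespace Cfsg.Agent.ConjFunctorTransfer

variable {G : Type*} [Group G]

/-- The subgroup generated by the intersections of `T` with the derived subgroups of the `N_H(W T)`. -/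
def tgt (𝓦 : Set (Subgroup G → Subgroup G)) (T H : Subgroup G) : Subgroup G :=
  ⨆ W ∈ 𝓦, T ⊓ ⁅H ⊓ normalizer ((W T : Subgroup G) : Set G), H ⊓ normalizer ((W T : Subgroup G) : Set G)⁆

/-- Conjugation by `g` moves every element of `Q` inside a coset of `X`. -/
def Moves (X Q : Subgroup G) (g : G) : Prop := ∀ q ∈ Q, g * q * g⁻¹ * q⁻¹ ∈ X

variable {X T H : Subgroup G} {𝓦 : Set (Subgroup G → Subgroup G)}

theorem fusRel_moves {S : Subgroup G} : FusRel S (Moves X) where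
  triv g q hq := by rw [mem_bot.mp hq]; simp
  mono hle _ _ h q hq := h q (hle hq)
  trans := by
    intro Q g h _ _ _ h1 h2 q hq
    have := mul_mem (h2 _ (conj_mem_cmap hq)) (h1 q hq)
    convert this using 1; group
  symm := by
    intro Q g _ _ h q hq
    have := inv_mem (h _ (mem_cmap.mp hq))
    convert this using 1; group

theorem tgt_le : tgt 𝓦 T H ≤ T ⊓ ⁅H, H⁆ :=
  iSup₂_le fun _ _ => inf_le_inf_left T (commutator_mono inf_le_left inf_le_left)

theorem le_tgt {W : Subgroup G → Subgroup G} (hW : W ∈ 𝓦) :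
    T ⊓ ⁅H ⊓ normalizer ((W T : Subgroup G) : Set G), H ⊓ normalizer ((W T : Subgroup G) : Set G)⁆
      ≤ tgt 𝓦 T H :=
  le_iSup₂_of_le W hW le_rfl

theorem famTransfer_iff {p : ℕ} :
    Cfsg.FamilyControlsTransferIn p 𝓦 H ↔ ∃ T, IsSylowIn p T H ∧ T ⊓ ⁅H, H⁆ ≤ tgt 𝓦 T H := by
  constructor
  · rintro ⟨T, h1, h2, h3, h4⟩; exact ⟨T, ⟨h1, h2, h3⟩, h4.le⟩
  · rintro ⟨T, ⟨h1, h2, h3⟩, h4⟩; exact ⟨T, h1, h2, h3, le_antisymm h4 tgt_le⟩

theorem controlsTransfer_iff_singleton {p : ℕ} {W : Subgroup G → Subgroup G} :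
    Cfsg.ControlsTransferIn p W H ↔ Cfsg.FamilyControlsTransferIn p {W} H := by
  simp only [Cfsg.ControlsTransferIn, Cfsg.FamilyControlsTransferIn, iSup_singleton]

variable [Finite G] {p : ℕ} [Fact p.Prime]

/-- The focal subgroup theorem inside a subgroup. -/
theorem inf_commutator_le (hT : IsSylowIn p T H)
    (h : ∀ x ∈ H, ∀ q ∈ T, x * q * x⁻¹ ∈ T → x * q * x⁻¹ * q⁻¹ ∈ X) : T ⊓ ⁅H, H⁆ ≤ X := by
  have hfoc := commutator_inf_eq_focalSubgroup hT.toSylow
  have hmap : T ⊓ ⁅H, H⁆ = ((hT.toSylow : Subgroup H).focalSubgroup).map H.subtype := by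
    rw [← hfoc, Subgroup.map_inf _ _ _ H.subtype_injective, hT.map_toSylow, map_subtype_commutator, inf_comm]
  rw [hmap, map_le_iff_le_comap, focalSubgroup_def, closure_le]
  rintro _ ⟨hmem, q, hq, u, rfl⟩
  have hq' : (q : G) ∈ T := hT.map_toSylow ▸ mem_map_of_mem H.subtype hq
  have hmem' : ⁅(q : G), (u : G)⁆ ∈ T := mem_subgroupOf.mp hmem
  have e : (q : G) * u * (q : G)⁻¹ * ((q : G) * u)⁻¹ = ⁅(q : G), (u : G)⁆ * (q : G)⁻¹ := by
    simp only [commutatorElement_def]; group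
  have := h ((q : G) * u) (mul_mem q.2 u.2) (q : G)⁻¹ (inv_mem hq') (by rw [e]; exact mul_mem hmem' (inv_mem hq'))
  show ((⁅q, u⁆ : H) : G) ∈ X
  rw [e, inv_inv, inv_mul_cancel_right] at this
  exact this

theorem conj_mem_of_commutator {x q : G} (hx : x ∈ H) (hq : q ∈ T) (hTH : T ≤ H)
    (hxq : x * q * x⁻¹ ∈ T) : x * q * x⁻¹ * q⁻¹ ∈ T ⊓ ⁅H, H⁆ :=
  mem_inf.mpr ⟨mul_mem hxq (inv_mem hq), by
    have := commutator_mem_commutator hx (hTH hq); rwa [commutatorElement_def] at this⟩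

theorem tgt_cmap (h𝓦 : ∀ W ∈ 𝓦, Cfsg.IsConjugacyFunctor p W) (hT : IsPGroup p T) {x : G} (hx : x ∈ H) :
    cmap x (tgt 𝓦 T H) = tgt 𝓦 (cmap x T) H := by
  have hxH : cmap x H = H := mem_normalizer_iff_cmap.mp (le_normalizer hx)
  simp only [tgt, Subgroup.map_iSup]
  refine iSup_congr fun W => iSup_congr fun hW => ?_
  rw [Subgroup.map_inf _ _ _ (MulAut.conj x).injective, Subgroup.map_commutator,
    Subgroup.map_inf _ _ _ (MulAut.conj x).injective]
  show cmap x T ⊓ ⁅cmap x H ⊓ cmap x (normalizer _), cmap x H ⊓ cmap x (normalizer _)⁆ = _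
  rw [cfun_cmap (h𝓦 W hW) hT, cmap_normalizer, hxH]

/-- Control of transfer may be read off any Sylow subgroup. -/
theorem inf_commutator_le_tgt (h𝓦 : ∀ W ∈ 𝓦, Cfsg.IsConjugacyFunctor p W)
    (hctl : Cfsg.FamilyControlsTransferIn p 𝓦 H) (hT : IsSylowIn p T H) :
    T ⊓ ⁅H, H⁆ ≤ tgt 𝓦 T H := by
  obtain ⟨T0, hT0, hle⟩ := famTransfer_iff.mp hctl
  obtain ⟨x, hx, hxT⟩ := hT.conj_eq hT0
  have hxH : cmap x H = H := mem_normalizer_iff_cmap.mp (le_normalizer hx)
  have h2 := cmap_mono x hle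
  rw [tgt_cmap h𝓦 hT0.2.1 hx, hxT, cmap_inf, hxT] at h2
  convert h2 using 2
  show _ = Subgroup.map _ ⁅H, H⁆
  rw [Subgroup.map_commutator]
  show _ = ⁅cmap x H, cmap x H⁆
  rw [hxH]

theorem transfer_top_of_local (S : Sylow p G) (h𝓦 : ∀ W ∈ 𝓦, Cfsg.IsConjugacyFunctor p W)
    (Good : Subgroup G → Prop) (hgood : ∀ U, Good U → Full p (S : Subgroup G) U)
    (hex : ∀ T ≤ (S : Subgroup G), ∃ a : G, Good (cmap a T))
    (hloc : ∀ V, Good V → V ≠ ⊥ → Cfsg.FamilyControlsTransferIn p 𝓦 (normalizer (V : Set G))) :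
    Cfsg.FamilyControlsTransferIn p 𝓦 ⊤ := by
  refine famTransfer_iff.mpr ⟨(S : Subgroup G), isSylowIn_top S, ?_⟩
  set X := tgt 𝓦 (S : Subgroup G) ⊤
  suffices h : ∀ Q ≤ (S : Subgroup G), ∀ g : G, cmap g Q ≤ (S : Subgroup G) → Moves X Q g by
    refine inf_commutator_le (isSylowIn_top S) fun x _ q hq hxq => ?_
    refine h (zpowers q) (zpowers_le.mpr hq) x ?_ q (mem_zpowers q)
    rw [cmap, MonoidHom.map_zpowers, zpowers_le]; exact hxq
  refine fusion_induction fusRel_moves Good hgood hex fun U hU hU1 habove n hn => ?_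
  have hUf := hgood U hU
  refine local_of_functors fusRel_moves 𝓦 h𝓦 Good hgood hex
    (fun W hW x hx Q hQ hxQ q hq => ?_) habove
    (fun V hV hV1 _ hstep x hx Q hQ hxQ q hq => ?_) U hU hU1
    (Subgroup.card_le_of_le (le_normalizer_inf hUf.1)) n hn U (le_normalizer_inf hUf.1)
    ((mem_normalizer_iff_cmap.mp hn).le.trans (le_normalizer_inf hUf.1))
  · refine le_tgt hW (conj_mem_of_commutator ⟨mem_top x, hx⟩ (hQ hq) ?_ (hxQ (conj_mem_cmap hq)))
    exact le_inf le_top (le_normalizer.trans (normalizer_le_cfun (h𝓦 W hW) S.isPGroup'))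
  · have hSy := (hgood V hV).isSylowIn
    have h1 := conj_mem_of_commutator hx (hQ hq) hSy.1 (hxQ (conj_mem_cmap hq))
    have h2 := inf_commutator_le_tgt h𝓦 (hloc V hV hV1) hSy h1
    revert h2
    refine fun h2 => (iSup₂_le fun W hW => ?_ : tgt 𝓦 _ _ ≤ X) h2
    have hle : (S : Subgroup G) ⊓ normalizer (V : Set G) ≤ normalizer (V : Set G) ⊓
        normalizer ((W ((S : Subgroup G) ⊓ normalizer (V : Set G)) : Subgroup G) : Set G) :=
      le_inf inf_le_right (le_normalizer.trans (normalizer_le_cfun (h𝓦 W hW) hSy.2.1))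
    refine inf_commutator_le (hSy.mono hle inf_le_left) fun y hy r hr hyr => ?_
    refine hstep W hW y hy (zpowers r) (zpowers_le.mpr hr) ?_ r (mem_zpowers r)
    rw [cmap, MonoidHom.map_zpowers, zpowers_le]; exact hyr

end Cfsg.Agent.ConjFunctorTransfer
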