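import Mathlib
import Cfsg.Prelude.Def_ConjugacyFunctors
import Cfsg.Prelude.Def_LocalEven
import Cfsg.Prelude.Def_Solvable
import Cfsg.Agent.Lib.ConjFunctorBasic
import Cfsg.Agent.Lib.ConjFunctorControl
import Cfsg.Agent.Lib.ConjFunctorTransfer

/-!
Isomorphism invariant functors on p-groups in sections: compatibility with homomorphisms, transport of
control along injective maps, sections of sections, and lifting through a normal p'-subgroup.
-/

set_option autoImplicit false

open Subgroup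
open Cfsg.Agent.ConjFunctorBasic Cfsg.Agent.ConjFunctorControl Cfsg.Agent.ConjFunctorTransfer

namespace Cfsg.Agent.ConjFunctorSection

universe u

/-- The conjugacy functors on `G` induced by a set of functors on groups. -/
abbrev img (𝓦 : Set (∀ (Q : Type u) [Group Q], Subgroup Q)) (G : Type u) [Group G] :
    Set (Subgroup G → Subgroup G) :=
  (fun W => Cfsg.inducedFunctor (G := G) W) '' 𝓦

variable {G H : Type u} [Group G] [Group H] [Finite G] {p : ℕ} [Fact p.Prime]
  {W : ∀ (Q : Type u) [Group Q], Subgroup Q} {𝓦 : Set (∀ (Q : Type u) [Group Q], Subgroup Q)}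

/-! ### The induced functor -/

omit [Finite G] in
theorem inducedFunctor_le (W : ∀ (Q : Type u) [Group Q], Subgroup Q) (P : Subgroup G) :
    Cfsg.inducedFunctor (G := G) W P ≤ P := map_subtype_le _

theorem inducedFunctor_map (hW : Cfsg.IsCharPFunctor.{u} p W) (f : G →* H) {P : Subgroup G}
    (hP : IsPGroup p P) (hker : P ⊓ f.ker = ⊥) :
    Cfsg.inducedFunctor (G := H) W (P.map f) = (Cfsg.inducedFunctor (G := G) W P).map f := by
  have hinj : Function.Injective (f.subgroupMap P) := by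
    rw [← MonoidHom.ker_eq_bot_iff, eq_bot_iff]
    rintro ⟨x, hx⟩ hxk
    have hx1 : f x = 1 := congrArg Subtype.val hxk
    have : x ∈ P ⊓ f.ker := ⟨hx, hx1⟩
    rw [hker, mem_bot] at this
    exact mem_bot.mpr (Subtype.ext this)
  let φ : P ≃* P.map f :=
    MulEquiv.ofBijective (f.subgroupMap P) ⟨hinj, f.subgroupMap_surjective P⟩
  have h := hW.2 P (P.map f) hP φ
  show (W (P.map f)).map (P.map f).subtype = ((W P).map P.subtype).map f
  rw [← h, Subgroup.map_map, Subgroup.map_map]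
  rfl

theorem isConjugacyFunctor_induced (hW : Cfsg.IsCharPFunctor.{u} p W) :
    Cfsg.IsConjugacyFunctor p (Cfsg.inducedFunctor (G := G) W) := by
  intro P hP
  refine ⟨inducedFunctor_le W P, fun hP1 h => ?_, fun g => ?_⟩
  · have : Nontrivial P := (nontrivial_iff_ne_bot P).mpr hP1
    exact hW.1 P hP this ((map_eq_bot_iff_of_injective _ P.subtype_injective).mp h)
  · exact inducedFunctor_map hW (MulAut.conj g).toMonoidHom hP
      (by rw [(MonoidHom.ker_eq_bot_iff _).mpr (MulAut.conj g).injective, inf_bot_eq])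

theorem isConjugacyFunctor_img (h𝓦 : ∀ W ∈ 𝓦, Cfsg.IsCharPFunctor.{u} p W) :
    ∀ W ∈ img 𝓦 G, Cfsg.IsConjugacyFunctor p W := by
  rintro _ ⟨W, hW, rfl⟩
  exact isConjugacyFunctor_induced (h𝓦 W hW)

theorem map_normalizer_le (hW : Cfsg.IsCharPFunctor.{u} p W) (f : G →* H) {P : Subgroup G}
    (hP : IsPGroup p P) (hker : P ⊓ f.ker = ⊥) :
    (normalizer ((Cfsg.inducedFunctor (G := G) W P : Subgroup G) : Set G)).map f ≤
      normalizer ((Cfsg.inducedFunctor (G := H) W (P.map f) : Subgroup H) : Set H) := by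
  rw [inducedFunctor_map hW f hP hker]
  exact le_normalizer_map _

/-! ### Transport along injective maps -/

omit [Finite G] in
theorem map_cmap (f : G →* H) (c : G) (A : Subgroup G) : (cmap c A).map f = cmap (f c) (A.map f) := by
  simp only [cmap, Subgroup.map_map]
  congr 1
  ext x
  simp

theorem reach_map (h𝓦 : ∀ W ∈ 𝓦, Cfsg.IsCharPFunctor.{u} p W) (f : G →* H)
    (hf : Function.Injective f) {T Q : Subgroup G} (hT : IsPGroup p T) {g : G}
    (h : Reach (img 𝓦 G) T ⊤ Q g) : Reach (img 𝓦 H) (T.map f) f.range (Q.map f) (f g) := by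
  obtain ⟨c, hc, he⟩ := h
  refine ⟨f c, ?_, ?_⟩
  · have := hc.lift (p := Step (img 𝓦 H) (T.map f) f.range (Q.map f)) f ?_
    · change Relation.ReflTransGen _ (f 1) (f c) at this
      rwa [map_one] at this
    rintro a b ⟨⟨_, ⟨W, hW, rfl⟩, hm⟩, h1, h2⟩
    refine ⟨⟨_, ⟨W, hW, rfl⟩, mem_inf.mpr ⟨by rw [← map_inv, ← map_mul]; exact ⟨_, rfl⟩, ?_⟩⟩,
      map_cmap f a Q ▸ Subgroup.map_mono h1, map_cmap f b Q ▸ Subgroup.map_mono h2⟩
    have hk : T ⊓ f.ker = ⊥ := by rw [(MonoidHom.ker_eq_bot_iff _).mpr hf, inf_bot_eq]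
    refine map_normalizer_le (h𝓦 W hW) f hT hk ⟨_, (mem_inf.mp hm).2, ?_⟩
    rw [map_mul, map_inv]
  · rintro _ ⟨q, hq, rfl⟩
    rw [← map_inv, ← map_mul, ← map_mul, he q hq, map_mul, map_mul, map_inv]

theorem isSylowIn_map [Finite H] (f : G →* H) (hf : Function.Injective f) {T K : Subgroup G}
    (hT : IsSylowIn p T K) : IsSylowIn p (T.map f) (K.map f) :=
  ⟨Subgroup.map_mono hT.1, hT.2.1.map f, by rw [relIndex_map_map_of_injective T K hf]; exact hT.2.2⟩

theorem controls_range (h𝓦 : ∀ W ∈ 𝓦, Cfsg.IsCharPFunctor.{u} p W) [Finite H] (f : G →* H)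
    (hf : Function.Injective f) (h : Cfsg.FamilyControlsStrongFusionIn p (img 𝓦 G) ⊤) :
    Cfsg.FamilyControlsStrongFusionIn p (img 𝓦 H) f.range := by
  obtain ⟨T, hT, hr⟩ := famControls_iff.mp h
  refine famControls_iff.mpr ⟨T.map f, ?_, fun Q hQ x hx hxQ => ?_⟩
  · rw [MonoidHom.range_eq_map]; exact isSylowIn_map f hf hT
  · obtain ⟨g, rfl⟩ := hx
    obtain ⟨Q, rfl⟩ : ∃ Q' : Subgroup G, Q'.map f = Q :=
      ⟨Q.comap f, map_comap_eq_self (hQ.trans (map_le_range f T))⟩
    rw [← map_cmap] at hxQ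
    exact reach_map h𝓦 f hf hT.2.1
      (hr Q ((map_le_map_iff_of_injective hf).mp hQ) g (mem_top g)
        ((map_le_map_iff_of_injective hf).mp hxQ))

theorem map_tgt_le (h𝓦 : ∀ W ∈ 𝓦, Cfsg.IsCharPFunctor.{u} p W) (f : G →* H)
    (hf : Function.Injective f) {T : Subgroup G} (hT : IsPGroup p T) :
    (tgt (img 𝓦 G) T ⊤).map f ≤ tgt (img 𝓦 H) (T.map f) f.range := by
  simp only [tgt, Subgroup.map_iSup]
  refine iSup₂_le ?_
  rintro _ ⟨W, hW, rfl⟩
  refine le_iSup₂_of_le _ ⟨W, hW, rfl⟩ ((map_inf_le _ _ _).trans (inf_le_inf_left _ ?_))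
  have hk : T ⊓ f.ker = ⊥ := by rw [(MonoidHom.ker_eq_bot_iff _).mpr hf, inf_bot_eq]
  rw [map_commutator, top_inf_eq]
  have h1 := le_inf (map_le_range f _) (map_normalizer_le (h𝓦 W hW) f hT hk)
  exact commutator_mono h1 h1

theorem transfer_range (h𝓦 : ∀ W ∈ 𝓦, Cfsg.IsCharPFunctor.{u} p W) [Finite H] (f : G →* H)
    (hf : Function.Injective f) (h : Cfsg.FamilyControlsTransferIn p (img 𝓦 G) ⊤) :
    Cfsg.FamilyControlsTransferIn p (img 𝓦 H) f.range := by
  obtain ⟨T, hT, hle⟩ := famTransfer_iff.mp h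
  refine famTransfer_iff.mpr ⟨T.map f, ?_, ?_⟩
  · rw [MonoidHom.range_eq_map]; exact isSylowIn_map f hf hT
  · refine le_trans ?_ ((Subgroup.map_mono hle).trans (map_tgt_le h𝓦 f hf hT.2.1))
    rw [MonoidHom.range_eq_map, ← map_commutator, ← Subgroup.map_inf _ _ _ hf]

theorem controls_top_iso (h𝓦 : ∀ W ∈ 𝓦, Cfsg.IsCharPFunctor.{u} p W) [Finite H] (e : G ≃* H)
    (h : Cfsg.FamilyControlsStrongFusionIn p (img 𝓦 G) ⊤) :
    Cfsg.FamilyControlsStrongFusionIn p (img 𝓦 H) ⊤ := by
  have := controls_range h𝓦 e.toMonoidHom e.injective h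
  rwa [MonoidHom.range_eq_top.mpr e.surjective] at this

theorem transfer_top_iso (h𝓦 : ∀ W ∈ 𝓦, Cfsg.IsCharPFunctor.{u} p W) [Finite H] (e : G ≃* H)
    (h : Cfsg.FamilyControlsTransferIn p (img 𝓦 G) ⊤) :
    Cfsg.FamilyControlsTransferIn p (img 𝓦 H) ⊤ := by
  have := transfer_range h𝓦 e.toMonoidHom e.injective h
  rwa [MonoidHom.range_eq_top.mpr e.surjective] at this

theorem controls_subgroup (h𝓦 : ∀ W ∈ 𝓦, Cfsg.IsCharPFunctor.{u} p W) (M : Subgroup G)
    (h : Cfsg.FamilyControlsStrongFusionIn p (img 𝓦 M) ⊤) :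
    Cfsg.FamilyControlsStrongFusionIn p (img 𝓦 G) M := by
  have := controls_range h𝓦 M.subtype M.subtype_injective h
  rwa [range_subtype] at this

theorem transfer_subgroup (h𝓦 : ∀ W ∈ 𝓦, Cfsg.IsCharPFunctor.{u} p W) (M : Subgroup G)
    (h : Cfsg.FamilyControlsTransferIn p (img 𝓦 M) ⊤) :
    Cfsg.FamilyControlsTransferIn p (img 𝓦 G) M := by
  have := transfer_range h𝓦 M.subtype M.subtype_injective h
  rwa [range_subtype] at this

/-! ### Sections -/

omit [Finite G] in
theorem involves_of_surjective {K : Subgroup G} (f : K →* H) (hf : Function.Surjective f) :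
    Cfsg.Involves H G := by
  have hR : (f.ker.map K.subtype).subgroupOf K = f.ker :=
    comap_map_eq_self_of_injective K.subtype_injective _
  have hN : ((f.ker.map K.subtype).subgroupOf K).Normal := by rw [hR]; infer_instance
  exact ⟨K, f.ker.map K.subtype, hN,
    ⟨(QuotientGroup.quotientMulEquivOfEq hR).trans (QuotientGroup.quotientKerEquivOfSurjective f hf)⟩⟩

omit [Finite G] in
theorem involves_refl : Cfsg.Involves G G :=
  involves_of_surjective (K := ⊤) (Subgroup.topEquiv (G := G)).toMonoidHom topEquiv.surjective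

omit [Finite G] in
theorem involves_subgroup (K : Subgroup G) : Cfsg.Involves K G :=
  involves_of_surjective (MonoidHom.id K) Function.surjective_id

omit [Finite G] in
theorem involves_quotient (N : Subgroup G) [N.Normal] : Cfsg.Involves (G ⧸ N) G :=
  involves_of_surjective (K := ⊤) ((QuotientGroup.mk' N).comp (⊤ : Subgroup G).subtype)
    fun x => by
      obtain ⟨g, rfl⟩ := QuotientGroup.mk_surjective x
      exact ⟨⟨g, mem_top g⟩, rfl⟩

omit [Finite G] in
theorem involves_trans {L : Type u} [Group L] (h1 : Cfsg.Involves L H) (h2 : Cfsg.Involves H G) :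
    Cfsg.Involves L G := by
  obtain ⟨K, R, hR, ⟨e⟩⟩ := h2
  obtain ⟨K', R', hR', ⟨e'⟩⟩ := h1
  let π : K →* H := e.toMonoidHom.comp (QuotientGroup.mk' (R.subgroupOf K))
  have hπ : Function.Surjective π := e.surjective.comp (QuotientGroup.mk'_surjective _)
  let ψ : (K'.comap π) →* L :=
    e'.toMonoidHom.comp ((QuotientGroup.mk' (R'.subgroupOf K')).comp (π.subgroupComap K'))
  have hψ : Function.Surjective ψ := e'.surjective.comp ((QuotientGroup.mk'_surjective _).comp
    fun x => by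
      obtain ⟨y, hy⟩ := hπ x.1
      exact ⟨⟨y, show π y ∈ K' from hy ▸ x.2⟩, Subtype.ext hy⟩)
  let σ := (K'.comap π).equivMapOfInjective K.subtype K.subtype_injective
  exact involves_of_surjective (ψ.comp σ.symm.toMonoidHom) (hψ.comp σ.symm.surjective)

/-! ### A normal subgroup of order prime to `p` -/

variable {K : Subgroup G} [K.Normal]

theorem inf_eq_bot_of_pGroup {P : Subgroup G} (hP : IsPGroup p P) (hK : (Nat.card K).Coprime p) :
    P ⊓ K = ⊥ := by
  obtain ⟨k, hk⟩ := IsPGroup.iff_card.mp hP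
  exact inf_eq_bot_of_coprime (by rw [hk]; exact Nat.Coprime.pow_left k hK.symm)

theorem isSylowIn_sup {T : Subgroup G} (hT : IsPGroup p T) (hK : (Nat.card K).Coprime p) :
    IsSylowIn p T (T ⊔ K) := by
  refine ⟨le_sup_left, hT, fun hd => ?_⟩
  have hcard : Nat.card (T ⊔ K : Subgroup G) ∣ Nat.card T * Nat.card K := by
    have h2 := K.relIndex_mul_index (le_sup_right : K ≤ T ⊔ K)
    have h3 := card_mul_index K
    have h4 : Nat.card K * K.relIndex (T ⊔ K) = Nat.card (T ⊔ K : Subgroup G) := by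
      rw [← relIndex_bot_left K, ← relIndex_bot_left (T ⊔ K)]
      exact relIndex_mul_relIndex ⊥ K _ bot_le le_sup_right
    rw [← h4, relIndex_sup_right, mul_comm]
    exact mul_dvd_mul_right (relIndex_dvd_card K T) _
  have h5 : Nat.card T * T.relIndex (T ⊔ K) = Nat.card (T ⊔ K : Subgroup G) := by
    rw [← relIndex_bot_left T, ← relIndex_bot_left (T ⊔ K)]
    exact relIndex_mul_relIndex ⊥ T _ bot_le le_sup_left
  rw [← h5] at hcard
  have := Nat.dvd_of_mul_dvd_mul_left Nat.card_pos hcard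
  exact (Fact.out : p.Prime).coprime_iff_not_dvd.mp hK.symm (hd.trans this)

theorem map_inducedFunctor_mk (hW : Cfsg.IsCharPFunctor.{u} p W) {T : Subgroup G} (hT : IsPGroup p T)
    (hK : (Nat.card K).Coprime p) :
    Cfsg.inducedFunctor (G := G ⧸ K) W (T.map (QuotientGroup.mk' K))
      = (Cfsg.inducedFunctor (G := G) W T).map (QuotientGroup.mk' K) :=
  inducedFunctor_map hW _ hT (by rw [QuotientGroup.ker_mk']; exact inf_eq_bot_of_pGroup hT hK)

/-- Elements normalising `W` of the image lift to elements normalising `W`. -/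
theorem exists_lift_normalizer (hW : Cfsg.IsCharPFunctor.{u} p W) {T : Subgroup G} (hT : IsPGroup p T)
    (hK : (Nat.card K).Coprime p) {d : G ⧸ K}
    (hd : d ∈ normalizer ((Cfsg.inducedFunctor (G := G ⧸ K) W (T.map (QuotientGroup.mk' K)) :
      Subgroup (G ⧸ K)) : Set (G ⧸ K))) :
    ∃ d' ∈ normalizer ((Cfsg.inducedFunctor (G := G) W T : Subgroup G) : Set G),
      QuotientGroup.mk' K d' = d := by
  rw [map_inducedFunctor_mk hW hT hK] at hd
  obtain ⟨g, rfl⟩ := QuotientGroup.mk'_surjective K d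
  set Y := Cfsg.inducedFunctor (G := G) W T with hY
  have hYp : IsPGroup p Y := isPGroup_mono hT (inducedFunctor_le W T)
  have hle : cmap g Y ≤ Y ⊔ K := by
    rw [← QuotientGroup.ker_mk' K, ← comap_map_eq, ← map_le_iff_le_comap, map_cmap,
      mem_normalizer_iff_cmap.mp hd]
  obtain ⟨x, hx, hxle⟩ := (isSylowIn_sup hYp hK).exists_conj_le (isPGroup_cmap hYp) hle
  obtain ⟨w, hw, k, hk, rfl⟩ := mem_sup_of_normal_right.mp hx
  refine ⟨k * g, mem_normalizer_of_cmap_le ?_, ?_⟩
  · rw [cmap_mul w k] at hxle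
    have := cmap_mono w⁻¹ hxle
    rw [cmap_inv_cmap, mem_normalizer_iff_cmap.mp (le_normalizer (inv_mem hw))] at this
    rwa [cmap_mul]
  · rw [map_mul, show QuotientGroup.mk' K k = 1 from (QuotientGroup.eq_one_iff k).mpr hk, one_mul]

end Cfsg.Agent.ConjFunctorSection
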