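import Mathlib
import Cfsg.Prelude.Def_ConjugacyFunctors
import Cfsg.Prelude.Def_LocalEven
import Cfsg.Prelude.Def_Solvable
import Cfsg.Agent.Lib.HallCore
import Cfsg.Agent.Lib.CentralSylow
import Cfsg.Agent.Lib.ConjFunctorBasic
import Cfsg.Agent.Lib.ConjFunctorControl
import Cfsg.Agent.Lib.ConjFunctorTransfer
import Cfsg.Agent.Lib.ConjFunctorSection

/-!
Section functors: control of strong fusion and of transfer in all constrained sections gives control in
the whole group.
-/

set_option autoImplicit false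

open scoped commutatorElement Pointwise
open Subgroup Cfsg.Agent.ConjFunctorBasic Cfsg.Agent.ConjFunctorControl
  Cfsg.Agent.ConjFunctorTransfer Cfsg.Agent.ConjFunctorSection Cfsg.Agent.HallCore

namespace Cfsg.Agent.ConjFunctorMaster

universe u

/-- `C(O_p) ≤ O_p`. -/
def Constr (p : ℕ) (G : Type u) [Group G] : Prop :=
  centralizer ((Cfsg.pCore p G : Subgroup G) : Set G) ≤ Cfsg.pCore p G

variable {G : Type u} [Group G] [Finite G] {p : ℕ} [Fact p.Prime]
  {𝓦 : Set (∀ (Q : Type u) [Group Q], Subgroup Q)}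

theorem eq_bot_of_normalizer_eq_top {V : Subgroup G} (hZ : Cfsg.pCore p G = ⊥) (hV : IsPGroup p V)
    (hN : normalizer (V : Set G) = ⊤) : V = ⊥ := by
  haveI := normalizer_eq_top_iff.mp hN
  exact le_bot_iff.mp (hZ ▸ le_pCore hV)

theorem card_subgroup_lt {M : Subgroup G} (h : M ≠ ⊤) : Nat.card M < Nat.card G :=
  lt_of_le_of_ne M.card_le_card_group fun hc => h (card_eq_iff_eq_top M |>.mp hc)

theorem card_quotient_lt {N : Subgroup G} [N.Normal] (h : N ≠ ⊥) : Nat.card (G ⧸ N) < Nat.card G := by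
  rw [N.card_eq_card_quotient_mul_card_subgroup]
  exact lt_mul_of_one_lt_right Nat.card_pos (N.one_lt_card_iff_ne_bot.mpr h)

theorem not_dvd_relIndex_of_ge {S : Sylow p G} {C : Subgroup G} [C.Normal] :
    IsSylowIn p ((S : Subgroup G) ⊓ C) C :=
  ⟨inf_le_right, isPGroup_mono S.isPGroup' inf_le_left, CentralSylow.not_dvd_relIndex_normal S C⟩

/-- Frattini argument with a Sylow subgroup in the `relIndex` form. -/
theorem frattini_split {C D H : Subgroup G} (hD : IsSylowIn p D C) (hCn : H ≤ normalizer (C : Set G))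
    {g : G} (hg : g ∈ H) :
    ∃ c ∈ C, ∃ m ∈ normalizer (D : Set G), g = c * m := by
  have h1 : cmap g D ≤ C := (cmap_mono g hD.1).trans (mem_normalizer_iff_cmap.mp (hCn hg)).le
  obtain ⟨x, hx, hle⟩ := hD.exists_conj_le (isPGroup_cmap hD.2.1) h1
  exact ⟨x⁻¹, inv_mem hx, x * g, mem_normalizer_of_cmap_le (by rw [cmap_mul]; exact hle), by group⟩

theorem centralizer_pCore_le {S : Sylow p G} (hK : Cfsg.pPrimeCore p G = ⊥)
    (hCS : (S : Subgroup G) ⊓ centralizer ((Cfsg.pCore p G : Subgroup G) : Set G) ≤ Cfsg.pCore p G) :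
    Constr p G := by
  set Z := Cfsg.pCore p G
  haveI : Z.Normal := pCore_normal p G
  set C := centralizer (Z : Set G) with hC
  haveI : C.Normal := normal_centralizer
  have hZS : Z ≤ (S : Subgroup G) := (isPGroup_pCore p G).le_sylow_of_normal S
  set D := ((S : Subgroup G) ⊓ C).subgroupOf C with hD
  have hDc : D ≤ center C := by
    intro x hx
    rw [mem_center_iff]
    intro y
    exact Subtype.ext (mem_centralizer_iff.mp y.2 _ (hCS (mem_subgroupOf.mp hx))).symm
  obtain ⟨O, hO, -, hco, hcomp, -⟩ := CentralSylow.central_sylow D hDc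
    ((not_dvd_relIndex_of_ge (S := S) (C := C)).2.1.comap_subtype)
    (not_dvd_relIndex_of_ge (S := S) (C := C)).2.2
  have hObot : O = ⊥ := by
    have h1 : (O.map C.subtype).Normal := by
      haveI : O.Characteristic := hO ▸ pPrimeCore_characteristic p C
      infer_instance
    have h2 : O.map C.subtype ≤ Cfsg.pPrimeCore p G := by
      haveI := h1
      exact le_pPrimeCore (by rwa [card_map_of_injective C.subtype_injective])
    rw [hK, le_bot_iff, map_eq_bot_iff_of_injective _ C.subtype_injective] at h2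
    exact h2
  have hDtop : D = ⊤ := by
    have := hcomp.sup_eq_top
    rwa [hObot, bot_sup_eq] at this
  intro x hx
  exact hCS (mem_subgroupOf.mp (hDtop ▸ mem_top (⟨x, hx⟩ : C) : (⟨x, hx⟩ : C) ∈ D))

/-- A product of two subgroups containing the Sylow subgroup. -/
theorem rel_of_factor {S : Sylow p G} {Φ : Subgroup G → G → Prop} (hΦ : FusRel (S : Subgroup G) Φ)
    {N₁ N₂ : Subgroup G} (h1 : (S : Subgroup G) ≤ N₁) (h2 : (S : Subgroup G) ≤ N₂)
    (hfac : ∀ g : G, ∃ a ∈ N₁, ∃ b ∈ N₂, g = a * b)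
    (hΦ1 : ∀ x ∈ N₁, ∀ Q ≤ (S : Subgroup G), cmap x Q ≤ (S : Subgroup G) → Φ Q x)
    (hΦ2 : ∀ x ∈ N₂, ∀ Q ≤ (S : Subgroup G), cmap x Q ≤ (S : Subgroup G) → Φ Q x) :
    ∀ Q ≤ (S : Subgroup G), ∀ g : G, cmap g Q ≤ (S : Subgroup G) → Φ Q g := by
  intro Q hQ g hg
  obtain ⟨a, ha, b, hb, rfl⟩ := hfac g
  have hb1 : cmap b Q ≤ N₁ := by
    have h := (cmap_mono a⁻¹ (hg.trans h1))
    rw [cmap_mul a b, cmap_inv_cmap] at h
    exact h.trans (mem_normalizer_iff_cmap.mp (le_normalizer (inv_mem ha))).le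
  have hb2 : cmap b Q ≤ N₂ :=
    (cmap_mono b (hQ.trans h2)).trans (mem_normalizer_iff_cmap.mp (le_normalizer hb)).le
  obtain ⟨d, hd, hdle⟩ := ((isSylowIn_top S).mono (le_inf h1 h2) le_top).exists_conj_le
    (isPGroup_cmap (isPGroup_mono S.isPGroup' hQ)) (le_inf hb1 hb2)
  rw [← cmap_mul] at hdle
  have h3 := hΦ2 (d * b) (mul_mem hd.2 hb) Q hQ hdle
  have e : a * b = a * d⁻¹ * (d * b) := by group
  have hg' : cmap (a * d⁻¹) (cmap (d * b) Q) ≤ (S : Subgroup G) := by rw [← cmap_mul, ← e]; exact hg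
  rw [e]
  exact hΦ.trans hQ hdle hg' h3 (hΦ1 _ (mul_mem ha (inv_mem hd.1)) _ hdle hg')

/-- Elements centralising `Z` and acting trivially on `U / Z`, of order prime to `p`. -/
theorem mem_centralizer_of_chain {Z U : Subgroup G} (hU : IsPGroup p U) (hZU : Z ≤ U) {y : G}
    (hy : (orderOf y).Coprime p) (hyZ : y ∈ centralizer (Z : Set G))
    (hyU : ∀ u ∈ U, y * u * y⁻¹ * u⁻¹ ∈ Z) : y ∈ centralizer (U : Set G) := by
  refine mem_centralizer_iff.mpr fun u hu => ?_
  set z := y * u * y⁻¹ * u⁻¹ with hz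
  have hzZ : z ∈ Z := hyU u hu
  have hcz : ∀ k : ℕ, y ^ k * z = z * y ^ k :=
    fun k => (Commute.pow_left (mem_centralizer_iff.mp hyZ z hzZ).symm k).eq
  have key : ∀ k : ℕ, y ^ k * u * (y ^ k)⁻¹ = z ^ k * u := by
    intro k
    induction k with
    | zero => simp
    | succ k ih =>
      calc y ^ (k + 1) * u * (y ^ (k + 1))⁻¹ = y ^ k * (y * u * y⁻¹ * u⁻¹ * u) * (y ^ k)⁻¹ := by
            rw [pow_succ]; group
        _ = y ^ k * z * u * (y ^ k)⁻¹ := by rw [← hz]; group
        _ = z * (y ^ k * u * (y ^ k)⁻¹) := by rw [hcz k]; group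
        _ = z ^ (k + 1) * u := by rw [ih, pow_succ']; group
  have h1 : z ^ orderOf y = 1 := by
    have := key (orderOf y)
    rw [pow_orderOf_eq_one, one_mul, inv_one, mul_one] at this
    exact (mul_eq_right.mp this.symm)
  obtain ⟨j, hj⟩ := (IsPGroup.iff_orderOf.mp hU) ⟨z, hZU hzZ⟩
  rw [← Subgroup.orderOf_coe] at hj
  simp only at hj
  have h2 : orderOf z = 1 :=
    Nat.eq_one_of_dvd_coprimes (Nat.Coprime.pow_right j hy) (orderOf_dvd_of_pow_eq_one h1) (hj ▸ dvd_rfl)
  rw [orderOf_eq_one_iff] at h2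
  rw [hz, mul_inv_eq_one, mul_inv_eq_iff_eq_mul] at h2
  exact h2.symm

/-! ### Strong fusion -/

theorem fusion_master (h𝓦 : ∀ W ∈ 𝓦, Cfsg.IsCharPFunctor.{u} p W) (hne : 𝓦.Nonempty)
    (hloc : ∀ (H : Type u) [Group H] [Finite H], Cfsg.Involves H G → Constr p H →
      Cfsg.FamilyControlsStrongFusionIn p (img 𝓦 H) ⊤) :
    Cfsg.FamilyControlsStrongFusionIn p (img 𝓦 G) ⊤ := by
  suffices ∀ n : ℕ, ∀ (G : Type u) [Group G] [Finite G], Nat.card G ≤ n →
      (∀ (H : Type u) [Group H] [Finite H], Cfsg.Involves H G → Constr p H →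
        Cfsg.FamilyControlsStrongFusionIn p (img 𝓦 H) ⊤) →
      Cfsg.FamilyControlsStrongFusionIn p (img 𝓦 G) ⊤ from this _ G le_rfl hloc
  intro n
  induction n with
  | zero => intro G _ _ hn; exact absurd hn (Nat.card_pos).not_ge
  | succ n ih =>
  intro G _ _ hn hloc
  have hconj := isConjugacyFunctor_img (G := G) h𝓦
  have hM : ∀ M : Subgroup G, M ≠ ⊤ → Cfsg.FamilyControlsStrongFusionIn p (img 𝓦 G) M := fun M hM =>
    controls_subgroup h𝓦 M (ih M (by have := card_subgroup_lt hM; omega)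
      fun H _ _ hH => hloc H (involves_trans hH (involves_subgroup M)))
  have hQuot : ∀ (N : Subgroup G) [N.Normal], N ≠ ⊥ →
      Cfsg.FamilyControlsStrongFusionIn p (img 𝓦 (G ⧸ N)) ⊤ := fun N _ hN =>
    ih (G ⧸ N) (by have := card_quotient_lt (N := N) hN; omega)
      fun H _ _ hH => hloc H (involves_trans hH (involves_quotient N))
  obtain ⟨S⟩ : Nonempty (Sylow p G) := inferInstance
  by_cases hZ1 : Cfsg.pCore p G = ⊥
  · exact controls_top_of_local hconj (Full p (S : Subgroup G)) (fun _ h => h)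
      (fun T hT => (exists_full S hT).imp fun a ha => ha.1)
      fun V hV hV1 => hM _ fun h =>
        hV1 (eq_bot_of_normalizer_eq_top hZ1 (isPGroup_mono S.isPGroup' hV.1) h)
  refine famControls_iff.mpr ⟨(S : Subgroup G), isSylowIn_top S, fun Q hQ g _ hgQ => ?_⟩
  obtain ⟨W₀, hW₀⟩ := hne
  have hsub : ∀ M : Subgroup G, M ≠ ⊤ → (S : Subgroup G) ≤ M → ∀ x ∈ M, ∀ Q ≤ (S : Subgroup G),
      cmap x Q ≤ (S : Subgroup G) → Reach (img 𝓦 G) (S : Subgroup G) ⊤ Q x := by
    intro M hM' hSM x hx Q hQ hxQ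
    obtain ⟨c, hc, he⟩ := reach_of_controls hconj (hM M hM') ((isSylowIn_top S).mono hSM le_top)
      Q hQ x hx hxQ
    refine ⟨c, Relation.ReflTransGen.mono (fun a b hab => ?_) _ _ hc, he⟩
    obtain ⟨⟨W, hW, hm⟩, hh⟩ := hab
    exact ⟨⟨W, hW, ⟨mem_top _, hm.2⟩⟩, hh⟩
  by_cases hK : Cfsg.pPrimeCore p G = ⊥
  swap
  · -- lift from the quotient by `O_{p'}(G)`
    set K := Cfsg.pPrimeCore p G
    have hKc : (Nat.card K).Coprime p := coprime_card_pPrimeCore p G
    set π := QuotientGroup.mk' K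
    have hS' : IsSylowIn p ((S : Subgroup G).map π) ⊤ := by
      have := isSylowIn_top (S.mapSurjective (QuotientGroup.mk'_surjective K))
      rwa [Sylow.coe_mapSurjective] at this
    obtain ⟨c', hc', he'⟩ := reach_of_controls (isConjugacyFunctor_img h𝓦) (hQuot K hK) hS'
      (Q.map π) (Subgroup.map_mono hQ) (π g) (mem_top _) (by rw [← map_cmap]; exact Subgroup.map_mono hgQ)
    suffices ∀ e, Relation.ReflTransGen (Step (img 𝓦 (G ⧸ K)) ((S : Subgroup G).map π) ⊤ (Q.map π)) 1 e →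
        ∃ c, π c = e ∧ cmap c Q ≤ (S : Subgroup G) ∧
          Relation.ReflTransGen (Step (img 𝓦 G) (S : Subgroup G) ⊤ Q) 1 c by
      obtain ⟨c, hc, hcS, hch⟩ := this c' hc'
      refine ⟨c, hch, fun q hq => ?_⟩
      have h1 : π (c * q * c⁻¹) = π (g * q * g⁻¹) := by
        have := he' (π q) (mem_map_of_mem π hq)
        rw [← hc] at this
        simpa only [map_mul, map_inv] using this
      have h2 : (c * q * c⁻¹)⁻¹ * (g * q * g⁻¹) ∈ (S : Subgroup G) ⊓ K :=
        mem_inf.mpr ⟨mul_mem (inv_mem (hcS (conj_mem_cmap hq))) (hgQ (conj_mem_cmap hq)), QuotientGroup.eq.mp h1⟩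
      rw [inf_eq_bot_of_pGroup S.isPGroup' hKc, mem_bot, inv_mul_eq_one] at h2
      exact h2
    intro e he
    clear hc' he'
    induction he with
    | refl => exact ⟨1, map_one π, by rwa [cmap_one], Relation.ReflTransGen.refl⟩
    | @tail b b' _ hb ih' =>
      obtain ⟨c, hc, hcS, hch⟩ := ih'
      obtain ⟨⟨_, ⟨W, hW, rfl⟩, hm⟩, -, hb'⟩ := hb
      obtain ⟨d, hd, hdπ⟩ := exists_lift_normalizer (h𝓦 W hW) S.isPGroup' hKc hm.2
      set N := normalizer ((Cfsg.inducedFunctor (G := G) W (S : Subgroup G) : Subgroup G) : Set G)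
      have hSN : (S : Subgroup G) ≤ N := le_normalizer.trans
        (normalizer_le_cfun (isConjugacyFunctor_induced (h𝓦 W hW)) S.isPGroup')
      have hle : cmap (d * c) Q ≤ N ⊓ ((S : Subgroup G) ⊔ K) := by
        refine le_inf ?_ ?_
        · rw [cmap_mul]
          exact (cmap_mono d (hcS.trans hSN)).trans (mem_normalizer_iff_cmap.mp (le_normalizer hd)).le
        · rw [← QuotientGroup.ker_mk' K, ← comap_map_eq, ← map_le_iff_le_comap, map_cmap]
          have : π (d * c) = b' := by rw [map_mul, hc]; exact hdπ ▸ inv_mul_cancel_right b' b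
          rw [this]; exact hb'
      obtain ⟨x, hx, hxle⟩ := ((isSylowIn_top S).mono (le_inf hSN le_sup_left) le_top).exists_conj_le
        (isPGroup_cmap (isPGroup_mono S.isPGroup' hQ)) hle
      obtain ⟨s, hs, k, hk, rfl⟩ := mem_sup_of_normal_right.mp hx.2
      have hkN : k ∈ N := by
        have := mul_mem (inv_mem (hSN hs)) hx.1
        rwa [inv_mul_cancel_left] at this
      have hkle : cmap (k * d * c) Q ≤ (S : Subgroup G) := by
        have := cmap_mono s⁻¹ hxle
        rw [mem_normalizer_iff_cmap.mp (le_normalizer (inv_mem hs)), cmap_mul s k, cmap_inv_cmap] at this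
        rwa [mul_assoc, cmap_mul]
      refine ⟨k * d * c, ?_, hkle, hch.tail ⟨⟨_, ⟨W, hW, rfl⟩, ?_⟩, hcS, hkle⟩⟩
      · rw [map_mul, map_mul, show π k = 1 from (QuotientGroup.eq_one_iff k).mpr hk, one_mul, hc, hdπ,
          inv_mul_cancel_right]
      · exact ⟨mem_top _, by simpa using mul_mem hkN hd⟩
  set Z := Cfsg.pCore p G with hZdef
  haveI : Z.Normal := pCore_normal p G
  have hZS : Z ≤ (S : Subgroup G) := (isPGroup_pCore p G).le_sylow_of_normal S
  set C := centralizer (Z : Set G) with hC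
  haveI : C.Normal := normal_centralizer
  by_cases hD : (S : Subgroup G) ⊓ C ≤ Z
  · exact reach_of_controls hconj (hloc G involves_refl (centralizer_pCore_le hK hD))
      (isSylowIn_top S) Q hQ g (mem_top g) hgQ
  set D := (S : Subgroup G) ⊓ C with hDdef
  have hfr : IsSylowIn p D C := not_dvd_relIndex_of_ge
  have hSD : (S : Subgroup G) ≤ normalizer (D : Set G) := fun s hs => by
    refine mem_normalizer_iff_cmap.mpr ?_
    rw [hDdef, cmap_inf, mem_normalizer_iff_cmap.mp (le_normalizer hs)]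
    congr 1
    exact mem_normalizer_iff_cmap.mp (by rw [normalizer_eq_top]; exact mem_top s)
  set M := normalizer ((Z ⊔ D : Subgroup G) : Set G) with hMdef
  have hDM : normalizer (D : Set G) ≤ M := fun x hx => by
    refine mem_normalizer_iff_cmap.mpr ?_
    rw [cmap, Subgroup.map_sup]
    exact congrArg₂ (· ⊔ ·) (mem_normalizer_iff_cmap.mp (by rw [normalizer_eq_top]; exact mem_top x))
      (mem_normalizer_iff_cmap.mp hx)
  have hMtop : M ≠ ⊤ := fun h => by
    haveI := normalizer_eq_top_iff.mp h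
    exact hD (le_sup_right.trans (le_pCore (isPGroup_mono S.isPGroup' (sup_le hZS inf_le_left))))
  by_cases hL : C ⊔ (S : Subgroup G) = ⊤
  swap
  · refine rel_of_factor fusRel_reach (N₁ := C ⊔ (S : Subgroup G)) (N₂ := M) le_sup_right
      (hSD.trans hDM) (fun x => ?_) (hsub _ hL le_sup_right) (hsub M hMtop (hSD.trans hDM)) Q hQ g hgQ
    obtain ⟨c, hc, m, hm, e⟩ := frattini_split hfr (H := ⊤) (by rw [normalizer_eq_top]) (mem_top x)
    exact ⟨c, mem_sup_left hc, m, hDM hm, e⟩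
  -- now `G = C S`
  have hpC : ∀ y : G, (orderOf y).Coprime p → y ∈ C := by
    intro y hy
    have hpg : IsPGroup p (G ⧸ C) := by
      refine S.isPGroup'.of_surjective ((QuotientGroup.mk' C).comp (S : Subgroup G).subtype) ?_
      intro x
      obtain ⟨x, rfl⟩ := QuotientGroup.mk'_surjective C x
      obtain ⟨c, hc, s, hs, rfl⟩ := mem_sup_of_normal_left.mp (hL ▸ mem_top x : x ∈ C ⊔ (S : Subgroup G))
      exact ⟨⟨s, hs⟩, by simp [(QuotientGroup.eq_one_iff c).mpr hc]⟩
    obtain ⟨j, hj⟩ := hpg (QuotientGroup.mk y)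
    have h1 := orderOf_map_dvd (QuotientGroup.mk' C) y
    rw [← QuotientGroup.eq_one_iff, ← orderOf_eq_one_iff]
    exact Nat.eq_one_of_dvd_coprimes (Nat.Coprime.pow_right j hy) h1 (orderOf_dvd_of_pow_eq_one hj)
  refine fusion_induction fusRel_reach (Full p (S : Subgroup G)) (fun _ h => h)
    (fun T hT => (exists_full S hT).imp fun a ha => ha.1) (fun U hU hU1 habove x hx => ?_) Q hQ g hgQ
  have hxU : cmap x U = U := mem_normalizer_iff_cmap.mp hx
  have enlarge : ∀ U' : Subgroup G, U ≤ U' → U' ≤ (S : Subgroup G) → ¬ U' ≤ U → ∀ y : G,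
      cmap y U' ≤ (S : Subgroup G) → Reach (img 𝓦 G) (S : Subgroup G) ⊤ U y := by
    intro U' hle hS hne y hy
    refine fusRel_reach.mono hle hS hy (habove U' ?_ hS y hy)
    exact lt_of_le_of_ne (Subgroup.card_le_of_le hle) fun h => hne (eq_of_le_of_card_ge hle h.ge).ge
  by_cases hZU : Z ≤ U
  swap
  · refine enlarge (U ⊔ Z) le_sup_left (sup_le hU.1 hZS) (fun h => hZU (le_sup_right.trans h)) x ?_
    rw [cmap, Subgroup.map_sup]
    exact sup_le (hxU.le.trans hU.1)
      ((mem_normalizer_iff_cmap.mp (show x ∈ normalizer (Z : Set G) by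
        rw [normalizer_eq_top]; exact mem_top x)).le.trans hZS)
  have hR := hU.isSylowIn
  set R := (S : Subgroup G) ⊓ normalizer (U : Set G) with hRdef
  by_cases hCU : (S : Subgroup G) ⊓ centralizer (U : Set G) ≤ U
  swap
  · have hCN : centralizer (U : Set G) ≤ normalizer (U : Set G) := centralizer_le_normalizer (U : Set G)
    have hCn : ((centralizer (U : Set G)).subgroupOf (normalizer (U : Set G))).Normal := inferInstance
    have hD' : IsSylowIn p ((S : Subgroup G) ⊓ centralizer (U : Set G)) (centralizer (U : Set G)) := by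
      refine ⟨inf_le_right, isPGroup_mono S.isPGroup' inf_le_left, ?_⟩
      have h := CentralSylow.not_dvd_relIndex_normal hR.toSylow
        ((centralizer (U : Set G)).subgroupOf (normalizer (U : Set G)))
      rw [← relIndex_map_map_of_injective _ _ (normalizer (U : Set G)).subtype_injective,
        Subgroup.map_inf _ _ _ (normalizer (U : Set G)).subtype_injective, hR.map_toSylow,
        map_subgroupOf_eq_of_le hCN] at h
      rwa [show ((S : Subgroup G) ⊓ normalizer (U : Set G)) ⊓ centralizer (U : Set G)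
        = (S : Subgroup G) ⊓ centralizer (U : Set G) by
          rw [inf_assoc, inf_eq_right.mpr hCN]] at h
    obtain ⟨c, hc, m, hm, e⟩ := frattini_split hD' (H := normalizer (U : Set G))
      (le_normalizer_of_normal_subgroupOf (hK := hCn) hCN) hx
    have hmU : cmap m U = U := by
      have : m ∈ normalizer (U : Set G) := by
        rw [show m = c⁻¹ * x by rw [e]; group]
        exact mul_mem (inv_mem (hCN hc)) hx
      exact mem_normalizer_iff_cmap.mp this
    refine (enlarge (U ⊔ ((S : Subgroup G) ⊓ centralizer (U : Set G))) le_sup_left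
      (sup_le hU.1 inf_le_left) (fun h => hCU (le_sup_right.trans h)) m ?_).congr fun q hq => ?_
    · rw [cmap, Subgroup.map_sup]
      exact sup_le (hmU.le.trans hU.1) ((mem_normalizer_iff_cmap.mp hm).le.trans inf_le_left)
    · have h1 : m * q * m⁻¹ ∈ U := hmU.le (conj_mem_cmap hq)
      rw [e]
      calc m * q * m⁻¹ = m * q * m⁻¹ * c * c⁻¹ := by group
        _ = c * (m * q * m⁻¹) * c⁻¹ := by rw [mem_centralizer_iff.mp hc _ h1]
        _ = c * m * q * (c * m)⁻¹ := by group
  by_cases hSZ : (S : Subgroup G) ≤ Z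
  · have hUS : U = (S : Subgroup G) := le_antisymm hU.1 (hSZ.trans hZU)
    refine reach_single (show Cfsg.inducedFunctor (G := G) W₀ ∈ img 𝓦 G from ⟨W₀, hW₀, rfl⟩) ⟨mem_top x, ?_⟩ hU.1 (hxU.le.trans hU.1)
    exact normalizer_le_cfun (isConjugacyFunctor_induced (h𝓦 W₀ hW₀)) S.isPGroup' (hUS ▸ hx)
  -- the quotient by `Z`
  set π := QuotientGroup.mk' Z with hπ
  have hcomap : ((S : Subgroup G).map π).comap π = (S : Subgroup G) := by
    rw [comap_map_eq, hπ, QuotientGroup.ker_mk', sup_eq_left.mpr hZS]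
  have hS' : IsSylowIn p ((S : Subgroup G).map π) ⊤ := by
    have := isSylowIn_top (S.mapSurjective (QuotientGroup.mk'_surjective Z))
    rwa [Sylow.coe_mapSurjective] at this
  have hbar : Cfsg.pCore p (G ⧸ Z) = ⊥ := by
    have := pCore_quotient (p := p) (N := Z) (isPGroup_pCore p G)
    rw [this, Subgroup.map_eq_bot_iff]
    exact (QuotientGroup.ker_mk' Z).ge
  obtain ⟨c', hc', he'⟩ := reach_of_controls (isConjugacyFunctor_img h𝓦) (hQuot Z hZ1) hS'
    (U.map π) (Subgroup.map_mono hU.1) (π x) (mem_top _)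
    (by rw [← map_cmap, hxU]; exact Subgroup.map_mono hU.1)
  have hchain : ∀ e, Relation.ReflTransGen
      (Step (img 𝓦 (G ⧸ Z)) ((S : Subgroup G).map π) ⊤ (U.map π)) 1 e →
      ∃ c, π c = e ∧ cmap c U ≤ (S : Subgroup G) ∧ Reach (img 𝓦 G) (S : Subgroup G) ⊤ U c := by
    intro e he
    clear hc' he'
    induction he with
    | refl => exact ⟨1, map_one π, by rw [cmap_one]; exact hU.1, 1, Relation.ReflTransGen.refl, fun _ _ => rfl⟩
    | @tail b b' _ hb ih' =>
      obtain ⟨c, hc, hcS, hch⟩ := ih'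
      obtain ⟨⟨_, ⟨W, hW, rfl⟩, hm⟩, -, hb'⟩ := hb
      obtain ⟨d, hdπ⟩ := QuotientGroup.mk'_surjective Z (b' * b⁻¹)
      set V := Cfsg.inducedFunctor (G := G ⧸ Z) W ((S : Subgroup G).map π) with hV
      have hWc := isConjugacyFunctor_induced (G := G ⧸ Z) (h𝓦 W hW)
      have hVne : normalizer (V : Set (G ⧸ Z)) ≠ ⊤ := fun h =>
        cfun_ne_bot hWc hS'.2.1
          (fun h' => hSZ (le_of_le_of_eq ((Subgroup.map_eq_bot_iff _).mp h') (QuotientGroup.ker_mk' Z)))
          (eq_bot_of_normalizer_eq_top hbar (isPGroup_mono hS'.2.1 (inducedFunctor_le W _)) h)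
      have hMne : (normalizer (V : Set (G ⧸ Z))).comap π ≠ ⊤ := fun h => hVne (by
        rw [← map_comap_eq_self_of_surjective (QuotientGroup.mk'_surjective Z) (normalizer (V : Set (G ⧸ Z))), h,
          map_top_of_surjective _ (QuotientGroup.mk'_surjective Z)])
      have hSM : (S : Subgroup G) ≤ (normalizer (V : Set (G ⧸ Z))).comap π :=
        map_le_iff_le_comap.mp (le_normalizer.trans (normalizer_le_cfun hWc hS'.2.1))
      have hdc : π (d * c) = b' := by rw [map_mul, hdπ, hc, inv_mul_cancel_right]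
      have hdS : cmap (d * c) U ≤ (S : Subgroup G) := by
        rw [← hcomap, ← map_le_iff_le_comap, map_cmap, hdc]; exact hb'
      refine ⟨d * c, hdc, hdS, fusRel_reach.trans hU.1 hcS (by rw [← cmap_mul]; exact hdS) hch ?_⟩
      exact hsub _ hMne hSM d (mem_comap.mpr (by rw [hdπ]; exact hm.2)) _ hcS (by rw [← cmap_mul]; exact hdS)
  obtain ⟨m, hm, hmS, hmr⟩ := hchain c' hc'
  have hagree : ∀ u ∈ U, π (m * u * m⁻¹) = π (x * u * x⁻¹) := fun u hu => by
    have := he' (π u) (mem_map_of_mem π hu)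
    rw [← hm] at this
    simpa only [map_mul, map_inv] using this
  have hmU : cmap m U = U := by
    refine eq_of_le_of_card_ge ?_ (card_cmap m U).ge
    rintro _ ⟨u, hu, rfl⟩
    have h1 : (x * u * x⁻¹)⁻¹ * (m * u * m⁻¹) ∈ Z := QuotientGroup.eq.mp (hagree u hu).symm
    have := mul_mem (hxU.le (conj_mem_cmap hu)) (hZU h1)
    rwa [mul_inv_cancel_left] at this
  set y := m⁻¹ * x with hy
  have hyN : y ∈ normalizer (U : Set G) := mul_mem (inv_mem (mem_normalizer_iff_cmap.mpr hmU)) hx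
  -- elements of `N(U)` that are trivial on `U / Z`
  have hN : ∀ z ∈ normalizer (U : Set G), ∀ u : G, u ∈ U → z * u * z⁻¹ ∈ U := fun z hz u hu =>
    (mem_normalizer_iff.mp hz u).mp hu
  have hn : ∀ g : G, ∀ z ∈ Z, g * z * g⁻¹ ∈ Z := fun g z hz => Normal.conj_mem inferInstance z hz g
  let Y : Subgroup G :=
    { carrier := {z | z ∈ normalizer (U : Set G) ∧ ∀ u ∈ U, z * u * z⁻¹ * u⁻¹ ∈ Z}
      one_mem' := ⟨one_mem _, fun u _ => by simp⟩
      mul_mem' := by
        rintro a b ⟨ha, ha'⟩ ⟨hb, hb'⟩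
        refine ⟨mul_mem ha hb, fun u hu => ?_⟩
        have := mul_mem (ha' _ (hN b hb u hu)) (hb' u hu)
        convert this using 1; group
      inv_mem' := by
        rintro a ⟨ha, ha'⟩
        refine ⟨inv_mem ha, fun u hu => ?_⟩
        have h1 := ha' _ (hN a⁻¹ (inv_mem ha) u hu)
        have := inv_mem h1
        convert this using 1; group }
  have hYN : Y ≤ normalizer (U : Set G) := fun z hz => hz.1
  have hyY : y ∈ Y := by
    refine ⟨hyN, fun u hu => ?_⟩
    have h2 : (m * u * m⁻¹)⁻¹ * (x * u * x⁻¹) ∈ Z := QuotientGroup.eq.mp (hagree u hu)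
    have h3 := hn m⁻¹ _ h2
    have h4 := hn u _ h3
    have e : y * u * y⁻¹ * u⁻¹
        = u * (m⁻¹ * ((m * u * m⁻¹)⁻¹ * (x * u * x⁻¹)) * m⁻¹⁻¹) * u⁻¹ := by rw [hy]; group
    rw [e]; exact h4
  have hYn : (Y.subgroupOf (normalizer (U : Set G))).Normal := by
    constructor
    rintro ⟨z, hz⟩ hzY ⟨k, hk⟩
    have hz' : z ∈ Y := mem_subgroupOf.mp hzY
    rw [mem_subgroupOf]
    refine ⟨mul_mem (mul_mem hk hz) (inv_mem hk), fun u hu => ?_⟩
    have h1 := hz'.2 _ (hN k⁻¹ (inv_mem hk) u hu)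
    have := hn k _ h1
    convert this using 1
    simp only [Subgroup.coe_mul, Subgroup.coe_inv]
    group
  have hYR : IsSylowIn p (R ⊓ Y) Y := by
    refine ⟨inf_le_right, isPGroup_mono S.isPGroup' (inf_le_left.trans inf_le_left), ?_⟩
    have h := CentralSylow.not_dvd_relIndex_normal hR.toSylow (Y.subgroupOf (normalizer (U : Set G)))
    rwa [← relIndex_map_map_of_injective _ _ (normalizer (U : Set G)).subtype_injective,
      Subgroup.map_inf _ _ _ (normalizer (U : Set G)).subtype_injective, hR.map_toSylow,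
      map_subgroupOf_eq_of_le hYN] at h
  set Cy := Y ⊓ centralizer (U : Set G) with hCy
  haveI hCn : (Cy.subgroupOf Y).Normal := by
    refine normal_subgroupOf_of_le_normalizer fun z hz => ?_
    refine mem_normalizer_iff_cmap.mpr ?_
    rw [hCy, cmap_inf, mem_normalizer_iff_cmap.mp (le_normalizer hz)]
    congr 1
    refine mem_normalizer_iff_cmap.mp ?_
    exact le_normalizer_of_normal_subgroupOf (centralizer_le_normalizer (U : Set G)) (hYN hz)
  have hYp : IsPGroup p (Y ⧸ Cy.subgroupOf Y) := by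
    intro w
    obtain ⟨w, rfl⟩ := QuotientGroup.mk_surjective w
    obtain ⟨j, k', hk', hj⟩ := Nat.exists_eq_pow_mul_and_not_dvd (orderOf_pos w).ne' p
      (Fact.out : p.Prime).ne_one
    refine ⟨j, ?_⟩
    rw [← QuotientGroup.mk_pow, QuotientGroup.eq_one_iff, mem_subgroupOf]
    have hco : (orderOf ((w ^ p ^ j : Y) : G)).Coprime p := by
      rw [Subgroup.orderOf_coe, orderOf_pow, hj,
        Nat.gcd_eq_right (dvd_mul_right _ _), Nat.mul_div_cancel_left _ (pow_pos (Fact.out : p.Prime).pos j)]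
      exact ((Fact.out : p.Prime).coprime_iff_not_dvd.mpr hk').symm
    exact ⟨(w ^ p ^ j).2, mem_centralizer_of_chain (isPGroup_mono S.isPGroup' hU.1) hZU hco
      (hpC _ hco) (w ^ p ^ j).2.2⟩
  have hgen : Y ≤ (R ⊓ Y) ⊔ Cy := by
    set RY := ((R ⊓ Y) ⊔ Cy).subgroupOf Y with hRY
    suffices RY = ⊤ from subgroupOf_eq_top.mp this
    rw [← index_eq_one]
    obtain ⟨j, hj⟩ := IsPGroup.iff_card.mp hYp
    rw [← index_eq_card] at hj
    have h1 : RY.index ∣ p ^ j := hj ▸ index_dvd_of_le (comap_mono le_sup_right)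
    have h2 : RY.index ∣ (R ⊓ Y).relIndex Y := index_dvd_of_le (comap_mono le_sup_left)
    obtain ⟨i, -, hi⟩ := (Nat.dvd_prime_pow (Fact.out : p.Prime)).mp h1
    rcases Nat.eq_zero_or_pos i with rfl | hpos
    · simpa using hi
    · exact absurd ((hi ▸ dvd_pow_self p hpos.ne').trans h2) hYR.2.2
  have hRN : R ⊓ Y ≤ normalizer ((Cy : Subgroup G) : Set G) :=
    inf_le_right.trans (le_normalizer_of_normal_subgroupOf (hK := hCn) inf_le_left)
  have hy' : y ∈ ((R ⊓ Y : Subgroup G) : Set G) * (Cy : Set G) :=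
    (coe_mul_of_left_le_normalizer_right (R ⊓ Y) Cy hRN) ▸ hgen hyY
  obtain ⟨r, hr, c, hc, hrc⟩ := Set.mem_mul.mp hy'
  have hrS : r ∈ (S : Subgroup G) := hr.1.1
  have hrU : cmap r U = U := mem_normalizer_iff_cmap.mp hr.1.2
  have hΦr : Reach (img 𝓦 G) (S : Subgroup G) ⊤ U r :=
    reach_single (show Cfsg.inducedFunctor (G := G) W₀ ∈ img 𝓦 G from ⟨W₀, hW₀, rfl⟩) ⟨mem_top r,
      (le_normalizer.trans (normalizer_le_cfun (isConjugacyFunctor_induced (h𝓦 W₀ hW₀)) S.isPGroup')) hrS⟩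
      hU.1 (hrU.le.trans hU.1)
  refine (fusRel_reach.trans (h := m) hU.1 (hrU.le.trans hU.1) (by rw [hrU]; exact hmU.le.trans hU.1)
    hΦr (by rw [hrU]; exact hmr)).congr fun q hq => ?_
  have hx' : x = m * (r * c) := by rw [hrc, hy]; group
  rw [hx']
  calc m * r * q * (m * r)⁻¹ = m * (r * (q * c * c⁻¹) * r⁻¹) * m⁻¹ := by group
    _ = m * (r * (c * q * c⁻¹) * r⁻¹) * m⁻¹ := by rw [mem_centralizer_iff.mp hc.2 q hq]
    _ = m * (r * c) * q * (m * (r * c))⁻¹ := by group

/-! ### Transfer -/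

theorem transfer_master (h𝓦 : ∀ W ∈ 𝓦, Cfsg.IsCharPFunctor.{u} p W) (hne : 𝓦.Nonempty)
    (hloc : ∀ (H : Type u) [Group H] [Finite H], Cfsg.Involves H G → Constr p H →
      Cfsg.FamilyControlsTransferIn p (img 𝓦 H) ⊤) :
    Cfsg.FamilyControlsTransferIn p (img 𝓦 G) ⊤ := by
  suffices ∀ n : ℕ, ∀ (G : Type u) [Group G] [Finite G], Nat.card G ≤ n →
      (∀ (H : Type u) [Group H] [Finite H], Cfsg.Involves H G → Constr p H →
        Cfsg.FamilyControlsTransferIn p (img 𝓦 H) ⊤) →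
      Cfsg.FamilyControlsTransferIn p (img 𝓦 G) ⊤ from this _ G le_rfl hloc
  intro n
  induction n with
  | zero => intro G _ _ hn; exact absurd hn (Nat.card_pos).not_ge
  | succ n ih =>
  intro G _ _ hn hloc
  have hconj := isConjugacyFunctor_img (G := G) h𝓦
  have hM : ∀ M : Subgroup G, M ≠ ⊤ → Cfsg.FamilyControlsTransferIn p (img 𝓦 G) M := fun M hM =>
    transfer_subgroup h𝓦 M (ih M (by have := card_subgroup_lt hM; omega)
      fun H _ _ hH => hloc H (involves_trans hH (involves_subgroup M)))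
  have hQuot : ∀ (N : Subgroup G) [N.Normal], N ≠ ⊥ →
      Cfsg.FamilyControlsTransferIn p (img 𝓦 (G ⧸ N)) ⊤ := fun N _ hN =>
    ih (G ⧸ N) (by have := card_quotient_lt (N := N) hN; omega)
      fun H _ _ hH => hloc H (involves_trans hH (involves_quotient N))
  obtain ⟨S⟩ : Nonempty (Sylow p G) := inferInstance
  by_cases hZ1 : Cfsg.pCore p G = ⊥
  · exact transfer_top_of_local S hconj (Full p (S : Subgroup G)) (fun _ h => h)
      (fun T hT => (exists_full S hT).imp fun a ha => ha.1)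
      fun V hV hV1 => hM _ fun h =>
        hV1 (eq_bot_of_normalizer_eq_top hZ1 (isPGroup_mono S.isPGroup' hV.1) h)
  refine famTransfer_iff.mpr ⟨(S : Subgroup G), isSylowIn_top S, ?_⟩
  obtain ⟨W₀, hW₀⟩ := hne
  set X := tgt (img 𝓦 G) (S : Subgroup G) ⊤
  have hmonoX : ∀ M : Subgroup G, tgt (img 𝓦 G) (S : Subgroup G) M ≤ X := fun M =>
    iSup₂_mono fun W _ => inf_le_inf_left _
      (commutator_mono (inf_le_inf_right _ le_top) (inf_le_inf_right _ le_top))
  have hsub : ∀ M : Subgroup G, M ≠ ⊤ → (S : Subgroup G) ≤ M →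
      (S : Subgroup G) ⊓ ⁅M, M⁆ ≤ X := fun M hM' hSM =>
    (inf_commutator_le_tgt hconj (hM M hM') ((isSylowIn_top S).mono hSM le_top)).trans (hmonoX M)
  have hmap : ∀ (N : Subgroup G) [N.Normal],
      IsSylowIn p ((S : Subgroup G).map (QuotientGroup.mk' N)) ⊤ := by
    intro N _
    have := isSylowIn_top (S.mapSurjective (QuotientGroup.mk'_surjective N))
    rwa [Sylow.coe_mapSurjective] at this
  by_cases hK : Cfsg.pPrimeCore p G = ⊥
  swap
  · set K := Cfsg.pPrimeCore p G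
    have hKc : (Nat.card K).Coprime p := coprime_card_pPrimeCore p G
    set π := QuotientGroup.mk' K
    have h1 := inf_commutator_le_tgt (isConjugacyFunctor_img h𝓦) (hQuot K hK) (hmap K)
    have h2 : tgt (img 𝓦 (G ⧸ K)) ((S : Subgroup G).map π) ⊤ ≤ X.map π := by
      refine iSup₂_le ?_
      rintro _ ⟨W, hW, rfl⟩
      refine le_trans ?_ (Subgroup.map_mono (le_tgt (W := Cfsg.inducedFunctor (G := G) W) ⟨W, hW, rfl⟩))
      set N := normalizer ((Cfsg.inducedFunctor (G := G) W (S : Subgroup G) : Subgroup G) : Set G)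
      have hSN : (S : Subgroup G) ≤ N := le_normalizer.trans
        (normalizer_le_cfun (isConjugacyFunctor_induced (h𝓦 W hW)) S.isPGroup')
      simp only [top_inf_eq]
      rintro _ ⟨⟨s, hs, rfl⟩, hs'⟩
      have hle : normalizer ((Cfsg.inducedFunctor (G := G ⧸ K) W ((S : Subgroup G).map π) :
          Subgroup (G ⧸ K)) : Set (G ⧸ K)) ≤ N.map π := fun d hd => by
        obtain ⟨d', hd', e⟩ := exists_lift_normalizer (h𝓦 W hW) S.isPGroup' hKc hd
        exact ⟨d', hd', e⟩
      have hs2 := commutator_mono hle hle hs'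
      rw [← map_commutator] at hs2
      obtain ⟨t, ht, he⟩ := hs2
      refine ⟨s, ⟨hs, ?_⟩, rfl⟩
      set k := t⁻¹ * s with hk
      have hkK : k ∈ K := QuotientGroup.eq.mp he
      have hkN : k ∈ N := mul_mem (inv_mem (commutator_le_self N ht)) (hSN hs)
      let φ : N →* Abelianization N := Abelianization.of
      have hker : ∀ z : N, φ z = 1 → (z : G) ∈ ⁅N, N⁆ := by
        intro z hz
        rw [← map_subtype_commutator]
        exact mem_map_of_mem _ ((QuotientGroup.eq_one_iff z).mp hz)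
      apply hker ⟨s, hSN hs⟩
      have e1 : φ ⟨s, hSN hs⟩ = φ ⟨k, hkN⟩ := by
        have : (⟨t, commutator_le_self N ht⟩ : N) ∈ commutator N := by
          rw [← map_subtype_commutator] at ht
          obtain ⟨t', ht', e⟩ := ht
          rwa [show (⟨t, commutator_le_self N (by rw [← map_subtype_commutator]; exact ⟨t', ht', e⟩)⟩ : N) = t'
            from Subtype.ext e.symm]
        have h0 : φ ⟨t, commutator_le_self N ht⟩ = 1 := (QuotientGroup.eq_one_iff _).mpr this
        rw [show (⟨s, hSN hs⟩ : N) = ⟨t, commutator_le_self N ht⟩ * ⟨k, hkN⟩ from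
          Subtype.ext (by simp [hk]), map_mul, h0, one_mul]
      obtain ⟨j, hj⟩ := (IsPGroup.iff_orderOf.mp S.isPGroup') ⟨s, hs⟩
      rw [← Subgroup.orderOf_coe] at hj
      refine orderOf_eq_one_iff.mp (Nat.eq_one_of_dvd_coprimes (Nat.Coprime.pow_right j hKc)
        ?_ (hj ▸ ?_))
      · rw [e1]
        refine (orderOf_map_dvd φ _).trans ?_
        rw [← Subgroup.orderOf_coe]
        exact orderOf_dvd_natCard K hkK
      · refine (orderOf_map_dvd φ _).trans ?_
        rw [← Subgroup.orderOf_coe]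
    intro s hs
    have hXS : X ≤ (S : Subgroup G) := tgt_le.trans inf_le_left
    have h3 : π s ∈ (S : Subgroup G).map π ⊓ ⁅(⊤ : Subgroup (G ⧸ K)), ⊤⁆ := by
      refine ⟨mem_map_of_mem π hs.1, ?_⟩
      rw [← map_top_of_surjective π (QuotientGroup.mk'_surjective K), ← map_commutator]
      exact mem_map_of_mem π hs.2
    obtain ⟨t, ht, he⟩ := h2 (h1 h3)
    have : t⁻¹ * s ∈ (S : Subgroup G) ⊓ K :=
      mem_inf.mpr ⟨mul_mem (inv_mem (hXS ht)) hs.1, QuotientGroup.eq.mp he⟩
    rw [inf_eq_bot_of_pGroup S.isPGroup' hKc, mem_bot, inv_mul_eq_one] at this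
    exact this ▸ ht
  set Z := Cfsg.pCore p G with hZdef
  haveI : Z.Normal := pCore_normal p G
  have hZS : Z ≤ (S : Subgroup G) := (isPGroup_pCore p G).le_sylow_of_normal S
  set C := centralizer (Z : Set G) with hC
  haveI : C.Normal := normal_centralizer
  by_cases hD : (S : Subgroup G) ⊓ C ≤ Z
  · exact inf_commutator_le_tgt hconj (hloc G involves_refl (centralizer_pCore_le hK hD)) (isSylowIn_top S)
  set D := (S : Subgroup G) ⊓ C with hDdef
  by_cases hL : C ⊔ (S : Subgroup G) = ⊤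
  swap
  · have hfr : IsSylowIn p D C := not_dvd_relIndex_of_ge
    set M := normalizer ((Z ⊔ D : Subgroup G) : Set G) with hMdef
    have hDM : normalizer (D : Set G) ≤ M := fun x hx => by
      refine mem_normalizer_iff_cmap.mpr ?_
      rw [cmap, Subgroup.map_sup]
      exact congrArg₂ (· ⊔ ·) (mem_normalizer_iff_cmap.mp (by rw [normalizer_eq_top]; exact mem_top x))
        (mem_normalizer_iff_cmap.mp hx)
    have hSD : (S : Subgroup G) ≤ normalizer (D : Set G) := fun s hs => by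
      refine mem_normalizer_iff_cmap.mpr ?_
      rw [hDdef, cmap_inf, mem_normalizer_iff_cmap.mp (le_normalizer hs)]
      congr 1
      exact mem_normalizer_iff_cmap.mp (by rw [normalizer_eq_top]; exact mem_top s)
    have hMtop : M ≠ ⊤ := fun h => by
      haveI := normalizer_eq_top_iff.mp h
      exact hD (le_sup_right.trans (le_pCore (isPGroup_mono S.isPGroup' (sup_le hZS inf_le_left))))
    have hmv : ∀ M : Subgroup G, M ≠ ⊤ → (S : Subgroup G) ≤ M → ∀ x ∈ M, ∀ Q ≤ (S : Subgroup G),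
        cmap x Q ≤ (S : Subgroup G) → Moves X Q x := fun M hM' hSM x hx Q hQ hxQ q hq =>
      hsub M hM' hSM (conj_mem_of_commutator hx (hQ hq) hSM (hxQ (conj_mem_cmap hq)))
    refine inf_commutator_le (isSylowIn_top S) fun x _ q hq hxq => ?_
    refine rel_of_factor (fusRel_moves (X := X)) (N₁ := C ⊔ (S : Subgroup G)) (N₂ := M) le_sup_right
      (hSD.trans hDM) (fun x => ?_) (hmv _ hL le_sup_right) (hmv M hMtop (hSD.trans hDM))
      (zpowers q) (zpowers_le.mpr hq) x ?_ q (mem_zpowers q)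
    · obtain ⟨c, hc, m, hm, e⟩ := frattini_split hfr (H := ⊤) (by rw [normalizer_eq_top]) (mem_top x)
      exact ⟨c, mem_sup_left hc, m, hDM hm, e⟩
    · rw [cmap, MonoidHom.map_zpowers, zpowers_le]; exact hxq
  -- now `G = C S`
  by_cases hSZ : (S : Subgroup G) ≤ Z
  · refine le_trans ?_ (le_tgt (W := Cfsg.inducedFunctor (G := G) W₀) ⟨W₀, hW₀, rfl⟩)
    have : normalizer ((Cfsg.inducedFunctor (G := G) W₀ (S : Subgroup G) : Subgroup G) : Set G) = ⊤ := by
      refine top_le_iff.mp (le_trans ?_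
        (normalizer_le_cfun (isConjugacyFunctor_induced (h𝓦 W₀ hW₀)) S.isPGroup'))
      rw [le_antisymm hSZ hZS, normalizer_eq_top]
    simp only [this, inf_top_eq]; exact le_rfl
  set π := QuotientGroup.mk' Z with hπ
  have hS' := hmap Z
  have hcomap : ((S : Subgroup G).map π).comap π = (S : Subgroup G) := by
    rw [comap_map_eq, hπ, QuotientGroup.ker_mk', sup_eq_left.mpr hZS]
  have hbar : Cfsg.pCore p (G ⧸ Z) = ⊥ := by
    have := pCore_quotient (p := p) (N := Z) (isPGroup_pCore p G)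
    rw [this, Subgroup.map_eq_bot_iff]
    exact (QuotientGroup.ker_mk' Z).ge
  have hMW : ∀ W ∈ 𝓦, (normalizer ((Cfsg.inducedFunctor (G := G ⧸ Z) W ((S : Subgroup G).map π) :
      Subgroup (G ⧸ Z)) : Set (G ⧸ Z))).comap π ≠ ⊤ ∧
      (S : Subgroup G) ≤ (normalizer ((Cfsg.inducedFunctor (G := G ⧸ Z) W ((S : Subgroup G).map π) :
      Subgroup (G ⧸ Z)) : Set (G ⧸ Z))).comap π := by
    intro W hW
    have hWc := isConjugacyFunctor_induced (G := G ⧸ Z) (h𝓦 W hW)
    refine ⟨fun h => ?_, map_le_iff_le_comap.mp (le_normalizer.trans (normalizer_le_cfun hWc hS'.2.1))⟩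
    refine cfun_ne_bot hWc hS'.2.1
      (fun h' => hSZ (le_of_le_of_eq ((Subgroup.map_eq_bot_iff _).mp h') (QuotientGroup.ker_mk' Z)))
      (eq_bot_of_normalizer_eq_top hbar (isPGroup_mono hS'.2.1 (inducedFunctor_le W _)) ?_)
    rw [← map_comap_eq_self_of_surjective (QuotientGroup.mk'_surjective Z) (normalizer _), h,
      map_top_of_surjective _ (QuotientGroup.mk'_surjective Z)]
  -- `Z ∩ G' ≤ X`
  have hZX : Z ⊓ ⁅(⊤ : Subgroup G), ⊤⁆ ≤ X := by
    obtain ⟨hMne, hSM⟩ := hMW W₀ hW₀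
    set M := (normalizer ((Cfsg.inducedFunctor (G := G ⧸ Z) W₀ ((S : Subgroup G).map π) :
      Subgroup (G ⧸ Z)) : Set (G ⧸ Z))).comap π with hMdef
    refine le_trans ?_ (hsub M hMne hSM)
    rintro z ⟨hz, hz'⟩
    refine ⟨hZS hz, ?_⟩
    let φ : M →* Abelianization M := Abelianization.of
    classical
    letI := M.fintypeQuotientOfFiniteIndex
    have hcomm : ∀ t : G, ∀ w ∈ Z, t * w * t⁻¹ * w⁻¹ ∈ ⁅M, M⁆ := by
      intro t w hw
      obtain ⟨c, hc, s, hs, rfl⟩ := mem_sup_of_normal_left.mp (hL ▸ mem_top t : t ∈ C ⊔ (S : Subgroup G))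
      have h1 : s * w * s⁻¹ ∈ Z := Normal.conj_mem inferInstance w hw s
      have e : c * s * w * (c * s)⁻¹ * w⁻¹ = ⁅s, w⁆ := by
        rw [commutatorElement_def]
        calc c * s * w * (c * s)⁻¹ * w⁻¹ = c * (s * w * s⁻¹) * c⁻¹ * w⁻¹ := by group
          _ = s * w * s⁻¹ * c * c⁻¹ * w⁻¹ := by rw [mem_centralizer_iff.mp hc _ h1]
          _ = s * w * s⁻¹ * w⁻¹ := by group
      rw [e]
      exact commutator_mem_commutator (hSM hs) (hSM (hZS hw))
    have hker : ∀ w : M, φ w = 1 → (w : G) ∈ ⁅M, M⁆ := by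
      intro w hw
      rw [← map_subtype_commutator]
      exact mem_map_of_mem _ ((QuotientGroup.eq_one_iff w).mp hw)
    have hzM : z ∈ M := hSM (hZS hz)
    obtain ⟨T⟩ : Nonempty M.LeftTransversal := inferInstance
    have htr : φ.transfer z = φ ⟨z, hzM⟩ ^ M.index := by
      rw [MonoidHom.transfer_def φ T z, Subgroup.leftTransversals.diff, index_eq_card,
        Nat.card_eq_fintype_card, ← Finset.card_univ, ← Finset.prod_const]
      refine Finset.prod_congr rfl fun q _ => ?_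
      set t := ((T.2.leftQuotientEquiv q : T.1) : G) with ht
      have hq : (QuotientGroup.mk t : G ⧸ M) = q := T.2.quotientGroupMk_leftQuotientEquiv q
      have hz1 : z⁻¹ • q = q := by
        rw [← hq]
        refine QuotientGroup.eq.mpr ?_
        have : t⁻¹ * z * t⁻¹⁻¹ ∈ M := hSM (hZS (Normal.conj_mem inferInstance z hz t⁻¹))
        simpa [mul_assoc] using this
      apply (MonoidHom.eq_iff φ).mpr
      rw [Abelianization.ker_of, ← mem_map_iff_mem M.subtype_injective, map_subtype_commutator]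
      simp only [Subgroup.coe_mul, Subgroup.coe_inv, Subgroup.subtype_apply]
      rw [smul_apply_eq_smul_apply_inv_smul, hz1, smul_eq_mul]
      have hc1 := hcomm t⁻¹ z hz
      have h3 : z⁻¹ * (t⁻¹ * z * t⁻¹⁻¹ * z⁻¹) * z⁻¹⁻¹ ∈ ⁅M, M⁆ :=
        (mem_normalizer_iff.mp ((normalizer_commutator_ge_left (H₁ := M) (H₂ := M)) (inv_mem hzM)) _).mp hc1
      simpa [mul_assoc, ← ht] using h3
    have h1 : φ.transfer z = 1 := by
      have h0 := Abelianization.commutator_subset_ker φ.transfer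
      exact h0 (by rw [_root_.commutator_def]; exact hz')
    apply hker ⟨z, hzM⟩
    obtain ⟨j, hj⟩ := (IsPGroup.iff_orderOf.mp S.isPGroup') ⟨z, hZS hz⟩
    rw [← Subgroup.orderOf_coe] at hj
    have hidx : ¬ p ∣ M.index := fun h => S.not_dvd_index (h.trans (index_dvd_of_le hSM))
    refine orderOf_eq_one_iff.mp (Nat.eq_one_of_dvd_coprimes (a := M.index)
      (Nat.Coprime.pow_right j ((Fact.out : p.Prime).coprime_iff_not_dvd.mpr hidx).symm)
      (orderOf_dvd_of_pow_eq_one (htr ▸ h1)) (hj ▸ ?_))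
    refine (orderOf_map_dvd φ _).trans ?_
    rw [← Subgroup.orderOf_coe]
  intro s hs
  have h3 : π s ∈ (S : Subgroup G).map π ⊓ ⁅(⊤ : Subgroup (G ⧸ Z)), ⊤⁆ := by
    refine ⟨mem_map_of_mem π hs.1, ?_⟩
    rw [← map_top_of_surjective π (QuotientGroup.mk'_surjective Z), ← map_commutator]
    exact mem_map_of_mem π hs.2
  have h2 : tgt (img 𝓦 (G ⧸ Z)) ((S : Subgroup G).map π) ⊤ ≤ X.map π := by
    refine iSup₂_le ?_
    rintro _ ⟨W, hW, rfl⟩
    obtain ⟨hMne, hSM⟩ := hMW W hW
    set V := normalizer ((Cfsg.inducedFunctor (G := G ⧸ Z) W ((S : Subgroup G).map π) :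
      Subgroup (G ⧸ Z)) : Set (G ⧸ Z)) with hVdef
    refine le_trans ?_ (Subgroup.map_mono (hsub (V.comap π) hMne hSM))
    simp only [top_inf_eq]
    rintro _ ⟨⟨w, hw, rfl⟩, hw'⟩
    rw [← map_comap_eq_self_of_surjective (QuotientGroup.mk'_surjective Z) V,
      ← map_commutator] at hw'
    obtain ⟨t, ht, he⟩ := hw'
    refine ⟨t, mem_inf.mpr ⟨?_, ht⟩, he⟩
    rw [← hcomap, mem_comap, he]
    exact mem_map_of_mem π hw
  have h1 := inf_commutator_le_tgt (isConjugacyFunctor_img h𝓦) (hQuot Z hZ1) hS'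
  obtain ⟨t, ht, he⟩ := h2 (h1 h3)
  have ht' : t ∈ (S : Subgroup G) ⊓ ⁅(⊤ : Subgroup G), ⊤⁆ := tgt_le ht
  have : t⁻¹ * s ∈ Z ⊓ ⁅(⊤ : Subgroup G), ⊤⁆ :=
    mem_inf.mpr ⟨QuotientGroup.eq.mp he, mul_mem (inv_mem (mem_inf.mp ht').2) (mem_inf.mp hs).2⟩
  have := mul_mem ht (hZX this)
  rwa [mul_inv_cancel_left] at this

end Cfsg.Agent.ConjFunctorMaster
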