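import Mathlib
import Cfsg.Prelude.Def_ConjugacyFunctors
import Cfsg.Prelude.Def_LocalEven
import Cfsg.Prelude.Def_Solvable
import Cfsg.Agent.Lib.HallCore
import Cfsg.Agent.Lib.ConjFunctorBasic
import Cfsg.Agent.Lib.ConjFunctorTransfer
import Cfsg.Agent.Lib.ConjFunctorSection
import Cfsg.Agent.Lib.ConjFunctorMaster
import Cfsg.Agent.Lib.ConjFunctorEngel

/-!
Control of transfer from a condition on `O_p` in constrained sections, and the Engel element criterion.
-/

set_option autoImplicit false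

open scoped commutatorElement
open Subgroup Cfsg.Agent.ConjFunctorBasic Cfsg.Agent.ConjFunctorTransfer Cfsg.Agent.ConjFunctorSection
  Cfsg.Agent.ConjFunctorMaster Cfsg.Agent.HallCore

namespace Cfsg.Agent.ConjFunctorCore

universe u

variable {G : Type u} [Group G] [Finite G] {p : ℕ} [Fact p.Prime]
  {𝓦 : Set (∀ (Q : Type u) [Group Q], Subgroup Q)}

theorem card_le_of_involves {H : Type u} [Group H] (h : Cfsg.Involves H G) : Nat.card H ≤ Nat.card G := by
  obtain ⟨K, R, hR, ⟨e⟩⟩ := h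
  rw [← Nat.card_congr e.toEquiv]
  exact (Nat.card_le_card_of_surjective _ Quotient.mk_surjective).trans K.card_le_card_group

/-- If the part of `G'` in `O_p` is under control, so is the part in a Sylow subgroup. -/
theorem transfer_of_pCore (h𝓦 : ∀ W ∈ 𝓦, Cfsg.IsCharPFunctor.{u} p W) {W₀ : ∀ (Q : Type u) [Group Q], Subgroup Q}
    (hW₀ : W₀ ∈ 𝓦) (S : Sylow p G) (hc : Constr p G)
    (hM : ∀ M : Subgroup G, M ≠ ⊤ → Cfsg.FamilyControlsTransferIn p (img 𝓦 G) M)
    (hQuot : ∀ (N : Subgroup G) [N.Normal], N ≠ ⊥ → Cfsg.FamilyControlsTransferIn p (img 𝓦 (G ⧸ N)) ⊤)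
    (hZX : Cfsg.pCore p G ⊓ ⁅(⊤ : Subgroup G), ⊤⁆ ≤ tgt (img 𝓦 G) (S : Subgroup G) ⊤) :
    (S : Subgroup G) ⊓ ⁅(⊤ : Subgroup G), ⊤⁆ ≤ tgt (img 𝓦 G) (S : Subgroup G) ⊤ := by
  set X := tgt (img 𝓦 G) (S : Subgroup G) ⊤
  set Z := Cfsg.pCore p G with hZdef
  haveI : Z.Normal := pCore_normal p G
  by_cases hZ1 : Z = ⊥
  · intro s hs
    have htriv : (s : G) = 1 := by
      have hcen : centralizer (Z : Set G) = ⊤ := by
        rw [hZ1, eq_top_iff]
        intro g _
        exact mem_centralizer_iff.mpr fun y hy => by rw [mem_bot.mp hy]; simp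
      have : (⊤ : Subgroup G) ≤ Z := hcen ▸ hc
      rw [hZ1] at this
      exact mem_bot.mp (this (mem_top s))
    rw [htriv]; exact one_mem _
  have hZS : Z ≤ (S : Subgroup G) := (isPGroup_pCore p G).le_sylow_of_normal S
  have hmonoX : ∀ M : Subgroup G, tgt (img 𝓦 G) (S : Subgroup G) M ≤ X := fun M =>
    iSup₂_mono fun W _ => inf_le_inf_left _
      (commutator_mono (inf_le_inf_right _ le_top) (inf_le_inf_right _ le_top))
  have hsub : ∀ M : Subgroup G, M ≠ ⊤ → (S : Subgroup G) ≤ M →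
      (S : Subgroup G) ⊓ ⁅M, M⁆ ≤ X := fun M hM' hSM =>
    (inf_commutator_le_tgt (isConjugacyFunctor_img h𝓦) (hM M hM')
      ((isSylowIn_top S).mono hSM le_top)).trans (hmonoX M)
  by_cases hSZ : (S : Subgroup G) ≤ Z
  · exact (le_inf (inf_le_left.trans hSZ) inf_le_right).trans hZX
  set π := QuotientGroup.mk' Z with hπ
  have hS' : IsSylowIn p ((S : Subgroup G).map π) ⊤ := by
    have := isSylowIn_top (S.mapSurjective (QuotientGroup.mk'_surjective Z))
    rwa [Sylow.coe_mapSurjective] at this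
  have hcomap : ((S : Subgroup G).map π).comap π = (S : Subgroup G) := by
    rw [comap_map_eq, hπ, QuotientGroup.ker_mk', sup_eq_left.mpr hZS]
  have hbar : Cfsg.pCore p (G ⧸ Z) = ⊥ := by
    have := pCore_quotient (p := p) (N := Z) (isPGroup_pCore p G)
    rw [this, Subgroup.map_eq_bot_iff]
    exact (QuotientGroup.ker_mk' Z).ge
  intro s hs
  have h3 : π s ∈ (S : Subgroup G).map π ⊓ ⁅(⊤ : Subgroup (G ⧸ Z)), ⊤⁆ := by
    refine ⟨mem_map_of_mem π hs.1, ?_⟩
    rw [← map_top_of_surjective π (QuotientGroup.mk'_surjective Z), ← map_commutator]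
    exact mem_map_of_mem π hs.2
  have h2 : tgt (img 𝓦 (G ⧸ Z)) ((S : Subgroup G).map π) ⊤ ≤ X.map π := by
    refine iSup₂_le ?_
    rintro _ ⟨W, hW, rfl⟩
    have hWc := isConjugacyFunctor_induced (G := G ⧸ Z) (h𝓦 W hW)
    set V := normalizer ((Cfsg.inducedFunctor (G := G ⧸ Z) W ((S : Subgroup G).map π) :
      Subgroup (G ⧸ Z)) : Set (G ⧸ Z)) with hVdef
    have hMne : V.comap π ≠ ⊤ := fun h => by
      refine cfun_ne_bot hWc hS'.2.1
        (fun h' => hSZ (le_of_le_of_eq ((Subgroup.map_eq_bot_iff _).mp h') (QuotientGroup.ker_mk' Z)))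
        (eq_bot_of_normalizer_eq_top hbar (isPGroup_mono hS'.2.1 (inducedFunctor_le W _)) ?_)
      rw [← map_comap_eq_self_of_surjective (QuotientGroup.mk'_surjective Z) (normalizer _), h,
        map_top_of_surjective _ (QuotientGroup.mk'_surjective Z)]
    have hSM : (S : Subgroup G) ≤ V.comap π :=
      map_le_iff_le_comap.mp (le_normalizer.trans (normalizer_le_cfun hWc hS'.2.1))
    refine le_trans ?_ (Subgroup.map_mono (hsub (V.comap π) hMne hSM))
    simp only [top_inf_eq]
    rintro _ ⟨⟨w, hw, rfl⟩, hw'⟩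
    rw [← map_comap_eq_self_of_surjective (QuotientGroup.mk'_surjective Z) V,
      ← map_commutator] at hw'
    obtain ⟨t, ht, he⟩ := hw'
    refine ⟨t, mem_inf.mpr ⟨?_, ht⟩, he⟩
    rw [← hcomap, mem_comap, he]
    exact mem_map_of_mem π hw
  have h1 := inf_commutator_le_tgt (isConjugacyFunctor_img h𝓦) (hQuot Z hZ1) hS'
  obtain ⟨t, ht, he⟩ := h2 (h1 h3)
  have ht' : t ∈ (S : Subgroup G) ⊓ ⁅(⊤ : Subgroup G), ⊤⁆ := tgt_le ht
  have : t⁻¹ * s ∈ Z ⊓ ⁅(⊤ : Subgroup G), ⊤⁆ :=
    mem_inf.mpr ⟨QuotientGroup.eq.mp he, mul_mem (inv_mem (mem_inf.mp ht').2) (mem_inf.mp hs).2⟩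
  have := mul_mem ht (hZX this)
  rwa [mul_inv_cancel_left] at this

/-- Control of transfer in all sections from a focal condition on `O_p` in constrained sections, which
may use control in proper subgroups. -/
theorem transfer_core_master (h𝓦 : ∀ W ∈ 𝓦, Cfsg.IsCharPFunctor.{u} p W) (hne : 𝓦.Nonempty)
    (hcore : ∀ (H : Type u) [Group H] [Finite H], Cfsg.Involves H G → Constr p H →
      (∀ M : Subgroup H, M ≠ ⊤ → Cfsg.FamilyControlsTransferIn p (img 𝓦 H) M) → ∀ S : Sylow p H,
        Cfsg.pCore p H ⊓ ⁅(⊤ : Subgroup H), ⊤⁆ ≤ tgt (img 𝓦 H) (S : Subgroup H) ⊤) :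
    Cfsg.FamilyControlsTransferIn p (img 𝓦 G) ⊤ := by
  obtain ⟨W₀, hW₀⟩ := hne
  suffices ∀ n : ℕ, ∀ (H : Type u) [Group H] [Finite H], Cfsg.Involves H G → Nat.card H ≤ n →
      Cfsg.FamilyControlsTransferIn p (img 𝓦 H) ⊤ from this _ G involves_refl le_rfl
  intro n
  induction n with
  | zero => intro H _ _ _ hn; exact absurd hn (Nat.card_pos).not_ge
  | succ n ih =>
  intro H _ _ hH hn
  refine transfer_master h𝓦 ⟨W₀, hW₀⟩ fun H' _ _ hH' hc => ?_
  have hle := (card_le_of_involves hH').trans hn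
  have hsec := involves_trans hH' hH
  have hM : ∀ M : Subgroup H', M ≠ ⊤ → Cfsg.FamilyControlsTransferIn p (img 𝓦 H') M := fun M hM =>
    transfer_subgroup h𝓦 M (ih M (involves_trans (involves_subgroup M) hsec)
      (by have := card_subgroup_lt hM; omega))
  obtain ⟨S⟩ : Nonempty (Sylow p H') := inferInstance
  refine famTransfer_iff.mpr ⟨(S : Subgroup H'), isSylowIn_top S,
    transfer_of_pCore h𝓦 hW₀ S hc hM (fun N _ hN => ih (H' ⧸ N) (involves_trans (involves_quotient N) hsec)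
      (by have := card_quotient_lt (N := N) hN; omega)) (hcore H' hsec hc hM S)⟩

/-- `g` is an Engel element of bound `k` on the chief factors below `O_p(G)`. -/
def EngelOnCore (p k : ℕ) (g : G) : Prop :=
  ∀ U V : Subgroup G, Cfsg.IsChiefFactor U V → U ≤ Cfsg.pCore p G →
    Cfsg.iterCommutator U (zpowers g) k ≤ V

omit [Finite G] in
theorem iterCommutator_map {H : Type u} [Group H] (f : G →* H) (U C : Subgroup G) (i : ℕ) :
    (Cfsg.iterCommutator U C i).map f = Cfsg.iterCommutator (U.map f) (C.map f) i := by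
  induction i with
  | zero => rfl
  | succ i ih => exact (map_commutator _ _ f).trans (by rw [ih]; rfl)

theorem engelOnCore_conj {k : ℕ} {g : G} (h : EngelOnCore p k g) (c : G) :
    EngelOnCore p k (c * g * c⁻¹) := by
  intro U V hUV hU
  haveI := hUV.2.1
  haveI := hUV.2.2.1
  have hfix : ∀ N : Subgroup G, N.Normal → cmap c N = N := fun N hN =>
    mem_normalizer_iff_cmap.mp (by rw [normalizer_eq_top]; exact mem_top c)
  have h1 := cmap_mono c (h U V hUV hU)
  have h2 : cmap c (Cfsg.iterCommutator U (zpowers g) k)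
      = Cfsg.iterCommutator U (zpowers (c * g * c⁻¹)) k := by
    show (Cfsg.iterCommutator U (zpowers g) k).map _ = _
    rw [iterCommutator_map, MonoidHom.map_zpowers]
    congr 1
    exact hfix U inferInstance
  rwa [h2, hfix V inferInstance] at h1

/-- The Engel criterion at a constrained group. -/
theorem pCore_inf_commutator_le (h𝓦 : ∀ W ∈ 𝓦, Cfsg.IsCharPFunctor.{u} p W) (S : Sylow p G)
    (hM : ∀ M : Subgroup G, M ≠ ⊤ → Cfsg.FamilyControlsTransferIn p (img 𝓦 G) M)
    {g : G} (hgS : g ∈ (S : Subgroup G)) (hgZ : g ∉ Cfsg.pCore p G) (hg : EngelOnCore p (p - 1) g) :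
    Cfsg.pCore p G ⊓ ⁅(⊤ : Subgroup G), ⊤⁆ ≤ tgt (img 𝓦 G) (S : Subgroup G) ⊤ := by
  set Z := Cfsg.pCore p G
  haveI : Z.Normal := pCore_normal p G
  have hZS : Z ≤ (S : Subgroup G) := (isPGroup_pCore p G).le_sylow_of_normal S
  set E : Set G := {e | e ∈ (S : Subgroup G) ∧ EngelOnCore p (p - 1) e} with hE
  set D := Subgroup.closure E with hD
  have hDS : D ≤ (S : Subgroup G) := (closure_le _).mpr fun e he => he.1
  set M := normalizer ((D ⊔ Z : Subgroup G) : Set G) with hMdef
  have hEconj : ∀ s ∈ (S : Subgroup G), ∀ e ∈ E, s * e * s⁻¹ ∈ E := fun s hs e he =>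
    ⟨mul_mem (mul_mem hs he.1) (inv_mem hs), engelOnCore_conj he.2 s⟩
  have hnorm : ∀ x : G, cmap x D ≤ D → x ∈ M := by
    intro x hx
    refine mem_normalizer_of_cmap_le ?_
    rw [cmap, Subgroup.map_sup]
    exact sup_le_sup hx (mem_normalizer_iff_cmap.mp (by rw [normalizer_eq_top]; exact mem_top x)).le
  have hSM : (S : Subgroup G) ≤ M := fun s hs => hnorm s (by
    rw [hD, cmap, MonoidHom.map_closure, closure_le]
    rintro _ ⟨e, he, rfl⟩
    exact subset_closure (hEconj s hs e he))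
  have hMne : M ≠ ⊤ := fun h => by
    haveI := normalizer_eq_top_iff.mp h
    exact hgZ ((le_pCore (isPGroup_mono S.isPGroup' (sup_le hDS hZS)) : D ⊔ Z ≤ Z)
      (mem_sup_left (subset_closure ⟨hgS, hg⟩)))
  have hfix : ∀ t : G, (∀ e ∈ E, t⁻¹ * e * t ∈ M) → t ∈ M := by
    intro t ht
    have hle : cmap t⁻¹ D ≤ M := by
      rw [hD, cmap, MonoidHom.map_closure, closure_le]
      rintro _ ⟨e, he, rfl⟩
      simpa [mul_assoc] using ht e he
    obtain ⟨m, hm, hmle⟩ := ((isSylowIn_top S).mono hSM le_top).exists_conj_le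
      (isPGroup_cmap (isPGroup_mono S.isPGroup' hDS)) hle
    rw [← cmap_mul] at hmle
    have h1 : cmap (m * t⁻¹) D ≤ D := by
      rw [hD, cmap, MonoidHom.map_closure, closure_le]
      rintro _ ⟨e, he, rfl⟩
      exact subset_closure ⟨hmle (conj_mem_cmap (subset_closure he)), engelOnCore_conj he.2 _⟩
    have h2 := mul_mem (inv_mem hm) (hnorm _ h1)
    rw [inv_mul_cancel_left] at h2
    simpa using inv_mem h2
  have h := ConjFunctorEngel.le_commutator_of_engel S Z M (isPGroup_pCore p G) hSM E hEconj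
    (fun e he => he.1) hfix (fun e he => he.2)
  refine le_trans (le_inf (inf_le_left.trans hZS) h) ?_
  refine (inf_commutator_le_tgt (isConjugacyFunctor_img h𝓦) (hM M hMne)
    ((isSylowIn_top S).mono hSM le_top)).trans ?_
  exact iSup₂_mono fun W _ => inf_le_inf_left _
    (commutator_mono (inf_le_inf_right _ le_top) (inf_le_inf_right _ le_top))

omit [Fact p.Prime] in
theorem engelOnCore_congr {H : Type u} [Group H] [Finite H] (e : G ≃* H) {k : ℕ} {g : G}
    (h : EngelOnCore p k g) : EngelOnCore p k (e g) := by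
  intro U V hUV hU
  haveI := hUV.2.1
  haveI := hUV.2.2.1
  let U' := U.comap (e : G →* H)
  let V' := V.comap (e : G →* H)
  have hU' : U'.map (e : G →* H) = U := map_comap_eq_self_of_surjective e.surjective U
  have hV' : V'.map (e : G →* H) = V := map_comap_eq_self_of_surjective e.surjective V
  have hchief : Cfsg.IsChiefFactor U' V' := by
    refine ⟨(comap_lt_comap_of_surjective e.surjective).mpr hUV.1, Normal.comap inferInstance _,
      Normal.comap inferInstance _, fun N hN h1 h2 => ?_⟩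
    rcases hUV.2.2.2 (N.map (e : G →* H)) (Normal.map hN _ e.surjective)
      (hV' ▸ Subgroup.map_mono h1) (hU' ▸ Subgroup.map_mono h2) with h3 | h3
    · exact Or.inl (map_injective (f := (e : G →* H)) e.injective (h3.trans hV'.symm))
    · exact Or.inr (map_injective (f := (e : G →* H)) e.injective (h3.trans hU'.symm))
  have hle : U' ≤ Cfsg.pCore p G := by
    rw [← map_le_map_iff_of_injective (f := (e : G →* H)) e.injective, hU']
    exact hU.trans (map_equiv_pCore e).ge
  have := Subgroup.map_mono (f := (e : G →* H)) (h U' V' hchief hle)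
  rwa [iterCommutator_map, hU', hV', MonoidHom.map_zpowers] at this

end Cfsg.Agent.ConjFunctorCore
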