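import Mathlib
import Cfsg.Prelude.Def_ConjugacyFunctors

/-!
The K-infinity subgroups of `Def_ConjugacyFunctors`: monotonicity, stabilisation, invariance under
isomorphisms, comparison with a subgroup containing all terms, centralisers of maximal members of the
families, and the witness produced when some term leaves a given normal subgroup.
-/

set_option autoImplicit false

open scoped commutatorElement
open Subgroup
open scoped Pointwise

namespace Cfsg.Agent.ConjFunctorKInf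

universe u

variable {P : Type*} [Group P]

/-- The centre of a subgroup, inside the ambient group. -/
abbrev cen (B : Subgroup P) : Subgroup P := B ⊓ centralizer (B : Set P)

theorem mem_classTwo {B : Subgroup P} :
    B ∈ Cfsg.classTwoSubgroups P ↔ ⁅B, B⁆ ≤ centralizer (B : Set P) := Iff.rfl

theorem classTwo_mono {B C : Subgroup P} (h : B ∈ Cfsg.classTwoSubgroups P) (hCB : C ≤ B) :
    C ∈ Cfsg.classTwoSubgroups P :=
  ((commutator_mono hCB hCB).trans h).trans (centralizer_le hCB)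

theorem classTwo_triple {B : Subgroup P} (h : B ∈ Cfsg.classTwoSubgroups P) :
    ⁅⁅B, B⁆, B⁆ = ⊥ := commutator_eq_bot_iff_le_centralizer.mpr h

theorem cen_le (B : Subgroup P) : cen B ≤ B := inf_le_left

theorem commutator_cen (B : Subgroup P) : ⁅cen B, B⁆ = ⊥ :=
  commutator_eq_bot_iff_le_centralizer.mpr inf_le_right

theorem normalizer_le_normalizer_cen (B : Subgroup P) :
    normalizer (B : Set P) ≤ normalizer ((cen B : Subgroup P) : Set P) := by
  intro g hg
  rw [mem_normalizer_iff]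
  intro x
  constructor
  · rintro ⟨hx, hxc⟩
    refine ⟨(mem_normalizer_iff.mp hg x).mp hx, mem_centralizer_iff.mpr fun y hy => ?_⟩
    have h1 : g⁻¹ * y * g ∈ B := (mem_normalizer_iff.mp hg _).mpr (by simpa [mul_assoc] using hy)
    have h2 := mem_centralizer_iff.mp hxc _ h1
    calc y * (g * x * g⁻¹) = g * (g⁻¹ * y * g * x) * g⁻¹ := by group
      _ = g * (x * (g⁻¹ * y * g)) * g⁻¹ := by rw [h2]
      _ = g * x * g⁻¹ * y := by group
  · rintro ⟨hx, hxc⟩
    refine ⟨(mem_normalizer_iff.mp hg x).mpr hx, mem_centralizer_iff.mpr fun y hy => ?_⟩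
    have h1 : g * y * g⁻¹ ∈ B := (mem_normalizer_iff.mp hg y).mp hy
    have h2 := mem_centralizer_iff.mp hxc _ h1
    calc y * x = g⁻¹ * (g * y * g⁻¹ * (g * x * g⁻¹)) * g := by group
      _ = g⁻¹ * (g * x * g⁻¹ * (g * y * g⁻¹)) * g := by rw [h2]
      _ = x * y := by group

/-! ### The families -/

theorem kUpper_anti {Q Q' : Subgroup P} (h : Q' ≤ Q) :
    Cfsg.kUpperStarFamily Q ⊆ Cfsg.kUpperStarFamily Q' :=
  fun _ hB => ⟨hB.1, (commutator_mono le_rfl h).trans hB.2⟩

theorem kLower_anti {Q Q' : Subgroup P} (h : Q' ≤ Q) :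
    Cfsg.kLowerStarFamily Q ⊆ Cfsg.kLowerStarFamily Q' :=
  fun _ hB => ⟨hB.1, h.trans hB.2.1, fun A hA hAQ => hB.2.2 A hA (hAQ.trans h)⟩

theorem kUpper_le_normalizer {Q B : Subgroup P} (h : B ∈ Cfsg.kUpperStarFamily Q) :
    Q ≤ normalizer (B : Set P) :=
  le_normalizer_iff_commutator_le_right.mpr (by rw [commutator_comm]; exact h.2.trans inf_le_left)

theorem normal_abelian_mem_classTwo {A : Subgroup P} (hA : IsMulCommutative A) :
    A ∈ Cfsg.classTwoSubgroups P := by
  have : ⁅A, A⁆ = ⊥ := commutator_eq_bot_iff_le_centralizer.mpr (@le_centralizer _ _ A hA)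
  show ⁅A, A⁆ ≤ _
  rw [this]; exact bot_le

theorem normal_abelian_mem_lower {A : Subgroup P} [hn : A.Normal] (hA : IsMulCommutative A)
    (Q : Subgroup P) : A ∈ Cfsg.kLowerStarFamily Q :=
  ⟨normal_abelian_mem_classTwo hA, by rw [normalizer_eq_top]; exact le_top,
    fun B _ _ _ _ _ => (commutator_le_left A B).trans (le_inf le_rfl (@le_centralizer _ _ A hA))⟩

theorem normal_abelian_mem_upper {A : Subgroup P} [hn : A.Normal] (hA : IsMulCommutative A)
    (Q : Subgroup P) : A ∈ Cfsg.kUpperStarFamily Q :=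
  ⟨normal_abelian_mem_classTwo hA, (commutator_le_left A Q).trans (le_inf le_rfl (@le_centralizer _ _ A hA))⟩

theorem bot_mem_lower (Q : Subgroup P) : (⊥ : Subgroup P) ∈ Cfsg.kLowerStarFamily Q :=
  normal_abelian_mem_lower (inferInstance) Q

theorem bot_mem_upper (Q : Subgroup P) : (⊥ : Subgroup P) ∈ Cfsg.kUpperStarFamily Q :=
  normal_abelian_mem_upper (inferInstance) Q

/-! ### The sequences -/

theorem kSeqOdd_zero : Cfsg.kSeqOdd P 0 = ⊤ := rfl

theorem kSeqOdd_succ (n : ℕ) :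
    Cfsg.kSeqOdd P (n + 1) = sSup (Cfsg.kUpperStarFamily (Cfsg.kSeqEven P n)) := rfl

theorem kSeqEven_def (n : ℕ) :
    Cfsg.kSeqEven P n = sSup (Cfsg.kLowerStarFamily (Cfsg.kSeqOdd P n)) := rfl

theorem kSeqOdd_succ_le (n : ℕ) : Cfsg.kSeqOdd P (n + 1) ≤ Cfsg.kSeqOdd P n := by
  induction n with
  | zero => exact le_top
  | succ n ih =>
    rw [kSeqOdd_succ, kSeqOdd_succ]
    exact sSup_le_sSup (kUpper_anti (sSup_le_sSup (kLower_anti ih)))

theorem kSeqEven_le_succ (n : ℕ) : Cfsg.kSeqEven P n ≤ Cfsg.kSeqEven P (n + 1) :=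
  sSup_le_sSup (kLower_anti (kSeqOdd_succ_le n))

theorem kSeqEven_mono : Monotone (Cfsg.kSeqEven P) := monotone_nat_of_le_succ kSeqEven_le_succ

theorem kSeqOdd_anti : Antitone (Cfsg.kSeqOdd P) := antitone_nat_of_succ_le kSeqOdd_succ_le

theorem exists_stable (P : Type u) [Group P] [Finite P] :
    ∃ n : ℕ, ∀ m : ℕ, n ≤ m →
      Cfsg.kSeqEven P m = Cfsg.kInfLower P ∧ Cfsg.kSeqOdd P m = Cfsg.kInfUpper P := by
  obtain ⟨i, hi⟩ := WellFoundedGT.monotone_chain_condition
    (⟨Cfsg.kSeqEven P, kSeqEven_mono⟩ : ℕ →o Subgroup P)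
  obtain ⟨j, hj⟩ := WellFoundedGT.monotone_chain_condition
    (⟨fun k => OrderDual.toDual (Cfsg.kSeqOdd P k), fun a b h => kSeqOdd_anti h⟩ :
      ℕ →o (Subgroup P)ᵒᵈ)
  refine ⟨max i j, fun m hm => ⟨le_antisymm (le_iSup _ m) (iSup_le fun k => ?_),
    le_antisymm (le_iInf fun k => ?_) (iInf_le _ m)⟩⟩
  · have h1 : Cfsg.kSeqEven P i = Cfsg.kSeqEven P (max k i) := hi _ (le_max_right _ _)
    exact (kSeqEven_mono (le_max_left k i)).trans
      (h1.symm.le.trans (kSeqEven_mono (le_trans (le_max_left i j) hm)))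
  · have h1 : Cfsg.kSeqOdd P j = Cfsg.kSeqOdd P (max k j) := hj _ (le_max_right _ _)
    exact (kSeqOdd_anti (le_trans (le_max_right i j) hm)).trans
      (h1.le.trans (kSeqOdd_anti (le_max_left k j)))

/-! ### Isomorphism invariance -/

section Iso

variable {P' : Type*} [Group P'] (e : P ≃* P')

theorem map_sSup' (s : Set (Subgroup P)) :
    (sSup s).map (e : P →* P') = sSup ((fun B : Subgroup P => B.map (e : P →* P')) '' s) := by
  rw [(gc_map_comap _).l_sSup, sSup_image]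

theorem map_centralizer' (B : Subgroup P) :
    (centralizer (B : Set P)).map (e : P →* P')
      = centralizer ((B.map (e : P →* P') : Subgroup P') : Set P') := by
  ext x
  simp only [mem_map, mem_centralizer_iff, coe_map, Set.forall_mem_image, SetLike.mem_coe,
    MonoidHom.coe_coe]
  constructor
  · rintro ⟨y, hy, rfl⟩ b hb
    rw [← map_mul, ← map_mul, hy b hb]
  · intro h
    refine ⟨e.symm x, fun b hb => e.injective ?_, by simp⟩
    simpa using h (x := b) hb

theorem map_cen (B : Subgroup P) : (cen B).map (e : P →* P') = cen (B.map (e : P →* P')) := by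
  rw [cen, cen, map_inf _ _ _ e.injective, map_centralizer' e]

theorem map_classTwo {B : Subgroup P} (h : B ∈ Cfsg.classTwoSubgroups P) :
    B.map (e : P →* P') ∈ Cfsg.classTwoSubgroups P' := by
  show ⁅B.map _, B.map _⁆ ≤ _
  rw [← map_commutator, ← map_centralizer' e]
  exact map_mono h

theorem map_symm_map (B : Subgroup P) : (B.map (e : P →* P')).map (e.symm : P' →* P) = B := by
  rw [map_map]; ext x; simp

theorem map_map_symm (B : Subgroup P') : (B.map (e.symm : P' →* P)).map (e : P →* P') = B := by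
  rw [map_map]; ext x; simp

theorem map_upper {Q B : Subgroup P} (h : B ∈ Cfsg.kUpperStarFamily Q) :
    B.map (e : P →* P') ∈ Cfsg.kUpperStarFamily (Q.map (e : P →* P')) := by
  refine ⟨map_classTwo e h.1, ?_⟩
  rw [← map_commutator]
  exact (map_mono h.2).trans (map_cen e B).le

theorem map_le_normalizer {X B : Subgroup P} (h : X ≤ normalizer (B : Set P)) :
    X.map (e : P →* P') ≤ normalizer ((B.map (e : P →* P') : Subgroup P') : Set P') :=
  (map_mono h).trans (le_normalizer_map _)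

theorem map_lower {Q B : Subgroup P} (h : B ∈ Cfsg.kLowerStarFamily Q) :
    B.map (e : P →* P') ∈ Cfsg.kLowerStarFamily (Q.map (e : P →* P')) := by
  refine ⟨map_classTwo e h.1, map_le_normalizer e h.2.1, fun A hA hAQ hN h1 h2 => ?_⟩
  obtain ⟨A, rfl⟩ : ∃ A' : Subgroup P, A'.map (e : P →* P') = A := ⟨_, map_map_symm e A⟩
  have inj := map_injective (f := (e : P →* P')) e.injective
  have hA' : A ∈ Cfsg.classTwoSubgroups P := by
    have := map_classTwo e.symm hA; rwa [map_symm_map] at this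
  have hN' : B ≤ normalizer (A : Set P) := by
    have := map_le_normalizer e.symm hN; rwa [map_symm_map, map_symm_map] at this
  have h1' : ⁅B, ⁅A, A⁆⁆ = ⊥ := inj (by rw [map_commutator, map_commutator, h1, Subgroup.map_bot])
  have h2' : ⁅⁅cen B, A⁆, A⁆ = ⊥ :=
    inj (by rw [map_commutator, map_commutator, map_cen, h2, Subgroup.map_bot])
  have := h.2.2 A hA' ((map_le_map_iff_of_injective e.injective).mp hAQ) hN' h1' h2'
  rw [← map_commutator]
  exact (map_mono this).trans (map_cen e B).le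

theorem image_lower (Q : Subgroup P) :
    (fun B : Subgroup P => B.map (e : P →* P')) '' Cfsg.kLowerStarFamily Q
      = Cfsg.kLowerStarFamily (Q.map (e : P →* P')) := by
  ext B
  constructor
  · rintro ⟨B, hB, rfl⟩; exact map_lower e hB
  · intro hB
    refine ⟨_, ?_, map_map_symm e B⟩
    have := map_lower e.symm hB
    rwa [map_symm_map] at this

theorem image_upper (Q : Subgroup P) :
    (fun B : Subgroup P => B.map (e : P →* P')) '' Cfsg.kUpperStarFamily Q
      = Cfsg.kUpperStarFamily (Q.map (e : P →* P')) := by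
  ext B
  constructor
  · rintro ⟨B, hB, rfl⟩; exact map_upper e hB
  · intro hB
    refine ⟨_, ?_, map_map_symm e B⟩
    have := map_upper e.symm hB
    rwa [map_symm_map] at this

theorem map_kSeqOdd (n : ℕ) : (Cfsg.kSeqOdd P n).map (e : P →* P') = Cfsg.kSeqOdd P' n := by
  induction n with
  | zero => exact map_top_of_surjective _ e.surjective
  | succ n ih =>
    rw [kSeqOdd_succ, kSeqOdd_succ, map_sSup' e, image_upper]
    congr 2
    rw [kSeqEven_def, kSeqEven_def, map_sSup' e, image_lower, ih]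

theorem map_kSeqEven (n : ℕ) : (Cfsg.kSeqEven P n).map (e : P →* P') = Cfsg.kSeqEven P' n := by
  rw [kSeqEven_def, kSeqEven_def, map_sSup' e, image_lower, map_kSeqOdd]

end Iso

theorem map_kInfLower {P : Type u} {P' : Type u} [Group P] [Group P'] (e : P ≃* P') :
    (Cfsg.kInfLower P).map (e : P →* P') = Cfsg.kInfLower P' := by
  simp only [Cfsg.kInfLower, Subgroup.map_iSup, map_kSeqEven]

theorem map_kInfUpper {P : Type u} {P' : Type u} [Group P] [Group P'] (e : P ≃* P') :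
    (Cfsg.kInfUpper P).map (e : P →* P') = Cfsg.kInfUpper P' := by
  rw [Cfsg.kInfUpper, Cfsg.kInfUpper, Subgroup.map_iInf (e : P →* P') e.injective]
  simp only [map_kSeqOdd]

theorem kInfLower_characteristic (P : Type u) [Group P] : (Cfsg.kInfLower P).Characteristic :=
  characteristic_iff_map_eq.mpr fun e => map_kInfLower e

theorem kInfUpper_characteristic (P : Type u) [Group P] : (Cfsg.kInfUpper P).Characteristic :=
  characteristic_iff_map_eq.mpr fun e => map_kInfUpper e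

/-! ### Maximal members contain their centralisers -/

/-- Enlarging a subgroup by an element of its centraliser which is central modulo the centre. -/
theorem exists_extension [Finite P] {p : ℕ} [Fact p.Prime] (hP : IsPGroup p P) {B : Subgroup P}
    (hC : ¬ centralizer (B : Set P) ≤ B) :
    ∃ x ∈ centralizer (B : Set P), x ∉ B ∧
      ∀ r ∈ normalizer (B : Set P), ⁅x, r⁆ ∈ cen B := by
  set R := normalizer (B : Set P) with hR
  have hZR : ((cen B).subgroupOf R).Normal :=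
    normal_subgroupOf_of_le_normalizer ((hR ▸ normalizer_le_normalizer_cen B))
  have hCR : centralizer (B : Set P) ≤ R := fun c hc => by
    rw [hR, mem_normalizer_iff]
    intro y
    constructor
    · intro hy
      have := mem_centralizer_iff.mp hc y hy
      rwa [← this, mul_inv_cancel_right]
    · intro hy
      have := mem_centralizer_iff.mp hc _ hy
      have h2 : c * y * c⁻¹ = y := by
        have h3 : c * y = c * (c * y * c⁻¹) := by rw [← this]; group
        exact (mul_left_cancel h3).symm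
      rwa [h2] at hy
  let Cs : Subgroup (↥R ⧸ (cen B).subgroupOf R) :=
    ((centralizer (B : Set P)).subgroupOf R).map (QuotientGroup.mk' _)
  haveI hCn : ((centralizer (B : Set P)).subgroupOf R).Normal := by
    refine normal_subgroupOf_of_le_normalizer fun g hg => mem_normalizer_iff.mpr fun x => ?_
    rw [hR] at hg
    constructor <;> intro hx <;> refine mem_centralizer_iff.mpr fun y hy => ?_
    · have h1 := mem_centralizer_iff.mp hx (g⁻¹ * y * g)
        ((mem_normalizer_iff.mp hg _).mpr (by simpa [mul_assoc] using hy))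
      calc y * (g * x * g⁻¹) = g * (g⁻¹ * y * g * x) * g⁻¹ := by group
        _ = g * (x * (g⁻¹ * y * g)) * g⁻¹ := by rw [h1]
        _ = g * x * g⁻¹ * y := by group
    · have h1 := mem_centralizer_iff.mp hx (g * y * g⁻¹) ((mem_normalizer_iff.mp hg y).mp hy)
      calc y * x = g⁻¹ * (g * y * g⁻¹ * (g * x * g⁻¹)) * g := by group
        _ = g⁻¹ * (g * x * g⁻¹ * (g * y * g⁻¹)) * g := by rw [h1]
        _ = x * y := by group
  haveI : Cs.Normal := Normal.map inferInstance _ (QuotientGroup.mk'_surjective _)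
  have hCne : Cs ≠ ⊥ := by
    intro h
    apply hC
    intro c hc
    have : (QuotientGroup.mk' ((cen B).subgroupOf R)) ⟨c, hCR hc⟩ ∈ Cs := mem_map_of_mem _ hc
    rw [h, mem_bot, QuotientGroup.mk'_apply, QuotientGroup.eq_one_iff] at this
    exact (mem_subgroupOf.mp this).1
  have hQ : IsPGroup p (↥R ⧸ (cen B).subgroupOf R) := (hP.to_subgroup R).to_quotient _
  haveI : Nontrivial Cs := (nontrivial_iff_ne_bot Cs).mpr hCne
  obtain ⟨z, hzC, hzc, hz1⟩ : ∃ z, z ∈ Cs ∧ z ∈ center (↥R ⧸ (cen B).subgroupOf R) ∧ z ≠ 1 := by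
    have hQ' : IsPGroup p (ConjAct (↥R ⧸ (cen B).subgroupOf R)) := hQ
    obtain ⟨k, hk0, hk⟩ := (hQ.to_subgroup Cs).nontrivial_iff_card.mp inferInstance
    obtain ⟨z, hz, hz1⟩ := hQ'.exists_fixed_point_of_prime_dvd_card_of_fixed_point Cs
      (hk ▸ dvd_pow_self p (Nat.pos_iff_ne_zero.mp hk0)) (a := 1) (fun g => smul_one g)
    refine ⟨z, z.2, mem_center_iff.mpr fun g => ?_, fun h => hz1 (Subtype.ext h.symm)⟩
    have := congrArg Subtype.val (hz (ConjAct.toConjAct g))
    rw [ConjAct.Subgroup.val_conj_smul, ConjAct.smul_def, ConjAct.ofConjAct_toConjAct] at this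
    calc g * ↑z = g * ↑z * g⁻¹ * g := by group
      _ = ↑z * g := by rw [this]
  obtain ⟨⟨x, hxR⟩, hxC, rfl⟩ := hzC
  refine ⟨x, hxC, fun hxB => hz1 ?_, fun r hr => ?_⟩
  · rw [QuotientGroup.mk'_apply, QuotientGroup.eq_one_iff, mem_subgroupOf]
    exact ⟨hxB, hxC⟩
  · have hr' : r ∈ R := hr
    have h := mem_center_iff.mp hzc (QuotientGroup.mk' _ ⟨r, hr'⟩)
    have h2 : (QuotientGroup.mk' ((cen B).subgroupOf R)) ⁅(⟨x, hxR⟩ : R), ⟨r, hr'⟩⁆ = 1 := by
      rw [map_commutatorElement]; exact commutatorElement_eq_one_iff_commute.mpr h.symm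
    rw [QuotientGroup.mk'_apply, QuotientGroup.eq_one_iff, mem_subgroupOf] at h2
    exact h2

section Ext

variable {B : Subgroup P} {x : P}

theorem mem_sup_zpowers (hxC : x ∈ centralizer (B : Set P)) {y : P} (hy : y ∈ B ⊔ zpowers x) :
    ∃ b ∈ B, ∃ k : ℤ, y = b * x ^ k := by
  have hle : B ≤ normalizer ((zpowers x : Subgroup P) : Set P) := by
    intro b hb
    rw [mem_normalizer_iff]
    intro z
    constructor
    · rintro ⟨k, rfl⟩
      have : Commute b (x ^ k) := Commute.zpow_right (mem_centralizer_iff.mp hxC b hb) k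
      exact ⟨k, by simp [this.eq]⟩
    · rintro ⟨k, hk⟩
      have : Commute b (x ^ k) := Commute.zpow_right (mem_centralizer_iff.mp hxC b hb) k
      refine ⟨k, ?_⟩
      simp only at hk ⊢
      calc x ^ k = b⁻¹ * (b * x ^ k) := by group
        _ = b⁻¹ * (x ^ k * b) := by rw [this.eq]
        _ = z := by rw [hk]; group
  have hy' : y ∈ (B : Set P) * (zpowers x : Set P) :=
    (coe_mul_of_left_le_normalizer_right B (zpowers x) hle) ▸ hy
  obtain ⟨b, hb, _, ⟨k, rfl⟩, rfl⟩ := Set.mem_mul.mp hy'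
  exact ⟨b, hb, k, rfl⟩

theorem cen_le_cen_sup (hxC : x ∈ centralizer (B : Set P)) : cen B ≤ cen (B ⊔ zpowers x) := by
  rintro z ⟨hzB, hzC⟩
  refine ⟨mem_sup_left hzB, mem_centralizer_iff.mpr fun y hy => ?_⟩
  obtain ⟨b, hb, k, rfl⟩ := mem_sup_zpowers hxC hy
  have h1 : Commute z b := (mem_centralizer_iff.mp hzC b hb).symm
  have h2 : Commute z (x ^ k) := Commute.zpow_right (mem_centralizer_iff.mp hxC z hzB) k
  exact (h1.mul_right h2).eq.symm

theorem mem_cen_sup (hxC : x ∈ centralizer (B : Set P)) : x ∈ cen (B ⊔ zpowers x) := by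
  refine ⟨mem_sup_right (mem_zpowers x), mem_centralizer_iff.mpr fun y hy => ?_⟩
  obtain ⟨b, hb, k, rfl⟩ := mem_sup_zpowers hxC hy
  have h1 : Commute x b := (mem_centralizer_iff.mp hxC b hb).symm
  have h2 : Commute x (x ^ k) := Commute.zpow_self x k |>.symm
  exact (h1.mul_right h2).eq.symm

theorem commutator_sup_le {A N : Subgroup P} (hxC : x ∈ centralizer (B : Set P))
    (h1 : ⁅B, A⁆ ≤ N) (h2 : ∀ a ∈ A, ⁅x, a⁆ ∈ N) (hxN : ∀ n ∈ N, x * n * x⁻¹ ∈ N)
    (hxN' : ∀ n ∈ N, x⁻¹ * n * x ∈ N) (hBN : B ≤ normalizer (N : Set P)) :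
    ⁅B ⊔ zpowers x, A⁆ ≤ N := by
  have hxz : ∀ k : ℤ, ∀ a ∈ A, ⁅x ^ k, a⁆ ∈ N := by
    intro k
    induction k with
    | zero => simp
    | succ k ih =>
      intro a ha
      rw [show (x ^ ((k : ℤ) + 1)) = x * x ^ (k : ℤ) by rw [add_comm, zpow_add, zpow_one],
        show ∀ y, ⁅x * y, a⁆ = x * ⁅y, a⁆ * x⁻¹ * ⁅x, a⁆ from fun y => by
          simp only [commutatorElement_def]; group]
      exact mul_mem (hxN _ (ih a ha)) (h2 a ha)
    | pred k ih =>
      intro a ha
      rw [show (x ^ (-(k : ℤ) - 1)) = x⁻¹ * x ^ (-(k : ℤ)) by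
          rw [sub_eq_add_neg, add_comm, zpow_add, zpow_neg_one],
        show ∀ y, ⁅x⁻¹ * y, a⁆ = x⁻¹ * (⁅y, a⁆ * ⁅x, a⁆⁻¹) * x from fun y => by
          simp only [commutatorElement_def]; group]
      exact hxN' _ (mul_mem (ih a ha) (inv_mem (h2 a ha)))
  refine commutator_le.mpr fun y hy a ha => ?_
  obtain ⟨b, hb, k, rfl⟩ := mem_sup_zpowers hxC hy
  rw [show ⁅b * x ^ k, a⁆ = b * ⁅x ^ k, a⁆ * b⁻¹ * ⁅b, a⁆ by simp only [commutatorElement_def]; group]
  exact mul_mem ((mem_normalizer_iff.mp (hBN hb) _).mp (hxz k a ha)) (h1 (commutator_mem_commutator hb ha))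

theorem sup_zpowers_normalized {R : Subgroup P} (hxC : x ∈ centralizer (B : Set P))
    (hR : R ≤ normalizer (B : Set P))
    (hxR : ∀ r ∈ normalizer (B : Set P), ⁅x, r⁆ ∈ cen B) :
    R ≤ normalizer ((B ⊔ zpowers x : Subgroup P) : Set P) := by
  refine le_normalizer_iff_commutator_le_left.mpr ?_
  have hx : x ∈ B ⊔ zpowers x := mem_sup_right (mem_zpowers x)
  exact commutator_sup_le hxC ((le_normalizer_iff_commutator_le_left.mp hR).trans le_sup_left)
    (fun r hr => mem_sup_left (hxR r (hR hr)).1) (fun n hn => mul_mem (mul_mem hx hn) (inv_mem hx))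
    (fun n hn => mul_mem (mul_mem (inv_mem hx) hn) hx) (le_sup_left.trans le_normalizer)

theorem commutator_sup_le_cen {A : Subgroup P} (hxC : x ∈ centralizer (B : Set P))
    (h1 : ⁅B, A⁆ ≤ cen B) (h2 : ∀ a ∈ A, ⁅x, a⁆ ∈ cen B) :
    ⁅B ⊔ zpowers x, A⁆ ≤ cen B := by
  have hfix : ∀ n ∈ cen B, x * n = n * x := fun n hn => (mem_centralizer_iff.mp hxC n hn.1).symm
  refine commutator_sup_le hxC h1 h2 (fun n hn => by rwa [hfix n hn, mul_inv_cancel_right])
    (fun n hn => by rwa [mul_assoc, ← hfix n hn, inv_mul_cancel_left]) ?_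
  exact (le_normalizer).trans (normalizer_le_normalizer_cen B)

theorem classTwo_sup (hB : B ∈ Cfsg.classTwoSubgroups P) (hxC : x ∈ centralizer (B : Set P)) :
    B ⊔ zpowers x ∈ Cfsg.classTwoSubgroups P := by
  have hBB : ⁅B, B⁆ ≤ cen B := le_inf ((le_normalizer_iff_commutator_le_left).mp le_normalizer) hB
  have hxB : ∀ a ∈ B, ⁅x, a⁆ ∈ cen B := fun a ha => by
    rw [commutatorElement_eq_one_iff_commute.mpr (mem_centralizer_iff.mp hxC a ha).symm]; exact one_mem _
  have h1 : ⁅B ⊔ zpowers x, B⁆ ≤ cen B := commutator_sup_le_cen hxC hBB hxB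
  have hxx : ∀ a ∈ B ⊔ zpowers x, ⁅x, a⁆ ∈ cen B := by
    intro a ha
    obtain ⟨b, hb, k, rfl⟩ := mem_sup_zpowers hxC ha
    rw [commutatorElement_eq_one_iff_commute.mpr (Commute.mul_right (show Commute x b from (mem_centralizer_iff.mp hxC b hb).symm)
      (Commute.zpow_self x k).symm)]
    exact one_mem _
  rw [mem_classTwo]
  exact (commutator_sup_le_cen hxC ((commutator_comm _ _).le.trans h1) hxx).trans
    ((cen_le_cen_sup hxC).trans inf_le_right)

theorem upper_sup {Q : Subgroup P} (hB : B ∈ Cfsg.kUpperStarFamily Q)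
    (hxC : x ∈ centralizer (B : Set P)) (hxR : ∀ r ∈ normalizer (B : Set P), ⁅x, r⁆ ∈ cen B) :
    B ⊔ zpowers x ∈ Cfsg.kUpperStarFamily Q :=
  ⟨classTwo_sup hB.1 hxC, (commutator_sup_le_cen hxC hB.2
    (fun a ha => hxR a (kUpper_le_normalizer hB ha))).trans (cen_le_cen_sup hxC)⟩

theorem lower_sup {Q : Subgroup P} (hB : B ∈ Cfsg.kLowerStarFamily Q)
    (hxC : x ∈ centralizer (B : Set P)) (hxR : ∀ r ∈ normalizer (B : Set P), ⁅x, r⁆ ∈ cen B) :
    B ⊔ zpowers x ∈ Cfsg.kLowerStarFamily Q := by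
  refine ⟨classTwo_sup hB.1 hxC, sup_zpowers_normalized hxC hB.2.1 hxR, fun A hA hAQ hN h1 h2 => ?_⟩
  have h1' : ⁅B, ⁅A, A⁆⁆ = ⊥ := le_bot_iff.mp ((commutator_mono le_sup_left le_rfl).trans h1.le)
  have h2' : ⁅⁅cen B, A⁆, A⁆ = ⊥ :=
    le_bot_iff.mp ((commutator_mono (commutator_mono (cen_le_cen_sup hxC) le_rfl) le_rfl).trans h2.le)
  have := hB.2.2 A hA hAQ (le_sup_left.trans hN) h1' h2'
  exact (commutator_sup_le_cen hxC this (fun a ha => hxR a (hB.2.1 (hAQ ha)))).trans (cen_le_cen_sup hxC)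

end Ext

theorem centralizer_le_of_max [Finite P] {p : ℕ} [Fact p.Prime] (hP : IsPGroup p P)
    (𝒦 : Set (Subgroup P))
    (h𝒦 : 𝒦 = Cfsg.classTwoSubgroups P ∨ (∃ Q, 𝒦 = Cfsg.kLowerStarFamily Q) ∨
      ∃ Q, 𝒦 = Cfsg.kUpperStarFamily Q)
    {B : Subgroup P} (hB : B ∈ 𝒦) (hmax : ∀ C ∈ 𝒦, B ≤ C → C = B) :
    centralizer (B : Set P) ≤ B := by
  by_contra hC
  obtain ⟨x, hxC, hxB, hxR⟩ := exists_extension hP hC
  have hmem : B ⊔ zpowers x ∈ 𝒦 := by
    rcases h𝒦 with rfl | ⟨Q, rfl⟩ | ⟨Q, rfl⟩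
    · exact classTwo_sup hB hxC
    · exact lower_sup hB hxC hxR
    · exact upper_sup hB hxC hxR
  exact hxB ((hmax _ hmem le_sup_left).le (mem_sup_right (mem_zpowers x)))

theorem centralizer_sSup_le [Finite P] {p : ℕ} [Fact p.Prime] (hP : IsPGroup p P)
    (𝒦 : Set (Subgroup P))
    (h𝒦 : 𝒦 = Cfsg.classTwoSubgroups P ∨ (∃ Q, 𝒦 = Cfsg.kLowerStarFamily Q) ∨
      ∃ Q, 𝒦 = Cfsg.kUpperStarFamily Q) (hne : 𝒦.Nonempty) :
    centralizer ((sSup 𝒦 : Subgroup P) : Set P) ≤ sSup 𝒦 := by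
  obtain ⟨B, hB⟩ := Set.Finite.exists_maximal (Set.toFinite 𝒦) hne
  have := centralizer_le_of_max hP 𝒦 h𝒦 hB.prop (fun C hC hle => le_antisymm (hB.le_of_ge hC hle) hle)
  exact (centralizer_le (le_sSup hB.prop : B ≤ sSup 𝒦)).trans (this.trans (le_sSup hB.prop))

theorem centralizer_kInf (P : Type u) [Group P] [Finite P] {p : ℕ} [Fact p.Prime] (hP : IsPGroup p P) :
    centralizer (Cfsg.kInfLower P : Set P) ≤ Cfsg.kInfLower P ∧
      centralizer (Cfsg.kInfUpper P : Set P) ≤ Cfsg.kInfUpper P := by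
  obtain ⟨n, hn⟩ := exists_stable P
  constructor
  · rw [← (hn n le_rfl).1, kSeqEven_def]
    exact centralizer_sSup_le hP _ (Or.inr (Or.inl ⟨_, rfl⟩)) ⟨⊥, bot_mem_lower _⟩
  · rw [← (hn (n + 1) (Nat.le_succ n)).2, kSeqOdd_succ]
    exact centralizer_sSup_le hP _ (Or.inr (Or.inr ⟨_, rfl⟩)) ⟨⊥, bot_mem_upper _⟩

/-! ### Comparison with a subgroup containing all terms -/

section Sub

variable {Q : Subgroup P}

theorem map_centralizer_subtype (B : Subgroup Q) :
    (centralizer (B : Set Q)).map Q.subtype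
      = Q ⊓ centralizer ((B.map Q.subtype : Subgroup P) : Set P) := by
  ext x
  simp only [mem_map, mem_inf, mem_centralizer_iff, coe_map, Set.forall_mem_image, SetLike.mem_coe,
    Subgroup.coe_subtype]
  constructor
  · rintro ⟨y, hy, rfl⟩
    exact ⟨y.2, fun b hb => congrArg Subtype.val (hy b hb)⟩
  · rintro ⟨hxQ, h⟩
    exact ⟨⟨x, hxQ⟩, fun b hb => Subtype.ext (h hb), rfl⟩

theorem map_cen_subtype (B : Subgroup Q) : (cen B).map Q.subtype = cen (B.map Q.subtype) := by
  rw [cen, cen, map_inf _ _ _ Q.subtype_injective, map_centralizer_subtype, ← inf_assoc,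
    inf_eq_left.mpr (map_subtype_le B)]

theorem le_normalizer_subtype {X B : Subgroup Q} :
    X ≤ normalizer (B : Set Q) ↔
      X.map Q.subtype ≤ normalizer ((B.map Q.subtype : Subgroup P) : Set P) := by
  rw [le_normalizer_iff_commutator_le_right, le_normalizer_iff_commutator_le_right,
    ← map_commutator, map_le_map_iff_of_injective Q.subtype_injective]

theorem classTwo_subtype {B : Subgroup Q} :
    B ∈ Cfsg.classTwoSubgroups Q ↔ B.map Q.subtype ∈ Cfsg.classTwoSubgroups P := by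
  rw [mem_classTwo, mem_classTwo, ← commutator_eq_bot_iff_le_centralizer,
    ← commutator_eq_bot_iff_le_centralizer, ← map_commutator, ← map_commutator,
    map_eq_bot_iff_of_injective _ Q.subtype_injective]

theorem upper_subtype {B U : Subgroup Q} :
    B ∈ Cfsg.kUpperStarFamily U ↔ B.map Q.subtype ∈ Cfsg.kUpperStarFamily (U.map Q.subtype) := by
  show (_ ∧ ⁅B, U⁆ ≤ cen B) ↔ (_ ∧ _ ≤ cen _)
  rw [classTwo_subtype, ← map_commutator, ← map_cen_subtype,
    map_le_map_iff_of_injective Q.subtype_injective]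

theorem lower_subtype {B U : Subgroup Q} :
    B ∈ Cfsg.kLowerStarFamily U ↔ B.map Q.subtype ∈ Cfsg.kLowerStarFamily (U.map Q.subtype) := by
  constructor
  · rintro ⟨h1, h2, h3⟩
    refine ⟨classTwo_subtype.mp h1, le_normalizer_subtype.mp h2, fun A hA hAU hN hb hc => ?_⟩
    obtain ⟨A, rfl⟩ : ∃ A' : Subgroup Q, A'.map Q.subtype = A :=
      ⟨A.subgroupOf Q, map_subgroupOf_eq_of_le (hAU.trans (map_subtype_le U))⟩
    have hb' : ⁅B, ⁅A, A⁆⁆ = ⊥ := map_injective Q.subtype_injective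
      (by rw [map_commutator, map_commutator, hb, Subgroup.map_bot])
    have hc' : ⁅⁅cen B, A⁆, A⁆ = ⊥ := map_injective Q.subtype_injective
      (by rw [map_commutator, map_commutator, map_cen_subtype, hc, Subgroup.map_bot])
    have := h3 A (classTwo_subtype.mpr hA) ((map_le_map_iff_of_injective Q.subtype_injective).mp hAU)
      (le_normalizer_subtype.mpr hN) hb' hc'
    rw [← map_commutator]
    exact (map_mono this).trans (map_cen_subtype B).le
  · rintro ⟨h1, h2, h3⟩
    refine ⟨classTwo_subtype.mpr h1, le_normalizer_subtype.mpr h2, fun A hA hAU hN hb hc => ?_⟩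
    have hb' : ⁅B.map Q.subtype, ⁅A.map Q.subtype, A.map Q.subtype⁆⁆ = ⊥ := by
      rw [← map_commutator, ← map_commutator, hb, Subgroup.map_bot]
    have hc' : ⁅⁅cen (B.map Q.subtype), A.map Q.subtype⁆, A.map Q.subtype⁆ = ⊥ := by
      rw [← map_cen_subtype, ← map_commutator, ← map_commutator, hc, Subgroup.map_bot]
    have := h3 _ (classTwo_subtype.mp hA) (map_mono hAU) (le_normalizer_subtype.mp hN) hb' hc'
    change _ ≤ cen (B.map Q.subtype) at this
    rwa [← map_commutator, ← map_cen_subtype, map_le_map_iff_of_injective Q.subtype_injective] at this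

theorem map_sSup_lower_le (U : Subgroup Q) :
    (sSup (Cfsg.kLowerStarFamily U)).map Q.subtype
      ≤ sSup (Cfsg.kLowerStarFamily (U.map Q.subtype)) := by
  rw [map_le_iff_le_comap]
  exact sSup_le fun B hB => map_le_iff_le_comap.mp (le_sSup (lower_subtype.mp hB))

theorem map_sSup_upper_le (U : Subgroup Q) :
    (sSup (Cfsg.kUpperStarFamily U)).map Q.subtype
      ≤ sSup (Cfsg.kUpperStarFamily (U.map Q.subtype)) := by
  rw [map_le_iff_le_comap]
  exact sSup_le fun B hB => map_le_iff_le_comap.mp (le_sSup (upper_subtype.mp hB))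

theorem sSup_lower_le_map {U : Subgroup Q} {V : Subgroup P} (hUV : U.map Q.subtype ≤ V)
    (hV : sSup (Cfsg.kLowerStarFamily V) ≤ Q) :
    sSup (Cfsg.kLowerStarFamily V) ≤ (sSup (Cfsg.kLowerStarFamily U)).map Q.subtype := by
  refine sSup_le fun B hB => ?_
  have hBQ : B ≤ Q := (le_sSup hB).trans hV
  rw [← map_subgroupOf_eq_of_le hBQ]
  refine map_mono (le_sSup (lower_subtype.mpr ?_))
  rw [map_subgroupOf_eq_of_le hBQ]
  exact kLower_anti hUV hB

theorem sSup_upper_le_map {U : Subgroup Q} {V : Subgroup P} (hUV : U.map Q.subtype ≤ V)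
    (hV : sSup (Cfsg.kUpperStarFamily V) ≤ Q) :
    sSup (Cfsg.kUpperStarFamily V) ≤ (sSup (Cfsg.kUpperStarFamily U)).map Q.subtype := by
  refine sSup_le fun B hB => ?_
  have hBQ : B ≤ Q := (le_sSup hB).trans hV
  rw [← map_subgroupOf_eq_of_le hBQ]
  refine map_mono (le_sSup (upper_subtype.mpr ?_))
  rw [map_subgroupOf_eq_of_le hBQ]
  exact kUpper_anti hUV hB

theorem seq_sandwich (hQ : ∀ n : ℕ, Cfsg.kSeqEven P n ≤ Q ∧ Cfsg.kSeqOdd P (n + 1) ≤ Q) (n : ℕ) :
    (Cfsg.kSeqOdd P (n + 1) ≤ (Cfsg.kSeqOdd Q n).map Q.subtype ∧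
      (Cfsg.kSeqOdd Q n).map Q.subtype ≤ Cfsg.kSeqOdd P n) ∧
    (Cfsg.kSeqEven P n ≤ (Cfsg.kSeqEven Q n).map Q.subtype ∧
      (Cfsg.kSeqEven Q n).map Q.subtype ≤ Cfsg.kSeqEven P (n + 1)) := by
  have step : ∀ m, (Cfsg.kSeqOdd P (m + 1) ≤ (Cfsg.kSeqOdd Q m).map Q.subtype ∧
      (Cfsg.kSeqOdd Q m).map Q.subtype ≤ Cfsg.kSeqOdd P m) →
      Cfsg.kSeqEven P m ≤ (Cfsg.kSeqEven Q m).map Q.subtype ∧
      (Cfsg.kSeqEven Q m).map Q.subtype ≤ Cfsg.kSeqEven P (m + 1) := fun m h =>
    ⟨sSup_lower_le_map h.2 (hQ m).1,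
      (map_sSup_lower_le _).trans (sSup_le_sSup (kLower_anti h.1))⟩
  induction n with
  | zero =>
    have h0 : Cfsg.kSeqOdd P 1 ≤ (Cfsg.kSeqOdd Q 0).map Q.subtype ∧
        (Cfsg.kSeqOdd Q 0).map Q.subtype ≤ Cfsg.kSeqOdd P 0 := by
      refine ⟨?_, le_top⟩
      rw [kSeqOdd_zero, ← MonoidHom.range_eq_map, range_subtype]; exact (hQ 0).2
    exact ⟨h0, step 0 h0⟩
  | succ n ih =>
    have h : Cfsg.kSeqOdd P (n + 1 + 1) ≤ (Cfsg.kSeqOdd Q (n + 1)).map Q.subtype ∧
        (Cfsg.kSeqOdd Q (n + 1)).map Q.subtype ≤ Cfsg.kSeqOdd P (n + 1) :=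
      ⟨sSup_upper_le_map ih.2.2 (hQ (n + 1)).2,
        (map_sSup_upper_le _).trans (sSup_le_sSup (kUpper_anti ih.2.1))⟩
    exact ⟨h, step _ h⟩

theorem map_kInf_of_le {P : Type u} [Group P] {Q : Subgroup P}
    (hQ : ∀ n : ℕ, Cfsg.kSeqEven P n ≤ Q ∧ Cfsg.kSeqOdd P (n + 1) ≤ Q) :
    (Cfsg.kInfLower Q).map Q.subtype = Cfsg.kInfLower P ∧
      (Cfsg.kInfUpper Q).map Q.subtype = Cfsg.kInfUpper P := by
  constructor
  · simp only [Cfsg.kInfLower, Subgroup.map_iSup]
    exact le_antisymm (iSup_le fun n => (seq_sandwich hQ n).2.2.trans (le_iSup _ (n + 1)))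
      (iSup_mono fun n => (seq_sandwich hQ n).2.1)
  · simp only [Cfsg.kInfUpper, Subgroup.map_iInf _ Q.subtype_injective]
    refine le_antisymm (le_iInf fun n => (iInf_le _ n).trans (seq_sandwich hQ n).1.2) ?_
    exact le_iInf fun n => (iInf_le _ (n + 1)).trans (seq_sandwich hQ n).1.1

end Sub

/-! ### The witness outside a normal subgroup -/

/-- `B` acts quadratically on `A` modulo the centre and on the centre of `A`. -/
def Quad (A B : Subgroup P) : Prop :=
  ⁅⁅A, B⁆, B⁆ ≤ cen A ∧ ⁅⁅cen A, B⁆, B⁆ = ⊥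

/-- `B` has class at most two, is normalised by `A`, and every suitable subgroup of `A` moves it into
its centre. -/
def Lower (A B : Subgroup P) : Prop :=
  A ≤ normalizer (B : Set P) ∧ B ∈ Cfsg.classTwoSubgroups P ∧
    ∀ Y ≤ A, B ≤ normalizer (Y : Set P) → ⁅B, ⁅Y, Y⁆⁆ = ⊥ → ⁅B, Y⁆ ≤ cen B

theorem cubic_of_witness {A B : Subgroup P} [A.Normal] (h : Quad A B ∨ Lower A B) :
    ⁅⁅⁅A, B⁆, B⁆, B⁆ ≤ cen A ∧ ⁅⁅cen A, B⁆, B⁆ = ⊥ := by
  haveI hcn : (cen A).Normal := by
    rw [← normalizer_eq_top_iff, eq_top_iff]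
    exact le_trans (normalizer_eq_top A).ge (normalizer_le_normalizer_cen A)
  rcases h with ⟨h1, h2⟩ | ⟨hN, hB, hY⟩
  · exact ⟨(commutator_mono h1 le_rfl).trans (commutator_le_left _ _), h2⟩
  · have h1 : ⁅A, B⁆ ≤ B := le_normalizer_iff_commutator_le_right.mp hN
    constructor
    · have : ⁅⁅⁅A, B⁆, B⁆, B⁆ ≤ ⁅⁅B, B⁆, B⁆ :=
        commutator_mono (commutator_mono h1 le_rfl) le_rfl
      rw [classTwo_triple hB] at this
      exact this.trans bot_le
    · have h3 : ⁅B, cen A⁆ ≤ cen B := by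
        refine hY _ (cen_le A) (by rw [normalizer_eq_top]; exact le_top) ?_
        have : ⁅cen A, cen A⁆ = ⊥ := le_bot_iff.mp
          ((commutator_mono le_rfl (cen_le A)).trans (commutator_cen A).le)
        rw [this, commutator_bot_right]
      refine le_bot_iff.mp ?_
      rw [commutator_comm (cen A) B]
      exact (commutator_mono h3 le_rfl).trans (commutator_cen B).le

theorem exists_witness {T A : Subgroup P} [hT : T.Normal] [hA : A.Normal] (hAT : A ≤ T)
    (hA2 : A ∈ Cfsg.classTwoSubgroups P) (hTA : ⁅T, A⁆ ≤ cen A) :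
    (∀ n : ℕ, Cfsg.kSeqEven P n ≤ T ∧ Cfsg.kSeqOdd P (n + 1) ≤ T) ∨
      ∃ B : Subgroup P, ¬ B ≤ T ∧ (Quad A B ∨ Lower A B) := by
  by_contra hcon
  push Not at hcon
  obtain ⟨⟨n₀, hn₀⟩, hno⟩ := hcon
  -- `A` lies in every lower family
  have hlow : ∀ n, A ≤ Cfsg.kSeqEven P n := by
    intro n
    refine le_sSup ⟨hA2, by rw [normalizer_eq_top]; exact le_top, fun X hX hXQ hN h1 h2 => ?_⟩
    by_contra hbad
    have hXT : ¬ X ≤ T := fun h => hbad
      ((commutator_mono le_rfl h).trans ((commutator_comm A T).le.trans hTA))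
    refine (hno X hXT).1 ⟨?_, h2⟩
    have hAX : ⁅A, X⁆ ≤ X := le_normalizer_iff_commutator_le_right.mp hN
    refine le_inf ((commutator_mono (commutator_le_left A X) le_rfl).trans (commutator_le_left A X)) ?_
    refine (commutator_mono hAX le_rfl).trans ?_
    rw [← commutator_eq_bot_iff_le_centralizer, commutator_comm]
    exact h1
  have hup : ∀ n, Cfsg.kSeqEven P n ≤ T → A ≤ Cfsg.kSeqOdd P (n + 1) := fun n hn =>
    le_sSup ⟨hA2, (commutator_mono le_rfl hn).trans ((commutator_comm A T).le.trans hTA)⟩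
  have heven : ∀ n, A ≤ Cfsg.kSeqOdd P n → Cfsg.kSeqEven P n ≤ T := by
    intro n hAn
    refine sSup_le fun B hB => ?_
    by_contra hBT
    have hAN : A ≤ normalizer (B : Set P) := hAn.trans hB.2.1
    by_cases hZ : cen B ≤ T
    · refine (hno B hBT).2 ⟨hAN, hB.1, fun Y hY hN h1 => ?_⟩
      refine hB.2.2 Y (classTwo_mono hA2 hY) (hY.trans hAn) hN h1 (le_bot_iff.mp ?_)
      calc ⁅⁅cen B, Y⁆, Y⁆ ≤ ⁅⁅T, A⁆, A⁆ := commutator_mono (commutator_mono hZ hY) hY
        _ ≤ ⁅cen A, A⁆ := commutator_mono hTA le_rfl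
        _ = ⊥ := commutator_cen A
    · have hAB : ⁅A, cen B⁆ ≤ B := (commutator_mono le_rfl (cen_le B)).trans
        (le_normalizer_iff_commutator_le_right.mp hAN)
      have h0 : ⁅⁅A, cen B⁆, cen B⁆ = ⊥ := le_bot_iff.mp
        ((commutator_mono hAB le_rfl).trans ((commutator_comm _ _).le.trans (commutator_cen B).le))
      refine (hno _ hZ).1 ⟨h0.le.trans bot_le, le_bot_iff.mp ?_⟩
      exact (commutator_mono (commutator_mono (cen_le A) le_rfl) le_rfl).trans h0.le
  have hodd : ∀ n, Cfsg.kSeqEven P n ≤ T → Cfsg.kSeqOdd P (n + 1) ≤ T := by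
    intro n hn
    refine sSup_le fun B hB => ?_
    by_contra hBT
    have hBA : ⁅A, B⁆ ≤ cen B :=
      (commutator_comm A B).le.trans ((commutator_mono le_rfl (hlow n)).trans hB.2)
    have h0 : ⁅⁅A, B⁆, B⁆ = ⊥ :=
      le_bot_iff.mp ((commutator_mono hBA le_rfl).trans (commutator_cen B).le)
    exact (hno B hBT).1 ⟨h0.le.trans bot_le,
      le_bot_iff.mp ((commutator_mono (commutator_mono (cen_le A) le_rfl) le_rfl).trans h0.le)⟩
  have hall : ∀ n, Cfsg.kSeqEven P n ≤ T := by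
    intro n
    induction n with
    | zero => exact heven 0 le_top
    | succ n ih => exact heven _ (hup n ih)
  exact absurd (hodd n₀ (hall n₀)) (hn₀ (hall n₀))

end Cfsg.Agent.ConjFunctorKInf
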