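import Mathlib
import Cfsg.Prelude.Def_ConjugacyFunctors
import Cfsg.Prelude.Def_LocalEven
import Cfsg.Prelude.Def_PLocal
import Cfsg.Agent.Lib.HallCore
import Cfsg.Agent.Lib.CharPBasic
import Cfsg.Agent.Lib.PGroupsBasic
import Cfsg.Agent.Lib.PGroupsCritical
import Cfsg.Agent.Lib.ConjFunctorBasic
import Cfsg.Agent.Lib.ConjFunctorMaster
import Cfsg.Agent.Lib.ConjFunctorEngel
import Cfsg.Agent.Lib.ConjFunctorKInf

/-!
The element produced when a K-infinity subgroup of a Sylow subgroup is not normal: cubic action on a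
class two normal subgroup of `O_p`, quadratic action on some chief factor, and an Engel condition of
length four on all chief factors below `O_p`.
-/

set_option autoImplicit false
set_option linter.unusedSectionVars false

open scoped commutatorElement Pointwise
open Subgroup Cfsg.Agent.ConjFunctorBasic Cfsg.Agent.ConjFunctorKInf Cfsg.Agent.HallCore

namespace Cfsg.Agent.ConjFunctorKWitness

universe u

variable {G : Type u} [Group G]

/-! ### Commutators modulo normal subgroups -/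

theorem map_mk'_sup {V : Subgroup G} [V.Normal] (X : Subgroup G) :
    (X ⊔ V).map (QuotientGroup.mk' V) = X.map (QuotientGroup.mk' V) := by
  rw [Subgroup.map_sup, QuotientGroup.map_mk'_self, sup_bot_eq]

theorem map_mk'_le_bot_iff {V : Subgroup G} [V.Normal] (X : Subgroup G) :
    X.map (QuotientGroup.mk' V) = ⊥ ↔ X ≤ V := by
  rw [Subgroup.map_eq_bot_iff, QuotientGroup.ker_mk']

theorem iter_map {H : Type*} [Group H] (f : G →* H) (U C : Subgroup G) (i : ℕ) :
    (Cfsg.iterCommutator U C i).map f = Cfsg.iterCommutator (U.map f) (C.map f) i := by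
  induction i with
  | zero => rfl
  | succ i ih => exact (map_commutator _ _ f).trans (by rw [ih]; rfl)

theorem iter_sup_le {V : Subgroup G} [V.Normal] {X C : Subgroup G} {i : ℕ}
    (h : Cfsg.iterCommutator X C i ≤ V) : Cfsg.iterCommutator (X ⊔ V) C i ≤ V := by
  rw [← map_mk'_le_bot_iff, iter_map, map_mk'_sup, ← iter_map, map_mk'_le_bot_iff]
  exact h

theorem iter_two (U C : Subgroup G) : Cfsg.iterCommutator U C 2 = ⁅⁅U, C⁆, C⁆ := rfl

theorem iter_three (U C : Subgroup G) : Cfsg.iterCommutator U C 3 = ⁅⁅⁅U, C⁆, C⁆, C⁆ := rfl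

theorem iter_mono {U U' C C' : Subgroup G} (hU : U ≤ U') (hC : C ≤ C') :
    ∀ i, Cfsg.iterCommutator U C i ≤ Cfsg.iterCommutator U' C' i := by
  intro i
  induction i with
  | zero => exact hU
  | succ i ih => exact commutator_mono ih hC

theorem iter_le_self {U C : Subgroup G} (h : C ≤ normalizer (U : Set G)) :
    ∀ i, Cfsg.iterCommutator U C i ≤ U := by
  intro i
  induction i with
  | zero => exact le_rfl
  | succ i ih =>
    exact (commutator_mono ih le_rfl).trans (le_normalizer_iff_commutator_le_left.mp h)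

theorem iter_anti {U C : Subgroup G} (h : C ≤ normalizer (U : Set G)) (i j : ℕ) :
    Cfsg.iterCommutator U C (i + j) ≤ Cfsg.iterCommutator U C i := by
  induction i with
  | zero => rw [Nat.zero_add]; exact iter_le_self h j
  | succ i ih =>
    rw [Nat.add_right_comm]
    exact commutator_mono ih le_rfl

/-- In an abelian subgroup normalised by `Y`, commutators with `Y` are additive. -/
theorem commutator_sup_le_sup {U X W Y : Subgroup G} (hU : ∀ a ∈ U, ∀ b ∈ U, a * b = b * a)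
    (hX : X ≤ U) (hW : W ≤ U) (hY : Y ≤ normalizer (U : Set G)) :
    ⁅X ⊔ W, Y⁆ ≤ ⁅X, Y⁆ ⊔ ⁅W, Y⁆ := by
  set S := ⁅X, Y⁆ ⊔ ⁅W, Y⁆
  let K : Subgroup G :=
    { carrier := {u | u ∈ U ∧ ∀ y ∈ Y, ⁅u, y⁆ ∈ S}
      one_mem' := ⟨one_mem _, fun y _ => by simp⟩
      mul_mem' := fun {a b} ha hb => ⟨mul_mem ha.1 hb.1, fun y hy => by
        have hc : ⁅b, y⁆ ∈ U :=
          le_normalizer_iff_commutator_le_left.mp hY (commutator_mem_commutator hb.1 hy)
        have e : ⁅a * b, y⁆ = a * ⁅b, y⁆ * a⁻¹ * ⁅a, y⁆ := by simp [commutatorElement_def, mul_assoc]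
        rw [e, hU a ha.1 _ hc, mul_inv_cancel_right]
        exact mul_mem (hb.2 y hy) (ha.2 y hy)⟩
      inv_mem' := fun {a} ha => ⟨inv_mem ha.1, fun y hy => by
        have hc : ⁅a, y⁆⁻¹ ∈ U :=
          inv_mem (le_normalizer_iff_commutator_le_left.mp hY (commutator_mem_commutator ha.1 hy))
        have e : ⁅a⁻¹, y⁆ = a⁻¹ * ⁅a, y⁆⁻¹ * a := by simp [commutatorElement_def, mul_assoc]
        rw [e, hU _ (inv_mem ha.1) _ hc, inv_mul_cancel_right]
        exact inv_mem (ha.2 y hy)⟩ }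
  have hle : X ⊔ W ≤ K := sup_le
    (fun x hx => ⟨hX hx, fun y hy => mem_sup_left (commutator_mem_commutator hx hy)⟩)
    (fun x hx => ⟨hW hx, fun y hy => mem_sup_right (commutator_mem_commutator hx hy)⟩)
  exact commutator_le.mpr fun u hu y hy => (hle hu).2 y hy

/-- The three subgroup lemma modulo a subgroup normalised by all of them. -/
theorem three_mod {H W X Y Z : Subgroup G} (hW : W ≤ H) (hn : H ≤ normalizer (W : Set G))
    (hX : X ≤ H) (hY : Y ≤ H) (hZ : Z ≤ H) (h1 : ⁅⁅Y, Z⁆, X⁆ ≤ W) (h2 : ⁅⁅Z, X⁆, Y⁆ ≤ W) :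
    ⁅⁅X, Y⁆, Z⁆ ≤ W := by
  haveI : (W.subgroupOf H).Normal := normal_subgroupOf_of_le_normalizer hn
  set π := QuotientGroup.mk' (W.subgroupOf H)
  have key : ∀ A B C : Subgroup G, A ≤ H → B ≤ H → C ≤ H →
      (⁅⁅A, B⁆, C⁆ ≤ W ↔
        ⁅⁅(A.subgroupOf H).map π, (B.subgroupOf H).map π⁆, (C.subgroupOf H).map π⁆ = ⊥) := by
    intro A B C hA hB hC
    rw [← map_commutator, ← map_commutator, map_mk'_le_bot_iff,
      ← map_le_map_iff_of_injective H.subtype_injective, map_commutator, map_commutator,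
      map_subgroupOf_eq_of_le hA, map_subgroupOf_eq_of_le hB, map_subgroupOf_eq_of_le hC,
      map_subgroupOf_eq_of_le hW]
  rw [key X Y Z hX hY hZ]
  exact commutator_commutator_eq_bot_of_rotate ((key Y Z X hY hZ hX).mp h1)
    ((key Z X Y hZ hX hY).mp h2)

theorem le_normalizer_sup' [Finite G] {H A B : Subgroup G} (hA : H ≤ normalizer (A : Set G))
    (hB : H ≤ normalizer (B : Set G)) : H ≤ normalizer ((A ⊔ B : Subgroup G) : Set G) :=
  fun h hh => mem_normalizer_iff_cmap.mpr (by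
    rw [cmap, Subgroup.map_sup]
    exact congrArg₂ (· ⊔ ·) (mem_normalizer_iff_cmap.mp (hA hh)) (mem_normalizer_iff_cmap.mp (hB hh)))

theorem le_normalizer_inf' [Finite G] {H A B : Subgroup G} (hA : H ≤ normalizer (A : Set G))
    (hB : H ≤ normalizer (B : Set G)) : H ≤ normalizer ((A ⊓ B : Subgroup G) : Set G) :=
  fun h hh => mem_normalizer_iff_cmap.mpr (by
    rw [cmap_inf, mem_normalizer_iff_cmap.mp (hA hh), mem_normalizer_iff_cmap.mp (hB hh)])

theorem le_normalizer_of_normal (H N : Subgroup G) [N.Normal] : H ≤ normalizer (N : Set G) := by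
  rw [normalizer_eq_top]; exact le_top

/-! ### Chief factors -/

variable [Finite G] {p : ℕ} [Fact p.Prime]

/-- A normal `p`-subgroup acts trivially on every chief factor below it. -/
theorem commutator_chief_le {T U V : Subgroup G} [T.Normal] (hT : IsPGroup p T)
    (hUV : Cfsg.IsChiefFactor U V) (hUT : U ≤ T) : ⁅U, T⁆ ≤ V := by
  obtain ⟨hlt, hUn, hVn, hmin⟩ := hUV
  haveI := hUn; haveI := hVn
  set π := QuotientGroup.mk' V
  rw [← map_mk'_le_bot_iff, map_commutator]
  set U' := U.map π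
  set T' := T.map π
  haveI : U'.Normal := Normal.map hUn π (QuotientGroup.mk'_surjective V)
  haveI : T'.Normal := Normal.map inferInstance π (QuotientGroup.mk'_surjective V)
  have hU'T : U' ≤ T' := Subgroup.map_mono hUT
  have hne : U'.subgroupOf T' ≠ ⊥ := by
    rw [Ne, subgroupOf_eq_bot, disjoint_iff, inf_eq_left.mpr hU'T, map_mk'_le_bot_iff]
    exact hlt.not_ge
  have hz := PGroupsBasic.inf_center_ne_bot (hT.map π) hne
  set Z := U' ⊓ centralizer (T' : Set (G ⧸ V))
  have hZne : Z ≠ ⊥ := by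
    intro e
    refine hz ((eq_bot_iff_forall _).mpr fun x hx => Subtype.ext ?_)
    have hm : (x : G ⧸ V) ∈ Z := ⟨hx.1, mem_centralizer_iff.mpr fun y hy =>
      congrArg Subtype.val (mem_center_iff.mp hx.2 ⟨y, hy⟩)⟩
    rw [e, mem_bot] at hm
    exact hm
  haveI : Z.Normal := inferInstanceAs (U' ⊓ centralizer (T' : Set (G ⧸ V))).Normal
  rw [commutator_eq_bot_iff_le_centralizer]
  have hcm : (Z.comap π) ⊓ U ≤ U := inf_le_right
  rcases hmin ((Z.comap π) ⊓ U) inferInstance
    (le_inf (QuotientGroup.le_comap_mk' V Z) hlt.le) hcm with h | h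
  · refine absurd ((eq_bot_iff_forall _).mpr fun z hz' => ?_) hZne
    obtain ⟨u, hu, rfl⟩ := hz'.1
    exact (QuotientGroup.eq_one_iff u).mpr (h ▸ mem_inf.mpr ⟨hz', hu⟩)
  · rintro _ ⟨u, hu, rfl⟩
    exact ((h.symm ▸ hu : u ∈ Z.comap π ⊓ U).1).2

/-- The elements acting trivially on all chief factors below `W`. -/
def triv (W : Subgroup G) : Subgroup G where
  carrier := {x | ∀ U V : Subgroup G, Cfsg.IsChiefFactor U V → U ≤ W → ∀ u ∈ U, ⁅x, u⁆ ∈ V}
  one_mem' := fun U V _ _ u _ => by simp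
  mul_mem' := fun {a b} ha hb U V hc hW u hu => by
    haveI := hc.2.2.1
    have e : ⁅a * b, u⁆ = a * ⁅b, u⁆ * a⁻¹ * ⁅a, u⁆ := by simp [commutatorElement_def, mul_assoc]
    rw [e]
    exact mul_mem (Normal.conj_mem inferInstance _ (hb U V hc hW u hu) a) (ha U V hc hW u hu)
  inv_mem' := fun {a} ha U V hc hW u hu => by
    haveI := hc.2.2.1
    have e : ⁅a⁻¹, u⁆ = a⁻¹ * ⁅a, u⁆⁻¹ * a⁻¹⁻¹ := by simp [commutatorElement_def, mul_assoc]
    rw [e]
    exact Normal.conj_mem inferInstance _ (inv_mem (ha U V hc hW u hu)) a⁻¹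

theorem mem_triv {W : Subgroup G} {x : G} : x ∈ triv W ↔
    ∀ U V : Subgroup G, Cfsg.IsChiefFactor U V → U ≤ W → ∀ u ∈ U, ⁅x, u⁆ ∈ V := Iff.rfl

instance triv_normal (W : Subgroup G) : (triv W).Normal := by
  refine ⟨fun x hx g U V hc hW u hu => ?_⟩
  haveI := hc.2.1; haveI := hc.2.2.1
  have e : ⁅g * x * g⁻¹, u⁆ = g * ⁅x, g⁻¹ * u * g⁻¹⁻¹⁆ * g⁻¹ := by
    simp [commutatorElement_def, mul_assoc]
  rw [e]
  exact Normal.conj_mem inferInstance _ (hx U V hc hW _ (Normal.conj_mem inferInstance u hu g⁻¹)) g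

theorem mem_centralizer_of_triv {W : Subgroup G} [W.Normal] (hW : IsPGroup p W) {x : G}
    (hx : x ∈ triv W) (hc : (orderOf x).Coprime p) : x ∈ centralizer (W : Set G) := by
  suffices ∀ n : ℕ, ∀ U : Subgroup G, U.Normal → Nat.card U ≤ n → U ≤ W →
      x ∈ centralizer (U : Set G) from this _ W inferInstance le_rfl le_rfl
  intro n
  induction n with
  | zero => intro U _ h; exact absurd h Nat.card_pos.not_ge
  | succ n ih =>
    intro U hUn hcard hUW
    haveI := hUn
    by_cases hU1 : U = ⊥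
    · exact mem_centralizer_iff.mpr fun u hu => by simp [mem_bot.mp (hU1 ▸ hu : u ∈ (⊥ : Subgroup G))]
    obtain ⟨V, hVn, hchief, -, -⟩ := ConjFunctorEngel.exists_chief_below (isPGroup_mono hW hUW) hU1
    have hlt : Nat.card V < Nat.card U := lt_of_le_of_ne (Subgroup.card_le_of_le hchief.1.le)
      fun h => hchief.1.ne (eq_of_le_of_card_ge hchief.1.le h.ge)
    refine ConjFunctorMaster.mem_centralizer_of_chain (isPGroup_mono hW hUW) hchief.1.le hc
      (ih V hVn (by omega) (hchief.1.le.trans hUW)) fun u hu => ?_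
    exact hx U V hchief hUW u hu

/-- An element outside `O_p` moves a chief factor below a subgroup of `O_p` which detects
`p'`-automorphisms, in a constrained group. -/
theorem not_mem_triv {A : Subgroup G} [A.Normal] (hAT : A ≤ Cfsg.pCore p G)
    (hA5 : ∀ φ : MulAut ↥(Cfsg.pCore p G), (orderOf φ).Coprime p →
      (∀ a : ↥(Cfsg.pCore p G), (a : G) ∈ A → φ a = a) → φ = 1)
    (hc : centralizer ((Cfsg.pCore p G : Subgroup G) : Set G) ≤ Cfsg.pCore p G) :
    triv A ≤ Cfsg.pCore p G := by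
  haveI : (Cfsg.pCore p G).Normal := pCore_normal p G
  refine le_pCore (CharPBasic.isPGroup_of_coprime_eq_one fun x hx hxc => ?_)
  have hxA := mem_centralizer_of_triv (isPGroup_mono (isPGroup_pCore p G) hAT) hx hxc
  have h := hA5 (MulAut.conjNormal x) (hxc.coprime_dvd_left (orderOf_map_dvd _ x)) fun a ha =>
    Subtype.ext (by
      rw [MulAut.conjNormal_apply, ← mem_centralizer_iff.mp hxA a ha, mul_inv_cancel_right])
  have hxT : x ∈ centralizer ((Cfsg.pCore p G : Subgroup G) : Set G) := by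
    refine mem_centralizer_iff.mpr fun t ht => ?_
    have h1 := congrArg Subtype.val (DFunLike.congr_fun h (⟨t, ht⟩ : ↥(Cfsg.pCore p G)))
    rw [MulAut.conjNormal_apply] at h1
    simp only [MulAut.one_apply] at h1
    calc t * x = x * t * x⁻¹ * x := by rw [h1]
      _ = x * t := by group
  exact CharPBasic.eq_one_of_coprime_of_mem (isPGroup_pCore p G) (hc hxT) hxc

/-! ### Complete reducibility of a chief factor over subnormal subgroups -/

/-- Every `H`-invariant subgroup between `V` and `U` has an `H`-invariant complement. -/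
def Semi (V U H : Subgroup G) : Prop :=
  ∀ X : Subgroup G, V ≤ X → X ≤ U → H ≤ normalizer (X : Set G) →
    ∃ W, V ≤ W ∧ W ≤ U ∧ H ≤ normalizer (W : Set G) ∧ X ⊔ W = U ∧ X ⊓ W = V

theorem semi_top {U V : Subgroup G} (h : Cfsg.IsChiefFactor U V) : Semi V U ⊤ := by
  intro X hVX hXU hX
  haveI := h.2.1; haveI := h.2.2.1
  haveI : X.Normal := normalizer_eq_top_iff.mp (top_le_iff.mp hX)
  rcases h.2.2.2 X inferInstance hVX hXU with rfl | rfl
  · exact ⟨U, h.1.le, le_rfl, le_normalizer_of_normal _ U, sup_eq_right.mpr h.1.le,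
      inf_eq_left.mpr h.1.le⟩
  · exact ⟨V, le_rfl, h.1.le, le_normalizer_of_normal _ V, sup_eq_left.mpr h.1.le,
      inf_eq_right.mpr h.1.le⟩

theorem semi_of_normal {U V N K : Subgroup G} [U.Normal] [V.Normal] (hVU : V ≤ U)
    (hab : ∀ a ∈ U, ∀ b ∈ U, ⁅a, b⁆ ∈ V) (hK : Semi V U K) (hNK : N ≤ K)
    (hKN : K ≤ normalizer (N : Set G)) : Semi V U N := by
  set ℳ : Set (Subgroup G) := {M | V < M ∧ M ≤ U ∧ N ≤ normalizer (M : Set G)} with hℳ
  have hmin : ∀ Y : Subgroup G, V < Y → Y ≤ U → N ≤ normalizer (Y : Set G) →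
      ∃ M, M ≤ Y ∧ Minimal (· ∈ ℳ) M := fun Y h1 h2 h3 =>
    Set.Finite.exists_le_minimal (Set.toFinite ℳ) ⟨h1, h2, h3⟩
  set Soc := V ⊔ sSup {M | Minimal (· ∈ ℳ) M} with hSoc
  have hSocU : Soc ≤ U := sup_le hVU (sSup_le fun M hM => hM.prop.2.1)
  have hfixV : ∀ k : G, cmap k V = V := fun k =>
    mem_normalizer_iff_cmap.mp (le_normalizer_of_normal ⊤ V (mem_top k))
  have hfixU : ∀ k : G, cmap k U = U := fun k =>
    mem_normalizer_iff_cmap.mp (le_normalizer_of_normal ⊤ U (mem_top k))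
  have hmem : ∀ k ∈ K, ∀ M ∈ ℳ, cmap k M ∈ ℳ := by
    rintro k hk M ⟨h1, h2, h3⟩
    refine ⟨lt_of_le_of_ne (hfixV k ▸ cmap_mono k h1.le) fun e => h1.ne ?_,
      hfixU k ▸ cmap_mono k h2, ?_⟩
    · exact map_injective (f := (MulAut.conj k).toMonoidHom) (MulAut.conj k).injective
        ((hfixV k).trans e)
    · have := cmap_mono k h3
      rwa [mem_normalizer_iff_cmap.mp (hKN hk), cmap_normalizer] at this
  have hSocK : K ≤ normalizer (Soc : Set G) := by
    intro k hk
    refine mem_normalizer_of_cmap_le ?_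
    rw [cmap, hSoc, Subgroup.map_sup, (gc_map_comap _).l_sSup]
    refine sup_le ((hfixV k).le.trans le_sup_left) (iSup₂_le fun M hM => ?_)
    refine le_sup_of_le_right (le_sSup ⟨hmem k hk M hM.prop, fun M' hM' hle => ?_⟩)
    have h1 := hM.2 (hmem k⁻¹ (inv_mem hk) M' hM') (by
      have := cmap_mono k⁻¹ hle; rwa [cmap_inv_cmap] at this)
    have := cmap_mono k h1
    rwa [cmap_cmap_inv] at this
  have hSocTop : Soc = U := by
    obtain ⟨W, hVW, hWU, hKW, hsup, hinf⟩ := hK Soc le_sup_left hSocU hSocK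
    rcases eq_or_lt_of_le hVW with h | h
    · rw [← hsup, ← h]; exact (sup_eq_left.mpr le_sup_left).symm
    · obtain ⟨M, hMW, hM⟩ := hmin W h hWU (hNK.trans hKW)
      exact absurd (hinf ▸ le_inf ((le_sSup (show M ∈ {M | Minimal (· ∈ ℳ) M} from hM)).trans
        le_sup_right) hMW) hM.prop.1.not_ge
  intro X hVX hXU hNX
  set 𝒲 : Set (Subgroup G) := {W | V ≤ W ∧ W ≤ U ∧ N ≤ normalizer (W : Set G) ∧ X ⊓ W ≤ V}
  obtain ⟨W, hW⟩ := Set.Finite.exists_maximal (Set.toFinite 𝒲)
    ⟨V, le_rfl, hVU, le_normalizer_of_normal _ V, inf_le_right⟩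
  obtain ⟨hVW, hWU, hNW, hXW⟩ := hW.prop
  refine ⟨W, hVW, hWU, hNW, le_antisymm (sup_le hXU hWU) ?_, le_antisymm hXW (le_inf hVX hVW)⟩
  rw [← hSocTop]
  refine sup_le (hVX.trans le_sup_left) (sSup_le fun M hM => ?_)
  by_contra hMle
  have hMI : M ⊓ (X ⊔ W) ≤ V := by
    by_contra hne
    have h1 : M ⊓ (X ⊔ W) ∈ ℳ :=
      ⟨lt_of_le_not_ge (le_inf hM.prop.1.le (hVX.trans le_sup_left)) hne,
        inf_le_left.trans hM.prop.2.1, le_normalizer_inf' hM.prop.2.2 (le_normalizer_sup' hNX hNW)⟩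
    exact hMle ((hM.2 h1 inf_le_left).trans inf_le_right)
  have hMN : M ≤ normalizer (W : Set G) := le_normalizer_iff_commutator_le_right.mpr
    (commutator_le.mpr fun m hm w hw => hVW (hab m (hM.prop.2.1 hm) w (hWU hw)))
  have hnew : W ⊔ M ∈ 𝒲 := by
    refine ⟨hVW.trans le_sup_left, sup_le hWU hM.prop.2.1, le_normalizer_sup' hNW hM.prop.2.2, ?_⟩
    rintro x ⟨hxX, hx⟩
    have hx' : x ∈ (W : Set G) * (M : Set G) :=
      (coe_mul_of_right_le_normalizer_left W M hMN) ▸ hx
    obtain ⟨w, hw, m, hm, rfl⟩ := Set.mem_mul.mp hx'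
    have hm' : m ∈ V := hMI ⟨hm, by
      have := mul_mem (mem_sup_right (S := X) (inv_mem hw)) (mem_sup_left (T := W) hxX)
      rwa [inv_mul_cancel_left] at this⟩
    exact hXW ⟨hxX, mul_mem hw (hVW hm')⟩
  exact hMle ((le_sup_right.trans (hW.2 hnew le_sup_left)).trans le_sup_right)

theorem semi_between {U V L K : Subgroup G} (hUV : Cfsg.IsChiefFactor U V) [L.Normal] [K.Normal]
    (hab : ∀ a ∈ U, ∀ b ∈ U, ⁅a, b⁆ ∈ V) (hKL : IsPGroup p (K.map (QuotientGroup.mk' L)))
    (H : Subgroup G) (hLH : L ≤ H) (hHK : H ≤ K) : Semi V U H := by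
  haveI := hUV.2.1; haveI := hUV.2.2.1
  induction H using WellFoundedGT.induction with
  | _ H ih =>
    rcases eq_or_lt_of_le hHK with rfl | hlt
    · exact semi_of_normal hUV.1.le hab (semi_top hUV) le_top (le_normalizer_of_normal _ H)
    set π := QuotientGroup.mk' L
    have hcomap : (H.map π).comap π = H := by
      rw [comap_map_eq, QuotientGroup.ker_mk', sup_eq_left.mpr hLH]
    have hne : (H.map π).subgroupOf (K.map π) < ⊤ := by
      refine lt_top_iff_ne_top.mpr fun h => hlt.not_ge ?_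
      rw [← hcomap]
      exact map_le_iff_le_comap.mp (subgroupOf_eq_top.mp h)
    haveI : Group.IsNilpotent (K.map π) := hKL.isNilpotent
    obtain ⟨⟨y, hy⟩, hyN, hyH⟩ := SetLike.exists_of_lt
      (Group.normalizerCondition_of_isNilpotent (G := K.map π) _ hne)
    obtain ⟨k, hk, rfl⟩ := hy
    have hkN : k ∈ normalizer (H : Set G) := by
      refine mem_normalizer_of_cmap_le (cmap_le_iff.mpr fun x hx => ?_)
      rw [← hcomap, mem_comap, map_mul, map_mul, map_inv]
      exact (mem_normalizer_iff.mp hyN ⟨π x, mem_map_of_mem π (hHK hx)⟩).mp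
        (mem_map_of_mem π hx)
    have hlt' : H < K ⊓ normalizer (H : Set G) :=
      lt_of_le_of_ne (le_inf hHK le_normalizer) fun e => hyH (mem_subgroupOf.mpr
        (mem_map_of_mem π (e ▸ mem_inf.mpr ⟨hk, hkN⟩)))
    exact semi_of_normal hUV.1.le hab (ih _ hlt' (hLH.trans hlt'.le) inf_le_left) hlt'.le inf_le_right

/-! ### The lower alternative -/

section Lower

variable {A B : Subgroup G} [A.Normal]

instance cen_normal : (cen A).Normal := by
  rw [← normalizer_eq_top_iff, eq_top_iff]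
  exact le_trans (normalizer_eq_top A).ge (normalizer_le_normalizer_cen A)

/-- The elements of `A` whose commutators with `A` centralise `B`. -/
def good (A B : Subgroup G) (h : ∀ a ∈ A, ∀ b ∈ A, ⁅a, b⁆ ∈ cen A) : Subgroup G where
  carrier := {a | a ∈ A ∧ ∀ y ∈ A, ⁅a, y⁆ ∈ centralizer (B : Set G)}
  one_mem' := ⟨one_mem _, fun y _ => by simp⟩
  mul_mem' := fun {a b} ha hb => ⟨mul_mem ha.1 hb.1, fun y hy => by
    have e : ⁅a * b, y⁆ = a * ⁅b, y⁆ * a⁻¹ * ⁅a, y⁆ := by simp [commutatorElement_def, mul_assoc]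
    rw [e, mem_centralizer_iff.mp (h b hb.1 y hy).2 a ha.1, mul_inv_cancel_right]
    exact mul_mem (hb.2 y hy) (ha.2 y hy)⟩
  inv_mem' := fun {a} ha => ⟨inv_mem ha.1, fun y hy => by
    have e : ⁅a⁻¹, y⁆ = a⁻¹ * ⁅a, y⁆⁻¹ * a := by simp [commutatorElement_def, mul_assoc]
    rw [e, mem_centralizer_iff.mp (inv_mem (h a ha.1 y hy).2) _ (inv_mem ha.1), inv_mul_cancel_right]
    exact inv_mem (ha.2 y hy)⟩

theorem commutator_mem_cen (hA2 : A ∈ Cfsg.classTwoSubgroups G) :
    ∀ a ∈ A, ∀ b ∈ A, ⁅a, b⁆ ∈ cen A := fun _ ha _ hb =>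
  ⟨commutator_le_left A A (commutator_mem_commutator ha hb), hA2 (commutator_mem_commutator ha hb)⟩

/-- In the lower alternative `B` acts on the good part of `A` quadratically. -/
theorem good_quadratic (h : ∀ a ∈ A, ∀ b ∈ A, ⁅a, b⁆ ∈ cen A) (hL : Lower A B) :
    ⁅⁅good A B h, B⁆, B⁆ = ⊥ ∧ ⁅⁅A, B⁆, B⁆ ≤ good A B h ∧
      B ⊔ centralizer ((cen A : Subgroup G) : Set G) ≤ normalizer ((good A B h : Subgroup G) : Set G) := by
  obtain ⟨hN, hB, hY⟩ := hL
  have hAfix : ∀ b : G, ∀ a ∈ A, b * a * b⁻¹ ∈ A := fun b a ha => Normal.conj_mem inferInstance a ha b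
  have key : ∀ k : G, (∀ a ∈ A, ∀ y ∈ A, ⁅a, y⁆ ∈ centralizer (B : Set G) →
      k * ⁅a, y⁆ * k⁻¹ = ⁅a, y⁆) → k ∈ normalizer ((good A B h : Subgroup G) : Set G) := by
    intro k hk
    refine mem_normalizer_of_cmap_le (cmap_le_iff.mpr fun a ha => ⟨hAfix k a ha.1, fun y hy => ?_⟩)
    have e : ⁅k * a * k⁻¹, y⁆ = k * ⁅a, k⁻¹ * y * k⁻¹⁻¹⁆ * k⁻¹ := by
      simp [commutatorElement_def, mul_assoc]
    have hy' := hAfix k⁻¹ y hy
    rw [e, hk a ha.1 _ hy' (ha.2 _ hy')]
    exact ha.2 _ hy'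
  have hnorm : B ⊔ centralizer ((cen A : Subgroup G) : Set G)
      ≤ normalizer ((good A B h : Subgroup G) : Set G) := by
    refine sup_le (fun b hb => key b fun a _ y _ hc => ?_) (fun l hl => key l fun a ha y hy _ => ?_)
    · rw [mem_centralizer_iff.mp hc b hb, mul_inv_cancel_right]
    · rw [← mem_centralizer_iff.mp hl _ (h a ha y hy), mul_inv_cancel_right]
  refine ⟨?_, ?_, hnorm⟩
  · have h1 : ⁅B, ⁅good A B h, good A B h⁆⁆ = ⊥ := by
      rw [commutator_comm, commutator_eq_bot_iff_le_centralizer, commutator_le]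
      exact fun a ha y hy => ha.2 y hy.1
    have h2 : ⁅B, good A B h⁆ ≤ cen B :=
      hY _ (fun a ha => ha.1) (le_sup_left.trans hnorm) h1
    refine le_bot_iff.mp ?_
    rw [commutator_comm (good A B h) B]
    exact (commutator_mono h2 le_rfl).trans (commutator_cen B).le
  · intro z hz
    have hzA : z ∈ A := (commutator_mono (commutator_le_left A B) le_rfl).trans (commutator_le_left A B) hz
    have hzB : z ∈ cen B := by
      have h1 : ⁅A, B⁆ ≤ B := le_normalizer_iff_commutator_le_right.mp hN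
      have h2 : z ∈ ⁅B, B⁆ := commutator_mono h1 le_rfl hz
      exact ⟨le_normalizer_iff_commutator_le_left.mp le_normalizer h2, hB h2⟩
    refine ⟨hzA, fun y hy => ?_⟩
    have hy' : y * z⁻¹ * y⁻¹ ∈ cen B :=
      (mem_normalizer_iff.mp (normalizer_le_normalizer_cen B (hN hy)) z⁻¹).mp (inv_mem hzB)
    have := mul_mem hzB hy'
    rw [show z * (y * z⁻¹ * y⁻¹) = ⁅z, y⁆ by simp [commutatorElement_def, mul_assoc]] at this
    exact this.2

/-- In the lower alternative an element acting trivially on the chief factors below the centre of `A`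
acts quadratically on every chief factor below `A`. -/
theorem quadratic_of_triv (hA : IsPGroup p A) (hA2 : A ∈ Cfsg.classTwoSubgroups G) (hL : Lower A B)
    {g : G} (hg : g ∈ B) (hgt : g ∈ triv (cen A)) {U V : Subgroup G}
    (hUV : Cfsg.IsChiefFactor U V) (hUA : U ≤ A) : ⁅⁅U, zpowers g⁆, zpowers g⁆ ≤ V := by
  haveI := hUV.2.1; haveI := hUV.2.2.1
  have h := commutator_mem_cen hA2
  obtain ⟨hq, hin, hnorm⟩ := good_quadratic h hL
  set L := centralizer ((cen A : Subgroup G) : Set G)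
  haveI : L.Normal := normal_centralizer
  set π := QuotientGroup.mk' L
  have hab : ∀ a ∈ U, ∀ b ∈ U, ⁅a, b⁆ ∈ V := fun a ha b hb =>
    commutator_chief_le hA hUV hUA (commutator_mem_commutator ha (hUA hb))
  have hLK : L ≤ triv (cen A) := fun l hl U' V' _ hU' u hu => by
    rw [commutatorElement_eq_one_iff_mul_comm.mpr (mem_centralizer_iff.mp hl u (hU' hu)).symm]
    exact one_mem _
  have hKL : IsPGroup p ((triv (cen A)).map π) := by
    rintro ⟨_, x, hx, rfl⟩
    obtain ⟨k, m, hm, hkm⟩ := Nat.exists_eq_pow_mul_and_not_dvd (orderOf_pos x).ne' p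
      (Fact.out : p.Prime).ne_one
    refine ⟨k, Subtype.ext ?_⟩
    have hord : orderOf (x ^ p ^ k) = m := by
      rw [orderOf_pow_of_dvd (pow_ne_zero _ (Fact.out : p.Prime).ne_zero) (hkm ▸ dvd_mul_right _ _),
        hkm, Nat.mul_div_cancel_left _ (pow_pos (Fact.out : p.Prime).pos _)]
    have := mem_centralizer_of_triv (isPGroup_mono hA (cen_le A)) (pow_mem hx (p ^ k))
      (by rw [hord]; exact (((Fact.out : p.Prime).coprime_iff_not_dvd).mpr hm).symm)
    rw [SubmonoidClass.coe_pow, OneMemClass.coe_one]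
    exact (map_pow π x _).symm.trans ((QuotientGroup.eq_one_iff _).mpr this)
  set H := L ⊔ zpowers g
  have hgH : zpowers g ≤ H := le_sup_right
  have hsemi : Semi V U H := semi_between hUV hab hKL H le_sup_left (sup_le hLK (zpowers_le.mpr hgt))
  have hHR : H ≤ normalizer ((good A B h : Subgroup G) : Set G) :=
    (sup_le le_sup_right (le_sup_of_le_left (zpowers_le.mpr hg))).trans hnorm
  set X := (good A B h ⊓ U) ⊔ V
  obtain ⟨W, hVW, hWU, hHW, hsup, hinf⟩ := hsemi X le_sup_right (sup_le inf_le_right hUV.1.le)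
    (le_normalizer_sup' (le_normalizer_inf' hHR (le_normalizer_of_normal _ U)) (le_normalizer_of_normal _ V))
  have hgB : zpowers g ≤ B := zpowers_le.mpr hg
  have hXq : ⁅⁅X, zpowers g⁆, zpowers g⁆ ≤ V := by
    refine iter_sup_le (i := 2) ?_
    exact (commutator_mono (commutator_mono inf_le_left hgB) hgB).trans (hq.le.trans bot_le)
  have hWq : ⁅⁅W, zpowers g⁆, zpowers g⁆ ≤ V := by
    have hW' : ∀ Y : Subgroup G, Y ≤ W → ⁅Y, zpowers g⁆ ≤ W := fun Y hY =>
      (commutator_mono hY le_rfl).trans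
        (le_normalizer_iff_commutator_le_left.mp (hgH.trans hHW))
    refine le_trans (le_inf ?_ (hW' _ (hW' _ le_rfl))) hinf.le
    refine le_sup_of_le_left (le_inf ?_ ((hW' _ (hW' _ le_rfl)).trans hWU))
    exact (commutator_mono (commutator_mono (hWU.trans hUA) hgB) hgB).trans hin
  set q := QuotientGroup.mk' V
  rw [← map_mk'_le_bot_iff, map_commutator, map_commutator] at hXq hWq ⊢
  rw [← hsup, Subgroup.map_sup]
  have habq : ∀ a ∈ U.map q, ∀ b ∈ U.map q, a * b = b * a := by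
    rintro _ ⟨a, ha, rfl⟩ _ ⟨b, hb, rfl⟩
    rw [← commutatorElement_eq_one_iff_mul_comm, ← map_commutatorElement]
    exact (QuotientGroup.eq_one_iff _).mpr (hab a ha b hb)
  have hnU : (zpowers g).map q ≤ normalizer ((U.map q : Subgroup (G ⧸ V)) : Set (G ⧸ V)) := by
    haveI : (U.map q).Normal := Normal.map inferInstance q (QuotientGroup.mk'_surjective V)
    exact le_normalizer_of_normal _ _
  have hXU : X.map q ≤ U.map q := Subgroup.map_mono (sup_le inf_le_right hUV.1.le)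
  have hWU' : W.map q ≤ U.map q := Subgroup.map_mono hWU
  have hstep : ∀ Y : Subgroup (G ⧸ V), Y ≤ U.map q → ⁅Y, (zpowers g).map q⁆ ≤ U.map q :=
    fun Y hY => (commutator_mono hY le_rfl).trans (le_normalizer_iff_commutator_le_left.mp hnU)
  refine le_bot_iff.mp ((commutator_mono (commutator_sup_le_sup habq hXU hWU' hnU) le_rfl).trans ?_)
  refine (commutator_sup_le_sup habq (hstep _ hXU) (hstep _ hWU') hnU).trans ?_
  rw [hXq, hWq, sup_bot_eq]

end Lower

/-! ### Quadratic chief factor below `A` -/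

theorem quadratic_of_cen {A U V : Subgroup G} (hUV : Cfsg.IsChiefFactor U V) {C : Subgroup G}
    (hq : ⁅⁅cen A, C⁆, C⁆ = ⊥) (hU : U ≤ (U ⊓ cen A) ⊔ V) : ⁅⁅U, C⁆, C⁆ ≤ V := by
  haveI := hUV.2.2.1
  refine (commutator_mono (commutator_mono hU le_rfl) le_rfl).trans (iter_sup_le (i := 2) ?_)
  exact (commutator_mono (commutator_mono inf_le_right le_rfl) le_rfl).trans (hq.le.trans bot_le)

theorem inf_sup_or {U V Y : Subgroup G} [Y.Normal] (hUV : Cfsg.IsChiefFactor U V) :
    U ≤ (U ⊓ Y) ⊔ V ∨ U ⊓ Y ≤ V := by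
  haveI := hUV.2.1; haveI := hUV.2.2.1
  rcases hUV.2.2.2 ((U ⊓ Y) ⊔ V) inferInstance le_sup_right (sup_le inf_le_left hUV.1.le) with h | h
  · exact Or.inr (le_sup_left.trans h.le)
  · exact Or.inl h.ge

theorem exists_quadratic {A B : Subgroup G} [A.Normal] (hAT : A ≤ Cfsg.pCore p G)
    (hA2 : A ∈ Cfsg.classTwoSubgroups G)
    (hA5 : ∀ φ : MulAut ↥(Cfsg.pCore p G), (orderOf φ).Coprime p →
      (∀ a : ↥(Cfsg.pCore p G), (a : G) ∈ A → φ a = a) → φ = 1)
    (hc : centralizer ((Cfsg.pCore p G : Subgroup G) : Set G) ≤ Cfsg.pCore p G)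
    (hB : Quad A B ∨ Lower A B) {g : G} (hg : g ∈ B) (hgT : g ∉ Cfsg.pCore p G) :
    ∃ U V : Subgroup G, Cfsg.IsChiefFactor U V ∧ U ≤ A ∧
      ⁅⁅U, zpowers g⁆, zpowers g⁆ ≤ V ∧ ¬ ⁅U, zpowers g⁆ ≤ V := by
  have hgB : zpowers g ≤ B := zpowers_le.mpr hg
  have hq : ⁅⁅cen A, zpowers g⁆, zpowers g⁆ = ⊥ := le_bot_iff.mp
    ((commutator_mono (commutator_mono le_rfl hgB) hgB).trans (cubic_of_witness hB).2.le)
  have hnt : ∀ W : Subgroup G, g ∉ triv W → ∃ U V : Subgroup G, Cfsg.IsChiefFactor U V ∧ U ≤ W ∧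
      ¬ ⁅U, zpowers g⁆ ≤ V := by
    intro W hW
    rw [mem_triv] at hW
    push Not at hW
    obtain ⟨U, V, hUV, hUW, u, hu, hnot⟩ := hW
    refine ⟨U, V, hUV, hUW, fun hle => hnot ?_⟩
    rw [← commutatorElement_inv]
    exact inv_mem (hle (commutator_mem_commutator hu (mem_zpowers g)))
  by_cases hgZ : g ∈ triv (cen A)
  swap
  · obtain ⟨U, V, hUV, hU, hne⟩ := hnt _ hgZ
    exact ⟨U, V, hUV, hU.trans (cen_le A),
      quadratic_of_cen hUV hq (le_sup_of_le_left (le_inf le_rfl hU)), hne⟩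
  obtain ⟨U, V, hUV, hU, hne⟩ := hnt A fun h => hgT (not_mem_triv hAT hA5 hc h)
  refine ⟨U, V, hUV, hU, ?_, hne⟩
  rcases hB with ⟨h1, -⟩ | hL
  · rcases inf_sup_or (Y := cen A) hUV with h | h
    · exact quadratic_of_cen hUV hq h
    · haveI := hUV.2.1
      refine le_trans (le_inf ?_ ?_) h
      · exact (commutator_mono (commutator_le_left U _) le_rfl).trans (commutator_le_left U _)
      · exact (commutator_mono (commutator_mono hU hgB) hgB).trans h1
  · exact quadratic_of_triv (isPGroup_mono (isPGroup_pCore p G) hAT) hA2 hL hg hgZ hUV hU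

/-! ### Four steps on the chief factors below `O_p` -/

theorem engel_four {T A : Subgroup G} [T.Normal] [A.Normal] (hT : IsPGroup p T) (hAT : A ≤ T)
    (hTA : ⁅T, A⁆ ≤ cen A) (hC : T ⊓ centralizer (A : Set G) ≤ cen A) {g : G}
    (h3 : Cfsg.iterCommutator A (zpowers g) 3 ≤ cen A) (h2 : ⁅⁅cen A, zpowers g⁆, zpowers g⁆ = ⊥)
    {U V : Subgroup G} (hUV : Cfsg.IsChiefFactor U V) (hUT : U ≤ T) :
    Cfsg.iterCommutator U (zpowers g) 4 ≤ V := by
  haveI := hUV.2.1; haveI := hUV.2.2.1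
  set C := zpowers g
  obtain ⟨U₁, hU₁⟩ := Set.Finite.exists_minimal
    (Set.toFinite {N : Subgroup G | N.Normal ∧ N ≤ U ∧ ¬ N ≤ V}) ⟨U, inferInstance, le_rfl, hUV.1.not_ge⟩
  obtain ⟨hU₁n, hU₁U, hU₁V⟩ := hU₁.prop
  haveI := hU₁n
  have hU₁sup : U ≤ U₁ ⊔ V := by
    rcases hUV.2.2.2 (U₁ ⊔ V) inferInstance le_sup_right (sup_le hU₁U hUV.1.le) with h | h
    · exact absurd (le_sup_left.trans h.le) hU₁V
    · exact h.ge
  refine (iter_mono hU₁sup le_rfl 4).trans (iter_sup_le ?_)
  by_cases hUA : ⁅U₁, A⁆ = ⊥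
  · have hle : U₁ ≤ cen A :=
      (le_inf (hU₁U.trans hUT) (commutator_eq_bot_iff_le_centralizer.mp hUA)).trans hC
    refine ((iter_mono hle le_rfl 4).trans ?_).trans bot_le
    exact le_of_le_of_eq (iter_anti (le_normalizer_of_normal _ _) 2 2) h2
  obtain ⟨N, hN⟩ := Set.Finite.exists_minimal
    (Set.toFinite {N : Subgroup G | N.Normal ∧ N ≤ A ∧ ⁅U₁, N⁆ ≠ ⊥}) ⟨A, inferInstance, le_rfl, hUA⟩
  obtain ⟨hNn, hNA, hNne⟩ := hN.prop
  haveI := hNn
  set Z₀ := ⁅U₁, N⁆
  have hZ₀A : Z₀ ≤ cen A := (commutator_mono (hU₁U.trans hUT) hNA).trans hTA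
  have hZ₀T : Z₀ ≤ T := hZ₀A.trans ((cen_le A).trans hAT)
  obtain ⟨Z₁, hZ₁n, hchief, -, -⟩ :=
    ConjFunctorEngel.exists_chief_below (isPGroup_mono hT hZ₀T) hNne
  haveI := hZ₁n
  have hTZ : ⁅Z₀, T⁆ ≤ Z₁ := commutator_chief_le hT hchief hZ₀T
  let W : ℕ → Subgroup G := fun k => if k = 0 then Z₀ else if k = 1 then ⁅Z₀, C⁆ ⊔ Z₁ else Z₁
  have hW0 : ∀ k, Z₁ ≤ W k ∧ W k ≤ Z₀ := by
    intro k
    rcases k with _ | _ | k
    · exact ⟨hchief.1.le, le_rfl⟩
    · exact ⟨le_sup_right, sup_le (commutator_le_left _ _) hchief.1.le⟩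
    · exact ⟨le_rfl, hchief.1.le⟩
  have hstep : ∀ k, ⁅W k, C⁆ ≤ W (k + 1) := by
    intro k
    rcases k with _ | _ | k
    · exact le_sup_left
    · refine iter_sup_le (i := 1) ?_
      exact (commutator_mono (commutator_mono hZ₀A le_rfl) le_rfl).trans (h2.le.trans bot_le)
    · show ⁅Z₁, C⁆ ≤ Z₁; exact commutator_le_left _ _
  set H := T ⊔ C
  have hHW : ∀ k, H ≤ normalizer ((W k : Subgroup G) : Set G) := by
    intro k
    refine sup_le (le_normalizer_iff_commutator_le_left.mpr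
      ((commutator_mono (hW0 k).2 le_rfl).trans (hTZ.trans (hW0 k).1))) ?_
    rcases k with _ | _ | k
    · exact le_normalizer_of_normal _ Z₀
    · refine le_normalizer_iff_commutator_le_left.mpr ((hstep 1).trans ?_)
      exact le_sup_right
    · exact le_normalizer_of_normal _ Z₁
  have hCN : ∀ X : Subgroup G, X.Normal → C ≤ normalizer (X : Set G) := fun X hX =>
    le_normalizer_of_normal C X
  -- commutators of the terms fall into the filtration
  have key : ∀ i j, ⁅Cfsg.iterCommutator U₁ C i, Cfsg.iterCommutator N C j⁆ ≤ W (i + j - 2) := by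
    intro i
    induction i with
    | zero =>
      intro j
      rcases Nat.lt_or_ge j 3 with hj | hj
      · rw [show 0 + j - 2 = 0 by omega]
        exact commutator_mono le_rfl (iter_le_self (hCN N hNn) j)
      · refine le_trans (le_of_eq ?_) bot_le
        refine le_bot_iff.mp ?_
        have hle : Cfsg.iterCommutator N C j ≤ N ⊓ cen A ⊓ Cfsg.iterCommutator N C 2 := by
          refine le_inf (le_inf (iter_le_self (hCN N hNn) j) ?_) ?_
          · obtain ⟨l, rfl⟩ : ∃ l, j = 3 + l := ⟨j - 3, by omega⟩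
            exact ((iter_mono hNA le_rfl _).trans (iter_anti (hCN A inferInstance) 3 l)).trans h3
          · obtain ⟨l, rfl⟩ : ∃ l, j = 2 + l := ⟨j - 2, by omega⟩
            exact iter_anti (hCN N hNn) 2 l
        by_cases hNZ : N ≤ cen A
        · have : Cfsg.iterCommutator N C j ≤ ⊥ := hle.trans (inf_le_right.trans
            ((iter_mono hNZ le_rfl 2).trans h2.le))
          exact (commutator_mono le_rfl this).trans (commutator_bot_right _).le
        · refine (commutator_mono le_rfl (hle.trans inf_le_left)).trans ?_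
          by_contra hne
          exact hNZ ((hN.2 ⟨inferInstance, inf_le_left.trans hNA, fun h => hne h.le⟩
            inf_le_left).trans inf_le_right)
    | succ i ih =>
      intro j
      have hUi : Cfsg.iterCommutator U₁ C i ≤ H :=
        ((iter_le_self (hCN U₁ hU₁n) i).trans (hU₁U.trans hUT)).trans le_sup_left
      have hNj : Cfsg.iterCommutator N C j ≤ H :=
        ((iter_le_self (hCN N hNn) j).trans (hNA.trans hAT)).trans le_sup_left
      refine three_mod (H := H) (((hW0 _).2.trans hZ₀T).trans le_sup_left) (hHW _) hUi le_sup_right hNj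
        ?_ ?_
      · rw [commutator_comm, commutator_comm C]
        have := ih (j + 1)
        rwa [show i + (j + 1) = i + 1 + j by omega] at this
      · rw [commutator_comm (Cfsg.iterCommutator N C j)]
        rcases Nat.lt_or_ge (i + j) 2 with h | h
        · rw [show i + 1 + j - 2 = 0 by omega]
          exact (commutator_mono ((ih j).trans (hW0 _).2) le_rfl).trans (commutator_le_left _ _)
        · rw [show i + 1 + j - 2 = (i + j - 2) + 1 by omega]
          exact (commutator_mono (ih j) le_rfl).trans (hstep _)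
  set π := QuotientGroup.mk' Z₁
  haveI : (N.map π).Normal := Normal.map hNn π (QuotientGroup.mk'_surjective Z₁)
  set K := U₁ ⊓ (centralizer ((N.map π : Subgroup (G ⧸ Z₁)) : Set (G ⧸ Z₁))).comap π
  have hK : ∀ X : Subgroup G, X ≤ (centralizer ((N.map π : Subgroup (G ⧸ Z₁)) : Set (G ⧸ Z₁))).comap π
      ↔ ⁅X, N⁆ ≤ Z₁ := by
    intro X
    rw [← map_le_iff_le_comap, ← commutator_eq_bot_iff_le_centralizer, ← map_commutator,
      map_mk'_le_bot_iff]
  have hKV : K ≤ V := by
    by_contra hne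
    have h1 := hU₁.2 ⟨inferInstance, inf_le_left.trans hU₁U, hne⟩ inf_le_left
    exact hchief.1.not_ge ((hK U₁).mp (h1.trans inf_le_right))
  exact (le_inf (iter_le_self (hCN U₁ hU₁n) 4) ((hK _).mpr (key 4 0))).trans hKV

/-! ### The witness -/

theorem isNormal_of_le {S : Sylow p G} {W : ∀ (Q : Type u) [Group Q], Subgroup Q}
    (hiso : ∀ (Q R : Type u) [Group Q] [Group R] (e : Q ≃* R), (W Q).map (e : Q →* R) = W R)
    (hle : ((W ↥((Cfsg.pCore p G).subgroupOf (S : Subgroup G))).map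
        ((Cfsg.pCore p G).subgroupOf (S : Subgroup G)).subtype) = W ↥(S : Subgroup G)) :
    (Cfsg.inducedFunctor W (S : Subgroup G)).Normal := by
  haveI : (Cfsg.pCore p G).Normal := pCore_normal p G
  have hTS : Cfsg.pCore p G ≤ (S : Subgroup G) := (isPGroup_pCore p G).le_sylow_of_normal S
  have h : Cfsg.inducedFunctor W (S : Subgroup G) = (W ↥(Cfsg.pCore p G)).map (Cfsg.pCore p G).subtype := by
    show (W ↥(S : Subgroup G)).map _ = _
    rw [← hle, ← hiso _ _ (subgroupOfEquivOfLe hTS), Subgroup.map_map, Subgroup.map_map]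
    rfl
  rw [h]
  haveI : (W ↥(Cfsg.pCore p G)).Characteristic := characteristic_iff_map_eq.mpr fun e => hiso _ _ e
  infer_instance

/-- A subgroup of the Sylow subgroup outside `O_p` from non-normality of a K-infinity subgroup. -/
theorem exists_outside (S : Sylow p G) {A : Subgroup G} [A.Normal] (hAT : A ≤ Cfsg.pCore p G)
    (hA2 : A ∈ Cfsg.classTwoSubgroups G) (hTA : ⁅Cfsg.pCore p G, A⁆ ≤ cen A)
    (hK : ¬ (Cfsg.inducedFunctor Cfsg.kInfLower (S : Subgroup G)).Normal ∨
      ¬ (Cfsg.inducedFunctor Cfsg.kInfUpper (S : Subgroup G)).Normal) :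
    ∃ B : Subgroup G, B ≤ (S : Subgroup G) ∧ ¬ B ≤ Cfsg.pCore p G ∧ (Quad A B ∨ Lower A B) := by
  haveI : (Cfsg.pCore p G).Normal := pCore_normal p G
  set T := Cfsg.pCore p G
  have hTS : T ≤ (S : Subgroup G) := (isPGroup_pCore p G).le_sylow_of_normal S
  set P := (S : Subgroup G)
  have hinj : Function.Injective P.subtype := P.subtype_injective
  have hA' : (A.subgroupOf P).map P.subtype = A := map_subgroupOf_eq_of_le (hAT.trans hTS)
  have hT' : (T.subgroupOf P).map P.subtype = T := map_subgroupOf_eq_of_le hTS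
  have h2' : A.subgroupOf P ∈ Cfsg.classTwoSubgroups ↥P := classTwo_subtype.mpr (by rwa [hA'])
  have hTA' : ⁅T.subgroupOf P, A.subgroupOf P⁆ ≤ cen (A.subgroupOf P) := by
    rw [← map_le_map_iff_of_injective hinj, map_commutator, map_cen_subtype, hA', hT']
    exact hTA
  rcases exists_witness (T := T.subgroupOf P) (A := A.subgroupOf P)
    (by rw [← map_le_map_iff_of_injective hinj, hA', hT']; exact hAT) h2' hTA' with h | ⟨B, hBT, hB⟩
  · obtain ⟨h1, h2⟩ := map_kInf_of_le h
    exfalso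
    rcases hK with hK | hK
    · exact hK (isNormal_of_le (fun Q R _ _ e => map_kInfLower e) h1)
    · exact hK (isNormal_of_le (fun Q R _ _ e => map_kInfUpper e) h2)
  refine ⟨B.map P.subtype, map_subtype_le B, fun h => hBT ?_, ?_⟩
  · rwa [← map_le_map_iff_of_injective hinj, hT']
  rcases hB with ⟨hq1, hq2⟩ | ⟨hN, hB2, hY⟩
  · refine Or.inl ⟨?_, ?_⟩
    · rw [← hA', ← map_commutator, ← map_commutator, ← map_cen_subtype]
      exact Subgroup.map_mono hq1
    · rw [← hA', ← map_cen_subtype, ← map_commutator, ← map_commutator, hq2, Subgroup.map_bot]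
  · refine Or.inr ⟨?_, classTwo_subtype.mp hB2, fun Y hYA hBY h1 => ?_⟩
    · rw [← hA', ← le_normalizer_subtype]; exact hN
    obtain ⟨Y, rfl⟩ : ∃ Y' : Subgroup ↥P, Y'.map P.subtype = Y :=
      ⟨Y.subgroupOf P, map_subgroupOf_eq_of_le (hYA.trans (hAT.trans hTS))⟩
    rw [← map_commutator, ← map_cen_subtype, map_le_map_iff_of_injective hinj]
    refine hY Y ((map_le_map_iff_of_injective hinj).mp (hA'.symm ▸ hYA)) (le_normalizer_subtype.mpr hBY) ?_
    exact map_injective hinj (by rw [map_commutator, map_commutator, h1, Subgroup.map_bot])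

end Cfsg.Agent.ConjFunctorKWitness
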