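import Mathlib
import Cfsg.Prelude.Def_ConjugacyFunctors
import Cfsg.Prelude.Def_LocalEven
import Cfsg.Prelude.Def_Solvable
import Cfsg.Agent.Lib.HallCore
import Cfsg.Agent.Lib.ConjFunctorBasic
import Cfsg.Agent.Lib.ConjFunctorControl
import Cfsg.Agent.Lib.ConjFunctorTransfer
import Cfsg.Agent.Lib.ConjFunctorSection
import Cfsg.Agent.Lib.ConjFunctorMaster

/-!
User forms of the reduction of control of fusion and transfer to constrained sections, stated over the
sections `K / R` of the group, and the case of an empty set of functors.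
-/

set_option autoImplicit false

open scoped commutatorElement
open Subgroup Cfsg.Agent.ConjFunctorBasic Cfsg.Agent.ConjFunctorControl
  Cfsg.Agent.ConjFunctorTransfer Cfsg.Agent.ConjFunctorSection Cfsg.Agent.ConjFunctorMaster
  Cfsg.Agent.HallCore

namespace Cfsg.Agent.ConjFunctorMain

universe u

variable {G : Type u} [Group G] [Finite G] {p : ℕ} [Fact p.Prime]
  {𝓦 : Set (∀ (Q : Type u) [Group Q], Subgroup Q)}

omit [Fact p.Prime] in
theorem map_centralizer_equiv {H : Type u} [Group H] (e : G ≃* H) (A : Subgroup G) :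
    (centralizer (A : Set G)).map (e : G →* H) = centralizer ((A.map (e : G →* H) : Subgroup H) : Set H) := by
  ext x
  simp only [mem_map, mem_centralizer_iff, coe_map, Set.forall_mem_image, SetLike.mem_coe,
    MonoidHom.coe_coe]
  constructor
  · rintro ⟨y, hy, rfl⟩ b hb
    rw [← map_mul, ← map_mul, hy b hb]
  · intro h
    refine ⟨e.symm x, fun b hb => e.injective ?_, by simp⟩
    simpa using h (x := b) hb

omit [Fact p.Prime] in
theorem constr_congr {H : Type u} [Group H] [Finite H] (e : G ≃* H) (h : Constr p G) : Constr p H := by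
  have h1 := map_centralizer_equiv e (Cfsg.pCore p G)
  have h2 : (Cfsg.pCore p G).map (e : G →* H) = Cfsg.pCore p H := map_equiv_pCore e
  rw [h2] at h1
  show centralizer ((Cfsg.pCore p H : Subgroup H) : Set H) ≤ Cfsg.pCore p H
  rw [← h1]
  exact (Subgroup.map_mono h).trans h2.le

/-- The functor taking the whole group. -/
abbrev topFunctor : ∀ (Q : Type u) [Group Q], Subgroup Q := fun _ _ => ⊤

theorem isCharPFunctor_top : Cfsg.IsCharPFunctor.{u} p topFunctor :=
  ⟨fun _ _ _ _ hn h => by
    haveI := hn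
    exact top_ne_bot h, fun _ _ _ _ _ _ φ => map_top_of_surjective _ φ.surjective⟩

omit [Finite G] [Fact p.Prime] in
theorem inducedFunctor_top (S : Subgroup G) : Cfsg.inducedFunctor (G := G) topFunctor S = S := by
  show (⊤ : Subgroup S).map S.subtype = S
  rw [← MonoidHom.range_eq_map, range_subtype]

/-- The section `N(S) / O_{p'}(N(S))`. -/
theorem automizer_section (S : Sylow p G) :
    let N := normalizer ((S : Subgroup G) : Set G)
    let K := Cfsg.pPrimeCore p N
    let π := QuotientGroup.mk' K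
    let T : Subgroup (↥N ⧸ K) := (((S : Subgroup G).subgroupOf N)).map π
    Constr p (↥N ⧸ K) ∧ IsSylowIn p T ⊤ ∧ Cfsg.Involves (↥N ⧸ K) G ∧
      ∀ x : N, (x : G) ∈ (S : Subgroup G) → π x = 1 → x = 1 := by
  intro N K π T
  let SN : Sylow p N := S.subtype le_normalizer
  have hSN : (SN : Subgroup N) = (S : Subgroup G).subgroupOf N := rfl
  let Sbar : Sylow p (↥N ⧸ K) := SN.mapSurjective (QuotientGroup.mk'_surjective K)
  have hT : (Sbar : Subgroup (↥N ⧸ K)) = T := by rw [Sylow.coe_mapSurjective, hSN]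
  haveI hn : ((S : Subgroup G).subgroupOf N).Normal := normal_in_normalizer
  haveI : T.Normal := Normal.map hn π (QuotientGroup.mk'_surjective K)
  have hTle : T ≤ Cfsg.pCore p (↥N ⧸ K) := le_pCore (hT ▸ Sbar.isPGroup')
  refine ⟨centralizer_pCore_le (S := Sbar) (pPrimeCore_quotient_self p N) ?_, ?_,
    involves_trans (involves_quotient K) (involves_subgroup N), fun x hx hx1 => ?_⟩
  · exact inf_le_left.trans (hT ▸ hTle)
  · rw [← hT]; exact isSylowIn_top Sbar
  · have : x ∈ (S : Subgroup G).subgroupOf N ⊓ K :=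
      ⟨mem_subgroupOf.mpr hx, (QuotientGroup.eq_one_iff x).mp hx1⟩
    rwa [inf_eq_bot_of_pGroup (hSN ▸ SN.isPGroup') (coprime_card_pPrimeCore p N), mem_bot] at this

theorem fusion_main (h𝓦 : ∀ W ∈ 𝓦, Cfsg.IsCharPFunctor.{u} p W)
    (hloc : ∀ (K R : Subgroup G) [hR : (R.subgroupOf K).Normal],
      centralizer ((Cfsg.pCore p (↥K ⧸ R.subgroupOf K) : Subgroup (↥K ⧸ R.subgroupOf K)) :
          Set (↥K ⧸ R.subgroupOf K)) ≤ Cfsg.pCore p (↥K ⧸ R.subgroupOf K) →
        Cfsg.FamilyControlsStrongFusionIn p (img 𝓦 (↥K ⧸ R.subgroupOf K)) ⊤) :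
    Cfsg.FamilyControlsStrongFusionIn p (img 𝓦 G) ⊤ := by
  have hsec : ∀ (H : Type u) [Group H] [Finite H], Cfsg.Involves H G → Constr p H →
      Cfsg.FamilyControlsStrongFusionIn p (img 𝓦 H) ⊤ := by
    intro H _ _ hH hc
    obtain ⟨K, R, hR, ⟨e⟩⟩ := hH
    exact controls_top_iso h𝓦 e (hloc K R (constr_congr e.symm hc))
  rcases Set.eq_empty_or_nonempty 𝓦 with rfl | hne
  · have htop := fusion_master (G := G) (p := p) (𝓦 := {topFunctor}) (by simpa using isCharPFunctor_top)
      (Set.singleton_nonempty _) fun H _ _ hH hc => by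
        obtain ⟨T, hT, hr⟩ := famControls_iff.mp (hsec H hH hc)
        refine famControls_iff.mpr ⟨T, hT, fun Q hQ h hh hhQ => ?_⟩
        obtain ⟨c, hch, he⟩ := hr Q hQ h hh hhQ
        exact ⟨c, Relation.ReflTransGen.mono (fun a b hab => by
          obtain ⟨⟨W, hW, -⟩, -⟩ := hab
          simp [img] at hW) _ _ hch, he⟩
    obtain ⟨S⟩ : Nonempty (Sylow p G) := inferInstance
    refine famControls_iff.mpr ⟨(S : Subgroup G), isSylowIn_top S, fun Q hQ g hg hgQ => ?_⟩
    obtain ⟨c, hch, he⟩ := reach_of_controls (isConjugacyFunctor_img (by simpa using isCharPFunctor_top))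
      htop (isSylowIn_top S) Q hQ g hg hgQ
    refine ⟨1, Relation.ReflTransGen.refl, fun q hq => ?_⟩
    rw [← he q hq]
    obtain ⟨hc, hT, hinv, hinj⟩ := automizer_section S
    have hfix : ∀ n ∈ normalizer ((S : Subgroup G) : Set G), ∀ s ∈ (S : Subgroup G),
        n * s * n⁻¹ = s := by
      intro n hn s hs
      set π := QuotientGroup.mk' (Cfsg.pPrimeCore p (normalizer ((S : Subgroup G) : Set G)))
      let sN : normalizer ((S : Subgroup G) : Set G) := ⟨s, le_normalizer hs⟩
      let nN : normalizer ((S : Subgroup G) : Set G) := ⟨n, hn⟩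
      have hsT : π sN ∈ ((S : Subgroup G).subgroupOf _).map π := mem_map_of_mem π (mem_subgroupOf.mpr hs)
      have hnsS : n * s * n⁻¹ ∈ (S : Subgroup G) := (mem_normalizer_iff.mp hn s).mp hs
      obtain ⟨c', hch', he'⟩ := reach_of_controls (isConjugacyFunctor_img h𝓦) (hsec _ hinv hc) hT
        (zpowers (π sN)) (zpowers_le.mpr hsT) (π nN) (mem_top _) (by
          rw [cmap, MonoidHom.map_zpowers, zpowers_le]
          exact ⟨nN * sN * nN⁻¹, mem_subgroupOf.mpr hnsS, by simp⟩)
      have hc1 : c' = 1 := by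
        clear he'
        induction hch' with
        | refl => rfl
        | tail _ hb _ =>
          obtain ⟨⟨W, hW, -⟩, -⟩ := hb
          simp [img] at hW
      have h1 := he' (π sN) (mem_zpowers _)
      rw [hc1] at h1
      have h2 : π (nN * sN * nN⁻¹ * sN⁻¹) = 1 := by
        simp only [map_mul, map_inv]
        rw [← h1]; group
      exact mul_inv_eq_one.mp (congrArg Subtype.val (hinj _ (mul_mem hnsS (inv_mem hs)) h2))
    suffices cmap c Q ≤ (S : Subgroup G) ∧ c * q * c⁻¹ = q by rw [this.2]; group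
    clear he
    induction hch with
    | refl => exact ⟨by rwa [cmap_one], by group⟩
    | @tail b b' _ hb ih =>
      obtain ⟨⟨W, hW, hm⟩, h1, h2⟩ := hb
      simp only [img, Set.image_singleton, Set.mem_singleton_iff] at hW
      subst hW
      refine ⟨h2, ?_⟩
      have hd := hfix (b' * b⁻¹) (by
        have := (mem_inf.mp hm).2; rwa [inducedFunctor_top] at this) _ (h1 (conj_mem_cmap hq))
      rw [ih.2] at hd
      calc b' * q * b'⁻¹ = b' * b⁻¹ * (b * q * b⁻¹) * (b' * b⁻¹)⁻¹ := by group
        _ = q := by rw [ih.2]; exact hd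
  · exact fusion_master h𝓦 hne hsec

theorem transfer_main (h𝓦 : ∀ W ∈ 𝓦, Cfsg.IsCharPFunctor.{u} p W)
    (hloc : ∀ (K R : Subgroup G) [hR : (R.subgroupOf K).Normal],
      centralizer ((Cfsg.pCore p (↥K ⧸ R.subgroupOf K) : Subgroup (↥K ⧸ R.subgroupOf K)) :
          Set (↥K ⧸ R.subgroupOf K)) ≤ Cfsg.pCore p (↥K ⧸ R.subgroupOf K) →
        Cfsg.FamilyControlsTransferIn p (img 𝓦 (↥K ⧸ R.subgroupOf K)) ⊤) :
    Cfsg.FamilyControlsTransferIn p (img 𝓦 G) ⊤ := by
  have hsec : ∀ (H : Type u) [Group H] [Finite H], Cfsg.Involves H G → Constr p H →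
      Cfsg.FamilyControlsTransferIn p (img 𝓦 H) ⊤ := by
    intro H _ _ hH hc
    obtain ⟨K, R, hR, ⟨e⟩⟩ := hH
    exact transfer_top_iso h𝓦 e (hloc K R (constr_congr e.symm hc))
  rcases Set.eq_empty_or_nonempty 𝓦 with rfl | hne
  · have htop := transfer_master (G := G) (p := p) (𝓦 := {topFunctor}) (by simpa using isCharPFunctor_top)
      (Set.singleton_nonempty _) fun H _ _ hH hc => by
        obtain ⟨T, hT, hle⟩ := famTransfer_iff.mp (hsec H hH hc)
        exact famTransfer_iff.mpr ⟨T, hT, hle.trans (by simp [tgt, img])⟩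
    obtain ⟨S⟩ : Nonempty (Sylow p G) := inferInstance
    refine famTransfer_iff.mpr ⟨(S : Subgroup G), isSylowIn_top S, fun s hs => ?_⟩
    have h1 := inf_commutator_le_tgt (isConjugacyFunctor_img (by simpa using isCharPFunctor_top))
      htop (isSylowIn_top S) hs
    simp only [tgt, img, Set.image_singleton, iSup_singleton, inducedFunctor_top, top_inf_eq] at h1
    obtain ⟨hc, hT, hinv, hinj⟩ := automizer_section S
    obtain ⟨hsS, hsN⟩ := mem_inf.mp h1
    rw [← map_subtype_commutator] at hsN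
    obtain ⟨x, hx, rfl⟩ := hsN
    have h2 := inf_commutator_le_tgt (isConjugacyFunctor_img h𝓦) (hsec _ hinv hc) hT
      (mem_inf.mpr ⟨mem_map_of_mem (QuotientGroup.mk' _) (mem_subgroupOf.mpr hsS), (by
        rw [← map_top_of_surjective (QuotientGroup.mk' _) (QuotientGroup.mk'_surjective _),
          ← map_commutator]
        exact mem_map_of_mem _ (by rw [← _root_.commutator_def]; exact hx))⟩)
    simp only [tgt, img, Set.image_empty, Set.mem_empty_iff_false, iSup_false, iSup_bot, mem_bot] at h2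
    rw [hinj x hsS h2]
    simp
  · exact transfer_master h𝓦 hne hsec

theorem controlsStrongFusion_of_family {W : ∀ (Q : Type u) [Group Q], Subgroup Q}
    (hW : Cfsg.IsCharPFunctor.{u} p W)
    (h : Cfsg.FamilyControlsStrongFusionIn p (img {W} G) ⊤) (S : Sylow p G) (A : Set G)
    (hA : A ⊆ (S : Subgroup G)) (g : G) (hgA : (fun a => g * a * g⁻¹) '' A ⊆ (S : Subgroup G)) :
    ∃ x ∈ normalizer ((Cfsg.inducedFunctor (G := G) W (S : Subgroup G) : Subgroup G) : Set G),
      ∀ a ∈ A, g * a * g⁻¹ = x * a * x⁻¹ := by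
  obtain ⟨c, hc, he⟩ := reach_of_controls (isConjugacyFunctor_img (by simpa using hW)) h (isSylowIn_top S)
    (Subgroup.closure A) ((closure_le _).mpr hA) g (mem_top g) (subset_cmap_iff.mp hgA)
  refine ⟨c, ?_, fun a ha => (he a (subset_closure ha)).symm⟩
  clear he
  induction hc with
  | refl => exact one_mem _
  | @tail b b' _ hb ih =>
    obtain ⟨⟨W', hW', hm⟩, -⟩ := hb
    simp only [img, Set.image_singleton, Set.mem_singleton_iff] at hW'
    subst hW'
    simpa using mul_mem (mem_inf.mp hm).2 ih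

end Cfsg.Agent.ConjFunctorMain
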