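import Mathlib
import Cfsg.Prelude.Def_ConjugacyFunctors
import Cfsg.Prelude.Def_LocalEven
import Cfsg.Prelude.Def_PLocal
import Cfsg.Agent.Lib.HallCore
import Cfsg.Agent.Lib.HallSystemNormalizer
import Cfsg.Agent.Lib.PGroupsBasic
import Cfsg.Agent.Lib.PGroupsCritical
import Cfsg.Agent.Lib.ConjFunctorKWitness
import Cfsg.Agent.Lib.ConjFunctorCore
import Cfsg.Agent.Lib.ConjFunctorMain

/-!
The element given by a K-infinity subgroup that is not normal, with a critical subgroup of `O_p` as the
class two subgroup.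
-/

set_option autoImplicit false
set_option linter.style.haveILetI false

open scoped commutatorElement
open Subgroup Cfsg.Agent.ConjFunctorKInf Cfsg.Agent.ConjFunctorKWitness Cfsg.Agent.HallCore

namespace Cfsg.Agent.ConjFunctorKMain

universe u

variable {G : Type u} [Group G] [Finite G] {p : ℕ} [Fact p.Prime]

/-- A quadratic element moving a chief factor below `O_p` destroys stability of a quotient. -/
theorem not_pStable_of_quadratic {U V : Subgroup G} (hUV : Cfsg.IsChiefFactor U V)
    (hUT : U ≤ Cfsg.pCore p G) {g : G} (hq : ⁅⁅U, zpowers g⁆, zpowers g⁆ ≤ V)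
    (hne : ¬ ⁅U, zpowers g⁆ ≤ V) :
    ∃ (N : Subgroup G) (_ : N.Normal), ¬ Cfsg.IsNormalizerPStable p (G ⧸ N) := by
  obtain ⟨hlt, hUn, hVn, hmax⟩ := hUV
  haveI := hUn; haveI := hVn
  refine ⟨V, hVn, fun hst => ?_⟩
  set π := QuotientGroup.mk' V
  set P := U.map π
  haveI hPn : P.Normal := Normal.map hUn π (QuotientGroup.mk'_surjective V)
  have hPmin : HallSolvable.IsMinNormal P := by
    refine ⟨hPn, ?_, fun K hK hKP => ?_⟩
    · rw [Ne, map_mk'_le_bot_iff]; exact hlt.not_ge
    have hU : K.comap π ≤ U := by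
      have := Subgroup.comap_mono (f := π) hKP
      rwa [comap_map_eq, QuotientGroup.ker_mk', sup_eq_left.mpr hlt.le] at this
    rcases hmax _ (Normal.comap hK π) (QuotientGroup.le_comap_mk' V K) hU with h | h
    · left
      rw [← map_comap_eq_self_of_surjective (QuotientGroup.mk'_surjective V) K, h]
      exact QuotientGroup.map_mk'_self V
    · right
      rw [← map_comap_eq_self_of_surjective (QuotientGroup.mk'_surjective V) K, h]
  have hPp : IsPGroup p P := ((isPGroup_pCore p G).to_le hUT).map π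
  have hN : normalizer (P : Set (G ⧸ V)) = ⊤ := normalizer_eq_top P
  have hmem : π g ∈ normalizer (P : Set (G ⧸ V)) := hN ▸ mem_top _
  have hz : zpowers (π g) = (zpowers g).map π := (MonoidHom.map_zpowers π g).symm
  have h1 := hst P hPp (π g) hmem (by
    rw [hz, ← map_commutator, ← map_commutator, map_mk'_le_bot_iff]; exact hq)
  set N₀ := normalizer (P : Set (G ⧸ V))
  set C₀ := centralizer (P : Set (G ⧸ V))
  haveI : C₀.Normal := normal_centralizer
  let φ : ↥N₀ ⧸ C₀.subgroupOf N₀ →* (G ⧸ V) ⧸ C₀ :=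
    QuotientGroup.map _ _ N₀.subtype (fun x hx => hx)
  have hsurj : Function.Surjective φ := fun y => by
    obtain ⟨y, rfl⟩ := QuotientGroup.mk_surjective y
    exact ⟨QuotientGroup.mk ⟨y, hN ▸ mem_top y⟩, rfl⟩
  haveI : (Cfsg.pCore p (↥N₀ ⧸ C₀.subgroupOf N₀)).Normal := pCore_normal p _
  haveI : ((Cfsg.pCore p (↥N₀ ⧸ C₀.subgroupOf N₀)).map φ).Normal := Normal.map inferInstance φ hsurj
  have h2 := le_pCore ((isPGroup_pCore p _).map φ) (mem_map_of_mem φ h1)
  rw [HallSystemNormalizer.pCore_quotient_centralizer_eq_bot hPmin hPp, mem_bot] at h2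
  have h3 : π g ∈ C₀ := (QuotientGroup.eq_one_iff _).mp h2
  refine hne ?_
  rw [← map_mk'_le_bot_iff, map_commutator, commutator_comm, commutator_eq_bot_iff_le_centralizer,
    MonoidHom.map_zpowers, zpowers_le]
  exact h3

/-- A critical subgroup of `O_p`, as a subgroup of the group. -/
theorem exists_critical :
    ∃ A : Subgroup G, A.Normal ∧ A ≤ Cfsg.pCore p G ∧ A ∈ Cfsg.classTwoSubgroups G ∧
      ⁅Cfsg.pCore p G, A⁆ ≤ cen A ∧ Cfsg.pCore p G ⊓ centralizer (A : Set G) ≤ cen A ∧
      ∀ φ : MulAut ↥(Cfsg.pCore p G), (orderOf φ).Coprime p →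
        (∀ a : ↥(Cfsg.pCore p G), (a : G) ∈ A → φ a = a) → φ = 1 := by
  haveI : (Cfsg.pCore p G).Normal := pCore_normal p G
  set T := Cfsg.pCore p G with hT
  have hTp : IsPGroup p T := isPGroup_pCore p G
  obtain ⟨H, hH, -, hHT, hHC⟩ := PGroupsCritical.exists_critical hTp
  haveI := hH
  set A := H.map T.subtype with hA
  have hinj : Function.Injective T.subtype := T.subtype_injective
  have htop : (⊤ : Subgroup T).map T.subtype = T := by
    rw [← MonoidHom.range_eq_map, range_subtype]
  have hTA : ⁅T, A⁆ ≤ cen A := by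
    have := Subgroup.map_mono (f := T.subtype) hHT
    rw [map_commutator, map_cen_subtype, htop] at this
    exact (commutator_comm _ _).le.trans this
  refine ⟨A, inferInstanceAs (H.map T.subtype).Normal, map_subtype_le H, ?_, hTA, ?_, fun φ hφ hfix => ?_⟩
  · exact ((commutator_mono (map_subtype_le H) le_rfl).trans hTA).trans inf_le_right
  · rw [hA, ← map_centralizer_subtype, ← map_cen_subtype]
    exact Subgroup.map_mono (le_inf hHC le_rfl)
  have hfixH : ∀ h ∈ H, φ h = h := fun h hh => hfix h ⟨h, hh, rfl⟩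
  refine MulEquiv.ext fun t => ?_
  rw [MulAut.one_apply]
  set z := t⁻¹ * φ t with hz
  have hzH : z ∈ H := by
    refine hHC (mem_centralizer_iff.mpr fun h hh => ?_)
    have h2 : t * h * t⁻¹ ∈ H := (inferInstance : H.Normal).conj_mem h hh t
    have h3 := hfixH _ h2
    rw [map_mul, map_mul, map_inv, hfixH h hh] at h3
    calc h * z = t⁻¹ * (t * h * t⁻¹) * φ t := by rw [hz]; group
      _ = t⁻¹ * (φ t * h * (φ t)⁻¹) * φ t := by rw [h3]
      _ = z * h := by rw [hz]; group
  have key : ∀ k : ℕ, (φ ^ k) t = t * z ^ k := by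
    intro k
    induction k with
    | zero => simp
    | succ k ih =>
      rw [pow_succ', MulAut.mul_apply, ih, map_mul, map_pow, hfixH z hzH, pow_succ', ← mul_assoc, hz,
        mul_inv_cancel_left]
  have h4 := key (orderOf φ)
  rw [pow_orderOf_eq_one, MulAut.one_apply, eq_comm, mul_eq_left] at h4
  obtain ⟨j, hj⟩ := hTp z
  have : z = 1 := orderOf_eq_one_iff.mp (Nat.eq_one_of_dvd_coprimes (hφ.pow_right j)
    (orderOf_dvd_of_pow_eq_one h4) (orderOf_dvd_of_pow_eq_one hj))
  rw [hz, inv_mul_eq_one] at this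
  exact this.symm

/-- The element given by non-normality of a K-infinity subgroup. -/
theorem witness (S : Sylow p G)
    (hK : ¬ (Cfsg.inducedFunctor Cfsg.kInfLower (S : Subgroup G)).Normal ∨
      ¬ (Cfsg.inducedFunctor Cfsg.kInfUpper (S : Subgroup G)).Normal) :
    ∃ g : G, g ∈ (S : Subgroup G) ∧ g ∉ Cfsg.pCore p G ∧
      (∀ U V : Subgroup G, Cfsg.IsChiefFactor U V → U ≤ Cfsg.pCore p G →
        Cfsg.iterCommutator U (zpowers g) 4 ≤ V) ∧
      ⁅⁅Cfsg.pCore p G ⊓ centralizer ((Cfsg.pCore p G : Subgroup G) : Set G), zpowers g⁆, zpowers g⁆ = ⊥ ∧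
      (centralizer ((Cfsg.pCore p G : Subgroup G) : Set G) ≤ Cfsg.pCore p G →
        ∃ (N : Subgroup G) (_ : N.Normal), ¬ Cfsg.IsNormalizerPStable p (G ⧸ N)) := by
  haveI : (Cfsg.pCore p G).Normal := pCore_normal p G
  obtain ⟨A, hAn, hAT, hA2, hTA, hC, hA5⟩ := exists_critical (p := p) (G := G)
  haveI := hAn
  obtain ⟨B, hBS, hBT, hB⟩ := exists_outside S hAT hA2 hTA hK
  obtain ⟨g, hg, hgT⟩ := SetLike.not_le_iff_exists.mp hBT
  have hgB : zpowers g ≤ B := zpowers_le.mpr hg
  have hcub := cubic_of_witness hB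
  have h3 : Cfsg.iterCommutator A (zpowers g) 3 ≤ cen A := (iter_mono le_rfl hgB 3).trans hcub.1
  have h2 : ⁅⁅cen A, zpowers g⁆, zpowers g⁆ = ⊥ :=
    le_bot_iff.mp ((commutator_mono (commutator_mono le_rfl hgB) hgB).trans hcub.2.le)
  refine ⟨g, hBS hg, hgT, fun U V hUV hU => engel_four (isPGroup_pCore p G) hAT hTA hC h3 h2 hUV hU,
    le_bot_iff.mp ((commutator_mono (commutator_mono ?_ le_rfl) le_rfl).trans h2.le), fun hc => ?_⟩
  · exact (le_inf inf_le_left (inf_le_right.trans (centralizer_le hAT))).trans hC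
  obtain ⟨U, V, hUV, hUA, hq, hne⟩ := exists_quadratic hAT hA2 hA5 hc hB hg hgT
  exact not_pStable_of_quadratic hUV (hUA.trans hAT) hq hne

/-! ### The K-infinity functors control transfer and fusion -/

omit [Fact p.Prime] in
theorem pStable_of_injective {H : Type u} [Group H] [Finite H] (f : H →* G) (hf : Function.Injective f)
    (hst : Cfsg.IsNormalizerPStable p G) : Cfsg.IsNormalizerPStable p H := by
  intro Q hQ g hg hcomm
  set Q' := Q.map f with hQ'
  have hle : ∀ x : H, x ∈ normalizer (Q : Set H) → f x ∈ normalizer (Q' : Set G) := fun x hx =>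
    Q.le_normalizer_map f ⟨x, hx, rfl⟩
  let ι : ↥(normalizer (Q : Set H)) →* ↥(normalizer (Q' : Set G)) :=
    { toFun := fun x => ⟨f x, hle x x.2⟩
      map_one' := Subtype.ext (map_one f)
      map_mul' := fun _ _ => Subtype.ext (map_mul f _ _) }
  set CH := (centralizer (Q : Set H)).subgroupOf (normalizer (Q : Set H))
  set CG := (centralizer (Q' : Set G)).subgroupOf (normalizer (Q' : Set G))
  have hiff : ∀ x, ι x ∈ CG ↔ x ∈ CH := by
    intro x
    constructor
    · intro h
      refine mem_centralizer_iff.mpr fun q hq => hf ?_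
      rw [map_mul, map_mul]
      exact mem_centralizer_iff.mp h (f q) ⟨q, hq, rfl⟩
    · intro h
      refine mem_centralizer_iff.mpr ?_
      rintro _ ⟨q, hq, rfl⟩
      have h' : q * (x : H) = (x : H) * q := mem_centralizer_iff.mp h q hq
      show f q * f x = f x * f q
      rw [← map_mul, ← map_mul, h']
  let φ := QuotientGroup.map CH CG ι (fun x hx => (hiff x).mpr hx)
  have hφ : Function.Injective φ := by
    rw [injective_iff_map_eq_one]
    intro x
    induction x using QuotientGroup.induction_on with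
    | _ x =>
      intro h
      rw [QuotientGroup.eq_one_iff]
      exact (hiff x).mp ((QuotientGroup.eq_one_iff _).mp h)
  have hG := hst Q' (hQ.map _) (f g) (hle g hg) (by
    rw [show zpowers (f g) = (zpowers g).map f from (MonoidHom.map_zpowers f g).symm, hQ',
      ← map_commutator, ← map_commutator, hcomm, Subgroup.map_bot])
  haveI := pCore_normal p (↥(normalizer (Q' : Set G)) ⧸ CG)
  exact le_pCore (N := (Cfsg.pCore p (↥(normalizer (Q' : Set G)) ⧸ CG)).comap φ)
    ((isPGroup_pCore p _).comap_of_injective φ hφ) hG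

theorem isCharPFunctor_kInfLower : Cfsg.IsCharPFunctor.{u} p Cfsg.kInfLower := by
  refine ⟨fun Q _ _ hQ hn h => ?_, fun Q R _ _ _ _ φ => map_kInfLower φ⟩
  have hc := (centralizer_kInf Q hQ).1
  rw [h] at hc
  haveI := hn
  refine top_ne_bot (α := Subgroup Q) (le_bot_iff.mp (le_trans (fun x _ => ?_) hc))
  exact mem_centralizer_iff.mpr fun y hy => by simp [mem_bot.mp hy]

theorem isCharPFunctor_kInfUpper : Cfsg.IsCharPFunctor.{u} p Cfsg.kInfUpper := by
  refine ⟨fun Q _ _ hQ hn h => ?_, fun Q R _ _ _ _ φ => map_kInfUpper φ⟩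
  have hc := (centralizer_kInf Q hQ).2
  rw [h] at hc
  haveI := hn
  refine top_ne_bot (α := Subgroup Q) (le_bot_iff.mp (le_trans (fun x _ => ?_) hc))
  exact mem_centralizer_iff.mpr fun y hy => by simp [mem_bot.mp hy]

/-- The Engel bound `p - 1` from the witness, for `p ≥ 5`. -/
theorem engel_of_not_normal (hp : 5 ≤ p) (S : Sylow p G)
    (hK : ¬ (Cfsg.inducedFunctor Cfsg.kInfLower (S : Subgroup G)).Normal ∨
      ¬ (Cfsg.inducedFunctor Cfsg.kInfUpper (S : Subgroup G)).Normal) :
    ∃ g : G, g ∈ (S : Subgroup G) ∧ g ∉ Cfsg.pCore p G ∧ ConjFunctorCore.EngelOnCore p (p - 1) g := by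
  obtain ⟨g, hgS, hgT, hg, -, -⟩ := witness S hK
  refine ⟨g, hgS, hgT, fun U V hUV hU => le_trans ?_ (hg U V hUV hU)⟩
  haveI := hUV.2.1
  rw [show p - 1 = 4 + (p - 5) by omega]
  exact iter_anti (le_normalizer_of_normal _ _) 4 (p - 5)

open ConjFunctorTransfer ConjFunctorSection ConjFunctorMaster in
/-- Control of transfer from Engel elements wherever the functor is not normal. -/
theorem transfer_of_engel {W : ∀ (Q : Type u) [Group Q], Subgroup Q} (hW : Cfsg.IsCharPFunctor.{u} p W)
    (hloc : ∀ (H : Type u) [Group H] [Finite H] (S : Sylow p H),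
      ¬ (Cfsg.inducedFunctor (G := H) W (S : Subgroup H)).Normal →
        ∃ g : H, g ∈ (S : Subgroup H) ∧ g ∉ Cfsg.pCore p H ∧ ConjFunctorCore.EngelOnCore p (p - 1) g) :
    Cfsg.ControlsTransferIn p (Cfsg.inducedFunctor (G := G) W) ⊤ := by
  rw [controlsTransfer_iff_singleton]
  have h := ConjFunctorCore.transfer_core_master (G := G) (p := p) (𝓦 := {W}) (by simpa using hW)
    (Set.singleton_nonempty W) fun H _ _ _ _ hM S => ?_
  · simpa only [img, Set.image_singleton] using h
  by_cases hn : (Cfsg.inducedFunctor (G := H) W (S : Subgroup H)).Normal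
  · refine le_trans ?_ (le_tgt (W := Cfsg.inducedFunctor (G := H) W) ⟨W, rfl, rfl⟩)
    simp only [@normalizer_eq_top _ _ _ hn, inf_top_eq]
    exact inf_le_inf_right _ ((isPGroup_pCore p H).le_sylow_of_normal S)
  · obtain ⟨g, hgS, hgT, hg⟩ := hloc H S hn
    exact ConjFunctorCore.pCore_inf_commutator_le (by simpa using hW) S hM hgS hgT hg

open ConjFunctorTransfer ConjFunctorSection ConjFunctorControl ConjFunctorBasic ConjFunctorMaster in
/-- Control of fusion from stability of all sections. -/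
theorem fusion_of_stable {W : ∀ (Q : Type u) [Group Q], Subgroup Q} (hW : Cfsg.IsCharPFunctor.{u} p W)
    (hloc : ∀ (H : Type u) [Group H] [Finite H] (S : Sylow p H),
      centralizer ((Cfsg.pCore p H : Subgroup H) : Set H) ≤ Cfsg.pCore p H →
      ¬ (Cfsg.inducedFunctor (G := H) W (S : Subgroup H)).Normal →
        ∃ (N : Subgroup H) (_ : N.Normal), ¬ Cfsg.IsNormalizerPStable p (H ⧸ N))
    (hst : ∀ (K R : Subgroup G) [hR : (R.subgroupOf K).Normal],
      Cfsg.IsNormalizerPStable p (↥K ⧸ R.subgroupOf K)) (S : Sylow p G) :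
    Cfsg.ControlsStrongFusion p (Cfsg.inducedFunctor (G := G) W (S : Subgroup G)) := by
  have h := fusion_master (G := G) (p := p) (𝓦 := {W}) (by simpa using hW) (Set.singleton_nonempty W)
    fun H _ _ hH hc => by
      obtain ⟨T⟩ : Nonempty (Sylow p H) := inferInstance
      have hn : (Cfsg.inducedFunctor (G := H) W (T : Subgroup H)).Normal := by
        by_contra hnn
        obtain ⟨N, hN, hns⟩ := hloc H T hc hnn
        haveI := hN
        obtain ⟨K, R, hR, ⟨e⟩⟩ := involves_trans (involves_quotient N) hH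
        exact hns (pStable_of_injective e.symm.toMonoidHom e.symm.injective (hst K R))
      refine famControls_iff.mpr ⟨(T : Subgroup _), isSylowIn_top T, fun A hA g _ hgA => ?_⟩
      refine reach_single (show Cfsg.inducedFunctor (G := H) W ∈ img {W} H from
        ⟨W, Set.mem_singleton W, rfl⟩) ⟨mem_top g, ?_⟩ hA hgA
      rw [@normalizer_eq_top _ _ _ hn]; exact mem_top g
  exact ⟨S, inducedFunctor_le W _,
    fun A hA => ⟨hA, fun g hg => ConjFunctorMain.controlsStrongFusion_of_family hW h S A hA g hg⟩⟩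

end Cfsg.Agent.ConjFunctorKMain
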