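import Mathlib
import Cfsg.Agent.Lib.ConjFunctorBasic
import Cfsg.Agent.Lib.ConjFunctorSection
import Cfsg.Agent.Lib.ConjFunctorKMain
import Cfsg.Agent.Lib.ConjFunctorWeakClosure

/-!
The K-infinity functor and weak closure.
-/

set_option autoImplicit false

open scoped commutatorElement
open Subgroup Cfsg.Agent.ConjFunctorBasic Cfsg.Agent.ConjFunctorKMain

namespace Cfsg.Agent.ConjFunctorKWeak

universe u

variable {G : Type u} [Group G] [Finite G] {p : ℕ} [Fact p.Prime]

theorem center_le_kInfLower {P : Subgroup G} (hP : IsPGroup p P) :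
    P ⊓ centralizer (P : Set G) ≤ Cfsg.inducedFunctor (G := G) Cfsg.kInfLower P := by
  intro x hx
  refine ⟨⟨x, hx.1⟩, (ConjFunctorKInf.centralizer_kInf (↥P) hP).1 ?_, rfl⟩
  exact mem_centralizer_iff.mpr fun y _ => Subtype.ext (mem_centralizer_iff.mp hx.2 y y.2)

theorem exists_witness_local {H T : Subgroup G} (hT : IsSylowIn p T H)
    (hn : ¬ H ≤ normalizer ((Cfsg.inducedFunctor (G := G) Cfsg.kInfLower T : Subgroup G) : Set G)) :
    ∃ g : H, (g : G) ∈ T ∧ g ∉ Cfsg.pCore p H ∧
      ⁅⁅Cfsg.pCore p H ⊓ centralizer ((Cfsg.pCore p H : Subgroup H) : Set H), zpowers g⁆, zpowers g⁆ = ⊥ := by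
  have hnn : ¬ (Cfsg.inducedFunctor (G := H) Cfsg.kInfLower (hT.toSylow : Subgroup H)).Normal := by
    intro h
    refine hn ?_
    have e := ConjFunctorSection.inducedFunctor_map (isCharPFunctor_kInfLower (p := p)) H.subtype
      (hT.toSylow).isPGroup' (by rw [ker_subtype, inf_bot_eq])
    rw [hT.map_toSylow] at e
    rw [e]
    have h1 := le_normalizer_map (H := Cfsg.inducedFunctor (G := H) Cfsg.kInfLower (hT.toSylow : Subgroup H))
      H.subtype
    rwa [normalizer_eq_top, ← MonoidHom.range_eq_map, range_subtype] at h1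
  obtain ⟨g, hgS, hgQ, -, hq, -⟩ := witness hT.toSylow (Or.inl hnn)
  exact ⟨g, hgS, hgQ, hq⟩

end Cfsg.Agent.ConjFunctorKWeak
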