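import Mathlib
import Cfsg.Prelude.Def_ConjugacyFunctors
import Cfsg.Prelude.Def_LocalEven
import Cfsg.Agent.Lib.CentralSylow
import Cfsg.Agent.Lib.PGroupsBasic
import Cfsg.Agent.Lib.CharPBasic
import Cfsg.Agent.Lib.ConjFunctorBasic
import Cfsg.Agent.Lib.ConjFunctorTransfer
import Cfsg.Agent.Lib.ConjFunctorSection

/-!
A functor controlling transfer in every section, applied to a Sylow subgroup centralised by the
`p'`-elements of its normaliser, gives a normal subgroup of index `p`.
-/

set_option autoImplicit false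
set_option linter.style.haveILetI false

open scoped commutatorElement
open Subgroup Cfsg.Agent.ConjFunctorBasic Cfsg.Agent.ConjFunctorTransfer Cfsg.Agent.ConjFunctorSection

namespace Cfsg.Agent.ConjFunctorNilpotence

universe u

variable {G : Type u} [Group G] [Finite G] {p : ℕ} [Fact p.Prime]

/-- A normal Sylow subgroup centralised by the `p'`-elements is not in the derived subgroup. -/
theorem not_le_commutator_of_normal (S : Sylow p G) [(S : Subgroup G).Normal]
    (hS : (S : Subgroup G) ≠ ⊥)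
    (hN : ∀ g : G, (orderOf g).Coprime p → g ∈ centralizer ((S : Subgroup G) : Set G)) :
    ¬ (S : Subgroup G) ≤ ⁅(⊤ : Subgroup G), ⊤⁆ := by
  intro hle
  set P := (S : Subgroup G)
  haveI : Group.IsNilpotent P := S.isPGroup'.isNilpotent
  haveI : Nontrivial P := (nontrivial_iff_ne_bot P).mpr hS
  haveI : Group.IsSolvable P := inferInstance
  haveI : (⁅P, P⁆).Normal := inferInstance
  set π := QuotientGroup.mk' ⁅P, P⁆
  set D := P.map π
  have hne : ¬ P ≤ ⁅P, P⁆ := by
    intro h
    have h1 : commutator P = ⊤ := by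
      refine map_injective P.subtype_injective ?_
      rw [map_subtype_commutator, ← MonoidHom.range_eq_map, range_subtype]
      exact le_antisymm (commutator_le_left P P) h
    exact absurd h1 (Group.IsSolvable.commutator_lt_top_of_nontrivial (G := P)).ne
  have habD : ∀ a ∈ D, ∀ b ∈ D, Commute a b := by
    rintro _ ⟨a, ha, rfl⟩ _ ⟨b, hb, rfl⟩
    rw [← commutatorElement_eq_one_iff_commute, ← map_commutatorElement]
    exact (QuotientGroup.eq_one_iff _).mpr (commutator_mem_commutator ha hb)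
  have hDc : D ≤ center (G ⧸ ⁅P, P⁆) := by
    intro d hd
    rw [mem_center_iff]
    intro x
    obtain ⟨n, rfl⟩ := QuotientGroup.mk'_surjective ⁅P, P⁆ x
    obtain ⟨s, hs, rfl⟩ := hd
    obtain ⟨k, m, hm, hkm⟩ := Nat.exists_eq_pow_mul_and_not_dvd (orderOf_pos n).ne' p
      (Fact.out : p.Prime).ne_one
    have hm0 : m ≠ 0 := fun h => hm (h ▸ dvd_zero p)
    have h1 : n ^ m ∈ P := by
      have hpg : IsPGroup p (zpowers (n ^ m)) := by
        refine IsPGroup.of_card (n := k) ?_
        rw [Nat.card_zpowers, orderOf_pow_of_dvd hm0 (hkm ▸ dvd_mul_left _ _), hkm,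
          Nat.mul_div_cancel _ (Nat.pos_of_ne_zero hm0)]
      have hle' : P ⊔ zpowers (n ^ m) ≤ P := by
        refine (S.is_maximal' ?_ le_sup_left).le
        exact IsPGroup.to_sup_of_normal_left S.isPGroup' hpg
      exact hle' (mem_sup_right (mem_zpowers _))
    have h2 : n ^ (p ^ k) ∈ centralizer (P : Set G) := hN _ (by
      rw [orderOf_pow_of_dvd (pow_ne_zero _ (Fact.out : p.Prime).ne_zero) (hkm ▸ dvd_mul_right _ _),
        hkm, Nat.mul_div_cancel_left _ (pow_pos (Fact.out : p.Prime).pos _)]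
      exact (((Fact.out : p.Prime).coprime_iff_not_dvd).mpr hm).symm)
    have c1 : Commute (π (n ^ m)) (π s) := habD _ (mem_map_of_mem π h1) _ (mem_map_of_mem π hs)
    have c2 : Commute (π (n ^ (p ^ k))) (π s) :=
      (show Commute (n ^ (p ^ k)) s from (mem_centralizer_iff.mp h2 s hs).symm).map π
    have hg : (1 : ℤ) = (m : ℤ) * Nat.gcdA m (p ^ k) + ((p ^ k : ℕ) : ℤ) * Nat.gcdB m (p ^ k) := by
      rw [← Nat.gcd_eq_gcd_ab, Nat.Coprime.gcd_eq_one, Nat.cast_one]
      exact ((((Fact.out : p.Prime).coprime_iff_not_dvd).mpr hm).symm).pow_right k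
    show π n * π s = π s * π n
    rw [← zpow_one (π n), hg, zpow_add, zpow_mul, zpow_mul, zpow_natCast, zpow_natCast, ← map_pow, ← map_pow]
    exact ((c1.zpow_left _).mul_left (c2.zpow_left _)).eq
  let S' : Sylow p (G ⧸ ⁅P, P⁆) := S.mapSurjective (QuotientGroup.mk'_surjective ⁅P, P⁆)
  have hS' : (S' : Subgroup (G ⧸ ⁅P, P⁆)) = D := Sylow.coe_mapSurjective _ _
  obtain ⟨O, -, hOn, -, hcomp, -⟩ := CentralSylow.central_sylow D hDc (hS' ▸ S'.isPGroup')
    (hS' ▸ S'.not_dvd_index)
  haveI := hOn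
  have hcom : ⁅(⊤ : Subgroup (G ⧸ ⁅P, P⁆)), ⊤⁆ ≤ O := by
    rw [commutator_le]
    intro a _ b _
    obtain ⟨a₁, ha₁, a₂, ha₂, rfl⟩ := mem_sup_of_normal_left.mp (hcomp.sup_eq_top ▸ mem_top a : a ∈ O ⊔ D)
    obtain ⟨b₁, hb₁, b₂, hb₂, rfl⟩ := mem_sup_of_normal_left.mp (hcomp.sup_eq_top ▸ mem_top b : b ∈ O ⊔ D)
    rw [← QuotientGroup.eq_one_iff, ← QuotientGroup.mk'_apply, map_commutatorElement, map_mul, map_mul]
    simp only [QuotientGroup.mk'_apply, (QuotientGroup.eq_one_iff a₁).mpr ha₁,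
      (QuotientGroup.eq_one_iff b₁).mpr hb₁, one_mul]
    exact commutatorElement_eq_one_iff_commute.mpr
      ((habD a₂ ha₂ b₂ hb₂).map (QuotientGroup.mk' O))
  have hDO : D ≤ O := by
    refine (Subgroup.map_mono hle).trans (le_trans ?_ hcom)
    rw [map_commutator]
    exact commutator_mono le_top le_top
  have hD : D = ⊥ := le_bot_iff.mp (hcomp.disjoint hDO le_rfl)
  rw [Subgroup.map_eq_bot_iff, QuotientGroup.ker_mk'] at hD
  exact hne hD

/-- Control of transfer in all sections keeps the Sylow subgroup out of the derived subgroup. -/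
theorem not_le_commutator {W : ∀ (Q : Type u) [Group Q], Subgroup Q} (hW : Cfsg.IsCharPFunctor.{u} p W)
    (hctl : ∀ (H : Type u) [Group H] [Finite H], Cfsg.Involves H G →
      Cfsg.ControlsTransferIn p (Cfsg.inducedFunctor (G := H) W) ⊤)
    (S : Sylow p G) (hS : (S : Subgroup G) ≠ ⊥)
    (hN : ∀ g ∈ normalizer ((S : Subgroup G) : Set G), (orderOf g).Coprime p →
      g ∈ centralizer ((S : Subgroup G) : Set G)) :
    ¬ (S : Subgroup G) ≤ ⁅(⊤ : Subgroup G), ⊤⁆ := by
  induction hn : Nat.card G using Nat.strong_induction_on generalizing G with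
  | _ n ih =>
  subst hn
  intro hle
  set W' := Cfsg.inducedFunctor (G := G) W with hW'def
  have hW' : Cfsg.IsConjugacyFunctor p W' := isConjugacyFunctor_induced hW
  set P := (S : Subgroup G)
  set M := normalizer ((W' P : Subgroup G) : Set G) with hM
  have hSM : P ≤ M := le_normalizer.trans (normalizer_le_cfun hW' S.isPGroup')
  have hle' : P ≤ ⁅M, M⁆ := by
    have h := (le_inf le_rfl hle : P ≤ P ⊓ ⁅(⊤ : Subgroup G), ⊤⁆).trans (inf_commutator_le_tgt (𝓦 := {W'})
      (fun V hV => by rw [Set.mem_singleton_iff.mp hV]; exact hW')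
      (controlsTransfer_iff_singleton.mp (hctl G involves_refl)) (isSylowIn_top S))
    have h2 : P ≤ P ⊓ ⁅M, M⁆ := h.trans (by simp [ConjFunctorTransfer.tgt, hM])
    exact h2.trans inf_le_right
  have hle1 : P.subgroupOf M ≤ ⁅(⊤ : Subgroup M), ⊤⁆ := by
    rw [← map_le_map_iff_of_injective M.subtype_injective, map_subgroupOf_eq_of_le hSM, map_commutator,
      ← MonoidHom.range_eq_map, range_subtype]
    exact hle'
  let SM : Sylow p M := S.subtype hSM
  have hSMc : (SM : Subgroup M) = P.subgroupOf M := rfl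
  set W1 := (W' P).subgroupOf M
  haveI : W1.Normal := normal_in_normalizer
  by_cases hWS : P ≤ W' P
  · -- the Sylow subgroup is normal in `M`
    have hMN : M = normalizer (P : Set G) := by
      rw [hM, le_antisymm (cfun_le hW' S.isPGroup') hWS]
    haveI : (SM : Subgroup M).Normal := by
      rw [hSMc]
      exact normal_subgroupOf_of_le_normalizer hMN.le
    refine not_le_commutator_of_normal SM ?_ (fun g hg => ?_) hle1
    · rw [hSMc, Ne, subgroupOf_eq_bot, disjoint_iff, inf_eq_left.mpr hSM]; exact hS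
    · rw [hSMc]
      refine mem_centralizer_iff.mpr fun y hy => Subtype.ext ?_
      exact mem_centralizer_iff.mp (hN g (hMN ▸ g.2) (by rwa [Subgroup.orderOf_coe])) y hy
  set π := QuotientGroup.mk' W1
  let Sb : Sylow p (↥M ⧸ W1) := SM.mapSurjective (QuotientGroup.mk'_surjective W1)
  have hSb : (Sb : Subgroup (↥M ⧸ W1)) = (P.subgroupOf M).map π := Sylow.coe_mapSurjective _ _
  have hWP : W1 ≤ P.subgroupOf M := fun x hx => cfun_le hW' S.isPGroup' hx
  have hSbne : (Sb : Subgroup (↥M ⧸ W1)) ≠ ⊥ := by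
    rw [hSb, Ne, Subgroup.map_eq_bot_iff, QuotientGroup.ker_mk']
    exact fun h => hWS fun x hx => (h (show (⟨x, hSM hx⟩ : M) ∈ P.subgroupOf M from hx) : _)
  have hW1ne : W1 ≠ ⊥ := by
    rw [Ne, subgroupOf_eq_bot, disjoint_iff,
      inf_eq_left.mpr ((cfun_le hW' S.isPGroup').trans hSM)]
    exact cfun_ne_bot hW' S.isPGroup' hS
  have hlt : Nat.card (↥M ⧸ W1) < Nat.card G := by
    refine lt_of_lt_of_le ?_ M.card_le_card_group
    rw [W1.card_eq_card_quotient_mul_card_subgroup]
    exact lt_mul_of_one_lt_right Nat.card_pos (W1.one_lt_card_iff_ne_bot.mpr hW1ne)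
  refine ih _ hlt
    (fun H _ _ hH => hctl H (involves_trans hH (involves_trans (involves_quotient W1) (involves_subgroup M))))
    Sb hSbne (fun x hx hxc => ?_) rfl ?_
  · obtain ⟨y, rfl⟩ := QuotientGroup.mk'_surjective W1 x
    have hyN : y ∈ normalizer ((P.subgroupOf M : Subgroup M) : Set M) := by
      rw [mem_normalizer_iff]
      intro z
      have hz : ∀ w : M, w ∈ P.subgroupOf M ↔ π w ∈ (Sb : Subgroup (↥M ⧸ W1)) := fun w => by
        rw [hSb, ← mem_comap, comap_map_eq, QuotientGroup.ker_mk', sup_eq_left.mpr hWP]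
      rw [hz, hz, map_mul, map_mul, map_inv]
      exact mem_normalizer_iff.mp hx (π z)
    obtain ⟨k, m, hm, hkm⟩ := Nat.exists_eq_pow_mul_and_not_dvd (orderOf_pos y).ne' p
      (Fact.out : p.Prime).ne_one
    have hord : (orderOf (y ^ p ^ k)).Coprime p := by
      rw [orderOf_pow_of_dvd (pow_ne_zero _ (Fact.out : p.Prime).ne_zero) (hkm ▸ dvd_mul_right _ _),
        hkm, Nat.mul_div_cancel_left _ (pow_pos (Fact.out : p.Prime).pos _)]
      exact (((Fact.out : p.Prime).coprime_iff_not_dvd).mpr hm).symm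
    have hzc : y ^ p ^ k ∈ centralizer ((P.subgroupOf M : Subgroup M) : Set M) := by
      refine mem_centralizer_iff.mpr fun z hz => Subtype.ext ?_
      refine mem_centralizer_iff.mp (hN _ ?_ (by rwa [Subgroup.orderOf_coe])) z hz
      have h := pow_mem hyN (p ^ k)
      refine mem_normalizer_iff_cmap.mpr (eq_of_le_of_card_ge (cmap_le_iff.mpr fun w hw => ?_)
        (card_cmap _ _).ge)
      exact (mem_normalizer_iff.mp h ⟨w, hSM hw⟩).mp hw
    obtain ⟨j, hj⟩ := exists_pow_eq_self_of_coprime (x := π y) (n := p ^ k) (hxc.pow_right k).symm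
    rw [← hj]
    refine pow_mem (mem_centralizer_iff.mpr fun z hz => ?_) j
    rw [hSb] at hz
    obtain ⟨w, hw, rfl⟩ := hz
    rw [← map_pow, ← map_mul, ← map_mul, mem_centralizer_iff.mp hzc w hw]
  · rw [hSb]
    refine (Subgroup.map_mono hle1).trans ?_
    rw [map_commutator]
    exact commutator_mono le_top le_top

/-- A normal subgroup of index `p` when a Sylow subgroup is not in the derived subgroup. -/
theorem exists_index_p (S : Sylow p G) (h : ¬ (S : Subgroup G) ≤ ⁅(⊤ : Subgroup G), ⊤⁆) :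
    ∃ N : Subgroup G, N.Normal ∧ N.index = p := by
  set C : Subgroup G := ⁅(⊤ : Subgroup G), (⊤ : Subgroup G)⁆ with hC
  haveI : C.Normal := by rw [hC]; infer_instance
  letI : CommGroup (G ⧸ C) := { (inferInstance : Group (G ⧸ C)) with
    mul_comm := fun a b => by
      induction a using QuotientGroup.induction_on with
      | H a =>
        induction b using QuotientGroup.induction_on with
        | H b =>
          rw [← QuotientGroup.mk_mul, ← QuotientGroup.mk_mul, QuotientGroup.eq]
          have := commutator_mem_commutator (mem_top b⁻¹) (mem_top a⁻¹) (H₁ := (⊤ : Subgroup G))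
          simpa [commutatorElement_def, mul_assoc] using this }
  obtain ⟨k, m, hm, hkm⟩ := Nat.exists_eq_pow_mul_and_not_dvd (Nat.card_pos (α := G ⧸ C)).ne' p
    (Fact.out : p.Prime).ne_one
  let φ : G →* G ⧸ C := (powMonoidHom m).comp (QuotientGroup.mk' C)
  have hR : IsPGroup p φ.range := by
    rintro ⟨_, x, rfl⟩
    refine ⟨k, Subtype.ext ?_⟩
    show ((QuotientGroup.mk' C x) ^ m) ^ p ^ k = 1
    rw [← pow_mul, mul_comm, ← hkm, pow_card_eq_one']
  obtain ⟨s, hs, hsC⟩ := SetLike.not_le_iff_exists.mp h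
  have hne : (⊥ : Subgroup φ.range) ≠ ⊤ := by
    intro hbt
    refine hsC ((QuotientGroup.eq_one_iff s).mp ?_)
    have h0 : (⟨φ s, s, rfl⟩ : φ.range) ∈ (⊥ : Subgroup φ.range) := by rw [hbt]; exact mem_top _
    have h1 : φ s = 1 := congrArg Subtype.val (mem_bot.mp h0)
    obtain ⟨i, hi⟩ := S.isPGroup' ⟨s, hs⟩
    have hsi : s ^ p ^ i = 1 := congrArg Subtype.val hi
    have h2 : (s : G ⧸ C) ^ p ^ i = 1 := by
      rw [← QuotientGroup.mk_pow, hsi]; rfl
    exact CharPBasic.eq_one_of_pow_eq_one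
      ((((Fact.out : p.Prime).coprime_iff_not_dvd).mpr hm).pow_left i) h2 h1
  obtain ⟨K, hKn, hKi, -⟩ := PGroupsBasic.exists_normal_index_eq hR hne
  haveI := hKn
  exact ⟨K.comap φ.rangeRestrict, inferInstance,
    (index_comap_of_surjective K φ.rangeRestrict_surjective).trans hKi⟩

end Cfsg.Agent.ConjFunctorNilpotence
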