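import Mathlib
import Cfsg.Agent.Lib.CharBasicLinear
import Cfsg.Agent.Lib.CharInducedBurnside
import Cfsg.Agent.Lib.CharInducedRep

/-!
# A regular self-centralising abelian subgroup isolates central elements of the complement

Let `G` be a simple group, `x` an element with centraliser `A`, and `B` an abelian subgroup with
`C(y) = B` for its non-identity elements, meeting the conjugates of `A` trivially, of order
`|G : A|`. Then `x` commutes with none of its other conjugates: the non-principal constituents of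
the permutation character on the cosets of `A` all have the same degree, which is prime to `|B|`,
so Burnside's lemma makes all of them vanish at `x`.
-/

set_option autoImplicit false

namespace Cfsg.Agent.RegularAbelian35

open Cfsg Cfsg.Agent.CharBasic Cfsg.Agent.CharBasicOrth Cfsg.Agent.CharBasicDecomp
  Cfsg.Agent.CharInduced
open scoped ComplexConjugate

universe u

variable {G : Type u} [Group G] [Fintype G] {A B : Subgroup G}

/-- A linear character as a function. -/
def lin (a : B →* ℂˣ) : B → ℂ := fun y => (a y : ℂ)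

theorem lin_inj {a b : B →* ℂˣ} (h : lin a = lin b) : a = b :=
  MonoidHom.ext fun y => Units.ext (congrFun h y)

theorem inner_lin [Fintype B] (a b : B →* ℂˣ) [Decidable (a = b)] :
    classInner (lin a) (lin b) = if a = b then 1 else 0 := by
  split_ifs with h
  · subst h; exact classInner_irr_self (isIrrCharacter_linear a)
  · exact classInner_irr_ne (isIrrCharacter_linear a) (isIrrCharacter_linear b) fun e => h (lin_inj e)

/-- Conjugation by a normalising element. -/
def cj (n : G) (hn : n ∈ Subgroup.normalizer (B : Set G)) : B →* B where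
  toFun y := ⟨n⁻¹ * y.1 * n, by
    simpa using (Subgroup.mem_normalizer_iff.1 (inv_mem hn) y.1).1 y.2⟩
  map_one' := Subtype.ext (by simp)
  map_mul' a b := Subtype.ext (by simp [mul_assoc])

theorem cj_injective (n : G) (hn : n ∈ Subgroup.normalizer (B : Set G)) :
    Function.Injective (cj n hn) := fun a b h => Subtype.ext (by
  simpa [cj] using congrArg Subtype.val h)

variable (hBab : ∀ a ∈ B, ∀ b ∈ B, a * b = b * a)
  (hcc : ∀ y ∈ B, y ≠ 1 → Subgroup.centralizer ({y} : Set G) ≤ B)
include hBab

theorem le_centralizer {y : G} (hy : y ∈ B) : B ≤ Subgroup.centralizer ({y} : Set G) :=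
  fun b hb => Subgroup.mem_centralizer_singleton_iff.2 (hBab b hb y hy)

include hcc

theorem mem_normalizer_of_conj {y : G} (hy : y ∈ B) (hy1 : y ≠ 1) {c : G}
    (hc : c⁻¹ * y * c ∈ B) : c ∈ Subgroup.normalizer (B : Set G) := by
  have hne : c⁻¹ * y * c ≠ 1 := fun h => hy1 (by
    calc y = c * (c⁻¹ * y * c) * c⁻¹ := by group
      _ = 1 := by rw [h]; group)
  have hfwd : ∀ z ∈ B, c * z * c⁻¹ ∈ B := fun z hz => hcc y hy hy1 <|
    Subgroup.mem_centralizer_singleton_iff.2 <| by
      calc c * z * c⁻¹ * y = c * (z * (c⁻¹ * y * c)) * c⁻¹ := by group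
        _ = c * ((c⁻¹ * y * c) * z) * c⁻¹ := by rw [hBab z hz _ hc]
        _ = y * (c * z * c⁻¹) := by group
  refine Subgroup.mem_normalizer_iff.2 fun z => ⟨hfwd z, fun hz => ?_⟩
  refine hcc _ hc hne (Subgroup.mem_centralizer_singleton_iff.2 ?_)
  calc z * (c⁻¹ * y * c) = c⁻¹ * ((c * z * c⁻¹) * y) * c := by group
    _ = c⁻¹ * (y * (c * z * c⁻¹)) * c := by rw [hBab _ hz y hy]
    _ = c⁻¹ * y * c * z := by group

/-- Only elements of `B` fix a nontrivial linear character of `B`. -/
theorem fixed_lin {n : G} (hn : n ∈ Subgroup.normalizer (B : Set G)) (hnB : n ∉ B)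
    {a : B →* ℂˣ} (ha : a.comp (cj n hn) = a) : a = 1 := by
  classical
  let f : B → B := fun y => cj n hn y * y⁻¹
  have hf : Function.Injective f := by
    intro y z h
    have hcomm : ∀ p q : B, p * q = q * p := fun p q => Subtype.ext (hBab p p.2 q q.2)
    have h' : cj n hn (y * z⁻¹) = y * z⁻¹ := by
      have e : cj n hn y = cj n hn z * z⁻¹ * y := by
        have h2 : cj n hn y * y⁻¹ = cj n hn z * z⁻¹ := h
        calc cj n hn y = cj n hn y * y⁻¹ * y := by group
          _ = cj n hn z * z⁻¹ * y := by rw [h2]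
      rw [map_mul, map_inv, e, mul_assoc, mul_assoc, ← mul_assoc z⁻¹ y, hcomm (z⁻¹ * y),
        mul_inv_cancel_left, hcomm]
    by_contra hne
    have hne' : ((y * z⁻¹ : B) : G) ≠ 1 := fun h => hne (mul_inv_eq_one.1 (Subtype.ext h))
    refine hnB (hcc _ (y * z⁻¹).2 hne' (Subgroup.mem_centralizer_singleton_iff.2 ?_))
    have h2 : n⁻¹ * ((y * z⁻¹ : B) : G) * n = ((y * z⁻¹ : B) : G) := congrArg Subtype.val h'
    calc n * ((y * z⁻¹ : B) : G) = n * (n⁻¹ * ((y * z⁻¹ : B) : G) * n) := by rw [h2]
      _ = ((y * z⁻¹ : B) : G) * n := by group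
  refine MonoidHom.ext fun w => ?_
  obtain ⟨y, rfl⟩ := Finite.injective_iff_surjective.1 hf w
  show a (cj n hn y * y⁻¹) = 1
  rw [map_mul, map_inv, show a (cj n hn y) = a y from DFunLike.congr_fun ha y, mul_inv_cancel]

/-- The norm of the difference of two induced linear characters. -/
theorem norm_ind [Fintype B] {a b : B →* ℂˣ} (ha : a ≠ 1) (hb : b ≠ 1)
    (hab : ∀ (n : G) (hn : n ∈ Subgroup.normalizer (B : Set G)),
      b.comp (cj n hn) ≠ a ∧ a.comp (cj n hn) ≠ b) :
    classInner (indFun B (lin a - lin b)) (indFun B (lin a - lin b)) = 2 := by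
  classical
  set f := lin a - lin b with hf
  have hf1 : f 1 = 0 := by simp [hf, lin]
  rw [inner_ind_left B f (isClassFunction_ind _ _)]
  set N := Finset.univ.filter fun n : G => n ∈ Subgroup.normalizer (B : Set G) with hN
  have e1 : classInner f (fun y : B => indFun B f y) =
      (Nat.card B : ℂ)⁻¹ *
        ∑ n ∈ N, classInner f (fun y : B => extendByZero B f (n⁻¹ * y * n)) := by
    simp only [classInner, Finset.mul_sum]
    rw [Finset.sum_comm]
    refine Finset.sum_congr rfl fun y _ => ?_
    by_cases hy : y = 1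
    · subst hy
      simp [hf1]
    · have hval : indFun B f (y : G) =
          (Nat.card B : ℂ)⁻¹ * ∑ n ∈ N, extendByZero B f (n⁻¹ * y * n) := by
        rw [indFun_apply, hN, Finset.sum_filter_of_ne]
        intro c _ hne
        by_contra hc
        refine hne (ext_zero_of_not_mem f fun hmem => hc ?_)
        exact mem_normalizer_of_conj hBab hcc y.2 (fun h => hy (Subtype.ext h)) hmem
      rw [hval, map_mul, map_inv₀, Complex.conj_natCast, map_sum, Finset.mul_sum,
        Finset.mul_sum, Finset.mul_sum]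
      refine Finset.sum_congr rfl fun n _ => ?_
      ring
  rw [e1]
  have e2 : ∀ n ∈ N, classInner f (fun y : B => extendByZero B f (n⁻¹ * y * n)) =
      if n ∈ B then 2 else 0 := by
    intro n hn
    have hn' : n ∈ Subgroup.normalizer (B : Set G) := (Finset.mem_filter.1 hn).2
    have e : (fun y : B => extendByZero B f (n⁻¹ * y * n)) =
        lin (a.comp (cj n hn')) - lin (b.comp (cj n hn')) := by
      funext y
      exact ext_zero_coe f (cj n hn' y)
    rw [e, hf, classInner_sub_left, classInner_sub_right, classInner_sub_right, inner_lin,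
      inner_lin, inner_lin, inner_lin, if_neg (Ne.symm (hab n hn').1),
      if_neg (Ne.symm (hab n hn').2)]
    by_cases hnB : n ∈ B
    · have hfix : ∀ c : B →* ℂˣ, c.comp (cj n hn') = c := by
        intro c
        refine MonoidHom.ext fun y => congrArg c (Subtype.ext ?_)
        show n⁻¹ * y.1 * n = y.1
        rw [mul_assoc, hBab _ y.2 _ hnB, inv_mul_cancel_left]
      rw [if_pos (hfix a).symm, if_pos (hfix b).symm, if_pos hnB]
      norm_num
    · rw [if_neg fun h => ha (fixed_lin hBab hcc hn' hnB h.symm),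
        if_neg fun h => hb (fixed_lin hBab hcc hn' hnB h.symm), if_neg hnB]
      norm_num
  rw [Finset.sum_congr rfl e2, ← Finset.sum_filter, Finset.sum_const, hN, Finset.filter_filter]
  have hc : (Finset.univ.filter fun n : G =>
      n ∈ Subgroup.normalizer (B : Set G) ∧ n ∈ B).card = Nat.card B := by
    rw [Nat.card_eq_fintype_card, ← Fintype.card_subtype]
    exact Fintype.card_congr (Equiv.subtypeEquivRight fun n =>
      ⟨fun h => h.2, fun h => ⟨Subgroup.le_normalizer h, h⟩⟩)
  rw [hc, nsmul_eq_mul]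
  have := Nat.cast_ne_zero (R := ℂ).2 (Nat.card_pos (α := B)).ne'
  field_simp

/-- All non-principal constituents of the permutation character on the cosets of `A` have one
degree, prime to the number of cosets. -/
theorem coprime_constituent [Fintype A] (hfree : ∀ g : G, ∀ y ∈ B, y ≠ 1 → g⁻¹ * y * g ∉ A)
    (hcard : Nat.card B = A.index) (θ : IrrCharacter G) (hθ : (θ : G → ℂ) ≠ fun _ => 1)
    (hn : classInner (indFun A fun _ => 1) (θ : G → ℂ) ≠ 0) :
    ∃ d : ℕ, (θ : G → ℂ) 1 = d ∧ d.Coprime A.index := by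
  classical
  haveI : Fintype B := Fintype.ofFinite _
  haveI : Finite (IrrCharacter G) := finite_irrCharacter
  set P : G → ℂ := indFun A fun _ => 1 with hP
  have hPchar : IsCharacter G P := isCharacter_ind A isCharacter_one
  have hψchar : ∀ l : B →* ℂˣ, IsCharacter G (indFun B (lin l)) := fun l =>
    isCharacter_ind B (isCharacter_linear l)
  choose n hn' using fun χ : IrrCharacter G =>
    classInner_isCharacter hPchar (isCharacter_of_isIrrCharacter χ.2)
  choose m hm using fun (l : B →* ℂˣ) (χ : IrrCharacter G) =>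
    classInner_isCharacter (hψchar l) (isCharacter_of_isIrrCharacter χ.2)
  have hrec : ∀ (l : B →* ℂˣ) (χ : IrrCharacter G),
      (m l χ : ℂ) = classInner (lin l) (fun y : B => (χ : G → ℂ) y) := fun l χ => by
    rw [← hm, inner_ind_left B _ (isClassFunction_of_isCharacter (isCharacter_of_isIrrCharacter χ.2))]
  -- on `B` the permutation character is the regular one
  have hPB : ∀ y : B, P y = if y = 1 then (Nat.card B : ℂ) else 0 := by
    intro y
    split_ifs with hy
    · subst hy
      rw [OneMemClass.coe_one, hP, ind_one_apply, mul_one, hcard]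
    · rw [hP, indFun_apply, Finset.sum_eq_zero, mul_zero]
      intro c _
      exact ext_zero_of_not_mem _ (hfree c y y.2 fun h => hy (Subtype.ext h))
  have hsum : ∀ l : B →* ℂˣ, ∑ χ, n χ * m l χ = 1 := by
    intro l
    have h1 : classInner P (indFun B (lin l)) = 1 := by
      rw [← conj_classInner, inner_ind_left B _ (isClassFunction_of_isCharacter hPchar)]
      simp only [classInner, hPB]
      rw [Finset.sum_eq_single 1]
      · simp [lin]
      · intro y _ hy; simp [hy]
      · simp
    rw [classInner_eq_sum (isClassFunction_of_isCharacter hPchar)] at h1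
    simp only [hn', hm, map_natCast] at h1
    exact_mod_cast h1
  have huniq : ∀ (l : B →* ℂˣ) (χ ξ : IrrCharacter G), n χ * m l χ ≠ 0 → n ξ * m l ξ ≠ 0 →
      χ = ξ := by
    intro l χ ξ h1 h2
    by_contra hne
    have := hsum l
    have hle : n χ * m l χ + n ξ * m l ξ ≤ ∑ χ, n χ * m l χ := by
      rw [← Finset.sum_pair (f := fun χ => n χ * m l χ) hne]
      exact Finset.sum_le_univ_sum_of_nonneg fun _ => Nat.zero_le _
    omega
  set tr := trivIrr G with htr
  have hntr : n tr = 1 := by
    have h1 := hn' tr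
    rw [hP, inner_ind_left A _ (isClassFunction_of_isCharacter
      (isCharacter_of_isIrrCharacter tr.2))] at h1
    have h2 : classInner (fun _ : A => (1 : ℂ)) (fun y : A => (tr : G → ℂ) y) = 1 :=
      classInner_irr_self isIrrCharacter_one
    rw [h2] at h1
    exact_mod_cast h1.symm
  have hmtr : m 1 tr = 1 := by
    have h1 := hrec 1 tr
    have h2 : classInner (lin (1 : B →* ℂˣ)) (fun y : B => (tr : G → ℂ) y) = 1 := by
      have e : lin (1 : B →* ℂˣ) = fun _ => 1 := funext fun _ => by simp [lin]
      rw [e]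
      exact classInner_irr_self isIrrCharacter_one
    rw [h2] at h1
    exact_mod_cast h1
  -- every non-principal constituent has a nontrivial linear character of `B` in it
  have hex : ∀ χ : IrrCharacter G, χ ≠ tr → n χ ≠ 0 → ∃ l : B →* ℂˣ, l ≠ 1 ∧ m l χ ≠ 0 := by
    intro χ hχ hnχ
    obtain ⟨l, hl⟩ : ∃ l : B →* ℂˣ, m l χ ≠ 0 := by
      by_contra hno
      push Not at hno
      have h0 : (fun y : B => (χ : G → ℂ) y) = 0 := by
        refine eq_zero_of_forall_classInner ?_ fun ξ hξ => ?_
        · exact fun p q => by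
            show (χ : G → ℂ) ((q * p * q⁻¹ : B) : G) = (χ : G → ℂ) p
            push_cast
            exact isClassFunction_of_isCharacter (isCharacter_of_isIrrCharacter χ.2) _ _
        · obtain ⟨l, rfl⟩ := CharBasicLinear.exists_hom_of_comm
            (fun p q : B => Subtype.ext (hBab p p.2 q q.2)) hξ
          rw [← conj_classInner]
          have h := hrec l χ
          rw [hno l, Nat.cast_zero] at h
          exact (congrArg conj h.symm).trans (map_zero _)
      exact isIrrCharacter_apply_one_ne_zero χ.2 (congrFun h0 1)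
    refine ⟨l, fun h1 => hχ ?_, hl⟩
    subst h1
    exact huniq 1 χ tr (mul_ne_zero hnχ hl) (by rw [hntr, hmtr]; norm_num)
  -- two constituents have the same degree
  have hdeg : ∀ χ ξ : IrrCharacter G, χ ≠ tr → ξ ≠ tr → n χ ≠ 0 → n ξ ≠ 0 →
      (χ : G → ℂ) 1 = (ξ : G → ℂ) 1 := by
    intro χ ξ hχ hξ hnχ hnξ
    by_cases hne : χ = ξ
    · rw [hne]
    obtain ⟨a, ha1, ha⟩ := hex χ hχ hnχ
    obtain ⟨b, hb1, hb⟩ := hex ξ hξ hnξ
    have hinv : ∀ (l : B →* ℂˣ) (φ : IrrCharacter G) (c : G)
        (hc : c ∈ Subgroup.normalizer (B : Set G)), m (l.comp (cj c hc)) φ = m l φ := by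
      intro l φ c hc
      have h : classInner (lin (l.comp (cj c hc))) (fun y : B => (φ : G → ℂ) y) =
          classInner (lin l) (fun y : B => (φ : G → ℂ) y) := by
        simp only [classInner]
        congr 1
        refine Fintype.sum_equiv (Equiv.ofBijective _
          (Finite.injective_iff_bijective.1 (cj_injective c hc))) _ _ fun y => ?_
        have hφ : (φ : G → ℂ) (c⁻¹ * y.1 * c) = (φ : G → ℂ) y.1 := by
          have := isClassFunction_of_isCharacter (isCharacter_of_isIrrCharacter φ.2) y.1 c⁻¹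
          rwa [inv_inv] at this
        show lin (l.comp (cj c hc)) y * conj ((φ : G → ℂ) y) =
          lin l (cj c hc y) * conj ((φ : G → ℂ) (cj c hc y : G))
        rw [show ((cj c hc y : B) : G) = c⁻¹ * y.1 * c from rfl, hφ]
        rfl
      rw [← hrec, ← hrec] at h
      exact_mod_cast h
    have hab : ∀ (c : G) (hc : c ∈ Subgroup.normalizer (B : Set G)),
        b.comp (cj c hc) ≠ a ∧ a.comp (cj c hc) ≠ b := by
      refine fun c hc => ⟨fun h => hne (huniq a χ ξ (mul_ne_zero hnχ ha) ?_),
        fun h => hne (huniq b χ ξ ?_ (mul_ne_zero hnξ hb))⟩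
      · rw [← h, hinv]; exact mul_ne_zero hnξ hb
      · rw [← h, hinv]; exact mul_ne_zero hnχ ha
    have hval : ∀ (l : B →* ℂˣ) (φ : IrrCharacter G), n φ ≠ 0 → m l φ ≠ 0 → m l φ = 1 ∧
        ∀ ψ : IrrCharacter G, n ψ ≠ 0 → ψ ≠ φ → m l ψ = 0 := by
      intro l φ hnφ hmφ
      refine ⟨?_, fun ψ hψ hψφ => ?_⟩
      · have hle : n φ * m l φ ≤ ∑ ψ, n ψ * m l ψ :=
          Finset.single_le_sum (f := fun ψ => n ψ * m l ψ) (fun _ _ => Nat.zero_le _)
            (Finset.mem_univ φ)
        rw [hsum l] at hle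
        have h1 : m l φ ≤ n φ * m l φ := Nat.le_mul_of_pos_left _ (Nat.pos_of_ne_zero hnφ)
        omega
      · by_contra h
        exact hψφ (huniq l ψ φ (mul_ne_zero hψ h) (mul_ne_zero hnφ hmφ))
    obtain ⟨haχ, haξ⟩ := hval a χ hnχ ha
    obtain ⟨hbξ, hbχ⟩ := hval b ξ hnξ hb
    set Φ := indFun B (lin a - lin b) with hΦ
    have hΦχ : classInner Φ (χ : G → ℂ) = 1 := by
      rw [hΦ, ind_sub, classInner_sub_left, hm, hm, haχ, hbχ χ hnχ hne]
      norm_num
    have hΦξ : classInner Φ (ξ : G → ℂ) = -1 := by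
      rw [hΦ, ind_sub, classInner_sub_left, hm, hm, haξ ξ hnξ (Ne.symm hne), hbξ]
      norm_num
    have hχΦ : classInner (χ : G → ℂ) Φ = 1 := by rw [← conj_classInner, hΦχ, map_one]
    have hξΦ : classInner (ξ : G → ℂ) Φ = -1 := by
      rw [← conj_classInner, hΦξ, map_neg, map_one]
    have hχξ : classInner (χ : G → ℂ) (ξ : G → ℂ) = 0 :=
      classInner_irr_ne χ.2 ξ.2 fun e => hne (Subtype.ext e)
    have hξχ : classInner (ξ : G → ℂ) (χ : G → ℂ) = 0 :=
      classInner_irr_ne ξ.2 χ.2 fun e => hne (Subtype.ext e.symm)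
    have hΦΦ : classInner Φ Φ = 2 := norm_ind hBab hcc ha1 hb1 hab
    have hz : classInner (Φ - ((χ : G → ℂ) - (ξ : G → ℂ))) (Φ - ((χ : G → ℂ) - (ξ : G → ℂ))) = 0 := by
      simp only [classInner_sub_left, classInner_sub_right, hΦχ, hΦξ, hχΦ, hξΦ, hχξ, hξχ,
        classInner_irr_self χ.2, classInner_irr_self ξ.2, hΦΦ]
      norm_num
    have h1 := congrFun (eq_zero_of_classInner_self hz) 1
    have hΦ1 : Φ 1 = 0 := by
      rw [hΦ, ind_one_apply]
      simp [lin]
    simp only [Pi.sub_apply, hΦ1, Pi.zero_apply, zero_sub, neg_sub] at h1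
    exact (sub_eq_zero.1 h1).symm
  have hθtr : θ ≠ tr := fun h => hθ (by rw [h]; rfl)
  have hnθ : n θ ≠ 0 := fun h => hn (by rw [hn', h, Nat.cast_zero])
  obtain ⟨d, hd⟩ := isCharacter_apply_one (isCharacter_of_isIrrCharacter θ.2)
  refine ⟨d, hd, ?_⟩
  have hP1 : (A.index : ℂ) = ∑ χ : IrrCharacter G, (n χ : ℂ) * (χ : G → ℂ) 1 := by
    have h := congrFun (eq_sum_classInner (isClassFunction_of_isCharacter hPchar)) 1
    rw [hP, ind_one_apply, mul_one] at h
    rw [h]
    simp only [Finset.sum_apply, Pi.smul_apply, smul_eq_mul]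
    exact Finset.sum_congr rfl fun χ _ => by rw [← hP, hn']
  rw [← Finset.add_sum_erase _ _ (Finset.mem_univ tr), hntr, Nat.cast_one, one_mul] at hP1
  have e : ∀ χ ∈ Finset.univ.erase tr, (n χ : ℂ) * (χ : G → ℂ) 1 = (n χ : ℂ) * d := by
    intro χ hχ
    by_cases h0 : n χ = 0
    · simp [h0]
    · rw [hdeg χ θ (Finset.ne_of_mem_erase hχ) hθtr h0 hnθ, hd]
  rw [Finset.sum_congr rfl e, ← Finset.sum_mul] at hP1
  have h2 : A.index = 1 + (∑ χ ∈ Finset.univ.erase tr, n χ) * d := by
    have h3 : (tr : G → ℂ) 1 = 1 := rfl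
    rw [h3] at hP1
    exact_mod_cast hP1
  rw [h2]
  exact Nat.Coprime.symm (by rw [Nat.coprime_add_mul_right_left]; exact Nat.coprime_one_left d)

/-- `x` commutes with none of its other conjugates. -/
theorem isolated [IsSimpleGroup G] (hna : ¬ ∀ a b : G, a * b = b * a) {x : G} (hx : x ≠ 1)
    (hfree : ∀ g : G, ∀ y ∈ B, y ≠ 1 → g⁻¹ * y * g ∉ Subgroup.centralizer ({x} : Set G))
    (hcard : Nat.card B = (Subgroup.centralizer ({x} : Set G)).index) (g : G)
    (hg : Commute x (g * x * g⁻¹)) : g * x * g⁻¹ = x := by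
  classical
  set A := Subgroup.centralizer ({x} : Set G) with hA
  haveI : Fintype A := Fintype.ofFinite _
  haveI : Finite (IrrCharacter G) := finite_irrCharacter
  set P : G → ℂ := indFun A fun _ => 1 with hP
  have hPchar : IsCharacter G P := isCharacter_ind A isCharacter_one
  have hzero : ∀ χ : IrrCharacter G, (χ : G → ℂ) ≠ (fun _ => 1) → classInner P (χ : G → ℂ) ≠ 0 →
      (χ : G → ℂ) x = 0 := by
    intro χ hχ hn
    obtain ⟨d, hd, hcop⟩ := coprime_constituent hBab hcc hfree hcard χ hχ hn
    obtain ⟨k, ρ, hρ, hρχ⟩ := χ.2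
    haveI := hρ
    have hdim : Module.finrank ℂ (Fin k → ℂ) = d := by
      rw [← hρχ, Representation.char_one] at hd
      exact_mod_cast hd
    rcases character_eq_zero_or_norm_eq ρ x (hdim ▸ hcop) with h | h
    · rw [← hρχ]; exact h
    · exact absurd h (not_norm_eq_of_simple hna ρ (hρχ ▸ hχ) x hx)
  have hPx : P x = 1 := by
    have h := congrFun (eq_sum_classInner (isClassFunction_of_isCharacter hPchar)) x
    rw [Finset.sum_apply, Finset.sum_eq_single (trivIrr G)] at h
    · rw [h, Pi.smul_apply, hP, inner_ind_left A _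
        (isClassFunction_of_isCharacter (isCharacter_of_isIrrCharacter (trivIrr G).2))]
      show classInner (fun _ : A => (1 : ℂ)) (fun _ : A => (1 : ℂ)) • (1 : ℂ) = 1
      rw [classInner_irr_self isIrrCharacter_one, one_smul]
    · intro χ _ hne
      rw [Pi.smul_apply, smul_eq_mul]
      by_cases hn : classInner P (χ : G → ℂ) = 0
      · rw [hn, zero_mul]
      · rw [hzero χ (fun e => hne (Subtype.ext e)) hn, mul_zero]
    · simp
  set S := Finset.univ.filter fun c : G => c⁻¹ * x * c ∈ A with hS
  have hScard : S.card = Nat.card A := by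
    have h : (Nat.card A : ℂ)⁻¹ * (S.card : ℂ) = 1 := by
      rw [← hPx, hP, indFun_apply]
      congr 1
      rw [hS, Finset.card_filter, Nat.cast_sum]
      refine Finset.sum_congr rfl fun c _ => ?_
      split_ifs with hc
      · rw [ext_zero_of_mem _ hc]; norm_num
      · rw [ext_zero_of_not_mem _ hc]; norm_num
    have hne := Nat.cast_ne_zero (R := ℂ).2 (Nat.card_pos (α := A)).ne'
    field_simp at h
    exact_mod_cast h
  have hSeq : Finset.univ.filter (fun c : G => c ∈ A) = S := by
    refine Finset.eq_of_subset_of_card_le (fun c hc => ?_) ?_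
    · have hc' : c * x = x * c := Subgroup.mem_centralizer_singleton_iff.1 (Finset.mem_filter.1 hc).2
      refine Finset.mem_filter.2 ⟨Finset.mem_univ _, ?_⟩
      rw [mul_assoc, ← hc', inv_mul_cancel_left]
      exact Subgroup.mem_centralizer_singleton_iff.2 rfl
    · rw [hScard, Nat.card_eq_fintype_card, ← Fintype.card_subtype]
  have hgS : g⁻¹ ∈ S := Finset.mem_filter.2 ⟨Finset.mem_univ _, by
    rw [inv_inv]
    exact Subgroup.mem_centralizer_singleton_iff.2 hg.eq.symm⟩
  rw [← hSeq] at hgS
  have h3 := Subgroup.mem_centralizer_singleton_iff.1 (inv_mem (Finset.mem_filter.1 hgS).2)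
  rw [inv_inv] at h3
  rw [h3, mul_inv_cancel_right]

end Cfsg.Agent.RegularAbelian35
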