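import Mathlib
import Cfsg.Agent.Lib.RegularAbelian35
import Cfsg.Agent.Lib.CharInducedBurnside
import Cfsg.Agent.S0007
import Cfsg.Agent.S0215
import Cfsg.Agent.S4160

/-!
# Simple groups with three class sizes other than one

In a simple group of even order in which the non-identity elements have only three centraliser
indices, every involution has an abelian centraliser.
-/

set_option autoImplicit false

open scoped commutatorElement

namespace Cfsg.Agent.ConjType35

universe u

variable {G : Type u} [Group G] [Finite G]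

/-- The centraliser of an element. -/
abbrev C (x : G) : Subgroup G := Subgroup.centralizer ({x} : Set G)

omit [Finite G] in
theorem mem_C {x y : G} : y ∈ C x ↔ Commute y x := Subgroup.mem_centralizer_singleton_iff

omit [Finite G] in
theorem C_le_pow (x : G) (k : ℤ) : C x ≤ C (x ^ k) := fun _ hy => mem_C.2 ((mem_C.1 hy).zpow_right k)

omit [Finite G] in
theorem self_mem (x : G) : x ∈ C x := mem_C.2 (Commute.refl x)

omit [Finite G] in
/-- Commuting elements of coprime orders are powers of their product. -/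
theorem C_mul_le {u w : G} {m n : ℕ} (hc : Commute u w) (hu : u ^ m = 1) (hw : w ^ n = 1)
    (hcop : m.Coprime n) : C (u * w) ≤ C u ∧ C (u * w) ≤ C w := by
  have key : ∀ {u w : G} {m n : ℕ}, Commute u w → u ^ m = 1 → w ^ n = 1 → m.Coprime n →
      C (u * w) ≤ C u := by
    intro u w m n hc hu hw hcop
    obtain ⟨a, b, hab⟩ : IsCoprime (m : ℤ) (n : ℤ) := Int.isCoprime_iff_nat_coprime.2 (by simpa using hcop)
    have e : (u * w) ^ (b * (n : ℤ)) = u := by
      rw [hc.mul_zpow, show b * (n : ℤ) = 1 - a * (m : ℤ) by omega]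
      conv_lhs => arg 2; rw [show (1 : ℤ) - a * (m : ℤ) = (n : ℤ) * b by linarith, zpow_mul,
        zpow_natCast, hw, one_zpow]
      rw [mul_one, sub_eq_add_neg, zpow_add, zpow_one, ← neg_mul, mul_comm (-a), zpow_mul,
        zpow_natCast, hu, one_zpow, mul_one]
    exact le_trans (C_le_pow (u * w) (b * (n : ℤ))) (le_of_eq (by rw [e]))
  refine ⟨key hc hu hw hcop, ?_⟩
  rw [hc.eq]
  exact key hc.symm hw hu hcop.symm

omit [Finite G] in
/-- An element is the product of its `p`-part and its `p'`-part. -/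
theorem exists_parts [Finite G] {p : ℕ} (hp : p.Prime) (g : G) :
    ∃ (u w : G) (k n : ℕ), Commute u w ∧ u * w = g ∧ u ^ p ^ k = 1 ∧ w ^ n = 1 ∧
      p.Coprime n ∧ u ∈ Subgroup.zpowers g ∧ w ∈ Subgroup.zpowers g := by
  obtain ⟨k, n, hn, he⟩ := Nat.exists_eq_pow_mul_and_not_dvd (isOfFinOrder_of_finite g).orderOf_pos.ne'
    p hp.ne_one
  have hcop : p.Coprime n := hp.coprime_iff_not_dvd.2 hn
  obtain ⟨a, b, hab⟩ : IsCoprime ((p ^ k : ℕ) : ℤ) (n : ℤ) :=
    Int.isCoprime_iff_nat_coprime.2 (by simpa using hcop.pow_left k)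
  have h1 : ∀ c : ℤ, g ^ ((orderOf g : ℤ) * c) = 1 := fun c => by
    rw [zpow_mul, zpow_natCast, pow_orderOf_eq_one, one_zpow]
  refine ⟨g ^ (b * (n : ℤ)), g ^ (a * ((p ^ k : ℕ) : ℤ)), k, n, Commute.zpow_zpow_self g _ _,
    ?_, ?_, ?_, hcop, ⟨_, rfl⟩, ⟨_, rfl⟩⟩
  · rw [← zpow_add, add_comm, hab, zpow_one]
  · rw [← zpow_natCast (g ^ (b * (n : ℤ))) (p ^ k), ← zpow_mul]
    push_cast
    rw [show b * (n : ℤ) * ((p : ℤ) ^ k) = ((p : ℤ) ^ k * n) * b by ring]
    have := h1 b
    rw [he] at this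
    push_cast at this
    exact this
  · rw [← zpow_natCast (g ^ _) n, ← zpow_mul]
    push_cast
    rw [show a * ((p : ℤ) ^ k) * (n : ℤ) = ((p : ℤ) ^ k * n) * a by ring]
    have := h1 a
    rw [he] at this
    push_cast at this
    exact this

theorem eq_of_le_of_index_eq {H K : Subgroup G} (h : H ≤ K) (he : H.index = K.index) : H = K := by
  refine Subgroup.eq_of_le_of_card_ge h (le_of_eq ?_)
  have h1 := H.card_mul_index
  rw [he, ← K.card_mul_index] at h1
  exact (Nat.eq_of_mul_eq_mul_right (Nat.pos_of_ne_zero Subgroup.index_ne_zero_of_finite) h1).symm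

/-- For each prime some non-identity element centralises a Sylow subgroup. -/
theorem exists_index_prime_to {p : ℕ} (hp : p.Prime) (hd : p ∣ Nat.card G) :
    ∃ z : G, z ≠ 1 ∧ ¬ p ∣ (C z).index ∧ ∃ k, z ^ p ^ k = 1 := by
  haveI := Fact.mk hp
  obtain ⟨P⟩ : Nonempty (Sylow p G) := inferInstance
  haveI : Nontrivial ↥(P : Subgroup G) := Finite.one_lt_card_iff_nontrivial.1
    (lt_of_lt_of_le hp.one_lt (Nat.le_of_dvd Nat.card_pos (P.dvd_card_of_dvd_card hd)))
  haveI := P.isPGroup'.center_nontrivial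
  obtain ⟨z, hz⟩ := exists_ne (1 : Subgroup.center ↥(P : Subgroup G))
  obtain ⟨k, hk⟩ := P.isPGroup' z.1
  refine ⟨(z.1 : G), fun h => hz (Subtype.ext (Subtype.ext h)), fun hdv => ?_, k, ?_⟩
  · have hle : (P : Subgroup G) ≤ C (z.1 : G) := fun y hy =>
      mem_C.2 (congrArg Subtype.val (Subgroup.mem_center_iff.1 z.2 ⟨y, hy⟩))
    exact P.not_dvd_index (hdv.trans (Subgroup.index_dvd_of_le hle))
  · exact_mod_cast congrArg Subtype.val hk

variable (G) in
/-- The indices occurring are among `a`, `b`, `c`. -/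
def Three (a b c : ℕ) : Prop :=
  ∀ x : G, x ≠ 1 → (C x).index = a ∨ (C x).index = b ∨ (C x).index = c

section Antichain

variable (hanti : ∀ x y : G, x ≠ 1 → y ≠ 1 → C x ≤ C y → C x = C y)
include hanti

theorem two_group_or_comm {t : G} (ht : t ≠ 1) {k : ℕ} (htk : t ^ 2 ^ k = 1) :
    (∀ g h : G, g ∈ C t → h ∈ C t → g * h = h * g) ∨
      ∀ g ∈ C t, ∃ j : ℕ, g ^ 2 ^ j = 1 := by
  by_cases hw : ∃ w ∈ C t, w ≠ 1 ∧ ∃ n : ℕ, (2 : ℕ).Coprime n ∧ w ^ n = 1
  · left
    obtain ⟨w₀, hw₀, hw₀1, n₀, hn₀, hw₀n⟩ := hw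
    have hodd : ∀ w ∈ C t, w ≠ 1 → (∃ n : ℕ, (2 : ℕ).Coprime n ∧ w ^ n = 1) → C w = C t := by
      rintro w hw hw1 ⟨n, hn, hwn⟩
      obtain ⟨h1, h2⟩ := C_mul_le (mem_C.1 hw).symm htk hwn (hn.pow_left k)
      have hne : t * w ≠ 1 := fun h => ht (by
        have := (mem_C.1 hw).symm.mul_pow n
        rw [h, one_pow, hwn, mul_one] at this
        obtain ⟨a, b, hab⟩ : IsCoprime ((2 ^ k : ℕ) : ℤ) (n : ℤ) :=
          Int.isCoprime_iff_nat_coprime.2 (by simpa using hn.pow_left k)
        calc t = t ^ (a * ((2 ^ k : ℕ) : ℤ) + b * (n : ℤ)) := by rw [hab, zpow_one]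
          _ = 1 := by
            rw [zpow_add, mul_comm a, mul_comm b, zpow_mul, zpow_mul, zpow_natCast, zpow_natCast,
              htk, ← this, one_zpow, one_zpow, mul_one])
      rw [← hanti _ _ hne ht h1, hanti _ _ hne hw1 h2]
    have hcent : ∀ g ∈ C t, C t ≤ C g := by
      intro g hg
      obtain ⟨u, w, j, n, huw, hgu, huj, hwn, hn, hu, hw⟩ := exists_parts Nat.prime_two g
      have hu' : u ∈ C t := Subgroup.zpowers_le.2 hg hu
      have hw' : w ∈ C t := Subgroup.zpowers_le.2 hg hw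
      have hwle : C t ≤ C w := by
        by_cases hw1 : w = 1
        · intro y _; rw [hw1]; exact mem_C.2 (Commute.one_right y)
        · exact (hodd w hw' hw1 ⟨n, hn, hwn⟩).ge
      have hule : C t ≤ C u := by
        by_cases hu1 : u = 1
        · intro y _; rw [hu1]; exact mem_C.2 (Commute.one_right y)
        · have hcw : C w₀ = C t := hodd w₀ hw₀ hw₀1 ⟨n₀, hn₀, hw₀n⟩
          have huw₀ : Commute u w₀ := by
            have : u ∈ C w₀ := hcw ▸ hu'
            exact mem_C.1 this
          obtain ⟨h1, h2⟩ := C_mul_le huw₀ huj hw₀n (hn₀.pow_left j)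
          have hne : u * w₀ ≠ 1 := fun h => hu1 (by
            have hu0 : u = w₀⁻¹ := eq_inv_of_mul_eq_one_left h
            obtain ⟨a, b, hab⟩ : IsCoprime ((2 ^ j : ℕ) : ℤ) (n₀ : ℤ) :=
              Int.isCoprime_iff_nat_coprime.2 (by simpa using hn₀.pow_left j)
            calc u = u ^ (a * ((2 ^ j : ℕ) : ℤ) + b * (n₀ : ℤ)) := by rw [hab, zpow_one]
              _ = 1 := by
                rw [zpow_add, mul_comm a, mul_comm b, zpow_mul, zpow_mul, zpow_natCast,
                  zpow_natCast, huj, one_zpow, one_mul, hu0, inv_pow, hw₀n, inv_one, one_zpow])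
          rw [← hcw, ← hanti _ _ hne hw₀1 h2]
          exact h1
      intro y hy
      rw [← hgu]
      exact mem_C.2 ((mem_C.1 (hule hy)).mul_right (mem_C.1 (hwle hy)))
    exact fun g h hg hh => (mem_C.1 (hcent h hh hg)).eq
  · right
    push Not at hw
    intro g hg
    obtain ⟨u, w, j, n, -, hgu, huj, hwn, hn, -, hw'⟩ := exists_parts Nat.prime_two g
    refine ⟨j, ?_⟩
    by_cases hw1 : w = 1
    · rw [← hgu, hw1, mul_one, huj]
    · exact absurd hwn (hw w (Subgroup.zpowers_le.2 hg hw') hw1 n hn)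

theorem comm_of_involution {t : G} (ht : orderOf t = 2) :
    ∀ g h : G, g ∈ C t → h ∈ C t → g * h = h * g := by
  haveI := Fact.mk Nat.prime_two
  have ht1 : t ≠ 1 := fun h => by simp [h] at ht
  have ht2 : t ^ 2 ^ 1 = 1 := by rw [pow_one, ← ht]; exact pow_orderOf_eq_one t
  rcases two_group_or_comm hanti ht1 ht2 with h | h2
  · exact h
  by_contra hnc
  have hCt : IsPGroup 2 ↥(C t) := fun g => by
    obtain ⟨j, hj⟩ := h2 g g.2
    exact ⟨j, Subtype.ext (by rw [SubmonoidClass.coe_pow]; exact hj)⟩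
  obtain ⟨P, hP⟩ := hCt.exists_le_sylow
  -- the centraliser is a Sylow subgroup
  haveI : Nontrivial ↥(P : Subgroup G) := ⟨⟨⟨t, hP (self_mem t)⟩, 1, fun h => ht1 (congrArg Subtype.val h)⟩⟩
  haveI := P.isPGroup'.center_nontrivial
  obtain ⟨z, hz⟩ := exists_ne (1 : Subgroup.center ↥(P : Subgroup G))
  obtain ⟨kz, hkz⟩ := P.isPGroup' z.1
  have hz1 : (z.1 : G) ≠ 1 := fun h => hz (Subtype.ext (Subtype.ext h))
  have hPz : (P : Subgroup G) ≤ C (z.1 : G) := fun y hy =>
    mem_C.2 (congrArg Subtype.val (Subgroup.mem_center_iff.1 z.2 ⟨y, hy⟩))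
  have hCz : C (z.1 : G) = P := by
    rcases two_group_or_comm hanti hz1 (k := kz) (by exact_mod_cast congrArg Subtype.val hkz) with
      h | h
    · exact absurd (fun g k hg hk => h g k (hPz (hP hg)) (hPz (hP hk))) hnc
    · exact P.is_maximal' (fun g => by
        obtain ⟨j, hj⟩ := h g g.2
        exact ⟨j, Subtype.ext (by rw [SubmonoidClass.coe_pow]; exact hj)⟩) hPz
  have hPt : C t = (P : Subgroup G) :=
    (hanti t _ ht1 hz1 (hCz.symm ▸ hP)).trans hCz
  have hpow : ∀ g : G, ∀ k : ℤ, g ≠ 1 → g ^ k ≠ 1 → C (g ^ k) = C g := fun g k hg hgk =>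
    (hanti g _ hg hgk (C_le_pow g k)).symm
  -- an involution of the second centre
  have hPnc : ¬ ∀ g h : ↥(P : Subgroup G), g * h = h * g := fun h => hnc fun g k hg hk =>
    congrArg Subtype.val (h ⟨g, hP hg⟩ ⟨k, hP hk⟩)
  set Z := Subgroup.center ↥(P : Subgroup G) with hZ
  obtain ⟨u, huZ, hu2, huc⟩ : ∃ u : ↥(P : Subgroup G), u ∉ Z ∧ u ^ 2 ∈ Z ∧
      ∀ g, ⁅u, g⁆ ∈ Z := by
    haveI : Nontrivial (↥(P : Subgroup G) ⧸ Z) := by
      by_contra hsub
      rw [not_nontrivial_iff_subsingleton] at hsub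
      refine hPnc fun g k => ?_
      have : k ∈ Z := (QuotientGroup.eq_one_iff k).1 (Subsingleton.elim _ _)
      exact Subgroup.mem_center_iff.1 this g
    haveI := (P.isPGroup'.to_quotient Z).center_nontrivial
    obtain ⟨i, hi⟩ := IsPGroup.iff_card.1 ((P.isPGroup'.to_quotient Z).to_subgroup
      (Subgroup.center (↥(P : Subgroup G) ⧸ Z)))
    have hd : 2 ∣ Nat.card (Subgroup.center (↥(P : Subgroup G) ⧸ Z)) := by
      rw [hi]
      refine dvd_pow_self 2 fun h0 => ?_
      rw [h0, pow_zero] at hi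
      exact absurd (Finite.one_lt_card (α := Subgroup.center (↥(P : Subgroup G) ⧸ Z))) (by omega)
    obtain ⟨v, hv⟩ := exists_prime_orderOf_dvd_card' 2 hd
    obtain ⟨u, hu⟩ := QuotientGroup.mk_surjective v.1
    refine ⟨u, fun h => ?_, ?_, fun g => ?_⟩
    · rw [(QuotientGroup.eq_one_iff u).2 h] at hu
      have : v = 1 := Subtype.ext hu.symm
      simp [this] at hv
    · refine (QuotientGroup.eq_one_iff _).1 ?_
      have h := pow_orderOf_eq_one v
      rw [hv] at h
      rw [QuotientGroup.mk_pow, hu]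
      exact congrArg Subtype.val h
    · refine (QuotientGroup.eq_one_iff _).1 ?_
      rw [← QuotientGroup.mk'_apply, map_commutatorElement, QuotientGroup.mk'_apply,
        QuotientGroup.mk'_apply, hu, commutatorElement_eq_one_iff_mul_comm]
      exact (Subgroup.mem_center_iff.1 v.2 _).symm
  have hu1 : (u : G) ≠ 1 := fun h => huZ (by
    rw [show u = 1 from Subtype.ext h]; exact one_mem _)
  obtain ⟨g, hg⟩ : ∃ g, u * g ≠ g * u := by
    by_contra hno
    push Not at hno
    exact huZ (Subgroup.mem_center_iff.2 fun g => (hno g).symm)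
  have hcentral : ∀ c : ↥(P : Subgroup G), c ∈ Z → (c : G) ≠ 1 → C (c : G) = P := by
    intro c hc hc1
    have hle : (P : Subgroup G) ≤ C (c : G) := fun y hy =>
      mem_C.2 (congrArg Subtype.val (Subgroup.mem_center_iff.1 hc ⟨y, hy⟩))
    have h := hanti t (c : G) ht1 hc1 (hPt.le.trans hle)
    exact h.symm.trans hPt
  have huu : u * u = 1 := by
    by_contra h
    have h1 : (u : G) ^ (2 : ℤ) ≠ 1 := fun e => h (Subtype.ext (by
      rw [zpow_two] at e; simpa using e))
    have h2 := hcentral (u ^ 2) hu2 (by simpa [zpow_two, pow_two] using h1)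
    have h3 : C (u : G) = P := by
      refine (hpow (u : G) 2 hu1 h1).symm.trans ?_
      simpa [zpow_two, pow_two] using h2
    refine huZ (Subgroup.mem_center_iff.2 fun y => Subtype.ext ?_)
    have : (y : G) ∈ C (u : G) := h3.symm ▸ y.2
    exact (mem_C.1 this).eq
  set c := ⁅u, g⁆ with hcdef
  have hcZ : c ∈ Z := huc g
  have hcc : ∀ y, Commute c y := fun y => (Subgroup.mem_center_iff.1 hcZ y).symm
  have hconj : u * g * u⁻¹ = c * g := by
    rw [hcdef, commutatorElement_def]; group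
  have hc2 : c * c = 1 := by
    have h1 : u * (u * g * u⁻¹) * u⁻¹ = c * (c * g) := by
      conv_lhs => rw [hconj]
      calc u * (c * g) * u⁻¹ = (u * c) * g * u⁻¹ := by group
        _ = (c * u) * g * u⁻¹ := by rw [(hcc u).eq]
        _ = c * (u * g * u⁻¹) := by group
        _ = c * (c * g) := by rw [hconj]
    have h2 : u * (u * g * u⁻¹) * u⁻¹ = g := by
      rw [show u⁻¹ = u from inv_eq_of_mul_eq_one_right huu]
      calc u * (u * g * u) * u = (u * u) * g * (u * u) := by group
        _ = g := by rw [huu, one_mul, mul_one]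
    exact mul_eq_right.1 ((mul_assoc c c g).trans (h1.symm.trans h2))
  have hcne : c ≠ 1 := fun h => hg (commutatorElement_eq_one_iff_mul_comm.1 h)
  have hgg : g * g = 1 := by
    by_contra h
    have hg1 : (g : G) ≠ 1 := fun e => hg (by rw [show g = 1 from Subtype.ext e]; simp)
    have h1 : (g : G) ^ (2 : ℤ) ≠ 1 := fun e => h (Subtype.ext (by
      rw [zpow_two] at e; simpa using e))
    have hu_g2 : Commute u (g * g) := by
      show u * (g * g) = g * g * u
      calc u * (g * g) = (u * g * u⁻¹) * (u * g * u⁻¹) * u := by group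
        _ = c * (g * c) * g * u := by rw [hconj]; group
        _ = (c * c) * (g * g) * u := by rw [← (hcc g).eq]; group
        _ = g * g * u := by rw [hc2, one_mul]
    have h3 : (u : G) ∈ C ((g : G) ^ (2 : ℤ)) := by
      rw [zpow_two]
      exact mem_C.2 (congrArg Subtype.val hu_g2.eq)
    rw [hpow _ _ hg1 h1] at h3
    exact hg (Subtype.ext (mem_C.1 h3).eq)
  have hsq : (u * g) * (u * g) = c := by
    rw [hcdef, commutatorElement_def, show u⁻¹ = u from inv_eq_of_mul_eq_one_right huu,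
      show g⁻¹ = g from inv_eq_of_mul_eq_one_right hgg]
    group
  have hug : ((u * g : ↥(P : Subgroup G)) : G) ≠ 1 := fun e => hcne (by
    rw [← hsq, show u * g = 1 from Subtype.ext e, one_mul])
  have hug2 : ((u * g : ↥(P : Subgroup G)) : G) ^ (2 : ℤ) = (c : G) := by
    rw [zpow_two, ← Subgroup.coe_mul, hsq]
  have hc1' : (c : G) ≠ 1 := fun e => hcne (Subtype.ext e)
  have hCug : C ((u * g : ↥(P : Subgroup G)) : G) = P := by
    refine (hpow _ 2 hug (by rw [hug2]; exact hc1')).symm.trans ?_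
    rw [hug2]
    exact hcentral c hcZ hc1'
  have hgm : (g : G) ∈ C ((u * g : ↥(P : Subgroup G)) : G) := hCug.symm ▸ g.2
  refine hg (Subtype.ext ?_)
  have h := (mem_C.1 hgm).eq
  simp only [Subgroup.coe_mul] at h ⊢
  rw [← mul_assoc] at h
  exact (mul_right_cancel h).symm

end Antichain

section Divisibility

variable [IsSimpleGroup G] (hna : ¬ ∀ p q : G, p * q = q * p)
include hna

omit [Finite G] in
theorem one_lt_index [Finite G] {x : G} (hx : x ≠ 1) : 1 < (C x).index := by
  by_contra h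
  have h0 : (C x).index ≠ 0 := Subgroup.index_ne_zero_of_finite
  have htop : C x = ⊤ := Subgroup.index_eq_one.1 (by omega)
  rcases Subgroup.Normal.eq_bot_or_eq_top (inferInstance : (Subgroup.center G).Normal) with hz | hz
  · have : x ∈ Subgroup.center G := Subgroup.mem_center_iff.2 fun y =>
      (mem_C.1 (htop ▸ Subgroup.mem_top y : y ∈ C x)).eq
    rw [hz] at this
    exact hx (Subgroup.mem_bot.1 this)
  · exact hna fun p q => (Subgroup.mem_center_iff.1 (hz ▸ Subgroup.mem_top q : q ∈ Subgroup.center G) p)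

/-- A class is not moved into a class of the same size by a whole other class. -/
theorem no_translate {x y : G} (hy : y ≠ 1) (hx : x ≠ 1)
    (h : ∀ y' : G, IsConj y y' → ∀ x' : G, IsConj x x' → IsConj (x * y) (x' * y'))
    (hcard : Nat.card {z : G // IsConj x z} = Nat.card {z : G // IsConj (x * y) z}) : False := by
  let K : Set G := {z | IsConj x z}
  let H : Subgroup G :=
    { carrier := {g | ∀ k : G, k * g ∈ K ↔ k ∈ K}
      one_mem' := fun k => by rw [mul_one]
      mul_mem' := fun {p q} hp hq k => by rw [← mul_assoc, hq, hp]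
      inv_mem' := fun {p} hp k => by rw [← hp (k * p⁻¹), inv_mul_cancel_right] }
  have hbij : ∀ y' : G, IsConj y y' → ∀ w : G, IsConj (x * y) w → w * y'⁻¹ ∈ K := by
    intro y' hy' w hw
    let f : {z : G // IsConj x z} → {z : G // IsConj (x * y) z} := fun z => ⟨z.1 * y', h y' hy' z.1 z.2⟩
    have hf : Function.Injective f := fun p q e => Subtype.ext (mul_right_cancel (congrArg Subtype.val e))
    obtain ⟨z, hz⟩ := (hf.bijective_of_nat_card_le hcard.ge).2 ⟨w, hw⟩
    have e : z.1 * y' = w := congrArg Subtype.val hz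
    rw [← e, mul_inv_cancel_right]
    exact z.2
  have hHn : H.Normal := ⟨fun p hp g k => by
    have h1 := hp (g⁻¹ * k * g)
    have hK : ∀ m : G, g⁻¹ * m * g ∈ K ↔ m ∈ K := by
      intro m
      have hc : IsConj m (g⁻¹ * m * g) := isConj_iff.2 ⟨g⁻¹, by group⟩
      exact ⟨fun hm => (show IsConj x (g⁻¹ * m * g) from hm).trans hc.symm,
        fun hm => (show IsConj x m from hm).trans hc⟩
    rw [hK] at h1
    rw [← hK (k * (g * p * g⁻¹)), ← h1]
    rw [show g⁻¹ * (k * (g * p * g⁻¹)) * g = g⁻¹ * k * g * p by group]⟩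
  have hmem : ∀ y₁ y₂ : G, IsConj y y₁ → IsConj y y₂ → ∀ k ∈ K, k * (y₁ * y₂⁻¹) ∈ K := by
    intro y₁ y₂ h1 h2 k hk
    rw [← mul_assoc]
    exact hbij y₂ h2 _ (h y₁ h1 k hk)
  have hH : ∀ y₁ : G, IsConj y y₁ → y * y₁⁻¹ ∈ H := by
    intro y₁ h1 k
    refine ⟨fun hk => ?_, fun hk => hmem y y₁ (IsConj.refl y) h1 k hk⟩
    have := hmem y₁ y h1 (IsConj.refl y) _ hk
    rwa [show k * (y * y₁⁻¹) * (y₁ * y⁻¹) = k by group] at this
  rcases hHn.eq_bot_or_eq_top with hb | ht
  · -- then `y` is central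
    have hyc : ∀ g : G, g * y * g⁻¹ = y := fun g => by
      have := hH (g * y * g⁻¹) (isConj_iff.2 ⟨g, rfl⟩)
      rw [hb, Subgroup.mem_bot] at this
      exact (mul_inv_eq_one.1 this).symm
    have := one_lt_index hna hy
    have htop : C y = ⊤ := eq_top_iff.2 fun g _ => mem_C.2 (mul_inv_eq_iff_eq_mul.1 (hyc g))
    rw [htop, Subgroup.index_top] at this
    omega
  · have hxm : x⁻¹ ∈ H := ht ▸ Subgroup.mem_top _
    have h1 : x * x⁻¹ ∈ K := (hxm x).2 (IsConj.refl x)
    rw [mul_inv_cancel] at h1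
    exact hx (isConj_one_left.1 h1)

omit hna in
theorem card_class (x : G) : Nat.card {z : G // IsConj x z} = (C x).index := by
  classical
  have h := Cfsg.Agent.CharBasicOrth.card_conj_mul_card_centralizer (G := G) x
  have h2 := (C x).card_mul_index
  rw [mul_comm] at h2
  have : Nat.card {z : G // IsConj x z} * Nat.card (C x) = (C x).index * Nat.card (C x) := by
    rw [h2]; exact h
  exact Nat.eq_of_mul_eq_mul_right Nat.card_pos this

variable {a b c : ℕ} (h3 : Three G a b c) (hab : a ∣ b) (hne : a ≠ b) (hac : a.Coprime c)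
  (ha : ∃ x : G, x ≠ 1 ∧ (C x).index = a) (hc : ∃ y : G, y ≠ 1 ∧ (C y).index = c)
include h3 hab hne hac ha hc

theorem arith : 1 < a ∧ 1 < c ∧ ¬ a ∣ c ∧ ¬ b ∣ c ∧ ¬ c ∣ a := by
  obtain ⟨x, hx, hxa⟩ := ha
  obtain ⟨y, hy, hyc⟩ := hc
  have h1 := one_lt_index hna hx
  have h2 := one_lt_index hna hy
  have hac' : ¬ a ∣ c := fun h => by
    have := Nat.eq_one_of_dvd_coprimes hac dvd_rfl h
    omega
  refine ⟨by omega, by omega, hac', fun h => hac' (hab.trans h), fun h => ?_⟩
  have := Nat.eq_one_of_dvd_coprimes hac h dvd_rfl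
  omega

theorem c_not_dvd_b : ¬ c ∣ b := by
  intro hcb
  obtain ⟨h1a, h1c, hac', hbc', hca⟩ := arith hna h3 hab hne hac ha hc
  obtain ⟨x, hx, hxa⟩ := ha
  obtain ⟨y, hy, hyc⟩ := hc
  have hpair : ∀ x' y' : G, IsConj x x' → IsConj y y' → IsConj (x * y) (x' * y') := by
    intro x' y' hx' hy'
    obtain ⟨g, rfl⟩ := isConj_iff.1 hx'
    obtain ⟨h, rfl⟩ := isConj_iff.1 hy'
    obtain ⟨p, hp, q, hq, hgh⟩ := (S0007.result (C x) (C y) (by rw [hxa, hyc]; exact hac)).2 (g⁻¹ * h)
    refine isConj_iff.2 ⟨g * p, ?_⟩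
    have e1 : g * p * x * (g * p)⁻¹ = g * x * g⁻¹ := by
      calc g * p * x * (g * p)⁻¹ = g * (p * x) * p⁻¹ * g⁻¹ := by group
        _ = g * (x * p) * p⁻¹ * g⁻¹ := by rw [(mem_C.1 hp).eq]
        _ = g * x * g⁻¹ := by group
    have e2 : g * p * y * (g * p)⁻¹ = h * y * h⁻¹ := by
      have hh : h = g * (p * q) := by rw [← hgh, mul_inv_cancel_left]
      calc g * p * y * (g * p)⁻¹ = g * p * (y * q) * q⁻¹ * (g * p)⁻¹ := by group
        _ = g * p * (q * y) * q⁻¹ * (g * p)⁻¹ := by rw [(mem_C.1 hq).eq]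
        _ = h * y * h⁻¹ := by rw [hh]; group
    rw [← e1, ← e2]
    group
  have hD := (S0007.result (C x) (C y) (by rw [hxa, hyc]; exact hac)).1
  rw [hxa, hyc] at hD
  have hle : C x ⊓ C y ≤ C (x * y) := fun z hz => mem_C.2 ((mem_C.1 hz.1).mul_right (mem_C.1 hz.2))
  have hz1 : x * y ≠ 1 := fun h => by
    have hyx : y = x⁻¹ := eq_inv_of_mul_eq_one_right h
    have h1 : (C x).index ∣ (C y).index := by
      refine Subgroup.index_dvd_of_le ?_
      rw [hyx]
      exact fun z hz => mem_C.2 (by simpa using (mem_C.1 hz).inv_right)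
    rw [hxa, hyc] at h1
    exact hac' h1
  rcases h3 (x * y) hz1 with h | h | h
  · exact no_translate hna hy hx (fun y' hy' x' hx' => hpair x' y' hx' hy')
      (by rw [card_class, card_class, hxa, h])
  · -- the product then centralises `x`
    have hdvd : b ∣ a * c := by
      rw [← h, ← hD]
      exact Subgroup.index_dvd_of_le hle
    have hb : b = a * c := Nat.dvd_antisymm hdvd (Nat.Coprime.mul_dvd_of_dvd_of_dvd hac hab hcb)
    have heq : C x ⊓ C y = C (x * y) := eq_of_le_of_index_eq hle (by rw [hD, h, hb])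
    have hall : ∀ y' : G, IsConj y y' → Commute y' x := by
      intro y' hy'
      obtain ⟨g, hg⟩ := isConj_iff.1 (hpair x y' (IsConj.refl x) hy')
      have hmem : x * y ∈ C x := (heq.symm ▸ self_mem (x * y) : x * y ∈ C x ⊓ C y).1
      have hle' : C x ⊓ C y' ≤ C (x * y') :=
        fun z hz => mem_C.2 ((mem_C.1 hz.1).mul_right (mem_C.1 hz.2))
      obtain ⟨g', rfl⟩ := isConj_iff.1 hy'
      have hy'c : (C (g' * y * g'⁻¹)).index = c := by
        rw [← hyc, ← card_class, ← card_class]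
        exact Nat.card_congr (Equiv.subtypeEquivRight fun z =>
          ⟨fun hz => hy'.trans hz, fun hz => hy'.symm.trans hz⟩)
      have hxy'c : (C (x * (g' * y * g'⁻¹))).index = a * c := by
        rw [← hb, ← h, ← card_class, ← card_class]
        have hc' : IsConj (x * y) (x * (g' * y * g'⁻¹)) := isConj_iff.2 ⟨g, hg⟩
        exact Nat.card_congr (Equiv.subtypeEquivRight fun z =>
          ⟨fun hz => hc'.trans hz, fun hz => hc'.symm.trans hz⟩)
      have heq' : C x ⊓ C (g' * y * g'⁻¹) = C (x * (g' * y * g'⁻¹)) := eq_of_le_of_index_eq hle'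
        (by rw [(S0007.result (C x) (C (g' * y * g'⁻¹)) (by rw [hxa, hy'c]; exact hac)).1, hxa,
          hy'c, hxy'c])
      have := mem_C.1 (heq'.symm ▸ self_mem _ : x * (g' * y * g'⁻¹) ∈ C x ⊓ C (g' * y * g'⁻¹)).1
      exact mul_left_cancel (a := x) ((mul_assoc x _ x).symm.trans this.eq)
    have htop : C x = ⊤ := by
      have hN : (Subgroup.normalClosure {y} : Subgroup G) = ⊤ := by
        rcases (Subgroup.normalClosure_normal (s := ({y} : Set G))).eq_bot_or_eq_top with e | e
        · exact absurd (Subgroup.mem_bot.1 (e ▸ Subgroup.subset_normalClosure rfl)) hy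
        · exact e
      rw [eq_top_iff, ← hN, Subgroup.normalClosure, Subgroup.closure_le]
      intro z hz
      obtain ⟨w, hw, hwz⟩ := Group.mem_conjugatesOfSet_iff.1 hz
      rw [Set.mem_singleton_iff.1 hw] at hwz
      exact mem_C.2 (hall z hwz)
    rw [htop, Subgroup.index_top] at hxa
    omega
  · -- the same with the factors exchanged
    have hconj : IsConj (x * y) (y * x) := isConj_iff.2 ⟨y, by group⟩
    refine no_translate hna hx hy (fun x' hx' y' hy' => ?_) (by
      rw [card_class, card_class, hyc, ← card_class (y * x)]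
      rw [← h, ← card_class]
      exact Nat.card_congr (Equiv.subtypeEquivRight fun z =>
        ⟨fun hz => hconj.symm.trans hz, fun hz => hconj.trans hz⟩))
    exact hconj.symm.trans ((hpair x' y' hx' hy').trans (isConj_iff.2 ⟨y', by group⟩))

/-- A centraliser of index `c` is abelian and is the centraliser of each of its elements. -/
theorem exists_B : ∃ B : Subgroup G, B.index = c ∧ (∀ p ∈ B, ∀ q ∈ B, p * q = q * p) ∧
    ∀ y ∈ B, y ≠ 1 → C y = B := by
  obtain ⟨h1a, h1c, hac', hbc', hca⟩ := arith hna h3 hab hne hac ha hc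
  have hcb := c_not_dvd_b hna h3 hab hne hac ha hc
  -- indices dividing or divisible by `c`
  have hdown : ∀ w : G, w ≠ 1 → (C w).index ∣ c → (C w).index = c := fun w hw h => by
    rcases h3 w hw with e | e | e
    · exact absurd (e ▸ h) hac'
    · exact absurd (e ▸ h) hbc'
    · exact e
  have hup : ∀ w : G, w ≠ 1 → c ∣ (C w).index → (C w).index = c := fun w hw h => by
    rcases h3 w hw with e | e | e
    · exact absurd (e ▸ h) hca
    · exact absurd (e ▸ h) hcb
    · exact e
  -- two primes dividing `a`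
  obtain ⟨r, hr, hra⟩ := Nat.exists_prime_and_dvd (show a ≠ 1 by omega)
  obtain ⟨s, hs, hsa, hsr⟩ : ∃ s, s.Prime ∧ s ∣ a ∧ s ≠ r := by
    by_contra hno
    push Not at hno
    obtain ⟨x, hx, hxa⟩ := ha
    have hpow := Nat.eq_prime_pow_of_unique_prime_dvd (by omega : a ≠ 0) fun {d} hd hda => hno d hd hda
    have hpr := CharInduced.prime_card_of_class_prime_pow r _ hr x hx (hxa.trans hpow)
    haveI := Fact.mk hpr
    haveI := isCyclic_of_prime_card (α := G) rfl
    exact hna fun p q => (IsCyclic.commGroup (α := G)).mul_comm p q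
  have hrG : r ∣ Nat.card G := by
    obtain ⟨x, -, hxa⟩ := ha
    exact hra.trans (hxa ▸ Subgroup.index_dvd_card _)
  obtain ⟨y, hy, hyr, k, hyk⟩ := exists_index_prime_to hr hrG
  have hyc : (C y).index = c := by
    rcases h3 y hy with e | e | e
    · exact absurd (e.symm ▸ hra) hyr
    · exact absurd (e.symm ▸ hra.trans hab) hyr
    · exact e
  -- elements of `C y` of order prime to the order of `y`
  have hprime_to : ∀ (p : ℕ) (v : G) (j : ℕ), v ≠ 1 → (C v).index = c → v ^ p ^ j = 1 →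
      ∀ w ∈ C v, w ≠ 1 → (∃ n : ℕ, p.Coprime n ∧ w ^ n = 1) → C w = C v := by
    rintro p v j hv hvc hvj w hw hw1 ⟨n, hn, hwn⟩
    obtain ⟨h1, h2⟩ := C_mul_le (mem_C.1 hw).symm hvj hwn (hn.pow_left j)
    have hne : v * w ≠ 1 := fun h => hv (by
      have hvw : v = w⁻¹ := eq_inv_of_mul_eq_one_left h
      obtain ⟨i, l, hil⟩ : IsCoprime ((p ^ j : ℕ) : ℤ) (n : ℤ) :=
        Int.isCoprime_iff_nat_coprime.2 (by simpa using hn.pow_left j)
      calc v = v ^ (i * ((p ^ j : ℕ) : ℤ) + l * (n : ℤ)) := by rw [hil, zpow_one]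
        _ = 1 := by
          rw [zpow_add, mul_comm i, mul_comm l, zpow_mul, zpow_mul, zpow_natCast, zpow_natCast,
            hvj, one_zpow, one_mul, hvw, inv_pow, hwn, inv_one, one_zpow])
    have e : C (v * w) = C v := eq_of_le_of_index_eq h1 (by
      rw [hvc]
      exact hup _ hne (hvc ▸ Subgroup.index_dvd_of_le h1))
    have hle : C v ≤ C w := e ▸ h2
    exact (eq_of_le_of_index_eq hle (by
      rw [hvc]
      exact (hdown w hw1 (hvc ▸ Subgroup.index_dvd_of_le hle)).symm)).symm
  have hsC : s ∣ Nat.card (C y) := by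
    have h1 : s ∣ Nat.card (C y) * (C y).index := by
      rw [Subgroup.card_mul_index]
      obtain ⟨x, -, hxa⟩ := ha
      exact hsa.trans (hxa ▸ Subgroup.index_dvd_card _)
    refine (hs.dvd_mul.1 h1).resolve_right fun h => ?_
    rw [hyc] at h
    exact hs.one_lt.ne' (Nat.eq_one_of_dvd_coprimes hac hsa h)
  haveI := Fact.mk hs
  obtain ⟨w₀, hw₀⟩ := exists_prime_orderOf_dvd_card' s hsC
  have hw₀1 : (w₀ : G) ≠ 1 := fun h => by
    rw [show w₀ = 1 from Subtype.ext h, orderOf_one] at hw₀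
    exact hs.one_lt.ne hw₀
  have hw₀s : (w₀ : G) ^ s ^ 1 = 1 := by
    rw [pow_one, ← hw₀]
    exact_mod_cast congrArg Subtype.val (pow_orderOf_eq_one w₀)
  have hCw₀ : C (w₀ : G) = C y := hprime_to r y k hy hyc hyk _ w₀.2 hw₀1
    ⟨s, (Nat.coprime_primes hr hs).2 hsr.symm, by simpa using hw₀s⟩
  have hcent : ∀ v ∈ C y, C y ≤ C v := by
    intro v hv
    obtain ⟨p, q, j, n, -, hpq, hpj, hqn, hn, hp, hq⟩ := exists_parts hr v
    have hp' : p ∈ C y := Subgroup.zpowers_le.2 hv hp
    have hq' : q ∈ C y := Subgroup.zpowers_le.2 hv hq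
    have hqle : C y ≤ C q := by
      by_cases h1 : q = 1
      · intro z _; rw [h1]; exact mem_C.2 (Commute.one_right z)
      · exact (hprime_to r y k hy hyc hyk q hq' h1 ⟨n, hn, hqn⟩).ge
    have hple : C y ≤ C p := by
      by_cases h1 : p = 1
      · intro z _; rw [h1]; exact mem_C.2 (Commute.one_right z)
      · rw [← hCw₀]
        exact (hprime_to s (w₀ : G) 1 hw₀1 (by rw [hCw₀]; exact hyc) hw₀s p (by rw [hCw₀]; exact hp') h1
          ⟨r ^ j, ((Nat.coprime_primes hs hr).2 hsr).pow_right j, hpj⟩).ge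
    intro z hz
    rw [← hpq]
    exact mem_C.2 ((mem_C.1 (hple hz)).mul_right (mem_C.1 (hqle hz)))
  refine ⟨C y, hyc, fun p hp q hq => (mem_C.1 (hcent q hq hp)).eq, fun v hv hv1 => ?_⟩
  exact (eq_of_le_of_index_eq (hcent v hv) (by
    rw [hyc]
    exact (hdown v hv1 (hyc ▸ Subgroup.index_dvd_of_le (hcent v hv))).symm)).symm

theorem comm_of_divisible (heven : 2 ∣ Nat.card G) {t : G} (ht : orderOf t = 2) :
    ∀ g h : G, g ∈ C t → h ∈ C t → g * h = h * g := by
  haveI := Fact.mk Nat.prime_two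
  obtain ⟨h1a, h1c, hac', hbc', hca⟩ := arith hna h3 hab hne hac ha hc
  obtain ⟨B, hBc, hBab, hBcc⟩ := exists_B hna h3 hab hne hac ha hc
  by_cases h2c : 2 ∣ c
  swap
  · -- every involution lies in a conjugate of `B`
    obtain ⟨P, hP⟩ := (IsPGroup.of_card (p := 2) (n := 1)
      (show Nat.card (Subgroup.zpowers t) = 2 ^ 1 by rw [Nat.card_zpowers, ht, pow_one])).exists_le_sylow
    obtain ⟨Q⟩ : Nonempty (Sylow 2 ↥B) := inferInstance
    obtain ⟨R, hR⟩ := (Q.isPGroup'.map B.subtype).exists_le_sylow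
    have hcardQ : Nat.card ((Q : Subgroup ↥B).map B.subtype) = Nat.card (R : Subgroup G) := by
      rw [Subgroup.card_map_of_injective B.subtype_injective, Q.card_eq_multiplicity,
        R.card_eq_multiplicity, ← B.card_mul_index, Nat.factorization_mul Nat.card_pos.ne'
        Subgroup.index_ne_zero_of_finite, Finsupp.add_apply, hBc,
        Nat.factorization_eq_zero_of_not_dvd h2c, add_zero]
    have hRB : (R : Subgroup G) ≤ B := by
      rw [← Subgroup.eq_of_le_of_card_ge hR hcardQ.ge]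
      exact Subgroup.map_subtype_le _
    obtain ⟨g, hg⟩ := MulAction.exists_smul_eq G P R
    have htB : g * t * g⁻¹ ∈ B := by
      refine hRB ?_
      rw [← hg, Sylow.coe_subgroup_smul]
      exact ⟨t, hP (Subgroup.mem_zpowers t), rfl⟩
    have ht1 : g * t * g⁻¹ ≠ 1 := fun h => by
      rw [conj_eq_one_iff] at h
      simp [h] at ht
    have hC := hBcc _ htB ht1
    intro p q hp hq
    have key : ∀ z ∈ C t, g * z * g⁻¹ ∈ B := fun z hz => hC ▸ mem_C.2 (by
      show g * z * g⁻¹ * (g * t * g⁻¹) = g * t * g⁻¹ * (g * z * g⁻¹)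
      calc g * z * g⁻¹ * (g * t * g⁻¹) = g * (z * t) * g⁻¹ := by group
        _ = g * (t * z) * g⁻¹ := by rw [(mem_C.1 hz).eq]
        _ = g * t * g⁻¹ * (g * z * g⁻¹) := by group)
    have h := hBab _ (key p hp) _ (key q hq)
    calc p * q = g⁻¹ * (g * p * g⁻¹ * (g * q * g⁻¹)) * g := by group
      _ = g⁻¹ * (g * q * g⁻¹ * (g * p * g⁻¹)) * g := by rw [h]
      _ = q * p := by group
  exfalso
  have h2a : ¬ 2 ∣ a := fun h => by
    have := Nat.eq_one_of_dvd_coprimes hac h h2c
    omega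
  obtain ⟨x₀, hx₀, hx₀a⟩ := ha
  -- the odd indices
  have h2b : 2 ∣ b := by
    by_contra h2b
    obtain ⟨r, hr, hra⟩ := Nat.exists_prime_and_dvd (show a ≠ 1 by omega)
    have hr2 : r ≠ 2 := fun h => h2a (h ▸ hra)
    obtain ⟨y, hy, hyc⟩ := hc
    rcases S4160.result r 2 hr Nat.prime_two hr2 ⟨x₀, hx₀a.symm ▸ hra⟩ ⟨y, hyc.symm ▸ h2c⟩
      (fun z hz => by
        by_cases hz1 : z = 1
        · subst hz1
          have : C (1 : G) = ⊤ := eq_top_iff.2 fun g _ => mem_C.2 (Commute.one_right g)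
          rw [show Subgroup.centralizer ({1} : Set G) = ⊤ from this, Subgroup.index_top] at hz
          have := hr.two_le
          have := Nat.le_of_dvd one_pos hz
          omega
        rcases h3 z hz1 with e | e | e
        · exact h2a (e ▸ (dvd_mul_left 2 r).trans hz)
        · exact h2b (e ▸ (dvd_mul_left 2 r).trans hz)
        · exact hr.one_lt.ne' (Nat.eq_one_of_dvd_coprimes hac hra (e ▸ (dvd_mul_right r 2).trans hz)))
      with ⟨P, N, hN, hNP⟩ | ⟨P, N, hN, hNP⟩
    all_goals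
      rcases hN.eq_bot_or_eq_top with e | e
      · have hPtop : (P : Subgroup G) = ⊤ := Subgroup.isComplement'_bot_left.1 (e ▸ hNP)
        haveI := Fact.mk hr
        haveI : Nontrivial G := ⟨⟨x₀, 1, hx₀⟩⟩
        have hGp : IsPGroup _ G := (IsPGroup.of_equiv P.isPGroup'
          ((MulEquiv.subgroupCongr hPtop).trans Subgroup.topEquiv))
        haveI := hGp.center_nontrivial
        rcases Subgroup.Normal.eq_bot_or_eq_top (inferInstance : (Subgroup.center G).Normal) with hz | hz
        · exact (Subgroup.nontrivial_iff_ne_bot _).1 inferInstance hz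
        · exact hna fun p q =>
            (Subgroup.mem_center_iff.1 (hz ▸ Subgroup.mem_top q : q ∈ Subgroup.center G) p)
      · haveI := Fact.mk hr
        have hPbot : (P : Subgroup G) = ⊥ := Subgroup.isComplement'_top_left.1 (e ▸ hNP)
        have := P.dvd_card_of_dvd_card (by
          first
            | exact hra.trans (hx₀a ▸ Subgroup.index_dvd_card _)
            | exact heven)
        rw [hPbot, Subgroup.card_bot] at this
        have := Nat.le_of_dvd one_pos this
        have := hr.two_le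
        omega
  -- a central involution of a Sylow subgroup
  obtain ⟨T⟩ : Nonempty (Sylow 2 G) := inferInstance
  haveI : Nontrivial ↥(T : Subgroup G) := Finite.one_lt_card_iff_nontrivial.1
    (lt_of_lt_of_le one_lt_two (Nat.le_of_dvd Nat.card_pos (T.dvd_card_of_dvd_card heven)))
  haveI := T.isPGroup'.center_nontrivial
  obtain ⟨i, hi⟩ := IsPGroup.iff_card.1
    (T.isPGroup'.to_subgroup (Subgroup.center ↥(T : Subgroup G)))
  have hd : 2 ∣ Nat.card (Subgroup.center ↥(T : Subgroup G)) := by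
    rw [hi]
    refine dvd_pow_self 2 fun h0 => ?_
    rw [h0, pow_zero] at hi
    exact absurd (Finite.one_lt_card (α := Subgroup.center ↥(T : Subgroup G))) (by omega)
  obtain ⟨z, hz⟩ := exists_prime_orderOf_dvd_card' 2 hd
  set τ := (z.1 : G) with hτ
  have hτ2 : orderOf τ = 2 := by rw [hτ, Subgroup.orderOf_coe, Subgroup.orderOf_coe, hz]
  have hτ1 : τ ≠ 1 := fun h => by rw [h, orderOf_one] at hτ2; norm_num at hτ2
  have hTle : (T : Subgroup G) ≤ C τ := fun y hy =>
    mem_C.2 (congrArg Subtype.val (Subgroup.mem_center_iff.1 z.2 ⟨y, hy⟩))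
  have hτodd : ¬ 2 ∣ (C τ).index := fun h => T.not_dvd_index (h.trans (Subgroup.index_dvd_of_le hTle))
  have hτa : (C τ).index = a := by
    rcases h3 τ hτ1 with e | e | e
    · exact e
    · exact absurd (e.symm ▸ h2b) hτodd
    · exact absurd (e.symm ▸ h2c) hτodd
  have hBC : ∀ g : G, ∀ y ∈ B, y ≠ 1 → g⁻¹ * y * g ∉ C τ := by
    intro g y hy hy1 hmem
    have h : g * τ * g⁻¹ ∈ C y := mem_C.2 (by
      show g * τ * g⁻¹ * y = y * (g * τ * g⁻¹)
      calc g * τ * g⁻¹ * y = g * (τ * (g⁻¹ * y * g)) * g⁻¹ := by group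
        _ = g * ((g⁻¹ * y * g) * τ) * g⁻¹ := by rw [(mem_C.1 hmem).eq]
        _ = y * (g * τ * g⁻¹) := by group)
    rw [hBcc y hy hy1] at h
    have hg1 : g * τ * g⁻¹ ≠ 1 := fun e => hτ1 (conj_eq_one_iff.1 e)
    have e : (C (g * τ * g⁻¹)).index = (C τ).index := by
      rw [← card_class, ← card_class]
      have hcj : IsConj τ (g * τ * g⁻¹) := isConj_iff.2 ⟨g, rfl⟩
      exact Nat.card_congr (Equiv.subtypeEquivRight fun w =>
        ⟨fun hw => hcj.trans hw, fun hw => hcj.symm.trans hw⟩)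
    rw [hBcc _ h hg1, hBc, hτa] at e
    exact hca (e ▸ dvd_rfl)
  have hcard : Nat.card B = (C τ).index := by
    refine Nat.le_antisymm ?_ ?_
    · have hinj : Function.Injective fun p : ↥B × ↥(C τ) => (p.1 : G) * (p.2 : G) := by
        intro p q e
        have e' : ((q.1 : G))⁻¹ * p.1 = (q.2 : G) * (p.2 : G)⁻¹ := by
          have := congrArg (fun z => (q.1 : G)⁻¹ * z * (p.2 : G)⁻¹) e
          simpa [mul_assoc] using this
        have h1 : (q.1 : G)⁻¹ * p.1 = 1 := by
          by_contra hne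
          refine hBC 1 _ (mul_mem (inv_mem q.1.2) p.1.2) hne ?_
          rw [inv_one, one_mul, mul_one, e']
          exact mul_mem q.2.2 (inv_mem p.2.2)
        refine Prod.ext (Subtype.ext (inv_mul_eq_one.1 h1).symm) (Subtype.ext ?_)
        rw [h1] at e'
        exact (mul_inv_eq_one.1 e'.symm).symm
      have h := Nat.card_le_card_of_injective _ hinj
      rw [Nat.card_prod, ← (C τ).card_mul_index, mul_comm] at h
      exact Nat.le_of_mul_le_mul_left h Nat.card_pos
    · refine Nat.le_of_dvd Nat.card_pos ?_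
      have h : a ∣ Nat.card B * c := by
        rw [← hBc, Subgroup.card_mul_index, ← hx₀a]
        exact Subgroup.index_dvd_card _
      rw [hτa]
      exact hac.dvd_of_dvd_mul_right h
  haveI := Fintype.ofFinite G
  have hiso : ∀ g : G, g * τ * g⁻¹ ∈ (T : Subgroup G) → g * τ * g⁻¹ = τ := fun g hg =>
    RegularAbelian35.isolated hBab (fun y hy hy1 => (hBcc y hy hy1).le) hna hτ1 hBC hcard g
      (mem_C.1 (hTle hg)).symm
  obtain ⟨N, hN, hNodd, hNc⟩ := S0215.result T τ hτ2 z.1.2 hiso
  rcases hN.eq_bot_or_eq_top with e | e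
  · have htop : C τ = ⊤ := eq_top_iff.2 fun g _ => mem_C.2 (by
      have h := hNc g
      rw [e, Subgroup.mem_bot, ← commutatorElement_def,
        commutatorElement_eq_one_iff_mul_comm] at h
      exact h.symm)
    rw [htop, Subgroup.index_top] at hτa
    omega
  · rw [e, Subgroup.card_top] at hNodd
    exact (Nat.not_even_iff_odd.2 hNodd) (even_iff_two_dvd.2 heven)

end Divisibility

/-- The main statement. -/
theorem involution_centralizer_comm [IsSimpleGroup G] (hna : ¬ ∀ p q : G, p * q = q * p)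
    (heven : 2 ∣ Nat.card G) (S : Set ℕ) (hS : S.ncard = 3)
    (hSdef : ∀ n, n ∈ S ↔ ∃ x : G, x ≠ 1 ∧ (C x).index = n) {t : G} (ht : orderOf t = 2) :
    ∀ g h : G, g ∈ C t → h ∈ C t → g * h = h * g := by
  obtain ⟨a, b, c, hab, hac, hbc, rfl⟩ := Set.ncard_eq_three.1 hS
  by_cases hanti : ∀ x y : G, x ≠ 1 → y ≠ 1 → C x ≤ C y → C x = C y
  · exact comm_of_involution hanti ht
  push Not at hanti
  obtain ⟨x, y, hx, hy, hle, hne⟩ := hanti
  have hdvd := Subgroup.index_dvd_of_le hle
  have hneq : (C y).index ≠ (C x).index := fun e => hne (eq_of_le_of_index_eq hle e.symm)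
  have hmem : ∀ z : G, z ≠ 1 → (C z).index ∈ ({a, b, c} : Set ℕ) := fun z hz =>
    (hSdef _).2 ⟨z, hz, rfl⟩
  set p := (C y).index with hp
  set q := (C x).index with hq
  -- the third index
  obtain ⟨m, hmS, hmp, hmq, hall⟩ : ∃ m ∈ ({a, b, c} : Set ℕ), m ≠ p ∧ m ≠ q ∧
      ∀ z : G, z ≠ 1 → (C z).index = p ∨ (C z).index = q ∨ (C z).index = m := by
    have h1 := hmem y hy
    have h2 := hmem x hx
    rw [← hp] at h1
    rw [← hq] at h2
    simp only [Set.mem_insert_iff, Set.mem_singleton_iff] at h1 h2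
    have hz : ∀ z : G, z ≠ 1 → (C z).index = a ∨ (C z).index = b ∨ (C z).index = c :=
      fun z hz => by simpa using hmem z hz
    rcases h1 with h1 | h1 | h1 <;> rcases h2 with h2 | h2 | h2
    all_goals
      first
        | exact absurd (h1.trans h2.symm) hneq
        | (refine ⟨a, by simp, by omega, by omega, fun z hz' => ?_⟩; have := hz z hz'; omega)
        | (refine ⟨b, by simp, by omega, by omega, fun z hz' => ?_⟩; have := hz z hz'; omega)
        | (refine ⟨c, by simp, by omega, by omega, fun z hz' => ?_⟩; have := hz z hz'; omega)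
  obtain ⟨w, hw, hwm⟩ := (hSdef m).1 hmS
  have hcop : p.Coprime m := by
    by_contra h
    obtain ⟨r, hr, hrp, hrm⟩ := Nat.Prime.not_coprime_iff_dvd.1 h
    have hrG : r ∣ Nat.card G := hrp.trans (Subgroup.index_dvd_card _)
    obtain ⟨z, hz, hzr, -⟩ := exists_index_prime_to hr hrG
    rcases hall z hz with e | e | e
    · exact hzr (e ▸ hrp)
    · exact hzr (e ▸ hrp.trans hdvd)
    · exact hzr (e ▸ hrm)
  exact comm_of_divisible hna (a := p) (b := q) (c := m) hall hdvd hneq hcop ⟨y, hy, rfl⟩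
    ⟨w, hw, hwm⟩ heven ht

end Cfsg.Agent.ConjType35
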