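import Mathlib
import Cfsg.Agent.Lib.BlockContrib
import Cfsg.Agent.Lib.BlockContribBounds
import Cfsg.Agent.Lib.BlockPrincipal81
import Cfsg.Agent.Lib.BlockCyclicRank81
import Cfsg.Agent.Lib.BrauerBlocksOrth
import Cfsg.Agent.Lib.CharKernel
import Cfsg.Prelude.Def_CaseTheorems

/-!
# Principal 2-block with constant difference `χ 1 - χ u`: the global step

If `O(G) = 1`, `u ≠ 1` and `χ 1 - χ u = k` for all nonprincipal members of the principal 2-block,
then `u` is 2-singular, all nontrivial 2-elements are conjugate to its 2-part, and `k` is the order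
of a Sylow 2-subgroup.
-/

set_option autoImplicit false

open scoped ComplexConjugate

namespace Cfsg.Agent.ConstDiff2Basic

open Cfsg BlockTheoryLocalRing BlockTheoryCentre BlockTheoryIdem BlockContrib
open Cfsg.Agent.BlockPrincipal81 (oneChar oneChar_mem isPBlock_principal)
open Cfsg.Agent.CharAverage (irr_isCharacter)

attribute [local instance] Classical.propDecidable

universe u

variable {G : Type u} [Group G] [Fintype G] {M : Ideal AlgInt}

/-- The principal block as a finset. -/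
noncomputable def blk (M : Ideal AlgInt) (G : Type u) [Group G] [Fintype G] :
    Finset (IrrCharacter G) :=
  BlockContribBounds.members (principalBlock M G)

/-- The nonprincipal members of the principal block. -/
noncomputable def nonpr (M : Ideal AlgInt) (G : Type u) [Group G] [Fintype G] :
    Finset (IrrCharacter G) :=
  (blk M G).erase (oneChar G)

theorem mem_blk {χ : IrrCharacter G} : χ ∈ blk M G ↔ χ ∈ principalBlock M G :=
  BlockContribBounds.mem_members

theorem one_mem_blk (hM : IsPModular 2 M) : oneChar G ∈ blk M G := mem_blk.2 (oneChar_mem hM)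

theorem one_apply (g : G) : (oneChar G : G → ℂ) g = 1 := rfl

theorem sum_split (hM : IsPModular 2 M) (f : IrrCharacter G → ℂ) :
    ∑ χ ∈ blk M G, f χ = f (oneChar G) + ∑ χ ∈ nonpr M G, f χ :=
  (Finset.add_sum_erase _ f (one_mem_blk hM)).symm

/-- The hypotheses of the forward direction. -/
structure Hyp (M : Ideal AlgInt) (x : G) (k : ℂ) : Prop where
  modular : IsPModular 2 M
  core : Cfsg.oddCore G = ⊥
  ne : x ≠ 1
  const : ∀ χ ∈ nonpr M G, (χ : G → ℂ) 1 - (χ : G → ℂ) x = k

theorem weak (hM : IsPModular 2 M) {x y : G} (hx : ¬ 2 ∣ orderOf x) (hy : 2 ∣ orderOf y) :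
    ∑ χ ∈ blk M G, (χ : G → ℂ) x * conj ((χ : G → ℂ) y) = 0 := by
  have h := weak_orthogonality hM (isPBlock_principal (M := M) (G := G)) hx hy
  rwa [← Finset.sum_filter, BlockContribBounds.filter_eq_members] at h

theorem weak_mul (hM : IsPModular 2 M) {x y : G} (hx : ¬ 2 ∣ orderOf x) (hy : 2 ∣ orderOf y) :
    ∑ χ ∈ blk M G, (χ : G → ℂ) x * (χ : G → ℂ) y = 0 := by
  have h := weak hM hx (y := y⁻¹) (by rwa [orderOf_inv])
  simpa only [irr_inv, Complex.conj_conj] using h

theorem strong (hM : IsPModular 2 M) {x y a b : G} (hx : IsPPart 2 x a) (hy : IsPPart 2 y b)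
    (hne : ¬ IsConj a b) :
    ∑ χ ∈ blk M G, (χ : G → ℂ) x * conj ((χ : G → ℂ) y) = 0 := by
  have h := BrauerBlocksPerm.blockSum_eq_zero_of_not_isConj hM
    (isPBlock_principal (M := M) (G := G)) hx hy hne
  rw [BlockContribBounds.finsum_eq_members] at h
  simp only [irr_inv] at h
  exact h

/-- A sum over the principal block congruent termwise to an orthogonal column lies in the ideal. -/
theorem blk_sum_mem (hM : IsPModular 2 M) {x y : G} (hx : ¬ 2 ∣ orderOf x) (hy : 2 ∣ orderOf y)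
    (hcong : ∀ χ : IrrCharacter G, MemLocalIdeal M ((χ : G → ℂ) y - (χ : G → ℂ) x)) :
    MemLocalIdeal M (∑ χ ∈ blk M G, (χ : G → ℂ) y) := by
  have hint : ∀ χ : IrrCharacter G, IsIntegral ℤ ((χ : G → ℂ) y) := fun χ =>
    CharBasic.isCharacter_integral (irr_isCharacter χ) y
  obtain ⟨w, hw, he⟩ := CharAverage.exists_sq_sum_eq (blk M G) (fun χ => (χ : G → ℂ) y)
    fun χ _ => hint χ
  set S := ∑ χ ∈ blk M G, (χ : G → ℂ) y with hS
  have h2 : MemLocalIdeal M (S * S) := by
    rw [← pow_two, he]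
    refine ideal_add hM ?_ (ideal_mul_right hM (natCast_p_mem hM) (of_isIntegral hM hw))
    rw [← sub_zero (∑ χ ∈ blk M G, (χ : G → ℂ) y ^ 2), ← weak_mul hM hx hy,
      ← Finset.sum_sub_distrib]
    refine ideal_sum hM fun χ _ => ?_
    rw [show (χ : G → ℂ) y ^ 2 - (χ : G → ℂ) x * (χ : G → ℂ) y =
      (χ : G → ℂ) y * ((χ : G → ℂ) y - (χ : G → ℂ) x) by ring]
    exact ideal_mul_left hM (of_isIntegral hM (hint χ)) (hcong χ)
  by_contra hne
  have hR : MemLocalRing M S := of_isIntegral hM (IsIntegral.sum _ fun χ _ => hint χ)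
  exact not_ideal_mul hM hR hR hne hne h2

theorem congr_one (hM : IsPModular 2 M) {z : G} (hz : ∃ k : ℕ, orderOf z = 2 ^ k)
    (χ : IrrCharacter G) : MemLocalIdeal M ((χ : G → ℂ) z - (χ : G → ℂ) 1) := by
  haveI := Fact.mk Nat.prime_two
  obtain ⟨j, hj⟩ := hz
  have := BlockCyclicRank81.value_congr hM χ (u := z) (y := 1) (k := j)
    (by rw [← hj, pow_orderOf_eq_one]) (Commute.one_right z)
  rwa [mul_one] at this

theorem two_dvd_of_two_element {z : G} (hz : ∃ k : ℕ, orderOf z = 2 ^ k) (hz1 : z ≠ 1) :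
    2 ∣ orderOf z := by
  obtain ⟨j, hj⟩ := hz
  rw [hj]
  refine dvd_pow_self 2 fun h0 => hz1 ?_
  rw [h0, pow_zero, orderOf_eq_one_iff] at hj
  exact hj

/-- The column sum at a nontrivial 2-element lies in the ideal. -/
theorem sum_two_element_mem (hM : IsPModular 2 M) {z : G} (hz : ∃ k : ℕ, orderOf z = 2 ^ k)
    (hz1 : z ≠ 1) : MemLocalIdeal M (∑ χ ∈ blk M G, (χ : G → ℂ) z) :=
  blk_sum_mem hM (x := 1) (by simp) (two_dvd_of_two_element hz hz1) (congr_one hM hz)

theorem no_involution_in_kernels (hM : IsPModular 2 M) {z : G} (hz : orderOf z = 2) :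
    ¬ ∀ χ ∈ blk M G, (χ : G → ℂ) z = (χ : G → ℂ) 1 := by
  intro h
  have h0 := weak_mul hM (x := (1 : G)) (by simp) (y := z) (by rw [hz])
  rw [Finset.sum_congr rfl fun χ hχ => by rw [h χ hχ, CharAverage.irr_apply_one χ]] at h0
  have h1 : ∑ χ ∈ blk M G, charDegree (χ : G → ℂ) * charDegree (χ : G → ℂ) = 0 := by
    exact_mod_cast h0
  have h2 := (Finset.sum_eq_zero_iff.1 h1) (oneChar G) (one_mem_blk hM)
  have h3 := CharAverage.irr_degree_pos (oneChar G)
  simp only [mul_eq_zero, or_self] at h2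
  omega

variable {x : G} {k : ℂ}

theorem faithful (h : Hyp M x k) {g : G}
    (hg : ∀ χ ∈ blk M G, (χ : G → ℂ) g = (χ : G → ℂ) 1) : g = 1 := by
  haveI := Fact.mk Nat.prime_two
  set K : Subgroup G := ⨅ χ : {χ : IrrCharacter G // χ ∈ blk M G}, CharKernel.irrKer χ.1 with hK
  haveI : K.Normal := Subgroup.normal_iInf_normal fun χ => CharKernel.irrKer_normal χ.1
  have hodd : (Nat.card K).Coprime 2 := by
    refine (Nat.prime_two.coprime_iff_not_dvd.2 fun hd => ?_).symm
    obtain ⟨z, hz⟩ := exists_prime_orderOf_dvd_card' (G := K) 2 hd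
    refine no_involution_in_kernels h.modular (z := (z : G)) (by rw [Subgroup.orderOf_coe, hz])
      fun χ hχ => ?_
    exact CharKernel.mem_irrKer.1 (Subgroup.mem_iInf.1 z.2 ⟨χ, hχ⟩)
  have hle : K ≤ Cfsg.oddCore G := le_sSup ⟨inferInstance, hodd⟩
  rw [h.core] at hle
  exact Subgroup.mem_bot.1 (hle (Subgroup.mem_iInf.2 fun χ => CharKernel.mem_irrKer.2 (hg χ.1 χ.2)))

theorem k_ne (h : Hyp M x k) : k ≠ 0 := by
  intro h0
  refine h.ne (faithful h fun χ hχ => ?_)
  by_cases h1 : χ = oneChar G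
  · subst h1; rfl
  · have := h.const χ (Finset.mem_erase.2 ⟨h1, hχ⟩)
    rw [h0, sub_eq_zero] at this
    exact this.symm

/-- The weighted sum of `χ 1 - χ x` only sees the nonprincipal members. -/
theorem sum_diff (h : Hyp M x k) (f : IrrCharacter G → ℂ) :
    ∑ χ ∈ blk M G, ((χ : G → ℂ) 1 - (χ : G → ℂ) x) * f χ = k * ∑ χ ∈ nonpr M G, f χ := by
  rw [sum_split h.modular, one_apply, one_apply, sub_self, zero_mul, zero_add, Finset.mul_sum]
  exact Finset.sum_congr rfl fun χ hχ => by rw [h.const χ hχ]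

theorem isPPart_self {z : G} (hz : ∃ k : ℕ, orderOf z = 2 ^ k) : IsPPart 2 z z :=
  ⟨1, mul_one z, Commute.one_right z, hz, by simp⟩

theorem all_conj (h : Hyp M x k) {a : G} (ha : IsPPart 2 x a) {z : G}
    (hz : ∃ j : ℕ, orderOf z = 2 ^ j) (hz1 : z ≠ 1) : IsConj a z := by
  by_contra hne
  have h1 := weak h.modular (x := (1 : G)) (by simp) (y := z) (two_dvd_of_two_element hz hz1)
  have h2 := strong h.modular ha (isPPart_self hz) hne
  have h3 := sum_diff h (fun χ => conj ((χ : G → ℂ) z))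
  simp only [sub_mul, Finset.sum_sub_distrib, h1, h2, sub_zero] at h3
  have h4 : ∑ χ ∈ nonpr M G, conj ((χ : G → ℂ) z) = 0 :=
    (mul_eq_zero.1 h3.symm).resolve_left (k_ne h)
  have h5 : ∑ χ ∈ nonpr M G, (χ : G → ℂ) z = 0 := by
    have := congrArg conj h4
    simpa [map_sum] using this
  have h6 := sum_two_element_mem h.modular hz hz1
  rw [sum_split h.modular, h5, add_zero, one_apply] at h6
  exact one_not_ideal h.modular h6

theorem exists_involution (h : Hyp M x k) : ∃ z : G, orderOf z = 2 := by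
  haveI := Fact.mk Nat.prime_two
  by_contra hno
  have hodd : (Nat.card (⊤ : Subgroup G)).Coprime 2 := by
    refine (Nat.prime_two.coprime_iff_not_dvd.2 fun hd => hno ?_).symm
    obtain ⟨z, hz⟩ := exists_prime_orderOf_dvd_card' (G := (⊤ : Subgroup G)) 2 hd
    exact ⟨z, by rw [Subgroup.orderOf_coe, hz]⟩
  have hle : (⊤ : Subgroup G) ≤ Cfsg.oddCore G := le_sSup ⟨inferInstance, hodd⟩
  rw [h.core] at hle
  exact h.ne (Subgroup.mem_bot.1 (hle (Subgroup.mem_top x)))

/-- The decomposition `x = t * y` and the single class of nontrivial 2-elements. -/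
theorem exists_data (h : Hyp M x k) : ∃ t y : G, t * y = x ∧ Commute t y ∧ orderOf t = 2 ∧
    ¬ 2 ∣ orderOf y ∧ ∀ z : G, (∃ j : ℕ, orderOf z = 2 ^ j) → z ≠ 1 → IsConj t z := by
  obtain ⟨t, y, he, hc, ht, hy⟩ := exists_pPart Nat.prime_two x
  have hp : IsPPart 2 x t := ⟨y, he, hc, ht, hy⟩
  obtain ⟨z, hz⟩ := exists_involution h
  have hz1 : z ≠ 1 := fun e => by simp [e] at hz
  have hconj := all_conj h hp ⟨1, by rw [hz, pow_one]⟩ hz1
  refine ⟨t, y, he, hc, ?_, hy, fun w hw hw1 => all_conj h hp hw hw1⟩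
  obtain ⟨c, rfl⟩ := isConj_iff.1 hconj
  rwa [show c * t * c⁻¹ = MulAut.conj c t from rfl, MulEquiv.orderOf_eq] at hz

theorem two_element_sq (h : Hyp M x k) {z : G} (hz : ∃ j : ℕ, orderOf z = 2 ^ j) : z ^ 2 = 1 := by
  by_cases hz1 : z = 1
  · simp [hz1]
  obtain ⟨t, y, -, -, ht, -, hall⟩ := exists_data h
  obtain ⟨c, rfl⟩ := isConj_iff.1 (hall z hz hz1)
  rw [conj_pow, ← ht, pow_orderOf_eq_one, mul_one, mul_inv_cancel]

theorem sylow_elementary (h : Hyp M x k) (S : Sylow 2 G) :
    Cfsg.IsElementaryAbelian 2 (S : Subgroup G) := by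
  haveI := Fact.mk Nat.prime_two
  have hsq : ∀ s ∈ (S : Subgroup G), s ^ 2 = 1 := fun s hs => two_element_sq h (by
    obtain ⟨j, hj⟩ := IsPGroup.iff_orderOf.1 S.isPGroup' ⟨s, hs⟩
    exact ⟨j, by rwa [Subgroup.orderOf_mk] at hj⟩)
  refine ⟨⟨⟨fun a b => Subtype.ext ?_⟩⟩, hsq⟩
  have e : ∀ s ∈ (S : Subgroup G), s⁻¹ = s := fun s hs =>
    inv_eq_of_mul_eq_one_left (by rw [← pow_two]; exact hsq s hs)
  show (a : G) * b = b * a
  rw [← e _ (mul_mem a.2 b.2), mul_inv_rev, e _ a.2, e _ b.2]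

/-! ### The value of `k` -/

/-- The contribution row of the trivial character. -/
theorem sum_row (hM : IsPModular 2 M) (g : G) :
    ∑ ψ ∈ blk M G, pair 2 (oneChar G : G → ℂ) ψ * (ψ : G → ℂ) g =
      if 2 ∣ orderOf g then 0 else (Nat.card G : ℂ) := by
  by_cases hg : 2 ∣ orderOf g
  · rw [if_pos hg]
    simp only [pair, regSum_eq, one_apply, map_one, one_mul, Finset.sum_mul]
    rw [Finset.sum_comm]
    refine Finset.sum_eq_zero fun h _ => ?_
    by_cases hh : 2 ∣ orderOf h
    · simp [hh]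
    · rw [Finset.sum_congr rfl fun ψ _ => by rw [if_pos hh]]
      exact weak_mul hM hh hg
  · rw [if_neg hg]
    have h := sum_pair_mul hM (isPBlock_principal (M := M) (G := G)) (oneChar_mem hM) hg
    rw [one_apply, mul_one, ← Finset.sum_filter, BlockContribBounds.filter_eq_members] at h
    rw [← h]
    exact Finset.sum_congr rfl fun ψ _ => by rw [pair_comm]

theorem minExp_principal (hM : IsPModular 2 M) : minExp 2 (principalBlock M G) = 0 := by
  have h := minExp_le (p := 2) (oneChar_mem (G := G) hM)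
  simpa [BlockPrincipal81.oneChar, charDegree] using h

theorem apply_involution_congr (hM : IsPModular 2 M) {t : G} (ht : orderOf t = 2)
    (χ : IrrCharacter G) :
    ∃ z : ℤ, (χ : G → ℂ) t = (z : ℂ) ∧ (2 : ℤ) ∣ z - (charDegree (χ : G → ℂ) : ℤ) := by
  have ht2 : t * t = 1 := by rw [← pow_two, ← ht, pow_orderOf_eq_one]
  obtain ⟨z, hz⟩ := CharAverage.apply_involution_eq_int (CharAverage.irr_isCharacter χ) ht2
  refine ⟨z, hz, (intCast_mem_iff hM _).1 ?_⟩
  have := congr_one hM (z := t) ⟨1, by rw [ht, pow_one]⟩ χ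
  rw [hz, CharAverage.irr_apply_one χ] at this
  exact_mod_cast this

theorem zmod_two : ∀ a : ZMod 2, a ≠ 0 → a = 1 := by decide

/-- The degrees of the nonprincipal members add up to an odd number. -/
theorem odd_sum_nonpr (hM : IsPModular 2 M) {t : G} (ht : orderOf t = 2) :
    Odd (∑ χ ∈ nonpr M G, charDegree (χ : G → ℂ)) := by
  choose z hz hz2 using fun χ : IrrCharacter G => apply_involution_congr hM ht χ
  have h0 := weak_mul hM (x := (1 : G)) (by simp) (y := t) (by rw [ht])
  rw [Finset.sum_congr rfl fun χ _ => by rw [hz χ, CharAverage.irr_apply_one χ]] at h0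
  have h1 : ∑ χ ∈ blk M G, (charDegree (χ : G → ℂ) : ℤ) * z χ = 0 := by exact_mod_cast h0
  have h2 : ((∑ χ ∈ blk M G, charDegree (χ : G → ℂ) : ℕ) : ZMod 2) = 0 := by
    have h3 := congrArg (Int.cast : ℤ → ZMod 2) h1
    push_cast at h3 ⊢
    rw [← h3]
    refine Finset.sum_congr rfl fun χ _ => ?_
    have h4 : ((z χ : ℤ) : ZMod 2) = ((charDegree (χ : G → ℂ) : ℤ) : ZMod 2) := by
      rw [eq_comm, ZMod.intCast_eq_intCast_iff_dvd_sub]
      exact_mod_cast hz2 χ
    rw [h4, Int.cast_natCast]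
    have : ∀ a : ZMod 2, a = a * a := by clear * - ; decide
    exact this _
  rw [ZMod.natCast_eq_zero_iff_even, ← Finset.add_sum_erase _ _ (one_mem_blk hM)] at h2
  have h5 : charDegree (oneChar G : G → ℂ) = 1 := by simp [BlockPrincipal81.oneChar, charDegree]
  rw [h5, add_comm, Nat.even_add_one] at h2
  exact Nat.not_even_iff_odd.1 h2

theorem k_eq (h : Hyp M x k) (S : Sylow 2 G) : k = (Nat.card S : ℂ) := by
  haveI := Fact.mk Nat.prime_two
  have hM := h.modular
  obtain ⟨t, y, hxty, hc, ht, hy, -⟩ := exists_data h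
  have hxs : 2 ∣ orderOf x := by
    have hcop : (orderOf t).Coprime (orderOf y) := by
      rw [ht]; exact Nat.prime_two.coprime_iff_not_dvd.2 hy
    rw [← hxty, hc.orderOf_mul_eq_mul_orderOf_of_coprime hcop, ht]
    exact dvd_mul_right 2 _
  have hrow := sum_diff h (fun ψ => pair 2 (oneChar G : G → ℂ) ψ)
  have e : ∀ g : G, ∑ ψ ∈ blk M G, (ψ : G → ℂ) g * pair 2 (oneChar G : G → ℂ) ψ =
      if 2 ∣ orderOf g then 0 else (Nat.card G : ℂ) := fun g => by
    rw [← sum_row hM g]; exact Finset.sum_congr rfl fun ψ _ => mul_comm _ _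
  simp only [sub_mul, Finset.sum_sub_distrib, e, if_pos hxs] at hrow
  rw [if_neg (by simp), sub_zero] at hrow
  set B := principalBlock M G with hB
  set c := (cofactor 2 G : ℂ) * (2 : ℂ) ^ minExp 2 B with hc'
  have hc0 : c ≠ 0 := by
    have := scale_ne_zero (G := G) Nat.prime_two B
    rw [hc']
    exact_mod_cast this
  set N : ℤ := ∑ ψ ∈ nonpr M G, contrib 2 B (oneChar G) ψ with hN
  have hsum : ∑ ψ ∈ nonpr M G, pair 2 (oneChar G : G → ℂ) ψ = c * (N : ℂ) := by
    rw [hN, Int.cast_sum, Finset.mul_sum]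
    refine Finset.sum_congr rfl fun ψ hψ => ?_
    have := pair_eq_contrib (p := 2) Nat.prime_two (oneChar G) (B := B)
      (mem_blk.1 (Finset.mem_of_mem_erase hψ))
    simpa using this
  have hq : (Nat.card G : ℂ) = c * (Nat.card S : ℂ) := by
    rw [hc', minExp_principal hM, pow_zero, mul_one, ← Nat.cast_mul, S.card_eq_multiplicity,
      mul_comm, pow_mul_cofactor]
  rw [hsum, hq] at hrow
  have hkN : k * (N : ℂ) = (Nat.card S : ℂ) := by
    refine mul_left_cancel₀ hc0 ?_
    rw [hrow]; ring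
  have hNodd : Odd N := by
    have hpar : ∀ ψ ∈ nonpr M G, ((contrib 2 B (oneChar G) ψ : ℤ) : ZMod 2) =
        ((charDegree (ψ : G → ℂ) : ℕ) : ZMod 2) := by
      intro ψ hψ
      have hψB := mem_blk.1 (Finset.mem_of_mem_erase hψ)
      have hh0 : blockHeight 2 B (oneChar G : G → ℂ) = 0 := by
        rw [blockHeight_eq]
        simp [BlockPrincipal81.oneChar, charDegree]
      have hnd := contrib_not_dvd hM (isPBlock_principal (M := M) (G := G)) (oneChar_mem hM) hh0 hψB
      have hheight := height_dvd_contrib Nat.prime_two (oneChar G) hψB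
      have hexp := exp_eq_add (p := 2) hψB
      rw [minExp_principal hM, zero_add] at hexp
      by_cases hd : 2 ∣ charDegree (ψ : G → ℂ)
      · have h1 : 1 ≤ (charDegree (ψ : G → ℂ)).factorization 2 :=
          (Nat.Prime.dvd_iff_one_le_factorization Nat.prime_two
            (CharAverage.irr_degree_pos ψ).ne').1 hd
        rw [(ZMod.natCast_eq_zero_iff _ 2).2 hd, (ZMod.intCast_zmod_eq_zero_iff_dvd _ 2).2]
        exact (dvd_pow_self ((2 : ℕ) : ℤ) (by omega)).trans hheight
      · have h0 := Nat.factorization_eq_zero_of_not_dvd hd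
        rw [h0] at hexp
        rw [← hexp, zero_add, pow_one] at hnd
        have e1 : ((contrib 2 B (oneChar G) ψ : ℤ) : ZMod 2) = 1 := by
          have h2 := zmod_two
          exact h2 _ fun h3 => hnd ((ZMod.intCast_zmod_eq_zero_iff_dvd _ 2).1 h3)
        have e2 : ((charDegree (ψ : G → ℂ) : ℕ) : ZMod 2) = 1 := by
          have h2 := zmod_two
          exact h2 _ fun h3 => hd ((ZMod.natCast_eq_zero_iff _ 2).1 h3)
        rw [e1, e2]
    have h1 : (N : ZMod 2) = 1 := by
      rw [hN, Int.cast_sum, Finset.sum_congr rfl hpar, ← Nat.cast_sum]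
      exact ZMod.natCast_eq_one_iff_odd.2 (odd_sum_nonpr hM ht)
    rw [Int.odd_iff]
    have h2 : (N : ZMod 2) ≠ 0 := by rw [h1]; exact one_ne_zero
    rw [Ne, ZMod.intCast_zmod_eq_zero_iff_dvd] at h2
    omega
  -- `k` is integral, so `N` divides the order of `S`
  have hI : (nonpr M G).Nonempty := by
    rw [Finset.nonempty_iff_ne_empty]
    intro he
    have := hNodd
    rw [hN, he, Finset.sum_empty] at this
    simp at this
  obtain ⟨χ, hχ⟩ := hI
  have hkint : IsIntegral ℤ k := by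
    rw [← h.const χ hχ]
    exact (CharBasic.isCharacter_integral (CharAverage.irr_isCharacter χ) _).sub
      (CharBasic.isCharacter_integral (CharAverage.irr_isCharacter χ) _)
  have hN0 : N ≠ 0 := fun e0 => by rw [e0] at hNodd; simp at hNodd
  have hkq : IsIntegral ℤ (((Nat.card S : ℚ) / (N : ℚ))) := by
    refine (isIntegral_algebraMap_iff (algebraMap ℚ ℂ).injective).1 ?_
    rw [map_div₀, map_natCast, map_intCast, ← hkN,
      mul_div_assoc, div_self (Int.cast_ne_zero.2 hN0), mul_one]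
    exact hkint
  obtain ⟨j, hj⟩ := IsIntegrallyClosed.isIntegral_iff.1 hkq
  have hjN : (Nat.card S : ℤ) = j * N := by
    have h1 : (j : ℚ) = (Nat.card S : ℚ) / (N : ℚ) := hj
    rw [eq_div_iff (Int.cast_ne_zero.2 hN0)] at h1
    exact_mod_cast h1.symm
  have hNu : N.natAbs = 1 := by
    obtain ⟨d, hd⟩ := IsPGroup.iff_card.1 S.isPGroup'
    have h1 : N.natAbs ∣ 2 ^ d := by
      rw [← hd]
      exact Int.natCast_dvd_natCast.1 (Int.natAbs_dvd.2 ⟨j, by rw [hjN]; ring⟩)
    obtain ⟨i, -, hi⟩ := (Nat.dvd_prime_pow Nat.prime_two).1 h1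
    rcases Nat.eq_zero_or_pos i with h0 | h0
    · rw [hi, h0, pow_zero]
    · exfalso
      have : Even N := Int.natAbs_even.1 (by rw [hi]; exact (Nat.even_pow).2 ⟨even_two, by omega⟩)
      exact (Int.not_even_iff_odd.2 hNodd) this
  rcases Int.natAbs_eq N with h1 | h1 <;> rw [hNu] at h1
  · rw [h1] at hkN; simpa using hkN
  · exfalso
    rw [h1] at hkN
    have hk : k = -(Nat.card S : ℂ) := by
      rw [← hkN]; push_cast; ring
    have h2 := h.const χ hχ
    rw [hk] at h2
    have h3 := congrArg Complex.re h2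
    have h4 := CharAverage.irr_norm_le χ x
    have h5 := Complex.re_le_norm ((χ : G → ℂ) x)
    rw [CharAverage.irr_apply_one χ] at h3
    simp only [Complex.sub_re, Complex.neg_re, Complex.natCast_re] at h3
    have h6 : (0 : ℝ) < (Nat.card S : ℝ) := Nat.cast_pos.2 Nat.card_pos
    linarith

end Cfsg.Agent.ConstDiff2Basic
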