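import Mathlib
import Cfsg.Prelude.Def_ParabolicCharacters
import Cfsg.Prelude.Def_Characters
import Cfsg.Agent.Lib.CharInducedBasic

/-!
The action of `GL(2, F)` on the cosets of its upper triangular subgroup, conjugacy, centralisers.
-/

set_option autoImplicit false

namespace Cfsg.Agent.GL2Borel

open Matrix
open scoped MatrixGroups

variable {F : Type*} [Field F]

/-- The element with given entries. -/
def gl (a b c d : F) (h : a * d - b * c ≠ 0) : GL (Fin 2) F :=
  GeneralLinearGroup.mkOfDetNeZero !![a, b; c, d] (by rwa [Matrix.det_fin_two_of])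

@[simp] theorem gl_coe (a b c d : F) (h : a * d - b * c ≠ 0) :
    (gl a b c d h : Matrix (Fin 2) (Fin 2) F) = !![a, b; c, d] := rfl

theorem det_ne (g : GL (Fin 2) F) :
    (g : Matrix (Fin 2) (Fin 2) F) 0 0 * (g : Matrix (Fin 2) (Fin 2) F) 1 1 -
      (g : Matrix (Fin 2) (Fin 2) F) 0 1 * (g : Matrix (Fin 2) (Fin 2) F) 1 0 ≠ 0 := by
  rw [← Matrix.det_fin_two]
  exact g.det_ne_zero

theorem mem_borel_iff (g : GL (Fin 2) F) :
    g ∈ Cfsg.upperTriangularGL 2 F ↔ (g : Matrix (Fin 2) (Fin 2) F) 1 0 = 0 := by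
  show Matrix.BlockTriangular (g : Matrix (Fin 2) (Fin 2) F) id ↔ _
  constructor
  · intro h; exact h (show (id 0 : Fin 2) < id 1 by decide)
  · intro h i j hij
    simp only [id] at hij
    fin_cases i <;> fin_cases j <;> simp_all

/-- Representatives of the lines. -/
def rep : Option F → GL (Fin 2) F
  | none => 1
  | some t => gl t 1 1 0 (by simp)

/-- The inverses. -/
def repInv : Option F → GL (Fin 2) F
  | none => 1
  | some t => gl 0 1 1 (-t) (by simp)

theorem rep_inv (l : Option F) : (rep l)⁻¹ = repInv l := by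
  rw [inv_eq_iff_mul_eq_one]
  cases l with
  | none => simp [rep, repInv]
  | some t =>
    apply Units.ext
    rw [Units.val_mul]
    show (!![t, 1; 1, 0] : Matrix (Fin 2) (Fin 2) F) * !![0, 1; 1, -t] = 1
    simp [Matrix.one_fin_two]

theorem conj_rep_some (g : GL (Fin 2) F) (t : F) :
    (((rep (some t))⁻¹ * g * rep (some t) : GL (Fin 2) F) : Matrix (Fin 2) (Fin 2) F) =
      !![(g : Matrix (Fin 2) (Fin 2) F) 1 0 * t + (g : Matrix (Fin 2) (Fin 2) F) 1 1,
          (g : Matrix (Fin 2) (Fin 2) F) 1 0;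
        (g : Matrix (Fin 2) (Fin 2) F) 0 0 * t + (g : Matrix (Fin 2) (Fin 2) F) 0 1 -
          t * ((g : Matrix (Fin 2) (Fin 2) F) 1 0 * t + (g : Matrix (Fin 2) (Fin 2) F) 1 1),
          (g : Matrix (Fin 2) (Fin 2) F) 0 0 - t * (g : Matrix (Fin 2) (Fin 2) F) 1 0] := by
  rw [rep_inv, Units.val_mul, Units.val_mul]
  show (!![0, 1; 1, -t] : Matrix (Fin 2) (Fin 2) F) * (g : Matrix (Fin 2) (Fin 2) F) *
    !![t, 1; 1, 0] = _
  ext i j
  fin_cases i <;> fin_cases j <;>
    simp [Matrix.mul_apply, Fin.sum_univ_two, Matrix.vecMul, dotProduct] <;> ring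

/-- The line `l` is mapped to itself. -/
def Fixes (g : GL (Fin 2) F) : Option F → Prop
  | none => (g : Matrix (Fin 2) (Fin 2) F) 1 0 = 0
  | some t => (g : Matrix (Fin 2) (Fin 2) F) 1 0 * t ^ 2 +
      ((g : Matrix (Fin 2) (Fin 2) F) 1 1 - (g : Matrix (Fin 2) (Fin 2) F) 0 0) * t -
      (g : Matrix (Fin 2) (Fin 2) F) 0 1 = 0

theorem conj_mem_iff (g : GL (Fin 2) F) (l : Option F) :
    (rep l)⁻¹ * g * rep l ∈ Cfsg.upperTriangularGL 2 F ↔ Fixes g l := by
  rw [mem_borel_iff]
  cases l with
  | none => simp [rep, Fixes]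
  | some t =>
    rw [conj_rep_some]
    simp only [Fixes]
    constructor <;> intro h
    · simp at h; linear_combination -h
    · simp; linear_combination -h

/-- The lines parametrise the cosets. -/
def coset (l : Option F) : GL (Fin 2) F ⧸ Cfsg.upperTriangularGL 2 F := (rep l : _)

theorem coset_bijective : Function.Bijective (coset (F := F)) := by
  constructor
  · intro l l' h
    have h' := QuotientGroup.eq.1 h
    rw [mem_borel_iff, rep_inv, Units.val_mul] at h'
    cases l <;> cases l' <;>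
      simp [rep, repInv, Matrix.mul_apply, Fin.sum_univ_two] at h' ⊢
    exact (sub_eq_zero.1 (by linear_combination h')).symm
  · intro q
    obtain ⟨x, rfl⟩ := QuotientGroup.mk_surjective q
    by_cases h : (x : Matrix (Fin 2) (Fin 2) F) 1 0 = 0
    · refine ⟨none, QuotientGroup.eq.2 ?_⟩
      simpa [rep, mem_borel_iff] using h
    · refine ⟨some ((x : Matrix (Fin 2) (Fin 2) F) 0 0 / (x : Matrix (Fin 2) (Fin 2) F) 1 0),
        QuotientGroup.eq.2 ?_⟩
      rw [mem_borel_iff, rep_inv, Units.val_mul]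
      simp [repInv, Matrix.mul_apply, Fin.sum_univ_two]
      field_simp
      ring

theorem fixedBy_coset_iff (g : GL (Fin 2) F) (l : Option F) :
    coset l ∈ MulAction.fixedBy (GL (Fin 2) F ⧸ Cfsg.upperTriangularGL 2 F) g ↔ Fixes g l := by
  rw [MulAction.mem_fixedBy, ← conj_mem_iff, coset, eq_comm]
  show (rep l : GL (Fin 2) F ⧸ Cfsg.upperTriangularGL 2 F) = ((g * rep l : GL (Fin 2) F) : _) ↔ _
  rw [QuotientGroup.eq, mul_assoc]

/-- The permutation character counts fixed lines. -/
theorem fixedPointCharacter_eq (g : GL (Fin 2) F) :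
    Cfsg.fixedPointCharacter (Cfsg.upperTriangularGL 2 F) g =
      (Nat.card {l : Option F // Fixes g l} : ℂ) := by
  unfold Cfsg.fixedPointCharacter
  congr 1
  refine (Nat.card_congr (Equiv.subtypeEquiv (Equiv.ofBijective _ coset_bijective) fun l => ?_)).symm
  exact (fixedBy_coset_iff g l).symm

/-- A fixed line gives an eigenvector. -/
theorem eigvec_of_fixes {g : GL (Fin 2) F} {l : Option F} (h : Fixes g l) :
    ∃ (c : F) (v : Fin 2 → F), v ≠ 0 ∧ (g : Matrix (Fin 2) (Fin 2) F).mulVec v = c • v := by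
  cases l with
  | none =>
    refine ⟨(g : Matrix (Fin 2) (Fin 2) F) 0 0, ![1, 0], fun e => by simpa using congrFun e 0, ?_⟩
    simp only [Fixes] at h
    ext i; fin_cases i <;> simp [Matrix.mulVec, dotProduct, Fin.sum_univ_two, h]
  | some t =>
    refine ⟨(g : Matrix (Fin 2) (Fin 2) F) 1 0 * t + (g : Matrix (Fin 2) (Fin 2) F) 1 1, ![t, 1],
      fun e => by simpa using congrFun e 1, ?_⟩
    simp only [Fixes] at h
    ext i; fin_cases i <;> simp [Matrix.mulVec, dotProduct, Fin.sum_univ_two]
    linear_combination -h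

section Induced

variable [Fintype F] [DecidableEq F] (α β : MulChar F ℂ)

/-- The linear character of the Borel subgroup. -/
noncomputable def borelChar : Cfsg.upperTriangularGL 2 F → ℂ := fun b =>
  α (((b : GL (Fin 2) F) : Matrix (Fin 2) (Fin 2) F) 0 0) *
    β (((b : GL (Fin 2) F) : Matrix (Fin 2) (Fin 2) F) 1 1)

theorem borelChar_mul (a b : Cfsg.upperTriangularGL 2 F) :
    borelChar α β (a * b) = borelChar α β a * borelChar α β b := by
  have ha := (mem_borel_iff _).1 a.2
  have hb := (mem_borel_iff _).1 b.2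
  simp only [borelChar, Subgroup.coe_mul, Units.val_mul, Matrix.mul_apply, Fin.sum_univ_two, ha, hb,
    mul_zero, zero_mul, add_zero, zero_add, map_mul]
  ring

theorem borelChar_one : borelChar α β 1 = 1 := by simp [borelChar]

theorem isClassFunction_borelChar :
    Cfsg.IsClassFunction (Cfsg.upperTriangularGL 2 F) (borelChar α β) := fun g h => by
  rw [borelChar_mul, borelChar_mul, mul_comm (borelChar α β h), mul_assoc, ← borelChar_mul,
    mul_inv_cancel, borelChar_one, mul_one]

/-- The term of the line `l`. -/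
noncomputable def term (g : GL (Fin 2) F) : Option F → ℂ
  | none => if (g : Matrix (Fin 2) (Fin 2) F) 1 0 = 0 then
      α ((g : Matrix (Fin 2) (Fin 2) F) 0 0) * β ((g : Matrix (Fin 2) (Fin 2) F) 1 1) else 0
  | some t => if (g : Matrix (Fin 2) (Fin 2) F) 1 0 * t ^ 2 +
      ((g : Matrix (Fin 2) (Fin 2) F) 1 1 - (g : Matrix (Fin 2) (Fin 2) F) 0 0) * t -
      (g : Matrix (Fin 2) (Fin 2) F) 0 1 = 0 then
      α ((g : Matrix (Fin 2) (Fin 2) F) 1 0 * t + (g : Matrix (Fin 2) (Fin 2) F) 1 1) *
        β ((g : Matrix (Fin 2) (Fin 2) F) 0 0 - t * (g : Matrix (Fin 2) (Fin 2) F) 1 0) else 0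

/-- Induction from the Borel subgroup as a sum over lines. -/
theorem ind_eq (g : GL (Fin 2) F) :
    Cfsg.indFun (Cfsg.upperTriangularGL 2 F) (borelChar α β) g =
      ∑ l : Option F, term α β g l := by
  classical
  have := Fintype.ofFinite (GL (Fin 2) F ⧸ Cfsg.upperTriangularGL 2 F)
  rw [CharInduced.ind_eq_sum_quotient (Cfsg.upperTriangularGL 2 F) (isClassFunction_borelChar α β)]
  refine (Fintype.sum_bijective coset coset_bijective _ _ fun l => ?_).symm
  obtain ⟨h, hh⟩ := QuotientGroup.mk_out_eq_mul (Cfsg.upperTriangularGL 2 F) (rep l)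
  have he : (coset l).out⁻¹ * g * (coset l).out =
      ((h⁻¹ : _) : GL (Fin 2) F) * ((rep l)⁻¹ * g * rep l) * ((h⁻¹ : _) : GL (Fin 2) F)⁻¹ := by
    unfold coset; rw [hh]; simp only [Subgroup.coe_inv]; group
  rw [he, CharInduced.ext_zero_conj_inv (isClassFunction_borelChar α β) (h⁻¹).2]
  by_cases hf : Fixes g l
  · rw [CharInduced.ext_zero_of_mem _ ((conj_mem_iff g l).2 hf)]
    cases l with
    | none => simp only [Fixes] at hf; simp [term, borelChar, rep, hf]
    | some t =>
      simp only [Fixes] at hf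
      simp only [term, if_pos hf, borelChar, conj_rep_some]
      simp
  · rw [CharInduced.ext_zero_of_not_mem _ fun e => hf ((conj_mem_iff g l).1 e)]
    cases l with
    | none => simp only [Fixes] at hf; simp [term, hf]
    | some t => simp only [Fixes] at hf; simp [term, hf]

end Induced

/-- A non-scalar matrix has a cyclic vector. -/
theorem exists_cyclic {g : Matrix (Fin 2) (Fin 2) F}
    (h : ¬ (g 0 1 = 0 ∧ g 1 0 = 0 ∧ g 0 0 = g 1 1)) :
    ∃ v : Fin 2 → F, v 0 * (g *ᵥ v) 1 - v 1 * (g *ᵥ v) 0 ≠ 0 := by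
  by_contra hc
  push Not at hc
  have h1 := hc ![1, 0]
  have h2 := hc ![0, 1]
  have h3 := hc ![1, 1]
  simp [Matrix.mulVec, dotProduct, Fin.sum_univ_two] at h1 h2 h3
  exact h ⟨h2, h1, by linear_combination -h3 + h1 - h2⟩

/-- Companion element of trace `t` and determinant `d`. -/
def comp (t : F) (d : F) (hd : d ≠ 0) : GL (Fin 2) F := gl 0 (-d) 1 t (by simpa using hd)

/-- A non-scalar element is conjugate to the companion element. -/
theorem isConj_comp {g : GL (Fin 2) F}
    (h : ¬ ((g : Matrix (Fin 2) (Fin 2) F) 0 1 = 0 ∧ (g : Matrix (Fin 2) (Fin 2) F) 1 0 = 0 ∧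
      (g : Matrix (Fin 2) (Fin 2) F) 0 0 = (g : Matrix (Fin 2) (Fin 2) F) 1 1)) :
    IsConj (comp (g : Matrix (Fin 2) (Fin 2) F).trace (g : Matrix (Fin 2) (Fin 2) F).det
      g.det_ne_zero) g := by
  obtain ⟨v, hv⟩ := exists_cyclic h
  refine isConj_iff.2 ⟨gl (v 0) ((g.val *ᵥ v) 0) (v 1) ((g.val *ᵥ v) 1)
    (by intro e; apply hv; linear_combination e), ?_⟩
  rw [mul_inv_eq_iff_eq_mul]
  apply Units.ext
  rw [Units.val_mul, Units.val_mul]
  show (!![v 0, (g.val *ᵥ v) 0; v 1, (g.val *ᵥ v) 1] : Matrix (Fin 2) (Fin 2) F) *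
    !![0, -g.val.det; 1, g.val.trace] = g.val * !![v 0, (g.val *ᵥ v) 0; v 1, (g.val *ᵥ v) 1]
  ext i j
  fin_cases i <;> fin_cases j <;>
    simp [Matrix.mul_apply, Matrix.mulVec, dotProduct, Fin.sum_univ_two, Matrix.trace_fin_two,
      Matrix.det_fin_two] <;> ring

/-- Representatives of the classes. -/
def classRep : Fˣ ⊕ (F × Fˣ) → GL (Fin 2) F
  | Sum.inl a => gl a 0 0 a (by simp)
  | Sum.inr (t, d) => comp t d d.ne_zero

theorem classRep_bijective : Function.Bijective (fun z => ConjClasses.mk (classRep (F := F) z)) := by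
  have scal : ∀ (a : Fˣ) (g : GL (Fin 2) F), g * classRep (Sum.inl a) * g⁻¹ = classRep (Sum.inl a) := by
    intro a g
    rw [mul_inv_eq_iff_eq_mul]
    apply Units.ext
    rw [Units.val_mul, Units.val_mul]
    show g.val * (!![(a : F), 0; 0, a] : Matrix (Fin 2) (Fin 2) F) = !![(a : F), 0; 0, a] * g.val
    ext i j; fin_cases i <;> fin_cases j <;> simp [Matrix.mul_apply, Fin.sum_univ_two, mul_comm]
  constructor
  · intro x y h
    have hc := ConjClasses.mk_eq_mk_iff_isConj.1 h
    rcases x with a | ⟨t, d⟩ <;> rcases y with b | ⟨s, e⟩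
    · obtain ⟨g, hg⟩ := isConj_iff.1 hc
      rw [scal] at hg
      have := congrArg (fun z : GL (Fin 2) F => z.val 0 0) hg
      simp [classRep] at this
      exact congrArg Sum.inl (Units.ext this)
    · obtain ⟨g, hg⟩ := isConj_iff.1 hc
      rw [scal] at hg
      simpa [classRep, comp] using congrArg (fun z : GL (Fin 2) F => z.val 1 0) hg
    · obtain ⟨g, hg⟩ := isConj_iff.1 hc.symm
      rw [scal] at hg
      simpa [classRep, comp] using congrArg (fun z : GL (Fin 2) F => z.val 1 0) hg
    · obtain ⟨g, hg⟩ := isConj_iff.1 hc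
      have h1 := congrArg (fun z : GL (Fin 2) F => z.val.trace) hg
      have h2 := congrArg (fun z : GL (Fin 2) F => z.val.det) hg
      simp only [Units.val_mul, Matrix.trace_units_conj, Matrix.det_units_conj] at h1 h2
      simp [classRep, comp, Matrix.trace_fin_two, Matrix.det_fin_two] at h1 h2
      exact congrArg Sum.inr (Prod.ext h1 (Units.ext h2))
  · intro C
    obtain ⟨g, rfl⟩ := ConjClasses.mk_surjective C
    by_cases h : g.val 0 1 = 0 ∧ g.val 1 0 = 0 ∧ g.val 0 0 = g.val 1 1
    · have hne : g.val 0 0 ≠ 0 := fun e => by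
        apply det_ne g; simp [h.1, e]
      refine ⟨Sum.inl (Units.mk0 _ hne), congrArg ConjClasses.mk (Units.ext ?_)⟩
      ext i j; fin_cases i <;> fin_cases j <;> simp [classRep, h]
    · exact ⟨Sum.inr (g.val.trace, Units.mk0 _ g.det_ne_zero),
        ConjClasses.mk_eq_mk_iff_isConj.2 (isConj_comp h)⟩

theorem card_classes [Fintype F] :
    Nat.card (ConjClasses (GL (Fin 2) F)) = Fintype.card F ^ 2 - 1 := by
  rw [← Nat.card_congr (Equiv.ofBijective _ (classRep_bijective (F := F))), Nat.card_sum,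
    Nat.card_prod, Nat.card_units, Nat.card_eq_fintype_card]
  obtain ⟨k, hk⟩ : ∃ k, Fintype.card F = k + 1 := ⟨_, (Nat.succ_pred_eq_of_pos Fintype.card_pos).symm⟩
  rw [hk, Nat.add_sub_cancel, show (k + 1) ^ 2 = (k + (k + 1) * k) + 1 by ring, Nat.add_sub_cancel]

/-- An element without eigenvector: the centraliser is the nonzero part of `F[g]`. -/
theorem card_centralizer_elliptic [Fintype F] (g : GL (Fin 2) F)
    (h : ∀ (c : F) (v : Fin 2 → F), v ≠ 0 → g.val.mulVec v ≠ c • v) :
    Nat.card (Subgroup.centralizer ({g} : Set (GL (Fin 2) F))) = Fintype.card F ^ 2 - 1 := by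
  classical
  have hinv : ∀ z : F × F, z ≠ 0 → (z.1 • (1 : Matrix (Fin 2) (Fin 2) F) + z.2 • g.val).det ≠ 0 := by
    intro z hz hd
    obtain ⟨v, hv, hv0⟩ := Matrix.exists_mulVec_eq_zero_iff.2 hd
    rw [Matrix.add_mulVec, Matrix.smul_mulVec, Matrix.smul_mulVec, Matrix.one_mulVec] at hv0
    by_cases h2 : z.2 = 0
    · rw [h2, zero_smul, add_zero, smul_eq_zero] at hv0
      exact hz (Prod.ext (hv0.resolve_right hv) h2)
    · refine h (-(z.1 / z.2)) v hv ?_
      ext i
      have := congrFun hv0 i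
      simp only [Pi.add_apply, Pi.smul_apply, Pi.zero_apply, smul_eq_mul] at this ⊢
      field_simp
      linear_combination this
  have hg10 : g.val 1 0 ≠ 0 := fun e => h (g.val 0 0) ![1, 0] (fun e' => by simpa using congrFun e' 0)
    (by ext i; fin_cases i <;> simp [Matrix.mulVec, dotProduct, Fin.sum_univ_two, e])
  let f : {z : F × F // z ≠ 0} → Subgroup.centralizer ({g} : Set (GL (Fin 2) F)) := fun z =>
    ⟨GeneralLinearGroup.mkOfDetNeZero _ (hinv z.1 z.2), by
      rw [Subgroup.mem_centralizer_singleton_iff]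
      apply Units.ext
      show (z.1.1 • (1 : Matrix (Fin 2) (Fin 2) F) + z.1.2 • g.val) * g.val =
        g.val * (z.1.1 • (1 : Matrix (Fin 2) (Fin 2) F) + z.1.2 • g.val)
      simp [add_mul, mul_add]⟩
  have hf : Function.Bijective f := by
    constructor
    · intro a b e
      have e' : a.1.1 • (1 : Matrix (Fin 2) (Fin 2) F) + a.1.2 • g.val =
          b.1.1 • (1 : Matrix (Fin 2) (Fin 2) F) + b.1.2 • g.val :=
        congrArg (fun z : Subgroup.centralizer ({g} : Set (GL (Fin 2) F)) => z.1.val) e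
      have e10 := congrFun (congrFun e' 1) 0
      have e00 := congrFun (congrFun e' 0) 0
      simp at e10 e00
      have h2 : a.1.2 = b.1.2 := e10.resolve_right hg10
      rw [h2] at e00
      exact Subtype.ext (Prod.ext (add_right_cancel e00) h2)
    · intro B
      have hB : B.1.val * g.val = g.val * B.1.val :=
        congrArg Units.val (Subgroup.mem_centralizer_singleton_iff.1 B.2)
      have h00 := congrFun (congrFun hB 0) 0
      have h10 := congrFun (congrFun hB 1) 0
      simp [Matrix.mul_apply, Fin.sum_univ_two] at h00 h10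
      set y := B.1.val 1 0 / g.val 1 0 with hy
      set x := B.1.val 0 0 - y * g.val 0 0 with hx
      have key : B.1.val = x • (1 : Matrix (Fin 2) (Fin 2) F) + y • g.val := by
        ext i j
        fin_cases i <;> fin_cases j <;> simp [hx, hy] <;> field_simp
        · linear_combination h00
        · linear_combination h10
      refine ⟨⟨(x, y), fun e => ?_⟩, Subtype.ext (Units.ext key.symm)⟩
      obtain ⟨e1, e2⟩ := Prod.mk_eq_zero.1 e
      apply B.1.det_ne_zero
      rw [key, e1, e2]
      simp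
  rw [← Nat.card_congr (Equiv.ofBijective f hf), Nat.card_eq_fintype_card,
    Fintype.card_subtype_compl, Fintype.card_subtype_eq, Fintype.card_prod, sq]

theorem card_centralizer_diag [Fintype F] (g : GL (Fin 2) F) (h01 : g.val 0 1 = 0)
    (h10 : g.val 1 0 = 0) (hne : g.val 0 0 ≠ g.val 1 1) :
    Nat.card (Subgroup.centralizer ({g} : Set (GL (Fin 2) F))) = (Fintype.card F - 1) ^ 2 := by
  classical
  let f : Fˣ × Fˣ → Subgroup.centralizer ({g} : Set (GL (Fin 2) F)) := fun z =>
    ⟨gl z.1 0 0 z.2 (by simp), by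
      rw [Subgroup.mem_centralizer_singleton_iff]
      apply Units.ext
      rw [Units.val_mul, Units.val_mul]
      ext i j; fin_cases i <;> fin_cases j <;>
        simp [Matrix.mul_apply, Fin.sum_univ_two, h01, h10, mul_comm]⟩
  have hf : Function.Bijective f := by
    constructor
    · intro a b e
      have h0 := congrArg (fun z : Subgroup.centralizer ({g} : Set (GL (Fin 2) F)) => z.1.val 0 0) e
      have h1 := congrArg (fun z : Subgroup.centralizer ({g} : Set (GL (Fin 2) F)) => z.1.val 1 1) e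
      simp [f] at h0 h1
      exact Prod.ext (Units.ext h0) (Units.ext h1)
    · intro B
      have hB : B.1.val * g.val = g.val * B.1.val :=
        congrArg Units.val (Subgroup.mem_centralizer_singleton_iff.1 B.2)
      have e01 := congrFun (congrFun hB 0) 1
      have e10 := congrFun (congrFun hB 1) 0
      simp [Matrix.mul_apply, Fin.sum_univ_two, h01, h10] at e01 e10
      have hd : g.val 1 1 - g.val 0 0 ≠ 0 := sub_ne_zero.2 hne.symm
      have b01 : B.1.val 0 1 = 0 :=
        (mul_eq_zero.1 (show B.1.val 0 1 * (g.val 1 1 - g.val 0 0) = 0 by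
          linear_combination e01)).resolve_right hd
      have b10 : B.1.val 1 0 = 0 :=
        (mul_eq_zero.1 (show B.1.val 1 0 * (g.val 1 1 - g.val 0 0) = 0 by
          linear_combination -e10)).resolve_right hd
      have hdd := det_ne B.1
      rw [b01, zero_mul, sub_zero] at hdd
      refine ⟨(Units.mk0 _ (left_ne_zero_of_mul hdd), Units.mk0 _ (right_ne_zero_of_mul hdd)),
        Subtype.ext (Units.ext ?_)⟩
      ext i j; fin_cases i <;> fin_cases j <;> simp [f, b01, b10]
  rw [← Nat.card_congr (Equiv.ofBijective f hf), Nat.card_prod, Nat.card_units,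
    Nat.card_eq_fintype_card, sq]

end Cfsg.Agent.GL2Borel
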