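import Mathlib
import Cfsg.Agent.Lib.GL2Borel
import Cfsg.Agent.Lib.CharBasicDecomp
import Cfsg.Agent.Lib.CharBasicInt
import Cfsg.Agent.Lib.CharInducedRep
import Cfsg.Agent.Lib.PSLCard

/-!
The irreducible characters of `GL(2, F)`: linear, Steinberg, principal series and cuspidal,
with their degrees and their values away from the elliptic classes.
-/

set_option autoImplicit false

namespace Cfsg.Agent.GL2Chars

open Cfsg Cfsg.Agent.GL2Borel Matrix
open scoped MatrixGroups ComplexConjugate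

variable {F : Type*} [Field F] [Fintype F] [DecidableEq F]

/-! ### Multiplicative characters -/

theorem sum_units_eq (α : MulChar F ℂ) : ∑ a : Fˣ, α a = ∑ a : F, α a := by
  refine Eq.trans (Finset.sum_map Finset.univ ⟨fun a : Fˣ => (a : F), Units.val_injective⟩ (fun a => α a)).symm ?_
  refine Finset.sum_subset (Finset.subset_univ _) fun a _ ha => ?_
  apply MulChar.map_nonunit
  intro hu
  exact ha (Finset.mem_map.2 ⟨hu.unit, Finset.mem_univ _, rfl⟩)

theorem conj_apply (γ : MulChar F ℂ) (a : F) : conj (γ a) = γ⁻¹ a := MulChar.star_apply' γ a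

theorem mul_conj_self (α : MulChar F ℂ) (a : Fˣ) : α a * conj (α a) = 1 := by
  rw [conj_apply, ← MulChar.mul_apply, mul_inv_cancel, MulChar.one_apply_coe]

theorem sum_mul_conj (α γ : MulChar F ℂ) [Decidable (α = γ)] :
    ∑ a : Fˣ, α a * conj (γ a) = if α = γ then ((Fintype.card F : ℂ) - 1) else 0 := by
  split_ifs with h
  · subst h
    simp only [mul_conj_self, Finset.sum_const, Finset.card_univ, nsmul_eq_mul, mul_one]
    rw [Fintype.card_units, Nat.cast_sub Fintype.card_pos, Nat.cast_one]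
  · simp only [conj_apply, ← MulChar.mul_apply]
    rw [sum_units_eq, MulChar.sum_eq_zero_of_ne_one]
    exact fun e => h (mul_inv_eq_one.1 e)

theorem card_mulChar : Nat.card (MulChar F ℂ) = Fintype.card F - 1 := by
  rw [MulChar.card_eq_card_units_of_hasEnoughRootsOfUnity, Nat.card_eq_fintype_card,
    Fintype.card_units]

theorem sum_mulChar [Fintype (MulChar F ℂ)] (a : Fˣ) :
    ∑ α : MulChar F ℂ, α a = if a = 1 then ((Fintype.card F : ℂ) - 1) else 0 := by
  split_ifs with h
  · subst h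
    simp only [Units.val_one, map_one, Finset.sum_const, Finset.card_univ, nsmul_eq_mul, mul_one,
      ← Nat.card_eq_fintype_card, card_mulChar]
    rw [Nat.card_eq_fintype_card, Nat.cast_sub Fintype.card_pos, Nat.cast_one]
  · obtain ⟨γ, hγ⟩ := MulChar.exists_apply_ne_one_of_hasEnoughRootsOfUnity F ℂ
      (show (a : F) ≠ 1 from fun e => h (Units.ext e))
    have h1 : γ a * ∑ α : MulChar F ℂ, α a = ∑ α : MulChar F ℂ, α a := by
      rw [Finset.mul_sum]
      exact Fintype.sum_equiv (Equiv.mulLeft γ) _ _ fun α => (MulChar.mul_apply γ α a).symm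
    exact eq_zero_of_mul_eq_self_left hγ h1

theorem card_sub_one_ne : ((Fintype.card F : ℂ) - 1) ≠ 0 := by
  rw [sub_ne_zero]; exact_mod_cast Fintype.one_lt_card.ne'

theorem card_ne : (Fintype.card F : ℂ) ≠ 0 := Nat.cast_ne_zero.2 Fintype.card_ne_zero

/-- A function on pairs of units orthogonal to all pairs of characters vanishes. -/
theorem eq_zero_of_orth (S : Fˣ → Fˣ → ℂ)
    (h : ∀ α β : MulChar F ℂ, ∑ a, ∑ d, S a d * conj (α a * β d) = 0) (a₀ d₀ : Fˣ) :
    S a₀ d₀ = 0 := by
  classical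
  have := Fintype.ofFinite (MulChar F ℂ)
  have key : ∀ a : Fˣ, ∀ a₁ : Fˣ, ∑ α : MulChar F ℂ, α a₁ * conj (α a) =
      if a = a₁ then ((Fintype.card F : ℂ) - 1) else 0 := by
    intro a a₁
    have e : ∀ α : MulChar F ℂ, α a₁ * conj (α a) = α ((a₁ * a⁻¹ : Fˣ) : F) := fun α => by
      rw [conj_apply, MulChar.inv_apply', ← map_mul, ← Units.val_inv_eq_inv_val, ← Units.val_mul]
    simp only [e, sum_mulChar, mul_inv_eq_one, eq_comm (a := a₁)]
  have h1 : ∑ α : MulChar F ℂ, ∑ β : MulChar F ℂ,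
      α a₀ * β d₀ * ∑ a, ∑ d, S a d * conj (α a * β d) = 0 := by
    simp only [h, mul_zero, Finset.sum_const_zero]
  have h2 : ∑ α : MulChar F ℂ, ∑ β : MulChar F ℂ,
      α a₀ * β d₀ * ∑ a, ∑ d, S a d * conj (α a * β d) =
      ∑ a : Fˣ, ∑ d : Fˣ, S a d * ((∑ α : MulChar F ℂ, α a₀ * conj (α a)) *
        (∑ β : MulChar F ℂ, β d₀ * conj (β d))) := by
    simp only [Finset.mul_sum, Finset.sum_mul, map_mul]
    calc _ = ∑ z : (MulChar F ℂ × MulChar F ℂ) × (Fˣ × Fˣ),
          z.1.1 a₀ * z.1.2 d₀ * (S z.2.1 z.2.2 * (conj (z.1.1 z.2.1) * conj (z.1.2 z.2.2))) := by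
          simp only [Fintype.sum_prod_type]
      _ = ∑ z : (Fˣ × Fˣ) × (MulChar F ℂ × MulChar F ℂ),
          z.2.1 a₀ * z.2.2 d₀ * (S z.1.1 z.1.2 * (conj (z.2.1 z.1.1) * conj (z.2.2 z.1.2))) :=
          Fintype.sum_equiv (Equiv.prodComm _ _) _ _ fun z => rfl
      _ = _ := by
          simp only [Fintype.sum_prod_type]
          refine Finset.sum_congr rfl fun a _ => Finset.sum_congr rfl fun d _ => ?_
          rw [Finset.sum_comm]
          exact Finset.sum_congr rfl fun β _ => Finset.sum_congr rfl fun α _ => by ring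
  rw [h2] at h1
  simp only [key] at h1
  simp [card_sub_one_ne] at h1
  exact h1

theorem sum_sum_mul (c : ℂ) (f g : Fˣ → ℂ) :
    ∑ a, ∑ d, c * (f a * g d) = c * ((∑ a, f a) * ∑ d, g d) := by
  rw [Finset.sum_mul_sum, Finset.mul_sum]
  exact Finset.sum_congr rfl fun a _ => (Finset.mul_sum _ _ _).symm

/-! ### The Borel subgroup -/

/-- An element of the Borel subgroup by its entries. -/
def bor (a d : Fˣ) (x : F) : upperTriangularGL 2 F :=
  ⟨gl a x 0 d (by simp), (mem_borel_iff _).2 (by simp)⟩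

theorem bor_bijective :
    Function.Bijective (fun z : (Fˣ × Fˣ) × F => bor z.1.1 z.1.2 z.2) := by
  constructor
  · intro u v h
    have e := congrArg (fun b : upperTriangularGL 2 F => ((b : GL (Fin 2) F) : Matrix (Fin 2) (Fin 2) F)) h
    simp [bor] at e
    exact Prod.ext (Prod.ext (Units.ext e.1.1) (Units.ext e.2)) e.1.2
  · intro b
    have h0 := (mem_borel_iff _).1 b.2
    have hd := det_ne (b : GL (Fin 2) F)
    rw [h0, mul_zero, sub_zero] at hd
    refine ⟨((Units.mk0 _ (left_ne_zero_of_mul hd), Units.mk0 _ (right_ne_zero_of_mul hd)),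
      ((b : GL (Fin 2) F) : Matrix (Fin 2) (Fin 2) F) 0 1), Subtype.ext (Units.ext ?_)⟩
    ext i j; fin_cases i <;> fin_cases j <;> simp [bor, h0]

theorem card_borel : Nat.card (upperTriangularGL 2 F) =
    (Fintype.card F - 1) * (Fintype.card F - 1) * Fintype.card F := by
  rw [← Nat.card_congr (Equiv.ofBijective _ bor_bijective)]
  simp [Nat.card_prod, Nat.card_eq_fintype_card, Fintype.card_units]

/-- The row sum `∑ₓ χ(bor a d x)`. -/
noncomputable def rowSum (χ : GL (Fin 2) F → ℂ) (a d : Fˣ) : ℂ :=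
  ∑ x : F, χ (bor a d x : GL (Fin 2) F)

/-- The inner product with an induced character through the row sums. -/
theorem inner_ind_eq (χ : GL (Fin 2) F → ℂ) (hχ : IsClassFunction (GL (Fin 2) F) χ)
    (γ δ : MulChar F ℂ) :
    classInner χ (indFun (upperTriangularGL 2 F) (borelChar γ δ)) =
      (((Fintype.card F : ℂ) - 1) ^ 2 * Fintype.card F)⁻¹ *
        ∑ a : Fˣ, ∑ d : Fˣ, rowSum χ a d * conj (γ a * δ d) := by
  classical
  rw [CharInduced.inner_ind_right _ _ hχ, classInner, card_borel]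
  congr 1
  · rw [Nat.cast_mul, Nat.cast_mul, Nat.cast_sub Fintype.card_pos, Nat.cast_one, sq]
  · rw [← Fintype.sum_bijective _ bor_bijective
      (fun z => χ (bor z.1.1 z.1.2 z.2 : GL (Fin 2) F) * conj (γ z.1.1 * δ z.1.2)) _
      (fun z => by simp [borelChar, bor])]
    simp only [Fintype.sum_prod_type, rowSum, Finset.sum_mul]

theorem ind_bor (α β : MulChar F ℂ) (a d : Fˣ) (x : F) :
    indFun (upperTriangularGL 2 F) (borelChar α β) (bor a d x : GL (Fin 2) F) =
      α a * β d + ∑ t : F, if ((d : F) - a) * t = x then α d * β a else 0 := by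
  rw [ind_eq, Fintype.sum_option]
  congr 1
  · simp [term, bor]
  · refine Finset.sum_congr rfl fun t _ => ?_
    simp [term, bor, sub_eq_zero]

theorem rowSum_ind (α β : MulChar F ℂ) (a d : Fˣ) :
    rowSum (indFun (upperTriangularGL 2 F) (borelChar α β)) a d =
      (Fintype.card F : ℂ) * (α a * β d + α d * β a) := by
  simp only [rowSum, ind_bor, Finset.sum_add_distrib]
  rw [Finset.sum_comm]
  simp [mul_add]

theorem inv_norm_mul (A B : Prop) [Decidable A] [Decidable B] [Decidable (A ∧ B)] :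
    (((Fintype.card F : ℂ) - 1) ^ 2 * (Fintype.card F : ℂ))⁻¹ *
      ((Fintype.card F : ℂ) * ((if A then ((Fintype.card F : ℂ) - 1) else 0) *
        (if B then ((Fintype.card F : ℂ) - 1) else 0))) = if A ∧ B then 1 else 0 := by
  have h1 := card_sub_one_ne (F := F)
  have h2 := card_ne (F := F)
  by_cases hA : A <;> by_cases hB : B <;> simp [hA, hB]
  field_simp

theorem inner_ind_ind (α β γ δ : MulChar F ℂ) [Decidable (α = γ ∧ β = δ)]
    [Decidable (β = γ ∧ α = δ)] :
    classInner (indFun (upperTriangularGL 2 F) (borelChar α β))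
        (indFun (upperTriangularGL 2 F) (borelChar γ δ)) =
      (if α = γ ∧ β = δ then 1 else 0) + (if β = γ ∧ α = δ then 1 else 0) := by
  classical
  rw [inner_ind_eq _ (CharInduced.isClassFunction_ind _ _)]
  have e : ∀ a d : Fˣ, rowSum (indFun (upperTriangularGL 2 F) (borelChar α β)) a d *
      conj (γ a * δ d) = (Fintype.card F : ℂ) * ((α a * conj (γ a)) * (β d * conj (δ d)) +
        (β a * conj (γ a)) * (α d * conj (δ d))) := fun a d => by
    rw [rowSum_ind, map_mul]; ring
  simp only [e, mul_add, Finset.sum_add_distrib, sum_sum_mul, sum_mul_conj]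
  rw [inv_norm_mul, inv_norm_mul]

/-- The linear character through the determinant. -/
noncomputable def detHom (α : MulChar F ℂ) : GL (Fin 2) F →* ℂˣ :=
  α.toUnitHom.comp GeneralLinearGroup.det

/-- The function `α ∘ det`. -/
noncomputable def detChar (α : MulChar F ℂ) : GL (Fin 2) F → ℂ := fun g => (detHom α g : ℂ)

theorem detChar_apply (α : MulChar F ℂ) (g : GL (Fin 2) F) :
    detChar α g = α (g : Matrix (Fin 2) (Fin 2) F).det := by
  simp [detChar, detHom]

theorem isIrr_det (α : MulChar F ℂ) : IsIrrCharacter (GL (Fin 2) F) (detChar α) :=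
  CharBasicDecomp.isIrrCharacter_linear _

theorem detChar_one (α : MulChar F ℂ) : detChar α (1 : GL (Fin 2) F) = 1 := by
  simp [detChar]

theorem detChar_bor (α : MulChar F ℂ) (a d : Fˣ) (x : F) :
    detChar α (bor a d x : GL (Fin 2) F) = α a * α d := by
  rw [detChar_apply, ← map_mul]; simp [bor, Matrix.det_fin_two]

theorem inner_det_ind (α γ δ : MulChar F ℂ) [Decidable (α = γ ∧ α = δ)] :
    classInner (detChar α) (indFun (upperTriangularGL 2 F) (borelChar γ δ)) =
      if α = γ ∧ α = δ then 1 else 0 := by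
  classical
  rw [inner_ind_eq _ (CharBasic.isClassFunction_of_isCharacter
    (CharBasic.isCharacter_of_isIrrCharacter (isIrr_det α)))]
  have e : ∀ a d : Fˣ, rowSum (detChar α) a d * conj (γ a * δ d) =
      (Fintype.card F : ℂ) * ((α a * conj (γ a)) * (α d * conj (δ d))) := fun a d => by
    simp only [rowSum, detChar_bor, Finset.sum_const, Finset.card_univ, nsmul_eq_mul, map_mul]
    ring
  simp only [e, sum_sum_mul, sum_mul_conj]
  exact inv_norm_mul _ _

theorem inner_ind_det (α γ δ : MulChar F ℂ) [Decidable (α = γ ∧ α = δ)] :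
    classInner (indFun (upperTriangularGL 2 F) (borelChar γ δ)) (detChar α) =
      if α = γ ∧ α = δ then 1 else 0 := by
  rw [← CharInduced.inner_conj_symm, inner_det_ind]
  split_ifs <;> simp

theorem ind_one (α β : MulChar F ℂ) :
    indFun (upperTriangularGL 2 F) (borelChar α β) 1 = (Fintype.card F : ℂ) + 1 := by
  rw [ind_eq, Fintype.sum_option]
  simp [term, add_comm]

theorem isCharacter_ind (α β : MulChar F ℂ) :
    IsCharacter (GL (Fin 2) F) (indFun (upperTriangularGL 2 F) (borelChar α β)) := by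
  refine CharInduced.isCharacter_ind _ ?_
  let f : upperTriangularGL 2 F →* ℂ :=
    { toFun := borelChar α β, map_one' := borelChar_one α β, map_mul' := borelChar_mul α β }
  exact CharBasicDecomp.isCharacter_linear f.toHomUnits

/-- The principal series. -/
theorem isIrr_principal {α β : MulChar F ℂ} (h : α ≠ β) :
    IsIrrCharacter (GL (Fin 2) F) (indFun (upperTriangularGL 2 F) (borelChar α β)) := by
  classical
  rw [CharBasicDecomp.isIrrCharacter_iff]
  refine ⟨isCharacter_ind α β, ?_⟩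
  rw [inner_ind_ind, if_pos ⟨rfl, rfl⟩, if_neg (fun e => h e.1.symm), add_zero]

theorem principal_comm (α β : MulChar F ℂ) :
    indFun (upperTriangularGL 2 F) (borelChar α β) =
      indFun (upperTriangularGL 2 F) (borelChar β α) := by
  classical
  rcases eq_or_ne α β with rfl | h
  · rfl
  by_contra hne
  have := CharBasicOrth.classInner_irr_ne (isIrr_principal h) (isIrr_principal h.symm) hne
  rw [inner_ind_ind, if_neg (fun e => h e.1), if_pos ⟨rfl, rfl⟩, zero_add] at this
  exact one_ne_zero this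

/-- The twisted Steinberg character. -/
noncomputable def stChar (α : MulChar F ℂ) : GL (Fin 2) F → ℂ :=
  indFun (upperTriangularGL 2 F) (borelChar α α) - detChar α

theorem stChar_one (α : MulChar F ℂ) : stChar α (1 : GL (Fin 2) F) = (Fintype.card F : ℂ) := by
  simp [stChar, ind_one, detChar_one]

theorem isIrr_st (α : MulChar F ℂ) : IsIrrCharacter (GL (Fin 2) F) (stChar α) := by
  classical
  have hg : IsGeneralizedCharacter (GL (Fin 2) F) (stChar α) :=
    ⟨_, _, isCharacter_ind α α, CharBasic.isCharacter_of_isIrrCharacter (isIrr_det α), rfl⟩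
  have hn : classInner (stChar α) (stChar α) = 1 := by
    rw [stChar, CharBasicOrth.classInner_sub_left, CharBasicOrth.classInner_sub_right,
      CharBasicOrth.classInner_sub_right, inner_ind_ind, inner_det_ind, inner_ind_det,
      CharBasicOrth.classInner_irr_self (isIrr_det α)]
    simp
  obtain ⟨χ, hχ, e | e⟩ := CharBasicDecomp.eq_or_neg_irr_of_norm_one hg hn
  · rwa [e]
  · exfalso
    obtain ⟨n, hn0, h1⟩ := CharBasic.isIrrCharacter_apply_one hχ
    have h2 := congrFun e 1
    rw [stChar_one, Pi.neg_apply, h1] at h2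
    have h3 : ((Fintype.card F + n : ℕ) : ℂ) = 0 := by push_cast; linear_combination h2
    have h4 := Nat.cast_eq_zero.1 h3
    omega

/-- Irreducible and orthogonal to all characters induced from the Borel subgroup. -/
def IsCusp (χ : GL (Fin 2) F → ℂ) : Prop :=
  IsIrrCharacter (GL (Fin 2) F) χ ∧
    ∀ α β : MulChar F ℂ, classInner χ (indFun (upperTriangularGL 2 F) (borelChar α β)) = 0

theorem irr_cases {χ : GL (Fin 2) F → ℂ} (hχ : IsIrrCharacter (GL (Fin 2) F) χ) :
    (∃ α, χ = detChar α) ∨ (∃ α, χ = stChar α) ∨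
      (∃ α β, α ≠ β ∧ χ = indFun (upperTriangularGL 2 F) (borelChar α β)) ∨ IsCusp χ := by
  classical
  by_cases h1 : ∃ α, χ = detChar α
  · exact Or.inl h1
  by_cases h2 : ∃ α, χ = stChar α
  · exact Or.inr (Or.inl h2)
  by_cases h3 : ∃ α β, α ≠ β ∧ χ = indFun (upperTriangularGL 2 F) (borelChar α β)
  · exact Or.inr (Or.inr (Or.inl h3))
  push Not at h1 h2 h3
  refine Or.inr (Or.inr (Or.inr ⟨hχ, fun α β => ?_⟩))
  rcases eq_or_ne α β with rfl | h
  · have : indFun (upperTriangularGL 2 F) (borelChar α α) = stChar α + detChar α := by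
      simp [stChar]
    rw [this, CharBasicOrth.classInner_add_right, CharBasicOrth.classInner_irr_ne hχ (isIrr_st α) (h2 α),
      CharBasicOrth.classInner_irr_ne hχ (isIrr_det α) (h1 α), add_zero]
  · exact CharBasicOrth.classInner_irr_ne hχ (isIrr_principal h) (h3 α β h)

theorem IsCusp.rowSum_eq_zero {χ : GL (Fin 2) F → ℂ} (h : IsCusp χ) (a d : Fˣ) :
    rowSum χ a d = 0 := by
  refine eq_zero_of_orth (rowSum χ) (fun α β => ?_) a d
  have hc := CharBasic.isClassFunction_of_isCharacter (CharBasic.isCharacter_of_isIrrCharacter h.1)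
  have := h.2 α β
  rw [inner_ind_eq χ hc] at this
  refine (mul_eq_zero.1 this).resolve_left ?_
  simp [card_sub_one_ne]

theorem apply_bor_of_ne {χ : GL (Fin 2) F → ℂ} (hc : IsClassFunction (GL (Fin 2) F) χ) {a d : Fˣ}
    (h : a ≠ d) (x : F) : χ (bor a d x : GL (Fin 2) F) = χ (bor a d 0 : GL (Fin 2) F) := by
  have hne : (d : F) - a ≠ 0 := sub_ne_zero.2 fun e => h (Units.ext e.symm)
  rw [← hc (bor a d 0 : GL (Fin 2) F) (gl 1 (x / (d - a)) 0 1 (by simp))]
  congr 1
  rw [eq_mul_inv_iff_mul_eq]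
  apply Units.ext
  simp only [Units.val_mul, bor, gl_coe, Matrix.mul_fin_two]
  ext i j; fin_cases i <;> fin_cases j <;> simp
  field_simp
  ring

theorem apply_bor_same {χ : GL (Fin 2) F → ℂ} (hc : IsClassFunction (GL (Fin 2) F) χ) (a : Fˣ)
    {x : F} (hx : x ≠ 0) : χ (bor a a x : GL (Fin 2) F) = χ (bor a a 1 : GL (Fin 2) F) := by
  rw [← hc (bor a a 1 : GL (Fin 2) F) (gl x 0 0 1 (by simpa using hx))]
  congr 1
  rw [eq_mul_inv_iff_mul_eq]
  apply Units.ext
  simp only [Units.val_mul, bor, gl_coe, Matrix.mul_fin_two]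
  ext i j; fin_cases i <;> fin_cases j <;> simp [mul_comm]

theorem bor_one : (bor (1 : Fˣ) 1 (0 : F) : GL (Fin 2) F) = 1 := by
  apply Units.ext; simp [bor, Matrix.one_fin_two]

theorem IsCusp.diag {χ : GL (Fin 2) F → ℂ} (h : IsCusp χ) {a d : Fˣ} (hne : a ≠ d) :
    χ (bor a d 0 : GL (Fin 2) F) = 0 := by
  have hc := CharBasic.isClassFunction_of_isCharacter (CharBasic.isCharacter_of_isIrrCharacter h.1)
  have := h.rowSum_eq_zero a d
  rw [rowSum, Finset.sum_congr rfl fun x _ => apply_bor_of_ne hc hne x] at this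
  simpa [card_ne] using this

theorem IsCusp.degree {χ : GL (Fin 2) F → ℂ} (h : IsCusp χ) :
    ∃ k : ℕ, 0 < k ∧ χ 1 = (k : ℂ) * ((Fintype.card F : ℂ) - 1) ∧
      χ (bor (1 : Fˣ) 1 (1 : F) : GL (Fin 2) F) = -(k : ℂ) := by
  have hch := CharBasic.isCharacter_of_isIrrCharacter h.1
  have hc := CharBasic.isClassFunction_of_isCharacter hch
  obtain ⟨n, hn, h1⟩ := CharBasic.isIrrCharacter_apply_one h.1
  have h0 := h.rowSum_eq_zero 1 1
  rw [rowSum, ← Finset.add_sum_erase _ _ (Finset.mem_univ (0 : F)),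
    Finset.sum_congr rfl fun x hx => apply_bor_same hc 1 (Finset.ne_of_mem_erase hx),
    Finset.sum_const, Finset.card_erase_of_mem (Finset.mem_univ _), Finset.card_univ, bor_one, h1,
    nsmul_eq_mul, Nat.cast_sub Fintype.card_pos, Nat.cast_one] at h0
  have hq1 : Fintype.card F - 1 ≠ 0 := by
    have := Fintype.one_lt_card (α := F); omega
  have hv : χ (bor (1 : Fˣ) 1 (1 : F) : GL (Fin 2) F) = -((n : ℂ) / ((Fintype.card F - 1 : ℕ) : ℂ)) := by
    rw [Nat.cast_sub Fintype.card_pos, Nat.cast_one]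
    field_simp [card_sub_one_ne]
    linear_combination h0
  have hi : IsIntegral ℤ ((n : ℂ) / ((Fintype.card F - 1 : ℕ) : ℂ)) := by
    have := (CharBasic.isCharacter_integral hch (bor (1 : Fˣ) 1 (1 : F) : GL (Fin 2) F)).neg
    rwa [hv, neg_neg] at this
  obtain ⟨k, hk⟩ := CharBasicInt.dvd_of_isIntegral_div hq1 hi
  refine ⟨k, ?_, ?_, ?_⟩
  · rcases Nat.eq_zero_or_pos k with rfl | hk0
    · simp [hn.ne'] at hk
    · exact hk0
  · rw [h1, hk, Nat.cast_mul, Nat.cast_sub Fintype.card_pos, Nat.cast_one]; ring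
  · rw [hv, hk, Nat.cast_mul, mul_div_cancel_left₀ _ (Nat.cast_ne_zero.2 hq1)]

/-! ### Counting -/

/-- The indices of the non-cuspidal characters. -/
abbrev Idx (F : Type*) [Field F] := MulChar F ℂ ⊕ MulChar F ℂ ⊕ {z : Sym2 (MulChar F ℂ) // ¬ z.IsDiag}

/-- The non-cuspidal irreducible characters. -/
noncomputable def nonCusp : Idx F → IrrCharacter (GL (Fin 2) F)
  | Sum.inl α => ⟨detChar α, isIrr_det α⟩
  | Sum.inr (Sum.inl α) => ⟨stChar α, isIrr_st α⟩
  | Sum.inr (Sum.inr z) =>
    ⟨Sym2.lift ⟨fun α β => indFun (upperTriangularGL 2 F) (borelChar α β), principal_comm⟩ z.1, by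
      obtain ⟨z, hz⟩ := z
      induction z using Sym2.ind with
      | h α β => simpa using isIrr_principal (by simpa using hz : α ≠ β)⟩

theorem stChar_diag (α : MulChar F ℂ) {a : Fˣ} (h : a ≠ 1) :
    stChar α (bor a 1 0 : GL (Fin 2) F) = α a := by
  have hne : (1 : F) - a ≠ 0 := sub_ne_zero.2 fun e => h (Units.ext e.symm)
  simp [stChar, ind_bor, detChar_bor, hne]

theorem detChar_injective : Function.Injective (detChar (F := F)) := fun α β h => by
  refine MulChar.ext fun a => ?_
  simpa [detChar_bor] using congrFun h (bor a 1 0 : GL (Fin 2) F)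

theorem stChar_injective : Function.Injective (stChar (F := F)) := fun α β h => by
  refine MulChar.ext fun a => ?_
  rcases eq_or_ne a 1 with rfl | ha
  · simp
  simpa [stChar_diag _ ha] using congrFun h (bor a 1 0 : GL (Fin 2) F)

theorem principal_inj {α β γ δ : MulChar F ℂ} (h : α ≠ β)
    (e : indFun (upperTriangularGL 2 F) (borelChar α β) =
      indFun (upperTriangularGL 2 F) (borelChar γ δ)) : (α = γ ∧ β = δ) ∨ (β = γ ∧ α = δ) := by
  classical
  by_contra hc
  push Not at hc
  have h1 := CharBasicOrth.classInner_irr_self (isIrr_principal h)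
  nth_rewrite 2 [e] at h1
  rw [inner_ind_ind, if_neg (fun x => hc.1 x.1 x.2), if_neg (fun x => hc.2 x.1 x.2), add_zero] at h1
  exact zero_ne_one h1

theorem nonCusp_one (i : Idx F) :
    (nonCusp i : GL (Fin 2) F → ℂ) 1 =
      match i with
      | Sum.inl _ => 1
      | Sum.inr (Sum.inl _) => (Fintype.card F : ℂ)
      | Sum.inr (Sum.inr _) => (Fintype.card F : ℂ) + 1 := by
  rcases i with α | α | ⟨z, hz⟩
  · exact detChar_one α
  · exact stChar_one α
  · induction z using Sym2.ind with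
    | h α β => simpa [nonCusp] using ind_one α β

theorem nonCusp_injective : Function.Injective (nonCusp (F := F)) := by
  intro i j h
  have hd := congrArg (fun χ : IrrCharacter (GL (Fin 2) F) => (χ : GL (Fin 2) F → ℂ) 1) h
  simp only [nonCusp_one] at hd
  have hq1 : (Fintype.card F : ℂ) ≠ 1 := sub_ne_zero.1 card_sub_one_ne
  have hq0 := card_ne (F := F)
  rcases i with α | α | z <;> rcases j with β | β | z' <;> simp only at hd
  · rw [detChar_injective (congrArg Subtype.val h)]
  · exact absurd hd.symm hq1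
  · exact absurd (add_eq_right.1 hd.symm) hq0
  · exact absurd hd hq1
  · rw [stChar_injective (congrArg Subtype.val h)]
  · exact absurd (left_eq_add.1 hd) one_ne_zero
  · exact absurd (add_eq_right.1 hd) hq0
  · exact absurd (add_eq_left.1 hd) one_ne_zero
  · obtain ⟨z, hz⟩ := z
    obtain ⟨z', hz'⟩ := z'
    induction z using Sym2.ind with
    | h α β =>
      induction z' using Sym2.ind with
      | h γ δ =>
        have e := congrArg Subtype.val h
        simp [nonCusp] at e
        refine congrArg (Sum.inr ∘ Sum.inr) (Subtype.ext ?_)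
        rcases principal_inj (by simpa using hz : α ≠ β) e with ⟨r, s⟩ | ⟨r, s⟩
        · show s(α, β) = s(γ, δ)
          rw [r, s]
        · show s(α, β) = s(γ, δ)
          rw [r, s, Sym2.eq_swap]

theorem isCusp_of_not_mem {χ : IrrCharacter (GL (Fin 2) F)} (h : χ ∉ Set.range (nonCusp (F := F))) :
    IsCusp (χ : GL (Fin 2) F → ℂ) := by
  rcases irr_cases χ.2 with ⟨α, e⟩ | ⟨α, e⟩ | ⟨α, β, hne, e⟩ | hc
  · exact absurd ⟨Sum.inl α, Subtype.ext e.symm⟩ h
  · exact absurd ⟨Sum.inr (Sum.inl α), Subtype.ext e.symm⟩ h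
  · exact absurd ⟨Sum.inr (Sum.inr ⟨s(α, β), by simpa using hne⟩), Subtype.ext (by
      simpa [nonCusp] using e.symm)⟩ h
  · exact hc

theorem IsCusp.not_mem {χ : IrrCharacter (GL (Fin 2) F)} (hc : IsCusp (χ : GL (Fin 2) F → ℂ)) :
    χ ∉ Set.range (nonCusp (F := F)) := by
  classical
  rintro ⟨i, rfl⟩
  rcases i with α | α | ⟨z, hz⟩
  · have := hc.2 α α
    simp only [nonCusp] at this
    rw [inner_det_ind, if_pos ⟨rfl, rfl⟩] at this
    exact one_ne_zero this
  · have := hc.2 α α
    simp only [nonCusp, stChar] at this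
    rw [CharBasicOrth.classInner_sub_left, inner_ind_ind, inner_det_ind, if_pos ⟨rfl, rfl⟩] at this
    norm_num at this
  · induction z using Sym2.ind with
    | h α β =>
      have := hc.2 α β
      simp [nonCusp] at this
      rw [inner_ind_ind, if_pos ⟨rfl, rfl⟩, if_neg fun e => (by simpa using hz : α ≠ β) e.1.symm,
        add_zero] at this
      exact one_ne_zero this

theorem two_mul_card_sym2 :
    2 * Nat.card {z : Sym2 (MulChar F ℂ) // ¬ z.IsDiag} =
      (Fintype.card F - 1) * (Fintype.card F - 2) := by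
  classical
  have := Fintype.ofFinite (MulChar F ℂ)
  rw [Nat.card_eq_fintype_card, Sym2.card_subtype_not_diag, ← Nat.card_eq_fintype_card,
    card_mulChar]
  rw [Nat.choose_two_right, Nat.mul_div_cancel' (Nat.even_mul_pred_self _).two_dvd]
  rfl

/-- Number and degree of the cuspidal characters. -/
theorem cusp_count :
    2 * Nat.card {χ : IrrCharacter (GL (Fin 2) F) // χ ∉ Set.range (nonCusp (F := F))} =
        Fintype.card F * (Fintype.card F - 1) ∧
      ∀ χ : GL (Fin 2) F → ℂ, IsCusp χ → χ 1 = (Fintype.card F : ℂ) - 1 ∧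
        χ (bor (1 : Fˣ) 1 (1 : F) : GL (Fin 2) F) = -1 := by
  classical
  have := Fintype.ofFinite (MulChar F ℂ)
  obtain ⟨m, hm⟩ : ∃ m, Fintype.card F = m + 1 := ⟨Fintype.card F - 1, by
    have := Fintype.card_pos (α := F); omega⟩
  have hm0 : 0 < m := by have := Fintype.one_lt_card (α := F); omega
  have hM : Nat.card (MulChar F ℂ) = m := by rw [card_mulChar, hm, Nat.add_sub_cancel]
  set C := {χ : IrrCharacter (GL (Fin 2) F) // χ ∉ Set.range (nonCusp (F := F))} with hC
  let instC : Fintype C := Fintype.ofFinite C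
  set P := Nat.card {z : Sym2 (MulChar F ℂ) // ¬ z.IsDiag} with hPdef
  have hP : 2 * P + m = m * m := by
    rw [hPdef, two_mul_card_sym2, hm, Nat.add_sub_cancel,
      show m + 1 - 2 = m - 1 by omega]
    obtain ⟨r, rfl⟩ : ∃ r, m = r + 1 := ⟨m - 1, by omega⟩
    simp; ring
  let e : Idx F ⊕ C ≃ IrrCharacter (GL (Fin 2) F) :=
    ((Equiv.ofInjective _ nonCusp_injective).sumCongr (Equiv.refl C)).trans
      (Equiv.sumCompl (fun χ => χ ∈ Set.range (nonCusp (F := F))))
  have hcard : m + m + P + Nat.card C = m * m + 2 * m := by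
    have h := Nat.card_congr e
    rw [CharBasicOrth.card_irrCharacter, card_classes, Nat.card_sum, Nat.card_sum, Nat.card_sum, hM,
      ← hPdef, hm] at h
    rw [show (m + 1) ^ 2 = m * m + 2 * m + 1 by ring, Nat.add_sub_cancel] at h
    omega
  choose k hk0 hk1 hk2 using fun χ : C => (isCusp_of_not_mem χ.2).degree
  have hG : (Nat.card (GL (Fin 2) F) : ℂ) = ((m : ℂ) * m + 2 * m) * ((m : ℂ) * m + m) := by
    rw [PSLCard.card_GL2, Nat.card_eq_fintype_card, hm,
      show (m + 1) ^ 2 = m * m + 2 * m + 1 by ring, Nat.add_sub_cancel,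
      show m * m + 2 * m + 1 - (m + 1) = m * m + m by omega]
    push_cast; ring
  have hq : (Fintype.card F : ℂ) = (m : ℂ) + 1 := by rw [hm]; push_cast; rfl
  have hsum := CharBasicOrth.sum_sq_apply_one (G := GL (Fin 2) F)
  rw [← e.sum_comp, Fintype.sum_sum_type] at hsum
  have hI : ∑ i : Idx F, ((e (Sum.inl i) : IrrCharacter _) : GL (Fin 2) F → ℂ) 1 ^ 2 =
      (m : ℂ) + m * ((m : ℂ) + 1) ^ 2 + P * ((m : ℂ) + 1 + 1) ^ 2 := by
    have : ∀ i, ((e (Sum.inl i) : IrrCharacter _) : GL (Fin 2) F → ℂ) =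
        (nonCusp i : GL (Fin 2) F → ℂ) := fun i => rfl
    simp only [this, Fintype.sum_sum_type, nonCusp_one, Finset.sum_const, Finset.card_univ,
      nsmul_eq_mul, ← Nat.card_eq_fintype_card, hM, ← hPdef]
    rw [Nat.card_eq_fintype_card, hq]
    ring
  have hJ : ∑ χ : C, ((e (Sum.inr χ) : IrrCharacter _) : GL (Fin 2) F → ℂ) 1 ^ 2 =
      (m : ℂ) ^ 2 * ((∑ χ : C, k χ ^ 2 : ℕ) : ℂ) := by
    push_cast
    rw [Finset.mul_sum]
    refine Finset.sum_congr rfl fun χ _ => ?_
    show ((χ.1 : IrrCharacter _) : GL (Fin 2) F → ℂ) 1 ^ 2 = _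
    rw [hk1, hq]; ring
  rw [hI, hJ, hG] at hsum
  have hk : ∑ χ : C, k χ ^ 2 = Nat.card C := by
    have hP' : (2 : ℂ) * P + m = m * m := by exact_mod_cast hP
    have hc' : (m : ℂ) + m + P + Nat.card C = m * m + 2 * m := by exact_mod_cast hcard
    have : (m : ℂ) ^ 2 * (((∑ χ : C, k χ ^ 2 : ℕ) : ℂ) - (Nat.card C : ℂ)) = 0 := by
      linear_combination hsum - (m : ℂ) ^ 2 * hc' - (2 * (m : ℂ) + 2) * hP'
    rw [mul_eq_zero, sub_eq_zero, Nat.cast_inj] at this
    exact this.resolve_left (by simp; omega)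
  refine ⟨?_, fun χ hχ => ?_⟩
  · rw [hm, Nat.add_sub_cancel, add_mul, one_mul]
    omega
  · rw [Nat.card_eq_fintype_card, ← Finset.card_univ, Finset.card_eq_sum_ones, eq_comm] at hk
    have h1 := (Finset.sum_eq_sum_iff_of_le (fun χ _ => Nat.one_le_pow _ _ (hk0 χ))).1 hk
    let χ' : C := ⟨⟨χ, hχ.1⟩, IsCusp.not_mem (χ := ⟨χ, hχ.1⟩) hχ⟩
    have hk' : k χ' = 1 := by
      simpa using (h1 χ' (Finset.mem_univ _)).symm
    have a := hk1 χ'
    have b := hk2 χ'
    rw [hk'] at a b
    exact ⟨by simpa [χ'] using a, by simpa [χ'] using b⟩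

/-- The possible degrees. -/
theorem degree_cases {χ : GL (Fin 2) F → ℂ} (hχ : IsIrrCharacter (GL (Fin 2) F) χ) :
    ((∃ α, χ = detChar α) ∧ χ 1 = 1) ∨
    ((∃ α, χ = stChar α) ∧ χ 1 = (Fintype.card F : ℂ)) ∨
    ((∃ α β, α ≠ β ∧ χ = indFun (upperTriangularGL 2 F) (borelChar α β)) ∧
      χ 1 = (Fintype.card F : ℂ) + 1) ∨
    (IsCusp χ ∧ χ 1 = (Fintype.card F : ℂ) - 1) := by
  rcases irr_cases hχ with ⟨α, rfl⟩ | ⟨α, rfl⟩ | ⟨α, β, h, rfl⟩ | hc
  · exact Or.inl ⟨⟨α, rfl⟩, detChar_one α⟩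
  · exact Or.inr (Or.inl ⟨⟨α, rfl⟩, stChar_one α⟩)
  · exact Or.inr (Or.inr (Or.inl ⟨⟨α, β, h, rfl⟩, ind_one α β⟩))
  · exact Or.inr (Or.inr (Or.inr ⟨hc, (cusp_count.2 χ hc).1⟩))

/-- An invertible diagonal matrix as an element of the Borel subgroup. -/
theorem exists_bor_diag (g : GL (Fin 2) F) (h01 : (g : Matrix (Fin 2) (Fin 2) F) 0 1 = 0)
    (h10 : (g : Matrix (Fin 2) (Fin 2) F) 1 0 = 0)
    (hne : (g : Matrix (Fin 2) (Fin 2) F) 0 0 ≠ (g : Matrix (Fin 2) (Fin 2) F) 1 1) :
    ∃ a d : Fˣ, a ≠ d ∧ g = (bor a d 0 : GL (Fin 2) F) := by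
  have hd := det_ne g
  rw [h01, zero_mul, sub_zero] at hd
  refine ⟨Units.mk0 _ (left_ne_zero_of_mul hd), Units.mk0 _ (right_ne_zero_of_mul hd),
    fun e => hne (congrArg Units.val e), Units.ext ?_⟩
  ext i j; fin_cases i <;> fin_cases j <;> simp [bor, h01, h10]

theorem ind_elliptic (α β : MulChar F ℂ) (g : GL (Fin 2) F)
    (h : ∀ (c : F) (v : Fin 2 → F), v ≠ 0 → (g : Matrix (Fin 2) (Fin 2) F).mulVec v ≠ c • v) :
    indFun (upperTriangularGL 2 F) (borelChar α β) g = 0 := by
  rw [ind_eq]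
  refine Finset.sum_eq_zero fun l _ => ?_
  have hno : ¬ Fixes g l := fun hf => by
    obtain ⟨c, v, hv, he⟩ := eigvec_of_fixes hf
    exact h c v hv he
  cases l with
  | none => simp only [Fixes] at hno; simp [term, hno]
  | some t => simp only [Fixes] at hno; simp [term, hno]

theorem norm_apply (α : MulChar F ℂ) (a : Fˣ) : ‖α a‖ = 1 := by
  have h := mul_conj_self α a
  rw [Complex.mul_conj'] at h
  exact (pow_eq_one_iff_of_nonneg (norm_nonneg _) two_ne_zero).1 (by exact_mod_cast h)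

theorem card_ne_two_of_units {a d : Fˣ} (h : a ≠ d) : 3 ≤ Fintype.card F := by
  have h1 : 1 < Fintype.card Fˣ := Fintype.one_lt_card_iff.2 ⟨a, d, h⟩
  rw [Fintype.card_units] at h1
  omega

end Cfsg.Agent.GL2Chars
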