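import Mathlib
import Cfsg.Agent.Lib.GL2Chars
import Cfsg.Agent.Lib.PSL2Elements

/-!
Characters of `SL(2, F)` induced from its upper triangular subgroup.
-/

set_option autoImplicit false
set_option linter.unusedSectionVars false
set_option linter.unnecessarySeqFocus false

namespace Cfsg.Agent.SL2Borel

open Cfsg Cfsg.Agent.GL2Borel Cfsg.Agent.GL2Chars Cfsg.Agent.PSL2Elements Matrix
open scoped MatrixGroups ComplexConjugate

variable {F : Type*} [Field F]

/-- The upper triangular subgroup of `SL(2, F)`. -/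
abbrev borelS (F : Type*) [Field F] : Subgroup SL(2, F) :=
  (upperTriangularGL 2 F).comap Matrix.SpecialLinearGroup.toGL

theorem mem_borelS (g : SL(2, F)) : g ∈ borelS F ↔ g.1 1 0 = 0 :=
  mem_borel_iff (Matrix.SpecialLinearGroup.toGL g)

/-- Representatives of the lines in `SL(2, F)`. -/
def srep : Option F → SL(2, F)
  | none => 1
  | some t => mk2 t (-1) 1 0 (by ring)

/-- Their inverses. -/
def srepInv : Option F → SL(2, F)
  | none => 1
  | some t => mk2 0 1 (-1) t (by ring)

theorem srep_inv (l : Option F) : (srep l)⁻¹ = srepInv l := by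
  rw [inv_eq_iff_mul_eq_one]
  cases l with
  | none => simp [srep, srepInv]
  | some t => apply ext2 <;> simp [srep, srepInv]

theorem conj_srep_entries (g : SL(2, F)) (t : F) :
    ((srep (some t))⁻¹ * g * srep (some t)).1 0 0 = g.1 1 0 * t + g.1 1 1 ∧
      ((srep (some t))⁻¹ * g * srep (some t)).1 1 0 =
        g.1 1 0 * t ^ 2 + (g.1 1 1 - g.1 0 0) * t - g.1 0 1 := by
  rw [srep_inv]
  constructor <;> simp [srep, srepInv, mul_apply2] <;> ring

theorem conj_mem_iff (g : SL(2, F)) (l : Option F) :
    (srep l)⁻¹ * g * srep l ∈ borelS F ↔ Fixes (Matrix.SpecialLinearGroup.toGL g) l := by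
  rw [mem_borelS]
  cases l with
  | none => simp [srep, Fixes]
  | some t => rw [(conj_srep_entries g t).2]; rfl

/-- The lines parametrise the cosets. -/
def scoset (l : Option F) : SL(2, F) ⧸ borelS F := (srep l : _)

theorem scoset_bijective : Function.Bijective (scoset (F := F)) := by
  constructor
  · intro l l' h
    have h' := QuotientGroup.eq.1 h
    rw [mem_borelS, srep_inv] at h'
    cases l <;> cases l' <;> simp [srep, srepInv, mul_apply2] at h' ⊢
    linear_combination h'
  · intro q
    obtain ⟨x, rfl⟩ := QuotientGroup.mk_surjective q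
    by_cases h : x.1 1 0 = 0
    · refine ⟨none, QuotientGroup.eq.2 ?_⟩
      rw [mem_borelS]
      simpa [srep] using h
    · refine ⟨some (x.1 0 0 / x.1 1 0), QuotientGroup.eq.2 ?_⟩
      rw [mem_borelS, srep_inv]
      simp [srepInv, mul_apply2]
      field_simp
      ring

/-- An element of the Borel subgroup by its entries. -/
def sbor (a : Fˣ) (x : F) : borelS F :=
  ⟨mk2 a x 0 (a⁻¹ : Fˣ) (by simp), (mem_borelS _).2 (by simp)⟩

theorem toGL_sbor (a : Fˣ) (x : F) :
    Matrix.SpecialLinearGroup.toGL (sbor a x : SL(2, F)) = (bor a a⁻¹ x : GL (Fin 2) F) := by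
  apply Units.ext
  rfl

theorem sbor_u (x : F) : (sbor 1 x : SL(2, F)) = u x := by
  apply ext2 <;> simp [sbor, u]

theorem sbor_d (a : Fˣ) : (sbor a 0 : SL(2, F)) = d a := rfl

theorem sbor_bijective : Function.Bijective (fun z : Fˣ × F => sbor z.1 z.2) := by
  constructor
  · intro v w h
    have h0 := congrArg (fun b : borelS F => b.1.1 0 0) h
    have h1 := congrArg (fun b : borelS F => b.1.1 0 1) h
    simp [sbor] at h0 h1
    exact Prod.ext (Units.ext h0) h1
  · intro b
    have h0 := (mem_borelS _).1 b.2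
    have hd := det_eq b.1
    rw [h0, mul_zero, sub_zero] at hd
    refine ⟨(Units.mk0 _ (left_ne_zero_of_mul_eq_one hd), b.1.1 0 1), Subtype.ext ?_⟩
    have h11 : (b.1.1 0 0)⁻¹ = b.1.1 1 1 := inv_eq_of_mul_eq_one_right hd
    apply ext2 <;> simp [sbor, h0, h11]

variable [Fintype F] [DecidableEq F]

/-- The linear character of the Borel subgroup. -/
noncomputable def borelCharS (α : MulChar F ℂ) : borelS F → ℂ := fun b => α (b.1.1 0 0)

theorem borelCharS_mul (α : MulChar F ℂ) (a b : borelS F) :
    borelCharS α (a * b) = borelCharS α a * borelCharS α b := by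
  have hb := (mem_borelS _).1 b.2
  simp only [borelCharS, Subgroup.coe_mul, mul_apply2, hb, mul_zero, add_zero, map_mul]

theorem borelCharS_one (α : MulChar F ℂ) : borelCharS α 1 = 1 := by simp [borelCharS]

theorem isClassFunction_borelCharS (α : MulChar F ℂ) :
    IsClassFunction (borelS F) (borelCharS α) := fun g h => by
  rw [borelCharS_mul, borelCharS_mul, mul_comm (borelCharS α h), mul_assoc, ← borelCharS_mul,
    mul_inv_cancel, borelCharS_one, mul_one]

/-- The induced character. -/
noncomputable def indS (α : MulChar F ℂ) : SL(2, F) → ℂ := indFun (borelS F) (borelCharS α)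

theorem one_apply_of_ne {a : F} (h : a ≠ 0) : (1 : MulChar F ℂ) a = 1 :=
  MulChar.one_apply h.isUnit

/-- Induction from the Borel subgroup of `SL` agrees with induction in `GL`. -/
theorem indS_eq (α : MulChar F ℂ) (g : SL(2, F)) :
    indS α g =
      indFun (upperTriangularGL 2 F) (borelChar α 1) (Matrix.SpecialLinearGroup.toGL g) := by
  classical
  have := Fintype.ofFinite (SL(2, F) ⧸ borelS F)
  rw [ind_eq, indS, CharInduced.ind_eq_sum_quotient (borelS F) (isClassFunction_borelCharS α)]
  refine (Fintype.sum_bijective scoset scoset_bijective _ _ fun l => ?_).symm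
  obtain ⟨h, hh⟩ := QuotientGroup.mk_out_eq_mul (borelS F) (srep l)
  have he : (scoset l).out⁻¹ * g * (scoset l).out =
      ((h⁻¹ : _) : SL(2, F)) * ((srep l)⁻¹ * g * srep l) * ((h⁻¹ : _) : SL(2, F))⁻¹ := by
    unfold scoset; rw [hh]; simp only [Subgroup.coe_inv]; group
  rw [he, CharInduced.ext_zero_conj_inv (isClassFunction_borelCharS α) (h⁻¹).2]
  have hd := det_eq g
  by_cases hf : Fixes (Matrix.SpecialLinearGroup.toGL g) l
  · rw [CharInduced.ext_zero_of_mem _ ((conj_mem_iff g l).2 hf)]
    cases l with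
    | none =>
      simp only [Fixes] at hf
      simp only [term, borelCharS, srep, inv_one, one_mul, mul_one, if_pos hf]
      have h11 : g.1 1 1 ≠ 0 := by
        intro e
        have hf' : g.1 1 0 = 0 := hf
        rw [hf', e] at hd
        simp at hd
      show α (g.1 0 0) * (1 : MulChar F ℂ) (g.1 1 1) = α (g.1 0 0)
      rw [one_apply_of_ne h11, mul_one]
    | some t =>
      simp only [Fixes] at hf
      simp only [term, borelCharS, if_pos hf, (conj_srep_entries g t).1]
      show α (g.1 1 0 * t + g.1 1 1) * (1 : MulChar F ℂ) (g.1 0 0 - t * g.1 1 0) =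
        α (g.1 1 0 * t + g.1 1 1)
      have hf' : g.1 1 0 * t ^ 2 + (g.1 1 1 - g.1 0 0) * t - g.1 0 1 = 0 := hf
      have hμ : g.1 0 0 - t * g.1 1 0 ≠ 0 := fun e => by
        refine one_ne_zero (α := F) ?_
        calc (1 : F) = g.1 0 0 * g.1 1 1 - g.1 0 1 * g.1 1 0 := hd.symm
          _ = (g.1 1 0 * t + g.1 1 1) * (g.1 0 0 - t * g.1 1 0) := by
            linear_combination g.1 1 0 * hf'
          _ = 0 := by rw [e, mul_zero]
      rw [one_apply_of_ne hμ, mul_one]
  · rw [CharInduced.ext_zero_of_not_mem _ fun e => hf ((conj_mem_iff g l).1 e)]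
    cases l with
    | none => simp only [Fixes] at hf; simp only [term, if_neg hf]
    | some t => simp only [Fixes] at hf; simp only [term, if_neg hf]

theorem indS_sbor (α : MulChar F ℂ) (a : Fˣ) (x : F) :
    indS α (sbor a x : SL(2, F)) =
      α a + ∑ t : F, if ((a : F)⁻¹ - a) * t = x then α ((a : F)⁻¹) else 0 := by
  rw [indS_eq, toGL_sbor, ind_bor]
  simp [one_apply_of_ne a.ne_zero, one_apply_of_ne (inv_ne_zero a.ne_zero)]

theorem indS_one (α : MulChar F ℂ) : indS α 1 = (Fintype.card F : ℂ) + 1 := by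
  rw [indS_eq, map_one, ind_one]

theorem indS_elliptic (α : MulChar F ℂ) (g : SL(2, F))
    (h : ∀ (c : F) (v : Fin 2 → F), v ≠ 0 → g.1.mulVec v ≠ c • v) : indS α g = 0 := by
  rw [indS_eq]
  exact ind_elliptic α 1 _ h

theorem isCharacter_indS (α : MulChar F ℂ) : IsCharacter SL(2, F) (indS α) := by
  refine CharInduced.isCharacter_ind _ ?_
  let f : borelS F →* ℂ :=
    { toFun := borelCharS α, map_one' := borelCharS_one α, map_mul' := borelCharS_mul α }
  exact CharBasicDecomp.isCharacter_linear f.toHomUnits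

theorem isClassFunction_indS (α : MulChar F ℂ) : IsClassFunction SL(2, F) (indS α) :=
  CharBasic.isClassFunction_of_isCharacter (isCharacter_indS α)

/-- The row sum `∑ₓ χ(sbor a x)`. -/
noncomputable def rowS (χ : SL(2, F) → ℂ) (a : Fˣ) : ℂ := ∑ x : F, χ (sbor a x : SL(2, F))

theorem card_borelS : Nat.card (borelS F) = (Fintype.card F - 1) * Fintype.card F := by
  rw [← Nat.card_congr (Equiv.ofBijective _ sbor_bijective), Nat.card_prod, Nat.card_units,
    Nat.card_eq_fintype_card]

/-- Sums over the Borel subgroup. -/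
theorem sum_borelS (f : SL(2, F) → ℂ) [Fintype (borelS F)] :
    ∑ b : borelS F, f b = ∑ a : Fˣ, ∑ x : F, f (sbor a x : SL(2, F)) := by
  rw [← Fintype.sum_bijective _ sbor_bijective (fun z => f (sbor z.1 z.2 : SL(2, F))) _
    (fun z => rfl), Fintype.sum_prod_type]

theorem inner_indS_eq (χ : SL(2, F) → ℂ) (hχ : IsClassFunction SL(2, F) χ) (γ : MulChar F ℂ) :
    classInner χ (indS γ) = (((Fintype.card F : ℂ) - 1) * Fintype.card F)⁻¹ *
      ∑ a : Fˣ, rowS χ a * conj (γ a) := by
  classical
  rw [indS, CharInduced.inner_ind_right _ _ hχ, classInner, card_borelS]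
  congr 1
  · rw [Nat.cast_mul, Nat.cast_sub Fintype.card_pos, Nat.cast_one]
  · rw [← Fintype.sum_bijective _ sbor_bijective
      (fun z => χ (sbor z.1 z.2 : SL(2, F)) * conj (γ z.1)) _
      (fun z => by simp [borelCharS, sbor])]
    simp only [Fintype.sum_prod_type, rowS, Finset.sum_mul]

theorem rowS_indS (α : MulChar F ℂ) (a : Fˣ) :
    rowS (indS α) a = (Fintype.card F : ℂ) * (α a + α ((a : F)⁻¹)) := by
  simp only [rowS, indS_sbor, Finset.sum_add_distrib]
  rw [Finset.sum_comm]
  simp [mul_add]

theorem inner_indS_indS (α γ : MulChar F ℂ) [Decidable (α = γ)] [Decidable (α⁻¹ = γ)] :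
    classInner (indS α) (indS γ) = (if α = γ then 1 else 0) + (if α⁻¹ = γ then 1 else 0) := by
  classical
  rw [inner_indS_eq _ (isClassFunction_indS α)]
  have e : ∀ a : Fˣ, rowS (indS α) a * conj (γ a) = (Fintype.card F : ℂ) * (α a * conj (γ a)) +
      (Fintype.card F : ℂ) * (α⁻¹ a * conj (γ a)) := fun a => by
    rw [rowS_indS, MulChar.inv_apply']; ring
  simp only [e, Finset.sum_add_distrib, ← Finset.mul_sum, sum_mul_conj]
  have h1 := card_sub_one_ne (F := F)
  have h2 := card_ne (F := F)
  split_ifs <;> simp <;> field_simp <;> ring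

theorem sum_conj_apply (γ : MulChar F ℂ) [Decidable (γ = 1)] :
    ∑ a : Fˣ, conj (γ a) = if γ = 1 then ((Fintype.card F : ℂ) - 1) else 0 := by
  classical
  have h := sum_mul_conj (1 : MulChar F ℂ) γ
  simp only [MulChar.one_apply_coe, one_mul] at h
  rw [h]
  by_cases hγ : γ = 1 <;> simp [hγ, eq_comm]

theorem inner_one_indS (γ : MulChar F ℂ) [Decidable (γ = 1)] :
    classInner (fun _ : SL(2, F) => (1 : ℂ)) (indS γ) = if γ = 1 then 1 else 0 := by
  classical
  rw [inner_indS_eq _ (fun _ _ => rfl)]
  simp only [rowS, Finset.sum_const, Finset.card_univ, nsmul_eq_mul, mul_one, ← Finset.mul_sum,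
    sum_conj_apply]
  have h1 := card_sub_one_ne (F := F)
  have h2 := card_ne (F := F)
  split_ifs <;> simp <;> field_simp

/-- The row sum at the identity counts the constituents in the induced characters. -/
theorem rowS_one [Fintype (MulChar F ℂ)] (χ : SL(2, F) → ℂ) (hχ : IsClassFunction SL(2, F) χ) :
    rowS χ 1 = (Fintype.card F : ℂ) * ∑ γ : MulChar F ℂ, classInner χ (indS γ) := by
  classical
  have h1 := card_sub_one_ne (F := F)
  have h2 := card_ne (F := F)
  simp only [inner_indS_eq χ hχ, ← Finset.mul_sum]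
  rw [Finset.sum_comm]
  have e : ∀ a : Fˣ, ∑ γ : MulChar F ℂ, rowS χ a * conj (γ a) =
      rowS χ a * if a = 1 then ((Fintype.card F : ℂ) - 1) else 0 := fun a => by
    rw [← Finset.mul_sum]
    congr 1
    rw [← map_sum, sum_mulChar]
    split_ifs <;> simp
  simp only [e, mul_ite, mul_zero, Finset.sum_ite_eq', Finset.mem_univ, if_true]
  field_simp

/-- Orthogonality to all induced characters kills the row sums. -/
theorem rowS_eq_zero (χ : SL(2, F) → ℂ) (hχ : IsClassFunction SL(2, F) χ)
    (h : ∀ γ : MulChar F ℂ, classInner χ (indS γ) = 0) (a₀ : Fˣ) : rowS χ a₀ = 0 := by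
  classical
  have := eq_zero_of_orth (fun a d => if d = 1 then rowS χ a else 0) (fun α β => ?_) a₀ 1
  · simpa using this
  · have h0 := h α
    rw [inner_indS_eq χ hχ] at h0
    have h1 := (mul_eq_zero.1 h0).resolve_left (by simp [card_ne, card_sub_one_ne])
    refine Eq.trans (Finset.sum_congr rfl fun a _ => ?_) h1
    simp [map_mul, ite_mul]

end Cfsg.Agent.SL2Borel
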