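import Mathlib
import Cfsg.Agent.Lib.SL2Borel
import Cfsg.Agent.Lib.SL2Classes

/-!
The irreducible characters of `SL(2, F)`: the trivial and Steinberg characters, the principal
series with its halves, and the characters orthogonal to everything induced from the Borel subgroup.
-/

set_option autoImplicit false
set_option linter.unusedSectionVars false

namespace Cfsg.Agent.SL2Chars

open Cfsg Cfsg.Agent.GL2Borel Cfsg.Agent.GL2Chars Cfsg.Agent.PSL2Elements Cfsg.Agent.SL2Borel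
open Matrix
open scoped MatrixGroups ComplexConjugate

section General

variable {G : Type*} [Group G] [Fintype G]

theorem classInner_self_mult {θ : G → ℂ} (hθ : IsCharacter G θ) :
    ∃ m : IrrCharacter G → ℕ, (∀ ψ : IrrCharacter G, classInner θ (ψ : G → ℂ) = m ψ) ∧
      θ = ∑ ψ : IrrCharacter G, (m ψ : ℂ) • (ψ : G → ℂ) ∧
      classInner θ θ = ((∑ ψ, m ψ * m ψ : ℕ) : ℂ) := by
  obtain ⟨m, hm, hs⟩ := CharBasicDecomp.exists_mult hθ
  refine ⟨m, hm, hs, ?_⟩
  nth_rewrite 2 [hs]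
  rw [CharBasicOrth.classInner_sum_right]
  push_cast
  refine Finset.sum_congr rfl fun ψ _ => ?_
  rw [CharBasicOrth.classInner_smul_right, hm, Complex.conj_natCast]

/-- A character of norm two is the sum of two distinct irreducible characters. -/
theorem exists_pair_of_norm_two {θ : G → ℂ} (hθ : IsCharacter G θ) (h : classInner θ θ = 2) :
    ∃ χ₁ χ₂, IsIrrCharacter G χ₁ ∧ IsIrrCharacter G χ₂ ∧ χ₁ ≠ χ₂ ∧ θ = χ₁ + χ₂ := by
  classical
  obtain ⟨m, -, hs, hn⟩ := classInner_self_mult hθ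
  rw [h] at hn
  have hn' : ∑ ψ, m ψ * m ψ = 2 := by exact_mod_cast hn.symm
  have hle : ∀ ψ, m ψ ≤ 1 := fun ψ => by
    by_contra hlt
    push Not at hlt
    have h4 : 4 ≤ m ψ * m ψ := Nat.mul_le_mul hlt hlt
    have := Finset.single_le_sum (f := fun ψ => m ψ * m ψ) (fun i _ => Nat.zero_le _)
      (Finset.mem_univ ψ)
    omega
  have hcard : (Finset.univ.filter fun ψ => m ψ = 1).card = 2 := by
    rw [Finset.card_filter, ← hn']
    refine Finset.sum_congr rfl fun ψ _ => ?_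
    rcases Nat.le_one_iff_eq_zero_or_eq_one.1 (hle ψ) with e | e <;> simp [e]
  obtain ⟨a, b, hab, he⟩ := Finset.card_eq_two.1 hcard
  refine ⟨a, b, a.2, b.2, fun e => hab (Subtype.ext e), ?_⟩
  rw [hs, ← Finset.sum_filter_add_sum_filter_not Finset.univ (fun ψ => m ψ = 1), he,
    Finset.sum_pair hab]
  have ha : m a = 1 := by
    have : a ∈ Finset.univ.filter (fun ψ => m ψ = 1) := by rw [he]; simp
    exact (Finset.mem_filter.1 this).2
  have hb : m b = 1 := by
    have : b ∈ Finset.univ.filter (fun ψ => m ψ = 1) := by rw [he]; simp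
    exact (Finset.mem_filter.1 this).2
  rw [Finset.sum_eq_zero fun ψ hψ => ?_]
  · simp [ha, hb]
  · have hne := (Finset.mem_filter.1 hψ).2
    rw [(Nat.le_one_iff_eq_zero_or_eq_one.1 (hle ψ)).resolve_right hne, Nat.cast_zero, zero_smul]

theorem eq_or_eq_of_inner_pair {χ₁ χ₂ ψ : G → ℂ} (h₁ : IsIrrCharacter G χ₁)
    (h₂ : IsIrrCharacter G χ₂) (hψ : IsIrrCharacter G ψ)
    (h : classInner ψ (χ₁ + χ₂) ≠ 0) : ψ = χ₁ ∨ ψ = χ₂ := by
  by_contra hc
  push Not at hc
  rw [CharBasicOrth.classInner_add_right, CharBasicOrth.classInner_irr_ne hψ h₁ hc.1,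
    CharBasicOrth.classInner_irr_ne hψ h₂ hc.2, add_zero] at h
  exact h rfl

theorem inner_pair_self {χ₁ χ₂ : G → ℂ} (h₁ : IsIrrCharacter G χ₁)
    (h₂ : IsIrrCharacter G χ₂) (hne : χ₁ ≠ χ₂) :
    classInner χ₁ (χ₁ + χ₂) = 1 ∧ classInner χ₂ (χ₁ + χ₂) = 1 := by
  constructor
  · rw [CharBasicOrth.classInner_add_right, CharBasicOrth.classInner_irr_self h₁,
      CharBasicOrth.classInner_irr_ne h₁ h₂ hne, add_zero]
  · rw [CharBasicOrth.classInner_add_right, CharBasicOrth.classInner_irr_self h₂,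
      CharBasicOrth.classInner_irr_ne h₂ h₁ hne.symm, zero_add]

theorem classFun_of_irr {χ : G → ℂ} (h : IsIrrCharacter G χ) : IsClassFunction G χ :=
  CharBasic.isClassFunction_of_isCharacter (CharBasic.isCharacter_of_isIrrCharacter h)

end General

variable {F : Type*} [Field F] [Fintype F] [DecidableEq F]

theorem inv_eq_self_iff (α : MulChar F ℂ) : α⁻¹ = α ↔ α ^ 2 = 1 := by
  rw [sq, inv_eq_iff_mul_eq_one]

/-! ### Steinberg and principal series -/

/-- The Steinberg character. -/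
noncomputable def stS (F : Type*) [Field F] [Fintype F] [DecidableEq F] : SL(2, F) → ℂ :=
  indS (1 : MulChar F ℂ) - fun _ => 1

theorem stS_one : stS F 1 = (Fintype.card F : ℂ) := by simp [stS, indS_one]

theorem classFun_one : IsClassFunction SL(2, F) (fun _ => (1 : ℂ)) := fun _ _ => rfl

theorem inner_indS_one : classInner (indS (1 : MulChar F ℂ)) (fun _ : SL(2, F) => (1 : ℂ)) = 1 := by
  classical
  rw [← CharInduced.inner_conj_symm, inner_one_indS, if_pos rfl, map_one]

theorem isIrr_stS : IsIrrCharacter SL(2, F) (stS F) := by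
  classical
  have hg : IsGeneralizedCharacter SL(2, F) (stS F) :=
    ⟨_, _, isCharacter_indS 1, CharBasicDecomp.isCharacter_one, rfl⟩
  have hn : classInner (stS F) (stS F) = 1 := by
    rw [stS, CharBasicOrth.classInner_sub_left, CharBasicOrth.classInner_sub_right,
      CharBasicOrth.classInner_sub_right, inner_indS_indS, inner_one_indS, inner_indS_one,
      CharBasicOrth.classInner_irr_self CharBasicDecomp.isIrrCharacter_one]
    simp
  obtain ⟨χ, hχ, e | e⟩ := CharBasicDecomp.eq_or_neg_irr_of_norm_one hg hn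
  · rwa [e]
  · exfalso
    obtain ⟨n, hn0, h1⟩ := CharBasic.isIrrCharacter_apply_one hχ
    have h2 := congrFun e 1
    rw [stS_one, Pi.neg_apply, h1] at h2
    have h3 : ((Fintype.card F + n : ℕ) : ℂ) = 0 := by push_cast; linear_combination h2
    have := Nat.cast_eq_zero.1 h3
    omega

theorem isIrr_indS_iff (α : MulChar F ℂ) :
    IsIrrCharacter SL(2, F) (indS α) ↔ α ^ 2 ≠ 1 := by
  classical
  rw [CharBasicDecomp.isIrrCharacter_iff, inner_indS_indS, if_pos rfl, ne_eq,
    ← inv_eq_self_iff]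
  refine ⟨fun h e => ?_, fun h => ⟨isCharacter_indS α, by rw [if_neg h, add_zero]⟩⟩
  rw [if_pos e] at h
  norm_num at h

theorem exists_pair {α : MulChar F ℂ} (hα : α ^ 2 = 1) :
    ∃ χ₁ χ₂, IsIrrCharacter SL(2, F) χ₁ ∧ IsIrrCharacter SL(2, F) χ₂ ∧ χ₁ ≠ χ₂ ∧
      indS α = χ₁ + χ₂ := by
  classical
  refine exists_pair_of_norm_two (isCharacter_indS α) ?_
  rw [inner_indS_indS, if_pos rfl, if_pos ((inv_eq_self_iff α).2 hα)]
  norm_num

/-- Irreducible and orthogonal to all characters induced from the Borel subgroup. -/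
def IsCuspS (χ : SL(2, F) → ℂ) : Prop :=
  IsIrrCharacter SL(2, F) χ ∧ ∀ γ : MulChar F ℂ, classInner χ (indS γ) = 0

theorem IsCuspS.classFun {χ : SL(2, F) → ℂ} (h : IsCuspS χ) : IsClassFunction SL(2, F) χ :=
  classFun_of_irr h.1

theorem indS_one_eq : indS (1 : MulChar F ℂ) = (fun _ => 1) + stS F := by simp [stS]

theorem irr_cases {χ : SL(2, F) → ℂ} (hχ : IsIrrCharacter SL(2, F) χ) :
    χ = (fun _ => 1) ∨ χ = stS F ∨ (∃ α : MulChar F ℂ, α ^ 2 ≠ 1 ∧ χ = indS α) ∨
      (∃ α : MulChar F ℂ, α ≠ 1 ∧ α ^ 2 = 1 ∧ classInner χ (indS α) ≠ 0) ∨ IsCuspS χ := by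
  by_cases hc : ∀ γ : MulChar F ℂ, classInner χ (indS γ) = 0
  · exact Or.inr (Or.inr (Or.inr (Or.inr ⟨hχ, hc⟩)))
  push Not at hc
  obtain ⟨γ, hγ⟩ := hc
  by_cases h1 : γ = 1
  · subst h1
    rw [indS_one_eq] at hγ
    rcases eq_or_eq_of_inner_pair CharBasicDecomp.isIrrCharacter_one isIrr_stS hχ hγ with e | e
    · exact Or.inl e
    · exact Or.inr (Or.inl e)
  by_cases h2 : γ ^ 2 = 1
  · exact Or.inr (Or.inr (Or.inr (Or.inl ⟨γ, h1, h2, hγ⟩)))
  · refine Or.inr (Or.inr (Or.inl ⟨γ, h2, ?_⟩))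
    by_contra hne
    exact hγ (CharBasicOrth.classInner_irr_ne hχ ((isIrr_indS_iff γ).2 h2) hne)

/-! ### Values and row sums -/

theorem toGL_u (x : F) :
    Matrix.SpecialLinearGroup.toGL (u x) = (bor 1 1 x : GL (Fin 2) F) := by
  rw [← sbor_u, toGL_sbor, inv_one]

theorem toGL_d (a : Fˣ) :
    Matrix.SpecialLinearGroup.toGL (d a) = (bor a a⁻¹ 0 : GL (Fin 2) F) := by
  rw [← sbor_d, toGL_sbor]

theorem apply_sbor_of_ne {χ : SL(2, F) → ℂ} (hc : IsClassFunction SL(2, F) χ) {a : Fˣ}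
    (ha : (a : F) ^ 2 ≠ 1) (x : F) : χ (sbor a x : SL(2, F)) = χ (d a) := by
  have hne : (a : F)⁻¹ - a ≠ 0 := fun e => ha (by
    have := sub_eq_zero.1 e
    field_simp at this
    exact this.symm)
  rw [← hc (d a) (u (x / ((a : F)⁻¹ - a)))]
  congr 1
  rw [eq_mul_inv_iff_mul_eq]
  apply ext2 <;> simp [sbor, u, d, mul_apply2]
  field_simp
  ring

theorem rowS_of_ne {χ : SL(2, F) → ℂ} (hc : IsClassFunction SL(2, F) χ) {a : Fˣ}
    (ha : (a : F) ^ 2 ≠ 1) : rowS χ a = (Fintype.card F : ℂ) * χ (d a) := by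
  simp [rowS, apply_sbor_of_ne hc ha]

theorem rowS_one_eq (χ : SL(2, F) → ℂ) : rowS χ 1 = ∑ x : F, χ (u x) := by
  simp only [rowS, sbor_u]

theorem IsCuspS.rowS_eq {χ : SL(2, F) → ℂ} (h : IsCuspS χ) (a : Fˣ) : rowS χ a = 0 :=
  rowS_eq_zero χ h.classFun h.2 a

theorem IsCuspS.diag {χ : SL(2, F) → ℂ} (h : IsCuspS χ) {a : Fˣ} (ha : (a : F) ^ 2 ≠ 1) :
    χ (d a) = 0 := by
  have := h.rowS_eq a
  rw [rowS_of_ne h.classFun ha] at this
  exact (mul_eq_zero.1 this).resolve_left card_ne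

theorem indS_u (α : MulChar F ℂ) {x : F} (hx : x ≠ 0) : indS α (u x) = 1 := by
  rw [← sbor_u, indS_sbor]
  simp [Ne.symm hx]

theorem indS_d (α : MulChar F ℂ) {a : Fˣ} (ha : (a : F) ^ 2 ≠ 1) :
    indS α (d a) = α a + α ((a : F)⁻¹) := by
  have hne : (a : F)⁻¹ - a ≠ 0 := fun e => ha (by
    have := sub_eq_zero.1 e
    field_simp at this
    exact this.symm)
  rw [← sbor_d, indS_sbor]
  simp [hne]

theorem rowS_trivial : rowS (fun _ : SL(2, F) => (1 : ℂ)) 1 = (Fintype.card F : ℂ) := by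
  simp [rowS]

theorem rowS_stS : rowS (stS F) 1 = (Fintype.card F : ℂ) := by
  have : rowS (stS F) 1 = rowS (indS (1 : MulChar F ℂ)) 1 - (Fintype.card F : ℂ) := by
    simp [rowS, stS, Finset.sum_sub_distrib]
  rw [this, rowS_indS]
  simp
  ring

theorem rowS_indS_one (α : MulChar F ℂ) :
    rowS (indS α) 1 = 2 * (Fintype.card F : ℂ) := by
  rw [rowS_indS]; simp; ring

/-- A half of a reducible principal series character has row sum `q`. -/
theorem rowS_half {α : MulChar F ℂ} (hα : α ^ 2 = 1) {χ₁ χ₂ : SL(2, F) → ℂ}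
    (h₁ : IsIrrCharacter SL(2, F) χ₁) (h₂ : IsIrrCharacter SL(2, F) χ₂) (hne : χ₁ ≠ χ₂)
    (hsum : indS α = χ₁ + χ₂) : rowS χ₁ 1 = (Fintype.card F : ℂ) := by
  classical
  have := Fintype.ofFinite (MulChar F ℂ)
  rw [rowS_one χ₁ (classFun_of_irr h₁), Finset.sum_eq_single α]
  · rw [hsum, (inner_pair_self h₁ h₂ hne).1, mul_one]
  · intro γ _ hγ
    have h0 : classInner (indS α) (indS γ) = 0 := by
      rw [inner_indS_indS, (inv_eq_self_iff α).2 hα, if_neg (Ne.symm hγ), add_zero]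
    obtain ⟨n₁, hn₁⟩ := CharBasicOrth.classInner_isCharacter
      (CharBasic.isCharacter_of_isIrrCharacter h₁) (isCharacter_indS γ)
    obtain ⟨n₂, hn₂⟩ := CharBasicOrth.classInner_isCharacter
      (CharBasic.isCharacter_of_isIrrCharacter h₂) (isCharacter_indS γ)
    rw [hsum, CharBasicOrth.classInner_add_left, hn₁, hn₂] at h0
    have h0' : n₁ + n₂ = 0 := by exact_mod_cast h0
    rw [hn₁, show n₁ = 0 by omega, Nat.cast_zero]
  · simp

/-! ### Restriction from `GL` -/

/-- Restriction of a function from `GL` to `SL`. -/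
noncomputable def res (ψ : GL (Fin 2) F → ℂ) : SL(2, F) → ℂ :=
  fun g => ψ (Matrix.SpecialLinearGroup.toGL g)

theorem isCharacter_res {ψ : GL (Fin 2) F → ℂ} (h : IsCharacter (GL (Fin 2) F) ψ) :
    IsCharacter SL(2, F) (res ψ) :=
  CharBasic.isCharacter_comap Matrix.SpecialLinearGroup.toGL h

theorem res_det (α : MulChar F ℂ) : res (detChar α) = fun _ => 1 := by
  funext g
  rw [res, detChar_apply]
  show α (g.1.det) = 1
  rw [g.2, map_one]

theorem res_ind (α β : MulChar F ℂ) :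
    res (indFun (upperTriangularGL 2 F) (borelChar α β)) = indS (α * β⁻¹) := by
  funext g
  rw [res, indS_eq, ind_eq, ind_eq]
  refine Finset.sum_congr rfl fun l _ => ?_
  have hd := det_eq g
  have key : ∀ μ ν : F, μ * ν = 1 →
      α μ * β ν = (α * β⁻¹) μ * (1 : MulChar F ℂ) ν := by
    intro μ ν h
    have hν : ν ≠ 0 := right_ne_zero_of_mul_eq_one h
    rw [one_apply_of_ne hν, mul_one, MulChar.mul_apply, MulChar.inv_apply',
      inv_eq_of_mul_eq_one_right h]
  cases l with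
  | none =>
    simp only [term]
    split_ifs with h
    · have h' : g.1 1 0 = 0 := h
      exact key (g.1 0 0) (g.1 1 1) (by rw [h', mul_zero, sub_zero] at hd; exact hd)
    · rfl
  | some t =>
    simp only [term]
    split_ifs with h
    · have h' : g.1 1 0 * t ^ 2 + (g.1 1 1 - g.1 0 0) * t - g.1 0 1 = 0 := h
      exact key (g.1 1 0 * t + g.1 1 1) (g.1 0 0 - t * g.1 1 0)
        (by linear_combination -g.1 1 0 * h' + hd)
    · rfl

theorem res_st (α : MulChar F ℂ) : res (stChar α) = stS F := by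
  have h1 : res (stChar α) = res (indFun (upperTriangularGL 2 F) (borelChar α α)) -
      res (detChar α) := rfl
  rw [h1, res_ind, res_det, mul_inv_cancel]
  rfl

theorem rowS_res_cusp {ψ : GL (Fin 2) F → ℂ} (h : GL2Chars.IsCusp ψ) (a : Fˣ) :
    rowS (res ψ) a = 0 := by
  simp only [rowS, res, toGL_sbor]
  exact h.rowSum_eq_zero a a⁻¹

theorem res_cusp_inner {ψ : GL (Fin 2) F → ℂ} (h : GL2Chars.IsCusp ψ) (γ : MulChar F ℂ) :
    classInner (res ψ) (indS γ) = 0 := by
  rw [inner_indS_eq _ (CharBasic.isClassFunction_of_isCharacter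
    (isCharacter_res (CharBasic.isCharacter_of_isIrrCharacter h.1)))]
  simp [rowS_res_cusp h]

theorem res_cusp_one {ψ : GL (Fin 2) F → ℂ} (h : GL2Chars.IsCusp ψ) :
    res ψ 1 = (Fintype.card F : ℂ) - 1 := by
  rw [res, map_one]; exact (cusp_count.2 ψ h).1

theorem res_cusp_u {ψ : GL (Fin 2) F → ℂ} (h : GL2Chars.IsCusp ψ) {x : F} (hx : x ≠ 0) :
    res ψ (u x) = -1 := by
  rw [res, toGL_u, apply_bor_same (CharBasic.isClassFunction_of_isCharacter
    (CharBasic.isCharacter_of_isIrrCharacter h.1)) 1 hx]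
  exact (cusp_count.2 ψ h).2

/-- Every cuspidal character of `SL` is a constituent of a restricted one of `GL`. -/
theorem IsCuspS.exists_cusp {χ : SL(2, F) → ℂ} (h : IsCuspS χ) :
    ∃ ψ : GL (Fin 2) F → ℂ, GL2Chars.IsCusp ψ ∧ classInner χ (res ψ) ≠ 0 := by
  classical
  by_contra hc
  push Not at hc
  have h1 : classInner χ (fun _ => 1) = 0 := by
    have h0 := h.2 1
    rw [indS_one_eq, CharBasicOrth.classInner_add_right] at h0
    by_cases e : χ = fun _ => 1
    · have hne : (fun _ => (1 : ℂ)) ≠ stS F := fun e' => by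
        have := congrFun e' 1
        rw [stS_one] at this
        exact card_sub_one_ne (F := F) (sub_eq_zero.2 this.symm)
      rw [e, CharBasicOrth.classInner_irr_self CharBasicDecomp.isIrrCharacter_one,
        CharBasicOrth.classInner_irr_ne CharBasicDecomp.isIrrCharacter_one isIrr_stS hne] at h0
      norm_num at h0
    · exact CharBasicOrth.classInner_irr_ne h.1 CharBasicDecomp.isIrrCharacter_one e
  have hall : ∀ ψ : IrrCharacter (GL (Fin 2) F),
      classInner χ (res (ψ : GL (Fin 2) F → ℂ)) = 0 := by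
    intro ψ
    rcases GL2Chars.irr_cases ψ.2 with ⟨α, e⟩ | ⟨α, e⟩ | ⟨α, β, -, e⟩ | hψ
    · rw [e, res_det]; exact h1
    · rw [e, res_st, stS, CharBasicOrth.classInner_sub_right, h.2, h1, sub_zero]
    · rw [e, res_ind]; exact h.2 _
    · exact hc _ hψ
  have hcol : ∀ g : SL(2, F), conj (∑ ψ : IrrCharacter (GL (Fin 2) F),
      (ψ : GL (Fin 2) F → ℂ) (Matrix.SpecialLinearGroup.toGL g) *
        conj ((ψ : GL (Fin 2) F → ℂ) 1)) =
      if g = 1 then (Nat.card (GL (Fin 2) F) : ℂ) else 0 := by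
    intro g
    rw [CharBasicOrth.sum_irr_mul_conj]
    by_cases hg : g = 1
    · subst hg
      rw [map_one, if_pos (IsConj.refl _), if_pos rfl,
        show Subgroup.centralizer ({1} : Set (GL (Fin 2) F)) = ⊤ from
          Subgroup.ext fun x => by simp [Subgroup.mem_centralizer_singleton_iff],
        Subgroup.card_top, Complex.conj_natCast]
    · rw [if_neg, if_neg hg, map_zero]
      intro e
      exact hg (Matrix.SpecialLinearGroup.toGL_injective
        ((isConj_one_right.1 e.symm).trans (map_one _).symm))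
  have h0 : ∑ g : SL(2, F), χ g * conj (∑ ψ : IrrCharacter (GL (Fin 2) F),
      (ψ : GL (Fin 2) F → ℂ) (Matrix.SpecialLinearGroup.toGL g) *
        conj ((ψ : GL (Fin 2) F → ℂ) 1)) = 0 := by
    simp only [map_sum, Finset.mul_sum, map_mul]
    rw [Finset.sum_comm]
    refine Finset.sum_eq_zero fun ψ _ => ?_
    have := hall ψ
    rw [classInner, mul_eq_zero] at this
    have h2 := this.resolve_left (by simp)
    simp only [res] at h2
    simp only [← mul_assoc, ← Finset.sum_mul, h2, zero_mul]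
  simp [hcol, CharBasic.isIrrCharacter_apply_one_ne_zero h.1] at h0

/-- A cuspidal character is a whole restriction, or has half its degree. -/
theorem IsCuspS.degree_le {χ : SL(2, F) → ℂ} (h : IsCuspS χ) :
    ∃ n : ℕ, 0 < n ∧ n ≤ Fintype.card F - 1 ∧ χ 1 = n ∧
      (n = Fintype.card F - 1 →
        χ 1 = (Fintype.card F : ℂ) - 1 ∧ ∀ x : F, x ≠ 0 → χ (u x) = -1) := by
  classical
  obtain ⟨ψ, hψ, hne⟩ := h.exists_cusp
  obtain ⟨m, hm, hs, -⟩ := classInner_self_mult
    (isCharacter_res (CharBasic.isCharacter_of_isIrrCharacter hψ.1))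
  choose dg hdg0 hdg using fun φ : IrrCharacter SL(2, F) =>
    CharBasic.isIrrCharacter_apply_one φ.2
  let χ' : IrrCharacter SL(2, F) := ⟨χ, h.1⟩
  have hm0 : m χ' ≠ 0 := fun e => by
    have := hm χ'
    rw [e, Nat.cast_zero, ← CharInduced.inner_conj_symm, map_eq_zero] at this
    exact hne this
  have h1 := congrFun hs 1
  rw [res_cusp_one hψ] at h1
  simp only [Finset.sum_apply, Pi.smul_apply, hdg, smul_eq_mul] at h1
  have h1' : ∑ φ, m φ * dg φ = Fintype.card F - 1 := by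
    have : ((∑ φ, m φ * dg φ : ℕ) : ℂ) = ((Fintype.card F - 1 : ℕ) : ℂ) := by
      rw [Nat.cast_sub Fintype.card_pos, Nat.cast_one, h1]; push_cast; rfl
    exact_mod_cast this
  have hsplit := Finset.add_sum_erase Finset.univ (fun φ => m φ * dg φ) (Finset.mem_univ χ')
  rw [h1'] at hsplit
  have hle : dg χ' ≤ m χ' * dg χ' := Nat.le_mul_of_pos_left _ (Nat.pos_of_ne_zero hm0)
  refine ⟨dg χ', hdg0 _, by omega, hdg χ', fun he => ?_⟩
  have hz : ∑ φ ∈ Finset.univ.erase χ', m φ * dg φ = 0 := by omega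
  have hm1 : m χ' = 1 := by
    have e1 : m χ' * dg χ' = 1 * dg χ' := by omega
    exact Nat.eq_of_mul_eq_mul_right (hdg0 χ') e1
  have hres : res ψ = χ := by
    rw [hs, ← Finset.add_sum_erase _ _ (Finset.mem_univ χ'), hm1, Nat.cast_one, one_smul,
      Finset.sum_eq_zero fun φ hφ => ?_, add_zero]
    have := (Finset.sum_eq_zero_iff.1 hz) φ hφ
    rw [(mul_eq_zero.1 this).resolve_right (hdg0 φ).ne', Nat.cast_zero, zero_smul]
  rw [← hres]
  exact ⟨res_cusp_one hψ, fun x hx => res_cusp_u hψ hx⟩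

end Cfsg.Agent.SL2Chars
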