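import Mathlib
import Cfsg.Agent.Lib.SL2Chars

/-!
The irreducible characters of `SL(2, F)` for a field of characteristic two.
-/

set_option autoImplicit false
set_option linter.unusedSectionVars false

namespace Cfsg.Agent.SL2Even

open Cfsg Cfsg.Agent.GL2Borel Cfsg.Agent.GL2Chars Cfsg.Agent.PSL2Elements Cfsg.Agent.SL2Borel
open Cfsg.Agent.SL2Chars Matrix
open scoped MatrixGroups ComplexConjugate

variable {F : Type*} [Field F] [Fintype F] [DecidableEq F] [CharP F 2]

theorem even_card : Fintype.card F % 2 = 0 :=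
  FiniteField.even_card_of_char_two (ringChar.eq F 2)

theorem isSquare_all (x : F) : IsSquare x :=
  FiniteField.isSquare_of_char_two (ringChar.eq F 2) x

theorem eq_one_of_sq {α : MulChar F ℂ} (h : α ^ 2 = 1) : α = 1 := by
  refine MulChar.ext fun a => ?_
  obtain ⟨s, hs⟩ := isSquare_all (a : F)
  have hs0 : s ≠ 0 := fun e => a.ne_zero (by rw [hs, e, mul_zero])
  rw [MulChar.one_apply_coe, hs, map_mul, ← MulChar.mul_apply, ← sq, h, one_apply_of_ne hs0]

theorem apply_u {χ : SL(2, F) → ℂ} (hc : IsClassFunction SL(2, F) χ) {x : F} (hx : x ≠ 0) :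
    χ (u x) = χ (u 1) :=
  CharBasic.apply_eq_of_isConj hc
    ((SL2Classes.isConj_u_iff_isSquare hx one_ne_zero).2 (isSquare_all _))

theorem sum_u {χ : SL(2, F) → ℂ} (hc : IsClassFunction SL(2, F) χ) :
    rowS χ 1 = χ 1 + ((Fintype.card F : ℂ) - 1) * χ (u 1) := by
  rw [rowS_one_eq, ← Finset.add_sum_erase _ _ (Finset.mem_univ (0 : F)),
    Finset.sum_congr rfl fun x hx => apply_u hc (Finset.ne_of_mem_erase hx), Finset.sum_const,
    Finset.card_erase_of_mem (Finset.mem_univ _), Finset.card_univ, u_zero, nsmul_eq_mul,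
    Nat.cast_sub Fintype.card_pos, Nat.cast_one]

theorem card_classes : Nat.card (ConjClasses SL(2, F)) = Fintype.card F + 1 := by
  rw [← Nat.card_congr (Equiv.ofBijective _ SL2Classes.repEven_bijective), Nat.card_sum,
    Nat.card_fin, Nat.card_eq_fintype_card, Fintype.card_subtype_compl, Fintype.card_subtype_eq]
  have := Fintype.one_lt_card (α := F)
  omega

/-- Degree and row sum of the four kinds. -/
def tbl (q : ℕ) : Fin 4 → ℕ × ℕ := ![(1, q), (q, q), (q + 1, 2 * q), (q - 1, 0)]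

theorem tbl_injective {q : ℕ} (hq : 2 ≤ q) : Function.Injective (tbl q) := by
  intro a b e
  fin_cases a <;> fin_cases b <;> first
    | rfl
    | (simp [tbl, Prod.ext_iff] at e <;> omega)

/-- A character has the given kind. -/
def HasKind (χ : SL(2, F) → ℂ) (k : Fin 4) : Prop :=
  χ 1 = ((tbl (Fintype.card F) k).1 : ℂ) ∧ rowS χ 1 = ((tbl (Fintype.card F) k).2 : ℂ)

theorem HasKind.unique {χ : SL(2, F) → ℂ} {k l : Fin 4} (hk : HasKind χ k) (hl : HasKind χ l) :
    k = l := by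
  refine tbl_injective (q := Fintype.card F) Fintype.one_lt_card (Prod.ext ?_ ?_)
  · exact_mod_cast hk.1.symm.trans hl.1
  · exact_mod_cast hk.2.symm.trans hl.2

theorem classify {χ : SL(2, F) → ℂ} (hχ : IsIrrCharacter SL(2, F) χ) :
    (χ = (fun _ => 1) ∧ HasKind χ 0) ∨ (χ = stS F ∧ HasKind χ 1) ∨
      ((∃ α : MulChar F ℂ, α ^ 2 ≠ 1 ∧ χ = indS α) ∧ HasKind χ 2) ∨
      (IsCuspS χ ∧ HasKind χ 3 ∧ ∀ x : F, x ≠ 0 → χ (u x) = -1) := by
  rcases irr_cases hχ with rfl | rfl | ⟨α, hα, rfl⟩ | ⟨α, h1, h2, -⟩ | hc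
  · exact Or.inl ⟨rfl, by simp [tbl], by simp [tbl, rowS_trivial]⟩
  · exact Or.inr (Or.inl ⟨rfl, by simp [tbl, stS_one], by simp [tbl, rowS_stS]⟩)
  · exact Or.inr (Or.inr (Or.inl ⟨⟨α, hα, rfl⟩, by simp [tbl, indS_one],
      by simp [tbl, rowS_indS_one]⟩))
  · exact absurd (eq_one_of_sq h2) h1
  · refine Or.inr (Or.inr (Or.inr ⟨hc, ?_⟩))
    obtain ⟨n, hn0, hn1, hn, hfull⟩ := hc.degree_le
    have hr := hc.rowS_eq 1
    have hs := sum_u hc.classFun
    rw [hr, hn] at hs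
    have h0 : Fintype.card F - 1 ≠ 0 := by have := Fintype.one_lt_card (α := F); omega
    obtain ⟨k, hk⟩ := CharBasicInt.dvd_of_isIntegral_div (a := n) h0 (by
      rw [show ((n : ℕ) : ℂ) / ((Fintype.card F - 1 : ℕ) : ℂ) = -χ (u 1) by
        rw [Nat.cast_sub Fintype.card_pos, Nat.cast_one]
        field_simp [card_sub_one_ne]
        linear_combination -hs]
      exact (CharBasic.isCharacter_integral (CharBasic.isCharacter_of_isIrrCharacter hχ) _).neg)
    have hfe : n = Fintype.card F - 1 := by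
      rcases Nat.eq_zero_or_pos k with rfl | hk0
      · omega
      · have := Nat.le_mul_of_pos_right (Fintype.card F - 1) hk0
        omega
    exact ⟨⟨by simp [tbl, hn, hfe], by simp [tbl, hr]⟩, (hfull hfe).2⟩

theorem exists_kind {χ : SL(2, F) → ℂ} (hχ : IsIrrCharacter SL(2, F) χ) : ∃ k, HasKind χ k := by
  rcases classify hχ with ⟨-, e⟩ | ⟨-, e⟩ | ⟨-, e⟩ | ⟨-, e, -⟩ <;> exact ⟨_, e⟩

theorem sum_apply_mul_rowS :
    ∑ χ : IrrCharacter SL(2, F), (χ : SL(2, F) → ℂ) 1 * rowS (χ : SL(2, F) → ℂ) 1 =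
      (Nat.card SL(2, F) : ℂ) := by
  classical
  have hconj : ∀ χ : IrrCharacter SL(2, F),
      conj ((χ : SL(2, F) → ℂ) 1) = (χ : SL(2, F) → ℂ) 1 := fun χ => by
    obtain ⟨n, -, hn⟩ := CharBasic.isIrrCharacter_apply_one χ.2
    rw [hn, Complex.conj_natCast]
  simp only [rowS_one_eq, Finset.mul_sum]
  rw [Finset.sum_comm]
  have e : ∀ x : F,
      ∑ χ : IrrCharacter SL(2, F), (χ : SL(2, F) → ℂ) 1 * (χ : SL(2, F) → ℂ) (u x) =
        if x = 0 then (Nat.card SL(2, F) : ℂ) else 0 := by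
    intro x
    rw [show ∑ χ : IrrCharacter SL(2, F), (χ : SL(2, F) → ℂ) 1 * (χ : SL(2, F) → ℂ) (u x) =
      ∑ χ : IrrCharacter SL(2, F), (χ : SL(2, F) → ℂ) (u x) * conj ((χ : SL(2, F) → ℂ) 1) from
      Finset.sum_congr rfl fun χ _ => by rw [hconj, mul_comm]]
    rw [CharBasicOrth.sum_irr_mul_conj]
    rcases eq_or_ne x 0 with rfl | hx
    · rw [u_zero, if_pos (IsConj.refl _), if_pos rfl,
        show Subgroup.centralizer ({1} : Set SL(2, F)) = ⊤ from
          Subgroup.ext fun g => by simp [Subgroup.mem_centralizer_singleton_iff],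
        Subgroup.card_top]
    · rw [if_neg (fun e => SL2Classes.u_ne_one hx (SL2Classes.eq_one_of_isConj e)), if_neg hx]
  simp [e]

/-- How many irreducible characters have each kind. -/
theorem card_kind : ∀ k, Nat.card {χ : IrrCharacter SL(2, F) // HasKind (χ : SL(2, F) → ℂ) k} =
    ![1, 1, (Fintype.card F - 2) / 2, Fintype.card F / 2] k := by
  classical
  obtain ⟨m, hm⟩ : ∃ m, Fintype.card F = 2 * m :=
    ⟨Fintype.card F / 2, by have := even_card (F := F); omega⟩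
  have hm0 : 0 < m := by have := Fintype.one_lt_card (α := F); omega
  choose kd hkd using fun χ : IrrCharacter SL(2, F) => exists_kind χ.2
  set N : Fin 4 → ℕ := fun k => (Finset.univ.filter fun χ => kd χ = k).card with hN
  have hNc : ∀ k, Nat.card {χ : IrrCharacter SL(2, F) // HasKind (χ : SL(2, F) → ℂ) k} = N k := by
    intro k
    rw [Nat.subtype_card (Finset.univ.filter fun χ => kd χ = k)]
    intro χ
    simp only [Finset.mem_filter, Finset.mem_univ, true_and]
    exact ⟨fun e => e ▸ hkd χ, fun e => (hkd χ).unique e⟩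
  have hsum : ∀ f : IrrCharacter SL(2, F) → ℂ, ∀ g : Fin 4 → ℂ, (∀ χ, f χ = g (kd χ)) →
      ∑ χ, f χ = ∑ k, (N k : ℂ) * g k := by
    intro f g hfg
    rw [← Finset.sum_fiberwise Finset.univ kd f]
    refine Finset.sum_congr rfl fun k _ => ?_
    rw [Finset.sum_congr rfl (g := fun _ => g k) fun χ hχ => by
      rw [hfg, (Finset.mem_filter.1 hχ).2], Finset.sum_const, nsmul_eq_mul]
  have hG : (Nat.card SL(2, F) : ℂ) = (Fintype.card F : ℂ) * ((Fintype.card F : ℂ) ^ 2 - 1) := by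
    rw [PSLCard.card_SL2, Nat.card_eq_fintype_card, Nat.cast_mul,
      Nat.cast_sub (Nat.one_le_pow _ _ Fintype.card_pos), Nat.cast_pow, Nat.cast_one]
  have s0 := hsum (fun _ => 1) (fun _ => 1) fun _ => rfl
  have s1 := hsum (fun χ => (χ : SL(2, F) → ℂ) 1 * rowS (χ : SL(2, F) → ℂ) 1)
    (fun k => ((tbl (Fintype.card F) k).1 : ℂ) * ((tbl (Fintype.card F) k).2 : ℂ))
    fun χ => by rw [(hkd χ).1, (hkd χ).2]
  rw [sum_apply_mul_rowS, hG] at s1
  rw [Finset.sum_const, Finset.card_univ, nsmul_eq_mul, mul_one, ← Nat.card_eq_fintype_card,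
    CharBasicOrth.card_irrCharacter, card_classes] at s0
  have n0 : N 0 = 1 := by
    rw [← hNc, Nat.card_eq_one_iff_unique]
    refine ⟨⟨fun a b => Subtype.ext (Subtype.ext ?_)⟩,
      ⟨⟨CharBasicDecomp.trivIrr _, by simp [tbl, CharBasicDecomp.trivIrr],
        by simp [tbl, CharBasicDecomp.trivIrr, rowS_trivial]⟩⟩⟩
    have key : ∀ z : IrrCharacter SL(2, F), HasKind (z : SL(2, F) → ℂ) 0 →
        (z : SL(2, F) → ℂ) = fun _ => 1 := by
      intro z hz
      rcases classify z.2 with ⟨e, -⟩ | ⟨-, e⟩ | ⟨-, e⟩ | ⟨-, e, -⟩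
      · exact e
      all_goals exact absurd (hz.unique e) (by decide)
    rw [key _ a.2, key _ b.2]
  have n1 : N 1 = 1 := by
    rw [← hNc, Nat.card_eq_one_iff_unique]
    refine ⟨⟨fun a b => Subtype.ext (Subtype.ext ?_)⟩,
      ⟨⟨⟨stS F, isIrr_stS⟩, by simp [tbl, stS_one], by simp [tbl, rowS_stS]⟩⟩⟩
    have key : ∀ z : IrrCharacter SL(2, F), HasKind (z : SL(2, F) → ℂ) 1 →
        (z : SL(2, F) → ℂ) = stS F := by
      intro z hz
      rcases classify z.2 with ⟨-, e⟩ | ⟨e, -⟩ | ⟨-, e⟩ | ⟨-, e, -⟩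
      · exact absurd (hz.unique e) (by decide)
      · exact e
      all_goals exact absurd (hz.unique e) (by decide)
    rw [key _ a.2, key _ b.2]
  simp only [Fin.sum_univ_four, n0, n1, tbl] at s0 s1
  have hqc : (Fintype.card F : ℂ) = 2 * (m : ℂ) := by rw [hm]; push_cast; rfl
  simp at s0 s1
  rw [hqc] at s0 s1
  have hm' : (2 * (m : ℂ) + 1) ≠ 0 := by exact_mod_cast Nat.succ_ne_zero (2 * m)
  have hP : (N 2 : ℂ) = (m : ℂ) - 1 := by
    refine mul_left_cancel₀ (a := (2 * (m : ℂ)) * (2 * (m : ℂ) + 1) * 2) ?_ ?_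
    · exact mul_ne_zero (mul_ne_zero (mul_ne_zero two_ne_zero (Nat.cast_ne_zero.2 hm0.ne')) hm')
        two_ne_zero
    · linear_combination -s1
  have hA : (N 3 : ℂ) = m := by linear_combination -s0 - hP
  have hP' : N 2 + 1 = m := by
    have : ((N 2 + 1 : ℕ) : ℂ) = m := by push_cast; rw [hP]; ring
    exact_mod_cast this
  intro k
  rw [hNc, hm]
  fin_cases k
  · exact n0
  · exact n1
  · show N 2 = (2 * m - 2) / 2
    omega
  · show N 3 = 2 * m / 2
    have : N 3 = m := by exact_mod_cast hA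
    omega

end Cfsg.Agent.SL2Even
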