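import Mathlib
import Cfsg.Agent.Lib.SL2Chars
import Cfsg.Agent.Lib.CharBasicLinear
import Cfsg.Agent.S2325

/-!
The irreducible characters of `SL(2, F)` for a field of odd order: kinds and their numbers.
-/

set_option autoImplicit false
set_option linter.unusedSectionVars false

namespace Cfsg.Agent.SL2Odd

open Cfsg Cfsg.Agent.GL2Borel Cfsg.Agent.GL2Chars Cfsg.Agent.PSL2Elements Cfsg.Agent.SL2Borel
open Cfsg.Agent.SL2Chars Matrix
open scoped MatrixGroups ComplexConjugate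

theorem not_isIntegral_half : ¬ IsIntegral ℤ ((1 : ℂ) / 2) := fun h => by
  have := CharBasicInt.dvd_of_isIntegral_div (a := 1) (b := 2) two_ne_zero (by simpa using h)
  omega

variable {F : Type*} [Field F] [Fintype F]

theorem ringChar_ne_two (hodd : Odd (Fintype.card F)) : ringChar F ≠ 2 := fun h => by
  have := FiniteField.even_card_of_char_two h
  rw [Nat.odd_iff] at hodd
  omega

theorem exists_half (hodd : Odd (Fintype.card F)) :
    ∃ h, 0 < h ∧ Fintype.card F = 2 * h + 1 := by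
  obtain ⟨h, hh⟩ := hodd
  exact ⟨h, by have := Fintype.one_lt_card (α := F); omega, hh⟩

variable [DecidableEq F]

/-- The quadratic character with complex values. -/
noncomputable def quad (F : Type*) [Field F] [Fintype F] [DecidableEq F] : MulChar F ℂ :=
  (quadraticChar F).ringHomComp (Int.castRingHom ℂ)

theorem quad_apply (x : F) : quad F x = ((quadraticChar F x : ℤ) : ℂ) := rfl

theorem quad_of_isSquare {x : F} (hx : x ≠ 0) (h : IsSquare x) : quad F x = 1 := by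
  rw [quad_apply, (quadraticChar_one_iff_isSquare hx).2 h, Int.cast_one]

theorem quad_of_not_isSquare {x : F} (h : ¬ IsSquare x) : quad F x = -1 := by
  rw [quad_apply, quadraticChar_neg_one_iff_not_isSquare.2 h, Int.cast_neg, Int.cast_one]

theorem quad_zero : quad F 0 = 0 := by simp [quad_apply]

theorem quad_sq : quad F ^ 2 = 1 := by
  refine MulChar.ext fun a => ?_
  rw [MulChar.one_apply_coe, MulChar.pow_apply' _ two_ne_zero, quad_apply]
  exact_mod_cast quadraticChar_sq_one a.ne_zero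

theorem quad_ne_one (hodd : Odd (Fintype.card F)) : quad F ≠ 1 := fun e => by
  obtain ⟨-, ν, hν⟩ := SL2Classes.two_ne_zero_of_odd hodd
  have h0 : ν ≠ 0 := fun h => hν (h ▸ IsSquare.zero)
  have := congrArg (fun α : MulChar F ℂ => α ν) e
  simp only [quad_of_not_isSquare hν, one_apply_of_ne h0] at this
  norm_num at this

theorem eq_quad {α : MulChar F ℂ} (h1 : α ≠ 1) (h2 : α ^ 2 = 1) : α = quad F := by
  have hsq : ∀ a : F, a ≠ 0 → α a * α a = 1 := fun a ha => by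
    rw [← MulChar.mul_apply, ← sq, h2, one_apply_of_ne ha]
  have hs : ∀ a : F, a ≠ 0 → IsSquare a → α a = 1 := by
    rintro a ha ⟨s, rfl⟩
    rw [map_mul]; exact hsq s (left_ne_zero_of_mul ha)
  obtain ⟨b, hb0, hb⟩ : ∃ b : F, b ≠ 0 ∧ α b ≠ 1 := by
    by_contra hc
    push Not at hc
    exact h1 (MulChar.ext fun a => by rw [MulChar.one_apply_coe]; exact hc a a.ne_zero)
  have hbs : ¬ IsSquare b := fun e => hb (hs b hb0 e)
  have hb1 : α b = -1 := (mul_self_eq_one_iff.1 (hsq b hb0)).resolve_left hb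
  refine MulChar.ext fun a => ?_
  by_cases ha : IsSquare (a : F)
  · rw [quad_of_isSquare a.ne_zero ha, hs _ a.ne_zero ha]
  · rw [quad_of_not_isSquare ha]
    have hab : quad F ((a : F) * b) = 1 := by
      rw [map_mul, quad_of_not_isSquare ha, quad_of_not_isSquare hbs]; norm_num
    have hab' : IsSquare ((a : F) * b) := by
      by_contra hn
      rw [quad_of_not_isSquare hn] at hab
      norm_num at hab
    have := hs _ (mul_ne_zero a.ne_zero hb0) hab'
    rw [map_mul, hb1] at this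
    linear_combination -this

/-! ### Values on the unipotent elements -/

theorem apply_u {χ : SL(2, F) → ℂ} (hc : IsClassFunction SL(2, F) χ) {ν : F} (hν : ¬ IsSquare ν)
    {x : F} (hx : x ≠ 0) :
    χ (u x) = (χ (u 1) + χ (u ν)) / 2 + (χ (u 1) - χ (u ν)) / 2 * quad F x := by
  have hν0 : ν ≠ 0 := fun h => hν (h ▸ IsSquare.zero)
  by_cases hs : IsSquare x
  · rw [quad_of_isSquare hx hs,
      CharBasic.apply_eq_of_isConj hc ((SL2Classes.isConj_u_iff_isSquare hx one_ne_zero).2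
        (by rwa [mul_one]))]
    ring
  · have hc' : IsConj (u x) (u ν) := by
      refine (SL2Classes.isConj_u_one_or hν hx).resolve_left fun e => hs ?_
      simpa using (SL2Classes.isConj_u_iff_isSquare hx one_ne_zero).1 e
    rw [quad_of_not_isSquare hs, CharBasic.apply_eq_of_isConj hc hc']
    ring

theorem sum_quad (hodd : Odd (Fintype.card F)) : ∑ x : F, quad F x = 0 :=
  MulChar.sum_eq_zero_of_ne_one (quad_ne_one hodd)

theorem sum_u {χ : SL(2, F) → ℂ} (hc : IsClassFunction SL(2, F) χ) (hodd : Odd (Fintype.card F))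
    {ν : F} (hν : ¬ IsSquare ν) {h : ℕ} (hq : Fintype.card F = 2 * h + 1) :
    rowS χ 1 = χ 1 + (h : ℂ) * (χ (u 1) + χ (u ν)) := by
  rw [rowS_one_eq]
  have e : ∀ x : F, χ (u x) = (χ (u 1) + χ (u ν)) / 2 + (χ (u 1) - χ (u ν)) / 2 * quad F x +
      (if x = 0 then χ 1 - (χ (u 1) + χ (u ν)) / 2 else 0) := by
    intro x
    rcases eq_or_ne x 0 with rfl | hx
    · simp [u_zero, quad_zero]
    · rw [if_neg hx, add_zero, apply_u hc hν hx]
  rw [Finset.sum_congr rfl fun x _ => e x]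
  simp only [Finset.sum_add_distrib, ← Finset.mul_sum, sum_quad hodd, Finset.sum_ite_eq',
    Finset.mem_univ, if_true, Finset.sum_const, Finset.card_univ, nsmul_eq_mul, hq]
  push_cast
  ring

/-- A lower unitriangular matrix as a conjugate of an upper one. -/
theorem d_eq_prod (a : Fˣ) :
    d a = u (a : F) * (w * u ((a : F)⁻¹) * w⁻¹) * u (a : F) *
      (u (-1) * (w * u (-1) * w⁻¹) * u (-1)) := by
  have hw : (w : SL(2, F))⁻¹ = mk2 0 1 (-1) 0 (by ring) := by
    rw [inv_eq_iff_mul_eq_one]; apply ext2 <;> simp [w]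
  rw [hw]
  apply ext2 <;> simp [u, w, d, mul_apply2]

theorem sbor_eq (a : Fˣ) (x : F) : (sbor a x : SL(2, F)) = d a * u (x / a) := by
  apply ext2 <;> simp [sbor, d, u, mul_apply2]
  field_simp

theorem half_ne_one {α : MulChar F ℂ} (h1 : α ≠ 1) {χ : SL(2, F) → ℂ}
    (hχ : IsIrrCharacter SL(2, F) χ) (hrow : rowS χ 1 = (Fintype.card F : ℂ))
    (hin : classInner χ (indS α) ≠ 0) : χ 1 ≠ 1 := by
  intro he
  obtain ⟨f, hf⟩ :=
    CharBasicLinear.exists_hom_of_apply_one_eq_one (CharBasic.isCharacter_of_isIrrCharacter hχ) he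
  have hmul : ∀ g k, χ (g * k) = χ g * χ k := fun g k => by simp [hf, map_mul]
  have hu : ∀ y : F, χ (u y) = 1 := by
    intro y
    have hS : χ (u y) * rowS χ 1 = rowS χ 1 := by
      rw [rowS_one_eq, Finset.mul_sum]
      exact Fintype.sum_equiv (Equiv.addLeft y) _ _ fun x => by
        rw [← hmul, u_mul]; rfl
    rw [hrow] at hS
    exact mul_right_cancel₀ card_ne (hS.trans (one_mul _).symm)
  have hconj : ∀ g k : SL(2, F), χ (g * k * g⁻¹) = χ k := fun g k => classFun_of_irr hχ k g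
  have hd : ∀ a : Fˣ, χ (d a) = 1 := fun a => by
    have hw : χ w * χ w⁻¹ = 1 := by rw [← hmul, mul_inv_cancel, he]
    rw [d_eq_prod]; simp [hmul, hu, hw]
  apply hin
  rw [inner_indS_eq χ (classFun_of_irr hχ)]
  have hrow' : ∀ a : Fˣ, rowS χ a = (Fintype.card F : ℂ) := fun a => by
    simp [rowS, sbor_eq, hmul, hd, hu]
  classical
  simp [hrow', ← Finset.mul_sum, sum_conj_apply, h1]

theorem inner_conj_ne {χ θ : SL(2, F) → ℂ} (h : classInner θ χ ≠ 0) : classInner χ θ ≠ 0 := by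
  rw [← CharInduced.inner_conj_symm]; simpa using h

theorem half_degree_aux (hodd : Odd (Fintype.card F)) {ν : F} (hν : ¬ IsSquare ν) {h : ℕ}
    (hq : Fintype.card F = 2 * h + 1) {χ : SL(2, F) → ℂ} (hχ : IsIrrCharacter SL(2, F) χ)
    (hrow : rowS χ 1 = (Fintype.card F : ℂ)) {n : ℕ} (hn : χ 1 = n) (hnq : n ≤ Fintype.card F) :
    h ∣ Fintype.card F - n := by
  have hs := sum_u (classFun_of_irr hχ) hodd hν hq
  rw [hrow, hn] at hs
  have h0 : h ≠ 0 := by have := Fintype.one_lt_card (α := F); omega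
  have hi := (CharBasic.isCharacter_integral (CharBasic.isCharacter_of_isIrrCharacter hχ) (u (1 : F))).add
    (CharBasic.isCharacter_integral (CharBasic.isCharacter_of_isIrrCharacter hχ) (u ν))
  refine CharBasicInt.dvd_of_isIntegral_div h0 ?_
  have : ((Fintype.card F - n : ℕ) : ℂ) / (h : ℂ) = χ (u 1) + χ (u ν) := by
    rw [Nat.cast_sub hnq, hs]
    field_simp
    ring
  rwa [this]

/-- The two halves of the reducible principal series character. -/
theorem exists_halves (hodd : Odd (Fintype.card F)) {h : ℕ} (hq : Fintype.card F = 2 * h + 1) :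
    ∃ χ₁ χ₂, IsIrrCharacter SL(2, F) χ₁ ∧ IsIrrCharacter SL(2, F) χ₂ ∧ χ₁ ≠ χ₂ ∧
      indS (quad F) = χ₁ + χ₂ ∧ χ₁ 1 = (h : ℂ) + 1 ∧ χ₂ 1 = (h : ℂ) + 1 ∧
      rowS χ₁ 1 = (Fintype.card F : ℂ) ∧ rowS χ₂ 1 = (Fintype.card F : ℂ) := by
  obtain ⟨χ₁, χ₂, h₁, h₂, hne, hsum⟩ := exists_pair (quad_sq (F := F))
  obtain ⟨-, ν, hν⟩ := SL2Classes.two_ne_zero_of_odd hodd
  have r₁ := rowS_half quad_sq h₁ h₂ hne hsum
  have r₂ := rowS_half quad_sq h₂ h₁ hne.symm (hsum.trans (add_comm _ _))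
  obtain ⟨n₁, p₁, e₁⟩ := CharBasic.isIrrCharacter_apply_one h₁
  obtain ⟨n₂, p₂, e₂⟩ := CharBasic.isIrrCharacter_apply_one h₂
  have ht := congrFun hsum 1
  rw [indS_one, Pi.add_apply, e₁, e₂] at ht
  have ht' : Fintype.card F + 1 = n₁ + n₂ := by exact_mod_cast ht
  have i₁ : classInner χ₁ (indS (quad F)) ≠ 0 := by
    rw [hsum, (inner_pair_self h₁ h₂ hne).1]; exact one_ne_zero
  have i₂ : classInner χ₂ (indS (quad F)) ≠ 0 := by
    rw [hsum, (inner_pair_self h₁ h₂ hne).2]; exact one_ne_zero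
  have q₁ : n₁ ≠ 1 := fun e => half_ne_one (quad_ne_one hodd) h₁ r₁ i₁ (by simp [e₁, e])
  have q₂ : n₂ ≠ 1 := fun e => half_ne_one (quad_ne_one hodd) h₂ r₂ i₂ (by simp [e₂, e])
  obtain ⟨k₁, hk₁⟩ := half_degree_aux hodd hν hq h₁ r₁ e₁ (by omega)
  have hk : k₁ = 1 := by
    rcases lt_trichotomy k₁ 1 with hk | hk | hk
    · interval_cases k₁; omega
    · exact hk
    · have : h * 2 ≤ h * k₁ := Nat.mul_le_mul_left h hk
      omega
  subst hk
  have d₁ : n₁ = h + 1 := by omega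
  have d₂ : n₂ = h + 1 := by omega
  refine ⟨χ₁, χ₂, h₁, h₂, hne, hsum, ?_, ?_, r₁, r₂⟩ <;> simp [e₁, e₂, d₁, d₂]

/-! ### Kinds -/

/-- Degree and row sum of the six kinds. -/
def tbl (q h : ℕ) : Fin 6 → ℕ × ℕ :=
  ![(1, q), (q, q), (q + 1, 2 * q), (h + 1, q), (q - 1, 0), (h, 0)]

theorem tbl_injective {q h : ℕ} (hh : 0 < h) (hq : q = 2 * h + 1) :
    Function.Injective (tbl q h) := by
  intro a b e
  fin_cases a <;> fin_cases b <;> first
    | rfl
    | (simp [tbl, Prod.ext_iff] at e <;> omega)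

/-- A character has the given kind. -/
def HasKind (χ : SL(2, F) → ℂ) (h : ℕ) (k : Fin 6) : Prop :=
  χ 1 = ((tbl (Fintype.card F) h k).1 : ℂ) ∧ rowS χ 1 = ((tbl (Fintype.card F) h k).2 : ℂ)

theorem HasKind.unique {χ : SL(2, F) → ℂ} {h : ℕ} (hh : 0 < h) (hq : Fintype.card F = 2 * h + 1)
    {k l : Fin 6} (hk : HasKind χ h k) (hl : HasKind χ h l) : k = l := by
  refine tbl_injective hh hq (Prod.ext ?_ ?_)
  · exact_mod_cast hk.1.symm.trans hl.1
  · exact_mod_cast hk.2.symm.trans hl.2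

theorem classify (hodd : Odd (Fintype.card F)) {h : ℕ} (hq : Fintype.card F = 2 * h + 1)
    {χ : SL(2, F) → ℂ} (hχ : IsIrrCharacter SL(2, F) χ) :
    (χ = (fun _ => 1) ∧ HasKind χ h 0) ∨ (χ = stS F ∧ HasKind χ h 1) ∨
      ((∃ α : MulChar F ℂ, α ^ 2 ≠ 1 ∧ χ = indS α) ∧ HasKind χ h 2) ∨
      (classInner χ (indS (quad F)) ≠ 0 ∧ HasKind χ h 3) ∨
      (IsCuspS χ ∧ ((HasKind χ h 4 ∧ ∀ x : F, x ≠ 0 → χ (u x) = -1) ∨ HasKind χ h 5)) := by
  rcases irr_cases hχ with rfl | rfl | ⟨α, hα, rfl⟩ | ⟨α, h1, h2, hin⟩ | hc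
  · exact Or.inl ⟨rfl, by simp [tbl], by simp [tbl, rowS_trivial]⟩
  · exact Or.inr (Or.inl ⟨rfl, by simp [tbl, stS_one], by simp [tbl, rowS_stS]⟩)
  · exact Or.inr (Or.inr (Or.inl ⟨⟨α, hα, rfl⟩, by simp [tbl, indS_one],
      by simp [tbl, rowS_indS_one]⟩))
  · rw [eq_quad h1 h2] at hin
    obtain ⟨χ₁, χ₂, i₁, i₂, -, hsum, d₁, d₂, r₁, r₂⟩ := exists_halves hodd hq
    refine Or.inr (Or.inr (Or.inr (Or.inl ⟨hin, ?_⟩)))
    rw [hsum] at hin
    rcases eq_or_eq_of_inner_pair i₁ i₂ hχ hin with rfl | rfl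
    · exact ⟨by simp [tbl, d₁], by simp [tbl, r₁]⟩
    · exact ⟨by simp [tbl, d₂], by simp [tbl, r₂]⟩
  · refine Or.inr (Or.inr (Or.inr (Or.inr ⟨hc, ?_⟩)))
    obtain ⟨-, ν, hν⟩ := SL2Classes.two_ne_zero_of_odd hodd
    obtain ⟨n, hn0, hn1, hn, hfull⟩ := hc.degree_le
    have h0 : h ≠ 0 := by have := Fintype.one_lt_card (α := F); omega
    have hr := hc.rowS_eq 1
    have hs := sum_u hc.classFun hodd hν hq
    rw [hr, hn] at hs
    have hi := ((CharBasic.isCharacter_integral (CharBasic.isCharacter_of_isIrrCharacter hχ) (u (1 : F))).add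
      (CharBasic.isCharacter_integral (CharBasic.isCharacter_of_isIrrCharacter hχ) (u ν))).neg
    obtain ⟨k, hk⟩ := CharBasicInt.dvd_of_isIntegral_div (a := n) h0 (by
      rwa [show ((n : ℕ) : ℂ) / (h : ℂ) = -(χ (u 1) + χ (u ν)) by
        field_simp; linear_combination -hs])
    rcases lt_or_ge n (Fintype.card F - 1) with hlt | hge
    · right
      have : k = 1 := by
        rcases lt_trichotomy k 1 with hk' | hk' | hk'
        · interval_cases k; omega
        · exact hk'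
        · have : h * 2 ≤ h * k := Nat.mul_le_mul_left h hk'
          omega
      subst this
      rw [mul_one] at hk
      exact ⟨by simp [tbl, hn, hk], by simp [tbl, hr]⟩
    · left
      obtain ⟨-, f2⟩ := hfull (le_antisymm hn1 hge)
      exact ⟨⟨by simp [tbl, hn, le_antisymm hn1 hge], by simp [tbl, hr]⟩, f2⟩

theorem exists_kind (hodd : Odd (Fintype.card F)) {h : ℕ} (hq : Fintype.card F = 2 * h + 1)
    {χ : SL(2, F) → ℂ} (hχ : IsIrrCharacter SL(2, F) χ) : ∃ k, HasKind χ h k := by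
  rcases classify hodd hq hχ with ⟨-, e⟩ | ⟨-, e⟩ | ⟨-, e⟩ | ⟨-, e⟩ | ⟨-, ⟨e, -⟩ | e⟩ <;>
    exact ⟨_, e⟩

theorem sum_apply_mul_rowS :
    ∑ χ : IrrCharacter SL(2, F), (χ : SL(2, F) → ℂ) 1 * rowS (χ : SL(2, F) → ℂ) 1 =
      (Nat.card SL(2, F) : ℂ) := by
  classical
  have hconj : ∀ χ : IrrCharacter SL(2, F),
      conj ((χ : SL(2, F) → ℂ) 1) = (χ : SL(2, F) → ℂ) 1 := fun χ => by
    obtain ⟨n, -, hn⟩ := CharBasic.isIrrCharacter_apply_one χ.2
    rw [hn, Complex.conj_natCast]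
  simp only [rowS_one_eq, Finset.mul_sum]
  rw [Finset.sum_comm]
  have e : ∀ x : F,
      ∑ χ : IrrCharacter SL(2, F), (χ : SL(2, F) → ℂ) 1 * (χ : SL(2, F) → ℂ) (u x) =
        if x = 0 then (Nat.card SL(2, F) : ℂ) else 0 := by
    intro x
    rw [show ∑ χ : IrrCharacter SL(2, F), (χ : SL(2, F) → ℂ) 1 * (χ : SL(2, F) → ℂ) (u x) =
      ∑ χ : IrrCharacter SL(2, F), (χ : SL(2, F) → ℂ) (u x) * conj ((χ : SL(2, F) → ℂ) 1) from
      Finset.sum_congr rfl fun χ _ => by rw [hconj, mul_comm]]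
    rw [CharBasicOrth.sum_irr_mul_conj]
    rcases eq_or_ne x 0 with rfl | hx
    · rw [u_zero, if_pos (IsConj.refl _), if_pos rfl,
        show Subgroup.centralizer ({1} : Set SL(2, F)) = ⊤ from
          Subgroup.ext fun g => by simp [Subgroup.mem_centralizer_singleton_iff],
        Subgroup.card_top]
    · rw [if_neg (fun e => SL2Classes.u_ne_one hx (SL2Classes.eq_one_of_isConj e)), if_neg hx]
  simp [e]

/-- How many irreducible characters have each kind. -/
theorem card_kind (hodd : Odd (Fintype.card F)) {h : ℕ} (hq : Fintype.card F = 2 * h + 1) :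
    ∀ k, Nat.card {χ : IrrCharacter SL(2, F) // HasKind (χ : SL(2, F) → ℂ) h k} =
      ![1, 1, h - 1, 2, h, 2] k := by
  classical
  have hh : 0 < h := by have := Fintype.one_lt_card (α := F); omega
  choose kd hkd using fun χ : IrrCharacter SL(2, F) => exists_kind hodd hq χ.2
  set N : Fin 6 → ℕ := fun k => (Finset.univ.filter fun χ => kd χ = k).card with hN
  have hNc : ∀ k, Nat.card {χ : IrrCharacter SL(2, F) // HasKind (χ : SL(2, F) → ℂ) h k} = N k := by
    intro k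
    rw [Nat.subtype_card (Finset.univ.filter fun χ => kd χ = k)]
    intro χ
    simp only [Finset.mem_filter, Finset.mem_univ, true_and]
    exact ⟨fun e => e ▸ hkd χ, fun e => (hkd χ).unique hh hq e⟩
  have hsum : ∀ f : IrrCharacter SL(2, F) → ℂ, ∀ g : Fin 6 → ℂ, (∀ χ, f χ = g (kd χ)) →
      ∑ χ, f χ = ∑ k, (N k : ℂ) * g k := by
    intro f g hfg
    rw [← Finset.sum_fiberwise Finset.univ kd f]
    refine Finset.sum_congr rfl fun k _ => ?_
    rw [Finset.sum_congr rfl (g := fun _ => g k) fun χ hχ => by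
      rw [hfg, (Finset.mem_filter.1 hχ).2], Finset.sum_const, nsmul_eq_mul]
  have hG : (Nat.card SL(2, F) : ℂ) = (Fintype.card F : ℂ) * ((Fintype.card F : ℂ) ^ 2 - 1) := by
    rw [PSLCard.card_SL2, Nat.card_eq_fintype_card, Nat.cast_mul,
      Nat.cast_sub (Nat.one_le_pow _ _ Fintype.card_pos), Nat.cast_pow, Nat.cast_one]
  have s0 := hsum (fun _ => 1) (fun _ => 1) fun _ => rfl
  have s1 := hsum (fun χ => (χ : SL(2, F) → ℂ) 1 * rowS (χ : SL(2, F) → ℂ) 1)
    (fun k => ((tbl (Fintype.card F) h k).1 : ℂ) * ((tbl (Fintype.card F) h k).2 : ℂ))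
    fun χ => by rw [(hkd χ).1, (hkd χ).2]
  have s2 := hsum (fun χ => (χ : SL(2, F) → ℂ) 1 ^ 2)
    (fun k => ((tbl (Fintype.card F) h k).1 : ℂ) ^ 2) fun χ => by rw [(hkd χ).1]
  rw [sum_apply_mul_rowS, hG] at s1
  rw [CharBasicOrth.sum_sq_apply_one, hG] at s2
  rw [Finset.sum_const, Finset.card_univ, nsmul_eq_mul, mul_one, ← Nat.card_eq_fintype_card,
    CharBasicOrth.card_irrCharacter, S2325.result hodd] at s0
  have n0 : N 0 = 1 := by
    rw [← hNc, Nat.card_eq_one_iff_unique]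
    refine ⟨⟨fun a b => Subtype.ext (Subtype.ext ?_)⟩,
      ⟨⟨CharBasicDecomp.trivIrr _, by simp [tbl, CharBasicDecomp.trivIrr],
        by simp [tbl, CharBasicDecomp.trivIrr, rowS_trivial]⟩⟩⟩
    have key : ∀ z : IrrCharacter SL(2, F), HasKind (z : SL(2, F) → ℂ) h 0 →
        (z : SL(2, F) → ℂ) = fun _ => 1 := by
      intro z hz
      rcases classify hodd hq z.2 with ⟨e, -⟩ | ⟨-, e⟩ | ⟨-, e⟩ | ⟨-, e⟩ | ⟨-, ⟨e, -⟩ | e⟩
      · exact e
      all_goals exact absurd (hz.unique hh hq e) (by decide)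
    rw [key _ a.2, key _ b.2]
  have n1 : N 1 = 1 := by
    rw [← hNc, Nat.card_eq_one_iff_unique]
    refine ⟨⟨fun a b => Subtype.ext (Subtype.ext ?_)⟩,
      ⟨⟨⟨stS F, isIrr_stS⟩, by simp [tbl, stS_one], by simp [tbl, rowS_stS]⟩⟩⟩
    have key : ∀ z : IrrCharacter SL(2, F), HasKind (z : SL(2, F) → ℂ) h 1 →
        (z : SL(2, F) → ℂ) = stS F := by
      intro z hz
      rcases classify hodd hq z.2 with ⟨-, e⟩ | ⟨e, -⟩ | ⟨-, e⟩ | ⟨-, e⟩ | ⟨-, ⟨e, -⟩ | e⟩
      · exact absurd (hz.unique hh hq e) (by decide)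
      · exact e
      all_goals exact absurd (hz.unique hh hq e) (by decide)
    rw [key _ a.2, key _ b.2]
  obtain ⟨χ₁, χ₂, i₁, i₂, hne, he, d₁, d₂, r₁, r₂⟩ := exists_halves hodd hq
  have n3 : N 3 = 2 := by
    rw [← hNc, Nat.subtype_card {⟨χ₁, i₁⟩, ⟨χ₂, i₂⟩}]
    · exact Finset.card_pair fun e => hne (congrArg Subtype.val e)
    intro χ
    simp only [Finset.mem_insert, Finset.mem_singleton]
    constructor
    · rintro (rfl | rfl)
      · exact ⟨by simp [tbl, d₁], by simp [tbl, r₁]⟩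
      · exact ⟨by simp [tbl, d₂], by simp [tbl, r₂]⟩
    · intro hk
      rcases classify hodd hq χ.2 with ⟨-, e⟩ | ⟨-, e⟩ | ⟨-, e⟩ | ⟨e, -⟩ | ⟨-, ⟨e, -⟩ | e⟩
      any_goals exact absurd (hk.unique hh hq e) (by decide)
      rw [he] at e
      rcases eq_or_eq_of_inner_pair i₁ i₂ χ.2 e with e' | e'
      · exact Or.inl (Subtype.ext e')
      · exact Or.inr (Subtype.ext e')
  simp only [Fin.sum_univ_six, n0, n1, n3, tbl] at s0 s1 s2
  have hq1 : ((Fintype.card F - 1 : ℕ) : ℂ) = (Fintype.card F : ℂ) - 1 := by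
    rw [Nat.cast_sub Fintype.card_pos, Nat.cast_one]
  have hqc : (Fintype.card F : ℂ) = 2 * (h : ℂ) + 1 := by rw [hq]; push_cast; rfl
  simp at s0 s1 s2
  rw [hq1] at s2
  rw [hqc] at s0 s1 s2
  have hh' : (h : ℂ) ≠ 0 := Nat.cast_ne_zero.2 hh.ne'
  have hh1 : (2 * (h : ℂ) + 1) ≠ 0 := by exact_mod_cast Nat.succ_ne_zero (2 * h)
  have hh2 : (h : ℂ) + 1 ≠ 0 := Nat.cast_add_one_ne_zero h
  have hP : (N 2 : ℂ) = (h : ℂ) - 1 := by
    refine mul_left_cancel₀ (a := (2 * (h : ℂ) + 1) * ((h : ℂ) + 1) * 4)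
      (mul_ne_zero (mul_ne_zero hh1 hh2) (by norm_num)) ?_
    linear_combination -s1
  have hA : (N 4 : ℂ) = h := by
    refine mul_left_cancel₀ (a := (3 : ℂ) * (h : ℂ) ^ 2)
      (mul_ne_zero (by norm_num) (pow_ne_zero 2 hh')) ?_
    linear_combination -s2 + (h : ℂ) ^ 2 * s0 - (3 * (h : ℂ) ^ 2 + 8 * (h : ℂ) + 4) * hP
  have hB : (N 5 : ℂ) = 2 := by linear_combination -s0 - hP - hA
  have hP' : N 2 = h - 1 := by
    have : ((N 2 + 1 : ℕ) : ℂ) = h := by push_cast; rw [hP]; ring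
    have : N 2 + 1 = h := by exact_mod_cast this
    omega
  intro k
  rw [hNc]
  fin_cases k
  · exact n0
  · exact n1
  · exact hP'
  · exact n3
  · exact_mod_cast hA
  · exact_mod_cast hB

end Cfsg.Agent.SL2Odd
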