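import Mathlib
import Cfsg.Agent.Lib.SL2Odd

/-!
The four irreducible characters of `SL(2, F)`, `q` odd, of half degree: conjugation by `GL`,
zeros and the values at the transvections through the quadratic Gauss sum.
-/

set_option autoImplicit false
set_option linter.unusedSectionVars false

namespace Cfsg.Agent.SL2Halves

open Cfsg Cfsg.Agent.GL2Borel Cfsg.Agent.GL2Chars Cfsg.Agent.PSL2Elements Cfsg.Agent.SL2Borel
open Cfsg.Agent.SL2Chars Cfsg.Agent.SL2Odd Matrix
open scoped MatrixGroups ComplexConjugate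

variable {F : Type*} [Field F]

/-- Conjugation by `diag(ν, 1)`, on elements. -/
def conjFn (ν : Fˣ) (g : SL(2, F)) : SL(2, F) :=
  mk2 (g.1 0 0) ((ν : F) * g.1 0 1) ((ν : F)⁻¹ * g.1 1 0) (g.1 1 1) (by
    have h := det_eq g
    field_simp
    linear_combination h)

theorem conjFn_inv (ν : Fˣ) (g : SL(2, F)) : conjFn ν⁻¹ (conjFn ν g) = g := by
  apply ext2 <;> simp [conjFn]

/-- Conjugation by `diag(ν, 1)` as an automorphism of `SL`. -/
def conjNu (ν : Fˣ) : SL(2, F) ≃* SL(2, F) where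
  toFun := conjFn ν
  invFun := conjFn ν⁻¹
  left_inv := conjFn_inv ν
  right_inv g := by simpa using conjFn_inv ν⁻¹ g
  map_mul' g k := by
    apply ext2 <;> simp [conjFn, mul_apply2] <;> field_simp

theorem conjNu_apply (ν : Fˣ) (g : SL(2, F)) :
    conjNu ν g = conjFn ν g := rfl

theorem conjNu_u (ν : Fˣ) (x : F) : conjNu ν (u x) = u ((ν : F) * x) := by
  rw [conjNu_apply]; apply ext2 <;> simp [conjFn, u]

theorem conjNu_d (ν a : Fˣ) : conjNu ν (d a) = d a := by
  rw [conjNu_apply]; apply ext2 <;> simp [conjFn, d]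

theorem tr_conjNu (ν : Fˣ) (g : SL(2, F)) : tr (conjNu ν g) = tr g := by
  rw [conjNu_apply]; simp [tr, conjFn]

theorem toGL_conjNu (ν : Fˣ) (g : SL(2, F)) :
    Matrix.SpecialLinearGroup.toGL (conjNu ν g) =
      gl (ν : F) 0 0 1 (by simp) * Matrix.SpecialLinearGroup.toGL g *
        (gl (ν : F) 0 0 1 (by simp))⁻¹ := by
  rw [eq_mul_inv_iff_mul_eq]
  apply Units.ext
  rw [Units.val_mul, Units.val_mul, conjNu_apply]
  show (conjFn ν g).1 * _ = _ * g.1
  rw [gl_coe]
  ext i j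
  fin_cases i <;> fin_cases j <;>
    simp [conjFn, Matrix.mul_apply, Fin.sum_univ_two] <;> field_simp

/-- An element without eigenvector has no eigenvalue in the field. -/
theorem no_root {g : SL(2, F)}
    (hg : ∀ (c : F) (v : Fin 2 → F), v ≠ 0 → g.1.mulVec v ≠ c • v) :
    ∀ r : F, r ^ 2 - tr g * r + 1 ≠ 0 := by
  intro r hr
  have hdet : (g.1 - r • 1).det = 0 := by
    rw [Matrix.det_fin_two]
    simp [tr] at hr ⊢
    linear_combination hr + det_eq g
  obtain ⟨v, hv, hv'⟩ := Matrix.exists_mulVec_eq_zero_iff.2 hdet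
  refine hg r v hv ?_
  rw [Matrix.sub_mulVec, Matrix.smul_mulVec, Matrix.one_mulVec, sub_eq_zero] at hv'
  exact hv'

theorem tr_sq_ne_four {g : SL(2, F)} (h : ∀ r : F, r ^ 2 - tr g * r + 1 ≠ 0) : tr g ^ 2 ≠ 4 := by
  intro e
  have : (tr g - 2) * (tr g + 2) = 0 := by linear_combination e
  rcases mul_eq_zero.1 this with e' | e'
  · exact h 1 (by linear_combination -e')
  · exact h (-1) (by linear_combination e')

variable [Fintype F] [DecidableEq F]

theorem indS_conjNu (α : MulChar F ℂ) (ν : Fˣ) (g : SL(2, F)) :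
    indS α (conjNu ν g) = indS α g := by
  rw [indS_eq, indS_eq, toGL_conjNu, CharInduced.isClassFunction_ind]

theorem isIrr_conjNu {χ : SL(2, F) → ℂ} (h : IsIrrCharacter SL(2, F) χ) (ν : Fˣ) :
    IsIrrCharacter SL(2, F) (fun g => χ (conjNu ν g)) :=
  CharBasic.isIrrCharacter_comap (conjNu ν).toMonoidHom (conjNu ν).surjective h

theorem rowS_conjNu (χ : SL(2, F) → ℂ) (ν : Fˣ) :
    rowS (fun g => χ (conjNu ν g)) 1 = rowS χ 1 := by
  simp only [rowS_one_eq, conjNu_u]
  exact Fintype.sum_equiv ν.mulLeft _ _ fun x => rfl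

/-- The sum of the values at the two transvection classes, for half degree. -/
theorem sum_values (hodd : Odd (Fintype.card F)) {ν : F} (hν : ¬ IsSquare ν) {h : ℕ}
    (hq : Fintype.card F = 2 * h + 1) {χ : SL(2, F) → ℂ} (hχ : IsIrrCharacter SL(2, F) χ) :
    (HasKind χ h 3 → χ (u 1) + χ (u ν) = 1) ∧ (HasKind χ h 5 → χ (u 1) + χ (u ν) = -1) := by
  have hh : (h : ℂ) ≠ 0 := by
    have := Fintype.one_lt_card (α := F)
    exact Nat.cast_ne_zero.2 (by omega)
  have hs := sum_u (classFun_of_irr hχ) hodd hν hq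
  refine ⟨fun ⟨d1, r1⟩ => ?_, fun ⟨d1, r1⟩ => ?_⟩ <;>
    · simp [tbl] at d1 r1
      rw [d1, r1] at hs
      try simp [hq] at hs
      refine mul_left_cancel₀ hh ?_
      linear_combination -hs

theorem ne_conjNu (hodd : Odd (Fintype.card F)) {ν : F} (hν : ¬ IsSquare ν) {h : ℕ}
    (hq : Fintype.card F = 2 * h + 1) {χ : SL(2, F) → ℂ} (hχ : IsIrrCharacter SL(2, F) χ)
    (hk : HasKind χ h 3 ∨ HasKind χ h 5) :
    χ ≠ fun g => χ (conjNu (Units.mk0 ν fun e => hν (e ▸ IsSquare.zero)) g) := by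
  intro e
  have e1 := congrFun e (u 1)
  simp only [conjNu_u, Units.val_mk0, mul_one] at e1
  have hint := CharBasic.isCharacter_integral (CharBasic.isCharacter_of_isIrrCharacter hχ) (u (1 : F))
  rcases hk with hk | hk
  · have hs := (sum_values hodd hν hq hχ).1 hk
    rw [← e1] at hs
    rw [show χ (u 1) = (1 : ℂ) / 2 by linear_combination hs / 2] at hint
    exact not_isIntegral_half hint
  · have hs := (sum_values hodd hν hq hχ).2 hk
    rw [← e1] at hs
    rw [show χ (u 1) = -((1 : ℂ) / 2) by linear_combination hs / 2] at hint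
    exact not_isIntegral_half (by simpa using hint.neg)

theorem hasKind_conjNu {χ : SL(2, F) → ℂ} {h : ℕ} {k : Fin 6} (hk : HasKind χ h k) (ν : Fˣ) :
    HasKind (fun g => χ (conjNu ν g)) h k :=
  ⟨by simp [hk.1], by rw [rowS_conjNu]; exact hk.2⟩

/-- The two characters of a half kind are conjugate. -/
theorem eq_conjNu (hodd : Odd (Fintype.card F)) {ν : F} (hν : ¬ IsSquare ν) {h : ℕ}
    (hq : Fintype.card F = 2 * h + 1) {χ χ' : SL(2, F) → ℂ} (hχ : IsIrrCharacter SL(2, F) χ)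
    (hχ' : IsIrrCharacter SL(2, F) χ') {k : Fin 6} (hk35 : k = 3 ∨ k = 5) (hk : HasKind χ h k)
    (hk' : HasKind χ' h k) (hne : χ ≠ χ') :
    χ' = fun g => χ (conjNu (Units.mk0 ν fun e => hν (e ▸ IsSquare.zero)) g) := by
  classical
  set φ := fun g => χ (conjNu (Units.mk0 ν fun e => hν (e ▸ IsSquare.zero)) g) with hφ
  have hne' : χ ≠ φ := ne_conjNu hodd hν hq hχ
    (by rcases hk35 with rfl | rfl; exacts [Or.inl hk, Or.inr hk])
  by_contra hne''
  have h2 := card_kind hodd hq k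
  rw [show ![1, 1, h - 1, 2, h, 2] k = 2 by rcases hk35 with rfl | rfl <;> rfl,
    Nat.card_eq_fintype_card] at h2
  let f : Fin 3 → {ξ : IrrCharacter SL(2, F) // HasKind (ξ : SL(2, F) → ℂ) h k} :=
    ![⟨⟨χ, hχ⟩, hk⟩, ⟨⟨χ', hχ'⟩, hk'⟩, ⟨⟨φ, isIrr_conjNu hχ _⟩, hasKind_conjNu hk _⟩]
  have hf : Function.Injective f := by
    intro i j e
    have e' := congrArg (fun z => (z.1 : SL(2, F) → ℂ)) e
    fin_cases i <;> fin_cases j <;> simp [f] at e' ⊢ <;>
      first
        | exact hne e' | exact hne e'.symm | exact hne' e' | exact hne' e'.symm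
        | exact hne'' e' | exact hne'' e'.symm
  have := Fintype.card_le_of_injective f hf
  rw [h2, Fintype.card_fin] at this
  omega

/-- A half of the principal series and its conjugate. -/
theorem add_conjNu (hodd : Odd (Fintype.card F)) {ν : F} (hν : ¬ IsSquare ν) {h : ℕ}
    (hq : Fintype.card F = 2 * h + 1) {χ : SL(2, F) → ℂ} (hχ : IsIrrCharacter SL(2, F) χ)
    (hk : HasKind χ h 3) (g : SL(2, F)) :
    χ g + χ (conjNu (Units.mk0 ν fun e => hν (e ▸ IsSquare.zero)) g) = indS (quad F) g := by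
  obtain ⟨χ₁, χ₂, h₁, h₂, hne, he, d₁, d₂, r₁, r₂⟩ := exists_halves hodd hq
  have k₁ : HasKind χ₁ h 3 := ⟨by simp [tbl, d₁], by simp [tbl, r₁]⟩
  have k₂ : HasKind χ₂ h 3 := ⟨by simp [tbl, d₂], by simp [tbl, r₂]⟩
  rw [he, Pi.add_apply]
  by_cases e : χ = χ₁
  · subst e
    rw [eq_conjNu hodd hν hq h₁ h₂ (Or.inl rfl) k₁ k₂ hne]
  · have e1 := eq_conjNu hodd hν hq hχ h₁ (Or.inl rfl) hk k₁ e
    have e2 : χ = χ₂ := by
      by_contra hne2
      exact hne (e1.trans (eq_conjNu hodd hν hq hχ h₂ (Or.inl rfl) hk k₂ hne2).symm)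
    rw [e1, e2, add_comm]

/-- Conjugation does not move the semisimple classes. -/
theorem apply_conjNu_of_tr {χ : SL(2, F) → ℂ} (hc : IsClassFunction SL(2, F) χ) (ν : Fˣ)
    {g : SL(2, F)} (h : tr g ^ 2 ≠ 4) : χ (conjNu ν g) = χ g :=
  (CharBasic.apply_eq_of_isConj hc (isConj_of_tr_eq (tr_conjNu ν g).symm h)).symm

/-- The squared difference of the values at the two transvection classes. -/
theorem sq_diff (hodd : Odd (Fintype.card F)) {ν : F} (hν : ¬ IsSquare ν) {χ : SL(2, F) → ℂ}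
    (hχ : IsIrrCharacter SL(2, F) χ)
    (hn : 2 * χ 1 - (χ (u 1) + χ (u ν)) = (Fintype.card F : ℂ)) :
    (χ (u 1) - χ (u ν)) ^ 2 = quad F (-1) * (Fintype.card F : ℂ) := by
  classical
  have hν0 : ν ≠ 0 := fun e => hν (e ▸ IsSquare.zero)
  have hc := classFun_of_irr hχ
  set ψ := AddChar.FiniteField.primitiveChar_to_Complex F with hψ'
  have hψ : ψ.IsPrimitive := AddChar.FiniteField.primitiveChar_to_Complex_isPrimitive F
  have hmult : ∀ μ : F, ∃ m : ℕ,
      ∑ x : F, χ (u x) * ψ.mulShift μ x = (Fintype.card F : ℂ) * m := by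
    intro μ
    let lam : Multiplicative F →* ℂ := (ψ.mulShift μ)⁻¹.toMonoidHom
    obtain ⟨m, hm⟩ := CharBasicOrth.classInner_isCharacter
      (CharBasic.isCharacter_comap uHom (CharBasic.isCharacter_of_isIrrCharacter hχ))
      (CharBasicDecomp.isCharacter_linear lam.toHomUnits)
    refine ⟨m, ?_⟩
    rw [← hm, classInner, ← mul_assoc, Nat.card_congr Multiplicative.toAdd, Nat.card_eq_fintype_card,
      mul_inv_cancel₀ card_ne, one_mul]
    refine Fintype.sum_equiv Multiplicative.ofAdd _ _ fun x => ?_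
    have h1 : ‖lam (Multiplicative.ofAdd x)‖ = 1 := by
      simpa using CharBasicDecomp.norm_linear lam.toHomUnits (Multiplicative.ofAdd x)
    have h2 : lam (Multiplicative.ofAdd x) * ψ.mulShift μ x = 1 := by
      show (ψ.mulShift μ)⁻¹ x * _ = 1
      rw [AddChar.inv_apply, ← AddChar.map_add_eq_mul, neg_add_cancel, AddChar.map_zero_eq_one]
    have h3 : lam (Multiplicative.ofAdd x) * conj (lam (Multiplicative.ofAdd x)) = 1 := by
      rw [Complex.mul_conj', h1]; norm_num
    have h4 : conj (lam (Multiplicative.ofAdd x)) = ψ.mulShift μ x :=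
      mul_left_cancel₀ (left_ne_zero_of_mul_eq_one h2) (h3.trans h2.symm)
    simp [h4, uHom]
  have hsum : ∀ μ : F, μ ≠ 0 → ∑ x : F, χ (u x) * ψ.mulShift μ x =
      χ 1 - (χ (u 1) + χ (u ν)) / 2 +
        (χ (u 1) - χ (u ν)) / 2 * gaussSum (quad F) (ψ.mulShift μ) := by
    intro μ hμ
    have e : ∀ x : F, χ (u x) * ψ.mulShift μ x =
        (χ (u 1) + χ (u ν)) / 2 * ψ.mulShift μ x +
          (χ (u 1) - χ (u ν)) / 2 * (quad F x * ψ.mulShift μ x) +
          (if x = 0 then χ 1 - (χ (u 1) + χ (u ν)) / 2 else 0) := by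
      intro x
      rcases eq_or_ne x 0 with rfl | hx
      · simp [u_zero, quad_zero]
      · rw [if_neg hx, add_zero, apply_u hc hν hx]; ring
    rw [Finset.sum_congr rfl fun x _ => e x]
    simp only [Finset.sum_add_distrib, ← Finset.mul_sum, Finset.sum_ite_eq', Finset.mem_univ,
      if_true, AddChar.sum_eq_zero_of_ne_one (hψ hμ), gaussSum]
    ring
  obtain ⟨m₁, e₁⟩ := hmult 1
  obtain ⟨m₂, e₂⟩ := hmult ν
  rw [hsum 1 one_ne_zero, AddChar.mulShift_one] at e₁
  rw [hsum ν hν0] at e₂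
  have hg : gaussSum (quad F) (ψ.mulShift ν) = -gaussSum (quad F) ψ := by
    have := gaussSum_mulShift (quad F) ψ (Units.mk0 ν hν0)
    rw [Units.val_mk0, quad_of_not_isSquare hν] at this
    linear_combination -this
  rw [hg] at e₂
  set g := gaussSum (quad F) ψ with hgdef
  have hqne := card_ne (F := F)
  have hm : (m₁ : ℂ) + m₂ = 1 := by
    refine mul_left_cancel₀ hqne ?_
    linear_combination hn - e₁ - e₂
  have hm' : m₁ + m₂ = 1 := by exact_mod_cast hm
  have hsq : ((χ (u 1) - χ (u ν)) * g) ^ 2 = (Fintype.card F : ℂ) ^ 2 := by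
    rcases Nat.eq_zero_or_pos m₁ with h0 | h0
    · rw [show (χ (u 1) - χ (u ν)) * g = -(Fintype.card F : ℂ) by
        rw [h0, Nat.cast_zero] at e₁; linear_combination 2 * e₁ - hn]
      ring
    · rw [show (χ (u 1) - χ (u ν)) * g = (Fintype.card F : ℂ) by
        rw [show m₁ = 1 by omega, Nat.cast_one] at e₁; linear_combination 2 * e₁ - hn]
  have hg2 : g ^ 2 = quad F (-1) * (Fintype.card F : ℂ) :=
    gaussSum_sq (quad_ne_one hodd) ((quadraticChar_isQuadratic F).comp _) hψ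
  have hq1 : quad F (-1) * quad F (-1) = 1 := by
    rw [← map_mul]; simp
  rw [mul_pow, hg2] at hsq
  refine mul_right_cancel₀ hqne ?_
  linear_combination quad F (-1) * hsq - (χ (u 1) - χ (u ν)) ^ 2 * (Fintype.card F : ℂ) * hq1

theorem quad_neg_one (hodd : Odd (Fintype.card F)) :
    quad F (-1) = (-1 : ℂ) ^ ((Fintype.card F - 1) / 2) := by
  have h1 : Fintype.card F % 2 = 1 := Nat.odd_iff.1 hodd
  rw [quad_apply, quadraticChar_neg_one (ringChar_ne_two hodd), ZMod.χ₄_eq_neg_one_pow h1,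
    show Fintype.card F / 2 = (Fintype.card F - 1) / 2 by omega]
  push_cast
  rfl

/-- The value at the transvection of a character of half degree. -/
theorem sq_value (hodd : Odd (Fintype.card F)) {h : ℕ} (hq : Fintype.card F = 2 * h + 1)
    {χ : SL(2, F) → ℂ} (hχ : IsIrrCharacter SL(2, F) χ) :
    (HasKind χ h 3 → (2 * χ (u 1) - 1) ^ 2 = quad F (-1) * (Fintype.card F : ℂ)) ∧
      (HasKind χ h 5 → (2 * χ (u 1) + 1) ^ 2 = quad F (-1) * (Fintype.card F : ℂ)) := by
  obtain ⟨-, ν, hν⟩ := SL2Classes.two_ne_zero_of_odd hodd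
  refine ⟨fun hk => ?_, fun hk => ?_⟩
  · have hs := (sum_values hodd hν hq hχ).1 hk
    rw [← sq_diff hodd hν hχ (by rw [hs, hk.1]; simp [tbl, hq]; ring)]
    linear_combination (χ (u 1) - χ (u ν) + 2 * χ (u 1) - 1) * hs
  · have hs := (sum_values hodd hν hq hχ).2 hk
    rw [← sq_diff hodd hν hχ (by rw [hs, hk.1]; simp [tbl, hq])]
    linear_combination (χ (u 1) - χ (u ν) + 2 * χ (u 1) + 1) * hs

end Cfsg.Agent.SL2Halves
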