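import Mathlib
import Cfsg.Agent.Lib.SL2Halves

/-!
The non-split torus of `SL(2, F)`, `q` odd, and the virtual characters giving the discrete series.
-/

set_option autoImplicit false
set_option linter.unusedSectionVars false

namespace Cfsg.Agent.SL2TorusChars

open Cfsg Cfsg.Agent.GL2Borel Cfsg.Agent.GL2Chars Cfsg.Agent.PSL2Elements Cfsg.Agent.SL2Borel
open Cfsg.Agent.SL2Chars Cfsg.Agent.SL2Odd Cfsg.Agent.SL2Halves Matrix
open scoped MatrixGroups ComplexConjugate

variable {F : Type*} [Field F] [Fintype F]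

theorem u_nsmul (x : F) (n : ℕ) : u x ^ n = u ((n : F) * x) := by
  induction n with
  | zero => simp [u_zero]
  | succ n ih => rw [pow_succ, ih, u_mul]; push_cast; ring_nf

theorem centralizer_neg (g : SL(2, F)) :
    Subgroup.centralizer ({-g} : Set SL(2, F)) = Subgroup.centralizer ({g} : Set SL(2, F)) := by
  ext x
  simp [Subgroup.mem_centralizer_singleton_iff]

section Torus

variable {C : Subgroup SL(2, F)} (hC : IsCyclic C)
  (hcard : Nat.card C = Fintype.card F + 1) (hodd : Odd (Fintype.card F))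

include hcard in
theorem pow_eq_one {c : SL(2, F)} (hc : c ∈ C) : c ^ (Fintype.card F + 1) = 1 := by
  rw [← hcard]
  exact congrArg Subtype.val (pow_card_eq_one' (x := (⟨c, hc⟩ : C)))

include hC in
theorem comm {c x : SL(2, F)} (hc : c ∈ C) (hx : x ∈ C) : c * x = x * c := by
  have := congrArg Subtype.val (IsCyclic.isMulCommutative.is_comm.comm (⟨c, hc⟩ : C) ⟨x, hx⟩)
  simpa using this

include hcard hodd in
theorem no_root_of_mem {c : SL(2, F)} (hc : c ∈ C) (hz : c ∉ Subgroup.center SL(2, F)) :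
    ∀ r : F, r ^ 2 - tr c * r + 1 ≠ 0 := by
  have hq0 : ((Fintype.card F : ℕ) : F) = 0 := FiniteField.cast_card_eq_zero F
  have hpow := pow_eq_one hcard hc
  rcases trichotomy c with ⟨x, hx⟩ | ⟨a, ha, hx⟩ | hns
  · exfalso
    have key : ∀ y : SL(2, F), IsConj c y → y ^ (Fintype.card F + 1) = 1 := fun y hy => by
      obtain ⟨g, rfl⟩ := isConj_iff.1 hy
      rw [conj_pow, hpow, mul_one, mul_inv_cancel]
    have hx0 : x = 0 := by
      have h' : u x ^ (Fintype.card F + 1) = 1 := by
        rcases hx with hx | hx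
        · exact key _ hx
        · have := key _ hx
          rwa [Even.neg_pow (hodd.add_one)] at this
      rw [u_nsmul, Nat.cast_add, Nat.cast_one, hq0, zero_add, one_mul] at h'
      exact u_injective (h'.trans u_zero.symm)
    subst hx0
    rw [u_zero] at hx
    refine hz ((mem_center_iff c).2 ?_)
    rcases hx with hx | hx
    · exact Or.inl (SL2Classes.eq_one_of_isConj hx)
    · refine Or.inr (neg_eq_iff_eq_neg.1 (SL2Classes.eq_one_of_isConj ?_))
      have := SL2Classes.isConj_neg_iff.2 hx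
      rwa [neg_neg] at this
  · exfalso
    obtain ⟨g, hg⟩ := isConj_iff.1 hx
    have h1 : d a ^ (Fintype.card F + 1) = 1 := by
      rw [← hg, conj_pow, hpow, mul_one, mul_inv_cancel]
    have h2 : dHom (a ^ (Fintype.card F + 1)) = 1 := by rw [map_pow]; exact h1
    have h3 := congrArg Units.val (dHom_injective (h2.trans (map_one _).symm))
    rw [Units.val_pow_eq_pow_val, Units.val_one,
      show Fintype.card F + 1 = (Fintype.card F - 1) + 2 by
        have := Fintype.card_pos (α := F); omega,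
      pow_add, FiniteField.pow_card_sub_one_eq_one _ a.ne_zero, one_mul] at h3
    exact ha h3
  · exact hns

include hC hcard hodd in
theorem centralizer_eq {c : SL(2, F)} (hc : c ∈ C) (hz : c ∉ Subgroup.center SL(2, F)) :
    Subgroup.centralizer ({c} : Set SL(2, F)) = C := by
  symm
  refine Subgroup.eq_of_le_of_card_ge
    (fun x hx => Subgroup.mem_centralizer_singleton_iff.2 (comm hC hx hc)) (le_of_eq ?_)
  rw [(centralizer_nonsplit (no_root_of_mem hcard hodd hc hz)).2, hcard, Nat.card_eq_fintype_card]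

include hC hcard hodd in
theorem neg_one_mem : (-1 : SL(2, F)) ∈ C := by
  have : Fact (Nat.Prime 2) := ⟨Nat.prime_two⟩
  obtain ⟨x, hx⟩ := exists_prime_orderOf_dvd_card' (G := C) 2
    (by rw [hcard]; exact hodd.add_one.two_dvd)
  have h2 : (2 : F) ≠ 0 := (SL2Classes.two_ne_zero_of_odd hodd).1
  have h : (x : SL(2, F)) ^ 2 = 1 := by
    have := pow_orderOf_eq_one x
    rw [hx] at this
    simpa using congrArg Subtype.val this
  rcases eq_one_or_neg_one_of_sq_eq_one h2 h with e | e
  · exfalso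
    rw [show x = 1 from Subtype.ext e, orderOf_one] at hx
    omega
  · exact e ▸ x.2

/-- An element of the torus not in the centre is not its own inverse. -/
theorem ne_inv (hodd : Odd (Fintype.card F)) {c : SL(2, F)}
    (hz : c ∉ Subgroup.center SL(2, F)) : c⁻¹ ≠ c := fun e => hz ((mem_center_iff c).2
  (eq_one_or_neg_one_of_sq_eq_one (SL2Classes.two_ne_zero_of_odd hodd).1 (by
    rw [sq]; nth_rewrite 1 [← e]; exact inv_mul_cancel c)))

include hC hcard hodd in
/-- Conjugates of a torus element inside the torus. -/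
theorem eq_or_eq_inv {c c' : SL(2, F)} (hc : c ∈ C) (hz : c ∉ Subgroup.center SL(2, F))
    (hc' : c' ∈ C) (ht : tr c' = tr c) : c' = c ∨ c' = c⁻¹ := by
  have hno := no_root_of_mem hcard hodd hc hz
  have hcm : c'.1 * c.1 = c.1 * c'.1 := congrArg Subtype.val (comm hC hc' hc)
  by_contra hne
  push Not at hne
  obtain ⟨x, y, hxy⟩ := exists_eq_of_commute hz hcm
  have hdet : (c'.1 - c.1).det ≠ 0 := by
    have hd : (c'.1 - c.1).det = x ^ 2 + tr c * x * (y - 1) + (y - 1) ^ 2 := by
      rw [hxy, Matrix.det_fin_two]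
      simp [tr]
      linear_combination (y - 1) ^ 2 * det_eq c
    rw [hd]
    intro h0
    by_cases hy : y - 1 = 0
    · rw [hy] at h0
      have hx : x = 0 := by simpa using h0
      refine hne.1 (Subtype.ext ?_)
      rw [hxy, hx, sub_eq_zero.1 hy, zero_smul, one_smul, zero_add]
    · refine hno (-x / (y - 1)) ?_
      field_simp
      linear_combination h0
  have hinv : (c⁻¹).1 = tr c • (1 : Matrix (Fin 2) (Fin 2) F) - c.1 := by
    obtain ⟨e00, e01, e10, e11⟩ := inv_apply c
    ext i j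
    fin_cases i <;> fin_cases j <;> simp [e00, e01, e10, e11, tr]
  have hprod : (c'.1 - c.1) * (c'.1 - (c⁻¹).1) = 0 := by
    have h1 := sq_eq c'
    rw [ht] at h1
    rw [hinv, sub_mul, mul_sub, mul_sub, mul_sub, mul_sub, mul_smul_comm, mul_smul_comm, mul_one,
      mul_one, h1, sq_eq c, hcm]
    abel
  refine hne.2 (Subtype.ext (sub_eq_zero.1 ?_))
  exact ((Matrix.isUnit_iff_isUnit_det _).2 hdet.isUnit).mul_right_eq_zero.1 hprod

include hC hcard hodd in
/-- Elements of trace `±2` outside the centre, and split elements, miss the torus. -/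
theorem not_conj_mem {g : SL(2, F)} (hz : g ∉ Subgroup.center SL(2, F))
    (hr : ∃ r : F, r ^ 2 - tr g * r + 1 = 0) (x : SL(2, F)) : x⁻¹ * g * x ∉ C := by
  intro hx
  obtain ⟨r, hr⟩ := hr
  by_cases h : x⁻¹ * g * x ∈ Subgroup.center SL(2, F)
  · refine hz ?_
    have e : g = x * (x⁻¹ * g * x) * x⁻¹ := by group
    rw [e, Subgroup.mem_center_iff.1 h x, mul_inv_cancel_right]
    exact h
  · refine no_root_of_mem hcard hodd hx h r ?_
    have : tr (x⁻¹ * g * x) = tr g := by simpa using tr_conj x⁻¹ g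
    rw [this]; exact hr

variable [DecidableEq F]

/-- The induced linear character of the torus. -/
noncomputable def indT (θ : C →* ℂˣ) : SL(2, F) → ℂ := indFun C (fun c => (θ c : ℂ))

theorem isCharacter_indT (θ : C →* ℂˣ) : IsCharacter SL(2, F) (indT θ) :=
  CharInduced.isCharacter_ind _ (CharBasicDecomp.isCharacter_linear θ)

include hC hcard hodd in
theorem indT_eq_zero (θ : C →* ℂˣ) {g : SL(2, F)} (hz : g ∉ Subgroup.center SL(2, F))
    (hr : ∃ r : F, r ^ 2 - tr g * r + 1 = 0) : indT θ g = 0 :=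
  CharInduced.ind_eq_zero_of_not_conj _ _ _ (not_conj_mem hC hcard hodd hz hr)

include hcard in
theorem indT_center (θ : C →* ℂˣ) {c : C} (hc : (c : SL(2, F)) ∈ Subgroup.center SL(2, F)) :
    indT θ c = (Fintype.card F : ℂ) * ((Fintype.card F : ℂ) - 1) * θ c := by
  have h : ∀ x : SL(2, F), x⁻¹ * (c : SL(2, F)) * x = c := fun x => by
    rw [mul_assoc, ← Subgroup.mem_center_iff.1 hc x, inv_mul_cancel_left]
  rw [indT, CharInduced.indFun_apply]
  simp only [h, CharInduced.ext_zero_coe, Finset.sum_const, Finset.card_univ, nsmul_eq_mul]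
  rw [← Nat.card_eq_fintype_card, PSLCard.card_SL2, hcard, Nat.card_eq_fintype_card]
  have hq : ((Fintype.card F + 1 : ℕ) : ℂ) ≠ 0 := Nat.cast_ne_zero.2 (by omega)
  rw [Nat.cast_mul, Nat.cast_sub (Nat.one_le_pow _ _ Fintype.card_pos)]
  push_cast at hq ⊢
  field_simp
  ring

include hC hcard hodd in
theorem indT_noncentral (θ : C →* ℂˣ) {c : C} (hz : (c : SL(2, F)) ∉ Subgroup.center SL(2, F)) :
    indT θ c = (θ c : ℂ) + ((θ c)⁻¹ : ℂˣ) := by
  classical
  have hno := no_root_of_mem hcard hodd c.2 hz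
  have hne := ne_inv hodd hz
  obtain ⟨w, hw⟩ := isConj_iff.1 (isConj_inv (tr_sq_ne_four hno))
  have key : ∀ x : SL(2, F), extendByZero C (fun c => (θ c : ℂ)) (x⁻¹ * (c : SL(2, F)) * x) =
      (if x⁻¹ * (c : SL(2, F)) * x = c then (θ c : ℂ) else 0) +
        (if x⁻¹ * (c : SL(2, F)) * x = ((c⁻¹ : C) : SL(2, F)) then (((θ c)⁻¹ : ℂˣ) : ℂ) else (0 : ℂ)) := by
    intro x
    by_cases hx : x⁻¹ * (c : SL(2, F)) * x ∈ C
    · rcases eq_or_eq_inv hC hcard hodd c.2 hz hx (by simpa using tr_conj x⁻¹ (c : SL(2, F))) with e | e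
      · rw [e, if_pos rfl, if_neg, add_zero, CharInduced.ext_zero_coe]
        simpa using hne.symm
      · rw [e, ← Subgroup.coe_inv, if_neg, if_pos rfl, zero_add, CharInduced.ext_zero_coe, map_inv]
        simpa using hne
    · rw [CharInduced.ext_zero_of_not_mem _ hx, if_neg, if_neg, add_zero]
      · exact fun e => hx (by rw [e]; exact (c⁻¹).2)
      · exact fun e => hx (by rw [e]; exact c.2)
  have hfix : ∑ x : SL(2, F), (if x⁻¹ * (c : SL(2, F)) * x = c then (1 : ℂ) else 0) =
      (Fintype.card F : ℂ) + 1 := by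
    rw [Finset.sum_boole]
    have : (Finset.univ.filter fun x : SL(2, F) => x⁻¹ * (c : SL(2, F)) * x = c).card =
        Nat.card (Subgroup.centralizer ({(c : SL(2, F))} : Set SL(2, F))) := by
      refine (Nat.subtype_card _ fun x => ?_).symm
      rw [Finset.mem_filter, Subgroup.mem_centralizer_singleton_iff, mul_assoc,
        inv_mul_eq_iff_eq_mul]
      simp [eq_comm]
    rw [this, centralizer_eq hC hcard hodd c.2 hz, hcard]
    push_cast; rfl
  have hflip : ∑ x : SL(2, F), (if x⁻¹ * (c : SL(2, F)) * x = ((c⁻¹ : C) : SL(2, F))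
      then (1 : ℂ) else 0) = (Fintype.card F : ℂ) + 1 := by
    rw [← hfix]
    refine Fintype.sum_equiv (Equiv.mulRight w) _ _ fun x => ?_
    have e : (x * w)⁻¹ * (c : SL(2, F)) * (x * w) = w⁻¹ * (x⁻¹ * c * x) * w := by group
    have e2 : w⁻¹ * ((c : SL(2, F)))⁻¹ * w = c := by rw [← hw]; group
    simp only [Equiv.coe_mulRight, e, Subgroup.coe_inv]
    refine if_congr ⟨fun h => by rw [h, e2], fun h => ?_⟩ rfl rfl
    have := congrArg (fun z => w * z * w⁻¹) h
    simp only [hw] at this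
    rw [← this]; group
  rw [indT, CharInduced.indFun_apply, Finset.sum_congr rfl fun x _ => key x, Finset.sum_add_distrib]
  have e1 : ∀ (P : SL(2, F) → Prop) [DecidablePred P] (t : ℂ),
      ∑ x, (if P x then t else 0) = (∑ x, if P x then (1 : ℂ) else 0) * t := fun P _ t => by
    rw [Finset.sum_mul]; exact Finset.sum_congr rfl fun x _ => by split_ifs <;> simp
  rw [e1 _ (θ c : ℂ), e1 _ (((θ c)⁻¹ : ℂˣ) : ℂ), hfix, hflip, hcard]
  have : ((Fintype.card F : ℂ) + 1) ≠ 0 := Nat.cast_add_one_ne_zero _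
  push_cast
  field_simp

end Torus

variable [DecidableEq F]

/-- The part of the virtual character coming from the Borel subgroup. -/
noncomputable def borelPart (α : MulChar F ℂ) : SL(2, F) → ℂ :=
  fun g => indS (1 : MulChar F ℂ) g * indS α g - 2 * indS α g

theorem borelPart_elliptic (α : MulChar F ℂ) {g : SL(2, F)}
    (h : ∀ r : F, r ^ 2 - tr g * r + 1 ≠ 0) : borelPart α g = 0 := by
  have h0 : indS α g = 0 := by
    refine indS_elliptic α g fun c v hv e => h c ?_
    have hdet : (g.1 - c • 1).det = 0 :=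
      Matrix.exists_mulVec_eq_zero_iff.1 ⟨v, hv, by
        rw [Matrix.sub_mulVec, Matrix.smul_mulVec, Matrix.one_mulVec, e, sub_self]⟩
    rw [Matrix.det_fin_two] at hdet
    simp [tr] at hdet ⊢
    linear_combination hdet - det_eq g
  simp [borelPart, h0]

theorem neg_u (x : F) : -u x = (sbor (-1) (-x) : SL(2, F)) := by
  apply ext2 <;> simp [sbor, u]

theorem indS_neg_u (α : MulChar F ℂ) {x : F} (hx : x ≠ 0) : indS α (-u x) = α (-1) := by
  rw [neg_u, indS_sbor]
  simp [hx]

theorem indS_neg_one (α : MulChar F ℂ) :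
    indS α (-1) = α (-1) * ((Fintype.card F : ℂ) + 1) := by
  have : (-1 : SL(2, F)) = (sbor (-1 : Fˣ) (0 : F) : SL(2, F)) := by apply ext2 <;> simp [sbor]
  rw [this, indS_sbor]
  simp [inv_neg]
  ring

theorem one_neg_one : (1 : MulChar F ℂ) (-1) = 1 := one_apply_of_ne (neg_ne_zero.2 one_ne_zero)

theorem borelPart_values (α : MulChar F ℂ) :
    borelPart α 1 = (Fintype.card F : ℂ) ^ 2 - 1 ∧
    borelPart α (-1) = α (-1) * ((Fintype.card F : ℂ) ^ 2 - 1) ∧
    (∀ x : F, x ≠ 0 → borelPart α (u x) = -1 ∧ borelPart α (-u x) = -α (-1)) := by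
  refine ⟨?_, ?_, fun x hx => ⟨?_, ?_⟩⟩
  · simp [borelPart, indS_one]; ring
  · simp [borelPart, indS_neg_one, one_neg_one]; ring
  · simp [borelPart, indS_u _ hx]; norm_num
  · simp [borelPart, indS_neg_u _ hx, one_neg_one]; ring

theorem borelPart_d (α : MulChar F ℂ) {a : Fˣ} (ha : (a : F) ^ 2 ≠ 1) :
    borelPart α (d a) = 0 := by
  simp [borelPart, indS_d _ ha, one_apply_of_ne a.ne_zero,
    one_apply_of_ne (inv_ne_zero a.ne_zero)]
  ring

theorem alpha_neg_one_sq (α : MulChar F ℂ) : α (-1) * α (-1) = 1 := by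
  rw [← map_mul]; simp

theorem conj_alpha_neg_one (α : MulChar F ℂ) : conj (α (-1)) = α (-1) := by
  rcases mul_self_eq_one_iff.1 (alpha_neg_one_sq α) with e | e <;> simp [e]

/-- Sum of a class function supported on the elements of trace `±2`. -/
theorem sum_of_vanish (hodd : Odd (Fintype.card F)) {ν : F} (hν : ¬ IsSquare ν)
    {f : SL(2, F) → ℂ} (hf : IsClassFunction SL(2, F) f)
    (hv : ∀ g : SL(2, F), tr g ^ 2 ≠ 4 → f g = 0) :
    ∑ g, f g = f 1 + f (-1) +
      ((Fintype.card F : ℂ) ^ 2 - 1) / 2 * (f (u 1) + f (u ν) + f (-u 1) + f (-u ν)) := by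
  classical
  have h2 : (2 : F) ≠ 0 := (SL2Classes.two_ne_zero_of_odd hodd).1
  have := Fintype.ofFinite (ConjClasses SL(2, F))
  let e := Equiv.ofBijective _ (SL2Classes.repOdd_bijective (F := F) h2 hν)
  have hfib : ∀ A : SL(2, F), ∑ g ∈ Finset.univ.filter (fun g => ConjClasses.mk g = ConjClasses.mk A),
      f g = (Nat.card (ConjClasses.mk A).carrier : ℂ) * f A := by
    intro A
    rw [Finset.sum_congr rfl fun g hg => CharBasic.apply_eq_of_isConj hf
      (ConjClasses.mk_eq_mk_iff_isConj.1 (Finset.mem_filter.1 hg).2), Finset.sum_const,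
      nsmul_eq_mul]
    congr 2
    refine (Nat.subtype_card (p := fun x => x ∈ (ConjClasses.mk A).carrier) _ fun x => ?_).symm
    simp [ConjClasses.mem_carrier_iff_mk_eq]
  have hcls : ∀ x : F, x ≠ 0 →
      (Nat.card (ConjClasses.mk (u x)).carrier : ℂ) = ((Fintype.card F : ℂ) ^ 2 - 1) / 2 := by
    intro x hx
    have h := SL2Classes.card_class_u_odd hx h2
    rw [Nat.card_eq_fintype_card (α := F)] at h
    have h' : ((2 * Nat.card (ConjClasses.mk (u x)).carrier : ℕ) : ℂ) =
        ((Fintype.card F ^ 2 - 1 : ℕ) : ℂ) := congrArg Nat.cast h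
    rw [Nat.cast_sub (Nat.one_le_pow _ _ Fintype.card_pos)] at h'
    push_cast at h'
    linear_combination h' / 2
  have hnegc : ∀ x : SL(2, F), (Nat.card (ConjClasses.mk (-x)).carrier : ℂ) =
      (Nat.card (ConjClasses.mk x).carrier : ℂ) := by
    intro x
    have e1 := SL2Classes.card_carrier_mul (-x)
    rw [centralizer_neg, ← SL2Classes.card_carrier_mul x] at e1
    rw [Nat.eq_of_mul_eq_mul_right Nat.card_pos e1]
  have hone : (Nat.card (ConjClasses.mk (1 : SL(2, F))).carrier : ℂ) = 1 := by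
    have : (ConjClasses.mk (1 : SL(2, F))).carrier = {1} := by
      ext x
      rw [ConjClasses.mem_carrier_iff_mk_eq, ConjClasses.mk_eq_mk_iff_isConj, Set.mem_singleton_iff]
      exact ⟨SL2Classes.eq_one_of_isConj, fun e => e ▸ IsConj.refl _⟩
    rw [this]; simp
  rw [← Finset.sum_fiberwise Finset.univ ConjClasses.mk f, ← e.sum_comp, Fintype.sum_sum_type]
  have hl : ∀ t, ∑ g ∈ Finset.univ.filter (fun g => ConjClasses.mk g = e (Sum.inl t)), f g = 0 := by
    intro t
    refine (hfib (comp t.1)).trans ?_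
    rw [hv _ (by rw [tr_comp]; exact t.2), mul_zero]
  simp only [hl, Finset.sum_const_zero, zero_add]
  have hr : ∀ z, ∑ g ∈ Finset.univ.filter (fun g => ConjClasses.mk g = e (Sum.inr z)), f g =
      (Nat.card (ConjClasses.mk (SL2Classes.repOdd ν (Sum.inr z))).carrier : ℂ) *
        f (SL2Classes.repOdd ν (Sum.inr z)) := fun z => hfib _
  simp only [hr, Fintype.sum_prod_type, Fin.sum_univ_two, Fin.sum_univ_three]
  have hν0 : ν ≠ 0 := fun h => hν (h ▸ IsSquare.zero)
  simp only [Nat.card_coe_set_eq] at hcls hnegc hone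
  simp [SL2Classes.repOdd, hnegc, hone, hcls _ hν0, hcls _ one_ne_zero]
  ring

theorem isClassFunction_borelPart (α : MulChar F ℂ) :
    IsClassFunction SL(2, F) (borelPart α) := fun g h => by
  simp only [borelPart, isClassFunction_indS (1 : MulChar F ℂ) g h, isClassFunction_indS α g h]

theorem borelPart_vanish (α : MulChar F ℂ) (g : SL(2, F)) (h : tr g ^ 2 ≠ 4) :
    borelPart α g = 0 := by
  rcases trichotomy g with ⟨x, hx⟩ | ⟨a, ha, hx⟩ | hns
  · exfalso
    apply h
    rcases hx with hx | hx <;> rw [tr_eq_of_isConj hx] <;> simp [tr_neg] <;> norm_num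
  · rw [CharBasic.apply_eq_of_isConj (isClassFunction_borelPart α) hx, borelPart_d α ha]
  · exact borelPart_elliptic α hns

theorem inner_borelPart (hodd : Odd (Fintype.card F)) (α : MulChar F ℂ) :
    classInner (borelPart α) (borelPart α) = 2 * (Fintype.card F : ℂ) := by
  obtain ⟨-, ν, hν⟩ := SL2Classes.two_ne_zero_of_odd hodd
  have hν0 : ν ≠ 0 := fun h => hν (h ▸ IsSquare.zero)
  rw [classInner, sum_of_vanish hodd hν (f := fun g => borelPart α g * conj (borelPart α g))
    (fun g h => by simp only [isClassFunction_borelPart α g h])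
    (fun g h => by simp [borelPart_vanish α g h])]
  obtain ⟨v1, v2, v3⟩ := borelPart_values α
  simp only [v1, v2, (v3 1 one_ne_zero).1, (v3 1 one_ne_zero).2, (v3 ν hν0).1, (v3 ν hν0).2,
    map_mul, map_neg, map_sub, map_pow, map_one, Complex.conj_natCast, conj_alpha_neg_one]
  rw [PSLCard.card_SL2, Nat.card_eq_fintype_card, Nat.cast_mul,
    Nat.cast_sub (Nat.one_le_pow _ _ Fintype.card_pos)]
  have hq := card_ne (F := F)
  have hq2 : ((Fintype.card F : ℂ) ^ 2 - 1) ≠ 0 := by
    rw [sub_ne_zero]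
    intro e
    have h' : ((Fintype.card F ^ 2 : ℕ) : ℂ) = ((1 : ℕ) : ℂ) := by push_cast; exact e
    have := Fintype.one_lt_card (α := F)
    have h'' := Nat.cast_inj.1 h'
    nlinarith
  push_cast
  field_simp
  linear_combination 2 * ((Fintype.card F : ℂ) ^ 2) * alpha_neg_one_sq α

section Phi

variable {C : Subgroup SL(2, F)} (hC : IsCyclic C)
  (hcard : Nat.card C = Fintype.card F + 1) (hodd : Odd (Fintype.card F))

/-- The virtual character attached to a character of the torus. -/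
noncomputable def phi (α : MulChar F ℂ) (θ : C →* ℂˣ) : SL(2, F) → ℂ := borelPart α - indT θ

/-- `α` and `θ` agree on `-1`. -/
def Agree (α : MulChar F ℂ) (θ : C →* ℂˣ) : Prop :=
  ∀ c : C, (c : SL(2, F)) = -1 → (θ c : ℂ) = α (-1)

theorem isGenChar_phi (α : MulChar F ℂ) (θ : C →* ℂˣ) :
    IsGeneralizedCharacter SL(2, F) (phi α θ) := by
  refine CharBasicDecomp.isGeneralizedCharacter_sub ?_
    (CharBasicDecomp.isGeneralizedCharacter_of_isCharacter (isCharacter_indT θ))
  have e : borelPart α = (fun g => indS (1 : MulChar F ℂ) g * indS α g) - (indS α + indS α) := by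
    funext g; simp [borelPart]; ring
  rw [e]
  exact CharBasicDecomp.isGeneralizedCharacter_sub
    (CharBasicDecomp.isGeneralizedCharacter_of_isCharacter
      (CharBasicDecomp.isCharacter_mul (isCharacter_indS 1) (isCharacter_indS α)))
    (CharBasicDecomp.isGeneralizedCharacter_of_isCharacter
      (CharBasicDecomp.isCharacter_add (isCharacter_indS α) (isCharacter_indS α)))

theorem isClassFunction_phi (α : MulChar F ℂ) (θ : C →* ℂˣ) :
    IsClassFunction SL(2, F) (phi α θ) :=
  CharBasicDecomp.isClassFunction_of_isGeneralizedCharacter (isGenChar_phi α θ)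

include hcard in
theorem phi_one (α : MulChar F ℂ) (θ : C →* ℂˣ) : phi α θ 1 = (Fintype.card F : ℂ) - 1 := by
  have := indT_center hcard θ (c := 1) (Subgroup.one_mem _)
  simp only [Subgroup.coe_one, map_one, Units.val_one, mul_one] at this
  rw [phi, Pi.sub_apply, (borelPart_values α).1, this]
  ring

include hC hcard hodd in
theorem phi_neg_one {α : MulChar F ℂ} {θ : C →* ℂˣ} (hag : Agree α θ) :
    phi α θ (-1) = α (-1) * ((Fintype.card F : ℂ) - 1) := by
  have hm := neg_one_mem hC hcard hodd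
  have := indT_center hcard θ (c := ⟨-1, hm⟩) ((mem_center_iff _).2 (Or.inr rfl))
  rw [hag _ rfl] at this
  rw [phi, Pi.sub_apply, (borelPart_values α).2.1, this]
  ring

include hC hcard hodd in
theorem phi_noncentral (α : MulChar F ℂ) (θ : C →* ℂˣ) {c : C}
    (hz : (c : SL(2, F)) ∉ Subgroup.center SL(2, F)) :
    phi α θ c = -((θ c : ℂ) + ((θ c)⁻¹ : ℂˣ)) := by
  rw [phi, Pi.sub_apply, borelPart_elliptic α (no_root_of_mem hcard hodd c.2 hz),
    indT_noncentral hC hcard hodd θ hz, zero_sub]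

include hC hcard hodd in
theorem phi_u (α : MulChar F ℂ) (θ : C →* ℂˣ) {x : F} (hx : x ≠ 0) :
    phi α θ (u x) = -1 ∧ phi α θ (-u x) = -α (-1) := by
  have h2 : (2 : F) ≠ 0 := (SL2Classes.two_ne_zero_of_odd hodd).1
  have hz1 : u x ∉ Subgroup.center SL(2, F) := by
    rw [mem_center_iff_entries]; simp [u, hx]
  have hz2 : -u x ∉ Subgroup.center SL(2, F) := by
    rw [mem_center_iff_entries]; simp [u, hx, coe_neg']
  rw [phi, Pi.sub_apply, Pi.sub_apply, indT_eq_zero hC hcard hodd θ hz1 ⟨1, by simp; ring⟩,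
    indT_eq_zero hC hcard hodd θ hz2 ⟨-1, by simp [tr_neg]; ring⟩]
  obtain ⟨-, -, v3⟩ := borelPart_values α
  simp [v3 x hx]

include hC hcard hodd in
theorem phi_d (α : MulChar F ℂ) (θ : C →* ℂˣ) {a : Fˣ} (ha : (a : F) ^ 2 ≠ 1) :
    phi α θ (d a) = 0 := by
  have hz : d a ∉ Subgroup.center SL(2, F) := by
    rw [mem_center_iff_entries]
    simp [d]
    intro e
    apply ha
    field_simp at e
    exact e
  rw [phi, Pi.sub_apply, borelPart_d α ha, indT_eq_zero hC hcard hodd θ hz ⟨a, by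
    simp; field_simp; ring⟩, sub_zero]

include hC hcard hodd in
/-- Sums over the torus, split into centre and the rest. -/
theorem sum_torus [Fintype C] (f : C → ℂ) (g : C → ℂ)
    (hfg : ∀ c : C, (c : SL(2, F)) ∉ Subgroup.center SL(2, F) → f c = g c) :
    ∑ c, f c = ∑ c, g c + (f 1 - g 1) +
      (f ⟨-1, neg_one_mem hC hcard hodd⟩ - g ⟨-1, neg_one_mem hC hcard hodd⟩) := by
  classical
  set m : C := ⟨-1, neg_one_mem hC hcard hodd⟩ with hm
  have hne : (1 : C) ≠ m := fun e => SL2Classes.neg_one_ne_one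
    (SL2Classes.two_ne_zero_of_odd hodd).1 (congrArg Subtype.val e).symm
  have h0 : ∑ c, (f c - g c) = (f 1 - g 1) + (f m - g m) := by
    rw [← Finset.sum_pair hne (f := fun c => f c - g c)]
    refine (Finset.sum_subset (Finset.subset_univ _) fun c _ hc => ?_).symm
    simp only [Finset.mem_insert, Finset.mem_singleton, not_or] at hc
    rw [hfg c ?_, sub_self]
    rw [not_mem_center_iff]
    exact ⟨fun e => hc.1 (Subtype.ext e), fun e => hc.2 (Subtype.ext e)⟩
  rw [Finset.sum_sub_distrib] at h0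
  linear_combination h0

theorem theta_mul_conj [Finite C] (θ : C →* ℂˣ) (c : C) : (θ c : ℂ) * conj (θ c : ℂ) = 1 := by
  rw [Complex.mul_conj', CharBasicDecomp.norm_linear]; norm_num

include hC hcard hodd in
theorem inner_borelPart_indT {α : MulChar F ℂ} {θ : C →* ℂˣ} (hag : Agree α θ) :
    classInner (borelPart α) (indT θ) = 2 * ((Fintype.card F : ℂ) - 1) := by
  classical
  rw [indT, CharInduced.inner_ind_right _ _ (isClassFunction_borelPart α), classInner, hcard,
    sum_torus hC hcard hodd _ (fun _ => 0) (fun c hz => by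
      simp [borelPart_elliptic α (no_root_of_mem hcard hodd c.2 hz)])]
  have hq : ((Fintype.card F : ℂ) + 1) ≠ 0 := Nat.cast_add_one_ne_zero _
  obtain ⟨v1, v2, -⟩ := borelPart_values α
  have hm := hag ⟨-1, neg_one_mem hC hcard hodd⟩ rfl
  simp only [Finset.sum_const_zero, Subgroup.coe_one, map_one, Units.val_one, v1, v2, hm,
    conj_alpha_neg_one]
  push_cast
  field_simp
  linear_combination ((Fintype.card F : ℂ) ^ 2 - 1) * alpha_neg_one_sq α

include hC hcard hodd in
theorem inner_indT [Fintype C] {α : MulChar F ℂ} {θ : C →* ℂˣ} (hag : Agree α θ) :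
    classInner (indT θ) (indT θ) =
      2 * (Fintype.card F : ℂ) - 3 +
        (∑ c : C, conj ((θ c : ℂ) ^ 2)) / ((Fintype.card F : ℂ) + 1) := by
  classical
  have hcl : IsClassFunction SL(2, F) (indT θ) :=
    CharBasic.isClassFunction_of_isCharacter (isCharacter_indT θ)
  have hind : classInner (indT θ) (indT θ) = classInner (fun c : C => indT θ c)
      (fun c : C => (θ c : ℂ)) := by
    conv_lhs => arg 2; rw [indT]
    rw [CharInduced.inner_ind_right _ _ hcl]
  have hm := hag ⟨-1, neg_one_mem hC hcard hodd⟩ rfl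
  rw [hind, classInner, hcard,
    sum_torus hC hcard hodd _ (fun c => 1 + conj ((θ c : ℂ) ^ 2)) (fun c hz => by
      rw [indT_noncentral hC hcard hodd θ hz, add_mul, theta_mul_conj, Units.val_inv_eq_inv_val,
        inv_eq_of_mul_eq_one_right (theta_mul_conj θ c), map_pow, sq]),
    indT_center hcard θ (c := 1) (Subgroup.one_mem _),
    indT_center hcard θ (c := ⟨-1, neg_one_mem hC hcard hodd⟩) ((mem_center_iff _).2 (Or.inr rfl))]
  have hc : Fintype.card C = Fintype.card F + 1 := by rw [← Nat.card_eq_fintype_card, hcard]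
  have hq : ((Fintype.card F : ℂ) + 1) ≠ 0 := Nat.cast_add_one_ne_zero _
  simp only [map_one, Units.val_one, hm, map_pow, conj_alpha_neg_one, Finset.sum_add_distrib,
    Finset.sum_const, Finset.card_univ, hc, nsmul_eq_mul]
  push_cast
  field_simp
  linear_combination ((Fintype.card F : ℂ) * ((Fintype.card F : ℂ) - 1) - 1) * alpha_neg_one_sq α

include hC hcard hodd in
theorem inner_phi [Fintype C] {α : MulChar F ℂ} {θ : C →* ℂˣ} (hag : Agree α θ) :
    classInner (phi α θ) (phi α θ) =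
      1 + (∑ c : C, conj ((θ c : ℂ) ^ 2)) / ((Fintype.card F : ℂ) + 1) := by
  have h1 := inner_borelPart_indT hC hcard hodd hag
  have h2 : classInner (indT θ) (borelPart α) = 2 * ((Fintype.card F : ℂ) - 1) := by
    rw [← CharInduced.inner_conj_symm, h1]
    simp [map_ofNat]
  rw [phi, CharBasicOrth.classInner_sub_left, CharBasicOrth.classInner_sub_right,
    CharBasicOrth.classInner_sub_right, inner_borelPart hodd α, h1, h2,
    inner_indT hC hcard hodd hag]
  ring

include hC hcard hodd in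
theorem rowS_phi {α : MulChar F ℂ} {θ : C →* ℂˣ} (hag : Agree α θ) (a : Fˣ) :
    rowS (phi α θ) a = 0 := by
  by_cases ha : (a : F) ^ 2 = 1
  · have hcase : a = 1 ∨ a = -1 := by
      rcases mul_self_eq_one_iff.1 ((sq (a : F)).symm.trans ha) with e | e
      · exact Or.inl (Units.ext e)
      · exact Or.inr (Units.ext (by simpa using e))
    rcases hcase with rfl | rfl
    · rw [rowS_one_eq, ← Finset.add_sum_erase _ _ (Finset.mem_univ (0 : F)),
        Finset.sum_congr rfl fun x hx => (phi_u hC hcard hodd α θ (Finset.ne_of_mem_erase hx)).1,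
        u_zero, phi_one hcard, Finset.sum_const, Finset.card_erase_of_mem (Finset.mem_univ _),
        Finset.card_univ, nsmul_eq_mul, Nat.cast_sub Fintype.card_pos]
      ring
    · have e : ∀ x : F, (sbor (-1) x : SL(2, F)) = -u (-x) := fun x => by rw [neg_u, neg_neg]
      simp only [rowS, e]
      rw [← Finset.add_sum_erase _ _ (Finset.mem_univ (0 : F)),
        Finset.sum_congr rfl fun x hx =>
          (phi_u hC hcard hodd α θ (neg_ne_zero.2 (Finset.ne_of_mem_erase hx))).2,
        neg_zero, u_zero, phi_neg_one hC hcard hodd hag, Finset.sum_const,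
        Finset.card_erase_of_mem (Finset.mem_univ _), Finset.card_univ, nsmul_eq_mul,
        Nat.cast_sub Fintype.card_pos]
      ring
  · rw [rowS_of_ne (isClassFunction_phi α θ) ha, phi_d hC hcard hodd α θ ha, mul_zero]

include hC hcard hodd in
theorem phi_orth {α : MulChar F ℂ} {θ : C →* ℂˣ} (hag : Agree α θ) (γ : MulChar F ℂ) :
    classInner (phi α θ) (indS γ) = 0 := by
  rw [inner_indS_eq _ (isClassFunction_phi α θ)]
  simp [rowS_phi hC hcard hodd hag]

include hC hcard hodd in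
theorem exists_agree (θ : C →* ℂˣ) : ∃ α : MulChar F ℂ, Agree α θ := by
  set m : C := ⟨-1, neg_one_mem hC hcard hodd⟩ with hm
  have hsq : (θ m : ℂ) * θ m = 1 := by
    rw [← Units.val_mul, ← map_mul, show m * m = 1 from Subtype.ext (by simp [hm]), map_one,
      Units.val_one]
  rcases mul_self_eq_one_iff.1 hsq with e | e
  · refine ⟨1, fun c hc => ?_⟩
    rw [show c = m from Subtype.ext hc, e, one_neg_one]
  · have hne : (-1 : F) ≠ 1 := fun h => (SL2Classes.two_ne_zero_of_odd hodd).1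
      (by linear_combination -h)
    obtain ⟨α, hα⟩ := MulChar.exists_apply_ne_one_of_hasEnoughRootsOfUnity F ℂ hne
    refine ⟨α, fun c hc => ?_⟩
    rw [show c = m from Subtype.ext hc, e,
      (mul_self_eq_one_iff.1 (alpha_neg_one_sq α)).resolve_left hα]

theorem sum_sq_eq_zero [Fintype C] {θ : C →* ℂˣ} (h : ∃ c : C, θ c ^ 2 ≠ 1) :
    ∑ c : C, conj ((θ c : ℂ) ^ 2) = 0 := by
  obtain ⟨c₀, hc⟩ := h
  have h1 : (θ c₀ : ℂ) ^ 2 * ∑ c : C, (θ c : ℂ) ^ 2 = ∑ c : C, (θ c : ℂ) ^ 2 := by
    rw [Finset.mul_sum]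
    exact Fintype.sum_equiv (Equiv.mulLeft c₀) _ _ fun c => by simp [mul_pow]
  have h2 : (θ c₀ : ℂ) ^ 2 ≠ 1 := fun e => hc (Units.ext (by simpa using e))
  rw [← map_sum, eq_zero_of_mul_eq_self_left h2 h1, map_zero]

include hC hcard hodd in
theorem isIrr_phi {α : MulChar F ℂ} {θ : C →* ℂˣ} (hag : Agree α θ)
    (h : ∃ c : C, θ c ^ 2 ≠ 1) : IsIrrCharacter SL(2, F) (phi α θ) := by
  classical
  have := Fintype.ofFinite C
  have hn : classInner (phi α θ) (phi α θ) = 1 := by
    rw [inner_phi hC hcard hodd hag, sum_sq_eq_zero h]; simp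
  obtain ⟨χ, hχ, e | e⟩ := CharBasicDecomp.eq_or_neg_irr_of_norm_one (isGenChar_phi α θ) hn
  · rwa [e]
  · exfalso
    obtain ⟨n, hn0, h1⟩ := CharBasic.isIrrCharacter_apply_one hχ
    have h2 := congrFun e 1
    rw [phi_one hcard, Pi.neg_apply, h1] at h2
    have h3 : ((Fintype.card F - 1 + n : ℕ) : ℂ) = 0 := by
      rw [Nat.cast_add, Nat.cast_sub Fintype.card_pos]; push_cast; linear_combination h2
    have := Nat.cast_eq_zero.1 h3
    omega

include hC hcard hodd in
theorem hasKind_phi {α : MulChar F ℂ} {θ : C →* ℂˣ} (hag : Agree α θ) (h : ℕ) :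
    HasKind (phi α θ) h 4 := by
  refine ⟨?_, by simp [tbl, rowS_phi hC hcard hodd hag]⟩
  simp [tbl, phi_one hcard, Nat.cast_sub Fintype.card_pos]

/-- The quadratic character of the torus as a function. -/
noncomputable def thetaZero (h : ℕ) (c : C) : ℂˣ := if c ^ (h + 1) = 1 then 1 else -1

include hC hcard hodd in
theorem pow_succ_cases {h : ℕ} (hq : Fintype.card F = 2 * h + 1) (c : C) :
    c ^ (h + 1) = 1 ∨ c ^ (h + 1) = ⟨-1, neg_one_mem hC hcard hodd⟩ := by
  have h2 := (SL2Classes.two_ne_zero_of_odd hodd).1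
  have e : ((c : SL(2, F)) ^ (h + 1)) ^ 2 = 1 := by
    rw [← pow_mul, show (h + 1) * 2 = Fintype.card F + 1 by omega]
    exact pow_eq_one hcard c.2
  rcases eq_one_or_neg_one_of_sq_eq_one h2 e with e' | e'
  · exact Or.inl (Subtype.ext (by simpa using e'))
  · exact Or.inr (Subtype.ext (by simpa using e'))

include hC hcard hodd in
/-- The quadratic character of the torus. -/
theorem exists_thetaZero {h : ℕ} (hq : Fintype.card F = 2 * h + 1) :
    ∃ θ₀ : C →* ℂˣ, (∀ c, θ₀ c = thetaZero h c) ∧ θ₀ ≠ 1 ∧ ∀ c, θ₀ c ^ 2 = 1 := by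
  have hne : (⟨-1, neg_one_mem hC hcard hodd⟩ : C) ≠ 1 := fun e => SL2Classes.neg_one_ne_one
    (SL2Classes.two_ne_zero_of_odd hodd).1 (congrArg Subtype.val e)
  have hmm : (⟨-1, neg_one_mem hC hcard hodd⟩ : C) * ⟨-1, neg_one_mem hC hcard hodd⟩ = 1 :=
    Subtype.ext (by simp)
  have hmul : ∀ a b : C, thetaZero h (a * b) = thetaZero h a * thetaZero h b := by
    intro a b
    have hab : (a * b) ^ (h + 1) = a ^ (h + 1) * b ^ (h + 1) :=
      (show Commute a b from Subtype.ext (comm hC a.2 b.2)).mul_pow (h + 1)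
    simp only [thetaZero, hab]
    rcases pow_succ_cases hC hcard hodd hq a with e | e <;>
      rcases pow_succ_cases hC hcard hodd hq b with e' | e' <;>
      simp [e, e', hne, hmm]
  refine ⟨MonoidHom.mk' (thetaZero h) hmul, fun c => rfl, fun e => ?_, fun c => ?_⟩
  · obtain ⟨g, hg⟩ := hC.exists_generator
    have hord : orderOf g = Fintype.card F + 1 := by
      rw [orderOf_eq_card_of_forall_mem_zpowers hg, hcard]
    have hh : 0 < h := by have := Fintype.one_lt_card (α := F); omega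
    have hgne : g ^ (h + 1) ≠ 1 := fun e' => by
      have := Nat.le_of_dvd (by omega) (orderOf_dvd_of_pow_eq_one e')
      omega
    have := DFunLike.congr_fun e g
    simp [thetaZero, hgne] at this
  · show thetaZero h c ^ 2 = 1
    simp only [thetaZero]
    split_ifs <;> simp

include hC hcard hodd in
theorem inner_phi_one {α : MulChar F ℂ} {θ : C →* ℂˣ} (hθ : θ ≠ 1) :
    classInner (phi α θ) (fun _ => 1) = 0 := by
  classical
  have := Fintype.ofFinite C
  obtain ⟨-, ν, hν⟩ := SL2Classes.two_ne_zero_of_odd hodd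
  have hν0 : ν ≠ 0 := fun e => hν (e ▸ IsSquare.zero)
  obtain ⟨v1, v2, v3⟩ := borelPart_values α
  have h1 : classInner (borelPart α) (fun _ => 1) = 0 := by
    have h := sum_of_vanish hodd hν (isClassFunction_borelPart α) (borelPart_vanish α)
    rw [v1, v2, (v3 1 one_ne_zero).1, (v3 1 one_ne_zero).2, (v3 ν hν0).1, (v3 ν hν0).2] at h
    simp only [classInner, map_one, mul_one, h]
    ring
  have h2 : classInner (indT θ) (fun _ => 1) = 0 := by
    rw [indT, CharInduced.inner_ind_left _ _ (fun _ _ => rfl), classInner]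
    obtain ⟨c₀, hc⟩ : ∃ c₀, θ c₀ ≠ 1 := by
      by_contra h'
      push Not at h'
      exact hθ (MonoidHom.ext h')
    have h3 : (θ c₀ : ℂ) * ∑ c : C, (θ c : ℂ) = ∑ c : C, (θ c : ℂ) := by
      rw [Finset.mul_sum]
      exact Fintype.sum_equiv (Equiv.mulLeft c₀) _ _ fun c => by simp
    simp [eq_zero_of_mul_eq_self_left (fun e => hc (Units.ext e)) h3]
  rw [phi, CharBasicOrth.classInner_sub_left, h1, h2, sub_zero]

include hC hcard hodd in
/-- The values of a cuspidal character of half degree on the torus. -/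
theorem half_value {h : ℕ} (hq : Fintype.card F = 2 * h + 1) {χ : SL(2, F) → ℂ}
    (hχ : IsIrrCharacter SL(2, F) χ) (hk : HasKind χ h 5) {c : C}
    (hz : (c : SL(2, F)) ∉ Subgroup.center SL(2, F)) :
    χ c = -(thetaZero h c : ℂ) := by
  classical
  have := Fintype.ofFinite C
  have hh : 0 < h := by have := Fintype.one_lt_card (α := F); omega
  obtain ⟨-, ν, hν⟩ := SL2Classes.two_ne_zero_of_odd hodd
  obtain ⟨θ₀, hθ₀, hθne, hθsq⟩ := exists_thetaZero hC hcard hodd hq
  obtain ⟨α, hag⟩ := exists_agree hC hcard hodd θ₀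
  have hq1 : ((Fintype.card F : ℂ) + 1) ≠ 0 := Nat.cast_add_one_ne_zero _
  have hsum : ∑ c : C, conj ((θ₀ c : ℂ) ^ 2) = (Fintype.card F : ℂ) + 1 := by
    have : ∀ c : C, (θ₀ c : ℂ) ^ 2 = 1 := fun c => by
      rw [← Units.val_pow_eq_pow_val, hθsq, Units.val_one]
    simp only [this, map_one, Finset.sum_const, Finset.card_univ, nsmul_eq_mul, mul_one,
      ← Nat.card_eq_fintype_card, hcard]
    rw [Nat.card_eq_fintype_card]; push_cast; rfl
  have hn : classInner (phi α θ₀) (phi α θ₀) = 2 := by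
    rw [inner_phi hC hcard hodd hag, hsum, div_self hq1]; norm_num
  obtain ⟨m, hm, hs⟩ := CharBasicDecomp.exists_int_coeff (isGenChar_phi α θ₀)
  have hm2 : ∑ ψ, m ψ * m ψ = 2 := by
    have h3 := CharBasicOrth.classInner_eq_sum (φ := phi α θ₀) (isClassFunction_phi α θ₀)
    simp only [hn, hm, map_intCast] at h3
    exact_mod_cast h3.symm
  have hbd : ∀ ψ, m ψ = 0 ∨ m ψ = 1 ∨ m ψ = -1 := by
    intro ψ
    have hle := Finset.single_le_sum (f := fun ψ => m ψ * m ψ) (fun i _ => mul_self_nonneg _)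
      (Finset.mem_univ ψ)
    rw [hm2] at hle
    have h1 : -2 < m ψ := by nlinarith
    have h2 : m ψ < 2 := by nlinarith
    omega
  have hcard2 : (Finset.univ.filter fun ψ => m ψ ≠ 0).card = 2 := by
    have : ((Finset.univ.filter fun ψ => m ψ ≠ 0).card : ℤ) = 2 := by
      rw [Finset.card_filter, ← hm2]; push_cast
      exact Finset.sum_congr rfl fun ψ _ => by rcases hbd ψ with e | e | e <;> simp [e]
    exact_mod_cast this
  obtain ⟨a, b, hab, hsupp⟩ := Finset.card_eq_two.1 hcard2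
  have hma : m a ≠ 0 ∧ m b ≠ 0 := by
    have ha : a ∈ Finset.univ.filter fun ψ => m ψ ≠ 0 := by rw [hsupp]; simp
    have hb : b ∈ Finset.univ.filter fun ψ => m ψ ≠ 0 := by rw [hsupp]; simp
    exact ⟨(Finset.mem_filter.1 ha).2, (Finset.mem_filter.1 hb).2⟩
  have hmem : ∀ ψ, m ψ ≠ 0 → ψ = a ∨ ψ = b := fun ψ hψ => by
    have : ψ ∈ Finset.univ.filter fun ψ => m ψ ≠ 0 := by simp [hψ]
    rw [hsupp] at this; simpa using this
  have hdec : phi α θ₀ = (m a : ℂ) • (a : SL(2, F) → ℂ) + (m b : ℂ) • (b : SL(2, F) → ℂ) := by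
    rw [hs, ← Finset.sum_pair hab (f := fun ψ => (m ψ : ℂ) • (ψ : SL(2, F) → ℂ)), ← hsupp]
    refine (Finset.sum_filter_of_ne fun ψ _ hne => ?_).symm
    intro e
    simp [e] at hne
  have hdeg := congrFun hdec 1
  rw [phi_one hcard, Pi.add_apply, Pi.smul_apply, Pi.smul_apply, smul_eq_mul, smul_eq_mul] at hdeg
  have hone := inner_phi_one (α := α) hC hcard hodd hθne
  obtain ⟨χ₁, χ₂, i₁, i₂, hne, he, d₁, d₂, r₁, r₂⟩ := exists_halves hodd hq
  have hkind : ∀ ψ, m ψ ≠ 0 →
      HasKind (ψ : SL(2, F) → ℂ) h 4 ∨ HasKind (ψ : SL(2, F) → ℂ) h 5 := by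
    intro ψ hψ
    rcases classify hodd hq ψ.2 with ⟨e, -⟩ | ⟨e, -⟩ | ⟨⟨β, -, e⟩, -⟩ | ⟨e, -⟩ | ⟨-, ⟨e, -⟩ | e⟩
    · exact absurd (Int.cast_injective (α := ℂ) (by rw [← hm, e, hone, Int.cast_zero])) hψ
    · refine absurd (Int.cast_injective (α := ℂ) ?_) hψ
      rw [← hm, e, stS, CharBasicOrth.classInner_sub_right, phi_orth hC hcard hodd hag, hone,
        sub_zero, Int.cast_zero]
    · exact absurd (Int.cast_injective (α := ℂ)
        (by rw [← hm, e, phi_orth hC hcard hodd hag, Int.cast_zero])) hψ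
    · exfalso
      rw [he] at e
      have h0 := phi_orth hC hcard hodd hag (quad F)
      rw [he, CharBasicOrth.classInner_add_right] at h0
      have e1 := hm ⟨χ₁, i₁⟩
      have e2 := hm ⟨χ₂, i₂⟩
      rw [e1, e2] at h0
      have h0' : m ⟨χ₁, i₁⟩ + m ⟨χ₂, i₂⟩ = 0 := by exact_mod_cast h0
      have hψ12 : ψ = ⟨χ₁, i₁⟩ ∨ ψ = ⟨χ₂, i₂⟩ := (eq_or_eq_of_inner_pair i₁ i₂ ψ.2 e).imp
        (fun x => Subtype.ext x) fun x => Subtype.ext x
      have hboth : m ⟨χ₁, i₁⟩ ≠ 0 ∧ m ⟨χ₂, i₂⟩ ≠ 0 := by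
        rcases hψ12 with rfl | rfl <;> constructor <;> omega
      have hne' : (⟨χ₁, i₁⟩ : IrrCharacter SL(2, F)) ≠ ⟨χ₂, i₂⟩ :=
        fun x => hne (congrArg Subtype.val x)
      have hz0 : (Fintype.card F : ℂ) - 1 = 0 := by
        rcases hmem _ hboth.1 with x | x <;> rcases hmem _ hboth.2 with y | y
        · exact absurd (x.trans y.symm) hne'
        · rw [hdeg, ← x, ← y]; simp [d₁, d₂]
          rw [← add_mul, show ((m ⟨χ₁, i₁⟩ : ℂ) + m ⟨χ₂, i₂⟩) = 0 by exact_mod_cast h0', zero_mul]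
        · rw [hdeg, ← x, ← y]; simp [d₁, d₂]
          rw [← add_mul, add_comm, show ((m ⟨χ₁, i₁⟩ : ℂ) + m ⟨χ₂, i₂⟩) = 0 by exact_mod_cast h0',
            zero_mul]
        · exact absurd (x.trans y.symm) hne'
      exact card_sub_one_ne hz0
    · exact Or.inl e
    · exact Or.inr e
  have hab5 : HasKind (a : SL(2, F) → ℂ) h 5 ∧ HasKind (b : SL(2, F) → ℂ) h 5 ∧
      m a = 1 ∧ m b = 1 := by
    have hqz : (Fintype.card F : ℂ) - 1 = ((2 * h : ℕ) : ℂ) := by rw [hq]; push_cast; ring
    have hq2 : Fintype.card F - 1 = 2 * h := by omega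
    rw [hqz] at hdeg
    rcases hkind a hma.1 with ka | ka <;> rcases hkind b hma.2 with kb | kb <;>
      rw [ka.1, kb.1] at hdeg <;>
      simp [tbl, hq2] at hdeg <;>
      norm_cast at hdeg <;>
      rcases (hbd a).resolve_left hma.1 with ea | ea <;>
      rcases (hbd b).resolve_left hma.2 with eb | eb <;>
      simp [ea, eb] at hdeg <;>
      first
        | exact ⟨ka, kb, ea, eb⟩
        | omega
  obtain ⟨ka, kb, ea, eb⟩ := hab5
  set φ := fun g => χ (conjNu (Units.mk0 ν fun e => hν (e ▸ IsSquare.zero)) g) with hφ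
  let S5 : Finset (IrrCharacter SL(2, F)) :=
    Finset.univ.filter fun ψ => HasKind (ψ : SL(2, F) → ℂ) h 5
  have hS5 : S5.card = 2 := by
    rw [← Fintype.card_subtype, ← Nat.card_eq_fintype_card]
    exact card_kind hodd hq 5
  have hpair : ∀ x y : IrrCharacter SL(2, F), x ≠ y → HasKind (x : SL(2, F) → ℂ) h 5 →
      HasKind (y : SL(2, F) → ℂ) h 5 → ({x, y} : Finset _) = S5 := fun x y hxy kx ky => by
    refine Finset.eq_of_subset_of_card_le ?_ (by rw [hS5, Finset.card_pair hxy])
    intro z hz'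
    simp only [Finset.mem_insert, Finset.mem_singleton] at hz'
    rcases hz' with rfl | rfl <;> simp [S5, kx, ky]
  have h12 := hpair ⟨χ, hχ⟩ ⟨φ, isIrr_conjNu hχ _⟩
    (fun x => ne_conjNu hodd hν hq hχ (Or.inr hk) (congrArg Subtype.val x)) hk (hasKind_conjNu hk _)
  have key : phi α θ₀ c = χ c + φ c := by
    have hne5 : (⟨χ, hχ⟩ : IrrCharacter SL(2, F)) ≠ ⟨φ, isIrr_conjNu hχ _⟩ := fun x =>
      ne_conjNu hodd hν hq hχ (Or.inr hk) (congrArg Subtype.val x)
    rw [hdec, ea, eb, Int.cast_one, one_smul, one_smul, Pi.add_apply]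
    rw [← Finset.sum_pair hab (f := fun ψ : IrrCharacter SL(2, F) => (ψ : SL(2, F) → ℂ) c),
      hpair a b hab ka kb, ← h12, Finset.sum_pair hne5]
  have hno := no_root_of_mem hcard hodd c.2 hz
  rw [hφ] at key
  simp only [apply_conjNu_of_tr (classFun_of_irr hχ) _ (tr_sq_ne_four hno),
    phi_noncentral hC hcard hodd α θ₀ hz] at key
  have hinv : (θ₀ c)⁻¹ = θ₀ c := inv_eq_of_mul_eq_one_right (by rw [← sq, hθsq])
  rw [hinv, hθ₀] at key
  linear_combination -key / 2

end Phi

end Cfsg.Agent.SL2TorusChars
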