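import Mathlib
import Cfsg.Prelude.Def_DegreeGraph
import Cfsg.Agent.Lib.SL2TorusChars
import Cfsg.Agent.Lib.SL2Even
import Cfsg.Agent.Lib.CharKernel
import Cfsg.Agent.Lib.PSL2Proj52

/-!
Degree sets and degree graphs of `SL(2,q)` and `PSL(2,q)` (helper83).
-/

set_option autoImplicit false
set_option linter.unusedSectionVars false

namespace Cfsg.Agent.SL2DegreeSets

open Cfsg Cfsg.Agent.GL2Borel Cfsg.Agent.GL2Chars Cfsg.Agent.PSL2Elements Cfsg.Agent.SL2Borel
open Cfsg.Agent.SL2Chars Matrix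
open scoped MatrixGroups

universe v w

/-- The degree set is invariant under isomorphism. -/
theorem charDegrees_congr {S : Type v} {T : Type w} [Group S] [Group T] (e : S ≃* T) :
    charDegrees S = charDegrees T := by
  ext d
  constructor
  · rintro ⟨χ, rfl⟩
    exact ⟨⟨_, CharBasic.isIrrCharacter_comap e.symm.toMonoidHom e.symm.surjective χ.2⟩,
      by simp [charDegree]⟩
  · rintro ⟨χ, rfl⟩
    exact ⟨⟨_, CharBasic.isIrrCharacter_comap e.toMonoidHom e.surjective χ.2⟩,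
      by simp [charDegree]⟩

/-- The graph determined by three pairwise nearly coprime degrees. -/
theorem graph_of {S : Type v} [Group S] {p n q : ℕ} (hp : p.Prime) (hn : 0 < n) (hq : q = p ^ n)
    (hsub : ∀ d ∈ charDegrees S, d ∣ q ∨ d ∣ q + 1 ∨ d ∣ q - 1)
    (h0 : q ∈ charDegrees S) (h1 : q + 1 ∈ charDegrees S) (h2 : q - 1 ∈ charDegrees S) :
    degreePrimes S = {r : ℕ | r.Prime ∧ r ∣ q * (q ^ 2 - 1)} ∧
      ∀ r s : ℕ, (degreeGraph S).Adj r s ↔
        (r ≠ s ∧ r.Prime ∧ s.Prime ∧ ((r ∣ q + 1 ∧ s ∣ q + 1) ∨ (r ∣ q - 1 ∧ s ∣ q - 1))) := by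
  have hfac : q ^ 2 - 1 = (q + 1) * (q - 1) := by
    simpa using Nat.sq_sub_sq q 1
  refine ⟨Set.ext fun r => ⟨?_, ?_⟩, fun r s => ⟨?_, ?_⟩⟩
  · rintro ⟨hr, d, hd, hrd⟩
    refine ⟨hr, ?_⟩
    rw [hfac]
    rcases hsub d hd with h | h | h
    · exact (hrd.trans h).mul_right _
    · exact ((hrd.trans h).mul_right _).mul_left _
    · exact ((hrd.trans h).mul_left _).mul_left _
  · rintro ⟨hr, hrd⟩
    rw [hfac] at hrd
    rcases hr.dvd_mul.1 hrd with h | h
    · exact ⟨hr, q, h0, h⟩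
    · rcases hr.dvd_mul.1 h with h | h
      · exact ⟨hr, _, h1, h⟩
      · exact ⟨hr, _, h2, h⟩
  · rintro ⟨hne, hr, hs, d, hd, hrs⟩
    refine ⟨hne, hr, hs, ?_⟩
    rcases hsub d hd with h | h | h
    · exfalso
      have hr' := (dvd_mul_right r s).trans (hrs.trans h)
      have hs' := (dvd_mul_left s r).trans (hrs.trans h)
      rw [hq] at hr' hs'
      exact hne (((Nat.prime_dvd_prime_iff_eq hr hp).1 (hr.dvd_of_dvd_pow hr')).trans
        ((Nat.prime_dvd_prime_iff_eq hs hp).1 (hs.dvd_of_dvd_pow hs')).symm)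
    · exact Or.inl ⟨(dvd_mul_right r s).trans (hrs.trans h), (dvd_mul_left s r).trans (hrs.trans h)⟩
    · exact Or.inr ⟨(dvd_mul_right r s).trans (hrs.trans h), (dvd_mul_left s r).trans (hrs.trans h)⟩
  · rintro ⟨hne, hr, hs, hc⟩
    have hcop := (Nat.coprime_primes hr hs).2 hne
    rcases hc with ⟨a, b⟩ | ⟨a, b⟩
    · exact ⟨hne, hr, hs, _, h1, hcop.mul_dvd_of_dvd_of_dvd a b⟩
    · exact ⟨hne, hr, hs, _, h2, hcop.mul_dvd_of_dvd_of_dvd a b⟩

variable {F : Type*} [Field F] [Fintype F]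

theorem charDegree_eq {G : Type v} [Group G] {χ : G → ℂ} {n : ℕ} (h : χ 1 = n) :
    charDegree χ = n := by simp [charDegree, h]

/-- The degree set of `SL(2,q)`, `q` even. -/
theorem even_degrees [CharP F 2] (h4 : 4 ≤ Fintype.card F) :
    (∀ d ∈ charDegrees SL(2, F),
      d ∣ Fintype.card F ∨ d ∣ Fintype.card F + 1 ∨ d ∣ Fintype.card F - 1) ∧
    Fintype.card F ∈ charDegrees SL(2, F) ∧ Fintype.card F + 1 ∈ charDegrees SL(2, F) ∧
      Fintype.card F - 1 ∈ charDegrees SL(2, F) := by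
  classical
  have hex : ∀ k : Fin 4, (SL2Even.tbl (Fintype.card F) k).1 ∈ charDegrees SL(2, F) := by
    intro k
    have hk := SL2Even.card_kind (F := F) k
    have hpos : 0 < Nat.card {χ : IrrCharacter SL(2, F) //
        SL2Even.HasKind (χ : SL(2, F) → ℂ) k} := by
      rw [hk]
      fin_cases k <;> simp <;> omega
    obtain ⟨⟨χ, hχ⟩⟩ := (Nat.card_pos_iff.1 hpos).1
    exact ⟨χ, charDegree_eq hχ.1⟩
  refine ⟨?_, hex 1, hex 2, hex 3⟩
  rintro d ⟨χ, rfl⟩
  obtain ⟨k, hk⟩ := SL2Even.exists_kind χ.2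
  rw [charDegree_eq hk.1]
  fin_cases k <;> simp [SL2Even.tbl]

theorem center_eq_bot [CharP F 2] : Subgroup.center SL(2, F) = ⊥ :=
  (Subgroup.eq_bot_iff_forall _).2 fun z hz => by
    rcases (mem_center_iff z).1 hz with h | h
    · exact h
    · rw [h]
      apply ext2 <;> simp [CharTwo.neg_eq]

/-- Degrees of irreducible characters of `SL(2,q)` trivial on `-1`, `q` odd. -/
theorem odd_degrees (hodd : Odd (Fintype.card F)) (h5 : 5 < Fintype.card F) :
    (∀ d ∈ charDegrees SL(2, F),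
      d ∣ Fintype.card F ∨ d ∣ Fintype.card F + 1 ∨ d ∣ Fintype.card F - 1) ∧
    ∀ d ∈ ({Fintype.card F, Fintype.card F + 1, Fintype.card F - 1} : Set ℕ),
      ∃ χ : IrrCharacter SL(2, F), charDegree (χ : SL(2, F) → ℂ) = d ∧
        ∀ n ∈ Subgroup.center SL(2, F), (χ : SL(2, F) → ℂ) n = (χ : SL(2, F) → ℂ) 1 := by
  classical
  obtain ⟨h, hh, hq⟩ := SL2Odd.exists_half hodd
  have hker : ∀ χ : SL(2, F) → ℂ, χ (-1) = χ 1 →
      ∀ n ∈ Subgroup.center SL(2, F), χ n = χ 1 := by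
    intro χ hχ n hn
    rcases (mem_center_iff n).1 hn with rfl | rfl
    · rfl
    · exact hχ
  refine ⟨?_, ?_⟩
  · rintro d ⟨χ, rfl⟩
    obtain ⟨k, hk⟩ := SL2Odd.exists_kind hodd hq χ.2
    rw [charDegree_eq hk.1]
    fin_cases k <;> simp [SL2Odd.tbl]
    · exact Or.inr (Or.inl ⟨2, by omega⟩)
    · exact Or.inr (Or.inr ⟨2, by omega⟩)
  intro d hd
  simp only [Set.mem_insert_iff, Set.mem_singleton_iff] at hd
  rcases hd with rfl | rfl | rfl
  · refine ⟨⟨stS F, isIrr_stS⟩, charDegree_eq stS_one, hker _ ?_⟩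
    simp [stS, SL2TorusChars.indS_neg_one, SL2TorusChars.one_neg_one, SL2Borel.indS_one]
  · have hn : Fintype.card F - 1 ≠ 0 := by omega
    obtain ⟨ζ, hζ⟩ : ∃ ζ : ℂ, IsPrimitiveRoot ζ (Fintype.card F - 1) :=
      ⟨_, Complex.isPrimitiveRoot_exp _ hn⟩
    obtain ⟨β, hβ⟩ := MulChar.exists_mulChar_orderOf F (n := Fintype.card F - 1) dvd_rfl hζ
    have h2 : (β ^ 2) ^ 2 ≠ 1 := by
      rw [← pow_mul]
      intro e
      have := Nat.le_of_dvd (by norm_num) (orderOf_dvd_of_pow_eq_one e)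
      omega
    have hm1 : (β ^ 2) (-1) = 1 := by
      rw [MulChar.pow_apply' β two_ne_zero, ← map_pow, neg_one_sq, map_one]
    refine ⟨⟨indS (β ^ 2), (isIrr_indS_iff _).2 h2⟩, charDegree_eq (by simp [SL2Borel.indS_one]),
      hker _ ?_⟩
    show indS (β ^ 2) (-1) = indS (β ^ 2) 1
    rw [SL2TorusChars.indS_neg_one, hm1, one_mul, SL2Borel.indS_one]
  · obtain ⟨A, hA⟩ := PSL2Proj52.exists_orderOf_card_add_one (F := F)
    rw [Nat.card_eq_fintype_card] at hA
    set C := Subgroup.zpowers A with hC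
    have hcard : Nat.card C = Fintype.card F + 1 := by rw [hC, Nat.card_zpowers, hA]
    have hcyc : IsCyclic C := inferInstance
    obtain ⟨ζ, hζ⟩ : ∃ ζ : ℂ, IsPrimitiveRoot ζ (h + 1) :=
      ⟨_, Complex.isPrimitiveRoot_exp _ (by omega)⟩
    set z : ℂˣ := (hζ.isUnit (by omega)).unit with hz
    have hzo : orderOf z = h + 1 := by
      rw [← orderOf_units, hz, IsUnit.unit_spec]
      exact hζ.eq_orderOf.symm
    let g : C := ⟨A, Subgroup.mem_zpowers A⟩
    have hgo : orderOf g = Fintype.card F + 1 := by rw [← Subgroup.orderOf_coe]; exact hA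
    have hgen : ∀ x : C, x ∈ Subgroup.zpowers g := fun x => by
      obtain ⟨i, hi⟩ := Subgroup.mem_zpowers_iff.1 x.2
      exact Subgroup.mem_zpowers_iff.2 ⟨i, Subtype.ext (by simpa using hi)⟩
    let θ : C →* ℂˣ := monoidHomOfForallMemZpowers hgen (g' := z)
      (by rw [hzo, hgo]; exact ⟨2, by omega⟩)
    have hθg : θ g = z := monoidHomOfForallMemZpowers_apply_gen _ _
    have hθ2 : ∃ c : C, θ c ^ 2 ≠ 1 := ⟨g, fun e => by
      rw [hθg] at e
      have := Nat.le_of_dvd two_pos (orderOf_dvd_of_pow_eq_one e)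
      omega⟩
    obtain ⟨α, hag⟩ := SL2TorusChars.exists_agree hcyc hcard hodd θ
    set m : C := ⟨-1, SL2TorusChars.neg_one_mem hcyc hcard hodd⟩ with hm
    have hθm : θ m = 1 := by
      obtain ⟨i, hi⟩ := Subgroup.mem_zpowers_iff.1 (hgen m)
      have hmm : m * m = 1 := Subtype.ext (by simp [hm])
      rw [← hi, ← _root_.zpow_add, ← orderOf_dvd_iff_zpow_eq_one, hgo] at hmm
      rw [← hi, map_zpow, hθg, ← orderOf_dvd_iff_zpow_eq_one, hzo]
      have h' : ((2 * (h + 1) : ℕ) : ℤ) ∣ 2 * i := by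
        rw [two_mul i, show 2 * (h + 1) = Fintype.card F + 1 by omega]
        exact hmm
      rw [Nat.cast_mul] at h'
      exact (mul_dvd_mul_iff_left (by norm_num)).1 h'
    refine ⟨⟨_, SL2TorusChars.isIrr_phi hcyc hcard hodd hag hθ2⟩, charDegree_eq (by
      show SL2TorusChars.phi α θ 1 = _
      rw [SL2TorusChars.phi_one hcard, Nat.cast_sub (by omega)]; norm_num), hker _ ?_⟩
    show SL2TorusChars.phi α θ (-1) = SL2TorusChars.phi α θ 1
    rw [SL2TorusChars.phi_neg_one hcyc hcard hodd hag, SL2TorusChars.phi_one hcard,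
      ← hag m rfl, hθm, Units.val_one, one_mul]

/-- The degree set of `PSL(2,q)`, `q` odd. -/
theorem odd_degrees_psl (hodd : Odd (Fintype.card F)) (h5 : 5 < Fintype.card F) :
    (∀ d ∈ charDegrees (Matrix.ProjectiveSpecialLinearGroup (Fin 2) F),
      d ∣ Fintype.card F ∨ d ∣ Fintype.card F + 1 ∨ d ∣ Fintype.card F - 1) ∧
    ∀ d ∈ ({Fintype.card F, Fintype.card F + 1, Fintype.card F - 1} : Set ℕ),
      d ∈ charDegrees (Matrix.ProjectiveSpecialLinearGroup (Fin 2) F) := by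
  obtain ⟨hsub, hex⟩ := odd_degrees hodd h5
  refine ⟨?_, fun d hd => ?_⟩
  · rintro d ⟨χ, rfl⟩
    rw [← CharKernel.charDegree_quotEquiv (Subgroup.center SL(2, F)) χ]
    exact hsub _ ⟨_, rfl⟩
  · obtain ⟨χ, hχ, hk⟩ := hex d hd
    refine ⟨(CharKernel.quotEquiv (Subgroup.center SL(2, F))).symm ⟨χ, hk⟩, ?_⟩
    rw [← CharKernel.charDegree_quotEquiv, Equiv.apply_symm_apply]
    exact hχ

end Cfsg.Agent.SL2DegreeSets
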