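import Mathlib
import Cfsg.Agent.Lib.SL2Even
import Cfsg.Agent.Lib.SL2DegreeSets
import Cfsg.Agent.Lib.CharBasic
import Cfsg.Agent.Lib.CharKernel
import Cfsg.Agent.Lib.BlockPrincipal81

/-!
# Character values at involutions in the converse direction

In `PSL(2, q)`, `q` even, every nonprincipal irreducible character `χ` satisfies `χ 1 - χ g = q`
at an involution `g`.
-/

set_option autoImplicit false
set_option linter.style.haveILetI false
set_option linter.unusedSectionVars false

namespace Cfsg.Agent.ConstDiff2Conv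

open Cfsg Cfsg.Agent.GL2Borel Cfsg.Agent.GL2Chars Cfsg.Agent.PSL2Elements Cfsg.Agent.SL2Borel
open Cfsg.Agent.SL2Chars Matrix
open scoped MatrixGroups

variable {F : Type*} [Field F] [Fintype F] [DecidableEq F] [CharP F 2]

theorem isConj_u_one {g : SL(2, F)} (hg : g * g = 1) (hg1 : g ≠ 1) :
    IsConj g (u 1) := by
  obtain ⟨z, hz⟩ := SL2Classes.repEven_bijective.2 (ConjClasses.mk g)
  have hc : IsConj (SL2Classes.repEven z) g := ConjClasses.mk_eq_mk_iff_isConj.1 hz
  obtain ⟨c, hcg⟩ := isConj_iff.1 hc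
  rcases z with ⟨t, ht⟩ | k
  · exfalso
    refine ht ?_
    have h1 : PSL2Elements.comp t * PSL2Elements.comp t = 1 := by
      have h2 : c * (PSL2Elements.comp t * PSL2Elements.comp t) * c⁻¹ = 1 := by
        rw [← hg, ← hcg]
        show c * (PSL2Elements.comp t * PSL2Elements.comp t) * c⁻¹ =
          c * PSL2Elements.comp t * c⁻¹ * (c * PSL2Elements.comp t * c⁻¹)
        group
      exact conj_eq_one_iff.1 h2
    have h3 := congrArg (fun m : SL(2, F) => (m : Matrix (Fin 2) (Fin 2) F) 1 0) h1
    simp [PSL2Elements.comp, Matrix.mul_apply, Fin.sum_univ_two] at h3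
    first
      | exact h3
      | linear_combination h3
      | linear_combination -h3
  · fin_cases k
    · exfalso
      refine hg1 ?_
      rw [← hcg]
      simp [SL2Classes.repEven]
    · exact hc.symm

/-- The values at involutions. -/
theorem degree_sub_value {χ : SL(2, F) → ℂ} (hχ : IsIrrCharacter SL(2, F) χ)
    (hne : χ ≠ fun _ => 1) {g : SL(2, F)} (hg : g * g = 1) (hg1 : g ≠ 1) :
    χ 1 - χ g = (Fintype.card F : ℂ) := by
  have hc : IsClassFunction SL(2, F) χ := classFun_of_irr hχ
  rw [CharBasic.apply_eq_of_isConj hc (isConj_u_one hg hg1)]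
  have hs := SL2Even.sum_u hc
  have hq : ((Fintype.card F : ℂ) - 1) ≠ 0 := by
    rw [sub_ne_zero]
    exact_mod_cast (Fintype.one_lt_card (α := F)).ne'
  refine mul_left_cancel₀ hq ?_
  have h1q : 1 ≤ Fintype.card F := Fintype.card_pos
  rcases SL2Even.classify hχ with ⟨h, -⟩ | ⟨-, h⟩ | ⟨-, h⟩ | ⟨-, h, -⟩
  · exact absurd h hne
  all_goals
    obtain ⟨h1, h2⟩ := h
    rw [h1] at hs ⊢
    rw [h2] at hs
    simp only [SL2Even.tbl, Fin.isValue, Matrix.cons_val] at hs ⊢
    push_cast [Nat.cast_sub h1q] at hs ⊢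
    linear_combination hs

/-- The same on a group isomorphic to `PSL(2, F)`. -/
theorem degree_sub_value_of_iso {Q : Type*} [Group Q] [Finite Q]
    (e : Q ≃* Matrix.ProjectiveSpecialLinearGroup (Fin 2) F) (χ : IrrCharacter Q)
    (hne : (χ : Q → ℂ) ≠ fun _ => 1) {g : Q} (hg : g * g = 1) (hg1 : g ≠ 1) :
    (χ : Q → ℂ) 1 - (χ : Q → ℂ) g = (Fintype.card F : ℂ) := by
  have hker : (QuotientGroup.mk' (Subgroup.center SL(2, F))).ker = ⊥ := by
    rw [QuotientGroup.ker_mk', SL2DegreeSets.center_eq_bot]
  let q : SL(2, F) ≃* Matrix.ProjectiveSpecialLinearGroup (Fin 2) F :=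
    MulEquiv.ofBijective (QuotientGroup.mk' (Subgroup.center SL(2, F)))
      ⟨(MonoidHom.ker_eq_bot_iff _).1 hker, QuotientGroup.mk'_surjective _⟩
  let f : SL(2, F) ≃* Q := q.trans e.symm
  have hirr := CharBasic.isIrrCharacter_comap f.toMonoidHom f.surjective χ.2
  have h := degree_sub_value hirr (fun h => hne (funext fun a => by
      have := congrFun h (f.symm a)
      simpa using this))
    (g := f.symm g) (by rw [← map_mul, hg, map_one])
    (fun h => hg1 (f.symm.injective (h.trans f.symm.map_one.symm)))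
  simpa using h

/-- In a group of order two. -/
theorem degree_sub_value_two {Q : Type*} [Group Q] [Finite Q] (h2 : Nat.card Q = 2)
    (χ : IrrCharacter Q) (hne : (χ : Q → ℂ) ≠ fun _ => 1) {g : Q} (hg1 : g ≠ 1) :
    (χ : Q → ℂ) 1 - (χ : Q → ℂ) g = 2 := by
  haveI := Fact.mk Nat.prime_two
  have hall : ∀ a : Q, a = 1 ∨ a = g := by
    intro a
    by_contra hno
    push Not at hno
    classical
    haveI := Fintype.ofFinite Q
    have h3 : ({1, g, a} : Finset Q).card = 3 :=
      Finset.card_eq_three.2 ⟨1, g, a, hg1.symm, hno.1.symm, hno.2.symm, rfl⟩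
    have h4 := Finset.card_le_univ ({1, g, a} : Finset Q)
    rw [h3, ← Nat.card_eq_fintype_card, h2] at h4
    omega
  have hg : g * g = 1 := by
    rcases hall (g * g) with h | h
    · exact h
    · exact absurd (mul_left_cancel (h.trans (mul_one g).symm)) hg1
  have hcomm : ∀ a b : Q, a * b = b * a := by
    intro a b
    rcases hall a with rfl | rfl <;> rcases hall b with rfl | rfl <;> simp
  obtain ⟨lam, hlam⟩ := CharBasicLinear.exists_hom_of_comm hcomm χ.2
  have hv : (lam g : ℂ) * (lam g : ℂ) = 1 := by rw [← Units.val_mul, ← map_mul, hg, map_one, Units.val_one]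
  rcases mul_self_eq_one_iff.1 hv with h | h
  · refine absurd (funext fun a => ?_) hne
    rcases hall a with rfl | rfl
    · rw [hlam]; simp
    · rw [hlam]; exact h
  · rw [hlam]
    simp only [map_one, Units.val_one, h]
    norm_num

end Cfsg.Agent.ConstDiff2Conv
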