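/-
Values of the principal block idempotent on the centralizer of a Sylow subgroup.
-/
import Mathlib
import Cfsg.Agent.Lib.PrincipalSylow80

set_option autoImplicit false

namespace Cfsg.Agent.PrincipalCentral80

open Cfsg Cfsg.Agent.BlockTheoryLocalRing Cfsg.Agent.BlockTheoryCentre
open Cfsg.Agent.BlockTheoryRotation Cfsg.Agent.BlockTheoryIdem
open Cfsg.Agent.CharBasic Cfsg.Agent.CharBasicOrth Cfsg.Agent.CharBasicDecomp
open Cfsg.Agent.PrincipalSylow80
open scoped ComplexConjugate

attribute [local instance] Classical.propDecidable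

universe u

variable {p : ℕ} {M : Ideal AlgInt} {G : Type u} [Group G] [Fintype G]

/-- On `p`-regular elements centralizing a Sylow subgroup `P` the coefficient of the principal block
idempotent is congruent to the inverse of the order of `C(P) / Z(P)`. -/
theorem blockCoeff_congr [Fact p.Prime] (P : Sylow p G) (hM : IsPModular p M) {c : Cz P}
    (hc : ¬ p ∣ orderOf (c : G)) :
    MemLocalIdeal M (blockCoeff (principalBlock M G) (c : G) - (Nat.card (Q P) : ℂ)⁻¹) := by
  have hB : IsPBlock M (principalBlock M G) := PrincipalSylow80.isPBlock_principal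
  have h1 : (beta P (idem (principalBlock M G))).coeff (c : Q P) =
      blockCoeff (principalBlock M G) (c : G) := by
    rw [coeff_beta, Finset.sum_eq_single c]
    · rw [if_pos rfl, coeff_idem]
    · intro d _ hne
      split_ifs with hd
      · rw [coeff_idem]
        refine blockCoeff_eq_zero_of_dvd hM hB ?_
        by_contra hdr
        exact hne (reg_unique P hd hdr hc)
      · rfl
    · simp
  have h2 : ∀ φ : IrrCharacter (Q P), (idem {φ}).coeff (c : Q P) =
      (Nat.card (Q P) : ℂ)⁻¹ * ((φ : Q P → ℂ) 1 * conj ((φ : Q P → ℂ) (c : Q P))) := fun φ => by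
    rw [coeff_idem, blockCoeff, finsum_mem_singleton]
  have h3 : (Nat.card (Q P) : ℂ)⁻¹ = ∑ φ : IrrCharacter (Q P),
      (if φ = trivIrr (Q P) then (1 : ℂ) else 0) * (idem {φ}).coeff (c : Q P) := by
    rw [Finset.sum_eq_single (trivIrr (Q P))]
    · rw [if_pos rfl, h2]; simp [trivIrr]
    · intro φ _ hne; rw [if_neg hne, zero_mul]
    · simp
  rw [← h1, expand (isCen_beta P (isCen_idem _)), MonoidAlgebra.coeff_sum, Finset.sum_apply', h3,
    ← Finset.sum_sub_distrib]
  refine ideal_sum hM fun φ _ => ?_
  rw [MonoidAlgebra.coeff_smul_apply, smul_eq_mul, ← sub_mul]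
  refine ideal_mul_right hM (lamQ_idem_principal P hM φ) ?_
  rw [h2]
  refine (localRing hM).mul_mem (inv_card_Q_local P hM) ((localRing hM).mul_mem (irr_local hM φ 1) ?_)
  rw [← irr_inv]
  exact irr_local hM φ _

/-- A member of the principal block of degree prime to `p` is congruent to its degree at
every element whose class has size prime to `p`. -/
theorem apply_congr_degree (hM : IsPModular p M) {χ : IrrCharacter G}
    (hχ : χ ∈ principalBlock M G)
    {y : G} (hy : ¬ p ∣ (Subgroup.centralizer ({y} : Set G)).index) :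
    MemLocalIdeal M ((χ : G → ℂ) y - (χ : G → ℂ) 1) := by
  have h := (hχ : SameBlock M (fun _ : G => (1 : ℂ)) (χ : G → ℂ)) y
  obtain ⟨d, hd, hd1⟩ := isIrrCharacter_apply_one χ.2
  have hd0 : (d : ℂ) ≠ 0 := Nat.cast_ne_zero.2 hd.ne'
  set k := (Subgroup.centralizer ({y} : Set G)).index
  have hk : (k : ℂ) ≠ 0 := Nat.cast_ne_zero.2 (fun h0 => hy (h0 ▸ dvd_zero p))
  have h' := ideal_mul_left hM ((localRing hM).mul_mem (natCast_mem (localRing hM) d)
    (inv_natCast_mem hM hy)) (ideal_neg h)
  convert h' using 1
  simp only [centralChar]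
  rw [hd1]
  field_simp
  ring

end Cfsg.Agent.PrincipalCentral80
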