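/-
Every character of the principal block of a subgroup containing a Sylow subgroup, or of a normal
subgroup, lies under a character of the principal block.
-/
import Mathlib
import Cfsg.Agent.Lib.PrincipalCentral80
import Cfsg.Agent.Lib.BrauerBlocksCovering
import Cfsg.Agent.Lib.CharInducedClifford

set_option autoImplicit false

namespace Cfsg.Agent.PrincipalCover80

open Cfsg Cfsg.Agent.BlockTheoryLocalRing Cfsg.Agent.BlockTheoryCentre
open Cfsg.Agent.BlockTheoryIdem Cfsg.Agent.BlockTheoryNormal Cfsg.Agent.BlockTheoryBrauer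
open Cfsg.Agent.CharBasic Cfsg.Agent.CharBasicOrth Cfsg.Agent.CharBasicDecomp
open Cfsg.Agent.CharInduced
open Cfsg.Agent.PrincipalSylow80
open scoped ComplexConjugate

attribute [local instance] Classical.propDecidable

universe u v

variable {p : ℕ} {M : Ideal AlgInt} {G : Type u} [Group G]

section Basics

variable [Fintype G]

theorem omega_triv (z : MonoidAlgebra ℂ G) :
    omega ((trivIrr G : IrrCharacter G) : G → ℂ) z = ∑ x, z.coeff x := by
  simp [omega_apply, chiSum_apply, trivIrr]

theorem omega_congr_one (hM : IsPModular p M) {θ : IrrCharacter G}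
    (hθ : θ ∈ principalBlock M G) {z : MonoidAlgebra ℂ G} (hz : Good M z) :
    MemLocalIdeal M (omega (θ : G → ℂ) z - ∑ x, z.coeff x) := by
  rw [← omega_triv]
  exact PrincipalSylow80.ideal_sub_comm
    (omega_sub_mem hM (show SameBlock M ((trivIrr G : IrrCharacter G) : G → ℂ) θ from hθ)
      hz.1 hz.2)

/-- Membership of the principal block from the central characters of class sums. -/
theorem mem_principal_of_omega {χ : IrrCharacter G}
    (h : ∀ g : G, MemLocalIdeal M (omega (χ : G → ℂ) (classSum g) - ∑ x, (classSum g).coeff x)) :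
    χ ∈ principalBlock M G := fun g => by
  have h1 := h g
  rw [← omega_triv, omega_classSum (irr_classFun χ),
    omega_classSum (irr_classFun (trivIrr G))] at h1
  exact PrincipalSylow80.ideal_sub_comm h1

/-- The inner product of a restriction read through the members of a block. -/
theorem exists_constituent_of_chiSum {H : Subgroup G} [Fintype H] (B : Set (IrrCharacter G))
    (θ : H → ℂ) (h : ∑ x : H, blockCoeff B (x : G) * θ x ≠ 0) :
    ∃ χ ∈ B, classInner (fun x : H => (χ : G → ℂ) x) θ ≠ 0 := by
  by_contra hne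
  push Not at hne
  apply h
  simp only [blockCoeff_eq_sum, Finset.mul_sum, Finset.sum_mul]
  rw [Finset.sum_comm]
  refine Finset.sum_eq_zero fun χ _ => ?_
  by_cases hχ : χ ∈ B
  · have h0 := congrArg conj (hne χ hχ)
    rw [classInner, map_zero, map_mul, map_inv₀, map_natCast, map_sum, mul_eq_zero] at h0
    rcases h0 with h0 | h0
    · exact absurd (inv_eq_zero.mp h0) (Nat.cast_ne_zero.mpr Nat.card_pos.ne')
    calc _ = (Nat.card G : ℂ)⁻¹ * (χ : G → ℂ) 1 *
          ∑ x : H, conj ((χ : G → ℂ) x * conj (θ x)) := by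
          rw [Finset.mul_sum]
          refine Finset.sum_congr rfl fun x _ => ?_
          simp [hχ, map_mul]
          ring
      _ = 0 := by rw [h0, mul_zero]
  · exact Finset.sum_eq_zero fun x _ => by simp [hχ]

/-- Degrees weighted by multiplicities over a character of a subgroup. -/
theorem sum_degree_inner (H : Subgroup G) [Fintype H] (θ : H → ℂ) :
    ∑ χ : IrrCharacter G, (χ : G → ℂ) 1 * classInner (fun x : H => (χ : G → ℂ) x) θ =
      (H.index : ℂ) * conj (θ 1) := by
  have hcol : ∀ x : H, ∑ χ : IrrCharacter G, (χ : G → ℂ) (x : G) * conj ((χ : G → ℂ) 1) =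
      if x = 1 then (Nat.card G : ℂ) else 0 := fun x => by
    rw [sum_irr_mul_conj (x : G) 1]
    by_cases hx : x = 1
    · subst hx
      rw [if_pos (by simp), if_pos rfl, Subgroup.centralizer_eq_top_iff_subset.2 (by simp),
        Subgroup.card_top]
    · rw [if_neg fun hc => hx (Subtype.ext (by simpa using hc)), if_neg hx]
  have h1 : ∀ χ : IrrCharacter G, conj ((χ : G → ℂ) 1) = (χ : G → ℂ) 1 := fun χ => by
    rw [irr_charDegree χ, map_natCast]
  calc _ = (Nat.card H : ℂ)⁻¹ * ∑ x : H,
        (∑ χ : IrrCharacter G, (χ : G → ℂ) (x : G) * conj ((χ : G → ℂ) 1)) * conj (θ x) := by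
        simp only [classInner, Finset.mul_sum, Finset.sum_mul]
        rw [Finset.sum_comm]
        refine Finset.sum_congr rfl fun x _ => Finset.sum_congr rfl fun χ _ => ?_
        rw [h1 χ]; ring
    _ = _ := by
        rw [Finset.sum_eq_single (1 : H), hcol, if_pos rfl, ← H.card_mul_index, Nat.cast_mul,
          ← mul_assoc, ← mul_assoc, inv_mul_cancel₀ (Nat.cast_ne_zero.mpr Nat.card_pos.ne'),
          one_mul]
        · intro x _ hx; rw [hcol, if_neg hx, zero_mul]
        · simp

/-- Every character of a subgroup lies under some character. -/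
theorem exists_over_irr (H : Subgroup G) [Fintype H] (θ : IrrCharacter H) :
    ∃ χ : IrrCharacter G, classInner (fun x : H => (χ : G → ℂ) x) (θ : H → ℂ) ≠ 0 := by
  by_contra hne
  push Not at hne
  have := sum_degree_inner H (θ : H → ℂ)
  simp only [hne, mul_zero, Finset.sum_const_zero] at this
  exact mul_ne_zero (Nat.cast_ne_zero.mpr Subgroup.index_ne_zero_of_finite)
    ((map_ne_zero _).mpr (irr_one_ne_zero θ)) this.symm

end Basics

section Sylow

variable [Fintype G] [hp : Fact p.Prime]

theorem sum_blockCoeff_not_ideal (hM : IsPModular p M) (P : Sylow p G) (H : Subgroup G)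
    [Fintype H] (hPH : (P : Subgroup G) ≤ H) :
    ¬ MemLocalIdeal M (∑ x : H, blockCoeff (principalBlock M G) (x : G)) := by
  set e : G → ℂ := fun x => blockCoeff (principalBlock M G) x with he
  have hB : IsPBlock M (principalBlock M G) := ⟨trivIrr G, rfl⟩
  set W : G → ℂ := fun x => if x ∈ H then e x else 0 with hW
  have hsum : ∑ x : G, W x = ∑ x : H, e (x : G) := by
    rw [hW, ← Finset.sum_filter]
    exact Finset.sum_subtype _ (fun x => by simp) e
  have hWinv : ∀ h ∈ (P : Subgroup G), ∀ x, W (h * x * h⁻¹) = W x := by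
    intro h hh x
    have hmem : h * x * h⁻¹ ∈ H ↔ x ∈ H := by
      rw [Subgroup.mul_mem_cancel_right H (inv_mem (hPH hh)),
        Subgroup.mul_mem_cancel_left H (hPH hh)]
    have := isCen_idem (principalBlock M G) x h
    simp only [coeff_idem] at this
    simp only [hW, hmem, he, this]
  have hWl : ∀ x, MemLocalRing M (W x) := fun x => by
    simp only [hW]
    split_ifs
    exacts [blockCoeff_mem hM hB _, (localRing hM).zero_mem]
  have h1 := sum_centralizer_congr P hM W hWinv hWl
  set R := Finset.univ.filter fun c : Cz P => (c : G) ∈ H ∧ ¬ p ∣ orderOf (c : G) with hR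
  have h2 : MemLocalIdeal M (∑ c : Cz P, W c - (R.card : ℂ) * (Nat.card (Q P) : ℂ)⁻¹) := by
    rw [← nsmul_eq_mul, ← Finset.sum_const, hR, Finset.sum_filter, ← Finset.sum_sub_distrib]
    refine ideal_sum hM fun c _ => ?_
    by_cases hcH : (c : G) ∈ H
    · by_cases hc : p ∣ orderOf (c : G)
      · rw [if_neg fun h => h.2 hc, hW]
        simpa [hcH, he, blockCoeff_eq_zero_of_dvd hM hB hc] using ideal_zero hM
      · rw [if_pos ⟨hcH, hc⟩, hW]
        simpa [hcH, he] using PrincipalCentral80.blockCoeff_congr P hM hc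
    · simpa [hW, hcH] using ideal_zero hM
  -- the regular elements count the cosets
  set S : Subgroup (Q P) := (H.subgroupOf (Cz P)).map (QuotientGroup.mk' (Zc P)) with hS
  have hcard : R.card = Nat.card S := by
    rw [← Nat.card_eq_finsetCard]
    refine Nat.card_congr (Equiv.ofBijective
      (fun c => ⟨((c : Cz P) : Q P), Subgroup.mem_map.2
        ⟨(c : Cz P), (Finset.mem_filter.1 c.2).2.1, rfl⟩⟩) ⟨?_, ?_⟩)
    · intro c c' hcc
      exact Subtype.ext (reg_unique P (congrArg Subtype.val hcc) (Finset.mem_filter.1 c.2).2.2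
        (Finset.mem_filter.1 c'.2).2.2)
    · rintro ⟨q, hq⟩
      obtain ⟨c, hcH, rfl⟩ := Subgroup.mem_map.1 hq
      obtain ⟨c', hc', hreg⟩ := exists_reg P (c : Q P)
      have hz : c⁻¹ * c' ∈ Zc P := QuotientGroup.eq.1 hc'.symm
      have hzH : ((c⁻¹ * c' : Cz P) : G) ∈ H := hPH hz
      have hc'H : (c' : G) ∈ H := by
        have := mul_mem (show (c : G) ∈ H from hcH) hzH
        simpa using this
      exact ⟨⟨c', Finset.mem_filter.2 ⟨Finset.mem_univ _, hc'H, hreg⟩⟩, Subtype.ext hc'⟩
  intro hI
  rw [← hsum] at hI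
  have h3 : MemLocalIdeal M ((R.card : ℂ) * (Nat.card (Q P) : ℂ)⁻¹) := by
    have := ideal_sub hM (ideal_sub hM hI h1) h2
    simpa using this
  have h4 : MemLocalIdeal M (R.card : ℂ) := by
    have := ideal_mul_right hM h3 (algInt_mem hM (Nat.card (Q P) : AlgInt))
    rwa [show (((Nat.card (Q P) : ℕ) : AlgInt) : ℂ) = (Nat.card (Q P) : ℂ) from by simp,
      mul_assoc, inv_mul_cancel₀ (Nat.cast_ne_zero.mpr Nat.card_pos.ne'), mul_one] at this
  rw [natCast_mem_iff hM, hcard] at h4
  exact not_dvd_card_Q P (h4.trans S.card_subgroup_dvd_card)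

/-- Covering for a subgroup containing a Sylow subgroup. -/
theorem exists_over_of_sylow_le (hM : IsPModular p M) (P : Sylow p G) (H : Subgroup G)
    [Fintype H] (hPH : (P : Subgroup G) ≤ H) {θ : IrrCharacter H}
    (hθ : θ ∈ principalBlock M H) :
    ∃ χ ∈ principalBlock M G, classInner (fun x : H => (χ : G → ℂ) x) (θ : H → ℂ) ≠ 0 := by
  refine exists_constituent_of_chiSum _ _ fun h0 => ?_
  set z : MonoidAlgebra ℂ H := ofFun fun x => blockCoeff (principalBlock M G) (x : G) with hz
  have hB : IsPBlock M (principalBlock M G) := ⟨trivIrr G, rfl⟩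
  have hgood : Good M z := ⟨fun x y => by
      simp only [hz, coeff_ofFun, Subgroup.coe_mul, InvMemClass.coe_inv]
      exact isCen_idem (principalBlock M G) (x : G) (y : G),
    fun x => by simpa [hz] using blockCoeff_mem hM hB _⟩
  have h1 := omega_congr_one hM hθ hgood
  have h2 : omega (θ : H → ℂ) z = 0 := by
    rw [omega_apply, chiSum_apply]
    simp only [hz, coeff_ofFun]
    rw [h0, mul_zero]
  rw [h2, zero_sub] at h1
  apply sum_blockCoeff_not_ideal hM P H hPH
  have := ideal_neg h1
  simpa [hz] using this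

end Sylow

section Equiv

theorem centralChar_equiv {K : Type v} {H : Type u} [Group K] [Group H] [Finite H] (e : K ≃* H)
    (ψ : H → ℂ) (x : K) :
    centralChar (fun y => ψ (e y)) x = centralChar ψ (e x) := by
  have h : (Subgroup.centralizer ({x} : Set K)).index =
      (Subgroup.centralizer ({e x} : Set H)).index := by
    rw [← Subgroup.index_map_equiv (Subgroup.centralizer ({x} : Set K)) e]
    congr 1
    ext y
    simp only [Subgroup.mem_map, Subgroup.mem_centralizer_iff, Set.mem_singleton_iff, forall_eq]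
    refine ⟨?_, fun h => ⟨e.symm y, by simpa using congrArg e.symm h, e.apply_symm_apply y⟩⟩
    rintro ⟨z, hz, rfl⟩
    simpa using congrArg e hz
  simp only [centralChar, h, map_one]

/-- Transport of an irreducible character. -/
def comapIrr {K : Type v} {H : Type u} [Group K] [Group H] (e : K ≃* H) (χ : IrrCharacter H) :
    IrrCharacter K :=
  ⟨fun y => (χ : H → ℂ) (e y), isIrrCharacter_comap e.toMonoidHom e.surjective χ.2⟩

theorem comapIrr_mem {K : Type v} {H : Type u} [Group K] [Group H] [Finite H] (e : K ≃* H)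
    {χ : IrrCharacter H} (h : χ ∈ principalBlock M H) :
    comapIrr e χ ∈ principalBlock M K := fun g => by
  have h1 : centralChar (fun _ : K => (1 : ℂ)) g = centralChar (fun _ : H => (1 : ℂ)) (e g) :=
    centralChar_equiv e (fun _ => 1) g
  have h2 : centralChar ((comapIrr e χ : IrrCharacter K) : K → ℂ) g =
      centralChar (χ : H → ℂ) (e g) := centralChar_equiv e (χ : H → ℂ) g
  rw [h1, h2]
  exact h (e g)

end Equiv

section Normal

variable [Fintype G] (N : Subgroup G) [N.Normal] [Fintype N]

/-- Constituents of the restriction of a principal block character lie in the principal block. -/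
theorem constituent_mem_principal (hM : IsPModular p M) {χ : IrrCharacter G}
    (hχ : χ ∈ principalBlock M G) {θ : IrrCharacter N}
    (h : classInner (fun n : N => (χ : G → ℂ) n) (θ : N → ℂ) ≠ 0) :
    θ ∈ principalBlock M N := by
  have hb : IsPBlock M (principalBlock M N) := ⟨trivIrr N, rfl⟩
  have h1 : classInner (fun n : N => ((trivIrr G : IrrCharacter G) : G → ℂ) n)
      ((trivIrr N : IrrCharacter N) : N → ℂ) ≠ 0 := by
    have : classInner ((trivIrr N : IrrCharacter N) : N → ℂ)
      ((trivIrr N : IrrCharacter N) : N → ℂ) ≠ 0 := by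
      rw [classInner_irr_self (trivIrr N).2]; exact one_ne_zero
    exact this
  obtain ⟨g, hg⟩ := BrauerBlocksCovering.mem_orb_of_sameBlock N hM hb
    (show SameBlock M ((trivIrr G : IrrCharacter G) : G → ℂ) χ from hχ)
    (show trivIrr N ∈ principalBlock M N from sameBlock_refl hM _) h1 h
  have h2 := BrauerBlocksCovering.sameBlock_conjIrr N
    (show SameBlock M ((trivIrr N : IrrCharacter N) : N → ℂ)
      (BrauerBlocksCovering.conjIrr N θ g) from hg) g⁻¹
  rw [BrauerBlocksCovering.conjIrr_conjIrr] at h2
  simp only [mul_inv_cancel, BrauerBlocksCovering.conjIrr_one] at h2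
  exact h2

/-- If all `p`-regular elements lie in `N`, the characters over the principal block of `N` are in
the principal block. -/
theorem mem_principal_of_reg (hM : IsPModular p M) (hreg : ∀ g : G, ¬ p ∣ orderOf g → g ∈ N)
    {χ : IrrCharacter G} {θ : IrrCharacter N}
    (h : classInner (fun n : N => (χ : G → ℂ) n) (θ : N → ℂ) ≠ 0)
    (hθ : θ ∈ principalBlock M N) : χ ∈ principalBlock M G := by
  refine sameBlock_of_regular hM (χ := trivIrr G) (ψ := χ) fun g hg => ?_
  have hgN := hreg g hg
  have h1 : classInner (fun n : N => ((trivIrr G : IrrCharacter G) : G → ℂ) n)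
      ((trivIrr N : IrrCharacter N) : N → ℂ) ≠ 0 := by
    have : classInner ((trivIrr N : IrrCharacter N) : N → ℂ)
      ((trivIrr N : IrrCharacter N) : N → ℂ) ≠ 0 := by
      rw [classInner_irr_self (trivIrr N).2]; exact one_ne_zero
    exact this
  rw [← omega_classSum (irr_classFun (trivIrr G)), ← omega_classSum (irr_classFun χ),
    omega_eq_omega_res N χ θ h (isCen_classSum g) (BrauerBlocksCovering.classSum_supp N hgN),
    omega_eq_omega_res N (trivIrr G) (trivIrr N) h1 (isCen_classSum g)
      (BrauerBlocksCovering.classSum_supp N hgN)]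
  refine omega_sub_mem hM (show SameBlock M ((trivIrr N : IrrCharacter N) : N → ℂ) θ from hθ)
    (fun a c => ?_) fun a => ?_
  · simpa [coeff_res] using isCen_classSum g (a : G) (c : G)
  · simpa [coeff_res] using isInt_classSum hM g (a : G)

end Normal

section General

variable [Fintype G] [hp : Fact p.Prime]

/-- Inner products of characters are natural numbers, so their real parts add up. -/
theorem classInner_trans {K : Type u} [Group K] [Fintype K] {H : Type u} [Group H] [Fintype H]
    (f : K →* H) {φ : H → ℂ} (hφ : IsCharacter H φ) {θ : K → ℂ} (hθ : IsCharacter K θ)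
    (ψ : IrrCharacter H) (h1 : classInner φ (ψ : H → ℂ) ≠ 0)
    (h2 : classInner (fun k => (ψ : H → ℂ) (f k)) θ ≠ 0) :
    classInner (fun k => φ (f k)) θ ≠ 0 := by
  have hd := eq_sum_classInner (isClassFunction_of_isCharacter hφ)
  have hm : ∀ ξ : IrrCharacter H, ∃ n : ℕ, classInner φ (ξ : H → ℂ) *
      classInner (fun k => (ξ : H → ℂ) (f k)) θ = n := fun ξ => by
    obtain ⟨a, ha⟩ := classInner_isCharacter hφ (isCharacter_of_isIrrCharacter ξ.2)
    obtain ⟨b, hb⟩ := classInner_isCharacter
      (isCharacter_comap f (isCharacter_of_isIrrCharacter ξ.2)) hθ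
    exact ⟨a * b, by rw [ha, show classInner (fun k => (ξ : H → ℂ) (f k)) θ = _ from hb, Nat.cast_mul]⟩
  choose m hm using hm
  have h3 : classInner (fun k => φ (f k)) θ = ∑ ξ : IrrCharacter H, (m ξ : ℂ) := by
    simp only [← hm]
    conv_lhs => rw [hd]
    simp only [classInner, Finset.sum_apply, Pi.smul_apply, smul_eq_mul, Finset.sum_mul,
      Finset.mul_sum]
    rw [Finset.sum_comm]
    refine Finset.sum_congr rfl fun ξ _ => Finset.sum_congr rfl fun k _ => ?_
    refine Finset.sum_congr rfl fun x _ => ?_
    ring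
  intro h0
  rw [h3, ← Nat.cast_sum, Nat.cast_eq_zero, Finset.sum_eq_zero_iff] at h0
  have h4 := hm ψ
  rw [h0 ψ (Finset.mem_univ _), Nat.cast_zero] at h4
  exact mul_ne_zero h1 h2 h4

/-- Every character of the principal block of a normal subgroup lies under one of the principal
block. -/
theorem exists_over (hM : IsPModular p M) (N : Subgroup G) [N.Normal] [Fintype N]
    {θ : IrrCharacter N} (hθ : θ ∈ principalBlock M N) :
    ∃ χ ∈ principalBlock M G, classInner (fun n : N => (χ : G → ℂ) n) (θ : N → ℂ) ≠ 0 := by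
  obtain ⟨P⟩ : Nonempty (Sylow p G) := inferInstance
  set H : Subgroup G := N ⊔ (P : Subgroup G) with hH
  have hle : N ≤ H := le_sup_left
  let e : N.subgroupOf H ≃* N := Subgroup.subgroupOfEquivOfLe hle
  let θ' := comapIrr e θ
  have hθ' : θ' ∈ principalBlock M (N.subgroupOf H) := comapIrr_mem e hθ
  have hreg : ∀ h : H, ¬ p ∣ orderOf h → h ∈ N.subgroupOf H := by
    intro h hh
    obtain ⟨k, hk⟩ := IsPGroup.iff_card.mp P.isPGroup'
    have h1 : (N.subgroupOf H).index ∣ p ^ k := by
      rw [← hk, ← Subgroup.relIndex, hH]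
      rw [Subgroup.relIndex_sup_left]
      exact Subgroup.relIndex_dvd_card _ _
    obtain ⟨i, -, hi⟩ := (Nat.dvd_prime_pow hp.out).mp h1
    have h2 : h ^ (p ^ i) ∈ N.subgroupOf H := hi ▸ Subgroup.pow_index_mem (N.subgroupOf H) h
    obtain ⟨m, hm⟩ := exists_pow_eq_self_of_coprime
      (((hp.out.coprime_iff_not_dvd).2 hh).pow_left i)
    exact hm ▸ pow_mem h2 m
  obtain ⟨ψ, hψ⟩ : ∃ ψ : IrrCharacter H,
      classInner (fun n : N.subgroupOf H => (ψ : H → ℂ) n) (θ' : N.subgroupOf H → ℂ) ≠ 0 :=
    exists_over_irr (N.subgroupOf H) θ'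
  have hψB := mem_principal_of_reg (N.subgroupOf H) hM hreg hψ hθ'
  obtain ⟨χ, hχ, hcon⟩ := exists_over_of_sylow_le hM P H le_sup_right hψB
  refine ⟨χ, hχ, ?_⟩
  have h := classInner_trans (Subgroup.inclusion hle)
    (isCharacter_comap H.subtype (isCharacter_of_isIrrCharacter χ.2))
    (isCharacter_of_isIrrCharacter θ.2) ψ hcon ?_
  · exact h
  rw [← classInner_congr_equiv e] 
  exact hψ

end General

end Cfsg.Agent.PrincipalCover80
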