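import Mathlib
import Cfsg.Agent.Lib.PrincipalSylow80
import Cfsg.Agent.Lib.GaloisChar80

/-!
Parity counts in the principal `2`-block under a Galois twist of `2`-power order fixing odd
roots of unity.
-/

set_option autoImplicit false

namespace Cfsg.Agent.PrincipalParity80

open Cfsg Cfsg.Agent.BlockTheoryLocalRing Cfsg.Agent.BlockTheoryCentre
open Cfsg.Agent.BlockTheoryRotation Cfsg.Agent.BlockTheoryIdem
open Cfsg.Agent.CharBasic Cfsg.Agent.CharBasicOrth Cfsg.Agent.CharBasicDecomp
open Cfsg.Agent.PrincipalSylow80 Cfsg.Agent.GaloisChar80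
open scoped ComplexConjugate

attribute [local instance] Classical.propDecidable

universe u

variable {M : Ideal AlgInt} {G : Type u} [Group G] [Fintype G] {k : ℕ}

omit [Fintype G] in
theorem coprime_of_hyp [Finite G]
    (hk₁ : ∀ g : G, (∃ j : ℕ, orderOf g = 2 ^ j) → g ^ k = g ^ 3)
    (hk₂ : ∀ g : G, Odd (orderOf g) → g ^ k = g) : k.Coprime (Nat.card G) := by
  refine Nat.coprime_of_dvd fun q hq hqk hqG => ?_
  haveI := Fact.mk hq
  obtain ⟨x, hx⟩ := exists_prime_orderOf_dvd_card' q hqG
  have h0 : x ^ k = 1 := orderOf_dvd_iff_pow_eq_one.1 (hx ▸ hqk)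
  rcases hq.eq_two_or_odd' with rfl | hodd
  · rw [hk₁ x ⟨1, by simpa using hx⟩, ← orderOf_dvd_iff_pow_eq_one, hx] at h0
    norm_num at h0
  · rw [hk₂ x (hx ▸ hodd)] at h0
    rw [h0, orderOf_one] at hx
    exact hq.one_lt.ne hx

theorem twist_iterate_apply (hk : k.Coprime (Nat.card G)) (χ : IrrCharacter G) (n : ℕ) (g : G) :
    (((twist hk)^[n] χ : IrrCharacter G) : G → ℂ) g = (χ : G → ℂ) (g ^ k ^ n) := by
  induction n generalizing χ with
  | zero => simp
  | succ n ih =>
    rw [Function.iterate_succ_apply, ih, twist_apply, ← pow_mul, pow_succ]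

/-- The twist as a permutation of the irreducible characters. -/
noncomputable def twistPerm (hk : k.Coprime (Nat.card G)) : Equiv.Perm (IrrCharacter G) :=
  Equiv.ofBijective (twist hk) (Finite.injective_iff_bijective.1 (twist_injective hk))

theorem twistPerm_apply (hk : k.Coprime (Nat.card G)) (χ : IrrCharacter G) :
    twistPerm hk χ = twist hk χ := rfl

omit [Fintype G] in
theorem pow_pow_two [Finite G] (hk : k.Coprime (Nat.card G))
    (hk₂ : ∀ g : G, Odd (orderOf g) → g ^ k = g) (g : G) :
    g ^ k ^ 2 ^ Nat.card G = g := by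
  obtain ⟨x, y, hxy, hcomm, ⟨a, ha⟩, hy⟩ := exists_pPart Nat.prime_two g
  have hyk : ∀ n, y ^ k ^ n = y := by
    intro n
    induction n with
    | zero => simp
    | succ n ih =>
      rw [pow_succ, pow_mul, ih]
      exact hk₂ y (Nat.odd_iff.2 (Nat.two_dvd_ne_zero.1 hy))
  have hx : x ^ k ^ 2 ^ Nat.card G = x := by
    rcases a with _ | a
    · rw [pow_zero, orderOf_eq_one_iff] at ha
      simp [ha]
    · have hk2 : k.Coprime (2 ^ (a + 1)) := by
        rw [← ha]
        exact Nat.Coprime.coprime_dvd_right (orderOf_dvd_natCard x) hk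
      have hdvd : Nat.totient (2 ^ (a + 1)) ∣ 2 ^ Nat.card G := by
        rw [Nat.totient_prime_pow_succ Nat.prime_two, show 2 - 1 = 1 from rfl, mul_one]
        refine Nat.pow_dvd_pow 2 (le_of_lt ?_)
        calc a < 2 ^ a := Nat.lt_two_pow_self
          _ ≤ 2 ^ (a + 1) := Nat.pow_le_pow_right two_pos (Nat.le_succ a)
          _ ≤ Nat.card G := Nat.le_of_dvd Nat.card_pos (ha ▸ orderOf_dvd_natCard x)
      obtain ⟨m, hm⟩ := hdvd
      have h1 : k ^ 2 ^ Nat.card G ≡ 1 [MOD orderOf x] := by
        rw [ha, hm, pow_mul]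
        simpa using (Nat.ModEq.pow m (Nat.ModEq.pow_totient hk2))
      conv_rhs => rw [← pow_one x]
      exact pow_eq_pow_iff_modEq.2 h1
  rw [← hxy, hcomm.mul_pow, hyk, hx]

theorem twistPerm_pow (hk : k.Coprime (Nat.card G))
    (hk₂ : ∀ g : G, Odd (orderOf g) → g ^ k = g) :
    (twistPerm hk) ^ 2 ^ Nat.card G = 1 := by
  refine Equiv.ext fun χ => Subtype.ext (funext fun g => ?_)
  have h : ((twistPerm hk) ^ 2 ^ Nat.card G) χ = (twist hk)^[2 ^ Nat.card G] χ := by
    rw [← Equiv.Perm.iterate_eq_pow]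
    rfl
  rw [h, twist_iterate_apply, pow_pow_two hk hk₂]
  rfl

theorem twist_mem_iff (hk : k.Coprime (Nat.card G)) (χ : IrrCharacter G) :
    twist hk χ ∈ principalBlock M G ↔ χ ∈ principalBlock M G := by
  refine ⟨fun h g => ?_, twist_mem_principalBlock hk⟩
  have h1 := h ((powPerm hk).symm g)
  have h2 : ((powPerm hk).symm g) ^ k = g := (powPerm hk).apply_symm_apply g
  have h3 := centralizer_pow hk ((powPerm hk).symm g)
  rw [h2] at h3
  simpa [centralChar, twist_apply, h2, h3] using h1

theorem charDegree_twist (hk : k.Coprime (Nat.card G)) (χ : IrrCharacter G) :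
    charDegree (twist hk χ : G → ℂ) = charDegree (χ : G → ℂ) := by
  simp [charDegree, twist_apply]

/-- Odd degree characters of the principal block fixed by the twist. -/
def FixedOdd (M : Ideal AlgInt) (k : ℕ) (χ : IrrCharacter G) : Prop :=
  χ ∈ principalBlock M G ∧ Odd (charDegree (χ : G → ℂ)) ∧
    ∀ g : G, (χ : G → ℂ) (g ^ k) = (χ : G → ℂ) g

/-- An invariant natural weight summed over the principal block is congruent mod 2 to the sum
over the fixed odd-degree characters, when weighted by the degree. -/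
theorem sum_block_congr_fixed (hM : IsPModular 2 M) (hk : k.Coprime (Nat.card G))
    (hk₂ : ∀ g : G, Odd (orderOf g) → g ^ k = g) (m : IrrCharacter G → ℕ)
    (hm : ∀ χ, m (twist hk χ) = m χ) :
    (∑ χ : IrrCharacter G, if χ ∈ principalBlock M G then charDegree (χ : G → ℂ) * m χ else 0) % 2 =
      (∑ χ : IrrCharacter G, if FixedOdd M k χ then m χ else 0) % 2 := by
  set W : IrrCharacter G → ℕ := fun χ =>
    if χ ∈ principalBlock M G then charDegree (χ : G → ℂ) * m χ else 0 with hW
  set F : IrrCharacter G → ℕ := fun χ => if twist hk χ = χ then W χ else 0 with hF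
  set W' : IrrCharacter G → ℕ := fun χ => if twist hk χ = χ then 0 else W χ with hW'
  have hWinv : ∀ χ, W (twist hk χ) = W χ := fun χ => by
    simp only [hW, twist_mem_iff hk, charDegree_twist, hm]
  have hW'inv : ∀ χ, (W' (twistPerm hk χ) : ℂ) = W' χ := fun χ => by
    simp only [hW', twistPerm_apply, hWinv]
    exact congrArg _ (if_congr (twist_injective hk).eq_iff rfl rfl)
  have h1 : 2 ∣ ∑ χ, W' χ := by
    rw [← natCast_mem_iff hM]
    push_cast
    refine dvdPow_ideal hM one_ne_zero (dvdPow_sum_of_invariant hM (twistPerm hk)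
      (twistPerm_pow hk hk₂) _ hW'inv 1 Finset.univ (fun _ _ => Finset.mem_univ _) ?_)
    intro χ _ j hj
    rcases j with _ | j
    · have hfix : twist hk χ = χ := by simpa [twistPerm_apply] using hj
      simp only [hW', if_pos hfix, Nat.cast_zero]
      exact dvdPow_zero' hM _
    · rw [show 1 - (j + 1) = 0 by omega]
      exact ⟨(W' χ : ℂ), natCast_mem (localRing hM) _, by simp⟩
  have h2 : ∑ χ, W χ = ∑ χ, W' χ + ∑ χ, F χ := by
    rw [← Finset.sum_add_distrib]
    refine Finset.sum_congr rfl fun χ _ => ?_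
    simp only [hW', hF]
    split_ifs <;> simp
  have h3 : (∑ χ, F χ) % 2 = (∑ χ, if FixedOdd M k χ then m χ else 0) % 2 := by
    rw [Finset.sum_nat_mod, Finset.sum_nat_mod _ _ (fun χ => if FixedOdd M k χ then m χ else 0)]
    congr 1
    refine Finset.sum_congr rfl fun χ _ => ?_
    by_cases hfix : twist hk χ = χ
    · have hfix' : ∀ g, (χ : G → ℂ) (g ^ k) = (χ : G → ℂ) g := fun g => by
        rw [← twist_apply hk χ g, hfix]
      simp only [hF, hW, if_pos hfix]
      by_cases hB : χ ∈ principalBlock M G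
      · rcases Nat.even_or_odd (charDegree (χ : G → ℂ)) with he | ho
        · rw [if_pos hB, if_neg (fun h => Nat.not_odd_iff_even.2 he h.2.1)]
          obtain ⟨r, hr⟩ := he
          rw [hr, ← two_mul, mul_assoc, Nat.mul_mod_right]
        · rw [if_pos hB, if_pos ⟨hB, ho, hfix'⟩, Nat.mul_mod, Nat.odd_iff.1 ho, one_mul,
            Nat.mod_mod]
      · rw [if_neg hB, if_neg (fun h => hB h.1)]
    · have hn : ¬ FixedOdd M k χ := fun h => hfix (Subtype.ext (funext h.2.2))
      simp only [hF, if_neg hfix, if_neg hn]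
  rw [← h3, show (∑ χ : IrrCharacter G,
    if χ ∈ principalBlock M G then charDegree (χ : G → ℂ) * m χ else 0) = ∑ χ, W χ from rfl, h2]
  omega

theorem even_card_fixedOdd (hM : IsPModular 2 M) (hev : Even (Nat.card G))
    (hk : k.Coprime (Nat.card G)) (hk₂ : ∀ g : G, Odd (orderOf g) → g ^ k = g) :
    Even (Nat.card {χ : IrrCharacter G // FixedOdd M k χ}) := by
  have h0 := sum_block_congr_fixed hM hk hk₂ (fun χ => charDegree (χ : G → ℂ))
    (charDegree_twist hk)
  have h1 : 2 ∣ ∑ χ : IrrCharacter G,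
      if χ ∈ principalBlock M G then charDegree (χ : G → ℂ) * charDegree (χ : G → ℂ) else 0 := by
    rw [← natCast_mem_iff hM]
    have h2 : ((∑ χ : IrrCharacter G, if χ ∈ principalBlock M G then
        charDegree (χ : G → ℂ) * charDegree (χ : G → ℂ) else 0 : ℕ) : ℂ) =
        Nat.card G * blockCoeff (principalBlock M G) 1 := by
      rw [blockCoeff_eq_sum, ← mul_assoc,
        mul_inv_cancel₀ (Nat.cast_ne_zero.2 Nat.card_pos.ne'), one_mul]
      push_cast
      refine Finset.sum_congr rfl fun χ _ => ?_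
      simp only [irr_charDegree χ, map_natCast]
    rw [h2]
    exact ideal_mul_right hM ((natCast_mem_iff hM).2 hev.two_dvd)
      (blockCoeff_mem hM isPBlock_principal 1)
  rw [Nat.mod_eq_zero_of_dvd h1] at h0
  rw [Nat.even_iff, Nat.card_eq_fintype_card, Fintype.card_subtype, Finset.card_filter]
  refine Eq.trans ?_ h0.symm
  rw [Finset.sum_nat_mod, Finset.sum_nat_mod _ _
      (fun χ : IrrCharacter G => if FixedOdd M k χ then charDegree (χ : G → ℂ) else 0)]
  congr 1
  refine Finset.sum_congr rfl fun χ _ => ?_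
  split_ifs with h
  · exact (Nat.odd_iff.1 h.2.1).symm
  · rfl

/-- For a character of `P` of order at most two, some fixed odd-degree character of the principal
block contains it. -/
theorem exists_fixedOdd_over (hM : IsPModular 2 M) (hk : k.Coprime (Nat.card G))
    (hk₂ : ∀ g : G, Odd (orderOf g) → g ^ k = g) (P : Sylow 2 G) [Fintype (P : Subgroup G)]
    (ε : (P : Subgroup G) →* ℂˣ) (hε : ∀ x, ε x ^ 2 = 1) :
    ∃ χ : IrrCharacter G, FixedOdd M k χ ∧
      classInner (fun x : (P : Subgroup G) => (χ : G → ℂ) x) (fun x => (ε x : ℂ)) ≠ 0 := by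
  haveI : Fact (Nat.Prime 2) := ⟨Nat.prime_two⟩
  obtain ⟨c, hc, hsum⟩ := exists_principal_mult P hM ε
  have hkP : k.Coprime (Nat.card (P : Subgroup G)) :=
    Nat.Coprime.coprime_dvd_right (Subgroup.card_subgroup_dvd_card _) hk
  have hnat : ∀ χ : IrrCharacter G, ∃ m : ℕ,
      classInner (fun x : (P : Subgroup G) => (χ : G → ℂ) x) (fun x => (ε x : ℂ)) = m := fun χ =>
    classInner_isCharacter
      (isCharacter_comap (P : Subgroup G).subtype (isCharacter_of_isIrrCharacter χ.2))
      (isCharacter_linear ε)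
  choose m hm using hnat
  have hεk : ∀ x, ε (x ^ k) = ε x := by
    intro x
    rcases Nat.eq_zero_or_pos (Nat.card (P : Subgroup G) - 1) with h1 | h1
    · have : Subsingleton (P : Subgroup G) := by
        rw [← Finite.card_le_one_iff_subsingleton]; omega
      rw [Subsingleton.elim (x ^ k) x]
    · obtain ⟨j, hj⟩ := IsPGroup.iff_card.1 P.2
      have hodd : Odd k := by
        rw [hj] at hkP h1
        rcases j with _ | j
        · simp at h1
        · exact Nat.coprime_two_right.1 (Nat.Coprime.coprime_dvd_right (dvd_pow_self 2 j.succ_ne_zero) hkP)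
      obtain ⟨r, hr⟩ := hodd
      rw [map_pow, hr, pow_succ, pow_mul, hε, one_pow, one_mul]
  have hminv : ∀ χ, m (twist hk χ) = m χ := by
    intro χ
    have h1 : classInner (fun x : (P : Subgroup G) => (twist hk χ : G → ℂ) x)
        (fun x => (ε x : ℂ)) =
        classInner (fun x : (P : Subgroup G) => (χ : G → ℂ) x) (fun x => (ε x : ℂ)) := by
      simp only [classInner]
      congr 1
      conv_rhs => rw [← Equiv.sum_comp (powPerm hkP)]
      refine Finset.sum_congr rfl fun x _ => ?_
      rw [powPerm_apply, twist_apply, hεk, SubmonoidClass.coe_pow]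
    rw [hm, hm] at h1
    exact_mod_cast h1
  have h0 := sum_block_congr_fixed hM hk hk₂ m hminv
  have h2 : (∑ χ : IrrCharacter G,
      if χ ∈ principalBlock M G then charDegree (χ : G → ℂ) * m χ else 0) = c := by
    have : ((∑ χ : IrrCharacter G,
      if χ ∈ principalBlock M G then charDegree (χ : G → ℂ) * m χ else 0 : ℕ) : ℂ) = (c : ℂ) := by
      rw [← hsum]
      push_cast
      refine Finset.sum_congr rfl fun χ _ => ?_
      simp only [hm, irr_charDegree χ]
    exact_mod_cast this
  rw [h2, Nat.two_dvd_ne_zero.1 hc] at h0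
  by_contra hno
  push Not at hno
  rw [Finset.sum_eq_zero] at h0
  · simp at h0
  · intro χ _
    split_ifs with h
    · have h3 := hno χ h
      rw [hm] at h3
      exact_mod_cast h3
    · rfl

/-- If `G` has a normal `p`-complement, the characters of the principal block are trivial on
it. -/
theorem kernel_of_principal {p : ℕ} (hM : IsPModular p M) (K : Subgroup G) [K.Normal]
    (hK : ¬ p ∣ Nat.card K) {χ : IrrCharacter G} (hχ : χ ∈ principalBlock M G) (x : G)
    (hx : x ∈ K) : (χ : G → ℂ) x = (χ : G → ℂ) 1 := by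
  let z : MonoidAlgebra ℂ G := ofFun fun g => if g ∈ K then (Nat.card K : ℂ)⁻¹ else 0
  have hz : Good M z := by
    refine ⟨fun g h => ?_, fun g => ?_⟩
    · show (if h * g * h⁻¹ ∈ K then _ else _) = if g ∈ K then _ else _
      exact if_congr ⟨fun hm => by
        have := (inferInstance : K.Normal).conj_mem _ hm h⁻¹
        simpa [mul_assoc] using this, fun hm => (inferInstance : K.Normal).conj_mem _ hm h⟩ rfl rfl
    · show MemLocalRing M (if g ∈ K then _ else _)
      split_ifs
      exacts [inv_natCast_mem hM hK, (localRing hM).zero_mem]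
  have hzz : z * z = z := by
    refine MonoidAlgebra.ext ?_
    ext g
    rw [coeff_mul_eq]
    simp only [z, coeff_ofFun]
    have hcard : (Finset.univ.filter fun y : G => y ∈ K).card = Nat.card K := by
      rw [Nat.card_eq_fintype_card, Fintype.card_subtype]
    by_cases hg : g ∈ K
    · rw [if_pos hg, Finset.sum_congr rfl (fun y _ => show
        (if y ∈ K then (Nat.card K : ℂ)⁻¹ else 0) * (if y⁻¹ * g ∈ K then (Nat.card K : ℂ)⁻¹ else 0) =
          if y ∈ K then (Nat.card K : ℂ)⁻¹ * (Nat.card K : ℂ)⁻¹ else 0 from by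
        by_cases hy : y ∈ K <;> simp [hy, K.mul_mem, hg]), ← Finset.sum_filter, Finset.sum_const,
        hcard, nsmul_eq_mul, ← mul_assoc, mul_inv_cancel₀ (Nat.cast_ne_zero.2 Nat.card_pos.ne'),
        one_mul]
    · rw [if_neg hg]
      refine Finset.sum_eq_zero fun y _ => ?_
      by_cases hy : y ∈ K
      · rw [if_neg (show ¬ (y⁻¹ * g ∈ K) from fun h => hg (mul_inv_cancel_left y g ▸ K.mul_mem hy h)), mul_zero]
      · rw [if_neg hy, zero_mul]
  have hω : ∀ ψ : G → ℂ, omega ψ z = (ψ 1)⁻¹ * ((Nat.card K : ℂ)⁻¹ * ∑ y : K, ψ y) := by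
    intro ψ
    rw [omega_apply, chiSum_apply]
    congr 1
    simp only [z, coeff_ofFun, ite_mul, zero_mul]
    rw [← Finset.sum_filter, Finset.mul_sum,
      Finset.sum_subtype (Finset.univ.filter fun y => y ∈ K) (p := fun y => y ∈ K) (by simp)]
  have h1 : omega (χ : G → ℂ) z = 1 := by
    have hid := congrArg (omega (χ : G → ℂ)) hzz
    rw [omega_mul χ hz.1] at hid
    have hsb : SameBlock M (trivIrr G : G → ℂ) (χ : G → ℂ) := hχ
    have hcong := omega_sub_mem hM hsb hz.1 hz.2
    have htriv : omega (trivIrr G : G → ℂ) z = 1 := by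
      rw [hω]
      simp [trivIrr, ← Nat.card_eq_fintype_card]
    rw [htriv] at hcong
    rcases mul_eq_zero.1 (show omega (χ : G → ℂ) z * (omega (χ : G → ℂ) z - 1) = 0 by
      rw [mul_sub, hid, mul_one, sub_self]) with h | h
    · rw [h, sub_zero] at hcong
      exact absurd hcong (one_not_ideal hM)
    · exact sub_eq_zero.1 h
  rw [hω] at h1
  obtain ⟨d, hd, hd1⟩ := isIrrCharacter_apply_one χ.2
  have hK0 : (Nat.card K : ℂ) ≠ 0 := Nat.cast_ne_zero.2 Nat.card_pos.ne'
  have hd0 : (d : ℂ) ≠ 0 := Nat.cast_ne_zero.2 hd.ne'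
  have hsum : ∑ y : K, (χ : G → ℂ) y = ∑ _y : K, (d : ℂ) := by
    rw [Finset.sum_const, Finset.card_univ, ← Nat.card_eq_fintype_card, nsmul_eq_mul]
    rw [hd1] at h1
    field_simp at h1
    linear_combination h1
  have hre : ∀ y : K, ((χ : G → ℂ) y).re ≤ (d : ℝ) := fun y =>
    (Complex.re_le_norm _).trans (by
      simpa [hd1] using isCharacter_norm_le (isCharacter_of_isIrrCharacter χ.2) (y : G))
  have heq := (Finset.sum_eq_sum_iff_of_le (fun y _ => hre y)).1
    (by simpa using congrArg Complex.re hsum) ⟨x, hx⟩ (Finset.mem_univ _)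
  have hn := isCharacter_norm_le (isCharacter_of_isIrrCharacter χ.2) x
  rw [hd1, Complex.natCast_re] at hn
  have him : ((χ : G → ℂ) x).im = 0 := Complex.abs_re_eq_norm.1 (le_antisymm
    (Complex.abs_re_le_norm _) (hn.trans (by rw [heq]; exact le_abs_self _)))
  rw [hd1]
  exact Complex.ext (by simpa using heq) (by simpa using him)

end Cfsg.Agent.PrincipalParity80
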