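/-
The principal block and quotients by normal subgroups of order prime to `p`; one block for
constrained groups.
-/
import Mathlib
import Cfsg.Agent.Lib.PrincipalCover80
import Cfsg.Agent.Lib.BlockNormalP81
import Cfsg.Agent.Lib.CharKernel
import Cfsg.Agent.Lib.HallSolvable
import Cfsg.Agent.Lib.ComponentsCores
import Cfsg.Agent.Lib.PrincipalParity80

set_option autoImplicit false

namespace Cfsg.Agent.PrincipalQuot80

open Cfsg Cfsg.Agent.BlockTheoryLocalRing Cfsg.Agent.BlockTheoryCentre Cfsg.Agent.BlockTheoryIdem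
open Cfsg.Agent.CharBasic Cfsg.Agent.CharBasicOrth Cfsg.Agent.CharBasicDecomp
open Cfsg.Agent.PrincipalSylow80

attribute [local instance] Classical.propDecidable

universe u

variable {p : ℕ} {M : Ideal AlgInt} {G : Type u} [Group G]

section Infl

variable [Finite G] (N : Subgroup G) [N.Normal]

/-- Inflation of a character of the quotient. -/
noncomputable def infl (ψ : IrrCharacter (G ⧸ N)) : IrrCharacter G :=
  ⟨fun g => (ψ : G ⧸ N → ℂ) (g : G ⧸ N),
    isIrrCharacter_comap (QuotientGroup.mk' N) (QuotientGroup.mk'_surjective N) ψ.2⟩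

omit [Finite G] in
theorem infl_apply (ψ : IrrCharacter (G ⧸ N)) (g : G) :
    (infl N ψ : G → ℂ) g = (ψ : G ⧸ N → ℂ) (g : G ⧸ N) := rfl

omit [Finite G] in
theorem infl_injective : Function.Injective (infl N) := fun ψ φ h =>
  Subtype.ext (funext fun a => by
    obtain ⟨g, rfl⟩ := QuotientGroup.mk_surjective a
    exact congrFun (congrArg Subtype.val h) g)

/-- The preimage of the centralizer of the image of `g`. -/
def cenPre (g : G) : Subgroup G :=
  (Subgroup.centralizer ({(g : G ⧸ N)} : Set (G ⧸ N))).comap (QuotientGroup.mk' N)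

omit [Finite G] in
theorem centralizer_le_cenPre (g : G) :
    Subgroup.centralizer ({g} : Set G) ≤ cenPre N g := fun x hx => by
  rw [cenPre, Subgroup.mem_comap, Subgroup.mem_centralizer_singleton_iff, QuotientGroup.mk'_apply,
    ← QuotientGroup.mk_mul, ← QuotientGroup.mk_mul, Subgroup.mem_centralizer_singleton_iff.1 hx]

omit [Finite G] in
theorem index_centralizer_ratio (g : G) :
    (Subgroup.centralizer ({g} : Set G)).index =
      (Subgroup.centralizer ({g} : Set G)).relIndex (cenPre N g) *
        (Subgroup.centralizer ({(g : G ⧸ N)} : Set (G ⧸ N))).index := by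
  rw [← Subgroup.relIndex_mul_index (centralizer_le_cenPre N g), cenPre,
    Subgroup.index_comap_of_surjective _ (QuotientGroup.mk'_surjective N)]

theorem centralChar_infl (ψ : IrrCharacter (G ⧸ N)) (g : G) :
    centralChar (infl N ψ : G → ℂ) g =
      ((Subgroup.centralizer ({g} : Set G)).relIndex (cenPre N g) : ℂ) *
        centralChar (ψ : G ⧸ N → ℂ) (g : G ⧸ N) := by
  rw [centralChar, centralChar, index_centralizer_ratio N g, infl_apply, infl_apply,
    QuotientGroup.mk_one, Nat.cast_mul]
  ring

theorem centralChar_one_ratio (g : G) :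
    centralChar (fun _ : G => (1 : ℂ)) g =
      ((Subgroup.centralizer ({g} : Set G)).relIndex (cenPre N g) : ℂ) *
        centralChar (fun _ : G ⧸ N => (1 : ℂ)) (g : G ⧸ N) := by
  rw [centralChar, centralChar, index_centralizer_ratio N g, Nat.cast_mul]
  ring

/-- Each element of the quotient lifts to one whose centralizer index has the same `p`-part. -/
theorem exists_good_lift [hp : Fact p.Prime] (hN : ¬ p ∣ Nat.card N) (g : G) :
    ∃ g' : G, (g' : G ⧸ N) = (g : G ⧸ N) ∧
      ¬ p ∣ (Subgroup.centralizer ({g'} : Set G)).relIndex (cenPre N g') := by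
  have := Fintype.ofFinite G
  obtain ⟨S⟩ : Nonempty (Sylow p (cenPre N g)) := inferInstance
  let X := {x : G // (x : G ⧸ N) = (g : G ⧸ N)}
  have hcoset : ∀ (s : (S : Subgroup (cenPre N g))) (x : X),
      ((((s : cenPre N g) : G) * x.1 * ((s : cenPre N g) : G)⁻¹ : G) : G ⧸ N) = (g : G ⧸ N) := by
    intro s x
    have hs := Subgroup.mem_centralizer_singleton_iff.1 (Subgroup.mem_comap.1 (s : cenPre N g).2)
    rw [QuotientGroup.mk'_apply] at hs
    rw [QuotientGroup.mk_mul, QuotientGroup.mk_mul, QuotientGroup.mk_inv, x.2, hs,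
      mul_inv_cancel_right]
  letI : MulAction (S : Subgroup (cenPre N g)) X :=
    { smul := fun s x => ⟨_, hcoset s x⟩
      one_smul := fun x => Subtype.ext (show (1 : G) * x.1 * (1 : G)⁻¹ = x.1 by group)
      mul_smul := fun s t x => Subtype.ext (by
        show (((s : cenPre N g) : G) * ((t : cenPre N g) : G)) * x.1 *
            (((s : cenPre N g) : G) * ((t : cenPre N g) : G))⁻¹ =
          ((s : cenPre N g) : G) * (((t : cenPre N g) : G) * x.1 * ((t : cenPre N g) : G)⁻¹) *
            ((s : cenPre N g) : G)⁻¹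
        group) }
  have hX : Nat.card X = Nat.card N :=
    Nat.card_congr
      { toFun := fun x => ⟨g⁻¹ * x.1, QuotientGroup.eq.1 x.2.symm⟩
        invFun := fun n => ⟨g * n.1, by simp [(QuotientGroup.eq_one_iff n.1).2 n.2]⟩
        left_inv := fun x => by simp
        right_inv := fun n => by simp }
  obtain ⟨x, hx⟩ := S.isPGroup'.nonempty_fixed_point_of_prime_not_dvd_card X (hX ▸ hN)
  refine ⟨x.1, x.2, ?_⟩
  have hpre : cenPre N x.1 = cenPre N g := by rw [cenPre, cenPre, x.2]
  rw [hpre]
  intro hd
  refine S.not_dvd_index (hd.trans (Subgroup.index_dvd_of_le fun s hs => ?_))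
  rw [Subgroup.mem_subgroupOf, Subgroup.mem_centralizer_singleton_iff]
  have := congrArg Subtype.val (hx ⟨s, hs⟩)
  exact mul_inv_eq_iff_eq_mul.1 this

theorem infl_mem (hM : IsPModular p M) {ψ : IrrCharacter (G ⧸ N)}
    (h : ψ ∈ principalBlock M (G ⧸ N)) : infl N ψ ∈ principalBlock M G := fun g => by
  rw [centralChar_one_ratio N g, centralChar_infl, ← mul_sub]
  exact ideal_mul_left hM (natCast_mem (localRing hM) _) (h _)

theorem infl_mem_iff [hp : Fact p.Prime] (hM : IsPModular p M) (hN : ¬ p ∣ Nat.card N)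
    {ψ : IrrCharacter (G ⧸ N)} :
    infl N ψ ∈ principalBlock M G ↔ ψ ∈ principalBlock M (G ⧸ N) := by
  refine ⟨fun h a => ?_, infl_mem N hM⟩
  obtain ⟨g, rfl⟩ := QuotientGroup.mk_surjective a
  obtain ⟨g', hg', hr⟩ := exists_good_lift N hN g
  have h1 := h g'
  rw [centralChar_one_ratio N g', centralChar_infl, ← mul_sub, hg'] at h1
  have h2 := ideal_mul_left hM (inv_natCast_mem hM hr) h1
  rwa [← mul_assoc, inv_mul_cancel₀ (Nat.cast_ne_zero.mpr fun e => hr (by rw [e]; exact dvd_zero p)),
    one_mul] at h2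

/-- The principal block of the quotient is that of the group. -/
theorem exists_infl_eq [hp : Fact p.Prime] (hM : IsPModular p M) (hN : ¬ p ∣ Nat.card N)
    {χ : IrrCharacter G} (hχ : χ ∈ principalBlock M G) :
    ∃ ψ ∈ principalBlock M (G ⧸ N), infl N ψ = χ := by
  have := Fintype.ofFinite G
  obtain ⟨ψ, hψ⟩ := CharKernel.exists_quot_irr N χ
    fun n hn => PrincipalParity80.kernel_of_principal hM N hN hχ n hn
  have he : infl N ψ = χ := Subtype.ext (funext fun g => (hψ g).symm)
  exact ⟨ψ, (infl_mem_iff N hM hN).1 (he ▸ hχ), he⟩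

end Infl

/-- A group with a self-centralising normal `p`-subgroup has one block. -/
theorem mem_principal_of_constrained [hp : Fact p.Prime] [Fintype G] (hM : IsPModular p M)
    (O : Subgroup G) [O.Normal] (hO : IsPGroup p O) (hC : Subgroup.centralizer (O : Set G) ≤ O)
    (χ : IrrCharacter G) : χ ∈ principalBlock M G := by
  have hB : IsPBlock M (principalBlock M G) := ⟨trivIrr G, rfl⟩
  have heq : idem (principalBlock M G) =
      blockCoeff (principalBlock M G) 1 • (1 : MonoidAlgebra ℂ G) := by
    refine MonoidAlgebra.ext ?_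
    ext g
    rw [coeff_idem, MonoidAlgebra.coeff_smul, Finsupp.smul_apply, smul_eq_mul,
      MonoidAlgebra.one_def, MonoidAlgebra.coeff_single, Finsupp.single_apply]
    by_cases hg : g = 1
    · subst hg; simp
    rw [if_neg (Ne.symm hg), mul_zero]
    by_cases hgO : g ∈ O
    · refine blockCoeff_eq_zero_of_dvd hM hB ?_
      obtain ⟨j, hj⟩ := (IsPGroup.iff_orderOf.1 hO) ⟨g, hgO⟩
      rw [Subgroup.orderOf_mk] at hj
      rw [hj]
      refine dvd_pow_self p fun e => hg ?_
      rw [e, pow_zero, orderOf_eq_one_iff] at hj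
      exact hj
    · exact BlockNormalP81.blockCoeff_eq_zero hM O hO hB fun h => hgO (hC h)
  by_contra hχ
  have h1 := omega_idem (principalBlock M G) (trivIrr G)
  have h2 := omega_idem (principalBlock M G) χ
  rw [heq, map_smul, omega_one, if_pos (show trivIrr G ∈ principalBlock M G from
    sameBlock_refl hM _)] at h1
  rw [heq, map_smul, omega_one, if_neg hχ] at h2
  exact one_ne_zero (h1.symm.trans h2)

/-- The principal block of a `p`-solvable group. -/
theorem mem_principal_iff_of_pSolvable [hp : Fact p.Prime] [Finite G] (hM : IsPModular p M)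
    (hG : IsPSolvable p G) (χ : IrrCharacter G) :
    χ ∈ principalBlock M G ↔ ∀ x ∈ pPrimeCore p G, (χ : G → ℂ) x = (χ : G → ℂ) 1 := by
  have := Fintype.ofFinite G
  have hK : ¬ p ∣ Nat.card (pPrimeCore p G) := fun h =>
    hp.out.ne_one (Nat.eq_one_of_dvd_coprimes (HallCore.coprime_card_pPrimeCore p G) h dvd_rfl)
  haveI := HallCore.pPrimeCore_normal p G
  refine ⟨fun hχ x hx => PrincipalParity80.kernel_of_principal hM _ hK hχ x hx, fun h => ?_⟩
  obtain ⟨ψ, hψ⟩ := CharKernel.exists_quot_irr (pPrimeCore p G) χ h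
  haveI : Fintype (G ⧸ pPrimeCore p G) := Fintype.ofFinite _
  have hψB : ψ ∈ principalBlock M (G ⧸ pPrimeCore p G) := by
    haveI := HallCore.pCore_normal p (G ⧸ pPrimeCore p G)
    exact mem_principal_of_constrained hM (pCore p (G ⧸ pPrimeCore p G))
      (ComponentsCores.isPGroup_pCore p) (HallSolvable.centralizer_pCore_le
        (HallSolvable.isPSolvable_quotient hG _) (HallCore.pPrimeCore_quotient_self p G)) ψ
  rw [show χ = infl (pPrimeCore p G) ψ from Subtype.ext (funext hψ)]
  exact infl_mem _ hM hψB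

end Cfsg.Agent.PrincipalQuot80
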