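import Mathlib
import Cfsg.Agent.Lib.ConstDiff2Basic
import Cfsg.Agent.Lib.BlockCentral81
import Cfsg.Agent.Lib.PrincipalQuot80

/-!
# A central involution separated by a sign character

If `t` is a central involution and `μ` a character with values `±1` and `μ t = -1`, the principal
2-block consists of the inflations from `C ⧸ ⟨t⟩` and their products with `μ`.
-/

set_option autoImplicit false
set_option linter.style.haveILetI false
set_option linter.unusedSectionVars false

open scoped ComplexConjugate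

namespace Cfsg.Agent.ConstDiff2Double

open Cfsg BlockTheoryLocalRing BlockTheoryCentre BlockTheoryIdem
open Cfsg.Agent.BlockPrincipal81 (oneChar)
open Cfsg.Agent.ConstDiff2Basic
open Cfsg.Agent.PrincipalQuot80 (infl infl_apply)

attribute [local instance] Classical.propDecidable

universe u

variable {C : Type u} [Group C] [Fintype C]

/-- A sign character separating `t`. -/
structure Split (t : C) (μ : C →* ℂˣ) : Prop where
  cent : t ∈ Subgroup.center C
  ord : orderOf t = 2
  neg : (μ t : ℂ) = -1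
  sq : ∀ c, μ c * μ c = 1

theorem exists_split (S : Sylow 2 C) (hel : Cfsg.IsElementaryAbelian 2 (S : Subgroup C)) {t : C}
    (htS : t ∈ (S : Subgroup C)) (ht : orderOf t = 2) (hc : t ∈ Subgroup.center C) :
    ∃ μ : C →* ℂˣ, Split t μ := by
  haveI := Fact.mk Nat.prime_two
  haveI : IsMulCommutative (S : Subgroup C) := hel.1
  letI : CommGroup (S : Subgroup C) :=
    { (inferInstance : Group (S : Subgroup C)) with mul_comm := fun a b => mul_comm' a b }
  have ht1 : (⟨t, htS⟩ : (S : Subgroup C)) ≠ 1 := fun e => by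
    have : t = 1 := congrArg Subtype.val e
    rw [this, orderOf_one] at ht
    omega
  obtain ⟨φ, hφ⟩ := CommGroup.exists_apply_ne_one_of_hasEnoughRootsOfUnity (S : Subgroup C) ℂ ht1
  have hφ2 : ∀ s, φ s * φ s = 1 := fun s => by
    rw [← map_mul, ← pow_two, show s ^ 2 = 1 from Subtype.ext (hel.2 s s.2), map_one]
  haveI : (S : Subgroup C).FiniteIndex := inferInstance
  let sq : ℂˣ →* ℂˣ := powMonoidHom 2
  refine ⟨MonoidHom.transfer φ, hc, ht, ?_, fun c => ?_⟩
  · have key : ∀ (k : ℕ) (g₀ : C), g₀⁻¹ * t ^ k * g₀ ∈ (S : Subgroup C) →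
        g₀⁻¹ * t ^ k * g₀ = t ^ k := fun k g₀ _ => by
      rw [mul_assoc, ← Subgroup.mem_center_iff.1 (pow_mem hc k) g₀, inv_mul_cancel_left]
    rw [MonoidHom.transfer_eq_pow φ t key]
    obtain ⟨j, hj⟩ : Odd (S : Subgroup C).index :=
      Nat.not_even_iff_odd.1 fun h => S.not_dvd_index (even_iff_two_dvd.1 h)
    have hpow : (⟨t ^ (S : Subgroup C).index, MonoidHom.transfer_eq_pow_aux t key⟩ :
        (S : Subgroup C)) = ⟨t, htS⟩ := Subtype.ext (by
      show t ^ (S : Subgroup C).index = t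
      rw [hj, pow_succ, pow_mul, ← ht, pow_orderOf_eq_one, one_pow, one_mul])
    rw [hpow]
    have h2 : (φ ⟨t, htS⟩ : ℂ) * (φ ⟨t, htS⟩ : ℂ) = 1 := by
      rw [← Units.val_mul, hφ2, Units.val_one]
    rcases mul_self_eq_one_iff.1 h2 with h | h
    · exact absurd (Units.val_eq_one.1 h) hφ
    · exact h
  · rw [← pow_two]
    show sq (MonoidHom.transfer φ c) = 1
    have hcomp : sq.comp φ = 1 := MonoidHom.ext fun s => by
      show φ s ^ 2 = 1
      rw [pow_two, hφ2]
    rw [MonoidHom.transfer_def φ default, Subgroup.leftTransversals.diff]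
    simp only [map_prod]
    exact Finset.prod_eq_one fun q _ => DFunLike.congr_fun hcomp _

variable {M : Ideal AlgInt} {t : C} {μ : C →* ℂˣ} (h : Split t μ) [(Subgroup.zpowers t).Normal]
include h

omit [Fintype C] [(Subgroup.zpowers t).Normal] in
theorem eq_of_mem {z : C} (hz : z ∈ Subgroup.zpowers t) (hμ : μ z = 1) : z = 1 := by
  obtain ⟨j, rfl⟩ := Subgroup.mem_zpowers_iff.1 hz
  rcases Int.emod_two_eq_zero_or_one j with h2 | h2
  · obtain ⟨i, rfl⟩ := Int.dvd_of_emod_eq_zero h2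
    rw [zpow_mul, zpow_ofNat, ← h.ord, pow_orderOf_eq_one, one_zpow]
  · exfalso
    obtain ⟨i, rfl⟩ : ∃ i, j = 2 * i + 1 := ⟨j / 2, by omega⟩
    rw [zpow_add, zpow_mul, zpow_ofNat, ← h.ord, pow_orderOf_eq_one, one_zpow, zpow_one, one_mul] at hμ
    have := congrArg (Units.val) hμ
    rw [h.neg, Units.val_one] at this
    norm_num at this

omit [Fintype C] [(Subgroup.zpowers t).Normal] in
theorem mu_reg {w : C} (hw : ¬ 2 ∣ orderOf w) : μ w = 1 := by
  obtain ⟨j, hj⟩ : Odd (orderOf w) := Nat.not_even_iff_odd.1 fun h => hw (even_iff_two_dvd.1 h)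
  have h1 : μ w ^ orderOf w = 1 := by rw [← map_pow, pow_orderOf_eq_one, map_one]
  rwa [hj, pow_succ, pow_mul, pow_two, h.sq w, one_pow, one_mul] at h1

/-- Product of an inflation with `μ`. -/
noncomputable def tw (_h : Split t μ) (θ : IrrCharacter (C ⧸ Subgroup.zpowers t)) : IrrCharacter C :=
  ⟨fun c => (infl (Subgroup.zpowers t) θ : C → ℂ) c * (μ c : ℂ),
    CharBasicDecomp.isIrrCharacter_mul_linear (infl (Subgroup.zpowers t) θ).2 μ⟩

theorem tw_apply (θ : IrrCharacter (C ⧸ Subgroup.zpowers t)) (c : C) :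
    (tw h θ : C → ℂ) c = (θ : C ⧸ Subgroup.zpowers t → ℂ) c * (μ c : ℂ) := rfl

theorem infl_at (θ : IrrCharacter (C ⧸ Subgroup.zpowers t)) :
    (infl (Subgroup.zpowers t) θ : C → ℂ) t = (infl (Subgroup.zpowers t) θ : C → ℂ) 1 := by
  rw [infl_apply, infl_apply, (QuotientGroup.eq_one_iff t).2 (Subgroup.mem_zpowers t),
    QuotientGroup.mk_one]

theorem tw_at (θ : IrrCharacter (C ⧸ Subgroup.zpowers t)) :
    (tw h θ : C → ℂ) t = -(tw h θ : C → ℂ) 1 := by
  rw [tw_apply, tw_apply, (QuotientGroup.eq_one_iff t).2 (Subgroup.mem_zpowers t),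
    QuotientGroup.mk_one, h.neg, map_one, Units.val_one]
  ring

theorem exists_eq (ψ : IrrCharacter C) :
    ∃ θ : IrrCharacter (C ⧸ Subgroup.zpowers t),
      ψ = infl (Subgroup.zpowers t) θ ∨ ψ = tw h θ := by
  have key : ∀ φ : IrrCharacter C, (φ : C → ℂ) t = (φ : C → ℂ) 1 →
      ∃ θ, φ = infl (Subgroup.zpowers t) θ := by
    intro φ hφ
    obtain ⟨θ, hθ⟩ := CharKernel.exists_quot_irr (Subgroup.zpowers t) φ fun n hn => by
      have : t ∈ CharKernel.irrKer φ := CharKernel.mem_irrKer.2 hφ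
      exact CharKernel.mem_irrKer.1 (Subgroup.zpowers_le.2 this hn)
    exact ⟨θ, Subtype.ext (funext hθ)⟩
  have h1 : (ψ : C → ℂ) 1 ≠ 0 := CharAverage.irr_one_ne_zero ψ
  have h2 := BlockCentral81.char_center_mul ψ h.cent t
  rw [← pow_two, ← h.ord, pow_orderOf_eq_one] at h2
  have h3 : ((ψ : C → ℂ) t - (ψ : C → ℂ) 1) * ((ψ : C → ℂ) t + (ψ : C → ℂ) 1) = 0 := by
    field_simp at h2
    linear_combination -h2
  rcases mul_eq_zero.1 h3 with h4 | h4
  · obtain ⟨θ, hθ⟩ := key ψ (sub_eq_zero.1 h4)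
    exact ⟨θ, Or.inl hθ⟩
  · obtain ⟨θ, hθ⟩ := key ⟨fun c => (ψ : C → ℂ) c * (μ c : ℂ),
      CharBasicDecomp.isIrrCharacter_mul_linear ψ.2 μ⟩ (by
        show (ψ : C → ℂ) t * (μ t : ℂ) = (ψ : C → ℂ) 1 * (μ 1 : ℂ)
        rw [h.neg, map_one, Units.val_one]
        linear_combination -h4)
    refine ⟨θ, Or.inr (Subtype.ext (funext fun c => ?_))⟩
    show (ψ : C → ℂ) c = (infl (Subgroup.zpowers t) θ : C → ℂ) c * (μ c : ℂ)
    rw [← hθ]
    show (ψ : C → ℂ) c = (ψ : C → ℂ) c * (μ c : ℂ) * (μ c : ℂ)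
    rw [mul_assoc, ← Units.val_mul, h.sq, Units.val_one, mul_one]

theorem relIndex_eq_one (c : C) :
    (Subgroup.centralizer ({c} : Set C)).relIndex (PrincipalQuot80.cenPre (Subgroup.zpowers t) c) = 1 := by
  rw [Subgroup.relIndex_eq_one]
  intro g hg
  rw [PrincipalQuot80.cenPre, Subgroup.mem_comap, Subgroup.mem_centralizer_singleton_iff,
    QuotientGroup.mk'_apply, ← QuotientGroup.mk_mul, ← QuotientGroup.mk_mul, QuotientGroup.eq] at hg
  have h1 := eq_of_mem h hg (by rw [map_mul, map_inv, map_mul, map_mul, mul_comm (μ g) (μ c),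
    inv_mul_cancel])
  exact Subgroup.mem_centralizer_singleton_iff.2 (inv_mul_eq_one.1 h1)

theorem mu_congr (hM : IsPModular 2 M) (c : C) : MemLocalIdeal M ((μ c : ℂ) - 1) := by
  have h2 : (μ c : ℂ) * (μ c : ℂ) = 1 := by rw [← Units.val_mul, h.sq, Units.val_one]
  rcases mul_self_eq_one_iff.1 h2 with e | e <;> rw [e]
  · rw [sub_self]; exact ideal_zero hM
  · rw [show (-1 : ℂ) - 1 = -((2 : ℕ) : ℂ) by norm_num]
    exact ideal_neg (natCast_p_mem hM)

theorem infl_mem_iff (hM : IsPModular 2 M) (θ : IrrCharacter (C ⧸ Subgroup.zpowers t)) :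
    infl (Subgroup.zpowers t) θ ∈ principalBlock M C ↔
      θ ∈ principalBlock M (C ⧸ Subgroup.zpowers t) := by
  refine ⟨fun hi a => ?_, PrincipalQuot80.infl_mem _ hM⟩
  obtain ⟨c, rfl⟩ := QuotientGroup.mk_surjective a
  have h1 := hi c
  rw [PrincipalQuot80.centralChar_one_ratio (Subgroup.zpowers t) c, PrincipalQuot80.centralChar_infl,
    relIndex_eq_one h, Nat.cast_one, one_mul, one_mul] at h1
  exact h1

theorem tw_mem_iff (hM : IsPModular 2 M) (θ : IrrCharacter (C ⧸ Subgroup.zpowers t)) :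
    tw h θ ∈ principalBlock M C ↔ θ ∈ principalBlock M (C ⧸ Subgroup.zpowers t) := by
  rw [← infl_mem_iff h hM θ]
  have hd : ∀ c, MemLocalIdeal M (centralChar (tw h θ : C → ℂ) c -
      centralChar (infl (Subgroup.zpowers t) θ : C → ℂ) c) := by
    intro c
    have e : centralChar (tw h θ : C → ℂ) c - centralChar (infl (Subgroup.zpowers t) θ : C → ℂ) c =
        centralChar (infl (Subgroup.zpowers t) θ : C → ℂ) c * ((μ c : ℂ) - 1) := by
      simp only [centralChar, tw_apply, infl_apply, map_one, Units.val_one, mul_one]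
      ring
    rw [e]
    exact ideal_mul_left hM (of_isIntegral hM
      (ClassAlgebraOmega.isIntegral_centralChar (infl (Subgroup.zpowers t) θ).2 c)) (mu_congr h hM c)
  refine ⟨fun hi c => ?_, fun hi c => ?_⟩
  · have := ideal_add hM (hi c) (hd c)
    rwa [sub_add_sub_cancel] at this
  · have := ideal_sub hM (hi c) (hd c)
    rwa [show ∀ a b d : ℂ, a - b - (d - b) = a - d from fun a b d => by ring] at this

theorem tw_injective : Function.Injective (tw h) := fun θ φ e => Subtype.ext (funext fun a => by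
  obtain ⟨c, rfl⟩ := QuotientGroup.mk_surjective a
  have := congrFun (congrArg Subtype.val e) c
  exact mul_right_cancel₀ (μ c).ne_zero this)

/-- The principal block of `C`. -/
theorem sum_blk (hM : IsPModular 2 M) [Fintype (C ⧸ Subgroup.zpowers t)] (f : IrrCharacter C → ℂ) :
    ∑ ψ ∈ blk M C, f ψ = ∑ θ ∈ blk M (C ⧸ Subgroup.zpowers t),
      (f (infl (Subgroup.zpowers t) θ) + f (tw h θ)) := by
  have hset : blk M C = (blk M (C ⧸ Subgroup.zpowers t)).image (infl (Subgroup.zpowers t)) ∪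
      (blk M (C ⧸ Subgroup.zpowers t)).image (tw h) := by
    ext ψ
    simp only [Finset.mem_union, Finset.mem_image, mem_blk]
    constructor
    · intro hψ
      obtain ⟨θ, rfl | rfl⟩ := exists_eq h ψ
      · exact Or.inl ⟨θ, (infl_mem_iff h hM θ).1 hψ, rfl⟩
      · exact Or.inr ⟨θ, (tw_mem_iff h hM θ).1 hψ, rfl⟩
    · rintro (⟨θ, hθ, rfl⟩ | ⟨θ, hθ, rfl⟩)
      · exact (infl_mem_iff h hM θ).2 hθ
      · exact (tw_mem_iff h hM θ).2 hθ
  have hdisj : Disjoint ((blk M (C ⧸ Subgroup.zpowers t)).image (infl (Subgroup.zpowers t)))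
      ((blk M (C ⧸ Subgroup.zpowers t)).image (tw h)) := by
    rw [Finset.disjoint_left]
    intro ψ h1 h2
    obtain ⟨θ, -, rfl⟩ := Finset.mem_image.1 h1
    obtain ⟨φ, -, e⟩ := Finset.mem_image.1 h2
    have e1 := infl_at h θ
    rw [← e, tw_at h φ] at e1
    exact CharAverage.irr_one_ne_zero (tw h φ) (by linear_combination -e1 / 2)
  rw [hset, Finset.sum_union hdisj, Finset.sum_image fun a _ b _ e =>
      PrincipalQuot80.infl_injective _ e,
    Finset.sum_image fun a _ b _ e => tw_injective h e, ← Finset.sum_add_distrib]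

end Cfsg.Agent.ConstDiff2Double
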