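import Mathlib
import Cfsg.Agent.Lib.SolvableRegularLinear75
import Cfsg.Agent.Lib.PGroupsCyclic
import Cfsg.Agent.Lib.FpfAut
import Cfsg.Agent.Lib.SL23Model77

/-!
Structure of the solvable groups acting regularly on the non-zero vectors (solvable near-fields).
-/

set_option autoImplicit false
set_option linter.style.haveILetI false

namespace Cfsg.Agent.SolvableRegularStruct75

open scoped commutatorElement

open SolvableRegularLinear75

/-! ### Facts about `Q₈` -/

abbrev Q8 := QuaternionGroup 2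

theorem q8_center : (Finset.univ.filter fun x : Q8 => ∀ y, x * y = y * x).card = 2 := by decide

theorem q8_noncomm : (QuaternionGroup.a 1 : Q8) * QuaternionGroup.xa 0 ≠
    QuaternionGroup.xa 0 * QuaternionGroup.a 1 := by decide

theorem q8_gen : ∀ x : Q8, ∃ (k : Fin 4) (l : Fin 2),
    x = (QuaternionGroup.a 1) ^ (k : ℕ) * (QuaternionGroup.xa 0) ^ (l : ℕ) := by decide

theorem q8_four : (QuaternionGroup.a 1 : Q8) * QuaternionGroup.a 1 ≠ 1 ∧
    (QuaternionGroup.xa 0 : Q8) * QuaternionGroup.xa 0 ≠ 1 ∧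
    ∀ x : Q8, x * x * (x * x) = 1 := by decide

theorem q8_index_two : ∀ x : Q8, x * QuaternionGroup.a 1 = QuaternionGroup.a 1 * x →
    ∃ k : Fin 4, x = QuaternionGroup.a 1 ^ (k : ℕ) := by decide

theorem q8_normal : ∀ x : Q8, x * QuaternionGroup.a 1 * x⁻¹ = QuaternionGroup.a 1 ∨
    x * QuaternionGroup.a 1 * x⁻¹ = (QuaternionGroup.a 1)⁻¹ := by decide

theorem q8_triple : ∀ x y l : Q8, x * y ≠ y * x → y * l ≠ l * y → l * x ≠ x * l →
    y * y = x * x ∧ y * x * y⁻¹ = x⁻¹ ∧ x * x ≠ 1 ∧ x * (y * x) = y ∧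
      (l = x * y ∨ l = y * x) := by decide +kernel

theorem q8_pairs : ∀ p r : Q8, p * p ≠ 1 ∧ p * r ≠ r * p →
    (∀ g h : Q8, FpfAut.q8map p r (g * h) = FpfAut.q8map p r g * FpfAut.q8map p r h) ∧
    (∀ g h : Q8, FpfAut.q8map p r g = FpfAut.q8map p r h → g = h) ∧
    FpfAut.q8map p r (QuaternionGroup.a 1) = p ∧ FpfAut.q8map p r (QuaternionGroup.xa 0) = r := by
  decide +kernel

theorem q8_count :
    (Finset.univ.filter fun s : Q8 × Q8 => s.1 * s.1 ≠ 1 ∧ s.1 * s.2 ≠ s.2 * s.1).card = 24 := by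
  decide +kernel

theorem q8_odd_perm : ∀ e : Equiv.Perm Q8,
    (∀ g, e g = FpfAut.q8map (QuaternionGroup.xa 0) (QuaternionGroup.a 1) g) →
    Equiv.Perm.sign e = -1 := by
  intro e he
  have : e = Equiv.ofBijective _ (Finite.injective_iff_bijective.mp
      ((q8_pairs (QuaternionGroup.xa 0) (QuaternionGroup.a 1) (by decide)).2.1)) :=
    Equiv.ext fun g => he g
  have hfix : e = Equiv.swap (QuaternionGroup.a 1) (QuaternionGroup.xa 0) *
      Equiv.swap (QuaternionGroup.a 3) (QuaternionGroup.xa 2) *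
      Equiv.swap (QuaternionGroup.xa 1) (QuaternionGroup.xa 3) := by
    refine Equiv.ext fun g => ?_
    rw [he g]
    revert g
    decide +kernel
  rw [hfix, map_mul, map_mul, Equiv.Perm.sign_swap (by decide), Equiv.Perm.sign_swap (by decide),
    Equiv.Perm.sign_swap (by decide)]
  decide

/-- `|Aut Q₈| = 24`. -/
theorem card_mulAut_q8 : Nat.card (MulAut Q8) = 24 := by
  classical
  rw [← q8_count, ← Nat.card_eq_finsetCard]
  refine Nat.card_congr ?_
  refine Equiv.ofBijective
    (fun α => ⟨(α (QuaternionGroup.a 1), α (QuaternionGroup.xa 0)), by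
      simp only [Finset.mem_filter, Finset.mem_univ, true_and, ← map_mul]
      exact ⟨fun e => q8_four.1 (α.injective (e.trans (map_one α).symm)),
        fun e => q8_noncomm (α.injective e)⟩⟩) ⟨?_, ?_⟩
  · intro α β e
    have e1 : α (QuaternionGroup.a 1) = β (QuaternionGroup.a 1) :=
      congrArg Prod.fst (congrArg Subtype.val e)
    have e2 : α (QuaternionGroup.xa 0) = β (QuaternionGroup.xa 0) :=
      congrArg Prod.snd (congrArg Subtype.val e)
    ext x
    obtain ⟨k, l, rfl⟩ := q8_gen x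
    rw [map_mul, map_mul, map_pow, map_pow, map_pow, map_pow, e1, e2]
  · rintro ⟨⟨p, r⟩, hp⟩
    rw [Finset.mem_filter] at hp
    obtain ⟨hmul, hinj, hp1, hr1⟩ := q8_pairs p r hp.2
    exact ⟨{ Equiv.ofBijective _ (Finite.injective_iff_bijective.mp hinj) with map_mul' := hmul },
      Subtype.ext (Prod.ext hp1 hr1)⟩

/-- The numerical lemma. -/
theorem numeric_small : ∀ p ∈ [3, 5, 7, 11, 13, 17, 19, 23], ∀ d ∈ [1, 2, 3, 4], ∀ m ∈ [2, 3, 4, 5],
    (p ^ (d * m) - 1) ∣ (p ^ d - 1) * (24 * d) → 8 ∣ p ^ (d * m) - 1 →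
    d = 1 ∧ m = 2 ∧ (p = 3 ∨ p = 5 ∨ p = 7 ∨ p = 11 ∨ p = 23) := by decide +kernel

theorem numeric {p d m : ℕ} (hp : p.Prime) (hp3 : 3 ≤ p) (hd : 0 < d) (hm : 2 ≤ m)
    (hdvd : (p ^ (d * m) - 1) ∣ (p ^ d - 1) * (24 * d)) (h8 : 8 ∣ p ^ (d * m) - 1) :
    d = 1 ∧ m = 2 ∧ (p = 3 ∨ p = 5 ∨ p = 7 ∨ p = 11 ∨ p = 23) := by
  obtain ⟨k, rfl⟩ : ∃ k, m = k + 1 := ⟨m - 1, by omega⟩
  have hpd : 2 ≤ p ^ d := le_trans (by omega) (Nat.le_self_pow hd.ne' p)
  have hle := Nat.le_of_dvd (Nat.mul_pos (by omega) (by omega)) hdvd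
  have hsplit : p ^ (d * (k + 1)) = p ^ (d * k) * p ^ d := by rw [← pow_add]; ring_nf
  have hb : p ^ (d * k) ≤ 24 * d := by
    by_contra hlt
    push Not at hlt
    have : (24 * d + 1) * p ^ d ≤ p ^ (d * (k + 1)) := hsplit ▸ Nat.mul_le_mul_right _ hlt
    have e1 : (p ^ d - 1) * (24 * d) + 24 * d = p ^ d * (24 * d) := by
      rw [← add_one_mul, Nat.sub_add_cancel (by omega)]
    have e2 : p ^ (d * (k + 1)) ≤ (p ^ d - 1) * (24 * d) + 1 := by omega
    nlinarith
  have hd4 : d ≤ 4 := by
    by_contra hlt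
    have key : ∀ j, 24 * (j + 5) < 3 ^ (j + 5) := by
      intro j
      induction j with
      | zero => norm_num
      | succ j ih => rw [show j + 1 + 5 = (j + 5) + 1 by omega, pow_succ]; omega
    have h1 := key (d - 5)
    rw [show d - 5 + 5 = d by omega] at h1
    have h2 : 3 ^ d ≤ p ^ (d * k) :=
      le_trans (Nat.pow_le_pow_left hp3 d) (Nat.pow_le_pow_right (by omega) (Nat.le_mul_of_pos_right d (by omega)))
    omega
  have hk4 : d * k ≤ 4 := by
    by_contra hlt
    have : 3 ^ 5 ≤ p ^ (d * k) :=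
      le_trans (Nat.pow_le_pow_left hp3 5) (Nat.pow_le_pow_right (by omega) (by omega))
    omega
  have hkpos : 1 ≤ d * k := Nat.mul_pos hd (by omega)
  have hp24 : p ≤ 24 * d := le_trans (Nat.le_self_pow (by omega) p) hb
  have hp' : p < 24 := by
    rcases Nat.lt_or_ge 1 (d * k) with h2 | h2
    · have : p ^ 2 ≤ p ^ (d * k) := Nat.pow_le_pow_right (by omega) h2
      nlinarith
    · have hd1 : d = 1 := Nat.eq_one_of_mul_eq_one_right (show d * k = 1 by omega)
      subst hd1
      rcases eq_or_lt_of_le hp24 with e | e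
      · exact absurd (e ▸ hp : Nat.Prime (24 * 1)) (by norm_num)
      · omega
  have hk : k ≤ 4 := le_trans (Nat.le_mul_of_pos_left k hd) hk4
  refine numeric_small p ?_ d (by simp; omega) (k + 1) (by simp; omega) hdvd h8
  interval_cases p <;> first | decide | norm_num at hp

/-! ### The group -/

variable {q : ℕ} [Fact q.Prime] {V : Type*} [AddCommGroup V] [Module (ZMod q) V] [Finite V]
  [Nontrivial V] {G : Type*} [Group G] [Finite G] {ρ : G →* (V ≃ₗ[ZMod q] V)}

theorem sylow_shape (h : IsRegularRep ρ) {p : ℕ} [Fact p.Prime] (P : Subgroup G) (hP : IsPGroup p P) :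
    IsCyclic P ∨ (p = 2 ∧ ∃ n : ℕ, Nonempty (P ≃* QuaternionGroup (2 ^ n))) := by
  refine PGroupsCyclic.isCyclic_or_quaternion hP ?_
  rcases subsingleton_or_nontrivial P with hs | hnt
  · intro H K _ _; exact Subsingleton.elim H K
  haveI := hP.center_nontrivial
  obtain ⟨k, hk0, hk⟩ := (hP.to_subgroup (Subgroup.center P)).nontrivial_iff_card.1 inferInstance
  obtain ⟨c, hc⟩ := exists_prime_orderOf_dvd_card' (G := Subgroup.center P) p
    (hk ▸ dvd_pow_self p hk0.ne')
  rw [← Subgroup.orderOf_coe] at hc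
  have key : ∀ H : Subgroup P, Nat.card H = p → H = Subgroup.zpowers (c : P) := by
    intro H hH
    let B : Subgroup P := H ⊔ Subgroup.zpowers (c : P)
    have hBc : ∀ a ∈ B, ∀ b ∈ B, a * b = b * a := by
      haveI : Fact p.Prime := inferInstance
      haveI : IsCyclic H := isCyclic_of_prime_card hH
      letI : CommGroup H := IsCyclic.commGroup
      have hle : B ≤ Subgroup.centralizer (B : Set P) := by
        have h1 : H ≤ Subgroup.centralizer (B : Set P) := by
          rw [Subgroup.le_centralizer_iff]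
          refine sup_le (fun a ha => Subgroup.mem_centralizer_iff.mpr fun b hb =>
            congrArg Subtype.val (mul_comm (⟨b, hb⟩ : H) ⟨a, ha⟩)) ?_
          rw [Subgroup.zpowers_le]
          exact Subgroup.mem_centralizer_iff.mpr fun b _ => Subgroup.mem_center_iff.mp c.2 b
        refine sup_le h1 ?_
        rw [Subgroup.zpowers_le]
        exact Subgroup.mem_centralizer_iff.mpr fun b _ => Subgroup.mem_center_iff.mp c.2 b
      intro a ha b hb
      exact (Subgroup.mem_centralizer_iff.mp (hle ha) b hb).symm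
    haveI : IsCyclic B := by
      have : IsCyclic (B.map P.subtype) := isCyclic_abelian h _ (by
        rintro _ ⟨a, ha, rfl⟩ _ ⟨b, hb, rfl⟩
        rw [← map_mul, ← map_mul, hBc a ha b hb])
      exact (MulEquiv.isCyclic (B.equivMapOfInjective P.subtype P.subtype_injective)).mpr this
    haveI : Fintype B := Fintype.ofFinite B
    have huni : ∀ L : Subgroup B, Nat.card L = p →
        (L : Set B) = {x : B | x ^ p = 1} := by
      intro L hL
      refine Set.eq_of_subset_of_ncard_le (fun x hx => ?_) ?_ (Set.toFinite _)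
      · have := pow_card_eq_one' (x := (⟨x, hx⟩ : L))
        rw [hL] at this
        exact congrArg Subtype.val this
      · rw [← Nat.card_coe_set_eq (L : Set B)]
        refine le_of_le_of_eq ?_ hL.symm
        classical
        rw [Set.ncard_eq_toFinset_card' , Set.toFinset_setOf]
        exact IsCyclic.card_pow_eq_one_le (Fact.out : p.Prime).pos
    have e : H.subgroupOf B = (Subgroup.zpowers (c : P)).subgroupOf B := SetLike.ext'
      ((huni _ (by rw [Nat.card_congr (Subgroup.subgroupOfEquivOfLe (le_sup_left : H ≤ B)).toEquiv, hH])).trans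
        (huni _ (by rw [Nat.card_congr (Subgroup.subgroupOfEquivOfLe
          (le_sup_right : Subgroup.zpowers (c : P) ≤ B)).toEquiv, Nat.card_zpowers, hc])).symm)
    rw [Subgroup.subgroupOf_inj, inf_of_le_left (le_sup_left : H ≤ B),
      inf_of_le_left (le_sup_right : Subgroup.zpowers (c : P) ≤ B)] at e
    exact e
  intro H K hH hK
  rw [key H hH, key K hK]

/-- A normal subgroup of class at most two which is not abelian contains a normal `Q₈`. -/
theorem exists_q8 (h : IsRegularRep ρ) (M : Subgroup G) [M.Normal]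
    (hcl : ∀ a ∈ M, ∀ b ∈ M, ∀ c ∈ M, a * b * a⁻¹ * b⁻¹ * c = c * (a * b * a⁻¹ * b⁻¹))
    (hna : ∃ a ∈ M, ∃ b ∈ M, a * b ≠ b * a) :
    ∃ Q : Subgroup G, Q ≤ M ∧ Q.Normal ∧ Nonempty (Q ≃* Q8) := by
  classical
  have hlow : commutator M ≤ Subgroup.center M := by
    rw [commutator_def, Subgroup.commutator_le]
    intro a _ b _
    rw [Subgroup.mem_center_iff]
    intro c
    exact Subtype.ext (hcl a a.2 b b.2 c c.2).symm
  haveI hnil : Group.IsNilpotent M := by
    rw [Subgroup.nilpotent_iff_lowerCentralSeries]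
    refine ⟨2, ?_⟩
    rw [Subgroup.lowerCentralSeries_succ, eq_bot_iff, Subgroup.commutator_le]
    intro x hx y _
    have h1 : (⊤ : Subgroup M).lowerCentralSeries 1 = commutator M :=
      Subgroup.top_lowerCentralSeries_one
    rw [Subgroup.mem_bot, commutatorElement_eq_one_iff_mul_comm]
    exact ((Subgroup.mem_center_iff.mp (hlow (h1 ▸ hx))) y).symm
  by_cases hall : ∀ (p : ℕ) [Fact p.Prime] (P : Sylow p M), IsCyclic (P : Subgroup M)
  · exfalso
    obtain ⟨a, ha, b, hb, hab⟩ := hna
    apply hab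
    have e := Sylow.directProductOfNormal (G := M) fun {q} [Fact q.Prime] (P : Sylow q M) => (inferInstance : (P : Subgroup M).Normal)
    have : (⟨a, ha⟩ : M) * ⟨b, hb⟩ = ⟨b, hb⟩ * ⟨a, ha⟩ := by
      apply e.symm.injective
      rw [map_mul, map_mul]
      refine funext fun p => funext fun P => ?_
      haveI : Fact (p : ℕ).Prime := ⟨Nat.prime_of_mem_primeFactors p.2⟩
      letI : CommGroup (P : Subgroup M) := (hall (p : ℕ) P).commGroup
      exact mul_comm (G := (P : Subgroup M)) _ _
    exact congrArg Subtype.val this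
  push Not at hall
  obtain ⟨p, _, P, hP⟩ := hall
  haveI : (P : Subgroup M).Characteristic := P.characteristic_of_normal inferInstance
  set Q := (P : Subgroup M).map M.subtype
  have eQ : (P : Subgroup M) ≃* Q := (P : Subgroup M).equivMapOfInjective _ M.subtype_injective
  rcases sylow_shape h Q (P.isPGroup'.of_equiv eQ) with hc | ⟨-, n, ⟨e⟩⟩
  · exact absurd ((MulEquiv.isCyclic eQ).mpr hc) hP
  haveI : NeZero (2 ^ n) := ⟨pow_ne_zero _ two_ne_zero⟩
  set u : QuaternionGroup (2 ^ n) := QuaternionGroup.a 1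
  set w : QuaternionGroup (2 ^ n) := QuaternionGroup.xa 0
  have hQM : Q ≤ M := Subgroup.map_subtype_le _
  have hcu := hcl _ (hQM (e.symm w).2) _ (hQM (e.symm u).2) _ (hQM (e.symm w).2)
  have hcu' : w * u * w⁻¹ * u⁻¹ * w = w * (w * u * w⁻¹ * u⁻¹) := by
    apply e.symm.injective
    apply Subtype.ext
    simpa only [map_mul, map_inv, Subgroup.coe_mul, InvMemClass.coe_inv] using hcu
  have hn : n ≤ 1 := by
    have h4 : u ^ 4 = 1 := by
      have e1 : w * u * w⁻¹ = u⁻¹ := by
        rw [mul_inv_eq_iff_eq_mul]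
        have hu : u⁻¹ = QuaternionGroup.a (-1) := rfl
        rw [hu]
        show QuaternionGroup.xa 0 * QuaternionGroup.a 1 = QuaternionGroup.a (-1) * QuaternionGroup.xa 0
        rw [QuaternionGroup.xa_mul_a, QuaternionGroup.a_mul_xa]
        congr 1
        ring
      rw [e1] at hcu'
      have e2 : w * (u⁻¹ * u⁻¹) * w⁻¹ = u * u := by
        calc w * (u⁻¹ * u⁻¹) * w⁻¹ = (w * u * w⁻¹)⁻¹ * (w * u * w⁻¹)⁻¹ := by group
          _ = u * u := by rw [e1, inv_inv]
      have e3 : u * u = u⁻¹ * u⁻¹ := by rw [← e2, ← hcu', mul_inv_cancel_right]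
      calc u ^ 4 = u * u * (u * u) := by simp [pow_succ, mul_assoc]
        _ = u⁻¹ * u⁻¹ * (u * u) := by rw [← e3]
        _ = 1 := by group
    have := orderOf_dvd_of_pow_eq_one h4
    rw [QuaternionGroup.orderOf_a_one] at this
    have := Nat.le_of_dvd (by norm_num) this
    by_contra hlt
    have : 2 ^ 2 ≤ 2 ^ n := Nat.pow_le_pow_right two_pos (by omega)
    omega
  refine ⟨Q, hQM, inferInstance, ?_⟩
  interval_cases n
  · exfalso
    haveI : IsCyclic (QuaternionGroup (2 ^ 0)) := by rw [pow_zero]; exact QuaternionGroup.quaternionGroup_one_isCyclic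
    exact hP ((MulEquiv.isCyclic eQ).mpr ((MulEquiv.isCyclic e).mpr inferInstance))
  · exact ⟨e⟩

/-- A maximal abelian normal subgroup inside a normal subgroup, and what its centralizer contains. -/
theorem exists_maximal (h : IsRegularRep ρ) (hsol : Group.IsSolvable G) (C : Subgroup G) [C.Normal] :
    ∃ A : Subgroup G, A.Normal ∧ IsCyclic A ∧ A ≤ C ∧
      (¬ C ⊓ Subgroup.centralizer (A : Set G) ≤ A →
        ∃ Q : Subgroup G, Q ≤ C ∧ Q.Normal ∧ Nonempty (Q ≃* Q8)) := by
  classical
  obtain ⟨A, ⟨hAn, hAC, hAab⟩, hmax⟩ := Set.Finite.exists_maximal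
    (s := {A : Subgroup G | A.Normal ∧ A ≤ C ∧ ∀ a ∈ A, ∀ b ∈ A, a * b = b * a}) (Set.toFinite _)
    ⟨⊥, inferInstance, bot_le, fun a ha b hb => by rw [Subgroup.mem_bot.mp ha, Subgroup.mem_bot.mp hb]⟩
  haveI := hAn
  refine ⟨A, hAn, isCyclic_abelian h A hAab, hAC, fun hnle => ?_⟩
  set K := C ⊓ Subgroup.centralizer (A : Set G)
  let π := QuotientGroup.mk' A
  haveI : (K.map π).Normal := (inferInstance : K.Normal).map π (QuotientGroup.mk'_surjective A)
  have hKne : K.map π ≠ ⊥ := by
    rw [Ne, Subgroup.map_eq_bot_iff, QuotientGroup.ker_mk']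
    exact hnle
  haveI : Group.IsSolvable (G ⧸ A) := inferInstance
  obtain ⟨k, hk⟩ := (Group.isSolvable_def (G ⧸ A)).mp inferInstance
  -- the last derived term of the image which is non-trivial
  let D : ℕ → Subgroup (G ⧸ A) := fun j => Nat.rec (K.map π) (fun _ S => ⁅S, S⁆) j
  have hDn : ∀ j, (D j).Normal := by
    intro j
    induction j with
    | zero => exact (inferInstance : (K.map π).Normal)
    | succ j ih => haveI := ih; exact Subgroup.commutator_normal _ _
  have hDle : ∀ j, D j ≤ derivedSeries (G ⧸ A) j ∧ D j ≤ K.map π := by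
    intro j
    induction j with
    | zero => exact ⟨le_top, le_refl _⟩
    | succ j ih =>
      refine ⟨Subgroup.commutator_mono ih.1 ih.1, le_trans ?_ ih.2⟩
      haveI := hDn j
      exact Subgroup.commutator_le_left _ _
  classical
  have hex : ∃ j, D j = ⊥ := ⟨k, le_bot_iff.mp (hk ▸ (hDle k).1)⟩
  set jm := sInf {j | D j = ⊥}
  have hspec : D jm = ⊥ := Nat.sInf_mem (s := {j | D j = ⊥}) hex
  have hpos : jm ≠ 0 := fun e => hKne (by rw [e] at hspec; exact hspec)
  obtain ⟨j, hj⟩ := Nat.exists_eq_succ_of_ne_zero hpos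
  have hj1 : D j ≠ ⊥ := Nat.notMem_of_lt_sInf (s := {j | D j = ⊥}) (show j < jm by omega)
  have hj2 : ⁅D j, D j⁆ = ⊥ := by rw [hj] at hspec; exact hspec
  haveI := hDn j
  set M := (D j).comap π with hM
  have hAM : A ≤ M := fun a ha => by
    show π a ∈ D j
    rw [QuotientGroup.mk'_apply, (QuotientGroup.eq_one_iff a).mpr ha]; exact one_mem _
  have hMK : M ≤ K := by
    intro x hx
    obtain ⟨y, hy, hxy⟩ := (hDle j).2 hx
    have : y⁻¹ * x ∈ A := (QuotientGroup.eq.mp hxy)
    have hAK : A ≤ K := le_inf hAC fun a ha => Subgroup.mem_centralizer_iff.mpr fun b hb => hAab b hb a ha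
    simpa using mul_mem hy (hAK this)
  have hcomm : ∀ a ∈ M, ∀ b ∈ M, a * b * a⁻¹ * b⁻¹ ∈ A := by
    intro a ha b hb
    have := Subgroup.commutator_mem_commutator (H₁ := D j) (H₂ := D j) (g₁ := π a) (g₂ := π b) ha hb
    rw [hj2, Subgroup.mem_bot, ← map_commutatorElement, QuotientGroup.mk'_apply,
      QuotientGroup.eq_one_iff, commutatorElement_def] at this
    exact this
  obtain ⟨Q, hQM, hQn, hQ⟩ := exists_q8 h M (fun a ha b hb c hc => by
      exact (Subgroup.mem_centralizer_iff.mp (Subgroup.mem_inf.mp (hMK hc)).2 _ (hcomm a ha b hb)))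
    (by
      by_contra hcon
      push Not at hcon
      have hMA := hmax ⟨(inferInstance : M.Normal), hMK.trans inf_le_left, hcon⟩ hAM
      apply hj1
      rw [eq_bot_iff]
      intro x hx
      obtain ⟨y, rfl⟩ := QuotientGroup.mk'_surjective A x
      rw [Subgroup.mem_bot, QuotientGroup.mk'_apply, QuotientGroup.eq_one_iff]
      exact hMA hx)
  exact ⟨Q, hQM.trans (hMK.trans inf_le_left), hQn, hQ⟩

theorem q8_exclusive (h : IsRegularRep ρ) {Q Q' : Subgroup G} (e : Q ≃* Q8) (e' : Q' ≃* Q8)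
    (hQ' : Q' ≤ Subgroup.centralizer (Q : Set G)) : False := by
  set i : G := (e.symm (QuaternionGroup.a 1) : G) with hi
  have hsq : ∀ {R : Subgroup G} (f : R ≃* Q8) (x : Q8), x * x ≠ 1 →
      (f.symm x : G) * f.symm x ≠ 1 ∧
      (f.symm x : G) * f.symm x * ((f.symm x : G) * f.symm x) = 1 := by
    intro R f x hx
    refine ⟨fun hc => hx (f.symm.injective (Subtype.ext ?_)), ?_⟩
    · rw [map_mul, map_one]; exact hc
    · rw [← Subgroup.coe_mul, ← Subgroup.coe_mul, ← map_mul, ← map_mul, q8_four.2.2, map_one]; rfl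
  have hin : ∀ x : Q8, x * x ≠ 1 → (e'.symm x : G) = i ∨ (e'.symm x : G) = i⁻¹ := by
    intro x hx
    obtain ⟨h1, h2⟩ := hsq e (QuaternionGroup.a 1) q8_four.1
    obtain ⟨h3, h4⟩ := hsq e' x hx
    refine no_four_group h ?_ (involution_unique h h4 h2 h3 h1) h4 h3
    exact (Subgroup.mem_centralizer_iff.mp (hQ' (e'.symm x).2) i (e.symm _).2).symm
  apply q8_noncomm
  apply e'.symm.injective
  apply Subtype.ext
  rw [map_mul, map_mul, Subgroup.coe_mul, Subgroup.coe_mul]
  rcases hin _ q8_four.1 with a1 | a1 <;> rcases hin _ q8_four.2.1 with a2 | a2 <;> rw [a1, a2] <;> group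

theorem card_eq_pow (h : IsRegularRep ρ) {d m : ℕ} (hV : Nat.card V = q ^ (d * m)) :
    Nat.card G = q ^ (d * m) - 1 := by
  have := card_add_one h
  omega

/-- The metacyclic case. -/
theorem cyclic_case (h : IsRegularRep ρ) (A : Subgroup G) [A.Normal] (hA : IsCyclic A)
    (hC : Subgroup.centralizer (A : Set G) ≤ A) :
    (∃ (F : Type) (_ : Field F) (_ : Fintype F) (e : V ≃+ F),
      ∀ g : G, ∃ (a : F) (σ : F ≃+* F), ∀ v : V, e (ρ g v) = a * σ (e v)) ∧
    (2 ∣ Nat.card G → ∃ N : Subgroup G, N.Normal ∧ N.index = 2) := by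
  classical
  letI : CommGroup A := hA.commGroup
  obtain ⟨d, hd, ⟨m, hm, hV, -, hsemi⟩, hAd, f, hf⟩ := semilinear h A hA
  have hCA : Subgroup.centralizer (A : Set G) = A := le_antisymm hC fun a ha =>
    Subgroup.mem_centralizer_iff.mpr fun b hb => congrArg Subtype.val (mul_comm (⟨b, hb⟩ : A) ⟨a, ha⟩)
  refine ⟨hsemi ?_, ?_⟩
  · by_contra hne
    haveI : NeZero d := ⟨hd.ne'⟩
    have h1 : A.index ∣ d := by
      rw [← hCA, ← hf, Subgroup.index_ker]
      have := Subgroup.card_subgroup_dvd_card f.range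
      rwa [Nat.card_congr Multiplicative.toAdd, Nat.card_zmod] at this
    have hG := card_eq_pow h hV
    have h2 := A.card_mul_index
    have hq : 2 ≤ q := (Fact.out : q.Prime).two_le
    have h3 : d < q ^ d := lt_of_lt_of_le (Nat.lt_two_pow_self) (Nat.pow_le_pow_left hq d)
    have h4 : q ^ d * q ^ d ≤ q ^ (d * m) := by
      rw [← pow_add]; exact Nat.pow_le_pow_right (by omega) (by have : 2 ≤ m := (by omega); nlinarith)
    have h5 : Nat.card A * A.index ≤ (q ^ d - 1) * d :=
      Nat.mul_le_mul (Nat.le_of_dvd (by omega) hAd) (Nat.le_of_dvd hd h1)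
    have h6 : (q ^ d - 1) * d ≤ q ^ d * d := Nat.mul_le_mul_right _ (Nat.sub_le _ _)
    have h7 : q ^ d * d + q ^ d ≤ q ^ d * q ^ d := by
      rw [← Nat.mul_succ]; exact Nat.mul_le_mul_left _ h3
    have h8 : 2 ≤ q ^ d := le_trans hq (Nat.le_self_pow hd.ne' q)
    rw [h2, hG] at h5
    omega
  · intro heven
    let s : A →* A := powMonoidHom 2
    let M : Subgroup G := s.range.map A.subtype
    have hMA : M ≤ A := Subgroup.map_subtype_le _
    haveI : s.range.Characteristic := Subgroup.characteristic_iff_map_le.mpr fun φ => by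
      rintro _ ⟨_, ⟨a, rfl⟩, rfl⟩
      exact ⟨φ a, (map_pow φ.toMonoidHom a 2).symm⟩
    haveI : M.Normal := inferInstance
    obtain ⟨a, ha⟩ := hA.exists_generator
    have htwo : ∀ x ∈ A, x ∈ M ∨ (a : G)⁻¹ * x ∈ M := by
      intro x hx
      obtain ⟨i, hi⟩ := Subgroup.mem_zpowers_iff.mp (ha ⟨x, hx⟩)
      rcases Int.even_or_odd i with ⟨r, hr⟩ | ⟨r, hr⟩
      · refine Or.inl ⟨⟨x, hx⟩, ⟨a ^ r, ?_⟩, rfl⟩
        show (a ^ r) ^ 2 = _
        rw [← hi, pow_two, ← zpow_add, hr]
      · refine Or.inr ⟨a⁻¹ * ⟨x, hx⟩, ⟨a ^ r, ?_⟩, rfl⟩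
        show (a ^ r) ^ 2 = _
        rw [← hi, hr, pow_two, ← zpow_add, zpow_add_one, mul_comm _ a, inv_mul_cancel_left, two_mul]
    have hcen : ∀ x ∈ A, ∀ g : G, g * x * g⁻¹ * x⁻¹ ∈ M := by
      intro x hx g
      have hgx : g * x * g⁻¹ ∈ A := (inferInstance : A.Normal).conj_mem x hx g
      have key : ∀ y ∈ A, y ∈ M ↔ g * y * g⁻¹ ∈ M := fun y _ =>
        ⟨fun hy => (inferInstance : M.Normal).conj_mem y hy g,
          fun hy => by simpa [mul_assoc] using (inferInstance : M.Normal).conj_mem _ hy g⁻¹⟩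
      rcases htwo x hx with h1 | h1
      · exact mul_mem ((key x hx).mp h1) (inv_mem h1)
      · rcases htwo _ hgx with h2 | h2
        · exact mul_mem h2 (inv_mem ((key x hx).mpr h2))
        · have h3 := mul_mem h2 (inv_mem h1)
          have e : (a : G) * ((a : G)⁻¹ * (g * x * g⁻¹) * ((a : G)⁻¹ * x)⁻¹) * (a : G)⁻¹ =
              g * x * g⁻¹ * x⁻¹ := by group
          rw [← e]; exact (inferInstance : M.Normal).conj_mem _ h3 _
    have hab : ∀ x y : G, x * y * x⁻¹ * y⁻¹ ∈ M := by
      let F : G ⧸ M →* f.range := QuotientGroup.lift M f.rangeRestrict fun x hx => by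
        rw [MonoidHom.mem_ker]
        apply Subtype.ext
        exact MonoidHom.mem_ker.mp (by rw [hf, hCA]; exact hMA hx)
      have hker : F.ker ≤ Subgroup.center (G ⧸ M) := by
        intro u hu
        induction u using QuotientGroup.induction_on with
        | _ u =>
          have huA : u ∈ A := by
            rw [← hCA, ← hf, MonoidHom.mem_ker]
            exact congrArg Subtype.val (MonoidHom.mem_ker.mp hu)
          rw [Subgroup.mem_center_iff]
          intro v
          induction v using QuotientGroup.induction_on with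
          | _ v =>
            rw [← QuotientGroup.mk_mul, ← QuotientGroup.mk_mul, QuotientGroup.eq]
            have := inv_mem (hcen u⁻¹ (inv_mem huA) v⁻¹)
            simpa [mul_assoc] using this
      intro x y
      letI : CommGroup (G ⧸ M) := commGroupOfCyclicCenterQuotient F hker
      have := mul_comm (x : G ⧸ M) y
      rw [← QuotientGroup.eq_one_iff, QuotientGroup.mk_mul, QuotientGroup.mk_mul, QuotientGroup.mk_mul,
        QuotientGroup.mk_inv, QuotientGroup.mk_inv]
      rw [this, mul_inv_cancel_right, mul_inv_cancel]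
    refine exists_index_two M hab ?_
    by_contra hodd
    have hM := M.card_mul_index
    have hM2 : 2 ∣ Nat.card M :=
      ((Nat.Prime.dvd_mul Nat.prime_two).mp (hM ▸ heven)).resolve_right hodd
    -- then `2 * |M|` divides `|A|`
    have hcard : 2 * Nat.card M ∣ Nat.card A := by
      have e1 : Nat.card M = Nat.card s.range :=
        Subgroup.card_map_of_injective A.subtype_injective
      rw [e1, ← Subgroup.index_mul_card s.ker, Subgroup.index_ker, mul_comm 2]
      refine mul_dvd_mul_left _ ?_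
      obtain ⟨z, hz⟩ := exists_prime_orderOf_dvd_card' (G := A) 2
        (hM2.trans (e1 ▸ Subgroup.card_subgroup_dvd_card s.range))
      have : (⟨z, by show z ^ 2 = 1; exact hz ▸ pow_orderOf_eq_one z⟩ : s.ker) ∈ (⊤ : Subgroup s.ker) :=
        Subgroup.mem_top _
      have h2 := orderOf_dvd_natCard (⟨z, by show z ^ 2 = 1; exact hz ▸ pow_orderOf_eq_one z⟩ : s.ker)
      rwa [← Subgroup.orderOf_coe, hz] at h2
    have h2 : Nat.card M * 2 ∣ Nat.card M * M.index := by
      rw [hM, mul_comm]; exact hcard.trans (Subgroup.card_subgroup_dvd_card A)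
    exact hodd ((Nat.mul_dvd_mul_iff_left Nat.card_pos).mp h2)

/-- A `2`-power index normal subgroup gives a normal subgroup of index two. -/
theorem index_two_of_two_power (C : Subgroup G) [C.Normal] {k : ℕ} (hk : C.index = 2 ^ (k + 1)) :
    ∃ N : Subgroup G, N.Normal ∧ N.index = 2 := by
  haveI : Finite (G ⧸ C) := inferInstance
  have hp : IsPGroup 2 (G ⧸ C) := IsPGroup.of_card (by rw [← Subgroup.index_eq_card, hk])
  haveI : Nontrivial (G ⧸ C) := by
    rw [← Finite.one_lt_card_iff_nontrivial, ← Subgroup.index_eq_card, hk]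
    exact Nat.one_lt_pow (by omega) (by norm_num)
  haveI := hp.isNilpotent
  have hne : commutator (G ⧸ C) ≠ ⊤ :=
    (Group.IsSolvable.commutator_lt_top_of_nontrivial (G ⧸ C)).ne
  let M := (commutator (G ⧸ C)).comap (QuotientGroup.mk' C)
  refine exists_index_two M (fun x y => ?_) ?_
  · show QuotientGroup.mk' C (x * y * x⁻¹ * y⁻¹) ∈ commutator (G ⧸ C)
    rw [map_mul, map_mul, map_mul, map_inv, map_inv, commutator_def, ← commutatorElement_def]
    exact Subgroup.commutator_mem_commutator (Subgroup.mem_top _) (Subgroup.mem_top _)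
  · rw [Subgroup.index_comap_of_surjective _ (QuotientGroup.mk'_surjective C)]
    obtain ⟨j, hj⟩ := hp.index (commutator (G ⧸ C))
    rcases Nat.eq_zero_or_pos j with rfl | hpos
    · exact absurd (Subgroup.index_eq_one.mp (by simpa using hj)) hne
    · exact hj ▸ dvd_pow_self 2 hpos.ne'

/-- The main theorem. -/
theorem main (h : IsRegularRep ρ) (hsol : Group.IsSolvable G) :
    ((∃ (F : Type) (_ : Field F) (_ : Fintype F) (e : V ≃+ F),
        ∀ g : G, ∃ (a : F) (σ : F ≃+* F), ∀ v : V, e (ρ g v) = a * σ (e v)) ∨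
      Nat.card V ∈ ({25, 49, 121, 529} : Set ℕ)) ∧
    (q ≠ 2 → (∃ N : Subgroup G, N.Normal ∧ N.index = 2) ∨
      (Nat.card V = 25 ∧ Nonempty (G ≃* Matrix.SpecialLinearGroup (Fin 2) (ZMod 3))) ∨
      (Nat.card V = 121 ∧
        Nonempty (G ≃* Matrix.SpecialLinearGroup (Fin 2) (ZMod 3) × Multiplicative (ZMod 5)))) := by
  classical
  obtain ⟨n, hn, hVn⟩ := card_space (V := V) (q := q)
  have heven : q ≠ 2 → 2 ∣ Nat.card G := by
    intro hq
    have h1 := card_add_one h
    have h2 : Odd (Nat.card V) := hVn ▸ ((Fact.out : q.Prime).odd_of_ne_two hq).pow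
    obtain ⟨r, hr⟩ := h2
    exact ⟨r, by omega⟩
  obtain ⟨A₀, hA₀n, hA₀c, -, hA₀⟩ := exists_maximal h hsol ⊤
  by_cases hcase : ⊤ ⊓ Subgroup.centralizer (A₀ : Set G) ≤ A₀
  · haveI := hA₀n
    rw [top_inf_eq] at hcase
    obtain ⟨h1, h2⟩ := cyclic_case h A₀ hA₀c hcase
    exact ⟨Or.inl h1, fun hq => Or.inl (h2 (heven hq))⟩
  obtain ⟨Q, -, hQn, ⟨e⟩⟩ := hA₀ hcase
  haveI := hQn
  set C1 := Subgroup.centralizer (Q : Set G) with hC1
  obtain ⟨A, hAn, hAc, hAC, hA⟩ := exists_maximal h hsol C1
  haveI := hAn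
  have hA' : C1 ⊓ Subgroup.centralizer (A : Set G) ≤ A := by
    by_contra hcon
    obtain ⟨Q', hQ', -, ⟨e'⟩⟩ := hA hcon
    exact q8_exclusive h e e' hQ'
  letI : CommGroup A := hAc.commGroup
  have hAeq : C1 ⊓ Subgroup.centralizer (A : Set G) = A := le_antisymm hA' (le_inf hAC fun a ha =>
    Subgroup.mem_centralizer_iff.mpr fun b hb => congrArg Subtype.val (mul_comm (⟨b, hb⟩ : A) ⟨a, ha⟩))
  -- the action on `Q`
  let α : G →* MulAut Q := MulAut.conjNormal
  have hαker : α.ker = C1 := by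
    ext g
    rw [MonoidHom.mem_ker, hC1, Subgroup.mem_centralizer_iff]
    constructor
    · intro hg x hx
      have := congrArg (fun s : MulAut Q => (s ⟨x, hx⟩ : G)) hg
      have h2 : g * x * g⁻¹ = x := this
      exact (mul_inv_eq_iff_eq_mul.mp h2).symm
    · intro hg
      refine MulEquiv.ext fun x => Subtype.ext ?_
      show g * x * g⁻¹ = x
      rw [← hg x x.2, mul_inv_cancel_right]
  haveI : C1.Normal := hαker ▸ inferInstance
  have hi24 : C1.index ∣ 24 := by
    rw [← hαker, Subgroup.index_ker, ← card_mulAut_q8, ← Nat.card_congr (MulAut.congr e).toEquiv]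
    exact Subgroup.card_subgroup_dvd_card _
  have h8 : Nat.card Q = 8 := by
    rw [Nat.card_congr e.toEquiv, Nat.card_eq_fintype_card, QuaternionGroup.card]
  have hi4 : 4 ∣ C1.index := by
    refine dvd_trans ?_ (Subgroup.relIndex_dvd_index_of_normal C1 Q)
    have hc : Nat.card (C1.subgroupOf Q) = 2 := by
      rw [← q8_center, ← Nat.card_eq_finsetCard]
      refine Nat.card_congr (Equiv.subtypeEquiv e.toEquiv fun x => ?_)
      rw [Finset.mem_filter, Subgroup.mem_subgroupOf, hC1, Subgroup.mem_centralizer_iff]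
      simp only [Finset.mem_univ, true_and]
      constructor
      · intro hx y
        apply e.symm.injective
        rw [map_mul, map_mul]
        show e.symm (e x) * e.symm y = e.symm y * e.symm (e x)
        rw [e.symm_apply_apply]
        exact Subtype.ext (hx _ (e.symm y).2).symm
      · intro hx y hy
        have : e x * e ⟨y, hy⟩ = e ⟨y, hy⟩ * e x := hx (e ⟨y, hy⟩)
        rw [← map_mul, ← map_mul] at this
        exact (congrArg Subtype.val (e.injective this)).symm
    have := (C1.subgroupOf Q).card_mul_index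
    rw [hc, h8] at this
    have h' : C1.relIndex Q = 4 := by unfold Subgroup.relIndex; omega
    rw [h']
  obtain ⟨d, hd, ⟨m, hm0, hV, hm1, -⟩, hAd, f, hf⟩ := semilinear h A hAc
  haveI : NeZero d := ⟨hd.ne'⟩
  have hiCA : (Subgroup.centralizer (A : Set G)).index ∣ d := by
    rw [← hf, Subgroup.index_ker]
    have := Subgroup.card_subgroup_dvd_card f.range
    rwa [Nat.card_congr Multiplicative.toAdd, Nat.card_zmod] at this
  haveI : (Subgroup.centralizer (A : Set G)).Normal := hf ▸ inferInstance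
  have hAi : A.index ∣ 24 * d := by
    rw [← hAeq, ← Subgroup.relIndex_mul_index (inf_le_left : C1 ⊓ Subgroup.centralizer (A : Set G) ≤ C1),
      Subgroup.inf_relIndex_left, mul_comm 24]
    exact Nat.mul_dvd_mul ((Subgroup.relIndex_dvd_index_of_normal _ _).trans hiCA) hi24
  have hm : 2 ≤ m := by
    by_contra hlt
    have hQC : ∀ x : Q, (x : G) ∈ Subgroup.centralizer (A : Set G) := fun x =>
      Subgroup.mem_centralizer_iff.mpr fun a ha =>
        ((Subgroup.mem_centralizer_iff.mp (hAC ha)) _ x.2).symm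
    apply q8_noncomm
    apply e.symm.injective
    rw [map_mul, map_mul]
    exact Subtype.ext (hm1 (by omega) _ (hQC _) _ (hQC _))
  have hG := card_eq_pow h hV
  have hGdvd : q ^ (d * m) - 1 ∣ (q ^ d - 1) * (24 * d) := by
    rw [← hG, ← A.card_mul_index]; exact Nat.mul_dvd_mul hAd hAi
  have hG8 : 8 ∣ q ^ (d * m) - 1 := hG ▸ h8 ▸ Subgroup.card_subgroup_dvd_card Q
  have hq3 : 3 ≤ q := by
    by_contra hlt
    have hq2 : q = 2 := by have := (Fact.out : q.Prime).two_le; omega
    have h1 : 2 ∣ q ^ (d * m) := by rw [hq2]; exact dvd_pow_self 2 (Nat.mul_pos hd hm0).ne'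
    have h2 : 1 ≤ q ^ (d * m) := Nat.one_le_pow _ _ (by omega)
    omega
  obtain ⟨rfl, rfl, hqs⟩ := numeric Fact.out hq3 hd hm hGdvd hG8
  rw [one_mul] at hV hG
  rcases hqs with hq | hq
  · -- nine vectors: `G = Q`
    have hGQ : Q = ⊤ := (Subgroup.card_eq_iff_eq_top Q).mp (by rw [h8, hG, hq]; norm_num)
    set B := Subgroup.zpowers (e.symm (QuaternionGroup.a 1) : G)
    have hmem : ∀ g : G, g ∈ Q := fun g => hGQ ▸ Subgroup.mem_top g
    haveI : B.Normal := by
      refine ⟨fun x hx g => ?_⟩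
      obtain ⟨i, rfl⟩ := Subgroup.mem_zpowers_iff.mp hx
      rw [← conj_zpow]
      refine zpow_mem ?_ i
      have key : (g * (e.symm (QuaternionGroup.a 1) : G) * g⁻¹) =
          (e.symm (e ⟨g, hmem g⟩ * QuaternionGroup.a 1 * (e ⟨g, hmem g⟩)⁻¹) : G) := by
        rw [map_mul, map_mul, map_inv, e.symm_apply_apply]; rfl
      rw [key]
      rcases q8_normal (e ⟨g, hmem g⟩) with h1 | h1
      · rw [h1]; exact Subgroup.mem_zpowers _
      · rw [h1, map_inv]; exact inv_mem (Subgroup.mem_zpowers _)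
    have hBc : Subgroup.centralizer (B : Set G) ≤ B := by
      intro g hg
      have h1 := Subgroup.mem_centralizer_iff.mp hg _ (Subgroup.mem_zpowers _)
      obtain ⟨k, hk⟩ := q8_index_two (e ⟨g, hmem g⟩) (by
        apply e.symm.injective
        rw [map_mul, map_mul, e.symm_apply_apply]
        exact Subtype.ext h1.symm)
      refine Subgroup.mem_zpowers_iff.mpr ⟨(k : ℕ), ?_⟩
      rw [zpow_natCast, ← Subgroup.coe_pow, ← map_pow, ← hk, e.symm_apply_apply]
    obtain ⟨h1, h2⟩ := cyclic_case h B inferInstance hBc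
    exact ⟨Or.inl h1, fun hq2 => Or.inl (h2 (heven hq2))⟩
  refine ⟨Or.inr ?_, fun _ => ?_⟩
  · rw [hV]
    rcases hq with rfl | rfl | rfl | rfl <;> norm_num
  -- a normal subgroup of index two unless the image in `Aut Q` has order 12
  by_cases h12 : C1.index = 12
  swap
  · refine Or.inl ?_
    have hcases : C1.index = 4 ∨ C1.index = 8 ∨ C1.index = 24 := by
      have : C1.index ≤ 24 := Nat.le_of_dvd (by norm_num) hi24
      interval_cases C1.index <;> simp_all (config := { decide := true })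
    rcases hcases with hk | hk | hk
    · exact index_two_of_two_power C1 (k := 1) hk
    · exact index_two_of_two_power C1 (k := 2) hk
    · have hsurj : Function.Surjective ((MulAut.congr e).toMonoidHom.comp α) := by
        refine (MulAut.congr e).surjective.comp ?_
        rw [← MonoidHom.range_eq_top, ← Subgroup.card_eq_iff_eq_top, ← Subgroup.index_ker, hαker, hk,
          Nat.card_congr (MulAut.congr e).toEquiv, card_mulAut_q8]
      let s : MulAut Q8 →* ℤˣ := Equiv.Perm.sign.comp
        { toFun := fun φ => φ.toEquiv, map_one' := rfl, map_mul' := fun _ _ => rfl }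
      obtain ⟨hmul, hinj, -, -⟩ := q8_pairs (QuaternionGroup.xa 0) (QuaternionGroup.a 1) (by decide)
      let φ : MulAut Q8 :=
        { Equiv.ofBijective _ (Finite.injective_iff_bijective.mp hinj) with map_mul' := hmul }
      have hφ : s φ = -1 := q8_odd_perm φ.toEquiv fun g => rfl
      let S : G →* ℤˣ := s.comp ((MulAut.congr e).toMonoidHom.comp α)
      refine ⟨S.ker, inferInstance, ?_⟩
      have hsur : Function.Surjective S := by
        intro u
        obtain ⟨g, hg⟩ := hsurj φ
        rcases Int.units_eq_one_or u with rfl | rfl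
        · exact ⟨1, map_one S⟩
        · exact ⟨g, by show s _ = -1; rw [hg, hφ]⟩
      rw [Subgroup.index_ker, MonoidHom.range_eq_top.mpr hsur, Subgroup.card_top,
        Nat.card_eq_fintype_card, Fintype.card_units_int]
  have hCA1 : Subgroup.centralizer (A : Set G) = ⊤ :=
    Subgroup.index_eq_one.mp (Nat.dvd_one.mp hiCA)
  rw [hCA1, inf_top_eq] at hAeq
  have hcardG : Nat.card A * 12 = q ^ 2 - 1 := by rw [← hG, ← A.card_mul_index, ← hAeq, h12]
  have hcentral : ∀ a ∈ A, ∀ g : G, a * g = g * a := fun a ha g =>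
    (Subgroup.mem_centralizer_iff.mp (hCA1 ▸ Subgroup.mem_top g) a ha)
  -- an element of order three
  obtain ⟨t, ht⟩ := exists_prime_orderOf_dvd_card' (G := G) 3 (by
    rw [← C1.card_mul_index, h12]; exact dvd_mul_of_dvd_right (by norm_num) _)
  have hA23 : q = 5 ∧ Nat.card A = 2 ∨ q = 11 ∧ Nat.card A = 10 ∨ q = 7 ∧ Nat.card A = 4 := by
    rcases hq with rfl | rfl | rfl | rfl
    · left; exact ⟨rfl, by norm_num at hcardG; omega⟩
    · right; right; exact ⟨rfl, by norm_num at hcardG; omega⟩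
    · right; left; exact ⟨rfl, by norm_num at hcardG; omega⟩
    · exfalso
      have : Nat.card A = 44 := by norm_num at hcardG; omega
      rw [this] at hAd
      norm_num at hAd
  have ht3 : t ^ 3 = 1 := ht ▸ pow_orderOf_eq_one t
  have htA : t ∉ C1 := by
    intro htc
    rw [hAeq] at htc
    have : orderOf t ∣ Nat.card A := Subgroup.orderOf_mk t htc ▸ orderOf_dvd_natCard _
    rw [ht] at this
    rcases hA23 with ⟨-, hc⟩ | ⟨-, hc⟩ | ⟨-, hc⟩ <;> rw [hc] at this <;> norm_num at this
  -- exclude the case of 49 vectors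
  have hA' : q = 5 ∧ Nat.card A = 2 ∨ q = 11 ∧ Nat.card A = 10 := by
    rcases hA23 with hc | hc | ⟨-, hc⟩
    · exact Or.inl hc
    · exact Or.inr hc
    exfalso
    obtain ⟨c, hc4⟩ := hAc.exists_ofOrder_eq_natCard
    rw [hc, ← Subgroup.orderOf_coe] at hc4
    set i : G := (e.symm (QuaternionGroup.a 1) : G)
    have hi1 : i * i * (i * i) = 1 := by
      rw [← Subgroup.coe_mul, ← Subgroup.coe_mul, ← map_mul, ← map_mul, q8_four.2.2, map_one]; rfl
    have hi2 : i * i ≠ 1 := fun hc => q8_four.1 (e.symm.injective (Subtype.ext (by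
      rw [map_mul, map_one]; exact hc)))
    have hc1 : (c : G) * c * ((c : G) * c) = 1 := by
      have := pow_orderOf_eq_one (c : G)
      rw [hc4] at this
      rw [← this]; simp [pow_succ, mul_assoc]
    have hc2 : (c : G) * c ≠ 1 := fun e => by
      have := orderOf_dvd_of_pow_eq_one ((pow_two _).trans e)
      rw [hc4] at this
      norm_num at this
    apply q8_noncomm
    apply e.symm.injective
    apply Subtype.ext
    rw [map_mul, map_mul, Subgroup.coe_mul, Subgroup.coe_mul]
    rcases no_four_group h (hcentral c c.2 i).symm (involution_unique h hi1 hc1 hi2 hc2) hi1 hi2 with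
      e1 | e1
    · show i * _ = _ * i
      rw [e1]; exact hcentral c c.2 _
    · show i * _ = _ * i
      rw [e1]; exact hcentral _ (inv_mem c.2) _
  -- relations of `SL(2,3)`
  let ψ : MulAut Q := α t
  have hψ3 : ∀ x, ψ (ψ (ψ x)) = x := by
    intro x
    have : ψ * ψ * ψ = 1 := by
      rw [← map_mul, ← map_mul, ← pow_two, ← pow_succ, ht3, map_one]
    exact congrArg (fun s : MulAut Q => s x) this
  obtain ⟨x, hx⟩ : ∃ x : Q, x * ψ x ≠ ψ x * x := by
    by_contra hcon
    push Not at hcon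
    apply htA
    rw [← hαker, MonoidHom.mem_ker]
    have hmodel : ∀ a b : Q8, a * b = b * a → a * a ≠ 1 → b * b ≠ 1 → b = a ∨ b = a⁻¹ := by decide
    have hfix : ∀ x : Q, x * x ≠ 1 → ψ x = x := by
      intro x hx
      have hx' : ψ x * ψ x ≠ 1 := fun e => hx (ψ.injective (by rw [map_mul, map_one]; exact e))
      rcases hmodel (e x) (e (ψ x)) (by rw [← map_mul, ← map_mul, hcon x])
        (fun h => hx (e.injective (by rw [map_mul, map_one]; exact h)))
        (fun h => hx' (e.injective (by rw [map_mul, map_one]; exact h))) with h1 | h1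
      · exact e.injective h1
      · exfalso
        rw [← map_inv] at h1
        have h2 : ψ x = x⁻¹ := e.injective h1
        have h3 := hψ3 x
        rw [h2, map_inv, h2, inv_inv, h2] at h3
        exact hx (by nth_rw 1 [← h3]; exact inv_mul_cancel x)
    refine MulEquiv.ext fun y => ?_
    show ψ y = y
    obtain ⟨k, l, hkl⟩ := q8_gen (e y)
    have hy : y = (e.symm (QuaternionGroup.a 1)) ^ (k : ℕ) * (e.symm (QuaternionGroup.xa 0)) ^ (l : ℕ) := by
      apply e.injective; simp [hkl]
    have f4 : ∀ a : Q8, a * a ≠ 1 → ψ (e.symm a) = e.symm a := fun a ha =>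
      hfix _ fun hh => ha (e.symm.injective (by rw [map_mul, map_one]; exact hh))
    rw [hy, map_mul, map_pow, map_pow, f4 _ q8_four.1, f4 _ q8_four.2.1]
  set y := ψ x with hy
  set l := ψ y with hl
  have hlx : ψ l = x := hψ3 x
  have nc : ∀ a b : Q, a * b ≠ b * a → e a * e b ≠ e b * e a := fun a b hab hc =>
    hab (e.injective (by rw [map_mul, map_mul]; exact hc))
  have nψ : ∀ a b : Q, a * b ≠ b * a → ψ a * ψ b ≠ ψ b * ψ a := fun a b hab hc =>
    hab (ψ.injective (by rw [map_mul, map_mul]; exact hc))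
  have hyl : y * l ≠ l * y := nψ x y hx
  have hlxn : l * x ≠ x * l := hlx ▸ (nψ y l hyl : ψ y * ψ l ≠ ψ l * ψ y)
  obtain ⟨hsq, hinv, hx2, hxyx, hor⟩ := q8_triple (e x) (e y) (e l) (nc x y hx) (nc y l hyl) (nc l x hlxn)
  obtain ⟨hsq', hinv', -, -, -⟩ := q8_triple (e x) (e l) (e y) (fun hc => nc l x hlxn hc.symm)
    (fun hc => nc y l hyl hc.symm) (fun hc => nc x y hx hc.symm)
  have back : ∀ {a b : Q}, e a = e b → (a : G) = b := fun hab => congrArg Subtype.val (e.injective hab)
  have hx4 : (x : G) ^ 4 = 1 := by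
    rw [← Subgroup.coe_pow, ← Subgroup.coe_one Q]
    apply back
    rw [map_pow, map_one]
    have := q8_four.2.2 (e x)
    rw [← this]; simp [pow_succ, mul_assoc]
  have hψc : ∀ z : Q, (ψ z : G) = t * z * t⁻¹ := fun z => rfl
  obtain ⟨g, hg3, hgo, hgC, hr1, hr2, hr3⟩ : ∃ g : G, g ^ 3 = 1 ∧ g ≠ 1 ∧ g ∉ C1 ∧
      g * (x : G) * g⁻¹ * (g * x * g⁻¹) = x * x ∧
      g * (x : G) * g⁻¹ * x * (g * x * g⁻¹)⁻¹ = (x : G)⁻¹ ∧
      g * (g * x * g⁻¹) * g⁻¹ = x * (g * x * g⁻¹) := by
    rcases hor with hl1 | hl1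
    · refine ⟨t, ht3, fun h1 => htA (h1 ▸ one_mem _), htA, ?_, ?_, ?_⟩
      · rw [← hψc, ← Subgroup.coe_mul, ← Subgroup.coe_mul]
        exact back (by rw [map_mul, map_mul]; exact hsq)
      · rw [← hψc, ← InvMemClass.coe_inv, ← InvMemClass.coe_inv, ← Subgroup.coe_mul, ← Subgroup.coe_mul]
        exact back (by rw [map_mul, map_mul, map_inv, map_inv]; exact hinv)
      · rw [← hψc, ← hψc, ← Subgroup.coe_mul]
        exact back (by rw [map_mul]; exact hl1)
    · have ht2 : t * t ∉ C1 := fun hc => htA (by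
        have := mul_mem hc hc
        rwa [show t * t * (t * t) = t by rw [← mul_assoc, ← pow_two, ← pow_succ, ht3, one_mul]] at this)
      have hconj : ∀ z : Q, t * t * (z : G) * (t * t)⁻¹ = (ψ (ψ z) : G) := fun z => by
        rw [hψc, hψc]; group
      refine ⟨t * t, by rw [← pow_two, ← pow_mul, mul_comm, pow_mul, ht3, one_pow],
        fun h1 => ht2 (h1 ▸ one_mem _), ht2, ?_, ?_, ?_⟩
      · rw [hconj, ← Subgroup.coe_mul, ← Subgroup.coe_mul]
        exact back (by rw [map_mul, map_mul]; exact hsq')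
      · rw [hconj, ← InvMemClass.coe_inv, ← InvMemClass.coe_inv, ← Subgroup.coe_mul, ← Subgroup.coe_mul]
        exact back (by rw [map_mul, map_mul, map_inv, map_inv]; exact hinv')
      · rw [hconj, hconj, ← Subgroup.coe_mul]
        refine back ?_
        show e (ψ (ψ l)) = e (x * l)
        rw [hlx, map_mul, hl1, hxyx]
  obtain ⟨F, hFw, hFu⟩ := SL23Model77.exists_hom (x : G) g hx4 hg3 hr1 hr2 hr3
  have hFinj : Function.Injective F := by
    rw [injective_iff_map_eq_one]
    intro s hs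
    by_contra hne
    have hz : F (SL23Model77.w0 ^ 2) = 1 := by
      rcases SL23Model77.kernel_fact s hne with h1 | h1 | h1 | h1 | h1 <;> rw [← h1] <;>
        simp [map_mul, map_pow, map_inv, hs]
    rw [map_pow, hFw, pow_two] at hz
    exact hx2 (by rw [← map_mul, ← map_one e]; exact congrArg e (Subtype.ext hz))
  have hcardSL : Nat.card (Matrix.SpecialLinearGroup (Fin 2) (ZMod 3)) = 24 := by
    rw [← Nat.card_congr (Equiv.ofBijective SL23Model77.enc
      ⟨SL23Model77.enc_injective, SL23Model77.enc_surjective⟩)]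
    simp [SL23Model77.Idx]
  rcases hA' with ⟨rfl, hA2⟩ | ⟨rfl, hA10⟩
  · refine Or.inr (Or.inl ⟨by rw [hV]; norm_num, ⟨(MulEquiv.ofBijective F
      ((Nat.bijective_iff_injective_and_card F).mpr ⟨hFinj, ?_⟩)).symm⟩⟩)
    rw [hcardSL, hG]; norm_num
  · haveI : Fact (Nat.Prime 5) := ⟨by norm_num⟩
    obtain ⟨c, hc⟩ := exists_prime_orderOf_dvd_card' (G := A) 5 (hA10 ▸ by norm_num)
    rw [← Subgroup.orderOf_coe] at hc
    have hc5 : (c : G) ^ 5 = 1 := hc ▸ pow_orderOf_eq_one _
    let C : Multiplicative (ZMod 5) →* G :=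
      { toFun := fun k => (c : G) ^ k.toAdd.val
        map_one' := by simp
        map_mul' := fun a b => by
          rw [toAdd_mul, ZMod.val_add, ← pow_add]
          conv_rhs => rw [← pow_mod_orderOf, hc] }
    have hcomm : ∀ a b, Commute (F a) (C b) := fun a b =>
      (show (C b) * F a = F a * C b from hcentral _ (pow_mem c.2 _) _).symm
    have hinj : Function.Injective (MonoidHom.noncommCoprod F C hcomm) := by
      rw [injective_iff_map_eq_one]
      rintro ⟨s, k⟩ hsk
      rw [MonoidHom.noncommCoprod_apply] at hsk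
      have h24 : F s ^ 24 = 1 := by
        rw [← map_pow, ← hcardSL, pow_card_eq_one', map_one]
      have h5 : C k ^ 5 = 1 := by
        show ((c : G) ^ _) ^ 5 = 1
        rw [← pow_mul, mul_comm, pow_mul, hc5, one_pow]
      have hFs : F s = (C k)⁻¹ := eq_inv_of_mul_eq_one_left hsk
      have hFs1 : F s = 1 := by
        refine orderOf_eq_one_iff.mp (Nat.eq_one_of_dvd_coprimes (by norm_num : Nat.Coprime 24 5)
          (orderOf_dvd_of_pow_eq_one h24) (orderOf_dvd_of_pow_eq_one ?_))
        rw [hFs, inv_pow, h5, inv_one]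
      rw [hFs1, one_mul] at hsk
      have hk : k = 1 := by
        have hd : orderOf (c : G) ∣ k.toAdd.val := orderOf_dvd_of_pow_eq_one hsk
        rw [hc] at hd
        have := Nat.eq_zero_of_dvd_of_lt hd (ZMod.val_lt _)
        exact congrArg Multiplicative.ofAdd ((ZMod.val_eq_zero _).mp this)
      exact Prod.ext (hFinj (hFs1.trans (map_one F).symm)) hk
    refine Or.inr (Or.inr ⟨by rw [hV]; norm_num, ⟨(MulEquiv.ofBijective (MonoidHom.noncommCoprod F C hcomm)
      ((Nat.bijective_iff_injective_and_card _).mpr ⟨hinj, ?_⟩)).symm⟩⟩)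
    rw [Nat.card_prod, hcardSL, hG, Nat.card_congr Multiplicative.toAdd, Nat.card_zmod]; norm_num

end Cfsg.Agent.SolvableRegularStruct75
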