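import Mathlib
import Cfsg.Agent.Lib.SolvableRegularStruct75

/-!
Transitive linear groups: the field attached to an abelian normal subgroup and the bounds for a
normal subgroup of class two containing non-free elements.
-/

set_option autoImplicit false
set_option linter.style.haveILetI false

namespace Cfsg.Agent.TransitiveLinearField75

variable {q : ℕ} [Fact q.Prime] {V : Type*} [AddCommGroup V] [Module (ZMod q) V] [Finite V]
  [Nontrivial V] {G : Type*} [Group G] [Finite G]

/-- A faithful representation transitive on the non-zero vectors. -/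
structure IsTransRep (ρ : G →* (V ≃ₗ[ZMod q] V)) : Prop where
  inj : Function.Injective ρ
  trans : ∀ v w : V, v ≠ 0 → w ≠ 0 → ∃ g : G, ρ g v = w

variable {ρ : G →* (V ≃ₗ[ZMod q] V)}

open SolvableRegularLinear75 (map_mul_apply)

/-- The field data of an abelian normal subgroup. -/
structure FieldData (ρ : G →* (V ≃ₗ[ZMod q] V)) (A : Subgroup G) where
  /-- the field -/
  F : Subalgebra (ZMod q) (Module.End (ZMod q) V)
  field : IsField F
  d : ℕ
  card_F : Nat.card F = q ^ d
  /-- `A` inside the field -/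
  scal : A →* F
  scal_apply : ∀ (a : A) (v : V), (scal a : Module.End (ZMod q) V) v = ρ (a : G) v
  /-- the action on the field -/
  act : G →* Multiplicative (ZMod d)
  ker_act : act.ker = Subgroup.centralizer (A : Set G)
  linear : ∀ g ∈ Subgroup.centralizer (A : Set G), ∀ (r : F) (v : V),
    ρ g ((r : Module.End (ZMod q) V) v) = (r : Module.End (ZMod q) V) (ρ g v)
  semi : ∀ g : G, ∃ σ : F ≃+* F, ∀ (r : F) (v : V),
    ρ g ((r : Module.End (ZMod q) V) v) = (σ r : Module.End (ZMod q) V) (ρ g v)

theorem hinv (g : G) (v : V) : ρ g (ρ g⁻¹ v) = v := by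
  rw [← map_mul_apply, mul_inv_cancel, map_one]; rfl

theorem hinv' (g : G) (v : V) : ρ g⁻¹ (ρ g v) = v := by
  rw [← map_mul_apply, inv_mul_cancel, map_one]; rfl

theorem exists_fieldData (h : IsTransRep ρ) (A : Subgroup G) [A.Normal]
    (hA : ∀ a ∈ A, ∀ b ∈ A, a * b = b * a) : Nonempty (FieldData ρ A) := by
  classical
  set S : Set (Module.End (ZMod q) V) := (fun a : G => (ρ a).toLinearMap) '' (A : Set G) with hS
  set F := Algebra.adjoin (ZMod q) S with hF
  haveI : Finite (Module.End (ZMod q) V) :=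
    Finite.of_injective (fun f => (f : V → V)) DFunLike.coe_injective
  letI : CommRing F := Algebra.adjoinCommRingOfComm (ZMod q) (by
    rintro _ ⟨a, ha, rfl⟩ _ ⟨b, hb, rfl⟩
    refine LinearMap.ext fun v => ?_
    show ρ a (ρ b v) = ρ b (ρ a v)
    rw [← map_mul_apply, ← map_mul_apply, hA a ha b hb])
  have hpowmem : ∀ x ∈ A, (ρ x).toLinearMap ∈ F := fun x hx => Algebra.subset_adjoin ⟨x, hx, rfl⟩
  let c : G → Module.End (ZMod q) V → Module.End (ZMod q) V := fun g x =>
    (ρ g).toLinearMap ∘ₗ x ∘ₗ (ρ g⁻¹).toLinearMap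
  have capply : ∀ g x v, c g x v = ρ g (x (ρ g⁻¹ v)) := fun g x v => rfl
  let cAlg : G → (Module.End (ZMod q) V →ₐ[ZMod q] Module.End (ZMod q) V) := fun g =>
    AlgHom.ofLinearMap
      { toFun := c g
        map_add' := fun x y => LinearMap.ext fun v => by simp [capply]
        map_smul' := fun r x => LinearMap.ext fun v => by simp [capply] }
      (LinearMap.ext fun v => by simp [capply, hinv])
      (fun x y => LinearMap.ext fun v => by simp [capply, hinv'])
  have hcmem : ∀ g, ∀ x ∈ F, c g x ∈ F := by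
    intro g x hx
    have : cAlg g x ∈ F.map (cAlg g) := ⟨x, hx, rfl⟩
    refine (?_ : F.map (cAlg g) ≤ F) this
    rw [hF, AlgHom.map_adjoin, Algebra.adjoin_le_iff]
    rintro _ ⟨_, ⟨a, ha, rfl⟩, rfl⟩
    have e : cAlg g (ρ a).toLinearMap = (ρ (g * a * g⁻¹)).toLinearMap := LinearMap.ext fun v => by
      show c g _ v = ρ (g * a * g⁻¹) v
      rw [capply, map_mul_apply, map_mul_apply]; rfl
    show cAlg g (ρ a).toLinearMap ∈ F
    rw [e]; exact hpowmem _ ((inferInstance : A.Normal).conj_mem _ ha g)
  let Fv : V → Submodule (ZMod q) V := fun v =>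
    Submodule.map ((LinearMap.applyₗ v : Module.End (ZMod q) V →ₗ[ZMod q] V)) (Subalgebra.toSubmodule F)
  have hFv : ∀ v w, w ∈ Fv v ↔ ∃ r ∈ F, r v = w := fun v w => Iff.rfl
  have hirr : ∀ v w : V, w ≠ 0 → w ∈ Fv v → v ∈ Fv w := by
    intro v w hw hwv
    obtain ⟨v₀, hv₀, hmin⟩ := Set.exists_min_image {x : V | x ≠ 0} (fun x => Nat.card (Fv x))
      (Set.toFinite _) ⟨w, hw⟩
    have hv : v ≠ 0 := by
      rintro rfl
      obtain ⟨r, -, hr⟩ := (hFv _ _).mp hwv
      exact hw (by rw [← hr, map_zero])
    obtain ⟨g, rfl⟩ := h.trans v₀ v hv₀ hv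
    have hsub : ∀ x y, y ∈ Fv x → Fv y ≤ Fv x := by
      intro x y hy z hz
      obtain ⟨r, hr, rfl⟩ := (hFv _ _).mp hz
      obtain ⟨s, hs, rfl⟩ := (hFv _ _).mp hy
      exact (hFv _ _).mpr ⟨r * s, mul_mem hr hs, rfl⟩
    have htrans : ∀ g x y, y ∈ Fv x → ρ g y ∈ Fv (ρ g x) := by
      intro g x y hy
      obtain ⟨r, hr, rfl⟩ := (hFv _ _).mp hy
      refine (hFv _ _).mpr ⟨c g r, hcmem g r hr, ?_⟩
      rw [capply, hinv']
    set w₀ := ρ g⁻¹ w
    have hw₀ : w₀ ≠ 0 := fun e => hw ((ρ g⁻¹).map_eq_zero_iff.mp e)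
    have hw₀v : w₀ ∈ Fv v₀ := by
      have := htrans g⁻¹ _ _ hwv
      rwa [hinv'] at this
    have heq : Fv w₀ = Fv v₀ := by
      refine SetLike.ext' (Set.eq_of_subset_of_ncard_le (hsub _ _ hw₀v) ?_ (Set.toFinite _))
      rw [← Nat.card_coe_set_eq, ← Nat.card_coe_set_eq]
      exact hmin _ hw₀
    have : v₀ ∈ Fv w₀ := heq ▸ (hFv _ _).mpr ⟨1, one_mem _, rfl⟩
    have := htrans g _ _ this
    rwa [hinv] at this
  have hinjr : ∀ r : F, r ≠ 0 → ∀ v, (r : Module.End (ZMod q) V) v = 0 → v = 0 := by
    intro r hr v hv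
    by_contra hv0
    apply hr
    apply Subtype.ext
    refine LinearMap.ext fun u => ?_
    show (r : Module.End (ZMod q) V) u = 0
    by_contra hru
    have hinjon : ∀ x, x ∈ Fv u → (r : Module.End (ZMod q) V) x = 0 → x = 0 := by
      intro x hx hrx
      by_contra hx0
      obtain ⟨s, hs, hsx⟩ := (hFv _ _).mp (hirr u x hx0 hx)
      apply hru
      rw [← hsx]
      have := congrArg Subtype.val (mul_comm r ⟨s, hs⟩)
      have := LinearMap.congr_fun this x
      exact this.trans (by show s ((r : Module.End (ZMod q) V) x) = 0; rw [hrx, map_zero])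
    have h1 : (r : Module.End (ZMod q) V) (v + u) = (r : Module.End (ZMod q) V) u := by
      rw [map_add, hv, zero_add]
    have hru1 : (r : Module.End (ZMod q) V) u ∈ Fv (v + u) := (hFv _ _).mpr ⟨r, r.2, h1⟩
    obtain ⟨s, hs, hsu⟩ := (hFv _ _).mp (hirr _ _ hru hru1)
    have hvu : v + u ∈ Fv u := (hFv _ _).mpr ⟨s * r, mul_mem hs r.2, hsu⟩
    have hv' : v ∈ Fv u := by
      have := Submodule.sub_mem _ hvu ((hFv u u).mpr ⟨1, one_mem _, rfl⟩)
      simpa using this
    exact hv0 (hinjon v hv' hv)
  haveI : Nontrivial F := ⟨⟨0, 1, fun e => by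
    obtain ⟨v, hv⟩ := exists_ne (0 : V)
    exact hv (LinearMap.congr_fun (congrArg Subtype.val e) v).symm⟩⟩
  haveI : NoZeroDivisors F := ⟨fun {r s} hrs => by
    by_contra hcon
    push Not at hcon
    obtain ⟨v, hv⟩ := exists_ne (0 : V)
    exact hv (hinjr s hcon.2 v (hinjr r hcon.1 _
      (LinearMap.congr_fun (congrArg Subtype.val hrs) v)))⟩
  haveI : IsDomain F := NoZeroDivisors.to_isDomain F
  haveI : Fintype F := Fintype.ofFinite F
  have hfield : IsField F := Finite.isDomain_to_isField F
  letI : Field F := Fintype.fieldOfDomain F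
  set d := Module.finrank (ZMod q) F with hd
  have hcardF : Nat.card F = q ^ d := by
    rw [Module.natCard_eq_pow_finrank (K := ZMod q), Nat.card_zmod]
  let σ : G → (F →ₐ[ZMod q] F) := fun g =>
    ((cAlg g).comp F.val).codRestrict F (fun r => hcmem g r r.2)
  have hσi : ∀ g, Function.Bijective (σ g) := fun g =>
    Finite.injective_iff_bijective.mp (σ g).toRingHom.injective
  let Sh : G →* Gal(F/ZMod q) :=
    { toFun := fun g => AlgEquiv.ofBijective (σ g) (hσi g)
      map_one' := AlgEquiv.ext fun r => Subtype.ext (LinearMap.ext fun v => by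
        show c 1 r v = _
        rw [capply]; simp)
      map_mul' := fun g g' => AlgEquiv.ext fun r => Subtype.ext (LinearMap.ext fun v => by
        show c (g * g') r v = c g (c g' r) v
        rw [capply, capply, capply, mul_inv_rev, map_mul_apply, map_mul_apply]) }
  have hSh : ∀ g (r : F) v, ρ g ((r : Module.End (ZMod q) V) v) =
      (Sh g r : Module.End (ZMod q) V) (ρ g v) := by
    intro g r v
    show _ = c g r (ρ g v)
    rw [capply, hinv']
  have hcardS : Nat.card Gal(F/ZMod q) = d := IsGalois.card_aut_eq_finrank (ZMod q) F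
  haveI : IsCyclic Gal(F/ZMod q) := inferInstance
  let e : Gal(F/ZMod q) ≃* Multiplicative (ZMod d) :=
    (hcardS ▸ zmodCyclicMulEquiv (G := Gal(F/ZMod q)) inferInstance).symm
  have hker : Sh.ker = Subgroup.centralizer (A : Set G) := by
    ext g
    rw [MonoidHom.mem_ker, Subgroup.mem_centralizer_iff]
    constructor
    · intro hg x hx
      refine h.inj (LinearEquiv.ext fun v => ?_)
      have h2 := hSh g ⟨_, hpowmem x hx⟩ v
      rw [hg] at h2
      rw [map_mul_apply, map_mul_apply]
      exact h2.symm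
    · intro hg
      refine AlgEquiv.ext fun r => ?_
      show σ g r = r
      have : (σ g) = AlgHom.id (ZMod q) F := by
        refine AlgHom.adjoin_ext fun x hx => ?_
        apply Subtype.ext
        obtain ⟨a, ha, rfl⟩ := hx
        refine LinearMap.ext fun v => ?_
        show c g (ρ a).toLinearMap v = ρ a v
        rw [capply]
        show ρ g (ρ a (ρ g⁻¹ v)) = _
        rw [← map_mul_apply, ← hg a ha, map_mul_apply, hinv]
      rw [this]; rfl
  exact ⟨{ F := F, field := hfield, d := d, card_F := hcardF,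
           scal := { toFun := fun x => ⟨_, hpowmem x x.2⟩
                     map_one' := Subtype.ext (by
                       show (ρ ((1 : A) : G)).toLinearMap = _; rw [Subgroup.coe_one, map_one]; rfl)
                     map_mul' := fun x y => Subtype.ext (LinearMap.ext fun v => map_mul_apply (x : G) y v) }
           scal_apply := fun a v => rfl
           act := e.toMonoidHom.comp Sh
           ker_act := by
             rw [← MonoidHom.comap_ker, (MonoidHom.ker_eq_bot_iff _).mpr e.injective, MonoidHom.comap_bot, hker]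
           linear := fun g hg r v => by
             rw [hSh]
             have : Sh g = 1 := by rw [← MonoidHom.mem_ker, hker]; exact hg
             rw [this]; rfl
           semi := fun g => ⟨(Sh g).toRingEquiv, fun r v => hSh g r v⟩ }⟩

section data

variable {A : Subgroup G} (D : FieldData ρ A)

/-- The field structure on `D.F`. -/
@[reducible]
noncomputable def FieldData.toField : Field D.F := D.field.toField

theorem FieldData.d_pos : 0 < D.d := by
  haveI : Finite (Module.End (ZMod q) V) :=
    Finite.of_injective (fun f => (f : V → V)) DFunLike.coe_injective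
  rcases Nat.eq_zero_or_pos D.d with h0 | h0
  · have h1 := D.card_F
    rw [h0, pow_zero, Nat.card_eq_one_iff_unique] at h1
    haveI := h1.1
    obtain ⟨x, y, hxy⟩ := D.field.exists_pair_ne
    exact absurd (Subsingleton.elim x y) hxy
  · exact h0

theorem FieldData.index_dvd : (Subgroup.centralizer (A : Set G)).index ∣ D.d := by
  haveI : NeZero D.d := ⟨D.d_pos.ne'⟩
  rw [← D.ker_act, Subgroup.index_ker]
  have := Subgroup.card_subgroup_dvd_card D.act.range
  rwa [Nat.card_congr Multiplicative.toAdd, Nat.card_zmod] at this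

theorem FieldData.scal_injective (h : IsTransRep ρ) : Function.Injective D.scal := by
  intro a b hab
  refine Subtype.ext (h.inj (LinearEquiv.ext fun v => ?_))
  rw [← D.scal_apply, ← D.scal_apply, hab]

theorem FieldData.card_dvd (h : IsTransRep ρ) : Nat.card A ∣ q ^ D.d - 1 := by
  letI := D.toField
  haveI : Finite (Module.End (ZMod q) V) :=
    Finite.of_injective (fun f => (f : V → V)) DFunLike.coe_injective
  let f : A →* D.Fˣ := D.scal.toHomUnits
  have hf : Function.Injective f := fun x y hxy => D.scal_injective h (congrArg Units.val hxy)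
  have := Subgroup.card_dvd_of_injective f hf
  rwa [Nat.card_units, D.card_F] at this

/-- The dimension over the field. -/
noncomputable def FieldData.dim : ℕ :=
  letI := D.toField
  letI : Module D.F V := Module.compHom V D.F.val.toRingHom
  Module.finrank D.F V

theorem FieldData.card_V : 0 < D.dim ∧ Nat.card V = q ^ (D.d * D.dim) := by
  letI := D.toField
  letI : Module D.F V := Module.compHom V D.F.val.toRingHom
  haveI : Module.Finite D.F V := Module.Finite.of_finite
  have h1 : Nat.card V = Nat.card D.F ^ D.dim := Module.natCard_eq_pow_finrank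
  refine ⟨?_, by rw [h1, D.card_F, ← pow_mul]⟩
  by_contra h0
  rw [Nat.eq_zero_of_not_pos h0, pow_zero] at h1
  exact absurd h1 Finite.one_lt_card.ne'

/-- A one-dimensional space gives the semilinear embedding. -/
theorem FieldData.semilinear_of_dim_one (hm : D.dim = 1) :
    ∃ (F : Type) (_ : Field F) (_ : Fintype F) (e : V ≃+ F),
      ∀ g : G, ∃ (a : F) (σ : F ≃+* F), ∀ v : V, e (ρ g v) = a * σ (e v) := by
  classical
  haveI : Finite (Module.End (ZMod q) V) :=
    Finite.of_injective (fun f => (f : V → V)) DFunLike.coe_injective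
  letI := D.toField
  letI : Module D.F V := Module.compHom V D.F.val.toRingHom
  haveI : Module.Finite D.F V := Module.Finite.of_finite
  obtain ⟨v, hv⟩ := exists_ne (0 : V)
  have hall : ∀ u : V, ∃ r : D.F, r • v = u := exists_smul_eq_of_finrank_eq_one hm hv
  let f0 : D.F →+ V :=
    { toFun := fun r => r • v, map_zero' := zero_smul D.F v, map_add' := fun r s => add_smul r s v }
  let e₀ : D.F ≃+ V := AddEquiv.ofBijective f0 ⟨smul_left_injective D.F hv, hall⟩
  haveI : Fintype D.F := Fintype.ofFinite _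
  haveI : Small.{0} D.F := inferInstance
  let e1 : Shrink.{0} D.F ≃+* D.F := Shrink.ringEquiv D.F
  refine ⟨Shrink.{0} D.F, inferInstance, Fintype.ofEquiv D.F (equivShrink D.F),
    e₀.symm.trans e1.toAddEquiv.symm, fun g => ?_⟩
  obtain ⟨σ, hσ⟩ := D.semi g
  refine ⟨e1.symm (e₀.symm (ρ g v)), (e1.trans σ).trans e1.symm, fun u => ?_⟩
  obtain ⟨r, hr⟩ := e₀.surjective u
  subst hr
  show e1.symm (e₀.symm (ρ g (r • v))) = e1.symm (e₀.symm (ρ g v)) * e1.symm (σ (e1 (e1.symm
    (e₀.symm (e₀ r)))))
  rw [e₀.symm_apply_apply, e1.apply_symm_apply, ← map_mul]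
  congr 1
  obtain ⟨s, hs⟩ := e₀.surjective (ρ g v)
  rw [← hs, e₀.symm_apply_apply]
  apply e₀.injective
  rw [e₀.apply_symm_apply]
  show ρ g ((r : Module.End (ZMod q) V) v) = (s * σ r) • v
  rw [hσ, mul_comm, mul_smul]
  show _ = σ r • e₀ s
  rw [hs]; rfl

/-- The arithmetic of the two-piece bound. -/
theorem piece_bound {Q H c N : ℕ} (hQ : 3 ≤ Q) (hH : 1 ≤ H) (hc4 : c ≤ 4) (hcQ : c ≤ Q - 1)
    (hN : 4 * N ≤ (2 * H) ^ 2) (hb : Q ^ H - 1 ≤ c * N) : Q ^ (2 * H) ∈ ({9, 16, 25, 81} : Set ℕ) := by
  have hN' : N ≤ H * H := by nlinarith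
  have hcN : c * N ≤ c * (H * H) := Nat.mul_le_mul_left _ hN'
  have hH2 : H ≤ 3 := by
    by_contra hlt
    have key : ∀ j, 4 * ((j + 4) * (j + 4)) + 1 < 3 ^ (j + 4) := by
      intro j
      induction j with
      | zero => norm_num
      | succ j ih =>
        rw [show j + 1 + 4 = j + 4 + 1 by omega, pow_succ]
        nlinarith
    have h1 := key (H - 4)
    rw [show H - 4 + 4 = H by omega] at h1
    have h2 : 3 ^ H ≤ Q ^ H := Nat.pow_le_pow_left hQ H
    have h3 : c * (H * H) ≤ 4 * (H * H) := Nat.mul_le_mul_right _ hc4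
    omega
  interval_cases H
  · have : Q ≤ 5 := by simp only [pow_one, mul_one] at hb hcN; omega
    interval_cases Q <;> norm_num
  · have : Q ≤ 4 := by
      by_contra hlt
      have : 5 ^ 2 ≤ Q ^ 2 := Nat.pow_le_pow_left (by omega) 2
      omega
    interval_cases Q
    · norm_num
    · omega
  · exfalso
    rcases Nat.lt_or_ge Q 4 with h4 | h4
    · interval_cases Q; omega
    · have : 4 ^ 3 ≤ Q ^ 3 := Nat.pow_le_pow_left h4 3
      omega

end data

section abstract

variable {A : Subgroup G} {K : Type*} [Field K] [Finite K] [Module K V]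

/-- A normal subgroup of class two between `A` and its centralizer with a non-free element;
`K` is any field of scalars containing `A`, over which the subgroup is linear. -/
theorem nonfree_core (sc : A →* K) (hsc : Function.Injective sc)
    (hsA : ∀ (a : A) (u : V), ρ (a : G) u = sc a • u)
    {d : ℕ} (hd : 0 < d) (hK : Nat.card K = q ^ d)
    (h : IsTransRep ρ) (M : Subgroup G) [M.Normal] (hAM : A ≤ M)
    (hMC : M ≤ Subgroup.centralizer (A : Set G))
    (hsmul : ∀ g ∈ M, ∀ (r : K) (u : V), ρ g (r • u) = r • ρ g u)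
    (hcomm : ∀ a ∈ M, ∀ b ∈ M, a * b * a⁻¹ * b⁻¹ ∈ A)
    (hZ : ∀ z ∈ M, (∀ y ∈ M, y * z = z * y) → z ∈ A)
    {x : G} (hx : x ∈ M) (hx1 : x ≠ 1) {v : V} (hv : v ≠ 0) (hxv : ρ x v = v) :
    Nat.card V ∈ ({9, 25, 49, 121, 529, 81} : Set ℕ) := by
  classical
  haveI : Module.Finite K V := Module.Finite.of_finite
  have hAfree : ∀ a : A, ∀ u : V, u ≠ 0 → ρ (a : G) u = u → a = 1 := by
    intro a u hu hau
    rw [hsA] at hau
    refine hsc ?_
    rw [map_one]
    exact smul_left_injective K hu (hau.trans (one_smul _ u).symm)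
  -- the commutator scalar
  let kap : ∀ (a b : G), a ∈ M → b ∈ M → K := fun a b ha hb => sc ⟨_, hcomm a ha b hb⟩
  have hkap : ∀ a b (ha : a ∈ M) (hb : b ∈ M) (u : V),
      ρ a (ρ b u) = kap a b ha hb • ρ b (ρ a u) := by
    intro a b ha hb u
    rw [← hsA ⟨_, hcomm a ha b hb⟩, ← map_mul_apply, ← map_mul_apply, ← map_mul_apply]
    congr 2
    group
  have hkap0 : ∀ a b (ha : a ∈ M) (hb : b ∈ M), kap a b ha hb ≠ 0 := by
    intro a b ha hb e
    obtain ⟨u, hu⟩ := exists_ne (0 : V)
    have := hsA ⟨_, hcomm a ha b hb⟩ u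
    rw [show sc _ = (0 : K) from e, zero_smul] at this
    exact hu ((ρ _).map_eq_zero_iff.mp this)
  have hkone : ∀ a b (ha : a ∈ M) (hb : b ∈ M), kap a b ha hb = 1 → a * b = b * a := by
    intro a b ha hb e
    have : (⟨_, hcomm a ha b hb⟩ : A) = 1 := hsc (by rw [map_one]; exact e)
    have := congrArg Subtype.val this
    rw [Subgroup.coe_one, mul_inv_eq_one, mul_inv_eq_iff_eq_mul] at this
    exact this
  -- stabilisers of non-zero vectors have the same size
  have hstab : ∀ u w : V, u ≠ 0 → w ≠ 0 →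
      Nat.card {z : M // ρ (z : G) u = u} = Nat.card {z : M // ρ (z : G) w = w} := by
    intro u w hu hw
    obtain ⟨g, rfl⟩ := h.trans u w hu hw
    refine Nat.card_congr (Equiv.subtypeEquiv (MulAut.conjNormal g).toEquiv fun z => ?_)
    show ρ (z : G) u = u ↔ ρ (g * (z : G) * g⁻¹) (ρ g u) = ρ g u
    rw [map_mul_apply, map_mul_apply, hinv', (ρ g).injective.eq_iff]
  -- for every non-free element all commutators are signs
  have hpm : ∀ z (hz : z ∈ M) (u : V), u ≠ 0 → ρ z u = u → ∀ y (hy : y ∈ M),
      kap z y hz hy = 1 ∨ kap z y hz hy = -1 := by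
    intro z hz u hu hzu y hy
    set l := kap z y hz hy with hl
    by_cases hl1 : l = 1
    · exact Or.inl hl1
    refine Or.inr ?_
    set w := ρ y u with hw
    have hw0 : w ≠ 0 := fun e => hu ((ρ y).map_eq_zero_iff.mp e)
    have hzw : ρ z w = l • w := by rw [hw, hkap z y hz hy, hzu]
    have hsum : u + w ≠ 0 := by
      intro e
      have e' : w = -u := eq_neg_of_add_eq_zero_right e
      rw [e', map_neg, hzu, smul_neg, neg_inj] at hzw
      exact hl1 (smul_left_injective K hu (hzw.symm.trans (one_smul _ u).symm))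
    obtain ⟨t, ht, hnc⟩ : ∃ t : M, ρ (t : G) (u + w) = u + w ∧ kap z t hz t.2 ≠ 1 := by
      by_contra hcon
      push Not at hcon
      have hsub : ∀ t : M, ρ (t : G) (u + w) = u + w → ρ (t : G) u = u := by
        intro t ht
        have h1 := hcon t ht
        have f1 : ρ z (ρ t u) = ρ t u := by rw [hkap z t hz t.2, h1, one_smul, hzu]
        have f2 : ρ z (ρ t w) = l • ρ t w := by rw [hkap z t hz t.2, h1, one_smul, hzw, hsmul t t.2]
        rw [map_add] at ht
        have h3 : ρ z (ρ t u + ρ t w) = ρ z (u + w) := by rw [ht]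
        rw [map_add, map_add, f1, f2, hzu, hzw] at h3
        have h4 : (l - 1) • (ρ t w - w) = 0 := by
          rw [sub_smul, one_smul, smul_sub]
          linear_combination (norm := abel) h3 - ht
        rcases smul_eq_zero.mp h4 with h5 | h5
        · exact absurd (sub_eq_zero.mp h5) hl1
        · rw [sub_eq_zero] at h5
          rw [h5] at ht
          exact add_right_cancel ht
      have heq : {t : M | ρ (t : G) (u + w) = u + w} = {t : M | ρ (t : G) u = u} := by
        refine Set.eq_of_subset_of_ncard_le hsub ?_ (Set.toFinite _)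
        rw [← Nat.card_coe_set_eq, ← Nat.card_coe_set_eq]
        exact (hstab u (u + w) hu hsum).le
      have : (⟨z, hz⟩ : M) ∈ {t : M | ρ (t : G) (u + w) = u + w} := heq ▸ hzu
      have h5 : ρ z (u + w) = u + w := this
      rw [map_add, hzu, hzw, add_right_inj] at h5
      exact hl1 (smul_left_injective K hw0 (h5.trans (one_smul _ w).symm))
    set mu := kap z t hz t.2 with hmu
    set a := ρ (t : G) u
    set b := ρ (t : G) w
    have fa : ρ z a = mu • a := by rw [hkap z t hz t.2, hzu]
    have fb : ρ z b = (mu * l) • b := by rw [hkap z t hz t.2, hzw, hsmul t t.2, smul_smul]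
    have e0 : a + b = u + w := by rw [← map_add]; exact ht
    have e1 : mu • a + (mu * l) • b = u + l • w := by
      rw [← fa, ← fb, ← map_add, e0, map_add, hzu, hzw]
    have e2 : (mu * mu) • a + (mu * l * (mu * l)) • b = u + (l * l) • w := by
      have := congrArg (ρ z) e1
      rw [map_add, map_add, hsmul z hz, hsmul z hz, hsmul z hz, fa, fb, hzu, hzw, smul_smul,
        smul_smul, smul_smul] at this
      exact this
    have e3 : ((1 - mu) * (1 - mu * l)) • u + ((l - mu) * (l - mu * l)) • w = 0 := by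
      linear_combination (norm := module) (-e2) + (mu + mu * l) • e1 - (mu * (mu * l)) • e0
    have e4 : ((1 - mu) * (1 - mu * l)) • u + (l * ((l - mu) * (l - mu * l))) • w = 0 := by
      have := congrArg (ρ z) e3
      rw [map_add, hsmul z hz, hsmul z hz, hzu, hzw, smul_smul, map_zero] at this
      linear_combination (norm := module) this
    have e5 : ((l - 1) * ((l - mu) * (l - mu * l))) • w = 0 := by
      linear_combination (norm := module) e4 - e3
    have e6 : (l - 1) * ((l - mu) * (l - mu * l)) = 0 :=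
      (smul_eq_zero.mp e5).resolve_right hw0
    have e7 : (l - mu) * (l - mu * l) = 0 :=
      (mul_eq_zero.mp e6).resolve_left (sub_ne_zero.mpr hl1)
    rw [e7, zero_smul, add_zero] at e3
    have e8 : mu * l = 1 := by
      rcases mul_eq_zero.mp ((smul_eq_zero.mp e3).resolve_right hu) with h1 | h1
      · exact absurd (sub_eq_zero.mp h1).symm hnc
      · exact (sub_eq_zero.mp h1).symm
    have e9 : mu = l := by
      rcases mul_eq_zero.mp e7 with h1 | h1
      · exact (sub_eq_zero.mp h1).symm
      · rw [sub_eq_zero, e8] at h1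
        exact absurd h1 hl1
    rw [e9] at e8
    rcases mul_self_eq_one_iff.mp e8 with h1 | h1
    · exact absurd h1 hl1
    · exact h1
  have hsq : ∀ z (hz : z ∈ M) (u : V), u ≠ 0 → ρ z u = u → z * z = 1 := by
    intro z hz u hu hzu
    have hcen : ∀ y ∈ M, y * (z * z) = z * z * y := by
      intro y hy
      refine h.inj (LinearEquiv.ext fun s => ?_)
      rw [map_mul_apply, map_mul_apply, map_mul_apply, map_mul_apply, hkap z y hz hy s, hsmul z hz,
        hkap z y hz hy, smul_smul]
      rcases hpm z hz u hu hzu y hy with e | e <;> rw [e] <;> simp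
    have hA' := hZ _ (mul_mem hz hz) hcen
    exact congrArg Subtype.val (hAfree ⟨_, hA'⟩ u hu (by
      show ρ (z * z) u = u
      rw [map_mul_apply, hzu, hzu]))
  have hkmul : ∀ a b c (ha : a ∈ M) (hb : b ∈ M) (hc : c ∈ M),
      kap a (b * c) ha (mul_mem hb hc) = kap a b ha hb * kap a c ha hc := by
    intro a b c ha hb hc
    obtain ⟨u, hu⟩ := exists_ne (0 : V)
    have hu' : ρ (b * c) (ρ a u) ≠ 0 := fun e =>
      hu ((ρ a).map_eq_zero_iff.mp ((ρ (b * c)).map_eq_zero_iff.mp e))
    refine smul_left_injective K hu' ?_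
    show kap a (b * c) ha (mul_mem hb hc) • ρ (b * c) (ρ a u) = _ • ρ (b * c) (ρ a u)
    rw [← hkap a (b * c) ha (mul_mem hb hc), map_mul_apply, map_mul_apply, hkap a b ha hb,
      hkap a c ha hc, hsmul b hb, smul_smul]
  -- a partner of `x`
  obtain ⟨y, hy, hxy⟩ : ∃ y, ∃ hy : y ∈ M, kap x y hx hy = -1 ∧ (-1 : K) ≠ 1 := by
    by_contra hcon
    push Not at hcon
    have hcen : ∀ y ∈ M, y * x = x * y := by
      intro y hy
      refine (hkone x y hx hy ?_).symm
      rcases hpm x hx v hv hxv y hy with e | e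
      · exact e
      · rw [e]; exact hcon y hy e
    exact hx1 (congrArg Subtype.val (hAfree ⟨x, hZ x hx hcen⟩ v hv hxv))
  obtain ⟨hxy, hne⟩ := hxy
  have h2 : (2 : K) ≠ 0 := fun e => hne (by linear_combination -e)
  have hxx := hsq x hx v hv hxv
  have hxinv : ∀ u, ρ x (ρ x u) = u := fun u => by rw [← map_mul_apply, hxx, map_one]; rfl
  let X : V →ₗ[K] V :=
    { toFun := fun u => ρ x u, map_add' := fun a b => map_add _ a b, map_smul' := fun r u => hsmul x hx r u }
  let Y : V →ₗ[K] V :=
    { toFun := fun u => ρ y u, map_add' := fun a b => map_add _ a b, map_smul' := fun r u => hsmul y hy r u }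
  have hYb : Function.Bijective Y := (ρ y).bijective
  let Ye : V ≃ₗ[K] V := LinearEquiv.ofBijective Y hYb
  set P := LinearMap.ker (X - LinearMap.id)
  set N := LinearMap.ker (X + LinearMap.id)
  have hP : ∀ u, u ∈ P ↔ ρ x u = u := fun u => by
    rw [LinearMap.mem_ker, LinearMap.sub_apply, LinearMap.id_apply, sub_eq_zero]; rfl
  have hN : ∀ u, u ∈ N ↔ ρ x u = -u := fun u => by
    rw [LinearMap.mem_ker, LinearMap.add_apply, LinearMap.id_apply, add_eq_zero_iff_eq_neg]; rfl
  have hcompl : IsCompl P N := by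
    constructor
    · rw [disjoint_iff, eq_bot_iff]
      intro u hu
      obtain ⟨a, b⟩ := Submodule.mem_inf.mp hu
      have h1 : ρ x u = u := (hP u).mp a
      have h2' : ρ x u = -u := (hN u).mp b
      rw [Submodule.mem_bot]
      refine (smul_eq_zero.mp (?_ : (2 : K) • u = 0)).resolve_left h2
      rw [two_smul, ← eq_neg_iff_add_eq_zero, ← h2', h1]
    · rw [codisjoint_iff, eq_top_iff]
      intro u _
      rw [Submodule.mem_sup]
      refine ⟨(2 : K)⁻¹ • (u + ρ x u), (hP _).mpr ?_, (2 : K)⁻¹ • (u - ρ x u), (hN _).mpr ?_, ?_⟩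
      · rw [hsmul x hx, map_add, hxinv, add_comm]
      · rw [hsmul x hx, map_sub, hxinv, ← smul_neg, neg_sub]
      · rw [← smul_add, add_add_sub_cancel, ← two_smul K u, smul_smul, inv_mul_cancel₀ h2, one_smul]
  have hmapP : P.map (Ye : V →ₗ[K] V) = N := by
    ext u
    rw [Submodule.mem_map]
    constructor
    · rintro ⟨s, hs, rfl⟩
      rw [hN]
      show ρ x (ρ y s) = -(ρ y s)
      rw [hkap x y hx hy, (hP s).mp hs, hxy, neg_one_smul]
    · intro hu
      obtain ⟨s, rfl⟩ := Ye.surjective u
      refine ⟨s, (hP s).mpr ?_, rfl⟩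
      have h3 : ρ x (ρ y s) = -(ρ y s) := (hN _).mp hu
      rw [hkap x y hx hy, hxy, neg_one_smul, neg_inj] at h3
      exact (ρ y).injective h3
  set H := Module.finrank K N with hH
  set m := Module.finrank K V with hmdef
  have hfin : m = 2 * H := by
    rw [hmdef]
    rw [← Submodule.finrank_add_eq_of_isCompl hcompl, two_mul, ← hH]
    congr 1
    rw [hH, ← hmapP, LinearEquiv.finrank_map_eq]
  have hVK : 0 < m ∧ Nat.card V = q ^ (d * m) := by
    refine ⟨?_, ?_⟩
    · rw [hmdef]; exact Module.finrank_pos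
    · rw [Module.natCard_eq_pow_finrank (K := K) (V := V), hK, ← pow_mul]
  have hHpos : 1 ≤ H := by have := hVK.1; omega
  haveI : Fintype K := Fintype.ofFinite _
  have hcardN : Nat.card N = Nat.card K ^ H := Module.natCard_eq_pow_finrank
  have hQ3 : 3 ≤ Nat.card K := by
    have h3 : ({0, 1, -1} : Finset K).card = 3 := by
      rw [Finset.card_insert_of_notMem, Finset.card_pair (Ne.symm hne)]
      simp only [Finset.mem_insert, Finset.mem_singleton, not_or]
      exact ⟨zero_ne_one, fun e => neg_ne_zero.mpr one_ne_zero e.symm⟩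
    rw [← h3, Nat.card_eq_fintype_card]
    exact Finset.card_le_univ _
  -- representatives of the cosets of `A` are linearly independent
  let AM := A.subgroupOf M
  haveI : AM.Normal := by
    refine ⟨fun a ha g => ?_⟩
    rw [Subgroup.mem_subgroupOf] at ha ⊢
    have hg := Subgroup.mem_centralizer_iff.mp (hMC g.2) a ha
    show (g : G) * a * (g : G)⁻¹ ∈ A
    rw [← hg, mul_inv_cancel_right]; exact ha
  haveI : Fintype (M ⧸ AM) := Fintype.ofFinite _
  let chi : M ⧸ AM → (M →* K) := fun e =>
    { toFun := fun z => kap (Quotient.out e : M) z (Quotient.out e : M).2 z.2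
      map_one' := by
        show sc _ = 1
        rw [← map_one sc]; congr 1; exact Subtype.ext (by simp)
      map_mul' := fun z z' => hkmul _ _ _ (Quotient.out e : M).2 z.2 z'.2 }
  have hchi : Function.Injective chi := by
    intro e e' hee
    rw [← Quotient.out_eq e, ← Quotient.out_eq e']
    apply QuotientGroup.eq.mpr
    rw [Subgroup.mem_subgroupOf]
    refine hZ _ (SetLike.coe_mem _) fun z hz => ?_
    refine h.inj (LinearEquiv.ext fun s => ?_)
    have h1 : kap (Quotient.out e : M) z (Quotient.out e : M).2 hz =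
        kap (Quotient.out e' : M) z (Quotient.out e' : M).2 hz := DFunLike.congr_fun hee ⟨z, hz⟩
    set r := (Quotient.out e : M)
    set r' := (Quotient.out e' : M)
    obtain ⟨s', rfl⟩ : ∃ s', ρ (r : G) s' = s := ⟨ρ (r : G)⁻¹ s, hinv _ _⟩
    rw [map_mul_apply, map_mul_apply]
    show ρ z (ρ ((r : G)⁻¹ * (r' : G)) (ρ r s')) = ρ ((r : G)⁻¹ * (r' : G)) (ρ z (ρ r s'))
    apply (ρ (r : G)).injective
    simp only [map_mul_apply, hinv]
    rw [hkap r z r.2 hz, hinv]
    have hz' : ∀ u, ρ (r' : G) (ρ z u) = kap r' z r'.2 hz • ρ z (ρ (r' : G) u) := hkap r' z r'.2 hz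
    rw [hz', h1]
  let End' := V →ₗ[K] V
  let evec : M ⧸ AM → End' := fun e =>
    { toFun := fun u => ρ ((Quotient.out e : M) : G) u
      map_add' := fun a b => map_add _ a b
      map_smul' := fun r u => hsmul _ (Quotient.out e : M).2 r u }
  have hind : LinearIndependent K evec := by
    rw [Fintype.linearIndependent_iff]
    intro g hg e
    by_contra hge
    obtain ⟨u, hu⟩ := exists_ne (0 : V)
    have hne' : g e • evec e u ≠ 0 :=
      smul_ne_zero hge (fun e' => hu ((ρ _).map_eq_zero_iff.mp e'))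
    obtain ⟨phi, hphi⟩ : ∃ phi : V →ₗ[K] K, phi (g e • evec e u) ≠ 0 := by
      by_contra hcon
      push Not at hcon
      exact hne' ((Module.forall_dual_apply_eq_zero_iff K _).mp hcon)
    have hdep : ∑ i, (phi (g i • evec i u)) • (chi i : M → K) = 0 := by
      funext z
      simp only [Finset.sum_apply, Pi.smul_apply, smul_eq_mul, Pi.zero_apply]
      have h0 := LinearMap.congr_fun hg (ρ (z : G) u)
      rw [LinearMap.sum_apply, LinearMap.zero_apply] at h0
      have h1 : ρ (z : G) (∑ i, chi i z • (g i • evec i u)) = 0 := by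
        rw [map_sum]
        refine Eq.trans ?_ h0
        refine Finset.sum_congr rfl fun i _ => ?_
        rw [hsmul _ z.2, hsmul _ z.2, smul_comm, LinearMap.smul_apply]
        congr 1
        exact (hkap _ _ (Quotient.out i : M).2 z.2 u).symm
      have h2 : phi (∑ i, chi i z • (g i • evec i u)) = 0 := by
        rw [(ρ (z : G)).map_eq_zero_iff.mp h1, map_zero]
      rw [map_sum] at h2
      rw [← h2]
      refine Finset.sum_congr rfl fun i _ => ?_
      rw [map_smul phi (chi i z), smul_eq_mul, mul_comm]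
    exact hphi (Fintype.linearIndependent_iff.mp ((linearIndependent_monoidHom M K).comp chi hchi) _ hdep e)
  have hbound : AM.index ≤ m * m := by
    have h1 := hind.fintype_card_le_finrank
    rw [show Module.finrank K End' = m * m from Module.finrank_linearMap K K V V] at h1
    rwa [Subgroup.index_eq_card, Nat.card_eq_fintype_card]
  -- the anticommuting part
  let kx : M →* K :=
    { toFun := fun z => kap x z hx z.2
      map_one' := by
        show sc _ = 1
        rw [← map_one sc]; congr 1; exact Subtype.ext (by simp)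
      map_mul' := fun z z' => hkmul _ _ _ hx z.2 z'.2 }
  have hkx : ∀ z : M, kx z = 1 ∨ kx z = -1 := fun z => hpm x hx v hv hxv z z.2
  let B : Subgroup M := AM ⊔ Subgroup.zpowers ⟨x, hx⟩
  have hB1 : ∀ b : M, b ∈ B → kx b = 1 := by
    intro b hb
    have hle : B ≤ kx.toHomUnits.ker := by
      refine sup_le (fun a ha => ?_) ?_
      · rw [MonoidHom.mem_ker]
        refine Units.ext ?_
        show sc _ = 1
        rw [← map_one sc]; congr 1
        refine Subtype.ext ?_
        show x * (a : G) * x⁻¹ * (a : G)⁻¹ = 1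
        have := Subgroup.mem_centralizer_iff.mp (hMC hx) (a : G) (Subgroup.mem_subgroupOf.mp ha)
        rw [← this]; group
      · rw [Subgroup.zpowers_le, MonoidHom.mem_ker]
        refine Units.ext ?_
        show sc _ = 1
        rw [← map_one sc]; congr 1
        exact Subtype.ext (by show x * x * x⁻¹ * x⁻¹ = 1; group)
    exact congrArg Units.val (MonoidHom.mem_ker.mp (hle hb))
  have hBx : ∀ b ∈ B, ∃ a : A, ∀ u ∈ P, ρ ((b : M) : G) u = sc a • u := by
    intro b hb
    rw [← Subgroup.mem_carrier] at hb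
    obtain ⟨a, ha, c, hc, rfl⟩ := Subgroup.mem_sup_of_normal_left.mp hb
    refine ⟨⟨a, ha⟩, fun u hu => ?_⟩
    obtain ⟨i, rfl⟩ := Subgroup.mem_zpowers_iff.mp hc
    have hfix : ρ ((⟨x, hx⟩ ^ i : M) : G) u = u := by
      rw [Subgroup.coe_zpow]
      have hx2 : x ^ (2 : ℤ) = 1 := by rw [zpow_two]; exact hxx
      rcases Int.even_or_odd i with ⟨j, rfl⟩ | ⟨j, rfl⟩
      · rw [← two_mul, zpow_mul, hx2, one_zpow, map_one]; rfl
      · rw [zpow_add_one, zpow_mul, hx2, one_zpow, one_mul]; exact (hP u).mp hu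
    rw [Subgroup.coe_mul, map_mul_apply, hfix]
    exact hsA ⟨a, ha⟩ u
  have hindex : 4 * Nat.card {e : M ⧸ B // kx (Quotient.out e) = -1} ≤ AM.index := by
    have h1 : Nat.card {e : M ⧸ B // kx (Quotient.out e) = -1} * 2 ≤ Nat.card (M ⧸ B) := by
      rw [mul_two]
      calc _ ≤ Nat.card {e : M ⧸ B // kx (Quotient.out e) = -1} +
            Nat.card {e : M ⧸ B // ¬ kx (Quotient.out e) = -1} := by
            have hflip : ∀ s : M ⧸ B, kx (Quotient.out s) = -1 →
                ¬ kx (Quotient.out ((⟨y, hy⟩ : M) • s)) = -1 := by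
              intro s hs
              obtain ⟨b, hb⟩ : ∃ b ∈ B, (Quotient.out ((⟨y, hy⟩ : M) • s) : M) =
                  ⟨y, hy⟩ * Quotient.out s * b := by
                refine ⟨(⟨y, hy⟩ * Quotient.out s)⁻¹ * Quotient.out ((⟨y, hy⟩ : M) • s), ?_, by group⟩
                refine QuotientGroup.eq.mp ?_
                rw [QuotientGroup.out_eq']
                nth_rw 2 [← QuotientGroup.out_eq' s]
                rfl
              rw [hb.2, map_mul, map_mul, hB1 b hb.1, hs, mul_one,
                show kx ⟨y, hy⟩ = -1 from hxy, neg_mul_neg, one_mul]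
              exact fun e' => hne e'.symm
            refine Nat.add_le_add_left (Nat.card_le_card_of_injective
              (fun s => (⟨(⟨y, hy⟩ : M) • s.1, hflip s.1 s.2⟩ : {e : M ⧸ B // ¬ kx (Quotient.out e) = -1})) ?_) _
            intro s s' hss
            exact Subtype.ext (MulAction.injective (⟨y, hy⟩ : M) (congrArg Subtype.val hss))
        _ = Nat.card (M ⧸ B) := by
            rw [← Nat.card_sum]; exact Nat.card_congr (Equiv.sumCompl _)
    have h2B : 2 ≤ AM.relIndex B := by
      have h0 : AM.relIndex B ≠ 0 := Subgroup.index_ne_zero_of_finite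
      have h1' : AM.relIndex B ≠ 1 := fun e1 => by
        rw [Subgroup.relIndex_eq_one] at e1
        have : (⟨x, hx⟩ : M) ∈ AM := e1 (Subgroup.mem_sup_right (Subgroup.mem_zpowers _))
        exact hx1 (congrArg Subtype.val (hAfree ⟨x, this⟩ v hv hxv))
      omega
    rw [← Subgroup.relIndex_mul_index (le_sup_left : AM ≤ B), Subgroup.index_eq_card B]
    nlinarith
  -- counting the `-1` eigenvectors
  have hwit : ∀ w : {w : N // w ≠ 0}, ∃ z : M, z * z = 1 ∧ kx z = -1 ∧
      ρ (z : G) v = ((w.1 : N) : V) := by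
    intro w
    set w' : V := ((w.1 : N) : V)
    have hw' : w' ≠ 0 := fun e => w.2 (Subtype.ext e)
    have hxw : ρ x w' = -w' := (hN w').mp w.1.2
    have huniq : ∀ p p' n n' : V, p ∈ P → p' ∈ P → n ∈ N → n' ∈ N → p + n = p' + n' → p = p' := by
      intro p p' n n' hp hp' hn hn' e
      have h1 : p - p' ∈ N := by
        rw [show p - p' = n' - n by linear_combination (norm := abel) e]
        exact sub_mem hn' hn
      exact sub_eq_zero.mp (Submodule.disjoint_def.mp hcompl.disjoint _ (sub_mem hp hp') h1)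
    have hsum : v + w' ≠ 0 := by
      intro e
      have := huniq v 0 w' 0 ((hP v).mpr hxv) P.zero_mem w.1.2 N.zero_mem (by rw [e, add_zero])
      exact hv this
    obtain ⟨z, hz, hz1⟩ : ∃ z : M, ρ (z : G) (v + w') = v + w' ∧ kx z = -1 := by
      by_contra hcon
      push Not at hcon
      have hsub : ∀ t : M, ρ (t : G) (v + w') = v + w' → ρ (t : G) v = v := by
        intro t ht
        have h1 : kap x t hx t.2 = 1 := (hkx t).resolve_right (hcon t ht)
        rw [map_add] at ht
        refine huniq _ _ _ _ ((hP _).mpr ?_) ((hP v).mpr hxv) ((hN _).mpr ?_) w.1.2 ht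
        · rw [hkap x t hx t.2, h1, one_smul, hxv]
        · rw [hkap x t hx t.2, h1, one_smul, hxw, map_neg]
      have heq : {t : M | ρ (t : G) (v + w') = v + w'} = {t : M | ρ (t : G) v = v} := by
        refine Set.eq_of_subset_of_ncard_le hsub ?_ (Set.toFinite _)
        rw [← Nat.card_coe_set_eq, ← Nat.card_coe_set_eq]
        exact (hstab v (v + w') hv hsum).le
      have : (⟨x, hx⟩ : M) ∈ {t : M | ρ (t : G) (v + w') = v + w'} := heq ▸ hxv
      have h5 : ρ x (v + w') = v + w' := this
      rw [map_add, hxv, hxw, add_right_inj] at h5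
      refine hw' ((smul_eq_zero.mp (?_ : (2 : K) • w' = 0)).resolve_left h2)
      rw [two_smul, ← eq_neg_iff_add_eq_zero, h5]
    refine ⟨z, Subtype.ext (hsq z z.2 _ hsum hz), hz1, ?_⟩
    rw [map_add] at hz
    have h1 : ρ x (ρ (z : G) v) = -ρ (z : G) v := by
      rw [hkap x z hx z.2, show kap x z hx z.2 = -1 from hz1, hxv, neg_one_smul]
    have h3 : ρ x (ρ (z : G) w') = ρ (z : G) w' := by
      rw [hkap x z hx z.2, show kap x z hx z.2 = -1 from hz1, hxw, map_neg, neg_one_smul, neg_neg]
    have h4 := huniq _ _ _ _ ((hP _).mpr h3) ((hP v).mpr hxv) ((hN _).mpr h1) w.1.2 (by rw [add_comm]; exact hz)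
    rw [h4, add_comm, add_right_inj] at hz
    exact hz
  choose zf hzf2 hzf1 hzfv using hwit
  haveI : Fintype {w : N // w ≠ 0} := Fintype.ofFinite _
  haveI : Fintype {e : M ⧸ B // kx (Quotient.out e) = -1} := Fintype.ofFinite _
  have hcl : ∀ w, kx (Quotient.out (QuotientGroup.mk (zf w) : M ⧸ B)) = -1 := by
    intro w
    obtain ⟨b, hb⟩ := QuotientGroup.mk_out_eq_mul B (zf w)
    rw [hb, map_mul, hzf1, hB1 b b.2, mul_one]
  set c := (Finset.univ.filter fun r : K => r ^ 4 = 1).card
  have hc4 : c ≤ 4 := by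
    refine le_trans (Finset.card_le_card (fun r hr => ?_)) ((Multiset.toFinset_card_le _).trans
      (Polynomial.card_nthRoots 4 (1 : K)))
    rw [Finset.mem_filter] at hr
    rw [Multiset.mem_toFinset, Polynomial.mem_nthRoots (by norm_num)]
    exact hr.2
  have hcQ : c ≤ Nat.card K - 1 := by
    rw [Nat.card_eq_fintype_card, ← Finset.card_univ, ← Finset.card_erase_of_mem (Finset.mem_univ (0 : K))]
    refine Finset.card_le_card fun r hr => ?_
    rw [Finset.mem_filter] at hr
    refine Finset.mem_erase.mpr ⟨fun e => ?_, Finset.mem_univ _⟩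
    rw [e, zero_pow (by norm_num)] at hr
    exact zero_ne_one hr.2
  have hcount : Nat.card K ^ H - 1 ≤
      c * Nat.card {e : M ⧸ B // kx (Quotient.out e) = -1} := by
    have h1 : Nat.card K ^ H - 1 = Fintype.card {w : N // w ≠ 0} := by
      haveI : Fintype N := Fintype.ofFinite _
      rw [← hcardN, Fintype.card_subtype_compl, Fintype.card_subtype_eq, Nat.card_eq_fintype_card]
    rw [h1, ← Finset.card_univ, Nat.card_eq_fintype_card, ← Finset.card_univ]
    refine Finset.card_le_mul_card_image_of_maps_to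
      (f := fun w => (⟨QuotientGroup.mk (zf w), hcl w⟩ : {e : M ⧸ B // kx (Quotient.out e) = -1}))
      (fun w _ => Finset.mem_univ _) c (fun e _ => ?_)
    rcases (Finset.univ.filter fun w => (⟨QuotientGroup.mk (zf w), hcl w⟩ :
        {e : M ⧸ B // kx (Quotient.out e) = -1}) = e).eq_empty_or_nonempty with h0 | ⟨w0, hw0⟩
    · rw [h0, Finset.card_empty]; exact Nat.zero_le _
    rw [Finset.mem_filter] at hw0
    have hlam : ∀ w, (⟨QuotientGroup.mk (zf w), hcl w⟩ : {e : M ⧸ B // kx (Quotient.out e) = -1}) = e →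
        ∃ r : K, r ^ 4 = 1 ∧ ((w.1 : N) : V) = r • ((w0.1 : N) : V) := by
      intro w hw
      have hmk : (QuotientGroup.mk (zf w0) : M ⧸ B) = QuotientGroup.mk (zf w) :=
        congrArg Subtype.val (hw0.2.trans hw.symm)
      set b := (zf w0)⁻¹ * zf w with hb
      have hbB : b ∈ B := QuotientGroup.eq.mp hmk
      obtain ⟨a, ha⟩ := hBx b hbB
      have hvw : ((w.1 : N) : V) = sc a • ((w0.1 : N) : V) := by
        rw [← hzfv w, show zf w = zf w0 * b by rw [hb, mul_inv_cancel_left], Subgroup.coe_mul,
          map_mul_apply, ha v ((hP v).mpr hxv), hsmul _ (zf w0).2, hzfv w0]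
      refine ⟨sc a, ?_, hvw⟩
      -- `z w₀` exchanges `v` and `w₀`, and so does `z w`
      have hfix : ∀ i, ρ (zf i : G) (ρ (zf i : G) v) = v := fun i => by
        rw [← map_mul_apply, ← Subgroup.coe_mul, hzf2, Subgroup.coe_one, map_one]; rfl
      have hN0 : ((w0.1 : N) : V) ∈ N := w0.1.2
      have hzw0 : ρ (zf w0 : G) (v + ρ (zf w0 : G) v) = v + ρ (zf w0 : G) v := by
        rw [map_add, hfix, add_comm]
      have hzw1 : v + ρ (zf w0 : G) v ≠ 0 := by
        intro e
        have hN1 : ρ (zf w0 : G) v ∈ N := by rw [hzfv]; exact hN0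
        have : v ∈ N := by rw [eq_neg_of_add_eq_zero_left e]; exact neg_mem hN1
        exact hv (Submodule.disjoint_def.mp hcompl.disjoint v ((hP v).mpr hxv) this)
      set l := kap (zf w0) b (zf w0).2 b.2 with hl
      have hll : l * l = 1 := by
        rcases hpm (zf w0) (zf w0).2 _ hzw1 hzw0 b b.2 with e | e <;> rw [hl, e] <;> ring
      have hbw : ρ ((b : M) : G) ((w0.1 : N) : V) = (l * sc a) • ((w0.1 : N) : V) := by
        have e1 := hkap (zf w0) b (zf w0).2 b.2 v
        rw [ha v ((hP v).mpr hxv), hsmul _ (zf w0).2, hzfv w0, ← hl] at e1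
        rw [← smul_smul, e1, smul_smul, hll, one_smul]
      have key : ρ (zf w : G) ((w.1 : N) : V) = v := by rw [← hzfv w]; exact hfix w
      have hback : ρ (zf w0 : G) ((w0.1 : N) : V) = v := by rw [← hzfv w0]; exact hfix w0
      rw [hvw, show zf w = zf w0 * b by rw [hb, mul_inv_cancel_left], Subgroup.coe_mul, map_mul_apply,
        hsmul _ b.2, hbw, smul_smul, hsmul _ (zf w0).2, hback] at key
      have e2 : sc a * (l * sc a) = 1 := smul_left_injective K hv (key.trans (one_smul _ v).symm)
      calc sc a ^ 4 = (sc a * (l * sc a)) * (sc a * (l * sc a)) * (1 : K) := by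
            linear_combination (-(sc a ^ 4)) * hll
        _ = 1 := by rw [e2, one_mul, one_mul]
    choose r hr4 hrw using hlam
    refine le_trans (le_of_eq (Finset.card_attach).symm) ?_
    refine Finset.card_le_card_of_injOn (fun w => r w.1 (Finset.mem_filter.mp w.2).2)
      (fun w _ => Finset.mem_filter.mpr ⟨Finset.mem_univ _, hr4 _ _⟩) ?_
    intro w _ w' _ e
    refine Subtype.ext (Subtype.ext (Subtype.ext ?_))
    rw [hrw w.1 (Finset.mem_filter.mp w.2).2, hrw w'.1 (Finset.mem_filter.mp w'.2).2]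
    exact congrArg (· • ((w0.1 : N) : V)) e
  have hfinal := piece_bound hQ3 hHpos hc4 hcQ
    (le_trans hindex (by rw [hfin] at hbound; rw [pow_two]; exact hbound)) hcount
  rw [hK, ← pow_mul, show d * (2 * H) = d * m by rw [hfin], ← hVK.2] at hfinal
  have hodd : Nat.card V ≠ 16 := by
    intro e
    have hq2 : q = 2 := by
      have hd : q ∣ 2 ^ 4 := by
        rw [show (2 : ℕ) ^ 4 = 16 by norm_num, ← e, hVK.2]
        exact dvd_pow_self q (Nat.mul_pos hd hVK.1).ne'
      exact (Nat.prime_dvd_prime_iff_eq Fact.out Nat.prime_two).mp ((Fact.out : q.Prime).dvd_of_dvd_pow hd)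
    apply h2
    have h0 : (q : K) = 0 := by
      have h1 : (q : K) • v = 0 := by
        rw [Nat.cast_smul_eq_nsmul]; exact SolvableRegularLinear75.exponent (q := q) v
      exact (smul_eq_zero.mp h1).resolve_right hv
    rw [hq2] at h0
    simpa using h0
  simp only [Set.mem_insert_iff, Set.mem_singleton_iff] at hfinal ⊢
  omega

end abstract

theorem nonfree_bound {A : Subgroup G} (D : FieldData ρ A) (h : IsTransRep ρ) (M : Subgroup G) [M.Normal]
    (hAM : A ≤ M) (hMC : M ≤ Subgroup.centralizer (A : Set G))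
    (hcomm : ∀ a ∈ M, ∀ b ∈ M, a * b * a⁻¹ * b⁻¹ ∈ A)
    (hZ : ∀ z ∈ M, (∀ y ∈ M, y * z = z * y) → z ∈ A)
    {x : G} (hx : x ∈ M) (hx1 : x ≠ 1) {v : V} (hv : v ≠ 0) (hxv : ρ x v = v) :
    Nat.card V ∈ ({9, 25, 49, 121, 529, 81} : Set ℕ) := by
  haveI : Finite (Module.End (ZMod q) V) :=
    Finite.of_injective (fun f => (f : V → V)) DFunLike.coe_injective
  letI := D.toField
  letI : Module D.F V := Module.compHom V D.F.val.toRingHom
  exact nonfree_core (K := D.F) D.scal (D.scal_injective h) (fun a u => (D.scal_apply a u).symm)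
    D.d_pos D.card_F h M hAM hMC (fun g hg r u => D.linear g (hMC hg) r u) hcomm hZ hx hx1 hv hxv

end Cfsg.Agent.TransitiveLinearField75
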