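import Mathlib
import Cfsg.Agent.Lib.TransitiveLinearField75

/-!
Solvable transitive linear groups.
-/

set_option autoImplicit false
set_option linter.style.haveILetI false

namespace Cfsg.Agent.TransitiveLinearMain75

open SolvableRegularLinear75 (map_mul_apply)
open SolvableRegularStruct75 (Q8)
open TransitiveLinearField75
open scoped commutatorElement

variable {q : ℕ} [Fact q.Prime] {V : Type*} [AddCommGroup V] [Module (ZMod q) V] [Finite V]
  [Nontrivial V] {G : Type*} [Group G] [Finite G] {ρ : G →* (V ≃ₗ[ZMod q] V)}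

/-- `M` acts freely on the non-zero vectors. -/
def FreeOn (ρ : G →* (V ≃ₗ[ZMod q] V)) (M : Subgroup G) : Prop :=
  ∀ m ∈ M, ∀ v : V, v ≠ 0 → ρ m v = v → m = 1

theorem card_free_dvd (M : Subgroup G) (hfree : FreeOn ρ M) : Nat.card M ∣ Nat.card V - 1 := by
  let _ : MulDistribMulAction M (Multiplicative V) :=
    { smul := fun g v => Multiplicative.ofAdd (ρ g v.toAdd)
      one_smul := fun v => by
        show Multiplicative.ofAdd (ρ ((1 : M) : G) v.toAdd) = v
        rw [Subgroup.coe_one, map_one]; rfl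
      mul_smul := fun a b v => congrArg Multiplicative.ofAdd (map_mul_apply (a : G) b v.toAdd)
      smul_mul := fun g v w => congrArg Multiplicative.ofAdd ((ρ g).map_add v.toAdd w.toAdd)
      smul_one := fun g => congrArg Multiplicative.ofAdd (ρ g).map_zero }
  have h := FrobeniusFPF.card_dvd_sub_one (M := M) (W := Multiplicative V) (fun m hm v hv => by
    by_contra hne
    exact hm (Subtype.ext (hfree m m.2 v.toAdd (fun e => hne (congrArg Multiplicative.ofAdd e))
      (congrArg Multiplicative.toAdd hv))))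
  exact h

theorem isCyclic_free (M : Subgroup G) (hfree : FreeOn ρ M) (A : Subgroup G) (hAM : A ≤ M)
    (hA : ∀ a ∈ A, ∀ b ∈ A, a * b = b * a) : IsCyclic A := by
  let _ : MulDistribMulAction A (Multiplicative V) :=
    { smul := fun g v => Multiplicative.ofAdd (ρ g v.toAdd)
      one_smul := fun v => by
        show Multiplicative.ofAdd (ρ ((1 : A) : G) v.toAdd) = v
        rw [Subgroup.coe_one, map_one]; rfl
      mul_smul := fun a b v => congrArg Multiplicative.ofAdd (map_mul_apply (a : G) b v.toAdd)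
      smul_mul := fun g v w => congrArg Multiplicative.ofAdd ((ρ g).map_add v.toAdd w.toAdd)
      smul_one := fun g => congrArg Multiplicative.ofAdd (ρ g).map_zero }
  refine FrobeniusFPF.isCyclic_of_comm (W := Multiplicative V) (fun m hm v hv => ?_)
    (fun a b => Subtype.ext (hA a a.2 b b.2))
  by_contra hne
  exact hm (Subtype.ext (hfree m (hAM m.2) v.toAdd (fun e => hne (congrArg Multiplicative.ofAdd e))
    (congrArg Multiplicative.toAdd hv)))

theorem sylow_shape (M : Subgroup G) (hfree : FreeOn ρ M) {p : ℕ} [Fact p.Prime] (P : Subgroup G) (hPM : P ≤ M)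
    (hP : IsPGroup p P) :
    IsCyclic P ∨ (p = 2 ∧ ∃ n : ℕ, Nonempty (P ≃* QuaternionGroup (2 ^ n))) := by
  refine PGroupsCyclic.isCyclic_or_quaternion hP ?_
  rcases subsingleton_or_nontrivial P with hs | hnt
  · intro H K _ _; exact Subsingleton.elim H K
  haveI := hP.center_nontrivial
  obtain ⟨k, hk0, hk⟩ := (hP.to_subgroup (Subgroup.center P)).nontrivial_iff_card.1 inferInstance
  obtain ⟨c, hc⟩ := exists_prime_orderOf_dvd_card' (G := Subgroup.center P) p
    (hk ▸ dvd_pow_self p hk0.ne')
  rw [← Subgroup.orderOf_coe] at hc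
  have key : ∀ H : Subgroup P, Nat.card H = p → H = Subgroup.zpowers (c : P) := by
    intro H hH
    let B : Subgroup P := H ⊔ Subgroup.zpowers (c : P)
    have hBc : ∀ a ∈ B, ∀ b ∈ B, a * b = b * a := by
      haveI : Fact p.Prime := inferInstance
      haveI : IsCyclic H := isCyclic_of_prime_card hH
      letI : CommGroup H := IsCyclic.commGroup
      have hle : B ≤ Subgroup.centralizer (B : Set P) := by
        have h1 : H ≤ Subgroup.centralizer (B : Set P) := by
          rw [Subgroup.le_centralizer_iff]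
          refine sup_le (fun a ha => Subgroup.mem_centralizer_iff.mpr fun b hb =>
            congrArg Subtype.val (mul_comm (⟨b, hb⟩ : H) ⟨a, ha⟩)) ?_
          rw [Subgroup.zpowers_le]
          exact Subgroup.mem_centralizer_iff.mpr fun b _ => Subgroup.mem_center_iff.mp c.2 b
        refine sup_le h1 ?_
        rw [Subgroup.zpowers_le]
        exact Subgroup.mem_centralizer_iff.mpr fun b _ => Subgroup.mem_center_iff.mp c.2 b
      intro a ha b hb
      exact (Subgroup.mem_centralizer_iff.mp (hle ha) b hb).symm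
    haveI : IsCyclic B := by
      have : IsCyclic (B.map P.subtype) := isCyclic_free M hfree _ (Subgroup.map_subtype_le B |>.trans hPM) (by
        rintro _ ⟨a, ha, rfl⟩ _ ⟨b, hb, rfl⟩
        rw [← map_mul, ← map_mul, hBc a ha b hb])
      exact (MulEquiv.isCyclic (B.equivMapOfInjective P.subtype P.subtype_injective)).mpr this
    haveI : Fintype B := Fintype.ofFinite B
    have huni : ∀ L : Subgroup B, Nat.card L = p →
        (L : Set B) = {x : B | x ^ p = 1} := by
      intro L hL
      refine Set.eq_of_subset_of_ncard_le (fun x hx => ?_) ?_ (Set.toFinite _)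
      · have := pow_card_eq_one' (x := (⟨x, hx⟩ : L))
        rw [hL] at this
        exact congrArg Subtype.val this
      · rw [← Nat.card_coe_set_eq (L : Set B)]
        refine le_of_le_of_eq ?_ hL.symm
        classical
        rw [Set.ncard_eq_toFinset_card' , Set.toFinset_setOf]
        exact IsCyclic.card_pow_eq_one_le (Fact.out : p.Prime).pos
    have e : H.subgroupOf B = (Subgroup.zpowers (c : P)).subgroupOf B := SetLike.ext'
      ((huni _ (by rw [Nat.card_congr (Subgroup.subgroupOfEquivOfLe (le_sup_left : H ≤ B)).toEquiv, hH])).trans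
        (huni _ (by rw [Nat.card_congr (Subgroup.subgroupOfEquivOfLe
          (le_sup_right : Subgroup.zpowers (c : P) ≤ B)).toEquiv, Nat.card_zpowers, hc])).symm)
    rw [Subgroup.subgroupOf_inj, inf_of_le_left (le_sup_left : H ≤ B),
      inf_of_le_left (le_sup_right : Subgroup.zpowers (c : P) ≤ B)] at e
    exact e
  intro H K hH hK
  rw [key H hH, key K hK]

/-- A normal subgroup of class at most two which is not abelian contains a normal `Q₈`. -/
theorem exists_q8 (M : Subgroup G) [M.Normal] (hfree : FreeOn ρ M)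
    (hcl : ∀ a ∈ M, ∀ b ∈ M, ∀ c ∈ M, a * b * a⁻¹ * b⁻¹ * c = c * (a * b * a⁻¹ * b⁻¹))
    (hna : ∃ a ∈ M, ∃ b ∈ M, a * b ≠ b * a) :
    ∃ Q : Subgroup G, Q ≤ M ∧ Q.Normal ∧ Nonempty (Q ≃* Q8) ∧
      ∀ g : G, (∀ z ∈ Q, g * z = z * g) → (∀ z ∈ M, (∀ y ∈ M, y * z = z * y) → g * z = z * g) →
        ∀ z ∈ M, g * z = z * g := by
  classical
  have hlow : commutator M ≤ Subgroup.center M := by
    rw [commutator_def, Subgroup.commutator_le]
    intro a _ b _
    rw [Subgroup.mem_center_iff]
    intro c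
    exact Subtype.ext (hcl a a.2 b b.2 c c.2).symm
  haveI hnil : Group.IsNilpotent M := by
    rw [Subgroup.nilpotent_iff_lowerCentralSeries]
    refine ⟨2, ?_⟩
    rw [Subgroup.lowerCentralSeries_succ, eq_bot_iff, Subgroup.commutator_le]
    intro x hx y _
    have h1 : (⊤ : Subgroup M).lowerCentralSeries 1 = commutator M :=
      Subgroup.top_lowerCentralSeries_one
    rw [Subgroup.mem_bot, commutatorElement_eq_one_iff_mul_comm]
    exact ((Subgroup.mem_center_iff.mp (hlow (h1 ▸ hx))) y).symm
  by_cases hall : ∀ (p : ℕ) [Fact p.Prime] (P : Sylow p M), IsCyclic (P : Subgroup M)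
  · exfalso
    obtain ⟨a, ha, b, hb, hab⟩ := hna
    apply hab
    have e := Sylow.directProductOfNormal (G := M) fun {q} [Fact q.Prime] (P : Sylow q M) => (inferInstance : (P : Subgroup M).Normal)
    have : (⟨a, ha⟩ : M) * ⟨b, hb⟩ = ⟨b, hb⟩ * ⟨a, ha⟩ := by
      apply e.symm.injective
      rw [map_mul, map_mul]
      refine funext fun p => funext fun P => ?_
      haveI : Fact (p : ℕ).Prime := ⟨Nat.prime_of_mem_primeFactors p.2⟩
      letI : CommGroup (P : Subgroup M) := (hall (p : ℕ) P).commGroup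
      exact mul_comm (G := (P : Subgroup M)) _ _
    exact congrArg Subtype.val this
  push Not at hall
  obtain ⟨p, _, P, hP⟩ := hall
  haveI : (P : Subgroup M).Characteristic := P.characteristic_of_normal inferInstance
  set Q := (P : Subgroup M).map M.subtype
  have eQ : (P : Subgroup M) ≃* Q := (P : Subgroup M).equivMapOfInjective _ M.subtype_injective
  rcases sylow_shape M hfree Q (Subgroup.map_subtype_le _) (P.isPGroup'.of_equiv eQ) with hc | ⟨hp2, n, ⟨e⟩⟩
  · exact absurd ((MulEquiv.isCyclic eQ).mpr hc) hP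
  haveI : NeZero (2 ^ n) := ⟨pow_ne_zero _ two_ne_zero⟩
  set u : QuaternionGroup (2 ^ n) := QuaternionGroup.a 1
  set w : QuaternionGroup (2 ^ n) := QuaternionGroup.xa 0
  have hQM : Q ≤ M := Subgroup.map_subtype_le _
  have hcu := hcl _ (hQM (e.symm w).2) _ (hQM (e.symm u).2) _ (hQM (e.symm w).2)
  have hcu' : w * u * w⁻¹ * u⁻¹ * w = w * (w * u * w⁻¹ * u⁻¹) := by
    apply e.symm.injective
    apply Subtype.ext
    simpa only [map_mul, map_inv, Subgroup.coe_mul, InvMemClass.coe_inv] using hcu
  have hn : n ≤ 1 := by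
    have h4 : u ^ 4 = 1 := by
      have e1 : w * u * w⁻¹ = u⁻¹ := by
        rw [mul_inv_eq_iff_eq_mul]
        have hu : u⁻¹ = QuaternionGroup.a (-1) := rfl
        rw [hu]
        show QuaternionGroup.xa 0 * QuaternionGroup.a 1 = QuaternionGroup.a (-1) * QuaternionGroup.xa 0
        rw [QuaternionGroup.xa_mul_a, QuaternionGroup.a_mul_xa]
        congr 1
        ring
      rw [e1] at hcu'
      have e2 : w * (u⁻¹ * u⁻¹) * w⁻¹ = u * u := by
        calc w * (u⁻¹ * u⁻¹) * w⁻¹ = (w * u * w⁻¹)⁻¹ * (w * u * w⁻¹)⁻¹ := by group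
          _ = u * u := by rw [e1, inv_inv]
      have e3 : u * u = u⁻¹ * u⁻¹ := by rw [← e2, ← hcu', mul_inv_cancel_right]
      calc u ^ 4 = u * u * (u * u) := by simp [pow_succ, mul_assoc]
        _ = u⁻¹ * u⁻¹ * (u * u) := by rw [← e3]
        _ = 1 := by group
    have := orderOf_dvd_of_pow_eq_one h4
    rw [QuaternionGroup.orderOf_a_one] at this
    have := Nat.le_of_dvd (by norm_num) this
    by_contra hlt
    have : 2 ^ 2 ≤ 2 ^ n := Nat.pow_le_pow_right two_pos (by omega)
    omega
  refine ⟨Q, hQM, inferInstance, ?_, ?_⟩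
  swap
  · intro g hgQ hgZ z hz
    let C : Subgroup M := (Subgroup.centralizer ({g} : Set G)).subgroupOf M
    have hC : C = ⊤ := by
      rw [← Subgroup.card_eq_iff_eq_top]
      refine Nat.dvd_antisymm (Subgroup.card_subgroup_dvd_card C) ?_
      rw [← Nat.factorization_prime_le_iff_dvd Nat.card_pos.ne' Nat.card_pos.ne']
      intro r hr
      haveI := Fact.mk hr
      obtain ⟨R⟩ : Nonempty (Sylow r M) := inferInstance
      have hle : (R : Subgroup M) ≤ C := by
        intro y hy
        rw [Subgroup.mem_subgroupOf, Subgroup.mem_centralizer_singleton_iff]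
        by_cases hr2 : r = p
        · subst hr2
          haveI := Sylow.unique_of_normal P inferInstance
          have hPR : R = P := Subsingleton.elim _ _
          exact (hgQ _ (Subgroup.mem_map_of_mem _ (hPR ▸ hy : y ∈ (P : Subgroup M)))).symm
        · refine (hgZ _ y.2 fun w hw => ?_).symm
          have hRc : ∀ a b : M, a ∈ (R : Subgroup M) → b ∈ (R : Subgroup M) → a * b = b * a := by
            rcases sylow_shape M hfree ((R : Subgroup M).map M.subtype) (Subgroup.map_subtype_le _)
                (R.isPGroup'.of_equiv ((R : Subgroup M).equivMapOfInjective _ M.subtype_injective)) with hc | ⟨hc, -⟩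
            · intro a b ha hb
              haveI : IsCyclic (R : Subgroup M) :=
                (MulEquiv.isCyclic ((R : Subgroup M).equivMapOfInjective _ M.subtype_injective)).mpr hc
              letI : CommGroup (R : Subgroup M) := IsCyclic.commGroup
              exact congrArg Subtype.val (mul_comm (⟨a, ha⟩ : (R : Subgroup M)) ⟨b, hb⟩)
            · exact absurd (hc.trans hp2.symm) hr2
          let D : Subgroup M := Subgroup.centralizer ({y} : Set M)
          have hD : D = ⊤ := by
            rw [← Subgroup.card_eq_iff_eq_top]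
            refine Nat.dvd_antisymm (Subgroup.card_subgroup_dvd_card D) ?_
            rw [← Nat.factorization_prime_le_iff_dvd Nat.card_pos.ne' Nat.card_pos.ne']
            intro t ht
            haveI := Fact.mk ht
            obtain ⟨T⟩ : Nonempty (Sylow t M) := inferInstance
            have hTD : (T : Subgroup M) ≤ D := by
              intro u hu
              rw [Subgroup.mem_centralizer_singleton_iff]
              by_cases htr : t = r
              · subst htr
                haveI := Sylow.unique_of_normal R inferInstance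
                have hTR : T = R := Subsingleton.elim _ _
                exact hRc u y (hTR ▸ hu) hy
              · exact Subgroup.commute_of_normal_of_disjoint _ _ inferInstance inferInstance
                  (IsPGroup.disjoint_of_ne t r htr _ _ T.isPGroup' R.isPGroup') u y hu hy
            have := Subgroup.card_dvd_of_le hTD
            rw [T.card_eq_multiplicity] at this
            exact (ht.pow_dvd_iff_le_factorization Nat.card_pos.ne').1 this
          have := Subgroup.mem_centralizer_singleton_iff.mp (hD ▸ Subgroup.mem_top (⟨w, hw⟩ : M))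
          exact congrArg Subtype.val this
      have := Subgroup.card_dvd_of_le hle
      rw [R.card_eq_multiplicity] at this
      exact (hr.pow_dvd_iff_le_factorization Nat.card_pos.ne').1 this
    have : (⟨z, hz⟩ : M) ∈ C := hC ▸ Subgroup.mem_top _
    exact (Subgroup.mem_centralizer_singleton_iff.1 (Subgroup.mem_subgroupOf.1 this)).symm
  interval_cases n
  · exfalso
    haveI : IsCyclic (QuaternionGroup (2 ^ 0)) := by rw [pow_zero]; exact QuaternionGroup.quaternionGroup_one_isCyclic
    exact hP ((MulEquiv.isCyclic eQ).mpr ((MulEquiv.isCyclic e).mpr inferInstance))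
  · exact ⟨e⟩

theorem exists_abelian_layer (hsol : Group.IsSolvable G) (A K : Subgroup G) [A.Normal] [K.Normal]
    (hAK : A ≤ K) (hnle : ¬ K ≤ A) :
    ∃ M : Subgroup G, M.Normal ∧ A ≤ M ∧ M ≤ K ∧ ¬ M ≤ A ∧ ∀ a ∈ M, ∀ b ∈ M, a * b * a⁻¹ * b⁻¹ ∈ A := by
  classical
  let π := QuotientGroup.mk' A
  haveI : (K.map π).Normal := (inferInstance : K.Normal).map π (QuotientGroup.mk'_surjective A)
  have hKne : K.map π ≠ ⊥ := by
    rw [Ne, Subgroup.map_eq_bot_iff, QuotientGroup.ker_mk']
    exact hnle
  haveI : Group.IsSolvable (G ⧸ A) := inferInstance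
  obtain ⟨k, hk⟩ := (Group.isSolvable_def (G ⧸ A)).mp inferInstance
  -- the last derived term of the image which is non-trivial
  let D : ℕ → Subgroup (G ⧸ A) := fun j => Nat.rec (K.map π) (fun _ S => ⁅S, S⁆) j
  have hDn : ∀ j, (D j).Normal := by
    intro j
    induction j with
    | zero => exact (inferInstance : (K.map π).Normal)
    | succ j ih => haveI := ih; exact Subgroup.commutator_normal _ _
  have hDle : ∀ j, D j ≤ derivedSeries (G ⧸ A) j ∧ D j ≤ K.map π := by
    intro j
    induction j with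
    | zero => exact ⟨le_top, le_refl _⟩
    | succ j ih =>
      refine ⟨Subgroup.commutator_mono ih.1 ih.1, le_trans ?_ ih.2⟩
      haveI := hDn j
      exact Subgroup.commutator_le_left _ _
  classical
  have hex : ∃ j, D j = ⊥ := ⟨k, le_bot_iff.mp (hk ▸ (hDle k).1)⟩
  set jm := sInf {j | D j = ⊥}
  have hspec : D jm = ⊥ := Nat.sInf_mem (s := {j | D j = ⊥}) hex
  have hpos : jm ≠ 0 := fun e => hKne (by rw [e] at hspec; exact hspec)
  obtain ⟨j, hj⟩ := Nat.exists_eq_succ_of_ne_zero hpos
  have hj1 : D j ≠ ⊥ := Nat.notMem_of_lt_sInf (s := {j | D j = ⊥}) (show j < jm by omega)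
  have hj2 : ⁅D j, D j⁆ = ⊥ := by rw [hj] at hspec; exact hspec
  haveI := hDn j
  haveI := hDn j
  refine ⟨(D j).comap π, Subgroup.Normal.comap (hDn j) π, fun a ha => ?_, fun x hx => ?_, fun hle => hj1 ?_, fun a ha b hb => ?_⟩
  · show π a ∈ D j
    rw [QuotientGroup.mk'_apply, (QuotientGroup.eq_one_iff a).mpr ha]; exact one_mem _
  · obtain ⟨y, hy, hxy⟩ := (hDle j).2 hx
    have : y⁻¹ * x ∈ A := (QuotientGroup.eq.mp hxy)
    simpa using mul_mem hy (hAK this)
  · rw [eq_bot_iff]
    intro x hx
    obtain ⟨y, rfl⟩ := QuotientGroup.mk'_surjective A x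
    rw [Subgroup.mem_bot, QuotientGroup.mk'_apply, QuotientGroup.eq_one_iff]
    exact hle hx
  · have := Subgroup.commutator_mem_commutator (H₁ := D j) (H₂ := D j) (g₁ := π a) (g₂ := π b) ha hb
    rw [hj2, Subgroup.mem_bot, ← map_commutatorElement, QuotientGroup.mk'_apply,
      QuotientGroup.eq_one_iff, commutatorElement_def] at this
    exact this

theorem main (h : IsTransRep ρ) (hsol : Group.IsSolvable G) :
    (∃ (F : Type) (_ : Field F) (_ : Fintype F) (e : V ≃+ F),
        ∀ g : G, ∃ (a : F) (σ : F ≃+* F), ∀ v : V, e (ρ g v) = a * σ (e v)) ∨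
      Nat.card V ∈ ({9, 25, 49, 121, 529, 81} : Set ℕ) := by
  classical
  obtain ⟨A, ⟨hAn, hAab⟩, hAmax⟩ := Set.Finite.exists_maximal
    (s := {A : Subgroup G | A.Normal ∧ ∀ a ∈ A, ∀ b ∈ A, a * b = b * a}) (Set.toFinite _)
    ⟨⊥, inferInstance, fun a ha b hb => by rw [Subgroup.mem_bot.mp ha, Subgroup.mem_bot.mp hb]⟩
  haveI := hAn
  obtain ⟨D⟩ := exists_fieldData h A hAab
  have hnz : (Nat.card V - 1) ∣ Nat.card G := by
    obtain ⟨v, hv⟩ := exists_ne (0 : V)
    letI : MulAction G V :=
      { smul := fun g u => ρ g u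
        one_smul := fun u => by show ρ 1 u = u; rw [map_one]; rfl
        mul_smul := fun a b u => map_mul_apply a b u }
    have horb : MulAction.orbit G v = {u : V | u ≠ 0} := by
      ext u
      constructor
      · rintro ⟨g, rfl⟩; exact fun e => hv ((ρ g).map_eq_zero_iff.mp e)
      · intro hu; exact h.trans v u hv hu
    haveI := Fintype.ofFinite V
    have h1 : Nat.card {u : V // u ≠ 0} = Nat.card V - 1 := by
      rw [Nat.card_eq_fintype_card, Nat.card_eq_fintype_card, Fintype.card_subtype_compl,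
        Fintype.card_subtype_eq]
    rw [← h1, show {u : V // u ≠ 0} = ↥({u : V | u ≠ 0}) from rfl, ← Nat.card_congr (Equiv.setCongr horb),
      Nat.card_congr (MulAction.orbitEquivQuotientStabilizer G v)]
    exact Subgroup.card_quotient_dvd_card _
  obtain ⟨hm0, hV⟩ := D.card_V
  have hd := D.d_pos
  have hq2 : 2 ≤ q := (Fact.out : q.Prime).two_le
  set CA := Subgroup.centralizer (A : Set G) with hCA
  have hACA : A ≤ CA := fun a ha => Subgroup.mem_centralizer_iff.mpr fun b hb => hAab b hb a ha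
  haveI : CA.Normal := by rw [hCA, ← D.ker_act]; infer_instance
  by_cases hcase : CA ≤ A
  · refine Or.inl (D.semilinear_of_dim_one ?_)
    by_contra hne
    have hCAeq : CA = A := le_antisymm hcase hACA
    have h1 : A.index ∣ D.d := by
      have := D.index_dvd
      rwa [show Subgroup.centralizer (A : Set G) = A from hCAeq] at this
    have h3 : D.d < q ^ D.d := lt_of_lt_of_le Nat.lt_two_pow_self (Nat.pow_le_pow_left hq2 _)
    have h4 : q ^ D.d * q ^ D.d ≤ q ^ (D.d * D.dim) := by
      rw [← pow_add]; exact Nat.pow_le_pow_right (by omega) (by have : 2 ≤ D.dim := (by omega); nlinarith)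
    have h5 : q ^ (D.d * D.dim) - 1 ∣ (q ^ D.d - 1) * D.d := by
      rw [← hV]; exact hnz.trans (A.card_mul_index ▸ Nat.mul_dvd_mul (D.card_dvd h) h1)
    have h8 : 2 ≤ q ^ D.d := le_trans hq2 (Nat.le_self_pow hd.ne' q)
    have h6 := Nat.le_of_dvd (Nat.mul_pos (by omega) hd) h5
    have h7 : q ^ D.d * D.d + q ^ D.d ≤ q ^ D.d * q ^ D.d := by
      rw [← Nat.mul_succ]; exact Nat.mul_le_mul_left _ h3
    have h9 : (q ^ D.d - 1) * D.d ≤ q ^ D.d * D.d := Nat.mul_le_mul_right _ (Nat.sub_le _ _)
    omega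
  obtain ⟨M, ⟨hMn, hAM, hMC, hMcomm⟩, hMmax⟩ := Set.Finite.exists_maximal
    (s := {M : Subgroup G | M.Normal ∧ A ≤ M ∧ M ≤ CA ∧ ∀ a ∈ M, ∀ b ∈ M, a * b * a⁻¹ * b⁻¹ ∈ A})
    (Set.toFinite _) ⟨A, hAn, le_refl _, hACA, fun a ha b hb =>
      mul_mem (mul_mem (mul_mem ha hb) (inv_mem ha)) (inv_mem hb)⟩
  haveI := hMn
  have hMA : ¬ M ≤ A := by
    intro hle
    obtain ⟨M1, h1, h2, h3, h4, h5⟩ := exists_abelian_layer hsol A CA hACA hcase
    exact h4 ((hMmax ⟨h1, h2, h3, h5⟩ (hle.trans h2)).trans hle)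
  have hcenA : ∀ z : G, (z ∈ M ∧ ∀ y ∈ M, y * z = z * y) → z ∈ A := by
    let Z : Subgroup G :=
      { carrier := {z | z ∈ M ∧ ∀ y ∈ M, y * z = z * y}
        one_mem' := ⟨one_mem _, fun y _ => by rw [mul_one, one_mul]⟩
        mul_mem' := fun {a b} ha hb => ⟨mul_mem ha.1 hb.1, fun y hy => by
          rw [← mul_assoc, ha.2 y hy, mul_assoc, hb.2 y hy, mul_assoc]⟩
        inv_mem' := fun {a} ha => ⟨inv_mem ha.1, fun y hy => (show Commute y a from ha.2 y hy).inv_right.eq⟩ }
    have hZn : Z.Normal := by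
      refine ⟨fun z hz g => ⟨(inferInstance : M.Normal).conj_mem z hz.1 g, fun y hy => ?_⟩⟩
      have hy' : g⁻¹ * y * g ∈ M := by simpa using (inferInstance : M.Normal).conj_mem y hy g⁻¹
      have := hz.2 _ hy'
      calc y * (g * z * g⁻¹) = g * ((g⁻¹ * y * g) * z) * g⁻¹ := by group
        _ = g * z * g⁻¹ * y := by rw [this]; group
    have hAZ : A ≤ Z := fun a ha => ⟨hAM ha, fun y hy =>
      (Subgroup.mem_centralizer_iff.mp (hMC hy) a ha).symm⟩
    intro z hz
    exact hAmax ⟨hZn, fun a ha b hb => hb.2 a ha.1⟩ hAZ hz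
  have hZM : ∀ z ∈ M, (∀ y ∈ M, y * z = z * y) → z ∈ A := fun z h1 h2 => hcenA z ⟨h1, h2⟩
  refine Or.inr ?_
  by_cases hfree : FreeOn ρ M
  swap
  · simp only [FreeOn, not_forall] at hfree
    obtain ⟨x, hx, v, hv, hxv, hx1⟩ := hfree
    exact nonfree_bound D h M hAM hMC hMcomm hZM hx hx1 hv hxv
  have hcl : ∀ a ∈ M, ∀ b ∈ M, ∀ c ∈ M, a * b * a⁻¹ * b⁻¹ * c = c * (a * b * a⁻¹ * b⁻¹) :=
    fun a ha b hb c hc => Subgroup.mem_centralizer_iff.mp (hMC hc) _ (hMcomm a ha b hb)
  have hnab : ∃ a ∈ M, ∃ b ∈ M, a * b ≠ b * a := by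
    by_contra hcon
    push Not at hcon
    exact hMA (hAmax ⟨hMn, hcon⟩ hAM)
  obtain ⟨Q, hQM, hQn, ⟨e⟩, hgen⟩ := exists_q8 M hfree hcl hnab
  haveI := hQn
  set C1 := Subgroup.centralizer (Q : Set G) with hC1
  let α : G →* MulAut Q := MulAut.conjNormal
  have hαker : α.ker = C1 := by
    ext g
    rw [MonoidHom.mem_ker, hC1, Subgroup.mem_centralizer_iff]
    constructor
    · intro hg x hx
      have := congrArg (fun s : MulAut Q => (s ⟨x, hx⟩ : G)) hg
      have h2 : g * x * g⁻¹ = x := this
      exact (mul_inv_eq_iff_eq_mul.mp h2).symm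
    · intro hg
      refine MulEquiv.ext fun x => Subtype.ext ?_
      show g * x * g⁻¹ = x
      rw [← hg x x.2, mul_inv_cancel_right]
  haveI : C1.Normal := hαker ▸ inferInstance
  have hi24 : C1.index ∣ 24 := by
    rw [← hαker, Subgroup.index_ker, ← SolvableRegularStruct75.card_mulAut_q8,
      ← Nat.card_congr (MulAut.congr e).toEquiv]
    exact Subgroup.card_subgroup_dvd_card _
  -- an element of `CA` centralising `Q` centralises `M`
  have hCM : ∀ g ∈ C1 ⊓ CA, ∀ z ∈ M, g * z = z * g := fun g hg => hgen g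
    (fun z hz => (Subgroup.mem_centralizer_iff.mp (Subgroup.mem_inf.mp hg).1 z hz).symm)
    (fun z hz hzc => (Subgroup.mem_centralizer_iff.mp (Subgroup.mem_inf.mp hg).2 z (hZM z hz hzc)).symm)
  have hAC1 : A ≤ C1 := fun a ha => Subgroup.mem_centralizer_iff.mpr fun z hz =>
    (Subgroup.mem_centralizer_iff.mp (hMC (hQM hz)) a ha).symm
  have hKA : C1 ⊓ CA ≤ A := by
    by_contra hnle
    obtain ⟨M1, h1, h2, h3, h4, h5⟩ := exists_abelian_layer hsol A (C1 ⊓ CA) (le_inf hAC1 hACA) hnle
    haveI := h1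
    have hjoin : M ⊔ M1 ≤ M := by
      refine hMmax ⟨inferInstance, hAM.trans le_sup_left, sup_le hMC (h3.trans inf_le_right), ?_⟩ le_sup_left
      intro a ha b hb
      obtain ⟨a1, ha1, a2, ha2, rfl⟩ := Subgroup.mem_sup_of_normal_left.mp ha
      obtain ⟨b1, hb1, b2, hb2, rfl⟩ := Subgroup.mem_sup_of_normal_left.mp hb
      let π := QuotientGroup.mk' A
      have hz : ∀ u w : G, u * w * u⁻¹ * w⁻¹ ∈ A → π u * π w = π w * π u := by
        intro u w huw
        rw [← map_mul, ← map_mul]
        refine (QuotientGroup.eq.mpr ?_).symm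
        have e1 : (w * u)⁻¹ * (u * w) = (w * u)⁻¹ * (u * w * u⁻¹ * w⁻¹) * (w * u) := by group
        rw [e1]
        simpa using (inferInstance : A.Normal).conj_mem _ huw (w * u)⁻¹
      have hcm : ∀ g ∈ M1, ∀ z ∈ M, π z * π g = π g * π z := fun g hg z hz' => by
        rw [← map_mul, ← map_mul, hCM g (h3 hg) z hz']
      have c1 : Commute (π a1) (π b1) := hz _ _ (hMcomm _ ha1 _ hb1)
      have c2 : Commute (π a2) (π b2) := hz _ _ (h5 _ ha2 _ hb2)
      have c3 : Commute (π a1) (π b2) := hcm _ hb2 _ ha1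
      have c4 : Commute (π a2) (π b1) := (hcm _ ha2 _ hb1).symm
      have c5 : Commute (π (a1 * a2)) (π (b1 * b2)) := by
        rw [map_mul, map_mul]
        exact ((c1.mul_right c3).mul_left (c4.mul_right c2))
      rw [← QuotientGroup.eq_one_iff]
      show π (a1 * a2 * (b1 * b2) * (a1 * a2)⁻¹ * (b1 * b2)⁻¹) = 1
      rw [map_mul, map_mul π _ ((a1 * a2)⁻¹), map_mul π (a1 * a2), c5.eq, map_inv, map_inv,
        mul_inv_cancel_right, mul_inv_cancel]
    refine h4 fun x hx => hZM x (hjoin (Subgroup.mem_sup_right hx)) fun y hy => ?_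
    exact (hCM x (h3 hx) y hy).symm
  have hAeq : C1 ⊓ CA = A := le_antisymm hKA (le_inf hAC1 hACA)
  have hAi : A.index ∣ 24 * D.d := by
    have e1 : (C1 ⊓ CA).index ∣ D.d * 24 := by
      rw [← Subgroup.relIndex_mul_index (inf_le_left : C1 ⊓ CA ≤ C1), Subgroup.inf_relIndex_left]
      exact Nat.mul_dvd_mul ((Subgroup.relIndex_dvd_index_of_normal _ _).trans D.index_dvd) hi24
    rw [mul_comm 24]
    exact (congrArg Subgroup.index hAeq) ▸ e1
  have h8 : 8 ∣ q ^ (D.d * D.dim) - 1 := by
    have h8' : Nat.card Q = 8 := by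
      rw [Nat.card_congr e.toEquiv, Nat.card_eq_fintype_card, QuaternionGroup.card]
    rw [← hV, ← h8']
    exact (Subgroup.card_dvd_of_le hQM).trans (card_free_dvd M hfree)
  have hq3 : 3 ≤ q := by
    by_contra hlt
    have e2 : q = 2 := by omega
    have h1 : 2 ∣ q ^ (D.d * D.dim) := by
      have := dvd_pow_self q (Nat.mul_pos hd hm0).ne'
      exact (by omega : 2 ∣ q).trans this
    have h2 : 1 ≤ q ^ (D.d * D.dim) := Nat.one_le_pow _ _ (by omega)
    omega
  have hm : 2 ≤ D.dim := by
    by_contra hlt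
    haveI : Finite (Module.End (ZMod q) V) :=
      Finite.of_injective (fun f => (f : V → V)) DFunLike.coe_injective
    letI := D.toField
    letI : Module D.F V := Module.compHom V D.F.val.toRingHom
    haveI : Module.Finite D.F V := Module.Finite.of_finite
    obtain ⟨v, hv⟩ := exists_ne (0 : V)
    have hall : ∀ u : V, ∃ r : D.F, r • v = u :=
      exists_smul_eq_of_finrank_eq_one (show D.dim = 1 by omega) hv
    obtain ⟨a, ha, b, hb, hab⟩ := hnab
    apply hab
    have hlin : ∀ z ∈ M, ∀ (r : D.F) (u : V), ρ z (r • u) = r • ρ z u := fun z hz r u => D.linear z (hMC hz) r u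
    refine h.inj (LinearEquiv.ext fun u => ?_)
    obtain ⟨r, rfl⟩ := hall u
    obtain ⟨s, hs⟩ := hall (ρ a v)
    obtain ⟨t, ht⟩ := hall (ρ b v)
    rw [map_mul_apply, map_mul_apply, hlin b hb, ← ht, smul_smul, hlin a ha, ← hs, hlin a ha, ← hs,
      smul_smul, smul_smul, hlin b hb, ← ht, smul_smul, mul_right_comm]
  have hdvd : q ^ (D.d * D.dim) - 1 ∣ (q ^ D.d - 1) * (24 * D.d) := by
    rw [← hV]; exact hnz.trans (A.card_mul_index ▸ Nat.mul_dvd_mul (D.card_dvd h) hAi)
  obtain ⟨hd1, hm2, hqs⟩ := SolvableRegularStruct75.numeric Fact.out hq3 hd hm hdvd h8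
  rw [hV, hd1, hm2]
  rcases hqs with rfl | rfl | rfl | rfl | rfl <;> simp

end Cfsg.Agent.TransitiveLinearMain75
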