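import Mathlib
import Cfsg.Prelude.Def_CaseTheorems
import Cfsg.Agent.Lib.TransitiveLinearMain75
import Cfsg.Agent.S0205

/-!
# An elementary abelian Sylow 2-subgroup with one class of involutions

The automiser of `S` is semilinear, so the part fixing an involution has orbits of length at most
`n` and its nontrivial elements fix at most `2 ^ (n / 3)` elements of `S`.
-/

set_option autoImplicit false
set_option linter.style.haveILetI false

open scoped IsMulCommutative

namespace Cfsg.Agent.ConstDiff2Fusion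

universe u

section Field

variable {F : Type} [Field F] [Finite F]

theorem finite_ringAut : Finite (RingAut F) :=
  Finite.of_injective (fun s : RingAut F => (s : F → F)) DFunLike.coe_injective

/-- Images of a point under field automorphisms: at most the degree over the prime field. -/
theorem ncard_aut_image_le {n : ℕ} (hF : Nat.card F = 2 ^ n) (z : F) :
    {w : F | ∃ s : RingAut F, s z = w}.ncard ≤ n := by
  classical
  haveI := Fact.mk Nat.prime_two
  haveI := Fintype.ofFinite F
  haveI : CharP F 2 := charP_of_card_eq_prime_pow (R := F) (p := 2) (f := n)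
    (by rw [← hF, Nat.card_eq_fintype_card])
  letI : Algebra (ZMod 2) F := ZMod.algebra F 2
  have hn : Module.finrank (ZMod 2) F = n := by
    have h := Module.natCard_eq_pow_finrank (K := ZMod 2) (V := F)
    rw [hF, Nat.card_zmod] at h
    exact (Nat.pow_right_injective le_rfl h).symm
  set m := minpoly (ZMod 2) z with hm
  have hne : m ≠ 0 := minpoly.ne_zero (Algebra.IsIntegral.isIntegral z)
  have hsub : {w : F | ∃ s : RingAut F, s z = w} ⊆ ↑(m.aroots F).toFinset := by
    rintro w ⟨s, rfl⟩
    rw [Finset.mem_coe, Multiset.mem_toFinset, Polynomial.mem_aroots]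
    refine ⟨hne, ?_⟩
    let sa : F →ₐ[ZMod 2] F :=
      { (s : F →+* F) with
        commutes' := fun c => RingHom.congr_fun
          (RingHom.ext_zmod (((s : F →+* F)).comp (algebraMap (ZMod 2) F)) (algebraMap (ZMod 2) F)) c }
    show Polynomial.aeval (sa z) m = 0
    rw [Polynomial.aeval_algHom_apply, hm, minpoly.aeval, map_zero]
  refine le_trans (Set.ncard_le_ncard hsub) ?_
  rw [Set.ncard_coe_finset]
  refine (Multiset.toFinset_card_le _).trans ((Polynomial.card_roots' _).trans ?_)
  rw [Polynomial.natDegree_map, ← hn]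
  exact minpoly.natDegree_le z

/-- A nontrivial automorphism of odd order fixes at most a cube root of the field. -/
theorem card_fixed_cube_le (s : RingAut F) (hs : s ≠ 1) (hodd : Odd (orderOf s)) :
    Nat.card {z : F // s z = z} ^ 3 ≤ Nat.card F := by
  haveI := finite_ringAut (F := F)
  haveI : Fintype (Subgroup.zpowers s) := Fintype.ofFinite _
  set K := FixedPoints.subfield (Subgroup.zpowers s) F with hK
  have hmem : ∀ z : F, z ∈ K ↔ s z = z := by
    intro z
    refine ⟨fun h => h ⟨s, Subgroup.mem_zpowers s⟩, fun h => ?_⟩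
    rintro ⟨w, hw⟩
    obtain ⟨j, rfl⟩ := Subgroup.mem_zpowers_iff.1 hw
    have hst : s ∈ MulAction.stabilizer (RingAut F) z := h
    exact zpow_mem hst j
  have hcard : Nat.card {z : F // s z = z} = Nat.card K :=
    Nat.card_congr (Equiv.subtypeEquivRight fun z => (hmem z).symm)
  have h3 : 3 ≤ orderOf s := by
    have h1 : orderOf s ≠ 1 := fun h => hs (orderOf_eq_one_iff.1 h)
    obtain ⟨j, hj⟩ := hodd
    omega
  have hF : Nat.card F = Nat.card K ^ orderOf s := by
    rw [← Nat.card_zpowers, Nat.card_eq_fintype_card (α := Subgroup.zpowers s),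
      ← FixedPoints.finrank_eq_card (Subgroup.zpowers s) F]
    exact Module.natCard_eq_pow_finrank
  rw [hcard, hF]
  exact Nat.pow_le_pow_right Nat.card_pos h3

end Field

variable {G : Type u} [Group G] [Finite G] (S : Sylow 2 G)

theorem natCard_additive {α : Type u} : Nat.card (Additive α) = Nat.card α :=
  Nat.card_congr Additive.toMul

/-- The semilinear structure on the stabiliser of an involution in the normaliser of `S`. -/
theorem exists_semilinear (hel : Cfsg.IsElementaryAbelian 2 (S : Subgroup G))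
    (hone : ∀ a b : G, orderOf a = 2 → orderOf b = 2 → IsConj a b) {t : G}
    (htS : t ∈ (S : Subgroup G)) (ht : t ≠ 1) :
    ∃ (F : Type) (_ : Field F) (_ : Finite F) (e : (S : Subgroup G) ≃ F),
      ∀ g ∈ Subgroup.normalizer ((S : Subgroup G) : Set G), g * t = t * g →
        ∃ σ : RingAut F, Odd (orderOf σ) ∧
          ∀ (s : (S : Subgroup G)) (h : g * s * g⁻¹ ∈ (S : Subgroup G)),
            e ⟨g * s * g⁻¹, h⟩ = σ (e s) := by
  classical
  haveI := Fact.mk Nat.prime_two
  haveI : IsMulCommutative (S : Subgroup G) := hel.1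
  set N := Subgroup.normalizer ((S : Subgroup G) : Set G) with hN
  set T : Subgroup G := (S : Subgroup G) with hT
  have hmemN : ∀ g : N, ∀ s : T, (g : G) * s * (g : G)⁻¹ ∈ T := fun g s =>
    (Subgroup.mem_normalizer_iff.1 g.2 s).1 s.2
  let φ : N →* MulAut T :=
    { toFun := fun g =>
        { toFun := fun s => ⟨(g : G) * s * (g : G)⁻¹, hmemN g s⟩
          invFun := fun s => ⟨((g⁻¹ : N) : G) * s * ((g⁻¹ : N) : G)⁻¹, hmemN g⁻¹ s⟩
          left_inv := fun s => Subtype.ext (by simp [mul_assoc])
          right_inv := fun s => Subtype.ext (by simp [mul_assoc])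
          map_mul' := fun a b => Subtype.ext (by simp [mul_assoc]) }
      map_one' := by ext s; simp
      map_mul' := fun a b => by ext s; simp [mul_assoc] }
  letI : Module (ZMod 2) (Additive T) := AddCommGroup.zmodModule fun v => by
    show v.toMul ^ 2 = 1
    exact Subtype.ext (hel.2 v.toMul v.toMul.2)
  let ρ : φ.range →* (Additive T ≃ₗ[ZMod 2] Additive T) :=
    { toFun := fun a =>
        AddEquiv.toLinearEquiv (MulEquiv.toAdditive (a : MulAut T)) fun c v =>
          ZMod.map_smul (MulEquiv.toAdditive (a : MulAut T)).toAddMonoidHom c v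
      map_one' := by ext v; rfl
      map_mul' := fun a b => by ext v; rfl }
  have hρ : ∀ (a : φ.range) (s : T), ρ a (Additive.ofMul s) = Additive.ofMul ((a : MulAut T) s) :=
    fun a s => rfl
  have ht1 : orderOf t = 2 := orderOf_eq_prime (hel.2 t htS) ht
  haveI : Nontrivial (Additive T) :=
    ⟨⟨Additive.ofMul ⟨t, htS⟩, 0, fun h => ht (congrArg (fun v : Additive T => (v.toMul : G)) h)⟩⟩
  have hconj : ∀ v w : Additive T, v ≠ 0 → w ≠ 0 → ∃ a : φ.range, ρ a v = w := by
    intro v w hv hw
    have ho : ∀ v : Additive T, v ≠ 0 → orderOf ((v.toMul : T) : G) = 2 := fun v hv =>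
      orderOf_eq_prime (hel.2 _ v.toMul.2)
        fun h => hv (Additive.toMul.injective (Subtype.ext h))
    obtain ⟨g, hg⟩ := isConj_iff.1 (hone _ _ (ho v hv) (ho w hw))
    obtain ⟨m, hm, he⟩ := S.conj_eq_normalizer_conj_of_mem ((v.toMul : T) : G) g⁻¹ v.toMul.2
      (by rw [inv_inv, hg]; exact w.toMul.2)
    rw [inv_inv, hg] at he
    refine ⟨⟨φ ⟨m⁻¹, Subgroup.inv_mem _ hm⟩, _, rfl⟩, Additive.toMul.injective (Subtype.ext ?_)⟩
    show m⁻¹ * ((v.toMul : T) : G) * m⁻¹⁻¹ = ((w.toMul : T) : G)
    rw [he, inv_inv]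
  have htrans : TransitiveLinearField75.IsTransRep ρ := by
    refine ⟨fun a b hab => Subtype.ext (MulEquiv.ext fun s => ?_), hconj⟩
    exact Additive.ofMul.injective ((hρ a s).symm.trans ((LinearEquiv.congr_fun hab _).trans (hρ b s)))
  have hodd : Odd (Nat.card φ.range) := by
    rw [← Nat.not_even_iff_odd, even_iff_two_dvd, ← Subgroup.index_ker]
    intro hd
    have hle : T.subgroupOf N ≤ φ.ker := fun g hg => by
      rw [MonoidHom.mem_ker]
      refine MulEquiv.ext fun s => Subtype.ext ?_
      show (g : G) * (s : G) * (g : G)⁻¹ = s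
      have := congrArg Subtype.val (mul_comm (⟨(g : G), hg⟩ : T) s)
      rw [show (g : G) * (s : G) = (s : G) * (g : G) from this, mul_assoc, mul_inv_cancel, mul_one]
    have h1 : 2 ∣ (T.subgroupOf N).index := hd.trans (Subgroup.index_dvd_of_le hle)
    exact S.not_dvd_index (h1.trans (Subgroup.relIndex_dvd_index_of_le T.le_normalizer))
  haveI : Group.IsSolvable φ.range := S0205.result hodd
  rcases TransitiveLinearMain75.main htrans inferInstance with ⟨F, hF, hFf, e, he⟩ | hbad
  swap
  · exfalso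
    obtain ⟨d, hd⟩ := IsPGroup.iff_card.1 S.isPGroup'
    rw [natCard_additive, hd] at hbad
    rcases d with _ | d
    · simp at hbad
    · simp only [Set.mem_insert_iff, Set.mem_singleton_iff, pow_succ] at hbad
      omega
  set v₀ : F := e (Additive.ofMul ⟨t, htS⟩) with hv₀
  have hv0 : v₀ ≠ 0 := fun h => ht (congrArg (fun v : Additive T => (v.toMul : G))
    (e.injective (h.trans e.map_zero.symm)))
  let e' : T ≃ F := (Additive.ofMul.trans e.toEquiv).trans (Equiv.divRight₀ v₀ hv0)
  refine ⟨F, hF, inferInstance, e', fun g hg hgt => ?_⟩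
  set a : φ.range := ⟨φ ⟨g, hg⟩, _, rfl⟩ with ha
  obtain ⟨c, σ, hσ⟩ := he a
  have hfix : c * σ v₀ = v₀ := by
    rw [hv₀, ← hσ, hρ]
    refine congrArg e (congrArg Additive.ofMul (Subtype.ext ?_))
    show g * t * g⁻¹ = t
    rw [hgt, mul_assoc, mul_inv_cancel, mul_one]
  have hval : ∀ s : T, e' ((a : MulAut T) s) = σ (e' s) := by
    intro s
    show e (Additive.ofMul ((a : MulAut T) s)) / v₀ = σ (e (Additive.ofMul s) / v₀)
    rw [← hρ, hσ, map_div₀]
    have hσ0 : σ v₀ ≠ 0 := (map_ne_zero σ).2 hv0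
    rw [div_eq_div_iff hv0 hσ0]
    linear_combination σ (e (Additive.ofMul s)) * hfix
  refine ⟨σ, ?_, fun s h => hval s⟩
  have hpow : ∀ (j : ℕ) (s : T), e' (((a ^ j : φ.range) : MulAut T) s) = (σ ^ j : RingAut F) (e' s) := by
    intro j
    induction j with
    | zero => intro s; rfl
    | succ j ih =>
      intro s
      rw [pow_succ', pow_succ', Subgroup.coe_mul, MulAut.mul_apply, hval, ih]
      rfl
  have hdvd : orderOf σ ∣ Nat.card φ.range := by
    refine (orderOf_dvd_of_pow_eq_one ?_).trans (orderOf_dvd_natCard a)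
    refine RingEquiv.ext fun z => ?_
    obtain ⟨s, rfl⟩ := e'.surjective z
    rw [← hpow, pow_orderOf_eq_one]
    rfl
  exact Odd.of_dvd_nat hodd hdvd

/-- Orbits of the stabiliser of an involution in the normaliser of `S` have length at most `n`. -/
theorem ncard_orbit_le (hel : Cfsg.IsElementaryAbelian 2 (S : Subgroup G))
    (hone : ∀ a b : G, orderOf a = 2 → orderOf b = 2 → IsConj a b) {t : G}
    (htS : t ∈ (S : Subgroup G)) (ht : t ≠ 1) {n : ℕ} (hn : Nat.card S = 2 ^ n) {s : G}
    (hs : s ∈ (S : Subgroup G)) :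
    {w : G | ∃ g ∈ Subgroup.normalizer ((S : Subgroup G) : Set G), g * t = t * g ∧
      g * s * g⁻¹ = w}.ncard ≤ n := by
  classical
  obtain ⟨F, hF, hFf, e, he⟩ := exists_semilinear S hel hone htS ht
  have hcard : Nat.card F = 2 ^ n := (Nat.card_congr e).symm.trans hn
  refine le_trans (le_of_eq ?_) (ncard_aut_image_le hcard (e ⟨s, hs⟩) |>.trans' (Set.ncard_le_ncard
    (s := (fun w : G => if h : w ∈ (S : Subgroup G) then e ⟨w, h⟩ else 0) ''
      {w : G | ∃ g ∈ Subgroup.normalizer ((S : Subgroup G) : Set G), g * t = t * g ∧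
        g * s * g⁻¹ = w}) ?_))
  · refine (Set.InjOn.ncard_image ?_).symm
    rintro w ⟨g, hg, -, rfl⟩ w' ⟨g', hg', -, rfl⟩ h
    have h1 := (Subgroup.mem_normalizer_iff.1 hg s).1 hs
    have h2 := (Subgroup.mem_normalizer_iff.1 hg' s).1 hs
    simp only [dif_pos h1, dif_pos h2] at h
    exact congrArg Subtype.val (e.injective h)
  · rintro _ ⟨w, ⟨g, hg, hgt, rfl⟩, rfl⟩
    have h1 := (Subgroup.mem_normalizer_iff.1 hg s).1 hs
    obtain ⟨σ, -, hσ⟩ := he g hg hgt
    refine ⟨σ, ?_⟩
    simp only [dif_pos h1]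
    exact (hσ ⟨s, hs⟩ h1).symm

/-- A nontrivially acting element fixes at most a cube root of `S`. -/
theorem fixed_cube_le (hel : Cfsg.IsElementaryAbelian 2 (S : Subgroup G))
    (hone : ∀ a b : G, orderOf a = 2 → orderOf b = 2 → IsConj a b) {t : G}
    (htS : t ∈ (S : Subgroup G)) (ht : t ≠ 1) {g : G}
    (hg : g ∈ Subgroup.normalizer ((S : Subgroup G) : Set G)) (hgt : g * t = t * g)
    (hne : ∃ s ∈ (S : Subgroup G), g * s ≠ s * g) (R : Subgroup G) (hR : R ≤ (S : Subgroup G))
    (hfix : ∀ r ∈ R, g * r = r * g) :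
    Nat.card R ^ 3 ≤ Nat.card S := by
  obtain ⟨F, hF, hFf, e, he⟩ := exists_semilinear S hel hone htS ht
  obtain ⟨σ, hodd, hσ⟩ := he g hg hgt
  have hσ1 : σ ≠ 1 := by
    intro h
    obtain ⟨s, hs, hs'⟩ := hne
    refine hs' (mul_inv_eq_iff_eq_mul.1 ?_)
    have h1 := (Subgroup.mem_normalizer_iff.1 hg s).1 hs
    have h2 := hσ ⟨s, hs⟩ h1
    rw [h] at h2
    exact congrArg Subtype.val (e.injective h2)
  refine le_trans (Nat.pow_le_pow_left ?_ 3) ((card_fixed_cube_le σ hσ1 hodd).trans (Nat.card_congr e).ge)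
  refine Nat.card_le_card_of_injective (fun r : R => (⟨e ⟨r, hR r.2⟩, ?_⟩ : {z : F // σ z = z})) ?_
  · have h1 := (Subgroup.mem_normalizer_iff.1 hg r).1 (hR r.2)
    rw [← hσ ⟨r, hR r.2⟩ h1]
    refine congrArg e (Subtype.ext ?_)
    show g * (r : G) * g⁻¹ = r
    rw [hfix r r.2, mul_assoc, mul_inv_cancel, mul_one]
  · intro r r' h
    have h1 := congrArg Subtype.val h
    exact Subtype.ext (congrArg (fun z : (S : Subgroup G) => (z : G)) (e.injective h1))

end Cfsg.Agent.ConstDiff2Fusion
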