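import Mathlib
import Cfsg.Prelude.Def_CaseTheorems
import Cfsg.Agent.Lib.SFTTwo
import Cfsg.Agent.Lib.SFTExtend
import Cfsg.Agent.Lib.SFTApps
import Cfsg.Agent.Lib.SignalizerStrongEmb
import Cfsg.Agent.Lib.CharTwoLocal
import Cfsg.Agent.Lib.CoprimeAction
import Cfsg.Agent.Lib.PGroupsBasic

/-!
Groups with solvable centralizers of involutions and a central subgroup `Z` of a Sylow 2-subgroup
`P` with `C(Z) ≤ N(P)`: the signalizer `t ↦ O(C(t))` is trivial or gives a strongly embedded
subgroup, provided the elementary abelian subgroups of order at least 8 containing `Z` are linked.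
-/

set_option autoImplicit false

namespace Cfsg.Agent.SolvCentInvol1

open Subgroup
open scoped commutatorElement
open Cfsg.Agent.SignalizerCoprime (elementaryAbelian_of_le)

universe u

variable {G : Type u} [Group G]

/-- `O(C(t))`. -/
noncomputable def th (t : G) : Subgroup G := Cfsg.centralizerPPrimeCore 2 t

/-- The subgroup generated by the `O(C(e))`, `e ∈ E#`. -/
noncomputable def span (E : Subgroup G) : Subgroup G := ⨆ e : {e : G // e ∈ E ∧ e ≠ 1}, th (e : G)

/-- The image of a subgroup under conjugation by `g`. -/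
def cj (g : G) (E : Subgroup G) : Subgroup G := E.map (MulAut.conj g).toMonoidHom

theorem mem_cj {g x : G} {E : Subgroup G} : x ∈ cj g E ↔ g⁻¹ * x * g ∈ E :=
  SignalizerStrongEmb.mem_conj_iff

theorem conj_mem_cj {g x : G} {E : Subgroup G} (h : x ∈ E) : g * x * g⁻¹ ∈ cj g E :=
  mem_cj.mpr (by simpa [mul_assoc] using h)

theorem cj_cj (g h : G) (E : Subgroup G) : cj g (cj h E) = cj (g * h) E := by
  ext x; simp [mem_cj, mul_assoc]

theorem cj_one (E : Subgroup G) : cj 1 E = E := by
  ext x; simp [mem_cj]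

theorem cj_mono {g : G} {E F : Subgroup G} (h : E ≤ F) : cj g E ≤ cj g F := map_mono h

theorem card_cj (g : G) (E : Subgroup G) : Nat.card (cj g E) = Nat.card E :=
  card_map_of_injective (MulEquiv.injective _)

theorem cj_eq_of_mem_normalizer {g : G} {X : Subgroup G} (h : g ∈ normalizer (X : Set G)) :
    cj g X = X := by
  ext x
  rw [mem_cj]
  exact (mem_normalizer_iff''.mp h x).symm

theorem mem_normalizer_of_cj_eq {g : G} {X : Subgroup G} (h : cj g X = X) :
    g ∈ normalizer (X : Set G) := by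
  refine mem_normalizer_iff''.mpr fun x => ?_
  rw [← mem_cj, h]

theorem isElementaryAbelian_cj {g : G} {E : Subgroup G} (h : Cfsg.IsElementaryAbelian 2 E) :
    Cfsg.IsElementaryAbelian 2 (cj g E) :=
  PGroupsBasic.isElementaryAbelian_map_hom h _

theorem th_le_span {E : Subgroup G} {e : G} (he : e ∈ E) (he1 : e ≠ 1) : th e ≤ span E :=
  le_iSup (fun e : {e : G // e ∈ E ∧ e ≠ 1} => th (e : G)) ⟨e, he, he1⟩

theorem span_le {E X : Subgroup G} (h : ∀ e ∈ E, e ≠ 1 → th e ≤ X) : span E ≤ X :=
  iSup_le fun e => h e e.2.1 e.2.2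

theorem th_conj [Finite G] (g t : G) : th (g * t * g⁻¹) = cj g (th t) :=
  haveI := Fact.mk Nat.prime_two
  SFTApps.centralizerPPrimeCore_conj t g

theorem span_cj [Finite G] (g : G) (E : Subgroup G) : span (cj g E) = cj g (span E) := by
  refine le_antisymm (span_le fun e he he1 => ?_) ?_
  · obtain ⟨y, hy, rfl⟩ := he
    rw [MulEquiv.coe_toMonoidHom, MulAut.conj_apply, th_conj]
    exact cj_mono (th_le_span hy fun h => he1 (by simp [h]))
  · rw [cj, span, Subgroup.map_iSup]
    refine iSup_le fun e => ?_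
    refine (th_conj g (e : G)).ge.trans (th_le_span (conj_mem_cj e.2.1) ?_)
    rw [Ne, conj_eq_one_iff]
    exact e.2.2

theorem orderOf_eq_two {E : Subgroup G} (hE : Cfsg.IsElementaryAbelian 2 E) {e : G} (he : e ∈ E)
    (he1 : e ≠ 1) : orderOf e = 2 :=
  haveI := Fact.mk Nat.prime_two
  orderOf_eq_prime (hE.2 e he) he1

/-- All centralizers of involutions are solvable. -/
def SolvCent (G : Type u) [Group G] : Prop :=
  ∀ t : G, orderOf t = 2 → Group.IsSolvable ↥(centralizer ({t} : Set G))

variable [Finite G]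

theorem functor (hs : SolvCent G) {A : Subgroup G} (hA : Cfsg.IsElementaryAbelian 2 A) :
    Cfsg.IsSolvableSignalizerFunctor 2 A (th : G → Subgroup G) := by
  haveI := Fact.mk Nat.prime_two
  refine ⟨⟨fun a _ _ => SignalizerBasic.centralizerPPrimeCore_le 2 a,
    fun a _ _ => SignalizerBasic.not_dvd_card_centralizerPPrimeCore 2 a, ?_, ?_⟩, ?_⟩
  · intro a ha _ b hb x hx
    exact (mem_normalizer_iff.mp (SignalizerBasic.centralizer_le_normalizer_centralizerPPrimeCore 2 a
      (mem_centralizer_singleton_iff.mpr (PGroupsBasic.comm_of_isMulCommutative hA.1 hb ha))) x).mp hx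
  · intro a ha ha1 b hb hb1
    exact SignalizerBasic.balance_of_solvable
      (IsPGroup.of_card (n := 1) (by rw [Nat.card_zpowers, orderOf_eq_two hA ha ha1, pow_one]))
      (PGroupsBasic.comm_of_isMulCommutative hA.1 ha hb) (hs b (orderOf_eq_two hA hb hb1))
  · intro a ha ha1
    haveI := hs a (orderOf_eq_two hA ha ha1)
    exact CoprimeAction.isSolvable_of_le (SignalizerBasic.centralizerPPrimeCore_le 2 a)

theorem completeAt_two : SFTExtend.CompleteAt.{u} 2 := fun G _ _ A θ h => SFTTwo.complete h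

/-- Completeness: the span of a large `A` is odd and already generated by any four subgroup. -/
theorem span_spec (hs : SolvCent G) {A : Subgroup G} (hA : Cfsg.IsElementaryAbelian 2 A)
    (h8 : 8 ≤ Nat.card A) :
    ¬ 2 ∣ Nat.card (span A) ∧ (∀ a ∈ A, a ≠ 1 → th a ≤ centralizer {a}) ∧
      ∀ E : Subgroup G, E ≤ A → 4 ≤ Nat.card E → span E = span A := by
  haveI := Fact.mk Nat.prime_two
  obtain ⟨hW, hWC⟩ := SFTExtend.closure_mem completeAt_two hA (by simpa using h8) (functor hs hA)
  refine ⟨hW.2.1, fun a _ _ => SignalizerBasic.centralizerPPrimeCore_le 2 a, fun E hE h4 => ?_⟩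
  refine le_antisymm (span_le fun e he he1 => th_le_span (hE he) he1) ?_
  refine SignalizerCoprime.le_of_centralizers_le (elementaryAbelian_of_le hA hE) (by simpa using h4)
    ?_ hW.2.1 fun b hb hb1 => ?_
  · exact hE.trans (SignalizerCoprime.le_normalizer_of_forall hW.2.2.1)
  · exact (hWC b (hE hb) hb1).le.trans (th_le_span hb hb1)

variable (P : Sylow 2 G) (Z : Subgroup G)

/-- The hypotheses on `Z`. -/
structure Central : Prop where
  elem : Cfsg.IsElementaryAbelian 2 Z
  le : Z ≤ (P : Subgroup G)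
  comm : ∀ z ∈ Z, ∀ x ∈ (P : Subgroup G), z * x = x * z
  cent : centralizer (Z : Set G) ≤ normalizer ((P : Subgroup G) : Set G)

/-- An elementary abelian subgroup of order at least eight containing `Z`. -/
structure Good (Z A : Subgroup G) : Prop where
  elem : Cfsg.IsElementaryAbelian 2 A
  card : 8 ≤ Nat.card A
  le : Z ≤ A

omit [Finite G] in
theorem Good.cj {Z A : Subgroup G} (h : Good Z A) (g : G) :
    Good (SolvCentInvol1.cj g Z) (SolvCentInvol1.cj g A) :=
  ⟨isElementaryAbelian_cj h.elem, (card_cj g A).symm ▸ h.card, cj_mono h.le⟩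

variable {P Z}

/-- Two-groups centralizing `Z` lie in `P`. -/
theorem le_sylow (hc : Central P Z) {Q : Subgroup G} (hQ : IsPGroup 2 Q)
    (h : Q ≤ centralizer (Z : Set G)) : Q ≤ (P : Subgroup G) := by
  have hn : Q ≤ normalizer ((P : Subgroup G) : Set G) := h.trans hc.cent
  exact le_sup_left.trans (P.3 (hQ.to_sup_of_normal_right' P.2 hn) le_sup_right).le

theorem good_le (hc : Central P Z) {A : Subgroup G} (hA : Good Z A) : A ≤ (P : Subgroup G) :=
  le_sylow hc (PGroupsBasic.isPGroup_of_isElementaryAbelian hA.elem) fun a ha =>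
    mem_centralizer_iff.mpr fun z hz => PGroupsBasic.comm_of_isMulCommutative hA.elem.1 (hA.le hz) ha

theorem exists_sylow_ge {T : Subgroup G} (hT : IsPGroup 2 T) : ∃ g : G, T ≤ cj g (P : Subgroup G) := by
  haveI := Fact.mk Nat.prime_two
  obtain ⟨S, hS⟩ := hT.exists_le_sylow
  obtain ⟨g, hg⟩ := MulAction.exists_smul_eq G P S
  refine ⟨g, fun x hx => ?_⟩
  have := hS hx
  rw [← hg, Sylow.coe_subgroup_smul] at this
  exact this

theorem exists_conj_mem {M : Subgroup G} (hPM : (P : Subgroup G) ≤ M) {t : G} (ht : orderOf t = 2)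
    (htM : t ∈ M) : ∃ m ∈ M, m * t * m⁻¹ ∈ (P : Subgroup G) := by
  haveI := Fact.mk Nat.prime_two
  have h2 : IsPGroup 2 (zpowers (⟨t, htM⟩ : M)) := IsPGroup.of_card (n := 1) (by
    rw [Nat.card_zpowers, pow_one, Subgroup.orderOf_mk, ht])
  obtain ⟨S, hS⟩ := h2.exists_le_sylow
  obtain ⟨m, hm⟩ := MulAction.exists_smul_eq M S (P.subtype hPM)
  refine ⟨m, m.2, ?_⟩
  have h1 : m * (⟨t, htM⟩ : M) * m⁻¹ ∈ (P.subtype hPM : Subgroup M) := by
    rw [← hm, Sylow.coe_subgroup_smul, mem_pointwise_smul_iff_inv_smul_mem]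
    have := hS (mem_zpowers (⟨t, htM⟩ : M))
    simpa [mul_assoc] using this
  exact mem_subgroupOf.mp h1

theorem isStronglyEmbedded_of {M : Subgroup G} (hne : M ≠ ⊤) (hPM : (P : Subgroup G) ≤ M)
    (hex : ∃ t ∈ (P : Subgroup G), orderOf t = 2)
    (h : ∀ t ∈ (P : Subgroup G), orderOf t = 2 → ∀ g : G, g * t * g⁻¹ ∈ (P : Subgroup G) → g ∈ M) :
    Cfsg.IsStronglyEmbedded M := by
  obtain ⟨t0, ht0, ht0'⟩ := hex
  refine SignalizerStrongEmb.isStronglyEmbedded_iff.mpr
    ⟨hne, SignalizerStrongEmb.even_card_of_involution_mem ht0' (hPM ht0), fun t htM ht g hg => ?_⟩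
  obtain ⟨m1, hm1, h1⟩ := exists_conj_mem hPM ht htM
  obtain ⟨m2, hm2, h2⟩ := exists_conj_mem hPM
    (by rw [SignalizerStrongEmb.orderOf_conj, ht]) hg
  have := h _ h1 (by rw [SignalizerStrongEmb.orderOf_conj, ht]) (m2 * g * m1⁻¹)
    (by simpa [mul_assoc] using h2)
  simpa [mul_assoc] using mul_mem (mul_mem (inv_mem hm2) this) hm1

/-- Linked: all good subgroups have the same span. -/
def Linked (Z : Subgroup G) : Prop :=
  ∀ A B : Subgroup G, Good Z A → Good Z B → span A = span B

theorem span_eq_cj (hlink : Linked Z) {A0 A : Subgroup G} (hA0 : Good Z A0) {g : G}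
    (hA : Good (cj g Z) A) : span A = cj g (span A0) := by
  have h := hA.cj g⁻¹
  rw [cj_cj, inv_mul_cancel, cj_one] at h
  rw [← hlink _ _ h hA0, span_cj, cj_cj, mul_inv_cancel, cj_one]

/-- A good subgroup in a conjugate of `P` is good for that conjugate as well. -/
theorem exists_good_both (hc : Central P Z) {Y A : Subgroup G} (hA : Good Y A) {g : G}
    (hAP : A ≤ cj g (P : Subgroup G)) :
    ∃ B, Good Y B ∧ Good (cj g Z) B ∧ A ≤ B ∧ B ≤ cj g (P : Subgroup G) := by
  refine ⟨A ⊔ cj g Z, ?_, ?_, le_sup_left, sup_le hAP (cj_mono hc.le)⟩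
  all_goals
    have hcomm : A ≤ centralizer (cj g Z : Set G) := fun a ha => mem_centralizer_iff.mpr fun z hz => by
      obtain ⟨z, hz', rfl⟩ := hz
      obtain ⟨x, hx, rfl⟩ := hAP ha
      exact (congrArg (MulAut.conj g) (hc.comm z hz' x hx) |>.symm.trans (map_mul _ _ _)).symm.trans
        (map_mul _ _ _) |>.symm |>.symm
    have he := PGroupsBasic.isElementaryAbelian_sup hA.elem (isElementaryAbelian_cj hc.elem) hcomm
    have hcard : 8 ≤ Nat.card (A ⊔ cj g Z : Subgroup G) :=
      hA.card.trans (card_le_of_le le_sup_left)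
  · exact ⟨he, hcard, hA.le.trans le_sup_left⟩
  · exact ⟨he, hcard, le_sup_right⟩

theorem span_eq_of_le_sylow (hc : Central P Z) (hlink : Linked Z) {A0 A : Subgroup G}
    (hA0 : Good Z A0) {g h : G} (hA : Good (cj g Z) A) (hAP : A ≤ cj h (P : Subgroup G)) :
    cj g (span A0) = cj h (span A0) := by
  obtain ⟨B, hB1, hB2, -, -⟩ := exists_good_both hc hA hAP
  rw [← span_eq_cj hlink hA0 hB1, span_eq_cj hlink hA0 hB2]

/-- Main theorem: connected case. -/
theorem alternative (hs : SolvCent G) (hO : Cfsg.pPrimeCore 2 G = ⊥) (hc : Central P Z)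
    (hZ : Z ≠ ⊥) (hlink : Linked Z)
    (hconn : ∀ t ∈ (P : Subgroup G), orderOf t = 2 → ∃ A, Good Z A ∧ t ∈ A) :
    (∃ M : Subgroup G, Cfsg.IsStronglyEmbedded M) ∨ ∀ t : G, orderOf t = 2 → th t = ⊥ := by
  haveI := Fact.mk Nat.prime_two
  obtain ⟨z0, hz0, hz01⟩ : ∃ z ∈ Z, z ≠ 1 := by
    by_contra h
    push Not at h
    exact hZ ((eq_bot_iff_forall Z).mpr h)
  have hex : ∃ t ∈ (P : Subgroup G), orderOf t = 2 := ⟨z0, hc.le hz0, orderOf_eq_two hc.elem hz0 hz01⟩
  obtain ⟨A0, hA0, -⟩ := hconn z0 (hc.le hz0) (orderOf_eq_two hc.elem hz0 hz01)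
  obtain ⟨hXodd, -, hspanA0⟩ := span_spec hs hA0.elem hA0.card
  set X := span A0 with hX
  by_cases hXb : X = ⊥
  · refine Or.inr fun t ht => ?_
    obtain ⟨g, -, hg⟩ := exists_conj_mem (P := P) (M := ⊤) le_top ht (mem_top t)
    obtain ⟨A, hA, htA⟩ := hconn _ hg (by rw [SignalizerStrongEmb.orderOf_conj, ht])
    have h := th_le_span htA (by rw [Ne, conj_eq_one_iff]; exact SignalizerStrongEmb.involution_ne_one ht)
    rw [hlink A A0 hA hA0, ← hX, hXb, le_bot_iff, th_conj, cj,
      Subgroup.map_eq_bot_iff_of_injective _ (MulEquiv.injective _)] at h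
    exact h
  left
  set M := normalizer (X : Set G) with hM
  have hMne : M ≠ ⊤ := by
    intro e
    haveI : X.Normal := normalizer_eq_top_iff.mp e
    refine hXb (le_bot_iff.mp (hO ▸ ?_))
    exact le_sSup ⟨inferInstance, (Nat.prime_two.coprime_iff_not_dvd.mpr hXodd).symm⟩
  have hCZ : centralizer (Z : Set G) ≤ M := by
    intro c hcZ
    refine mem_normalizer_of_cj_eq ?_
    have hcg : cj c Z = Z := by
      ext x
      rw [mem_cj]
      refine ⟨fun h => ?_, fun h => ?_⟩
      · have h1 := mem_centralizer_iff.mp hcZ _ h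
        have : x = c⁻¹ * x * c := by
          calc x = c * (c⁻¹ * x * c) * c⁻¹ := by group
            _ = (c⁻¹ * x * c) * c * c⁻¹ := by rw [h1]
            _ = _ := by group
        rwa [this]
      · rwa [mul_assoc, mem_centralizer_iff.mp hcZ x h, inv_mul_cancel_left]
    have := span_eq_cj hlink hA0 (g := c) (A := A0) (by rw [hcg]; exact hA0)
    exact this.symm
  have hPM : (P : Subgroup G) ≤ M := fun x hx =>
    hCZ (mem_centralizer_iff.mpr fun z hz => hc.comm z hz x hx)
  -- centralizers of involutions in `P` lie in `M`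
  have hCM : ∀ t ∈ (P : Subgroup G), orderOf t = 2 → centralizer ({t} : Set G) ≤ M := by
    intro t htP ht
    obtain ⟨A, hA, htA⟩ := hconn t htP ht
    have ht1 : t ≠ 1 := SignalizerStrongEmb.involution_ne_one ht
    set C := centralizer ({t} : Set G) with hC
    have hAC : A ≤ C := fun a ha =>
      mem_centralizer_singleton_iff.mpr (PGroupsBasic.comm_of_isMulCommutative hA.elem.1 ha htA)
    obtain ⟨T, hT⟩ := ((PGroupsBasic.isPGroup_of_isElementaryAbelian hA.elem).of_equiv
      (subgroupOfEquivOfLe hAC).symm).exists_le_sylow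
    obtain ⟨g, hg⟩ := exists_sylow_ge (P := P) (T.2.map C.subtype)
    have hAT : A ≤ (T : Subgroup C).map C.subtype := fun a ha =>
      ⟨⟨a, hAC ha⟩, hT (mem_subgroupOf.mpr ha), rfl⟩
    obtain ⟨B, hB1, hB2, hAB, hBP⟩ := exists_good_both hc hA (hAT.trans hg)
    have hgX : cj g X = X := by
      rw [← span_eq_cj hlink hA0 hB2, hlink B A0 hB1 hA0]
    have hgM : g ∈ M := mem_normalizer_of_cj_eq hgX
    have hθM : th t ≤ M :=
      ((th_le_span htA ht1).trans (hlink A A0 hA hA0).le).trans le_normalizer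
    set E := zpowers t ⊔ cj g Z with hE
    have hEB : E ≤ B := sup_le (zpowers_le.mpr (hAB htA)) hB2.le
    have hEC : E ≤ C := fun e he => mem_centralizer_singleton_iff.mpr
      (PGroupsBasic.comm_of_isMulCommutative hB1.elem.1 (hEB he) (hAB htA))
    intro c hcC
    by_cases hE4 : 4 ≤ Nat.card E
    swap
    · -- `Z` conjugates to `⟨t⟩`
      have hle : zpowers t ≤ E := le_sup_left
      have hEt : zpowers t = E := by
        refine eq_of_le_of_card_ge hle ?_
        obtain ⟨k, hk⟩ := IsPGroup.iff_card.mp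
          ((PGroupsBasic.isPGroup_of_isElementaryAbelian hB1.elem).to_le hEB)
        rw [hk] at hE4 ⊢
        rw [Nat.card_zpowers, ht]
        have : k ≤ 1 := by
          by_contra h
          exact hE4 (le_trans (by norm_num) (Nat.pow_le_pow_right (by norm_num : 0 < 2) (by omega : 2 ≤ k)))
        exact le_trans (Nat.pow_le_pow_right (by norm_num) this) (by norm_num)
      have hcZ : g⁻¹ * c * g ∈ centralizer (Z : Set G) := by
        refine mem_centralizer_iff.mpr fun z hz => ?_
        have hz' : g * z * g⁻¹ ∈ zpowers t := hEt.ge (mem_sup_right (conj_mem_cj hz))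
        obtain ⟨i, hi⟩ := mem_zpowers_iff.mp hz'
        have h1 : Commute (g * z * g⁻¹) c := hi ▸
          ((show Commute t c from (mem_centralizer_singleton_iff.mp hcC).symm).zpow_left i)
        calc z * (g⁻¹ * c * g) = g⁻¹ * (g * z * g⁻¹ * c) * g := by group
          _ = g⁻¹ * (c * (g * z * g⁻¹)) * g := by rw [h1.eq]
          _ = _ := by group
      have := mul_mem (mul_mem hgM (hCZ hcZ)) (inv_mem hgM)
      simpa [mul_assoc] using this
    -- work modulo `O(C)`
    haveI hCsol : Group.IsSolvable C := hs t ht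
    set N := Cfsg.pPrimeCore 2 C with hN
    haveI : N.Normal := HallCore.pPrimeCore_normal 2 C
    let q := QuotientGroup.mk' N
    have hqs : Function.Surjective q := QuotientGroup.mk'_surjective N
    let Tb : Sylow 2 (C ⧸ N) := T.mapSurjective hqs
    set V := Cfsg.pCore 2 (C ⧸ N) with hV
    have hVn : V.Normal := HallCore.pCore_normal 2 _
    have hVT : V ≤ (Tb : Subgroup (C ⧸ N)) :=
      IsPGroup.le_sylow_of_normal (HallCore.isPGroup_pCore 2 _) Tb
    have hCV : centralizer (V : Set (C ⧸ N)) ≤ V := HallSolvable.centralizer_pCore_le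
      (HallSolvable.isPSolvable_quotient (HallSolvable.isPSolvable_of_solvable 2) N)
      (HallCore.pPrimeCore_quotient_self 2 C)
    -- the image of `E` is central in `Tb`, so lies in `V`
    have hEcen : ∀ e (he : e ∈ E), ∀ y ∈ (Tb : Subgroup (C ⧸ N)),
        q ⟨e, hEC he⟩ * y = y * q ⟨e, hEC he⟩ := by
      intro e he y hy
      obtain ⟨x, hx, rfl⟩ := (show y ∈ (T : Subgroup C).map q from hy)
      rw [← map_mul, ← map_mul]
      refine congrArg q (Subtype.ext ?_)
      show e * x = x * e
      have hxP := hg ⟨x, hx, rfl⟩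
      have hle : E ≤ centralizer {(x : G)} := by
        refine sup_le (zpowers_le.mpr (mem_centralizer_singleton_iff.mpr
          (mem_centralizer_singleton_iff.mp x.2).symm)) fun z hz => mem_centralizer_singleton_iff.mpr ?_
        obtain ⟨z, hz', rfl⟩ := hz
        obtain ⟨w, hw, hwx⟩ := hxP
        show g * z * g⁻¹ * (x : G) = (x : G) * (g * z * g⁻¹)
        rw [show (x : G) = g * w * g⁻¹ from hwx.symm]
        calc g * z * g⁻¹ * (g * w * g⁻¹) = g * (z * w) * g⁻¹ := by group
          _ = g * (w * z) * g⁻¹ := by rw [hc.comm z hz' w hw]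
          _ = _ := by group
      exact mem_centralizer_singleton_iff.mp (hle he)
    have hEV : ∀ e (he : e ∈ E), q ⟨e, hEC he⟩ ∈ V := fun e he =>
      hCV (mem_centralizer_iff.mpr fun y hy => (hEcen e he y (hVT hy)).symm)
    -- `E` and its conjugate by `c` commute modulo `N`
    set E' := cj c E with hE'
    have hE'C : E' ≤ C := by
      rintro _ ⟨e, he, rfl⟩
      exact mul_mem (mul_mem hcC (hEC he)) (inv_mem hcC)
    set W : Subgroup C := E.subgroupOf C ⊔ E'.subgroupOf C with hW
    have hWb : IsMulCommutative (W.map q) := by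
      have hgen : W.map q = closure (q '' ((E.subgroupOf C : Set C) ∪ (E'.subgroupOf C : Set C))) := by
        rw [hW, Subgroup.sup_eq_closure, MonoidHom.map_closure]
      rw [hgen]
      refine isMulCommutative_closure ?_
      have hE'V : ∀ e : C, (e : G) ∈ E' → q e ∈ V := by
        intro e he
        have h1 := hEV _ (mem_cj.mp he)
        have h2 := hVn.conj_mem _ h1 (q ⟨c, hcC⟩)
        rw [← map_inv, ← map_mul, ← map_mul] at h2
        convert h2 using 2
        exact Subtype.ext (by simp [mul_assoc])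
      have hEE : ∀ e e' : G, ∀ he : e ∈ E, ∀ he' : e' ∈ E', q ⟨e, hEC he⟩ * q ⟨e', hE'C he'⟩ =
          q ⟨e', hE'C he'⟩ * q ⟨e, hEC he⟩ := fun e e' he he' => hEcen e he _ (hVT (hE'V _ he'))
      rintro _ ⟨x, hx, rfl⟩ _ ⟨y, hy, rfl⟩
      rcases hx with hx | hx <;> rcases hy with hy | hy
      · rw [← map_mul, ← map_mul]
        exact congrArg q (Subtype.ext (PGroupsBasic.comm_of_isMulCommutative hB1.elem.1
          (hEB (mem_subgroupOf.mp hx)) (hEB (mem_subgroupOf.mp hy))))
      · exact hEE x y hx hy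
      · exact (hEE y x hy hx).symm
      · rw [← map_mul, ← map_mul]
        exact congrArg q (Subtype.ext (PGroupsBasic.comm_of_isMulCommutative
          (isElementaryAbelian_cj (elementaryAbelian_of_le hB1.elem hEB)).1
          (mem_subgroupOf.mp hx) (mem_subgroupOf.mp hy)))
    -- common Sylow subgroup of `W`
    have hEp : IsPGroup 2 E := (PGroupsBasic.isPGroup_of_isElementaryAbelian hB1.elem).to_le hEB
    have hE'p : IsPGroup 2 E' := hEp.map _
    obtain ⟨S, hS⟩ := ((hEp.of_equiv (subgroupOfEquivOfLe hEC).symm).of_equiv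
      (subgroupOfEquivOfLe (le_sup_left : E.subgroupOf C ≤ W)).symm).exists_le_sylow
    obtain ⟨S', hS'⟩ := ((hE'p.of_equiv (subgroupOfEquivOfLe hE'C).symm).of_equiv
      (subgroupOfEquivOfLe (le_sup_right : E'.subgroupOf C ≤ W)).symm).exists_le_sylow
    have hScomm : ∀ a b : W, a ∈ (S : Subgroup W) → b ∈ (S : Subgroup W) → a * b = b * a := by
      intro a b ha hb
      rw [← commutatorElement_eq_one_iff_mul_comm]
      have h1 : (⁅a, b⁆ : W) ∈ (S : Subgroup W) ⊓ N.subgroupOf W := mem_inf.mpr ⟨by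
        rw [commutatorElement_def]
        exact mul_mem (mul_mem (mul_mem ha hb) (inv_mem ha)) (inv_mem hb), by
        rw [mem_subgroupOf, ← QuotientGroup.ker_mk' N, MonoidHom.mem_ker,
          show ((⁅a, b⁆ : W) : C) = ⁅(a : C), (b : C)⁆ from map_commutatorElement W.subtype a b,
          map_commutatorElement, commutatorElement_eq_one_iff_mul_comm]
        exact PGroupsBasic.comm_of_isMulCommutative hWb (mem_map_of_mem q a.2) (mem_map_of_mem q b.2)⟩
      have hd : (S : Subgroup W) ⊓ N.subgroupOf W = ⊥ := by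
        refine inf_eq_bot_of_coprime ?_
        obtain ⟨k, hk⟩ := IsPGroup.iff_card.mp S.2
        rw [hk]
        refine Nat.Coprime.pow_left k (Nat.Coprime.coprime_dvd_right ?_
          (HallCore.coprime_card_pPrimeCore 2 C).symm)
        have h := card_subgroup_dvd_card ((N.subgroupOf W).map W.subtype)
        rw [← card_map_of_injective (f := W.subtype) (K := N.subgroupOf W) W.subtype_injective]
        exact card_dvd_of_le (map_le_iff_le_comap.mpr fun _ h => h)
      rw [hd, mem_bot] at h1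
      exact h1
    -- some element of `W` moves `E'` into `S`; split it off modulo `N`
    obtain ⟨w, hw⟩ := MulAction.exists_smul_eq W S' S
    set d : G := ((w : C) : G) * c with hd
    have hdC : d ∈ C := mul_mem (w : C).2 hcC
    have hmove : ∀ e ∈ E, ∃ h : d * e * d⁻¹ ∈ C, ∃ h' : (⟨_, h⟩ : C) ∈ W,
        (⟨⟨_, h⟩, h'⟩ : W) ∈ (S : Subgroup W) := by
      intro e he
      have he' : c * e * c⁻¹ ∈ E' := conj_mem_cj he
      have he'W : (⟨c * e * c⁻¹, hE'C he'⟩ : C) ∈ W := mem_sup_right (mem_subgroupOf.mpr he')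
      have h1 : w * (⟨_, he'W⟩ : W) * w⁻¹ ∈ (S : Subgroup W) := by
        rw [← hw, Sylow.coe_subgroup_smul, mem_pointwise_smul_iff_inv_smul_mem]
        have := hS' (mem_subgroupOf.mpr (mem_subgroupOf.mpr he') :
          (⟨_, he'W⟩ : W) ∈ (E'.subgroupOf C).subgroupOf W)
        simpa [mul_assoc] using this
      have e1 : (((w * (⟨_, he'W⟩ : W) * w⁻¹ : W) : C) : G) = d * e * d⁻¹ := by
        simp [hd, mul_assoc]
      exact ⟨e1 ▸ SetLike.coe_mem _, by
        have h2 : (w * (⟨_, he'W⟩ : W) * w⁻¹ : W) = ((w * (⟨_, he'W⟩ : W) * w⁻¹ : W) : C) := rfl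
        convert (w * (⟨_, he'W⟩ : W) * w⁻¹ : W).2 using 1
        exact Subtype.ext e1.symm, by
        convert h1 using 1
        exact Subtype.ext (Subtype.ext e1.symm)⟩
    have hcomm' : E ≤ centralizer (cj d E : Set G) := by
      intro a ha
      refine mem_centralizer_iff.mpr ?_
      rintro _ ⟨e, he, rfl⟩
      obtain ⟨h, h', hS''⟩ := hmove e he
      have haS := hS (mem_subgroupOf.mpr (mem_subgroupOf.mpr ha) :
        (⟨⟨a, hEC ha⟩, mem_sup_left (mem_subgroupOf.mpr ha)⟩ : W) ∈ (E.subgroupOf C).subgroupOf W)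
      exact congrArg (fun y : W => ((y : C) : G)) (hScomm _ _ hS'' haS)
    have hEel := elementaryAbelian_of_le hB1.elem hEB
    have hVel := PGroupsBasic.isElementaryAbelian_sup hEel (isElementaryAbelian_cj (g := d) hEel) hcomm'
    have hspanE : span E = X := by
      rw [(span_spec hs hB2.elem hB2.card).2.2 E hEB hE4, span_eq_cj hlink hA0 hB2, hgX]
    have hEd : span (cj d E) = span E := by
      by_cases h8 : 8 ≤ Nat.card (E ⊔ cj d E : Subgroup G)
      · have h := (span_spec hs hVel h8).2.2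
        rw [h _ le_sup_right (by rwa [card_cj]), h _ le_sup_left hE4]
      · have hpow : ∀ F : Subgroup G, Cfsg.IsElementaryAbelian 2 F → ∃ k, Nat.card F = 2 ^ k :=
          fun F hF => IsPGroup.iff_card.mp (PGroupsBasic.isPGroup_of_isElementaryAbelian hF)
        obtain ⟨k, hk⟩ := hpow _ hVel
        have hkk : k ≤ 2 := by
          by_contra hlt
          exact h8 (hk ▸ le_trans (by norm_num) (Nat.pow_le_pow_right (by norm_num : 0 < 2) (by omega : 3 ≤ k)))
        have hle4 : Nat.card (E ⊔ cj d E : Subgroup G) ≤ 4 :=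
          hk ▸ le_trans (Nat.pow_le_pow_right (by norm_num) hkk) (by norm_num)
        have e1 := eq_of_le_of_card_ge (le_sup_left : E ≤ E ⊔ cj d E) (hle4.trans hE4)
        have e2 := eq_of_le_of_card_ge (le_sup_right : cj d E ≤ E ⊔ cj d E)
          (by rw [card_cj]; exact hle4.trans hE4)
        exact congrArg span (e2.trans e1.symm)
    have hdM : d ∈ M := mem_normalizer_of_cj_eq (by rw [← hspanE, ← span_cj, hEd])
    -- `W ≤ N ⊔ S` modulo `M`
    have hwM : ((w : C) : G) ∈ M := by
      have hgenW : (S : Subgroup W) ⊔ N.subgroupOf W = ⊤ := by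
        haveI : (N.subgroupOf W).Normal := inferInstance
        rw [← index_eq_one]
        refine Nat.eq_one_of_dvd_coprimes (a := (S : Subgroup W).index) (b := 2 ^ Nat.card W)
          (Nat.Coprime.pow_right _ (Nat.prime_two.coprime_iff_not_dvd.mpr S.not_dvd_index).symm)
          (index_dvd_of_le le_sup_left) ?_
        refine (index_dvd_of_le le_sup_right).trans ?_
        rw [index_eq_card]
        have e := QuotientGroup.quotientKerEquivRange (q.comp W.subtype)
        have hker : (q.comp W.subtype).ker = N.subgroupOf W := by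
          rw [← MonoidHom.comap_ker, QuotientGroup.ker_mk']; rfl
        have hp : IsPGroup 2 (q.comp W.subtype).range := by
          rw [MonoidHom.range_comp, range_subtype, hW, Subgroup.map_sup]
          refine ((hEp.of_equiv (subgroupOfEquivOfLe hEC).symm).map q).to_sup_of_normal_right'
            ((hE'p.of_equiv (subgroupOfEquivOfLe hE'C).symm).map q) ?_
          intro a ha
          refine SignalizerCoprime.le_normalizer_of_forall ?_ ha
          intro x hx y hy
          have hx' : x ∈ W.map q := by rw [hW, Subgroup.map_sup]; exact mem_sup_left hx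
          have hy' : y ∈ W.map q := by rw [hW, Subgroup.map_sup]; exact mem_sup_right hy
          rw [PGroupsBasic.comm_of_isMulCommutative hWb hx' hy', mul_inv_cancel_right]
          exact hy
        obtain ⟨k, hk⟩ := IsPGroup.iff_card.mp hp
        have hc2 : Nat.card (W ⧸ N.subgroupOf W) = 2 ^ k := by
          rw [← hk, ← Nat.card_congr e.toEquiv]
          exact Nat.card_congr (QuotientGroup.quotientMulEquivOfEq hker.symm).toEquiv
        rw [hc2]
        refine pow_dvd_pow 2 ?_
        have := (hc2 ▸ Nat.le_of_dvd Nat.card_pos (card_quotient_dvd_card (N.subgroupOf W)) :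
          2 ^ k ≤ Nat.card W)
        exact (Nat.lt_two_pow_self (n := k)).le.trans this
      have hle : (S : Subgroup W) ⊔ N.subgroupOf W ≤ (M.subgroupOf C).subgroupOf W := by
        refine sup_le (fun a ha => mem_subgroupOf.mpr (mem_subgroupOf.mpr ?_))
          (fun a ha => mem_subgroupOf.mpr (mem_subgroupOf.mpr (hθM ⟨(a : C), ha, rfl⟩)))
        -- elements of `S` centralize `E`
        refine mem_normalizer_of_cj_eq ?_
        rw [← hspanE, ← span_cj]
        congr 1
        refine cj_eq_of_mem_normalizer (centralizer_le_normalizer (E : Set G) (mem_centralizer_iff.mpr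
          fun e he => ?_))
        have heS := hS (mem_subgroupOf.mpr (mem_subgroupOf.mpr he) :
          (⟨⟨e, hEC he⟩, mem_sup_left (mem_subgroupOf.mpr he)⟩ : W) ∈ (E.subgroupOf C).subgroupOf W)
        exact congrArg (fun y : W => ((y : C) : G)) (hScomm _ _ heS ha)
      exact mem_subgroupOf.mp (mem_subgroupOf.mp (hle (hgenW.ge (mem_top w))))
    simpa [hd] using mul_mem (inv_mem hwM) hdM
  refine ⟨M, isStronglyEmbedded_of hMne hPM hex fun t htP ht g hgs => ?_⟩
  obtain ⟨A, hA, htA⟩ := hconn t htP ht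
  have hs2 : orderOf (g * t * g⁻¹) = 2 := by rw [SignalizerStrongEmb.orderOf_conj, ht]
  obtain ⟨B, hB, hsB⟩ := hconn _ hgs hs2
  set C := centralizer ({g * t * g⁻¹} : Set G) with hC
  have hBC : B ≤ C := fun b hb =>
    mem_centralizer_singleton_iff.mpr (PGroupsBasic.comm_of_isMulCommutative hB.elem.1 hb hsB)
  have hAC : cj g A ≤ C := fun a ha => mem_centralizer_singleton_iff.mpr
    (PGroupsBasic.comm_of_isMulCommutative (isElementaryAbelian_cj hA.elem).1 ha (conj_mem_cj htA))
  obtain ⟨T, hT⟩ := ((PGroupsBasic.isPGroup_of_isElementaryAbelian hB.elem).of_equiv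
    (subgroupOfEquivOfLe hBC).symm).exists_le_sylow
  obtain ⟨T', hT'⟩ := ((PGroupsBasic.isPGroup_of_isElementaryAbelian (isElementaryAbelian_cj hA.elem)).of_equiv
    (subgroupOfEquivOfLe hAC).symm).exists_le_sylow
  obtain ⟨c, hc'⟩ := MulAction.exists_smul_eq C T' T
  obtain ⟨h, hh⟩ := exists_sylow_ge (P := P) (T.2.map C.subtype)
  have hB' : B ≤ cj h (P : Subgroup G) := fun b hb => hh ⟨⟨b, hBC hb⟩, hT (mem_subgroupOf.mpr hb), rfl⟩
  have hA' : cj ((c : G) * g) A ≤ cj h (P : Subgroup G) := by
    rw [← cj_cj]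
    rintro _ ⟨a, ha, rfl⟩
    refine hh ⟨c * ⟨a, hAC ha⟩ * c⁻¹, ?_, by simp⟩
    rw [SetLike.mem_coe, ← hc', Sylow.coe_subgroup_smul, mem_pointwise_smul_iff_inv_smul_mem]
    have := hT' (mem_subgroupOf.mpr ha : (⟨a, hAC ha⟩ : C) ∈ (cj g A).subgroupOf C)
    simpa [mul_assoc] using this
  have e1 := span_eq_of_le_sylow hc hlink hA0 (g := 1) (A := B) (by rwa [cj_one]) hB'
  have e2 := span_eq_of_le_sylow hc hlink hA0 (hA.cj ((c : G) * g)) hA'
  have hcg : (c : G) * g ∈ M := mem_normalizer_of_cj_eq (by rw [e2, ← e1, cj_one])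
  have hcM : (c : G) ∈ M := hCM _ hgs hs2 c.2
  simpa using mul_mem (inv_mem hcM) hcg

end Cfsg.Agent.SolvCentInvol1
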