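import Mathlib
import Cfsg.Agent.Lib.ConstDiff2Fusion
import Cfsg.Agent.Lib.SolvableCentInvol1
import Cfsg.Agent.Lib.HallSolvable
import Cfsg.Agent.Lib.HallCore

/-!
# Centralisers of involutions: solvable, or the Sylow 2-subgroup has order 8

Elementary abelian Sylow 2-subgroup of order `2 ^ n`, one class of involutions.  A minimal
nonsolvable subgroup of the centraliser containing `S` would have, modulo its radical, a strongly
embedded subgroup, hence a normaliser transitive on at least `2 ^ (2 n / 3) - 1 > n` involutions.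
-/

set_option autoImplicit false
set_option linter.style.haveILetI false
set_option linter.unusedSectionVars false

open scoped IsMulCommutative
open Cfsg.Agent.SolvCentInvol1

namespace Cfsg.Agent.ConstDiff2Local

universe u

variable {X : Type u} [Group X] [Finite X]

theorem solvable_of_odd (hodd : ¬ 2 ∣ Nat.card X) : Group.IsSolvable X :=
  S0205.result (Nat.not_even_iff_odd.1 fun h => hodd (even_iff_two_dvd.1 h))

/-- A normal subgroup with solvable quotient and solvable. -/
theorem solvable_ext (N : Subgroup X) [N.Normal] (hN : Group.IsSolvable N)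
    (hQ : Group.IsSolvable (X ⧸ N)) : Group.IsSolvable X :=
  haveI := hN
  haveI := hQ
  solvable_of_ker_le_range N.subtype (QuotientGroup.mk' N) (by simp)

theorem odd_index_quot (S : Sylow 2 X) (N : Subgroup X) [N.Normal] (h : (S : Subgroup X) ≤ N) :
    Group.IsSolvable (X ⧸ N) := by
  haveI := Fact.mk Nat.prime_two
  refine solvable_of_odd fun hd => ?_
  rw [← Subgroup.index_eq_card] at hd
  exact S.not_dvd_index (hd.trans (Subgroup.index_dvd_of_le h))

/-- Burnside's transfer in solvability form. -/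
theorem solvable_of_normalizer (S : Sylow 2 X)
    (h : Subgroup.normalizer ((S : Subgroup X) : Set X) ≤
      Subgroup.centralizer ((S : Subgroup X) : Set X)) :
    Group.IsSolvable X := by
  haveI := Fact.mk Nat.prime_two
  haveI : IsMulCommutative (S : Subgroup X) :=
    ⟨⟨fun a b => Subtype.ext (h (Subgroup.le_normalizer b.2) a a.2)⟩⟩
  have hc := MonoidHom.ker_transferSylow_isComplement' S h
  set K := (MonoidHom.transferSylow S h).ker with hK
  have hodd : ¬ 2 ∣ Nat.card K := by
    rw [← hc.index_eq_card]; exact S.not_dvd_index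
  haveI := solvable_of_odd hodd
  exact solvable_of_ker_le_range K.subtype (MonoidHom.transferSylow S h) (by simp [hK])

theorem solvable_of_card_sylow_le (S : Sylow 2 X) (h : Nat.card S ≤ 2) : Group.IsSolvable X := by
  haveI := Fact.mk Nat.prime_two
  refine solvable_of_normalizer S fun g hg => Subgroup.mem_centralizer_iff.2 fun s hs => ?_
  by_cases hs1 : s = 1
  · rw [hs1, one_mul, mul_one]
  have h2 : g * s * g⁻¹ = s := by
    by_contra hne
    haveI := Fintype.ofFinite (S : Subgroup X)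
    classical
    have h3 : ({1, ⟨s, hs⟩, ⟨g * s * g⁻¹, (Subgroup.mem_normalizer_iff.1 hg s).1 hs⟩} :
        Finset (S : Subgroup X)).card = 3 := by
      rw [Finset.card_eq_three]
      refine ⟨1, ⟨s, hs⟩, ⟨g * s * g⁻¹, _⟩, ?_, ?_, ?_, rfl⟩
      · exact fun e => hs1 (congrArg Subtype.val e).symm
      · exact fun e => hs1 (conj_eq_one_iff.1 (congrArg Subtype.val e).symm)
      · exact fun e => hne (congrArg Subtype.val e).symm
    have h4 := Finset.card_le_univ ({1, ⟨s, hs⟩,
      ⟨g * s * g⁻¹, (Subgroup.mem_normalizer_iff.1 hg s).1 hs⟩} : Finset (S : Subgroup X))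
    rw [h3, ← Nat.card_eq_fintype_card] at h4
    omega
  exact (mul_inv_eq_iff_eq_mul.1 h2).symm

section Minimal

variable (S : Sylow 2 X)

/-- The group theoretic hypotheses on a minimal nonsolvable group. -/
structure Min (n : ℕ) : Prop where
  elem : Cfsg.IsElementaryAbelian 2 (S : Subgroup X)
  card : Nat.card S = 2 ^ n
  four : 4 ≤ n
  nsolv : ¬ Group.IsSolvable X
  min : ∀ K : Subgroup X, (S : Subgroup X) ≤ K → K ≠ ⊤ → Group.IsSolvable K
  fixed : ∀ g ∈ Subgroup.normalizer ((S : Subgroup X) : Set X),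
    (∃ s ∈ (S : Subgroup X), g * s ≠ s * g) → ∀ R : Subgroup X, R ≤ (S : Subgroup X) →
      (∀ r ∈ R, g * r = r * g) → Nat.card R ^ 3 ≤ Nat.card S
  orbit : ∀ s ∈ (S : Subgroup X),
    {w : X | ∃ g ∈ Subgroup.normalizer ((S : Subgroup X) : Set X), g * s * g⁻¹ = w}.ncard ≤ n

variable {S} {n : ℕ}

theorem exists_radical : ∃ R : Subgroup X, R.Normal ∧ Group.IsSolvable R ∧
    ∀ L : Subgroup X, L.Normal → Group.IsSolvable L → R ≤ L → L = R := by
  obtain ⟨R, ⟨hn, hs⟩, hmax⟩ := Set.Finite.exists_maximal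
    (s := {R : Subgroup X | R.Normal ∧ Group.IsSolvable R}) (Set.toFinite _)
    ⟨⊥, inferInstance, inferInstance⟩
  exact ⟨R, hn, hs, fun L h1 h2 h3 => le_antisymm (hmax ⟨h1, h2⟩ h3) h3⟩

variable (h : Min S n) {R : Subgroup X} [R.Normal] (hRs : Group.IsSolvable R)
  (hRmax : ∀ L : Subgroup X, L.Normal → Group.IsSolvable L → R ≤ L → L = R)
include h hRs hRmax

theorem quot_no_solvable (L : Subgroup (X ⧸ R)) [L.Normal] (hL : Group.IsSolvable L) : L = ⊥ := by
  set P := L.comap (QuotientGroup.mk' R) with hP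
  have hRP : R ≤ P := fun r hr => by
    rw [hP, Subgroup.mem_comap, QuotientGroup.mk'_apply, (QuotientGroup.eq_one_iff r).2 hr]
    exact one_mem L
  have hPs : Group.IsSolvable P := by
    haveI := hRs
    haveI := hL
    refine solvable_of_ker_le_range (Subgroup.inclusion hRP)
      ((QuotientGroup.mk' R).subgroupComap L) (fun p hp => ?_)
    exact ⟨⟨p, (QuotientGroup.eq_one_iff (p : X)).1 (congrArg Subtype.val (MonoidHom.mem_ker.1 hp))⟩, rfl⟩
  have hPR := hRmax P inferInstance hPs hRP
  rw [eq_bot_iff]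
  intro q hq
  obtain ⟨g, rfl⟩ := QuotientGroup.mk'_surjective R q
  exact Subgroup.mem_bot.2 ((QuotientGroup.eq_one_iff g).2 (hPR ▸ (hq : g ∈ P)))

/-- The normaliser of `S` centralises the part of `S` in the radical. -/
theorem centralizes_radical {g r : X} (hg : g ∈ Subgroup.normalizer ((S : Subgroup X) : Set X))
    (hr : r ∈ (S : Subgroup X)) (hrR : r ∈ R) : g * r = r * g := by
  haveI := Fact.mk Nat.prime_two
  set O := Cfsg.pPrimeCore 2 X with hO
  haveI : O.Normal := HallCore.pPrimeCore_normal 2 X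
  have hOodd : ¬ 2 ∣ Nat.card O := HallCore.not_dvd_card_pPrimeCore 2 X
  set π := QuotientGroup.mk' O with hπ
  have hπs := QuotientGroup.mk'_surjective O
  set Sb : Sylow 2 (X ⧸ O) := S.mapSurjective hπs with hSb
  have hSbc : (Sb : Subgroup (X ⧸ O)) = (S : Subgroup X).map π := Sylow.coe_mapSurjective hπs S
  set Rb := R.map π with hRb
  haveI : Rb.Normal := Subgroup.Normal.map inferInstance π hπs
  haveI : Group.IsSolvable R := hRs
  haveI : Group.IsSolvable Rb :=
    solvable_of_surjective (f := π.subgroupMap R) (MonoidHom.subgroupMap_surjective π R)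
  have hcoreRb : Cfsg.pPrimeCore 2 Rb = ⊥ := by
    haveI := HallCore.pPrimeCore_normal 2 Rb
    haveI : (Cfsg.pPrimeCore 2 Rb).Characteristic := HallCore.pPrimeCore_characteristic 2 Rb
    have hnorm : ((Cfsg.pPrimeCore 2 Rb).map Rb.subtype).Normal := inferInstance
    have hle : (Cfsg.pPrimeCore 2 Rb).map Rb.subtype ≤ Cfsg.pPrimeCore 2 (X ⧸ O) := le_sSup ⟨hnorm, by
      rw [Subgroup.card_map_of_injective (Subgroup.subtype_injective _)]
      exact HallCore.coprime_card_pPrimeCore 2 Rb⟩
    rw [HallCore.pPrimeCore_quotient_self 2 X, le_bot_iff,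
      Subgroup.map_eq_bot_iff_of_injective _ (Subgroup.subtype_injective _)] at hle
    exact hle
  set T := (Cfsg.pCore 2 Rb).map Rb.subtype with hT
  haveI : (Cfsg.pCore 2 Rb).Characteristic := HallCore.pCore_characteristic 2 Rb
  haveI : T.Normal := inferInstanceAs ((Cfsg.pCore 2 Rb).map Rb.subtype).Normal
  have hTS : T ≤ (Sb : Subgroup (X ⧸ O)) := by
    have hT2 : IsPGroup 2 T := (ComponentsCores.isPGroup_pCore 2).map _
    exact le_sup_right.trans (Sb.3 (Sb.2.to_sup_of_normal_right hT2) le_sup_left).le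
  have hcomm : ∀ a ∈ (Sb : Subgroup (X ⧸ O)), ∀ b ∈ (Sb : Subgroup (X ⧸ O)), a * b = b * a := by
    rw [hSbc]
    rintro _ ⟨a, ha, rfl⟩ _ ⟨b, hb, rfl⟩
    rw [← map_mul, ← map_mul, PGroupsBasic.comm_of_isMulCommutative h.elem.1 ha hb]
  -- the image of `r` lies in `T`
  have hrT : π r ∈ T := by
    have hrb : π r ∈ Rb := Subgroup.mem_map_of_mem π hrR
    refine ⟨⟨π r, hrb⟩, HallSolvable.centralizer_pCore_le (HallSolvable.isPSolvable_of_solvable 2)
      hcoreRb (Subgroup.mem_centralizer_iff.2 fun z hz => Subtype.ext ?_), rfl⟩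
    exact hcomm _ (hTS ⟨z, hz, rfl⟩) _ (hSbc ▸ Subgroup.mem_map_of_mem π hr)
  -- the centraliser of `T` is everything
  set K := (Subgroup.centralizer (T : Set (X ⧸ O))).comap π with hK
  haveI : K.Normal := Subgroup.Normal.comap inferInstance π
  have hSK : (S : Subgroup X) ≤ K := fun s hs => Subgroup.mem_centralizer_iff.2 fun z hz =>
    hcomm z (hTS hz) _ (hSbc ▸ Subgroup.mem_map_of_mem π hs)
  have hKtop : K = ⊤ := by
    by_contra hne
    exact h.nsolv (solvable_ext K (h.min K hSK hne) (odd_index_quot S K hSK))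
  have hgK : g ∈ K := hKtop ▸ Subgroup.mem_top g
  have h1 : π (g * r * g⁻¹ * r⁻¹) = 1 := by
    simp only [map_mul, map_inv]
    rw [← Subgroup.mem_centralizer_iff.1 hgK (π r) hrT, mul_assoc (π r) (π g), mul_inv_cancel, mul_one,
      mul_inv_cancel]
  have h2 : g * r * g⁻¹ * r⁻¹ ∈ O := (QuotientGroup.eq_one_iff _).1 h1
  have h3 : g * r * g⁻¹ * r⁻¹ ∈ (S : Subgroup X) :=
    mul_mem ((Subgroup.mem_normalizer_iff.1 hg r).1 hr) (inv_mem hr)
  have h4 : g * r * g⁻¹ * r⁻¹ = 1 := by
    have hcop : (Nat.card O).Coprime (Nat.card (S : Subgroup X)) := by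
      rw [h.card]
      exact (Nat.Coprime.pow_left n (Nat.prime_two.coprime_iff_not_dvd.2 hOodd)).symm
    exact Subgroup.disjoint_def.1 (Subgroup.disjoint_of_coprime_natCard hcop) h2 h3
  exact mul_inv_eq_iff_eq_mul.1 (mul_inv_eq_one.1 h4)

theorem card_radical : Nat.card ((S : Subgroup X) ⊓ R : Subgroup X) ^ 3 ≤ Nat.card S := by
  obtain ⟨g, hg, hne⟩ : ∃ g ∈ Subgroup.normalizer ((S : Subgroup X) : Set X),
      ∃ s ∈ (S : Subgroup X), g * s ≠ s * g := by
    by_contra hno
    refine h.nsolv (solvable_of_normalizer S fun g hg => Subgroup.mem_centralizer_iff.2 fun s hs => ?_)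
    by_contra hne
    exact hno ⟨g, hg, s, hs, Ne.symm hne⟩
  exact h.fixed g hg hne _ inf_le_left fun r hr => centralizes_radical h hRs hRmax hg hr.1 hr.2

theorem false_of_min : False := by
  haveI := Fact.mk Nat.prime_two
  set π := QuotientGroup.mk' R with hπ
  have hπs := QuotientGroup.mk'_surjective R
  set P : Sylow 2 (X ⧸ R) := S.mapSurjective hπs with hP
  have hPc : (P : Subgroup (X ⧸ R)) = (S : Subgroup X).map π := Sylow.coe_mapSurjective hπs S
  -- the size of `P`
  obtain ⟨m, hm⟩ := IsPGroup.iff_card.1 P.isPGroup'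
  obtain ⟨i, hi⟩ := IsPGroup.iff_card.1 (S.isPGroup'.to_le (inf_le_left (b := R)))
  have hsum : n = i + m := by
    have hf : Nat.card S = Nat.card ((S : Subgroup X) ⊓ R : Subgroup X) * Nat.card P := by
      let f := π.subgroupMap (S : Subgroup X)
      have h1 := (f.ker).card_mul_index
      rw [Subgroup.index_ker, MonoidHom.range_eq_top.2 (MonoidHom.subgroupMap_surjective π _),
        Subgroup.card_top] at h1
      rw [hPc, ← h1]
      congr 1
      refine Nat.card_congr
        { toFun := fun s => ⟨(s.1 : X), s.1.2, (QuotientGroup.eq_one_iff (s.1 : X)).1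
            (congrArg Subtype.val (MonoidHom.mem_ker.1 s.2))⟩
          invFun := fun r => ⟨⟨(r : X), r.2.1⟩, MonoidHom.mem_ker.2
            (Subtype.ext ((QuotientGroup.eq_one_iff (r : X)).2 r.2.2))⟩
          left_inv := fun s => rfl
          right_inv := fun r => rfl }
    rw [h.card, hi, hm, ← pow_add] at hf
    exact Nat.pow_right_injective le_rfl hf
  have hi3 : 3 * i ≤ n := by
    have h1 := card_radical h hRs hRmax
    rw [hi, h.card, ← pow_mul] at h1
    have := (Nat.pow_le_pow_iff_right (le_refl 2)).1 h1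
    omega
  have hm3 : 3 ≤ m := by have := h.four; omega
  have hPel : Cfsg.IsElementaryAbelian 2 (P : Subgroup (X ⧸ R)) := by
    rw [hPc]
    refine ⟨⟨⟨?_⟩⟩, ?_⟩
    · rintro ⟨_, a, ha, rfl⟩ ⟨_, b, hb, rfl⟩
      exact Subtype.ext (by
        show π a * π b = π b * π a
        rw [← map_mul, ← map_mul, PGroupsBasic.comm_of_isMulCommutative h.elem.1 ha hb])
    · rintro _ ⟨a, ha, rfl⟩
      rw [← map_pow, h.elem.2 a ha, map_one]
  have hPcomm : ∀ a ∈ (P : Subgroup (X ⧸ R)), ∀ b ∈ (P : Subgroup (X ⧸ R)), a * b = b * a :=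
    fun a ha b hb => PGroupsBasic.comm_of_isMulCommutative hPel.1 ha hb
  have hO : Cfsg.pPrimeCore 2 (X ⧸ R) = ⊥ := by
    haveI := HallCore.pPrimeCore_normal 2 (X ⧸ R)
    exact quot_no_solvable h hRs hRmax _
      (solvable_of_odd (HallCore.not_dvd_card_pPrimeCore 2 (X ⧸ R)))
  -- solvable centralisers
  have hsol : ∀ z ∈ (P : Subgroup (X ⧸ R)), z ≠ 1 →
      Group.IsSolvable ↥(Subgroup.centralizer ({z} : Set (X ⧸ R))) := by
    intro z hz hz1
    set K := (Subgroup.centralizer ({z} : Set (X ⧸ R))).comap π with hK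
    have hSK : (S : Subgroup X) ≤ K := fun s hs =>
      Subgroup.mem_centralizer_singleton_iff.2 (hPcomm _ (hPc ▸ Subgroup.mem_map_of_mem π hs) z hz)
    have hKne : K ≠ ⊤ := by
      intro hKt
      have hzc : Subgroup.zpowers z ≤ Subgroup.center (X ⧸ R) := by
        rw [Subgroup.zpowers_le, Subgroup.mem_center_iff]
        intro q
        obtain ⟨g, rfl⟩ := hπs q
        exact Subgroup.mem_centralizer_singleton_iff.1 (hKt ▸ Subgroup.mem_top g : g ∈ K)
      haveI : (Subgroup.zpowers z).Normal := ⟨fun x hx g => by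
        rwa [Subgroup.mem_center_iff.1 (hzc hx) g, mul_inv_cancel_right]⟩
      exact hz1 (Subgroup.zpowers_eq_bot.1 (quot_no_solvable h hRs hRmax _ inferInstance))
    haveI := h.min K hSK hKne
    exact solvable_of_surjective (f := π.subgroupComap (Subgroup.centralizer ({z} : Set (X ⧸ R))))
      (MonoidHom.subgroupComap_surjective_of_surjective π _ hπs)
  have hinv : ∀ z : X ⧸ R, orderOf z = 2 → ∃ g, g * z * g⁻¹ ∈ (P : Subgroup (X ⧸ R)) := fun z hz => by
    obtain ⟨g, -, hg⟩ := SolvCentInvol1.exists_conj_mem (P := P) (M := ⊤) le_top hz (Subgroup.mem_top z)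
    exact ⟨g, hg⟩
  have hs : SolvCent (X ⧸ R) := by
    intro z hz
    obtain ⟨g, hg⟩ := hinv z hz
    have hz1 : g * z * g⁻¹ ≠ 1 := by
      rw [Ne, conj_eq_one_iff]; exact SignalizerStrongEmb.involution_ne_one hz
    haveI := hsol _ hg hz1
    let f : Subgroup.centralizer ({z} : Set (X ⧸ R)) →*
        Subgroup.centralizer ({g * z * g⁻¹} : Set (X ⧸ R)) :=
      { toFun := fun c => ⟨g * c * g⁻¹, Subgroup.mem_centralizer_singleton_iff.2 (by
          have hc := Subgroup.mem_centralizer_singleton_iff.1 c.2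
          calc g * (c : X ⧸ R) * g⁻¹ * (g * z * g⁻¹) = g * ((c : X ⧸ R) * z) * g⁻¹ := by group
            _ = g * (z * c) * g⁻¹ := by rw [hc]
            _ = _ := by group)⟩
        map_one' := Subtype.ext (by simp)
        map_mul' := fun a b => Subtype.ext (by simp [mul_assoc]) }
    exact solvable_of_solvable_injective (f := f) fun a b hab =>
      Subtype.ext (mul_left_cancel (mul_right_cancel (congrArg Subtype.val hab)))
  have hP8 : 8 ≤ Nat.card (P : Subgroup (X ⧸ R)) := by
    rw [hm]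
    exact le_trans (by norm_num) (Nat.pow_le_pow_right two_pos hm3)
  have hgood : Good (P : Subgroup (X ⧸ R)) (P : Subgroup (X ⧸ R)) := ⟨hPel, hP8, le_rfl⟩
  have hc : Central P (P : Subgroup (X ⧸ R)) :=
    ⟨hPel, le_rfl, hPcomm, SignalizerCoprime.centralizer_le_normalizer _⟩
  have heq : ∀ A, Good (P : Subgroup (X ⧸ R)) A → A = (P : Subgroup (X ⧸ R)) := fun A hA =>
    le_antisymm (good_le hc hA) hA.le
  have hPne : (P : Subgroup (X ⧸ R)) ≠ ⊥ := fun e => by rw [e, Subgroup.card_bot] at hP8; omega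
  have hlink : Linked (P : Subgroup (X ⧸ R)) := fun A B hA hB => by rw [heq A hA, heq B hB]
  have hse : ∃ M : Subgroup (X ⧸ R), Cfsg.IsStronglyEmbedded M := by
    rcases alternative hs hO hc hPne hlink (fun t ht _ => ⟨_, hgood, ht⟩) with hM | hth
    · exact hM
    refine ⟨_, isStronglyEmbedded_of (P := P) ?_ Subgroup.le_normalizer ?_ ?_⟩
    · intro hN
      haveI : (P : Subgroup (X ⧸ R)).Normal := Subgroup.normalizer_eq_top_iff.1 hN
      haveI := hPel.1
      exact hPne (quot_no_solvable h hRs hRmax _ inferInstance)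
    · obtain ⟨w, hw, hw1⟩ : ∃ w ∈ (P : Subgroup (X ⧸ R)), w ≠ 1 := by
        by_contra hno
        push Not at hno
        exact hPne ((Subgroup.eq_bot_iff_forall _).2 hno)
      exact ⟨w, hw, orderOf_eq_prime (hPel.2 w hw) hw1⟩
    · intro z hz hz2 g hgz
      set C := Subgroup.centralizer ({z} : Set (X ⧸ R)) with hC
      have hPC : (P : Subgroup (X ⧸ R)) ≤ C := fun p hp =>
        Subgroup.mem_centralizer_singleton_iff.2 (hPcomm p hp z hz)
      have hCN : C ≤ Subgroup.normalizer ((P : Subgroup (X ⧸ R)) : Set (X ⧸ R)) := by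
        haveI : Group.IsSolvable C := hs z hz2
        have hcore : Cfsg.pPrimeCore 2 C = ⊥ := by
          have := hth z hz2
          rw [th, Cfsg.centralizerPPrimeCore, Subgroup.map_eq_bot_iff_of_injective _
            (Subgroup.subtype_injective _)] at this
          exact this
        have hle : Cfsg.pCore 2 C ≤ (P.subtype hPC : Subgroup C) := by
          haveI := HallCore.pCore_normal 2 C
          exact le_sup_right.trans ((P.subtype hPC).3
            ((P.subtype hPC).2.to_sup_of_normal_right (ComponentsCores.isPGroup_pCore 2)) le_sup_left).le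
        have hge : (P.subtype hPC : Subgroup C) ≤ Cfsg.pCore 2 C := fun p hp =>
          HallSolvable.centralizer_pCore_le (HallSolvable.isPSolvable_of_solvable 2) hcore
            (Subgroup.mem_centralizer_iff.2 fun w hw =>
              Subtype.ext (hPcomm _ (hle hw) _ hp))
        intro c hc'
        haveI := HallCore.pCore_normal 2 C
        refine Subgroup.mem_normalizer_iff.2 fun p => ⟨fun hp => ?_, fun hp => ?_⟩
        · exact hle (HallCore.pCore_normal 2 C |>.conj_mem _ (hge (show (⟨p, hPC hp⟩ : C) ∈ _ from hp))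
            ⟨c, hc'⟩)
        · have hpC : p ∈ C := by
            have := mul_mem (mul_mem (inv_mem hc') (hPC hp)) hc'
            simpa [mul_assoc] using this
          have h1 := HallCore.pCore_normal 2 C |>.conj_mem _
            (hge (show (⟨c * p * c⁻¹, hPC hp⟩ : C) ∈ _ from hp)) (⟨c, hc'⟩⁻¹)
          have h2 := hle h1
          simpa [mul_assoc] using Subgroup.mem_subgroupOf.1 h2
      haveI := hPel.1
      obtain ⟨w, hw, he⟩ := P.conj_eq_normalizer_conj_of_mem z g⁻¹ hz (by rwa [inv_inv])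
      rw [inv_inv] at he
      have h1 : w * g ∈ C := by
        refine Subgroup.mem_centralizer_singleton_iff.2 ?_
        calc w * g * z = w * (g * z * g⁻¹) * g := by group
          _ = w * (w⁻¹ * z * w) * g := by rw [he]
          _ = _ := by group
      have := mul_mem (inv_mem hw) (hCN h1)
      rwa [inv_mul_cancel_left] at this
  obtain ⟨M, hM⟩ := hse
  haveI := hPel.1
  -- orbit of one involution
  obtain ⟨w₀, hw₀, hw₀1⟩ : ∃ w ∈ (P : Subgroup (X ⧸ R)), w ≠ 1 := by
    by_contra hno
    push Not at hno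
    exact hPne ((Subgroup.eq_bot_iff_forall _).2 hno)
  obtain ⟨s₀, hs₀, hs₀w⟩ : w₀ ∈ (S : Subgroup X).map π := hPc ▸ hw₀
  set O := {w : X | ∃ g ∈ Subgroup.normalizer ((S : Subgroup X) : Set X), g * s₀ * g⁻¹ = w} with hOdef
  have hcover : ((P : Subgroup (X ⧸ R)) : Set (X ⧸ R)) \ {1} ⊆ π '' O := by
    rintro w ⟨hw, hw1⟩
    rw [Set.mem_singleton_iff] at hw1
    obtain ⟨c, hc'⟩ := isConj_iff.1 (SignalizerStrongEmb.isConj_involutions hM
      (orderOf_eq_prime (hPel.2 w₀ hw₀) hw₀1) (orderOf_eq_prime (hPel.2 w hw) hw1))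
    obtain ⟨d, hd, he⟩ := P.conj_eq_normalizer_conj_of_mem w₀ c⁻¹ hw₀ (by
      rw [inv_inv, hc']; exact hw)
    rw [inv_inv, hc'] at he
    -- lift `d⁻¹` into the normaliser of `S`
    obtain ⟨g, hg⟩ := hπs d⁻¹
    set Y := (P : Subgroup (X ⧸ R)).comap π with hY
    have hSY : (S : Subgroup X) ≤ Y := fun s hs => by
      show π s ∈ (P : Subgroup (X ⧸ R))
      rw [hPc]; exact Subgroup.mem_map_of_mem π hs
    have hSY' : ((g • S : Sylow 2 X) : Subgroup X) ≤ Y := by
      intro x hx
      rw [Sylow.coe_subgroup_smul, Subgroup.mem_pointwise_smul_iff_inv_smul_mem] at hx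
      have h1 : g⁻¹ * x * g ∈ (S : Subgroup X) := by simpa [mul_assoc] using hx
      have h2 : π (g⁻¹ * x * g) ∈ (P : Subgroup (X ⧸ R)) := hPc ▸ Subgroup.mem_map_of_mem π h1
      rw [map_mul, map_mul, map_inv, hg, inv_inv] at h2
      show π x ∈ (P : Subgroup (X ⧸ R))
      exact (Subgroup.mem_normalizer_iff.1 hd (π x)).2 h2
    obtain ⟨y, hy⟩ := MulAction.exists_smul_eq Y ((g • S).subtype hSY') (S.subtype hSY)
    have hyg : (y : X) * g ∈ Subgroup.normalizer ((S : Subgroup X) : Set X) := by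
      refine Sylow.smul_eq_iff_mem_normalizer.1 ?_
      rw [mul_smul]
      rw [Sylow.smul_subtype] at hy
      exact Sylow.subtype_injective hy
    refine ⟨(y : X) * g * s₀ * ((y : X) * g)⁻¹, ⟨_, hyg, rfl⟩, ?_⟩
    rw [map_mul, map_mul, map_mul, map_inv, map_mul, hs₀w, hg]
    have hyP : π (y : X) ∈ (P : Subgroup (X ⧸ R)) := y.2
    calc π (y : X) * d⁻¹ * w₀ * (π (y : X) * d⁻¹)⁻¹ = π (y : X) * (d⁻¹ * w₀ * d) * (π (y : X))⁻¹ := by
          group
      _ = π (y : X) * w * (π (y : X))⁻¹ := by rw [← he]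
      _ = w := by rw [hPcomm _ hyP w hw, mul_inv_cancel_right]
  have h1 := (Set.ncard_le_ncard hcover).trans ((Set.ncard_image_le (Set.toFinite O)).trans (h.orbit s₀ hs₀))
  rw [Set.ncard_diff_singleton_of_mem (one_mem (P : Subgroup (X ⧸ R))),
    ← Nat.card_coe_set_eq] at h1
  have h2 : Nat.card (((P : Subgroup (X ⧸ R)) : Set (X ⧸ R))) = 2 ^ m := hm
  rw [h2] at h1
  have h3 : ∀ j : ℕ, 3 ≤ j → 3 * j + 3 ≤ 2 * 2 ^ j := by
    intro j hj
    induction j, hj using Nat.le_induction with
    | base => norm_num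
    | succ j hj ih => rw [pow_succ]; omega
  have h4 := h3 m hm3
  have h5 : 1 ≤ 2 ^ m := Nat.one_le_two_pow
  omega

end Minimal

theorem isPSolvable_or_rank_three {G : Type u} [Group G] [Finite G] (S : Sylow 2 G)
    (hel : Cfsg.IsElementaryAbelian 2 (S : Subgroup G))
    (hone : ∀ a b : G, orderOf a = 2 → orderOf b = 2 → IsConj a b) {t : G}
    (htS : t ∈ (S : Subgroup G)) (ht : t ≠ 1) {n : ℕ} (hn : Nat.card S = 2 ^ n) :
    Cfsg.IsPSolvable 2 (Subgroup.centralizer ({t} : Set G)) ∨ n = 3 := by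
  haveI := Fact.mk Nat.prime_two
  by_cases h3 : n = 3
  · exact Or.inr h3
  left
  set C := Subgroup.centralizer ({t} : Set G) with hC
  have hSC : (S : Subgroup G) ≤ C := fun s hs =>
    Subgroup.mem_centralizer_singleton_iff.2 (PGroupsBasic.comm_of_isMulCommutative hel.1 hs htS)
  suffices hsol : Group.IsSolvable C by
    haveI := hsol
    exact HallSolvable.isPSolvable_of_solvable 2
  set SC : Sylow 2 C := S.subtype hSC with hSCdef
  have hSCcard : Nat.card SC = 2 ^ n := by
    rw [← hn]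
    exact Nat.card_congr (Subgroup.subgroupOfEquivOfLe hSC).toEquiv
  by_cases h2 : n ≤ 2
  · -- the quotient by `⟨t⟩` has Sylow subgroups of order at most two
    set Z := Subgroup.zpowers (⟨t, Subgroup.mem_centralizer_singleton_iff.2 rfl⟩ : C) with hZ
    haveI : Z.Normal := ⟨fun x hx g => by
      obtain ⟨j, rfl⟩ := Subgroup.mem_zpowers_iff.1 hx
      have hc : Commute g (⟨t, Subgroup.mem_centralizer_singleton_iff.2 rfl⟩ : C) :=
        Subtype.ext (Subgroup.mem_centralizer_singleton_iff.1 g.2)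
      rw [(hc.zpow_right j).eq, mul_inv_cancel_right]
      exact Subgroup.zpow_mem_zpowers _ _⟩
    refine solvable_ext Z inferInstance (solvable_of_card_sylow_le
      (SC.mapSurjective (QuotientGroup.mk'_surjective Z)) ?_)
    have hker : 2 ≤ Nat.card ((QuotientGroup.mk' Z).subgroupMap (SC : Subgroup C)).ker := by
      haveI := Fintype.ofFinite ((QuotientGroup.mk' Z).subgroupMap (SC : Subgroup C)).ker
      rw [Nat.card_eq_fintype_card]
      refine Fintype.one_lt_card_iff.2 ⟨1, ⟨⟨⟨t, Subgroup.mem_centralizer_singleton_iff.2 rfl⟩, htS⟩,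
        MonoidHom.mem_ker.2 (Subtype.ext ((QuotientGroup.eq_one_iff _).2 (Subgroup.mem_zpowers _)))⟩,
        fun e => ht ?_⟩
      exact (congrArg (fun w => ((w.1.1 : C) : G)) e).symm
    have h1 := ((QuotientGroup.mk' Z).subgroupMap (SC : Subgroup C)).ker.card_mul_index
    rw [Subgroup.index_ker, MonoidHom.range_eq_top.2 (MonoidHom.subgroupMap_surjective _ _),
      Subgroup.card_top, hSCcard] at h1
    rw [Sylow.coe_mapSurjective]
    have h4 : 2 ^ n ≤ 4 := le_trans (Nat.pow_le_pow_right two_pos h2) (by norm_num)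
    nlinarith [Nat.mul_le_mul_right
      (Nat.card ((SC : Subgroup C).map (QuotientGroup.mk' Z))) hker]
  by_contra hns
  obtain ⟨H, ⟨hSH, hHns⟩, hmin⟩ := Set.Finite.exists_minimal
    (s := {K : Subgroup C | (SC : Subgroup C) ≤ K ∧ ¬ Group.IsSolvable K}) (Set.toFinite _)
    ⟨⊤, le_top, fun h => hns (by
      haveI := h
      exact solvable_of_surjective (f := (⊤ : Subgroup C).subtype) fun c => ⟨⟨c, trivial⟩, rfl⟩)⟩
  set SH : Sylow 2 H := SC.subtype hSH with hSHdef
  have hnormG : ∀ g ∈ Subgroup.normalizer ((SH : Subgroup H) : Set H),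
      ((g : C) : G) ∈ Subgroup.normalizer ((S : Subgroup G) : Set G) := by
    intro g hg
    refine Subgroup.mem_normalizer_iff.2 fun s => ⟨fun hs => ?_, fun hs => ?_⟩
    · exact (Subgroup.mem_normalizer_iff.1 hg ⟨⟨s, hSC hs⟩, hSH hs⟩).1 hs
    · have hsC : s ∈ C := by
        have := mul_mem (mul_mem (inv_mem (g : C).2) (hSC hs)) (g : C).2
        simpa [mul_assoc] using this
      have hsH : (⟨s, hsC⟩ : C) ∈ H := by
        have := mul_mem (mul_mem (inv_mem g.2) (hSH (show (⟨_, hSC hs⟩ : C) ∈ (SC : Subgroup C) from hs))) g.2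
        have e : (g : C)⁻¹ * ⟨_, hSC hs⟩ * (g : C) = (⟨s, hsC⟩ : C) := Subtype.ext (by simp [mul_assoc])
        rwa [e] at this
      exact (Subgroup.mem_normalizer_iff.1 hg ⟨⟨s, hsC⟩, hsH⟩).2 hs
  have hgt : ∀ g : H, ((g : C) : G) * t = t * ((g : C) : G) := fun g =>
    Subgroup.mem_centralizer_singleton_iff.1 (g : C).2
  have hMin : Min SH n := by
    refine ⟨⟨⟨⟨fun a b => ?_⟩⟩, fun a ha => ?_⟩, ?_, by omega, hHns, fun K hK hKne => ?_, ?_, ?_⟩
    · refine Subtype.ext (Subtype.ext (Subtype.ext ?_))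
      exact PGroupsBasic.comm_of_isMulCommutative hel.1 (show ((a.1.1 : C) : G) ∈ (S : Subgroup G) from a.2)
        (show ((b.1.1 : C) : G) ∈ (S : Subgroup G) from b.2)
    · exact Subtype.ext (Subtype.ext (hel.2 _ ha))
    · rw [← hSCcard]
      exact Nat.card_congr (Subgroup.subgroupOfEquivOfLe hSH).toEquiv
    · by_contra hKs
      have hmem : K.map H.subtype ∈ {K : Subgroup C | (SC : Subgroup C) ≤ K ∧ ¬ Group.IsSolvable K} := by
        refine ⟨fun s hs => ⟨⟨s, hSH hs⟩, hK hs, rfl⟩, fun hsol => hKs ?_⟩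
        haveI := hsol
        exact solvable_of_solvable_injective
          (f := (K.equivMapOfInjective _ (Subgroup.subtype_injective H)).toMonoidHom)
          (MulEquiv.injective _)
      have hle := hmin hmem (Subgroup.map_subtype_le K)
      exact hKne (eq_top_iff.2 fun k _ => by
        obtain ⟨k', hk', he⟩ := hle k.2
        rwa [← Subtype.ext he])
    · intro g hg ⟨s, hs, hne⟩ R hR hfix
      have hmapcard : Nat.card ((R.map H.subtype).map C.subtype) = Nat.card R := by
        rw [Subgroup.card_map_of_injective (Subgroup.subtype_injective _),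
          Subgroup.card_map_of_injective (Subgroup.subtype_injective _)]
      rw [← hmapcard, show Nat.card SH = Nat.card S by
        rw [hn, ← hSCcard]; exact Nat.card_congr (Subgroup.subgroupOfEquivOfLe hSH).toEquiv]
      refine ConstDiff2Fusion.fixed_cube_le S hel hone htS ht (hnormG g hg) (hgt g)
        ⟨_, (show ((s : C) : G) ∈ (S : Subgroup G) from hs), fun e => hne ?_⟩ _ ?_ ?_
      · exact Subtype.ext (Subtype.ext e)
      · rintro _ ⟨_, ⟨r, hr, rfl⟩, rfl⟩
        exact hR hr
      · rintro _ ⟨_, ⟨r, hr, rfl⟩, rfl⟩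
        exact congrArg (fun w : H => ((w : C) : G)) (hfix r hr)
    · intro s hs
      refine le_trans ?_ (ConstDiff2Fusion.ncard_orbit_le S hel hone htS ht hn
        (show ((s : C) : G) ∈ (S : Subgroup G) from hs))
      refine Set.ncard_le_ncard_of_injOn (fun w : H => ((w : C) : G)) ?_ ?_
      · rintro _ ⟨g, hg, rfl⟩
        exact ⟨_, hnormG g hg, hgt g, rfl⟩
      · exact fun a _ b _ e => Subtype.ext (Subtype.ext e)
  obtain ⟨R, hRn, hRs, hRmax⟩ := exists_radical (X := H)
  haveI := hRn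
  exact false_of_min hMin hRs hRmax

end Cfsg.Agent.ConstDiff2Local
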