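import Mathlib
import Cfsg.Agent.Lib.ConstDiff2Basic
import Cfsg.Agent.Lib.BlockContribSection
import Cfsg.Agent.Lib.ZStarSection
import Cfsg.Agent.Lib.PrincipalQuot80

/-!
# Principal 2-block with constant difference: the centraliser of an involution

Column orthogonality on the section of `t` (second and third main theorems), and the case of a
2-solvable centraliser: then the centraliser has a normal 2-complement on which all members of
the principal block are constant.
-/

set_option autoImplicit false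

open scoped ComplexConjugate

namespace Cfsg.Agent.ConstDiff2Section

open Cfsg BlockTheoryLocalRing BlockTheoryCentre BlockTheoryIdem
open Cfsg.Agent.BlockPrincipal81 (oneChar oneChar_mem isPBlock_principal)
open Cfsg.Agent.CharAverage (irr_isCharacter irr_apply_one irr_norm_le)
open Cfsg.Agent.ConstDiff2Basic

attribute [local instance] Classical.propDecidable

universe u

variable {G : Type u} [Group G] [Fintype G] {M : Ideal AlgInt}

/-- The centraliser of an element. -/
abbrev cen (t : G) : Subgroup G := Subgroup.centralizer ({t} : Set G)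

omit [Fintype G] in
theorem mem_cen {t g : G} : g ∈ cen t ↔ Commute t g :=
  ⟨fun h => (Subgroup.mem_centralizer_singleton_iff.1 h).symm,
    fun h => Subgroup.mem_centralizer_singleton_iff.2 h.eq.symm⟩

theorem induced_iff (hM : IsPModular 2 M) {t : G} (ht : ∃ j : ℕ, orderOf t = 2 ^ j)
    (ψ : IrrCharacter (cen t)) :
    IsInducedBlock M (cen t) (blockOf M (ψ : cen t → ℂ)) (principalBlock M G) ↔
      ψ ∈ blk M (cen t) := by
  haveI := Fact.mk Nat.prime_two
  rw [mem_blk]
  refine ⟨fun h => ?_, fun h => ?_⟩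
  · have h1 := (ZStarSection.principal_iff_of_induced hM h).2 rfl
    exact h1 ▸ self_mem_blockOf hM ψ
  · have h1 : blockOf M (ψ : cen t → ℂ) = principalBlock M (cen t) :=
      (eq_blockOf_of_mem hM isPBlock_principal h).symm
    obtain ⟨B, hB⟩ := BlockContribSection.exists_induced (fun _ => mem_cen) hM ht
      (isPBlock_blockOf (M := M) ψ)
    have h2 := (ZStarSection.principal_iff_of_induced hM hB).1 h1
    exact h2 ▸ hB

/-- Column orthogonality of the principal block on the section of a 2-element. -/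
theorem sec_orth (hM : IsPModular 2 M) {t : G} (ht : ∃ j : ℕ, orderOf t = 2 ^ j) {r s : cen t}
    (hr : ¬ 2 ∣ orderOf r) (hs : ¬ 2 ∣ orderOf s) :
    ∑ χ ∈ blk M G, (χ : G → ℂ) (t * r) * conj ((χ : G → ℂ) (t * s)) =
      ∑ ψ ∈ blk M (cen t), (ψ : cen t → ℂ) r * conj ((ψ : cen t → ℂ) s) := by
  have h := BlockContribSection.sum_block_section (H := cen t) (fun _ => mem_cen) hM ht
    (isPBlock_principal (M := M) (G := G)) hr hs
  rw [← Finset.sum_filter, BlockContribBounds.filter_eq_members, ← Finset.sum_filter] at h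
  refine h.trans ?_
  refine Finset.sum_congr ?_ fun ψ _ => rfl
  ext ψ
  rw [Finset.mem_filter, induced_iff hM ht ψ]
  simp

/-- The data attached to `x`. -/
structure Loc (M : Ideal AlgInt) (x t : G) (y : cen t) (k : ℂ) : Prop where
  hyp : Hyp M x k
  eq : t * (y : G) = x
  ord : orderOf t = 2
  reg : ¬ 2 ∣ orderOf y
  all : ∀ z : G, (∃ j : ℕ, orderOf z = 2 ^ j) → z ≠ 1 → IsConj t z

theorem exists_loc {x : G} {k : ℂ} (h : Hyp M x k) : ∃ t, ∃ y : cen t, Loc M x t y k := by
  obtain ⟨t, y, he, hc, ht, hy, hall⟩ := exists_data h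
  exact ⟨t, ⟨y, mem_cen.2 hc⟩, h, he, ht, by rwa [Subgroup.orderOf_mk], hall⟩

variable {x t : G} {y : cen t} {k : ℂ}

theorem Loc.two_pow (L : Loc M x t y k) : ∃ j : ℕ, orderOf t = 2 ^ j := ⟨1, by rw [L.ord, pow_one]⟩

theorem Loc.real (L : Loc M x t y k) (S : Sylow 2 G) {χ : IrrCharacter G} (hχ : χ ∈ blk M G) :
    conj ((χ : G → ℂ) x) = (χ : G → ℂ) x := by
  by_cases h1 : χ = oneChar G
  · subst h1; simp [one_apply]
  · have h := L.hyp.const χ (Finset.mem_erase.2 ⟨h1, hχ⟩)
    rw [k_eq L.hyp S, irr_apply_one χ] at h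
    rw [show (χ : G → ℂ) x = (charDegree (χ : G → ℂ) : ℂ) - (Nat.card S : ℂ) by rw [← h]; ring,
      map_sub, map_natCast, map_natCast]

theorem two_dvd_mul (L : Loc M x t y k) {r : cen t} (hr : ¬ 2 ∣ orderOf r) :
    2 ∣ orderOf (t * (r : G)) := by
  have hcop : (orderOf t).Coprime (orderOf (r : G)) := by
    rw [L.ord, Subgroup.orderOf_coe]; exact Nat.prime_two.coprime_iff_not_dvd.2 hr
  rw [(mem_cen.1 r.2).orderOf_mul_eq_mul_orderOf_of_coprime hcop, L.ord]
  exact dvd_mul_right 2 _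

/-- The key identity. -/
theorem Loc.key (L : Loc M x t y k) (S : Sylow 2 G) {r : cen t} (hr : ¬ 2 ∣ orderOf r) :
    (Nat.card S : ℂ) * ∑ χ ∈ nonpr M G, (χ : G → ℂ) (t * r) =
      -∑ ψ ∈ blk M (cen t), (ψ : cen t → ℂ) r * conj ((ψ : cen t → ℂ) y) := by
  have hM := L.hyp.modular
  have h := sum_diff L.hyp (fun χ => (χ : G → ℂ) (t * r))
  simp only [sub_mul, Finset.sum_sub_distrib] at h
  rw [weak_mul hM (by simp) (two_dvd_mul L hr), k_eq L.hyp S] at h
  rw [← h, ← sec_orth hM L.two_pow hr L.reg, zero_sub, L.eq]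
  refine congrArg _ (Finset.sum_congr rfl fun χ hχ => ?_)
  rw [L.real S hχ, mul_comm]

theorem congr_mul (L : Loc M x t y k) (r : cen t) (χ : IrrCharacter G) :
    MemLocalIdeal M ((χ : G → ℂ) (t * r) - (χ : G → ℂ) r) := by
  haveI := Fact.mk Nat.prime_two
  exact BlockCyclicRank81.value_congr L.hyp.modular χ (k := 1)
    (by rw [pow_one, ← L.ord, pow_orderOf_eq_one]) (mem_cen.1 r.2)

theorem Loc.gamma_ne (L : Loc M x t y k) {r : cen t} (hr : ¬ 2 ∣ orderOf r) :
    ∑ ψ ∈ blk M (cen t), (ψ : cen t → ℂ) r * conj ((ψ : cen t → ℂ) y) ≠ 0 := by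
  intro h0
  haveI := Fact.mk Nat.prime_two
  obtain ⟨S⟩ : Nonempty (Sylow 2 G) := inferInstance
  have h := L.key S hr
  rw [h0, neg_zero, mul_eq_zero] at h
  have h1 := h.resolve_left (Nat.cast_ne_zero.2 Nat.card_pos.ne')
  have hM := L.hyp.modular
  have h2 := blk_sum_mem hM (x := (r : G)) (by rwa [Subgroup.orderOf_coe]) (two_dvd_mul L hr)
    (congr_mul L r)
  rw [sum_split hM, h1, add_zero, one_apply] at h2
  exact one_not_ideal hM h2

/-- In a 2-solvable centraliser the regular elements lie in the odd core. -/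
theorem Loc.regular_mem_core (L : Loc M x t y k) (hsol : IsPSolvable 2 (cen t)) {r : cen t}
    (hr : ¬ 2 ∣ orderOf r) : r ∈ pPrimeCore 2 (cen t) := by
  haveI := Fact.mk Nat.prime_two
  set W := pPrimeCore 2 (cen t) with hW
  haveI : W.Normal := HallCore.pPrimeCore_normal 2 _
  have hmem : ∀ ψ : IrrCharacter (cen t),
      ψ ∈ blk M (cen t) ↔ ∀ n ∈ W, (ψ : cen t → ℂ) n = (ψ : cen t → ℂ) 1 := fun ψ =>
    mem_blk.trans (PrincipalQuot80.mem_principal_iff_of_pSolvable L.hyp.modular hsol ψ)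
  haveI : Fintype (cen t ⧸ W) := Fintype.ofFinite _
  have hsum : ∀ a b : cen t, ∑ ψ ∈ blk M (cen t), (ψ : cen t → ℂ) a * conj ((ψ : cen t → ℂ) b) =
      if IsConj (a : cen t ⧸ W) (b : cen t ⧸ W) then
        (Nat.card (Subgroup.centralizer ({(a : cen t ⧸ W)} : Set (cen t ⧸ W))) : ℂ) else 0 := by
    intro a b
    rw [← CharBasicOrth.sum_irr_mul_conj, Finset.sum_subtype (blk M (cen t))
      (p := fun ψ : IrrCharacter (cen t) => ∀ n ∈ W, (ψ : cen t → ℂ) n = (ψ : cen t → ℂ) 1) hmem,
      ← Equiv.sum_comp (CharKernel.quotEquiv W)]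
    rfl
  have key : ∀ s : cen t, ¬ 2 ∣ orderOf s → IsConj (s : cen t ⧸ W) (y : cen t ⧸ W) := by
    intro s hs
    by_contra hne
    exact L.gamma_ne hs (by rw [hsum, if_neg hne])
  have hy1 : (y : cen t ⧸ W) = 1 := by
    have h1 := key 1 (by simp)
    rw [QuotientGroup.mk_one] at h1
    exact isConj_one_right.1 h1
  have h2 := key r hr
  rw [hy1] at h2
  exact (QuotientGroup.eq_one_iff r).1 (isConj_one_left.1 h2)

end Cfsg.Agent.ConstDiff2Section
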