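import Mathlib
import Cfsg.Agent.Lib.ConstDiff2Section
import Cfsg.Agent.S1230
import Cfsg.Agent.Lib.PGroupsBasic

/-!
# Principal 2-block with constant difference: 2-solvable involution centralisers

The centraliser of an involution is then a Sylow 2-subgroup, and the group has order 2 or is
`PSL(2, 2 ^ n)`.
-/

set_option autoImplicit false
set_option linter.style.haveILetI false
set_option linter.unusedSectionVars false

open scoped ComplexConjugate

namespace Cfsg.Agent.ConstDiff2Solv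

open Cfsg BlockTheoryLocalRing BlockTheoryCentre BlockTheoryIdem
open Cfsg.Agent.BlockPrincipal81 (oneChar oneChar_mem isPBlock_principal)
open Cfsg.Agent.CharAverage (irr_isCharacter irr_apply_one irr_norm_le)
open Cfsg.Agent.ConstDiff2Basic Cfsg.Agent.ConstDiff2Section

attribute [local instance] Classical.propDecidable

universe u

variable {G : Type u} [Group G] [Fintype G] {M : Ideal AlgInt} {x t : G} {y : cen t} {k : ℂ}

/-- A character whose sum over a subgroup is at least its degree times the order is constant. -/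
theorem eq_degree_of_sum {H : Type u} [Group H] [Finite H] {R : Type u} [Fintype R]
    (χ : IrrCharacter H) (f : R → H)
    (h : (Fintype.card R : ℝ) * (charDegree (χ : H → ℂ) : ℝ) ≤ ∑ r, ((χ : H → ℂ) (f r)).re) (r : R) :
    (χ : H → ℂ) (f r) = (charDegree (χ : H → ℂ) : ℂ) := by
  set d : ℝ := (charDegree (χ : H → ℂ) : ℝ) with hd
  have hle : ∀ r, ((χ : H → ℂ) (f r)).re ≤ d := fun r =>
    (Complex.re_le_norm _).trans (irr_norm_le χ _)
  have hsum : ∑ r, (d - ((χ : H → ℂ) (f r)).re) = 0 := by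
    refine le_antisymm ?_ (Finset.sum_nonneg fun r _ => sub_nonneg.2 (hle r))
    rw [Finset.sum_sub_distrib, Finset.sum_const, Finset.card_univ, nsmul_eq_mul]
    linarith
  have hr := (Finset.sum_eq_zero_iff_of_nonneg fun r _ => sub_nonneg.2 (hle r)).1 hsum r
    (Finset.mem_univ r)
  have hre : ((χ : H → ℂ) (f r)).re = d := by linarith
  have hn := irr_norm_le χ (f r)
  have him : ((χ : H → ℂ) (f r)).im = 0 := by
    have h1 : ((χ : H → ℂ) (f r)).re ^ 2 + ((χ : H → ℂ) (f r)).im ^ 2 ≤ d ^ 2 := by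
      have h2 := pow_le_pow_left₀ (norm_nonneg _) hn 2
      rw [Complex.sq_norm, Complex.normSq_apply] at h2
      nlinarith
    rw [hre] at h1
    nlinarith [sq_nonneg ((χ : H → ℂ) (f r)).im]
  exact Complex.ext (by simp [hre, hd]) (by simp [him])

/-- A Sylow 2-subgroup inside the centraliser. -/
theorem exists_sylow_le (L : Loc M x t y k) :
    ∃ S : Sylow 2 G, t ∈ (S : Subgroup G) ∧ (S : Subgroup G) ≤ cen t := by
  haveI := Fact.mk Nat.prime_two
  have h2 : IsPGroup 2 (Subgroup.zpowers t) := IsPGroup.of_card (n := 1) (by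
    rw [Nat.card_zpowers, L.ord, pow_one])
  obtain ⟨S, hS⟩ := h2.exists_le_sylow
  have htS : t ∈ (S : Subgroup G) := hS (Subgroup.mem_zpowers t)
  refine ⟨S, htS, fun s hs => mem_cen.2 ?_⟩
  exact PGroupsBasic.comm_of_isMulCommutative (sylow_elementary L.hyp S).1 htS hs

section Solv

variable (L : Loc M x t y k) (hsol : IsPSolvable 2 (cen t))
include L hsol

theorem apply_core {χ : IrrCharacter G} (hχ : χ ∈ blk M G) {w : cen t}
    (hw : w ∈ pPrimeCore 2 (cen t)) : (χ : G → ℂ) (t * w) = (χ : G → ℂ) t := by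
  haveI := Fact.mk Nat.prime_two
  obtain ⟨h1, h2, h3⟩ := ZStarPrincipal.centralizerPPrimeCore_spec (p := 2) t
  exact ZStarPrincipal.apply_eq_of_mem L.hyp.modular L.two_pow h1 h2 h3 (mem_blk.1 hχ)
    (Subgroup.mem_map_of_mem _ hw)

theorem mem_core {r : cen t} (hr : ¬ 2 ∣ orderOf r) : r ∈ pPrimeCore 2 (cen t) :=
  L.regular_mem_core hsol hr

theorem isPGroup_quot : haveI := HallCore.pPrimeCore_normal 2 (cen t)
    IsPGroup 2 (cen t ⧸ pPrimeCore 2 (cen t)) := by
  haveI := Fact.mk Nat.prime_two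
  haveI := HallCore.pPrimeCore_normal 2 (cen t)
  intro q
  obtain ⟨g, rfl⟩ := QuotientGroup.mk_surjective q
  obtain ⟨a, b, hab, hc, ⟨j, hj⟩, hb⟩ := exists_pPart Nat.prime_two g
  refine ⟨j, ?_⟩
  rw [← QuotientGroup.mk_pow, QuotientGroup.eq_one_iff, ← hab, hc.mul_pow, ← hj, pow_orderOf_eq_one,
    one_mul]
  exact pow_mem (mem_core L hsol hb) _

theorem index_core (S : Sylow 2 G) : (pPrimeCore 2 (cen t)).index = Nat.card S := by
  haveI := Fact.mk Nat.prime_two
  haveI := HallCore.pPrimeCore_normal 2 (cen t)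
  obtain ⟨S₀, -, hS₀⟩ := exists_sylow_le L
  have hcard : Nat.card S = Nat.card S₀ := by rw [S.card_eq_multiplicity, S₀.card_eq_multiplicity]
  obtain ⟨a, ha⟩ := IsPGroup.iff_card.1 (isPGroup_quot L hsol)
  rw [← Subgroup.index_eq_card] at ha
  have hmul := Subgroup.card_mul_index (pPrimeCore 2 (cen t))
  refine Nat.dvd_antisymm ?_ ?_
  · rw [ha, S.card_eq_multiplicity]
    refine Nat.pow_dvd_pow 2 ((Nat.Prime.pow_dvd_iff_le_factorization Nat.prime_two
      Nat.card_pos.ne').1 ?_)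
    rw [← ha]
    exact (Dvd.intro_left _ hmul).trans (Subgroup.card_subgroup_dvd_card (cen t))
  · rw [hcard]
    have h1 : Nat.card S₀ ∣ Nat.card (pPrimeCore 2 (cen t)) * (pPrimeCore 2 (cen t)).index := by
      rw [hmul]; exact Subgroup.card_dvd_of_le hS₀
    obtain ⟨d, hd⟩ := IsPGroup.iff_card.1 S₀.isPGroup'
    rw [hd] at h1 ⊢
    exact (Nat.Coprime.pow_left d (Nat.prime_two.coprime_iff_not_dvd.2 fun h =>
      (Nat.prime_two.coprime_iff_not_dvd.1 (HallCore.coprime_card_pPrimeCore 2 (cen t)).symm) h)).dvd_of_dvd_mul_left h1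

theorem gamma_one (S : Sylow 2 G) :
    ∑ ψ ∈ blk M (cen t), (ψ : cen t → ℂ) 1 * conj ((ψ : cen t → ℂ) y) = (Nat.card S : ℂ) := by
  haveI := Fact.mk Nat.prime_two
  haveI := HallCore.pPrimeCore_normal 2 (cen t)
  have hmem : ∀ ψ : IrrCharacter (cen t), ψ ∈ blk M (cen t) ↔
      ∀ n ∈ pPrimeCore 2 (cen t), (ψ : cen t → ℂ) n = (ψ : cen t → ℂ) 1 := fun ψ =>
    mem_blk.trans (PrincipalQuot80.mem_principal_iff_of_pSolvable L.hyp.modular hsol ψ)
  rw [← index_core L hsol S, ← CharKernel.sum_sq_trivial_on, Nat.cast_sum,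
    Finset.sum_subtype (blk M (cen t)) hmem]
  refine Finset.sum_congr rfl fun ψ _ => ?_
  rw [ψ.2 y (mem_core L hsol L.reg), irr_apply_one ψ.1, map_natCast, Nat.cast_pow, pow_two]

theorem sum_nonpr_t : ∑ χ ∈ nonpr M G, (χ : G → ℂ) t = -1 := by
  haveI := Fact.mk Nat.prime_two
  obtain ⟨S⟩ : Nonempty (Sylow 2 G) := inferInstance
  have h := L.key S (r := 1) (by simp)
  rw [gamma_one L hsol S] at h
  have hq : (Nat.card S : ℂ) ≠ 0 := Nat.cast_ne_zero.2 Nat.card_pos.ne'
  refine mul_left_cancel₀ hq ?_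
  rw [mul_neg, mul_one, ← h]
  simp

theorem apply_x (S : Sylow 2 G) {χ : IrrCharacter G} (hχ : χ ∈ nonpr M G) :
    (χ : G → ℂ) t = (charDegree (χ : G → ℂ) : ℂ) - (Nat.card S : ℂ) := by
  have h := L.hyp.const χ hχ
  rw [k_eq L.hyp S, irr_apply_one χ, ← L.eq,
    apply_core L hsol (Finset.mem_of_mem_erase hχ) (mem_core L hsol L.reg)] at h
  rw [← h]; ring

/-- Some member has degree `q - 1` and value `-1` on involutions. -/
theorem exists_small (S : Sylow 2 G) : ∃ χ ∈ blk M G,
    charDegree (χ : G → ℂ) + 1 = Nat.card S ∧ (χ : G → ℂ) t = -1 := by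
  haveI := Fact.mk Nat.prime_two
  obtain ⟨S₀, -, -⟩ := exists_sylow_le L
  have hex : ∃ χ ∈ nonpr M G, charDegree (χ : G → ℂ) < Nat.card S := by
    by_contra hno
    push Not at hno
    have h := sum_nonpr_t L hsol
    rw [Finset.sum_congr rfl fun χ hχ => by
      rw [apply_x L hsol S hχ, ← Nat.cast_sub (hno χ hχ)], ← Nat.cast_sum] at h
    have h1 := congrArg Complex.re h
    simp only [Complex.natCast_re, Complex.neg_re, Complex.one_re] at h1
    linarith [Nat.cast_nonneg (α := ℝ) (∑ χ ∈ nonpr M G, (charDegree (χ : G → ℂ) - Nat.card S))]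
  obtain ⟨χ, hχ, hlt⟩ := hex
  refine ⟨χ, Finset.mem_of_mem_erase hχ, ?_⟩
  obtain ⟨m, hm⟩ := CharBasicOrth.classInner_isCharacter (G := (S : Subgroup G))
    (χ := fun p => (χ : G → ℂ) p) (ψ := fun _ => 1)
    (by obtain ⟨n, ρ, -, hρ⟩ := χ.2
        exact ⟨n, ρ.comp (S : Subgroup G).subtype, funext fun p => by rw [← hρ]; rfl⟩)
    CharBasicDecomp.isCharacter_one
  simp only [classInner, map_one, mul_one] at hm
  have hval : ∀ p ∈ (Finset.univ : Finset (S : Subgroup G)).erase 1,
      (χ : G → ℂ) (p : G) = (χ : G → ℂ) t := by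
    intro p hp
    obtain ⟨j, hj⟩ := IsPGroup.iff_orderOf.1 S.isPGroup' p
    obtain ⟨c, hc⟩ := isConj_iff.1 (L.all (p : G) ⟨j, by rw [Subgroup.orderOf_coe, hj]⟩
      (fun h => (Finset.mem_erase.1 hp).1 (Subtype.ext h)))
    rw [← hc, irr_classFun χ]
  rw [← Finset.add_sum_erase Finset.univ (fun p : (S : Subgroup G) => (χ : G → ℂ) p) (Finset.mem_univ 1),
    Finset.sum_congr rfl hval, Finset.sum_const, Finset.card_erase_of_mem (Finset.mem_univ 1),
    Finset.card_univ, OneMemClass.coe_one, irr_apply_one χ, nsmul_eq_mul,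
    Nat.cast_sub (Fintype.card_pos), ← Nat.card_eq_fintype_card, apply_x L hsol S hχ,
    Nat.cast_one] at hm
  rw [inv_mul_eq_iff_eq_mul₀ (Nat.cast_ne_zero.2 Nat.card_pos.ne')] at hm
  set d := charDegree (χ : G → ℂ)
  set q := Nat.card (S : Subgroup G) with hq
  have h2 : (d : ℂ) + 1 = (q : ℂ) + (m : ℂ) := by
    refine mul_left_cancel₀ (Nat.cast_ne_zero.2 (Nat.card_pos (α := (S : Subgroup G))).ne' :
      (q : ℂ) ≠ 0) ?_
    linear_combination hm
  have h3 : d + 1 = q + m := by exact_mod_cast h2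
  refine ⟨by omega, ?_⟩
  rw [apply_x L hsol S hχ]
  have h4 : (d : ℂ) + 1 = (q : ℂ) := by exact_mod_cast (show d + 1 = q by omega)
  linear_combination h4

theorem apply_outside {χ : IrrCharacter G} (hχ : χ ∈ blk M G) {c : cen t}
    (hc : c ∉ pPrimeCore 2 (cen t)) : (χ : G → ℂ) c = (χ : G → ℂ) t := by
  haveI := Fact.mk Nat.prime_two
  obtain ⟨a, b, hab, hcom, ⟨j, hj⟩, hb⟩ := exists_pPart Nat.prime_two (c : G)
  have ha1 : a ≠ 1 := fun h => hc (mem_core L hsol (by
    rw [h, one_mul] at hab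
    rw [← Subgroup.orderOf_coe, ← hab]; exact hb))
  obtain ⟨g, hg⟩ := isConj_iff.1 (L.all a ⟨j, hj⟩ ha1)
  set b' := g⁻¹ * b * g with hb'
  have hbc : b' ∈ cen t := by
    rw [← hg] at hcom
    refine mem_cen.2 ?_
    show t * b' = b' * t
    calc t * b' = g⁻¹ * ((g * t * g⁻¹) * b) * g := by rw [hb']; group
      _ = g⁻¹ * (b * (g * t * g⁻¹)) * g := by rw [hcom.eq]
      _ = b' * t := by rw [hb']; group
  have hreg : ¬ 2 ∣ orderOf (⟨b', hbc⟩ : cen t) := by
    rw [Subgroup.orderOf_mk, hb', show g⁻¹ * b * g = MulAut.conj g⁻¹ b by simp, MulEquiv.orderOf_eq]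
    exact hb
  rw [← hab, ← hg, show g * t * g⁻¹ * b = g * (t * b') * g⁻¹ by rw [hb']; group, irr_classFun χ]
  exact apply_core L hsol hχ (w := ⟨b', hbc⟩) (mem_core L hsol hreg)

theorem core_bot : pPrimeCore 2 (cen t) = ⊥ := by
  haveI := Fact.mk Nat.prime_two
  obtain ⟨S, -, -⟩ := exists_sylow_le L
  obtain ⟨χ, hχ, hdeg, hval⟩ := exists_small L hsol S
  set W := pPrimeCore 2 (cen t) with hW
  have hchar : ∀ H : Subgroup G, IsCharacter H (fun p => (χ : G → ℂ) p) := fun H => by
    obtain ⟨n, ρ, -, hρ⟩ := χ.2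
    exact ⟨n, ρ.comp H.subtype, funext fun p => by rw [← hρ]; rfl⟩
  obtain ⟨a, ha⟩ := CharBasicOrth.classInner_isCharacter (G := cen t) (hchar _)
    CharBasicDecomp.isCharacter_one
  obtain ⟨b, hb⟩ := CharBasicOrth.classInner_isCharacter (G := W)
    (χ := fun p : W => (χ : G → ℂ) ((p : cen t) : G))
    (by obtain ⟨n, ρ, -, hρ⟩ := χ.2
        exact ⟨n, (ρ.comp (cen t).subtype).comp W.subtype, funext fun p => by rw [← hρ]; rfl⟩)
    CharBasicDecomp.isCharacter_one
  simp only [classInner, map_one, mul_one] at ha hb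
  rw [inv_mul_eq_iff_eq_mul₀ (Nat.cast_ne_zero.2 Nat.card_pos.ne')] at ha hb
  have hsum : ∑ c : cen t, ((χ : G → ℂ) c + 1) = ∑ w : W, ((χ : G → ℂ) ((w : cen t) : G) + 1) := by
    rw [← Finset.sum_filter_of_ne (p := fun c : cen t => c ∈ W) (fun c _ hne => by
      by_contra hcW
      exact hne (by rw [apply_outside L hsol hχ hcW, hval, neg_add_cancel]))]
    exact Finset.sum_subtype _ (fun c => by simp) _
  simp only [Finset.sum_add_distrib, Finset.sum_const, Finset.card_univ, nsmul_eq_mul, mul_one,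
    ← Nat.card_eq_fintype_card] at hsum
  rw [ha, hb, ← Subgroup.card_mul_index W, index_core L hsol S] at hsum
  have h1 : Nat.card W * Nat.card S * a + Nat.card W * Nat.card S =
      Nat.card W * b + Nat.card W := by exact_mod_cast hsum
  have hd : charDegree (χ : G → ℂ) ≤ b := by
    have h2 : Nat.card W * (Nat.card S * (a + 1)) = Nat.card W * (b + 1) := by linarith
    have h3 := Nat.eq_of_mul_eq_mul_left Nat.card_pos h2
    have h4 : Nat.card S ≤ Nat.card S * (a + 1) := Nat.le_mul_of_pos_right _ (by omega)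
    omega
  have hker : ∀ w : W, (χ : G → ℂ) ((w : cen t) : G) = (charDegree (χ : G → ℂ) : ℂ) := by
    refine eq_degree_of_sum χ (fun w : W => ((w : cen t) : G)) ?_
    rw [← Complex.re_sum, hb]
    simp only [Complex.mul_re, Complex.natCast_re, Complex.natCast_im, mul_zero, sub_zero,
      ← Nat.card_eq_fintype_card]
    exact mul_le_mul_of_nonneg_left (Nat.cast_le.2 hd) (Nat.cast_nonneg _)
  rw [eq_bot_iff]
  intro w hw
  rw [Subgroup.mem_bot]
  refine Subtype.ext ?_
  set K := CharKernel.irrKer χ with hK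
  haveI := CharKernel.irrKer_normal χ
  have hwK : (w : G) ∈ K := CharKernel.mem_irrKer.2 (by
    rw [irr_apply_one χ]; exact hker ⟨w, hw⟩)
  by_contra hne
  have hodd : ¬ (Nat.card K).Coprime 2 := fun hcop => by
    have hle : K ≤ Cfsg.oddCore G := le_sSup ⟨inferInstance, hcop⟩
    rw [L.hyp.core] at hle
    exact hne (Subgroup.mem_bot.1 (hle hwK))
  obtain ⟨z, hz⟩ := exists_prime_orderOf_dvd_card' (G := K) 2
    (by by_contra hd2; exact hodd (Nat.prime_two.coprime_iff_not_dvd.2 hd2).symm)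
  have hz1 : (z : G) ≠ 1 := fun h => by
    rw [← Subgroup.orderOf_coe, h, orderOf_one] at hz
    omega
  obtain ⟨g, hg⟩ := isConj_iff.1 (L.all (z : G) ⟨1, by rw [Subgroup.orderOf_coe, hz, pow_one]⟩ hz1)
  have hzK := CharKernel.mem_irrKer.1 z.2
  rw [← hg, irr_classFun χ, hval, irr_apply_one χ] at hzK
  have h5 := congrArg Complex.re hzK
  simp only [Complex.neg_re, Complex.one_re, Complex.natCast_re] at h5
  linarith [Nat.cast_nonneg (α := ℝ) (charDegree (χ : G → ℂ))]

theorem cen_eq : ∃ S : Sylow 2 G, cen t = (S : Subgroup G) := by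
  obtain ⟨S, -, hS⟩ := exists_sylow_le L
  refine ⟨S, (Subgroup.eq_of_le_of_card_ge hS ?_).symm⟩
  rw [← Subgroup.card_mul_index (pPrimeCore 2 (cen t)), index_core L hsol S, core_bot L hsol,
    Subgroup.card_bot, one_mul]

theorem x_eq : x = t := by
  have h := mem_core L hsol L.reg
  rw [core_bot L hsol, Subgroup.mem_bot] at h
  rw [← L.eq, h, OneMemClass.coe_one, mul_one]

theorem elem_cent {z : G} (hz : orderOf z = 2) :
    IsMulCommutative (cen z) ∧ ∀ c ∈ cen z, c ^ 2 = 1 := by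
  obtain ⟨S, hS⟩ := cen_eq L hsol
  have hz1 : z ≠ 1 := fun e => by simp [e] at hz
  obtain ⟨g, hg⟩ := isConj_iff.1 (L.all z ⟨1, by rw [hz, pow_one]⟩ hz1)
  have hmap : ∀ c ∈ cen z, g⁻¹ * c * g ∈ (S : Subgroup G) := fun c hc => by
    rw [← hS]
    refine mem_cen.2 ?_
    have h := (mem_cen.1 hc).eq
    rw [← hg] at h
    show t * (g⁻¹ * c * g) = g⁻¹ * c * g * t
    calc t * (g⁻¹ * c * g) = g⁻¹ * ((g * t * g⁻¹) * c) * g := by group
      _ = g⁻¹ * (c * (g * t * g⁻¹)) * g := by rw [h]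
      _ = _ := by group
  obtain ⟨hc2, hexp⟩ := sylow_elementary L.hyp S
  refine ⟨⟨⟨fun a b => Subtype.ext ?_⟩⟩, fun c hc => ?_⟩
  · have h := PGroupsBasic.comm_of_isMulCommutative hc2 (hmap a a.2) (hmap b b.2)
    show (a : G) * b = b * a
    have := congrArg (fun w => g * w * g⁻¹) h
    simpa [mul_assoc] using this
  · have h := congrArg (fun w => g * w * g⁻¹) (hexp _ (hmap c hc))
    simpa [pow_two, mul_assoc] using h

/-- Case of a normal Sylow 2-subgroup. -/
theorem card_of_normal (S : Sylow 2 G) (hN : (S : Subgroup G).Normal) : Nat.card G = 2 := by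
  haveI := Fact.mk Nat.prime_two
  have hM := L.hyp.modular
  obtain ⟨S₀, hcen⟩ := cen_eq L hsol
  haveI := hN
  haveI := Sylow.unique_of_normal S hN
  obtain rfl : S = S₀ := Subsingleton.elim _ _
  -- only members of the principal block are nonzero at `t`
  have hsec := sec_orth hM L.two_pow (r := (1 : cen t)) (s := 1) (by simp) (by simp)
  simp only [OneMemClass.coe_one, mul_one] at hsec
  have hall := CharBasicOrth.sum_irr_mul_conj t t
  rw [if_pos (IsConj.refl t), show Nat.card (Subgroup.centralizer ({t} : Set G)) = Nat.card S by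
    rw [show Subgroup.centralizer ({t} : Set G) = (S : Subgroup G) from hcen]] at hall
  have hq : ∑ ψ ∈ blk M (cen t), (ψ : cen t → ℂ) 1 * conj ((ψ : cen t → ℂ) 1) = (Nat.card S : ℂ) := by
    have hy1 : y = 1 := by
      have h := mem_core L hsol L.reg
      rwa [core_bot L hsol, Subgroup.mem_bot] at h
    have h := gamma_one L hsol S
    rwa [hy1] at h
  rw [hq] at hsec
  have hout : ∀ χ : IrrCharacter G, χ ∉ blk M G → (χ : G → ℂ) t = 0 := by
    intro χ hχ
    rw [← Finset.sum_add_sum_compl (blk M G), hsec, add_eq_left] at hall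
    have h1 : ∑ χ ∈ (blk M G)ᶜ, ‖(χ : G → ℂ) t‖ ^ 2 = 0 := by
      have h2 := congrArg Complex.re hall
      simpa [Complex.mul_conj', ← Complex.ofReal_pow, Complex.re_sum] using h2
    have h3 := (Finset.sum_eq_zero_iff_of_nonneg fun χ _ => sq_nonneg _).1 h1 χ
      (Finset.mem_compl.2 hχ)
    simpa using h3
  have htS : t ∈ (S : Subgroup G) := hcen ▸ mem_cen.2 (Commute.refl t)
  have htop : (S : Subgroup G) = ⊤ := by
    by_contra hne
    have h2 : 1 < Nat.card (G ⧸ (S : Subgroup G)) := by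
      rw [← Subgroup.index_eq_card]
      exact Subgroup.one_lt_index_of_ne_top hne
    haveI : Fintype (G ⧸ (S : Subgroup G)) := Fintype.ofFinite _
    obtain ⟨ψ, hψ⟩ : ∃ ψ : IrrCharacter (G ⧸ (S : Subgroup G)), ψ ≠ oneChar _ := by
      by_contra hno
      push Not at hno
      have h3 := CharKernel.sum_sq_charDegree (G := G ⧸ (S : Subgroup G))
      rw [Finset.sum_eq_single_of_mem (oneChar _) (Finset.mem_univ _)
        fun b _ hb => absurd (hno b) hb] at h3
      simp only [BlockPrincipal81.oneChar, charDegree, Complex.one_re, Nat.floor_one, one_pow] at h3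
      omega
    set χ := (CharKernel.quotEquiv (S : Subgroup G) ψ).1 with hχdef
    have hval : ∀ g, (χ : G → ℂ) g = (ψ : G ⧸ (S : Subgroup G) → ℂ) g := fun g => rfl
    have ht1 : (χ : G → ℂ) t = (χ : G → ℂ) 1 := (CharKernel.quotEquiv (S : Subgroup G) ψ).2 t htS
    have hmem : χ ∈ blk M G := by
      by_contra h
      exact CharAverage.irr_one_ne_zero χ (ht1.symm.trans (hout χ h))
    have hne1 : χ ≠ oneChar G := fun h => hψ (Subtype.ext (funext fun a => by
      obtain ⟨g, rfl⟩ := QuotientGroup.mk_surjective a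
      rw [← hval g, h]; rfl))
    have h4 := L.hyp.const χ (Finset.mem_erase.2 ⟨hne1, hmem⟩)
    rw [x_eq L hsol, ht1, sub_self] at h4
    exact k_ne L.hyp h4.symm
  have hsub : ∀ g : G, g = 1 ∨ g = t := by
    intro g
    by_cases hg : g = 1
    · exact Or.inl hg
    have hgS : g ∈ (S : Subgroup G) := htop ▸ Subgroup.mem_top g
    obtain ⟨j, hj⟩ := IsPGroup.iff_orderOf.1 S.isPGroup' ⟨g, hgS⟩
    rw [Subgroup.orderOf_mk] at hj
    obtain ⟨c, hc⟩ := isConj_iff.1 (L.all g ⟨j, hj⟩ hg)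
    refine Or.inr ?_
    have hcS : c ∈ cen t := by rw [hcen, htop]; exact Subgroup.mem_top c
    rw [← hc, ← (mem_cen.1 hcS).eq, mul_assoc, mul_inv_cancel, mul_one]
  have ht1 : t ≠ 1 := fun e => by
    have := L.ord
    rw [e, orderOf_one] at this
    omega
  rw [Nat.card_eq_fintype_card, ← Finset.card_univ, show (Finset.univ : Finset G) = {1, t} by
    ext g; simpa using hsub g, Finset.card_pair ht1.symm]

/-- The conclusion for 2-solvable involution centralisers. -/
theorem conclusion : (Nat.card G = 2 ∨ ∃ (F : Type) (_ : Field F) (_ : Fintype F) (n : ℕ),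
    2 ≤ n ∧ Fintype.card F = 2 ^ n ∧
      Nonempty (G ≃* Matrix.ProjectiveSpecialLinearGroup (Fin 2) F)) ∧ x ^ 2 = 1 := by
  haveI := Fact.mk Nat.prime_two
  refine ⟨?_, by rw [x_eq L hsol, ← L.ord, pow_orderOf_eq_one]⟩
  obtain ⟨S, htS, -⟩ := exists_sylow_le L
  by_cases hN : (S : Subgroup G).Normal
  · exact Or.inl (card_of_normal L hsol S hN)
  right
  have hnc : ¬ IsCyclic (S : Subgroup G) := by
    intro hcyc
    obtain ⟨g, hg⟩ := IsCyclic.exists_generator (α := (S : Subgroup G))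
    have hg2 : g ^ 2 = 1 := Subtype.ext ((sylow_elementary L.hyp S).2 g g.2)
    have hle : Nat.card S ≤ 2 := by
      rw [← orderOf_eq_card_of_forall_mem_zpowers hg]
      exact Nat.le_of_dvd two_pos (orderOf_dvd_of_pow_eq_one hg2)
    obtain ⟨χ, hχ, hdeg, hval⟩ := exists_small L hsol S
    have hd1 : charDegree (χ : G → ℂ) = 1 := by
      have := CharAverage.irr_degree_pos χ
      omega
    obtain ⟨lam, hlam⟩ := CharBasicLinear.exists_hom_of_apply_one_eq_one (irr_isCharacter χ)
      (by rw [irr_apply_one χ, hd1, Nat.cast_one])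
    have hinj : lam.ker = ⊥ := by
      by_contra hne
      have hodd : ¬ (Nat.card lam.ker).Coprime 2 := fun hcop => by
        have hle2 : lam.ker ≤ Cfsg.oddCore G := le_sSup ⟨inferInstance, hcop⟩
        rw [L.hyp.core] at hle2
        exact hne (le_bot_iff.1 hle2)
      obtain ⟨z, hz⟩ := exists_prime_orderOf_dvd_card' (G := lam.ker) 2
        (by by_contra hd2; exact hodd (Nat.prime_two.coprime_iff_not_dvd.2 hd2).symm)
      have hz1 : (z : G) ≠ 1 := fun h => by
        rw [← Subgroup.orderOf_coe, h, orderOf_one] at hz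
        omega
      obtain ⟨g, hg⟩ := isConj_iff.1 (L.all (z : G) ⟨1, by rw [Subgroup.orderOf_coe, hz, pow_one]⟩ hz1)
      have h6 : (χ : G → ℂ) (z : G) = 1 := by
        rw [hlam]
        show ((lam (z : G) : ℂˣ) : ℂ) = 1
        rw [MonoidHom.mem_ker.1 z.2, Units.val_one]
      rw [← hg, irr_classFun χ, hval] at h6
      norm_num at h6
    refine hN ⟨fun s hs g => ?_⟩
    have : g * s * g⁻¹ = s := (MonoidHom.ker_eq_bot_iff lam).1 hinj (by
      rw [map_mul, map_mul, map_inv, mul_comm (lam g), mul_assoc, mul_inv_cancel, mul_one])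
    rwa [this]
  obtain ⟨F, hF, hFf, hcard, he⟩ := S1230.result S hnc hN fun z hz => elem_cent L hsol hz
  obtain ⟨n, hn⟩ := IsPGroup.iff_card.1 S.isPGroup'
  refine ⟨F, hF, hFf, n, ?_, hcard.trans hn, he⟩
  by_contra hlt
  refine hnc ?_
  rcases (show n = 0 ∨ n = 1 by omega) with rfl | rfl
  · haveI : Subsingleton (S : Subgroup G) :=
      (Nat.card_eq_one_iff_unique.1 (by simpa using hn)).1
    infer_instance
  · exact isCyclic_of_prime_card (p := 2) (by simpa using hn)

end Solv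

end Cfsg.Agent.ConstDiff2Solv
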