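import Mathlib
import Cfsg.Agent.Lib.ConstDiff2Section
import Cfsg.Agent.Lib.ConstDiff2Double
import Cfsg.Agent.Lib.ConstDiff2Solv
import Cfsg.Agent.Lib.ConstDiff2Local
import Cfsg.Agent.Lib.KleinFourBlock79
import Cfsg.Agent.Lib.HallSolvable

/-!
# The case of a Sylow 2-subgroup of order 8

If the centraliser of an involution is not 2-solvable, its quotient by the involution has a
principal block with the three signed characters of a Klein four group, and the decomposition of
the members of the principal block on the section leads to `-9 ≤ ∑ χ x ≤ -11`.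
-/

set_option autoImplicit false
set_option linter.style.haveILetI false
set_option linter.unusedSectionVars false

open scoped ComplexConjugate

namespace Cfsg.Agent.ConstDiff2Klein

open Cfsg BlockTheoryLocalRing BlockTheoryCentre BlockTheoryIdem
open Cfsg.Agent.BlockPrincipal81 (oneChar oneChar_mem isPBlock_principal)
open Cfsg.Agent.CharAverage (irr_isCharacter irr_apply_one irr_norm_le)
open Cfsg.Agent.ConstDiff2Basic Cfsg.Agent.ConstDiff2Section Cfsg.Agent.ConstDiff2Double
open Cfsg.Agent.PrincipalQuot80 (infl infl_apply)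

attribute [local instance] Classical.propDecidable

universe u

/-- The signed principal block data of a group with Klein four Sylow 2-subgroups. -/
structure KData {Q : Type u} [Group Q] [Fintype Q] (M : Ideal AlgInt) (J : Q)
    (θ : Fin 3 → IrrCharacter Q) (δ : Fin 3 → ℤ) : Prop where
  ord : orderOf J = 2
  ne : ∀ i, θ i ≠ oneChar Q
  inj : Function.Injective θ
  mem : ∀ φ, φ ∈ blk M Q ↔ φ = oneChar Q ∨ ∃ i, φ = θ i
  sign : ∀ i, δ i = 1 ∨ δ i = -1
  atJ : ∀ i, (θ i : Q → ℂ) J = (δ i : ℂ)
  rel : ∀ w : Q, ¬ 2 ∣ orderOf w → 1 + ∑ i, (δ i : ℂ) * (θ i : Q → ℂ) w = 0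
  indep : ∀ a : Fin 3 → ℂ,
    (∀ w : Q, ¬ 2 ∣ orderOf w → ∑ i, a i * ((δ i : ℂ) * (θ i : Q → ℂ) w) = 0) → a = 0

variable {Q : Type u} [Group Q] [Fintype Q] {M : Ideal AlgInt}

/-- Klein four Sylow and not 2-solvable: one class of involutions. -/
theorem one_class (P : Sylow 2 Q) (h4 : Nat.card P = 4) (hexp : ∀ x : P, x * x = 1)
    (hns : ¬ Group.IsSolvable Q) : ∀ a b : Q, orderOf a = 2 → orderOf b = 2 → IsConj a b := by
  haveI := Fact.mk Nat.prime_two
  have hcomm : ∀ a b : P, a * b = b * a := fun a b => by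
    have hi : ∀ z : P, z⁻¹ = z := fun z => inv_eq_of_mul_eq_one_left (hexp z)
    rw [← hi (a * b), mul_inv_rev, hi, hi]
  -- an element of odd order acting nontrivially
  obtain ⟨g, hg, hodd, a, ha, hga⟩ : ∃ g ∈ Subgroup.normalizer ((P : Subgroup Q) : Set Q),
      ¬ 2 ∣ orderOf g ∧ ∃ a ∈ (P : Subgroup Q), g * a * g⁻¹ ≠ a := by
    by_contra hno
    push Not at hno
    refine hns (ConstDiff2Local.solvable_of_normalizer P fun g hg => ?_)
    obtain ⟨z, w, hzw, hc, ⟨j, hj⟩, hw⟩ := exists_pPart Nat.prime_two g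
    have hcop : (2 ^ j).Coprime (orderOf w) :=
      (Nat.prime_two.coprime_iff_not_dvd.2 hw).pow_left j
    obtain ⟨i, hi⟩ : ∃ i : ℤ, g ^ i = w := by
      obtain ⟨m, hm⟩ := exists_pow_eq_self_of_coprime (x := w) (n := 2 ^ j) hcop
      refine ⟨(2 ^ j * m : ℕ), ?_⟩
      rw [zpow_natCast, pow_mul, ← hzw, hc.mul_pow, ← hj, pow_orderOf_eq_one, one_mul, hj]
      exact hm
    have hwN : w ∈ Subgroup.normalizer ((P : Subgroup Q) : Set Q) := hi ▸ zpow_mem hg i
    have hzN : z ∈ Subgroup.normalizer ((P : Subgroup Q) : Set Q) := by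
      have : z = g * w⁻¹ := by rw [← hzw, mul_inv_cancel_right]
      rw [this]; exact mul_mem hg (inv_mem hwN)
    have hzP : z ∈ (P : Subgroup Q) := by
      have h2 : IsPGroup 2 (Subgroup.zpowers z) :=
        IsPGroup.of_card (n := j) (by rw [Nat.card_zpowers, hj])
      have hle : Subgroup.zpowers z ≤ Subgroup.normalizer ((P : Subgroup Q) : Set Q) :=
        Subgroup.zpowers_le.2 hzN
      exact (le_sup_left.trans (P.3 (h2.to_sup_of_normal_right' P.2 hle) le_sup_right).le)
        (Subgroup.mem_zpowers z)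
    refine Subgroup.mem_centralizer_iff.2 fun s hs => ?_
    have h1 := mul_inv_eq_iff_eq_mul.1 (hno w hwN hw s hs)
    have h2 : z * s = s * z := congrArg Subtype.val (hcomm ⟨z, hzP⟩ ⟨s, hs⟩)
    calc s * g = s * z * w := by rw [← hzw, mul_assoc]
      _ = z * (s * w) := by rw [← h2, mul_assoc]
      _ = z * w * s := by rw [← h1, mul_assoc]
      _ = g * s := by rw [hzw]
  set φ : Q → Q := fun x => g * x * g⁻¹ with hφ
  have hmem : ∀ x ∈ (P : Subgroup Q), φ x ∈ (P : Subgroup Q) := fun x hx =>
    (Subgroup.mem_normalizer_iff.1 hg x).1 hx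
  have hone' : ∀ x, φ x = 1 → x = 1 := fun x hx => conj_eq_one_iff.1 hx
  have ha1 : a ≠ 1 := fun e => hga (by rw [e, mul_one, mul_inv_cancel])
  set b := φ a with hb
  have hb1 : b ≠ 1 := fun e => ha1 (hone' a e)
  have hc1 : φ b ≠ 1 := fun e => hb1 (hone' b e)
  have hcb : φ b ≠ b := fun e => hga (by
    have : g * (g * a * g⁻¹) * g⁻¹ = g * a * g⁻¹ := e
    exact mul_left_cancel (mul_right_cancel this))
  have hca : φ b ≠ a := by
    intro e
    have e2 : g ^ 2 * a = a * g ^ 2 := by
      have : g * (g * a * g⁻¹) * g⁻¹ = a := e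
      rw [← mul_inv_eq_iff_eq_mul, pow_two, mul_inv_rev]
      simpa [mul_assoc] using this
    obtain ⟨j, hj⟩ : Odd (orderOf g) := Nat.not_even_iff_odd.1 fun h => hodd (even_iff_two_dvd.1 h)
    have e3 : Commute g a := by
      have h1 : Commute ((g ^ 2) ^ (j + 1)) a := (show Commute (g ^ 2) a from e2).pow_left _
      rwa [← pow_mul, show 2 * (j + 1) = orderOf g + 1 by omega, pow_succ, pow_orderOf_eq_one,
        one_mul] at h1
    exact hga (by rw [e3.eq, mul_inv_cancel_right])
  haveI := Fintype.ofFinite (P : Subgroup Q)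
  have huniv : ∀ x : (P : Subgroup Q),
      (x : Q) = 1 ∨ (x : Q) = a ∨ (x : Q) = b ∨ (x : Q) = φ b := by
    intro x
    have h4' : ({1, a, b, φ b} : Finset Q).card = 4 := by
      rw [Finset.card_eq_four]
      exact ⟨1, a, b, φ b, ha1.symm, hb1.symm, hc1.symm, fun e => hga e.symm, hca.symm,
        hcb.symm, rfl⟩
    have hsub : ({1, a, b, φ b} : Finset Q) ⊆
        Finset.univ.image (fun z : (P : Subgroup Q) => (z : Q)) := by
      intro z hz
      simp only [Finset.mem_insert, Finset.mem_singleton] at hz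
      refine Finset.mem_image.2 ⟨⟨z, ?_⟩, Finset.mem_univ _, rfl⟩
      rcases hz with rfl | rfl | rfl | rfl
      exacts [one_mem _, ha, hmem a ha, hmem _ (hmem a ha)]
    have heq := Finset.eq_of_subset_of_card_le hsub (by
      rw [h4', Finset.card_image_of_injective _ Subtype.val_injective, Finset.card_univ,
        ← Nat.card_eq_fintype_card, h4])
    have := heq.ge (Finset.mem_image.2 ⟨x, Finset.mem_univ _, rfl⟩)
    simpa using this
  have hall : ∀ x : Q, orderOf x = 2 → IsConj a x := by
    intro x hx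
    obtain ⟨c, -, hc⟩ := SolvCentInvol1.exists_conj_mem (P := P) (M := ⊤) le_top hx (Subgroup.mem_top x)
    have hcx : IsConj (c * x * c⁻¹) x := (isConj_iff.2 ⟨c, rfl⟩ : IsConj x (c * x * c⁻¹)).symm
    refine IsConj.trans ?_ hcx
    rcases huniv ⟨_, hc⟩ with h | h | h | h
    · exfalso
      rw [conj_eq_one_iff] at h
      rw [h, orderOf_one] at hx
      omega
    all_goals (show IsConj a _; rw [show c * x * c⁻¹ = _ from h])
    · exact isConj_iff.2 ⟨g, rfl⟩
    · exact (isConj_iff.2 ⟨g, rfl⟩ : IsConj a b).trans (isConj_iff.2 ⟨g, rfl⟩)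
  exact fun x y hx hy => (hall x hx).symm.trans (hall y hy)

theorem exists_kdata (hM : IsPModular 2 M) (P : Sylow 2 Q) (h4 : Nat.card P = 4)
    (hexp : ∀ x : P, x * x = 1) (hns : ¬ Group.IsSolvable Q) :
    ∃ J θ δ, J ∈ (P : Subgroup Q) ∧ KData M (J : Q) θ δ := by
  haveI := Fact.mk Nat.prime_two
  have hone := one_class P h4 hexp hns
  obtain ⟨J, hJ⟩ := exists_prime_orderOf_dvd_card' (G := (P : Subgroup Q)) 2 (by rw [h4]; norm_num)
  have hJ2 : orderOf (J : Q) = 2 := by rw [Subgroup.orderOf_coe, hJ]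
  obtain ⟨a, b, c, ε, hε, ha1, hb1, hab, hac, hbc, hB, hval, -, -, -, hrel⟩ :=
    KleinFourBlock79.main hM h4 hexp J.2 hJ2 hone
  obtain ⟨-, hrank⟩ := KleinFourChars79.card_and_rank hM h4 hexp J.2 hJ2 hone
  obtain ⟨va, vb, vc⟩ := hval (J : Q) hJ2
  set θ : Fin 3 → IrrCharacter Q := ![a, b, c] with hθ
  set δ : Fin 3 → ℤ := ![1, ε, -1] with hδ
  have hrel' : ∀ w : Q, ¬ 2 ∣ orderOf w → 1 + ∑ i, (δ i : ℂ) * (θ i : Q → ℂ) w = 0 := by
    intro w hw
    have := hrel w (Nat.not_even_iff_odd.1 fun h => hw (even_iff_two_dvd.1 h))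
    simp [hθ, hδ, Fin.sum_univ_three]
    linear_combination this
  refine ⟨J, θ, δ, J.2, hJ2, ?_, ?_, ?_, ?_, ?_, hrel', ?_⟩
  · intro i
    fin_cases i
    · exact fun e => ha1 (by rw [show a = oneChar Q from e]; rfl)
    · exact fun e => hb1 (by rw [show b = oneChar Q from e]; rfl)
    · intro e
      rw [show c = oneChar Q from e, one_apply] at vc
      norm_num at vc
  · intro i j
    fin_cases i <;> fin_cases j <;> simp [hθ, hab, hac, hbc, hab.symm, hac.symm, hbc.symm]
  · intro φ
    rw [mem_blk, hB, Set.mem_setOf_eq]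
    simp only [Fin.exists_fin_succ, hθ]
    refine or_congr ⟨fun h => Subtype.ext h, fun h => by rw [h]; rfl⟩ ?_
    simp
  · intro i
    fin_cases i
    exacts [Or.inl rfl, hε, Or.inr rfl]
  · intro i
    fin_cases i
    · simpa [hθ, hδ] using va
    · simpa [hθ, hδ] using vb
    · simpa [hθ, hδ] using vc
  · intro a₀ ha₀
    let F : Fin 3 → (Q → ℂ) := fun i => (δ i : ℂ) • pRegularPart 2 (θ i : Q → ℂ)
    have hFw : ∀ i w, F i w = if ¬ 2 ∣ orderOf w then (δ i : ℂ) * (θ i : Q → ℂ) w else 0 := by
      intro i w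
      show (δ i : ℂ) * pRegularPart 2 (θ i : Q → ℂ) w = _
      by_cases hw : 2 ∣ orderOf w <;>
        simp only [pRegularPart, IsPRegular, hw, not_true_eq_false, not_false_eq_true, if_true,
          if_false, mul_zero]
    have hli : LinearIndependent ℂ F := by
      rw [linearIndependent_iff_card_le_finrank_span, Fintype.card_fin]
      have hrank' : 3 = blockRank 2 (principalBlock M Q) := hrank.symm
      refine le_trans hrank'.le (Submodule.finrank_mono (Submodule.span_le.2 ?_))
      rintro _ ⟨φ, hφ, rfl⟩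
      have hφ' : φ = oneChar Q ∨ ∃ i, φ = θ i := by
        rw [hB, Set.mem_setOf_eq] at hφ
        simp only [Fin.exists_fin_succ, hθ]
        rcases hφ with h | h | h | h
        · exact Or.inl (Subtype.ext h)
        all_goals (right; simp [h])
      rcases hφ' with rfl | ⟨i, rfl⟩
      · have e : pRegularPart 2 (oneChar Q : Q → ℂ) = -∑ i, F i := by
          funext w
          rw [Pi.neg_apply, Finset.sum_apply, Finset.sum_congr rfl fun i _ => hFw i w]
          simp only [pRegularPart, IsPRegular, one_apply]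
          by_cases hw : 2 ∣ orderOf w
          · simp [hw]
          · simp only [hw, not_false_eq_true, if_true]
            linear_combination hrel' w hw
        show pRegularPart 2 (oneChar Q : Q → ℂ) ∈ _
        rw [e]
        exact Submodule.neg_mem _
          (Submodule.sum_mem _ fun i _ => Submodule.subset_span (Set.mem_range_self i))
      · have e : pRegularPart 2 (θ i : Q → ℂ) = (δ i : ℂ) • F i := by
          have h1 : (δ i : ℂ) * (δ i : ℂ) = 1 := by
            fin_cases i
            · simp [hδ]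
            · rcases hε with rfl | rfl <;> simp [hδ]
            · simp [hδ]
          rw [show F i = (δ i : ℂ) • pRegularPart 2 (θ i : Q → ℂ) from rfl, smul_smul, h1, one_smul]
        show pRegularPart 2 (θ i : Q → ℂ) ∈ _
        rw [e]
        exact Submodule.smul_mem _ _ (Submodule.subset_span (Set.mem_range_self i))
    refine funext (Fintype.linearIndependent_iff.1 hli a₀ (funext fun w => ?_))
    simp only [Finset.sum_apply, Pi.smul_apply, smul_eq_mul, hFw, Pi.zero_apply]
    by_cases hw : 2 ∣ orderOf w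
    · simp [hw]
    · simpa [hw] using ha₀ w hw

/-! ### The decomposition on the section -/

section Sec

variable {G : Type u} [Group G] [Fintype G] {x t : G} {y : cen t} {k : ℂ}

/-- `t` as an element of its centraliser. -/
def tC (t : G) : cen t := ⟨t, mem_cen.2 (Commute.refl t)⟩

theorem tC_normal (t : G) : (Subgroup.zpowers (tC t)).Normal := ⟨fun z hz g => by
  obtain ⟨j, rfl⟩ := Subgroup.mem_zpowers_iff.1 hz
  have hc : Commute g (tC t) := Subtype.ext (mem_cen.1 g.2).eq.symm
  rw [(hc.zpow_right j).eq, mul_inv_cancel_right]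
  exact Subgroup.zpow_mem_zpowers _ _⟩

theorem tC_center (t : G) : tC t ∈ Subgroup.center (cen t) :=
  Subgroup.mem_center_iff.2 fun g => Subtype.ext (mem_cen.1 g.2).eq.symm

variable {μ : cen t →* ℂˣ} (hs : Split (tC t) μ) [(Subgroup.zpowers (tC t)).Normal]
include hs

/-- The coefficient of `θ` in the expansion of `χ` on the section of `t`. -/
theorem exists_coeff (χ : IrrCharacter G) (θ : IrrCharacter (cen t ⧸ Subgroup.zpowers (tC t))) :
    ∃ a b : ℕ, classInner (fun c : cen t => (χ : G → ℂ) (t * c))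
        (infl (Subgroup.zpowers (tC t)) θ : cen t → ℂ) = (a : ℂ) ∧
      classInner (fun c : cen t => (χ : G → ℂ) (t * c)) (tw hs θ : cen t → ℂ) = -(b : ℂ) ∧
      ((χ : G → ℂ) t = (χ : G → ℂ) 1 → b = 0) := by
  have hchar : IsCharacter (cen t) (fun c => (χ : G → ℂ) c) := by
    obtain ⟨n, ρ, -, hρ⟩ := χ.2
    exact ⟨n, ρ.comp (cen t).subtype, funext fun p => by rw [← hρ]; rfl⟩
  obtain ⟨a, ha⟩ := CharBasicOrth.classInner_isCharacter hchar
    (irr_isCharacter (infl (Subgroup.zpowers (tC t)) θ))
  obtain ⟨b, hb⟩ := CharBasicOrth.classInner_isCharacter hchar (irr_isCharacter (tw hs θ))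
  have htt : t * t = 1 := by
    have := hs.ord
    rw [← Subgroup.orderOf_coe] at this
    rw [← pow_two, ← show orderOf t = 2 from this, pow_orderOf_eq_one]
  have hmk : ∀ c : cen t, ((tC t * c : cen t) : cen t ⧸ Subgroup.zpowers (tC t)) = c := fun c => by
    rw [QuotientGroup.mk_mul, (QuotientGroup.eq_one_iff _).2 (Subgroup.mem_zpowers _), one_mul]
  refine ⟨a, b, ?_, ?_, fun hker => ?_⟩
  · rw [← ha, classInner, classInner]
    congr 1
    refine Fintype.sum_equiv (Equiv.mulLeft (tC t)) _ _ fun c => ?_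
    simp only [Equiv.coe_mulLeft, infl_apply, hmk]
    rfl
  · rw [← hb, classInner, classInner, ← mul_neg, ← Finset.sum_neg_distrib]
    congr 1
    refine Fintype.sum_equiv (Equiv.mulLeft (tC t)) _ _ fun c => ?_
    simp only [Equiv.coe_mulLeft, tw_apply, hmk, map_mul, Units.val_mul, hs.neg, map_neg, map_one]
    rw [show ((tC t * c : cen t) : G) = t * (c : G) from rfl]
    ring
  · have hz : (b : ℂ) = -(b : ℂ) := by
      rw [← hb, classInner, ← mul_neg, ← Finset.sum_neg_distrib]
      congr 1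
      refine Fintype.sum_equiv (Equiv.mulLeft (tC t)) _ _ fun c => ?_
      simp only [Equiv.coe_mulLeft, tw_apply, hmk, map_mul, Units.val_mul, hs.neg, map_neg, map_one]
      have e : (χ : G → ℂ) ((tC t * c : cen t) : G) = (χ : G → ℂ) c := by
        obtain ⟨n, ρ, -, hρ⟩ := χ.2
        show (χ : G → ℂ) (t * (c : G)) = (χ : G → ℂ) c
        rw [← hρ] at hker ⊢
        rw [Representation.char_one, CharBasic.character_eq_finrank_iff] at hker
        show LinearMap.trace ℂ _ (ρ (t * c)) = LinearMap.trace ℂ _ (ρ c)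
        rw [map_mul, hker]
        exact congrArg _ (one_mul _)
      rw [e]
      ring
    have h2 : (b : ℂ) = 0 := by linear_combination hz / 2
    exact_mod_cast h2

theorem apply_section (hM : IsPModular 2 M) (ht : ∃ j : ℕ, orderOf t = 2 ^ j)
    {χ : IrrCharacter G} (hχ : χ ∈ blk M G) {w : cen t} (hw : ¬ 2 ∣ orderOf w) :
    (χ : G → ℂ) (t * w) = ∑ θ ∈ blk M (cen t ⧸ Subgroup.zpowers (tC t)),
      (classInner (fun c : cen t => (χ : G → ℂ) (t * c)) (infl (Subgroup.zpowers (tC t)) θ : cen t → ℂ) +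
        classInner (fun c : cen t => (χ : G → ℂ) (t * c)) (tw hs θ : cen t → ℂ)) *
      (θ : cen t ⧸ Subgroup.zpowers (tC t) → ℂ) w := by
  haveI := Fact.mk Nat.prime_two
  set f : cen t → ℂ := fun c => (χ : G → ℂ) (t * c) with hf
  have hcl : IsClassFunction (cen t) f :=
    BlockContribSection.isClassFunction_section (fun _ => mem_cen) (irr_classFun χ)
  have h1 := congrFun (CharBasicOrth.eq_sum_classInner hcl) w
  rw [Finset.sum_apply] at h1
  simp only [Pi.smul_apply, smul_eq_mul] at h1
  have h2 := ZStarSection.section_blockPart hM ht χ w hw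
  have hiff : ∀ ψ : IrrCharacter (cen t),
      (ψ ∈ principalBlock M (cen t) ↔ χ ∈ principalBlock M G) ↔ ψ ∈ blk M (cen t) := fun ψ => by
    rw [iff_true_intro (mem_blk.1 hχ), iff_true, mem_blk]
  have h3 : ∑ ψ ∈ (blk M (cen t))ᶜ, classInner f (ψ : cen t → ℂ) * (ψ : cen t → ℂ) w = 0 := by
    refine Eq.trans ?_ h2
    rw [← Finset.sum_filter_add_sum_filter_not Finset.univ (fun ψ => ψ ∈ blk M (cen t))]
    rw [Finset.sum_eq_zero (s := Finset.univ.filter _) fun ψ hψ => by
      rw [if_pos ((hiff ψ).2 (Finset.mem_filter.1 hψ).2)], zero_add]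
    refine Finset.sum_congr (by ext; simp) fun ψ hψ => ?_
    rw [if_neg (fun h => (Finset.mem_filter.1 hψ).2 ((hiff ψ).1 h))]
  rw [← Finset.sum_add_sum_compl (blk M (cen t)), h3, add_zero, sum_blk hs hM] at h1
  refine h1.trans (Finset.sum_congr rfl fun θ _ => ?_)
  rw [tw_apply, infl_apply, mu_reg hs hw, Units.val_one]
  ring

end Sec

/-! ### The count -/

theorem zmod_two_sq : ∀ z : ZMod 2, z = z ^ 2 := by decide

theorem sum_neg_sq_le {ι : Type*} (s : Finset ι) (d : Fin 3 → ι → ℤ) (c : ι → ℤ)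
    (h : ∀ i ∈ s, -(∑ j, d j i ^ 2) ≤ c i) :
    -(∑ j, ∑ i ∈ s, d j i ^ 2) ≤ ∑ i ∈ s, c i := by
  rw [Finset.sum_comm, ← Finset.sum_neg_distrib]
  exact Finset.sum_le_sum h

theorem row_bound (a0 n0 n1 n2 : ℕ) (d0 d1 d2 c deg z : ℤ) (hd0 : d0 = n0 - a0) (hd1 : d1 = n1 - a0)
    (hd2 : d2 = n2 - a0) (h0 : -1 ≤ d0 ∧ d0 ≤ 1) (h1 : -1 ≤ d1 ∧ d1 ≤ 1) (h2 : -1 ≤ d2 ∧ d2 ≤ 1)
    (hdeg : deg = a0 + (n0 + n1 + n2)) (hc : deg - c = 8) (hb : -deg ≤ c)
    (hz : c = 5 * (d0 + d1 + d2) + 8 * z) (hzero : n0 = 0 ∨ n1 = 0 ∨ n2 = 0) :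
    -(d0 ^ 2 + d1 ^ 2 + d2 ^ 2) ≤ c := by
  have e : ∀ d : ℤ, -1 ≤ d → d ≤ 1 → (d = 0 ∧ d ^ 2 = 0) ∨ ((d = 1 ∨ d = -1) ∧ d ^ 2 = 1) := by
    intro d ha hb
    interval_cases d <;> simp
  have e0 := e d0 h0.1 h0.2
  have e1 := e d1 h1.1 h1.2
  have e2 := e d2 h2.1 h2.2
  omega

set_option maxHeartbeats 1000000 in
theorem no_nonsolvable {G : Type u} [Group G] [Fintype G] {x t : G} {y : cen t} {k : ℂ}
    (L : Loc M x t y k) (h8 : ∀ S : Sylow 2 G, Nat.card S = 8) (hns : ¬ Group.IsSolvable (cen t)) :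
    False := by
  haveI := Fact.mk Nat.prime_two
  have hM := L.hyp.modular
  obtain ⟨S, htS, hSC⟩ := ConstDiff2Solv.exists_sylow_le L
  set SC : Sylow 2 (cen t) := S.subtype hSC with hSCdef
  have hel := sylow_elementary L.hyp S
  have helC : Cfsg.IsElementaryAbelian 2 (SC : Subgroup (cen t)) := by
    refine ⟨⟨⟨fun a b => ?_⟩⟩, fun a ha => Subtype.ext (hel.2 _ ha)⟩
    refine Subtype.ext (Subtype.ext ?_)
    exact PGroupsBasic.comm_of_isMulCommutative hel.1 (show ((a.1 : cen t) : G) ∈ (S : Subgroup G) from a.2)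
      (show ((b.1 : cen t) : G) ∈ (S : Subgroup G) from b.2)
  have htC : orderOf (tC t) = 2 := by rw [← Subgroup.orderOf_coe]; exact L.ord
  obtain ⟨μ, hs⟩ := exists_split SC helC (t := tC t) htS htC (tC_center t)
  haveI := tC_normal t
  set π := QuotientGroup.mk' (Subgroup.zpowers (tC t)) with hπ
  set P := SC.mapSurjective (QuotientGroup.mk'_surjective (Subgroup.zpowers (tC t))) with hP
  have hPc : (P : Subgroup (cen t ⧸ Subgroup.zpowers (tC t))) = (SC : Subgroup (cen t)).map π :=
    Sylow.coe_mapSurjective _ _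
  have hkercard : Nat.card (Subgroup.zpowers (tC t)) = 2 := by rw [Nat.card_zpowers, htC]
  have h4 : Nat.card P = 4 := by
    have hle : Subgroup.zpowers (tC t) ≤ (SC : Subgroup (cen t)) := Subgroup.zpowers_le.2 htS
    let f := π.subgroupMap (SC : Subgroup (cen t))
    have h1 := (f.ker).card_mul_index
    rw [Subgroup.index_ker, MonoidHom.range_eq_top.2 (MonoidHom.subgroupMap_surjective π _),
      Subgroup.card_top] at h1
    have hk : Nat.card f.ker = 2 := by
      refine Eq.trans ?_ hkercard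
      exact Nat.card_congr
        { toFun := fun s => ⟨s.1, (QuotientGroup.eq_one_iff _).1
            (congrArg Subtype.val (MonoidHom.mem_ker.1 s.2))⟩
          invFun := fun r => ⟨⟨r, hle r.2⟩, MonoidHom.mem_ker.2
            (Subtype.ext ((QuotientGroup.eq_one_iff _).2 r.2))⟩
          left_inv := fun s => rfl
          right_inv := fun r => rfl }
    have hSC8 : Nat.card SC = 8 := by
      rw [← h8 S]; exact Nat.card_congr (Subgroup.subgroupOfEquivOfLe hSC).toEquiv
    rw [hk, hSC8] at h1
    rw [hPc]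
    omega
  have hexp : ∀ p : P, p * p = 1 := by
    intro p
    obtain ⟨s, hs', hp⟩ : (p : cen t ⧸ Subgroup.zpowers (tC t)) ∈ (SC : Subgroup (cen t)).map π :=
      hPc ▸ p.2
    refine Subtype.ext ?_
    show (p : cen t ⧸ Subgroup.zpowers (tC t)) * p = 1
    rw [← hp, ← map_mul, ← pow_two, helC.2 s hs', map_one]
  have hnsQ : ¬ Group.IsSolvable (cen t ⧸ Subgroup.zpowers (tC t)) := fun h =>
    hns (ConstDiff2Local.solvable_ext (Subgroup.zpowers (tC t)) inferInstance h)
  obtain ⟨J, θ, δ, hJP, K⟩ := exists_kdata hM P h4 hexp hnsQ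
  obtain ⟨j₀, hj₀S, hj₀⟩ : J ∈ (SC : Subgroup (cen t)).map π := hPc ▸ hJP
  -- regular elements of the quotient lift
  have hlift : ∀ w : cen t ⧸ Subgroup.zpowers (tC t), ¬ 2 ∣ orderOf w →
      ∃ w' : cen t, ¬ 2 ∣ orderOf w' ∧ (w' : cen t ⧸ Subgroup.zpowers (tC t)) = w := by
    intro w hw
    obtain ⟨g, rfl⟩ := QuotientGroup.mk_surjective w
    obtain ⟨z, hz, r, hr, rfl⟩ := BlockCentral81.exists_split_of_quot (p := 2) hw
    exact ⟨r, hr, by rw [QuotientGroup.mk_mul, (QuotientGroup.eq_one_iff z).2 hz, one_mul]⟩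
  have hregQ : ∀ w : cen t, ¬ 2 ∣ orderOf w →
      ¬ 2 ∣ orderOf (w : cen t ⧸ Subgroup.zpowers (tC t)) := fun w hw hd =>
    hw (hd.trans (orderOf_map_dvd π w))
  set F : Fin 3 → cen t → ℂ := fun i w =>
    (δ i : ℂ) * (θ i : cen t ⧸ Subgroup.zpowers (tC t) → ℂ) w with hF
  have hFrel : ∀ w : cen t, ¬ 2 ∣ orderOf w → 1 + ∑ i, F i w = 0 := fun w hw => K.rel _ (hregQ w hw)
  have hFind : ∀ a : Fin 3 → ℂ, (∀ w : cen t, ¬ 2 ∣ orderOf w → ∑ i, a i * F i w = 0) → a = 0 := by
    intro a ha
    refine K.indep a fun w hw => ?_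
    obtain ⟨w', hw', rfl⟩ := hlift w hw
    exact ha w' hw'
  have hsum : ∀ f : IrrCharacter (cen t ⧸ Subgroup.zpowers (tC t)) → ℂ,
      ∑ φ ∈ blk M (cen t ⧸ Subgroup.zpowers (tC t)), f φ = f (oneChar _) + ∑ i, f (θ i) := by
    intro f
    have e : blk M (cen t ⧸ Subgroup.zpowers (tC t)) = insert (oneChar _) (Finset.univ.image θ) := by
      ext φ
      rw [K.mem, Finset.mem_insert, Finset.mem_image]
      exact or_congr_right ⟨fun ⟨i, hi⟩ => ⟨i, Finset.mem_univ _, hi.symm⟩, fun ⟨i, _, hi⟩ => ⟨i, hi.symm⟩⟩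
    rw [e, Finset.sum_insert fun h => by
        obtain ⟨i, -, hi⟩ := Finset.mem_image.1 h
        exact K.ne i hi,
      Finset.sum_image fun i _ j _ h => K.inj h]
  have hδsq : ∀ i, (δ i : ℂ) * (δ i : ℂ) = 1 := fun i => by
    rcases K.sign i with h | h <;> simp [h]
  -- the integral coefficients
  choose a b hA hB hb0 using fun χ : IrrCharacter G => exists_coeff hs χ
  set n0 : IrrCharacter G → ℤ := fun χ => (a χ (oneChar _) : ℤ) - b χ (oneChar _) with hn0
  set ni : Fin 3 → IrrCharacter G → ℤ := fun i χ => (a χ (θ i) : ℤ) - b χ (θ i) with hni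
  set d : Fin 3 → IrrCharacter G → ℤ := fun i χ => ni i χ * δ i - n0 χ with hd
  have hexpand : ∀ χ ∈ blk M G, ∀ w : cen t, ¬ 2 ∣ orderOf w →
      (χ : G → ℂ) (t * w) = ∑ i, (d i χ : ℂ) * F i w := by
    intro χ hχ w hw
    rw [apply_section hs hM L.two_pow hχ hw, hsum]
    simp only [hA, hB, one_apply, hd, hn0, hni, hF]
    push_cast
    have h := hFrel w hw
    simp only [hF, Fin.sum_univ_three] at h ⊢
    have e0 := hδsq 0
    have e1 := hδsq 1
    have e2 := hδsq 2
    linear_combination ((a χ (oneChar _) : ℂ) - (b χ (oneChar _) : ℂ)) * h -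
      ((a χ (θ 0) : ℂ) - (b χ (θ 0) : ℂ)) * (θ 0 : cen t ⧸ Subgroup.zpowers (tC t) → ℂ) w * e0 -
      ((a χ (θ 1) : ℂ) - (b χ (θ 1) : ℂ)) * (θ 1 : cen t ⧸ Subgroup.zpowers (tC t) → ℂ) w * e1 -
      ((a χ (θ 2) : ℂ) - (b χ (θ 2) : ℂ)) * (θ 2 : cen t ⧸ Subgroup.zpowers (tC t) → ℂ) w * e2
  have hgamma : ∀ w w' : cen t, ¬ 2 ∣ orderOf w → ¬ 2 ∣ orderOf w' →
      ∑ ψ ∈ blk M (cen t), (ψ : cen t → ℂ) w * conj ((ψ : cen t → ℂ) w') =
        2 * (1 + ∑ i, F i w * conj (F i w')) := by
    intro w w' hw hw'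
    rw [sum_blk hs hM, hsum]
    simp only [infl_apply, tw_apply, mu_reg hs hw, mu_reg hs hw', Units.val_one, mul_one, one_apply,
      map_one, hF, map_mul, map_intCast]
    rw [mul_add, mul_one, Finset.mul_sum]
    congr 1
    · norm_num
    refine Finset.sum_congr rfl fun i _ => ?_
    linear_combination (-2 * (θ i : cen t ⧸ Subgroup.zpowers (tC t) → ℂ) (w : cen t ⧸ Subgroup.zpowers (tC t)) *
      conj ((θ i : cen t ⧸ Subgroup.zpowers (tC t) → ℂ) (w' : cen t ⧸ Subgroup.zpowers (tC t)))) * hδsq i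
  -- the Gram matrix
  set A : Fin 3 → Fin 3 → ℤ := fun i l =>
    ∑ χ ∈ blk M G, d i χ * d l χ - (if i = l then 4 else 2) with hAdef
  have hconjone : ∀ w' : cen t, ¬ 2 ∣ orderOf w' →
      conj (F 0 w') + conj (F 1 w') + conj (F 2 w') = -1 := by
    intro w' hw'
    have h := congrArg conj (hFrel w' hw')
    simp only [Fin.sum_univ_three, map_add, map_one, map_zero] at h
    linear_combination h
  have hA0 : ∀ i l, A i l = 0 := by
    have key : ∀ w' : cen t, ¬ 2 ∣ orderOf w' →
        (fun i => ∑ l, (A i l : ℂ) * conj (F l w')) = 0 := by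
      intro w' hw'
      refine hFind _ fun w hw => ?_
      have h := sec_orth hM L.two_pow hw hw'
      rw [hgamma w w' hw hw', Finset.sum_congr rfl fun χ hχ => by
        rw [hexpand χ hχ w hw, hexpand χ hχ w' hw']] at h
      have hexp2 : ∀ (f g : Fin 3 → ℂ), ∑ χ ∈ blk M G, (∑ i, (d i χ : ℂ) * f i) * conj (∑ i, (d i χ : ℂ) * g i) =
          ∑ i, ∑ l, ((∑ χ ∈ blk M G, d i χ * d l χ : ℤ) : ℂ) * (f i * conj (g l)) := by
        intro f g
        refine Eq.trans (Finset.sum_congr rfl fun χ _ => by rw [map_sum, Finset.sum_mul_sum]) ?_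
        rw [Finset.sum_comm]
        refine Finset.sum_congr rfl fun i _ => ?_
        rw [Finset.sum_comm]
        refine Finset.sum_congr rfl fun l _ => ?_
        rw [Int.cast_sum, Finset.sum_mul]
        refine Finset.sum_congr rfl fun χ _ => ?_
        rw [map_mul, map_intCast, Int.cast_mul]
        ring
      rw [hexp2 (fun i => F i w) (fun i => F i w')] at h
      simp only [Fin.sum_univ_three, hAdef, Int.cast_sub] at h ⊢
      simp only [Fin.isValue, reduceIte, Fin.reduceEq, Int.cast_ofNat]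
      have h1 := hconjone w' hw'
      have h2 := hFrel w hw
      simp only [Fin.sum_univ_three] at h2
      linear_combination h - 2 * (conj (F 0 w') + conj (F 1 w') + conj (F 2 w')) * h2 + 2 * h1
    intro i l
    have h1 : (fun l => (A i l : ℂ)) = 0 := by
      refine hFind _ fun w' hw' => ?_
      have h := congrArg conj (congrFun (key w' hw') i)
      simpa [map_sum, map_mul, Complex.conj_conj] using h
    have h2 := congrFun h1 l
    simp only [Pi.zero_apply] at h2
    exact_mod_cast h2
  -- values of the principal character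
  have hd1 : ∀ i, d i (oneChar G) = -1 := by
    have h : (fun i => (d i (oneChar G) : ℂ) + 1) = 0 := by
      refine hFind _ fun w hw => ?_
      have h1 := hexpand (oneChar G) (one_mem_blk hM) w hw
      rw [one_apply] at h1
      have h2 := hFrel w hw
      simp only [Fin.sum_univ_three] at h1 h2 ⊢
      linear_combination -h1 + h2
    intro i
    have h1 := congrFun h i
    simp only [Pi.zero_apply] at h1
    have h2 : d i (oneChar G) + 1 = 0 := by exact_mod_cast h1
    omega
  have hsq : ∀ i, ∑ χ ∈ nonpr M G, d i χ ^ 2 = 3 := by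
    intro i
    have h := hA0 i i
    simp only [hAdef, if_pos] at h
    rw [← Finset.add_sum_erase _ _ (one_mem_blk hM), hd1] at h
    have e : ∑ χ ∈ nonpr M G, d i χ ^ 2 = ∑ χ ∈ (blk M G).erase (oneChar G), d i χ * d i χ :=
      Finset.sum_congr rfl fun χ _ => pow_two _
    linarith
  set D : Fin 3 → ℤ := fun i => ∑ χ ∈ nonpr M G, d i χ with hD
  -- the values at `y`
  set gy : Fin 3 → ℂ := fun i => conj (F i y) with hgy
  have hg : ∀ i, gy i = 1 - 4 * (D i : ℂ) := by
    have h : (fun i => 8 * (D i : ℂ) + 2 * (gy i - 1)) = 0 := by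
      refine hFind _ fun w hw => ?_
      have h1 := L.key S hw
      rw [hgamma w y hw L.reg, h8 S,
        Finset.sum_congr rfl fun χ (hχ : χ ∈ nonpr M G) => hexpand χ (Finset.mem_of_mem_erase hχ) w hw] at h1
      have h2 := hFrel w hw
      simp only [Fin.sum_univ_three, hgy, hD] at h1 h2 ⊢
      simp only [Finset.sum_add_distrib, ← Finset.sum_mul] at h1
      push_cast at h1 ⊢
      linear_combination h1 - 2 * h2
    intro i
    have h1 := congrFun h i
    simp only [Pi.zero_apply] at h1
    linear_combination h1 / 2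
  have hsumD : D 0 + D 1 + D 2 = 1 := by
    have h := hconjone y L.reg
    change gy 0 + gy 1 + gy 2 = -1 at h
    rw [hg, hg, hg] at h
    have h' : ((D 0 + D 1 + D 2 : ℤ) : ℂ) = ((1 : ℤ) : ℂ) := by push_cast; linear_combination -h / 4
    exact_mod_cast h'
  have hDodd : ∀ i, Odd (D i) := by
    intro i
    have h : ((D i : ℤ) : ZMod 2) = ((3 : ℤ) : ZMod 2) := by
      rw [← hsq i, hD]
      push_cast
      exact Finset.sum_congr rfl fun χ _ => zmod_two_sq _
    rw [ZMod.intCast_eq_intCast_iff_dvd_sub] at h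
    rw [Int.odd_iff]
    omega
  -- the values `χ x`
  set cv : IrrCharacter G → ℤ := fun χ => ∑ i, d i χ * (1 - 4 * D i) with hcv
  have hcx : ∀ χ ∈ nonpr M G, (χ : G → ℂ) x = (cv χ : ℂ) := by
    intro χ hχ
    have hχB := Finset.mem_of_mem_erase hχ
    have h := congrArg conj (hexpand χ hχB y L.reg)
    rw [L.eq, L.real S hχB, map_sum] at h
    rw [h, hcv, Int.cast_sum]
    refine Finset.sum_congr rfl fun i _ => ?_
    rw [map_mul, map_intCast, show conj (F i y) = gy i from rfl, hg]
    push_cast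
    ring
  have hupper : ∑ χ ∈ nonpr M G, cv χ ≤ -11 := by
    have e : ∑ χ ∈ nonpr M G, cv χ = ∑ i, D i * (1 - 4 * D i) := by
      rw [hcv, Finset.sum_comm]
      exact Finset.sum_congr rfl fun i _ => by rw [hD, Finset.sum_mul]
    rw [e, Fin.sum_univ_three]
    have hsq1 : ∀ i, 1 ≤ D i * D i := fun i => by
      rcases lt_trichotomy (D i) 0 with h | h | h
      · nlinarith
      · exfalso
        have := hDodd i
        rw [h] at this
        simp at this
      · nlinarith
    nlinarith [hsq1 0, hsq1 1, hsq1 2, hsumD]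
  have hlower : ∀ χ ∈ nonpr M G, -(∑ i, d i χ ^ 2) ≤ cv χ := by
    intro χ hχ
    have hχB := Finset.mem_of_mem_erase hχ
    have hc := L.hyp.const χ hχ
    rw [hcx χ hχ, k_eq L.hyp S, h8 S, irr_apply_one χ] at hc
    have hdeg : (charDegree (χ : G → ℂ) : ℤ) - cv χ = 8 := by exact_mod_cast hc
    have hdpos := CharAverage.irr_degree_pos χ
    have hsqbd : ∀ i, d i χ ^ 2 ≤ 3 := fun i => by
      rw [← hsq i]
      exact Finset.single_le_sum (f := fun χ => d i χ ^ 2) (fun _ _ => sq_nonneg _) hχ
    have hrange : ∀ i, -1 ≤ d i χ ∧ d i χ ≤ 1 := fun i => by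
      constructor <;> nlinarith [hsqbd i]
    by_cases hker : (χ : G → ℂ) t = (χ : G → ℂ) 1
    · -- `t` in the kernel: only linear characters occur
      have hall : ∀ s : cen t, (s : cen t) ∈ (SC : Subgroup (cen t)) →
          (χ : G → ℂ) (s : G) = (χ : G → ℂ) 1 := by
        intro s hs'
        by_cases hs1 : (s : G) = 1
        · rw [hs1]
        obtain ⟨g, hg'⟩ := isConj_iff.1 (L.all (s : G) ⟨1, by
          rw [pow_one]; exact orderOf_eq_prime (hel.2 _ hs') hs1⟩ hs1)
        rw [← hg', irr_classFun χ, hker]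
      have hb' : ∀ φ, b χ φ = 0 := fun φ => hb0 χ φ hker
      have hvan : ∀ i, (θ i : cen t ⧸ Subgroup.zpowers (tC t) → ℂ) J ≠
          (θ i : cen t ⧸ Subgroup.zpowers (tC t) → ℂ) 1 → a χ (θ i) = 0 := by
        intro i hi
        -- compare with the translate by `j₀`
        have h1 := hA χ (θ i)
        have hinv : ∀ c : cen t, (χ : G → ℂ) (t * ((j₀ * c : cen t) : G)) = (χ : G → ℂ) (t * c) := by
          intro c
          obtain ⟨n, ρ, -, hρ⟩ := χ.2
          have hjk := hall j₀ hj₀S
          rw [← hρ] at hjk ⊢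
          rw [Representation.char_one, CharBasic.character_eq_finrank_iff] at hjk
          show LinearMap.trace ℂ _ (ρ (t * ((j₀ : G) * c))) = LinearMap.trace ℂ _ (ρ (t * c))
          rw [map_mul ρ t ((j₀ : G) * c), map_mul ρ (j₀ : G) (c : G), map_mul ρ t (c : G), hjk]
          exact congrArg (fun z => LinearMap.trace ℂ _ (ρ t * z)) (one_mul _)
        set Z := Subgroup.zpowers (tC t)
        set N := (CharKernel.irrKer χ).comap (cen t).subtype with hN
        haveI : (CharKernel.irrKer χ).Normal := CharKernel.irrKer_normal χ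
        haveI : N.Normal := Subgroup.Normal.comap inferInstance _
        have hjN : j₀ ∈ N := CharKernel.mem_irrKer.2 (hall j₀ hj₀S)
        -- expand through the quotient by `N`
        have hfN : ∀ c c' : cen t, (c : cen t ⧸ N) = c' → (χ : G → ℂ) (t * c) = (χ : G → ℂ) (t * c') := by
          intro c c' hcc
          rw [QuotientGroup.eq] at hcc
          obtain ⟨n, ρ, -, hρ⟩ := χ.2
          have hk := CharKernel.mem_irrKer.1 hcc
          rw [← hρ] at hk ⊢
          rw [Representation.char_one, CharBasic.character_eq_finrank_iff] at hk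
          have e : (c' : G) = (c : G) * ((c : G)⁻¹ * c') := by group
          show LinearMap.trace ℂ _ (ρ (t * c)) = LinearMap.trace ℂ _ (ρ (t * c'))
          rw [e, ← mul_assoc, map_mul ρ (t * c), show ρ ((c : G)⁻¹ * c') = 1 from hk, mul_one]
        by_contra hne
        -- a constituent trivial on `N`
        set φ := infl Z (θ i) with hφ
        haveI : Fintype (cen t ⧸ N) := Fintype.ofFinite _
        let f : cen t ⧸ N → ℂ := Quotient.lift (fun c : cen t => (χ : G → ℂ) (t * c))
          (fun c c' hcc => hfN c c' (Quotient.sound hcc))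
        have hf : IsClassFunction (cen t ⧸ N) f := by
          intro q r
          obtain ⟨c, rfl⟩ := QuotientGroup.mk_surjective q
          obtain ⟨e, rfl⟩ := QuotientGroup.mk_surjective r
          show (χ : G → ℂ) (t * ((e * c * e⁻¹ : cen t) : G)) = (χ : G → ℂ) (t * c)
          exact BlockContribSection.isClassFunction_section (fun _ => mem_cen) (irr_classFun χ) c e
        have hdec : (fun c : cen t => (χ : G → ℂ) (t * c)) =
            fun c => ∑ η : IrrCharacter (cen t ⧸ N), classInner f (η : _ → ℂ) *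
              (infl N η : cen t → ℂ) c := by
          funext c
          have := congrFun (CharBasicOrth.eq_sum_classInner hf) c
          rw [Finset.sum_apply] at this
          simp only [Pi.smul_apply, smul_eq_mul] at this
          simp only [infl_apply]
          exact this
        have hzero : classInner (fun c : cen t => (χ : G → ℂ) (t * c)) (φ : cen t → ℂ) = 0 := by
          rw [hdec, classInner, Finset.sum_congr rfl fun c _ => Finset.sum_mul _ _ _, Finset.sum_comm,
            Finset.mul_sum]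
          refine Finset.sum_eq_zero fun η _ => ?_
          have hneq : infl N η ≠ φ := by
            intro he
            have h2 : (φ : cen t → ℂ) j₀ = (φ : cen t → ℂ) 1 := by
              rw [← he, infl_apply, infl_apply, (QuotientGroup.eq_one_iff j₀).2 hjN, QuotientGroup.mk_one]
            rw [hφ, infl_apply, infl_apply, QuotientGroup.mk_one] at h2
            exact hi (hj₀ ▸ h2)
          have h3 := CharBasicOrth.classInner_irr_ne (infl N η).2 φ.2 fun e => hneq (Subtype.ext e)
          rw [classInner] at h3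
          rw [Finset.sum_congr rfl fun c _ => mul_assoc _ _ _, ← Finset.mul_sum, ← mul_assoc,
            mul_comm (Nat.card (cen t) : ℂ)⁻¹, mul_assoc, h3, mul_zero]
        rw [h1] at hzero
        exact hne (by exact_mod_cast hzero)
      have hn : ∀ i, ni i χ = (a χ (θ i) : ℤ) := fun i => by simp [hni, hb']
      have hn0' : n0 χ = (a χ (oneChar _) : ℤ) := by simp [hn0, hb']
      have hlin : ∀ i, a χ (θ i) ≠ 0 → δ i = 1 ∧
          (θ i : cen t ⧸ Subgroup.zpowers (tC t) → ℂ) 1 = 1 := by
        intro i hai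
        have h1 := Classical.byContradiction fun h => hai (hvan i h)
        rw [K.atJ] at h1
        rcases K.sign i with h | h
        · exact ⟨h, by rw [← h1, h]; simp⟩
        · exfalso
          rw [h, irr_apply_one (θ i)] at h1
          have := congrArg Complex.re h1
          simp at this
          linarith [Nat.cast_nonneg (α := ℝ) (charDegree (θ i : cen t ⧸ Subgroup.zpowers (tC t) → ℂ))]
      have hdval : ∀ i, d i χ = (a χ (θ i) : ℤ) - a χ (oneChar _) := by
        intro i
        simp only [hd, hn, hn0']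
        by_cases hai : a χ (θ i) = 0
        · simp [hai]
        · rw [(hlin i hai).1, mul_one]
      have hdegsum : charDegree (χ : G → ℂ) =
          a χ (oneChar _) + (a χ (θ 0) + a χ (θ 1) + a χ (θ 2)) := by
        have h1 := apply_section hs hM L.two_pow hχB (w := (1 : cen t)) (by simp)
        rw [OneMemClass.coe_one, mul_one, hker, irr_apply_one χ, hsum] at h1
        simp only [hA, hB, hb', Nat.cast_zero, neg_zero, add_zero, one_apply, mul_one,
          QuotientGroup.mk_one, Fin.sum_univ_three] at h1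
        have e : ∀ i, (a χ (θ i) : ℂ) * (θ i : cen t ⧸ Subgroup.zpowers (tC t) → ℂ) 1 =
            (a χ (θ i) : ℂ) := by
          intro i
          by_cases hai : a χ (θ i) = 0
          · simp [hai]
          · rw [(hlin i hai).2, mul_one]
        rw [e, e, e] at h1
        exact_mod_cast h1
      -- at least one of the three has no linear character
      obtain ⟨i₀, hi₀⟩ : ∃ i, a χ (θ i) = 0 := by
        by_contra hno
        push Not at hno
        have h1 := hFrel 1 (by simp)
        simp only [hF, QuotientGroup.mk_one, Fin.sum_univ_three, (hlin 0 (hno 0)).1, (hlin 0 (hno 0)).2,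
          (hlin 1 (hno 1)).1, (hlin 1 (hno 1)).2, (hlin 2 (hno 2)).1, (hlin 2 (hno 2)).2] at h1
        norm_num at h1
      have hcbound : -(charDegree (χ : G → ℂ) : ℤ) ≤ cv χ := by
        have h1 := irr_norm_le χ x
        rw [hcx χ hχ, Complex.norm_intCast] at h1
        have h2 : (|cv χ| : ℤ) ≤ (charDegree (χ : G → ℂ) : ℤ) := by exact_mod_cast h1
        linarith [neg_abs_le (cv χ)]
      have r0 := hrange 0
      have r1 := hrange 1
      have r2 := hrange 2
      have v0 := hdval 0
      have v1 := hdval 1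
      have v2 := hdval 2
      have hcv8 : ∃ z : ℤ, cv χ = 5 * (d 0 χ + d 1 χ + d 2 χ) + 8 * z := by
        obtain ⟨p0, hp0⟩ := hDodd 0
        obtain ⟨p1, hp1⟩ := hDodd 1
        obtain ⟨p2, hp2⟩ := hDodd 2
        refine ⟨-(d 0 χ * (p0 + 1) + d 1 χ * (p1 + 1) + d 2 χ * (p2 + 1)), ?_⟩
        simp only [hcv, Fin.sum_univ_three, hp0, hp1, hp2]
        ring
      obtain ⟨z, hz⟩ := hcv8
      simp only [Fin.sum_univ_three]
      refine row_bound (a χ (oneChar _)) (a χ (θ 0)) (a χ (θ 1)) (a χ (θ 2)) _ _ _ _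
        (charDegree (χ : G → ℂ) : ℤ) z v0 v1 v2 r0 r1 r2 (by exact_mod_cast hdegsum) hdeg hcbound hz ?_
      fin_cases i₀
      exacts [Or.inl hi₀, Or.inr (Or.inl hi₀), Or.inr (Or.inr hi₀)]
    · -- `t` outside the kernel
      have hge : -1 ≤ cv χ := by
        obtain ⟨z, hz⟩ := CharAverage.apply_involution_eq_int (irr_isCharacter χ)
          (show t * t = 1 by rw [← pow_two, ← L.ord, pow_orderOf_eq_one])
        obtain ⟨m, hm⟩ := CharBasicOrth.classInner_isCharacter (G := (S : Subgroup G))
          (χ := fun p => (χ : G → ℂ) p) (ψ := fun _ => 1)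
          (by obtain ⟨n, ρ, -, hρ⟩ := χ.2
              exact ⟨n, ρ.comp (S : Subgroup G).subtype, funext fun p => by rw [← hρ]; rfl⟩)
          CharBasicDecomp.isCharacter_one
        simp only [classInner, map_one, mul_one] at hm
        have hval : ∀ p ∈ (Finset.univ : Finset (S : Subgroup G)).erase 1,
            (χ : G → ℂ) (p : G) = (z : ℂ) := by
          intro p hp
          have hp1 : (p : G) ≠ 1 := fun h => (Finset.mem_erase.1 hp).1 (Subtype.ext h)
          obtain ⟨g, hg'⟩ := isConj_iff.1 (L.all (p : G)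
            ⟨1, by rw [pow_one]; exact orderOf_eq_prime (hel.2 _ p.2) hp1⟩ hp1)
          rw [← hg', irr_classFun χ, hz]
        rw [← Finset.add_sum_erase Finset.univ (fun p : (S : Subgroup G) => (χ : G → ℂ) p)
            (Finset.mem_univ 1),
          Finset.sum_congr rfl hval, Finset.sum_const, Finset.card_erase_of_mem (Finset.mem_univ 1),
          Finset.card_univ, OneMemClass.coe_one, irr_apply_one χ, nsmul_eq_mul,
          Nat.cast_sub (Fintype.card_pos), ← Nat.card_eq_fintype_card, h8 S, Nat.cast_one] at hm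
        have hm' : (charDegree (χ : G → ℂ) : ℤ) + 7 * z = 8 * (m : ℤ) := by
          have : (charDegree (χ : G → ℂ) : ℂ) + 7 * (z : ℂ) = 8 * (m : ℂ) := by
            push_cast at hm ⊢
            linear_combination 8 * hm
          exact_mod_cast this
        have hne : z ≠ (charDegree (χ : G → ℂ) : ℤ) := fun e => hker (by
          rw [hz, irr_apply_one χ, e, Int.cast_natCast])
        have hle : z ≤ (charDegree (χ : G → ℂ) : ℤ) := by
          have h1 := irr_norm_le χ t
          rw [hz, Complex.norm_intCast] at h1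
          have h2 : (|z| : ℤ) ≤ (charDegree (χ : G → ℂ) : ℤ) := by exact_mod_cast h1
          linarith [le_abs_self z]
        omega
      by_cases hz0 : ∀ i, d i χ = 0
      · simp [hcv, hz0]
      · push Not at hz0
        obtain ⟨i, hi⟩ := hz0
        have h1 : 1 ≤ d i χ ^ 2 := by
          rcases lt_trichotomy (d i χ) 0 with h | h | h
          · nlinarith
          · exact absurd h hi
          · nlinarith
        have h2 := Finset.single_le_sum (f := fun i => d i χ ^ 2) (fun _ _ => sq_nonneg _)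
          (Finset.mem_univ i)
        linarith
  have := sum_neg_sq_le (nonpr M G) d cv hlower
  rw [Finset.sum_congr rfl fun i _ => hsq i] at this
  simp at this
  linarith

end Cfsg.Agent.ConstDiff2Klein
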