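import Mathlib
import Cfsg.Agent.Lib.ConstDiff2Solv
import Cfsg.Agent.Lib.ConstDiff2Local
import Cfsg.Agent.Lib.ConstDiff2Klein
import Cfsg.Agent.Lib.ConstDiff2Conv

/-!
# Constant `χ 1 - χ u` on the principal 2-block
-/

set_option autoImplicit false
set_option linter.style.haveILetI false

namespace Cfsg.Agent.ConstDiff2Main

open Cfsg
open Cfsg.Agent.ConstDiff2Basic Cfsg.Agent.ConstDiff2Section
open Cfsg.Agent.BlockPrincipal81 (oneChar)

universe u

/-- Trivial odd core: order two or `PSL(2, 2 ^ n)`, and the element is an involution. -/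
theorem forward {G : Type u} [Group G] [Fintype G] {M : Ideal AlgInt} {x : G} {k : ℂ}
    (h : Hyp M x k) :
    (Nat.card G = 2 ∨ ∃ (F : Type) (_ : Field F) (_ : Fintype F) (n : ℕ),
      2 ≤ n ∧ Fintype.card F = 2 ^ n ∧
        Nonempty (G ≃* Matrix.ProjectiveSpecialLinearGroup (Fin 2) F)) ∧ x ^ 2 = 1 := by
  haveI := Fact.mk Nat.prime_two
  obtain ⟨t, y, L⟩ := exists_loc h
  obtain ⟨S, htS, -⟩ := ConstDiff2Solv.exists_sylow_le L
  obtain ⟨n, hn⟩ := IsPGroup.iff_card.1 S.isPGroup'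
  have hone : ∀ a b : G, orderOf a = 2 → orderOf b = 2 → IsConj a b := fun a b ha hb =>
    (L.all a ⟨1, by rw [ha, pow_one]⟩ (fun e => by simp [e] at ha)).symm.trans
      (L.all b ⟨1, by rw [hb, pow_one]⟩ (fun e => by simp [e] at hb))
  have ht1 : t ≠ 1 := fun e => by
    have := L.ord
    rw [e, orderOf_one] at this
    omega
  rcases ConstDiff2Local.isPSolvable_or_rank_three S (sylow_elementary h S) hone htS ht1 hn with
    hps | h3
  · exact ConstDiff2Solv.conclusion L hps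
  · by_cases hsol : Group.IsSolvable (cen t)
    · haveI := hsol
      exact ConstDiff2Solv.conclusion L (HallSolvable.isPSolvable_of_solvable 2)
    · refine (ConstDiff2Klein.no_nonsolvable L (fun T => ?_) hsol).elim
      have hc : Nat.card T = Nat.card S := by rw [T.card_eq_multiplicity, S.card_eq_multiplicity]
      rw [hc, hn, h3]
      norm_num

theorem main {G : Type u} [Group G] [Finite G] (M : Ideal AlgInt) (hM : IsPModular 2 M) (g : G) :
    (∃ k : ℂ, ∀ χ : IrrCharacter G, χ ∈ principalBlock M G → (χ : G → ℂ) ≠ (fun _ => 1) →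
        (χ : G → ℂ) 1 - (χ : G → ℂ) g = k) ↔
      (g ∈ oddCore G ∨ (Nat.card (G ⧸ oddCore G) = 2 ∧ g ∉ oddCore G) ∨
        (∃ (F : Type) (_ : Field F) (_ : Fintype F) (n : ℕ), 2 ≤ n ∧ Fintype.card F = 2 ^ n ∧
          Nonempty (G ⧸ oddCore G ≃* Matrix.ProjectiveSpecialLinearGroup (Fin 2) F) ∧
          g ∉ oddCore G ∧ g ^ 2 ∈ oddCore G)) := by
  classical
  haveI := Fact.mk Nat.prime_two
  haveI := Fintype.ofFinite G
  haveI : (oddCore G).Normal := HallCore.pPrimeCore_normal 2 G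
  have hodd : ¬ 2 ∣ Nat.card (oddCore G) := HallCore.not_dvd_card_pPrimeCore 2 G
  -- transfer to the quotient
  have hbase : ∀ k : ℂ,
      (∀ χ : IrrCharacter G, χ ∈ principalBlock M G → (χ : G → ℂ) ≠ (fun _ => 1) →
        (χ : G → ℂ) 1 - (χ : G → ℂ) g = k) ↔
      (∀ ψ : IrrCharacter (G ⧸ oddCore G), ψ ∈ principalBlock M (G ⧸ oddCore G) →
        (ψ : G ⧸ oddCore G → ℂ) ≠ (fun _ => 1) →
        (ψ : G ⧸ oddCore G → ℂ) 1 - (ψ : G ⧸ oddCore G → ℂ) (g : G ⧸ oddCore G) = k) := by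
    intro k
    refine ⟨fun h ψ hψ hne => ?_, fun h χ hχ hne => ?_⟩
    · have := h (PrincipalQuot80.infl (oddCore G) ψ) (PrincipalQuot80.infl_mem _ hM hψ)
        (fun e => hne (funext fun a => by
          obtain ⟨b, rfl⟩ := QuotientGroup.mk_surjective a
          exact congrFun e b))
      simpa [PrincipalQuot80.infl_apply] using this
    · obtain ⟨ψ, hψ, rfl⟩ := PrincipalQuot80.exists_infl_eq (oddCore G) hM hodd hχ
      have := h ψ hψ (fun e => hne (funext fun a => congrFun e _))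
      simpa [PrincipalQuot80.infl_apply] using this
  constructor
  · rintro ⟨k, hk⟩
    by_cases hg : g ∈ oddCore G
    · exact Or.inl hg
    refine Or.inr ?_
    haveI : Fintype (G ⧸ oddCore G) := Fintype.ofFinite _
    have hH : Hyp M (g : G ⧸ oddCore G) k := by
      refine ⟨hM, HallCore.pPrimeCore_quotient_self 2 G, fun e => hg ((QuotientGroup.eq_one_iff g).1 e),
        fun ψ hψ => ?_⟩
      refine (hbase k).1 hk ψ (mem_blk.1 (Finset.mem_of_mem_erase hψ)) fun e => ?_
      exact (Finset.mem_erase.1 hψ).1 (Subtype.ext e)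
    obtain ⟨h1, h2⟩ := forward hH
    rw [← QuotientGroup.mk_pow, QuotientGroup.eq_one_iff] at h2
    rcases h1 with h1 | ⟨F, hF, hFf, n, hn, hcard, he⟩
    · exact Or.inl ⟨h1, hg⟩
    · exact Or.inr ⟨F, hF, hFf, n, hn, hcard, he, hg, h2⟩
  · rintro (hg | ⟨h2, hg⟩ | ⟨F, hF, hFf, n, hn, hcard, ⟨e⟩, hg, hg2⟩)
    · exact ⟨0, (hbase 0).2 fun ψ _ _ => by
        rw [(QuotientGroup.eq_one_iff g).2 hg, sub_self]⟩
    · exact ⟨2, (hbase 2).2 fun ψ _ hne => ConstDiff2Conv.degree_sub_value_two h2 ψ hne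
        fun e1 => hg ((QuotientGroup.eq_one_iff g).1 e1)⟩
    · haveI : CharP F 2 := charP_of_card_eq_prime_pow (R := F) (p := 2) (f := n) hcard
      refine ⟨(Fintype.card F : ℂ), (hbase _).2 fun ψ _ hne =>
        ConstDiff2Conv.degree_sub_value_of_iso e ψ hne ?_ fun e1 => hg ((QuotientGroup.eq_one_iff g).1 e1)⟩
      rw [← QuotientGroup.mk_mul, QuotientGroup.eq_one_iff, ← pow_two]
      exact hg2

end Cfsg.Agent.ConstDiff2Main
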