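import Cfsg.Agent.Lib.ConwayFiveSide30

/-!
# The centraliser of the Hall–Janko group
-/

set_option autoImplicit false
set_option linter.style.haveILetI false
set_option linter.unusedSectionVars false

namespace Cfsg.Agent.ConwayFiveCent30

open Subgroup
open Cfsg.Agent.ConwayTypeModel62 Cfsg.Agent.ConwayTypeCoord62 Cfsg.Agent.ConwayTypeRadical62
open Cfsg.Agent.ConwayFiveFacts30 Cfsg.Agent.ConwayFiveStd30 Cfsg.Agent.ConwayFivePts30
open Cfsg.Agent.ConwayFiveHyp30 Cfsg.Agent.ConwayFiveLocal30 Cfsg.Agent.ConwayFiveSide30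
open Cfsg.Agent.ConwayFiveFlip30

variable {G : Type*} [Group G] [Finite G]

/-- The centraliser of `z` and the fixed group. -/
def KK (Q : Subgroup G) (z b : G) : Subgroup G :=
  centralizer ({z} : Set G) ⊓ centralizer (Rb Q b : Set G)

theorem mem_KK {Q : Subgroup G} {z b k : G} :
    k ∈ KK Q z b ↔ k * z = z * k ∧ ∀ r ∈ Rb Q b, k * r = r * k := by
  rw [KK, mem_inf, mem_centralizer_singleton_iff]
  simp only [mem_centralizer_iff, SetLike.mem_coe]
  exact and_congr_right fun _ => forall₂_congr fun _ _ => eq_comm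

/-- The five low points. -/
noncomputable def lowPerm : Equiv.Perm (Fin 5) →* P8 :=
  (Equiv.Perm.ofSubtype (p := fun i : Fin 8 => i.val < 5)).comp
    (Equiv.permCongrHom
      ({ toFun := fun i => ⟨⟨i.val, by omega⟩, i.isLt⟩
         invFun := fun i => ⟨i.1.val, i.2⟩
         left_inv := fun _ => rfl
         right_inv := fun _ => rfl } : Fin 5 ≃ {i : Fin 8 // i.val < 5})).toMonoidHom

theorem lowPerm_injective : Function.Injective lowPerm :=
  Equiv.Perm.ofSubtype_injective.comp (MulEquiv.injective _)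

/-- The even permutations of the low points. -/
noncomputable def low : Subgroup P8 := (alternatingGroup (Fin 5)).map lowPerm

theorem card_low : Nat.card low = 60 := by
  rw [low, Subgroup.card_map_of_injective lowPerm_injective, nat_card_alternatingGroup]
  simp [Nat.factorial]

theorem mem_low {σ : P8} (hs : Equiv.Perm.sign σ = 1) (h5 : σ 5 = 5) (h6 : σ 6 = 6) (h7 : σ 7 = 7) :
    σ ∈ low := by
  have hhigh : ∀ i : Fin 8, ¬ i.val < 5 → σ i = i := by
    intro i hi
    obtain rfl | rfl | rfl : i = 5 ∨ i = 6 ∨ i = 7 := by omega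
    exacts [h5, h6, h7]
  have hiff : ∀ i : Fin 8, (σ i).val < 5 ↔ i.val < 5 := by
    intro i
    by_cases hi : i.val < 5
    · refine iff_of_true (by_contra fun h => ?_) hi
      exact h (by rw [σ.injective (hhigh _ h)]; exact hi)
    · rw [hhigh i hi]
  let e : Fin 5 ≃ {i : Fin 8 // i.val < 5} :=
    { toFun := fun i => ⟨⟨i.val, by omega⟩, i.isLt⟩
      invFun := fun i => ⟨i.1.val, i.2⟩
      left_inv := fun _ => rfl
      right_inv := fun _ => rfl }
  obtain ⟨π, hπ⟩ := (Equiv.permCongrHom e).surjective (σ.subtypePerm hiff)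
  have hlow : lowPerm π = σ := by
    show Equiv.Perm.ofSubtype (Equiv.permCongrHom e π) = σ
    rw [hπ]
    exact Equiv.Perm.ofSubtype_subtypePerm hiff fun x hx => by_contra fun h => hx (hhigh x h)
  refine ⟨π, Equiv.Perm.mem_alternatingGroup.mpr ?_, hlow⟩
  rw [← hlow] at hs
  have : Equiv.Perm.sign (lowPerm π) = Equiv.Perm.sign π := by
    show Equiv.Perm.sign (Equiv.Perm.ofSubtype (Equiv.permCongrHom e π)) = _
    rw [Equiv.Perm.sign_ofSubtype]
    exact Equiv.Perm.sign_permCongr e π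
  rwa [this] at hs

theorem low_iso : Nonempty (low ≃* alternatingGroup (Fin 5)) :=
  ⟨(Subgroup.equivMapOfInjective _ lowPerm lowPerm_injective).symm⟩

variable {Q Q' : Subgroup G} {z t : G} {ν : G → M6} {d : G} {ρ : ↥(Sx z t) →* P8}
  {b : ↥(Sx z t)} (S : Std Q Q' z t ν d ρ b)
include S

theorem KK_Sx {k : G} (hk : k ∈ KK Q z (b : G)) : k ∈ Sx z t :=
  mem_Sx.mpr ⟨(mem_KK.mp hk).1, (mem_KK.mp hk).2 t (t_Rb S)⟩

/-- Centraliser of `Q`. -/
theorem central_Q {c : G} (h1 : ∀ r ∈ Rb Q (b : G), c * r = r * c)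
    (h2 : ∀ w ∈ Rp Q (b : G), c * w = w * c) : c = 1 ∨ c = z := by
  refine S.D.H.h.cent c fun x hx => ?_
  obtain ⟨r, hr, w, hw, rfl⟩ := exists_decomp S hx
  exact ((show Commute c r from h1 r hr).mul_right (h2 w hw)).eq

theorem KK_Rp {k x : G} (hk : k ∈ KK Q z (b : G)) (hx : x ∈ Rp Q (b : G)) :
    k * x * k⁻¹ ∈ Rp Q (b : G) := by
  obtain ⟨hkz, hkr⟩ := mem_KK.mp hk
  refine mem_Rp.mpr ⟨S.D.H.h.norm k hkz x (mem_Rp.mp hx).1, fun r hr => ?_⟩
  have h1 : Commute k r := hkr r hr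
  exact ((h1.mul_left ((mem_Rp.mp hx).2 r hr)).mul_left h1.inv_left).eq

theorem KK_H1 {k h : G} (hk : k ∈ KK Q z (b : G)) (hh : h ∈ H1 z (b : G)) : k * h = h * k := by
  classical
  have key : ∀ g ∈ H1 z (b : G), g * k * g⁻¹ * k⁻¹ = 1 ∨ g * k * g⁻¹ * k⁻¹ = z := by
    intro g hg
    refine central_Q S (fun r hr => ?_) fun w hw => ?_
    · have hr' : g⁻¹ * r * g ∈ Rb Q (b : G) := by
        have := Rb_conj S (inv_mem (H1_le_HH hg)) hr
        rwa [inv_inv] at this
      have e2 := (mem_KK.mp hk).2 _ hr'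
      have e3 : g * k * g⁻¹ * r = r * (g * k * g⁻¹) := by
        calc g * k * g⁻¹ * r = g * (k * (g⁻¹ * r * g)) * g⁻¹ := by group
          _ = g * (g⁻¹ * r * g * k) * g⁻¹ := by rw [e2]
          _ = r * (g * k * g⁻¹) := by group
      exact ((show Commute (g * k * g⁻¹) r from e3).mul_left
        (show Commute k r from (mem_KK.mp hk).2 r hr).inv_left).eq
    · have hx : k⁻¹ * w * k ∈ Rp Q (b : G) := by
        have := KK_Rp S (inv_mem hk) hw
        rwa [inv_inv] at this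
      have hgi : g⁻¹ * (k⁻¹ * w * k) * g = k⁻¹ * w * k := by
        rw [mul_assoc, ← H1_Rp S hg hx, inv_mul_cancel_left]
      refine mul_inv_eq_iff_eq_mul.mp ?_
      calc g * k * g⁻¹ * k⁻¹ * w * (g * k * g⁻¹ * k⁻¹)⁻¹
          = g * (k * (g⁻¹ * (k⁻¹ * w * k) * g) * k⁻¹) * g⁻¹ := by group
        _ = g * w * g⁻¹ := by rw [hgi]; group
        _ = w := by rw [H1_Rp S hg hw, mul_inv_cancel_right]
  let χ : ↥(H1 z (b : G)) →* G := MonoidHom.mk' (fun g => (g : G) * k * (g : G)⁻¹ * k⁻¹) fun g g' => by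
    have hgz : (g : G) * z = z * g := (mem_HH.mp (H1_le_HH g.2)).1
    simp only [Subgroup.coe_mul]
    rw [show (g : G) * g' * k * ((g : G) * g')⁻¹ * k⁻¹ =
      g * ((g' : G) * k * (g' : G)⁻¹ * k⁻¹) * (g : G)⁻¹ * ((g : G) * k * (g : G)⁻¹ * k⁻¹) by group]
    rcases key g' g'.2 with e | e <;> rw [e]
    · group
    · rw [hgz, mul_inv_cancel_right]
      rcases key g g.2 with e' | e' <;> rw [e']
      · rw [mul_one, one_mul]
  have hχ := hom_trivial S χ (by
    have hle : χ.range ≤ zpowers z := by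
      rintro _ ⟨g, rfl⟩
      show (g : G) * k * (g : G)⁻¹ * k⁻¹ ∈ zpowers z
      rcases key g g.2 with e | e <;> rw [e]
      exacts [one_mem _, mem_zpowers z]
    have := Nat.card_le_card_of_injective _ (Subgroup.inclusion_injective hle)
    rw [Nat.card_zpowers, S.D.H.h.orderOf_z] at this
    omega) ⟨h, hh⟩
  exact (mul_inv_eq_iff_eq_mul.mp (mul_inv_eq_one.mp hχ)).symm

theorem card_KK : 1920 ≤ Nat.card ↥(KK Q z (b : G)) := by
  classical
  haveI : Fact (Nat.Prime 5) := ⟨by norm_num⟩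
  obtain ⟨c, hc⟩ := exists_prime_orderOf_dvd_card' (G := ↥(H1 z (b : G))) 5
    (by rw [card_H1 S]; norm_num)
  obtain ⟨w, hw, hww, hw1, hwz⟩ := exists_invol S
  obtain ⟨g', hg'⟩ := exists_flip S
  obtain ⟨hwQ, -⟩ := mem_Rp.mp hw
  obtain ⟨c₁, hc₁z, hc₁⟩ := S.D.H.transitive S.D.sing
    (show Sing Q z w from ⟨hwQ, hww, hw1, hwz⟩)
  have hconj : c₁ * g' * z * (c₁ * g')⁻¹ = w := by
    calc c₁ * g' * z * (c₁ * g')⁻¹ = c₁ * (g' * z * g'⁻¹) * c₁⁻¹ := by group
      _ = w := by rw [hg'.gz, hc₁]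
  obtain ⟨ν₁, d₁, ρ₁, D₁⟩ := ConwayTypeRadical62.exists_ctx S.D.H (g := c₁ * g')
    (by rw [hconj]; exact hwQ) (by rw [hconj]; exact hwz)
  revert ρ₁ D₁
  rw [hconj]
  intro ρ₁ D₁
  have hcS : (c : G) ∈ Sx z w := mem_Sx.mpr ⟨(mem_HH.mp (H1_le_HH c.2)).1, H1_Rp S c.2 hw⟩
  obtain ⟨ν₂, d₂, ρ₂, S₂⟩ := exists_std D₁ ⟨(c : G), hcS⟩ (by
    rw [← Subgroup.orderOf_coe]
    exact (Subgroup.orderOf_coe c).trans hc)
  have hRb : Rp Q (b : G) = Rb Q (c : G) := by
    refine Subgroup.eq_of_le_of_card_ge (fun x hx => mem_Rb.mpr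
      ⟨(mem_Rp.mp hx).1, (H1_Rp S c.2 hx).symm⟩) ?_
    rw [card_Rp S, ConwayFiveQuot30.card_Rb S₂]
  have hle : H1 z (c : G) ≤ KK Q z (b : G) := fun h hh => by
    refine mem_KK.mpr ⟨(mem_HH.mp (H1_le_HH hh)).1, fun r hr => H1_Rp S₂ hh (mem_Rp.mpr
      ⟨(mem_Rb.mp hr).1, fun x hx => ?_⟩)⟩
    rw [← hRb] at hx
    exact ((mem_Rp.mp hx).2 r hr).symm
  rw [← card_H1 S₂]
  exact Nat.card_le_card_of_injective _ (Subgroup.inclusion_injective hle)

/-- The group containing both centralisers. -/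
abbrev YY (Q : Subgroup G) (z t b : G) : Subgroup G :=
  Sx z t ⊓ centralizer ((Cx Q t ⊓ centralizer ({b} : Set G) : Subgroup G) : Set G)

theorem rho_low (c : ↥(Sx z t))
    (hc : ∀ a, a ∈ Cx Q t → a * (b : G) = b * a → (c : G) * a = a * c) : ρ c ∈ low := by
  have hfix : ∀ i, act (ρ c) (fx i) = fx i := fun i => by
    obtain ⟨a, ha, hab, e⟩ := exists_fx S i
    rw [← e, S.D.hρ c a ha, hc a ha hab, mul_inv_cancel_right]
  obtain ⟨h5, h6, h7⟩ := fix_points hfix
  exact mem_low (S.D.sign_rho c) h5 h6 h7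

theorem card_YY : Nat.card ↥(YY Q z t (b : G)) ≤ 61440 := by
  classical
  let ψ : ↥(YY Q z t (b : G)) →* P8 := ρ.comp (Subgroup.inclusion inf_le_left)
  have hY : ∀ c : ↥(YY Q z t (b : G)), ∀ a, a ∈ Cx Q t → a * (b : G) = b * a →
      (c : G) * a = a * c := fun c a ha hab => (mem_centralizer_iff.mp c.2.2 a
        ⟨ha, mem_centralizer_singleton_iff.mpr hab⟩).symm
  have hr : Nat.card ψ.range ≤ 60 := by
    rw [← card_low]
    refine Nat.card_le_card_of_injective _ (Subgroup.inclusion_injective ?_)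
    rintro _ ⟨c, rfl⟩
    exact rho_low S _ (hY c)
  have hR : ∀ c : ψ.ker, ((c : ↥(YY Q z t (b : G))) : G) ∈ S.D.P.R := fun c =>
    S.D.rho_R.mp (MonoidHom.mem_ker.mp c.2)
  let T := (Finset.univ.filter fun v : M6 => B v (fx 1) = 0 ∧ B v (fx 2) = 0)
  have hperp : ∀ c : ψ.ker, (S.D.cd (c : ↥(YY Q z t (b : G)))).1 ∈ T ∧
      (S.D.cd (c : ↥(YY Q z t (b : G)))).2 ∈ T := by
    intro c
    have key : ∀ i, B (S.D.cd (c : ↥(YY Q z t (b : G)))).1 (fx i) = 0 ∧
        B (S.D.cd (c : ↥(YY Q z t (b : G)))).2 (fx i) = 0 := by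
      intro i
      obtain ⟨a, ha, hab, e⟩ := exists_fx S i
      have h := S.D.cd_comm (hR c) (S.D.Cx_le_R ha)
      rw [hY c a ha hab, mul_inv_cancel_right, mul_inv_cancel] at h
      have hcd : S.D.cd a = (fx i, 0) := by
        have h2 := S.D.cd_eq ha (one_mem (Cx Q' z))
        rw [mul_one, e, S.D.ev_one] at h2
        exact h2
      rw [hcd] at h
      have h0 := S.D.vv_inj (h.symm.trans (vv_zero z t).symm)
      simp only [cm, Prod.ext_iff, Prod.fst_zero, Prod.snd_zero, B_zero_right, zero_add,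
        add_zero] at h0
      obtain ⟨h1, h2⟩ := h0
      rw [h2, add_zero] at h1
      exact ⟨h1, (B_comm _ _).trans h2⟩
    exact ⟨Finset.mem_filter.mpr ⟨Finset.mem_univ _, (key 1).1, (key 2).1⟩,
      Finset.mem_filter.mpr ⟨Finset.mem_univ _, (key 1).2, (key 2).2⟩⟩
  let χ : ψ.ker →* Multiplicative (M6 × M6) :=
    MonoidHom.mk' (fun c => Multiplicative.ofAdd (S.D.cd (c : ↥(YY Q z t (b : G))))) fun c c' => by
      rw [← ofAdd_add, ← S.D.cd_mul (hR c) (hR c')]; rfl
  have hχr : Nat.card χ.range ≤ 256 := by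
    refine le_trans (Nat.card_le_card_of_injective
      (fun w : χ.range => (⟨Multiplicative.toAdd (w : Multiplicative (M6 × M6)), ?_⟩ : {p : M6 × M6 // p.1 ∈ T ∧ p.2 ∈ T}))
      fun u v e => Subtype.ext (Multiplicative.toAdd.injective
        (congrArg (fun p : {p : M6 × M6 // p.1 ∈ T ∧ p.2 ∈ T} => p.1) e))) ?_
    · obtain ⟨c, hc⟩ := w.2
      rw [← hc]
      exact hperp c
    · rw [Nat.card_congr (Equiv.subtypeProdEquivProd (p := fun v => v ∈ T) (q := fun v => v ∈ T)),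
        Nat.card_prod, Nat.card_eq_finsetCard, show T.card = 16 from perp_card]
  have hχk : Nat.card χ.ker ≤ 4 := by
    rw [← S.D.card_V]
    refine Nat.card_le_card_of_injective (fun c => (⟨((c : ψ.ker) : ↥(YY Q z t (b : G))),
      (S.D.cd_zero (hR c.1)).mp (congrArg Multiplicative.toAdd c.2)⟩ : ↥S.D.P.V)) fun u v e => ?_
    exact Subtype.ext (Subtype.ext (Subtype.ext (congrArg (fun w : ↥S.D.P.V => (w : G)) e)))
  have h1 := Subgroup.card_mul_index ψ.ker
  have h2 := Subgroup.card_mul_index χ.ker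
  rw [Subgroup.index_ker] at h1 h2
  rw [← h1, ← h2]
  calc _ ≤ 4 * 256 * 60 := Nat.mul_le_mul (Nat.mul_le_mul hχk hχr) hr
    _ = 61440 := by norm_num

theorem KK_le_YY : KK Q z (b : G) ≤ YY Q z t (b : G) := fun k hk =>
  ⟨KK_Sx S hk, mem_centralizer_iff.mpr fun a ha => ((mem_KK.mp hk).2 a
    (mem_Rb.mpr ⟨(mem_Cx.mp ha.1).1, mem_centralizer_singleton_iff.mp ha.2⟩)).symm⟩

variable {g : G} (F : Flip Q Q' z t (b : G) g)
include F

/-- The conjugate by the element exchanging `z` and `t`. -/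
theorem KKt_le_YY : (KK Q z (b : G)).map (MulAut.conj g).toMonoidHom ≤ YY Q z t (b : G) := by
  rintro _ ⟨k, hk, rfl⟩
  simp only [MulEquiv.coe_toMonoidHom, MulAut.conj_apply]
  obtain ⟨hkz, hkt⟩ := mem_Sx.mp (KK_Sx S hk)
  refine ⟨mem_Sx.mpr ⟨?_, ?_⟩, mem_centralizer_iff.mpr fun a ha => ?_⟩
  · rw [← F.gt]
    calc g * k * g⁻¹ * (g * t * g⁻¹) = g * (k * t) * g⁻¹ := by group
      _ = g * (t * k) * g⁻¹ := by rw [hkt]
      _ = _ := by group
  · rw [← F.gz]
    calc g * k * g⁻¹ * (g * z * g⁻¹) = g * (k * z) * g⁻¹ := by group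
      _ = g * (z * k) * g⁻¹ := by rw [hkz]
      _ = _ := by group
  · obtain ⟨haC, hab⟩ := ha
    obtain ⟨haQ, hat⟩ := mem_Cx.mp haC
    have hab' : a * (b : G) = b * a := mem_centralizer_singleton_iff.mp hab
    set a' := g⁻¹ * a * g with ha'
    have hb' : a' * (b : G) = b * a' :=
      (((show Commute g (b : G) from F.gb).inv_left.mul_left hab').mul_left F.gb).eq
    have hz' : a' * z = z * a' := by
      calc a' * z = g⁻¹ * (a * (g * z * g⁻¹)) * g := by rw [ha']; group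
        _ = g⁻¹ * (g * z * g⁻¹ * a) * g := by rw [F.gz, hat]
        _ = z * a' := by rw [ha']; group
    have h4 : a' ^ 2 ^ 2 = 1 := by
      have ha4 : a * a * (a * a) = 1 := by
        rcases S.D.H.h.sq a haQ with e | e <;> rw [e]
        exacts [one_mul 1, S.D.H.h.zz]
      calc a' ^ 2 ^ 2 = g⁻¹ * (a * a * (a * a)) * g := by
            rw [ha', show (2 : ℕ) ^ 2 = 4 by norm_num, pow_succ, pow_succ, pow_succ, pow_one]; group
        _ = 1 := by rw [ha4]; group
    have hH : a' ∈ H1 z (b : G) :=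
      ⟨two_LG S hb' h4, mem_centralizer_singleton_iff.mpr hz'⟩
    have e := KK_H1 S hk hH
    calc a * (g * k * g⁻¹) = g * (a' * k) * g⁻¹ := by rw [ha']; group
      _ = g * (k * a') * g⁻¹ := by rw [e]
      _ = g * k * g⁻¹ * a := by rw [ha']; group

theorem in_Q {r : G} (hr : r ∈ S.D.P.R) (hk : r ∈ KK Q z (b : G)) : r ∈ Q := by
  have hd := (mem_KK.mp hk).2 d (d_Rb S)
  refine (mem_Cx.mp (S.D.mem_Cx_of_ev (S.D.triv_of_R hr) ?_)).1
  rw [ev, hd, mul_inv_cancel_right, mul_inv_cancel]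
  exact S.D.H.nu_one S.D.sing S.D.K

/-- The intersection is alternating of degree five. -/
theorem inter_iso : Nonempty
    (↥(KK Q z (b : G) ⊓ (KK Q z (b : G)).map (MulAut.conj g).toMonoidHom) ≃*
      alternatingGroup (Fin 5)) := by
  classical
  set K := KK Q z (b : G)
  set K' := K.map (MulAut.conj g).toMonoidHom
  set M := K ⊓ K'
  have hMS : M ≤ Sx z t := fun m hm => KK_Sx S hm.1
  let ψ : ↥M →* P8 := ρ.comp (Subgroup.inclusion hMS)
  have hlow : ψ.range ≤ low := by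
    rintro _ ⟨m, rfl⟩
    refine rho_low S _ fun a ha hab => ?_
    exact (mem_KK.mp m.2.1).2 a (mem_Rb.mpr ⟨(mem_Cx.mp ha).1, hab⟩)
  have hinj : Function.Injective ψ := by
    refine (injective_iff_map_eq_one _).mpr fun m hm => ?_
    obtain ⟨m, hm1, hm2⟩ := m
    have hR : m ∈ S.D.P.R := S.D.rho_R.mp hm
    obtain ⟨k, hk, e⟩ := hm2
    simp only [MulEquiv.coe_toMonoidHom, MulAut.conj_apply] at e
    have hkR : k ∈ S.D.P.R := by
      have hswap : ∀ x ∈ S.D.P.R, g⁻¹ * x * g ∈ S.D.P.R := by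
        intro x hx
        obtain ⟨u, hu, v, hv, rfl⟩ := S.D.decomp hx
        rw [show g⁻¹ * (u * v) * g = (g⁻¹ * u * g) * (g⁻¹ * v * g) by group]
        obtain ⟨huQ, hut⟩ := mem_Cx.mp hu
        obtain ⟨hvQ, hvz⟩ := mem_Cx.mp hv
        have back : ∀ {A A' : Subgroup G} (x : G), (∀ y ∈ A, g * y * g⁻¹ ∈ A') →
            Nat.card A' ≤ Nat.card A → x ∈ A' → g⁻¹ * x * g ∈ A := by
          intro A A' x hto hcard hxA
          have he : A.map (MulAut.conj g).toMonoidHom = A' := by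
            refine Subgroup.eq_of_le_of_card_ge ?_ ?_
            · rintro _ ⟨y, hy, rfl⟩; exact hto y hy
            · rw [Subgroup.card_map_of_injective (MulAut.conj g).injective]; exact hcard
          obtain ⟨y, hy, rfl⟩ := he.ge hxA
          simp only [MulEquiv.coe_toMonoidHom, MulAut.conj_apply]
          rwa [show g⁻¹ * (g * y * g⁻¹) * g = y by group]
        refine mul_mem (S.D.C'_le_R (mem_Cx.mpr ⟨back u F.toQ
          (by rw [S.D.H.cardQ, S.D.H'.cardQ]) huQ, ?_⟩))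
          (S.D.Cx_le_R (mem_Cx.mpr ⟨back v F.toQ' (by rw [S.D.H.cardQ, S.D.H'.cardQ]) hvQ, ?_⟩))
        · calc g⁻¹ * u * g * z = g⁻¹ * (u * (g * z * g⁻¹)) * g := by group
            _ = g⁻¹ * (g * z * g⁻¹ * u) * g := by rw [F.gz, hut]
            _ = _ := by group
        · calc g⁻¹ * v * g * t = g⁻¹ * (v * (g * t * g⁻¹)) * g := by group
            _ = g⁻¹ * (g * t * g⁻¹ * v) * g := by rw [F.gt, hvz]
            _ = _ := by group
      have := hswap m hR
      rwa [← e, show g⁻¹ * (g * k * g⁻¹) * g = k by group] at this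
    have hmQ : m ∈ Q := in_Q S F hR hm1
    have hkQ : k ∈ Q := in_Q S F hkR hk
    have hmQ' : m ∈ Q' := e ▸ F.toQ' k hkQ
    have key : ∀ v ∈ S.D.P.V, v * d = d * v → v = 1 ∨ v = z := by
      intro v hv hvd
      have hdt : ¬ d * t = t * d := (S.D.H.h.not_comm_iff S.D.sing.1 S.D.hd).mpr S.D.ed
      rcases S.D.P.mem_V.mp hv with e | e | e | e
      · exact Or.inl e
      · exact Or.inr e
      · exact absurd (e ▸ hvd).symm hdt
      · exfalso
        rw [e] at hvd
        refine hdt ?_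
        have h2 := congrArg (z * ·) hvd
        simp only [← mul_assoc, S.D.H.h.zz, one_mul] at h2
        rw [h2, show z * d * z = d * (z * z) by rw [← Q_le_C S S.D.hd, mul_assoc], S.D.H.h.zz,
          mul_one]
    have hmV : m ∈ S.D.P.V := by rw [← S.D.E_eq]; exact ⟨hmQ, hmQ'⟩
    have hkV : k ∈ S.D.P.V := by
      rcases S.D.P.mem_V.mp hmV with e' | e' | e' | e' <;> rw [e'] at e <;>
        refine S.D.P.mem_V.mpr ?_
      · exact Or.inl (conj_eq_one_iff.mp e)
      · rw [← F.gt] at e; exact Or.inr (Or.inr (Or.inl (by simpa using e)))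
      · rw [← F.gz] at e; exact Or.inr (Or.inl (by simpa using e))
      · rw [← F.gz, show z * (g * z * g⁻¹) = (g * t * g⁻¹) * (g * z * g⁻¹) by rw [F.gt],
          show g * t * g⁻¹ * (g * z * g⁻¹) = g * (t * z) * g⁻¹ by group] at e
        exact Or.inr (Or.inr (Or.inr ((by simpa using e : k = t * z).trans (S.D.H.zx S.D.sing).symm)))
    refine Subtype.ext ?_
    show m = 1
    rcases key m hmV ((mem_KK.mp hm1).2 d (d_Rb S)) with h | h
    · exact h
    · exfalso
      rw [h] at e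
      rcases key k hkV ((mem_KK.mp hk).2 d (d_Rb S)) with h' | h'
      · exact S.D.H.h.ne_one (by rw [← e, h']; group)
      · exact S.D.P.ne (by rw [← F.gz, ← h', e, h'])
  have hcard : 60 ≤ Nat.card ↥M := by
    set Y := YY Q z t (b : G)
    have hK : 1920 ≤ Nat.card ↥(K.subgroupOf Y) := by
      rw [Nat.card_congr (Subgroup.subgroupOfEquivOfLe (KK_le_YY S)).toEquiv]; exact card_KK S
    have hK' : 1920 ≤ Nat.card ↥(K'.subgroupOf Y) := by
      rw [Nat.card_congr (Subgroup.subgroupOfEquivOfLe (KKt_le_YY S F)).toEquiv,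
        Subgroup.card_map_of_injective (MulAut.conj g).injective]
      exact card_KK S
    have hM : Nat.card ↥(K.subgroupOf Y ⊓ K'.subgroupOf Y) = Nat.card ↥M := by
      rw [← Nat.card_congr (Subgroup.subgroupOfEquivOfLe
        (inf_le_left.trans (KK_le_YY S) : M ≤ Y)).toEquiv]
      rfl
    have hi := Subgroup.index_inf_le (H := K.subgroupOf Y) (K := K'.subgroupOf Y)
    have e1 := (K.subgroupOf Y).card_mul_index
    have e2 := (K'.subgroupOf Y).card_mul_index
    have e3 := (K.subgroupOf Y ⊓ K'.subgroupOf Y).card_mul_index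
    rw [hM] at e3
    have hY := card_YY S
    have hpos : 0 < Nat.card ↥Y := Nat.card_pos
    by_contra hlt
    push Not at hlt
    have i1 : 1920 * (K.subgroupOf Y).index ≤ 61440 :=
      (Nat.mul_le_mul_right _ hK).trans (e1.le.trans hY)
    have i2 : 1920 * (K'.subgroupOf Y).index ≤ Nat.card ↥Y :=
      (Nat.mul_le_mul_right _ hK').trans e2.le
    have i3 : Nat.card ↥Y ≤ 59 * ((K.subgroupOf Y).index * (K'.subgroupOf Y).index) :=
      e3.ge.trans (Nat.mul_le_mul (by omega) hi)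
    have i4 : 59 * ((K.subgroupOf Y).index * (K'.subgroupOf Y).index) ≤
        59 * (32 * (K'.subgroupOf Y).index) :=
      Nat.mul_le_mul le_rfl (Nat.mul_le_mul_right _ (by omega))
    omega
  have heq : ψ.range = low := by
    refine Subgroup.eq_of_le_of_card_ge hlow ?_
    rw [card_low, ← Nat.card_congr (MonoidHom.ofInjective hinj).toEquiv]
    exact hcard
  obtain ⟨e⟩ := low_iso
  exact ⟨((MonoidHom.ofInjective hinj).trans (MulEquiv.subgroupCongr heq)).trans e⟩

end Cfsg.Agent.ConwayFiveCent30
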