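import Cfsg.Agent.Lib.ConwayTypeModel62

/-!
# The five-cycle in the alternating group of degree eight on the six-dimensional module
-/

set_option autoImplicit false

namespace Cfsg.Agent.ConwayFiveFacts30

open Cfsg.Agent.ConwayTypeModel62

/-- The five-cycle. -/
def s5 : P8 := List.formPerm [0, 1, 2, 3, 4]

/-- A three-cycle on the fixed points. -/
def c3 : P8 := List.formPerm [5, 6, 7]

/-- A transposition of fixed points. -/
def sw : P8 := Equiv.swap 5 6

/-- An element squaring the five-cycle. -/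
def sqr : P8 := List.formPerm [1, 2, 4, 3] * Equiv.swap 5 6

/-- The fixed vectors. -/
def fx : Fin 4 → M6 := ![0, e 5 + e 6, e 5 + e 7, e 6 + e 7]

theorem s5_order : s5 ^ 5 = 1 ∧ s5 ≠ 1 := by decide +kernel

theorem fix_iff : ∀ v : M6, act s5 v = v ↔ ∃ i, v = fx i := by decide +kernel

theorem fx_form : ∀ i j : Fin 4, (f (fx i) = if i = 0 then 0 else 1) ∧
    (B (fx i) (fx j) = if i = 0 ∨ j = 0 ∨ i = j then 0 else 1) := by decide +kernel

theorem fx_inj : ∀ i j : Fin 4, fx i = fx j → i = j := by decide +kernel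

theorem fx_add : ∀ i j : Fin 4, ∃ k, fx i + fx j = fx k := by decide +kernel

theorem perp_card :
    (Finset.univ.filter fun v : M6 => B v (fx 1) = 0 ∧ B v (fx 2) = 0).card = 16 := by
  decide +kernel

theorem c3_facts : Equiv.Perm.sign c3 = 1 ∧ c3 * s5 = s5 * c3 ∧ act c3 (fx 1) ≠ fx 1 := by
  decide +kernel

theorem sqr_facts : Equiv.Perm.sign sqr = 1 ∧ sqr * s5 * sqr⁻¹ = s5 * s5 := by decide +kernel

/-- An element fixing the fixed vectors fixes their three points. -/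
theorem fix_points {σ : P8} (h : ∀ i, act σ (fx i) = fx i) : σ 5 = 5 ∧ σ 6 = 6 ∧ σ 7 = 7 := by
  have h1 : e (σ 5) + e (σ 6) = e 5 + e 6 := by rw [← act_pair]; exact h 1
  have h2 : e (σ 5) + e (σ 7) = e 5 + e 7 := by rw [← act_pair]; exact h 2
  have n1 : σ 5 ≠ σ 6 := fun e => absurd (σ.injective e) (by decide)
  have n2 : σ 5 ≠ σ 7 := fun e => absurd (σ.injective e) (by decide)
  rcases pair_inj _ _ _ _ n1 h1 with ⟨a, b⟩ | ⟨a, b⟩ <;>
    rcases pair_inj _ _ _ _ n2 h2 with ⟨a', c⟩ | ⟨a', c⟩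
  · exact ⟨a, b, c⟩
  · rw [a] at a'; exact absurd a' (by decide)
  · rw [a] at a'; exact absurd a' (by decide)
  · rw [a] at a'; exact absurd a' (by decide)

theorem pair_set : ∀ i : Fin 8, s5 i = i ↔ 5 ≤ i.val := by decide +kernel

theorem s5_pow : ∀ i : Fin 8, i.val < 5 → ∃ k : Fin 5, (s5 ^ (k : ℕ)) 0 = i := by decide +kernel

theorem from_zero : ∀ k : Fin 5, (s5 ^ (k : ℕ)) 0 = ⟨k, by omega⟩ := by decide +kernel

set_option synthInstance.maxSize 2000 in
/-- The three permutations of the fixed points which are even. -/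
theorem three_cases : ∀ a b c : Fin 8, 5 ≤ a.val → 5 ≤ b.val → 5 ≤ c.val → a ≠ b → a ≠ c → b ≠ c →
    (∃ j : Fin 3, (c3 ^ (j : ℕ)) 5 = a ∧ (c3 ^ (j : ℕ)) 6 = b ∧ (c3 ^ (j : ℕ)) 7 = c) ∨
      ∃ j : Fin 3, (c3 ^ (j : ℕ) * sw) 5 = a ∧ (c3 ^ (j : ℕ) * sw) 6 = b ∧
        (c3 ^ (j : ℕ) * sw) 7 = c := by
  decide +kernel

theorem c3_low : ∀ j : Fin 3, ∀ i : Fin 8, i.val < 5 →
    (c3 ^ (j : ℕ)) i = i ∧ (c3 ^ (j : ℕ) * sw) i = i := by decide +kernel

theorem pow_fix : ∀ (k : Fin 5) (i : Fin 4), act (s5 ^ (k : ℕ)) (fx i) = fx i := by decide +kernel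

/-- An even element commuting with the five-cycle. -/
theorem cent_cases {σ : P8} (hs : Equiv.Perm.sign σ = 1) (hc : σ * s5 = s5 * σ) :
    ∃ (k : Fin 5) (j : Fin 3), σ = s5 ^ (k : ℕ) * c3 ^ (j : ℕ) := by
  have hpres : ∀ i : Fin 8, 5 ≤ (σ i).val ↔ 5 ≤ i.val := by
    intro i
    rw [← pair_set, ← pair_set]
    have : s5 (σ i) = σ (s5 i) := by
      rw [← Equiv.Perm.mul_apply, ← hc]; rfl
    rw [this]
    exact σ.injective.eq_iff
  obtain ⟨k, hk⟩ := s5_pow (σ 0) (by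
    by_contra h
    exact absurd ((hpres 0).mp (by omega)) (by decide))
  set τ := (s5 ^ (k : ℕ))⁻¹ * σ with hτ
  have hcτ : Commute τ s5 :=
    ((Commute.refl s5).pow_left _).inv_left.mul_left hc
  have h0 : τ 0 = 0 := by
    rw [hτ, Equiv.Perm.mul_apply, ← hk, Equiv.Perm.inv_def, Equiv.symm_apply_apply]
  have hlow : ∀ i : Fin 8, i.val < 5 → τ i = i := by
    intro i hi
    obtain ⟨l, rfl⟩ := s5_pow i hi
    rw [← Equiv.Perm.mul_apply, (hcτ.pow_right (l : ℕ)).eq, Equiv.Perm.mul_apply, h0]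
  have hhigh : ∀ i : Fin 8, 5 ≤ i.val → 5 ≤ (τ i).val := by
    intro i hi
    by_contra h
    push Not at h
    exact absurd (τ.injective (hlow _ h)) (fun e => by rw [e] at h; omega)
  have key : ∀ π : P8, (∀ i : Fin 8, i.val < 5 → π i = i) → π 5 = τ 5 → π 6 = τ 6 → π 7 = τ 7 →
      π = τ := by
    intro π hπ h5 h6 h7
    refine Equiv.ext fun i => ?_
    by_cases hi : i.val < 5
    · rw [hπ i hi, hlow i hi]
    · obtain rfl | rfl | rfl : i = 5 ∨ i = 6 ∨ i = 7 := by omega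
      exacts [h5, h6, h7]
  have hσ : σ = s5 ^ (k : ℕ) * τ := by rw [hτ, mul_inv_cancel_left]
  rcases three_cases (τ 5) (τ 6) (τ 7) (hhigh 5 (by decide)) (hhigh 6 (by decide))
      (hhigh 7 (by decide)) (fun e => absurd (τ.injective e) (by decide))
      (fun e => absurd (τ.injective e) (by decide)) (fun e => absurd (τ.injective e) (by decide))
    with ⟨j, a, b, c⟩ | ⟨j, a, b, c⟩
  · refine ⟨k, j, hσ.trans ?_⟩
    rw [← key _ (fun i hi => (c3_low j i hi).1) a b c]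
  · exfalso
    have hsign : Equiv.Perm.sign (s5 ^ (k : ℕ) * (c3 ^ (j : ℕ) * sw)) = 1 := by
      rw [key (c3 ^ (j : ℕ) * sw) (fun i hi => (c3_low j i hi).2) a b c, ← hσ]; exact hs
    rw [map_mul, map_mul, map_pow, map_pow, show Equiv.Perm.sign sw = -1 by decide +kernel, c3_facts.1,
      show Equiv.Perm.sign s5 = 1 by decide +kernel] at hsign
    simp at hsign

theorem s5_sign : Equiv.Perm.sign s5 = 1 := by decide +kernel

/-- The permutations of the five points induced by affine maps of the fixed space are even. -/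
theorem affine_even : ∀ (j : Fin 3) (w : Fin 4), ∀ π : Equiv.Perm (Fin 5), π 0 = 0 →
    (∀ i : Fin 4, ∃ l : Fin 4, π i.succ = l.succ ∧ fx l = act (c3 ^ (j : ℕ)) (fx i) + fx w) →
    Equiv.Perm.sign π = 1 := by
  decide +kernel

theorem stab_exponent : ∀ π : Equiv.Perm (Fin 5), π 0 = 0 → Equiv.Perm.sign π = 1 →
    π * π = 1 ∨ π * π * π = 1 := by
  decide +kernel

theorem affine_one : ∀ (j : Fin 3) (w : Fin 4),
    (∀ i, fx i = act (c3 ^ (j : ℕ)) (fx i) + fx w) → j = 0 ∧ w = 0 := by decide +kernel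

theorem c3_fix : ∀ (j : Fin 3) (i : Fin 4), ∃ k, act (c3 ^ (j : ℕ)) (fx i) = fx k := by
  decide +kernel

end Cfsg.Agent.ConwayFiveFacts30
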