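import Cfsg.Agent.Lib.ConwayFiveQuot30
import Cfsg.Agent.Lib.ConwayTypeSeparate62

/-!
# An element exchanging `z` and `t`, and an involution outside the class of `z`, both centralising
the element of order five
-/

set_option autoImplicit false
set_option linter.style.haveILetI false
set_option linter.unusedSectionVars false

namespace Cfsg.Agent.ConwayFiveFlip30

open Subgroup Cfsg.Agent.LargeExtraspecial Cfsg.Agent.LargeExtraspecialPair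
open Cfsg.Agent.ConwayTypeModel62 Cfsg.Agent.ConwayTypeCoord62 Cfsg.Agent.ConwayTypeRadical62
open Cfsg.Agent.ConwayFiveFacts30 Cfsg.Agent.ConwayFiveStd30 Cfsg.Agent.ConwayFivePts30

variable {G : Type*} [Group G] [Finite G]

/-- Exchanges `z` and `t` and centralises `b`. -/
structure Flip (Q Q' : Subgroup G) (z t b g : G) : Prop where
  gz : g * z * g⁻¹ = t
  gt : g * t * g⁻¹ = z
  gb : g * b = b * g
  toQ' : ∀ x ∈ Q, g * x * g⁻¹ ∈ Q'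
  toQ : ∀ x ∈ Q', g * x * g⁻¹ ∈ Q

variable {Q Q' : Subgroup G} {z t : G} {ν : G → M6} {d : G} {ρ : ↥(Sx z t) →* P8}
  {b : ↥(Sx z t)} (S : Std Q Q' z t ν d ρ b)
include S

theorem exists_flip : ∃ g : G, Flip Q Q' z t (b : G) g := by
  obtain ⟨h, hh⟩ := isConj_iff.mp S.D.tz
  obtain ⟨u, huQ, hu⟩ := S.D.P.conj_eq 1 h (by rw [hh]; group) z S.D.P.zQ'
  have hu' : u = h⁻¹ * z * h := by
    calc u = h⁻¹ * (h * u * h⁻¹) * h := by group
      _ = h⁻¹ * z * h := by rw [← hu]; group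
  have hsing : Sing Q z u := by
    refine ⟨huQ, ?_, fun e => S.D.H.h.ne_one ?_, fun e => S.D.P.ne ?_⟩
    · rw [hu', show h⁻¹ * z * h * (h⁻¹ * z * h) = h⁻¹ * (z * z) * h by group, S.D.H.h.zz]; group
    · calc z = h * (h⁻¹ * z * h) * h⁻¹ := by group
        _ = 1 := by rw [← hu', e]; group
    · calc t = h * z * h⁻¹ := hh.symm
        _ = h * u * h⁻¹ := by rw [e]
        _ = z := by rw [hu']; group
  obtain ⟨c₁, hc₁z, hc₁⟩ := S.D.H.transitive hsing S.D.sing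
  set g₁ := h * c₁⁻¹ with hg₁
  have e1 : g₁ * z * g₁⁻¹ = t := by
    calc g₁ * z * g₁⁻¹ = h * (c₁⁻¹ * (z * c₁)) * h⁻¹ := by rw [hg₁]; group
      _ = t := by rw [← hc₁z, inv_mul_cancel_left, hh]
  have e2 : g₁ * t * g₁⁻¹ = z := by
    calc g₁ * t * g₁⁻¹ = g₁ * (c₁ * u * c₁⁻¹) * g₁⁻¹ := by rw [hc₁]
      _ = h * u * h⁻¹ := by rw [hg₁]; group
      _ = z := by rw [hu']; group
  obtain ⟨hbz, hbt⟩ := mem_Sx.mp b.2
  have hyS : g₁⁻¹ * (b : G) * g₁ ∈ Sx z t := by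
    refine mem_Sx.mpr ⟨?_, ?_⟩
    · calc g₁⁻¹ * (b : G) * g₁ * z = g₁⁻¹ * ((b : G) * (g₁ * z * g₁⁻¹)) * g₁ := by group
        _ = g₁⁻¹ * (g₁ * z * g₁⁻¹ * b) * g₁ := by rw [e1, hbt]
        _ = z * (g₁⁻¹ * b * g₁) := by group
    · calc g₁⁻¹ * (b : G) * g₁ * t = g₁⁻¹ * ((b : G) * (g₁ * t * g₁⁻¹)) * g₁ := by group
        _ = g₁⁻¹ * (g₁ * t * g₁⁻¹ * b) * g₁ := by rw [e2, hbz]
        _ = t * (g₁⁻¹ * b * g₁) := by group
  obtain ⟨c, hc⟩ := conj_to_b S (y := ⟨_, hyS⟩) (by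
    rw [← Subgroup.orderOf_coe]
    show orderOf (g₁⁻¹ * (b : G) * g₁) = 5
    rw [show g₁⁻¹ * (b : G) * g₁ = MulAut.conj g₁⁻¹ (b : G) by simp]
    exact (MulEquiv.orderOf_eq _ _).trans ((Subgroup.orderOf_coe b).trans S.ob))
  have hc' : (c : G) * (g₁⁻¹ * b * g₁) * (c : G)⁻¹ = b := by simpa using congrArg Subtype.val hc
  obtain ⟨hcz, hct⟩ := mem_Sx.mp c.2
  set g := g₁ * (c : G)⁻¹ with hg
  have gz : g * z * g⁻¹ = t := by
    calc g * z * g⁻¹ = g₁ * ((c : G)⁻¹ * (z * c)) * g₁⁻¹ := by rw [hg]; group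
      _ = t := by rw [← hcz, inv_mul_cancel_left, e1]
  have gt : g * t * g⁻¹ = z := by
    calc g * t * g⁻¹ = g₁ * ((c : G)⁻¹ * (t * c)) * g₁⁻¹ := by rw [hg]; group
      _ = z := by rw [← hct, inv_mul_cancel_left, e2]
  have toQ : ∀ k : G, k * t * k⁻¹ = z → ∀ x ∈ Q', k * x * k⁻¹ ∈ Q := by
    intro k hk x hx
    obtain ⟨y, hy, e⟩ := S.D.P.conj_eq k 1 (by rw [hk]; group) x hx
    rw [e, one_mul, inv_one, mul_one]; exact hy
  refine ⟨g, gz, gt, ?_, fun x hx => ?_, toQ g gt⟩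
  · refine mul_inv_eq_iff_eq_mul.mp ?_
    calc g * (b : G) * g⁻¹ = g₁ * ((c : G)⁻¹ * b * c) * g₁⁻¹ := by rw [hg]; group
      _ = g₁ * ((c : G)⁻¹ * ((c : G) * (g₁⁻¹ * b * g₁) * (c : G)⁻¹) * c) * g₁⁻¹ := by rw [hc']
      _ = b := by group
  · have hk : g⁻¹ * t * g⁻¹⁻¹ = z := by rw [← gz]; group
    have he : Q'.map (MulAut.conj g⁻¹).toMonoidHom = Q := by
      refine Subgroup.eq_of_le_of_card_ge ?_ ?_
      · rintro _ ⟨w, hw, rfl⟩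
        exact toQ _ hk w hw
      · rw [Subgroup.card_map_of_injective (MulAut.conj g⁻¹).injective, S.D.H.cardQ, S.D.H'.cardQ]
    obtain ⟨w, hw, rfl⟩ := he.symm.le hx
    simp only [MulEquiv.coe_toMonoidHom, MulAut.conj_apply]
    rwa [show g * (g⁻¹ * w * g⁻¹⁻¹) * g⁻¹ = w by group]

theorem exists_other : ∃ y : G, y * y = 1 ∧ y ≠ 1 ∧ y * (b : G) = b * y ∧ ¬ IsConj z y := by
  obtain ⟨a, ha, hab, hν⟩ := exists_fx S 1
  obtain ⟨c, hc, hcb, hev⟩ := exists_shift S 2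
  have hrep : S.D.Rep (fx 1) (fx 2) (a * c) := ⟨a, ha, c, hc, hν, hev, rfl⟩
  obtain ⟨hf0, hg0, hB0, hf1, hg1, hB1, -, hα0, -, -, hα1, -⟩ := chosen
  obtain ⟨y₁, hy₁, -⟩ := S.D.exists_rep (hf1.trans hB1.symm) (hg1.trans hB1.symm) hα1
  obtain ⟨y₀, hy₀, -⟩ := S.D.exists_rep (hf0.trans hB0.symm) (hg0.trans hB0.symm) hα0
  obtain ⟨-, hn, -⟩ := S.D.separate hy₀ hy₁
  obtain ⟨a₀, ha₀, b₀, hb₀, hu, hw, rfl⟩ := hy₁
  obtain ⟨τ, hτs, hτa, hτb⟩ : ∃ τ : P8, Equiv.Perm.sign τ = 1 ∧ act τ α₁ = fx 1 ∧ act τ β₁ = fx 2 :=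
    ⟨Equiv.swap 0 5 * Equiv.swap 1 6 * Equiv.swap 2 7 * Equiv.swap 3 4, by decide +kernel⟩
  have hconj : IsConj (a * c) (a₀ * b₀) := by
    refine S.D.fuse ha₀ hb₀ ha hc ?_ hτs ?_ ?_
    · rw [hu, hw]; exact dual₁
    · rw [hu, hν]; exact hτa
    · rw [hw, hev]; exact hτb
  refine ⟨a * c, ?_, fun e => ?_, ((show Commute a (b : G) from hab).mul_left hcb).eq,
    fun h => hn (h.trans hconj)⟩
  · rw [S.D.sq_R ha hc, hν, hev, show (f (fx 1) + B (fx 1) (fx 2), f (fx 2) + B (fx 1) (fx 2)) =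
      ((0, 0) : ZMod 2 × ZMod 2) by decide +kernel]
    exact vv_zero z t
  · have h1 := (S.D.decomp_unique ha hc (one_mem _) (one_mem _) (by rw [e, one_mul])).1
    rw [hν, S.D.H.nu_one S.D.sing S.D.K] at h1
    exact absurd h1 (by decide +kernel)

end Cfsg.Agent.ConwayFiveFlip30
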