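import Cfsg.Agent.Lib.LargeExtraspecialAct
import Cfsg.Agent.Lib.ComponentsFitting

/-!
# The extraspecial centralizer setting gives `LHyp`
-/

set_option autoImplicit false

namespace Cfsg.Agent.LargeExtraspecialSetting

open Subgroup Cfsg.Agent.LargeExtraspecial

theorem ext_map {G H : Type*} [Group G] [Group H] (f : G →* H) (hf : Function.Injective f)
    {Q : Subgroup G} {z : G} (h : Ext Q z) : Ext (Q.map f) (f z) := by
  refine ⟨mem_map_of_mem f h.mem, fun e => h.ne_one (hf (e.trans (map_one f).symm)),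
    by rw [← map_mul, h.zz, map_one], ?_, ?_, ?_, ?_⟩
  · rintro _ ⟨x, hx, rfl⟩
    rw [← map_mul, ← map_mul, h.comm x hx]
  · rintro _ ⟨x, hx, rfl⟩
    rcases h.sq x hx with e | e
    · exact Or.inl (by rw [← map_mul, e, map_one])
    · exact Or.inr (by rw [← map_mul, e])
  · rintro _ ⟨x, hx, rfl⟩ _ ⟨y, hy, rfl⟩
    rcases h.conj x hx y hy with e | e
    · exact Or.inl (by rw [← map_mul, ← map_inv, ← map_mul, e])
    · exact Or.inr (by rw [← map_mul, ← map_inv, ← map_mul, e, map_mul])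
  · rintro _ ⟨x, hx, rfl⟩ h1 h2
    obtain ⟨y, hy, e⟩ := h.partner x hx (fun e => h1 (by rw [e, map_one])) (fun e => h2 (by rw [e]))
    exact ⟨f y, mem_map_of_mem f hy, by rw [← map_mul, ← map_inv, ← map_mul, e, map_mul]⟩

/-- `F*(C_G(z)) = Q` extraspecial gives the hypotheses of a large extraspecial subgroup. -/
theorem lhyp_of_fitting {G : Type*} [Group G] [Finite G] {z : G} (hz : orderOf z = 2)
    (Q : Subgroup (centralizer ({z} : Set G)))
    (hF : Cfsg.generalizedFittingSubgroup ↥(centralizer ({z} : Set G)) = Q)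
    (hQ : Cfsg.IsExtraspecial 2 ↥Q) :
    LHyp (Q.map (centralizer ({z} : Set G)).subtype) z ∧ ∃ hzC : z ∈ centralizer ({z} : Set G),
      (⟨z, hzC⟩ : centralizer ({z} : Set G)) ∈ Q := by
  obtain ⟨z₁, hext, -, hbig⟩ := exists_ext hQ
  have hzC : z ∈ centralizer ({z} : Set G) := mem_centralizer_singleton_iff.mpr rfl
  haveI : Q.Normal := hF ▸ (inferInstance : (Cfsg.generalizedFittingSubgroup _).Normal)
  have hcc : ∀ c : centralizer ({z} : Set G), (∀ x ∈ Q, c * x = x * c) → c = 1 ∨ c = z₁ := by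
    intro c hc
    have hmem : c ∈ Q := by
      rw [← hF]
      refine ComponentsFitting.centralizer_gen_le (mem_centralizer_iff.mpr fun x hx => ?_)
      rw [hF] at hx
      exact (hc x hx).symm
    exact hext.central hmem fun y hy => (hc y hy).symm
  have hz₁ : (⟨z, hzC⟩ : centralizer ({z} : Set G)) = z₁ := by
    rcases hcc ⟨z, hzC⟩ fun x _ => Subtype.ext (mem_centralizer_singleton_iff.mp x.2).symm with e | e
    · exfalso
      have : z = 1 := congrArg Subtype.val e
      rw [this] at hz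
      simp at hz
    · exact e
  subst hz₁
  refine ⟨⟨ext_map _ (centralizer ({z} : Set G)).subtype_injective hext, ?_, ?_, ?_⟩, hzC, hext.mem⟩
  · intro g hg
    have hgz : g * z = z * g := hg z ⟨⟨z, hzC⟩, hext.mem, rfl⟩
    rcases hcc ⟨g, mem_centralizer_singleton_iff.mpr hgz⟩
      fun x hx => Subtype.ext (hg x ⟨x, hx, rfl⟩) with e | e
    · exact Or.inl (congrArg Subtype.val e)
    · exact Or.inr (congrArg Subtype.val e)
  · rintro g hg _ ⟨x, hx, rfl⟩
    exact ⟨_, Normal.conj_mem ‹Q.Normal› x hx ⟨g, mem_centralizer_singleton_iff.mpr hg⟩, rfl⟩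
  · obtain ⟨x, hx, h1, h2⟩ := hbig
    exact ⟨x, ⟨x, hx, rfl⟩, fun e => h1 (Subtype.ext e), fun e => h2 (Subtype.ext e)⟩

/-- A homomorphism that is injective on `Q` carries `Ext`. -/
theorem ext_map_injOn {G H : Type*} [Group G] [Group H] (f : G →* H) {Q : Subgroup G} {z : G}
    (h : Ext Q z) (hf : ∀ x ∈ Q, f x = 1 → x = 1) : Ext (Q.map f) (f z) := by
  have hinj : ∀ x ∈ Q, ∀ y ∈ Q, f x = f y → x = y := fun x hx y hy e =>
    mul_inv_eq_one.mp (hf _ (Q.mul_mem hx (Q.inv_mem hy)) (by rw [map_mul, map_inv, e, mul_inv_cancel]))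
  refine ⟨mem_map_of_mem f h.mem, fun e => h.ne_one (hf z h.mem e),
    by rw [← map_mul, h.zz, map_one], ?_, ?_, ?_, ?_⟩
  · rintro _ ⟨x, hx, rfl⟩
    rw [← map_mul, ← map_mul, h.comm x hx]
  · rintro _ ⟨x, hx, rfl⟩
    rcases h.sq x hx with e | e
    · exact Or.inl (by rw [← map_mul, e, map_one])
    · exact Or.inr (by rw [← map_mul, e])
  · rintro _ ⟨x, hx, rfl⟩ _ ⟨y, hy, rfl⟩
    rcases h.conj x hx y hy with e | e
    · exact Or.inl (by rw [← map_mul, ← map_inv, ← map_mul, e])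
    · exact Or.inr (by rw [← map_mul, ← map_inv, ← map_mul, e, map_mul])
  · rintro _ ⟨x, hx, rfl⟩ h1 h2
    obtain ⟨y, hy, e⟩ := h.partner x hx (fun e => h1 (by rw [e, map_one])) (fun e => h2 (by rw [e]))
    exact ⟨f y, mem_map_of_mem f hy, by rw [← map_mul, ← map_inv, ← map_mul, e, map_mul]⟩

/-- The variant where `Q` is given as a subgroup of `G`. -/
theorem lhyp_of_fitting_map {G : Type*} [Group G] [Finite G] {z : G} (hz : orderOf z = 2)
    (Q : Subgroup G)
    (hF : (Cfsg.generalizedFittingSubgroup ↥(centralizer ({z} : Set G))).map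
      (centralizer ({z} : Set G)).subtype = Q)
    (hQ : Cfsg.IsExtraspecial 2 ↥Q) : LHyp Q z := by
  obtain ⟨z₁, hext, -, hbig⟩ := exists_ext hQ
  have hQC : Q ≤ centralizer ({z} : Set G) := hF ▸ map_subtype_le _
  have hcc : ∀ g : G, g * z = z * g → (∀ x ∈ Q, g * x = x * g) → g ∈ Q := by
    intro g hgz hg
    rw [← hF]
    exact ⟨⟨g, mem_centralizer_singleton_iff.mpr hgz⟩,
      ComponentsFitting.centralizer_gen_le (mem_centralizer_iff.mpr fun x hx =>
        Subtype.ext (hg x (hF ▸ ⟨x, hx, rfl⟩)).symm), rfl⟩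
  have hzcomm : ∀ x ∈ Q, x * z = z * x := fun x hx => mem_centralizer_singleton_iff.mp (hQC hx)
  have hzQ : z ∈ Q := hcc z rfl fun x hx => (hzcomm x hx).symm
  obtain rfl : z = z₁ := by
    rcases hext.central hzQ hzcomm with e | e
    · rw [e] at hz; simp at hz
    · exact e
  refine ⟨hext, ?_, ?_, hbig⟩
  · intro g hg
    exact hext.central (hcc g (hg z hzQ) hg) fun y hy => (hg y hy).symm
  · intro g hg x hx
    rw [← hF] at hx ⊢
    obtain ⟨y, hy, rfl⟩ := hx
    exact ⟨_, Normal.conj_mem inferInstance y hy ⟨g, mem_centralizer_singleton_iff.mpr hg⟩, rfl⟩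

end Cfsg.Agent.LargeExtraspecialSetting
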