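import Cfsg.Agent.Lib.J2RecFrame30
import Cfsg.Agent.Lib.LargeExtraspecialSetting

/-!
# A group of Hall–Janko type has no proper subgroup properly containing the centraliser of `z`
-/

set_option autoImplicit false

namespace Cfsg.Agent.ConwayFiveGen30

open Subgroup Cfsg.Agent.LargeExtraspecial Cfsg.Agent.J2TypePoints79

variable {G : Type*} [Group G] [Finite G] {Q : Subgroup G} {z : G}

theorem card_G (hJ : Hyp Q z) : Nat.card G = 604800 := by
  obtain ⟨a, x, u, v, y, K, S⟩ := J2RecFrame30.exists_gens hJ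
  exact S.cardG

/-- Every involution is conjugate into the centraliser of `z`. -/
theorem exists_into (hJ : Hyp Q z) {x : G} (hx : x * x = 1) :
    ∃ g : G, g * x * g⁻¹ ∈ centralizer ({z} : Set G) := by
  classical
  haveI : Fact (Nat.Prime 2) := ⟨Nat.prime_two⟩
  set H := centralizer ({z} : Set G)
  letI := Fintype.ofFinite (G ⧸ H)
  have hidx : ¬ 2 ∣ Fintype.card (G ⧸ H) := by
    have h1 := H.card_mul_index
    rw [card_H hJ, card_G hJ, Subgroup.index, Nat.card_eq_fintype_card] at h1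
    omega
  obtain ⟨q, hq⟩ := Equiv.Perm.exists_fixed_point_of_prime (p := 2) (n := 1) hidx
    (σ := MulAction.toPermHom G (G ⧸ H) x) (by rw [pow_one, pow_two, ← map_mul, hx, map_one])
  obtain ⟨g, rfl⟩ := QuotientGroup.mk_surjective q
  refine ⟨g⁻¹, ?_⟩
  have e : ((x * g : G) : G ⧸ H) = (g : G ⧸ H) := hq
  have h2 := inv_mem (QuotientGroup.eq.mp e)
  rwa [mul_inv_rev, inv_inv, ← mul_assoc, show g⁻¹ * x * g = g⁻¹ * x * g⁻¹⁻¹ by rw [inv_inv]] at h2

/-- A subgroup containing `C(z)` and an element moving `z` inside `Q` is everything. -/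
theorem eq_top (hJ : Hyp Q z) {T : Subgroup G} (hT : centralizer ({z} : Set G) ≤ T) {g : G}
    (hg : g ∈ T) (h1 : g * z * g⁻¹ ∈ Q) (h2 : g * z * g⁻¹ ≠ z) : T = ⊤ := by
  classical
  have hQT : Q ≤ T := (Q_le_H hJ).trans hT
  have hzT : z ∈ T := hQT hJ.l.mem
  have hcast : ∀ w : ↥T, w ∈ centralizer ({⟨z, hzT⟩} : Set ↥T) ↔
      (w : G) ∈ centralizer ({z} : Set G) := fun w => by
    rw [mem_centralizer_singleton_iff, mem_centralizer_singleton_iff]
    exact ⟨fun e => congrArg Subtype.val e, fun e => Subtype.ext e⟩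
  have hmap : ∀ w : ↥T, w ∈ Q.subgroupOf T ↔ (w : G) ∈ Q := fun _ => Iff.rfl
  obtain ⟨f, hf, hk⟩ := hJ.quot
  let ι : ↥(centralizer ({⟨z, hzT⟩} : Set ↥T)) →* ↥(centralizer ({z} : Set G)) :=
    { toFun := fun w => ⟨((w : ↥T) : G), (hcast _).mp w.2⟩
      map_one' := rfl
      map_mul' := fun _ _ => rfl }
  have hι : Function.Surjective ι := fun w =>
    ⟨⟨⟨(w : G), hT w.2⟩, (hcast _).mpr w.2⟩, rfl⟩
  obtain ⟨x, y, hx, hy, hxy⟩ := hJ.two
  obtain ⟨w, hw, hwz⟩ : ∃ w : G, orderOf w = 2 ∧ ¬ IsConj z w := by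
    by_cases h : IsConj z x
    · exact ⟨y, hy, fun h' => hxy (h.symm.trans h')⟩
    · exact ⟨x, hx, h⟩
  obtain ⟨c, hc⟩ := exists_into hJ (x := w) (by rw [← pow_two, ← hw]; exact pow_orderOf_eq_one w)
  have hcw : orderOf (c * w * c⁻¹) = 2 := by
    rw [← MulAut.conj_apply]; exact (MulEquiv.orderOf_eq _ _).trans hw
  have hJT : Hyp (Q.subgroupOf T) (⟨z, hzT⟩ : ↥T) := by
    refine ⟨⟨⟨hJ.l.mem, fun e => hJ.l.ne_one (congrArg Subtype.val e), Subtype.ext hJ.l.zz,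
      fun u hu => Subtype.ext (hJ.l.comm _ hu), fun u hu => ?_, fun u hu v hv => ?_, ?_⟩, ?_, ?_, ?_⟩,
      ?_, ⟨f.comp ι, hf.comp hι, ?_⟩, ⟨⟨g, hg⟩, h1, fun e => h2 (congrArg Subtype.val e)⟩,
      ⟨⟨z, hzT⟩, ⟨_, hT hc⟩, ?_, ?_, ?_⟩⟩
    · rcases hJ.l.sq _ hu with e | e
      exacts [Or.inl (Subtype.ext e), Or.inr (Subtype.ext e)]
    · rcases hJ.l.conj _ hu _ hv with e | e
      exacts [Or.inl (Subtype.ext e), Or.inr (Subtype.ext e)]
    · intro u hu n1 n2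
      obtain ⟨v, hv, e⟩ := hJ.l.partner _ hu (fun e => n1 (Subtype.ext e)) (fun e => n2 (Subtype.ext e))
      exact ⟨⟨v, hQT hv⟩, hv, Subtype.ext e⟩
    · intro u hu
      rcases hJ.l.cent (u : G) (fun v hv => congrArg Subtype.val (hu ⟨v, hQT hv⟩ hv)) with e | e
      exacts [Or.inl (Subtype.ext e), Or.inr (Subtype.ext e)]
    · intro u hu v hv
      exact hJ.l.norm _ (congrArg Subtype.val hu) _ hv
    · obtain ⟨v, hv, n1, n2⟩ := hJ.l.big
      exact ⟨⟨v, hQT hv⟩, hv, fun e => n1 (congrArg Subtype.val e), fun e => n2 (congrArg Subtype.val e)⟩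
    · rw [Nat.card_congr (subgroupOfEquivOfLe hQT).toEquiv, hJ.cardQ]
    · ext u
      rw [MonoidHom.mem_ker, MonoidHom.comp_apply, ← MonoidHom.mem_ker, hk]
      rfl
    · rw [← Subgroup.orderOf_coe]; exact hJ.l.orderOf_z
    · rw [← Subgroup.orderOf_coe]; exact hcw
    · intro h
      exact hwz (((T.subtype).map_isConj h).trans (isConj_iff.mpr ⟨c, rfl⟩).symm)
  exact Subgroup.eq_top_of_card_eq T (by rw [card_G hJT, card_G hJ])

end Cfsg.Agent.ConwayFiveGen30
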