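import Cfsg.Agent.Lib.ConwayFiveFlip30
import Cfsg.Agent.Lib.LargeExtraspecialSetting

/-!
# The centraliser of the element of order five modulo that element is of Hall–Janko type
-/

set_option autoImplicit false
set_option linter.style.haveILetI false
set_option linter.unusedSectionVars false

namespace Cfsg.Agent.ConwayFiveHyp30

open Subgroup Cfsg.Agent.LargeExtraspecial
open Cfsg.Agent.ConwayTypeModel62 Cfsg.Agent.ConwayTypeCoord62 Cfsg.Agent.ConwayTypeRadical62
open Cfsg.Agent.ConwayFiveStd30 Cfsg.Agent.ConwayFivePts30 Cfsg.Agent.ConwayFiveFlip30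

variable {G : Type*} [Group G] [Finite G]

/-- The centraliser of `b`. -/
abbrev CB (b : G) : Subgroup G := centralizer ({b} : Set G)

/-- The group generated by `b` inside its centraliser. -/
def Bc (b : G) : Subgroup ↥(CB b) :=
  zpowers (⟨b, mem_centralizer_singleton_iff.mpr rfl⟩ : ↥(CB b))

theorem Bc_central (b : G) : Bc b ≤ center ↥(CB b) :=
  zpowers_le.mpr (mem_center_iff.mpr fun g => Subtype.ext (mem_centralizer_singleton_iff.mp g.2))

instance Bc_normal (b : G) : (Bc b).Normal :=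
  ⟨fun n hn g => by
    rw [mem_center_iff.mp (Bc_central b hn) g, mul_inv_cancel_right]; exact hn⟩

/-- The projection. -/
abbrev proj (b : G) : ↥(CB b) →* ↥(CB b) ⧸ Bc b := QuotientGroup.mk' (Bc b)

theorem proj_eq {b : G} {u v : ↥(CB b)} :
    proj b u = proj b v ↔ ∃ k : ℕ, (u : G) = (v : G) * b ^ k := by
  constructor
  · intro h
    have h' := (isOfFinOrder_of_finite _).mem_powers_iff_mem_zpowers.mpr
      (QuotientGroup.eq.mp h.symm : v⁻¹ * u ∈ Bc b)
    obtain ⟨k, hk⟩ := h'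
    refine ⟨k, ?_⟩
    have := congrArg Subtype.val hk
    simp only [SubmonoidClass.coe_pow, Subgroup.coe_mul, Subgroup.coe_inv] at this
    rw [this, mul_inv_cancel_left]
  · rintro ⟨k, hk⟩
    refine (QuotientGroup.eq.mpr ?_).symm
    refine ⟨(k : ℤ), Subtype.ext ?_⟩
    simp [hk]

variable {Q Q' : Subgroup G} {z t : G} {ν : G → M6} {d : G} {ρ : ↥(Sx z t) →* P8}
  {b : ↥(Sx z t)} (S : Std Q Q' z t ν d ρ b)
include S

theorem zb : z ∈ CB (b : G) := mem_centralizer_singleton_iff.mpr (mem_Sx.mp b.2).1.symm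

theorem tb : t ∈ CB (b : G) := mem_centralizer_singleton_iff.mpr (mem_Sx.mp b.2).2.symm

theorem Rb_le_CB : Rb Q (b : G) ≤ CB (b : G) := inf_le_right

theorem pow_two_one {k : ℕ} (h : (b : G) ^ k * (b : G) ^ k = 1) : (b : G) ^ k = 1 := by
  have h5 : ((b : G) ^ k) ^ 5 = 1 := by rw [← pow_mul, mul_comm, pow_mul, b_five S, one_pow]
  calc (b : G) ^ k = ((b : G) ^ k) ^ 5 * (((b : G) ^ k * (b : G) ^ k) ^ 2)⁻¹ := by
        rw [← pow_two, ← pow_mul ((b : G) ^ k) 2 2]; group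
    _ = 1 := by rw [h5, h, one_pow, inv_one, mul_one]

/-- Elements of `C(b)` equal modulo `b` to an element of the fixed group. -/
theorem eq_of_two {u v : G} (hu : u * u = 1) (hv : v * v = 1) (hvb : v * (b : G) = b * v) {k : ℕ}
    (h : u = v * (b : G) ^ k) : u = v := by
  have hc : Commute v ((b : G) ^ k) := (show Commute v (b : G) from hvb).pow_right k
  have h2 : (b : G) ^ k * (b : G) ^ k = 1 := by
    rw [← hu, h, show v * (b : G) ^ k * (v * (b : G) ^ k) = v * ((b : G) ^ k * v) * (b : G) ^ k by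
      group, ← hc.eq, ← mul_assoc v, hv, one_mul]
  rw [h, pow_two_one S h2, mul_one]

theorem Rb_inter {x : G} (hx : x ∈ Rb Q (b : G)) {k : ℕ} (h : x = (b : G) ^ k) : x = 1 := by
  have h4 : x ^ 4 = 1 := by
    rcases S.D.H.h.sq x (mem_Rb.mp hx).1 with e | e
    · rw [show x ^ 4 = (x * x) * (x * x) by simp [pow_succ, mul_assoc], e, one_mul]
    · rw [show x ^ 4 = (x * x) * (x * x) by simp [pow_succ, mul_assoc], e, S.D.H.h.zz]
  have h5 : x ^ 5 = 1 := by rw [h, ← pow_mul, mul_comm, pow_mul, b_five S, one_pow]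
  rwa [pow_succ, h4, one_mul] at h5

/-- The preimage of the centraliser of the image of `z`. -/
theorem proj_comm_z {g : ↥(CB (b : G))} :
    proj (b : G) g * proj (b : G) ⟨z, zb S⟩ = proj (b : G) ⟨z, zb S⟩ * proj (b : G) g ↔
      (g : G) ∈ HH z (b : G) := by
  rw [← map_mul, ← map_mul]
  refine ⟨fun h => ?_, fun h => ?_⟩
  · obtain ⟨k, hk⟩ := proj_eq.mp h
    refine mem_HH.mpr ⟨?_, mem_centralizer_singleton_iff.mp g.2⟩
    simp only [Subgroup.coe_mul] at hk
    have hbg : Commute ((b : G) ^ k) (g : G)⁻¹ :=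
      ((show Commute (b : G) (g : G) from
        (mem_centralizer_singleton_iff.mp g.2).symm).pow_left k).inv_right
    have e : (g : G) * z * (g : G)⁻¹ = z * (b : G) ^ k := by
      rw [hk, mul_assoc, hbg.eq]; group
    refine mul_inv_eq_iff_eq_mul.mp (eq_of_two S ?_ S.D.H.h.zz (mem_Sx.mp b.2).1.symm e)
    calc (g : G) * z * (g : G)⁻¹ * ((g : G) * z * (g : G)⁻¹) = g * (z * z) * (g : G)⁻¹ := by group
      _ = 1 := by rw [S.D.H.h.zz]; group
  · exact congrArg _ (Subtype.ext (mem_HH.mp h).1)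

/-- The image of the fixed group. -/
abbrev QI (Q : Subgroup G) (b : G) : Subgroup (↥(CB b) ⧸ Bc b) :=
  ((Rb Q b).subgroupOf (CB b)).map (proj b)

theorem ext_Rb : Ext (Rb Q (b : G)) z := by
  have hA : ∀ a ∈ zpowers (b : G), ∀ x ∈ Q, a * x * a⁻¹ ∈ Q := fun a ha x hx =>
    S.D.H.h.norm a (mem_centralizer_singleton_iff.mp
      ((zpowers_le.mpr (mem_centralizer_singleton_iff.mpr (mem_Sx.mp b.2).1)) ha)) x hx
  have h := LargeExtraspecialAct.ext_centralizer S.D.H.h.toExt hA (by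
    rw [Nat.card_zpowers, Subgroup.orderOf_coe, S.ob]; decide)
  have e : Rb Q (b : G) = Q ⊓ centralizer (zpowers (b : G) : Set G) := by
    rw [Rb, zpowers_eq_closure, centralizer_closure]
  rwa [e]

/-- `C(b)` modulo `b` is of Hall–Janko type. -/
theorem quot_hyp :
    J2TypePoints79.Hyp (QI Q (b : G)) (proj (b : G) ⟨z, zb S⟩) := by
  classical
  have hle := Rb_le_CB S
  obtain ⟨a, P, L⟩ := exists_pts S
  obtain ⟨φ, hφ⟩ := exists_perm S P
  have hinj : ∀ u ∈ (Rb Q (b : G)).subgroupOf (CB (b : G)), proj (b : G) u = 1 → u = 1 := by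
    intro u hu h
    rw [← map_one (proj (b : G))] at h
    obtain ⟨k, hk⟩ := proj_eq.mp h
    rw [OneMemClass.coe_one, one_mul] at hk
    exact Subtype.ext (Rb_inter S hu hk)
  have hext : Ext ((Rb Q (b : G)).subgroupOf (CB (b : G))) (⟨z, zb S⟩ : ↥(CB (b : G))) := by
    have hE := ext_Rb S
    refine ⟨hE.mem, fun e => hE.ne_one (congrArg Subtype.val e), Subtype.ext hE.zz,
      fun u hu => Subtype.ext (hE.comm _ hu), fun u hu => ?_, fun u hu v hv => ?_, ?_⟩
    · rcases hE.sq _ hu with e | e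
      exacts [Or.inl (Subtype.ext e), Or.inr (Subtype.ext e)]
    · rcases hE.conj _ hu _ hv with e | e
      exacts [Or.inl (Subtype.ext e), Or.inr (Subtype.ext e)]
    · intro u hu n1 n2
      obtain ⟨v, hv, e⟩ := hE.partner _ hu (fun e => n1 (Subtype.ext e)) (fun e => n2 (Subtype.ext e))
      exact ⟨⟨v, hle hv⟩, hv, Subtype.ext e⟩
  have hbH : (b : G) ∈ HH z (b : G) := mem_HH.mpr ⟨(mem_Sx.mp b.2).1, rfl⟩
  obtain ⟨g', hg'⟩ := exists_flip S
  obtain ⟨y, hyy, hy1, hyb, hyn⟩ := exists_other S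
  refine ⟨⟨LargeExtraspecialSetting.ext_map_injOn _ hext hinj, ?_, ?_, ?_⟩, ?_, ?_, ?_, ?_⟩
  · intro g hg
    obtain ⟨g, rfl⟩ := QuotientGroup.mk'_surjective _ g
    have hgH : (g : G) ∈ HH z (b : G) := (proj_comm_z S).mp (hg _ (mem_map_of_mem _ hext.mem))
    have hcent : ∀ x ∈ Rb Q (b : G), (g : G) * x * (g : G)⁻¹ = x := by
      intro x hx
      have h := hg _ (mem_map_of_mem (proj (b : G)) (x := ⟨x, hle hx⟩) hx)
      rw [← map_mul, ← map_mul] at h
      obtain ⟨k, hk⟩ := proj_eq.mp h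
      simp only [Subgroup.coe_mul] at hk
      have hbg : Commute ((b : G) ^ k) (g : G)⁻¹ :=
        ((show Commute (b : G) (g : G) from (mem_HH.mp hgH).2.symm).pow_left k).inv_right
      have e : (g : G) * x * (g : G)⁻¹ = x * (b : G) ^ k := by rw [hk, mul_assoc, hbg.eq]; group
      have e2 : x⁻¹ * ((g : G) * x * (g : G)⁻¹) = (b : G) ^ k := by rw [e]; group
      have h1 := Rb_inter S (mul_mem (inv_mem hx) (Rb_conj S hgH hx)) e2
      exact (eq_of_inv_mul_eq_one h1).symm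
    have hfix : φ ⟨g, hgH⟩ = 1 := Equiv.ext fun p =>
      phi_eq S P hφ (Or.inl (hcent _ (P.mem p)))
    obtain ⟨r, hr, k, hk⟩ := kernel S P hφ L hfix
    have hkr : r = 1 ∨ r = z := by
      by_contra hne
      push Not at hne
      obtain ⟨x, hx, ex⟩ := (ext_Rb S).partner r hr hne.1 hne.2
      have hb' : Commute ((b : G) ^ k) x :=
        (show Commute (b : G) x from (mem_Rb.mp hx).2.symm).pow_left k
      have h1 := hcent x hx
      rw [show (g : G) = r * (b : G) ^ k from hk,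
        show r * (b : G) ^ k * x * (r * (b : G) ^ k)⁻¹ = r * ((b : G) ^ k * x * ((b : G) ^ k)⁻¹) * r⁻¹
          by group, hb'.eq, mul_inv_cancel_right, mul_inv_eq_iff_eq_mul] at h1
      rw [← h1, mul_inv_cancel_right] at ex
      exact S.D.H.h.z_mul_ne _ ex.symm
    rcases hkr with rfl | rfl
    · exact Or.inl ((proj_eq.mpr ⟨k, hk⟩).trans (map_one (proj (b : G))))
    · exact Or.inr (proj_eq.mpr ⟨k, hk⟩)
  · intro g hg x hx
    obtain ⟨g, rfl⟩ := QuotientGroup.mk'_surjective _ g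
    obtain ⟨u, hu, rfl⟩ := hx
    exact ⟨g * u * g⁻¹, Rb_conj S ((proj_comm_z S).mp hg) hu, by simp⟩
  · refine ⟨_, mem_map_of_mem (proj (b : G)) (x := ⟨t, tb S⟩) (t_Rb S), fun e => ?_, fun e => ?_⟩
    · exact S.D.P.h'.ne_one (congrArg Subtype.val (hinj ⟨t, tb S⟩ (t_Rb S) e))
    · obtain ⟨k, hk⟩ := proj_eq.mp e
      exact S.D.P.ne (eq_of_two S S.D.P.h'.zz S.D.H.h.zz (mem_Sx.mp b.2).1.symm hk)
  · have hinj' : Function.Injective
        (fun u : ↥((Rb Q (b : G)).subgroupOf (CB (b : G))) =>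
          (⟨proj (b : G) u, mem_map_of_mem _ u.2⟩ : ↥(QI Q (b : G)))) := fun u v e =>
      Subtype.ext (inv_mul_eq_one.mp (hinj _ (mul_mem (inv_mem u.2) v.2) (by
        have e' : proj (b : G) u = proj (b : G) v := congrArg Subtype.val e
        rw [map_mul, map_inv, e', inv_mul_cancel])))
    rw [← ConwayFiveQuot30.card_Rb S, ← Nat.card_congr (subgroupOfEquivOfLe hle).toEquiv]
    refine (Nat.card_eq_of_bijective _ ⟨hinj', ?_⟩).symm
    rintro ⟨_, u, hu, rfl⟩
    exact ⟨⟨u, hu⟩, rfl⟩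
  · let q : ↥(HH z (b : G)) →*
        ↥(centralizer ({proj (b : G) ⟨z, zb S⟩} : Set (↥(CB (b : G)) ⧸ Bc (b : G)))) :=
      { toFun := fun g => ⟨proj (b : G) ⟨g, g.2.2⟩,
          mem_centralizer_singleton_iff.mpr ((proj_comm_z S).mpr g.2)⟩
        map_one' := Subtype.ext rfl
        map_mul' := fun _ _ => Subtype.ext rfl }
    have hq : Function.Surjective q := by
      rintro ⟨w, hw⟩
      obtain ⟨g, rfl⟩ := QuotientGroup.mk'_surjective _ w
      exact ⟨⟨g, (proj_comm_z S).mp (mem_centralizer_singleton_iff.mp hw)⟩, rfl⟩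
    have hker : ∀ g, q g = 1 → ∃ k : ℕ, (g : G) = (b : G) ^ k := by
      intro g hg
      have h : proj (b : G) ⟨g, g.2.2⟩ = proj (b : G) 1 := by
        rw [map_one]; exact congrArg Subtype.val hg
      obtain ⟨k, hk⟩ := proj_eq.mp h
      exact ⟨k, by simpa using hk⟩
    let φA : ↥(HH z (b : G)) →* ↥(alternatingGroup (Fin 5)) := φ.codRestrict _ fun g => by
      rw [← ConwayFiveQuot30.range_eq S P hφ L]; exact ⟨g, rfl⟩
    have hle' : q.ker ≤ φA.ker := by
      intro g hg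
      obtain ⟨k, hk⟩ := hker g hg
      refine Subtype.ext ?_
      show φ g = 1
      rw [show g = (⟨(b : G), hbH⟩ : ↥(HH z (b : G))) ^ k from Subtype.ext (by simpa using hk),
        map_pow, phi_b S P hφ, one_pow]
    let f := MonoidHom.liftOfSurjective q hq ⟨φA, hle'⟩
    have hf : ∀ g, f (q g) = φA g := fun g => MonoidHom.liftOfRightInverse_comp_apply _ _ _ _ g
    refine ⟨f, fun π => ?_, ?_⟩
    · obtain ⟨π, hπ⟩ := π
      obtain ⟨g, rfl⟩ := (ConwayFiveQuot30.range_eq S P hφ L).symm.le hπ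
      exact ⟨q g, hf g⟩
    · ext w
      obtain ⟨g, rfl⟩ := hq w
      rw [MonoidHom.mem_ker, hf, mem_subgroupOf]
      constructor
      · intro h
        obtain ⟨r, hr, k, hk⟩ := kernel S P hφ L (congrArg Subtype.val h)
        exact ⟨⟨r, hle hr⟩, hr, (proj_eq.mpr ⟨k, hk⟩).symm⟩
      · rintro ⟨u, hu, e⟩
        obtain ⟨k, hk⟩ := proj_eq.mp e.symm
        refine Subtype.ext ?_
        show φ g = 1
        rw [show g = (⟨(u : G), Rb_le_HH S hu⟩ : ↥(HH z (b : G))) * (⟨(b : G), hbH⟩ : ↥(HH z (b : G))) ^ k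
          from Subtype.ext (by simpa using hk), map_mul, map_pow, phi_b S P hφ, one_pow, mul_one,
          phi_Rb S P hφ (g := ⟨(u : G), Rb_le_HH S hu⟩) hu]
  · refine ⟨proj (b : G) ⟨g', mem_centralizer_singleton_iff.mpr hg'.gb⟩, ?_, ?_⟩
    · refine ⟨⟨t, tb S⟩, t_Rb S, ?_⟩
      rw [← map_mul, ← map_inv, ← map_mul]
      exact congrArg _ (Subtype.ext hg'.gz.symm)
    · rw [← map_mul, ← map_inv, ← map_mul]
      intro e
      obtain ⟨k, hk⟩ := proj_eq.mp e
      simp only [Subgroup.coe_mul, Subgroup.coe_inv, hg'.gz] at hk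
      exact S.D.P.ne (eq_of_two S S.D.P.h'.zz S.D.H.h.zz (mem_Sx.mp b.2).1.symm hk)
  · haveI : Fact (Nat.Prime 2) := ⟨Nat.prime_two⟩
    have hne : ∀ (u : ↥(CB (b : G))), (u : G) * u = 1 → (u : G) ≠ 1 →
        orderOf (proj (b : G) u) = 2 := by
      intro u hu hu1
      refine orderOf_eq_prime (by rw [← map_pow, pow_two, show u * u = 1 from Subtype.ext hu, map_one])
        fun e => hu1 ?_
      rw [← map_one (proj (b : G))] at e
      obtain ⟨k, hk⟩ := proj_eq.mp e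
      exact eq_of_two S hu (one_mul 1) ((one_mul _).trans (mul_one _).symm) hk
    refine ⟨_, _, hne ⟨z, zb S⟩ S.D.H.h.zz S.D.H.h.ne_one,
      hne ⟨y, mem_centralizer_singleton_iff.mpr hyb⟩ hyy hy1, fun h => hyn ?_⟩
    obtain ⟨w, hw⟩ := isConj_iff.mp h
    obtain ⟨c, rfl⟩ := QuotientGroup.mk'_surjective _ w
    rw [← map_mul, ← map_inv, ← map_mul] at hw
    obtain ⟨k, hk⟩ := proj_eq.mp hw
    refine isConj_iff.mpr ⟨c, eq_of_two S ?_ hyy hyb hk⟩
    calc (c : G) * z * (c : G)⁻¹ * ((c : G) * z * (c : G)⁻¹) = c * (z * z) * (c : G)⁻¹ := by group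
      _ = 1 := by rw [S.D.H.h.zz]; group

end Cfsg.Agent.ConwayFiveHyp30
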