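import Cfsg.Agent.Lib.ConwayFiveSplit30

/-!
# The centraliser of `z` in the Hall–Janko group
-/

set_option autoImplicit false
set_option linter.style.haveILetI false
set_option linter.unusedSectionVars false

namespace Cfsg.Agent.ConwayFiveLocal30

open Subgroup
open Cfsg.Agent.ConwayTypeModel62 Cfsg.Agent.ConwayTypeCoord62
open Cfsg.Agent.ConwayFiveStd30 Cfsg.Agent.ConwayFivePts30 Cfsg.Agent.ConwayFiveHyp30
open Cfsg.Agent.ConwayFiveSplit30 Cfsg.Agent.ConwayFiveFlip30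

variable {G : Type*} [Group G] [Finite G]

/-- The commutator group of the centraliser of `b`. -/
def LG (b : G) : Subgroup G := (commutator ↥(CB b)).map (CB b).subtype

/-- Its part centralising `z`. -/
def H1 (z b : G) : Subgroup G := LG b ⊓ centralizer ({z} : Set G)

theorem LG_comm {b x : G} (hx : x ∈ LG b) : x * b = b * x := by
  obtain ⟨y, -, rfl⟩ := hx
  exact mem_centralizer_singleton_iff.mp y.2

theorem H1_le_HH {z b : G} : H1 z b ≤ HH z b := fun _ hx =>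
  mem_HH.mpr ⟨mem_centralizer_singleton_iff.mp hx.2, LG_comm hx.1⟩

variable {Q Q' : Subgroup G} {z t : G} {ν : G → M6} {d : G} {ρ : ↥(Sx z t) →* P8}
  {b : ↥(Sx z t)} (S : Std Q Q' z t ν d ρ b)
include S

theorem two_LG {x : G} (hxb : x * (b : G) = b * x) {n : ℕ} (hx : x ^ 2 ^ n = 1) :
    x ∈ LG (b : G) :=
  ⟨⟨x, mem_centralizer_singleton_iff.mpr hxb⟩, two_mem S _ hx, rfl⟩

theorem z_LG : z ∈ LG (b : G) :=
  two_LG S (mem_Sx.mp b.2).1.symm (n := 1) (by rw [pow_one, pow_two, S.D.H.h.zz])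

theorem t_LG : t ∈ LG (b : G) :=
  two_LG S (mem_Sx.mp b.2).2.symm (n := 1) (by rw [pow_one, pow_two, S.D.P.h'.zz])

theorem Rb_le_H1 : Rb Q (b : G) ≤ H1 z (b : G) := by
  intro x hx
  obtain ⟨hxQ, hxb⟩ := mem_Rb.mp hx
  refine ⟨two_LG S hxb (n := 2) ?_, mem_centralizer_singleton_iff.mpr (S.D.H.h.comm x hxQ)⟩
  rcases S.D.H.h.sq x hxQ with e | e
  · rw [show x ^ 2 ^ 2 = (x * x) * (x * x) by simp [pow_succ, mul_assoc], e, one_mul]
  · rw [show x ^ 2 ^ 2 = (x * x) * (x * x) by simp [pow_succ, mul_assoc], e, S.D.H.h.zz]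

theorem HH_split {g : G} (hg : g ∈ HH z (b : G)) :
    ∃ h ∈ H1 z (b : G), ∃ k : ℕ, g = h * (b : G) ^ k := by
  obtain ⟨hgz, hgb⟩ := mem_HH.mp hg
  obtain ⟨l, hl, k, hk⟩ := exists_split S ⟨g, mem_centralizer_singleton_iff.mpr hgb⟩
  refine ⟨l, ⟨⟨l, hl, rfl⟩, mem_centralizer_singleton_iff.mpr ?_⟩, k, hk⟩
  have e : (l : G) = g * ((b : G) ^ k)⁻¹ := by rw [show g = _ from hk]; group
  rw [e]
  exact ((show Commute g z from hgz).mul_left
    ((show Commute (b : G) z from (mem_Sx.mp b.2).1).pow_left k).inv_left).eq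

theorem card_H1 : Nat.card ↥(H1 z (b : G)) = 1920 := by
  classical
  rw [← J2TypePoints79.card_H (quot_hyp S)]
  have hb : ∀ x : G, x ∈ H1 z (b : G) → x ∈ CB (b : G) := fun x hx =>
    mem_centralizer_singleton_iff.mpr (LG_comm hx.1)
  have hmem : ∀ x (hx : x ∈ H1 z (b : G)),
      proj (b : G) ⟨x, hb x hx⟩ ∈ centralizer ({proj (b : G) ⟨z, zb S⟩} : Set _) := fun x hx =>
    mem_centralizer_singleton_iff.mpr ((proj_comm_z S).mpr (H1_le_HH hx))
  refine Nat.card_eq_of_bijective (fun x => ⟨_, hmem x.1 x.2⟩) ⟨fun x y e => ?_, fun w => ?_⟩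
  · have e' : proj (b : G) ⟨x.1, hb _ x.2⟩ = proj (b : G) ⟨y.1, hb _ y.2⟩ := congrArg Subtype.val e
    obtain ⟨x', hx', ex⟩ := x.2.1
    obtain ⟨y', hy', ey⟩ := y.2.1
    have e2 : proj (b : G) x' = proj (b : G) y' := by
      rw [show x' = ⟨x.1, hb _ x.2⟩ from Subtype.ext ex, show y' = ⟨y.1, hb _ y.2⟩ from Subtype.ext ey]
      exact e'
    have h3 : (⟨x', hx'⟩ : ↥(commutator ↥(CB (b : G)))) = ⟨y', hy'⟩ := (proj_bijective S).1 e2
    exact Subtype.ext (by rw [← ex, ← ey, show x' = y' from congrArg Subtype.val h3])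
  · obtain ⟨w, hw⟩ := w
    obtain ⟨g, rfl⟩ := QuotientGroup.mk'_surjective _ w
    obtain ⟨h, hh, k, hk⟩ := HH_split S
      ((proj_comm_z S).mp (mem_centralizer_singleton_iff.mp hw))
    exact ⟨⟨h, hh⟩, Subtype.ext (proj_eq.mpr ⟨k, hk⟩).symm⟩

variable {a : Fin 5 → G} (P : J2TypePoints79.Pts (Rb Q (b : G)) z a)
  {φ : ↥(HH z (b : G)) →* Equiv.Perm (Fin 5)}
  (hφ : ∀ (g : ↥(HH z (b : G))) p,
    (g : G) * a p * (g : G)⁻¹ = a (φ g p) ∨ (g : G) * a p * (g : G)⁻¹ = z * a (φ g p))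
  (L : Labelled t ν d a)
include P hφ L

/-- A normal subgroup of small index is everything. -/
theorem normal_eq_top' (N : Subgroup ↥(H1 z (b : G))) [N.Normal] (hN : N.index < 60) : N = ⊤ := by
  classical
  haveI := alternatingGroup.isSimpleGroup_five
  have hbH : (b : G) ∈ HH z (b : G) := mem_HH.mpr ⟨(mem_Sx.mp b.2).1, rfl⟩
  let ψ : ↥(H1 z (b : G)) →* ↥(alternatingGroup (Fin 5)) :=
    (φ.comp (Subgroup.inclusion H1_le_HH)).codRestrict _ fun g => by
      rw [← ConwayFiveQuot30.range_eq S P hφ L]; exact ⟨_, rfl⟩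
  have hψ : Function.Surjective ψ := by
    rintro ⟨π, hπ⟩
    obtain ⟨g, rfl⟩ := (ConwayFiveQuot30.range_eq S P hφ L).symm.le hπ
    obtain ⟨h, hh, k, hk⟩ := HH_split S g.2
    refine ⟨⟨h, hh⟩, Subtype.ext ?_⟩
    show φ ⟨h, H1_le_HH hh⟩ = φ g
    rw [show g = ⟨h, H1_le_HH hh⟩ * (⟨(b : G), hbH⟩ : ↥(HH z (b : G))) ^ k from
      Subtype.ext (by simpa using hk), map_mul, map_pow, phi_b S P hφ, one_pow, mul_one]
  have hker : ∀ g : ↥(H1 z (b : G)), ψ g = 1 → (g : G) ∈ Rb Q (b : G) := by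
    intro g hg
    obtain ⟨r, hr, k, hk⟩ := kernel S P hφ L (g := ⟨g, H1_le_HH g.2⟩) (congrArg Subtype.val hg)
    have hk' : (g : G) = r * (b : G) ^ k := hk
    have hbL : (b : G) ^ k ∈ LG (b : G) := by
      have h := (LG (b : G)).mul_mem ((LG (b : G)).inv_mem (Rb_le_H1 S hr).1) g.2.1
      rwa [hk', inv_mul_cancel_left] at h
    obtain ⟨y, hy, ey⟩ := hbL
    have h1 : y = 1 := comm_inf S y hy (by
      rw [← map_one (proj (b : G))]
      exact proj_eq.mpr ⟨k, by rw [OneMemClass.coe_one, one_mul]; exact ey⟩)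
    rw [h1, map_one] at ey
    rw [hk', ← ey, mul_one]
    exact hr
  have hmap : (N.map ψ) = ⊤ := by
    refine (IsSimpleGroup.eq_bot_or_eq_top_of_normal _
      (Subgroup.Normal.map inferInstance ψ hψ)).resolve_left fun h => ?_
    rw [Subgroup.map_eq_bot_iff] at h
    have hd := Subgroup.index_dvd_of_le h
    rw [Subgroup.index_ker, MonoidHom.range_eq_top.mpr hψ, Subgroup.card_top,
      nat_card_alternatingGroup] at hd
    simp [Nat.factorial] at hd
    have := Nat.le_of_dvd (Nat.pos_of_ne_zero Subgroup.index_ne_zero_of_finite) hd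
    omega
  let r : Fin 5 → ↥(H1 z (b : G)) := fun p => ⟨a p, Rb_le_H1 S (P.mem p)⟩
  let zz : ↥(H1 z (b : G)) := ⟨z, z_LG S, mem_centralizer_singleton_iff.mpr rfl⟩
  have hzc : ∀ g : ↥(H1 z (b : G)), g * zz = zz * g := fun g =>
    Subtype.ext (mem_centralizer_singleton_iff.mp g.2.2)
  have hzz : zz * zz = 1 := Subtype.ext S.D.H.h.zz
  have hrr : ∀ p, r p * r p = 1 := fun p => Subtype.ext (P.sq p)
  -- membership modulo `z`
  let D : Subgroup ↥(H1 z (b : G)) := N ⊔ zpowers zz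
  have hD : ∀ x ∈ D, x ∈ N ∨ x * zz ∈ N := by
    intro x hx
    obtain ⟨n, hn, w, hw, rfl⟩ := Subgroup.mem_sup_of_normal_left.mp hx
    obtain ⟨i, rfl⟩ := mem_zpowers_iff.mp hw
    rcases Int.even_or_odd i with ⟨j, rfl⟩ | ⟨j, rfl⟩
    · exact Or.inl (by rwa [← two_mul, zpow_mul, zpow_two, hzz, one_zpow, mul_one])
    · refine Or.inr ?_
      rwa [zpow_add, zpow_mul, zpow_two, hzz, one_zpow, one_mul, zpow_one, mul_assoc, hzz, mul_one]
  have hpair : ∀ p q, r q * r p ∈ D := by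
    intro p q
    obtain ⟨π, hπe, hπ⟩ : ∃ π : Equiv.Perm (Fin 5), Equiv.Perm.sign π = 1 ∧ π p = q := by
      revert p q; decide +kernel
    obtain ⟨n, hn, en⟩ := hmap.ge (mem_top (⟨π, Equiv.Perm.mem_alternatingGroup.mpr hπe⟩ :
      ↥(alternatingGroup (Fin 5))))
    have e1 : φ ⟨n, H1_le_HH n.2⟩ = π := congrArg Subtype.val en
    have hc : n * r p * n⁻¹ * (r p)⁻¹ ∈ D := by
      refine le_sup_left (a := N) ?_
      rw [show n * r p * n⁻¹ * (r p)⁻¹ = n * (r p * n⁻¹ * (r p)⁻¹) by group]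
      exact N.mul_mem hn ((inferInstance : N.Normal).conj_mem _ (N.inv_mem hn) (r p))
    have hrp : (r p)⁻¹ = r p := inv_eq_of_mul_eq_one_right (hrr p)
    rw [hrp] at hc
    have hm : (n : G) * a p * (n : G)⁻¹ = a q ∨ (n : G) * a p * (n : G)⁻¹ = z * a q := by
      have := hφ ⟨n, H1_le_HH n.2⟩ p
      rwa [e1, hπ] at this
    rcases hm with e | e
    · rwa [show n * r p * n⁻¹ = r q from Subtype.ext e] at hc
    · rw [show n * r p * n⁻¹ = zz * r q from Subtype.ext e, mul_assoc] at hc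
      have := D.mul_mem (le_sup_right (a := N) (mem_zpowers zz)) hc
      rwa [← mul_assoc, hzz, one_mul] at this
  have hall : ∀ x : ↥(H1 z (b : G)), (x : G) ∈ Rb Q (b : G) → x ∈ D := by
    intro x hx
    have hzD : zz ∈ D := le_sup_right (a := N) (mem_zpowers zz)
    -- the product of four points
    have h4 : r 1 * r 2 * (r 3 * r 4) ∈ D := mul_mem (hpair _ _) (hpair _ _)
    have hprodQ : a 1 * a 2 * (a 3 * a 4) ∈ Rb Q (b : G) :=
      mul_mem (mul_mem (P.mem 1) (P.mem 2)) (mul_mem (P.mem 3) (P.mem 4))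
    have hU : InU z t (a 1 * a 2 * (a 3 * a 4)) := by
      have hQ : ∀ p, a p ∈ Q := fun p => (mem_Rb.mp (P.mem p)).1
      obtain ⟨hC1, hν1⟩ := out_prod S (hQ _) (hQ _) (L.2 0).1 (L.2 1).1
      obtain ⟨hC2, hν2⟩ := out_prod S (hQ _) (hQ _) (L.2 2).1 (L.2 3).1
      refine (S.D.K.ker _ (mul_mem hC1 hC2)).mp ?_
      show ν (a (Fin.succ 0) * a (Fin.succ 1) * (a (Fin.succ 2) * a (Fin.succ 3))) = 0
      rw [S.D.K.add _ hC1 _ hC2, hν1, hν2, (L.2 0).2, (L.2 1).2, (L.2 2).2, (L.2 3).2]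
      decide +kernel
    have hmove : ∀ w : G, (∀ p, p ≠ 1 → a p * w * (a p)⁻¹ = z * w) → a 1 * w * (a 1)⁻¹ = w →
        a 1 * a 2 * (a 3 * a 4) * w * (a 1 * a 2 * (a 3 * a 4))⁻¹ = z * w := by
      intro w hw h1
      have hz1 : ∀ p, a p * z = z * a p := fun p => S.D.H.h.comm _ (mem_Rb.mp (P.mem p)).1
      have step : ∀ p (v : G), a p * (z * v) * (a p)⁻¹ = z * (a p * v * (a p)⁻¹) := fun p v => by
        rw [← mul_assoc (a p), hz1]; group
      calc a 1 * a 2 * (a 3 * a 4) * w * (a 1 * a 2 * (a 3 * a 4))⁻¹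
          = a 1 * (a 2 * (a 3 * (a 4 * w * (a 4)⁻¹) * (a 3)⁻¹) * (a 2)⁻¹) * (a 1)⁻¹ := by group
        _ = z * w := by
            rw [hw 4 (by decide), step, hw 3 (by decide), S.D.H.h.z_mul_z_mul, hw 2 (by decide),
              step, h1]
    have hne : ¬ (a 1 * a 2 * (a 3 * a 4) = 1 ∨ a 1 * a 2 * (a 3 * a 4) = z) := by
      intro h
      have h2 := hmove (a 1) (fun p hp => P.anti p 1 hp) (by rw [mul_inv_cancel_right])
      rcases h with e | e <;> rw [e] at h2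
      · exact S.D.H.h.z_mul_ne (a 1) (by rw [← h2]; group)
      · rw [← S.D.H.h.comm _ (mem_Rb.mp (P.mem 1)).1, mul_inv_cancel_right] at h2
        exact S.D.H.h.z_mul_ne (a 1) (h2.trans (S.D.H.h.comm _ (mem_Rb.mp (P.mem 1)).1)).symm
    let tt : ↥(H1 z (b : G)) :=
      ⟨t, t_LG S, mem_centralizer_singleton_iff.mpr (S.D.H.h.comm t S.D.P.z'Q)⟩
    have ht : tt ∈ D := by
      rcases hU with e | e | e | e
      · exact absurd (Or.inl e) hne
      · exact absurd (Or.inr e) hne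
      · rw [show tt = r 1 * r 2 * (r 3 * r 4) from Subtype.ext e.symm]; exact h4
      · rw [show tt = zz * (r 1 * r 2 * (r 3 * r 4)) from Subtype.ext
          (show t = z * (a 1 * a 2 * (a 3 * a 4)) by rw [e, S.D.H.h.z_mul_z_mul])]
        exact D.mul_mem hzD h4
    have hp : ∀ p, r p ∈ D := fun p => by
      have h := D.mul_mem (hpair 0 p) (show r 0 ∈ D by rw [show r 0 = tt from Subtype.ext L.1]; exact ht)
      rwa [mul_assoc, hrr, mul_one] at h
    have hUD : ∀ y : ↥(H1 z (b : G)), InU z t (y : G) → y ∈ D := by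
      intro y hy
      rcases hy with e | e | e | e
      · rw [show y = 1 from Subtype.ext e]; exact one_mem _
      · rw [show y = zz from Subtype.ext e]; exact hzD
      · rw [show y = tt from Subtype.ext e]; exact ht
      · rw [show y = zz * tt from Subtype.ext e]
        exact D.mul_mem hzD ht
    have hout : ∀ y : ↥(H1 z (b : G)), (y : G) ∈ Rb Q (b : G) → ¬ (y : G) * t = t * y → y ∈ D := by
      intro y hy hyt
      obtain ⟨i, hi⟩ := out_label S hy hyt
      obtain ⟨hC, hν⟩ := out_prod S (mem_Rb.mp (P.mem i.succ)).1 (mem_Rb.mp hy).1 (L.2 i).1 hyt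
      rw [(L.2 i).2, hi, ConwayTypeModel62.add_self] at hν
      have h1 := hUD (r i.succ * y) ((S.D.K.ker _ hC).mp hν)
      have h2 := D.mul_mem (hp i.succ) h1
      rwa [← mul_assoc, hrr, one_mul] at h2
    by_cases hxt : (x : G) * t = t * x
    · have h1 := hout (r 1 * x) (mul_mem (P.mem 1) hx) fun e => (L.2 0).1 (by
        have h2 := (show Commute (a 1 * (x : G)) t from e).mul_left (show Commute (x : G) t from hxt).inv_left
        rw [mul_inv_cancel_right] at h2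
        exact h2.eq)
      have h2 := D.mul_mem (hp 1) h1
      rwa [← mul_assoc, hrr, one_mul] at h2
    · exact hout x hx hxt
  have hzN : zz ∈ N := by
    have hcomm : ∀ u v : ↥(H1 z (b : G)), u ∈ N → u * v * u⁻¹ * v⁻¹ ∈ N := fun u v hu => by
      rw [show u * v * u⁻¹ * v⁻¹ = u * (v * u⁻¹ * v⁻¹) by group]
      exact N.mul_mem hu ((inferInstance : N.Normal).conj_mem _ (N.inv_mem hu) v)
    have e01 : r 0 * r 1 * (r 0)⁻¹ * (r 1)⁻¹ = zz := by
      apply Subtype.ext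
      show a 0 * a 1 * (a 0)⁻¹ * (a 1)⁻¹ = z
      rw [P.anti 0 1 (by decide), mul_inv_cancel_right]
    rcases hD _ (hall (r 0) (P.mem 0)) with h | h
    · exact e01 ▸ hcomm _ _ h
    · have h2 := hcomm _ (r 1) h
      have hc : r 0 * zz * r 1 * (r 0 * zz)⁻¹ * (r 1)⁻¹ = r 0 * r 1 * (r 0)⁻¹ * (r 1)⁻¹ := by
        rw [show r 0 * zz * r 1 * (r 0 * zz)⁻¹ = r 0 * (zz * r 1 * zz⁻¹) * (r 0)⁻¹ by group,
          ← hzc (r 1), mul_inv_cancel_right]
      rw [hc, e01] at h2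
      exact h2
  refine eq_top_iff.mpr fun g _ => ?_
  obtain ⟨n, hn, en⟩ := hmap.ge (mem_top (ψ g))
  have hR := hker (n⁻¹ * g) (by rw [map_mul, map_inv, en, inv_mul_cancel])
  have : n⁻¹ * g ∈ N := by
    rcases hD _ (hall _ hR) with h | h
    · exact h
    · have := N.mul_mem h hzN
      rwa [mul_assoc, hzz, mul_one] at this
  have := N.mul_mem hn this
  rwa [mul_inv_cancel_left] at this

omit P hφ L in
/-- A normal subgroup of small index is everything. -/
theorem normal_eq_top (N : Subgroup ↥(H1 z (b : G))) [N.Normal] (hN : N.index < 60) : N = ⊤ := by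
  obtain ⟨a, P, L⟩ := exists_pts S
  obtain ⟨φ, hφ⟩ := exists_perm S P
  exact normal_eq_top' S P hφ L N hN

omit P hφ L in
theorem hom_trivial {M : Type*} [Group M] (f : ↥(H1 z (b : G)) →* M) (hf : Nat.card f.range < 60)
    (g : ↥(H1 z (b : G))) : f g = 1 := by
  have h := normal_eq_top S f.ker (by rwa [Subgroup.index_ker])
  exact MonoidHom.mem_ker.mp (h ▸ mem_top g)

end Cfsg.Agent.ConwayFiveLocal30
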