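import Cfsg.Agent.Lib.ConwayFiveCent30
import Cfsg.Agent.Lib.ConwayFiveGen30

/-!
# The centraliser of an element of order five of the first class and of its layer
-/

set_option autoImplicit false
set_option linter.style.haveILetI false
set_option linter.unusedSectionVars false

namespace Cfsg.Agent.ConwayFiveMain30

open Subgroup
open Cfsg.Agent.ConwayTypeModel62 Cfsg.Agent.ConwayTypeCoord62 Cfsg.Agent.ConwayTypeRadical62
open Cfsg.Agent.ConwayFiveStd30 Cfsg.Agent.ConwayFivePts30 Cfsg.Agent.ConwayFiveHyp30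
open Cfsg.Agent.ConwayFiveSplit30 Cfsg.Agent.ConwayFiveLocal30 Cfsg.Agent.ConwayFiveCent30
open Cfsg.Agent.ConwayFiveFlip30

variable {G : Type*} [Group G] [Finite G]

/-- The statement for a given element of order five and any subgroup equal to its centraliser. -/
theorem main {Q Q' : Subgroup G} {z t : G} {ν : G → M6} {d : G} {ρ : ↥(Sx z t) →* P8}
    {b : ↥(Sx z t)} (S : Std Q Q' z t ν d ρ b) (C' : Subgroup G) (hC : C' = CB (b : G)) :
    Cfsg.Spor.IsoJ2 ↥(Cfsg.layer ↥C') ∧
      Nonempty (↥(centralizer (((Cfsg.layer ↥C').map C'.subtype : Subgroup G) : Set G)) ≃*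
        alternatingGroup (Fin 5)) := by
  classical
  subst hC
  rw [layer_eq S]
  refine ⟨comm_iso S, ?_⟩
  obtain ⟨g, F⟩ := exists_flip S
  obtain ⟨e⟩ := inter_iso S F
  set K := KK Q z (b : G) with hK
  have hM : centralizer ((LG (b : G) : Subgroup G) : Set G) =
      K ⊓ K.map (MulAut.conj g).toMonoidHom := by
    apply le_antisymm
    · intro c hc
      rw [mem_centralizer_iff] at hc
      refine ⟨mem_KK.mpr ⟨(hc z (z_LG S)).symm, fun r hr => (hc r (Rb_le_H1 S hr).1).symm⟩,
        g⁻¹ * c * g, mem_KK.mpr ⟨?_, fun r hr => ?_⟩, by simp; group⟩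
      · have h := hc t (t_LG S)
        calc g⁻¹ * c * g * z = g⁻¹ * (c * (g * z * g⁻¹)) * g := by group
          _ = g⁻¹ * (g * z * g⁻¹ * c) * g := by rw [F.gz, h]
          _ = _ := by group
      · have hr4 : r ^ 2 ^ 2 = 1 := by
          rw [show (2 : ℕ) ^ 2 = 4 by norm_num, show r ^ 4 = r * r * (r * r) by
            simp [pow_succ, mul_assoc]]
          rcases S.D.H.h.sq r (mem_Rb.mp hr).1 with e | e <;> rw [e]
          exacts [one_mul 1, S.D.H.h.zz]
        have hgr : (g * r * g⁻¹) * (b : G) = b * (g * r * g⁻¹) :=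
          (((show Commute g (b : G) from F.gb).mul_left
            (show Commute r (b : G) from (mem_Rb.mp hr).2)).mul_left
              (show Commute g (b : G) from F.gb).inv_left).eq
        have h := hc _ (two_LG S hgr (n := 2) (by
          rw [conj_pow, hr4]; group))
        calc g⁻¹ * c * g * r = g⁻¹ * (c * (g * r * g⁻¹)) * g := by group
          _ = g⁻¹ * (g * r * g⁻¹ * c) * g := by rw [h]
          _ = _ := by group
    · intro m hm
      obtain ⟨hm1, k, hk, ek⟩ := hm
      simp only [MulEquiv.coe_toMonoidHom, MulAut.conj_apply] at ek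
      let T : Subgroup ↥(CB (b : G)) :=
        commutator ↥(CB (b : G)) ⊓ (centralizer ({m} : Set G)).comap (CB (b : G)).subtype
      have hT : ∀ x : ↥(CB (b : G)), x ∈ commutator ↥(CB (b : G)) → (x : G) * m = m * x → x ∈ T :=
        fun x h1 h2 => ⟨h1, mem_centralizer_singleton_iff.mpr h2⟩
      have hle : centralizer ({proj (b : G) ⟨z, zb S⟩} : Set _) ≤ T.map (proj (b : G)) := by
        intro w hw
        obtain ⟨x, rfl⟩ := QuotientGroup.mk'_surjective _ w
        obtain ⟨h, hh, i, hi⟩ := HH_split S ((proj_comm_z S).mp (mem_centralizer_singleton_iff.mp hw))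
        obtain ⟨y, hy, rfl⟩ := hh.1
        exact ⟨y, hT y hy (KK_H1 S hm1 hh).symm, (proj_eq.mpr ⟨i, hi⟩).symm⟩
      obtain ⟨⟨yd, hyd, ed⟩, hdz⟩ := Rb_le_H1 S (d_Rb S)
      have hd'' : g * d * g⁻¹ ∈ LG (b : G) ∧ (g * d * g⁻¹) * m = m * (g * d * g⁻¹) := by
        refine ⟨two_LG S ?_ (n := 2) ?_, ?_⟩
        · exact (((show Commute g (b : G) from F.gb).mul_left
            (show Commute d (b : G) from (mem_Rb.mp (d_Rb S)).2)).mul_left
              (show Commute g (b : G) from F.gb).inv_left).eq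
        · rw [conj_pow, show (2 : ℕ) ^ 2 = 4 by norm_num, show d ^ 4 = d * d * (d * d) by
            simp [pow_succ, mul_assoc]]
          rcases S.D.H.h.sq d S.D.hd with e | e <;> rw [e]
          · group
          · rw [S.D.H.h.zz]; group
        · have h := (mem_KK.mp hk).2 d (d_Rb S)
          rw [← ek]
          calc g * d * g⁻¹ * (g * k * g⁻¹) = g * (d * k) * g⁻¹ := by group
            _ = g * (k * d) * g⁻¹ := by rw [h]
            _ = _ := by group
      obtain ⟨⟨ye, hye, ee⟩, hem⟩ := hd''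
      have hmd : (yd : G) * m = m * yd := by
        rw [show (yd : G) = d from ed]; exact ((mem_KK.mp hm1).2 d (d_Rb S)).symm
      have hme : (ye : G) * m = m * ye := by
        rw [show (ye : G) = g * d * g⁻¹ from ee]; exact hem
      have hγ : proj (b : G) (yd⁻¹ * ye) ∈ T.map (proj (b : G)) :=
        mem_map_of_mem _ (mul_mem (inv_mem (hT yd hyd hmd)) (hT ye hye hme))
      have hmove : proj (b : G) (yd⁻¹ * ye) * proj (b : G) ⟨z, zb S⟩ * (proj (b : G) (yd⁻¹ * ye))⁻¹ =
          proj (b : G) ⟨t, tb S⟩ := by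
        rw [← map_mul, ← map_inv, ← map_mul]
        refine congrArg _ (Subtype.ext ?_)
        simp only [Subgroup.coe_mul, Subgroup.coe_inv]
        rw [show (yd : G) = d from ed, show (ye : G) = g * d * g⁻¹ from ee]
        have hgt' : g⁻¹ * z * g = t := by rw [← F.gt]; group
        calc d⁻¹ * (g * d * g⁻¹) * z * (d⁻¹ * (g * d * g⁻¹))⁻¹
            = d⁻¹ * (g * (d * (g⁻¹ * z * g) * d⁻¹) * g⁻¹) * d := by group
          _ = d⁻¹ * ((g * z * g⁻¹) * (g * t * g⁻¹)) * d := by rw [hgt', S.D.ed]; group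
          _ = d⁻¹ * (z * t) * d := by rw [F.gz, F.gt, ← S.D.H.zx S.D.sing]
          _ = d⁻¹ * (d * t * d⁻¹) * d := by rw [S.D.ed]
          _ = t := by group
      have htop := ConwayFiveGen30.eq_top (quot_hyp S) hle hγ
        (by rw [hmove]; exact mem_map_of_mem _ (t_Rb S)) (by
          rw [hmove]
          intro e
          obtain ⟨i, hi⟩ := proj_eq.mp e
          exact S.D.P.ne (eq_of_two S S.D.P.h'.zz S.D.H.h.zz (mem_Sx.mp b.2).1.symm hi))
      refine mem_centralizer_iff.mpr ?_
      rintro _ ⟨l, hl, rfl⟩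
      obtain ⟨x, ⟨hx1, hx2⟩, ex⟩ := htop.ge (mem_top (proj (b : G) l))
      have : (⟨x, hx1⟩ : ↥(commutator ↥(CB (b : G)))) = ⟨l, hl⟩ := (proj_bijective S).1 ex
      rw [← show x = l from congrArg Subtype.val this]
      exact mem_centralizer_singleton_iff.mp hx2
  exact ⟨(MulEquiv.subgroupCongr hM).trans e⟩

end Cfsg.Agent.ConwayFiveMain30
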