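import Cfsg.Agent.Lib.ConwayFiveStd30
import Cfsg.Agent.Lib.ConwayTypeCentral62
import Cfsg.Agent.Lib.J2TypePoints79

/-!
# The five points in the fixed extraspecial group of an element of order five
-/

set_option autoImplicit false
set_option linter.style.haveILetI false
set_option linter.unusedSectionVars false

namespace Cfsg.Agent.ConwayFivePts30

open Subgroup Cfsg.Agent.LargeExtraspecial Cfsg.Agent.LargeExtraspecialPair
open Cfsg.Agent.ConwayTypeModel62 Cfsg.Agent.ConwayTypeCoord62 Cfsg.Agent.ConwayTypeRadical62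
open Cfsg.Agent.ConwayFiveFacts30 Cfsg.Agent.ConwayFiveStd30

variable {G : Type*} [Group G] [Finite G]

/-- The centraliser of `z` and `b`. -/
def HH (z b : G) : Subgroup G := centralizer ({z} : Set G) ⊓ centralizer ({b} : Set G)

theorem mem_HH {z b g : G} : g ∈ HH z b ↔ g * z = z * g ∧ g * b = b * g := by
  simp [HH, mem_centralizer_singleton_iff]

variable {Q Q' : Subgroup G} {z t : G} {ν : G → M6} {d : G} {ρ : ↥(Sx z t) →* P8}
  {b : ↥(Sx z t)} (S : Std Q Q' z t ν d ρ b)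
include S

theorem Q_le_C {x : G} (hx : x ∈ Q) : x * z = z * x := S.D.H.h.comm x hx

theorem Rb_le_HH : Rb Q (b : G) ≤ HH z (b : G) := fun x hx =>
  mem_HH.mpr ⟨Q_le_C S (mem_Rb.mp hx).1, (mem_Rb.mp hx).2⟩

theorem Rb_conj {g x : G} (hg : g ∈ HH z (b : G)) (hx : x ∈ Rb Q (b : G)) :
    g * x * g⁻¹ ∈ Rb Q (b : G) := by
  obtain ⟨hgz, hgb⟩ := mem_HH.mp hg
  obtain ⟨hxQ, hxb⟩ := mem_Rb.mp hx
  refine mem_Rb.mpr ⟨S.D.H.h.norm g hgz x hxQ, ?_⟩
  exact ((show Commute g (b : G) from hgb).mul_left (show Commute x (b : G) from hxb)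
    |>.mul_left (show Commute g (b : G) from hgb).inv_left).eq

theorem t_Rb : t ∈ Rb Q (b : G) :=
  mem_Rb.mpr ⟨S.D.P.z'Q, ((mem_Sx.mp b.2).2).symm⟩

theorem z_Rb : z ∈ Rb Q (b : G) :=
  mem_Rb.mpr ⟨S.D.H.h.mem, ((mem_Sx.mp b.2).1).symm⟩

theorem d_inv_comm : ¬ d⁻¹ * t = t * d⁻¹ := fun e => by
  have hcm : Commute d t := by simpa using (show Commute d⁻¹ t from e).inv_left
  exact (S.D.H.h.not_comm_iff S.D.sing.1 S.D.hd).mpr S.D.ed hcm

/-- The label of an element outside the centraliser of `t`. -/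
theorem out_Cx {x : G} (hx : x ∈ Q) (hne : ¬ x * t = t * x) : d⁻¹ * x ∈ Cx Q t := by
  refine mem_Cx.mpr ⟨Q.mul_mem (Q.inv_mem S.D.hd) hx, ?_⟩
  refine mul_inv_eq_iff_eq_mul.mp (S.D.H.h.mul_fix (Q.inv_mem S.D.hd) ?_
    ((S.D.H.h.not_comm_iff S.D.sing.1 hx).mp hne))
  exact (S.D.H.h.not_comm_iff S.D.sing.1 (Q.inv_mem S.D.hd)).mp (d_inv_comm S)

theorem out_label {x : G} (hx : x ∈ Rb Q (b : G)) (hne : ¬ x * t = t * x) :
    ∃ i, ν (d⁻¹ * x) = fx i := by
  obtain ⟨hxQ, hxb⟩ := mem_Rb.mp hx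
  refine (cx_comm_iff S (out_Cx S hxQ hne)).mp ?_
  exact ((show Commute d (b : G) from S.bd.symm).inv_left.mul_left hxb).eq

theorem in_label {x : G} (hx : x ∈ Rb Q (b : G)) (hc : x * t = t * x) : ∃ i, ν x = fx i :=
  (cx_comm_iff S (mem_Cx.mpr ⟨(mem_Rb.mp hx).1, hc⟩)).mp (mem_Rb.mp hx).2

theorem in_invol {x : G} (hx : x ∈ Rb Q (b : G)) (hc : x * t = t * x) (hxx : x * x = 1) :
    InU z t x := by
  obtain ⟨i, hi⟩ := in_label S hx hc
  have hC : x ∈ Cx Q t := mem_Cx.mpr ⟨(mem_Rb.mp hx).1, hc⟩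
  refine (S.D.K.ker x hC).mp ?_
  have h0 : f (ν x) = 0 := zp_inj S.D.H.h.ne_one (by rw [← S.D.K.sq x hC, hxx, zp_zero])
  rw [hi, (fx_form i i).1] at h0
  split_ifs at h0 with h
  · rw [hi, h]; rfl
  · exact absurd h0 (by decide)

/-- Conjugation by an element of `Q` does not change coordinates. -/
theorem nu_conj {w a : G} (hw : w ∈ Q) (ha : a ∈ Cx Q t) : ν (w * a * w⁻¹) = ν a := by
  rcases S.D.H.h.conj w hw a (mem_Cx.mp ha).1 with e | e <;> rw [e]
  rw [S.D.K.add z (S.D.H.z_mem S.D.sing) a ha,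
    (S.D.K.ker z (S.D.H.z_mem S.D.sing)).mpr (Or.inr (Or.inl rfl)), zero_add]

/-- The product of two elements outside the centraliser of `t`. -/
theorem out_prod {x y : G} (hx : x ∈ Q) (hy : y ∈ Q) (hxn : ¬ x * t = t * x)
    (hyn : ¬ y * t = t * y) : x * y ∈ Cx Q t ∧ ν (x * y) = ν (d⁻¹ * x) + ν (d⁻¹ * y) := by
  have ha := out_Cx S hx hxn
  have hb := out_Cx S hy hyn
  have hdd : d * d ∈ Cx Q t ∧ ν (d * d) = 0 := by
    rcases S.D.H.h.sq d S.D.hd with e | e <;> rw [e]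
    · exact ⟨one_mem _, S.D.H.nu_one S.D.sing S.D.K⟩
    · exact ⟨S.D.H.z_mem S.D.sing,
        (S.D.K.ker z (S.D.H.z_mem S.D.sing)).mpr (Or.inr (Or.inl rfl))⟩
  have hda : d * (d⁻¹ * x) * d⁻¹ ∈ Cx Q t := by
    rcases S.D.H.h.conj d S.D.hd _ (mem_Cx.mp ha).1 with e | e <;> rw [e]
    exacts [ha, mul_mem (S.D.H.z_mem S.D.sing) ha]
  rw [show x * y = d * (d⁻¹ * x) * d⁻¹ * (d * d * (d⁻¹ * y)) by group]
  refine ⟨mul_mem hda (mul_mem hdd.1 hb), ?_⟩
  rw [S.D.K.add _ hda _ (mul_mem hdd.1 hb), nu_conj S S.D.hd ha, S.D.K.add _ hdd.1 _ hb, hdd.2,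
    zero_add]

theorem exists_point (i : Fin 4) : ∃ x : G, x ∈ Rb Q (b : G) ∧ x * x = 1 ∧ ¬ x * t = t * x ∧
    ν (d⁻¹ * x) = fx i := by
  obtain ⟨a, ha, hab, hν⟩ := exists_fx S i
  obtain ⟨haQ, hat⟩ := mem_Cx.mp ha
  have hm : d * a ∈ Rb Q (b : G) := mul_mem (d_Rb S) (mem_Rb.mpr ⟨haQ, hab⟩)
  have hne : ¬ d * a * t = t * (d * a) := fun e => by
    refine (S.D.H.h.not_comm_iff S.D.sing.1 S.D.hd).mpr S.D.ed ?_
    have h2 := (show Commute (d * a) t from e).mul_left (show Commute a t from hat).inv_left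
    rw [mul_inv_cancel_right] at h2
    exact h2
  rcases S.D.H.h.sq (d * a) (mem_Rb.mp hm).1 with e | e
  · exact ⟨d * a, hm, e, hne, by rw [inv_mul_cancel_left]; exact hν⟩
  · refine ⟨d * a * t, mul_mem hm (t_Rb S), ?_, fun e' => hne ?_, ?_⟩
    · have e1 : d * a * t * (d * a)⁻¹ = z * t :=
        (S.D.H.h.not_comm_iff S.D.sing.1 (mem_Rb.mp hm).1).mp hne
      calc d * a * t * (d * a * t) = (d * a * t * (d * a)⁻¹) * (d * a * (d * a)) * t := by group
        _ = z * (t * z) * t := by rw [e1, e]; group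
        _ = z * z * (t * t) := by rw [← (show z * t = t * z from S.D.H.zx S.D.sing)]; group
        _ = 1 := by rw [S.D.H.h.zz, S.D.sing.2.1, one_mul]
    · have h2 := (show Commute (d * a * t) t from e').mul_left (Commute.refl t).inv_left
      rw [mul_inv_cancel_right] at h2
      exact h2.eq
    · rw [show d⁻¹ * (d * a * t) = a * t by group, S.D.K.add a ha t (S.D.H.x_mem S.D.sing),
        (S.D.K.ker t (S.D.H.x_mem S.D.sing)).mpr (Or.inr (Or.inr (Or.inl rfl))), add_zero]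
      exact hν

omit S in
/-- Points whose first member is `t` and whose other members carry the fixed vectors as labels. -/
def Labelled (t : G) (ν : G → M6) (d : G) (a : Fin 5 → G) : Prop :=
  a 0 = t ∧ ∀ i : Fin 4, ¬ a i.succ * t = t * a i.succ ∧ ν (d⁻¹ * a i.succ) = fx i

/-- The five points exist. -/
theorem exists_pts : ∃ a : Fin 5 → G,
    J2TypePoints79.Pts (Rb Q (b : G)) z a ∧ Labelled t ν d a := by
  choose q hq hqq hqn hqν using exists_point S
  refine ⟨Fin.cons t q, ⟨?_, ?_, ?_, ?_, ?_, ?_⟩, Fin.cons_zero _ _,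
    fun i => by rw [Fin.cons_succ]; exact ⟨hqn i, hqν i⟩⟩
  · intro p
    refine Fin.cases ?_ (fun i => ?_) p
    · rw [Fin.cons_zero]; exact t_Rb S
    · rw [Fin.cons_succ]; exact hq i
  · intro p
    refine Fin.cases ?_ (fun i => ?_) p
    · rw [Fin.cons_zero]; exact S.D.sing.2.1
    · rw [Fin.cons_succ]; exact hqq i
  · intro p
    refine Fin.cases ?_ (fun i => ?_) p
    · rw [Fin.cons_zero]; exact S.D.tz
    · rw [Fin.cons_succ]
      refine (S.D.conj_z_Q (mem_Rb.mp (hq i)).1 (hqq i) fun e => hqn i ?_).symm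
      rw [e, one_mul, mul_one]
  · intro x hx hxx
    by_cases hc : x * t = t * x
    · rcases in_invol S hx hc hxx with e | e | e | e
      · exact Or.inl e
      · exact Or.inr (Or.inl e)
      · exact Or.inr (Or.inr ⟨0, Or.inl (by rw [Fin.cons_zero]; exact e)⟩)
      · exact Or.inr (Or.inr ⟨0, Or.inr (by rw [Fin.cons_zero]; exact e)⟩)
    · obtain ⟨i, hi⟩ := out_label S hx hc
      obtain ⟨hC, hν⟩ := out_prod S (mem_Rb.mp (hq i)).1 (mem_Rb.mp hx).1 (hqn i) hc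
      rw [hqν, hi, ConwayTypeModel62.add_self] at hν
      have hU : InU z t (q i * x) := (S.D.K.ker _ hC).mp hν
      have hx' : x = q i * (q i * x) := by rw [← mul_assoc, hqq, one_mul]
      have hqt : q i * t * (q i)⁻¹ = z * t :=
        (S.D.H.h.not_comm_iff S.D.sing.1 (mem_Rb.mp (hq i)).1).mp (hqn i)
      have hqz : q i * z = z * q i := Q_le_C S (mem_Rb.mp (hq i)).1
      have hbad : ∀ u : G, (u = t ∨ u = z * t) → x = q i * u → False := by
        intro u hu e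
        apply S.D.H.h.ne_one
        have h1 : q i * u * (q i * u) = z := by
          have hcalc : q i * t * (q i * t) = z := by
            calc q i * t * (q i * t) = (q i * t * (q i)⁻¹) * (q i * q i) * t := by group
              _ = z := by rw [hqt, hqq, mul_one, mul_assoc, S.D.sing.2.1, mul_one]
          rcases hu with rfl | rfl
          · exact hcalc
          · have hzt : q i * (z * t) = z * (q i * t) := by rw [← mul_assoc, hqz, mul_assoc]
            have hqtz : q i * t * z = z * (q i * t) :=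
              Q_le_C S (Q.mul_mem (mem_Rb.mp (hq i)).1 S.D.P.z'Q)
            calc q i * (z * t) * (q i * (z * t)) = z * (q i * t * z) * (q i * t) := by rw [hzt]; group
              _ = z * z * (q i * t * (q i * t)) := by rw [hqtz]; group
              _ = z := by rw [S.D.H.h.zz, one_mul, hcalc]
        rw [← e, hxx] at h1
        exact h1.symm
      rcases hU with e | e | e | e
      · exact Or.inr (Or.inr ⟨i.succ, Or.inl (by rw [Fin.cons_succ, hx', e, mul_one])⟩)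
      · exact Or.inr (Or.inr ⟨i.succ, Or.inr (by rw [Fin.cons_succ, hx', e]; exact hqz)⟩)
      · exact (hbad _ (Or.inl rfl) (by rw [← e]; exact hx')).elim
      · exact (hbad _ (Or.inr rfl) (by rw [← e]; exact hx')).elim
  · intro p r hpr
    have hmem : ∀ p, Fin.cases (motive := fun _ => G) t q p ∈ Q := fun p =>
      Fin.cases (motive := fun p => Fin.cases (motive := fun _ => G) t q p ∈ Q) S.D.P.z'Q
        (fun i => (mem_Rb.mp (hq i)).1) p
    revert hpr
    refine Fin.cases ?_ (fun i => ?_) p <;> refine Fin.cases ?_ (fun j => ?_) r <;> intro hpr <;>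
      simp only [Fin.cons_zero, Fin.cons_succ]
    · exact absurd rfl hpr
    · exact (S.D.H.h.not_comm_iff (mem_Rb.mp (hq j)).1 S.D.P.z'Q).mp fun e => hqn j e.symm
    · exact (S.D.H.h.not_comm_iff S.D.P.z'Q (mem_Rb.mp (hq i)).1).mp (hqn i)
    · refine (S.D.H.h.not_comm_iff (mem_Rb.mp (hq j)).1 (mem_Rb.mp (hq i)).1).mp fun e => ?_
      obtain ⟨hC, hν⟩ := out_prod S (mem_Rb.mp (hq i)).1 (mem_Rb.mp (hq j)).1 (hqn i) (hqn j)
      have hsq : q i * q j * (q i * q j) = 1 := by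
        calc q i * q j * (q i * q j) = q i * (q j * q i) * q j := by group
          _ = (q i * q i) * (q j * q j) := by rw [← e]; group
          _ = 1 := by rw [hqq, hqq, one_mul]
      have h0 : f (ν (q i * q j)) = 0 :=
        zp_inj S.D.H.h.ne_one (by rw [← S.D.K.sq _ hC, hsq, zp_zero])
      rw [hν, hqν, hqν, f_add, (fx_form i i).1, (fx_form j j).1, (fx_form i j).2] at h0
      have hij : i ≠ j := fun e => hpr (by rw [e])
      exact absurd h0 ((show ∀ i j : Fin 4, i ≠ j → (if i = 0 then (0 : ZMod 2) else 1) +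
        (if j = 0 then 0 else 1) + (if i = 0 ∨ j = 0 ∨ i = j then 0 else 1) ≠ 0 by decide) i j hij)
  · intro p
    refine Fin.cases ?_ (fun i => ?_) p
    · rw [Fin.cons_zero]; exact ⟨S.D.sing.2.2.1, S.D.sing.2.2.2⟩
    · rw [Fin.cons_succ]
      exact ⟨fun e => hqn i (by rw [e, one_mul, mul_one]),
        fun e => hqn i (by rw [e]; exact S.D.H.zx S.D.sing)⟩

section perm

variable {a : Fin 5 → G} (P : J2TypePoints79.Pts (Rb Q (b : G)) z a)
include P

theorem point_unique {p q : Fin 5} (h : a p = a q ∨ a p = z * a q) : p = q := by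
  by_contra hne
  have h1 := P.anti p q hne
  have hzq : z * a q = a q * z := (Q_le_C S (mem_Rb.mp (P.mem q)).1).symm
  have hc : a p * a q = a q * a p := by
    rcases h with e | e <;> rw [e]
    rw [← mul_assoc (a q), ← hzq]
  rw [hc, mul_inv_cancel_right] at h1
  exact S.D.H.h.z_mul_ne _ h1.symm

/-- The action on the five points. -/
theorem exists_perm : ∃ φ : ↥(HH z (b : G)) →* Equiv.Perm (Fin 5), ∀ (g : ↥(HH z (b : G))) p,
    (g : G) * a p * (g : G)⁻¹ = a (φ g p) ∨ (g : G) * a p * (g : G)⁻¹ = z * a (φ g p) := by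
  have hex : ∀ (g : ↥(HH z (b : G))) p, ∃ q,
      (g : G) * a p * (g : G)⁻¹ = a q ∨ (g : G) * a p * (g : G)⁻¹ = z * a q := by
    intro g p
    rcases P.inv_cases _ (Rb_conj S g.2 (P.mem p))
      (by rw [show (g : G) * a p * (g : G)⁻¹ * ((g : G) * a p * (g : G)⁻¹) =
        g * (a p * a p) * (g : G)⁻¹ by group, P.sq]; group) with e | e | ⟨q, hq⟩
    · exact absurd (conj_eq_one_iff.mp e) (P.ne p).1
    · exfalso
      refine (P.ne p).2 ?_
      have := mul_inv_eq_iff_eq_mul.mp e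
      rw [← (mem_HH.mp g.2).1] at this
      exact mul_left_cancel this
    · exact ⟨q, hq⟩
  choose π hπ using hex
  have huniq : ∀ g p q, ((g : ↥(HH z (b : G))) : G) * a p * (g : G)⁻¹ = a q ∨
      (g : G) * a p * (g : G)⁻¹ = z * a q → π g p = q := by
    intro g p q h
    apply point_unique S P
    rcases hπ g p with e | e <;> rcases h with e' | e' <;> rw [e] at e'
    · exact Or.inl e'
    · exact Or.inr e'
    · exact Or.inr (by rw [← e', S.D.H.h.z_mul_z_mul])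
    · exact Or.inl (mul_left_cancel e')
  have hmul : ∀ g k p, π (g * k) p = π g (π k p) := by
    intro g k p
    refine huniq _ _ _ ?_
    have e : ((g * k : ↥(HH z (b : G))) : G) * a p * ((g * k : ↥(HH z (b : G))) : G)⁻¹ =
        g * ((k : G) * a p * (k : G)⁻¹) * (g : G)⁻¹ := by rw [Subgroup.coe_mul]; group
    rw [e]
    have hgz : (g : G) * z = z * g := (mem_HH.mp g.2).1
    rcases hπ k p with e1 | e1 <;> rw [e1]
    · exact hπ g _
    · rw [show (g : G) * (z * a (π k p)) * (g : G)⁻¹ = z * ((g : G) * a (π k p) * (g : G)⁻¹) by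
        rw [← mul_assoc (g : G), hgz]; group]
      rcases hπ g (π k p) with e2 | e2 <;> rw [e2]
      · exact Or.inr rfl
      · exact Or.inl (S.D.H.h.z_mul_z_mul _)
  have h1 : ∀ p, π 1 p = p := fun p => huniq 1 p p (Or.inl (by simp))
  let e : ↥(HH z (b : G)) → Equiv.Perm (Fin 5) := fun g =>
    { toFun := π g
      invFun := π g⁻¹
      left_inv := fun p => by rw [← hmul, inv_mul_cancel, h1]
      right_inv := fun p => by rw [← hmul, mul_inv_cancel, h1] }
  exact ⟨MonoidHom.mk' e fun g k => Equiv.ext (hmul g k), fun g p => hπ g p⟩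

variable {φ : ↥(HH z (b : G)) →* Equiv.Perm (Fin 5)}
  (hφ : ∀ (g : ↥(HH z (b : G))) p,
    (g : G) * a p * (g : G)⁻¹ = a (φ g p) ∨ (g : G) * a p * (g : G)⁻¹ = z * a (φ g p))
include hφ

theorem phi_eq {g : ↥(HH z (b : G))} {p q : Fin 5}
    (h : (g : G) * a p * (g : G)⁻¹ = a q ∨ (g : G) * a p * (g : G)⁻¹ = z * a q) : φ g p = q := by
  apply point_unique S P
  rcases hφ g p with e | e <;> rcases h with e' | e' <;> rw [e] at e'
  · exact Or.inl e'
  · exact Or.inr e'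
  · exact Or.inr (by rw [← e', S.D.H.h.z_mul_z_mul])
  · exact Or.inl (mul_left_cancel e')

/-- Elements of `C_Q(b)` fix all points. -/
theorem phi_Rb {g : ↥(HH z (b : G))} (hg : (g : G) ∈ Rb Q (b : G)) : φ g = 1 :=
  Equiv.ext fun p => phi_eq S P hφ
    (S.D.H.h.conj _ (mem_Rb.mp hg).1 _ (mem_Rb.mp (P.mem p)).1)

/-- The element of order five fixes all points. -/
theorem phi_b (hb : (b : G) ∈ HH z (b : G)) : φ ⟨_, hb⟩ = 1 :=
  Equiv.ext fun p => phi_eq S P hφ (Or.inl (mul_inv_eq_iff_eq_mul.mpr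
    (mem_Rb.mp (P.mem p)).2.symm))

variable (L : Labelled t ν d a)
include L

/-- An element centralising `t` fixes the first point and acts affinely on the others. -/
theorem phi_stab {g : ↥(HH z (b : G))} (ht : (g : G) * t = t * g) :
    φ g 0 = 0 ∧ ∃ (hS : (g : G) ∈ Sx z t) (j : Fin 3) (k : Fin 5) (w : Fin 4),
      ρ ⟨(g : G), hS⟩ = s5 ^ (k : ℕ) * c3 ^ (j : ℕ) ∧ ev ν d (g : G) = fx w ∧
      ∀ i : Fin 4, ∃ l : Fin 4, φ g i.succ = l.succ ∧
        fx l = act (c3 ^ (j : ℕ)) (fx i) + fx w := by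
  obtain ⟨hgz, hgb⟩ := mem_HH.mp g.2
  have hS : (g : G) ∈ Sx z t := mem_Sx.mpr ⟨hgz, ht⟩
  refine ⟨phi_eq S P hφ (Or.inl (by rw [L.1, ht, mul_inv_cancel_right])), hS, ?_⟩
  have hcomm : ρ ⟨(g : G), hS⟩ * s5 = s5 * ρ ⟨(g : G), hS⟩ := by
    rw [← S.rb, ← map_mul, ← map_mul]
    exact congrArg ρ (Subtype.ext hgb)
  obtain ⟨k, j, hσ⟩ := cent_cases (S.D.sign_rho ⟨_, hS⟩) hcomm
  have hm : (g : G) * d * (g : G)⁻¹ * d⁻¹ ∈ Cx Q t := S.D.ev_mem hS
  obtain ⟨w, hw⟩ : ∃ w, ev ν d (g : G) = fx w := by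
    refine (cx_comm_iff S hm).mp ?_
    have hcg : Commute (g : G) (b : G) := hgb
    have hcd : Commute d (b : G) := S.bd.symm
    exact (((hcg.mul_left hcd).mul_left hcg.inv_left).mul_left hcd.inv_left).eq
  refine ⟨j, k, w, hσ, hw, fun i => ?_⟩
  obtain ⟨hin, hiν⟩ := L.2 i
  have hiQ := (mem_Rb.mp (P.mem i.succ)).1
  set q := φ g i.succ with hq
  have hq0 : q ≠ 0 := by
    intro e
    have h0 : φ g 0 = 0 := phi_eq S P hφ (Or.inl (by rw [L.1, ht, mul_inv_cancel_right]))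
    exact Fin.succ_ne_zero i ((φ g).injective (e.trans h0.symm))
  obtain ⟨l, hl⟩ := Fin.exists_succ_eq.mpr hq0
  refine ⟨l, hl.symm, ?_⟩
  have hlabel : ν (d⁻¹ * ((g : G) * a i.succ * (g : G)⁻¹)) = fx l := by
    have h2 := (L.2 l).2
    rcases hφ g i.succ with e | e <;> rw [e, ← hq, ← hl]
    · exact h2
    · rw [show d⁻¹ * (z * a l.succ) = z * (d⁻¹ * a l.succ) by
          rw [← mul_assoc, Q_le_C S (Q.inv_mem S.D.hd), mul_assoc],
        S.D.K.add z (S.D.H.z_mem S.D.sing) _ (out_Cx S (mem_Rb.mp (P.mem l.succ)).1 (L.2 l).1),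
        (S.D.K.ker z (S.D.H.z_mem S.D.sing)).mpr (Or.inr (Or.inl rfl)), zero_add]
      exact h2
  rw [← hlabel, show d⁻¹ * ((g : G) * a i.succ * (g : G)⁻¹) =
      (d⁻¹ * ((g : G) * d * (g : G)⁻¹ * d⁻¹) * d) * ((g : G) * (d⁻¹ * a i.succ) * (g : G)⁻¹) by group]
  have hca := out_Cx S hiQ hin
  have hconj : d⁻¹ * ((g : G) * d * (g : G)⁻¹ * d⁻¹) * d ∈ Cx Q t := by
    rcases S.D.H.h.conj d⁻¹ (Q.inv_mem S.D.hd) _ (mem_Cx.mp hm).1 with e | e <;>
      rw [inv_inv] at e <;> rw [e]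
    exacts [hm, mul_mem (S.D.H.z_mem S.D.sing) hm]
  have e1 : ν (d⁻¹ * ((g : G) * d * (g : G)⁻¹ * d⁻¹) * d) = fx w := by
    have := nu_conj S (Q.inv_mem S.D.hd) hm
    rw [inv_inv] at this
    rw [this, ← hw]
    rfl
  rw [S.D.K.add _ hconj _ (S.D.H.conj_Cx hS hca), e1, ← S.D.hρ ⟨_, hS⟩ _ hca, hσ, hiν, act_mul,
    add_comm]
  obtain ⟨m, hm'⟩ := c3_fix j i
  rw [hm', pow_fix]

/-- The stabiliser of the first point acts evenly. -/
theorem stab_even {g : ↥(HH z (b : G))} (hg : φ g 0 = 0) : Equiv.Perm.sign (φ g) = 1 := by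
  have key : ∀ k : ↥(HH z (b : G)), (k : G) * t = t * k → Equiv.Perm.sign (φ k) = 1 := fun k hk => by
    obtain ⟨h0, -, j, -, w, -, -, hform⟩ := phi_stab S P hφ L hk
    exact affine_even j w (φ k) h0 hform
  rcases hφ g 0 with e | e <;> rw [hg, L.1] at e
  · exact key g (mul_inv_eq_iff_eq_mul.mp e)
  · have hd : d ∈ HH z (b : G) := Rb_le_HH S (d_Rb S)
    have hdg := key (⟨d, hd⟩ * g) (by
      show d * (g : G) * t = t * (d * g)
      have e' := mul_inv_eq_iff_eq_mul.mp e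
      calc d * (g : G) * t = (d * z) * t * g := by rw [mul_assoc, e']; group
        _ = z * (d * t * d⁻¹) * d * g := by rw [Q_le_C S S.D.hd]; group
        _ = t * (d * g) := by rw [S.D.ed, S.D.H.h.z_mul_z_mul]; group)
    rwa [map_mul, phi_Rb S P hφ (g := ⟨d, hd⟩) (d_Rb S), one_mul] at hdg

/-- The stabiliser of the first point is transitive on the others. -/
theorem stab_transitive (i l : Fin 4) :
    ∃ g : ↥(HH z (b : G)), φ g 0 = 0 ∧ φ g i.succ = l.succ := by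
  obtain ⟨w, hw⟩ := fx_add i l
  obtain ⟨c, hc, hcb, hev⟩ := exists_shift S w
  obtain ⟨hcz, hct⟩ := mem_Sx.mp (S.D.C'_le_Sx hc)
  let g : ↥(HH z (b : G)) := ⟨c, mem_HH.mpr ⟨hcz, hcb⟩⟩
  obtain ⟨h0, hS, j, k, w', hσ, hw', hform⟩ := phi_stab S P hφ L (g := g) hct
  refine ⟨g, h0, ?_⟩
  obtain ⟨l', hl', hfx⟩ := hform i
  rw [hl']
  have hρ1 : ρ ⟨c, hS⟩ = 1 := S.D.rho_R.mpr (S.D.C'_le_R hc)
  have hw'' : w' = w := fx_inj _ _ (hw'.symm.trans hev)
  have hact : act (c3 ^ (j : ℕ)) (fx i) = fx i := by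
    obtain ⟨m, hm⟩ := c3_fix j i
    have h := congrArg (fun σ => act σ (fx i)) (hσ.symm.trans hρ1)
    rw [act_mul, hm, pow_fix, act_one] at h
    rw [hm, h]
  rw [hact, hw''] at hfx
  congr 1
  apply fx_inj
  rw [hfx, ← hw, ← add_assoc, ConwayTypeModel62.add_self, zero_add]

/-- An element fixing all points. -/
theorem kernel {g : ↥(HH z (b : G))} (hg : φ g = 1) :
    ∃ r ∈ Rb Q (b : G), ∃ k : ℕ, (g : G) = r * (b : G) ^ k := by
  have key : ∀ g : ↥(HH z (b : G)), φ g = 1 → (g : G) * t = t * g →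
      ∃ r ∈ Rb Q (b : G), ∃ k : ℕ, (g : G) = r * (b : G) ^ k := by
    intro g hg ht
    obtain ⟨-, hS, j, k, w, hσ, hw, hform⟩ := phi_stab S P hφ L ht
    obtain ⟨hj, hw0⟩ := affine_one j w fun i => by
      obtain ⟨l, hl, hfx⟩ := hform i
      rw [hg, Equiv.Perm.one_apply] at hl
      rw [← hfx, Fin.succ_inj.mp hl]
    rw [hj] at hσ
    simp only [Fin.val_zero, pow_zero, mul_one] at hσ
    rw [hw0] at hw
    obtain ⟨hbz, hbt⟩ := mem_Sx.mp b.2
    refine ⟨(g : G) * ((b : G) ^ (k : ℕ))⁻¹, ?_, k, by group⟩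
    have hbk : (b : G) ^ (k : ℕ) ∈ Sx z t := pow_mem b.2 _
    have hr : (g : G) * ((b : G) ^ (k : ℕ))⁻¹ ∈ Sx z t := mul_mem hS (inv_mem hbk)
    have hρ1 : ρ ⟨_, hr⟩ = 1 := by
      have : (⟨_, hr⟩ : ↥(Sx z t)) = ⟨(g : G), hS⟩ * (b ^ (k : ℕ))⁻¹ := Subtype.ext (by simp)
      rw [this, map_mul, map_inv, map_pow, S.rb, hσ, mul_inv_cancel]
    have hT := S.D.rho_eq_one.mp hρ1
    have hcd : Commute d ((b : G) ^ (k : ℕ)) := (show Commute d (b : G) from S.bd.symm).pow_right _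
    have hev : ev ν d ((g : G) * ((b : G) ^ (k : ℕ))⁻¹) = 0 := by
      rw [ev, show (g : G) * ((b : G) ^ (k : ℕ))⁻¹ * d * ((g : G) * ((b : G) ^ (k : ℕ))⁻¹)⁻¹ * d⁻¹ =
          (g : G) * (((b : G) ^ (k : ℕ))⁻¹ * (d * (b : G) ^ (k : ℕ))) * (g : G)⁻¹ * d⁻¹ by group,
        hcd.eq, inv_mul_cancel_left]
      exact hw.trans rfl
    refine mem_Rb.mpr ⟨(mem_Cx.mp (S.D.mem_Cx_of_ev hT hev)).1, ?_⟩
    exact ((show Commute (g : G) (b : G) from (mem_HH.mp g.2).2).mul_left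
      ((Commute.refl (b : G)).pow_left _).inv_left).eq
  rcases hφ g 0 with e | e <;> rw [hg, Equiv.Perm.one_apply, L.1] at e
  · exact key g hg (mul_inv_eq_iff_eq_mul.mp e)
  · have hd : d ∈ HH z (b : G) := Rb_le_HH S (d_Rb S)
    obtain ⟨r, hr, k, hk⟩ := key (⟨d, hd⟩ * g)
      (by rw [map_mul, phi_Rb S P hφ (g := ⟨d, hd⟩) (d_Rb S), hg, one_mul]) (by
      show d * (g : G) * t = t * (d * g)
      have e' := mul_inv_eq_iff_eq_mul.mp e
      calc d * (g : G) * t = (d * z) * t * g := by rw [mul_assoc, e']; group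
        _ = z * (d * t * d⁻¹) * d * g := by rw [Q_le_C S S.D.hd]; group
        _ = t * (d * g) := by rw [S.D.ed, S.D.H.h.z_mul_z_mul]; group)
    refine ⟨d⁻¹ * r, mul_mem (inv_mem (d_Rb S)) hr, k, ?_⟩
    have hk' : d * (g : G) = r * (b : G) ^ k := hk
    rw [mul_assoc, ← hk', inv_mul_cancel_left]

/-- An element permuting three points cyclically. -/
theorem exists_three : ∃ g : ↥(HH z (b : G)), orderOf (φ g) = 3 := by
  obtain ⟨c, hc, hcb⟩ := exists_lift S c3_facts.1 c3_facts.2.1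
  obtain ⟨hcz, hct⟩ := mem_Sx.mp c.2
  let g : ↥(HH z (b : G)) := ⟨(c : G), mem_HH.mpr ⟨hcz, congrArg Subtype.val hcb⟩⟩
  obtain ⟨h0, -⟩ := phi_stab S P hφ L (g := g) hct
  have hne : φ (g * g) ≠ 1 := by
    intro e
    have hgg : ((g * g : ↥(HH z (b : G))) : G) * t = t * (g * g : ↥(HH z (b : G))) :=
      ((show Commute (c : G) t from hct).mul_left hct).eq
    obtain ⟨-, hS, j, k, w, hσ, -, hform⟩ := phi_stab S P hφ L (g := g * g) hgg
    obtain ⟨hj, -⟩ := affine_one j w fun i => by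
      obtain ⟨l, hl, hfx⟩ := hform i
      rw [e, Equiv.Perm.one_apply] at hl
      rw [← hfx, Fin.succ_inj.mp hl]
    have hcc : (⟨_, hS⟩ : ↥(Sx z t)) = c * c := Subtype.ext rfl
    rw [hcc, map_mul, hc, hj] at hσ
    simp only [Fin.val_zero, pow_zero, mul_one] at hσ
    have := congrArg (fun σ => act σ (fx 1)) hσ
    rw [pow_fix, act_mul] at this
    exact absurd this (by decide +kernel)
  have hsign : Equiv.Perm.sign (φ g) = 1 := stab_even S P hφ L h0
  refine ⟨g, ?_⟩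
  haveI : Fact (Nat.Prime 3) := ⟨by norm_num⟩
  rcases stab_exponent (φ g) h0 hsign with e | e
  · rw [map_mul] at hne
    exact absurd e hne
  · refine orderOf_eq_prime (by rw [pow_succ, pow_two]; exact e) fun e1 => hne ?_
    rw [map_mul, e1, one_mul]

end perm

end Cfsg.Agent.ConwayFivePts30
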