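import Cfsg.Agent.Lib.ConwayFivePts30

/-!
# The centraliser of `z` and of an element of order five modulo the fixed extraspecial group
-/

set_option autoImplicit false
set_option linter.style.haveILetI false
set_option linter.unusedSectionVars false

namespace Cfsg.Agent.ConwayFiveQuot30

open Subgroup Cfsg.Agent.LargeExtraspecial Cfsg.Agent.LargeExtraspecialPair
open Cfsg.Agent.ConwayTypeModel62 Cfsg.Agent.ConwayTypeCoord62 Cfsg.Agent.ConwayTypeRadical62
open Cfsg.Agent.ConwayFiveFacts30 Cfsg.Agent.ConwayFiveStd30 Cfsg.Agent.ConwayFivePts30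

variable {G : Type*} [Group G] [Finite G]

variable {Q Q' : Subgroup G} {z t : G} {ν : G → M6} {d : G} {ρ : ↥(Sx z t) →* P8}
  {b : ↥(Sx z t)} (S : Std Q Q' z t ν d ρ b)
include S

/-- The fixed points in `C_Q(t)` number sixteen. -/
theorem card_cx_fixed : Nat.card ↥(Cx Q t ⊓ centralizer ({(b : G)} : Set G) : Subgroup G) = 16 := by
  classical
  set A : Subgroup G := Cx Q t ⊓ centralizer ({(b : G)} : Set G)
  have hA : ∀ a, a ∈ A ↔ a ∈ Cx Q t ∧ a * (b : G) = b * a := fun a => by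
    simp [A, mem_centralizer_singleton_iff]
  let φ : ↥A →* Multiplicative M6 := MonoidHom.mk' (fun a => Multiplicative.ofAdd (ν (a : G)))
    fun a c => by
      rw [← ofAdd_add, Subgroup.coe_mul, S.D.K.add _ ((hA _).mp a.2).1 _ ((hA _).mp c.2).1]
  have hk : Nat.card φ.ker = 4 := by
    rw [← S.D.card_V]
    exact Nat.card_congr
      { toFun := fun a => ⟨((a : ↥A) : G), S.D.inU_iff.mp
          ((S.D.K.ker _ ((hA _).mp (a : ↥A).2).1).mp (congrArg Multiplicative.toAdd a.2))⟩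
        invFun := fun v => ⟨⟨v, (hA _).mpr ⟨S.D.V_le_Cx v.2,
            ((b_U S (S.D.inU_iff.mpr v.2))).symm⟩⟩,
          congrArg Multiplicative.ofAdd ((S.D.K.ker _ (S.D.V_le_Cx v.2)).mpr (S.D.inU_iff.mpr v.2))⟩
        left_inv := fun _ => rfl
        right_inv := fun _ => rfl }
  have hr : Nat.card φ.range = 4 := by
    have hset : (φ.range : Set (Multiplicative M6)) =
        Set.range fun i : Fin 4 => Multiplicative.ofAdd (fx i) := by
      ext w
      constructor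
      · rintro ⟨a, rfl⟩
        obtain ⟨i, hi⟩ := (cx_comm_iff S ((hA _).mp a.2).1).mp ((hA _).mp a.2).2
        exact ⟨i, congrArg Multiplicative.ofAdd hi.symm⟩
      · rintro ⟨i, rfl⟩
        obtain ⟨a, ha, hab, hν⟩ := exists_fx S i
        exact ⟨⟨a, (hA _).mpr ⟨ha, hab⟩⟩, congrArg Multiplicative.ofAdd hν⟩
    rw [← SetLike.coe_sort_coe, hset, Nat.card_range_of_injective fun i j h =>
      fx_inj i j (Multiplicative.ofAdd.injective h), Nat.card_fin]
  rw [← Subgroup.card_mul_index φ.ker, Subgroup.index_ker, hk, hr]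

/-- The fixed group has order thirty-two. -/
theorem card_Rb : Nat.card ↥(Rb Q (b : G)) = 32 := by
  classical
  set A : Subgroup G := Cx Q t ⊓ centralizer ({(b : G)} : Set G)
  have hle : A ≤ Rb Q (b : G) := fun a ha => ⟨(mem_Cx.mp ha.1).1, ha.2⟩
  have hidx : (A.subgroupOf (Rb Q (b : G))).index = 2 := by
    refine Subgroup.index_eq_two_iff.mpr ⟨⟨d, d_Rb S⟩, fun x => ?_⟩
    have hmem : ∀ y : G, y ∈ Rb Q (b : G) → (y ∈ A ↔ y * t = t * y) := fun y hy =>
      ⟨fun h => (mem_Cx.mp h.1).2, fun h => ⟨mem_Cx.mpr ⟨(mem_Rb.mp hy).1, h⟩, hy.2⟩⟩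
    simp only [Subgroup.mem_subgroupOf, Subgroup.coe_mul]
    rw [hmem _ x.2, hmem _ (mul_mem x.2 (d_Rb S))]
    have hdt : ¬ d * t = t * d := (S.D.H.h.not_comm_iff S.D.sing.1 S.D.hd).mpr S.D.ed
    by_cases hx : (x : G) * t = t * x
    · refine Or.inr ⟨hx, fun e => hdt ?_⟩
      have := (show Commute (x : G) t from hx).inv_left.mul_left (show Commute ((x : G) * d) t from e)
      rwa [inv_mul_cancel_left] at this
    · refine Or.inl ⟨?_, fun e => hx e⟩
      exact mul_inv_eq_iff_eq_mul.mp (S.D.H.h.mul_fix (mem_Rb.mp x.2).1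
        ((S.D.H.h.not_comm_iff S.D.sing.1 (mem_Rb.mp x.2).1).mp hx) S.D.ed)
  have h := Subgroup.card_mul_index (A.subgroupOf (Rb Q (b : G)))
  rw [hidx, Nat.card_congr (Subgroup.subgroupOfEquivOfLe hle).toEquiv, card_cx_fixed S] at h
  omega

variable {a : Fin 5 → G} (P : J2TypePoints79.Pts (Rb Q (b : G)) z a)
  {φ : ↥(HH z (b : G)) →* Equiv.Perm (Fin 5)}
  (hφ : ∀ (g : ↥(HH z (b : G))) p,
    (g : G) * a p * (g : G)⁻¹ = a (φ g p) ∨ (g : G) * a p * (g : G)⁻¹ = z * a (φ g p))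
include P hφ

/-- Seen from any of the points, its stabiliser is even and transitive on the others. -/
theorem frame (p : Fin 5) :
    (∀ g, φ g p = p → Equiv.Perm.sign (φ g) = 1) ∧
      ∀ q r, q ≠ p → r ≠ p → ∃ g, φ g p = p ∧ φ g q = r := by
  obtain ⟨hpQ, hpb⟩ := mem_Rb.mp (P.mem p)
  obtain ⟨h, hh⟩ := isConj_iff.mp (P.conj p)
  obtain ⟨ν₁, d₁, ρ₁, D₁⟩ := ConwayTypeRadical62.exists_ctx S.D.H (g := h) (by rw [hh]; exact hpQ)
    (by rw [hh]; exact (P.ne p).2)
  revert ρ₁ D₁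
  rw [hh]
  intro ρ₁ D₁
  have hbS : (b : G) ∈ Sx z (a p) := mem_Sx.mpr ⟨(mem_Sx.mp b.2).1, hpb.symm⟩
  obtain ⟨ν₂, d₂, ρ₂, S₂⟩ := exists_std D₁ ⟨(b : G), hbS⟩ (by
    rw [← Subgroup.orderOf_coe]
    exact (Subgroup.orderOf_coe b).trans S.ob)
  obtain ⟨a', P', L'⟩ := exists_pts S₂
  obtain ⟨φ', hφ'⟩ := exists_perm S₂ P'
  have hlink : ∀ r, ∃ q, a' r = a q ∨ a' r = z * a q := fun r => by
    rcases P.inv_cases _ (P'.mem r) (P'.sq r) with e | e | h
    · exact absurd e (P'.ne r).1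
    · exact absurd e (P'.ne r).2
    · exact h
  choose π hπ using hlink
  have hπinj : Function.Injective π := by
    intro r s e
    apply point_unique S₂ P'
    rcases hπ r with h1 | h1 <;> rcases hπ s with h2 | h2 <;> rw [← e] at h2
    · exact Or.inl (h1.trans h2.symm)
    · exact Or.inr (by rw [h1, h2, S.D.H.h.z_mul_z_mul])
    · exact Or.inr (by rw [h1, h2])
    · exact Or.inl (h1.trans h2.symm)
  let e : Equiv.Perm (Fin 5) := Equiv.ofBijective π ⟨hπinj, Finite.injective_iff_surjective.mp hπinj⟩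
  have hπ0 : e 0 = p := by
    show π 0 = p
    apply (point_unique S P ?_).symm
    rcases hπ 0 with h1 | h1 <;> rw [L'.1] at h1
    · exact Or.inl h1
    · exact Or.inr h1
  have hconj : ∀ (g : ↥(HH z (b : G))), φ g = e * φ' ⟨(g : G), g.2⟩ * e⁻¹ := by
    intro g
    rw [eq_mul_inv_iff_mul_eq]
    refine Equiv.ext fun r => ?_
    show φ g (π r) = π (φ' ⟨(g : G), g.2⟩ r)
    apply phi_eq S P hφ
    have hzg : (g : G) * z = z * g := (mem_HH.mp g.2).1
    have hm : (g : G) * a' r * (g : G)⁻¹ = a' (φ' ⟨(g : G), g.2⟩ r) ∨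
        (g : G) * a' r * (g : G)⁻¹ = z * a' (φ' ⟨(g : G), g.2⟩ r) := hφ' ⟨(g : G), g.2⟩ r
    have hzmove : ∀ x : G, (g : G) * (z * x) * (g : G)⁻¹ = z * ((g : G) * x * (g : G)⁻¹) := fun x => by
      rw [← mul_assoc (g : G), hzg]; group
    rcases hπ r with h1 | h1 <;> rcases hπ (φ' ⟨(g : G), g.2⟩ r) with h2 | h2 <;>
      rw [h1, h2] at hm
    · exact hm
    · rw [S.D.H.h.z_mul_z_mul] at hm; exact hm.symm
    · rw [hzmove] at hm
      rcases hm with h3 | h3
      · exact Or.inr (by rw [← h3, S.D.H.h.z_mul_z_mul])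
      · exact Or.inl (mul_left_cancel h3)
    · rw [hzmove, S.D.H.h.z_mul_z_mul] at hm
      rcases hm with h3 | h3
      · exact Or.inl (mul_left_cancel h3)
      · exact Or.inr (by rw [← h3, S.D.H.h.z_mul_z_mul])
  have hp0 : e⁻¹ p = 0 := e.injective (by
    rw [Equiv.Perm.inv_def, Equiv.apply_symm_apply]; exact hπ0.symm)
  constructor
  · intro g hg
    have h0 : φ' ⟨(g : G), g.2⟩ 0 = 0 := by
      apply e.injective
      rw [hconj g, Equiv.Perm.mul_apply, Equiv.Perm.mul_apply, hp0] at hg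
      exact hg.trans hπ0.symm
    rw [hconj, map_mul, map_mul, map_inv, stab_even S₂ P' hφ' L' h0, mul_one, mul_inv_cancel]
  · intro q r hq hr
    obtain ⟨i, hi⟩ := Fin.exists_succ_eq.mpr (show e⁻¹ q ≠ 0 from fun h => hq (by
      rw [← hπ0, ← h, Equiv.Perm.inv_def, Equiv.apply_symm_apply]))
    obtain ⟨l, hl⟩ := Fin.exists_succ_eq.mpr (show e⁻¹ r ≠ 0 from fun h => hr (by
      rw [← hπ0, ← h, Equiv.Perm.inv_def, Equiv.apply_symm_apply]))
    obtain ⟨g, g0, g1⟩ := stab_transitive S₂ P' hφ' L' i l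
    refine ⟨⟨(g : G), g.2⟩, ?_, ?_⟩
    · rw [hconj, Equiv.Perm.mul_apply, Equiv.Perm.mul_apply, hp0]
      exact (congrArg e g0).trans hπ0
    · rw [hconj, Equiv.Perm.mul_apply, Equiv.Perm.mul_apply, ← hi, g1, hl, Equiv.Perm.inv_def,
        Equiv.apply_symm_apply]

/-- The image is the alternating group. -/
theorem range_eq (L : Labelled t ν d a) : φ.range = alternatingGroup (Fin 5) := by
  classical
  have htrans : ∀ p q : Fin 5, ∃ g, φ g p = q := by
    intro p q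
    obtain ⟨r, hr1, hr2⟩ := (show ∀ p q : Fin 5, ∃ r, p ≠ r ∧ q ≠ r by decide) p q
    obtain ⟨g, -, hg⟩ := (frame S P hφ r).2 p q hr1 hr2
    exact ⟨g, hg⟩
  have heven : ∀ g, Equiv.Perm.sign (φ g) = 1 := by
    intro g
    by_cases h : φ g 0 = 0
    · exact (frame S P hφ 0).1 g h
    · obtain ⟨r, hr1, hr2⟩ := (show ∀ p q : Fin 5, ∃ r, p ≠ r ∧ q ≠ r by decide) 0 (φ g 0)
      obtain ⟨s, hs, hs0⟩ := (frame S P hφ r).2 0 (φ g 0) hr1 hr2
      have h1 := (frame S P hφ 0).1 (s⁻¹ * g) (by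
        rw [map_mul, map_inv, Equiv.Perm.mul_apply, ← hs0, Equiv.Perm.inv_def, Equiv.symm_apply_apply])
      rwa [map_mul, map_inv, map_mul, map_inv, (frame S P hφ r).1 s hs, inv_one, one_mul] at h1
  set I := φ.range
  have h5 : Nat.card I = 5 * Nat.card (MulAction.stabilizer ↥I (0 : Fin 5)) := by
    rw [← Subgroup.card_mul_index (MulAction.stabilizer ↥I (0 : Fin 5)),
      MulAction.index_stabilizer, mul_comm]
    congr 1
    rw [show MulAction.orbit ↥I (0 : Fin 5) = Set.univ from Set.eq_univ_of_forall fun q => ?_,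
      Set.ncard_univ, Nat.card_fin]
    obtain ⟨g, hg⟩ := htrans 0 q
    exact ⟨⟨φ g, ⟨g, rfl⟩⟩, hg⟩
  set T := MulAction.stabilizer ↥I (0 : Fin 5)
  have h4 : 4 ∣ Nat.card T := by
    have horb : MulAction.orbit ↥T (1 : Fin 5) = {q | q ≠ 0} := by
      ext q
      constructor
      · rintro ⟨⟨⟨π, hπ⟩, hπ0⟩, rfl⟩ e
        have h0 : π 0 = 0 := hπ0
        exact absurd (π.injective ((show π 1 = 0 from e).trans h0.symm)) (by decide)
      · intro hq
        obtain ⟨g, g0, g1⟩ := (frame S P hφ 0).2 1 q (by decide) hq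
        exact ⟨⟨⟨φ g, ⟨g, rfl⟩⟩, g0⟩, g1⟩
    rw [← Subgroup.card_mul_index (MulAction.stabilizer ↥T (1 : Fin 5)),
      MulAction.index_stabilizer, horb,
      show ({q : Fin 5 | q ≠ 0} : Set (Fin 5)).ncard = 4 by
        rw [Set.ncard_eq_toFinset_card']; decide]
    exact dvd_mul_left _ _
  have h3 : 3 ∣ Nat.card T := by
    obtain ⟨g, hg⟩ := exists_three S P hφ L
    have hfix : φ g 0 = 0 ∨ ∃ p, p ≠ 0 ∧ φ g p = p := by
      have hg3 : φ g ^ 3 = 1 := by rw [← hg]; exact pow_orderOf_eq_one _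
      obtain ⟨p, hp⟩ := exists_fixed_three (φ g) hg3
      by_cases h0 : p = 0
      · exact Or.inl (h0 ▸ hp)
      · exact Or.inr ⟨p, h0, hp⟩
    obtain ⟨k, hk0, hk3⟩ : ∃ k, φ k 0 = 0 ∧ orderOf (φ k) = 3 := by
      rcases hfix with h | ⟨p, -, hp⟩
      · exact ⟨g, h, hg⟩
      · obtain ⟨s, hs⟩ := htrans p 0
        refine ⟨s * g * s⁻¹, ?_, ?_⟩
        · rw [map_mul, map_mul, map_inv, Equiv.Perm.mul_apply, Equiv.Perm.mul_apply, ← hs,
            Equiv.Perm.inv_def, Equiv.symm_apply_apply, hp]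
        · rw [map_mul, map_mul, map_inv, ← MulAut.conj_apply]
          exact (MulEquiv.orderOf_eq _ _).trans hg
    have h := orderOf_dvd_natCard (⟨⟨φ k, ⟨k, rfl⟩⟩, hk0⟩ : T)
    rwa [← Subgroup.orderOf_coe, ← Subgroup.orderOf_coe, hk3] at h
  have h12 : 12 ∣ Nat.card T := Nat.Coprime.mul_dvd_of_dvd_of_dvd (by norm_num : Nat.Coprime 4 3) h4 h3
  refine Subgroup.eq_of_le_of_card_ge ?_ ?_
  · rintro _ ⟨g, rfl⟩
    exact Equiv.Perm.mem_alternatingGroup.mpr (heven g)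
  · rw [h5, show Nat.card ↥(alternatingGroup (Fin 5)) = 60 by
      rw [nat_card_alternatingGroup]; simp [Nat.factorial]]
    have := Nat.le_of_dvd Nat.card_pos h12
    omega
where
  exists_fixed_three (π : Equiv.Perm (Fin 5)) (h : π ^ 3 = 1) : ∃ p, π p = p := by
    haveI : Fact (Nat.Prime 3) := ⟨by norm_num⟩
    exact Equiv.Perm.exists_fixed_point_of_prime (p := 3) (n := 1) (by simp) (σ := π)
      (by rwa [pow_one])

end Cfsg.Agent.ConwayFiveQuot30
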