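import Cfsg.Agent.Lib.ConwayFiveLocal30

/-!
# The complement of the fixed group in `Q`
-/

set_option autoImplicit false
set_option linter.style.haveILetI false
set_option linter.unusedSectionVars false

namespace Cfsg.Agent.ConwayFiveSide30

open Subgroup Cfsg.Agent.LargeExtraspecial
open Cfsg.Agent.ConwayTypeModel62 Cfsg.Agent.ConwayTypeCoord62
open Cfsg.Agent.ConwayFiveStd30 Cfsg.Agent.ConwayFivePts30 Cfsg.Agent.ConwayFiveHyp30
open Cfsg.Agent.ConwayFiveLocal30

variable {G : Type*} [Group G] [Finite G]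

/-- The centraliser in `Q` of the fixed group. -/
def Rp (Q : Subgroup G) (b : G) : Subgroup G := Q ⊓ centralizer (Rb Q b : Set G)

theorem mem_Rp {Q : Subgroup G} {b x : G} :
    x ∈ Rp Q b ↔ x ∈ Q ∧ ∀ r ∈ Rb Q b, x * r = r * x := by
  simp only [Rp, mem_inf, mem_centralizer_iff, SetLike.mem_coe]
  exact and_congr_right fun _ => forall₂_congr fun _ _ => eq_comm

variable {Q Q' : Subgroup G} {z t : G} {ν : G → M6} {d : G} {ρ : ↥(Sx z t) →* P8}
  {b : ↥(Sx z t)} (S : Std Q Q' z t ν d ρ b)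
include S

theorem z_Rp : z ∈ Rp Q (b : G) :=
  mem_Rp.mpr ⟨S.D.H.h.mem, fun r hr => (Q_le_C S (mem_Rb.mp hr).1).symm⟩

theorem exists_decomp {x : G} (hx : x ∈ Q) :
    ∃ r ∈ Rb Q (b : G), ∃ w ∈ Rp Q (b : G), x = r * w := by
  have hA : ∀ a ∈ zpowers (b : G), ∀ y ∈ Q, a * y * a⁻¹ ∈ Q := fun a ha y hy =>
    S.D.H.h.norm a (mem_centralizer_singleton_iff.mp
      ((zpowers_le.mpr (mem_centralizer_singleton_iff.mpr (mem_Sx.mp b.2).1)) ha)) y hy
  have hodd : Odd (Nat.card (zpowers (b : G))) := by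
    rw [Nat.card_zpowers, Subgroup.orderOf_coe, S.ob]; decide
  obtain ⟨c, hc, w, hw, e⟩ := LargeExtraspecialAct.decompose S.D.H.h.toExt hA hodd hx
  have key : ∀ r : G, r ∈ Rb Q (b : G) → r ∈ Q ⊓ centralizer (zpowers (b : G) : Set G) := fun r hr => by
    rw [zpowers_eq_closure, centralizer_closure]; exact hr
  refine ⟨c, ?_, w, mem_Rp.mpr ⟨LargeExtraspecialAct.commutator_le S.D.H.h.toExt hA hw, fun r hr =>
    (LargeExtraspecialAct.commute_commutator S.D.H.h.toExt hA (key r hr) hw).symm⟩, e⟩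
  rw [zpowers_eq_closure, centralizer_closure] at hc
  exact hc

theorem inter {x : G} (hx : x ∈ Rb Q (b : G)) (hx' : x ∈ Rp Q (b : G)) : x = 1 ∨ x = z := by
  by_contra hne
  push Not at hne
  obtain ⟨y, hy, e⟩ := (ext_Rb S).partner x hx hne.1 hne.2
  rw [← (mem_Rp.mp hx').2 y hy, mul_inv_cancel_right] at e
  exact S.D.H.h.z_mul_ne x e.symm

theorem card_Rp : Nat.card ↥(Rp Q (b : G)) = 32 := by
  classical
  let μ : ↥(Rb Q (b : G)) × ↥(Rp Q (b : G)) →* G :=
    MonoidHom.noncommCoprod (Rb Q (b : G)).subtype (Rp Q (b : G)).subtype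
      fun r w => ((mem_Rp.mp w.2).2 r r.2).symm
  have hrange : μ.range = Q := by
    refine le_antisymm ?_ fun x hx => ?_
    · rintro _ ⟨p, rfl⟩
      exact Q.mul_mem (mem_Rb.mp p.1.2).1 (mem_Rp.mp p.2.2).1
    · obtain ⟨r, hr, w, hw, rfl⟩ := exists_decomp S hx
      exact ⟨(⟨r, hr⟩, ⟨w, hw⟩), rfl⟩
  have hker : Nat.card μ.ker = Nat.card (zpowers z) := by
    have hz1 : ∀ p : μ.ker, ((p.1.1 : ↥(Rb Q (b : G))) : G) ∈ zpowers z := fun p => by
      have e : (p.1.1 : G) * (p.1.2 : G) = 1 := p.2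
      rcases inter S p.1.1.2 (by rw [eq_inv_of_mul_eq_one_left e]; exact inv_mem p.1.2.2) with e' | e'
        <;> rw [e']
      exacts [one_mem _, mem_zpowers z]
    refine Nat.card_eq_of_bijective (fun p => ⟨_, hz1 p⟩) ⟨fun p q e => ?_, fun w => ?_⟩
    · have e1 : (p.1.1 : G) = q.1.1 := congrArg (fun w : ↥(zpowers z) => (w : G)) e
      have ep : (p.1.1 : G) * (p.1.2 : G) = 1 := p.2
      have eq' : (q.1.1 : G) * (q.1.2 : G) = 1 := q.2
      refine Subtype.ext (Prod.ext (Subtype.ext e1) (Subtype.ext ?_))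
      rw [eq_inv_of_mul_eq_one_right ep, eq_inv_of_mul_eq_one_right eq', e1]
    · obtain ⟨w, hw⟩ := w
      refine ⟨⟨(⟨w, ?_⟩, ⟨w⁻¹, ?_⟩), ?_⟩, rfl⟩
      · exact zpowers_le.mpr (ext_Rb S).mem hw
      · exact inv_mem (zpowers_le.mpr (z_Rp S) hw)
      · show w * w⁻¹ = 1
        exact mul_inv_cancel w
  have h := Subgroup.card_mul_index μ.ker
  rw [Subgroup.index_ker, hker, hrange, S.D.H.cardQ, Nat.card_zpowers, S.D.H.h.orderOf_z,
    Nat.card_prod, ConwayFiveQuot30.card_Rb S] at h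
  omega

theorem ext_Rp : Ext (Rp Q (b : G)) z := by
  refine ⟨z_Rp S, S.D.H.h.ne_one, S.D.H.h.zz, fun x hx => S.D.H.h.comm x (mem_Rp.mp hx).1,
    fun x hx => S.D.H.h.sq x (mem_Rp.mp hx).1,
    fun x hx y hy => S.D.H.h.conj x (mem_Rp.mp hx).1 y (mem_Rp.mp hy).1, fun x hx h1 h2 => ?_⟩
  obtain ⟨y, hy, e⟩ := S.D.H.h.partner x (mem_Rp.mp hx).1 h1 h2
  obtain ⟨r, hr, w, hw, rfl⟩ := exists_decomp S hy
  refine ⟨w, hw, ?_⟩
  have hrw : Commute r w := ((mem_Rp.mp hw).2 r hr).symm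
  have hrx : Commute r x := ((mem_Rp.mp hx).2 r hr).symm
  have hrw' : Commute r (w * x * w⁻¹) := (hrw.mul_right hrx).mul_right hrw.inv_right
  calc w * x * w⁻¹ = (r * (w * x * w⁻¹)) * r⁻¹ := by rw [hrw'.eq, mul_inv_cancel_right]
    _ = z * x := by rw [← e]; group

/-- An involution of the complement other than `z`. -/
theorem exists_invol : ∃ w ∈ Rp Q (b : G), w * w = 1 ∧ w ≠ 1 ∧ w ≠ z := by
  by_contra hno
  have he : IsEmpty {x : ↥(Rp Q (b : G)) // (x : G) * x = 1 ∧ (x : G) ≠ 1 ∧ (x : G) ≠ z} :=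
    ⟨fun x => hno ⟨x.1, x.1.2, x.2.1, x.2.2.1, x.2.2.2⟩⟩
  rcases J2TypePoints79.count_invol (ext_Rp S) (card_Rp S) with h | h <;>
    rw [Nat.card_of_isEmpty] at h <;> omega

theorem Rp_conj {g x : G} (hg : g ∈ HH z (b : G)) (hx : x ∈ Rp Q (b : G)) :
    g * x * g⁻¹ ∈ Rp Q (b : G) := by
  obtain ⟨hxQ, hxr⟩ := mem_Rp.mp hx
  refine mem_Rp.mpr ⟨S.D.H.h.norm g (mem_HH.mp hg).1 x hxQ, fun r hr => ?_⟩
  have hr' : g⁻¹ * r * g ∈ Rb Q (b : G) := by
    have := Rb_conj S (inv_mem hg) hr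
    rwa [inv_inv] at this
  calc g * x * g⁻¹ * r = g * (x * (g⁻¹ * r * g)) * g⁻¹ := by group
    _ = g * (g⁻¹ * r * g * x) * g⁻¹ := by rw [hxr _ hr']
    _ = r * (g * x * g⁻¹) := by group

/-- The local subgroup of the Hall–Janko group centralises the complement. -/
theorem H1_Rp {h x : G} (hh : h ∈ H1 z (b : G)) (hx : x ∈ Rp Q (b : G)) : h * x = x * h := by
  classical
  -- modulo `z`
  obtain ⟨x₀, hx₀, -, h01, h0z⟩ := exists_invol S
  have hzc : ∀ g, g ∈ HH z (b : G) → g * z = z * g := fun g hg => (mem_HH.mp hg).1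
  let F : G → Set G := fun g => {y | y ∈ Rp Q (b : G) ∧ (g * y * g⁻¹ = y ∨ g * y * g⁻¹ = z * y)}
  have hF : ∀ g, g ∈ HH z (b : G) → g * x₀ * g⁻¹ = x₀ ∨ g * x₀ * g⁻¹ = z * x₀ →
      ∀ y ∈ Rp Q (b : G), g * y * g⁻¹ = y ∨ g * y * g⁻¹ = z * y := by
    intro g hg hg0
    have hgz := hzc g hg
    have hQz : ∀ y ∈ Rp Q (b : G), z * y = y * z := fun y hy =>
      (S.D.H.h.comm y (mem_Rp.mp hy).1).symm
    let Fs : Subgroup G :=
      { carrier := F g
        one_mem' := ⟨one_mem _, Or.inl (by group)⟩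
        mul_mem' := by
          rintro u v ⟨hu, eu⟩ ⟨hv, ev⟩
          refine ⟨mul_mem hu hv, ?_⟩
          rw [show g * (u * v) * g⁻¹ = (g * u * g⁻¹) * (g * v * g⁻¹) by group]
          rcases eu with eu | eu <;> rcases ev with ev | ev <;> rw [eu, ev]
          · exact Or.inl rfl
          · exact Or.inr (by rw [← mul_assoc, ← hQz u hu, mul_assoc])
          · exact Or.inr (mul_assoc _ _ _)
          · exact Or.inl (by
              rw [hQz u hu, show u * z * (z * v) = u * (z * z) * v by group, S.D.H.h.zz, mul_one])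
        inv_mem' := by
          rintro u ⟨hu, eu⟩
          refine ⟨inv_mem hu, ?_⟩
          rw [show g * u⁻¹ * g⁻¹ = (g * u * g⁻¹)⁻¹ by group]
          rcases eu with eu | eu <;> rw [eu]
          · exact Or.inl rfl
          · exact Or.inr (by rw [hQz u hu, mul_inv_rev, S.D.H.h.inv_z]) }
    haveI : Fact (Nat.Prime 5) := ⟨by norm_num⟩
    -- the element of order five acts on `Fs`, fixing only `1` and `z`
    have hbH : (b : G) ∈ HH z (b : G) := mem_HH.mpr ⟨(mem_Sx.mp b.2).1, rfl⟩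
    have hact : ∀ k ∈ zpowers (b : G), ∀ y ∈ Fs, k * y * k⁻¹ ∈ Fs := by
      intro k hk y hy
      obtain ⟨hy1, ey⟩ := hy
      have hkH : k ∈ HH z (b : G) := zpowers_le.mpr hbH hk
      have hkg : Commute g k := by
        obtain ⟨i, rfl⟩ := mem_zpowers_iff.mp hk
        exact (show Commute g (b : G) from (mem_HH.mp hg).2).zpow_right i
      refine ⟨Rp_conj S hkH hy1, ?_⟩
      have e : g * (k * y * k⁻¹) * g⁻¹ = k * (g * y * g⁻¹) * k⁻¹ := by
        calc g * (k * y * k⁻¹) * g⁻¹ = (g * k) * y * (g * k)⁻¹ := by group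
          _ = (k * g) * y * (k * g)⁻¹ := by rw [hkg.eq]
          _ = _ := by group
      rw [e]
      rcases ey with ey | ey <;> rw [ey]
      · exact Or.inl rfl
      · exact Or.inr (by rw [← mul_assoc k, hzc k hkH]; group)
    letI : MulAction ↥(zpowers (b : G)) ↥Fs :=
      { smul := fun k y => ⟨(k : G) * y * (k : G)⁻¹, hact k k.2 y y.2⟩
        one_smul := fun y => Subtype.ext (by
          show ((1 : ↥(zpowers (b : G))) : G) * y * ((1 : ↥(zpowers (b : G))) : G)⁻¹ = y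
          simp)
        mul_smul := fun k l y => Subtype.ext (by
          show ((k * l : ↥(zpowers (b : G))) : G) * y * ((k * l : ↥(zpowers (b : G))) : G)⁻¹ =
            (k : G) * ((l : G) * y * (l : G)⁻¹) * (k : G)⁻¹
          rw [Subgroup.coe_mul]; group) }
    have hp : IsPGroup 5 ↥(zpowers (b : G)) := IsPGroup.of_card (n := 1)
      (by rw [Nat.card_zpowers, Subgroup.orderOf_coe, S.ob, pow_one])
    have hfix : Nat.card (MulAction.fixedPoints ↥(zpowers (b : G)) ↥Fs) = 2 := by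
      rw [← show Nat.card (zpowers z) = 2 by rw [Nat.card_zpowers, S.D.H.h.orderOf_z]]
      have hin : ∀ y : MulAction.fixedPoints ↥(zpowers (b : G)) ↥Fs, ((y.1 : ↥Fs) : G) ∈ zpowers z := by
        rintro ⟨⟨y, hy⟩, hyf⟩
        have e : (b : G) * y * (b : G)⁻¹ = y := congrArg Subtype.val (hyf ⟨b, mem_zpowers _⟩)
        have hy1 : y ∈ Rp Q (b : G) := hy.1
        rcases inter S (mem_Rb.mpr ⟨(mem_Rp.mp hy1).1, (mul_inv_eq_iff_eq_mul.mp e).symm⟩) hy1
          with e' | e'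
        · show y ∈ zpowers z; rw [e']; exact one_mem _
        · show y ∈ zpowers z; rw [e']; exact mem_zpowers z
      refine Nat.card_eq_of_bijective (fun y => ⟨_, hin y⟩)
        ⟨fun u v e => Subtype.ext (Subtype.ext (congrArg (fun w : ↥(zpowers z) => (w : G)) e)), ?_⟩
      rintro ⟨w, hw⟩
      have hwF : w ∈ Fs := by
        refine zpowers_le.mpr ?_ hw
        exact ⟨z_Rp S, Or.inl (by rw [hgz, mul_inv_cancel_right])⟩
      refine ⟨⟨⟨w, hwF⟩, fun k => Subtype.ext ?_⟩, rfl⟩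
      show (k : G) * w * (k : G)⁻¹ = w
      obtain ⟨i, rfl⟩ := mem_zpowers_iff.mp hw
      have hk : Commute (k : G) z := (mem_HH.mp (zpowers_le.mpr hbH k.2)).1
      rw [(hk.zpow_right i).eq, mul_inv_cancel_right]
    have hmod := hp.card_modEq_card_fixedPoints ↥Fs
    rw [hfix] at hmod
    have hle : Fs ≤ Rp Q (b : G) := fun y hy => hy.1
    have hdvd := Subgroup.card_dvd_of_le hle
    rw [card_Rp S] at hdvd
    have hx0F : x₀ ∈ Fs := ⟨hx₀, hg0⟩
    have h3 : 3 ≤ Nat.card Fs := by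
      have hzF : z ∈ Fs := ⟨z_Rp S, Or.inl (by rw [hgz, mul_inv_cancel_right])⟩
      have hsub : ({1, z, x₀} : Set G) ⊆ (Fs : Set G) := by
        rintro y (rfl | rfl | rfl)
        exacts [one_mem _, hzF, hx0F]
      have h := Set.ncard_le_ncard hsub (Set.toFinite _)
      rwa [Set.ncard_insert_of_notMem (by simp [S.D.H.h.ne_one.symm, h01.symm]) (Set.toFinite _),
        Set.ncard_pair h0z.symm] at h
    obtain ⟨i, hi, ei⟩ := (Nat.dvd_prime_pow Nat.prime_two).mp (show Nat.card Fs ∣ 2 ^ 5 from hdvd)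
    rw [ei] at hmod h3
    have h32 : Nat.card Fs = 32 := by
      rw [ei]
      interval_cases i <;> simp_all [Nat.ModEq]
    intro y hy
    exact ((Subgroup.eq_of_le_of_card_ge hle (by rw [h32, card_Rp S])).ge hy).2
  -- the elements acting trivially modulo `z`
  let N : Subgroup ↥(H1 z (b : G)) :=
    { carrier := {g | ∀ y ∈ Rp Q (b : G),
        (g : G) * y * (g : G)⁻¹ = y ∨ (g : G) * y * (g : G)⁻¹ = z * y}
      one_mem' := fun y _ => Or.inl (by simp)
      mul_mem' := by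
        intro g k hg hk y hy
        have hgz := hzc _ (H1_le_HH g.2)
        rw [Subgroup.coe_mul, show (g : G) * k * y * ((g : G) * k)⁻¹ =
          g * ((k : G) * y * (k : G)⁻¹) * (g : G)⁻¹ by group]
        rcases hk y hy with e | e <;> rw [e]
        · exact hg y hy
        · rw [← mul_assoc (g : G), hgz, show z * (g : G) * y * (g : G)⁻¹ =
            z * ((g : G) * y * (g : G)⁻¹) by group]
          rcases hg y hy with e' | e' <;> rw [e']
          · exact Or.inr rfl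
          · exact Or.inl (S.D.H.h.z_mul_z_mul _)
      inv_mem' := by
        intro g hg y hy
        have hgz := hzc _ (H1_le_HH g.2)
        have hy' : (g : G)⁻¹ * y * (g : G) ∈ Rp Q (b : G) := by
          have := Rp_conj S (inv_mem (H1_le_HH g.2)) hy
          rwa [inv_inv] at this
        rw [Subgroup.coe_inv, inv_inv]
        rcases hg _ hy' with e | e
        · exact Or.inl (by rw [← e]; group)
        · refine Or.inr ?_
          rw [show (g : G) * ((g : G)⁻¹ * y * g) * (g : G)⁻¹ = y by group] at e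
          calc (g : G)⁻¹ * y * g = z * (z * ((g : G)⁻¹ * y * g)) := (S.D.H.h.z_mul_z_mul _).symm
            _ = z * y := by rw [← e] }
  haveI : N.Normal := by
    refine ⟨fun n hn g y hy => ?_⟩
    have hgz := hzc _ (H1_le_HH g.2)
    have hy' : (g : G)⁻¹ * y * (g : G) ∈ Rp Q (b : G) := by
      have := Rp_conj S (inv_mem (H1_le_HH g.2)) hy
      rwa [inv_inv] at this
    rw [show ((g * n * g⁻¹ : ↥(H1 z (b : G))) : G) * y * ((g * n * g⁻¹ : ↥(H1 z (b : G))) : G)⁻¹ =
      g * ((n : G) * ((g : G)⁻¹ * y * g) * (n : G)⁻¹) * (g : G)⁻¹ by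
        simp only [Subgroup.coe_mul, Subgroup.coe_inv]; group]
    rcases hn _ hy' with e | e <;> rw [e]
    · exact Or.inl (by group)
    · exact Or.inr (by rw [← mul_assoc (g : G), hgz]; group)
  have hidx : N.index ≤ 32 := by
    rw [← card_Rp S, Subgroup.index]
    refine Nat.card_le_card_of_injective (fun q : ↥(H1 z (b : G)) ⧸ N =>
      (⟨(q.out : G) * x₀ * (q.out : G)⁻¹, Rp_conj S (H1_le_HH q.out.2) hx₀⟩ :
        ↥(Rp Q (b : G)))) fun q r e => ?_
    have e' : (q.out : G) * x₀ * (q.out : G)⁻¹ = (r.out : G) * x₀ * (r.out : G)⁻¹ :=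
      congrArg Subtype.val e
    rw [← q.out_eq', ← r.out_eq', QuotientGroup.eq]
    show ∀ y ∈ Rp Q (b : G), _
    refine hF _ (H1_le_HH (q.out⁻¹ * r.out).2) (Or.inl ?_)
    rw [Subgroup.coe_mul, Subgroup.coe_inv]
    calc (q.out : G)⁻¹ * r.out * x₀ * ((q.out : G)⁻¹ * r.out)⁻¹
        = (q.out : G)⁻¹ * ((r.out : G) * x₀ * (r.out : G)⁻¹) * q.out := by group
      _ = x₀ := by rw [← e']; group
  have htop := normal_eq_top S N (by omega)
  have hmod : ∀ g : ↥(H1 z (b : G)), (g : G) * x * (g : G)⁻¹ = x ∨ (g : G) * x * (g : G)⁻¹ = z * x :=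
    fun g => (htop.ge (mem_top g)) x hx
  let χ : ↥(H1 z (b : G)) →* G := MonoidHom.mk' (fun g => (g : G) * x * (g : G)⁻¹ * x⁻¹) fun g k => by
    simp only [Subgroup.coe_mul]
    have hgz := hzc _ (H1_le_HH g.2)
    rw [show (g : G) * k * x * ((g : G) * k)⁻¹ = g * ((k : G) * x * (k : G)⁻¹) * (g : G)⁻¹ by group]
    rcases hmod k with e | e <;> rw [e]
    · group
    · rw [← mul_assoc (g : G), hgz, show z * (g : G) * x * (g : G)⁻¹ =
        z * ((g : G) * x * (g : G)⁻¹) by group]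
      rcases hmod g with e' | e' <;> rw [e'] <;> group
  have hχ := hom_trivial S χ (by
    have hle : χ.range ≤ zpowers z := by
      rintro _ ⟨g, rfl⟩
      show (g : G) * x * (g : G)⁻¹ * x⁻¹ ∈ zpowers z
      rcases hmod g with e | e <;> rw [e]
      · rw [mul_inv_cancel]; exact one_mem _
      · rw [mul_inv_cancel_right]; exact mem_zpowers z
    have := Nat.card_le_card_of_injective _ (Subgroup.inclusion_injective hle)
    rw [Nat.card_zpowers, S.D.H.h.orderOf_z] at this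
    omega) ⟨h, hh⟩
  exact mul_inv_eq_iff_eq_mul.mp (mul_inv_eq_one.mp hχ)

end Cfsg.Agent.ConwayFiveSide30
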