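import Cfsg.Agent.Lib.J2Simple
import Cfsg.Prelude.Def_KGroupFacts

/-!
The double cover of J2 is a stem extension.
-/

set_option autoImplicit false
set_option maxRecDepth 100000

namespace Cfsg.Agent.J2Mult76Cover

open Cfsg.Agent.IcosianData Cfsg.Agent.IcosianCoords Cfsg.Agent.IcosianRefl Cfsg.Agent.J2VectorData
  Cfsg.Agent.J2Lines Cfsg.Agent.J2Group Cfsg.Agent.J2Chain Cfsg.Spor Quaternion

/-- A word of even length whose sixth power acts as minus one. -/
def word : List (Fin 4) := (List.replicate 6 [1, 0, 1, 3, 1, 2]).flatten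

/-- The image of a code under a word of generators, with exactness. -/
def act : List (Fin 4) → Ico3 → Bool × Ico3
  | [], v => (true, v)
  | g :: l, v =>
    let r := act l v
    (r.1 && reflOK (root (genIdx.getD g 0)) r.2, reflC (root (genIdx.getD g 0)) r.2)

theorem act_word : (act word (root 0)).1 = true ∧ (act word (root 0)).2 ≠ root 0 := by decide +kernel

theorem word_lines : ∀ p ∈ [(0 : Fin 315), 106, 1], (word.map gperm).prod p = p := by decide +kernel

/-- A generator as an element of the double cover. -/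
noncomputable def rg (g : Fin 4) : Cfsg.Spor.twoJ2 := ⟨refl (gfin g), refl_mem _⟩

theorem act_spec : ∀ (l : List (Fin 4)) (v : Ico3) (hv : val3 v ∈ icoLeech), (act l v).1 = true →
    ((((l.map rg).prod : Cfsg.Spor.twoJ2) : Equiv.Perm icoLeech) ⟨val3 v, hv⟩ : Fin 3 → ℍ[ℝ]) =
      val3 (act l v).2
  | [], v, hv, _ => rfl
  | g :: l, v, hv, h => by
    simp only [act, Bool.and_eq_true] at h
    have ih := act_spec l v hv h.1
    rw [List.map_cons, List.prod_cons, Subgroup.coe_mul, Equiv.Perm.mul_apply]
    show qrefl (val3 (root (gfin g))) _ = _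
    rw [ih]
    exact qrefl_val3 h.2

theorem root_mem : val3 (root 0) ∈ icoLeech := (root_facts 0 (by norm_num)).1

theorem word_moves : ((word.map rg).prod : Cfsg.Spor.twoJ2) ≠ 1 := by
  intro h
  have h1 := act_spec word (root 0) root_mem act_word.1
  rw [h] at h1
  exact act_word.2 (val3_injective h1).symm

theorem word_ker : ((word.map rg).prod : Cfsg.Spor.twoJ2) ∈ toLines.ker := by
  rw [MonoidHom.mem_ker, map_list_prod, List.map_map]
  have e : (toLines ∘ rg : Fin 4 → Equiv.Perm (Fin 315)) = gperm := funext fun g => toLines_refl g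
  rw [e]
  have hm : (word.map gperm).prod ∈ lineGroup := list_prod_mem fun x hx => by
    obtain ⟨g, -, rfl⟩ := List.mem_map.1 hx
    exact gperm_mem g
  exact eq_one_of_fix hm (word_lines 0 (by simp)) (word_lines 106 (by simp)) (word_lines 1 (by simp))

/-- All reflections have the same image in an abelian quotient. -/
theorem abel_rg (g : Fin 4) : Abelianization.of (rg g) = Abelianization.of (rg 0) := by
  obtain ⟨σ, hσ, h0⟩ := lineGroup_transitive (gfin g)
  obtain ⟨u, hu, hc⟩ := exists_lift hσ
  have hu' : u ∈ Cfsg.Spor.twoJ2 := gens_eq ▸ hu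
  have h := hc 0
  rw [h0] at h
  have e : rg g = ⟨u, hu'⟩ * rg 0 * (⟨u, hu'⟩ : Cfsg.Spor.twoJ2)⁻¹ := Subtype.ext h.symm
  rw [e, map_mul, map_mul, map_inv, mul_comm (Abelianization.of _), mul_inv_cancel_right]

theorem abel_word : Abelianization.of ((word.map rg).prod) = 1 := by
  rw [map_list_prod, List.map_map,
    List.eq_replicate_of_mem (a := Abelianization.of (rg 0)) (l := word.map (Abelianization.of ∘ rg))
      (fun b hb => by
        obtain ⟨g, -, rfl⟩ := List.mem_map.1 hb
        exact abel_rg g),
    List.prod_replicate, List.length_map]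
  have h2 : Abelianization.of (rg 0) ^ 2 = 1 := by
    rw [← map_pow, pow_two]
    have : rg 0 * rg 0 = 1 := Subtype.ext (refl_mul_self _)
    rw [this, map_one]
  rw [show word.length = 2 * 18 from rfl, pow_mul, h2, one_pow]

theorem finite_twoJ2 : Finite Cfsg.Spor.twoJ2 := Nat.finite_of_card_ne_zero (by rw [card_twoJ2]; norm_num)

/-- The double cover is a stem extension with kernel of order two. -/
theorem cover : ∃ (Γ : Type) (_ : Group Γ) (_ : Finite Γ) (σ : Γ →* Cfsg.Spor.J2),
    Cfsg.IsStemExtension σ ∧ Nonempty (σ.ker ≃* Multiplicative (ZMod 2)) := by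
  let σ : Cfsg.Spor.twoJ2 →* Cfsg.Spor.J2 := QuotientGroup.mk' (Subgroup.center Cfsg.Spor.twoJ2)
  have hk : σ.ker = Subgroup.center Cfsg.Spor.twoJ2 := QuotientGroup.ker_mk' _
  have hcard : Nat.card σ.ker = 2 := by rw [hk, ← ker_eq_center, J2Group.card_ker]
  refine ⟨Cfsg.Spor.twoJ2, inferInstance, finite_twoJ2, σ, ⟨QuotientGroup.mk'_surjective _, hk.le, ?_⟩, ?_⟩
  · rw [hk, ← ker_eq_center, ← Abelianization.ker_of]
    intro x hx
    have : Nat.card toLines.ker = 2 := J2Group.card_ker
    obtain ⟨a, b, hab, huniv⟩ := Nat.card_eq_two_iff.1 this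
    have hcases : ∀ w : toLines.ker, w = a ∨ w = b := fun w => by
      have : w ∈ ({a, b} : Set toLines.ker) := huniv ▸ Set.mem_univ w
      simpa using this
    set w : toLines.ker := ⟨(word.map rg).prod, word_ker⟩
    have hw1 : w ≠ 1 := fun e => word_moves (congrArg Subtype.val e)
    have hx' : (⟨x, hx⟩ : toLines.ker) = 1 ∨ (⟨x, hx⟩ : toLines.ker) = w := by
      rcases hcases ⟨x, hx⟩ with h1 | h1 <;> rcases hcases 1 with h2 | h2 <;> rcases hcases w with h3 | h3
      all_goals first
        | exact Or.inl (h1.trans h2.symm)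
        | exact Or.inr (h1.trans h3.symm)
        | exact absurd (h3.trans h2.symm) hw1
    rw [MonoidHom.mem_ker]
    rcases hx' with h | h
    · rw [show x = 1 from congrArg Subtype.val h, map_one]
    · rw [show x = (word.map rg).prod from congrArg Subtype.val h]
      exact abel_word
  · haveI : IsCyclic σ.ker := isCyclic_of_prime_card hcard
    exact ⟨mulEquivOfCyclicCardEq (by
      rw [hcard, show Nat.card (Multiplicative (ZMod 2)) = 2 from Nat.card_zmod 2])⟩

end Cfsg.Agent.J2Mult76Cover
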