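import Cfsg.Agent.Lib.SplitVoltageCert

/-!
Certificate data: voltages for the multiplier of J2, part 3.
-/

set_option autoImplicit false
set_option maxRecDepth 100000

namespace Cfsg.Agent.J2Mult76P3Data

open Cfsg.Agent.SplitVoltageCert

/-- table part -/
def nxT_1 : Tr :=
  .nd (.nd (.lf 0) (.lf 3)) (.nd (.lf 1) (.lf 25))

/-- table part -/
def nxT_2 : Tr :=
  .nd (.nd (.lf 8) (.lf 5)) (.nd (.lf 19) (.lf 0))

/-- table part -/
def nxT_3 : Tr :=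
  .nd (.nd (.lf 4) (.lf 21)) (.nd (.lf 17) (.lf 26))

/-- table part -/
def nxT_4 : Tr :=
  .nd (.nd (.lf 11) (.lf 23)) (.nd (.lf 14) (.lf 0))

/-- table part -/
def nxT_5 : Tr :=
  .nd (.nd (.lf 2) (.lf 12)) (.nd (.lf 15) (.lf 22))

/-- table part -/
def nxT_6 : Tr :=
  .nd (.nd (.lf 7) (.lf 9)) (.nd (.lf 20) (.lf 0))

/-- table part -/
def nxT_7 : Tr :=
  .nd (.nd (.lf 6) (.lf 10)) (.nd (.lf 16) (.lf 0))

/-- table part -/
def nxT_8 : Tr :=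
  .nd (.nd (.lf 13) (.lf 24)) (.nd (.lf 18) (.lf 0))

/-- table part -/
def nxT_9 : Tr :=
  .nd (.nd (.lf 1) (.lf 23)) (.nd (.lf 14) (.lf 6))

/-- table part -/
def nxT_10 : Tr :=
  .nd (.nd (.lf 9) (.lf 24)) (.nd (.lf 20) (.lf 0))

/-- table part -/
def nxT_11 : Tr :=
  .nd (.nd (.lf 5) (.lf 2)) (.nd (.lf 18) (.lf 13))

/-- table part -/
def nxT_12 : Tr :=
  .nd (.nd (.lf 12) (.lf 19)) (.nd (.lf 22) (.lf 0))

/-- table part -/
def nxT_13 : Tr :=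
  .nd (.nd (.lf 3) (.lf 17)) (.nd (.lf 16) (.lf 26))

/-- table part -/
def nxT_14 : Tr :=
  .nd (.nd (.lf 10) (.lf 25)) (.nd (.lf 21) (.lf 0))

/-- table part -/
def nxT_15 : Tr :=
  .nd (.nd (.lf 7) (.lf 8)) (.nd (.lf 11) (.lf 0))

/-- table part -/
def nxT_16 : Tr :=
  .nd (.nd (.lf 0) (.lf 4)) (.nd (.lf 15) (.lf 0))

/-- table -/
def nxT : Tr :=
  .nd (.nd (.nd (.nd nxT_1 nxT_2) (.nd nxT_3 nxT_4)) (.nd (.nd nxT_5 nxT_6) (.nd nxT_7 nxT_8))) (.nd (.nd (.nd nxT_9 nxT_10) (.nd nxT_11 nxT_12)) (.nd (.nd nxT_13 nxT_14) (.nd nxT_15 nxT_16)))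

/-- table part -/
def pvT_1 : Tr :=
  .nd (.nd (.lf 0) (.lf 11)) (.nd (.lf 4) (.lf 23))

/-- table part -/
def pvT_2 : Tr :=
  .nd (.nd (.lf 2) (.lf 13)) (.nd (.lf 17) (.lf 0))

/-- table part -/
def pvT_3 : Tr :=
  .nd (.nd (.lf 1) (.lf 15)) (.nd (.lf 19) (.lf 26))

/-- table part -/
def pvT_4 : Tr :=
  .nd (.nd (.lf 3) (.lf 25)) (.nd (.lf 14) (.lf 0))

/-- table part -/
def pvT_5 : Tr :=
  .nd (.nd (.lf 8) (.lf 10)) (.nd (.lf 21) (.lf 24))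

/-- table part -/
def pvT_6 : Tr :=
  .nd (.nd (.lf 20) (.lf 18)) (.nd (.lf 7) (.lf 0))

/-- table part -/
def pvT_7 : Tr :=
  .nd (.nd (.lf 16) (.lf 12)) (.nd (.lf 6) (.lf 0))

/-- table part -/
def pvT_8 : Tr :=
  .nd (.nd (.lf 5) (.lf 22)) (.nd (.lf 9) (.lf 0))

/-- table part -/
def pvT_9 : Tr :=
  .nd (.nd (.lf 7) (.lf 9)) (.nd (.lf 19) (.lf 20))

/-- table part -/
def pvT_10 : Tr :=
  .nd (.nd (.lf 23) (.lf 12)) (.nd (.lf 6) (.lf 0))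

/-- table part -/
def pvT_11 : Tr :=
  .nd (.nd (.lf 18) (.lf 10)) (.nd (.lf 5) (.lf 25))

/-- table part -/
def pvT_12 : Tr :=
  .nd (.nd (.lf 24) (.lf 14)) (.nd (.lf 8) (.lf 0))

/-- table part -/
def pvT_13 : Tr :=
  .nd (.nd (.lf 0) (.lf 17)) (.nd (.lf 4) (.lf 21))

/-- table part -/
def pvT_14 : Tr :=
  .nd (.nd (.lf 2) (.lf 13)) (.nd (.lf 26) (.lf 0))

/-- table part -/
def pvT_15 : Tr :=
  .nd (.nd (.lf 1) (.lf 22)) (.nd (.lf 11) (.lf 0))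

/-- table part -/
def pvT_16 : Tr :=
  .nd (.nd (.lf 3) (.lf 16)) (.nd (.lf 15) (.lf 0))

/-- table -/
def pvT : Tr :=
  .nd (.nd (.nd (.nd pvT_1 pvT_2) (.nd pvT_3 pvT_4)) (.nd (.nd pvT_5 pvT_6) (.nd pvT_7 pvT_8))) (.nd (.nd (.nd pvT_9 pvT_10) (.nd pvT_11 pvT_12)) (.nd (.nd pvT_13 pvT_14) (.nd pvT_15 pvT_16)))

/-- table part -/
def parT_1 : Tr :=
  .nd (.lf 0) (.lf 19)

/-- table part -/
def parT_2 : Tr :=
  .nd (.lf 8) (.lf 41)

/-- table part -/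
def parT_3 : Tr :=
  .nd (.lf 4) (.lf 25)

/-- table part -/
def parT_4 : Tr :=
  .nd (.lf 13) (.lf 0)

/-- table part -/
def parT_5 : Tr :=
  .nd (.lf 2) (.lf 21)

/-- table part -/
def parT_6 : Tr :=
  .nd (.lf 11) (.lf 51)

/-- table part -/
def parT_7 : Tr :=
  .nd (.lf 6) (.lf 29)

/-- table part -/
def parT_8 : Tr :=
  .nd (.lf 17) (.lf 0)

/-- table part -/
def parT_9 : Tr :=
  .nd (.lf 1) (.lf 20)

/-- table part -/
def parT_10 : Tr :=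
  .nd (.lf 9) (.lf 43)

/-- table part -/
def parT_11 : Tr :=
  .nd (.lf 5) (.lf 27)

/-- table part -/
def parT_12 : Tr :=
  .nd (.lf 14) (.lf 0)

/-- table part -/
def parT_13 : Tr :=
  .nd (.lf 3) (.lf 24)

/-- table part -/
def parT_14 : Tr :=
  .nd (.lf 12) (.lf 0)

/-- table part -/
def parT_15 : Tr :=
  .nd (.lf 7) (.lf 33)

/-- table part -/
def parT_16 : Tr :=
  .nd (.lf 18) (.lf 0)

/-- table -/
def parT : Tr :=
  .nd (.nd (.nd (.nd parT_1 parT_2) (.nd parT_3 parT_4)) (.nd (.nd parT_5 parT_6) (.nd parT_7 parT_8))) (.nd (.nd (.nd parT_9 parT_10) (.nd parT_11 parT_12)) (.nd (.nd parT_13 parT_14) (.nd parT_15 parT_16)))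

/-- table part -/
def fmT_1 : Tr :=
  .nd (.nd (.lf 2658455991569841190540579859851116544) (.lf 158456325028528675187087900672)) (.nd (.lf 0) (.lf 281474976710656))

/-- table part -/
def fmT_2 : Tr :=
  .nd (.nd (.lf 0) (.lf 79228171958997303332834377728)) (.nd (.lf 0) (.lf 0))

/-- table part -/
def fmT_3 : Tr :=
  .nd (.nd (.lf 0) (.lf 79228167236631383413142585344)) (.nd (.lf 0) (.lf 158456334473261640926378328064))

/-- table part -/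
def fmT_4 : Tr :=
  .nd (.nd (.lf 0) (.lf 2658456070798003704805198928371777536)) (.nd (.lf 1329228154241240901433045197321666560) (.lf 0))

/-- table part -/
def fmT_5 : Tr :=
  .nd (.nd (.lf 0) (.lf 158456334473261922401355038720)) (.nd (.lf 0) (.lf 2658456150026166219069817996892438528))

/-- table part -/
def fmT_6 : Tr :=
  .nd (.nd (.lf 1329227995784915872903807060280344576) (.lf 79228171958997303332834377728)) (.nd (.lf 79228162514264900543497371648) (.lf 0))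

/-- table part -/
def fmT_7 : Tr :=
  .nd (.nd (.lf 0) (.lf 1329227995784920595270852879878979584)) (.nd (.lf 79228162514264337593543950336) (.lf 0))

/-- table part -/
def fmT_8 : Tr :=
  .nd (.nd (.lf 0) (.lf 158456329750895721006686535680)) (.nd (.lf 4722366482869645213696) (.lf 0))

/-- table part -/
def fmT_9 : Tr :=
  .nd (.nd (.lf 0) (.lf 0)) (.nd (.lf 0) (.lf 0))

/-- table part -/
def fmT_10 : Tr :=
  .nd (.nd (.lf 0) (.lf 0)) (.nd (.lf 0) (.lf 0))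

/-- table part -/
def fmT_11 : Tr :=
  .nd (.nd (.lf 0) (.lf 0)) (.nd (.lf 0) (.lf 0))

/-- table part -/
def fmT_12 : Tr :=
  .nd (.nd (.lf 0) (.lf 4722366482869645213696)) (.nd (.lf 0) (.lf 0))

/-- table part -/
def fmT_13 : Tr :=
  .nd (.nd (.lf 0) (.lf 4722367045819598635008)) (.nd (.lf 0) (.lf 0))

/-- table part -/
def fmT_14 : Tr :=
  .nd (.nd (.lf 0) (.lf 0)) (.nd (.lf 0) (.lf 0))

/-- table part -/
def fmT_15 : Tr :=
  .nd (.nd (.lf 0) (.lf 9444732965739290427392)) (.nd (.lf 4722366764344621924352) (.lf 0))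

/-- table part -/
def fmT_16 : Tr :=
  .nd (.nd (.lf 0) (.lf 0)) (.nd (.lf 4722366482869645213696) (.lf 0))

/-- table -/
def fmT : Tr :=
  .nd (.nd (.nd (.nd fmT_1 fmT_2) (.nd fmT_3 fmT_4)) (.nd (.nd fmT_5 fmT_6) (.nd fmT_7 fmT_8))) (.nd (.nd (.nd fmT_9 fmT_10) (.nd fmT_11 fmT_12)) (.nd (.nd fmT_13 fmT_14) (.nd fmT_15 fmT_16)))

/-- table part -/
def rkT_1 : Tr :=
  .nd (.nd (.lf 14) (.lf 10)) (.nd (.lf 6) (.lf 22))

/-- table part -/
def rkT_2 : Tr :=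
  .nd (.nd (.lf 0) (.lf 24)) (.nd (.lf 0) (.lf 0))

/-- table part -/
def rkT_3 : Tr :=
  .nd (.nd (.lf 0) (.lf 19)) (.nd (.lf 0) (.lf 23))

/-- table part -/
def rkT_4 : Tr :=
  .nd (.nd (.lf 0) (.lf 16)) (.nd (.lf 17) (.lf 0))

/-- table part -/
def rkT_5 : Tr :=
  .nd (.nd (.lf 0) (.lf 28)) (.nd (.lf 0) (.lf 18))

/-- table part -/
def rkT_6 : Tr :=
  .nd (.nd (.lf 13) (.lf 11)) (.nd (.lf 12) (.lf 0))

/-- table part -/
def rkT_7 : Tr :=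
  .nd (.nd (.lf 0) (.lf 15)) (.nd (.lf 9) (.lf 0))

/-- table part -/
def rkT_8 : Tr :=
  .nd (.nd (.lf 0) (.lf 20)) (.nd (.lf 26) (.lf 0))

/-- table part -/
def rkT_9 : Tr :=
  .nd (.nd (.lf 0) (.lf 0)) (.nd (.lf 0) (.lf 2))

/-- table part -/
def rkT_10 : Tr :=
  .nd (.nd (.lf 0) (.lf 0)) (.nd (.lf 0) (.lf 0))

/-- table part -/
def rkT_11 : Tr :=
  .nd (.nd (.lf 0) (.lf 4)) (.nd (.lf 0) (.lf 1))

/-- table part -/
def rkT_12 : Tr :=
  .nd (.nd (.lf 0) (.lf 8)) (.nd (.lf 0) (.lf 0))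

/-- table part -/
def rkT_13 : Tr :=
  .nd (.nd (.lf 0) (.lf 27)) (.nd (.lf 0) (.lf 0))

/-- table part -/
def rkT_14 : Tr :=
  .nd (.nd (.lf 0) (.lf 0)) (.nd (.lf 0) (.lf 0))

/-- table part -/
def rkT_15 : Tr :=
  .nd (.nd (.lf 0) (.lf 7)) (.nd (.lf 21) (.lf 0))

/-- table part -/
def rkT_16 : Tr :=
  .nd (.nd (.lf 5) (.lf 3)) (.nd (.lf 25) (.lf 0))

/-- table -/
def rkT : Tr :=
  .nd (.nd (.nd (.nd rkT_1 rkT_2) (.nd rkT_3 rkT_4)) (.nd (.nd rkT_5 rkT_6) (.nd rkT_7 rkT_8))) (.nd (.nd (.nd rkT_9 rkT_10) (.nd rkT_11 rkT_12)) (.nd (.nd rkT_13 rkT_14) (.nd rkT_15 rkT_16)))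

/-- table part -/
def jsT_1 : Tr :=
  .nd (.nd (.lf 1392) (.lf 194)) (.nd (.lf 98) (.lf 2566))

/-- table part -/
def jsT_2 : Tr :=
  .nd (.nd (.lf 0) (.lf 2518)) (.nd (.lf 0) (.lf 0))

/-- table part -/
def jsT_3 : Tr :=
  .nd (.nd (.lf 0) (.lf 924)) (.nd (.lf 0) (.lf 324))

/-- table part -/
def jsT_4 : Tr :=
  .nd (.nd (.lf 0) (.lf 2542)) (.nd (.lf 936) (.lf 0))

/-- table part -/
def jsT_5 : Tr :=
  .nd (.nd (.lf 0) (.lf 1512)) (.nd (.lf 0) (.lf 586))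

/-- table part -/
def jsT_6 : Tr :=
  .nd (.nd (.lf 3) (.lf 1464)) (.nd (.lf 2434) (.lf 0))

/-- table part -/
def jsT_7 : Tr :=
  .nd (.nd (.lf 0) (.lf 2506)) (.nd (.lf 1) (.lf 0))

/-- table part -/
def jsT_8 : Tr :=
  .nd (.nd (.lf 0) (.lf 1198)) (.nd (.lf 228) (.lf 0))

/-- table part -/
def jsT_9 : Tr :=
  .nd (.nd (.lf 0) (.lf 0)) (.nd (.lf 0) (.lf 292))

/-- table part -/
def jsT_10 : Tr :=
  .nd (.nd (.lf 0) (.lf 0)) (.nd (.lf 0) (.lf 0))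

/-- table part -/
def jsT_11 : Tr :=
  .nd (.nd (.lf 0) (.lf 220)) (.nd (.lf 0) (.lf 316))

/-- table part -/
def jsT_12 : Tr :=
  .nd (.nd (.lf 0) (.lf 268)) (.nd (.lf 0) (.lf 0))

/-- table part -/
def jsT_13 : Tr :=
  .nd (.nd (.lf 0) (.lf 1486)) (.nd (.lf 0) (.lf 0))

/-- table part -/
def jsT_14 : Tr :=
  .nd (.nd (.lf 0) (.lf 0)) (.nd (.lf 0) (.lf 0))

/-- table part -/
def jsT_15 : Tr :=
  .nd (.nd (.lf 0) (.lf 1860)) (.nd (.lf 1272) (.lf 0))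

/-- table part -/
def jsT_16 : Tr :=
  .nd (.nd (.lf 88) (.lf 280)) (.nd (.lf 1438) (.lf 0))

/-- table -/
def jsT : Tr :=
  .nd (.nd (.nd (.nd jsT_1 jsT_2) (.nd jsT_3 jsT_4)) (.nd (.nd jsT_5 jsT_6) (.nd jsT_7 jsT_8))) (.nd (.nd (.nd jsT_9 jsT_10) (.nd jsT_11 jsT_12)) (.nd (.nd jsT_13 jsT_14) (.nd jsT_15 jsT_16)))

/-- relations -/
def rels : List (List (ℕ × Bool)) :=
  [[(0, true), (0, true), (0, true), (0, true)],
   [(1, true), (1, true), (1, true), (1, true)],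
   [(1, false), (0, true), (1, true), (0, true), (1, true), (0, true), (1, false), (1, false)],
   [(1, true), (0, true), (1, true), (0, true), (1, true), (0, true)],
   [(1, true), (0, true), (1, false), (0, true), (1, false), (0, false), (1, true), (0, false)],
   [(0, false), (1, false), (0, false), (1, false), (0, false), (1, false)]]

/-- parameter edges -/
def pe : List ℕ := [22, 10]

/-- elimination -/
def fin : List (List (ℕ × ℕ × ℕ)) :=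
  [[(0, 5, 1), (0, 14, 2), (2, 0, 2)],
   [(0, 5, 1), (0, 14, 2), (3, 0, 2)],
   [(0, 10, 1), (0, 14, 2)],
   [(0, 5, 2), (0, 14, 1)],
   [(0, 0, 2), (0, 5, 1), (0, 10, 2), (0, 14, 2)],
   [(0, 0, 2), (0, 5, 1), (0, 14, 2)]]

/-- the certificate -/
def cert : Cert :=
  ⟨3, 2, 27, 2, 6, rels, nxT, pvT, parT, fmT, rkT, jsT, pe, fin⟩

/-- table part -/
def keyT_1 : Tr :=
  .nd (.lf 3) (.lf 274)

/-- table part -/
def keyT_2 : Tr :=
  .nd (.lf 147) (.lf 264)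

/-- table part -/
def keyT_3 : Tr :=
  .nd (.lf 160) (.lf 31)

/-- table part -/
def keyT_4 : Tr :=
  .nd (.lf 170) (.lf 0)

/-- table part -/
def keyT_5 : Tr :=
  .nd (.lf 64) (.lf 249)

/-- table part -/
def keyT_6 : Tr :=
  .nd (.lf 202) (.lf 79)

/-- table part -/
def keyT_7 : Tr :=
  .nd (.lf 289) (.lf 129)

/-- table part -/
def keyT_8 : Tr :=
  .nd (.lf 167) (.lf 0)

/-- table part -/
def keyT_9 : Tr :=
  .nd (.lf 93) (.lf 236)

/-- table part -/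
def keyT_10 : Tr :=
  .nd (.lf 95) (.lf 183)

/-- table part -/
def keyT_11 : Tr :=
  .nd (.lf 11) (.lf 200)

/-- table part -/
def keyT_12 : Tr :=
  .nd (.lf 152) (.lf 0)

/-- table part -/
def keyT_13 : Tr :=
  .nd (.lf 279) (.lf 109)

/-- table part -/
def keyT_14 : Tr :=
  .nd (.lf 284) (.lf 0)

/-- table part -/
def keyT_15 : Tr :=
  .nd (.lf 81) (.lf 223)

/-- table part -/
def keyT_16 : Tr :=
  .nd (.lf 212) (.lf 0)

/-- table -/
def keyT : Tr :=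
  .nd (.nd (.nd (.nd keyT_1 keyT_2) (.nd keyT_3 keyT_4)) (.nd (.nd keyT_5 keyT_6) (.nd keyT_7 keyT_8))) (.nd (.nd (.nd keyT_9 keyT_10) (.nd keyT_11 keyT_12)) (.nd (.nd keyT_13 keyT_14) (.nd keyT_15 keyT_16)))

/-- table part -/
def posT_1 : Tr :=
  .nd (.lf 0) (.lf 23)

/-- table part -/
def posT_2 : Tr :=
  .nd (.lf 10) (.lf 22)

/-- table part -/
def posT_3 : Tr :=
  .nd (.lf 12) (.lf 2)

/-- table part -/
def posT_4 : Tr :=
  .nd (.lf 14) (.lf 0)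

/-- table part -/
def posT_5 : Tr :=
  .nd (.lf 3) (.lf 21)

/-- table part -/
def posT_6 : Tr :=
  .nd (.lf 17) (.lf 4)

/-- table part -/
def posT_7 : Tr :=
  .nd (.lf 26) (.lf 9)

/-- table part -/
def posT_8 : Tr :=
  .nd (.lf 13) (.lf 0)

/-- table part -/
def posT_9 : Tr :=
  .nd (.lf 6) (.lf 20)

/-- table part -/
def posT_10 : Tr :=
  .nd (.lf 7) (.lf 15)

/-- table part -/
def posT_11 : Tr :=
  .nd (.lf 1) (.lf 16)

/-- table part -/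
def posT_12 : Tr :=
  .nd (.lf 11) (.lf 0)

/-- table part -/
def posT_13 : Tr :=
  .nd (.lf 24) (.lf 8)

/-- table part -/
def posT_14 : Tr :=
  .nd (.lf 25) (.lf 0)

/-- table part -/
def posT_15 : Tr :=
  .nd (.lf 5) (.lf 19)

/-- table part -/
def posT_16 : Tr :=
  .nd (.lf 18) (.lf 0)

/-- table -/
def posT : Tr :=
  .nd (.nd (.nd (.nd posT_1 posT_2) (.nd posT_3 posT_4)) (.nd (.nd posT_5 posT_6) (.nd posT_7 posT_8))) (.nd (.nd (.nd posT_9 posT_10) (.nd posT_11 posT_12)) (.nd (.nd posT_13 posT_14) (.nd posT_15 posT_16)))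

/-- table part -/
def srtT_1 : Tr :=
  .nd (.lf 0) (.lf 21)

/-- table part -/
def srtT_2 : Tr :=
  .nd (.lf 19) (.lf 3)

/-- table part -/
def srtT_3 : Tr :=
  .nd (.lf 26) (.lf 17)

/-- table part -/
def srtT_4 : Tr :=
  .nd (.lf 4) (.lf 0)

/-- table part -/
def srtT_5 : Tr :=
  .nd (.lf 20) (.lf 15)

/-- table part -/
def srtT_6 : Tr :=
  .nd (.lf 8) (.lf 6)

/-- table part -/
def srtT_7 : Tr :=
  .nd (.lf 1) (.lf 24)

/-- table part -/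
def srtT_8 : Tr :=
  .nd (.lf 12) (.lf 0)

/-- table part -/
def srtT_9 : Tr :=
  .nd (.lf 5) (.lf 10)

/-- table part -/
def srtT_10 : Tr :=
  .nd (.lf 22) (.lf 11)

/-- table part -/
def srtT_11 : Tr :=
  .nd (.lf 7) (.lf 18)

/-- table part -/
def srtT_12 : Tr :=
  .nd (.lf 14) (.lf 0)

/-- table part -/
def srtT_13 : Tr :=
  .nd (.lf 2) (.lf 23)

/-- table part -/
def srtT_14 : Tr :=
  .nd (.lf 13) (.lf 0)

/-- table part -/
def srtT_15 : Tr :=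
  .nd (.lf 9) (.lf 16)

/-- table part -/
def srtT_16 : Tr :=
  .nd (.lf 25) (.lf 0)

/-- table -/
def srtT : Tr :=
  .nd (.nd (.nd (.nd srtT_1 srtT_2) (.nd srtT_3 srtT_4)) (.nd (.nd srtT_5 srtT_6) (.nd srtT_7 srtT_8))) (.nd (.nd (.nd srtT_9 srtT_10) (.nd srtT_11 srtT_12)) (.nd (.nd srtT_13 srtT_14) (.nd srtT_15 srtT_16)))

/-- coordinates of the generators -/
def gensX : List (ℕ × ℕ × ℕ) := [(42, 146, 4), (48, 92, 6)]

/-- their orders -/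
def ords : List ℕ := [4, 4]

/-- coordinates of their inverses -/
def invsX : List (ℕ × ℕ × ℕ) := [(23, 93, 3), (54, 122, 1)]

end Cfsg.Agent.J2Mult76P3Data
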