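import Cfsg.Agent.Lib.J2Mult76Bound
import Cfsg.Agent.Lib.J2Mult76P3Data

/-!
Checks of the certificate for the multiplier of J2, part P3.
-/

set_option autoImplicit false
set_option maxRecDepth 100000

namespace Cfsg.Agent.J2Mult76P3

open Cfsg.Agent.SplitVoltageCert Cfsg.Agent.J2Mult76Bound Cfsg.Agent.J2Mult76P3Data
  Cfsg.Agent.J2ChainDefs Cfsg.Agent.J2Group Cfsg.Agent.J2Out76 Cfsg.Agent.J2OutData76

theorem cert_core : cert.Core where
  hm := by decide +kernel
  hn := by decide +kernel
  hN := by decide +kernel
  hnpow := by decide +kernel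
  hK := by decide +kernel
  table := by decide +kernel
  tree := by decide +kernel
  rel := by decide +kernel
  edge := by decide +kernel

theorem gens_check : gensOK cert gensX invsX ords = true := by decide +kernel

theorem inj_check : injOK cert.N keyT posT srtT = true := by decide +kernel

theorem cert_ok : cert.OK where
  toCore := cert_core
  fin := by decide +kernel

/-- the objects: lines -/
noncomputable def obj (c : ℕ) : Fin 315 := ⟨get keyT c % 315, Nat.mod_lt _ (by norm_num)⟩

/-- the action check -/
noncomputable def actOK : Bool :=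
  (List.range cert.N).all fun c => Nat.blt (get keyT c) 315 && (List.range cert.n).all fun i =>
    Nat.beq (eltF (gensX.getD i (0, 0, 0)) (get keyT c % 315)) (get keyT (cert.nxF i c) % 315)

theorem act_check : actOK = true := by decide +kernel

theorem key_lt {c : ℕ} (hc : c < cert.N) : get keyT c < 315 := by
  have := List.all_eq_true.1 act_check c (List.mem_range.2 hc)
  simp only [Bool.and_eq_true, Nat.blt_eq] at this
  exact this.1

theorem obj_inj : ∀ c < cert.N, ∀ d < cert.N, obj c = obj d → c = d := by
  intro c hc d hd e
  refine inj_of_injOK inj_check hc hd ?_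
  have h2 : get keyT c % 315 = get keyT d % 315 := congrArg Fin.val e
  rwa [Nat.mod_eq_of_lt (key_lt hc), Nat.mod_eq_of_lt (key_lt hd)] at h2

theorem obj_act : ∀ i < cert.n, ∀ c < cert.N, gensF gensX i • obj c = obj (cert.nxF i c) := by
  intro i hi c hc
  have h := List.all_eq_true.1 act_check c (List.mem_range.2 hc)
  simp only [Bool.and_eq_true, List.all_eq_true, List.mem_range] at h
  exact Fin.ext ((elt_rep (gensX.getD i (0, 0, 0)) _).trans (Nat.eq_of_beq_eq_true (h.2 i hi)))

/-- Characters of the kernel of a stem extension with values killed by three are trivial. -/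
theorem bound {Γ : Type} [Group Γ] [Finite Γ] (σ : Γ →* lineGroup) (hσ : Cfsg.IsStemExtension σ)
    {A : Type} [CommGroup A] (hA : ∀ a : A, a ^ 3 = 1) (χ : σ.ker →* A) :
    ∀ z : σ.ker, χ z = 1 := by
  obtain ⟨h1, h2⟩ := gens_spec cert cert_core rfl gensX invsX ords gens_check
  obtain ⟨u, hu, hz⟩ := bound_sub cert cert_core rfl (gensF gensX) ords h1 h2 obj obj_inj obj_act
    (by rw [J2Chain.card_lineGroup]; decide +kernel) hA 1
    (fun v e a b c => ⟨0, by simp, fun i hi d hd => by
      rw [Cert.solution_zero cert_ok (A := Additive A)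
        (fun a => Additive.toMul.injective (by rw [toMul_nsmul, toMul_zero]; exact hA a.toMul)) v e a b c i hi d hd]
      exact zero_mem _⟩) σ hσ χ
  intro z
  have := hz z
  rw [pow_one] at hu
  simpa [hu] using this

end Cfsg.Agent.J2Mult76P3
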