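import Cfsg.Agent.Lib.SplitVoltageCert

/-!
Certificate data: voltages for the multiplier of J2, part 5.
-/

set_option autoImplicit false
set_option maxRecDepth 100000

namespace Cfsg.Agent.J2Mult76P5Data

open Cfsg.Agent.SplitVoltageCert

/-- table part -/
def nxT_1 : Tr :=
  .nd (.nd (.nd (.lf 0) (.lf 37)) (.nd (.lf 9) (.lf 41))) (.nd (.nd (.lf 4) (.lf 44)) (.nd (.lf 29) (.lf 0)))

/-- table part -/
def nxT_2 : Tr :=
  .nd (.nd (.nd (.lf 6) (.lf 31)) (.nd (.lf 23) (.lf 0))) (.nd (.nd (.lf 11) (.lf 34)) (.nd (.lf 20) (.lf 0)))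

/-- table part -/
def nxT_3 : Tr :=
  .nd (.nd (.nd (.lf 3) (.lf 40)) (.nd (.lf 22) (.lf 0))) (.nd (.nd (.lf 5) (.lf 45)) (.nd (.lf 32) (.lf 0)))

/-- table part -/
def nxT_4 : Tr :=
  .nd (.nd (.nd (.lf 8) (.lf 27)) (.nd (.lf 14) (.lf 0))) (.nd (.nd (.lf 18) (.lf 48)) (.nd (.lf 36) (.lf 0)))

/-- table part -/
def nxT_5 : Tr :=
  .nd (.nd (.nd (.lf 2) (.lf 38)) (.nd (.lf 21) (.lf 49))) (.nd (.nd (.lf 13) (.lf 46)) (.nd (.lf 17) (.lf 0)))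

/-- table part -/
def nxT_6 : Tr :=
  .nd (.nd (.nd (.lf 7) (.lf 26)) (.nd (.lf 25) (.lf 0))) (.nd (.nd (.lf 16) (.lf 47)) (.nd (.lf 19) (.lf 0)))

/-- table part -/
def nxT_7 : Tr :=
  .nd (.nd (.nd (.lf 1) (.lf 39)) (.nd (.lf 24) (.lf 0))) (.nd (.nd (.lf 15) (.lf 35)) (.nd (.lf 33) (.lf 0)))

/-- table part -/
def nxT_8 : Tr :=
  .nd (.nd (.nd (.lf 10) (.lf 43)) (.nd (.lf 28) (.lf 0))) (.nd (.nd (.lf 12) (.lf 42)) (.nd (.lf 30) (.lf 0)))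

/-- table part -/
def nxT_9 : Tr :=
  .nd (.nd (.nd (.lf 1) (.lf 38)) (.nd (.lf 20) (.lf 49))) (.nd (.nd (.lf 12) (.lf 45)) (.nd (.lf 30) (.lf 0)))

/-- table part -/
def nxT_10 : Tr :=
  .nd (.nd (.nd (.lf 2) (.lf 41)) (.nd (.lf 16) (.lf 0))) (.nd (.nd (.lf 8) (.lf 47)) (.nd (.lf 34) (.lf 0)))

/-- table part -/
def nxT_11 : Tr :=
  .nd (.nd (.nd (.lf 4) (.lf 28)) (.nd (.lf 23) (.lf 0))) (.nd (.nd (.lf 14) (.lf 37)) (.nd (.lf 21) (.lf 0)))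

/-- table part -/
def nxT_12 : Tr :=
  .nd (.nd (.nd (.lf 9) (.lf 32)) (.nd (.lf 27) (.lf 0))) (.nd (.nd (.lf 10) (.lf 43)) (.nd (.lf 24) (.lf 0)))

/-- table part -/
def nxT_13 : Tr :=
  .nd (.nd (.nd (.lf 0) (.lf 39)) (.nd (.lf 13) (.lf 48))) (.nd (.nd (.lf 6) (.lf 36)) (.nd (.lf 31) (.lf 0)))

/-- table part -/
def nxT_14 : Tr :=
  .nd (.nd (.nd (.lf 3) (.lf 42)) (.nd (.lf 26) (.lf 0))) (.nd (.nd (.lf 17) (.lf 40)) (.nd (.lf 35) (.lf 0)))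

/-- table part -/
def nxT_15 : Tr :=
  .nd (.nd (.nd (.lf 5) (.lf 29)) (.nd (.lf 15) (.lf 0))) (.nd (.nd (.lf 7) (.lf 46)) (.nd (.lf 22) (.lf 0)))

/-- table part -/
def nxT_16 : Tr :=
  .nd (.nd (.nd (.lf 11) (.lf 33)) (.nd (.lf 18) (.lf 0))) (.nd (.nd (.lf 19) (.lf 44)) (.nd (.lf 25) (.lf 0)))

/-- table -/
def nxT : Tr :=
  .nd (.nd (.nd (.nd nxT_1 nxT_2) (.nd nxT_3 nxT_4)) (.nd (.nd nxT_5 nxT_6) (.nd nxT_7 nxT_8))) (.nd (.nd (.nd nxT_9 nxT_10) (.nd nxT_11 nxT_12)) (.nd (.nd nxT_13 nxT_14) (.nd nxT_15 nxT_16)))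

/-- table part -/
def pvT_1 : Tr :=
  .nd (.nd (.nd (.lf 0) (.lf 26)) (.nd (.lf 13) (.lf 46))) (.nd (.nd (.lf 6) (.lf 34)) (.nd (.lf 19) (.lf 0)))

/-- table part -/
def pvT_2 : Tr :=
  .nd (.nd (.nd (.lf 8) (.lf 30)) (.nd (.lf 28) (.lf 0))) (.nd (.nd (.lf 15) (.lf 40)) (.nd (.lf 23) (.lf 0)))

/-- table part -/
def pvT_3 : Tr :=
  .nd (.nd (.nd (.lf 1) (.lf 44)) (.nd (.lf 14) (.lf 0))) (.nd (.nd (.lf 7) (.lf 47)) (.nd (.lf 37) (.lf 0)))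

/-- table part -/
def pvT_4 : Tr :=
  .nd (.nd (.nd (.lf 4) (.lf 33)) (.nd (.lf 18) (.lf 0))) (.nd (.nd (.lf 22) (.lf 41)) (.nd (.lf 31) (.lf 0)))

/-- table part -/
def pvT_5 : Tr :=
  .nd (.nd (.nd (.lf 3) (.lf 27)) (.nd (.lf 25) (.lf 49))) (.nd (.nd (.lf 16) (.lf 48)) (.nd (.lf 21) (.lf 0)))

/-- table part -/
def pvT_6 : Tr :=
  .nd (.nd (.nd (.lf 10) (.lf 32)) (.nd (.lf 17) (.lf 0))) (.nd (.nd (.lf 9) (.lf 42)) (.nd (.lf 24) (.lf 0)))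

/-- table part -/
def pvT_7 : Tr :=
  .nd (.nd (.nd (.lf 2) (.lf 43)) (.nd (.lf 29) (.lf 0))) (.nd (.nd (.lf 12) (.lf 39)) (.nd (.lf 38) (.lf 0)))

/-- table part -/
def pvT_8 : Tr :=
  .nd (.nd (.nd (.lf 5) (.lf 35)) (.nd (.lf 20) (.lf 0))) (.nd (.nd (.lf 11) (.lf 45)) (.nd (.lf 36) (.lf 0)))

/-- table part -/
def pvT_9 : Tr :=
  .nd (.nd (.nd (.lf 1) (.lf 38)) (.nd (.lf 20) (.lf 49))) (.nd (.nd (.lf 12) (.lf 45)) (.nd (.lf 30) (.lf 0)))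

/-- table part -/
def pvT_10 : Tr :=
  .nd (.nd (.nd (.lf 2) (.lf 41)) (.nd (.lf 16) (.lf 0))) (.nd (.nd (.lf 8) (.lf 47)) (.nd (.lf 34) (.lf 0)))

/-- table part -/
def pvT_11 : Tr :=
  .nd (.nd (.nd (.lf 4) (.lf 28)) (.nd (.lf 23) (.lf 0))) (.nd (.nd (.lf 14) (.lf 37)) (.nd (.lf 21) (.lf 0)))

/-- table part -/
def pvT_12 : Tr :=
  .nd (.nd (.nd (.lf 9) (.lf 32)) (.nd (.lf 27) (.lf 0))) (.nd (.nd (.lf 10) (.lf 43)) (.nd (.lf 24) (.lf 0)))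

/-- table part -/
def pvT_13 : Tr :=
  .nd (.nd (.nd (.lf 0) (.lf 39)) (.nd (.lf 13) (.lf 48))) (.nd (.nd (.lf 6) (.lf 36)) (.nd (.lf 31) (.lf 0)))

/-- table part -/
def pvT_14 : Tr :=
  .nd (.nd (.nd (.lf 3) (.lf 42)) (.nd (.lf 26) (.lf 0))) (.nd (.nd (.lf 17) (.lf 40)) (.nd (.lf 35) (.lf 0)))

/-- table part -/
def pvT_15 : Tr :=
  .nd (.nd (.nd (.lf 5) (.lf 29)) (.nd (.lf 15) (.lf 0))) (.nd (.nd (.lf 7) (.lf 46)) (.nd (.lf 22) (.lf 0)))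

/-- table part -/
def pvT_16 : Tr :=
  .nd (.nd (.nd (.lf 11) (.lf 33)) (.nd (.lf 18) (.lf 0))) (.nd (.nd (.lf 19) (.lf 44)) (.nd (.lf 25) (.lf 0)))

/-- table -/
def pvT : Tr :=
  .nd (.nd (.nd (.nd pvT_1 pvT_2) (.nd pvT_3 pvT_4)) (.nd (.nd pvT_5 pvT_6) (.nd pvT_7 pvT_8))) (.nd (.nd (.nd pvT_9 pvT_10) (.nd pvT_11 pvT_12)) (.nd (.nd pvT_13 pvT_14) (.nd pvT_15 pvT_16)))

/-- table part -/
def parT_1 : Tr :=
  .nd (.nd (.lf 0) (.lf 52)) (.nd (.lf 26) (.lf 92))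

/-- table part -/
def parT_2 : Tr :=
  .nd (.nd (.lf 12) (.lf 68)) (.nd (.lf 38) (.lf 0))

/-- table part -/
def parT_3 : Tr :=
  .nd (.nd (.lf 5) (.lf 60)) (.nd (.lf 33) (.lf 0))

/-- table part -/
def parT_4 : Tr :=
  .nd (.nd (.lf 17) (.lf 80)) (.nd (.lf 46) (.lf 0))

/-- table part -/
def parT_5 : Tr :=
  .nd (.nd (.lf 2) (.lf 57)) (.nd (.lf 28) (.lf 0))

/-- table part -/
def parT_6 : Tr :=
  .nd (.nd (.lf 14) (.lf 75)) (.nd (.lf 43) (.lf 0))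

/-- table part -/
def parT_7 : Tr :=
  .nd (.nd (.lf 8) (.lf 65)) (.nd (.lf 36) (.lf 0))

/-- table part -/
def parT_8 : Tr :=
  .nd (.nd (.lf 21) (.lf 82)) (.nd (.lf 49) (.lf 0))

/-- table part -/
def parT_9 : Tr :=
  .nd (.nd (.lf 1) (.lf 54)) (.nd (.lf 27) (.lf 97))

/-- table part -/
def parT_10 : Tr :=
  .nd (.nd (.lf 13) (.lf 73)) (.nd (.lf 42) (.lf 0))

/-- table part -/
def parT_11 : Tr :=
  .nd (.nd (.lf 7) (.lf 64)) (.nd (.lf 34) (.lf 0))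

/-- table part -/
def parT_12 : Tr :=
  .nd (.nd (.lf 18) (.lf 81)) (.nd (.lf 48) (.lf 0))

/-- table part -/
def parT_13 : Tr :=
  .nd (.nd (.lf 4) (.lf 59)) (.nd (.lf 31) (.lf 0))

/-- table part -/
def parT_14 : Tr :=
  .nd (.nd (.lf 15) (.lf 78)) (.nd (.lf 45) (.lf 0))

/-- table part -/
def parT_15 : Tr :=
  .nd (.nd (.lf 10) (.lf 67)) (.nd (.lf 37) (.lf 0))

/-- table part -/
def parT_16 : Tr :=
  .nd (.nd (.lf 22) (.lf 89)) (.nd (.lf 51) (.lf 0))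

/-- table -/
def parT : Tr :=
  .nd (.nd (.nd (.nd parT_1 parT_2) (.nd parT_3 parT_4)) (.nd (.nd parT_5 parT_6) (.nd parT_7 parT_8))) (.nd (.nd (.nd parT_9 parT_10) (.nd parT_11 parT_12)) (.nd (.nd parT_13 parT_14) (.nd parT_15 parT_16)))

/-- table part -/
def fmT_1 : Tr :=
  .nd (.nd (.nd (.lf 158456325028529801086994743296) (.lf 0)) (.nd (.lf 4722366482869645213696) (.lf 4722366482869645213696))) (.nd (.nd (.lf 4722366482869645213696) (.lf 0)) (.nd (.lf 0) (.lf 0)))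

/-- table part -/
def fmT_2 : Tr :=
  .nd (.nd (.nd (.lf 0) (.lf 237684487542793575730585272320)) (.nd (.lf 158456339195629249695930384384) (.lf 0))) (.nd (.nd (.lf 316912654779423833243821015040) (.lf 4722366482869645213696)) (.nd (.lf 237684501709892742864544202752) (.lf 0)))

/-- table part -/
def fmT_3 : Tr :=
  .nd (.nd (.nd (.lf 0) (.lf 0)) (.nd (.lf 0) (.lf 0))) (.nd (.nd (.lf 4722366482869645213696) (.lf 18889466212953557565440)) (.nd (.lf 0) (.lf 0)))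

/-- table part -/
def fmT_4 : Tr :=
  .nd (.nd (.nd (.lf 0) (.lf 237684506432259507209166127108)) (.nd (.lf 4722366482869645213696) (.lf 0))) (.nd (.nd (.lf 0) (.lf 0)) (.nd (.lf 0) (.lf 0)))

/-- table part -/
def fmT_5 : Tr :=
  .nd (.nd (.nd (.lf 0) (.lf 158456334473262485351308460033)) (.nd (.lf 0) (.lf 79228162514265463493450792963))) (.nd (.nd (.lf 0) (.lf 0)) (.nd (.lf 4722366482869645213696) (.lf 0)))

/-- table part -/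
def fmT_6 : Tr :=
  .nd (.nd (.nd (.lf 0) (.lf 4722366482869645213696)) (.nd (.lf 0) (.lf 0))) (.nd (.nd (.lf 0) (.lf 79228162514265463493450792964)) (.nd (.lf 4722366482869645213696) (.lf 0)))

/-- table part -/
def fmT_7 : Tr :=
  .nd (.nd (.nd (.lf 4722366482869645213696) (.lf 158456343917995451090598887424)) (.nd (.lf 0) (.lf 0))) (.nd (.nd (.lf 0) (.lf 237684496987526541469875699712)) (.nd (.lf 0) (.lf 0)))

/-- table part -/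
def fmT_8 : Tr :=
  .nd (.nd (.nd (.lf 0) (.lf 0)) (.nd (.lf 0) (.lf 0))) (.nd (.nd (.lf 79228162514264337593543950336) (.lf 316912659501790316113466228737)) (.nd (.lf 158456329750896002481663246336) (.lf 0)))

/-- table part -/
def fmT_9 : Tr :=
  .nd (.nd (.nd (.lf 0) (.lf 0)) (.nd (.lf 0) (.lf 0))) (.nd (.nd (.lf 0) (.lf 0)) (.nd (.lf 0) (.lf 0)))

/-- table part -/
def fmT_10 : Tr :=
  .nd (.nd (.nd (.lf 0) (.lf 0)) (.nd (.lf 0) (.lf 0))) (.nd (.nd (.lf 0) (.lf 0)) (.nd (.lf 0) (.lf 0)))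

/-- table part -/
def fmT_11 : Tr :=
  .nd (.nd (.nd (.lf 0) (.lf 0)) (.nd (.lf 0) (.lf 0))) (.nd (.nd (.lf 0) (.lf 0)) (.nd (.lf 0) (.lf 0)))

/-- table part -/
def fmT_12 : Tr :=
  .nd (.nd (.nd (.lf 0) (.lf 0)) (.nd (.lf 0) (.lf 0))) (.nd (.nd (.lf 0) (.lf 316912668946523563327733366788)) (.nd (.lf 0) (.lf 0)))

/-- table part -/
def fmT_13 : Tr :=
  .nd (.nd (.nd (.lf 0) (.lf 0)) (.nd (.lf 0) (.lf 0))) (.nd (.nd (.lf 0) (.lf 0)) (.nd (.lf 0) (.lf 0)))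

/-- table part -/
def fmT_14 : Tr :=
  .nd (.nd (.nd (.lf 0) (.lf 0)) (.nd (.lf 0) (.lf 0))) (.nd (.nd (.lf 0) (.lf 0)) (.nd (.lf 0) (.lf 0)))

/-- table part -/
def fmT_15 : Tr :=
  .nd (.nd (.nd (.lf 0) (.lf 0)) (.nd (.lf 0) (.lf 0))) (.nd (.nd (.lf 0) (.lf 79228167236631946363096006657)) (.nd (.lf 0) (.lf 0)))

/-- table part -/
def fmT_16 : Tr :=
  .nd (.nd (.nd (.lf 0) (.lf 0)) (.nd (.lf 0) (.lf 0))) (.nd (.nd (.lf 0) (.lf 0)) (.nd (.lf 0) (.lf 0)))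

/-- table -/
def fmT : Tr :=
  .nd (.nd (.nd (.nd fmT_1 fmT_2) (.nd fmT_3 fmT_4)) (.nd (.nd fmT_5 fmT_6) (.nd fmT_7 fmT_8))) (.nd (.nd (.nd fmT_9 fmT_10) (.nd fmT_11 fmT_12)) (.nd (.nd fmT_13 fmT_14) (.nd fmT_15 fmT_16)))

/-- table part -/
def rkT_1 : Tr :=
  .nd (.nd (.nd (.lf 38) (.lf 0)) (.nd (.lf 13) (.lf 2))) (.nd (.nd (.lf 15) (.lf 0)) (.nd (.lf 0) (.lf 0)))

/-- table part -/
def rkT_2 : Tr :=
  .nd (.nd (.nd (.lf 0) (.lf 39)) (.nd (.lf 42) (.lf 0))) (.nd (.nd (.lf 37) (.lf 5)) (.nd (.lf 41) (.lf 0)))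

/-- table part -/
def rkT_3 : Tr :=
  .nd (.nd (.nd (.lf 0) (.lf 0)) (.nd (.lf 0) (.lf 0))) (.nd (.nd (.lf 20) (.lf 25)) (.nd (.lf 0) (.lf 0)))

/-- table part -/
def rkT_4 : Tr :=
  .nd (.nd (.nd (.lf 0) (.lf 46)) (.nd (.lf 22) (.lf 0))) (.nd (.nd (.lf 0) (.lf 0)) (.nd (.lf 0) (.lf 0)))

/-- table part -/
def rkT_5 : Tr :=
  .nd (.nd (.nd (.lf 0) (.lf 45)) (.nd (.lf 0) (.lf 51))) (.nd (.nd (.lf 0) (.lf 0)) (.nd (.lf 11) (.lf 0)))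

/-- table part -/
def rkT_6 : Tr :=
  .nd (.nd (.nd (.lf 0) (.lf 9)) (.nd (.lf 0) (.lf 0))) (.nd (.nd (.lf 0) (.lf 50)) (.nd (.lf 33) (.lf 0)))

/-- table part -/
def rkT_7 : Tr :=
  .nd (.nd (.nd (.lf 17) (.lf 44)) (.nd (.lf 0) (.lf 0))) (.nd (.nd (.lf 0) (.lf 43)) (.nd (.lf 0) (.lf 0)))

/-- table part -/
def rkT_8 : Tr :=
  .nd (.nd (.nd (.lf 0) (.lf 0)) (.nd (.lf 0) (.lf 0))) (.nd (.nd (.lf 36) (.lf 49)) (.nd (.lf 40) (.lf 0)))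

/-- table part -/
def rkT_9 : Tr :=
  .nd (.nd (.nd (.lf 0) (.lf 0)) (.nd (.lf 0) (.lf 0))) (.nd (.nd (.lf 0) (.lf 0)) (.nd (.lf 0) (.lf 0)))

/-- table part -/
def rkT_10 : Tr :=
  .nd (.nd (.nd (.lf 16) (.lf 0)) (.nd (.lf 28) (.lf 0))) (.nd (.nd (.lf 27) (.lf 0)) (.nd (.lf 0) (.lf 0)))

/-- table part -/
def rkT_11 : Tr :=
  .nd (.nd (.nd (.lf 0) (.lf 6)) (.nd (.lf 0) (.lf 0))) (.nd (.nd (.lf 0) (.lf 8)) (.nd (.lf 10) (.lf 0)))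

/-- table part -/
def rkT_12 : Tr :=
  .nd (.nd (.nd (.lf 0) (.lf 30)) (.nd (.lf 0) (.lf 0))) (.nd (.nd (.lf 21) (.lf 48)) (.nd (.lf 35) (.lf 0)))

/-- table part -/
def rkT_13 : Tr :=
  .nd (.nd (.nd (.lf 18) (.lf 0)) (.nd (.lf 12) (.lf 1))) (.nd (.nd (.lf 14) (.lf 3)) (.nd (.lf 0) (.lf 0)))

/-- table part -/
def rkT_14 : Tr :=
  .nd (.nd (.nd (.lf 19) (.lf 0)) (.nd (.lf 0) (.lf 0))) (.nd (.nd (.lf 0) (.lf 7)) (.nd (.lf 0) (.lf 0)))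

/-- table part -/
def rkT_15 : Tr :=
  .nd (.nd (.nd (.lf 0) (.lf 32)) (.nd (.lf 34) (.lf 0))) (.nd (.nd (.lf 26) (.lf 47)) (.nd (.lf 23) (.lf 0)))

/-- table part -/
def rkT_16 : Tr :=
  .nd (.nd (.nd (.lf 0) (.lf 31)) (.nd (.lf 24) (.lf 0))) (.nd (.nd (.lf 0) (.lf 4)) (.nd (.lf 29) (.lf 0)))

/-- table -/
def rkT : Tr :=
  .nd (.nd (.nd (.nd rkT_1 rkT_2) (.nd rkT_3 rkT_4)) (.nd (.nd rkT_5 rkT_6) (.nd rkT_7 rkT_8))) (.nd (.nd (.nd rkT_9 rkT_10) (.nd rkT_11 rkT_12)) (.nd (.nd rkT_13 rkT_14) (.nd rkT_15 rkT_16)))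

/-- table part -/
def jsT_1 : Tr :=
  .nd (.nd (.nd (.lf 3790) (.lf 0)) (.nd (.lf 2520) (.lf 2364))) (.nd (.nd (.lf 2460) (.lf 0)) (.nd (.lf 0) (.lf 0)))

/-- table part -/
def jsT_2 : Tr :=
  .nd (.nd (.nd (.lf 0) (.lf 442)) (.nd (.lf 2148) (.lf 0))) (.nd (.nd (.lf 1992) (.lf 2292)) (.nd (.lf 5158) (.lf 0)))

/-- table part -/
def jsT_3 : Tr :=
  .nd (.nd (.nd (.lf 0) (.lf 0)) (.nd (.lf 0) (.lf 0))) (.nd (.nd (.lf 132) (.lf 1594)) (.nd (.lf 0) (.lf 0)))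

/-- table part -/
def jsT_4 : Tr :=
  .nd (.nd (.nd (.lf 0) (.lf 468)) (.nd (.lf 276) (.lf 0))) (.nd (.nd (.lf 0) (.lf 0)) (.nd (.lf 0) (.lf 0)))

/-- table part -/
def jsT_5 : Tr :=
  .nd (.nd (.nd (.lf 0) (.lf 1626)) (.nd (.lf 0) (.lf 14382))) (.nd (.nd (.lf 0) (.lf 0)) (.nd (.lf 2616) (.lf 0)))

/-- table part -/
def jsT_6 : Tr :=
  .nd (.nd (.nd (.lf 0) (.lf 2196)) (.nd (.lf 0) (.lf 0))) (.nd (.nd (.lf 0) (.lf 2976)) (.nd (.lf 2100) (.lf 0)))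

/-- table part -/
def jsT_7 : Tr :=
  .nd (.nd (.nd (.lf 2424) (.lf 2328)) (.nd (.lf 0) (.lf 0))) (.nd (.nd (.lf 0) (.lf 526)) (.nd (.lf 0) (.lf 0)))

/-- table part -/
def jsT_8 : Tr :=
  .nd (.nd (.nd (.lf 0) (.lf 0)) (.nd (.lf 0) (.lf 0))) (.nd (.nd (.lf 1) (.lf 5386)) (.nd (.lf 2244) (.lf 0)))

/-- table part -/
def jsT_9 : Tr :=
  .nd (.nd (.nd (.lf 0) (.lf 0)) (.nd (.lf 0) (.lf 0))) (.nd (.nd (.lf 0) (.lf 0)) (.nd (.lf 0) (.lf 0)))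

/-- table part -/
def jsT_10 : Tr :=
  .nd (.nd (.nd (.lf 708) (.lf 0)) (.nd (.lf 1368) (.lf 0))) (.nd (.nd (.lf 1284) (.lf 0)) (.nd (.lf 0) (.lf 0)))

/-- table part -/
def jsT_11 : Tr :=
  .nd (.nd (.nd (.lf 0) (.lf 1140)) (.nd (.lf 0) (.lf 0))) (.nd (.nd (.lf 0) (.lf 508)) (.nd (.lf 1056) (.lf 0)))

/-- table part -/
def jsT_12 : Tr :=
  .nd (.nd (.nd (.lf 0) (.lf 1524)) (.nd (.lf 0) (.lf 0))) (.nd (.nd (.lf 1296) (.lf 1104)) (.nd (.lf 1440) (.lf 0)))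

/-- table part -/
def jsT_13 : Tr :=
  .nd (.nd (.nd (.lf 648) (.lf 0)) (.nd (.lf 912) (.lf 592))) (.nd (.nd (.lf 804) (.lf 1188)) (.nd (.lf 0) (.lf 0)))

/-- table part -/
def jsT_14 : Tr :=
  .nd (.nd (.nd (.lf 1236) (.lf 0)) (.nd (.lf 0) (.lf 0))) (.nd (.nd (.lf 0) (.lf 1620)) (.nd (.lf 0) (.lf 0)))

/-- table part -/
def jsT_15 : Tr :=
  .nd (.nd (.nd (.lf 0) (.lf 424)) (.nd (.lf 960) (.lf 0))) (.nd (.nd (.lf 1272) (.lf 2134)) (.nd (.lf 1428) (.lf 0)))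

/-- table part -/
def jsT_16 : Tr :=
  .nd (.nd (.nd (.lf 0) (.lf 472)) (.nd (.lf 1380) (.lf 0))) (.nd (.nd (.lf 0) (.lf 568)) (.nd (.lf 1464) (.lf 0)))

/-- table -/
def jsT : Tr :=
  .nd (.nd (.nd (.nd jsT_1 jsT_2) (.nd jsT_3 jsT_4)) (.nd (.nd jsT_5 jsT_6) (.nd jsT_7 jsT_8))) (.nd (.nd (.nd jsT_9 jsT_10) (.nd jsT_11 jsT_12)) (.nd (.nd jsT_13 jsT_14) (.nd jsT_15 jsT_16)))

/-- relations -/
def rels : List (List (ℕ × Bool)) :=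
  [[(0, true), (0, true), (0, true)],
   [(1, true), (1, true)],
   [(0, true), (1, true), (0, true), (1, true), (0, false), (1, true), (0, false), (1, true), (0, false), (1, true), (0, false), (1, true), (0, true), (0, true), (1, false), (0, true), (1, false), (0, true), (1, false), (0, false), (1, false), (0, false), (1, false), (0, false), (1, false)],
   [(0, false), (0, false), (1, true), (1, true), (0, false)],
   [(0, true), (1, true), (0, true), (1, true), (0, false), (1, true), (0, false), (1, true), (0, false), (1, true), (0, true), (1, false), (0, false), (1, false), (0, true), (1, false), (0, true), (1, false), (0, true), (1, false), (0, true)],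
   [(0, true), (1, true), (1, true), (0, true), (0, true)]]

/-- parameter edges -/
def pe : List ℕ := [30]

/-- elimination -/
def fin : List (List (ℕ × ℕ × ℕ)) :=
  [[(0, 1, 4), (0, 49, 4), (2, 0, 4)],
   [(0, 0, 4), (3, 0, 4)],
   [(0, 0, 2), (0, 1, 4), (2, 0, 4)],
   [(0, 1, 1)],
   [(0, 0, 2), (0, 1, 2), (2, 0, 2)]]

/-- the certificate -/
def cert : Cert :=
  ⟨5, 2, 50, 2, 5, rels, nxT, pvT, parT, fmT, rkT, jsT, pe, fin⟩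

/-- table part -/
def keyT_1 : Tr :=
  .nd (.nd (.lf 240283) (.lf 455225)) (.nd (.lf 526477) (.lf 308924))

/-- table part -/
def keyT_2 : Tr :=
  .nd (.nd (.lf 422518) (.lf 173598)) (.nd (.lf 324216) (.lf 0))

/-- table part -/
def keyT_3 : Tr :=
  .nd (.nd (.lf 106006) (.lf 70086)) (.nd (.lf 350556) (.lf 0))

/-- table part -/
def keyT_4 : Tr :=
  .nd (.nd (.lf 325408) (.lf 517183)) (.nd (.lf 32944) (.lf 0))

/-- table part -/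
def keyT_5 : Tr :=
  .nd (.nd (.lf 430120) (.lf 476356)) (.nd (.lf 76897) (.lf 0))

/-- table part -/
def keyT_6 : Tr :=
  .nd (.nd (.lf 277804) (.lf 376723)) (.nd (.lf 163036) (.lf 0))

/-- table part -/
def keyT_7 : Tr :=
  .nd (.nd (.lf 475275) (.lf 26888)) (.nd (.lf 600277) (.lf 0))

/-- table part -/
def keyT_8 : Tr :=
  .nd (.nd (.lf 538115) (.lf 172303)) (.nd (.lf 425774) (.lf 0))

/-- table part -/
def keyT_9 : Tr :=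
  .nd (.nd (.lf 438048) (.lf 540950)) (.nd (.lf 196445) (.lf 297958))

/-- table part -/
def keyT_10 : Tr :=
  .nd (.nd (.lf 217035) (.lf 498009)) (.nd (.lf 561963) (.lf 0))

/-- table part -/
def keyT_11 : Tr :=
  .nd (.nd (.lf 301100) (.lf 452324)) (.nd (.lf 222061) (.lf 0))

/-- table part -/
def keyT_12 : Tr :=
  .nd (.nd (.lf 396125) (.lf 403708)) (.nd (.lf 265764) (.lf 0))

/-- table part -/
def keyT_13 : Tr :=
  .nd (.nd (.lf 144708) (.lf 502246)) (.nd (.lf 493426) (.lf 0))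

/-- table part -/
def keyT_14 : Tr :=
  .nd (.nd (.lf 267680) (.lf 442646)) (.nd (.lf 589625) (.lf 0))

/-- table part -/
def keyT_15 : Tr :=
  .nd (.nd (.lf 514285) (.lf 541672)) (.nd (.lf 96457) (.lf 0))

/-- table part -/
def keyT_16 : Tr :=
  .nd (.nd (.lf 227875) (.lf 567494)) (.nd (.lf 490178) (.lf 0))

/-- table -/
def keyT : Tr :=
  .nd (.nd (.nd (.nd keyT_1 keyT_2) (.nd keyT_3 keyT_4)) (.nd (.nd keyT_5 keyT_6) (.nd keyT_7 keyT_8))) (.nd (.nd (.nd keyT_9 keyT_10) (.nd keyT_11 keyT_12)) (.nd (.nd keyT_13 keyT_14) (.nd keyT_15 keyT_16)))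

/-- table part -/
def posT_1 : Tr :=
  .nd (.nd (.lf 14) (.lf 33)) (.nd (.lf 42) (.lf 20))

/-- table part -/
def posT_2 : Tr :=
  .nd (.nd (.lf 27) (.lf 9)) (.nd (.lf 21) (.lf 0))

/-- table part -/
def posT_3 : Tr :=
  .nd (.nd (.lf 5) (.lf 2)) (.nd (.lf 23) (.lf 0))

/-- table part -/
def posT_4 : Tr :=
  .nd (.nd (.lf 22) (.lf 41)) (.nd (.lf 1) (.lf 0))

/-- table part -/
def posT_5 : Tr :=
  .nd (.nd (.lf 29) (.lf 35)) (.nd (.lf 3) (.lf 0))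

/-- table part -/
def posT_6 : Tr :=
  .nd (.nd (.lf 17) (.lf 24)) (.nd (.lf 7) (.lf 0))

/-- table part -/
def posT_7 : Tr :=
  .nd (.nd (.lf 34) (.lf 0)) (.nd (.lf 49) (.lf 0))

/-- table part -/
def posT_8 : Tr :=
  .nd (.nd (.lf 43) (.lf 8)) (.nd (.lf 28) (.lf 0))

/-- table part -/
def posT_9 : Tr :=
  .nd (.nd (.lf 30) (.lf 44)) (.nd (.lf 10) (.lf 18))

/-- table part -/
def posT_10 : Tr :=
  .nd (.nd (.lf 11) (.lf 38)) (.nd (.lf 46) (.lf 0))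

/-- table part -/
def posT_11 : Tr :=
  .nd (.nd (.lf 19) (.lf 32)) (.nd (.lf 12) (.lf 0))

/-- table part -/
def posT_12 : Tr :=
  .nd (.nd (.lf 25) (.lf 26)) (.nd (.lf 15) (.lf 0))

/-- table part -/
def posT_13 : Tr :=
  .nd (.nd (.lf 6) (.lf 39)) (.nd (.lf 37) (.lf 0))

/-- table part -/
def posT_14 : Tr :=
  .nd (.nd (.lf 16) (.lf 31)) (.nd (.lf 48) (.lf 0))

/-- table part -/
def posT_15 : Tr :=
  .nd (.nd (.lf 40) (.lf 45)) (.nd (.lf 4) (.lf 0))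

/-- table part -/
def posT_16 : Tr :=
  .nd (.nd (.lf 13) (.lf 47)) (.nd (.lf 36) (.lf 0))

/-- table -/
def posT : Tr :=
  .nd (.nd (.nd (.nd posT_1 posT_2) (.nd posT_3 posT_4)) (.nd (.nd posT_5 posT_6) (.nd posT_7 posT_8))) (.nd (.nd (.nd posT_9 posT_10) (.nd posT_11 posT_12)) (.nd (.nd posT_13 posT_14) (.nd posT_15 posT_16)))

/-- table part -/
def srtT_1 : Tr :=
  .nd (.nd (.lf 38) (.lf 37)) (.nd (.lf 11) (.lf 27))

/-- table part -/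
def srtT_2 : Tr :=
  .nd (.nd (.lf 46) (.lf 7)) (.nd (.lf 42) (.lf 0))

/-- table part -/
def srtT_3 : Tr :=
  .nd (.nd (.lf 23) (.lf 31)) (.nd (.lf 48) (.lf 0))

/-- table part -/
def srtT_4 : Tr :=
  .nd (.nd (.lf 21) (.lf 33)) (.nd (.lf 30) (.lf 0))

/-- table part -/
def srtT_5 : Tr :=
  .nd (.nd (.lf 36) (.lf 6)) (.nd (.lf 49) (.lf 0))

/-- table part -/
def srtT_6 : Tr :=
  .nd (.nd (.lf 17) (.lf 16)) (.nd (.lf 45) (.lf 0))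

/-- table part -/
def srtT_7 : Tr :=
  .nd (.nd (.lf 3) (.lf 41)) (.nd (.lf 12) (.lf 0))

/-- table part -/
def srtT_8 : Tr :=
  .nd (.nd (.lf 0) (.lf 25)) (.nd (.lf 1) (.lf 0))

/-- table part -/
def srtT_9 : Tr :=
  .nd (.nd (.lf 28) (.lf 32)) (.nd (.lf 10) (.lf 22))

/-- table part -/
def srtT_10 : Tr :=
  .nd (.nd (.lf 40) (.lf 44)) (.nd (.lf 13) (.lf 0))

/-- table part -/
def srtT_11 : Tr :=
  .nd (.nd (.lf 4) (.lf 19)) (.nd (.lf 24) (.lf 0))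

/-- table part -/
def srtT_12 : Tr :=
  .nd (.nd (.lf 15) (.lf 39)) (.nd (.lf 2) (.lf 0))

/-- table part -/
def srtT_13 : Tr :=
  .nd (.nd (.lf 18) (.lf 34)) (.nd (.lf 5) (.lf 0))

/-- table part -/
def srtT_14 : Tr :=
  .nd (.nd (.lf 9) (.lf 14)) (.nd (.lf 8) (.lf 0))

/-- table part -/
def srtT_15 : Tr :=
  .nd (.nd (.lf 26) (.lf 35)) (.nd (.lf 20) (.lf 0))

/-- table part -/
def srtT_16 : Tr :=
  .nd (.nd (.lf 29) (.lf 47)) (.nd (.lf 43) (.lf 0))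

/-- table -/
def srtT : Tr :=
  .nd (.nd (.nd (.nd srtT_1 srtT_2) (.nd srtT_3 srtT_4)) (.nd (.nd srtT_5 srtT_6) (.nd srtT_7 srtT_8))) (.nd (.nd (.nd srtT_9 srtT_10) (.nd srtT_11 srtT_12)) (.nd (.nd srtT_13 srtT_14) (.nd srtT_15 srtT_16)))

/-- coordinates of the generators -/
def gensX : List (ℕ × ℕ × ℕ) := [(125, 23, 7), (87, 50, 5)]

/-- their orders -/
def ords : List ℕ := [3, 2]

/-- coordinates of their inverses -/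
def invsX : List (ℕ × ℕ × ℕ) := [(155, 29, 10), (87, 50, 5)]

end Cfsg.Agent.J2Mult76P5Data
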