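import Cfsg.Agent.Lib.J2Mult76Bound
import Cfsg.Agent.Lib.J2Mult76P5Data

/-!
Checks of the certificate for the multiplier of J2, part P5.
-/

set_option autoImplicit false
set_option maxRecDepth 100000

namespace Cfsg.Agent.J2Mult76P5

open Cfsg.Agent.SplitVoltageCert Cfsg.Agent.J2Mult76Bound Cfsg.Agent.J2Mult76P5Data
  Cfsg.Agent.J2ChainDefs Cfsg.Agent.J2Group Cfsg.Agent.J2Out76 Cfsg.Agent.J2OutData76

theorem cert_core : cert.Core where
  hm := by decide +kernel
  hn := by decide +kernel
  hN := by decide +kernel
  hnpow := by decide +kernel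
  hK := by decide +kernel
  table := by decide +kernel
  tree := by decide +kernel
  rel := by decide +kernel
  edge := by decide +kernel

theorem gens_check : gensOK cert gensX invsX ords = true := by decide +kernel

theorem inj_check : injOK cert.N keyT posT srtT = true := by decide +kernel

theorem cert_ok : cert.OK where
  toCore := cert_core
  fin := by decide +kernel

/-- elements under conjugation -/
structure Cj where
  /-- the element -/
  val : lineGroup

noncomputable instance instCjAct : MulAction lineGroup Cj where
  smul g a := ⟨g * a.val * g⁻¹⟩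
  one_smul a := by
    show Cj.mk _ = a
    simp
  mul_smul g h a := by
    show Cj.mk _ = Cj.mk _
    refine congrArg Cj.mk ?_
    show g * h * a.val * (g * h)⁻¹ = g * (h * a.val * h⁻¹) * g⁻¹
    group

/-- coordinates of a key -/
noncomputable def dec (c : ℕ) : ℕ × ℕ × ℕ := (get keyT c / 12 / 160, get keyT c / 12 % 160, get keyT c % 12)

/-- the objects -/
noncomputable def obj (c : ℕ) : Cj := ⟨elt (dec c)⟩

/-- the action check -/
noncomputable def actOK : Bool :=
  (List.range cert.N).all fun c => (List.range cert.n).all fun i =>
    baseEq (fun j => eltF (gensX.getD i (0, 0, 0)) (eltF (dec c) j))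
      (fun j => eltF (dec (cert.nxF i c)) (eltF (gensX.getD i (0, 0, 0)) j))

theorem act_check : actOK = true := by decide +kernel

/-- the check of distinct objects -/
noncomputable def distOK : Bool :=
  (List.range cert.N).all fun c => (List.range cert.N).all fun d =>
    Nat.beq c d || !baseEq (eltF (dec c)) (eltF (dec d))

theorem dist_check : distOK = true := by decide +kernel

theorem obj_inj : ∀ c < cert.N, ∀ d < cert.N, obj c = obj d → c = d := by
  intro c hc d hd e
  have e' : elt (dec c) = elt (dec d) := congrArg Cj.val e
  have h := List.all_eq_true.1 (List.all_eq_true.1 dist_check c (List.mem_range.2 hc)) d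
    (List.mem_range.2 hd)
  simp only [Bool.or_eq_true, Bool.not_eq_true'] at h
  rcases h with h | h
  · exact Nat.eq_of_beq_eq_true h
  · exact absurd (h.symm.trans (baseEq_of_eq (elt_rep _) (e' ▸ elt_rep (dec d)))) Bool.false_ne_true

theorem obj_act : ∀ i < cert.n, ∀ c < cert.N, gensF gensX i • obj c = obj (cert.nxF i c) := by
  intro i hi c hc
  have h := List.all_eq_true.1 (List.all_eq_true.1 act_check c (List.mem_range.2 hc)) i
    (List.mem_range.2 hi)
  show Cj.mk _ = Cj.mk _
  congr 1
  show gensF gensX i * elt (dec c) * (gensF gensX i)⁻¹ = elt (dec (cert.nxF i c))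
  rw [mul_inv_eq_iff_eq_mul]
  exact eq_of_base (repF_mul (elt_rep _) (elt_rep _)) (repF_mul (elt_rep _) (elt_rep _)) h

/-- Characters of the kernel of a stem extension with values killed by five are trivial. -/
theorem bound {Γ : Type} [Group Γ] [Finite Γ] (σ : Γ →* lineGroup) (hσ : Cfsg.IsStemExtension σ)
    {A : Type} [CommGroup A] (hA : ∀ a : A, a ^ 5 = 1) (χ : σ.ker →* A) :
    ∀ z : σ.ker, χ z = 1 := by
  obtain ⟨h1, h2⟩ := gens_spec cert cert_core rfl gensX invsX ords gens_check
  obtain ⟨u, hu, hz⟩ := bound_sub cert cert_core rfl (gensF gensX) ords h1 h2 obj obj_inj obj_act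
    (by rw [J2Chain.card_lineGroup]; decide +kernel) hA 1
    (fun v e a b c => ⟨0, by simp, fun i hi d hd => by
      rw [Cert.solution_zero cert_ok (A := Additive A)
        (fun a => Additive.toMul.injective (by rw [toMul_nsmul, toMul_zero]; exact hA a.toMul)) v e a b c i hi d hd]
      exact zero_mem _⟩) σ hσ χ
  intro z
  have := hz z
  rw [pow_one] at hu
  simpa [hu] using this

end Cfsg.Agent.J2Mult76P5
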