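import Cfsg.Agent.Lib.J2Mult76P2
import Cfsg.Agent.Lib.J2Mult76P3
import Cfsg.Agent.Lib.J2Mult76P5
import Cfsg.Agent.Lib.J2Mult76Cover

/-!
The multiplier of J2 has order two.
-/

set_option autoImplicit false

namespace Cfsg.Agent.J2Mult76

open Cfsg Cfsg.Agent.J2Group Cfsg.Agent.J2Chain Cfsg.Agent.SplitVoltage

theorem eq_two_of_dvd_ker {Γ : Type} [Group Γ] [Finite Γ] {σ : Γ →* lineGroup}
    (hσ : Cfsg.IsStemExtension σ) {p : ℕ} (hp : p.Prime) (hd : p ∣ Nat.card σ.ker) : p = 2 := by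
  haveI := Fact.mk hp
  haveI : Finite lineGroup := inferInstance
  obtain ⟨M, hM⟩ := trivial_multiplier.exists_index_eq_prime hσ.2.1 hd
  haveI : M.Normal := by
    constructor
    intro a ha g
    have : g * a = a * g := Subtype.ext (Subgroup.mem_center_iff.1 (hσ.2.1 a.2) g)
    rwa [this, mul_inv_cancel_right]
  have hcard : Nat.card (σ.ker ⧸ M) = p := hM
  haveI : IsCyclic (σ.ker ⧸ M) := isCyclic_of_prime_card hcard
  have hfalse : ∀ (A : Type) [CommGroup A] (χ : σ.ker →* A), χ.ker = M → (∀ z, χ z = 1) → False := by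
    intro A _ χ hk hz
    have : M = ⊤ := by
      rw [← hk, eq_top_iff]
      exact fun z _ => hz z
    rw [this, Subgroup.index_top] at hM
    exact hp.one_lt.ne hM
  let e : σ.ker ⧸ M ≃* Multiplicative (ZMod p) := mulEquivOfCyclicCardEq (by simp [hcard])
  let χ : σ.ker →* Multiplicative (ZMod p) := e.toMonoidHom.comp (QuotientGroup.mk' M)
  have hk : χ.ker = M := by
    ext z
    simp [χ, MonoidHom.mem_ker]
  have hA : ∀ a : Multiplicative (ZMod p), a ^ p = 1 := fun a =>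
    Multiplicative.toAdd.injective (by simp)
  by_contra h2
  by_cases h3 : p = 3
  · subst h3; exact hfalse _ χ hk (J2Mult76P3.bound σ hσ hA χ)
  by_cases h5 : p = 5
  · subst h5; exact hfalse _ χ hk (J2Mult76P5.bound σ hσ hA χ)
  obtain ⟨z, hz⟩ := exists_prime_orderOf_dvd_card' (G := σ.ker) p hd
  have hzo : orderOf (z : Γ) = p := (Subgroup.orderOf_coe z).trans hz
  by_cases hdvd : p ∣ Nat.card lineGroup
  · have h7 : p = 7 := by
      rw [card_lineGroup, show (604800 : ℕ) = 2 ^ 7 * 3 ^ 3 * 5 ^ 2 * 7 by norm_num,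
        hp.dvd_mul, hp.dvd_mul, hp.dvd_mul] at hdvd
      have hq : ∀ q k : ℕ, q.Prime → p ∣ q ^ k → p = q := fun q k hq h =>
        (Nat.prime_dvd_prime_iff_eq hp hq).1 (hp.dvd_of_dvd_pow h)
      rcases hdvd with ((h | h) | h) | h
      · exact absurd (hq 2 7 Nat.prime_two h) h2
      · exact absurd (hq 3 3 Nat.prime_three h) h3
      · exact absurd (hq 5 2 Nat.prime_five h) h5
      · exact (Nat.prime_dvd_prime_iff_eq hp (by norm_num)).1 h
    obtain ⟨a, ha⟩ := exists_prime_orderOf_dvd_card' (G := lineGroup) p hdvd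
    have hidx : (Subgroup.zpowers a).index = 86400 := by
      have := (Subgroup.zpowers a).card_mul_index
      rw [Nat.card_zpowers, ha, card_lineGroup, h7] at this
      omega
    have h1 := StemBasic.eq_one_of_kerFree hσ (StemBasic.kerFree_zpowers σ hσ.2.1 a) z.2
      (by rw [hzo, hidx, h7]; norm_num)
    rw [h1, orderOf_one] at hzo
    exact hp.one_lt.ne hzo
  · obtain ⟨ψ, hψ⟩ := censplit_of_coprime ((Nat.Coprime.symm) ((hp.coprime_iff_not_dvd).2 hdvd))
      Γ σ hσ.1 hσ.2.1 χ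
    exact hfalse _ χ hk fun w => by rw [← hψ w, eq_one_of_mem_commutator ψ (hσ.2.2 w.2)]

theorem exists_onto {Γ : Type} [Group Γ] [Finite Γ] {σ : Γ →* lineGroup}
    (hσ : Cfsg.IsStemExtension σ) :
    ∃ π : Multiplicative (ZMod 2) →* σ.ker, Function.Surjective π := by
  letI : CommGroup σ.ker :=
    { (inferInstance : Group σ.ker) with
      mul_comm := fun a b => Subtype.ext (Subgroup.mem_center_iff.1 (hσ.2.1 b.2) a) }
  let f : σ.ker →* σ.ker := powMonoidHom 4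
  obtain ⟨u, hu, hmem⟩ := J2Mult76P2.bound σ hσ
    (A := σ.ker ⧸ f.range) (fun a => by
      obtain ⟨y, rfl⟩ := QuotientGroup.mk_surjective a
      rw [← QuotientGroup.mk_pow, QuotientGroup.eq_one_iff]
      exact ⟨y, rfl⟩) (QuotientGroup.mk' f.range)
  obtain ⟨w, rfl⟩ := QuotientGroup.mk_surjective u
  have hgen : ∀ k : ℕ, ∀ z : σ.ker, ∃ (j : ℤ) (y : σ.ker), z = w ^ j * y ^ (4 ^ k) := by
    intro k
    induction k with
    | zero => exact fun z => ⟨0, z, by simp⟩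
    | succ k ih =>
      intro z
      obtain ⟨j, y, rfl⟩ := ih z
      obtain ⟨i, hi⟩ := Subgroup.mem_zpowers_iff.1 (hmem y)
      obtain ⟨y', hy'⟩ := (QuotientGroup.eq (s := f.range)).1
        (by rw [QuotientGroup.mk_zpow]; exact hi : (QuotientGroup.mk (w ^ i) : σ.ker ⧸ f.range) = QuotientGroup.mk y)
      rw [eq_inv_mul_iff_mul_eq] at hy'
      refine ⟨j + i * (4 ^ k : ℕ), y', ?_⟩
      rw [← hy', mul_pow, zpow_add, zpow_mul, zpow_natCast, mul_assoc, pow_succ', pow_mul]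
      rfl
  obtain ⟨n, hn⟩ : ∃ n, Nat.card σ.ker = 2 ^ n :=
    ⟨_, Nat.eq_prime_pow_of_unique_prime_dvd Nat.card_pos.ne'
      (fun hd hdvd => eq_two_of_dvd_ker hσ hd hdvd)⟩
  have hall : ∀ z : σ.ker, ∃ j : ℤ, z = w ^ j := by
    intro z
    obtain ⟨j, y, hy⟩ := hgen n z
    refine ⟨j, ?_⟩
    have h1 : y ^ (4 ^ n) = 1 := orderOf_dvd_iff_pow_eq_one.1
      ((orderOf_dvd_natCard y).trans (hn ▸ pow_dvd_pow_of_dvd (by norm_num) n))
    rw [hy, h1, mul_one]
  have hw2 : w ^ 2 = 1 := by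
    rw [← QuotientGroup.mk_pow, QuotientGroup.eq_one_iff] at hu
    obtain ⟨y, hy⟩ := hu
    obtain ⟨j, rfl⟩ := hall y
    have h4 : (w ^ j) ^ 4 = w ^ 2 := hy
    rw [← zpow_natCast (w ^ j), ← zpow_mul, ← zpow_natCast w 2, zpow_eq_zpow_iff_modEq] at h4
    have hd : ((orderOf w : ℕ) : ℤ) ∣ (2 : ℤ) - j * 4 := by simpa using h4.dvd
    obtain ⟨k, -, hk⟩ := (Nat.dvd_prime_pow Nat.prime_two).1 (hn ▸ orderOf_dvd_natCard w)
    apply orderOf_dvd_iff_pow_eq_one.1
    rcases Nat.lt_or_ge k 2 with hk2 | hk2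
    · rw [hk]; interval_cases k <;> norm_num
    · exfalso
      have : ((4 : ℕ) : ℤ) ∣ (orderOf w : ℤ) := by
        rw [hk]; exact_mod_cast (pow_dvd_pow 2 hk2)
      have := this.trans hd
      omega
  let a : {f : ℤ →+ Additive σ.ker // f 2 = 0} :=
    ⟨zmultiplesHom _ (Additive.ofMul w), by simp [← ofMul_zpow, ← ofMul_pow, zpow_ofNat, hw2]⟩
  refine ⟨AddMonoidHom.toMultiplicativeLeft (ZMod.lift 2 a), fun z => ?_⟩
  obtain ⟨j, rfl⟩ := hall z
  refine ⟨Multiplicative.ofAdd ((j : ℤ) : ZMod 2), ?_⟩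
  show Additive.toMul (ZMod.lift 2 a ((j : ℤ) : ZMod 2)) = w ^ j
  rw [ZMod.lift_coe]
  simp [a]

/-- The multiplier of J2 is cyclic of order two. -/
theorem multiplier_J2 : Cfsg.HasCyclicSchurMultiplier Cfsg.Spor.J2 2 := by
  refine ⟨J2Mult76Cover.cover, fun Γ _ _ σ hσ => ?_⟩
  let σ' : Γ →* lineGroup := toLineGroup.toMonoidHom.comp σ
  have hk : σ'.ker = σ.ker := by
    ext x
    simp [σ', MonoidHom.mem_ker]
  obtain ⟨π, hπ⟩ := exists_onto (σ := σ')
    ⟨toLineGroup.surjective.comp hσ.1, hk ▸ hσ.2.1, hk ▸ hσ.2.2⟩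
  exact ⟨(MulEquiv.subgroupCongr hk).toMonoidHom.comp π, (MulEquiv.subgroupCongr hk).surjective.comp hπ⟩

end Cfsg.Agent.J2Mult76
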