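import Cfsg.Agent.Lib.J2Spectrum

set_option autoImplicit false
set_option maxRecDepth 100000

/-! `J2` is simple and not abelian. -/

namespace Cfsg.Agent.J2Simple

open Cfsg.Agent.J2ChainDefs Cfsg.Agent.J2ChainData Cfsg.Agent.J2OrderData Cfsg.Agent.J2OrderDefs
  Cfsg.Agent.J2Lines Cfsg.Agent.J2Group Cfsg.Agent.J2Chain Cfsg.Agent.J2Spectrum

/-- The reflection in a line as a permutation of the lines. -/
noncomputable def lineRefl (k : Fin 315) : Equiv.Perm (Fin 315) := toLines ⟨refl k, refl_mem k⟩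

lemma lineRefl_mem (k : Fin 315) : lineRefl k ∈ lineGroup := range_toLines ▸ ⟨_, rfl⟩

lemma toLines_eq {g : Cfsg.Spor.twoJ2} {σ : Equiv.Perm (Fin 315)} (h : Compat g σ) : toLines g = σ :=
  Equiv.ext fun k => refl_injective (by rw [← toLines_spec g k, h k])

/-- Conjugation permutes the reflections as the lines. -/
theorem lineRefl_conj {σ : Equiv.Perm (Fin 315)} (hσ : σ ∈ lineGroup) (k : Fin 315) :
    σ * lineRefl k * σ⁻¹ = lineRefl (σ k) := by
  obtain ⟨g, hg, hc⟩ := exists_lift hσ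
  have hg' : g ∈ Cfsg.Spor.twoJ2 := gens_eq ▸ hg
  have hσ' : toLines ⟨g, hg'⟩ = σ := toLines_eq hc
  rw [← hσ', lineRefl, lineRefl, ← map_inv, ← map_mul, ← map_mul]
  exact congrArg toLines (Subtype.ext (by rw [hσ']; exact hc k))

lemma lineRefl_gfin (i : Fin 4) : lineRefl (gfin i) = gperm i := toLines_refl i

lemma gfin_zero : gfin 0 = 0 := Fin.ext rfl

lemma lineRefl_zero : lineRefl 0 = gperm 0 := by rw [← gfin_zero]; exact lineRefl_gfin 0

lemma gperm_mul_self (g : Fin 4) : gperm g * gperm g = 1 :=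
  Equiv.ext fun k => Fin.ext (gen_root g.2 k.2).2.1

lemma lineRefl_mul_self (k : Fin 315) : lineRefl k * lineRefl k = 1 := by
  rw [lineRefl, ← map_mul]
  convert map_one toLines
  exact Subtype.ext (refl_mul_self k)

/-- The suborbit of a point. -/
def subOf (y : ℕ) : ℕ := (suborbitWord >>> (16 * y)) % 65536 / 4096

/-- The tree check for one orbital graph. -/
def treeOK (k : ℕ) : Bool :=
  let t := orbitalTrees.getD (k - 1) (0, 0)
  (List.range 315).all fun y => Nat.beq y 0 ||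
    (let e := (t.1 >>> (18 * y)) % 262144
     Nat.blt (e / 512) 315 && Nat.blt (e % 512) 315 && Nat.beq (subOf (e % 512)) k &&
       Nat.beq (at9 (t1 (e / 512)) (e % 512)) y &&
       Nat.blt ((t.2 >>> (9 * (e / 512))) % 512) ((t.2 >>> (9 * y)) % 512))

theorem trees_ok : treeOK 1 = true ∧ treeOK 2 = true ∧ treeOK 3 = true ∧ treeOK 4 = true ∧ treeOK 5 = true := by
  decide +kernel

theorem srep_zero : srep 0 = 0 := by decide +kernel

/-- Points in one suborbit are in one orbit of the stabiliser. -/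
theorem exists_move_of_subOf {k : Fin 6} (z : Fin 315) (hz : subOf z = k) : ∃ h ∈ stab0, h (sfin k) = z := by
  have h := List.all_eq_true.mp move_ok z (List.mem_range.mpr z.2)
  simp only [moveOK, Bool.and_eq_true, Nat.blt_eq] at h
  obtain ⟨⟨⟨hk, ha⟩, hb⟩, he⟩ := h
  refine ⟨A ⟨_, ha⟩ * B ⟨_, hb⟩, mul_mem (A_mem _) (B_mem _), Fin.ext ?_⟩
  rw [Equiv.Perm.mul_apply, A_rep, B_rep]
  have hz' : (suborbitWord >>> (16 * z.val)) % 65536 / 4096 = k.val := hz
  have := Nat.eq_of_beq_eq_true he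
  rw [hz'] at this
  exact this

theorem odd_word : ∀ p ∈ [(0 : Fin 315), 106, 1],
    ((gperm 3 * gperm 1 * gperm 0 * gperm 2 * gperm 0) ^ 3) p = p := by
  decide +kernel

theorem odd_relation : (gperm 3 * gperm 1 * gperm 0 * gperm 2 * gperm 0) ^ 3 = 1 := by
  refine eq_one_of_fix (pow_mem ?_ 3) (odd_word 0 (by simp)) (odd_word 106 (by simp)) (odd_word 1 (by simp))
  exact mul_mem (mul_mem (mul_mem (mul_mem (gperm_mem _) (gperm_mem _)) (gperm_mem _)) (gperm_mem _)) (gperm_mem _)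

theorem not_comm : ∃ p : Fin 315, gperm 0 (gperm 1 p) ≠ gperm 1 (gperm 0 p) := by decide +kernel

/-- A normal subgroup of the permutation group of lines is trivial or everything. -/
theorem normal_cases (N : Subgroup lineGroup) (hN : N.Normal) : N = ⊥ ∨ N = ⊤ := by
  rcases N.bot_or_exists_ne_one with h | ⟨⟨σ, hσ⟩, hσN, hσ1⟩
  · exact Or.inl h
  refine Or.inr ?_
  let R : Fin 315 → lineGroup := fun k => ⟨lineRefl k, lineRefl_mem k⟩
  have hconj : ∀ (u : lineGroup) k, u * R k * u⁻¹ = R (u.1 k) := fun u k => Subtype.ext (lineRefl_conj u.2 k)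
  have hsq : ∀ k, R k * R k = 1 := fun k => Subtype.ext (lineRefl_mul_self k)
  have hinv : ∀ k, (R k)⁻¹ = R k := fun k => inv_eq_of_mul_eq_one_right (hsq k)
  -- a moved point
  obtain ⟨a, ha⟩ : ∃ a, σ a ≠ a := by
    by_contra h
    push Not at h
    exact hσ1 (Subtype.ext (Equiv.ext h))
  obtain ⟨τ, hτ, hτ0⟩ := lineGroup_transitive a
  set u : lineGroup := ⟨τ, hτ⟩⁻¹ * ⟨σ, hσ⟩ * ⟨τ, hτ⟩ with hu
  have huN : u ∈ N := by simpa [hu] using hN.conj_mem _ hσN ⟨τ, hτ⟩⁻¹
  have hu0 : u.1 0 ≠ 0 := by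
    show (τ⁻¹ * σ * τ) 0 ≠ 0
    simp only [Equiv.Perm.mul_apply, hτ0]
    rw [ne_eq, Equiv.Perm.inv_eq_iff_eq, hτ0]
    exact ha
  have h1 : R (u.1 0) * R 0 ∈ N := by
    have h := N.mul_mem huN (hN.conj_mem _ (N.inv_mem huN) (R 0))
    rw [hinv 0] at h
    rw [← hconj u 0]
    simpa [mul_assoc] using h
  obtain ⟨k, h, hh, hk⟩ := exists_move (u.1 0)
  have hk0 : (k : ℕ) ≠ 0 := by
    intro e
    refine hu0 ?_
    have : sfin k = 0 := Fin.ext (by show srep k = 0; rw [e, srep_zero])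
    rw [← hk, this, stab0_fix hh]
  -- closure under one suborbit
  have hsub : ∀ z : Fin 315, subOf z = k → R z * R 0 ∈ N := by
    intro z hz
    obtain ⟨g, hg, hgz⟩ := exists_move_of_subOf z hz
    set v : lineGroup := ⟨g, stab0_le hg⟩ * (⟨h, stab0_le hh⟩ : lineGroup)⁻¹ with hv
    have hvz : v.1 (u.1 0) = z := by
      show (g * h⁻¹) (u.1 0) = z
      rw [← hk, Equiv.Perm.mul_apply, Equiv.Perm.inv_def, Equiv.symm_apply_apply, hgz]
    have hv0 : v.1 0 = 0 := by
      show (g * h⁻¹) 0 = 0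
      rw [Equiv.Perm.mul_apply, show h⁻¹ 0 = 0 from by rw [Equiv.Perm.inv_eq_iff_eq, stab0_fix hh], stab0_fix hg]
    have := hN.conj_mem _ h1 v
    rwa [← conj_mul, hconj, hconj, hvz, hv0] at this
  -- all products with the first reflection
  have hall : ∀ y : Fin 315, R y * R 0 ∈ N := by
    have ht : treeOK k = true := by
      obtain ⟨e1, e2, e3, e4, e5⟩ := trees_ok
      obtain ⟨k, hk6⟩ := k
      interval_cases k
      exacts [absurd rfl hk0, e1, e2, e3, e4, e5]
    have key : ∀ n, ∀ y : Fin 315,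
        ((orbitalTrees.getD (k.val - 1) (0, 0)).2 >>> (9 * y.val)) % 512 = n → R y * R 0 ∈ N := by
      intro n
      induction n using Nat.strong_induction_on with
      | _ n ih =>
        intro y hy
        have h2 := List.all_eq_true.mp ht y (List.mem_range.mpr y.2)
        simp only [Bool.or_eq_true, Bool.and_eq_true, Nat.blt_eq] at h2
        rcases h2 with h2 | ⟨⟨⟨⟨hp, hz⟩, hs⟩, he⟩, hlt⟩
        · rw [show y = 0 from Fin.ext (Nat.eq_of_beq_eq_true h2), hsq]
          exact N.one_mem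
        · have hpN := ih _ (hy ▸ hlt) ⟨_, hp⟩ rfl
          have hzN := hsub ⟨_, hz⟩ (Nat.eq_of_beq_eq_true hs)
          have hT := hN.conj_mem _ hzN ⟨T ⟨_, hp⟩, T_mem _⟩
          rw [← conj_mul, hconj, hconj] at hT
          have hy' : (T ⟨_, hp⟩) ⟨_, hz⟩ = y := Fin.ext ((T_rep _ _).trans (Nat.eq_of_beq_eq_true he))
          have h0 : (T ⟨_, hp⟩) 0 = ⟨_, hp⟩ := T_zero _
          rw [hy', h0] at hT
          have := N.mul_mem hT hpN
          rwa [mul_assoc, ← mul_assoc (R ⟨_, hp⟩), hsq, one_mul] at this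
    exact fun y => key _ y rfl
  -- the odd relation
  let G : Fin 4 → lineGroup := fun i => ⟨gperm i, gperm_mem i⟩
  have hG : ∀ i, G i = R (gfin i) := fun i => Subtype.ext (lineRefl_gfin i).symm
  have hmk : ∀ i, QuotientGroup.mk' N (G i) = QuotientGroup.mk' N (G 0) := by
    intro i
    have hi := hall (gfin i)
    rw [← hG, ← hinv, ← QuotientGroup.eq_one_iff, QuotientGroup.mk_mul, QuotientGroup.mk_inv,
      mul_inv_eq_one] at hi
    rw [show G 0 = R 0 from Subtype.ext lineRefl_zero.symm]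
    exact hi
  have hrel : (G 3 * G 1 * G 0 * G 2 * G 0) ^ 3 = 1 := Subtype.ext odd_relation
  set q := QuotientGroup.mk' N (G 0) with hq
  have hq2 : q * q = 1 := by
    rw [hq, ← map_mul, ← map_one (QuotientGroup.mk' N)]
    exact congrArg _ (Subtype.ext (gperm_mul_self 0))
  have hq1 : q = 1 := by
    have h15 := congrArg (QuotientGroup.mk' N) hrel
    rw [map_pow, map_one, map_mul, map_mul, map_mul, map_mul, hmk 3, hmk 1, hmk 2] at h15
    have h5 : q * q * q * q * q = q := by rw [hq2, one_mul, hq2, one_mul]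
    rw [h5, pow_succ, pow_two, hq2, one_mul] at h15
    exact h15
  have hgen : ∀ i, G i ∈ N := fun i => (QuotientGroup.eq_one_iff _).mp ((hmk i).trans hq1)
  rw [eq_top_iff]
  rintro ⟨x, hx⟩ -
  induction hx using Subgroup.closure_induction with
  | mem y hy => obtain ⟨i, rfl⟩ := hy; exact hgen i
  | one => exact N.one_mem
  | mul a b _ _ ha hb => exact N.mul_mem ha hb
  | inv a _ ha => exact N.inv_mem ha

theorem lineGroup_simple : IsSimpleGroup lineGroup := by
  have : Nontrivial lineGroup :=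
    nontrivial_of_ne ⟨gperm 0, gperm_mem 0⟩ 1 (fun h => by
      obtain ⟨p, hp⟩ := not_comm
      have h' : gperm 0 = 1 := congrArg Subtype.val h
      exact hp (by rw [h']; rfl))
  exact ⟨fun N hN => normal_cases N hN⟩

/-- `J2` is simple and not abelian. -/
theorem main : IsSimpleGroup Cfsg.Spor.J2 ∧ ∃ a b : Cfsg.Spor.J2, a * b ≠ b * a := by
  refine ⟨toLineGroup.isSimpleGroup_congr.mpr lineGroup_simple,
    toLineGroup.symm ⟨gperm 0, gperm_mem 0⟩, toLineGroup.symm ⟨gperm 1, gperm_mem 1⟩, fun h => ?_⟩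
  rw [← map_mul, ← map_mul] at h
  obtain ⟨p, hp⟩ := not_comm
  exact hp (congrArg (fun f : lineGroup => f.1 p) (toLineGroup.symm.injective h))

end Cfsg.Agent.J2Simple
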