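import Cfsg.Agent.Lib.J2RecPermData30
import Cfsg.Agent.Lib.J2Simple

/-!
# Recognition of the Hall–Janko group: primitivity of the model

A map on the 315 lines which is compatible with the action of the line group is constant or
injective.
-/

set_option autoImplicit false
set_option maxRecDepth 100000

namespace Cfsg.Agent.J2RecPerm30

open Cfsg.Agent.J2ChainDefs Cfsg.Agent.J2Lines Cfsg.Agent.J2Group Cfsg.Agent.J2Chain
  Cfsg.Agent.J2Spectrum Cfsg.Agent.J2Simple Cfsg.Agent.J2RecPermData30 Cfsg.Agent.J2OrderData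
  Cfsg.Agent.J2OrderDefs

/-- The image of a point under a letter. -/
def pimg (c k : ℕ) : ℕ := at9 (packs.getD c 0) k

/-- The image of a point under a word. -/
def prun (w : List ℕ) (k : ℕ) : ℕ := w.foldl (fun i c => pimg c i) k

theorem packs_ok : ((List.range 14).all fun c => (List.range 315).all fun k =>
    Nat.blt (pimg c k) 315 && Nat.beq (pimg (Nat.xor c 1) (pimg c k)) k &&
      Nat.blt (pimg (Nat.xor c 1) k) 315 && Nat.beq (pimg c (pimg (Nat.xor c 1) k)) k) = true := by
  decide +kernel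

theorem gwords_ok : ((List.range 4).all fun i =>
    (gwords.getD i []).all (fun c => Nat.blt c 14) &&
      (List.range 315).all fun k => Nat.beq (prun (gwords.getD i []) k) (at9 (gp i) k)) = true := by
  decide +kernel

theorem packs_spec {c : ℕ} (hc : c < 14) (k : Fin 315) :
    pimg c k < 315 ∧ pimg (Nat.xor c 1) (pimg c k) = k ∧ pimg (Nat.xor c 1) k < 315 ∧
      pimg c (pimg (Nat.xor c 1) k) = k := by
  have h := List.all_eq_true.mp (List.all_eq_true.mp packs_ok c (List.mem_range.mpr hc)) k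
    (List.mem_range.mpr k.2)
  simpa [Bool.and_eq_true, and_assoc] using h

/-- A letter as a permutation. -/
def perm (c : ℕ) : Equiv.Perm (Fin 315) :=
  if hc : c < 14 then
    { toFun := fun k => ⟨pimg c k, (packs_spec hc k).1⟩
      invFun := fun k => ⟨pimg (Nat.xor c 1) k, (packs_spec hc k).2.2.1⟩
      left_inv := fun k => Fin.ext (packs_spec hc k).2.1
      right_inv := fun k => Fin.ext (packs_spec hc k).2.2.2 }
  else 1

theorem perm_apply {c : ℕ} (hc : c < 14) (k : Fin 315) : (perm c k : ℕ) = pimg c k := by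
  simp [perm, hc]

/-- A word as a permutation. -/
def wperm : List ℕ → Equiv.Perm (Fin 315)
  | [] => 1
  | c :: w => wperm w * perm c

theorem wperm_apply : ∀ (w : List ℕ), (∀ c ∈ w, c < 14) → ∀ k : Fin 315, (wperm w k : ℕ) = prun w k
  | [], _, _ => rfl
  | c :: w, hw, k => by
    rw [wperm, Equiv.Perm.mul_apply, wperm_apply w (fun d hd => hw d (List.mem_cons_of_mem _ hd)),
      perm_apply (hw c List.mem_cons_self)]
    rfl

theorem gperm_eq (i : Fin 4) : (∀ c ∈ gwords.getD i.val [], c < 14) ∧ gperm i = wperm (gwords.getD i.val []) := by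
  have h := List.all_eq_true.mp gwords_ok i.val (List.mem_range.mpr i.2)
  rw [Bool.and_eq_true] at h
  have hlt : ∀ c ∈ gwords.getD i.val [], c < 14 := fun c hc =>
    Nat.blt_eq.mp (List.all_eq_true.mp h.1 c hc)
  refine ⟨hlt, Equiv.ext fun k => Fin.ext ?_⟩
  rw [rep_gperm, wperm_apply _ hlt]
  exact (Nat.eq_of_beq_eq_true (List.all_eq_true.mp h.2 k (List.mem_range.mpr k.2))).symm

/-- A map compatible with the line group is constant or injective. -/
theorem injective_or_const {X : Type*} (f : Fin 315 → X)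
    (hf : ∀ σ ∈ lineGroup, ∀ i j, f i = f j → f (σ i) = f (σ j)) :
    Function.Injective f ∨ ∀ y, f y = f 0 := by
  by_cases hinj : Function.Injective f
  · exact Or.inl hinj
  refine Or.inr ?_
  obtain ⟨i, j, hij, hne⟩ : ∃ i j, f i = f j ∧ i ≠ j := by
    simpa [Function.Injective] using hinj
  have h1 := hf _ (inv_mem (T_mem i)) i j hij
  have h0 : (T i)⁻¹ i = 0 := by rw [Equiv.Perm.inv_eq_iff_eq, T_zero]
  rw [h0] at h1
  set m := (T i)⁻¹ j with hm
  have hm0 : m ≠ 0 := fun e => hne ((T i)⁻¹.injective (h0.trans e.symm))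
  obtain ⟨k, h, hh, hk⟩ := exists_move m
  have hk0 : (k : ℕ) ≠ 0 := by
    intro e
    refine hm0 ?_
    have : sfin k = 0 := Fin.ext (by show srep k = 0; rw [e, srep_zero])
    rw [← hk, this, stab0_fix hh]
  have hsub : ∀ p : Fin 315, subOf p = k → f p = f 0 := by
    intro p hp
    obtain ⟨g, hg, hgp⟩ := exists_move_of_subOf p hp
    have h2 := hf (g * h⁻¹) (mul_mem (stab0_le hg) (inv_mem (stab0_le hh))) 0 m h1
    rw [Equiv.Perm.mul_apply, Equiv.Perm.mul_apply,
      show h⁻¹ 0 = 0 by rw [Equiv.Perm.inv_eq_iff_eq, stab0_fix hh], stab0_fix hg, ← hk,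
      Equiv.Perm.inv_def, Equiv.symm_apply_apply, hgp] at h2
    exact h2.symm
  have ht : treeOK k = true := by
    obtain ⟨e1, e2, e3, e4, e5⟩ := trees_ok
    obtain ⟨k, hk6⟩ := k
    interval_cases k
    exacts [absurd rfl hk0, e1, e2, e3, e4, e5]
  have key : ∀ n, ∀ y : Fin 315,
      ((orbitalTrees.getD (k.val - 1) (0, 0)).2 >>> (9 * y.val)) % 512 = n → f y = f 0 := by
    intro n
    induction n using Nat.strong_induction_on with
    | _ n ih =>
      intro y hy
      have h2 := List.all_eq_true.mp ht y (List.mem_range.mpr y.2)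
      simp only [Bool.or_eq_true, Bool.and_eq_true, Nat.blt_eq] at h2
      rcases h2 with h2 | ⟨⟨⟨⟨hp, hz⟩, hs⟩, he⟩, hlt⟩
      · rw [show y = 0 from Fin.ext (Nat.eq_of_beq_eq_true h2)]
      · have hpN := ih _ (hy ▸ hlt) ⟨_, hp⟩ rfl
        have hT := hf (T ⟨_, hp⟩) (T_mem _) _ _ (hsub ⟨_, hz⟩ (Nat.eq_of_beq_eq_true hs))
        rw [T_zero, show (T ⟨_, hp⟩) ⟨_, hz⟩ = y from
          Fin.ext ((T_rep _ _).trans (Nat.eq_of_beq_eq_true he))] at hT
        exact hT.trans hpN
  exact fun y => key _ y rfl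

end Cfsg.Agent.J2RecPerm30
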