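import Cfsg.Agent.Lib.J2RecJustB0_30

/-!
All facts of a certificate hold.
-/

set_option autoImplicit false

namespace Cfsg.Agent.J2RecCert30

open Cfsg.Agent.J1CertCore91

/-- All facts of case B hold. -/
theorem validB {Γ X : Type*} [Group Γ] [MulAction Γ X] {g : Nat → Γ} {base : X}
    (hC : Ctx g base certB) : AllValid g (nodeVal g base certB) certB 1461 := by
  have h0 : AllValid g (nodeVal g base certB) certB 0 := fun i hi => absurd hi (Nat.not_lt_zero i)
  have h1 : AllValid g (nodeVal g base certB) certB 500 := by
    have h := checkList_sound g base hC jB0 0 h0 okB0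
    rw [lenB0] at h
    exact h
  have h2 : AllValid g (nodeVal g base certB) certB 1000 := by
    have h := checkList_sound g base hC jB1 500 h1 okB1
    rw [lenB1] at h
    exact h
  have h3 : AllValid g (nodeVal g base certB) certB 1461 := by
    have h := checkList_sound g base hC jB2 1000 h2 okB2
    rw [lenB2] at h
    exact h
  exact h3

end Cfsg.Agent.J2RecCert30
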