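import Cfsg.Agent.Lib.J2RecJustG0_30
import Cfsg.Agent.Lib.J2RecJustG1_30
import Cfsg.Agent.Lib.J2RecJustG2_30
import Cfsg.Agent.Lib.J2RecJustG3_30
import Cfsg.Agent.Lib.J2RecJustG4_30
import Cfsg.Agent.Lib.J2RecJustG5_30

/-!
All facts of a certificate hold.
-/

set_option autoImplicit false

namespace Cfsg.Agent.J2RecCert30

open Cfsg.Agent.J1CertCore91

/-- All facts of case G hold. -/
theorem validG {Γ X : Type*} [Group Γ] [MulAction Γ X] {g : Nat → Γ} {base : X}
    (hC : Ctx g base certG) : AllValid g (nodeVal g base certG) certG 23253 := by
  have h0 : AllValid g (nodeVal g base certG) certG 0 := fun i hi => absurd hi (Nat.not_lt_zero i)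
  have h1 : AllValid g (nodeVal g base certG) certG 500 := by
    have h := checkList_sound g base hC jG0 0 h0 okG0
    rw [lenG0] at h
    exact h
  have h2 : AllValid g (nodeVal g base certG) certG 1000 := by
    have h := checkList_sound g base hC jG1 500 h1 okG1
    rw [lenG1] at h
    exact h
  have h3 : AllValid g (nodeVal g base certG) certG 1500 := by
    have h := checkList_sound g base hC jG2 1000 h2 okG2
    rw [lenG2] at h
    exact h
  have h4 : AllValid g (nodeVal g base certG) certG 2000 := by
    have h := checkList_sound g base hC jG3 1500 h3 okG3
    rw [lenG3] at h
    exact h
  have h5 : AllValid g (nodeVal g base certG) certG 2500 := by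
    have h := checkList_sound g base hC jG4 2000 h4 okG4
    rw [lenG4] at h
    exact h
  have h6 : AllValid g (nodeVal g base certG) certG 3000 := by
    have h := checkList_sound g base hC jG5 2500 h5 okG5
    rw [lenG5] at h
    exact h
  have h7 : AllValid g (nodeVal g base certG) certG 3500 := by
    have h := checkList_sound g base hC jG6 3000 h6 okG6
    rw [lenG6] at h
    exact h
  have h8 : AllValid g (nodeVal g base certG) certG 4000 := by
    have h := checkList_sound g base hC jG7 3500 h7 okG7
    rw [lenG7] at h
    exact h
  have h9 : AllValid g (nodeVal g base certG) certG 4500 := by
    have h := checkList_sound g base hC jG8 4000 h8 okG8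
    rw [lenG8] at h
    exact h
  have h10 : AllValid g (nodeVal g base certG) certG 5000 := by
    have h := checkList_sound g base hC jG9 4500 h9 okG9
    rw [lenG9] at h
    exact h
  have h11 : AllValid g (nodeVal g base certG) certG 5500 := by
    have h := checkList_sound g base hC jG10 5000 h10 okG10
    rw [lenG10] at h
    exact h
  have h12 : AllValid g (nodeVal g base certG) certG 6000 := by
    have h := checkList_sound g base hC jG11 5500 h11 okG11
    rw [lenG11] at h
    exact h
  have h13 : AllValid g (nodeVal g base certG) certG 6500 := by
    have h := checkList_sound g base hC jG12 6000 h12 okG12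
    rw [lenG12] at h
    exact h
  have h14 : AllValid g (nodeVal g base certG) certG 7000 := by
    have h := checkList_sound g base hC jG13 6500 h13 okG13
    rw [lenG13] at h
    exact h
  have h15 : AllValid g (nodeVal g base certG) certG 7500 := by
    have h := checkList_sound g base hC jG14 7000 h14 okG14
    rw [lenG14] at h
    exact h
  have h16 : AllValid g (nodeVal g base certG) certG 8000 := by
    have h := checkList_sound g base hC jG15 7500 h15 okG15
    rw [lenG15] at h
    exact h
  have h17 : AllValid g (nodeVal g base certG) certG 8500 := by
    have h := checkList_sound g base hC jG16 8000 h16 okG16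
    rw [lenG16] at h
    exact h
  have h18 : AllValid g (nodeVal g base certG) certG 9000 := by
    have h := checkList_sound g base hC jG17 8500 h17 okG17
    rw [lenG17] at h
    exact h
  have h19 : AllValid g (nodeVal g base certG) certG 9500 := by
    have h := checkList_sound g base hC jG18 9000 h18 okG18
    rw [lenG18] at h
    exact h
  have h20 : AllValid g (nodeVal g base certG) certG 10000 := by
    have h := checkList_sound g base hC jG19 9500 h19 okG19
    rw [lenG19] at h
    exact h
  have h21 : AllValid g (nodeVal g base certG) certG 10500 := by
    have h := checkList_sound g base hC jG20 10000 h20 okG20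
    rw [lenG20] at h
    exact h
  have h22 : AllValid g (nodeVal g base certG) certG 11000 := by
    have h := checkList_sound g base hC jG21 10500 h21 okG21
    rw [lenG21] at h
    exact h
  have h23 : AllValid g (nodeVal g base certG) certG 11500 := by
    have h := checkList_sound g base hC jG22 11000 h22 okG22
    rw [lenG22] at h
    exact h
  have h24 : AllValid g (nodeVal g base certG) certG 12000 := by
    have h := checkList_sound g base hC jG23 11500 h23 okG23
    rw [lenG23] at h
    exact h
  have h25 : AllValid g (nodeVal g base certG) certG 12500 := by
    have h := checkList_sound g base hC jG24 12000 h24 okG24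
    rw [lenG24] at h
    exact h
  have h26 : AllValid g (nodeVal g base certG) certG 13000 := by
    have h := checkList_sound g base hC jG25 12500 h25 okG25
    rw [lenG25] at h
    exact h
  have h27 : AllValid g (nodeVal g base certG) certG 13500 := by
    have h := checkList_sound g base hC jG26 13000 h26 okG26
    rw [lenG26] at h
    exact h
  have h28 : AllValid g (nodeVal g base certG) certG 14000 := by
    have h := checkList_sound g base hC jG27 13500 h27 okG27
    rw [lenG27] at h
    exact h
  have h29 : AllValid g (nodeVal g base certG) certG 14500 := by
    have h := checkList_sound g base hC jG28 14000 h28 okG28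
    rw [lenG28] at h
    exact h
  have h30 : AllValid g (nodeVal g base certG) certG 15000 := by
    have h := checkList_sound g base hC jG29 14500 h29 okG29
    rw [lenG29] at h
    exact h
  have h31 : AllValid g (nodeVal g base certG) certG 15500 := by
    have h := checkList_sound g base hC jG30 15000 h30 okG30
    rw [lenG30] at h
    exact h
  have h32 : AllValid g (nodeVal g base certG) certG 16000 := by
    have h := checkList_sound g base hC jG31 15500 h31 okG31
    rw [lenG31] at h
    exact h
  have h33 : AllValid g (nodeVal g base certG) certG 16500 := by
    have h := checkList_sound g base hC jG32 16000 h32 okG32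
    rw [lenG32] at h
    exact h
  have h34 : AllValid g (nodeVal g base certG) certG 17000 := by
    have h := checkList_sound g base hC jG33 16500 h33 okG33
    rw [lenG33] at h
    exact h
  have h35 : AllValid g (nodeVal g base certG) certG 17500 := by
    have h := checkList_sound g base hC jG34 17000 h34 okG34
    rw [lenG34] at h
    exact h
  have h36 : AllValid g (nodeVal g base certG) certG 18000 := by
    have h := checkList_sound g base hC jG35 17500 h35 okG35
    rw [lenG35] at h
    exact h
  have h37 : AllValid g (nodeVal g base certG) certG 18500 := by
    have h := checkList_sound g base hC jG36 18000 h36 okG36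
    rw [lenG36] at h
    exact h
  have h38 : AllValid g (nodeVal g base certG) certG 19000 := by
    have h := checkList_sound g base hC jG37 18500 h37 okG37
    rw [lenG37] at h
    exact h
  have h39 : AllValid g (nodeVal g base certG) certG 19500 := by
    have h := checkList_sound g base hC jG38 19000 h38 okG38
    rw [lenG38] at h
    exact h
  have h40 : AllValid g (nodeVal g base certG) certG 20000 := by
    have h := checkList_sound g base hC jG39 19500 h39 okG39
    rw [lenG39] at h
    exact h
  have h41 : AllValid g (nodeVal g base certG) certG 20500 := by
    have h := checkList_sound g base hC jG40 20000 h40 okG40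
    rw [lenG40] at h
    exact h
  have h42 : AllValid g (nodeVal g base certG) certG 21000 := by
    have h := checkList_sound g base hC jG41 20500 h41 okG41
    rw [lenG41] at h
    exact h
  have h43 : AllValid g (nodeVal g base certG) certG 21500 := by
    have h := checkList_sound g base hC jG42 21000 h42 okG42
    rw [lenG42] at h
    exact h
  have h44 : AllValid g (nodeVal g base certG) certG 22000 := by
    have h := checkList_sound g base hC jG43 21500 h43 okG43
    rw [lenG43] at h
    exact h
  have h45 : AllValid g (nodeVal g base certG) certG 22500 := by
    have h := checkList_sound g base hC jG44 22000 h44 okG44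
    rw [lenG44] at h
    exact h
  have h46 : AllValid g (nodeVal g base certG) certG 23000 := by
    have h := checkList_sound g base hC jG45 22500 h45 okG45
    rw [lenG45] at h
    exact h
  have h47 : AllValid g (nodeVal g base certG) certG 23253 := by
    have h := checkList_sound g base hC jG46 23000 h46 okG46
    rw [lenG46] at h
    exact h
  exact h47

end Cfsg.Agent.J2RecCert30
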