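import Cfsg.Agent.Lib.J2RecRels30
import Cfsg.Agent.Lib.J2RecPerm30
import Cfsg.Agent.Lib.J2RecValidG30
import Cfsg.Agent.Lib.J2RecValidB30

/-!
# Recognition of the Hall–Janko group: the action on the cosets of the centralizer of an involution

The second case of the centralizer analysis contradicts the fact that `a 1` and `a 0` do not
commute; in the first case the certificate identifies the 315 cosets with the lines of the model.
-/

set_option autoImplicit false
set_option maxRecDepth 100000

namespace Cfsg.Agent.J2RecIso30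

open Subgroup Cfsg.Agent.J2TypePoints79 Cfsg.Agent.J2RecFrame30 Cfsg.Agent.J2RecRel30
open Cfsg.Agent.J2RecCent30 Cfsg.Agent.J2RecRels30 Cfsg.Agent.J2RecCert30 Cfsg.Agent.J2RecPerm30
open Cfsg.Agent.J1CertCore91 Cfsg.Agent.J2Group Cfsg.Agent.J2Chain

/-- One edge of the table. -/
noncomputable def edgeOK (i j : ℕ) : Bool :=
  force (entry EG 32 (8 * i + j)) fun f =>
  optAll (walk certG.fact 23253 1 f (entry LG 32 i) [2 * j]) fun r =>
    Nat.beq r (entry LG 32 (pimg (2 * j) i))

theorem table_ok : ((List.range 315).all fun i => (List.range 7).all fun j => edgeOK i j) = true ∧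
    entry LG 32 0 = 0 := by
  decide +kernel

theorem bad_ok : fc (certB.fact factY) = 11 ∧ fp (certB.fact factY) = 0 ∧
    fq (certB.fact factY) = nodeY ∧ fc (certB.fact factBad) = 1 ∧
    fp (certB.fact factBad) = nodeY ∧ fq (certB.fact factBad) = nodeY ∧
    factY < 1461 ∧ factBad < 1461 := by
  decide +kernel

variable {G : Type*} [Group G] [Finite G] {Q : Subgroup G} {z : G} {a : Fin 5 → G}
variable {x u v h y : G} {K : Subgroup G} (S : Gens Q z a x u v y K) (F : Full z a x u v h y)
include S F

theorem partner (c : ℕ) : gl z a x u v h y (Nat.xor c 1) * gl z a x u v h y c = 1 := by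
  by_cases hc : c < 14
  · interval_cases c <;> first
      | exact inv_mul_cancel _
      | exact mul_inv_cancel _
  · have h1 : 14 ≤ Nat.xor c 1 := by
      have h2 : (c ^^^ 1) / 2 = c / 2 := by rw [Nat.xor_div_two]; simp
      show 14 ≤ c ^^^ 1
      omega
    simp only [gl]
    rw [List.getD_eq_default _ _ (show _ ≤ Nat.xor c 1 by simpa using h1),
      List.getD_eq_default _ _ (show _ ≤ c by simpa using Nat.le_of_not_lt hc), one_mul]

theorem base_fixed (w : List ℕ) (hw : w ∈ [[0], [2], [4], [6], [8], [12]]) :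
    act (gl z a x u v h y) w ((1 : G) : G ⧸ centralizer ({z} : Set G)) =
      ((1 : G) : G ⧸ centralizer ({z} : Set G)) := by
  have key : ∀ g : G, g * z = z * g → g • ((1 : G) : G ⧸ centralizer ({z} : Set G)) =
      ((1 : G) : G ⧸ centralizer ({z} : Set G)) := fun g hg => by
    rw [MulAction.Quotient.smul_coe, smul_eq_mul, mul_one, QuotientGroup.eq, mul_one, inv_mem_iff,
      mem_centralizer_singleton_iff]
    exact hg
  simp only [List.mem_cons, List.not_mem_nil, or_false] at hw
  rcases hw with rfl | rfl | rfl | rfl | rfl | rfl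
  exacts [key _ (az S 1), key _ S.ex.1, key _ S.eu.1, key _ S.ev.1, key _ F.eh.1, key _ rfl]

theorem bad_case (hwz : wel z a u h y * z * (wel z a u h y * z) * (wel z a u h y * z) = 1)
    (htu : a 1 * wel z a u h y * a 1 * u = u * (a 1 * wel z a u h y * a 1)) : False := by
  set H := centralizer ({z} : Set G)
  set b : G ⧸ H := ((1 : G) : G ⧸ H) with hb
  have hC : Ctx (gl z a x u v h y) b certB :=
    ⟨partner S F, relsB_hold S F htu hwz, base_fixed S F⟩
  have hv := validB hC
  obtain ⟨c1, p1, q1, c2, p2, q2, l1, l2⟩ := bad_ok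
  have e1 := hv _ l1
  have e2 := hv _ l2
  rw [Sem, c1, p1, q1, if_neg (by decide), nodeVal_zero] at e1
  rw [Sem, c2, p2, q2, if_neg (by decide), ← e1] at e2
  change a 1 • (y • b) = y • b at e2
  rw [hb, MulAction.Quotient.smul_coe, MulAction.Quotient.smul_coe, QuotientGroup.eq,
    mem_centralizer_singleton_iff] at e2
  simp only [smul_eq_mul, mul_one, mul_inv_rev, S.pts.inv_self] at e2
  have hy0 : y * z = a 0 * y := mul_inv_eq_iff_eq_mul.1 S.yz
  have : a 1 * a 0 = a 0 * a 1 := by
    have h3 : y * (y⁻¹ * a 1 * y * z) * y⁻¹ = y * (z * (y⁻¹ * a 1 * y)) * y⁻¹ := by rw [e2]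
    calc a 1 * a 0 = y * (y⁻¹ * a 1 * y * z) * y⁻¹ := by
          rw [show y * (y⁻¹ * a 1 * y * z) * y⁻¹ = a 1 * (y * z * y⁻¹) by group, S.yz]
      _ = y * (z * (y⁻¹ * a 1 * y)) * y⁻¹ := h3
      _ = (y * z * y⁻¹) * a 1 := by group
      _ = _ := by rw [S.yz]
  have h4 := S.pts.anti 1 0 (by decide)
  rw [this, mul_inv_cancel_right] at h4
  exact z_ne S (mul_eq_right.1 h4.symm)

theorem good_case (hwy : wel z a u h y * y * (wel z a u h y * y) = 1)
    (hwz : wel z a u h y * z * (wel z a u h y * z) * (wel z a u h y * z) = 1)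
    (hwu : wel z a u h y * u = u * wel z a u h y) (hwv : wel z a u h y * v = v * wel z a u h y) :
    Nonempty (G ≃* Cfsg.Spor.J2) := by
  classical
  set H := centralizer ({z} : Set G)
  set b : G ⧸ H := ((1 : G) : G ⧸ H) with hb
  set g := gl z a x u v h y
  have hC : Ctx g b certG := ⟨partner S F, relsG_hold S F hwu hwv hwy hwz, base_fixed S F⟩
  have hv := validG hC
  let f : Fin 315 → G ⧸ H := fun k => nodeVal g b certG (entry LG 32 k)
  -- permutations of the lines induced by elements of `G`
  let M : Subgroup (Equiv.Perm (Fin 315)) :=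
    { carrier := {σ | ∃ γ : G, ∀ k, f (σ k) = γ • f k}
      one_mem' := ⟨1, fun k => (one_smul G _).symm⟩
      mul_mem' := fun {σ τ} ⟨γ, hγ⟩ ⟨δ, hδ⟩ =>
        ⟨γ * δ, fun k => by rw [Equiv.Perm.mul_apply, hγ, hδ, mul_smul]⟩
      inv_mem' := fun {σ} ⟨γ, hγ⟩ => ⟨γ⁻¹, fun k => by
        have := hγ (σ⁻¹ k)
        rw [Equiv.Perm.inv_def, Equiv.apply_symm_apply] at this
        rw [Equiv.Perm.inv_def, this, inv_smul_smul]⟩ }
  have hedge : ∀ j : ℕ, j < 7 → ∀ k : Fin 315, f (perm (2 * j) k) = g (2 * j) • f k := by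
    intro j hj k
    have hp : (perm (2 * j) k : ℕ) = pimg (2 * j) k := perm_apply (by omega) k
    have h1 := List.all_eq_true.mp (List.all_eq_true.mp table_ok.1 k (List.mem_range.mpr k.2)) j
      (List.mem_range.mpr hj)
    simp only [edgeOK, force_eq] at h1
    obtain ⟨r, hr, hk⟩ := optAll_eq_true h1
    show nodeVal g b certG (entry LG 32 (perm (2 * j) k : ℕ)) = g (2 * j) • f k
    rw [hp, ← Nat.beq_eq.mp hk]
    exact (walk_sound g _ hC.partner certG.fact 23253 hv _ _ _ _ _ hr).symm
  have heven : ∀ j : ℕ, j < 7 → perm (2 * j) ∈ M := fun j hj => ⟨g (2 * j), hedge j hj⟩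
  have hperm : ∀ c : ℕ, c < 14 → perm c ∈ M := by
    intro c hc
    rcases Nat.even_or_odd' c with ⟨j, rfl | rfl⟩
    · exact heven j (by omega)
    · have e : perm (2 * j + 1) = (perm (2 * j))⁻¹ := by
        refine eq_inv_of_mul_eq_one_left (Equiv.ext fun k => Fin.ext ?_)
        rw [Equiv.Perm.mul_apply, Equiv.Perm.one_apply, perm_apply hc, perm_apply (by omega)]
        have := (packs_spec (show 2 * j < 14 by omega) k).2.1
        rwa [show Nat.xor (2 * j) 1 = 2 * j + 1 by
          have : j < 7 := by omega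
          interval_cases j <;> decide] at this
      rw [e]
      exact inv_mem (heven j (by omega))
  have hwperm : ∀ w : List ℕ, (∀ c ∈ w, c < 14) → wperm w ∈ M := by
    intro w
    induction w with
    | nil => exact fun _ => one_mem _
    | cons c t ih =>
      exact fun hw => mul_mem (ih fun d hd => hw d (List.mem_cons_of_mem _ hd))
        (hperm c (hw c List.mem_cons_self))
  have hle : lineGroup ≤ M := by
    refine (closure_le _).mpr ?_
    rintro _ ⟨i, rfl⟩
    rw [(gperm_eq i).2]
    exact hwperm _ (gperm_eq i).1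
  have hf0 : f 0 = b := by
    show nodeVal g b certG (entry LG 32 0) = b
    rw [table_ok.2, nodeVal_zero]
  -- the map to the cosets is injective
  have hinj : Function.Injective f := by
    refine (injective_or_const f fun σ hσ i j hij => ?_).resolve_right fun hc => ?_
    · obtain ⟨γ, hγ⟩ := hle hσ
      rw [hγ, hγ, hij]
    · have h1 : f (perm 10 0) = g 10 • f 0 := hedge 5 (by norm_num) 0
      rw [hc, hf0] at h1
      change b = y • b at h1
      rw [hb, MulAction.Quotient.smul_coe, smul_eq_mul, mul_one, QuotientGroup.eq, inv_one,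
        one_mul, mem_centralizer_singleton_iff] at h1
      have h2 : a 0 = z := by rw [← S.yz, h1, mul_inv_cancel_right]
      exact (S.pts.ne 0).2 h2
  haveI : Fintype (G ⧸ H) := Fintype.ofFinite _
  have hcard : Nat.card (G ⧸ H) = 315 := by
    have h1 := H.card_mul_index
    rw [Subgroup.index, card_H S.hJ, S.cardG] at h1
    omega
  let e : Fin 315 ≃ G ⧸ H := Equiv.ofBijective f
    ((Nat.bijective_iff_injective_and_card f).2 ⟨hinj, by rw [hcard, Nat.card_fin]⟩)
  let ρ : G →* Equiv.Perm (Fin 315) :=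
    (e.symm.permCongrHom).toMonoidHom.comp (MulAction.toPermHom G (G ⧸ H))
  have hρ : lineGroup ≤ ρ.range := by
    intro σ hσ
    obtain ⟨γ, hγ⟩ := hle hσ
    refine ⟨γ, Equiv.ext fun k => ?_⟩
    show e.symm (γ • e k) = σ k
    rw [Equiv.symm_apply_eq]
    exact (hγ k).symm
  have hc1 : Nat.card ρ.range ≤ Nat.card lineGroup := by
    rw [card_lineGroup, ← S.cardG]
    exact Nat.card_le_card_of_surjective ρ.rangeRestrict ρ.rangeRestrict_surjective
  have heq : lineGroup = ρ.range := eq_of_le_of_card_ge hρ hc1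
  have hbij : Function.Bijective ρ.rangeRestrict :=
    (Nat.bijective_iff_surjective_and_card _).2
      ⟨ρ.rangeRestrict_surjective, by rw [← heq, card_lineGroup, S.cardG]⟩
  exact ⟨((MulEquiv.ofBijective ρ.rangeRestrict hbij).trans
    (MulEquiv.subgroupCongr heq.symm)).trans toLineGroup.symm⟩

omit S F in
/-- Uniqueness of the Hall–Janko group. -/
theorem iso_of_hyp (hJ : Hyp Q z) : Nonempty (G ≃* Cfsg.Spor.J2) := by
  obtain ⟨a, x, u, v, y₀, K, S₀⟩ := exists_gens hJ
  obtain ⟨y, h, S, F⟩ := exists_full S₀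
  have hwz := F.wz _ (wel z a u h y) rfl rfl
  rcases F.cases _ (wel z a u h y) rfl rfl with ⟨h1, h2, h3⟩ | h1
  · exact good_case S F h3 hwz h1 h2
  · exact (bad_case S F hwz h1).elim

end Cfsg.Agent.J2RecIso30
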