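import Cfsg.Agent.Lib.ConwayFiveHyp30
import Cfsg.Agent.Lib.J2RecIso30
import Cfsg.Agent.Lib.J2Mult76
import Cfsg.Agent.Lib.J2Simple
import Cfsg.Agent.Lib.ComponentsBasic

/-!
# The centraliser of the element of order five splits off a Hall–Janko group
-/

set_option autoImplicit false
set_option linter.style.haveILetI false
set_option linter.unusedSectionVars false

namespace Cfsg.Agent.ConwayFiveSplit30

open Subgroup Cfsg.Agent.ComponentsBasic
open scoped commutatorElement
open Cfsg.Agent.ConwayTypeModel62 Cfsg.Agent.ConwayTypeCoord62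
open Cfsg.Agent.ConwayFiveStd30 Cfsg.Agent.ConwayFiveHyp30

/-- There is no perfect central extension of the Hall–Janko group by five. -/
theorem no_five_cover {Γ : Type*} [Group Γ] [Finite Γ] (π : Γ →* Cfsg.Spor.J2)
    (hs : Function.Surjective π) (hc : π.ker ≤ center Γ) (hp : commutator Γ = ⊤) :
    Nat.card π.ker ≠ 5 := by
  classical
  let ι : Γ →* Equiv.Perm (Fin (Nat.card Γ)) :=
    (Equiv.permCongrHom (Finite.equivFin Γ)).toMonoidHom.comp (MulAction.toPermHom Γ Γ)
  have hι : Function.Injective ι :=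
    (Equiv.permCongrHom (Finite.equivFin Γ)).injective.comp MulAction.toPerm_injective
  let e : Γ ≃* ↥ι.range := MonoidHom.ofInjective hι
  let σ : ↥ι.range →* Cfsg.Spor.J2 := π.comp e.symm.toMonoidHom
  have hp' : commutator ↥ι.range = ⊤ := by
    rw [← Subgroup.map_top_of_surjective e.toMonoidHom e.surjective, ← hp, _root_.commutator_def,
      _root_.commutator_def, Subgroup.map_commutator, Subgroup.map_top_of_surjective e.toMonoidHom e.surjective]
  have hσ : Cfsg.IsStemExtension σ := by
    refine ⟨hs.comp e.symm.surjective, fun x hx => ?_, hp' ▸ le_top⟩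
    refine mem_center_iff.mpr fun y => e.symm.injective ?_
    rw [map_mul, map_mul]
    exact mem_center_iff.mp (hc hx) _
  obtain ⟨χ, hχ⟩ := J2Mult76.multiplier_J2.2 ↥ι.range σ hσ
  intro h5
  have hd : Nat.card σ.ker ∣ Nat.card (Multiplicative (ZMod 2)) :=
    Subgroup.card_dvd_of_surjective χ hχ
  have he : Nat.card σ.ker = Nat.card π.ker := Nat.card_congr
    { toFun := fun x => ⟨e.symm x, x.2⟩
      invFun := fun x => ⟨e x, by
        show π (e.symm (e x)) = 1
        rw [e.symm_apply_apply]; exact x.2⟩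
      left_inv := fun x => Subtype.ext (e.apply_symm_apply x)
      right_inv := fun x => Subtype.ext (e.symm_apply_apply x) }
  rw [he, h5, Nat.card_congr (Multiplicative.toAdd (α := ZMod 2)), Nat.card_zmod] at hd
  norm_num at hd

variable {G : Type*} [Group G] [Finite G]
variable {Q Q' : Subgroup G} {z t : G} {ν : G → M6} {d : G} {ρ : ↥(Sx z t) →* P8}
  {b : ↥(Sx z t)} (S : Std Q Q' z t ν d ρ b)
include S

theorem exists_iso : Nonempty (↥(CB (b : G)) ⧸ Bc (b : G) ≃* Cfsg.Spor.J2) :=
  J2RecIso30.iso_of_hyp (quot_hyp S)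

theorem quot_perfect : commutator (↥(CB (b : G)) ⧸ Bc (b : G)) = ⊤ := by
  obtain ⟨e⟩ := exists_iso S
  haveI := J2Simple.main.1
  obtain ⟨x, y, hxy⟩ := J2Simple.main.2
  have h : commutator Cfsg.Spor.J2 = ⊤ := by
    refine (IsSimpleGroup.eq_bot_or_eq_top_of_normal _ inferInstance).resolve_left fun h => hxy ?_
    have : ⁅x, y⁆ ∈ commutator Cfsg.Spor.J2 := commutator_mem_commutator (mem_top x) (mem_top y)
    rw [h, mem_bot] at this
    exact commutatorElement_eq_one_iff_mul_comm.mp this
  rw [← Subgroup.map_top_of_surjective e.symm.toMonoidHom e.symm.surjective, ← h, _root_.commutator_def,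
    _root_.commutator_def, Subgroup.map_commutator,
    Subgroup.map_top_of_surjective e.symm.toMonoidHom e.symm.surjective]

/-- The commutator group meets the group of order five trivially. -/
theorem comm_inf : ∀ l ∈ commutator ↥(CB (b : G)), proj (b : G) l = 1 → l = 1 := by
  classical
  intro l hl hp
  by_contra hne
  have hlB : l ∈ Bc (b : G) := (QuotientGroup.eq_one_iff l).mp hp
  have hcard : Nat.card (Bc (b : G)) = 5 := by
    rw [Bc, Nat.card_zpowers, ← Subgroup.orderOf_coe]
    exact (Subgroup.orderOf_coe b).trans S.ob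
  have hBL : Bc (b : G) ≤ commutator ↥(CB (b : G)) := by
    haveI : Fact (Nat.Prime 5) := ⟨by norm_num⟩
    have h := zpowers_le.mpr hlB
    have hcl : Nat.card (zpowers l) = 5 := by
      have hd := Subgroup.card_dvd_of_le h
      rw [hcard] at hd
      rcases (Nat.dvd_prime (by norm_num)).mp hd with h1 | h1
      · rw [Nat.card_zpowers, orderOf_eq_one_iff] at h1
        exact absurd h1 hne
      · exact h1
    rw [← Subgroup.eq_of_le_of_card_ge h (by rw [hcard, hcl])]
    exact zpowers_le.mpr hl
  have hmap : (commutator ↥(CB (b : G))).map (proj (b : G)) = ⊤ := by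
    rw [_root_.commutator_def, Subgroup.map_commutator,
      Subgroup.map_top_of_surjective _ (QuotientGroup.mk'_surjective _), ← _root_.commutator_def,
      quot_perfect S]
  have htop : commutator ↥(CB (b : G)) = ⊤ := by
    refine eq_top_iff.mpr fun g _ => ?_
    obtain ⟨c, hc, e⟩ := hmap.ge (mem_top (proj (b : G) g))
    have := mul_mem hc (hBL (QuotientGroup.eq.mp e))
    rwa [mul_inv_cancel_left] at this
  obtain ⟨e⟩ := exists_iso S
  have hk : (e.toMonoidHom.comp (proj (b : G))).ker = Bc (b : G) := by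
    ext g
    rw [MonoidHom.mem_ker, MonoidHom.comp_apply, MulEquiv.coe_toMonoidHom, MulEquiv.map_eq_one_iff,
      ← MonoidHom.mem_ker, QuotientGroup.ker_mk']
  refine no_five_cover (e.toMonoidHom.comp (proj (b : G)))
    (e.surjective.comp (QuotientGroup.mk'_surjective _)) ?_ htop ?_
  · rw [hk]
    exact Bc_central _
  · rw [hk, hcard]

/-- Every element is a product of an element of the commutator group and a power of `b`. -/
theorem exists_split (g : ↥(CB (b : G))) :
    ∃ l ∈ commutator ↥(CB (b : G)), ∃ k : ℕ, (g : G) = (l : G) * (b : G) ^ k := by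
  have h : proj (b : G) g ∈ (commutator ↥(CB (b : G))).map (proj (b : G)) := by
    rw [_root_.commutator_def, Subgroup.map_commutator,
      Subgroup.map_top_of_surjective _ (QuotientGroup.mk'_surjective _), ← _root_.commutator_def,
      quot_perfect S]
    trivial
  obtain ⟨l, hl, e⟩ := h
  exact ⟨l, hl, proj_eq.mp e.symm⟩

/-- The commutator group is the Hall–Janko group, by projection. -/
theorem proj_bijective : Function.Bijective
    ((proj (b : G)).comp (commutator ↥(CB (b : G))).subtype) := by
  refine ⟨(injective_iff_map_eq_one _).mpr fun l hl => Subtype.ext (comm_inf S _ l.2 hl), fun w => ?_⟩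
  obtain ⟨g, rfl⟩ := QuotientGroup.mk'_surjective _ w
  obtain ⟨l, hl, k, hk⟩ := exists_split S g
  exact ⟨⟨l, hl⟩, (proj_eq.mpr ⟨k, hk⟩).symm⟩

theorem comm_iso : Nonempty (↥(commutator ↥(CB (b : G))) ≃* Cfsg.Spor.J2) := by
  obtain ⟨e⟩ := exists_iso S
  exact ⟨(MulEquiv.ofBijective _ (proj_bijective S)).trans e⟩

/-- Elements of two-power order lie in the commutator group. -/
theorem two_mem (g : ↥(CB (b : G))) {n : ℕ} (hg : (g : G) ^ 2 ^ n = 1) :
    g ∈ commutator ↥(CB (b : G)) := by
  obtain ⟨l, hl, k, hk⟩ := exists_split S g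
  have hc : Commute (l : G) ((b : G) ^ k) :=
    (show Commute (l : G) (b : G) from mem_centralizer_singleton_iff.mp l.2).pow_right k
  rw [hk, hc.mul_pow, ← pow_mul] at hg
  have hb1 : (b : G) ^ (k * 2 ^ n) = 1 := by
    have h2 : (l : G) ^ 2 ^ n = 1 := by
      refine congrArg Subtype.val (comm_inf S (l ^ 2 ^ n) (pow_mem hl _) ?_)
      rw [← map_one (proj (b : G))]
      refine (proj_eq.mpr ⟨k * 2 ^ n, ?_⟩).symm
      simpa using hg.symm
    rwa [h2, one_mul] at hg
  have h5 : 5 ∣ k := by
    have := orderOf_dvd_of_pow_eq_one hb1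
    rw [(Subgroup.orderOf_coe b).trans S.ob] at this
    exact (Nat.Coprime.pow_right n (by norm_num)).dvd_of_dvd_mul_right this
  obtain ⟨j, rfl⟩ := h5
  rw [pow_mul, b_five S, one_pow, mul_one] at hk
  rw [show g = l from Subtype.ext hk]
  exact hl

theorem layer_eq : Cfsg.layer ↥(CB (b : G)) = commutator ↥(CB (b : G)) := by
  obtain ⟨e⟩ := comm_iso S
  refine le_antisymm (sSup_le fun K hK => ?_) (le_sSup ⟨?_, ?_⟩)
  · rw [← ComponentsBasic.IsComponent.perfect hK, _root_.commutator_def]
    exact Subgroup.commutator_mono le_top le_top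
  · exact Subgroup.Normal.isSubnormal inferInstance
  · haveI := J2Simple.main.1
    obtain ⟨x, y, hxy⟩ := J2Simple.main.2
    refine isQuasisimple_of_mulEquiv e.symm (isQuasisimple_of_simple J2Simple.main.1 ?_)
    exact fun h => hxy (h.is_comm.comm x y)

end Cfsg.Agent.ConwayFiveSplit30
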