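import Cfsg.Agent.Lib.ConwayFiveFacts30
import Cfsg.Agent.Lib.ConwayTypePair62
import Cfsg.Agent.Lib.ConwayTypeClasses62

/-!
# An element of order five in the centraliser of a four group of Conway type
-/

set_option autoImplicit false

namespace Cfsg.Agent.ConwayFiveStd30

open Subgroup Cfsg.Agent.LargeExtraspecial Cfsg.Agent.LargeExtraspecialPair
open Cfsg.Agent.ConwayTypeModel62 Cfsg.Agent.ConwayTypeCoord62 Cfsg.Agent.ConwayTypeRadical62
open Cfsg.Agent.ConwayFiveFacts30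

variable {G : Type*} [Group G] [Finite G]

/-- The data. -/
structure Std (Q Q' : Subgroup G) (z t : G) (ν : G → M6) (d : G) (ρ : ↥(Sx z t) →* P8)
    (b : ↥(Sx z t)) : Prop where
  D : Ctx Q Q' z t ν d ρ
  ob : orderOf b = 5
  rb : ρ b = s5
  bd : (b : G) * d = d * b

/-- The centraliser in `Q` of the element of order five. -/
def Rb (Q : Subgroup G) (b : G) : Subgroup G := Q ⊓ centralizer ({b} : Set G)

omit [Finite G] in
theorem mem_Rb {Q : Subgroup G} {b x : G} : x ∈ Rb Q b ↔ x ∈ Q ∧ x * b = b * x := by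
  simp [Rb, mem_centralizer_singleton_iff]

/-- Conjugacy of elements of order five, by an even element. -/
theorem exists_even_conj {σ : P8} (h : orderOf σ = 5) :
    ∃ τ : P8, Equiv.Perm.sign τ = 1 ∧ τ * s5 * τ⁻¹ = σ := by
  have key : ∀ π : P8, orderOf π = 5 → π.cycleType = Multiset.replicate 1 5 := by
    intro π hπ
    obtain ⟨n, hn⟩ := Equiv.Perm.cycleType_prime_order (σ := π) (by rw [hπ]; norm_num)
    rw [hπ] at hn
    have hsum : π.cycleType.sum ≤ 8 := by
      rw [Equiv.Perm.sum_cycleType]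
      exact (Finset.card_le_univ _).trans (le_of_eq (Fintype.card_fin 8))
    rw [hn, Multiset.sum_replicate] at hsum
    have : n = 0 := by simp at hsum; omega
    rw [hn, this]
  have h5 : orderOf s5 = 5 := by
    haveI : Fact (Nat.Prime 5) := ⟨by norm_num⟩
    exact orderOf_eq_prime s5_order.1 s5_order.2
  obtain ⟨τ, hτ⟩ := isConj_iff.mp (Equiv.Perm.isConj_iff_cycleType_eq.mpr
    ((key s5 h5).trans (key σ h).symm))
  rcases Int.units_eq_one_or (Equiv.Perm.sign τ) with hs | hs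
  · exact ⟨τ, hs, hτ⟩
  · refine ⟨τ * sw, ?_, ?_⟩
    · rw [map_mul, hs, show Equiv.Perm.sign sw = -1 by decide +kernel]; rfl
    · rw [show τ * sw * s5 * (τ * sw)⁻¹ = τ * (sw * s5 * sw⁻¹) * τ⁻¹ by group,
        show sw * s5 * sw⁻¹ = s5 by decide +kernel, hτ]

/-- A fixed point of a permutation of order dividing five on a set of size prime to five. -/
theorem exists_fixed {α : Type*} [Finite α] (π : Equiv.Perm α) (h5 : π ^ 5 = 1)
    (hc : ¬ 5 ∣ Nat.card α) : ∃ a, π a = a := by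
  classical
  haveI : Fact (Nat.Prime 5) := ⟨by norm_num⟩
  letI := Fintype.ofFinite α
  have := Equiv.Perm.exists_fixed_point_of_prime (p := 5) (n := 1)
    (by rwa [← Nat.card_eq_fintype_card]) (σ := π) (by rwa [pow_one])
  exact this

omit [Finite G] in
/-- An element moved only by a commuting involution is fixed. -/
theorem fixed_of_moved {b a u : G} (h5 : b ^ 5 = 1) (hu : u * u = 1) (hbu : b * u = u * b)
    (h : b * a * b⁻¹ = u * a) : b * a = a * b := by
  have key : ∀ n : ℕ, b ^ n * a * (b ^ n)⁻¹ = u ^ n * a := by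
    intro n
    induction n with
    | zero => simp
    | succ n ih =>
      have hc : Commute b (u ^ n) := (show Commute b u from hbu).pow_right n
      calc b ^ (n + 1) * a * (b ^ (n + 1))⁻¹ = b * (b ^ n * a * (b ^ n)⁻¹) * b⁻¹ := by
            rw [pow_succ']; group
        _ = (b * u ^ n) * a * b⁻¹ := by rw [ih]; group
        _ = u ^ n * (b * a * b⁻¹) := by rw [hc.eq]; group
        _ = u ^ (n + 1) * a := by rw [h, pow_succ]; group
  have h1 := key 5
  rw [h5, show u ^ 5 = u * u * (u * u) * u by simp [pow_succ, mul_assoc], hu] at h1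
  simp only [one_mul, inv_one, mul_one] at h1
  have hu1 : u = 1 := right_eq_mul.mp h1
  rw [hu1, one_mul] at h
  exact mul_inv_eq_iff_eq_mul.mp h

section general

variable {Q Q' : Subgroup G} {z t : G} {ν : G → M6} {d : G} {ρ : ↥(Sx z t) →* P8}
  (D : Ctx Q Q' z t ν d ρ)
include D

theorem R_four {c : ↥(Sx z t)} (h : ρ c = 1) : c ^ 4 = 1 :=
  Subtype.ext (by simpa using D.P.R_pow (D.rho_R.mp h))

theorem order_rho {c : ↥(Sx z t)} (hc : orderOf c = 5) : orderOf (ρ c) = 5 := by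
  have h := orderOf_map_dvd ρ c
  rw [hc] at h
  rcases (Nat.dvd_prime (by norm_num)).mp h with h1 | h1
  · exfalso
    have := orderOf_dvd_of_pow_eq_one (R_four D (orderOf_eq_one_iff.mp h1))
    rw [hc] at this
    norm_num at this
  · exact h1

/-- Two elements of order dividing five with the same image are conjugate by an element of `R`. -/
theorem conj_of_rho_eq {x y : ↥(Sx z t)} (hx : x ^ 5 = 1) (hy : y ^ 5 = 1) (h : ρ x = ρ y) :
    ∃ g : ↥(Sx z t), ρ g = 1 ∧ g⁻¹ * x * g = y := by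
  have hm : ∀ g : ↥ρ.ker, x * (g : ↥(Sx z t)) * y⁻¹ ∈ ρ.ker := fun g => by
    rw [MonoidHom.mem_ker, map_mul, map_mul, map_inv, (MonoidHom.mem_ker).mp g.2, mul_one, h,
      mul_inv_cancel]
  have hm' : ∀ g : ↥ρ.ker, x⁻¹ * (g : ↥(Sx z t)) * y ∈ ρ.ker := fun g => by
    rw [MonoidHom.mem_ker, map_mul, map_mul, map_inv, (MonoidHom.mem_ker).mp g.2, mul_one, h,
      inv_mul_cancel]
  let π : Equiv.Perm ↥ρ.ker :=
    { toFun := fun g => ⟨_, hm g⟩
      invFun := fun g => ⟨_, hm' g⟩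
      left_inv := fun g => Subtype.ext (by dsimp; group)
      right_inv := fun g => Subtype.ext (by dsimp; group) }
  have hpow : ∀ (n : ℕ) (g : ↥ρ.ker), (((π ^ n) g : ↥ρ.ker) : ↥(Sx z t)) = x ^ n * g * (y ^ n)⁻¹ := by
    intro n
    induction n with
    | zero => intro g; simp
    | succ n ih =>
      intro g
      rw [pow_succ' π, Equiv.Perm.mul_apply]
      show x * (((π ^ n) g : ↥ρ.ker) : ↥(Sx z t)) * y⁻¹ = _
      rw [ih, pow_succ' x, pow_succ' y]; group
  obtain ⟨g, hg⟩ := exists_fixed π (Equiv.ext fun g => Subtype.ext (by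
    rw [hpow 5 g, hx, hy]; simp)) (by rw [D.card_ker]; norm_num)
  refine ⟨g, MonoidHom.mem_ker.mp g.2, ?_⟩
  have : x * (g : ↥(Sx z t)) * y⁻¹ = g := congrArg Subtype.val hg
  rw [mul_inv_eq_iff_eq_mul] at this
  rw [mul_assoc, this, inv_mul_cancel_left]

/-- An element of order five gives standard data. -/
theorem exists_std (b : ↥(Sx z t)) (hb : orderOf b = 5) :
    ∃ ν' d' ρ', Std Q Q' z t ν' d' ρ' b := by
  classical
  obtain ⟨τ, -, hτ⟩ := exists_even_conj (order_rho D hb)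
  have hb5 : (b : G) ^ 5 = 1 := by
    have := congrArg Subtype.val (pow_orderOf_eq_one b)
    rw [hb] at this
    simpa using this
  obtain ⟨hbz, hbt⟩ := mem_Sx.mp b.2
  -- a fixed element outside the centraliser of `t`
  let X := {x : G // x ∈ Q ∧ x * t * x⁻¹ = z * t}
  have hstep : ∀ g : G, g * z = z * g → g * t = t * g → ∀ x : X,
      g * x.1 * g⁻¹ ∈ Q ∧ (g * x.1 * g⁻¹) * t * (g * x.1 * g⁻¹)⁻¹ = z * t := by
    intro g hgz hgt x
    refine ⟨D.H.h.norm g hgz x.1 x.2.1, ?_⟩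
    have e1 : g⁻¹ * t * g = t := by rw [mul_assoc, ← hgt, inv_mul_cancel_left]
    calc g * x.1 * g⁻¹ * t * (g * x.1 * g⁻¹)⁻¹ = g * (x.1 * (g⁻¹ * t * g) * x.1⁻¹) * g⁻¹ := by group
      _ = (g * z) * t * g⁻¹ := by rw [e1, x.2.2]; group
      _ = z * (g * t) * g⁻¹ := by rw [hgz]; group
      _ = z * t := by rw [hgt]; group
  have hbzi : (b : G)⁻¹ * z = z * (b : G)⁻¹ := (show Commute (b : G) z from hbz).inv_left.eq
  have hbti : (b : G)⁻¹ * t = t * (b : G)⁻¹ := (show Commute (b : G) t from hbt).inv_left.eq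
  let π : Equiv.Perm X :=
    { toFun := fun x => ⟨_, hstep b hbz hbt x⟩
      invFun := fun x => ⟨_, hstep (b : G)⁻¹ hbzi hbti x⟩
      left_inv := fun x => Subtype.ext (by dsimp; group)
      right_inv := fun x => Subtype.ext (by dsimp; group) }
  have hpow : ∀ (n : ℕ) (x : X), ((π ^ n) x).1 = (b : G) ^ n * x.1 * ((b : G) ^ n)⁻¹ := by
    intro n
    induction n with
    | zero => intro x; simp
    | succ n ih =>
      intro x
      rw [pow_succ' π, Equiv.Perm.mul_apply]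
      show (b : G) * ((π ^ n) x).1 * (b : G)⁻¹ = _
      rw [ih, pow_succ' (b : G)]; group
  have hcard : Nat.card X = 256 := by
    rw [← D.H.card_Cx D.sing.1 D.sing.2.2.1 D.sing.2.2.2]
    refine (Nat.card_congr
      { toFun := fun (a : ↥(Cx Q t)) => (⟨d * a, Q.mul_mem D.hd (mem_Cx.mp a.2).1, ?_⟩ : X)
        invFun := fun (x : X) => ⟨d⁻¹ * x.1, mem_Cx.mpr ⟨Q.mul_mem (Q.inv_mem D.hd) x.2.1, ?_⟩⟩
        left_inv := fun a => Subtype.ext (by dsimp; group)
        right_inv := fun x => Subtype.ext (by dsimp; group) }).symm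
    · have e : (a : G) * t * (a : G)⁻¹ = t := mul_inv_eq_iff_eq_mul.mpr (mem_Cx.mp a.2).2
      calc d * a * t * (d * a)⁻¹ = d * ((a : G) * t * (a : G)⁻¹) * d⁻¹ := by group
        _ = z * t := by rw [e, D.ed]
    · refine mul_inv_eq_iff_eq_mul.mp (D.H.h.mul_fix (Q.inv_mem D.hd) ?_ x.2.2)
      refine (D.H.h.not_comm_iff D.sing.1 (Q.inv_mem D.hd)).mp fun e => ?_
      have hcm : Commute d t := by simpa using (show Commute d⁻¹ t from e).inv_left
      exact (D.H.h.not_comm_iff D.sing.1 D.hd).mpr D.ed hcm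
  obtain ⟨x, hx⟩ := exists_fixed π (Equiv.ext fun x => Subtype.ext (by rw [hpow 5 x, hb5]; simp))
    (by rw [hcard]; norm_num)
  have hbx : (b : G) * x.1 = x.1 * b :=
    mul_inv_eq_iff_eq_mul.mp (congrArg Subtype.val hx)
  -- new coordinates
  refine ⟨fun g => act τ⁻¹ (ν g), x.1, (MulAut.conj τ⁻¹).toMonoidHom.comp ρ, ?_, hb, ?_, hbx⟩
  · refine ⟨D.H, D.H', D.P, ⟨?_, ?_, ?_, ?_⟩, x.2.1, x.2.2, ?_, D.conj, D.tz⟩
    · intro a ha c hc
      rw [D.K.add a ha c hc, act_add]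
    · intro w
      obtain ⟨a, ha, e⟩ := D.K.surj (act τ w)
      exact ⟨a, ha, by rw [e, act_inv_act]⟩
    · intro a ha
      rw [← D.K.ker a ha]
      refine ⟨fun e => ?_, fun e => by rw [e, act_zero]⟩
      have := congrArg (act τ) e
      rwa [← act_mul, mul_inv_cancel, act_one, act_zero] at this
    · intro a ha
      rw [f_act, D.K.sq a ha]
    · intro c a ha
      show act (τ⁻¹ * ρ c * τ⁻¹⁻¹) (act τ⁻¹ (ν a)) = _
      rw [← act_mul, inv_inv, mul_assoc, mul_inv_cancel, mul_one, act_mul, D.hρ c a ha]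
  · show τ⁻¹ * ρ b * τ⁻¹⁻¹ = s5
    rw [← hτ]; group

end general

variable {Q Q' : Subgroup G} {z t : G} {ν : G → M6} {d : G} {ρ : ↥(Sx z t) →* P8}
  {b : ↥(Sx z t)} (S : Std Q Q' z t ν d ρ b)
include S

theorem b_five : (b : G) ^ 5 = 1 := by
  have := congrArg Subtype.val (pow_orderOf_eq_one b)
  rw [S.ob] at this
  simpa using this

theorem d_Rb : d ∈ Rb Q (b : G) := mem_Rb.mpr ⟨S.D.hd, S.bd.symm⟩

theorem b_U {u : G} (hu : InU z t u) : (b : G) * u = u * (b : G) := S.D.H.U_comm S.D.sing hu b.2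

/-- Elements of `C_Q(t)` centralised by `b`. -/
theorem cx_comm_iff {a : G} (ha : a ∈ Cx Q t) : a * (b : G) = b * a ↔ ∃ i, ν a = fx i := by
  rw [← fix_iff]
  have hρ := S.D.hρ b a ha
  rw [S.rb] at hρ
  refine ⟨fun h => by rw [hρ, ← h, mul_inv_cancel_right], fun h => ?_⟩
  set u := (b : G) * a * (b : G)⁻¹ * a⁻¹ with hu
  have hconj := S.D.H.conj_Cx b.2 ha
  have hU : InU z t u := by
    refine (S.D.K.ker _ (mul_mem hconj (inv_mem ha))).mp ?_
    rw [S.D.K.add _ hconj _ (inv_mem ha), ← hρ, h, S.D.H.nu_inv S.D.sing S.D.K ha, add_self]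
  exact (fixed_of_moved (b_five S) (S.D.H.U_inv S.D.sing hU).1 (b_U S hU) (by rw [hu]; group)).symm

theorem exists_fx (i : Fin 4) : ∃ a ∈ Cx Q t, a * (b : G) = b * a ∧ ν a = fx i := by
  obtain ⟨a, ha, e⟩ := S.D.K.surj (fx i)
  exact ⟨a, ha, (cx_comm_iff S ha).mpr ⟨i, e⟩, e⟩

/-- Elements of the other side centralised by `b`. -/
theorem c'_comm_iff {c : G} (hc : c ∈ Cx Q' z) : c * (b : G) = b * c ↔ ∃ i, ev ν d c = fx i := by
  rw [← fix_iff]
  have hev := S.D.ev_conj (c := b) hc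
  rw [S.rb] at hev
  refine ⟨fun h => by rw [← hev, ← h, mul_inv_cancel_right], fun h => ?_⟩
  have hconj := S.D.conj_C' b.2 hc
  set u := (b : G) * c * (b : G)⁻¹ * c⁻¹ with hu
  have hV : u ∈ S.D.P.V := by
    refine (S.D.ev_eq_zero (mul_mem hconj (inv_mem hc))).mp ?_
    rw [S.D.ev_mul (S.D.triv_of_R (S.D.C'_le_R hconj)) (S.D.C'_le_Sx (inv_mem hc)),
      S.D.ev_inv hc, hev, h, add_self]
  have hU : InU z t u := S.D.inU_iff.mpr hV
  exact (fixed_of_moved (b_five S) (S.D.H.U_inv S.D.sing hU).1 (b_U S hU) (by rw [hu]; group)).symm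

theorem exists_shift (i : Fin 4) : ∃ c ∈ Cx Q' z, c * (b : G) = b * c ∧ ev ν d c = fx i := by
  obtain ⟨c, hc, e⟩ := S.D.ev_surj (fx i)
  exact ⟨c, hc, (c'_comm_iff S hc).mpr ⟨i, e⟩, e⟩

/-- Lifting the centraliser of the five-cycle. -/
theorem exists_lift {σ : P8} (hσ : Equiv.Perm.sign σ = 1) (hc : σ * s5 = s5 * σ) :
    ∃ c : ↥(Sx z t), ρ c = σ ∧ c * b = b * c := by
  obtain ⟨c, hc'⟩ := S.D.exists_rho_eq hσ
  have h5 : b ^ 5 = 1 := by rw [← S.ob]; exact pow_orderOf_eq_one b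
  obtain ⟨g, hg, e⟩ := conj_of_rho_eq S.D (x := c * b * c⁻¹) (y := b)
    (by rw [conj_pow, h5, mul_one, mul_inv_cancel]) h5
    (by rw [map_mul, map_mul, map_inv, hc', S.rb, hc, mul_inv_cancel_right])
  refine ⟨g⁻¹ * c, by rw [map_mul, map_inv, hg, inv_one, one_mul, hc'], ?_⟩
  calc g⁻¹ * c * b = (g⁻¹ * (c * b * c⁻¹) * g) * (g⁻¹ * c) := by group
    _ = b * (g⁻¹ * c) := by rw [e]

/-- Elements of order five of `Sx z t` are conjugate to `b`. -/
theorem conj_to_b {y : ↥(Sx z t)} (hy : orderOf y = 5) : ∃ c : ↥(Sx z t), c * y * c⁻¹ = b := by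
  obtain ⟨τ, hs, hτ⟩ := exists_even_conj (order_rho S.D hy)
  obtain ⟨c, hc⟩ := S.D.exists_rho_eq hs
  have h5 : b ^ 5 = 1 := by rw [← S.ob]; exact pow_orderOf_eq_one b
  have hy5 : y ^ 5 = 1 := by rw [← hy]; exact pow_orderOf_eq_one y
  obtain ⟨g, -, e⟩ := conj_of_rho_eq S.D (x := c⁻¹ * y * c⁻¹⁻¹) (y := b)
    (by rw [conj_pow, hy5, mul_one, mul_inv_cancel]) h5
    (by simp only [map_mul, map_inv, hc, S.rb, ← hτ]; group)
  exact ⟨g⁻¹ * c⁻¹, by rw [← e]; group⟩

end Cfsg.Agent.ConwayFiveStd30
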