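import Cfsg.Agent.Lib.LeechRepMod50
import Cfsg.Agent.Lib.CenSplitStableP50

/-!
Checking the stable class certificates inside the automorphism group of the lattice, with matrices
modulo five.
-/

set_option autoImplicit false

namespace Cfsg.Agent.ConwayMult50

open Cfsg Cfsg.Agent.GolayBasic Cfsg.Agent.LeechCert Cfsg.Agent.LeechOutTool
open Cfsg.Agent.LeechRepMod50
open Cfsg.Agent.CenSplitStableP50 (Cert P P_nil P_cons)
open Cfsg.Agent.SplitVoltageCert (Tr get B dle)
open Subgroup
open scoped Matrix

/-- the data for one prime -/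
structure Data where
  C : Cert
  yW : List (List Step)
  xW : List (List Step)
  yM : List (List ℕ)
  xM : List (List ℕ)
  sep : List (ℕ × Tr × List Tr)

/-- the identity matrix -/
noncomputable def idM : List ℕ := matW []

/-- product along a word -/
noncomputable def prodM (M : List (List ℕ)) (w : List ℕ) : List ℕ :=
  w.foldl (fun acc a => mulM acc (M.getD a [])) idM

/-- matrices of words -/
noncomputable def wordsOK (W : List (List Step)) (M : List (List ℕ)) : Bool :=
  (List.range W.length).all fun i =>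
    decide (i < M.length) && wordValid (W.getD i []) && okM (M.getD i []) &&
      (matW (W.getD i []) == M.getD i [])

namespace Data

variable (D : Data)

/-- letters are in range -/
noncomputable def rangeOK : Bool :=
  decide (D.C.n = D.yW.length) && D.C.rels.all (fun l => (l.1 ++ l.2).all fun a => decide (a < D.C.n)) &&
    D.C.pairs.all fun l => decide (l.1 < D.xW.length) &&
      (l.2.1 ++ l.2.2).all fun a => decide (a < D.C.n)

/-- relations hold -/
noncomputable def relsOK : Bool :=
  (D.C.rels.all fun l => prodM D.yM l.1 == prodM D.yM l.2) &&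
    D.C.pairs.all fun l =>
      mulM (D.xM.getD l.1 []) (prodM D.yM l.2.1) == mulM (prodM D.yM l.2.2) (D.xM.getD l.1 [])

/-- separation -/
noncomputable def sepOK : Bool :=
  (List.range D.C.n).all fun i =>
    let e := D.sep.getD i (0, .lf 0, [])
    decide (0 < e.1) && (List.range e.1).all fun k =>
      dle 24 4 (get e.2.1 k) &&
      diffP 24 (red 24 (comb (D.yM.getD i []) (get e.2.1 0))) (get e.2.1 k) &&
      (List.range (D.C.n - (i + 1))).all fun t =>
        let m := get (e.2.2.getD t (.lf 0)) k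
        decide (m < e.1) &&
          (red 24 (comb (D.yM.getD (i + 1 + t) []) (get e.2.1 k)) == get e.2.1 m)

end Data

theorem dle_red : ∀ (k x : ℕ), dle k 4 (red k x) = true
  | 0, _ => rfl
  | k + 1, x => by
    have hlt : x % B % 5 < B := lt_of_lt_of_le (Nat.mod_lt _ (by norm_num)) (by norm_num [B])
    show (decide ((x % B % 5 + B * red k (x / B)) % B ≤ 4) &&
      dle k 4 ((x % B % 5 + B * red k (x / B)) / B)) = true
    rw [Nat.add_mul_mod_self_left, Nat.mod_eq_of_lt hlt, Nat.add_mul_div_left _ _ (by norm_num [B]),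
      Nat.div_eq_of_lt hlt, zero_add, dle_red k, Bool.and_true, decide_eq_true_eq]
    exact Nat.lt_succ_iff.1 (Nat.mod_lt _ (by norm_num))

theorem okM_mul (A : List ℕ) {C : List ℕ} (hC : okM C = true) : okM (mulM A C) = true := by
  simp only [okM, mulM, Bool.and_eq_true, beq_iff_eq, List.all_eq_true, List.length_map] at hC ⊢
  exact ⟨hC.1, fun x hx => by
    obtain ⟨y, -, rfl⟩ := List.mem_map.1 hx
    exact dle_red _ _⟩

theorem idM_ok : okM idM = true := by decide +kernel

theorem prodM_spec {H : Type*} [Group H] (f : H →* Matrix GolayPt GolayPt (ZMod 5))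
    (y : ℕ → H) (M : List (List ℕ)) :
    ∀ w : List ℕ, (∀ a ∈ w, f (y a) = toM (M.getD a []) ∧ okM (M.getD a []) = true) →
      ∀ (g : H) (A : List ℕ), f g = toM A → okM A = true →
      f (g * P y w) = toM (w.foldl (fun acc a => mulM acc (M.getD a [])) A) ∧
        okM (w.foldl (fun acc a => mulM acc (M.getD a [])) A) = true
  | [], _, g, A, hg, hA => by rw [P_nil, mul_one, List.foldl_nil]; exact ⟨hg, hA⟩
  | a :: w, hw, g, A, hg, hA => by
    obtain ⟨h1, h2⟩ := hw a List.mem_cons_self
    rw [P_cons, ← mul_assoc, List.foldl_cons]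
    exact prodM_spec f y M w (fun b hb => hw b (List.mem_cons_of_mem _ hb)) _ _
      (by rw [map_mul, hg, h1, toM_mul hA h2]) (okM_mul A h2)

/-- a chain whose members are separated has full order -/
theorem card_ge {H : Type*} [Group H] [Finite H] (C : Cert) (hp : C.p.Prime)
    (hS : C.shapeOK = true) (y : ℕ → H)
    (hrel : ∀ r < C.rels.length,
      P y (C.rels.getD r ([], [])).1 = P y (C.rels.getD r ([], [])).2)
    (hsep : ∀ i < C.n, y i ∉ closure (y '' Set.Ico (i + 1) C.n)) :
    C.p ^ C.n ≤ Nat.card (closure (y '' Set.Iio C.n)) := by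
  have main : ∀ d ≤ C.n, C.p ^ d ≤ Nat.card (closure (y '' Set.Ico (C.n - d) C.n)) := by
    intro d
    induction d with
    | zero =>
      intro _
      rw [pow_zero]
      exact Nat.card_pos
    | succ d ih =>
      intro hd
      have hi : C.n - d = C.n - (d + 1) + 1 := by omega
      generalize hI : C.n - (d + 1) = i at hi ⊢
      have hu : y i ∉ closure (y '' Set.Ico (C.n - d) C.n) := hi ▸ hsep i (by omega)
      set K := closure (y '' Set.Ico (C.n - d) C.n) with hK
      have hKle : K ≤ closure (y '' Set.Ico i C.n) :=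
        closure_mono (Set.image_mono (Set.Ico_subset_Ico_left (by omega)))
      have huK : y i ∈ closure (y '' Set.Ico i C.n) :=
        subset_closure ⟨i, ⟨le_rfl, by omega⟩, rfl⟩
      have hup : y i ^ C.p ∈ K := by
        simp only [Cert.shapeOK, List.all_eq_true, List.mem_range, Bool.and_eq_true,
          decide_eq_true_eq] at hS
        obtain ⟨hr, hw⟩ := hS i (by omega) i (Nat.lt_succ_self i)
        have e := hrel _ hr
        simp only [BEq.rfl, if_true, Bool.and_eq_true, beq_iff_eq] at hw
        rw [hw.1] at e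
        have : P y (List.replicate C.p i) = y i ^ C.p := by
          simp [P, List.map_replicate, List.prod_replicate]
        rw [← this, e]
        refine Subgroup.list_prod_mem _ fun g hg => ?_
        obtain ⟨a, ha, rfl⟩ := List.mem_map.1 hg
        have := List.all_eq_true.1 hw.2 a ha
        simp only [decide_eq_true_eq] at this
        exact subset_closure ⟨a, ⟨by omega, this.2⟩, rfl⟩
      let T : Fin C.p × K → closure (y '' Set.Ico i C.n) := fun x =>
        ⟨y i ^ (x.1 : ℕ) * (x.2 : H), mul_mem (pow_mem huK _) (hKle x.2.2)⟩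
      have key : ∀ a b : Fin C.p, (a : ℕ) < b → (y i ^ (a : ℕ))⁻¹ * y i ^ (b : ℕ) ∉ K := by
        intro a b hab hm
        rw [← zpow_natCast, ← zpow_natCast, ← zpow_neg, ← zpow_add] at hm
        rw [show (-((a : ℕ) : ℤ) + ((b : ℕ) : ℤ)) = (((b : ℕ) - a : ℕ) : ℤ) by omega,
          zpow_natCast] at hm
        have hcop : Nat.Coprime ((b : ℕ) - a) C.p :=
          (hp.coprime_iff_not_dvd.2 fun h => by
            have := Nat.le_of_dvd (by omega) h
            have := b.2
            omega).symm
        obtain ⟨m, n, hmn⟩ := (Int.isCoprime_iff_nat_coprime (a := (((b : ℕ) - a : ℕ) : ℤ))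
          (b := (C.p : ℤ))).2 (by simpa using hcop)
        refine hu ?_
        have : y i = (y i ^ ((b : ℕ) - a)) ^ m * (y i ^ C.p) ^ n := by
          rw [← zpow_natCast, ← zpow_natCast, ← zpow_mul, ← zpow_mul, ← zpow_add,
            mul_comm _ m, mul_comm _ n, hmn, zpow_one]
        rw [this]
        exact mul_mem (zpow_mem hm m) (zpow_mem hup n)
      have hT : Function.Injective T := by
        rintro ⟨a, h⟩ ⟨b, k⟩ e
        have e' : y i ^ (a : ℕ) * (h : H) = y i ^ (b : ℕ) * (k : H) := congrArg Subtype.val e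
        rcases lt_trichotomy (a : ℕ) b with hab | hab | hab
        · refine absurd ?_ (key a b hab)
          have : (y i ^ (a : ℕ))⁻¹ * y i ^ (b : ℕ) = (h : H) * (k : H)⁻¹ := by
            rw [eq_mul_inv_iff_mul_eq, mul_assoc, ← e', inv_mul_cancel_left]
          rw [this]; exact mul_mem h.2 (inv_mem k.2)
        · obtain rfl := Fin.ext hab
          exact Prod.ext rfl (Subtype.ext (mul_left_cancel e'))
        · refine absurd ?_ (key b a hab)
          have : (y i ^ (b : ℕ))⁻¹ * y i ^ (a : ℕ) = (k : H) * (h : H)⁻¹ := by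
            rw [eq_mul_inv_iff_mul_eq, mul_assoc, e', inv_mul_cancel_left]
          rw [this]; exact mul_mem k.2 (inv_mem h.2)
      have hc := Nat.card_le_card_of_injective T hT
      rw [Nat.card_prod, Nat.card_fin] at hc
      rw [pow_succ']
      exact le_trans (Nat.mul_le_mul_left _ (ih (by omega))) hc
  have := main C.n le_rfl
  rwa [Nat.sub_self, show Set.Ico 0 C.n = Set.Iio C.n by ext; simp] at this

/-- The facts behind the criterion for a subgroup of the automorphism group of the lattice. -/
theorem facts_of_data {H : Type} [Group H] [Finite H] (ι : H →* Co0)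
    (hι : Function.Injective ι) (D : Data) (hp : D.C.p.Prime) (hS : D.C.shapeOK = true)
    (hY : wordsOK D.yW D.yM = true) (hX : wordsOK D.xW D.xM = true)
    (hR : D.rangeOK = true) (hrels : D.relsOK = true) (hsep : D.sepOK = true)
    (hmemY : ∀ w ∈ D.yW, El w ∈ ι.range) (hmemX : ∀ w ∈ D.xW, El w ∈ ι.range)
    {m : ℕ} (hcard : Nat.card H = D.C.p ^ D.C.n * m) :
    ∃ y x : ℕ → H,
      (∀ r < D.C.rels.length,
        P y (D.C.rels.getD r ([], [])).1 = P y (D.C.rels.getD r ([], [])).2) ∧
      (∀ k < D.C.pairs.length,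
        x (D.C.pairs.getD k (0, [], [])).1 * P y (D.C.pairs.getD k (0, [], [])).2.1 =
          P y (D.C.pairs.getD k (0, [], [])).2.2 * x (D.C.pairs.getD k (0, [], [])).1) ∧
      D.C.p ^ D.C.n ≤ Nat.card (closure (y '' Set.Iio D.C.n)) ∧
      (closure (y '' Set.Iio D.C.n)).index = m := by
  classical
  have hy : ∀ i, ∃ h : H, i < D.yW.length → ι h = El (D.yW.getD i []) := by
    intro i
    by_cases hi : i < D.yW.length
    · obtain ⟨h, hh⟩ := hmemY (D.yW.getD i [])
        (by rw [List.getD_eq_getElem (hn := hi)]; exact List.getElem_mem _)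
      exact ⟨h, fun _ => hh⟩
    · exact ⟨1, fun h => absurd h hi⟩
  have hx : ∀ i, ∃ h : H, i < D.xW.length → ι h = El (D.xW.getD i []) := by
    intro i
    by_cases hi : i < D.xW.length
    · obtain ⟨h, hh⟩ := hmemX (D.xW.getD i [])
        (by rw [List.getD_eq_getElem (hn := hi)]; exact List.getElem_mem _)
      exact ⟨h, fun _ => hh⟩
    · exact ⟨1, fun h => absurd h hi⟩
  choose y hy using hy
  choose x hx using hx
  let f : H →* Matrix GolayPt GolayPt (ZMod 5) := ρ.comp ι
  have hf : Function.Injective f := ρ_injective.comp hι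
  have hmat : ∀ (W : List (List Step)) (M : List (List ℕ)), wordsOK W M = true →
      ∀ i < W.length, ρ (El (W.getD i [])) = toM (M.getD i []) ∧ okM (M.getD i []) = true := by
    intro W M h i hi
    simp only [wordsOK, List.all_eq_true, List.mem_range, Bool.and_eq_true, beq_iff_eq] at h
    obtain ⟨⟨⟨-, h2⟩, h3⟩, h4⟩ := h i hi
    exact ⟨by rw [ρ_El h2, h4], h3⟩
  simp only [Data.rangeOK, Bool.and_eq_true, List.all_eq_true, decide_eq_true_eq] at hR
  obtain ⟨⟨hn, hR1⟩, hR2⟩ := hR
  have hyM : ∀ i < D.C.n, f (y i) = toM (D.yM.getD i []) ∧ okM (D.yM.getD i []) = true := by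
    intro i hi
    have := hmat _ _ hY i (hn ▸ hi)
    exact ⟨by show ρ (ι (y i)) = _; rw [hy i (hn ▸ hi)]; exact this.1, this.2⟩
  have hP : ∀ w : List ℕ, (∀ a ∈ w, a < D.C.n) →
      f (P y w) = toM (prodM D.yM w) ∧ okM (prodM D.yM w) = true := by
    intro w hw
    have := prodM_spec f y D.yM w (fun a ha => hyM a (hw a ha)) 1 idM
      (by rw [← map_one ι |>.trans El_nil.symm |> fun e => show ρ (ι 1) = toM idM by
        rw [e]; exact ρ_El rfl]; rfl) idM_ok
    rwa [one_mul] at this
  simp only [Data.relsOK, Bool.and_eq_true, List.all_eq_true, beq_iff_eq] at hrels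
  have hrel : ∀ r < D.C.rels.length,
      P y (D.C.rels.getD r ([], [])).1 = P y (D.C.rels.getD r ([], [])).2 := by
    intro r hr
    rw [List.getD_eq_getElem (hn := hr)]
    have hmem := List.getElem_mem hr
    have hw := hR1 _ hmem
    apply hf
    rw [(hP _ fun a ha => hw a (List.mem_append_left _ ha)).1,
      (hP _ fun a ha => hw a (List.mem_append_right _ ha)).1, hrels.1 _ hmem]
  have hpair : ∀ k < D.C.pairs.length,
      x (D.C.pairs.getD k (0, [], [])).1 * P y (D.C.pairs.getD k (0, [], [])).2.1 =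
        P y (D.C.pairs.getD k (0, [], [])).2.2 * x (D.C.pairs.getD k (0, [], [])).1 := by
    intro k hk
    rw [List.getD_eq_getElem (hn := hk)]
    have hmem := List.getElem_mem hk
    obtain ⟨hg, hw⟩ := hR2 _ hmem
    obtain ⟨x1, x2⟩ := hmat _ _ hX _ hg
    obtain ⟨q1, q2⟩ := hP _ fun a ha => hw a (List.mem_append_left _ ha)
    obtain ⟨r1, r2⟩ := hP _ fun a ha => hw a (List.mem_append_right _ ha)
    have xe : f (x (D.C.pairs[k]).1) = toM (D.xM.getD (D.C.pairs[k]).1 []) := by
      show ρ (ι _) = _
      rw [hx _ hg, x1]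
    apply hf
    rw [map_mul, map_mul, xe, q1, r1, ← toM_mul x2 q2, ← toM_mul r2 x2, hrels.2 _ hmem]
  have hge : D.C.p ^ D.C.n ≤ Nat.card (closure (y '' Set.Iio D.C.n)) := by
    refine card_ge D.C hp hS y hrel fun i hi hmem => ?_
    simp only [Data.sepOK, List.all_eq_true, List.mem_range, Bool.and_eq_true, decide_eq_true_eq,
      beq_iff_eq] at hsep
    obtain ⟨hN, hk⟩ := hsep i hi
    set e := D.sep.getD i (0, Tr.lf 0, []) with he
    let O : Set V5 := {v | ∃ k < e.1, v = vecP (get e.2.1 k)}
    have hclosed : ∀ g ∈ closure (y '' Set.Ico (i + 1) D.C.n), ∀ v ∈ O, f g *ᵥ v ∈ O := by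
      intro g hg
      rw [← Subgroup.mem_toSubmonoid, closure_toSubmonoid_of_finite] at hg
      induction hg using Submonoid.closure_induction with
      | one => intro v hv; rwa [map_one, Matrix.one_mulVec]
      | mul a b _ _ ha hb =>
        intro v hv
        rw [map_mul, ← Matrix.mulVec_mulVec]
        exact ha _ (hb v hv)
      | mem a ha =>
        obtain ⟨j, ⟨hj1, hj2⟩, rfl⟩ := ha
        rintro v ⟨k, hkN, rfl⟩
        obtain ⟨⟨hd, -⟩, ht⟩ := hk k hkN
        obtain ⟨hm, heq⟩ := ht (j - (i + 1)) (by omega)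
        rw [show i + 1 + (j - (i + 1)) = j by omega] at heq
        refine ⟨_, hm, ?_⟩
        rw [(hyM j hj2).1, ← vecP_comb (hyM j hj2).2 hd, heq]
    obtain ⟨k, hkN, hkv⟩ := hclosed _ hmem _ ⟨0, hN, rfl⟩
    obtain ⟨⟨-, hne⟩, -⟩ := hk k hkN
    obtain ⟨⟨hd0, -⟩, -⟩ := hk 0 hN
    rw [(hyM i hi).1, ← vecP_comb (hyM i hi).2 hd0] at hkv
    exact vecP_ne hne hkv
  refine ⟨y, x, hrel, hpair, hge, ?_⟩
  have hle := CenSplitStableP50.card_chain D.C hp.pos hS y hrel
  have h3 := (closure (y '' Set.Iio D.C.n)).card_mul_index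
  rw [hcard, le_antisymm hle hge] at h3
  exact Nat.eq_of_mul_eq_mul_left (pow_pos hp.pos _) h3

/-- The criterion for a subgroup of the automorphism group of the lattice. -/
theorem censplit_of_data {H : Type} [Group H] [Finite H] (ι : H →* Co0)
    (hι : Function.Injective ι) (D : Data) (hp : D.C.p.Prime) (hS : D.C.shapeOK = true)
    (hC : D.C.combOK = true) (hY : wordsOK D.yW D.yM = true) (hX : wordsOK D.xW D.xM = true)
    (hR : D.rangeOK = true) (hrels : D.relsOK = true) (hsep : D.sepOK = true)
    (hmemY : ∀ w ∈ D.yW, El w ∈ ι.range) (hmemX : ∀ w ∈ D.xW, El w ∈ ι.range)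
    {m : ℕ} (hcard : Nat.card H = D.C.p ^ D.C.n * m) (hm : ¬ D.C.p ∣ m) :
    SplitVoltage.CenSplit D.C.p H := by
  obtain ⟨y, x, hrel, hpair, hge, hidx⟩ :=
    facts_of_data ι hι D hp hS hY hX hR hrels hsep hmemY hmemX hcard
  exact CenSplitStableP50.censplit_of_cert D.C hp hS hC y x hrel hpair hge (hidx ▸ hm)

/-- a certificate over the field with two elements, seen as a general one without equations -/
def shadow (C : CenSplitStable50.Cert) : Cert :=
  ⟨2, C.n, C.fuel, C.rels, C.pairs, [], [], [], []⟩

theorem shadow_shape (C : CenSplitStable50.Cert) (h : C.shapeOK = true) :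
    (shadow C).shapeOK = true := by
  simp only [CenSplitStable50.Cert.shapeOK, CenSplitStableP50.Cert.shapeOK, shadow,
    List.all_eq_true, List.mem_range, Bool.and_eq_true, decide_eq_true_eq] at h ⊢
  intro t ht i hi
  obtain ⟨⟨h1, h2⟩, h3⟩ := h t ht i hi
  refine ⟨decide_eq_true h1, ?_⟩
  by_cases hit : i = t
  · subst hit
    simp only [BEq.rfl, if_true, Bool.and_eq_true] at h3 ⊢
    exact ⟨h2, h3⟩
  · simp only [beq_iff_eq, if_neg hit, Bool.and_eq_true] at h3 ⊢
    exact ⟨by simpa using h2, h3⟩

/-- The criterion with a certificate over the field with two elements. -/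
theorem censplit_two_of_data {H : Type} [Group H] [Finite H] (ι : H →* Co0)
    (hι : Function.Injective ι) (C : CenSplitStable50.Cert) (D : Data) (hD : D.C = shadow C)
    (hS : C.shapeOK = true) (hC : C.combOK = true)
    (hY : wordsOK D.yW D.yM = true) (hX : wordsOK D.xW D.xM = true)
    (hR : D.rangeOK = true) (hrels : D.relsOK = true) (hsep : D.sepOK = true)
    (hmemY : ∀ w ∈ D.yW, El w ∈ ι.range) (hmemX : ∀ w ∈ D.xW, El w ∈ ι.range)
    {m : ℕ} (hcard : Nat.card H = 2 ^ C.n * m) (hm : ¬ 2 ∣ m) :
    SplitVoltage.CenSplit 2 H := by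
  obtain ⟨y, x, hrel, hpair, hge, hidx⟩ := facts_of_data ι hι D (hD ▸ Nat.prime_two)
    (hD ▸ shadow_shape C hS) hY hX hR hrels hsep hmemY hmemX (m := m) (by rw [hD]; exact hcard)
  rw [hD] at hrel hpair hge hidx
  exact CenSplitStable50.censplit_of_cert C hS hC y x hrel hpair hge
    (by
      show Odd (closure (y '' Set.Iio (shadow C).n)).index
      rw [hidx]; exact Nat.odd_iff.2 (by omega))

end Cfsg.Agent.ConwayMult50
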