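import Cfsg.Agent.Lib.ConwayThreeStd24

/-!
# The six-dimensional minus space on the centraliser in `Q` of an element of order three
-/

set_option autoImplicit false
set_option linter.unusedSectionVars false

namespace Cfsg.Agent.ConwayThreeCoord24

open Subgroup Cfsg.Agent.LargeExtraspecial
open Cfsg.Agent.ConwayTypeModel62 Cfsg.Agent.ConwayTypeCoord62 Cfsg.Agent.ConwayTypeRadical62
open Cfsg.Agent.ConwayThreeFacts24 Cfsg.Agent.ConwayThreeStd24

variable {G : Type*} [Group G] [Finite G]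

/-- The commutator pairing. -/
noncomputable def cb (u q : G) : ZMod 2 :=
  haveI := Classical.propDecidable (u * q = q * u)
  if u * q = q * u then 0 else 1

theorem cb_eq_zero {u q : G} : cb u q = 0 ↔ u * q = q * u := by
  unfold cb
  split_ifs with h <;> simp [h]

theorem cb_symm (u q : G) : cb u q = cb q u := by
  rcases two_eq (cb u q) with e | e <;> rcases two_eq (cb q u) with e' | e' <;> rw [e, e'] <;>
    exfalso
  · rw [cb_eq_zero.mpr (cb_eq_zero.mp e).symm] at e'; exact zero_ne_one e'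
  · rw [cb_eq_zero.mpr (cb_eq_zero.mp e').symm] at e; exact zero_ne_one e

theorem zp_comm {g h : G} (hgh : g * h = h * g) (i j : ZMod 2) :
    zp g i * zp h j = zp h j * zp g i := by
  rcases two_eq i with rfl | rfl <;> rcases two_eq j with rfl | rfl <;>
    simp [zp_zero, zp_one, hgh]

theorem zp_mem {K : Subgroup G} {g : G} (hg : g ∈ K) (i : ZMod 2) : zp g i ∈ K := by
  rcases two_eq i with rfl | rfl
  · rw [zp_zero]; exact one_mem K
  · rw [zp_one]; exact hg

section pairing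

variable {Q : Subgroup G} {z : G} (h : Ext Q z)
include h

theorem cb_spec {u q : G} (hu : u ∈ Q) (hq : q ∈ Q) : u * q * u⁻¹ = zp z (cb u q) * q := by
  rcases h.conj u hu q hq with e | e
  · rw [cb_eq_zero.mpr (mul_inv_eq_iff_eq_mul.mp e), zp_zero, one_mul, e]
  · rcases two_eq (cb u q) with e' | e'
    · exact absurd (e.symm.trans (mul_inv_eq_iff_eq_mul.mpr (cb_eq_zero.mp e'))) (h.z_mul_ne q)
    · rw [e', zp_one, e]

theorem cb_mul {u q r : G} (hu : u ∈ Q) (hq : q ∈ Q) (hr : r ∈ Q) :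
    cb u (q * r) = cb u q + cb u r := by
  refine zp_inj h.ne_one (mul_right_cancel (b := q * r) ?_)
  rw [← cb_spec h hu (Q.mul_mem hq hr), zp_add h.zz]
  calc u * (q * r) * u⁻¹ = (u * q * u⁻¹) * (u * r * u⁻¹) := by group
    _ = zp z (cb u q) * (q * zp z (cb u r)) * r := by
      rw [cb_spec h hu hq, cb_spec h hu hr]; group
    _ = _ := by
      rw [(show q * zp z (cb u r) = zp z (cb u r) * q by
        simpa [zp_one] using zp_comm (h.comm q hq) 1 (cb u r))]
      group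

theorem cb_zp {u g : G} (i : ZMod 2) : cb u (zp g i) = i * cb u g := by
  rcases two_eq i with rfl | rfl
  · rw [zp_zero, zero_mul, cb_eq_zero.mpr (by rw [mul_one, one_mul])]
  · rw [zp_one, one_mul]

theorem zp_central {q : G} (hq : q ∈ Q) (i : ZMod 2) : zp z i * q = q * zp z i := by
  simpa [zp_one] using zp_comm (h.comm q hq).symm i 1

theorem pair_sq {g k : G} (hg : g ∈ Q) (hk : k ∈ Q) {sg sk : ZMod 2} (hgg : g * g = zp z sg)
    (hkk : k * k = zp z sk) (hgk : cb g k = 1) (i j : ZMod 2) :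
    zp g i * zp k j * (zp g i * zp k j) = zp z (i * sg + j * sk + i * j) := by
  rcases two_eq i with rfl | rfl <;> rcases two_eq j with rfl | rfl
  · simp [zp_zero]
  · simp [zp_zero, zp_one, hkk]
  · simp [zp_zero, zp_one, hgg]
  · have e := cb_spec h hg hk
    rw [hgk, zp_one] at e
    simp only [zp_one, one_mul]
    calc g * k * (g * k) = (g * k * g⁻¹) * (g * g) * k := by group
      _ = z * (k * zp z sg) * k := by rw [e, hgg]; group
      _ = z * zp z sg * (k * k) := by rw [← zp_central h hk sg]; group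
      _ = zp z 1 * zp z sg * zp z sk := by rw [hkk, zp_one]
      _ = zp z (sg + sk + 1) := by
        rw [← zp_add h.zz, ← zp_add h.zz]; congr 1; abel

end pairing

/-- Six elements of `C_Q(x)` with the standard products. -/
structure Six (Q : Subgroup G) (z x t d a b p q : G) : Prop where
  H : Hyp Q z
  xz : x * z = z * x
  ht : t ∈ CQ Q x
  hd : d ∈ CQ Q x
  ha : a ∈ CQ Q x
  hb : b ∈ CQ Q x
  hp : p ∈ CQ Q x
  hq : q ∈ CQ Q x
  tt : t * t = 1
  dd : d * d = 1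
  aa : a * a = 1
  bb : b * b = 1
  pp : p * p = z
  qq : q * q = z
  td : cb t d = 1
  ab : cb a b = 1
  pq : cb p q = 1
  ta : cb t a = 0
  tb : cb t b = 0
  tp : cb t p = 0
  tq : cb t q = 0
  da : cb d a = 0
  db : cb d b = 0
  dp : cb d p = 0
  dq : cb d q = 0
  ap : cb a p = 0
  aq : cb a q = 0
  bp : cb b p = 0
  bq : cb b q = 0
  nondeg : ∀ c ∈ CQ Q x, cb t c = 0 → cb d c = 0 → cb a c = 0 → cb b c = 0 → cb p c = 0 →
    cb q c = 0 → c = 1 ∨ c = z

theorem exists_six {Q Q' : Subgroup G} {z t : G} {ν : G → M6} {d : G} {ρ : ↥(Sx z t) →* P8}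
    {x : ↥(Sx z t)} (S : Std Q Q' z t ν d ρ x) :
    ∃ a b p q, Six Q z (x : G) t d a b p q := by
  have hQ := S.D.H.h.toExt
  have hxt : (x : G) * t = t * x := xt S
  have hdt : cb d t = 1 := by
    rcases two_eq (cb d t) with e | e
    · exact absurd (cb_eq_zero.mp e) ((S.D.H.h.not_comm_iff S.D.sing.1 S.D.hd).mpr S.D.ed)
    · exact e
  have key : ∀ v, act c3 v = v → ∃ w, w ∈ CQ Q (x : G) ∧ w ∈ Cx Q t ∧ ν w = v ∧ cb d w = 0 := by
    intro v hv
    obtain ⟨w, hw, hwx, hνw⟩ := ConwayThreeStd24.exists_fix S hv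
    have htC : zp t (cb d w) ∈ Cx Q t := zp_mem (S.D.H.x_mem S.D.sing) _
    refine ⟨zp t (cb d w) * w, mem_CQ.2 ⟨Q.mul_mem (zp_mem S.D.sing.1 _) (mem_Cx.1 hw).1, ?_⟩,
      mul_mem htC hw, ?_, ?_⟩
    · have h1 : Commute (zp t (cb d w)) (x : G) := by
        rcases two_eq (cb d w) with e | e <;> rw [e]
        · rw [zp_zero]; exact Commute.one_left _
        · rw [zp_one]; exact hxt.symm
      exact (h1.mul_left hwx).eq
    · rw [S.D.K.add _ htC _ hw, (S.D.K.ker _ htC).mpr, hνw, zero_add]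
      rcases two_eq (cb d w) with e | e <;> rw [e]
      exacts [Or.inl (zp_zero t), Or.inr (Or.inr (Or.inl (zp_one t)))]
    · rw [cb_mul hQ S.D.hd (zp_mem S.D.sing.1 _) (mem_Cx.1 hw).1, cb_zp hQ, hdt, mul_one,
        CharTwo.add_self_eq_zero]
  obtain ⟨hvp, hvq, hva, hvb⟩ := basis_fix
  obtain ⟨p, hp, hpC, hνp, hdp⟩ := key vp hvp
  obtain ⟨q, hq, hqC, hνq, hdq⟩ := key vq hvq
  obtain ⟨a, ha, haC, hνa, hda⟩ := key va hva
  obtain ⟨b, hb, hbC, hνb, hdb⟩ := key vb hvb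
  obtain ⟨fp, fq, fa, fb⟩ := basis_f
  obtain ⟨Bpq, Bpa, Bpb, Bqa, Bqb, Bab⟩ := basis_B
  have sq : ∀ w ∈ Cx Q t, w * w = zp z (f (ν w)) := fun w hw => S.D.K.sq w hw
  have cbB : ∀ u ∈ Cx Q t, ∀ w ∈ Cx Q t, cb u w = B (ν u) (ν w) := by
    intro u hu w hw
    have e := S.D.H.conj_eq S.D.sing S.D.K hu hw
    rw [cb_spec hQ (mem_Cx.1 hu).1 (mem_Cx.1 hw).1] at e
    rw [zp_inj S.D.H.h.ne_one (mul_right_cancel e), f_add]
    generalize f (ν u) = i
    generalize f (ν w) = j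
    generalize B (ν u) (ν w) = k
    clear e
    revert i j k
    decide
  have tC : ∀ w ∈ Cx Q t, cb t w = 0 := fun w hw => cb_eq_zero.mpr (mem_Cx.1 hw).2.symm
  refine ⟨a, b, p, q,
    { H := S.D.H, xz := xz S, ht := t_CQ S, hd := d_CQ S, ha := ha, hb := hb, hp := hp, hq := hq
      tt := S.D.sing.2.1, dd := S.dd
      aa := by rw [sq a haC, hνa, fa, zp_zero]
      bb := by rw [sq b hbC, hνb, fb, zp_zero]
      pp := by rw [sq p hpC, hνp, fp, zp_one]
      qq := by rw [sq q hqC, hνq, fq, zp_one]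
      td := by rw [cb_symm, hdt]
      ab := by rw [cbB a haC b hbC, hνa, hνb, Bab]
      pq := by rw [cbB p hpC q hqC, hνp, hνq, Bpq]
      ta := tC a haC, tb := tC b hbC, tp := tC p hpC, tq := tC q hqC
      da := hda, db := hdb, dp := hdp, dq := hdq
      ap := by rw [cb_symm, cbB p hpC a haC, hνp, hνa, Bpa]
      aq := by rw [cb_symm, cbB q hqC a haC, hνq, hνa, Bqa]
      bp := by rw [cb_symm, cbB p hpC b hbC, hνp, hνb, Bpb]
      bq := by rw [cb_symm, cbB q hqC b hbC, hνq, hνb, Bqb]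
      nondeg := ?_ }⟩
  intro c hc h1 h2 h3 h4 h5 h6
  have hcC : c ∈ Cx Q t := mem_Cx.2 ⟨(mem_CQ.1 hc).1, (cb_eq_zero.mp h1).symm⟩
  have hfix : act c3 (ν c) = ν c := by
    have := (cx_fix_iff S.D S.T.y3 hcC).mp (mem_CQ.1 hc).2
    rwa [S.rx] at this
  have hν : ν c = 0 := basis_nondeg _ hfix
    (by rw [B_comm, ← hνp, ← cbB p hpC c hcC, h5]) (by rw [B_comm, ← hνq, ← cbB q hqC c hcC, h6])
    (by rw [B_comm, ← hνa, ← cbB a haC c hcC, h3]) (by rw [B_comm, ← hνb, ← cbB b hbC c hcC, h4])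
  rcases (S.D.K.ker c hcC).mp hν with e | e | e | e
  · exact Or.inl e
  · exact Or.inr e
  · rw [e, hdt] at h2
    exact absurd h2 one_ne_zero
  · rw [e, cb_mul hQ S.D.hd S.D.H.h.mem S.D.sing.1, hdt,
      cb_eq_zero.mpr (S.D.H.h.comm d S.D.hd), zero_add] at h2
    exact absurd h2 one_ne_zero

namespace Six

variable {Q : Subgroup G} {z x t d a b p q : G} (S : Six Q z x t d a b p q)

/-- The element with given coordinates. -/
def wd (_S : Six Q z x t d a b p q) (v : V6) : G :=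
  zp t (v (.inl (.inl 0))) * zp d (v (.inl (.inr 0)))
    * (zp a (v (.inl (.inl 1))) * zp b (v (.inl (.inr 1))))
    * (zp p (v (.inr 0)) * zp q (v (.inr 1)))

/-- The coordinates. -/
noncomputable def co (_S : Six Q z x t d a b p q) (c : G) : V6 :=
  Sum.elim (Sum.elim ![cb d c, cb b c] ![cb t c, cb a c]) ![cb q c, cb p c]

include S

theorem mem_Q {c : G} (hc : c ∈ CQ Q x) : c ∈ Q := (mem_CQ.1 hc).1

theorem z_CQ : z ∈ CQ Q x := mem_CQ.2 ⟨S.H.h.mem, S.xz.symm⟩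

theorem wd_mem (v : V6) : S.wd v ∈ CQ Q x :=
  mul_mem (mul_mem (mul_mem (zp_mem S.ht _) (zp_mem S.hd _))
    (mul_mem (zp_mem S.ha _) (zp_mem S.hb _))) (mul_mem (zp_mem S.hp _) (zp_mem S.hq _))

theorem co_mul {c c' : G} (hc : c ∈ Q) (hc' : c' ∈ Q) : S.co (c * c') = S.co c + S.co c' := by
  have h := fun {u : G} (hu : u ∈ CQ Q x) => cb_mul S.H.h.toExt (S.mem_Q hu) hc hc'
  funext i
  rcases i with (i | i) | i <;> fin_cases i <;>
    simp [co, h S.ht, h S.hd, h S.ha, h S.hb, h S.hp, h S.hq]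

theorem co_zp (i : ZMod 2) : S.co (zp z i) = 0 := by
  have h : ∀ u ∈ CQ Q x, cb u (zp z i) = 0 := fun u hu => by
    rw [cb_zp S.H.h.toExt, cb_eq_zero.mpr (S.H.h.comm u (S.mem_Q hu)), mul_zero]
  funext j
  rcases j with (j | j) | j <;> fin_cases j <;>
    simp [co, h _ S.ht, h _ S.hd, h _ S.ha, h _ S.hb, h _ S.hp, h _ S.hq]

theorem co_one : S.co 1 = 0 := by
  rw [← zp_zero z]; exact S.co_zp 0

theorem co_wd (v : V6) : S.co (S.wd v) = v := by
  have hQ := S.H.h.toExt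
  have m := fun {u : G} (hu : u ∈ CQ Q x) => S.mem_Q hu
  have h6 : ∀ u ∈ CQ Q x, cb u (S.wd v) = v (.inl (.inl 0)) * cb u t + v (.inl (.inr 0)) * cb u d
      + (v (.inl (.inl 1)) * cb u a + v (.inl (.inr 1)) * cb u b)
      + (v (.inr 0) * cb u p + v (.inr 1) * cb u q) := by
    intro u hu
    have e1 := m (zp_mem S.ht (v (.inl (.inl 0))))
    have e2 := m (zp_mem S.hd (v (.inl (.inr 0))))
    have e3 := m (zp_mem S.ha (v (.inl (.inl 1))))
    have e4 := m (zp_mem S.hb (v (.inl (.inr 1))))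
    have e5 := m (zp_mem S.hp (v (.inr 0)))
    have e6 := m (zp_mem S.hq (v (.inr 1)))
    rw [wd, cb_mul hQ (m hu) (Q.mul_mem (Q.mul_mem e1 e2) (Q.mul_mem e3 e4)) (Q.mul_mem e5 e6),
      cb_mul hQ (m hu) (Q.mul_mem e1 e2) (Q.mul_mem e3 e4), cb_mul hQ (m hu) e1 e2,
      cb_mul hQ (m hu) e3 e4, cb_mul hQ (m hu) e5 e6]
    simp only [cb_zp hQ]
  have hs : ∀ u : G, cb u u = 0 := fun u => cb_eq_zero.mpr rfl
  funext i
  rcases i with (i | i) | i <;> fin_cases i <;>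
    simp [co, h6 _ S.ht, h6 _ S.hd, h6 _ S.ha, h6 _ S.hb, h6 _ S.hp, h6 _ S.hq, hs, S.td, S.ab,
      S.pq, S.ta, S.tb, S.tp, S.tq, S.da, S.db, S.dp, S.dq, S.ap, S.aq, S.bp, S.bq,
      (cb_symm d t).trans S.td, (cb_symm b a).trans S.ab, (cb_symm q p).trans S.pq,
      (cb_symm a t).trans S.ta, (cb_symm b t).trans S.tb, (cb_symm p t).trans S.tp,
      (cb_symm q t).trans S.tq, (cb_symm a d).trans S.da, (cb_symm b d).trans S.db,
      (cb_symm p d).trans S.dp, (cb_symm q d).trans S.dq, (cb_symm p a).trans S.ap,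
      (cb_symm q a).trans S.aq, (cb_symm p b).trans S.bp, (cb_symm q b).trans S.bq]

theorem wd_sq (v : V6) : S.wd v * S.wd v = zp z (qm v) := by
  have hQ := S.H.h.toExt
  have m := fun {u : G} (hu : u ∈ CQ Q x) => S.mem_Q hu
  have cm : ∀ {g h : G}, cb g h = 0 → ∀ i j, Commute (zp g i) (zp h j) := fun e i j =>
    zp_comm (cb_eq_zero.mp e) i j
  set A := zp t (v (.inl (.inl 0))) * zp d (v (.inl (.inr 0))) with hA
  set Bp := zp a (v (.inl (.inl 1))) * zp b (v (.inl (.inr 1))) with hB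
  set Cp := zp p (v (.inr 0)) * zp q (v (.inr 1)) with hC
  have cAB : Commute A Bp :=
    ((cm S.ta _ _).mul_left (cm S.da _ _)).mul_right ((cm S.tb _ _).mul_left (cm S.db _ _))
  have cABC : Commute (A * Bp) Cp :=
    ((((cm S.tp _ _).mul_left (cm S.dp _ _)).mul_right ((cm S.tq _ _).mul_left (cm S.dq _ _)))).mul_left
      (((cm S.ap _ _).mul_left (cm S.bp _ _)).mul_right ((cm S.aq _ _).mul_left (cm S.bq _ _)))
  show A * Bp * Cp * (A * Bp * Cp) = _
  rw [cABC.symm.mul_mul_mul_comm, cAB.symm.mul_mul_mul_comm, hA, hB, hC,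
    pair_sq hQ (sg := 0) (sk := 0) (m S.ht) (m S.hd) (by rw [zp_zero, S.tt])
      (by rw [zp_zero, S.dd]) S.td,
    pair_sq hQ (sg := 0) (sk := 0) (m S.ha) (m S.hb) (by rw [zp_zero, S.aa])
      (by rw [zp_zero, S.bb]) S.ab,
    pair_sq hQ (sg := 1) (sk := 1) (m S.hp) (m S.hq) (by rw [zp_one, S.pp])
      (by rw [zp_one, S.qq]) S.pq, ← zp_add hQ.zz, ← zp_add hQ.zz, qm_eq]
  congr 1
  generalize v (.inl (.inl 0)) = i1
  generalize v (.inl (.inr 0)) = i2
  generalize v (.inl (.inl 1)) = i3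
  generalize v (.inl (.inr 1)) = i4
  generalize v (.inr 0) = i5
  generalize v (.inr 1) = i6
  revert i1 i2 i3 i4 i5 i6
  decide

theorem co_eq_zero {c : G} (hc : c ∈ CQ Q x) (h : S.co c = 0) : c = 1 ∨ c = z := by
  have e := fun i => congrFun h i
  have e1 := e (.inl (.inl 0))
  have e2 := e (.inl (.inl 1))
  have e3 := e (.inl (.inr 0))
  have e4 := e (.inl (.inr 1))
  have e5 := e (.inr 0)
  have e6 := e (.inr 1)
  simp [co] at e1 e2 e3 e4 e5 e6
  exact S.nondeg c hc e3 e1 e4 e2 e6 e5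

theorem rep {c : G} (hc : c ∈ CQ Q x) : ∃ i, c = zp z i * S.wd (S.co c) := by
  have hm := S.wd_mem (S.co c)
  have h := S.co_mul (S.mem_Q (inv_mem hm)) (S.mem_Q hm)
  rw [inv_mul_cancel, S.co_one, S.co_wd] at h
  have hinv : S.co (S.wd (S.co c))⁻¹ = S.co c := by
    funext i
    have := congrFun h i
    exact (eq_of_two (a := S.co (S.wd (S.co c))⁻¹ i) (b := S.co c i) this.symm)
  rcases S.co_eq_zero (mul_mem hc (inv_mem hm)) (by
      rw [S.co_mul (S.mem_Q hc) (S.mem_Q (inv_mem hm)), hinv]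
      funext i; exact CharTwo.add_self_eq_zero _) with e | e
  · exact ⟨0, by rw [zp_zero, one_mul]; exact mul_inv_eq_one.mp e⟩
  · exact ⟨1, by rw [zp_one]; exact mul_inv_eq_iff_eq_mul.mp e⟩

theorem sq_eq {c : G} (hc : c ∈ CQ Q x) : c * c = zp z (qm (S.co c)) := by
  obtain ⟨i, e⟩ := S.rep hc
  have hw := S.mem_Q (S.wd_mem (S.co c))
  conv_lhs => rw [e]
  rw [(show Commute (S.wd (S.co c)) (zp z i) from
      (zp_central S.H.h.toExt hw i).symm).mul_mul_mul_comm, S.wd_sq, ← zp_add S.H.h.zz,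
    CharTwo.add_self_eq_zero, zp_zero, one_mul]

theorem conj_mem {c w : G} (hc : c ∈ centralizer ({z} : Set G) ⊓ centralizer ({x} : Set G))
    (hw : w ∈ CQ Q x) : c * w * c⁻¹ ∈ CQ Q x := by
  have hcz := mem_centralizer_singleton_iff.1 hc.1
  have hcx := mem_centralizer_singleton_iff.1 hc.2
  refine mem_CQ.2 ⟨S.H.h.norm c hcz w (S.mem_Q hw), ?_⟩
  have h : Commute c x := hcx
  exact ((h.mul_left (show Commute w x from (mem_CQ.1 hw).2)).mul_left h.inv_left).eq

theorem co_conj_congr {c k : G} (hc : c ∈ centralizer ({z} : Set G) ⊓ centralizer ({x} : Set G))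
    (hk : k ∈ CQ Q x) : S.co (c * S.wd (S.co k) * c⁻¹) = S.co (c * k * c⁻¹) := by
  obtain ⟨i, e⟩ := S.rep hk
  have hz : c * zp z i * c⁻¹ = zp z i := by
    refine mul_inv_eq_iff_eq_mul.mpr ?_
    have := zp_comm (mem_centralizer_singleton_iff.1 hc.1) 1 i
    simpa [zp_one] using this
  conv_rhs => rw [e, show c * (zp z i * S.wd (S.co k)) * c⁻¹
    = (c * zp z i * c⁻¹) * (c * S.wd (S.co k) * c⁻¹) by group, hz]
  rw [S.co_mul (zp_mem S.H.h.mem i) (S.mem_Q (S.conj_mem hc (S.wd_mem _))), S.co_zp, zero_add]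

/-- The linear map induced on the coordinates. -/
noncomputable def lin (S : Six Q z x t d a b p q)
    (c : ↥(centralizer ({z} : Set G) ⊓ centralizer ({x} : Set G))) : V6 →ₗ[ZMod 2] V6 :=
  (AddMonoidHom.mk' (fun v => S.co ((c : G) * S.wd v * (c : G)⁻¹)) fun v w => by
    have h := S.co_conj_congr c.2 (mul_mem (S.wd_mem v) (S.wd_mem w))
    rw [S.co_mul (S.mem_Q (S.wd_mem v)) (S.mem_Q (S.wd_mem w)), S.co_wd, S.co_wd] at h
    show S.co _ = S.co _ + S.co _
    rw [h, ← S.co_mul (S.mem_Q (S.conj_mem c.2 (S.wd_mem v)))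
      (S.mem_Q (S.conj_mem c.2 (S.wd_mem w)))]
    congr 1
    group).toZModLinearMap 2

theorem lin_co (c : ↥(centralizer ({z} : Set G) ⊓ centralizer ({x} : Set G))) {k : G}
    (hk : k ∈ CQ Q x) : S.lin c (S.co k) = S.co ((c : G) * k * (c : G)⁻¹) :=
  S.co_conj_congr c.2 hk

theorem lin_one : S.lin 1 = 1 := by
  refine LinearMap.ext fun v => ?_
  show S.co ((1 : G) * S.wd v * (1 : G)⁻¹) = v
  rw [one_mul, inv_one, mul_one, S.co_wd]

theorem lin_mul (c c' : ↥(centralizer ({z} : Set G) ⊓ centralizer ({x} : Set G))) :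
    S.lin (c * c') = S.lin c * S.lin c' := by
  refine LinearMap.ext fun v => ?_
  show S.co _ = S.lin c (S.co _)
  rw [S.lin_co c (S.conj_mem c'.2 (S.wd_mem v))]
  congr 1
  rw [Subgroup.coe_mul]; group

/-- The matrices. -/
noncomputable def mat (S : Six Q z x t d a b p q) :
    ↥(centralizer ({z} : Set G) ⊓ centralizer ({x} : Set G)) →*
      Matrix ((Fin 2 ⊕ Fin 2) ⊕ Fin 2) ((Fin 2 ⊕ Fin 2) ⊕ Fin 2) (ZMod 2) where
  toFun c := LinearMap.toMatrix' (S.lin c)
  map_one' := by rw [S.lin_one]; exact LinearMap.toMatrix'_one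
  map_mul' c c' := by rw [S.lin_mul, LinearMap.toMatrix'_mul]

theorem mat_mulVec (c : ↥(centralizer ({z} : Set G) ⊓ centralizer ({x} : Set G))) (v : V6) :
    Matrix.mulVec (S.mat c) v = S.lin c v := LinearMap.toMatrix'_mulVec _ v

theorem mat_mem (c : ↥(centralizer ({z} : Set G) ⊓ centralizer ({x} : Set G))) :
    S.mat.toHomUnits c ∈ Cfsg.isometryGroup (ZMod 2) qm := by
  intro u _
  show qm (Matrix.mulVec (S.mat c) u) = qm u
  rw [S.mat_mulVec]
  apply zp_inj S.H.h.ne_one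
  conv_lhs => rw [← S.co_wd u, S.lin_co c (S.wd_mem u), ← S.sq_eq (S.conj_mem c.2 (S.wd_mem u))]
  rw [show (c : G) * S.wd u * (c : G)⁻¹ * ((c : G) * S.wd u * (c : G)⁻¹)
      = (c : G) * (S.wd u * S.wd u) * (c : G)⁻¹ by group, S.wd_sq]
  refine mul_inv_eq_iff_eq_mul.mpr ?_
  have := zp_comm (mem_centralizer_singleton_iff.1 c.2.1) 1 (qm u)
  simpa [zp_one] using this

/-- The representation by isometries. -/
noncomputable def toIso (S : Six Q z x t d a b p q) :
    ↥(centralizer ({z} : Set G) ⊓ centralizer ({x} : Set G)) →*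
      ↥(Cfsg.isometryGroup (ZMod 2) qm) :=
  S.mat.toHomUnits.codRestrict _ S.mat_mem

theorem toIso_eq_one (c : ↥(centralizer ({z} : Set G) ⊓ centralizer ({x} : Set G))) :
    S.toIso c = 1 ↔ ∀ k ∈ CQ Q x, S.co ((c : G) * k * (c : G)⁻¹) = S.co k := by
  constructor
  · intro h k hk
    have h1 : S.mat c = 1 := congrArg
      (fun g : ↥(Cfsg.isometryGroup (ZMod 2) qm) =>
        ((g : Matrix.GeneralLinearGroup ((Fin 2 ⊕ Fin 2) ⊕ Fin 2) (ZMod 2)) :
          Matrix ((Fin 2 ⊕ Fin 2) ⊕ Fin 2) ((Fin 2 ⊕ Fin 2) ⊕ Fin 2) (ZMod 2))) h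
    rw [← S.lin_co c hk, ← S.mat_mulVec, h1, Matrix.one_mulVec]
  · intro h
    refine Subtype.ext (Units.ext ?_)
    show LinearMap.toMatrix' (S.lin c) = 1
    rw [show S.lin c = 1 from LinearMap.ext fun v => ?_]
    · exact LinearMap.toMatrix'_one
    · show _ = v
      conv_lhs => rw [← S.co_wd v, S.lin_co c (S.wd_mem v), h _ (S.wd_mem v), S.co_wd]

end Six

end Cfsg.Agent.ConwayThreeCoord24
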