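import Cfsg.Agent.Lib.ConwayTypeModel62
import Cfsg.Prelude.Def_Classical

/-!
# The three-cycle in the alternating group of degree eight on the six-dimensional module
-/

set_option autoImplicit false

namespace Cfsg.Agent.ConwayThreeFacts24

open Cfsg.Agent.ConwayTypeModel62

/-- The three-cycle. -/
def c3 : P8 := List.formPerm [0, 1, 2]

/-- A product of two three-cycles. -/
def c33 : P8 := List.formPerm [0, 1, 2] * List.formPerm [3, 4, 5]

/-- An odd permutation commuting with the three-cycle. -/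
def sw : P8 := Equiv.swap 3 4

/-- A three-cycle disjoint from the first. -/
def c3' : P8 := List.formPerm [3, 4, 5]

/-- Fixed anisotropic pair, first vector. -/
def vp : M6 := e 3 + e 4

/-- Fixed anisotropic pair, second vector. -/
def vq : M6 := e 4 + e 5

/-- Fixed hyperbolic pair, first vector. -/
def va : M6 := e 3 + e 4 + e 5 + e 6

/-- Fixed hyperbolic pair, second vector. -/
def vb : M6 := e 3 + e 4 + e 5 + e 7

theorem c3_facts : c3 ^ 3 = 1 ∧ c3 ≠ 1 ∧ Equiv.Perm.sign c3 = 1 ∧ Equiv.Perm.sign sw = -1 ∧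
    sw * c3 = c3 * sw ∧ c3.cycleType = {3} ∧ c33.cycleType = Multiset.replicate 2 3 := by
  decide +kernel

theorem fix_card : (Finset.univ.filter fun v : M6 => act c3 v = v).card = 16 ∧
    (Finset.univ.filter fun v : M6 => act c33 v = v).card ≠ 16 := by decide +kernel

theorem basis_fix : act c3 vp = vp ∧ act c3 vq = vq ∧ act c3 va = va ∧ act c3 vb = vb := by
  decide +kernel

theorem basis_f : f vp = 1 ∧ f vq = 1 ∧ f va = 0 ∧ f vb = 0 := by decide +kernel

theorem basis_B : B vp vq = 1 ∧ B vp va = 0 ∧ B vp vb = 0 ∧ B vq va = 0 ∧ B vq vb = 0 ∧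
    B va vb = 1 := by decide +kernel

theorem basis_nondeg : ∀ v : M6, act c3 v = v → B v vp = 0 → B v vq = 0 → B v va = 0 →
    B v vb = 0 → v = 0 := by decide +kernel

/-- A lift of the five points. -/
theorem five_comm : ∃ σ τ : P8, Equiv.Perm.sign σ = 1 ∧ Equiv.Perm.sign τ = 1 ∧
    σ * c3 = c3 * σ ∧ τ * c3 = c3 * τ ∧ σ * τ * σ⁻¹ * τ⁻¹ = c3' := by
  refine ⟨List.formPerm [3, 4, 6], List.formPerm [3, 5, 7], ?_⟩
  decide +kernel

theorem c3'_facts : Equiv.Perm.sign c3' = 1 ∧ c3' * c3 = c3 * c3' ∧ c3' ^ 3 = 1 ∧ c3' ≠ 1 ∧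
    (Finset.univ.filter fun v : M6 => act c3' v = v).card = 16 ∧
    act c3' (e 0 + e 1) = e 0 + e 1 := by decide +kernel

/-- The standard six-dimensional minus space. -/
abbrev V6 := (Fin 2 ⊕ Fin 2) ⊕ Fin 2 → ZMod 2

/-- Its form. -/
abbrev qm : V6 → ZMod 2 := Cfsg.quadFormMinus 2 (ZMod 2) 1 1

theorem qm_eq : ∀ v : V6, qm v = v (.inl (.inl 0)) * v (.inl (.inr 0))
    + v (.inl (.inl 1)) * v (.inl (.inr 1))
    + (v (.inr 0) + v (.inr 0) * v (.inr 1) + v (.inr 1)) := by decide +kernel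

theorem qm_count : (Finset.univ.filter fun v : V6 => qm v = 0 ∧ v ≠ 0).card = 27 := by
  decide +kernel

end Cfsg.Agent.ConwayThreeFacts24
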