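import Mathlib
import Cfsg.Agent.Lib.LargeExtraspecialAct

/-!
Quaternion groups of order eight inside a group, with an element of order three permuting the
three classes modulo the centre cyclically.
-/

set_option autoImplicit false
set_option linter.unusedSectionVars false

namespace Cfsg.Agent.SuzY42Quat

open Subgroup Cfsg.Agent.LargeExtraspecial

variable {L : Type*} [Group L]

/-- Equality up to the central involution. -/
def Eqz (z g h : L) : Prop := g = h ∨ g = z * h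

theorem Eqz.rfl' (z g : L) : Eqz z g g := Or.inl rfl

theorem Eqz.symm {z g h : L} (hz : z * z = 1) (e : Eqz z g h) : Eqz z h g := by
  rcases e with rfl | rfl
  · exact Or.inl rfl
  · exact Or.inr (by rw [← mul_assoc, hz, one_mul])

theorem Eqz.trans {z g h k : L} (hz : z * z = 1) (e : Eqz z g h) (e' : Eqz z h k) : Eqz z g k := by
  rcases e with rfl | rfl <;> rcases e' with rfl | rfl
  · exact Or.inl rfl
  · exact Or.inr rfl
  · exact Or.inr rfl
  · exact Or.inl (by rw [← mul_assoc, hz, one_mul])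

theorem Eqz.conj {z g h p : L} (hp : p * z = z * p) (e : Eqz z g h) :
    Eqz z (p * g * p⁻¹) (p * h * p⁻¹) := by
  rcases e with rfl | rfl
  · exact Or.inl rfl
  · refine Or.inr ?_
    rw [← mul_assoc p z h, hp]
    group

theorem Eqz.mul {z g g' h h' : L} (hz : z * z = 1) (hg : g' * z = z * g') (e : Eqz z g g')
    (e' : Eqz z h h') : Eqz z (g * h) (g' * h') := by
  rcases e with rfl | rfl <;> rcases e' with rfl | rfl
  · exact Or.inl rfl
  · exact Or.inr (by rw [← mul_assoc, hg, mul_assoc])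
  · exact Or.inr (mul_assoc _ _ _)
  · refine Or.inl ?_
    calc z * g' * (z * h') = z * (g' * z) * h' := by group
      _ = z * z * (g' * h') := by rw [hg]; group
      _ = g' * h' := by rw [hz, one_mul]

/-- The element `p` acts trivially on `F` modulo `z`. -/
structure Triv (F : Subgroup L) (z p : L) : Prop where
  pz : p * z = z * p
  fix : ∀ g ∈ F, Eqz z (p * g * p⁻¹) g

theorem Triv.conj {F : Subgroup L} {z p a : L} (h : Triv F z p) (haz : a * z = z * a)
    (ha : ∀ g ∈ F, a⁻¹ * g * a ∈ F) : Triv F z (a * p * a⁻¹) := by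
  refine ⟨((show Commute a z from haz).mul_left h.pz).mul_left
    (show Commute a z from haz).inv_left, fun g hg => ?_⟩
  have := (h.fix _ (ha g hg)).conj haz
  rwa [show a * (p * (a⁻¹ * g * a) * p⁻¹) * a⁻¹ = a * p * a⁻¹ * g * (a * p * a⁻¹)⁻¹ by group,
    show a * (a⁻¹ * g * a) * a⁻¹ = g by group] at this

theorem four_classes [Finite L] {F : Subgroup L} {z : L} (h : Ext F z) (hc : Nat.card F = 8)
    {x y : L} (hx : x ∈ F) (hy : y ∈ F) (h1 : ¬ Eqz z x 1) (h2 : ¬ Eqz z y 1)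
    (h3 : ¬ Eqz z y x) (g : L) (hg : g ∈ F) :
    Eqz z g 1 ∨ Eqz z g x ∨ Eqz z g y ∨ Eqz z g (x * y) := by
  classical
  have hz := h.zz
  have hzx : x * z = z * x := h.comm x hx
  have hxy : x * y ∈ F := F.mul_mem hx hy
  have h4 : ¬ Eqz z (x * y) 1 := by
    intro e
    apply h3
    have := (Eqz.rfl' z x⁻¹).mul hz (h.comm _ (F.inv_mem hx)) e
    rw [inv_mul_cancel_left, mul_one] at this
    refine this.trans hz ?_
    rcases h.sq x hx with e' | e'
    · exact Or.inl (inv_eq_of_mul_eq_one_right e')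
    · refine Or.inr (inv_eq_of_mul_eq_one_right ?_)
      rw [← mul_assoc, hzx, mul_assoc, e', hz]
  have h5 : ¬ Eqz z (x * y) x := by
    intro e
    apply h2
    have := (Eqz.rfl' z x⁻¹).mul hz (h.comm _ (F.inv_mem hx)) e
    rwa [inv_mul_cancel_left, inv_mul_cancel] at this
  have h6 : ¬ Eqz z (x * y) y := by
    intro e
    apply h1
    rcases e with e | e
    · exact Or.inl (mul_eq_right.mp e)
    · exact Or.inr (by rw [mul_right_cancel e, mul_one])
  have hm : ∀ {c : L}, c ∈ F → z * c ∈ F := fun hc => F.mul_mem h.mem hc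
  have hd : ∀ {c d : L}, ¬ Eqz z c d → c ≠ d ∧ c ≠ z * d ∧ z * c ≠ d ∧ z * c ≠ z * d := by
    intro c d e
    refine ⟨fun e' => e (Or.inl e'), fun e' => e (Or.inr e'), fun e' => e ?_,
      fun e' => e (Or.inl (mul_left_cancel e'))⟩
    exact Or.inr (by rw [← e', ← mul_assoc, hz, one_mul])
  let S : Finset L := {1, z * 1, x, z * x, y, z * y, x * y, z * (x * y)}
  have hS : S.card = 8 := by
    obtain ⟨a1, a2, a3, a4⟩ := hd h1
    obtain ⟨b1, b2, b3, b4⟩ := hd h2
    obtain ⟨c1, c2, c3, c4⟩ := hd h3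
    obtain ⟨d1, d2, d3, d4⟩ := hd h4
    obtain ⟨e1, e2, e3, e4⟩ := hd h5
    obtain ⟨f1, f2, f3, f4⟩ := hd h6
    have g0 : ∀ c : L, c ≠ z * c := fun c => (h.z_mul_ne c).symm
    simp only [S]
    repeat' rw [Finset.card_insert_of_notMem]
    · rw [Finset.card_singleton]
    all_goals
      simp only [Finset.mem_insert, Finset.mem_singleton, not_or]
    · exact g0 _
    · exact ⟨f2.symm, f4.symm⟩
    · exact ⟨g0 _, f1.symm, f3.symm⟩
    · exact ⟨c2.symm, c4.symm, e2.symm, e4.symm⟩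
    · exact ⟨g0 _, c1.symm, c3.symm, e1.symm, e3.symm⟩
    · exact ⟨a2.symm, a4.symm, b2.symm, b4.symm, d2.symm, d4.symm⟩
    · exact ⟨g0 _, a1.symm, a3.symm, b1.symm, b3.symm, d1.symm, d3.symm⟩
  have hsub : (S : Set L) ⊆ F := by
    intro c hc
    simp only [S, Finset.coe_insert, Finset.coe_singleton, Set.mem_insert_iff,
      Set.mem_singleton_iff] at hc
    rcases hc with rfl | rfl | rfl | rfl | rfl | rfl | rfl | rfl
    exacts [F.one_mem, hm F.one_mem, hx, hm hx, hy, hm hy, hxy, hm hxy]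
  have heq : (S : Set L) = F := Set.eq_of_subset_of_ncard_le hsub (by
    rw [Set.ncard_coe_finset, hS, ← Nat.card_coe_set_eq]
    exact hc.le) (Set.toFinite _)
  have : g ∈ (S : Set L) := heq ▸ hg
  simp only [S, Finset.coe_insert, Finset.coe_singleton, Set.mem_insert_iff,
    Set.mem_singleton_iff] at this
  rcases this with e | e | e | e | e | e | e | e
  exacts [Or.inl (Or.inl e), Or.inl (Or.inr e), Or.inr (Or.inl (Or.inl e)), Or.inr (Or.inl (Or.inr e)),
    Or.inr (Or.inr (Or.inl (Or.inl e))), Or.inr (Or.inr (Or.inl (Or.inr e))),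
    Or.inr (Or.inr (Or.inr (Or.inl e))), Or.inr (Or.inr (Or.inr (Or.inr e)))]

/-- A quaternion group with generators. -/
structure Quat (F : Subgroup L) (z x y : L) : Prop extends Ext F z where
  hx : x ∈ F
  hy : y ∈ F
  xx : x * x = z
  yy : y * y = z
  yx : y * x * y⁻¹ = z * x
  cases : ∀ g ∈ F, Eqz z g 1 ∨ Eqz z g x ∨ Eqz z g y ∨ Eqz z g (x * y)

/-- An element permuting the three classes cyclically. -/
structure Cyc (z x y a : L) : Prop where
  az : a * z = z * a
  ax : a * x * a⁻¹ = y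
  ay : a * y * a⁻¹ = x * y
  a3 : a ^ 3 = 1

theorem exists_quat [Finite L] {F : Subgroup L} {z a : L} (h : Ext F z) (hc : Nat.card F = 8)
    (haz : a * z = z * a) (ha3 : a ^ 3 = 1) (hn : ∀ g ∈ F, a * g * a⁻¹ ∈ F)
    (hfix : ∀ g ∈ F, a * g = g * a → g = 1 ∨ g = z) :
    ∃ x y, Quat F z x y ∧ Cyc z x y a := by
  have hz := h.zz
  obtain ⟨x₀, hx₀, hx1⟩ : ∃ x ∈ F, ¬ Eqz z x 1 := by
    by_contra hno
    push Not at hno
    have hsub : (F : Set L) ⊆ ({1, z} : Set L) := fun g hg => by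
      rcases hno g hg with e | e <;> simp [e]
    have h2 : ({1, z} : Set L).ncard ≤ 2 := by
      refine (Set.ncard_insert_le _ _).trans ?_
      rw [Set.ncard_singleton]
    have := (Set.ncard_le_ncard hsub (Set.toFinite _)).trans h2
    rw [← Nat.card_coe_set_eq] at this
    have h8 : Nat.card (F : Set L) = 8 := hc
    omega
  have hmove : ∀ g ∈ F, ¬ Eqz z g 1 → ¬ Eqz z (a * g * a⁻¹) g := fun g hg h1 e => by
    have := hfix g hg (LargeExtraspecialAct.fix_of_fix_mod h (n := 3) (by decide) ha3 haz e)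
    rcases this with e' | e'
    · exact h1 (Or.inl e')
    · exact h1 (Or.inr (by rw [e', mul_one]))
  have hbase : ∀ x ∈ F, ¬ Eqz z x 1 → ¬ Eqz z (a * x * a⁻¹) 1 := fun x _ h1 e => h1 (by
    have := e.conj (p := a⁻¹) (show Commute a z from haz).inv_left
    simpa [mul_assoc] using this)
  have hclass : ∀ x ∈ F, ¬ Eqz z x 1 →
      Eqz z (a * (a * x * a⁻¹) * a⁻¹) (x * (a * x * a⁻¹)) := by
    intro x hx h1
    have hy := hn x hx
    have h2 := hbase x hx h1
    have h3 := hmove x hx h1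
    rcases four_classes h hc hx hy h1 h2 h3 _ (hn _ hy) with e | e | e | e
    · exact absurd e (hbase _ hy h2)
    · exfalso
      apply h3
      have e2 := e.conj haz
      have e3 : a * (a * (a * x * a⁻¹) * a⁻¹) * a⁻¹ = a ^ 3 * x * (a ^ 3)⁻¹ := by
        simp only [pow_succ, pow_zero, one_mul]; group
      rw [e3, ha3, inv_one, one_mul, mul_one] at e2
      exact e2.symm hz
    · exact absurd e (hmove _ hy h2)
    · exact e
  obtain ⟨x, hx, h1, hsq2⟩ : ∃ x ∈ F, ¬ Eqz z x 1 ∧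
      a * (a * x * a⁻¹) * a⁻¹ = x * (a * x * a⁻¹) := by
    rcases hclass x₀ hx₀ hx1 with e | e
    · exact ⟨x₀, hx₀, hx1, e⟩
    · refine ⟨z * x₀, F.mul_mem h.mem hx₀, fun e' => hx1 ((Eqz.symm hz (Or.inr rfl)).trans hz e'),
        ?_⟩
      have e1 : a * (z * x₀) * a⁻¹ = z * (a * x₀ * a⁻¹) := by rw [← mul_assoc, haz]; group
      have e2 : a * (z * (a * x₀ * a⁻¹)) * a⁻¹ = z * (a * (a * x₀ * a⁻¹) * a⁻¹) := by
        rw [← mul_assoc a z, haz]; group
      rw [e1, e2, e]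
      calc z * (z * (x₀ * (a * x₀ * a⁻¹))) = x₀ * (a * x₀ * a⁻¹) := by
            rw [← mul_assoc, hz, one_mul]
        _ = z * x₀ * (z * (a * x₀ * a⁻¹)) := by
          rw [mul_assoc z x₀, ← mul_assoc x₀ z, h.comm x₀ hx₀, ← mul_assoc z (z * x₀),
            ← mul_assoc z z, hz, one_mul]
  set y := a * x * a⁻¹ with hydef
  have hy : y ∈ F := hn x hx
  have h2 : ¬ Eqz z y 1 := hbase x hx h1
  have hcases := four_classes h hc hx hy h1 h2 (hmove x hx h1)
  have hne : ∀ g, ¬ Eqz z g 1 → g ≠ 1 ∧ g ≠ z := fun g hg =>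
    ⟨fun e => hg (Or.inl e), fun e => hg (Or.inr (by rw [e, mul_one]))⟩
  have hyy : y * y = x * x := by
    rw [hydef, show a * x * a⁻¹ * (a * x * a⁻¹) = a * (x * x) * a⁻¹ by group]
    rcases h.sq x hx with e | e <;> rw [e]
    · group
    · rw [haz, mul_inv_cancel_right]
  have hxyy : x * y * (x * y) = x * x := by
    rw [← hsq2, show a * y * a⁻¹ * (a * y * a⁻¹) = a * (y * y) * a⁻¹ by group, hyy]
    rcases h.sq x hx with e | e <;> rw [e]
    · group
    · rw [haz, mul_inv_cancel_right]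
  have hnc : y * x * y⁻¹ = z * x := by
    rcases h.conj y hy x hx with e | e
    · exfalso
      have hcm : Commute y x := mul_inv_eq_iff_eq_mul.mp e
      obtain ⟨w, hw, ew⟩ := h.partner x hx (hne x h1).1 (hne x h1).2
      have hall : Commute w x := by
        have hzx : Commute z x := (h.comm x hx).symm
        have key : ∀ c, Commute c x → Eqz z w c → Commute w x := fun c hc e' => by
          rcases e' with e' | e' <;> rw [e']
          exacts [hc, hzx.mul_left hc]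
        rcases hcases w hw with e' | e' | e' | e'
        exacts [key 1 (Commute.one_left x) e', key x (Commute.refl x) e', key y hcm e',
          key _ ((Commute.refl x).mul_left hcm) e']
      exact (h.not_comm_iff hx hw).mpr ew hall.eq
    · exact e
  have hxx : x * x = z := by
    refine (h.sq x hx).resolve_left fun e => h.ne_one ?_
    have e1 : x * y * (x * y) = z * (x * x) * (y * y) := by
      calc x * y * (x * y) = x * (y * x * y⁻¹) * (y * y) := by group
        _ = x * z * x * (y * y) := by rw [hnc]; group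
        _ = z * (x * x) * (y * y) := by rw [h.comm x hx]; group
    rw [hxyy, hyy, e] at e1
    simpa using e1.symm
  exact ⟨x, y, ⟨h, hx, hy, hxx, hyy.trans hxx, hnc, hcases⟩, haz, rfl, hsq2, ha3⟩

namespace Quat

variable {F : Subgroup L} {z x y : L} (Q : Quat F z x y)
include Q

theorem not_one : ¬ Eqz z x 1 ∧ ¬ Eqz z y 1 := by
  refine ⟨?_, ?_⟩ <;> rintro (e | e)
  · exact Q.ne_one (by rw [← Q.xx, e, one_mul])
  · rw [mul_one] at e; exact Q.ne_one (by rw [← Q.xx, e, Q.zz])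
  · exact Q.ne_one (by rw [← Q.yy, e, one_mul])
  · rw [mul_one] at e; exact Q.ne_one (by rw [← Q.yy, e, Q.zz])

theorem xy_sq : x * y * (x * y) = z := by
  calc x * y * (x * y) = x * (y * x * y⁻¹) * (y * y) := by group
    _ = x * z * x * (y * y) := by rw [Q.yx]; group
    _ = z * (x * x) * (y * y) := by rw [Q.comm x Q.hx]; group
    _ = z := by rw [Q.xx, Q.yy, Q.zz, one_mul]

theorem not_one_xy : ¬ Eqz z (x * y) 1 := by
  rintro (e | e)
  · exact Q.ne_one (by rw [← Q.xy_sq, e, one_mul])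
  · rw [mul_one] at e; exact Q.ne_one (by rw [← Q.xy_sq, e, Q.zz])

theorem ne_y : ¬ Eqz z y x := by
  rintro (e | e) <;>
  · have := Q.yx
    rw [e] at this
    have hc : Commute z x := (Q.comm x Q.hx).symm
    rw [show (_ : L) * x * _⁻¹ = x from mul_inv_eq_iff_eq_mul.mpr
      (by first | rfl | exact (hc.mul_left (Commute.refl x)).eq)] at this
    exact Q.z_mul_ne x this.symm

theorem sq_eq {g : L} (hg : g ∈ F) (h1 : g ≠ 1) (h2 : g ≠ z) : g * g = z := by
  have key : ∀ c ∈ F, c * c = z → Eqz z g c → g * g = z := by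
    intro c hc hcc e
    rcases e with rfl | rfl
    · exact hcc
    · calc z * c * (z * c) = z * (c * z) * c := by group
        _ = z * z * (c * c) := by rw [Q.comm c hc]; group
        _ = z := by rw [Q.zz, hcc, one_mul]
  rcases Q.cases g hg with e | e | e | e
  · rcases e with e | e
    · exact absurd e h1
    · exact absurd (by rw [e, mul_one]) h2
  · exact key x Q.hx Q.xx e
  · exact key y Q.hy Q.yy e
  · exact key _ (F.mul_mem Q.hx Q.hy) Q.xy_sq e

theorem comm_of {p : L} (hz : p * z = z * p) (h1 : p * x = x * p) (h2 : p * y = y * p) {g : L}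
    (hg : g ∈ F) : p * g = g * p := by
  have hxy : Commute p (x * y) := (show Commute p x from h1).mul_right h2
  have hz' : Commute p z := hz
  have key : ∀ c, Commute p c → Eqz z g c → p * g = g * p := fun c hc e => by
    rcases e with e | e <;> rw [e]
    exacts [hc.eq, (hz'.mul_right hc).eq]
  rcases Q.cases g hg with e | e | e | e
  exacts [key 1 (Commute.one_right p) e, key x h1 e, key y h2 e, key _ hxy e]

theorem triv_of {p : L} (hz : p * z = z * p) (h1 : Eqz z (p * x * p⁻¹) x)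
    (h2 : Eqz z (p * y * p⁻¹) y) : Triv F z p := by
  refine ⟨hz, fun g hg => ?_⟩
  have hzz := Q.zz
  have base : ∀ c, Eqz z (p * c * p⁻¹) c → Eqz z g c → Eqz z (p * g * p⁻¹) g := fun c hc e =>
    ((e.conj hz).trans hzz hc).trans hzz (e.symm hzz)
  rcases Q.cases g hg with e | e | e | e
  · exact base 1 (Or.inl (by group)) e
  · exact base x h1 e
  · exact base y h2 e
  · refine base _ ?_ e
    rw [show p * (x * y) * p⁻¹ = p * x * p⁻¹ * (p * y * p⁻¹) by group]
    exact h1.mul hzz (Q.comm x Q.hx) h2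

/-- An automorphism trivial modulo the centre is inner. -/
theorem inner {p : L} (h : Triv F z p) : ∃ w ∈ F, ∀ g ∈ F, (w⁻¹ * p) * g = g * (w⁻¹ * p) := by
  have wz : ∀ w ∈ F, (w⁻¹ * p) * z = z * (w⁻¹ * p) := fun w hw =>
    ((show Commute w z from Q.comm w hw).inv_left.mul_left h.pz).eq
  have hzw : ∀ w ∈ F, ∀ g, w * g * w⁻¹ = z * g → w⁻¹ * (z * g) * w = g := fun w hw g e => by
    rw [← e]; group
  have fix : ∀ w ∈ F, ∀ g, p * g * p⁻¹ = w * g * w⁻¹ → (w⁻¹ * p) * g = g * (w⁻¹ * p) := by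
    intro w _ g e
    calc w⁻¹ * p * g = w⁻¹ * (p * g * p⁻¹) * p := by group
      _ = g * (w⁻¹ * p) := by rw [e]; group
  have hxy : x * y * x⁻¹ = z * y := by
    refine (Q.not_comm_iff Q.hy Q.hx).mp fun e => (Q.not_comm_iff Q.hx Q.hy).mpr Q.yx ?_
    exact e.symm
  have hxx : x * x * x⁻¹ = x := by group
  have hyy : y * y * y⁻¹ = y := by group
  have hwx : x * y * x * (x * y)⁻¹ = z * x := by
    rw [show x * y * x * (x * y)⁻¹ = x * (y * x * y⁻¹) * x⁻¹ by group, Q.yx,
      ← mul_assoc x z, Q.comm x Q.hx]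
    group
  have hwy : x * y * y * (x * y)⁻¹ = z * y := by
    rw [show x * y * y * (x * y)⁻¹ = x * (y * y * y⁻¹) * x⁻¹ by group, hyy, hxy]
  rcases h.fix x Q.hx with e1 | e1 <;> rcases h.fix y Q.hy with e2 | e2
  · exact ⟨1, F.one_mem, fun g hg => Q.comm_of (wz 1 F.one_mem)
      (fix 1 F.one_mem x (by rw [e1]; group)) (fix 1 F.one_mem y (by rw [e2]; group)) hg⟩
  · exact ⟨x, Q.hx, fun g hg => Q.comm_of (wz x Q.hx)
      (fix x Q.hx x (e1.trans hxx.symm)) (fix x Q.hx y (e2.trans hxy.symm)) hg⟩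
  · exact ⟨y, Q.hy, fun g hg => Q.comm_of (wz y Q.hy)
      (fix y Q.hy x (e1.trans Q.yx.symm)) (fix y Q.hy y (e2.trans hyy.symm)) hg⟩
  · exact ⟨_, F.mul_mem Q.hx Q.hy, fun g hg => Q.comm_of (wz _ (F.mul_mem Q.hx Q.hy))
      (fix _ (F.mul_mem Q.hx Q.hy) x (e1.trans hwx.symm))
      (fix _ (F.mul_mem Q.hx Q.hy) y (e2.trans hwy.symm)) hg⟩

variable {a : L} (C : Cyc z x y a)
include C

theorem a_norm {g : L} (hg : g ∈ F) : a * g * a⁻¹ ∈ F := by
  have base : ∀ c, a * c * a⁻¹ ∈ F → Eqz z g c → a * g * a⁻¹ ∈ F := by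
    intro c hc e
    rcases e.conj C.az with e' | e' <;> rw [e']
    exacts [hc, F.mul_mem Q.mem hc]
  rcases Q.cases g hg with e | e | e | e
  · exact base 1 (by simp) e
  · exact base x (by rw [C.ax]; exact Q.hy) e
  · exact base y (by rw [C.ay]; exact F.mul_mem Q.hx Q.hy) e
  · exact base (x * y) (by
      rw [show a * (x * y) * a⁻¹ = a * x * a⁻¹ * (a * y * a⁻¹) by group, C.ax, C.ay]
      exact F.mul_mem Q.hy (F.mul_mem Q.hx Q.hy)) e

theorem pow_norm (i : ℕ) {g : L} (hg : g ∈ F) : a ^ i * g * (a ^ i)⁻¹ ∈ F := by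
  induction i with
  | zero => simpa using hg
  | succ i ih =>
    have := Q.a_norm C ih
    rwa [show a * (a ^ i * g * (a ^ i)⁻¹) * a⁻¹ = a ^ (i + 1) * g * (a ^ (i + 1))⁻¹ by
      rw [pow_succ']; group] at this

theorem pow_z (i : ℕ) : a ^ i * z = z * a ^ i :=
  ((show Commute a z from C.az).pow_left i).eq

/-- An element normalising `F` can be adjusted by a power of `a` to fix `x` modulo `z`. -/
theorem adjust {p : L} (hp : p * z = z * p) (hn : p * x * p⁻¹ ∈ F) :
    ∃ i : ℕ, Eqz z ((a ^ i)⁻¹ * p * x * ((a ^ i)⁻¹ * p)⁻¹) x := by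
  have key : ∀ i : ℕ, ∀ c, a ^ i * x * (a ^ i)⁻¹ = c → Eqz z (p * x * p⁻¹) c →
      Eqz z ((a ^ i)⁻¹ * p * x * ((a ^ i)⁻¹ * p)⁻¹) x := by
    intro i c hc e
    have h' := e.conj (p := (a ^ i)⁻¹) ((show Commute (a ^ i) z from Q.pow_z C i).inv_left.eq)
    rw [← hc] at h'
    rwa [show (a ^ i)⁻¹ * (p * x * p⁻¹) * (a ^ i)⁻¹⁻¹ = (a ^ i)⁻¹ * p * x * ((a ^ i)⁻¹ * p)⁻¹ by
      group, show (a ^ i)⁻¹ * (a ^ i * x * (a ^ i)⁻¹) * (a ^ i)⁻¹⁻¹ = x by group] at h'
  rcases Q.cases _ hn with e | e | e | e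
  · exfalso
    apply Q.not_one.1
    have := e.conj (p := p⁻¹) (show Commute p z from hp).inv_left.eq
    simpa [mul_assoc] using this
  · exact ⟨0, key 0 x (by simp) e⟩
  · exact ⟨1, key 1 y (by rw [pow_one, C.ax]) e⟩
  · exact ⟨2, key 2 (x * y) (by
      rw [pow_two, show a * a * x * (a * a)⁻¹ = a * (a * x * a⁻¹) * a⁻¹ by group, C.ax, C.ay]) e⟩

/-- An element whose action commutes with that of `a`. -/
theorem commuting_case {p : L} (hp : p * z = z * p) (hn : ∀ g ∈ F, p * g * p⁻¹ ∈ F)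
    (hq : ∀ g ∈ F, Eqz z (p * (a * g * a⁻¹) * p⁻¹) (a * (p * g * p⁻¹) * a⁻¹)) :
    ∃ i : ℕ, Triv F z ((a ^ i)⁻¹ * p) := by
  obtain ⟨i, hi⟩ := Q.adjust C hp (hn x Q.hx)
  have hiz : (a ^ i)⁻¹ * z = z * (a ^ i)⁻¹ := (show Commute (a ^ i) z from Q.pow_z C i).inv_left.eq
  refine ⟨i, Q.triv_of ((show Commute (a ^ i)⁻¹ z from hiz).mul_left hp).eq hi ?_⟩
  have e1 := (hq x Q.hx).conj (p := (a ^ i)⁻¹) hiz
  rw [C.ax] at e1
  have e2 : (a ^ i)⁻¹ * (a * (p * x * p⁻¹) * a⁻¹) * (a ^ i)⁻¹⁻¹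
      = a * ((a ^ i)⁻¹ * p * x * ((a ^ i)⁻¹ * p)⁻¹) * a⁻¹ := by
    have hc : Commute (a ^ i)⁻¹ a := ((Commute.refl a).pow_left i).inv_left
    calc (a ^ i)⁻¹ * (a * (p * x * p⁻¹) * a⁻¹) * (a ^ i)⁻¹⁻¹
        = ((a ^ i)⁻¹ * a) * (p * x * p⁻¹) * ((a ^ i)⁻¹ * a)⁻¹ := by group
      _ = _ := by rw [hc.eq]; group
  rw [e2] at e1
  have e3 := hi.conj C.az
  rw [C.ax] at e3
  have := e1.trans Q.zz e3
  rwa [show (a ^ i)⁻¹ * (p * y * p⁻¹) * (a ^ i)⁻¹⁻¹
    = (a ^ i)⁻¹ * p * y * ((a ^ i)⁻¹ * p)⁻¹ by group] at this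

/-- An element of order three acting non-trivially. -/
theorem three_case {c : L} (hc : c * z = z * c) (hn : ∀ g ∈ F, c * g * c⁻¹ ∈ F) (h3 : c ^ 3 = 1)
    (hmove : ¬ Eqz z (c * x * c⁻¹) x) :
    Triv F z (a⁻¹ * c) ∨ Triv F z (a * c) := by
  have hzz := Q.zz
  have hci : c⁻¹ * z = z * c⁻¹ := (show Commute c z from hc).inv_left.eq
  have e3 : c⁻¹ = c * c := inv_eq_of_mul_eq_one_right (by rw [← h3]; simp [pow_succ, mul_assoc])
  have hni : ∀ g ∈ F, c⁻¹ * g * c⁻¹⁻¹ ∈ F := fun g hg => by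
    rw [e3, show c * c * g * (c * c)⁻¹ = c * (c * g * c⁻¹) * c⁻¹ by group]
    exact hn _ (hn g hg)
  have step : ∀ d : L, d * z = z * d → (∀ g ∈ F, d * g * d⁻¹ ∈ F) → d * (d * d) = 1 →
      ¬ Eqz z (d * x * d⁻¹) x → Eqz z (d * x * d⁻¹) y → Triv F z (a⁻¹ * d) := by
    intro d hd hdn hd3 hdm e
    have hne : ∀ g, ¬ Eqz z g 1 → ¬ Eqz z (d * g * d⁻¹) 1 := fun g hg e' => hg (by
      have := e'.conj (p := d⁻¹) (show Commute d z from hd).inv_left.eq
      simpa [mul_assoc] using this)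
    have e2 : Eqz z (d * y * d⁻¹) (x * y) := by
      rcases Q.cases _ (hdn y Q.hy) with h | h | h | h
      · exact absurd h (hne y Q.not_one.2)
      · exfalso
        apply hdm
        have h1 := ((e.conj hd).trans hzz h).conj hd
        rw [show d * (d * (d * x * d⁻¹) * d⁻¹) * d⁻¹ = d * (d * d) * x * (d * (d * d))⁻¹ by group,
          hd3, one_mul, inv_one, mul_one] at h1
        exact h1.symm hzz
      · exfalso
        apply Q.ne_y
        have h1 := (h.trans hzz (e.symm hzz)).conj (p := d⁻¹) (show Commute d z from hd).inv_left.eq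
        rwa [show d⁻¹ * (d * y * d⁻¹) * d⁻¹⁻¹ = y by group,
          show d⁻¹ * (d * x * d⁻¹) * d⁻¹⁻¹ = x by group] at h1
      · exact h
    have haz : a⁻¹ * z = z * a⁻¹ := (show Commute a z from C.az).inv_left.eq
    refine Q.triv_of ((show Commute a⁻¹ z from haz).mul_left hd).eq ?_ ?_
    · have := e.conj haz
      rw [← C.ax] at this
      rwa [show a⁻¹ * (d * x * d⁻¹) * a⁻¹⁻¹ = a⁻¹ * d * x * (a⁻¹ * d)⁻¹ by group,
        show a⁻¹ * (a * x * a⁻¹) * a⁻¹⁻¹ = x by group] at this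
    · have := e2.conj haz
      rw [← C.ay] at this
      rwa [show a⁻¹ * (d * y * d⁻¹) * a⁻¹⁻¹ = a⁻¹ * d * y * (a⁻¹ * d)⁻¹ by group,
        show a⁻¹ * (a * y * a⁻¹) * a⁻¹⁻¹ = y by group] at this
  have hc3 : c * (c * c) = 1 := by rw [← h3]; simp [pow_succ, mul_assoc]
  have hm' : ¬ Eqz z (c⁻¹ * x * c⁻¹⁻¹) x := fun e => hmove (by
    have := (e.conj hc).symm hzz
    rwa [show c * (c⁻¹ * x * c⁻¹⁻¹) * c⁻¹ = x by group] at this)
  rcases Q.cases _ (hn x Q.hx) with h | h | h | h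
  · exfalso
    apply Q.not_one.1
    have := h.conj (p := c⁻¹) hci
    simpa [mul_assoc] using this
  · exact absurd h hmove
  · exact Or.inl (step c hc hn hc3 hmove h)
  · have hy : Eqz z (c⁻¹ * x * c⁻¹⁻¹) y := by
      rcases Q.cases _ (hni x Q.hx) with h' | h' | h' | h'
      · exfalso
        apply Q.not_one.1
        have := h'.conj hc
        simpa [mul_assoc] using this
      · exact absurd h' hm'
      · exact h'
      · exfalso
        apply hm'
        have h1 := (h.trans hzz (h'.symm hzz)).conj hc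
        rw [show c * (c * x * c⁻¹) * c⁻¹ = (c * c) * x * (c * c)⁻¹ by group, ← e3,
          show c * (c⁻¹ * x * c⁻¹⁻¹) * c⁻¹ = x by group] at h1
        exact h1
    have hT := step c⁻¹ hci hni (inv_eq_one.mp (by simp [mul_assoc, hc3])) hm' hy
    refine Or.inr ⟨((show Commute a z from C.az).mul_left hc).eq, fun g hg => ?_⟩
    have hk : a⁻¹ * (a * c * g * (a * c)⁻¹) * a⁻¹⁻¹ ∈ F := by
      rw [show a⁻¹ * (a * c * g * (a * c)⁻¹) * a⁻¹⁻¹ = c * g * c⁻¹ by group]
      exact hn g hg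
    have h1 := (hT.fix _ hk).conj C.az
    rw [show a * (a⁻¹ * (a * c * g * (a * c)⁻¹) * a⁻¹⁻¹) * a⁻¹ = a * c * g * (a * c)⁻¹ by group,
      show a * (a⁻¹ * c⁻¹ * (a⁻¹ * (a * c * g * (a * c)⁻¹) * a⁻¹⁻¹) * (a⁻¹ * c⁻¹)⁻¹) * a⁻¹ = g by
        group] at h1
    exact h1.symm hzz

end Quat

end Cfsg.Agent.SuzY42Quat
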