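import Cfsg.Agent.Lib.ConwayThreeStd24
import Cfsg.Agent.Lib.SuzY42Quat

/-!
# The decomposition of `Q` under an element of order three
-/

set_option autoImplicit false
set_option linter.unusedSectionVars false

namespace Cfsg.Agent.ConwayThreeSplit24

open Subgroup Cfsg.Agent.LargeExtraspecial
open Cfsg.Agent.ConwayTypeCoord62 Cfsg.Agent.ConwayThreeStd24 Cfsg.Agent.SuzY42Quat
open scoped commutatorElement

variable {G : Type*} [Group G] [Finite G]

theorem act {Q : Subgroup G} {z x : G} (h : LHyp Q z) (hxz : x * z = z * x) :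
    ∀ a ∈ zpowers x, ∀ w ∈ Q, a * w * a⁻¹ ∈ Q := by
  rintro _ ⟨k, rfl⟩ w hw
  exact h.norm _ ((show Commute x z from hxz).zpow_left k).eq w hw

section

variable {Q : Subgroup G} {z x : G} (H : Hyp Q z) (T : Three Q z x)
include H T

theorem odd_x : Odd (Nat.card (zpowers x)) := by
  rw [Nat.card_zpowers, T.orderOf_eq]; decide

theorem W_le : ⁅Q, zpowers x⁆ ≤ Q :=
  LargeExtraspecialAct.commutator_le H.h.toExt (act H.h T.yz)

theorem comm_W {c w : G} (hc : c ∈ CQ Q x) (hw : w ∈ ⁅Q, zpowers x⁆) : c * w = w * c := by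
  refine LargeExtraspecialAct.commute_commutator H.h.toExt (act H.h T.yz) ?_ hw
  rw [centralizer_zpowers]; exact hc

theorem decompose {y : G} (hy : y ∈ Q) : ∃ c ∈ CQ Q x, ∃ w ∈ ⁅Q, zpowers x⁆, y = c * w := by
  have h := LargeExtraspecialAct.decompose H.h.toExt (act H.h T.yz) (odd_x H T) hy
  rwa [centralizer_zpowers] at h

theorem inter {g : G} (h₀ : g ∈ CQ Q x) (hW : g ∈ ⁅Q, zpowers x⁆) : g = 1 ∨ g = z := by
  refine H.h.central (mem_CQ.1 h₀).1 fun y hy => ?_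
  obtain ⟨c, hc, w, hw, rfl⟩ := decompose H T hy
  exact ((show Commute c g from comm_W H T hc hW).mul_left
    (show Commute w g from (comm_W H T h₀ hw).symm)).eq

theorem z_mem_W : z ∈ ⁅Q, zpowers x⁆ := by
  obtain ⟨w, hw, h1, h2⟩ : ∃ w ∈ ⁅Q, zpowers x⁆, w ≠ 1 ∧ w ≠ z := by
    by_contra hno
    push Not at hno
    have hle : Q ≤ CQ Q x := fun y hy => by
      obtain ⟨c, hc, w, hw, rfl⟩ := decompose H T hy
      refine mul_mem hc ?_
      by_cases h1 : w = 1
      · rw [h1]; exact one_mem _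
      · rw [hno w hw h1]; exact mem_CQ.2 ⟨H.h.mem, T.yz.symm⟩
    have := Subgroup.card_le_of_le hle
    rw [T.card, H.cardQ] at this
    omega
  obtain ⟨y, hy, ey⟩ := H.h.partner w (W_le H T hw) h1 h2
  have h := LargeExtraspecialAct.conj_mem_commutator (A := zpowers x) H.h.toExt hy hw
  rw [ey] at h
  have := mul_mem h (inv_mem hw)
  rwa [mul_inv_cancel_right] at this

theorem ext_W : Ext ⁅Q, zpowers x⁆ z :=
  LargeExtraspecialAct.ext_commutator H.h.toExt (act H.h T.yz) (odd_x H T) (z_mem_W H T)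

theorem fibre {c c' w w' : G} (hc : c ∈ CQ Q x) (hc' : c' ∈ CQ Q x)
    (hw : w ∈ ⁅Q, zpowers x⁆) (hw' : w' ∈ ⁅Q, zpowers x⁆) (e : c * w = c' * w') :
    (c = c' ∧ w = w') ∨ (c = z * c' ∧ w = z * w') := by
  have h1 : c'⁻¹ * c = w' * w⁻¹ := by
    rw [inv_mul_eq_iff_eq_mul, ← mul_assoc, ← e, mul_inv_cancel_right]
  rcases inter H T (mul_mem (inv_mem hc') hc) (h1 ▸ mul_mem hw' (inv_mem hw)) with d | d
  · refine Or.inl ⟨(inv_mul_eq_one.1 d).symm, ?_⟩
    rw [h1] at d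
    exact (mul_inv_eq_one.1 d).symm
  · refine Or.inr ⟨?_, ?_⟩
    · rw [inv_mul_eq_iff_eq_mul.1 d, H.h.comm c' (mem_CQ.1 hc').1]
    · rw [h1] at d
      rw [mul_inv_eq_iff_eq_mul.1 d, H.h.z_mul_z_mul]

theorem card_W : Nat.card ↥⁅Q, zpowers x⁆ = 8 := by
  let φ : ↥(CQ Q x) × ↥⁅Q, zpowers x⁆ →* Q :=
    { toFun := fun p => ⟨p.1 * p.2, Q.mul_mem (mem_CQ.1 p.1.2).1 (W_le H T p.2.2)⟩
      map_one' := Subtype.ext (mul_one 1)
      map_mul' := fun p r => Subtype.ext (by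
        show (p.1 : G) * r.1 * (p.2 * r.2) = p.1 * p.2 * (r.1 * r.2)
        exact (show Commute (r.1 : G) p.2 from comm_W H T r.1.2 p.2.2).mul_mul_mul_comm _ _) }
  have hsurj : φ.range = ⊤ := by
    rw [eq_top_iff]
    rintro ⟨q, hq⟩ -
    obtain ⟨c, hc, w, hw, e⟩ := decompose H T hq
    exact ⟨(⟨c, hc⟩, ⟨w, hw⟩), Subtype.ext e.symm⟩
  have hzC : z ∈ CQ Q x := mem_CQ.2 ⟨H.h.mem, T.yz.symm⟩
  have hker : Nat.card φ.ker = 2 := by
    refine le_antisymm ?_ ?_
    · refine le_trans (Nat.card_le_card_of_injective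
        (fun p : φ.ker => (⟨(p.1.1 : G), ?_⟩ : zpowers z)) fun p r e => ?_) ?_
      · have e : (p.1.1 : G) * p.1.2 = 1 := congrArg Subtype.val p.2
        rcases fibre H T p.1.1.2 (one_mem _) p.1.2.2 (one_mem _) (by rw [e, one_mul]) with d | d
        · rw [d.1]; exact one_mem _
        · rw [d.1, mul_one]; exact mem_zpowers z
      · have e' : (p.1.1 : G) = r.1.1 := by simpa using congrArg Subtype.val e
        have ep : (p.1.1 : G) * p.1.2 = 1 := congrArg Subtype.val p.2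
        have er : (r.1.1 : G) * r.1.2 = 1 := congrArg Subtype.val r.2
        refine Subtype.ext (Prod.ext (Subtype.ext e') (Subtype.ext ?_))
        rw [e'] at ep
        exact mul_left_cancel (ep.trans er.symm)
      · rw [Nat.card_zpowers, H.h.toExt.orderOf_z]
    · have hne : (⟨(⟨z, hzC⟩, ⟨z, z_mem_W H T⟩), Subtype.ext H.h.zz⟩ : φ.ker) ≠ 1 :=
        fun e => H.h.ne_one
          (congrArg Subtype.val (congrArg Prod.fst (congrArg Subtype.val e)))
      haveI : Nontrivial φ.ker := nontrivial_of_ne _ _ hne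
      exact Finite.one_lt_card
  have hm : Nat.card φ.ker * Nat.card φ.range = 128 * Nat.card ↥⁅Q, zpowers x⁆ := by
    rw [← Subgroup.index_ker, Subgroup.card_mul_index, Nat.card_prod, T.card]
  rw [hker, hsurj, Subgroup.card_top, H.cardQ] at hm
  omega

theorem y_W {w : G} (hw : w ∈ ⁅Q, zpowers x⁆) {l : G} (hlz : l * z = z * l)
    (hlx : l * x = x * l) : l * w * l⁻¹ ∈ ⁅Q, zpowers x⁆ := by
  have : ⁅Q, zpowers x⁆ ≤ (⁅Q, zpowers x⁆).comap (MulAut.conj l).toMonoidHom := by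
    rw [Subgroup.commutator_le]
    rintro q hq _ ⟨k, rfl⟩
    show l * ⁅q, x ^ k⁆ * l⁻¹ ∈ ⁅Q, zpowers x⁆
    have hk : l * x ^ k * l⁻¹ = x ^ k := by
      rw [((show Commute l x from hlx).zpow_right k).eq, mul_inv_cancel_right]
    have : l * ⁅q, x ^ k⁆ * l⁻¹ = ⁅l * q * l⁻¹, x ^ k⁆ := by
      conv_rhs => rw [← hk]
      simp only [commutatorElement_def]; group
    rw [this]
    exact commutator_mem_commutator (H.h.norm l hlz q hq) (zpow_mem (mem_zpowers x) k)
  exact this hw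

theorem exists_quat_W : ∃ xw yw, Quat ⁅Q, zpowers x⁆ z xw yw ∧ Cyc z xw yw x :=
  exists_quat (ext_W H T) (card_W H T) T.yz T.y3 (fun _ hw => y_W H T hw T.yz rfl)
    fun _ hw hc => inter H T (mem_CQ.2 ⟨W_le H T hw, hc.symm⟩) hw

/-- The action on `[Q, x]` is that of a power of `x`, up to an inner one. -/
theorem adjust_W {l : G} (hlz : l * z = z * l) (hlx : l * x = x * l) :
    ∃ i : ℕ, SuzY42Quat.Triv ⁅Q, zpowers x⁆ z ((x ^ i)⁻¹ * l) := by
  obtain ⟨xw, yw, q, c⟩ := exists_quat_W H T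
  refine q.commuting_case c hlz (fun g hg => y_W H T hg hlz hlx) fun g _ => Or.inl ?_
  have hc : Commute l x := hlx
  calc l * (x * g * x⁻¹) * l⁻¹ = (l * x) * g * (l * x)⁻¹ := by group
    _ = (x * l) * g * (x * l)⁻¹ := by rw [hc.eq]
    _ = x * (l * g * l⁻¹) * x⁻¹ := by group

end

end Cfsg.Agent.ConwayThreeSplit24
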