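import Mathlib
import Cfsg.Agent.Lib.OrthCharTwoForms

/-!
# The order of the commutator group of the minus orthogonal group in dimension six over two elements
-/

set_option autoImplicit false
set_option maxRecDepth 100000

namespace Cfsg.Agent.SuzTypeOrder62

open QuadraticMap
open Cfsg.Agent.OrthUnitaryQuad Cfsg.Agent.OrthUnitaryRefl Cfsg.Agent.OrthUnitaryForms
open Cfsg.Agent.OrthCharTwoForms

/-- The form. -/
abbrev qf : ((Fin 2 ⊕ Fin 2) ⊕ Fin 2 → ZMod 2) → ZMod 2 := Cfsg.quadFormMinus 2 (ZMod 2) 1 1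

theorem aniso : IsAniso (1 : ZMod 2) 1 := by unfold IsAniso; decide

theorem good : Good qf := by
  let e := eqMinus (F := ZMod 2) 2
  let Q : QuadraticForm (ZMod 2) ((Fin 2 ⊕ Fin 2) ⊕ Fin 2 → ZMod 2) :=
    (withBase 2 (qfBin 1 1)).comp e.symm.toLinearMap
  have hQ : ∀ v, qf v = Q v := fun v => by
    show _ = withBase 2 (qfBin 1 1) (e.symm v)
    rw [← eqMinus_isometry, LinearEquiv.apply_symm_apply]
  refine ⟨Q, hQ, ?_, by simp⟩
  have key : ∀ x, (∀ y, polarBilin Q x y = 0) → x = 0 := by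
    intro x hx
    simp only [polarBilin_apply_apply, polar, ← hQ] at hx
    have : ∀ x : (Fin 2 ⊕ Fin 2) ⊕ Fin 2 → ZMod 2,
        (∀ y, qf (x + y) - qf x - qf y = 0) → x = 0 := by decide +kernel
    exact this x hx
  exact ⟨key, fun y hy => key y fun x => by
    have := hy x
    rw [polarBilin_apply_apply, polar_comm] at this
    rwa [polarBilin_apply_apply]⟩

theorem card_omega : Nat.card ↥(Cfsg.Omega (ZMod 2) qf) = 25920 := by
  obtain ⟨Q, e, D, hQ, hnd, -, hD, -, -, hΩ, hval⟩ := exists_bridge good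
  have hiso : Nat.card (Cfsg.isometryGroup (ZMod 2) qf) = 51840 := by
    rw [card_isometryGroup_minus (F := ZMod 2) (q := 2) (ZMod.card 2) aniso 2]
    norm_num [Finset.prod_range_succ]
  have hidx : (Cfsg.Omega (ZMod 2) qf).index = 2 := by
    let ψ : Cfsg.isometryGroup (ZMod 2) qf →* Multiplicative (ZMod 2) := D.comp e.toMonoidHom
    have hker : Cfsg.Omega (ZMod 2) qf = ψ.ker := Subgroup.ext fun g => hΩ g
    have hsurj : Function.Surjective ψ := by
      intro y
      obtain rfl | rfl : y = 1 ∨ y = Multiplicative.ofAdd 1 := by revert y; decide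
      · exact ⟨1, map_one _⟩
      · obtain ⟨v, hv⟩ : ∃ v, Q v ≠ 0 := by
          refine ⟨Pi.single (Sum.inr 0) 1, ?_⟩
          rw [← hQ]
          decide
        exact ⟨e.symm (refl Q v hv), by simp [ψ, hD]⟩
    rw [hker, Subgroup.index_ker, MonoidHom.range_eq_top.mpr hsurj, Subgroup.card_top,
      Nat.card_eq_fintype_card]
    rfl
  have h := Subgroup.card_mul_index (Cfsg.Omega (ZMod 2) qf)
  rw [hidx, hiso] at h
  omega

end Cfsg.Agent.SuzTypeOrder62
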