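import Cfsg.Agent.Lib.ConwayThreeCoord24
import Cfsg.Agent.Lib.ConwayThreeSplit24
import Cfsg.Agent.Lib.SuzTypeOrder62

/-!
# The centraliser of `z` and of an element of order three: order, kernel and image
-/

set_option autoImplicit false
set_option linter.unusedSectionVars false

namespace Cfsg.Agent.ConwayThreeLocal24

open Subgroup Cfsg.Agent.LargeExtraspecial
open Cfsg.Agent.ConwayTypeModel62 Cfsg.Agent.ConwayTypeCoord62 Cfsg.Agent.ConwayTypeRadical62
open Cfsg.Agent.ConwayThreeFacts24 Cfsg.Agent.ConwayThreeStd24 Cfsg.Agent.ConwayThreeCoord24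
open Cfsg.Agent.ConwayThreeSplit24 Cfsg.Agent.SuzY42Quat

variable {G : Type*} [Group G] [Finite G]

theorem card_cent_c3 :
    Nat.card ↥(centralizer ({c3} : Set P8) ⊓ alternatingGroup (Fin 8)) = 180 := by
  classical
  have hM : Nat.card ↥(centralizer ({c3} : Set P8)) = 360 := by
    rw [Equiv.Perm.nat_card_centralizer, c3_facts.2.2.2.2.2.1]
    decide +kernel
  have hidx : ((centralizer ({c3} : Set P8) ⊓ alternatingGroup (Fin 8)).subgroupOf
      (centralizer ({c3} : Set P8))).index = 2 := by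
    refine Subgroup.index_eq_two_iff.mpr
      ⟨⟨sw, mem_centralizer_singleton_iff.mpr c3_facts.2.2.2.2.1⟩, fun b => ?_⟩
    simp only [Subgroup.mem_subgroupOf, mem_inf, Subgroup.coe_mul,
      Equiv.Perm.mem_alternatingGroup, map_mul, c3_facts.2.2.2.1]
    rcases Int.units_eq_one_or (Equiv.Perm.sign (b : P8)) with hs | hs
    · exact Or.inr ⟨⟨b.2, hs⟩, fun e => by rw [hs] at e; exact absurd e.2 (by decide)⟩
    · exact Or.inl ⟨⟨mul_mem b.2 (mem_centralizer_singleton_iff.mpr c3_facts.2.2.2.2.1),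
        by rw [hs]; rfl⟩, fun e => by rw [hs] at e; exact absurd e.2 (by decide)⟩
  have h := Subgroup.card_mul_index ((centralizer ({c3} : Set P8) ⊓ alternatingGroup (Fin 8)).subgroupOf
      (centralizer ({c3} : Set P8)))
  rw [hidx, hM, Nat.card_congr (Subgroup.subgroupOfEquivOfLe
    (inf_le_left : centralizer ({c3} : Set P8) ⊓ alternatingGroup (Fin 8) ≤ _)).toEquiv] at h
  omega

/-- The centraliser of `z` and `x`. -/
abbrev CC (z x : G) : Subgroup G := centralizer ({z} : Set G) ⊓ centralizer ({x} : Set G)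

theorem mem_CC {z x g : G} : g ∈ CC z x ↔ g * z = z * g ∧ g * x = x * g := by
  simp [CC, mem_centralizer_singleton_iff]

variable {Q Q' : Subgroup G} {z t : G} {ν : G → M6} {d : G} {ρ : ↥(Sx z t) →* P8}
  {x : ↥(Sx z t)} (S : Std Q Q' z t ν d ρ x)

include S

theorem card_stab :
    Nat.card ↥(Sx z t ⊓ centralizer ({(x : G)} : Set G) : Subgroup G) = 184320 := by
  classical
  set S' := Sx z t ⊓ centralizer ({(x : G)} : Set G) with hS'
  let ρ' : ↥S' →* P8 := ρ.comp (Subgroup.inclusion inf_le_left)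
  have hrange : ρ'.range = centralizer ({c3} : Set P8) ⊓ alternatingGroup (Fin 8) := by
    refine le_antisymm ?_ ?_
    · rintro _ ⟨c, rfl⟩
      refine ⟨mem_centralizer_singleton_iff.mpr ?_,
        Equiv.Perm.mem_alternatingGroup.mpr (S.D.sign_rho _)⟩
      rw [← S.rx]
      show ρ _ * ρ x = ρ x * ρ _
      rw [← map_mul, ← map_mul]
      exact congrArg ρ (Subtype.ext (mem_centralizer_singleton_iff.1 c.2.2))
    · rintro σ ⟨hc, hs⟩
      obtain ⟨c, hc1, hc2⟩ := exists_lift S (Equiv.Perm.mem_alternatingGroup.mp hs)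
        (mem_centralizer_singleton_iff.mp hc)
      exact ⟨⟨c, c.2, mem_centralizer_singleton_iff.mpr (congrArg Subtype.val hc2)⟩, hc1⟩
  have hker : Nat.card ρ'.ker = 1024 := by
    have hlift : ∀ v : {v : M6 // act c3 v = v},
        ∃ b ∈ Cx Q' z, b * (x : G) = x * b ∧ ev ν d b = v := fun v => by
      obtain ⟨b, hb, e⟩ := S.D.ev_surj v
      exact ⟨b, hb, (c'_fix_iff S.D S.T.y3 hb).mpr (by rw [S.rx, e]; exact v.2), e⟩
    choose b hb hbx hbe using hlift
    have hRc : ∀ c : ρ'.ker, ((c : ↥S') : G) ∈ S.D.P.R := fun c => S.D.rho_R.mp c.2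
    have hevfix : ∀ c : ρ'.ker, act c3 (ev ν d ((c : ↥S') : G)) = ev ν d ((c : ↥S') : G) := by
      intro c
      have hR : ((c : ↥S') : G) ∈ S.D.P.R := S.D.rho_R.mp c.2
      obtain ⟨u, hu, w, hw, e⟩ := S.D.decomp hR
      have hcx : ((c : ↥S') : G) * (x : G) = x * ((c : ↥S') : G) :=
        mem_centralizer_singleton_iff.mp (c : ↥S').2.2
      have hu' := S.D.H.conj_Cx x.2 hu
      have hw' := S.D.conj_C' x.2 hw
      have e2 : ((c : ↥S') : G) = ((x : G) * u * (x : G)⁻¹) * ((x : G) * w * (x : G)⁻¹) := by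
        calc ((c : ↥S') : G) = (x : G) * ((c : ↥S') : G) * (x : G)⁻¹ := by
              rw [← hcx, mul_inv_cancel_right]
          _ = _ := by rw [e]; group
      have h1 : ev ν d ((c : ↥S') : G) = ev ν d w := by
        rw [e, S.D.ev_mul (S.D.triv_of_R (S.D.Cx_le_R hu)) (S.D.C'_le_Sx hw), S.D.ev_Cx hu,
          add_zero]
      have h2 : ev ν d ((c : ↥S') : G) = act c3 (ev ν d w) := by
        rw [e2, S.D.ev_mul (S.D.triv_of_R (S.D.Cx_le_R hu')) (S.D.C'_le_Sx hw'), S.D.ev_Cx hu',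
          add_zero, S.D.ev_conj hw, S.rx]
      rw [h1] at h2 ⊢
      exact h2.symm
    have e16 : Nat.card {v : M6 // act c3 v = v} = 16 := by
      rw [Nat.card_eq_fintype_card, Fintype.card_subtype, fix_card.1]
    have e64 : Nat.card ↥(Cx Q t ⊓ centralizer ({(x : G)} : Set G) : Subgroup G) = 64 := by
      rw [card_cx_fix S.D S.T.y3, S.rx, fix_card.1]
    rw [show 1024 = 64 * 16 from rfl, ← e64, ← e16, ← Nat.card_prod]
    refine Nat.card_congr
      { toFun := fun c => (⟨((c : ↥S') : G) * (b ⟨_, hevfix c⟩)⁻¹, ⟨S.D.mem_Cx_of_ev (S.D.triv_of_R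
            (mul_mem (hRc c) (inv_mem (S.D.C'_le_R (hb _))))) (by
              rw [S.D.ev_mul (S.D.triv_of_R (hRc c)) (inv_mem (S.D.C'_le_Sx (hb _))),
                S.D.ev_inv (hb _), hbe]
              exact ConwayTypeModel62.add_self _),
            mul_mem (c : ↥S').2.2 ((centralizer ({(x : G)} : Set G)).inv_mem (mem_centralizer_singleton_iff.mpr (hbx _)))⟩⟩,
          ⟨_, hevfix c⟩)
        invFun := fun p => ⟨⟨(p.1 : G) * b p.2, mul_mem (S.D.H.Cx_le_Sx p.1.2.1) (S.D.C'_le_Sx (hb _)),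
            mul_mem p.1.2.2 (mem_centralizer_singleton_iff.mpr (hbx _))⟩,
          S.D.rho_R.mpr (mul_mem (S.D.Cx_le_R p.1.2.1) (S.D.C'_le_R (hb _)))⟩
        left_inv := fun c => Subtype.ext (Subtype.ext (by dsimp; group))
        right_inv := fun p => by
          have e : ev ν d ((p.1 : G) * b p.2) = p.2 := by
            rw [S.D.ev_mul (S.D.triv_of_R (S.D.Cx_le_R p.1.2.1)) (S.D.C'_le_Sx (hb _)),
              S.D.ev_Cx p.1.2.1, add_zero, hbe]
          refine Prod.ext (Subtype.ext ?_) (Subtype.ext e)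
          show (p.1 : G) * b p.2 * (b ⟨_, _⟩)⁻¹ = p.1
          simp only [e, Subtype.coe_eta, mul_inv_cancel_right] }
  rw [← Subgroup.card_mul_index ρ'.ker, Subgroup.index_ker, hker, hrange, card_cent_c3]

variable {a b p q : G} (S6 : Six Q z (x : G) t d a b p q)
include S6

theorem card_sing : {w : G | Sing Q z w ∧ w * (x : G) = x * w}.ncard = 54 := by
  classical
  rw [← Nat.card_coe_set_eq]
  have e : Nat.card (ZMod 2 × {v : V6 // qm v = 0 ∧ v ≠ 0}) = 54 := by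
    rw [Nat.card_prod, Nat.card_zmod, Nat.card_eq_fintype_card, Fintype.card_subtype, qm_count]
  rw [← e]
  have hw := fun v => (mem_CQ.1 (S6.wd_mem v))
  have hzC : ∀ i, zp z i ∈ CQ Q (x : G) := fun i => zp_mem (Six.z_CQ S6) i
  refine (Nat.card_congr (Equiv.ofBijective (fun iv : ZMod 2 × {v : V6 // qm v = 0 ∧ v ≠ 0} =>
    (⟨zp z iv.1 * S6.wd iv.2, ?_⟩ : ↥{w : G | Sing Q z w ∧ w * (x : G) = x * w})) ⟨?_, ?_⟩)).symm
  · have hm := mem_CQ.1 (mul_mem (hzC iv.1) (S6.wd_mem iv.2))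
    have hco : S6.co (zp z iv.1 * S6.wd iv.2) = iv.2 := by
      rw [S6.co_mul (mem_CQ.1 (hzC _)).1 (hw _).1, S6.co_zp, S6.co_wd, zero_add]
    refine ⟨⟨hm.1, ?_, fun h => iv.2.2.2 ?_, fun h => iv.2.2.2 ?_⟩, hm.2⟩
    · rw [S6.sq_eq (mul_mem (hzC iv.1) (S6.wd_mem iv.2)), hco, iv.2.2.1, zp_zero]
    · rw [← hco, h, S6.co_one]
    · have h1 := S6.co_zp 1
      rw [zp_one] at h1
      rw [← hco, h, h1]
  · intro iv jv h
    have h' : zp z iv.1 * S6.wd iv.2 = zp z jv.1 * S6.wd jv.2 := congrArg Subtype.val h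
    have hv : (iv.2 : V6) = jv.2 := by
      have := congrArg S6.co h'
      rwa [S6.co_mul (mem_CQ.1 (hzC _)).1 (hw _).1, S6.co_mul (mem_CQ.1 (hzC _)).1 (hw _).1,
        S6.co_zp, S6.co_zp, S6.co_wd, S6.co_wd, zero_add, zero_add] at this
    rw [hv] at h'
    exact Prod.ext (zp_inj S.D.H.h.ne_one (mul_right_cancel h')) (Subtype.ext hv)
  · rintro ⟨w, ⟨⟨hwQ, hww, hw1, hwz⟩, hwx⟩⟩
    have hwC : w ∈ CQ Q (x : G) := mem_CQ.2 ⟨hwQ, hwx⟩
    obtain ⟨i, hi⟩ := S6.rep hwC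
    refine ⟨(i, ⟨S6.co w, ?_, fun h => ?_⟩), Subtype.ext hi.symm⟩
    · exact zp_inj S.D.H.h.ne_one (by rw [← S6.sq_eq hwC, hww, zp_zero])
    · rcases S6.co_eq_zero hwC h with e | e
      exacts [hw1 e, hwz e]

theorem card_CC : Nat.card ↥(CC z (x : G)) = 9953280 := by
  set C := CC z (x : G) with hC
  letI : MulAction ↥C G := MulAction.compHom G (ConjAct.toConjAct.toMonoidHom.comp C.subtype)
  have ha : ∀ (c : ↥C) (y : G), c • y = (c : G) * y * (c : G)⁻¹ := fun c y =>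
    ConjAct.smul_def (ConjAct.toConjAct (c : G)) y
  have ho : MulAction.orbit ↥C t = {w : G | Sing Q z w ∧ w * (x : G) = x * w} := by
    ext w
    simp only [MulAction.mem_orbit_iff, ha, Set.mem_setOf_eq]
    constructor
    · rintro ⟨⟨c, hc⟩, rfl⟩
      obtain ⟨hcz, hcx⟩ := mem_CC.1 hc
      have hcx' : Commute c x := hcx
      refine ⟨S.D.H.conj_sing (mem_centralizer_singleton_iff.2 hcz) S.D.sing, ?_⟩
      exact ((hcx'.mul_left (show Commute t (x : G) from (xt S).symm)).mul_left hcx'.inv_left).eq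
    · rintro ⟨hw, hwx⟩
      obtain ⟨c, hcz, hc⟩ := S.D.H.transitive hw S.D.sing
      have e0 : c * (x : G) * c⁻¹ * (c * w * c⁻¹) = c * w * c⁻¹ * (c * (x : G) * c⁻¹) := by
        calc c * (x : G) * c⁻¹ * (c * w * c⁻¹) = c * ((x : G) * w) * c⁻¹ := by group
          _ = c * (w * x) * c⁻¹ := by rw [hwx]
          _ = c * w * c⁻¹ * (c * (x : G) * c⁻¹) := by group
      obtain ⟨s, hs, e⟩ := conj_in_Sx S.D S.T (S.T.conj S.D.H.h hcz) (xt S)
        (by simpa only [hc] using e0)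
      obtain ⟨hsz, hst⟩ := mem_Sx.1 hs
      have h1 : Commute (s * c) z := (show Commute s z from hsz).mul_left hcz
      have h2 : Commute (s * c) (x : G) := mul_inv_eq_iff_eq_mul.1 (by
        calc s * c * (x : G) * (s * c)⁻¹ = s * (c * (x : G) * c⁻¹) * s⁻¹ := by group
          _ = x := e)
      refine ⟨⟨(s * c)⁻¹, mem_CC.2 ⟨h1.inv_left.eq, h2.inv_left.eq⟩⟩, ?_⟩
      show (s * c)⁻¹ * t * (s * c)⁻¹⁻¹ = w
      calc (s * c)⁻¹ * t * (s * c)⁻¹⁻¹ = c⁻¹ * (s⁻¹ * (t * s)) * c := by group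
        _ = c⁻¹ * (s⁻¹ * (s * t)) * c := by rw [hst]
        _ = c⁻¹ * t * c := by group
        _ = w := by rw [← hc]; group
  have hs : Nat.card (MulAction.stabilizer ↥C t) = 184320 := by
    rw [← card_stab S]
    exact Nat.card_congr
      { toFun := fun c => ⟨((c : ↥C) : G), ⟨mem_Sx.2 ⟨(mem_CC.1 (c : ↥C).2).1,
          mul_inv_eq_iff_eq_mul.mp ((ha c t).symm.trans c.2)⟩, (c : ↥C).2.2⟩⟩
        invFun := fun c => ⟨⟨c, mem_CC.2 ⟨(mem_Sx.1 c.2.1).1, mem_centralizer_singleton_iff.1 c.2.2⟩⟩,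
          (ha _ t).trans (mul_inv_eq_iff_eq_mul.mpr (mem_Sx.1 c.2.1).2)⟩
        left_inv := fun _ => rfl
        right_inv := fun _ => rfl }
  rw [← Subgroup.card_mul_index (MulAction.stabilizer ↥C t), MulAction.index_stabilizer, ho,
    card_sing S S6, hs]

/-- An element of `C(z) ∩ C(x)` acting trivially on `C_Q(x)` modulo `z`. -/
theorem exists_of_triv (c : ↥(CC z (x : G))) (hc : S6.toIso c = 1) :
    ∃ i : ℕ, ∃ m ∈ CQ Q (x : G), (c : G) = (x : G) ^ i * m := by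
  obtain ⟨hcz, hcx⟩ := mem_CC.1 c.2
  obtain ⟨i, hi⟩ := adjust_W S.D.H S.T hcz hcx
  set m := ((x : G) ^ i)⁻¹ * (c : G) with hm
  refine ⟨i, m, ?_, by rw [hm, mul_inv_cancel_left]⟩
  have hxi : Commute ((x : G) ^ i) (x : G) := (Commute.refl (x : G)).pow_left i
  have hmx : Commute m (x : G) := hxi.inv_left.mul_left hcx
  have hQ := S.D.H.h.toExt
  -- on the centraliser of `x`
  have hfixm : ∀ k ∈ CQ Q (x : G), ∃ j, m * k * m⁻¹ = zp z j * k := by
    intro k hk
    have hk' := Six.conj_mem S6 c.2 hk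
    have hco := (S6.toIso_eq_one c).1 hc k hk
    obtain ⟨j, ej⟩ := S6.rep hk'
    obtain ⟨l, el⟩ := S6.rep hk
    rw [hco] at ej
    have hxk : Commute ((x : G) ^ i) ((c : G) * k * (c : G)⁻¹) :=
      ((show Commute ((c : G) * k * (c : G)⁻¹) (x : G) from (mem_CQ.1 hk').2).pow_right i).symm
    refine ⟨j + l, ?_⟩
    calc m * k * m⁻¹ = ((x : G) ^ i)⁻¹ * ((c : G) * k * (c : G)⁻¹) * (x : G) ^ i := by
          rw [hm]; group
      _ = (c : G) * k * (c : G)⁻¹ := by rw [hxk.inv_left.eq]; group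
      _ = zp z j * S6.wd (S6.co k) := ej
      _ = zp z (j + l) * (zp z l * S6.wd (S6.co k)) := by
        rw [← mul_assoc, ← zp_add hQ.zz, add_assoc, CharTwo.add_self_eq_zero, add_zero]
      _ = _ := by rw [← el]
  choose j hj using fun k : ↥(CQ Q (x : G)) => hfixm k k.2
  let w₀ : V6 := Sum.elim (Sum.elim ![j ⟨d, S6.hd⟩, j ⟨b, S6.hb⟩] ![j ⟨t, S6.ht⟩, j ⟨a, S6.ha⟩])
    ![j ⟨q, S6.hq⟩, j ⟨p, S6.hp⟩]
  set e := S6.wd w₀ with he
  have heC : e ∈ CQ Q (x : G) := S6.wd_mem _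
  have hcb := S6.co_wd w₀
  obtain ⟨xw, yw, qW, -⟩ := exists_quat_W S.D.H S.T
  obtain ⟨w, hw, hwc⟩ := qW.inner hi
  -- the six generators
  have hgen : ∀ g, ∀ hg : g ∈ CQ Q (x : G), cb g e = j ⟨g, hg⟩ → Commute (e⁻¹ * m) g := by
    intro g hg heq
    show e⁻¹ * m * g = g * (e⁻¹ * m)
    refine mul_inv_eq_iff_eq_mul.1 ?_
    have h1 := cb_spec hQ (mem_CQ.1 heC).1 (mem_CQ.1 hg).1
    rw [cb_symm, heq] at h1
    calc e⁻¹ * m * g * (e⁻¹ * m)⁻¹ = e⁻¹ * (m * g * m⁻¹) * e := by group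
      _ = e⁻¹ * (e * g * e⁻¹) * e := by rw [hj ⟨g, hg⟩, h1]
      _ = g := by group
  have ct := hgen t S6.ht (congrFun hcb (.inl (.inr 0)))
  have cd := hgen d S6.hd (congrFun hcb (.inl (.inl 0)))
  have ca := hgen a S6.ha (congrFun hcb (.inl (.inr 1)))
  have cbb := hgen b S6.hb (congrFun hcb (.inl (.inl 1)))
  have cp := hgen p S6.hp (congrFun hcb (.inr 1))
  have cq := hgen q S6.hq (congrFun hcb (.inr 0))
  have hmz : Commute m z := (((show Commute (x : G) z from xz S).pow_left i)).inv_left.mul_left hcz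
  have hez : Commute (e⁻¹ * m) z :=
    (show Commute e z from S.D.H.h.comm e (mem_CQ.1 heC).1).inv_left.mul_left hmz
  have czp : ∀ {g : G}, Commute (e⁻¹ * m) g → ∀ i, Commute (e⁻¹ * m) (zp g i) := fun {g} hg i => by
    rcases two_eq i with rfl | rfl
    · rw [zp_zero]; exact Commute.one_right _
    · rw [zp_one]; exact hg
  have hA : ∀ k ∈ CQ Q (x : G), Commute (e⁻¹ * m) k := fun k hk => by
    obtain ⟨l, el⟩ := S6.rep hk
    rw [el]
    exact (czp hez l).mul_right ((((czp ct _).mul_right (czp cd _)).mul_right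
      ((czp ca _).mul_right (czp cbb _))).mul_right ((czp cp _).mul_right (czp cq _)))
  have hall : ∀ y ∈ Q, (w⁻¹ * (e⁻¹ * m)) * y = y * (w⁻¹ * (e⁻¹ * m)) := by
    intro y hy
    obtain ⟨k, hk, v, hv, rfl⟩ := decompose S.D.H S.T hy
    have c1 : Commute (w⁻¹ * (e⁻¹ * m)) k :=
      (show Commute k w from comm_W S.D.H S.T hk hw).symm.inv_left.mul_left (hA k hk)
    have ewC : Commute e w := comm_W S.D.H S.T heC hw
    have e1 : w⁻¹ * (e⁻¹ * m) = e⁻¹ * (w⁻¹ * m) :=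
      calc w⁻¹ * (e⁻¹ * m) = (w⁻¹ * e⁻¹) * m := (mul_assoc _ _ _).symm
        _ = (e⁻¹ * w⁻¹) * m := by rw [ewC.inv_left.inv_right.eq]
        _ = e⁻¹ * (w⁻¹ * m) := mul_assoc _ _ _
    have c2 : Commute (w⁻¹ * (e⁻¹ * m)) v := by
      rw [e1]
      exact (show Commute e v from comm_W S.D.H S.T heC hv).inv_left.mul_left (hwc v hv)
    exact (c1.mul_right c2).eq
  have hex : Commute e (x : G) := (mem_CQ.1 heC).2
  have hcent := S.D.H.h.cent _ hall
  have hwx : Commute w (x : G) := by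
    have hu : Commute (w⁻¹ * (e⁻¹ * m)) (x : G) := by
      rcases hcent with e' | e' <;> rw [e']
      exacts [Commute.one_left _, (show Commute (x : G) z from xz S).symm]
    have := (hex.inv_left.mul_left hmx).mul_left hu.inv_left
    rwa [show e⁻¹ * m * (w⁻¹ * (e⁻¹ * m))⁻¹ = w by group] at this
  have hwC : w ∈ CQ Q (x : G) := mem_CQ.2 ⟨W_le S.D.H S.T hw, hwx.eq⟩
  have hu : w⁻¹ * (e⁻¹ * m) ∈ CQ Q (x : G) := by
    rcases hcent with e' | e' <;> rw [e']
    exacts [one_mem _, Six.z_CQ S6]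
  have := mul_mem heC (mul_mem hwC hu)
  rwa [mul_inv_cancel_left, mul_inv_cancel_left] at this

theorem card_ker : Nat.card S6.toIso.ker = 384 := by
  have hxC : (x : G) ∈ CC z (x : G) := mem_CC.2 ⟨xz S, rfl⟩
  have hQC : ∀ m ∈ CQ Q (x : G), m ∈ CC z (x : G) := fun m hm =>
    mem_CC.2 ⟨S.D.H.h.comm m (mem_CQ.1 hm).1, (mem_CQ.1 hm).2⟩
  have hzp : zpowers (x : G) ≤ CC z (x : G) := zpowers_le.2 hxC
  have htriv : ∀ (g : ↥(zpowers (x : G))) (m : ↥(CQ Q (x : G))),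
      S6.toIso ⟨(g : G) * m, mul_mem (hzp g.2) (hQC m m.2)⟩ = 1 := by
    rintro ⟨g, hg⟩ ⟨m, hm⟩
    refine (S6.toIso_eq_one _).2 fun k hk => ?_
    obtain ⟨l, rfl⟩ := hg
    have h1 : Commute ((x : G) ^ l) (m * k * m⁻¹) :=
      (((show Commute (x : G) m from (mem_CQ.1 hm).2.symm).mul_right
        (show Commute (x : G) k from (mem_CQ.1 hk).2.symm)).mul_right
        (show Commute (x : G) m from (mem_CQ.1 hm).2.symm).inv_right).zpow_left l
    show S6.co ((x : G) ^ l * m * k * ((x : G) ^ l * m)⁻¹) = S6.co k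
    rw [show (x : G) ^ l * m * k * ((x : G) ^ l * m)⁻¹ = (x : G) ^ l * (m * k * m⁻¹) * ((x : G) ^ l)⁻¹
      by group, h1.eq, mul_inv_cancel_right, cb_spec S.D.H.h.toExt (mem_CQ.1 hm).1 (mem_CQ.1 hk).1,
      S6.co_mul (zp_mem S.D.H.h.mem _) (mem_CQ.1 hk).1, S6.co_zp, zero_add]
  have e : Nat.card ↥(zpowers (x : G)) * Nat.card ↥(CQ Q (x : G)) = 384 := by
    rw [Nat.card_zpowers, S.T.orderOf_eq, S.T.card]
  rw [← e, ← Nat.card_prod]
  refine (Nat.card_congr (Equiv.ofBijective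
    (fun gm : ↥(zpowers (x : G)) × ↥(CQ Q (x : G)) =>
      (⟨⟨(gm.1 : G) * gm.2, mul_mem (hzp gm.1.2) (hQC _ gm.2.2)⟩, htriv gm.1 gm.2⟩ : S6.toIso.ker))
    ⟨?_, ?_⟩)).symm
  · intro u v h
    have h' : (u.1 : G) * u.2 = v.1 * v.2 := congrArg (fun w : S6.toIso.ker => ((w : ↥(CC z (x : G))) : G)) h
    have h1 : (v.1 : G)⁻¹ * u.1 = v.2 * (u.2 : G)⁻¹ := by
      rw [inv_mul_eq_iff_eq_mul, ← mul_assoc, ← h', mul_inv_cancel_right]
    have h2 : (v.1 : G)⁻¹ * u.1 = 1 :=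
      S.D.H.h.toExt.eq_one_of_mem_odd (ConwayThreeSplit24.odd_x S.D.H S.T)
        (mul_mem (inv_mem v.1.2) u.1.2)
        (h1 ▸ Q.mul_mem (mem_CQ.1 v.2.2).1 (Q.inv_mem (mem_CQ.1 u.2.2).1))
    refine Prod.ext (Subtype.ext (inv_mul_eq_one.1 h2).symm) (Subtype.ext ?_)
    rw [h1] at h2
    exact (mul_inv_eq_one.1 h2).symm
  · rintro ⟨c, hc⟩
    obtain ⟨i, m, hm, e⟩ := exists_of_triv S S6 c hc
    exact ⟨(⟨_, pow_mem (mem_zpowers _) i⟩, ⟨m, hm⟩), Subtype.ext (Subtype.ext e.symm)⟩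

/-- The image is the commutator group of the isometry group. -/
theorem range_eq : S6.toIso.range = Cfsg.Omega (ZMod 2) qm := by
  have hΩ := SuzTypeOrder62.card_omega
  have hR : Nat.card S6.toIso.range = 25920 := by
    have h := Subgroup.card_mul_index S6.toIso.ker
    rw [Subgroup.index_ker, card_ker S S6, card_CC S S6] at h
    omega
  have hiso : Nat.card ↥(Cfsg.isometryGroup (ZMod 2) qm) = 51840 := by
    rw [show qm = Cfsg.quadFormMinus 2 (ZMod 2) 1 1 from rfl,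
      OrthUnitaryForms.card_isometryGroup_minus (F := ZMod 2) (q := 2) (ZMod.card 2)
        SuzTypeOrder62.aniso 2]
    norm_num [Finset.prod_range_succ]
  have hidx : S6.toIso.range.index = 2 := by
    have h := Subgroup.card_mul_index S6.toIso.range
    rw [hR, hiso] at h
    omega
  haveI := Subgroup.normal_of_index_eq_two hidx
  refine (Subgroup.eq_of_le_of_card_ge ?_ (by rw [hR]; exact hΩ.ge)).symm
  show commutator _ ≤ _
  rw [commutator_def, Subgroup.commutator_le]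
  intro g _ h _
  rw [commutatorElement_def]
  simp only [Subgroup.mul_mem_iff_of_index_two hidx, inv_mem_iff]
  tauto

end Cfsg.Agent.ConwayThreeLocal24
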