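import Mathlib
import Cfsg.Agent.Lib.OrthCharTwoForms

/-!
# The order of the commutator group of the plus orthogonal group in dimension eight over two elements
-/

set_option autoImplicit false
set_option maxRecDepth 100000

namespace Cfsg.Agent.ConwayTypeOrder62

open QuadraticMap
open Cfsg.Agent.OrthUnitaryQuad Cfsg.Agent.OrthUnitaryRefl Cfsg.Agent.OrthUnitaryForms
open Cfsg.Agent.OrthCharTwoForms

/-- The form. -/
abbrev qf : (Fin 4 ⊕ Fin 4 → ZMod 2) → ZMod 2 := Cfsg.quadFormPlus 4 (ZMod 2)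

theorem card_omega : Nat.card ↥(Cfsg.Omega (ZMod 2) qf) = 174182400 := by
  obtain ⟨Q, e, D, hQ, hnd, -, hD, -, -, hΩ, hval⟩ :=
    exists_bridge (good_plus (F := ZMod 2) (m := 4) le_rfl)
  have hiso : Nat.card (Cfsg.isometryGroup (ZMod 2) qf) = 348364800 := by
    rw [card_isometryGroup_plus (F := ZMod 2) (q := 2) (ZMod.card 2) 3]
    norm_num [Finset.prod_range_succ]
  have hidx : (Cfsg.Omega (ZMod 2) qf).index = 2 := by
    let ψ : Cfsg.isometryGroup (ZMod 2) qf →* Multiplicative (ZMod 2) := D.comp e.toMonoidHom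
    have hker : Cfsg.Omega (ZMod 2) qf = ψ.ker := Subgroup.ext fun g => hΩ g
    have hsurj : Function.Surjective ψ := by
      intro y
      obtain rfl | rfl : y = 1 ∨ y = Multiplicative.ofAdd 1 := by revert y; decide
      · exact ⟨1, map_one _⟩
      · obtain ⟨v, hv⟩ : ∃ v, Q v ≠ 0 := by
          refine ⟨Pi.single (Sum.inl 0) 1 + Pi.single (Sum.inr 0) 1, ?_⟩
          rw [← hQ]
          decide
        exact ⟨e.symm (refl Q v hv), by simp [ψ, hD]⟩
    rw [hker, Subgroup.index_ker, MonoidHom.range_eq_top.mpr hsurj, Subgroup.card_top,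
      Nat.card_eq_fintype_card]
    rfl
  have h := Subgroup.card_mul_index (Cfsg.Omega (ZMod 2) qf)
  rw [hidx, hiso] at h
  omega

end Cfsg.Agent.ConwayTypeOrder62
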