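import Cfsg.Agent.Lib.CosetCertSuzGData

/-! Checks of a coset enumeration in the presented group Suz. -/

set_option autoImplicit false
set_option maxRecDepth 100000

namespace Cfsg.Agent.CosetCertSuzG

open Cfsg.Agent.CosetCertCore Cfsg.Agent.CosetCertTable Cfsg.Agent.CosetCertPres Cfsg.Agent.CosetCertSuzGData

/-- The facts hold up to `n`. -/
def Valid (n : Nat) : Prop :=
  ∀ {G X : Type} [Group G] [MulAction G X] (g : Nat → G) (base : X),
    Ctx g base cert → AllValid g (nodeVal g base cert) cert n

theorem Valid.step {lo n : Nat} (h : Valid lo) (L : List Nat)
    (hn : (Nat.beq (lo + L.length) n && checkList cert L lo) = true) : Valid n := by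
  rw [Bool.and_eq_true, Nat.beq_eq] at hn
  intro G X _ _ g base hC
  exact hn.1 ▸ checkList_sound g base hC L lo (h g base hC) hn.2

theorem valid0 : Valid 0 := fun _ _ _ _ h => absurd h (Nat.not_lt_zero _)

theorem check0 : (Nat.beq (0 + just0.length) 256 && checkList cert just0 0) = true := by
  decide +kernel

theorem valid1 : Valid 256 := valid0.step just0 check0

theorem check1 : (Nat.beq (256 + just1.length) 512 && checkList cert just1 256) = true := by
  decide +kernel

theorem valid2 : Valid 512 := valid1.step just1 check1

theorem check2 : (Nat.beq (512 + just2.length) 768 && checkList cert just2 512) = true := by
  decide +kernel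

theorem valid3 : Valid 768 := valid2.step just2 check2

theorem check3 : (Nat.beq (768 + just3.length) 1024 && checkList cert just3 768) = true := by
  decide +kernel

theorem valid4 : Valid 1024 := valid3.step just3 check3

theorem check4 : (Nat.beq (1024 + just4.length) 1280 && checkList cert just4 1024) = true := by
  decide +kernel

theorem valid5 : Valid 1280 := valid4.step just4 check4

theorem check5 : (Nat.beq (1280 + just5.length) 1536 && checkList cert just5 1280) = true := by
  decide +kernel

theorem valid6 : Valid 1536 := valid5.step just5 check5

theorem check6 : (Nat.beq (1536 + just6.length) 1792 && checkList cert just6 1536) = true := by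
  decide +kernel

theorem valid7 : Valid 1792 := valid6.step just6 check6

theorem check7 : (Nat.beq (1792 + just7.length) 2048 && checkList cert just7 1792) = true := by
  decide +kernel

theorem valid8 : Valid 2048 := valid7.step just7 check7

theorem check8 : (Nat.beq (2048 + just8.length) 2304 && checkList cert just8 2048) = true := by
  decide +kernel

theorem valid9 : Valid 2304 := valid8.step just8 check8

theorem check9 : (Nat.beq (2304 + just9.length) 2560 && checkList cert just9 2304) = true := by
  decide +kernel

theorem valid10 : Valid 2560 := valid9.step just9 check9

theorem check10 : (Nat.beq (2560 + just10.length) 2816 && checkList cert just10 2560) = true := by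
  decide +kernel

theorem valid11 : Valid 2816 := valid10.step just10 check10

theorem check11 : (Nat.beq (2816 + just11.length) 3072 && checkList cert just11 2816) = true := by
  decide +kernel

theorem valid12 : Valid 3072 := valid11.step just11 check11

theorem check12 : (Nat.beq (3072 + just12.length) 3328 && checkList cert just12 3072) = true := by
  decide +kernel

theorem valid13 : Valid 3328 := valid12.step just12 check12

theorem check13 : (Nat.beq (3328 + just13.length) 3584 && checkList cert just13 3328) = true := by
  decide +kernel

theorem valid14 : Valid 3584 := valid13.step just13 check13

theorem check14 : (Nat.beq (3584 + just14.length) 3840 && checkList cert just14 3584) = true := by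
  decide +kernel

theorem valid15 : Valid 3840 := valid14.step just14 check14

theorem check15 : (Nat.beq (3840 + just15.length) 4096 && checkList cert just15 3840) = true := by
  decide +kernel

theorem valid16 : Valid 4096 := valid15.step just15 check15

theorem check16 : (Nat.beq (4096 + just16.length) 4352 && checkList cert just16 4096) = true := by
  decide +kernel

theorem valid17 : Valid 4352 := valid16.step just16 check16

theorem check17 : (Nat.beq (4352 + just17.length) 4608 && checkList cert just17 4352) = true := by
  decide +kernel

theorem valid18 : Valid 4608 := valid17.step just17 check17

theorem check18 : (Nat.beq (4608 + just18.length) 4864 && checkList cert just18 4608) = true := by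
  decide +kernel

theorem valid19 : Valid 4864 := valid18.step just18 check18

theorem check19 : (Nat.beq (4864 + just19.length) 5120 && checkList cert just19 4864) = true := by
  decide +kernel

theorem valid20 : Valid 5120 := valid19.step just19 check19

theorem check20 : (Nat.beq (5120 + just20.length) 5376 && checkList cert just20 5120) = true := by
  decide +kernel

theorem valid21 : Valid 5376 := valid20.step just20 check20

theorem check21 : (Nat.beq (5376 + just21.length) 5632 && checkList cert just21 5376) = true := by
  decide +kernel

theorem valid22 : Valid 5632 := valid21.step just21 check21

theorem check22 : (Nat.beq (5632 + just22.length) 5888 && checkList cert just22 5632) = true := by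
  decide +kernel

theorem valid23 : Valid 5888 := valid22.step just22 check22

theorem check23 : (Nat.beq (5888 + just23.length) 6144 && checkList cert just23 5888) = true := by
  decide +kernel

theorem valid24 : Valid 6144 := valid23.step just23 check23

theorem check24 : (Nat.beq (6144 + just24.length) 6400 && checkList cert just24 6144) = true := by
  decide +kernel

theorem valid25 : Valid 6400 := valid24.step just24 check24

theorem check25 : (Nat.beq (6400 + just25.length) 6656 && checkList cert just25 6400) = true := by
  decide +kernel

theorem valid26 : Valid 6656 := valid25.step just25 check25

theorem check26 : (Nat.beq (6656 + just26.length) 6912 && checkList cert just26 6656) = true := by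
  decide +kernel

theorem valid27 : Valid 6912 := valid26.step just26 check26

theorem check27 : (Nat.beq (6912 + just27.length) 7168 && checkList cert just27 6912) = true := by
  decide +kernel

theorem valid28 : Valid 7168 := valid27.step just27 check27

theorem check28 : (Nat.beq (7168 + just28.length) 7424 && checkList cert just28 7168) = true := by
  decide +kernel

theorem valid29 : Valid 7424 := valid28.step just28 check28

theorem check29 : (Nat.beq (7424 + just29.length) 7680 && checkList cert just29 7424) = true := by
  decide +kernel

theorem valid30 : Valid 7680 := valid29.step just29 check29

theorem check30 : (Nat.beq (7680 + just30.length) 7936 && checkList cert just30 7680) = true := by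
  decide +kernel

theorem valid31 : Valid 7936 := valid30.step just30 check30

theorem check31 : (Nat.beq (7936 + just31.length) 8192 && checkList cert just31 7936) = true := by
  decide +kernel

theorem valid32 : Valid 8192 := valid31.step just31 check31

theorem check32 : (Nat.beq (8192 + just32.length) 8448 && checkList cert just32 8192) = true := by
  decide +kernel

theorem valid33 : Valid 8448 := valid32.step just32 check32

theorem check33 : (Nat.beq (8448 + just33.length) 8704 && checkList cert just33 8448) = true := by
  decide +kernel

theorem valid34 : Valid 8704 := valid33.step just33 check33

theorem check34 : (Nat.beq (8704 + just34.length) 8960 && checkList cert just34 8704) = true := by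
  decide +kernel

theorem valid35 : Valid 8960 := valid34.step just34 check34

theorem check35 : (Nat.beq (8960 + just35.length) 9216 && checkList cert just35 8960) = true := by
  decide +kernel

theorem valid36 : Valid 9216 := valid35.step just35 check35

theorem check36 : (Nat.beq (9216 + just36.length) 9472 && checkList cert just36 9216) = true := by
  decide +kernel

theorem valid37 : Valid 9472 := valid36.step just36 check36

theorem check37 : (Nat.beq (9472 + just37.length) 9728 && checkList cert just37 9472) = true := by
  decide +kernel

theorem valid38 : Valid 9728 := valid37.step just37 check37

theorem check38 : (Nat.beq (9728 + just38.length) 9984 && checkList cert just38 9728) = true := by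
  decide +kernel

theorem valid39 : Valid 9984 := valid38.step just38 check38

theorem check39 : (Nat.beq (9984 + just39.length) 10240 && checkList cert just39 9984) = true := by
  decide +kernel

theorem valid40 : Valid 10240 := valid39.step just39 check39

theorem check40 : (Nat.beq (10240 + just40.length) 10496 && checkList cert just40 10240) = true := by
  decide +kernel

theorem valid41 : Valid 10496 := valid40.step just40 check40

theorem check41 : (Nat.beq (10496 + just41.length) 10752 && checkList cert just41 10496) = true := by
  decide +kernel

theorem valid42 : Valid 10752 := valid41.step just41 check41

theorem check42 : (Nat.beq (10752 + just42.length) 11008 && checkList cert just42 10752) = true := by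
  decide +kernel

theorem valid43 : Valid 11008 := valid42.step just42 check42

theorem check43 : (Nat.beq (11008 + just43.length) 11264 && checkList cert just43 11008) = true := by
  decide +kernel

theorem valid44 : Valid 11264 := valid43.step just43 check43

theorem check44 : (Nat.beq (11264 + just44.length) 11520 && checkList cert just44 11264) = true := by
  decide +kernel

theorem valid45 : Valid 11520 := valid44.step just44 check44

theorem check45 : (Nat.beq (11520 + just45.length) 11776 && checkList cert just45 11520) = true := by
  decide +kernel

theorem valid46 : Valid 11776 := valid45.step just45 check45

theorem check46 : (Nat.beq (11776 + just46.length) 12032 && checkList cert just46 11776) = true := by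
  decide +kernel

theorem valid47 : Valid 12032 := valid46.step just46 check46

theorem check47 : (Nat.beq (12032 + just47.length) 12288 && checkList cert just47 12032) = true := by
  decide +kernel

theorem valid48 : Valid 12288 := valid47.step just47 check47

theorem check48 : (Nat.beq (12288 + just48.length) 12544 && checkList cert just48 12288) = true := by
  decide +kernel

theorem valid49 : Valid 12544 := valid48.step just48 check48

theorem check49 : (Nat.beq (12544 + just49.length) 12800 && checkList cert just49 12544) = true := by
  decide +kernel

theorem valid50 : Valid 12800 := valid49.step just49 check49

theorem check50 : (Nat.beq (12800 + just50.length) 13056 && checkList cert just50 12800) = true := by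
  decide +kernel

theorem valid51 : Valid 13056 := valid50.step just50 check50

theorem check51 : (Nat.beq (13056 + just51.length) 13312 && checkList cert just51 13056) = true := by
  decide +kernel

theorem valid52 : Valid 13312 := valid51.step just51 check51

theorem check52 : (Nat.beq (13312 + just52.length) 13568 && checkList cert just52 13312) = true := by
  decide +kernel

theorem valid53 : Valid 13568 := valid52.step just52 check52

theorem check53 : (Nat.beq (13568 + just53.length) 13824 && checkList cert just53 13568) = true := by
  decide +kernel

theorem valid54 : Valid 13824 := valid53.step just53 check53

theorem check54 : (Nat.beq (13824 + just54.length) 14080 && checkList cert just54 13824) = true := by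
  decide +kernel

theorem valid55 : Valid 14080 := valid54.step just54 check54

theorem check55 : (Nat.beq (14080 + just55.length) 14336 && checkList cert just55 14080) = true := by
  decide +kernel

theorem valid56 : Valid 14336 := valid55.step just55 check55

theorem check56 : (Nat.beq (14336 + just56.length) 14592 && checkList cert just56 14336) = true := by
  decide +kernel

theorem valid57 : Valid 14592 := valid56.step just56 check56

theorem check57 : (Nat.beq (14592 + just57.length) 14848 && checkList cert just57 14592) = true := by
  decide +kernel

theorem valid58 : Valid 14848 := valid57.step just57 check57

theorem check58 : (Nat.beq (14848 + just58.length) 15104 && checkList cert just58 14848) = true := by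
  decide +kernel

theorem valid59 : Valid 15104 := valid58.step just58 check58

theorem check59 : (Nat.beq (15104 + just59.length) 15360 && checkList cert just59 15104) = true := by
  decide +kernel

theorem valid60 : Valid 15360 := valid59.step just59 check59

theorem check60 : (Nat.beq (15360 + just60.length) 15616 && checkList cert just60 15360) = true := by
  decide +kernel

theorem valid61 : Valid 15616 := valid60.step just60 check60

theorem check61 : (Nat.beq (15616 + just61.length) 15872 && checkList cert just61 15616) = true := by
  decide +kernel

theorem valid62 : Valid 15872 := valid61.step just61 check61

theorem check62 : (Nat.beq (15872 + just62.length) 16128 && checkList cert just62 15872) = true := by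
  decide +kernel

theorem valid63 : Valid 16128 := valid62.step just62 check62

theorem check63 : (Nat.beq (16128 + just63.length) 16384 && checkList cert just63 16128) = true := by
  decide +kernel

theorem valid64 : Valid 16384 := valid63.step just63 check63

theorem check64 : (Nat.beq (16384 + just64.length) 16640 && checkList cert just64 16384) = true := by
  decide +kernel

theorem valid65 : Valid 16640 := valid64.step just64 check64

theorem check65 : (Nat.beq (16640 + just65.length) 16896 && checkList cert just65 16640) = true := by
  decide +kernel

theorem valid66 : Valid 16896 := valid65.step just65 check65

theorem check66 : (Nat.beq (16896 + just66.length) 17152 && checkList cert just66 16896) = true := by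
  decide +kernel

theorem valid67 : Valid 17152 := valid66.step just66 check66

theorem check67 : (Nat.beq (17152 + just67.length) 17408 && checkList cert just67 17152) = true := by
  decide +kernel

theorem valid68 : Valid 17408 := valid67.step just67 check67

theorem check68 : (Nat.beq (17408 + just68.length) 17664 && checkList cert just68 17408) = true := by
  decide +kernel

theorem valid69 : Valid 17664 := valid68.step just68 check68

theorem check69 : (Nat.beq (17664 + just69.length) 17920 && checkList cert just69 17664) = true := by
  decide +kernel

theorem valid70 : Valid 17920 := valid69.step just69 check69

theorem check70 : (Nat.beq (17920 + just70.length) 18176 && checkList cert just70 17920) = true := by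
  decide +kernel

theorem valid71 : Valid 18176 := valid70.step just70 check70

theorem check71 : (Nat.beq (18176 + just71.length) 18432 && checkList cert just71 18176) = true := by
  decide +kernel

theorem valid72 : Valid 18432 := valid71.step just71 check71

theorem check72 : (Nat.beq (18432 + just72.length) 18688 && checkList cert just72 18432) = true := by
  decide +kernel

theorem valid73 : Valid 18688 := valid72.step just72 check72

theorem check73 : (Nat.beq (18688 + just73.length) 18944 && checkList cert just73 18688) = true := by
  decide +kernel

theorem valid74 : Valid 18944 := valid73.step just73 check73

theorem check74 : (Nat.beq (18944 + just74.length) 19200 && checkList cert just74 18944) = true := by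
  decide +kernel

theorem valid75 : Valid 19200 := valid74.step just74 check74

theorem check75 : (Nat.beq (19200 + just75.length) 19456 && checkList cert just75 19200) = true := by
  decide +kernel

theorem valid76 : Valid 19456 := valid75.step just75 check75

theorem check76 : (Nat.beq (19456 + just76.length) 19712 && checkList cert just76 19456) = true := by
  decide +kernel

theorem valid77 : Valid 19712 := valid76.step just76 check76

theorem check77 : (Nat.beq (19712 + just77.length) 19968 && checkList cert just77 19712) = true := by
  decide +kernel

theorem valid78 : Valid 19968 := valid77.step just77 check77

theorem check78 : (Nat.beq (19968 + just78.length) 20224 && checkList cert just78 19968) = true := by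
  decide +kernel

theorem valid79 : Valid 20224 := valid78.step just78 check78

theorem check79 : (Nat.beq (20224 + just79.length) 20480 && checkList cert just79 20224) = true := by
  decide +kernel

theorem valid80 : Valid 20480 := valid79.step just79 check79

theorem check80 : (Nat.beq (20480 + just80.length) 20736 && checkList cert just80 20480) = true := by
  decide +kernel

theorem valid81 : Valid 20736 := valid80.step just80 check80

theorem check81 : (Nat.beq (20736 + just81.length) 20992 && checkList cert just81 20736) = true := by
  decide +kernel

theorem valid82 : Valid 20992 := valid81.step just81 check81

theorem check82 : (Nat.beq (20992 + just82.length) 21248 && checkList cert just82 20992) = true := by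
  decide +kernel

theorem valid83 : Valid 21248 := valid82.step just82 check82

theorem check83 : (Nat.beq (21248 + just83.length) 21504 && checkList cert just83 21248) = true := by
  decide +kernel

theorem valid84 : Valid 21504 := valid83.step just83 check83

theorem check84 : (Nat.beq (21504 + just84.length) 21760 && checkList cert just84 21504) = true := by
  decide +kernel

theorem valid85 : Valid 21760 := valid84.step just84 check84

theorem check85 : (Nat.beq (21760 + just85.length) 22016 && checkList cert just85 21760) = true := by
  decide +kernel

theorem valid86 : Valid 22016 := valid85.step just85 check85

theorem check86 : (Nat.beq (22016 + just86.length) 22272 && checkList cert just86 22016) = true := by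
  decide +kernel

theorem valid87 : Valid 22272 := valid86.step just86 check86

theorem check87 : (Nat.beq (22272 + just87.length) 22528 && checkList cert just87 22272) = true := by
  decide +kernel

theorem valid88 : Valid 22528 := valid87.step just87 check87

theorem check88 : (Nat.beq (22528 + just88.length) 22784 && checkList cert just88 22528) = true := by
  decide +kernel

theorem valid89 : Valid 22784 := valid88.step just88 check88

theorem check89 : (Nat.beq (22784 + just89.length) 23040 && checkList cert just89 22784) = true := by
  decide +kernel

theorem valid90 : Valid 23040 := valid89.step just89 check89

theorem check90 : (Nat.beq (23040 + just90.length) 23296 && checkList cert just90 23040) = true := by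
  decide +kernel

theorem valid91 : Valid 23296 := valid90.step just90 check90

theorem check91 : (Nat.beq (23296 + just91.length) 23552 && checkList cert just91 23296) = true := by
  decide +kernel

theorem valid92 : Valid 23552 := valid91.step just91 check91

theorem check92 : (Nat.beq (23552 + just92.length) 23808 && checkList cert just92 23552) = true := by
  decide +kernel

theorem valid93 : Valid 23808 := valid92.step just92 check92

theorem check93 : (Nat.beq (23808 + just93.length) 23822 && checkList cert just93 23808) = true := by
  decide +kernel

theorem valid94 : Valid 23822 := valid93.step just93 check93

theorem points0 : AllBelow (pointOk cert 23822 table) 0 := AllBelow.zero _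

theorem points1c : allFrom (pointOk cert 23822 table) 64 0 = true := by decide +kernel

theorem points1 : AllBelow (pointOk cert 23822 table) 64 := AllBelow.step points0 64 points1c

theorem points2c : allFrom (pointOk cert 23822 table) 64 64 = true := by decide +kernel

theorem points2 : AllBelow (pointOk cert 23822 table) 128 := AllBelow.step points1 64 points2c

theorem points3c : allFrom (pointOk cert 23822 table) 64 128 = true := by decide +kernel

theorem points3 : AllBelow (pointOk cert 23822 table) 192 := AllBelow.step points2 64 points3c

theorem points4c : allFrom (pointOk cert 23822 table) 64 192 = true := by decide +kernel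

theorem points4 : AllBelow (pointOk cert 23822 table) 256 := AllBelow.step points3 64 points4c

theorem points5c : allFrom (pointOk cert 23822 table) 64 256 = true := by decide +kernel

theorem points5 : AllBelow (pointOk cert 23822 table) 320 := AllBelow.step points4 64 points5c

theorem points6c : allFrom (pointOk cert 23822 table) 64 320 = true := by decide +kernel

theorem points6 : AllBelow (pointOk cert 23822 table) 384 := AllBelow.step points5 64 points6c

theorem points7c : allFrom (pointOk cert 23822 table) 64 384 = true := by decide +kernel

theorem points7 : AllBelow (pointOk cert 23822 table) 448 := AllBelow.step points6 64 points7c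

theorem points8c : allFrom (pointOk cert 23822 table) 64 448 = true := by decide +kernel

theorem points8 : AllBelow (pointOk cert 23822 table) 512 := AllBelow.step points7 64 points8c

theorem points9c : allFrom (pointOk cert 23822 table) 64 512 = true := by decide +kernel

theorem points9 : AllBelow (pointOk cert 23822 table) 576 := AllBelow.step points8 64 points9c

theorem points10c : allFrom (pointOk cert 23822 table) 64 576 = true := by decide +kernel

theorem points10 : AllBelow (pointOk cert 23822 table) 640 := AllBelow.step points9 64 points10c

theorem points11c : allFrom (pointOk cert 23822 table) 64 640 = true := by decide +kernel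

theorem points11 : AllBelow (pointOk cert 23822 table) 704 := AllBelow.step points10 64 points11c

theorem points12c : allFrom (pointOk cert 23822 table) 64 704 = true := by decide +kernel

theorem points12 : AllBelow (pointOk cert 23822 table) 768 := AllBelow.step points11 64 points12c

theorem points13c : allFrom (pointOk cert 23822 table) 64 768 = true := by decide +kernel

theorem points13 : AllBelow (pointOk cert 23822 table) 832 := AllBelow.step points12 64 points13c

theorem points14c : allFrom (pointOk cert 23822 table) 64 832 = true := by decide +kernel

theorem points14 : AllBelow (pointOk cert 23822 table) 896 := AllBelow.step points13 64 points14c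

theorem points15c : allFrom (pointOk cert 23822 table) 64 896 = true := by decide +kernel

theorem points15 : AllBelow (pointOk cert 23822 table) 960 := AllBelow.step points14 64 points15c

theorem points16c : allFrom (pointOk cert 23822 table) 64 960 = true := by decide +kernel

theorem points16 : AllBelow (pointOk cert 23822 table) 1024 := AllBelow.step points15 64 points16c

theorem points17c : allFrom (pointOk cert 23822 table) 64 1024 = true := by decide +kernel

theorem points17 : AllBelow (pointOk cert 23822 table) 1088 := AllBelow.step points16 64 points17c

theorem points18c : allFrom (pointOk cert 23822 table) 64 1088 = true := by decide +kernel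

theorem points18 : AllBelow (pointOk cert 23822 table) 1152 := AllBelow.step points17 64 points18c

theorem points19c : allFrom (pointOk cert 23822 table) 64 1152 = true := by decide +kernel

theorem points19 : AllBelow (pointOk cert 23822 table) 1216 := AllBelow.step points18 64 points19c

theorem points20c : allFrom (pointOk cert 23822 table) 64 1216 = true := by decide +kernel

theorem points20 : AllBelow (pointOk cert 23822 table) 1280 := AllBelow.step points19 64 points20c

theorem points21c : allFrom (pointOk cert 23822 table) 64 1280 = true := by decide +kernel

theorem points21 : AllBelow (pointOk cert 23822 table) 1344 := AllBelow.step points20 64 points21c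

theorem points22c : allFrom (pointOk cert 23822 table) 64 1344 = true := by decide +kernel

theorem points22 : AllBelow (pointOk cert 23822 table) 1408 := AllBelow.step points21 64 points22c

theorem points23c : allFrom (pointOk cert 23822 table) 64 1408 = true := by decide +kernel

theorem points23 : AllBelow (pointOk cert 23822 table) 1472 := AllBelow.step points22 64 points23c

theorem points24c : allFrom (pointOk cert 23822 table) 64 1472 = true := by decide +kernel

theorem points24 : AllBelow (pointOk cert 23822 table) 1536 := AllBelow.step points23 64 points24c

theorem points25c : allFrom (pointOk cert 23822 table) 64 1536 = true := by decide +kernel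

theorem points25 : AllBelow (pointOk cert 23822 table) 1600 := AllBelow.step points24 64 points25c

theorem points26c : allFrom (pointOk cert 23822 table) 64 1600 = true := by decide +kernel

theorem points26 : AllBelow (pointOk cert 23822 table) 1664 := AllBelow.step points25 64 points26c

theorem points27c : allFrom (pointOk cert 23822 table) 64 1664 = true := by decide +kernel

theorem points27 : AllBelow (pointOk cert 23822 table) 1728 := AllBelow.step points26 64 points27c

theorem points28c : allFrom (pointOk cert 23822 table) 54 1728 = true := by decide +kernel

theorem points28 : AllBelow (pointOk cert 23822 table) 1782 := AllBelow.step points27 54 points28c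

theorem rels0 : AllBelow (relsOk cert.rels table) 0 := AllBelow.zero _

theorem rels1c : allFrom (relsOk cert.rels table) 64 0 = true := by decide +kernel

theorem rels1 : AllBelow (relsOk cert.rels table) 64 := AllBelow.step rels0 64 rels1c

theorem rels2c : allFrom (relsOk cert.rels table) 64 64 = true := by decide +kernel

theorem rels2 : AllBelow (relsOk cert.rels table) 128 := AllBelow.step rels1 64 rels2c

theorem rels3c : allFrom (relsOk cert.rels table) 64 128 = true := by decide +kernel

theorem rels3 : AllBelow (relsOk cert.rels table) 192 := AllBelow.step rels2 64 rels3c

theorem rels4c : allFrom (relsOk cert.rels table) 64 192 = true := by decide +kernel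

theorem rels4 : AllBelow (relsOk cert.rels table) 256 := AllBelow.step rels3 64 rels4c

theorem rels5c : allFrom (relsOk cert.rels table) 64 256 = true := by decide +kernel

theorem rels5 : AllBelow (relsOk cert.rels table) 320 := AllBelow.step rels4 64 rels5c

theorem rels6c : allFrom (relsOk cert.rels table) 64 320 = true := by decide +kernel

theorem rels6 : AllBelow (relsOk cert.rels table) 384 := AllBelow.step rels5 64 rels6c

theorem rels7c : allFrom (relsOk cert.rels table) 64 384 = true := by decide +kernel

theorem rels7 : AllBelow (relsOk cert.rels table) 448 := AllBelow.step rels6 64 rels7c

theorem rels8c : allFrom (relsOk cert.rels table) 64 448 = true := by decide +kernel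

theorem rels8 : AllBelow (relsOk cert.rels table) 512 := AllBelow.step rels7 64 rels8c

theorem rels9c : allFrom (relsOk cert.rels table) 64 512 = true := by decide +kernel

theorem rels9 : AllBelow (relsOk cert.rels table) 576 := AllBelow.step rels8 64 rels9c

theorem rels10c : allFrom (relsOk cert.rels table) 64 576 = true := by decide +kernel

theorem rels10 : AllBelow (relsOk cert.rels table) 640 := AllBelow.step rels9 64 rels10c

theorem rels11c : allFrom (relsOk cert.rels table) 64 640 = true := by decide +kernel

theorem rels11 : AllBelow (relsOk cert.rels table) 704 := AllBelow.step rels10 64 rels11c

theorem rels12c : allFrom (relsOk cert.rels table) 64 704 = true := by decide +kernel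

theorem rels12 : AllBelow (relsOk cert.rels table) 768 := AllBelow.step rels11 64 rels12c

theorem rels13c : allFrom (relsOk cert.rels table) 64 768 = true := by decide +kernel

theorem rels13 : AllBelow (relsOk cert.rels table) 832 := AllBelow.step rels12 64 rels13c

theorem rels14c : allFrom (relsOk cert.rels table) 64 832 = true := by decide +kernel

theorem rels14 : AllBelow (relsOk cert.rels table) 896 := AllBelow.step rels13 64 rels14c

theorem rels15c : allFrom (relsOk cert.rels table) 64 896 = true := by decide +kernel

theorem rels15 : AllBelow (relsOk cert.rels table) 960 := AllBelow.step rels14 64 rels15c

theorem rels16c : allFrom (relsOk cert.rels table) 64 960 = true := by decide +kernel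

theorem rels16 : AllBelow (relsOk cert.rels table) 1024 := AllBelow.step rels15 64 rels16c

theorem rels17c : allFrom (relsOk cert.rels table) 64 1024 = true := by decide +kernel

theorem rels17 : AllBelow (relsOk cert.rels table) 1088 := AllBelow.step rels16 64 rels17c

theorem rels18c : allFrom (relsOk cert.rels table) 64 1088 = true := by decide +kernel

theorem rels18 : AllBelow (relsOk cert.rels table) 1152 := AllBelow.step rels17 64 rels18c

theorem rels19c : allFrom (relsOk cert.rels table) 64 1152 = true := by decide +kernel

theorem rels19 : AllBelow (relsOk cert.rels table) 1216 := AllBelow.step rels18 64 rels19c

theorem rels20c : allFrom (relsOk cert.rels table) 64 1216 = true := by decide +kernel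

theorem rels20 : AllBelow (relsOk cert.rels table) 1280 := AllBelow.step rels19 64 rels20c

theorem rels21c : allFrom (relsOk cert.rels table) 64 1280 = true := by decide +kernel

theorem rels21 : AllBelow (relsOk cert.rels table) 1344 := AllBelow.step rels20 64 rels21c

theorem rels22c : allFrom (relsOk cert.rels table) 64 1344 = true := by decide +kernel

theorem rels22 : AllBelow (relsOk cert.rels table) 1408 := AllBelow.step rels21 64 rels22c

theorem rels23c : allFrom (relsOk cert.rels table) 64 1408 = true := by decide +kernel

theorem rels23 : AllBelow (relsOk cert.rels table) 1472 := AllBelow.step rels22 64 rels23c

theorem rels24c : allFrom (relsOk cert.rels table) 64 1472 = true := by decide +kernel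

theorem rels24 : AllBelow (relsOk cert.rels table) 1536 := AllBelow.step rels23 64 rels24c

theorem rels25c : allFrom (relsOk cert.rels table) 64 1536 = true := by decide +kernel

theorem rels25 : AllBelow (relsOk cert.rels table) 1600 := AllBelow.step rels24 64 rels25c

theorem rels26c : allFrom (relsOk cert.rels table) 64 1600 = true := by decide +kernel

theorem rels26 : AllBelow (relsOk cert.rels table) 1664 := AllBelow.step rels25 64 rels26c

theorem rels27c : allFrom (relsOk cert.rels table) 64 1664 = true := by decide +kernel

theorem rels27 : AllBelow (relsOk cert.rels table) 1728 := AllBelow.step rels26 64 rels27c

theorem rels28c : allFrom (relsOk cert.rels table) 54 1728 = true := by decide +kernel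

theorem rels28 : AllBelow (relsOk cert.rels table) 1782 := AllBelow.step rels27 54 rels28c

theorem orb0 : AllBelow (orbOk orbTbl roots cert.sgens table) 0 := AllBelow.zero _

theorem orb1c : allFrom (orbOk orbTbl roots cert.sgens table) 64 0 = true := by decide +kernel

theorem orb1 : AllBelow (orbOk orbTbl roots cert.sgens table) 64 := AllBelow.step orb0 64 orb1c

theorem orb2c : allFrom (orbOk orbTbl roots cert.sgens table) 64 64 = true := by decide +kernel

theorem orb2 : AllBelow (orbOk orbTbl roots cert.sgens table) 128 := AllBelow.step orb1 64 orb2c

theorem orb3c : allFrom (orbOk orbTbl roots cert.sgens table) 64 128 = true := by decide +kernel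

theorem orb3 : AllBelow (orbOk orbTbl roots cert.sgens table) 192 := AllBelow.step orb2 64 orb3c

theorem orb4c : allFrom (orbOk orbTbl roots cert.sgens table) 64 192 = true := by decide +kernel

theorem orb4 : AllBelow (orbOk orbTbl roots cert.sgens table) 256 := AllBelow.step orb3 64 orb4c

theorem orb5c : allFrom (orbOk orbTbl roots cert.sgens table) 64 256 = true := by decide +kernel

theorem orb5 : AllBelow (orbOk orbTbl roots cert.sgens table) 320 := AllBelow.step orb4 64 orb5c

theorem orb6c : allFrom (orbOk orbTbl roots cert.sgens table) 64 320 = true := by decide +kernel

theorem orb6 : AllBelow (orbOk orbTbl roots cert.sgens table) 384 := AllBelow.step orb5 64 orb6c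

theorem orb7c : allFrom (orbOk orbTbl roots cert.sgens table) 64 384 = true := by decide +kernel

theorem orb7 : AllBelow (orbOk orbTbl roots cert.sgens table) 448 := AllBelow.step orb6 64 orb7c

theorem orb8c : allFrom (orbOk orbTbl roots cert.sgens table) 64 448 = true := by decide +kernel

theorem orb8 : AllBelow (orbOk orbTbl roots cert.sgens table) 512 := AllBelow.step orb7 64 orb8c

theorem orb9c : allFrom (orbOk orbTbl roots cert.sgens table) 64 512 = true := by decide +kernel

theorem orb9 : AllBelow (orbOk orbTbl roots cert.sgens table) 576 := AllBelow.step orb8 64 orb9c

theorem orb10c : allFrom (orbOk orbTbl roots cert.sgens table) 64 576 = true := by decide +kernel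

theorem orb10 : AllBelow (orbOk orbTbl roots cert.sgens table) 640 := AllBelow.step orb9 64 orb10c

theorem orb11c : allFrom (orbOk orbTbl roots cert.sgens table) 64 640 = true := by decide +kernel

theorem orb11 : AllBelow (orbOk orbTbl roots cert.sgens table) 704 := AllBelow.step orb10 64 orb11c

theorem orb12c : allFrom (orbOk orbTbl roots cert.sgens table) 64 704 = true := by decide +kernel

theorem orb12 : AllBelow (orbOk orbTbl roots cert.sgens table) 768 := AllBelow.step orb11 64 orb12c

theorem orb13c : allFrom (orbOk orbTbl roots cert.sgens table) 64 768 = true := by decide +kernel

theorem orb13 : AllBelow (orbOk orbTbl roots cert.sgens table) 832 := AllBelow.step orb12 64 orb13c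

theorem orb14c : allFrom (orbOk orbTbl roots cert.sgens table) 64 832 = true := by decide +kernel

theorem orb14 : AllBelow (orbOk orbTbl roots cert.sgens table) 896 := AllBelow.step orb13 64 orb14c

theorem orb15c : allFrom (orbOk orbTbl roots cert.sgens table) 64 896 = true := by decide +kernel

theorem orb15 : AllBelow (orbOk orbTbl roots cert.sgens table) 960 := AllBelow.step orb14 64 orb15c

theorem orb16c : allFrom (orbOk orbTbl roots cert.sgens table) 64 960 = true := by decide +kernel

theorem orb16 : AllBelow (orbOk orbTbl roots cert.sgens table) 1024 := AllBelow.step orb15 64 orb16c

theorem orb17c : allFrom (orbOk orbTbl roots cert.sgens table) 64 1024 = true := by decide +kernel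

theorem orb17 : AllBelow (orbOk orbTbl roots cert.sgens table) 1088 := AllBelow.step orb16 64 orb17c

theorem orb18c : allFrom (orbOk orbTbl roots cert.sgens table) 64 1088 = true := by decide +kernel

theorem orb18 : AllBelow (orbOk orbTbl roots cert.sgens table) 1152 := AllBelow.step orb17 64 orb18c

theorem orb19c : allFrom (orbOk orbTbl roots cert.sgens table) 64 1152 = true := by decide +kernel

theorem orb19 : AllBelow (orbOk orbTbl roots cert.sgens table) 1216 := AllBelow.step orb18 64 orb19c

theorem orb20c : allFrom (orbOk orbTbl roots cert.sgens table) 64 1216 = true := by decide +kernel

theorem orb20 : AllBelow (orbOk orbTbl roots cert.sgens table) 1280 := AllBelow.step orb19 64 orb20c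

theorem orb21c : allFrom (orbOk orbTbl roots cert.sgens table) 64 1280 = true := by decide +kernel

theorem orb21 : AllBelow (orbOk orbTbl roots cert.sgens table) 1344 := AllBelow.step orb20 64 orb21c

theorem orb22c : allFrom (orbOk orbTbl roots cert.sgens table) 64 1344 = true := by decide +kernel

theorem orb22 : AllBelow (orbOk orbTbl roots cert.sgens table) 1408 := AllBelow.step orb21 64 orb22c

theorem orb23c : allFrom (orbOk orbTbl roots cert.sgens table) 64 1408 = true := by decide +kernel

theorem orb23 : AllBelow (orbOk orbTbl roots cert.sgens table) 1472 := AllBelow.step orb22 64 orb23c

theorem orb24c : allFrom (orbOk orbTbl roots cert.sgens table) 64 1472 = true := by decide +kernel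

theorem orb24 : AllBelow (orbOk orbTbl roots cert.sgens table) 1536 := AllBelow.step orb23 64 orb24c

theorem orb25c : allFrom (orbOk orbTbl roots cert.sgens table) 64 1536 = true := by decide +kernel

theorem orb25 : AllBelow (orbOk orbTbl roots cert.sgens table) 1600 := AllBelow.step orb24 64 orb25c

theorem orb26c : allFrom (orbOk orbTbl roots cert.sgens table) 64 1600 = true := by decide +kernel

theorem orb26 : AllBelow (orbOk orbTbl roots cert.sgens table) 1664 := AllBelow.step orb25 64 orb26c

theorem orb27c : allFrom (orbOk orbTbl roots cert.sgens table) 64 1664 = true := by decide +kernel

theorem orb27 : AllBelow (orbOk orbTbl roots cert.sgens table) 1728 := AllBelow.step orb26 64 orb27c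

theorem orb28c : allFrom (orbOk orbTbl roots cert.sgens table) 54 1728 = true := by decide +kernel

theorem orb28 : AllBelow (orbOk orbTbl roots cert.sgens table) 1782 := AllBelow.step orb27 54 orb28c

theorem good : pres.Good where
  complete := fun a => by cases a <;> decide
  nodes := fun a => by cases a <;> decide
  symm := fun a b => by cases a <;> cases b <;> decide

theorem table_checked : Checked cert 23822 table where
  npos := by decide +kernel
  gpos := by decide +kernel
  node0 := by decide +kernel
  points := points28
  rels := rels28
  sgens := by decide +kernel
  letters := by decide +kernel

/-- The enumeration. -/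
theorem enumerated : Enumerated pres subgens cert 23822 table where
  good := good
  rels := by decide +kernel
  sgens := by decide +kernel
  ng := rfl
  table := table_checked
  facts := fun g base h => valid94 g base h

theorem orbits : AllBelow (orbOk orbTbl roots cert.sgens table) table.N := orb28

theorem count0 : countLabel orbTbl 0 1782 = 1 := by decide +kernel

theorem count1 : countLabel orbTbl 1 1782 = 1365 := by decide +kernel

theorem count2 : countLabel orbTbl 2 1782 = 416 := by decide +kernel

end Cfsg.Agent.CosetCertSuzG
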