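import Cfsg.Agent.Lib.CosetCertSuzS3Data

/-! Enumeration of ab in abcd inside Suz. -/

set_option autoImplicit false
set_option maxRecDepth 100000
set_option Elab.async false

namespace Cfsg.Agent.CosetCertSuzS3P0

open Cfsg.Agent.CosetCertCore Cfsg.Agent.CosetCertTable Cfsg.Agent.CosetCertOrder
open Cfsg.Agent.CosetCertSuzS3Data

theorem points1c : allFrom (pointOk cert 3173 table) 128 0 = true := by decide +kernel

theorem points2c : allFrom (pointOk cert 3173 table) 88 128 = true := by decide +kernel

end Cfsg.Agent.CosetCertSuzS3P0
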