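import Cfsg.Agent.Lib.CosetCertSuzS3C0
import Cfsg.Agent.Lib.CosetCertSuzS3P0

/-! Enumeration of ab in abcd inside Suz. -/

set_option autoImplicit false
set_option maxRecDepth 100000

namespace Cfsg.Agent.CosetCertSuzS3

open Cfsg.Agent.CosetCertCore Cfsg.Agent.CosetCertTable Cfsg.Agent.CosetCertOrder Cfsg.Agent.CosetCertSuzS3Data

/-- The facts hold up to `n`. -/
def Valid (n : Nat) : Prop :=
  ∀ {G X : Type} [Group G] [MulAction G X] (g : Nat → G) (base : X),
    Ctx g base cert → AllValid g (nodeVal g base cert) cert n

theorem Valid.step {lo n : Nat} (h : Valid lo) (L : List Nat)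
    (hn : (Nat.beq (lo + L.length) n && checkList cert L lo) = true) : Valid n := by
  rw [Bool.and_eq_true, Nat.beq_eq] at hn
  intro G X _ _ g base hC
  exact hn.1 ▸ checkList_sound g base hC L lo (h g base hC) hn.2

theorem valid0 : Valid 0 := fun _ _ _ _ h => absurd h (Nat.not_lt_zero _)

theorem valid1 : Valid 256 := valid0.step CosetCertSuzS3C0.just0 CosetCertSuzS3C0.check0

theorem valid2 : Valid 512 := valid1.step CosetCertSuzS3C0.just1 CosetCertSuzS3C0.check1

theorem valid3 : Valid 768 := valid2.step CosetCertSuzS3C0.just2 CosetCertSuzS3C0.check2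

theorem valid4 : Valid 1024 := valid3.step CosetCertSuzS3C0.just3 CosetCertSuzS3C0.check3

theorem valid5 : Valid 1280 := valid4.step CosetCertSuzS3C0.just4 CosetCertSuzS3C0.check4

theorem valid6 : Valid 1536 := valid5.step CosetCertSuzS3C0.just5 CosetCertSuzS3C0.check5

theorem valid7 : Valid 1792 := valid6.step CosetCertSuzS3C0.just6 CosetCertSuzS3C0.check6

theorem valid8 : Valid 2048 := valid7.step CosetCertSuzS3C0.just7 CosetCertSuzS3C0.check7

theorem valid9 : Valid 2304 := valid8.step CosetCertSuzS3C0.just8 CosetCertSuzS3C0.check8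

theorem valid10 : Valid 2560 := valid9.step CosetCertSuzS3C0.just9 CosetCertSuzS3C0.check9

theorem valid11 : Valid 2816 := valid10.step CosetCertSuzS3C0.just10 CosetCertSuzS3C0.check10

theorem valid12 : Valid 3072 := valid11.step CosetCertSuzS3C0.just11 CosetCertSuzS3C0.check11

theorem valid13 : Valid 3173 := valid12.step CosetCertSuzS3C0.just12 CosetCertSuzS3C0.check12

theorem points0 : AllBelow (pointOk cert 3173 table) 0 := AllBelow.zero _

theorem points1 : AllBelow (pointOk cert 3173 table) 128 := AllBelow.step points0 128 CosetCertSuzS3P0.points1c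

theorem points2 : AllBelow (pointOk cert 3173 table) 216 := AllBelow.step points1 88 CosetCertSuzS3P0.points2c

/-- The table is closed. -/
theorem closed : Closed cert 3173 table where
  npos := by decide +kernel
  node0 := by decide +kernel
  points := points2
  facts := fun g base h => valid13 g base h

end Cfsg.Agent.CosetCertSuzS3
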