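import Cfsg.Agent.Lib.CosetCertSuzS4Data

/-! Enumeration of 1 in ab inside Suz. -/

set_option autoImplicit false
set_option maxRecDepth 100000
set_option Elab.async false

namespace Cfsg.Agent.CosetCertSuzS4P0

open Cfsg.Agent.CosetCertCore Cfsg.Agent.CosetCertTable Cfsg.Agent.CosetCertOrder
open Cfsg.Agent.CosetCertSuzS4Data

theorem points1c : allFrom (pointOk cert 10 table) 10 0 = true := by decide +kernel

end Cfsg.Agent.CosetCertSuzS4P0
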