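import Cfsg.Agent.Lib.ConwayThreePerfect24
import Cfsg.Agent.Lib.CosetCertSuzSimple
import Cfsg.Agent.Lib.LargeExtraspecialSetting
import Cfsg.Agent.Lib.ConwayTypeOrder62
import Cfsg.Prelude.Def_Spor_Suz

/-!
The frozen hypotheses translated for the centraliser of a three-element in a group of Conway type.
The uniqueness of the Suzuki group from its involution centraliser enters as a hypothesis.
-/

set_option autoImplicit false

universe u

namespace Cfsg.Agent.ConwayThreeMain24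

open Subgroup Cfsg.Agent.ConwayThreeQuot24 Cfsg.Agent.ConwayThreeStd24

/-- A subgroup of order 128 of the centraliser in `Q`. -/
theorem card_CQ {G : Type*} [Group G] [Finite G] {Q : Subgroup G} {z x : G}
    (H : ConwayTypeCoord62.Hyp Q z) (hxz : x * z = z * x) (hx3 : orderOf x = 3)
    (hcard : Nat.card ↥⁅Q, zpowers x⁆ = 8)
    (hna : ∃ a ∈ ⁅Q, zpowers x⁆, ∃ b ∈ ⁅Q, zpowers x⁆, a * b ≠ b * a) :
    Nat.card ↥(CQ Q x) = 128 := by
  have hA := ConwayThreeSplit24.act H.h hxz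
  have hodd : Odd (Nat.card (zpowers x)) := by rw [Nat.card_zpowers, hx3]; decide
  have hle := LargeExtraspecialAct.commutator_le H.h.toExt hA
  have hdec : ∀ y ∈ Q, ∃ c ∈ CQ Q x, ∃ w ∈ ⁅Q, zpowers x⁆, y = c * w := fun y hy => by
    have h := LargeExtraspecialAct.decompose H.h.toExt hA hodd hy
    rwa [centralizer_zpowers] at h
  have hcomm : ∀ c ∈ CQ Q x, ∀ w ∈ ⁅Q, zpowers x⁆, c * w = w * c := fun c hc w hw =>
    LargeExtraspecialAct.commute_commutator H.h.toExt hA
      (by rw [centralizer_zpowers]; exact hc) hw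
  have hzW : z ∈ ⁅Q, zpowers x⁆ := by
    obtain ⟨a, ha, b, hb, hab⟩ := hna
    rcases H.h.conj a (hle ha) b (hle hb) with e | e
    · exact absurd (mul_inv_eq_iff_eq_mul.1 e) hab
    · have h := mul_mem (mul_mem (mul_mem ha hb) (inv_mem ha)) (inv_mem hb)
      rwa [e, mul_inv_cancel_right] at h
  have hinter : ∀ g ∈ CQ Q x, g ∈ ⁅Q, zpowers x⁆ → g = 1 ∨ g = z := fun g hg hgW => by
    refine H.h.central (mem_CQ.1 hg).1 fun y hy => ?_
    obtain ⟨c, hc, w, hw, rfl⟩ := hdec y hy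
    exact ((show Commute c g from hcomm c hc g hgW).mul_left
      (show Commute w g from (hcomm g hg w hw).symm)).eq
  let φ : ↥(CQ Q x) × ↥⁅Q, zpowers x⁆ →* Q :=
    { toFun := fun p => ⟨p.1 * p.2, Q.mul_mem (mem_CQ.1 p.1.2).1 (hle p.2.2)⟩
      map_one' := Subtype.ext (mul_one 1)
      map_mul' := fun p r => Subtype.ext (by
        show (p.1 : G) * r.1 * (p.2 * r.2) = p.1 * p.2 * (r.1 * r.2)
        exact (show Commute (r.1 : G) p.2 from hcomm _ r.1.2 _ p.2.2).mul_mul_mul_comm _ _) }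
  have hsurj : φ.range = ⊤ := by
    rw [eq_top_iff]
    rintro ⟨q, hq⟩ -
    obtain ⟨c, hc, w, hw, e⟩ := hdec q hq
    exact ⟨(⟨c, hc⟩, ⟨w, hw⟩), Subtype.ext e.symm⟩
  have hzC : z ∈ CQ Q x := mem_CQ.2 ⟨H.h.mem, hxz.symm⟩
  have hker : Nat.card φ.ker = 2 := by
    refine le_antisymm ?_ ?_
    · refine le_trans (Nat.card_le_card_of_injective
        (fun p : φ.ker => (⟨(p.1.1 : G), ?_⟩ : zpowers z)) fun p r e => ?_) ?_
      · have e : (p.1.1 : G) * p.1.2 = 1 := congrArg Subtype.val p.2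
        have hm : (p.1.1 : G) ∈ ⁅Q, zpowers x⁆ := by
          rw [eq_inv_of_mul_eq_one_left e]; exact inv_mem p.1.2.2
        rcases hinter _ p.1.1.2 hm with d | d <;> rw [d]
        exacts [one_mem _, mem_zpowers z]
      · have e' : (p.1.1 : G) = r.1.1 := by simpa using congrArg Subtype.val e
        have ep : (p.1.1 : G) * p.1.2 = 1 := congrArg Subtype.val p.2
        have er : (r.1.1 : G) * r.1.2 = 1 := congrArg Subtype.val r.2
        refine Subtype.ext (Prod.ext (Subtype.ext e') (Subtype.ext ?_))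
        rw [e'] at ep
        exact mul_left_cancel (ep.trans er.symm)
      · rw [Nat.card_zpowers, H.h.toExt.orderOf_z]
    · have hne : (⟨(⟨z, hzC⟩, ⟨z, hzW⟩), Subtype.ext H.h.zz⟩ : φ.ker) ≠ 1 :=
        fun e => H.h.ne_one
          (congrArg Subtype.val (congrArg Prod.fst (congrArg Subtype.val e)))
      haveI : Nontrivial φ.ker := nontrivial_of_ne _ _ hne
      exact Finite.one_lt_card
  have hm : Nat.card φ.ker * Nat.card φ.range = Nat.card ↥(CQ Q x) * 8 := by
    rw [← Subgroup.index_ker, Subgroup.card_mul_index, Nat.card_prod, hcard]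
  rw [hker, hsurj, Subgroup.card_top, H.cardQ] at hm
  omega

theorem main
    (suz : ∀ {S : Type u} [Group S] [Finite S] (z : S), orderOf z = 2 →
      ∀ (Q : Subgroup (centralizer ({z} : Set S))) [Q.Normal],
      Cfsg.generalizedFittingSubgroup (centralizer ({z} : Set S)) = Q →
      Cfsg.IsExtraspecial 2 Q → Nat.card Q = 2 ^ 7 →
      ((centralizer ({z} : Set S)) ⧸ Q ≃*
        Cfsg.Omega (ZMod 2) (Cfsg.quadFormMinus 2 (ZMod 2) 1 1)) →
      (∃ g : S, (∃ hq : g * z * g⁻¹ ∈ centralizer ({z} : Set S),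
        (⟨g * z * g⁻¹, hq⟩ : centralizer ({z} : Set S)) ∈ Q) ∧ g * z * g⁻¹ ≠ z) →
      Cfsg.Spor.IsoSuz S)
    {G : Type u} [Group G] [Finite G] {z : G} (hz : orderOf z = 2)
    (Q : Subgroup (centralizer ({z} : Set G))) [Q.Normal]
    (hF : Cfsg.generalizedFittingSubgroup (centralizer ({z} : Set G)) = Q)
    (hQ : Cfsg.IsExtraspecial 2 Q) (hcard : Nat.card Q = 2 ^ 9)
    (e : (centralizer ({z} : Set G)) ⧸ Q ≃* Cfsg.Omega (ZMod 2) (Cfsg.quadFormPlus 4 (ZMod 2)))
    (hnwc : ∃ g : G, (∃ hq : g * z * g⁻¹ ∈ centralizer ({z} : Set G),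
      (⟨g * z * g⁻¹, hq⟩ : centralizer ({z} : Set G)) ∈ Q) ∧ g * z * g⁻¹ ≠ z)
    (X : Subgroup (centralizer ({z} : Set G))) (hX : Nat.card X = 3)
    (hQX : Nat.card ↥⁅Q, X⁆ = 8) (hQXna : ¬ IsMulCommutative ↥⁅Q, X⁆)
    (X' : Subgroup G) (hX' : X' = X.map (centralizer ({z} : Set G)).subtype)
    [(X'.subgroupOf (centralizer (X' : Set G))).Normal] :
    Cfsg.IsQuasisimple ↥(centralizer (X' : Set G)) ∧
      Cfsg.Spor.IsoSuz (↥(centralizer (X' : Set G)) ⧸ X'.subgroupOf (centralizer (X' : Set G))) := by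
  haveI := Fact.mk Nat.prime_three
  obtain ⟨hL, -⟩ := LargeExtraspecialSetting.lhyp_of_fitting hz Q hF hQ
  set f := (centralizer ({z} : Set G)).subtype with hf
  have hinj : Function.Injective f := Subgroup.subtype_injective _
  have hC : Nat.card (centralizer ({z} : Set G)) = 512 * 174182400 := by
    rw [Subgroup.card_eq_card_quotient_mul_card_subgroup Q, Nat.card_congr e.toEquiv,
      show Nat.card ↥(Cfsg.Omega (ZMod 2) (Cfsg.quadFormPlus 4 (ZMod 2))) = 174182400 from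
        ConwayTypeOrder62.card_omega, hcard]
    norm_num
  have H : ConwayTypeCoord62.Hyp (Q.map f) z := ⟨hL, by
    rw [Subgroup.card_map_of_injective hinj, hcard]; norm_num, hC⟩
  have hcardX : Nat.card ↥(X.map f) = 3 := by rw [Subgroup.card_map_of_injective hinj, hX]
  haveI : Nontrivial ↥(X.map f) := Finite.one_lt_card_iff_nontrivial.1 (by omega)
  obtain ⟨⟨x, hx⟩, hx1⟩ := exists_ne (1 : ↥(X.map f))
  have hx1' : x ≠ 1 := fun h => hx1 (Subtype.ext h)
  have hx3 : x ^ 3 = 1 := by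
    have := pow_card_eq_one' (x := (⟨x, hx⟩ : ↥(X.map f)))
    rw [hcardX] at this
    exact congrArg Subtype.val this
  have hzp : X.map f = zpowers x := (Subgroup.eq_of_le_of_card_ge (zpowers_le.2 hx)
    (by rw [Nat.card_zpowers, orderOf_eq_prime hx3 hx1', hcardX])).symm
  have hxz : x * z = z * x := by
    obtain ⟨c, -, rfl⟩ := hx
    exact mem_centralizer_singleton_iff.1 c.2
  have hcomm : (⁅Q, X⁆).map f = ⁅Q.map f, zpowers x⁆ := by rw [map_commutator, hzp]
  have T : Three (Q.map f) z x := by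
    refine ⟨hx3, hx1', hxz, card_CQ H hxz (orderOf_eq_prime hx3 hx1') ?_ ?_⟩
    · rw [← hcomm, Subgroup.card_map_of_injective hinj, hQX]
    · by_contra hcon
      push Not at hcon
      refine hQXna ⟨⟨fun a b => Subtype.ext (hinj ?_)⟩⟩
      simp only [Subgroup.coe_mul, map_mul]
      exact hcon _ (hcomm ▸ mem_map_of_mem f a.2) _ (hcomm ▸ mem_map_of_mem f b.2)
  obtain ⟨g, ⟨hq, hgQ⟩, hgz⟩ := hnwc
  have K : Cd (Q.map f) z x := ⟨H, T, ⟨g, ⟨_, hgQ, rfl⟩, hgz⟩⟩
  rw [hzp] at hX'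
  subst hX'
  obtain ⟨hn, hF', ⟨e'⟩⟩ := local_data K
  haveI := hn
  have hiso : Cfsg.Spor.IsoSuz (CY x ⧸ N x) := suz (zb K) (orderOf_zb K) (embC K).range hF'
    (isExtraspecial_range K) (card_range K) e' (exists_fus K)
  refine ⟨?_, hiso⟩
  obtain ⟨es⟩ := hiso
  haveI : IsSimpleGroup Cfsg.Spor.Suz := CosetCertSuzSimple.simple
  exact ConwayThreePerfect24.quasisimple K es.isSimpleGroup

end Cfsg.Agent.ConwayThreeMain24
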