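import Mathlib
import Cfsg.Agent.Lib.OrthUnitaryIsoCore
import Cfsg.Agent.S2119

/-!
An isometry group over the field with two elements whose commutator subgroup is alternating is
symmetric.
-/

set_option autoImplicit false
set_option linter.unusedSectionVars false

namespace Cfsg.Agent.OrthUnitarySmallIso

open QuadraticMap
open Cfsg.Agent.OrthUnitaryQuad
open Cfsg.Agent.OrthUnitaryCentre
open Cfsg.Agent.OrthUnitaryStd

/-- If a normal alternating subgroup has trivial centraliser and the order is right, the group is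
symmetric. -/
theorem nonempty_equiv_perm {G : Type*} [Group G] [Finite G] (N : Subgroup G) [N.Normal] {n : ℕ}
    (hn : 4 ≤ n) (h6 : n ≠ 6) (e : N ≃* alternatingGroup (Fin n))
    (hcent : ∀ g, (∀ k ∈ N, g * k = k * g) → g = 1)
    (hcard : Nat.card G = Nat.card (Equiv.Perm (Fin n))) :
    Nonempty (G ≃* Equiv.Perm (Fin n)) := by
  have hb := Cfsg.Agent.S2119.result n hn h6
  let A := MulEquiv.ofBijective _ hb
  let φ : G →* Equiv.Perm (Fin n) :=
    A.symm.toMonoidHom.comp ((MulAut.congr e).toMonoidHom.comp MulAut.conjNormal)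
  have hinj : Function.Injective φ := by
    rw [injective_iff_map_eq_one]
    intro g hg
    have h1 : (MulAut.conjNormal g : MulAut N) = 1 :=
      (MulAut.congr e).injective (by
        rw [map_one]
        exact A.symm.injective (hg.trans (map_one A.symm).symm))
    refine hcent g fun k hk => ?_
    have h2 := congrArg Subtype.val (DFunLike.congr_fun h1 ⟨k, hk⟩)
    simp only [MulAut.conjNormal_apply, MulAut.one_apply] at h2
    exact mul_inv_eq_iff_eq_mul.1 h2
  exact ⟨MulEquiv.ofBijective φ ((Nat.bijective_iff_injective_and_card φ).2 ⟨hinj, hcard⟩)⟩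

variable {F : Type*} [Field F] [Fintype F] {V : Type*} [AddCommGroup V] [Module F V]
  [FiniteDimensional F V] {Q : QuadraticForm F V}

/-- Over a field of characteristic two the commutator subgroup of an isotropic isometry group has
trivial centraliser. -/
theorem eq_one_of_commute (h2 : (2 : F) = 0) (hQ : (polarBilin Q).Nondegenerate)
    (hn : 3 ≤ Module.finrank F V) {e : V} (he : Q e = 0) (he0 : e ≠ 0) {g : orth Q}
    (hg : ∀ k ∈ commutator (orth Q), g * k = k * g) : g = 1 := by
  rcases eq_one_or_negOne_of_lines (OrthUnitaryOmega.isReg_of_nondegenerate hQ) he he0 hn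
    (fun u hu => exists_smul_of_commute hQ hn hg hu) with h | h
  · exact h
  · rw [h, negOne_eq_one_of_two_eq_zero h2]

theorem nonempty_isometryGroup_equiv_perm {ι : Type} [Fintype ι] [DecidableEq ι]
    (Q : QuadraticForm F (ι → F)) (f : (ι → F) → F) (hf : ∀ v, f v = Q v) (h2 : (2 : F) = 0)
    (hQ : (polarBilin Q).Nondegenerate) (hd : 3 ≤ Fintype.card ι) {e : ι → F} (he : Q e = 0)
    (he0 : e ≠ 0) {n : ℕ} (hn : 4 ≤ n) (h6 : n ≠ 6)
    (hΩ : Nonempty (Omega F f ≃* alternatingGroup (Fin n)))
    (hcard : Nat.card (isometryGroup F f) = n.factorial) :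
    Nonempty (isometryGroup F f ≃* Equiv.Perm (Fin n)) := by
  obtain ⟨eΩ⟩ := hΩ
  have eC := omegaEquiv Q f (LinearEquiv.refl F (ι → F)) (fun x => hf x)
  let eO : isometryGroup F f ≃* orth Q := isometryGroupEquiv Q f hf
  have := finite_orth Q
  obtain ⟨r⟩ := nonempty_equiv_perm (G := orth Q) (commutator (orth Q)) hn h6
    (eC.symm.trans eΩ)
    (fun g hg => eq_one_of_commute h2 hQ
      (by rw [Module.finrank_fintype_fun_eq_card]; exact hd) he he0 hg)
    (by rw [← Nat.card_congr eO.toEquiv, hcard, Nat.card_perm, Nat.card_eq_fintype_card,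
      Fintype.card_fin])
  exact ⟨eO.trans r⟩

end Cfsg.Agent.OrthUnitarySmallIso
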