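import Cfsg.Agent.Lib.SuzTypeOrder62
import Cfsg.Agent.Lib.OrthUnitarySimpleStd
import Cfsg.Agent.Lib.OrthUnitarySmallIso
import Cfsg.Agent.Lib.OrthUnitaryPrelude
import Cfsg.Agent.Lib.AutOrth45Forms

/-!
# Simplicity of the commutator group of the minus orthogonal group in dimension six over two elements
-/

set_option autoImplicit false

namespace Cfsg.Agent.ConwayThreeOmega24

open QuadraticMap
open Cfsg.Agent.OrthUnitaryQuad Cfsg.Agent.OrthUnitaryStd Cfsg.Agent.OrthUnitaryPrelude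

/-- The form. -/
abbrev qf : ((Fin 2 ⊕ Fin 2) ⊕ Fin 2 → ZMod 2) → ZMod 2 := Cfsg.quadFormMinus 2 (ZMod 2) 1 1

theorem isSimpleGroup_omega : IsSimpleGroup (Cfsg.Omega (ZMod 2) qf) := by
  have hab : ∀ z₁ z₂ : ZMod 2, z₁ ^ 2 + 1 * z₁ * z₂ + 1 * z₂ ^ 2 = 0 → z₁ = 0 ∧ z₂ = 0 := by
    decide
  set Q := QuadClassify.qMinus 2 (ZMod 2) (1 : ZMod 2) 1 with hQ
  have hf : ∀ v, qf v = Q v := fun v => by
    rw [hQ]; exact (congrFun (QuadClassify.qMinus_coe (F := ZMod 2) 2 1 1) v).symm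
  have hnd : (polarBilin Q).Nondegenerate := AutOrth45Forms.nondegenerate_qMinus hab 2
  haveI hp : IsSimpleGroup (Cfsg.POmega (ZMod 2) qf) :=
    OrthUnitarySimpleStd.isSimpleGroup_POmega Q qf (LinearEquiv.refl _ _) hf hnd
      (by rw [Module.finrank_fintype_fun_eq_card]; simp)
  set O := Cfsg.isometryGroup (ZMod 2) qf
  let eO : O ≃* orth Q := isometryGroupEquiv Q _ hf
  haveI := finite_orth Q
  have hcent : Subgroup.center (Cfsg.Omega (ZMod 2) qf) = ⊥ := by
    rw [eq_bot_iff]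
    intro g hg
    rw [Subgroup.mem_bot]
    let v : (Fin 2 ⊕ Fin 2) ⊕ Fin 2 → ZMod 2 := Pi.single (Sum.inl (Sum.inl 0)) 1
    have hv : Q v = 0 := by rw [← hf]; decide
    have hv0 : v ≠ 0 := by
      intro h
      have := congrFun h (Sum.inl (Sum.inl 0))
      simp [v] at this
    refine Subtype.ext (eO.injective ?_)
    rw [OneMemClass.coe_one, map_one]
    refine OrthUnitarySmallIso.eq_one_of_commute (by decide) hnd (by simp) hv hv0 fun k hk => ?_
    obtain ⟨k, rfl⟩ := eO.surjective k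
    rw [← map_mul, ← map_mul]
    exact congrArg eO (congrArg Subtype.val (Subgroup.mem_center_iff.1 hg
      ⟨k, (OrthUnitaryOmega.mem_commutator_iff eO k).mpr hk⟩).symm)
  let e : Cfsg.Omega (ZMod 2) qf ≃* Cfsg.POmega (ZMod 2) qf :=
    ((QuotientGroup.quotientMulEquivOfEq hcent).trans QuotientGroup.quotientBot).symm
  exact e.isSimpleGroup

theorem not_two_group : ¬ IsPGroup 2 ↥(Cfsg.Omega (ZMod 2) qf) := fun h => by
  haveI := Fact.mk Nat.prime_two
  obtain ⟨k, hk⟩ := IsPGroup.iff_card.1 h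
  rw [SuzTypeOrder62.card_omega] at hk
  rcases Nat.lt_or_ge k 15 with h' | h'
  · interval_cases k <;> omega
  · have := Nat.pow_le_pow_right (show 2 > 0 by norm_num) h'
    omega

end Cfsg.Agent.ConwayThreeOmega24
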