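import Mathlib
import Cfsg.Agent.Lib.SuzY42Quat
import Cfsg.Agent.Lib.SL23Model77
import Cfsg.Agent.Lib.CharTwoLocal

/-!
A group of order `2^7 · 3^2` with an extraspecial normal subgroup `Q` of order `2^5` containing
its centraliser, in which elements of order three centralise no non-central involution of `Q`:
the elements of odd order generate two commuting copies of `SL(2,3)`.
-/

set_option autoImplicit false
set_option linter.unusedSectionVars false

namespace Cfsg.Agent.SuzY42Local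

open Subgroup Cfsg.Agent.LargeExtraspecial Cfsg.Agent.SuzY42Quat
open scoped commutatorElement

variable {H : Type*} [Group H] [Finite H]

/-- The hypotheses. -/
structure Cent (Q : Subgroup H) (z : H) : Prop extends Ext Q z where
  card : Nat.card H = 1152
  cardQ : Nat.card Q = 32
  zc : ∀ g : H, g * z = z * g
  normal : ∀ g : H, ∀ x ∈ Q, g * x * g⁻¹ ∈ Q
  cent : ∀ g : H, (∀ x ∈ Q, g * x = x * g) → g = 1 ∨ g = z
  no3 : ∀ c t : H, c ^ 3 = 1 → t ∈ Q → t * t = 1 → t ≠ 1 → t ≠ z → c * t = t * c → c = 1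

/-- In an extraspecial group a non-central element has centraliser of index two. -/
theorem card_fix {P : Subgroup H} {z : H} (h : Ext P z) {x : H} (hx : x ∈ P) (h1 : x ≠ 1)
    (h2 : x ≠ z) :
    2 * Nat.card ↥(P ⊓ centralizer ({x} : Set H)) = Nat.card P := by
  set C := P ⊓ centralizer ({x} : Set H) with hC
  obtain ⟨q, hq, eq⟩ := h.partner x hx h1 h2
  have hidx : (C.subgroupOf P).index = 2 := by
    refine Subgroup.index_eq_two_iff.mpr ⟨⟨q, hq⟩, fun b => ?_⟩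
    simp only [Subgroup.mem_subgroupOf, hC, mem_inf, mem_centralizer_singleton_iff,
      Subgroup.coe_mul]
    have hbq : (b : H) * q ∈ P := P.mul_mem b.2 hq
    by_cases hb : (b : H) * x = x * b
    · refine Or.inr ⟨⟨b.2, hb⟩, fun e => (h.not_comm_iff hx hq).mpr eq ?_⟩
      have := (show Commute (b : H) x from hb).inv_left.mul_left
        (show Commute ((b : H) * q) x from e.2)
      rw [inv_mul_cancel_left] at this
      exact this
    · refine Or.inl ⟨⟨hbq, ?_⟩, fun e => hb e.2⟩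
      exact mul_inv_eq_iff_eq_mul.mp (h.mul_fix b.2 ((h.not_comm_iff hx b.2).mp hb) eq)
  have hm := Subgroup.card_mul_index (C.subgroupOf P)
  rw [hidx, Nat.card_congr (Subgroup.subgroupOfEquivOfLe (show C ≤ P from inf_le_left)).toEquiv]
    at hm
  omega

/-- An extraspecial group without non-central involutions has order at most eight. -/
theorem two_or_eight {P : Subgroup H} {z : H} (h : Ext P z)
    (hs : ∀ g ∈ P, g * g = 1 → g = 1 ∨ g = z) : Nat.card P = 2 ∨ Nat.card P = 8 := by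
  by_cases hP : P ≤ zpowers z
  · left
    have : P = zpowers z := le_antisymm hP (zpowers_le.2 h.mem)
    rw [this, Nat.card_zpowers, h.orderOf_z]
  · right
    obtain ⟨x, hx, hxz⟩ : ∃ x ∈ P, x ∉ zpowers z := SetLike.not_le_iff_exists.1 hP
    have h1 : x ≠ 1 := fun e => hxz (e ▸ one_mem _)
    have h2 : x ≠ z := fun e => hxz (e ▸ mem_zpowers z)
    have hxx : x * x = z := (h.sq x hx).resolve_left fun e => by
      rcases hs x hx e with e' | e'
      exacts [h1 e', h2 e']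
    have ho : orderOf x = 4 := by
      refine orderOf_eq_prime_pow (p := 2) (n := 1) (fun e => h.ne_one ?_) (h.pow_four hx)
      rw [← hxx, ← e]; simp [pow_two]
    have hC : P ⊓ centralizer ({x} : Set H) = zpowers x := by
      refine le_antisymm ?_ (zpowers_le.2 ⟨hx, mem_centralizer_singleton_iff.2 rfl⟩)
      rintro w ⟨hw, hwx⟩
      have hc : Commute w x := mem_centralizer_singleton_iff.1 hwx
      rcases h.sq w hw with e | e
      · rcases hs w hw e with e' | e' <;> rw [e']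
        · exact one_mem _
        · rw [← hxx]; exact mul_mem (mem_zpowers x) (mem_zpowers x)
      · have e2 : w * x * (w * x) = 1 := by
          rw [hc.symm.mul_mul_mul_comm, e, hxx, h.zz]
        rcases hs _ (P.mul_mem hw hx) e2 with e' | e'
        · rw [eq_inv_of_mul_eq_one_left e']; exact inv_mem (mem_zpowers x)
        · rw [eq_mul_inv_of_mul_eq e', ← hxx]
          exact mul_mem (mul_mem (mem_zpowers x) (mem_zpowers x)) (inv_mem (mem_zpowers x))
    rw [← card_fix h hx h1 h2, hC, Nat.card_zpowers, ho]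

/-- The fixed subgroup of an element in `Q`. -/
def F (Q : Subgroup H) (a : H) : Subgroup H := Q ⊓ centralizer (zpowers a : Set H)

theorem mem_F {Q : Subgroup H} {a g : H} : g ∈ F Q a ↔ g ∈ Q ∧ a * g = g * a := by
  rw [F, mem_inf, mem_centralizer_iff]
  refine and_congr Iff.rfl ⟨fun h => h a (mem_zpowers a), fun h => ?_⟩
  rintro _ ⟨k, rfl⟩
  exact ((show Commute a g from h).zpow_left k).eq

namespace Cent

variable {Q : Subgroup H} {z : H} (D : Cent Q z)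
include D

theorem ext_F {a : H} (ha : a ^ 9 = 1) : Ext (F Q a) z := by
  refine LargeExtraspecialAct.ext_centralizer D.toExt (fun b _ x hx => D.normal b x hx) ?_
  rw [Nat.card_zpowers]
  exact Odd.of_dvd_nat (by decide : Odd 9) (orderOf_dvd_of_pow_eq_one ha)

theorem no_inv {a : H} (ha : a ^ 9 = 1) (h1 : a ≠ 1) {g : H} (hg : g ∈ F Q a) (hgg : g * g = 1) :
    g = 1 ∨ g = z := by
  obtain ⟨hgQ, hc⟩ := mem_F.1 hg
  by_contra hne
  push Not at hne
  by_cases h3 : a ^ 3 = 1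
  · exact h1 (D.no3 a g h3 hgQ hgg hne.1 hne.2 hc)
  · refine h3 (D.no3 (a ^ 3) g (by rw [← pow_mul]; exact ha) hgQ hgg hne.1 hne.2 ?_)
    exact ((show Commute a g from hc).pow_left 3).eq

theorem card_F {a : H} (ha : a ^ 9 = 1) (h1 : a ≠ 1) :
    Nat.card (F Q a) = 2 ∨ Nat.card (F Q a) = 8 :=
  two_or_eight (D.ext_F ha) fun _ hg hgg => D.no_inv ha h1 hg hgg

theorem F_le_eight {a : H} (ha : a ^ 9 = 1) (h1 : a ≠ 1) : Nat.card (F Q a) ≤ 8 := by
  rcases D.card_F ha h1 with e | e <;> omega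

/-- A subgroup of order eight centralised by `a` is the fixed subgroup. -/
theorem eq_F {a : H} (ha : a ^ 9 = 1) (h1 : a ≠ 1) {P : Subgroup H} (hP : Nat.card P = 8)
    (hle : P ≤ F Q a) : P = F Q a :=
  Subgroup.eq_of_le_of_card_ge hle (hP ▸ D.F_le_eight ha h1)

theorem mem_A {A : Subgroup H} (hA : Nat.card A = 9) {a : H} (ha : a ∈ A) : a ^ 9 = 1 := by
  have := pow_card_eq_one' (x := (⟨a, ha⟩ : A))
  rw [hA] at this
  exact congrArg Subtype.val this

/-- Burnside's count: the number of fixed subgroups of order eight. -/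
theorem count {A : Subgroup H} (hA : Nat.card A = 9) :
    ∃ T : Finset H, (∀ a, a ∈ T ↔ a ∈ A ∧ a ≠ 1 ∧ Nat.card (F Q a) = 8) ∧
      9 ∣ 48 + 6 * T.card ∧ T.card ≤ 8 := by
  classical
  haveI : Fintype H := Fintype.ofFinite H
  letI : MulAction A Q :=
    { smul := fun a q => ⟨(a : H) * q * (a : H)⁻¹, D.normal _ _ q.2⟩
      one_smul := fun q => Subtype.ext (by show (1 : H) * q * 1⁻¹ = _; group)
      mul_smul := fun a b q => Subtype.ext (by
        show (a : H) * b * q * ((a : H) * b)⁻¹ = a * (b * q * (b : H)⁻¹) * (a : H)⁻¹; group) }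
  have hfix : ∀ a : A, Fintype.card (MulAction.fixedBy Q a) = Nat.card (F Q (a : H)) := by
    intro a
    rw [← Nat.card_eq_fintype_card]
    exact Nat.card_congr
      { toFun := fun q => ⟨q.1, mem_F.2 ⟨q.1.2,
          mul_inv_eq_iff_eq_mul.1 (congrArg Subtype.val (show a • q.1 = q.1 from q.2))⟩⟩
        invFun := fun q => ⟨⟨q, (mem_F.1 q.2).1⟩, Subtype.ext
          (show (a : H) * q * (a : H)⁻¹ = q from mul_inv_eq_iff_eq_mul.2 (mem_F.1 q.2).2)⟩
        left_inv := fun _ => rfl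
        right_inv := fun _ => rfl }
  have hb := MulAction.sum_card_fixedBy_eq_card_orbits_mul_card_group A Q
  rw [Finset.sum_congr rfl fun a _ => hfix a] at hb
  rw [← Nat.card_eq_fintype_card (α := A), hA] at hb
  set S : Finset H := Finset.univ.filter fun a => a ∈ A ∧ a ≠ 1 with hS
  set T : Finset H := S.filter fun a => Nat.card (F Q a) = 8 with hT
  have hsum : ∑ a : A, Nat.card (F Q (a : H)) = 32 + ∑ a ∈ S, Nat.card (F Q a) := by
    rw [← Finset.sum_subtype (Finset.univ.filter fun a => a ∈ A) (by simp)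
      fun a => Nat.card (F Q a),
      ← Finset.add_sum_erase _ _ (show (1 : H) ∈ Finset.univ.filter fun a => a ∈ A by simp)]
    have h1 : F Q 1 = Q := by
      ext g; simp [mem_F]
    rw [h1, D.cardQ]
    congr 1
    refine Finset.sum_congr ?_ fun _ _ => rfl
    ext a; simp [hS, and_comm]
  have hScard : S.card = 8 := by
    have h1 : S = (Finset.univ.filter fun a => a ∈ A).erase 1 := by
      ext a; simp [hS, and_comm]
    rw [h1, Finset.card_erase_of_mem (by simp), ← Fintype.card_subtype,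
      ← Nat.card_eq_fintype_card, hA]
  have hval : ∀ a ∈ S, Nat.card (F Q a) = 2 + if Nat.card (F Q a) = 8 then 6 else 0 := by
    intro a ha
    simp only [hS, Finset.mem_filter, Finset.mem_univ, true_and] at ha
    rcases D.card_F (D.mem_A hA ha.1) ha.2 with e | e <;> simp only [e] <;> norm_num
  rw [hsum, Finset.sum_congr rfl hval, Finset.sum_add_distrib, Finset.sum_const, hScard,
    ← Finset.sum_filter, Finset.sum_const, ← hT, smul_eq_mul, smul_eq_mul] at hb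
  refine ⟨T, fun a => by simp [hT, hS, and_assoc], ?_, hScard ▸ Finset.card_filter_le _ _⟩
  exact Dvd.intro_left (Fintype.card (Quotient (MulAction.orbitRel A Q))) (by omega)

theorem le_of_two {A K : Subgroup H} (hA : Nat.card A = 9) {a b : H} (ha : a ∈ A) (hb : b ∈ A)
    (h1 : a ≠ 1) (h3 : a ^ 3 = 1) (hab : b ∉ zpowers a) (haK : a ∈ K) (hbK : b ∈ K) : A ≤ K := by
  have hle : zpowers a ≤ A ⊓ K := zpowers_le.2 ⟨ha, haK⟩
  have hlt : zpowers a < A ⊓ K := lt_of_le_of_ne hle fun e => hab (e ▸ ⟨hb, hbK⟩)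
  have hc := Set.Finite.card_lt_card (Set.toFinite ((A ⊓ K : Subgroup H) : Set H)) hlt
  rw [SetLike.coe_sort_coe, SetLike.coe_sort_coe, Nat.card_zpowers,
    orderOf_eq_prime h3 h1] at hc
  have hdvd := hA ▸ Subgroup.card_dvd_of_le (inf_le_left : A ⊓ K ≤ A)
  have : Nat.card ↥(A ⊓ K) = 9 := by
    rcases (Nat.dvd_prime_pow Nat.prime_three (i := _) (m := 2)).1 hdvd with ⟨i, hi, e⟩
    interval_cases i <;> simp_all
  exact (Subgroup.eq_of_le_of_card_ge inf_le_left (by rw [this, hA])).ge.trans inf_le_right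

/-- The two elements of order three. -/
theorem exists_pair :
    ∃ A : Subgroup H, ∃ a₁ a₂ : H, Nat.card A = 9 ∧ a₁ ∈ A ∧ a₂ ∈ A ∧ a₁ ≠ 1 ∧ a₂ ≠ 1 ∧
      a₁ ^ 3 = 1 ∧ a₂ ^ 3 = 1 ∧ a₁ * a₂ = a₂ * a₁ ∧ a₂ ∉ zpowers a₁ ∧
      Nat.card (F Q a₁) = 8 ∧ Nat.card (F Q a₂) = 8 ∧
      (∀ g ∈ F Q a₁, g ∈ F Q a₂ → g = 1 ∨ g = z) := by
  haveI := Fact.mk Nat.prime_three
  obtain ⟨A, hA⟩ := Sylow.exists_subgroup_card_pow_prime (G := H) 3 (n := 2)
    (by rw [D.card]; norm_num)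
  rw [show (3 : ℕ) ^ 2 = 9 from rfl] at hA
  have hcomm : ∀ a ∈ A, ∀ b ∈ A, a * b = b * a := fun a ha b hb => by
    have := (IsPGroup.isMulCommutative_of_card_eq_prime_sq (p := 3) (G := A)
      (by rw [hA]; norm_num)).is_comm.comm ⟨a, ha⟩ ⟨b, hb⟩
    exact congrArg Subtype.val this
  obtain ⟨T, hT, h9, h8⟩ := D.count hA
  have hall : T.card < 8 := by omega
  -- not every element has a fixed subgroup of order eight
  obtain ⟨b, hbA, hb1, hb8⟩ : ∃ b ∈ A, b ≠ 1 ∧ Nat.card (F Q b) ≠ 8 := by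
    by_contra hc
    push Not at hc
    classical
    haveI : Fintype H := Fintype.ofFinite H
    have h1 : T = (Finset.univ.filter fun a => a ∈ A).erase 1 := by
      ext a
      rw [hT]
      simp only [Finset.mem_erase, Finset.mem_filter, Finset.mem_univ, true_and]
      exact ⟨fun h => ⟨h.2.1, h.1⟩, fun h => ⟨h.2, h.1, hc a h.2 h.1⟩⟩
    rw [h1, Finset.card_erase_of_mem (by simp), ← Fintype.card_subtype, ← Nat.card_eq_fintype_card,
      hA] at hall
    omega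
  have hnall : ∀ a, a ∈ A → a ≠ 1 → Nat.card (F Q a) = 8 →
      ¬ A ≤ centralizer (F Q a : Set H) := by
    intro a _ _ ha8 hle
    have h9b := D.mem_A hA hbA
    refine hb8 ?_
    rw [← D.eq_F h9b hb1 ha8 fun g hg => mem_F.2 ⟨(mem_F.1 hg).1,
      (mem_centralizer_iff.1 (hle hbA) g hg).symm⟩, ha8]
  have hcentF : ∀ a b : H, F Q a = F Q b → b ∈ centralizer (F Q a : Set H) := fun a b e =>
    mem_centralizer_iff.2 fun g hg => by
      rw [SetLike.mem_coe, e] at hg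
      exact (mem_F.1 hg).2.symm
  have h3 : ∀ a ∈ T, a ^ 3 = 1 := by
    intro a haT
    obtain ⟨haA, ha1, ha8⟩ := (hT a).1 haT
    by_contra h3
    have ho : orderOf a = 9 :=
      orderOf_eq_prime_pow (p := 3) (n := 1) (by simpa using h3) (by simpa using D.mem_A hA haA)
    have hAz : zpowers a = A := Subgroup.eq_of_le_of_card_ge (zpowers_le.2 haA)
      (by rw [Nat.card_zpowers, ho, hA])
    exact hnall a haA ha1 ha8 (hAz ▸ zpowers_le.2 (hcentF a a rfl))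
  have h4 : 4 ≤ T.card := by
    have hm : T.card = 1 ∨ 4 ≤ T.card := by omega
    refine hm.resolve_left fun h => ?_
    obtain ⟨a, ha⟩ := Finset.card_eq_one.1 h
    obtain ⟨haA, ha1, ha8⟩ := (hT a).1 (by rw [ha]; exact Finset.mem_singleton_self a)
    have : a⁻¹ ∈ T := (hT _).2 ⟨inv_mem haA, inv_ne_one.2 ha1,
      by rw [show F Q a⁻¹ = F Q a by rw [F, F, zpowers_inv], ha8]⟩
    rw [ha, Finset.mem_singleton] at this
    have e3 := h3 a (by rw [ha]; exact Finset.mem_singleton_self a)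
    apply ha1
    have hsq : a * a = 1 := inv_eq_iff_mul_eq_one.1 this
    rwa [pow_succ, pow_two, hsq, one_mul] at e3
  obtain ⟨a₁, ha₁⟩ : T.Nonempty := Finset.card_pos.1 (by omega)
  obtain ⟨h1A, h11, h18⟩ := (hT a₁).1 ha₁
  obtain ⟨a₂, ha₂, hz2⟩ : ∃ a₂ ∈ T, a₂ ∉ zpowers a₁ := by
    by_contra hc
    push Not at hc
    classical
    haveI : Fintype H := Fintype.ofFinite H
    have hsub : T ⊆ (Finset.univ.filter fun a => a ∈ zpowers a₁) := fun a ha => by
      simp [hc a ha]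
    have := Finset.card_le_card hsub
    rw [← Fintype.card_subtype, ← Nat.card_eq_fintype_card, Nat.card_zpowers,
      orderOf_eq_prime (h3 a₁ ha₁) h11] at this
    omega
  obtain ⟨h2A, h21, h28⟩ := (hT a₂).1 ha₂
  refine ⟨A, a₁, a₂, hA, h1A, h2A, h11, h21, h3 a₁ ha₁, h3 a₂ ha₂, hcomm _ h1A _ h2A, hz2, h18,
    h28, fun g hg hg' => ?_⟩
  set E := Q ⊓ centralizer (A : Set H) with hE
  have hAo : Odd (Nat.card A) := by rw [hA]; decide
  have hEx : Ext E z := LargeExtraspecialAct.ext_centralizer D.toExt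
    (fun b _ x hx => D.normal b x hx) hAo
  have hA' : A ≤ centralizer ({g} : Set H) := D.le_of_two hA h1A h2A h11 (h3 a₁ ha₁) hz2
    (mem_centralizer_singleton_iff.2 (mem_F.1 hg).2) (mem_centralizer_singleton_iff.2 (mem_F.1 hg').2)
  have hgE : g ∈ E := ⟨(mem_F.1 hg).1, mem_centralizer_iff.2 fun a ha =>
    mem_centralizer_singleton_iff.1 (hA' ha)⟩
  have hle : ∀ a ∈ A, E ≤ F Q a := fun a ha x hx =>
    mem_F.2 ⟨hx.1, mem_centralizer_iff.1 hx.2 a ha⟩
  rcases two_or_eight hEx fun x hx hxx => D.no_inv (D.mem_A hA h1A) h11 (hle a₁ h1A hx) hxx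
    with e | e
  · have : E = zpowers z := (Subgroup.eq_of_le_of_card_ge (zpowers_le.2 hEx.mem)
      (by rw [Nat.card_zpowers, hEx.orderOf_z, e])).symm
    exact hEx.eq_of_mem_zpowers (this ▸ hgE)
  · exfalso
    have e1 := D.eq_F (D.mem_A hA h1A) h11 e (hle a₁ h1A)
    have e2 := D.eq_F (D.mem_A hA h2A) h21 e (hle a₂ h2A)
    exact hnall a₁ h1A h11 h18 (D.le_of_two hA h1A h2A h11 (h3 a₁ ha₁) hz2 (hcentF a₁ a₁ rfl)
      (hcentF a₁ a₂ (e1.symm.trans e2)))

end Cent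

/-- The decomposition of `Q` into two commuting quaternion groups. -/
structure Dec (Q : Subgroup H) (z : H) (F₁ F₂ : Subgroup H) (a₁ a₂ x₁ y₁ x₂ y₂ : H) : Prop where
  le₁ : F₁ ≤ Q
  le₂ : F₂ ≤ Q
  q₁ : Quat F₁ z x₁ y₁
  q₂ : Quat F₂ z x₂ y₂
  c₁ : Cyc z x₁ y₁ a₂
  c₂ : Cyc z x₂ y₂ a₁
  e₁ : ∀ g ∈ F₁, a₁ * g = g * a₁
  e₂ : ∀ g ∈ F₂, a₂ * g = g * a₂
  comm : ∀ g ∈ F₁, ∀ h ∈ F₂, g * h = h * g
  acomm : a₁ * a₂ = a₂ * a₁
  inter : ∀ g ∈ F₁, g ∈ F₂ → g = 1 ∨ g = z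
  prod : ∀ q ∈ Q, ∃ g ∈ F₁, ∃ h ∈ F₂, q = g * h
  card₁ : Nat.card F₁ = 8
  card₂ : Nat.card F₂ = 8

theorem Dec.symm {Q : Subgroup H} {z : H} {F₁ F₂ : Subgroup H} {a₁ a₂ x₁ y₁ x₂ y₂ : H}
    (E : Dec Q z F₁ F₂ a₁ a₂ x₁ y₁ x₂ y₂) : Dec Q z F₂ F₁ a₂ a₁ x₂ y₂ x₁ y₁ :=
  ⟨E.le₂, E.le₁, E.q₂, E.q₁, E.c₂, E.c₁, E.e₂, E.e₁, fun g hg h hh => (E.comm h hh g hg).symm,
    E.acomm.symm, fun g hg hg' => E.inter g hg' hg, fun q hq => by
      obtain ⟨g, hg, h, hh, rfl⟩ := E.prod q hq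
      exact ⟨h, hh, g, hg, E.comm g hg h hh⟩, E.card₂, E.card₁⟩

namespace Cent

variable {Q : Subgroup H} {z : H} (D : Cent Q z)
include D

theorem exists_dec : ∃ A : Subgroup H, ∃ F₁ F₂ : Subgroup H, ∃ a₁ a₂ x₁ y₁ x₂ y₂ : H,
    Dec Q z F₁ F₂ a₁ a₂ x₁ y₁ x₂ y₂ ∧ a₁ ≠ 1 ∧ a₂ ≠ 1 ∧ Nat.card A = 9 ∧
      ∀ K : Subgroup H, a₁ ∈ K → a₂ ∈ K → A ≤ K := by
  obtain ⟨A, a₁, a₂, hA, h1A, h2A, h11, h21, e1, e2, hcm, hz2, h18, h28, hint⟩ := D.exists_pair
  have h19 := D.mem_A hA h1A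
  have h29 := D.mem_A hA h2A
  have hn : ∀ a b : H, a * b = b * a → ∀ g ∈ F Q b, a * g * a⁻¹ ∈ F Q b := by
    intro a b hab g hg
    obtain ⟨hgQ, hc⟩ := mem_F.1 hg
    refine mem_F.2 ⟨D.normal a g hgQ, ?_⟩
    have hba : Commute b a := (show Commute a b from hab).symm
    exact ((hba.mul_right hc).mul_right hba.inv_right).eq
  obtain ⟨x₁, y₁, q₁, c₁⟩ := exists_quat (D.ext_F h19) h18 (D.zc a₂) e2 (hn a₂ a₁ hcm.symm)
    fun g hg hc => hint g hg (mem_F.2 ⟨(mem_F.1 hg).1, hc⟩)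
  obtain ⟨x₂, y₂, q₂, c₂⟩ := exists_quat (D.ext_F h29) h28 (D.zc a₁) e1 (hn a₁ a₂ hcm)
    fun g hg hc => hint g (mem_F.2 ⟨(mem_F.1 hg).1, hc⟩) hg
  -- the two fixed subgroups commute
  have hcomm : ∀ g ∈ F Q a₁, ∀ h ∈ F Q a₂, g * h = h * g := by
    have hA1 : ∀ b ∈ zpowers a₁, ∀ x ∈ Q, b * x * b⁻¹ ∈ Q := fun b _ x hx => D.normal b x hx
    have hodd : Odd (Nat.card (zpowers a₁)) := by
      rw [Nat.card_zpowers, orderOf_eq_prime e1 h11]; decide
    have hW : ∀ w ∈ ⁅Q, zpowers a₁⁆, a₂ * w * a₂⁻¹ ∈ ⁅Q, zpowers a₁⁆ := by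
      have : ⁅Q, zpowers a₁⁆ ≤ (⁅Q, zpowers a₁⁆).comap (MulAut.conj a₂).toMonoidHom := by
        rw [Subgroup.commutator_le]
        intro x hx b hb
        show a₂ * ⁅x, b⁆ * a₂⁻¹ ∈ ⁅Q, zpowers a₁⁆
        obtain ⟨k, rfl⟩ := hb
        have hk : a₂ * a₁ ^ k * a₂⁻¹ = a₁ ^ k := by
          rw [((show Commute a₂ a₁ from hcm.symm).zpow_right k).eq, mul_inv_cancel_right]
        have : a₂ * ⁅x, a₁ ^ k⁆ * a₂⁻¹ = ⁅a₂ * x * a₂⁻¹, a₁ ^ k⁆ := by
          conv_rhs => rw [← hk]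
          simp only [commutatorElement_def]; group
        rw [this]
        exact commutator_mem_commutator (D.normal _ x hx) (zpow_mem (mem_zpowers a₁) k)
      exact fun w hw => this hw
    intro g hg h hh
    obtain ⟨c, hc, w, hw, e⟩ := LargeExtraspecialAct.decompose D.toExt hA1 hodd (mem_F.1 hh).1
    set c' := a₂ * c * a₂⁻¹ with hc'
    have hc'F : c' ∈ F Q a₁ := hn a₂ a₁ hcm.symm c hc
    set d := c⁻¹ * c' with hd
    have hdF : d ∈ F Q a₁ := mul_mem (inv_mem hc) hc'F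
    have hdW : d ∈ ⁅Q, zpowers a₁⁆ := by
      have e2' : c' * (a₂ * w * a₂⁻¹) = c * w := by
        rw [hc', ← e, show a₂ * c * a₂⁻¹ * (a₂ * w * a₂⁻¹) = a₂ * (c * w) * a₂⁻¹ by group, ← e,
          (mem_F.1 hh).2, mul_inv_cancel_right]
      have : d = w * (a₂ * w * a₂⁻¹)⁻¹ := by
        rw [hd, eq_mul_inv_iff_mul_eq, mul_assoc, e2', inv_mul_cancel_left]
      rw [this]
      exact mul_mem hw (inv_mem (hW w hw))
    have hd1 : d = 1 ∨ d = z := by
      refine D.cent d fun x hx => ?_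
      obtain ⟨c0, hc0, w0, hw0, rfl⟩ := LargeExtraspecialAct.decompose D.toExt hA1 hodd hx
      exact ((show Commute c0 d from LargeExtraspecialAct.commute_commutator D.toExt hA1 hc0
        hdW).symm.mul_right (LargeExtraspecialAct.commute_commutator D.toExt hA1 hdF hw0)).eq
    have hfix : a₂ * c = c * a₂ := by
      refine LargeExtraspecialAct.fix_of_fix_mod D.toExt (n := 3) (by decide) e2 (D.zc a₂) ?_
      rcases hd1 with ed | ed
      · exact Or.inl (by rw [← hc', ← mul_inv_cancel_left c c', ← hd, ed, mul_one])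
      · exact Or.inr (by rw [← hc', ← mul_inv_cancel_left c c', ← hd, ed, D.zc c])
    have hgw : Commute g w := LargeExtraspecialAct.commute_commutator D.toExt hA1 hg hw
    have hgc : Commute g c := by
      rcases hint c hc (mem_F.2 ⟨(mem_F.1 hc).1, hfix⟩) with e' | e' <;> rw [e']
      · exact Commute.one_right g
      · exact D.zc g
    rw [e]
    exact (hgc.mul_right hgw).eq
  refine ⟨A, F Q a₁, F Q a₂, a₁, a₂, x₁, y₁, x₂, y₂, ?_, h11, h21, hA, fun K ha hb =>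
    D.le_of_two hA h1A h2A h11 e1 hz2 ha hb⟩
  refine ⟨inf_le_left, inf_le_left, q₁, q₂, c₁, c₂, fun g hg => (mem_F.1 hg).2,
    fun g hg => (mem_F.1 hg).2, hcomm, hcm, hint, ?_, h18, h28⟩
  let φ : F Q a₁ × F Q a₂ →* Q :=
    { toFun := fun p => ⟨p.1 * p.2, Q.mul_mem (mem_F.1 p.1.2).1 (mem_F.1 p.2.2).1⟩
      map_one' := Subtype.ext (mul_one 1)
      map_mul' := fun p r => Subtype.ext (by
        show (p.1 : H) * r.1 * (p.2 * r.2) = p.1 * p.2 * (r.1 * r.2)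
        exact (show Commute (r.1 : H) p.2 from hcomm _ r.1.2 _ p.2.2).mul_mul_mul_comm _ _) }
  have hk : Nat.card φ.ker ≤ 2 := by
    refine le_trans (Nat.card_le_card_of_injective
      (fun p : φ.ker => (⟨(p.1.1 : H), ?_⟩ : zpowers z)) fun p r e => ?_) ?_
    · have e : (p.1.1 : H) * p.1.2 = 1 := congrArg Subtype.val p.2
      have hm : (p.1.1 : H) ∈ F Q a₂ := eq_inv_of_mul_eq_one_left e ▸ inv_mem p.1.2.2
      rcases hint _ p.1.1.2 hm with e' | e' <;> rw [e']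
      exacts [one_mem _, mem_zpowers z]
    · have e' : (p.1.1 : H) = r.1.1 := by simpa using congrArg Subtype.val e
      have ep : (p.1.1 : H) * p.1.2 = 1 := congrArg Subtype.val p.2
      have er : (r.1.1 : H) * r.1.2 = 1 := congrArg Subtype.val r.2
      refine Subtype.ext (Prod.ext (Subtype.ext e') (Subtype.ext ?_))
      rw [e'] at ep
      exact mul_left_cancel (ep.trans er.symm)
    · rw [Nat.card_zpowers, D.toExt.orderOf_z]
  have hm : Nat.card φ.ker * Nat.card φ.range = 64 := by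
    rw [← Subgroup.index_ker, Subgroup.card_mul_index, Nat.card_prod, h18, h28]
  have hr : φ.range = ⊤ := Subgroup.eq_top_of_le_card _ (by rw [D.cardQ]; nlinarith)
  intro q hq
  obtain ⟨p, hp⟩ : (⟨q, hq⟩ : Q) ∈ φ.range := hr ▸ mem_top _
  exact ⟨_, p.1.2, _, p.2.2, (congrArg Subtype.val hp).symm⟩

end Cent

namespace Dec

variable {Q : Subgroup H} {z : H} {F₁ F₂ : Subgroup H} {a₁ a₂ x₁ y₁ x₂ y₂ : H}
  (E : Dec Q z F₁ F₂ a₁ a₂ x₁ y₁ x₂ y₂) (D : Cent Q z)
include E D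

theorem q_triv {q : H} (hq : q ∈ Q) : Triv F₁ z q :=
  ⟨D.zc q, fun g hg => D.conj q hq g (E.le₁ hg)⟩

theorem triv_mem {p : H} (h₁ : Triv F₁ z p) (h₂ : Triv F₂ z p) : p ∈ Q := by
  obtain ⟨w₁, hw₁, f₁⟩ := E.q₁.inner h₁
  obtain ⟨w₂, hw₂, f₂⟩ := E.q₂.inner h₂
  have c12 : Commute w₁ w₂ := E.comm _ hw₁ _ hw₂
  have key : ∀ g ∈ Q, (w₁ * w₂)⁻¹ * p * g = g * ((w₁ * w₂)⁻¹ * p) := by
    intro g hg
    obtain ⟨u, hu, v, hv, rfl⟩ := E.prod g hg
    have cu : Commute ((w₁ * w₂)⁻¹ * p) u := by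
      have hwu : Commute w₂⁻¹ u := (show Commute u w₂ from E.comm u hu w₂ hw₂).symm.inv_left
      rw [mul_inv_rev, mul_assoc]
      exact hwu.mul_left (f₁ u hu)
    have cv : Commute ((w₁ * w₂)⁻¹ * p) v := by
      have hwv : Commute w₁⁻¹ v := (show Commute w₁ v from E.comm w₁ hw₁ v hv).inv_left
      rw [c12.eq, mul_inv_rev, mul_assoc]
      exact hwv.mul_left (f₂ v hv)
    exact (cu.mul_right cv).eq
  have hm : (w₁ * w₂)⁻¹ * p ∈ Q := by
    rcases D.cent _ key with e | e <;> rw [e]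
    exacts [Q.one_mem, D.mem]
  have := Q.mul_mem (Q.mul_mem (E.le₁ hw₁) (E.le₂ hw₂)) hm
  rwa [mul_inv_cancel_left] at this

/-- The group generated by the two factors. -/
def M (_E : Dec Q z F₁ F₂ a₁ a₂ x₁ y₁ x₂ y₂) : Subgroup H :=
  (F₁ ⊔ zpowers a₂) ⊔ (F₂ ⊔ zpowers a₁)

theorem M_symm : E.symm.M = E.M := sup_comm _ _

theorem Q_le_M : Q ≤ E.M := by
  intro q hq
  obtain ⟨g, hg, h, hh, rfl⟩ := E.prod q hq
  exact mul_mem (mem_sup_left (mem_sup_left hg)) (mem_sup_right (mem_sup_left hh))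

theorem a₁_mem : a₁ ∈ E.M := mem_sup_right (mem_sup_right (mem_zpowers _))

theorem a₂_mem : a₂ ∈ E.M := mem_sup_left (mem_sup_right (mem_zpowers _))

/-- An element of order three centralising `F₂`. -/
theorem three {c : H} (h3 : c ^ 3 = 1) (hn : ∀ g ∈ F₁, c * g * c⁻¹ ∈ F₁)
    (hc : ∀ g ∈ F₂, c * g = g * c) : c = 1 ∨ a₂⁻¹ * c ∈ Q ∨ a₂ * c ∈ Q := by
  have hTriv : ∀ b : H, (∀ g ∈ F₂, b * g = g * b) → Triv F₁ z (b * c) → b * c ∈ Q := by
    intro b hb h
    refine E.triv_mem D h ⟨D.zc _, fun g hg => Or.inl ?_⟩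
    rw [((show Commute b g from hb g hg).mul_left (hc g hg)).eq, mul_inv_cancel_right]
  by_cases hx : Eqz z (c * x₁ * c⁻¹) x₁
  · left
    by_contra h1
    have hcx : c * x₁ = x₁ * c :=
      LargeExtraspecialAct.fix_of_fix_mod D.toExt (n := 3) (by decide) h3 (D.zc c) hx
    have h9 : c ^ 9 = 1 := by rw [show 9 = 3 * 3 from rfl, pow_mul, h3, one_pow]
    have := D.eq_F h9 h1 E.card₂ fun g hg => mem_F.2 ⟨E.le₂ hg, hc g hg⟩
    have hx2 : x₁ ∈ F₂ := this ▸ mem_F.2 ⟨E.le₁ E.q₁.hx, hcx⟩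
    rcases E.inter x₁ E.q₁.hx hx2 with e | e
    · exact E.q₁.not_one.1 (Or.inl e)
    · exact E.q₁.not_one.1 (Or.inr (by rw [e, mul_one]))
  · right
    rcases E.q₁.three_case E.c₁ (D.zc c) hn h3 hx with h | h
    · exact Or.inl (hTriv _ (fun g hg => (show Commute a₂ g from E.e₂ g hg).inv_left.eq) h)
    · exact Or.inr (hTriv _ E.e₂ h)

/-- Conjugation either fixes both factors or exchanges them. -/
theorem dichotomy (h : H) :
    (F₁.map (MulAut.conj h).toMonoidHom = F₁ ∧ F₂.map (MulAut.conj h).toMonoidHom = F₂) ∨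
      (F₁.map (MulAut.conj h).toMonoidHom = F₂ ∧ F₂.map (MulAut.conj h).toMonoidHom = F₁) := by
  have hsq : ∀ P : Subgroup H, P ≤ Q → (∀ g ∈ P, g * g = 1 → g = 1 ∨ g = z) → Nat.card P = 8 →
      P = F₁ ∨ P = F₂ := by
    intro P hPQ hs h8
    have key : ∀ p ∈ P, p ∈ F₁ ∨ p ∈ F₂ := by
      intro p hp
      obtain ⟨g, hg, k, hk, rfl⟩ := E.prod p (hPQ hp)
      by_cases g1 : g = 1 ∨ g = z
      · refine Or.inr (F₂.mul_mem ?_ hk)
        rcases g1 with e | e <;> rw [e]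
        exacts [F₂.one_mem, E.q₂.mem]
      by_cases k1 : k = 1 ∨ k = z
      · refine Or.inl (F₁.mul_mem hg ?_)
        rcases k1 with e | e <;> rw [e]
        exacts [F₁.one_mem, E.q₁.mem]
      push Not at g1 k1
      have e2 : g * k * (g * k) = 1 := by
        rw [(show Commute k g from (E.comm g hg k hk).symm).mul_mul_mul_comm,
          E.q₁.sq_eq hg g1.1 g1.2, E.q₂.sq_eq hk k1.1 k1.2, D.zz]
      exfalso
      have hmem : g ∈ F₂ := by
        rcases hs _ hp e2 with e | e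
        · rw [eq_inv_of_mul_eq_one_left e]; exact inv_mem hk
        · rw [eq_mul_inv_of_mul_eq e]; exact mul_mem E.q₂.mem (inv_mem hk)
      rcases E.inter g hg hmem with e | e
      exacts [g1.1 e, g1.2 e]
    have hle : P ≤ F₁ ∨ P ≤ F₂ := by
      by_contra hc
      simp only [not_or, SetLike.not_le_iff_exists] at hc
      obtain ⟨⟨p, hp, hp1⟩, ⟨r, hr, hr2⟩⟩ := hc
      rcases key _ (P.mul_mem hp hr) with e | e
      · exact hp1 (by simpa using mul_mem e (inv_mem ((key r hr).resolve_right hr2)))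
      · exact hr2 (by simpa [← mul_assoc] using mul_mem (inv_mem ((key p hp).resolve_left hp1)) e)
    rcases hle with e | e
    · exact Or.inl (Subgroup.eq_of_le_of_card_ge e (by rw [h8, E.card₁]))
    · exact Or.inr (Subgroup.eq_of_le_of_card_ge e (by rw [h8, E.card₂]))
  have hone : ∀ P : Subgroup H, P ≤ Q → (∀ g ∈ P, g ≠ 1 → g ≠ z → g * g = z) → Nat.card P = 8 →
      P.map (MulAut.conj h).toMonoidHom = F₁ ∨ P.map (MulAut.conj h).toMonoidHom = F₂ := by
    intro P hPQ hP h8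
    refine hsq _ ?_ ?_ (by rw [Subgroup.card_map_of_injective (MulAut.conj h).injective, h8])
    · rintro _ ⟨g, hg, rfl⟩
      exact D.normal h g (hPQ hg)
    · rintro _ ⟨g, hg, rfl⟩ e
      simp only [MulEquiv.coe_toMonoidHom, MulAut.conj_apply] at e ⊢
      have e' : g * g = 1 := conj_eq_one_iff.1 (by rw [← e]; group :
        h * (g * g) * h⁻¹ = 1)
      by_cases g1 : g = 1
      · exact Or.inl (by rw [g1]; group)
      by_cases g2 : g = z
      · exact Or.inr (by rw [g2, D.zc h, mul_inv_cancel_right])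
      exact absurd ((hP g hg g1 g2).symm.trans e') D.ne_one
  have hne : F₁.map (MulAut.conj h).toMonoidHom ≠ F₂.map (MulAut.conj h).toMonoidHom := by
    intro e
    have := Subgroup.map_injective (MulAut.conj h).injective e
    rcases E.inter x₁ E.q₁.hx (this ▸ E.q₁.hx) with e' | e'
    · exact E.q₁.not_one.1 (Or.inl e')
    · exact E.q₁.not_one.1 (Or.inr (by rw [e', mul_one]))
  rcases hone F₁ E.le₁ (fun g hg a b => E.q₁.sq_eq hg a b) E.card₁ with e₁ | e₁ <;>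
    rcases hone F₂ E.le₂ (fun g hg a b => E.q₂.sq_eq hg a b) E.card₂ with e₂ | e₂
  · exact absurd (e₁.trans e₂.symm) hne
  · exact Or.inl ⟨e₁, e₂⟩
  · exact Or.inr ⟨e₁, e₂⟩
  · exact absurd (e₁.trans e₂.symm) hne

theorem conj_a₁_cent (h : H) {g : H} (hg : g ∈ F₁.map (MulAut.conj h).toMonoidHom) :
    h * a₁ * h⁻¹ * g = g * (h * a₁ * h⁻¹) := by
  obtain ⟨w, hw, rfl⟩ := hg
  simp only [MulEquiv.coe_toMonoidHom, MulAut.conj_apply]
  calc h * a₁ * h⁻¹ * (h * w * h⁻¹) = h * (a₁ * w) * h⁻¹ := by group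
    _ = h * (w * a₁) * h⁻¹ := by rw [E.e₁ w hw]
    _ = h * w * h⁻¹ * (h * a₁ * h⁻¹) := by group

/-- A conjugate of `a₁` lies in `M`; if the factors are fixed it is `a₁^±` modulo `Q`. -/
theorem conj_a₁ (h : H) : h * a₁ * h⁻¹ ∈ E.M ∧ (F₁.map (MulAut.conj h).toMonoidHom = F₁ →
    a₁⁻¹ * (h * a₁ * h⁻¹) ∈ Q ∨ a₁ * (h * a₁ * h⁻¹) ∈ Q ∨ a₁ = 1) := by
  set c := h * a₁ * h⁻¹ with hc
  have h3 : c ^ 3 = 1 := by rw [hc, conj_pow, E.c₂.a3, mul_one, mul_inv_cancel]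
  have hone : c = 1 → a₁ = 1 := fun e => conj_eq_one_iff.1 e
  have hkeep : ∀ {P R : Subgroup H}, ((P = F₁ ∧ R = F₂) ∨ (P = F₂ ∧ R = F₁)) →
      (∀ g ∈ P, c * g = g * c) → ∀ g ∈ R, c * g * c⁻¹ ∈ R := by
    intro P R hPR hP g hg
    have hfixP : P.map (MulAut.conj c).toMonoidHom = P := by
      refine le_antisymm ?_ fun w hw => ⟨w, hw, mul_inv_eq_iff_eq_mul.2 (hP w hw)⟩
      rintro _ ⟨w, hw, rfl⟩
      simp only [MulEquiv.coe_toMonoidHom, MulAut.conj_apply, hP w hw, mul_inv_cancel_right]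
      exact hw
    have hR : R.map (MulAut.conj c).toMonoidHom = R := by
      have hne : F₁ ≠ F₂ := fun e => by
        rcases E.inter x₁ E.q₁.hx (e ▸ E.q₁.hx) with e' | e'
        · exact E.q₁.not_one.1 (Or.inl e')
        · exact E.q₁.not_one.1 (Or.inr (by rw [e', mul_one]))
      rcases hPR with ⟨rfl, rfl⟩ | ⟨rfl, rfl⟩ <;> rcases E.dichotomy D c with ⟨d₁, d₂⟩ | ⟨d₁, d₂⟩
      · exact d₂
      · exact absurd (hfixP.symm.trans d₁) hne
      · exact d₁
      · exact absurd (d₂.symm.trans hfixP) hne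
    exact hR.le ⟨g, hg, rfl⟩
  rcases E.dichotomy D h with ⟨d₁, d₂⟩ | ⟨d₁, d₂⟩
  · have hP : ∀ g ∈ F₁, c * g = g * c := fun g hg => E.conj_a₁_cent D h (d₁.symm ▸ hg)
    have := E.symm.three D h3 (hkeep (Or.inl ⟨rfl, rfl⟩) hP) hP
    refine ⟨?_, fun _ => ?_⟩
    · rcases this with e | e | e
      · rw [e]; exact one_mem _
      · exact (mul_mem_cancel_left (inv_mem (E.a₁_mem D))).1 (E.Q_le_M D e)
      · exact (mul_mem_cancel_left (E.a₁_mem D)).1 (E.Q_le_M D e)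
    · rcases this with e | e | e
      exacts [Or.inr (Or.inr (hone e)), Or.inl e, Or.inr (Or.inl e)]
  · have hP : ∀ g ∈ F₂, c * g = g * c := fun g hg => E.conj_a₁_cent D h (d₁.symm ▸ hg)
    refine ⟨?_, fun e => ?_⟩
    · rcases E.three D h3 (hkeep (Or.inr ⟨rfl, rfl⟩) hP) hP with e | e | e
      · rw [e]; exact one_mem _
      · exact (mul_mem_cancel_left (inv_mem (E.a₂_mem D))).1 (E.Q_le_M D e)
      · exact (mul_mem_cancel_left (E.a₂_mem D)).1 (E.Q_le_M D e)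
    · exfalso
      have := e.symm.trans d₁
      rcases E.inter x₁ E.q₁.hx (this ▸ E.q₁.hx) with e' | e'
      · exact E.q₁.not_one.1 (Or.inl e')
      · exact E.q₁.not_one.1 (Or.inr (by rw [e', mul_one]))

theorem normal_M : E.M.Normal := by
  refine ⟨fun m hm h => ?_⟩
  suffices E.M ≤ E.M.comap (MulAut.conj h).toMonoidHom from this hm
  have hQ : ∀ {P : Subgroup H}, P ≤ Q → P ≤ E.M.comap (MulAut.conj h).toMonoidHom :=
    fun hP g hg => E.Q_le_M D (D.normal h g (hP hg))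
  have h2 : h * a₂ * h⁻¹ ∈ E.M := E.M_symm D ▸ (E.symm.conj_a₁ D h).1
  exact sup_le (sup_le (hQ E.le₁) (zpowers_le.2 h2))
    (sup_le (hQ E.le₂) (zpowers_le.2 (E.conj_a₁ D h).1))

/-- An element fixing the factors and commuting with `a₁` and `a₂` modulo `Q` lies in `M`. -/
theorem mem_M {p : H} (hp : F₁.map (MulAut.conj p).toMonoidHom = F₁)
    (h1 : p * a₁ * p⁻¹ * a₁⁻¹ ∈ Q) (h2 : p * a₂ * p⁻¹ * a₂⁻¹ ∈ Q) : p ∈ E.M := by
  have hp2 : F₂.map (MulAut.conj p).toMonoidHom = F₂ := by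
    rcases E.dichotomy D p with ⟨-, d⟩ | ⟨d, -⟩
    · exact d
    · exfalso
      have := hp.symm.trans d
      rcases E.inter x₁ E.q₁.hx (this ▸ E.q₁.hx) with e' | e'
      · exact E.q₁.not_one.1 (Or.inl e')
      · exact E.q₁.not_one.1 (Or.inr (by rw [e', mul_one]))
  have hq : ∀ {P : Subgroup H} {a : H}, P.map (MulAut.conj p).toMonoidHom = P →
      (∀ g ∈ P, a * g * a⁻¹ ∈ P) → (∀ q ∈ Q, Triv P z q) → p * a * p⁻¹ * a⁻¹ ∈ Q →
      ∀ g ∈ P, Eqz z (p * (a * g * a⁻¹) * p⁻¹) (a * (p * g * p⁻¹) * a⁻¹) := by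
    intro P a hP ha ht hqm g hg
    have := (ht _ hqm).fix _ (ha _ (hP.le ⟨g, hg, rfl⟩))
    simp only [MulEquiv.coe_toMonoidHom, MulAut.conj_apply] at this
    rwa [show p * a * p⁻¹ * a⁻¹ * (a * (p * g * p⁻¹) * a⁻¹) * (p * a * p⁻¹ * a⁻¹)⁻¹
      = p * (a * g * a⁻¹) * p⁻¹ by group] at this
  obtain ⟨i, hi⟩ := E.q₁.commuting_case E.c₁ (D.zc p) (fun g hg => hp.le ⟨g, hg, rfl⟩)
    (hq hp (fun g hg => E.q₁.a_norm E.c₁ hg) (fun q hq => E.q_triv D hq) h2)
  obtain ⟨j, hj⟩ := E.q₂.commuting_case E.c₂ (D.zc p) (fun g hg => hp2.le ⟨g, hg, rfl⟩)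
    (hq hp2 (fun g hg => E.q₂.a_norm E.c₂ hg) (fun q hq => E.symm.q_triv D hq) h1)
  have hc : Commute (a₁ ^ j) (a₂ ^ i) := (show Commute a₁ a₂ from E.acomm).pow_pow j i
  have k1 : Triv F₁ z ((a₁ ^ j)⁻¹ * ((a₂ ^ i)⁻¹ * p)) := by
    refine ⟨D.zc _, fun g hg => ?_⟩
    have := (hi.fix g hg).conj (p := (a₁ ^ j)⁻¹) (D.zc _)
    have e : (a₁ ^ j)⁻¹ * g * (a₁ ^ j)⁻¹⁻¹ = g := by
      rw [((show Commute a₁ g from E.e₁ g hg).pow_left j).inv_left.eq, mul_inv_cancel_right]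
    rw [e] at this
    rwa [show (a₁ ^ j)⁻¹ * ((a₂ ^ i)⁻¹ * p * g * ((a₂ ^ i)⁻¹ * p)⁻¹) * (a₁ ^ j)⁻¹⁻¹
      = (a₁ ^ j)⁻¹ * ((a₂ ^ i)⁻¹ * p) * g * ((a₁ ^ j)⁻¹ * ((a₂ ^ i)⁻¹ * p))⁻¹ by group] at this
  have k2 : Triv F₂ z ((a₁ ^ j)⁻¹ * ((a₂ ^ i)⁻¹ * p)) := by
    rw [← mul_assoc, hc.inv_inv.eq, mul_assoc]
    refine ⟨D.zc _, fun g hg => ?_⟩
    have := (hj.fix g hg).conj (p := (a₂ ^ i)⁻¹) (D.zc _)
    have e : (a₂ ^ i)⁻¹ * g * (a₂ ^ i)⁻¹⁻¹ = g := by
      rw [((show Commute a₂ g from E.e₂ g hg).pow_left i).inv_left.eq, mul_inv_cancel_right]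
    rw [e] at this
    rwa [show (a₂ ^ i)⁻¹ * ((a₁ ^ j)⁻¹ * p * g * ((a₁ ^ j)⁻¹ * p)⁻¹) * (a₂ ^ i)⁻¹⁻¹
      = (a₂ ^ i)⁻¹ * ((a₁ ^ j)⁻¹ * p) * g * ((a₂ ^ i)⁻¹ * ((a₁ ^ j)⁻¹ * p))⁻¹ by group] at this
  have := E.Q_le_M D (E.triv_mem D k1 k2)
  exact (mul_mem_cancel_left (inv_mem (pow_mem (E.a₂_mem D) i))).1
    ((mul_mem_cancel_left (inv_mem (pow_mem (E.a₁_mem D) j))).1 this)

theorem exists_sl : ∃ f : SL23Model77.SL →* H, Function.Injective f ∧ f.range = F₁ ⊔ zpowers a₂ := by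
  have hxi : x₁⁻¹ = z * x₁ := by
    refine inv_eq_of_mul_eq_one_right ?_
    rw [← mul_assoc, D.zc x₁, mul_assoc, E.q₁.xx, D.zz]
  obtain ⟨f, fw, fu⟩ := SL23Model77.exists_hom x₁ a₂ (D.pow_four (E.le₁ E.q₁.hx)) E.c₁.a3
    (by rw [E.c₁.ax, E.q₁.yy, E.q₁.xx]) (by rw [E.c₁.ax, E.q₁.yx, hxi])
    (by rw [E.c₁.ax]; exact E.c₁.ay)
  have fw1 : f SL23Model77.w1 = y₁ := by
    rw [SL23Model77.w1, map_mul, map_mul, map_inv, fw, fu, E.c₁.ax]
  refine ⟨f, (injective_iff_map_eq_one f).2 fun s hs => ?_, le_antisymm ?_ ?_⟩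
  · by_contra h1
    apply D.ne_one
    have key : ∀ s', f s' = 1 → s' = SL23Model77.w0 ^ 2 → z = 1 := fun s' e e' => by
      rw [e', map_pow, fw, pow_two, E.q₁.xx] at e
      exact e
    rcases SL23Model77.kernel_fact s h1 with e | e | e | e | e
    · exact key _ hs e
    all_goals refine key _ ?_ e
    all_goals simp [hs]
  · rintro _ ⟨s, rfl⟩
    obtain ⟨t, rfl⟩ := SL23Model77.enc_surjective s
    rw [SL23Model77.enc, map_mul, map_mul, map_pow, map_pow, map_pow, fw, fw1, fu]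
    exact mul_mem (mul_mem (pow_mem (mem_sup_left E.q₁.hx) _) (pow_mem (mem_sup_left E.q₁.hy) _))
      (pow_mem (mem_sup_right (mem_zpowers a₂)) _)
  · refine sup_le (fun g hg => ?_) (zpowers_le.2 ⟨_, fu⟩)
    have hx : x₁ ∈ f.range := ⟨_, fw⟩
    have hy : y₁ ∈ f.range := ⟨_, fw1⟩
    have hz : z ∈ f.range := E.q₁.xx ▸ mul_mem hx hx
    rcases E.q₁.cases g hg with e | e | e | e <;> rcases e with e | e <;> rw [e] <;>
      first
        | exact one_mem _ | exact hx | exact hy | exact mul_mem hx hy | exact mul_mem hz (one_mem _)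
        | exact mul_mem hz hx | exact mul_mem hz hy | exact mul_mem hz (mul_mem hx hy)

theorem card_M : Nat.card E.M ≤ 288 := by
  obtain ⟨f₁, hf₁, r₁⟩ := E.exists_sl D
  obtain ⟨f₂, hf₂, r₂⟩ := E.symm.exists_sl D
  have hcm : ∀ s t, Commute (f₁ s) (f₂ t) := by
    intro s t
    have h1 : F₁ ⊔ zpowers a₂ ≤ centralizer ((F₂ ⊔ zpowers a₁ : Subgroup H) : Set H) := by
      rw [Subgroup.le_centralizer_iff]
      refine sup_le (fun v hv => mem_centralizer_iff.2 fun u hu => ?_) (zpowers_le.2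
        (mem_centralizer_iff.2 fun u hu => ?_))
      · have : F₁ ⊔ zpowers a₂ ≤ centralizer ({v} : Set H) := sup_le
          (fun g hg => mem_centralizer_singleton_iff.2 (E.comm g hg v hv))
          (zpowers_le.2 (mem_centralizer_singleton_iff.2 (E.e₂ v hv)))
        exact mem_centralizer_singleton_iff.1 (this hu)
      · have : F₁ ⊔ zpowers a₂ ≤ centralizer ({a₁} : Set H) := sup_le
          (fun g hg => mem_centralizer_singleton_iff.2 (E.e₁ g hg).symm)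
          (zpowers_le.2 (mem_centralizer_singleton_iff.2 E.acomm.symm))
        exact mem_centralizer_singleton_iff.1 (this hu)
    exact (mem_centralizer_iff.1 (h1 (r₁ ▸ ⟨s, rfl⟩)) _ (r₂ ▸ ⟨t, rfl⟩)).symm
  let φ := f₁.noncommCoprod f₂ hcm
  have hr : E.M ≤ φ.range := by
    refine sup_le ?_ ?_
    · rw [← r₁]; rintro _ ⟨s, rfl⟩; exact ⟨(s, 1), by simp [φ]⟩
    · rw [← r₂]; rintro _ ⟨s, rfl⟩; exact ⟨(1, s), by simp [φ]⟩
  obtain ⟨s, hs⟩ : z ∈ f₁.range := r₁ ▸ mem_sup_left E.q₁.mem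
  obtain ⟨t, ht⟩ : z ∈ f₂.range := r₂ ▸ mem_sup_left E.q₂.mem
  have hk : 2 ≤ Nat.card φ.ker := by
    have hne : (⟨(s, t), by simp [φ, hs, ht, D.zz]⟩ : φ.ker) ≠ 1 := fun e => by
      have e' : s = 1 := congrArg Prod.fst (congrArg Subtype.val e)
      rw [e', map_one] at hs
      exact D.ne_one hs.symm
    haveI : Nontrivial φ.ker := nontrivial_of_ne _ _ hne
    exact Finite.one_lt_card
  have hcard : Nat.card (SL23Model77.SL × SL23Model77.SL) = 576 := by
    have hSL : Nat.card SL23Model77.SL = 24 := by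
      rw [← Nat.card_congr (Equiv.ofBijective _ ⟨SL23Model77.enc_injective,
        SL23Model77.enc_surjective⟩)]
      simp
    rw [Nat.card_prod, hSL]
  have hm : Nat.card φ.ker * Nat.card φ.range = 576 := by
    rw [← Subgroup.index_ker, Subgroup.card_mul_index, hcard]
  have := Subgroup.card_le_of_le hr
  nlinarith

theorem flip (h11 : a₁ ≠ 1) (h21 : a₂ ≠ 1) :
    ∃ h : H, h * a₁ * h⁻¹ * a₁ ∈ Q ∨ h * a₂ * h⁻¹ * a₂ ∈ Q := by
  by_contra hno
  push Not at hno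
  have hst : ∀ h, F₁.map (MulAut.conj h).toMonoidHom = F₁ → h ∈ E.M := by
    intro h hh
    have hh2 : F₂.map (MulAut.conj h).toMonoidHom = F₂ := by
      rcases E.dichotomy D h with ⟨-, d⟩ | ⟨d, -⟩
      · exact d
      · exfalso
        have := hh.symm.trans d
        rcases E.inter x₁ E.q₁.hx (this ▸ E.q₁.hx) with e' | e'
        · exact E.q₁.not_one.1 (Or.inl e')
        · exact E.q₁.not_one.1 (Or.inr (by rw [e', mul_one]))
    have key : ∀ {a : H}, a ≠ 1 → h * a * h⁻¹ * a ∉ Q →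
        (a⁻¹ * (h * a * h⁻¹) ∈ Q ∨ a * (h * a * h⁻¹) ∈ Q ∨ a = 1) → h * a * h⁻¹ * a⁻¹ ∈ Q := by
      intro a ha hn hor
      rcases hor with e | e | e
      · have := D.normal a _ e
        rwa [show a * (a⁻¹ * (h * a * h⁻¹)) * a⁻¹ = h * a * h⁻¹ * a⁻¹ by group] at this
      · refine absurd ?_ hn
        have := D.normal a⁻¹ _ e
        rwa [show a⁻¹ * (a * (h * a * h⁻¹)) * a⁻¹⁻¹ = h * a * h⁻¹ * a by group] at this
      · exact absurd e ha
    exact E.mem_M D hh (key h11 (hno h).1 ((E.conj_a₁ D h).2 hh))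
      (key h21 (hno h).2 ((E.symm.conj_a₁ D h).2 hh2))
  classical
  haveI : Fintype H := Fintype.ofFinite H
  obtain ⟨h₀, hh₀⟩ : ∃ h₀, ∀ h, F₁.map (MulAut.conj h).toMonoidHom ≠ F₁ → h₀⁻¹ * h ∈ E.M := by
    by_cases he : ∃ h₀, F₁.map (MulAut.conj h₀).toMonoidHom ≠ F₁
    · obtain ⟨h₀, hh₀⟩ := he
      refine ⟨h₀, fun h hh => hst _ ?_⟩
      have e1 := ((E.dichotomy D h).resolve_left fun e => hh e.1).1
      have e2 := ((E.dichotomy D h₀).resolve_left fun e => hh₀ e.1).1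
      have e3 : (F₁.map (MulAut.conj h₀).toMonoidHom).map (MulAut.conj h₀⁻¹).toMonoidHom = F₁ := by
        rw [Subgroup.map_map]
        convert Subgroup.map_id F₁ using 2
        ext g; simp [mul_assoc]
      rw [e2, ← e1, Subgroup.map_map] at e3
      convert e3 using 2
      ext g; simp [mul_assoc]
    · push Not at he
      exact ⟨1, fun h hh => absurd (he h) hh⟩
  have hsub : (Set.univ : Set H) ⊆ (E.M : Set H) ∪ (fun m => h₀ * m) '' (E.M : Set H) := by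
    intro h _
    by_cases hh : F₁.map (MulAut.conj h).toMonoidHom = F₁
    · exact Or.inl (hst h hh)
    · exact Or.inr ⟨_, hh₀ h hh, mul_inv_cancel_left _ _⟩
  have h1 := (Set.ncard_le_ncard hsub (Set.toFinite _)).trans (Set.ncard_union_le _ _)
  have h2 : ((fun m => h₀ * m) '' (E.M : Set H)).ncard ≤ (E.M : Set H).ncard :=
    Set.ncard_image_le (Set.toFinite _)
  have h3 : (E.M : Set H).ncard ≤ 288 := by
    rw [← Nat.card_coe_set_eq]; exact E.card_M D
  rw [Set.ncard_univ, D.card] at h1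
  omega

end Dec

/-- The structure of the group. -/
theorem Cent.result {Q : Subgroup H} {z : H} (D : Cent Q z) :
    ∃ H₁ H₂ : Subgroup H, H₁ ⊔ H₂ = Subgroup.closure {x : H | Odd (orderOf x)} ∧
      (H₁.subgroupOf (H₁ ⊔ H₂)).Normal ∧ (H₂.subgroupOf (H₁ ⊔ H₂)).Normal ∧
      Nonempty (H₁ ≃* SL23Model77.SL) ∧ Nonempty (H₂ ≃* SL23Model77.SL) ∧
      H₁ ⊓ H₂ = zpowers z ∧ (Cfsg.pCore 2 ↥(H₁ ⊔ H₂)).map (H₁ ⊔ H₂).subtype = Q ∧
      Cfsg.generalizedFittingSubgroup H = Q ∧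
      ∃ a x y u : H, a ^ 3 = 1 ∧ a ≠ 1 ∧ x ∈ Q ∧ y ∈ Q ∧ x * a = a * x ∧ y * a = a * y ∧
        x * x = z ∧ y * y = z ∧ y * x * y⁻¹ = x⁻¹ ∧ u * a * u⁻¹ * a ∈ Q := by
  haveI := Fact.mk Nat.prime_two
  obtain ⟨A, F₁, F₂, a₁, a₂, x₁, y₁, x₂, y₂, E, h11, h21, hA, hgen⟩ := D.exists_dec
  obtain ⟨f₁, hf₁, r₁⟩ := E.exists_sl D
  obtain ⟨f₂, hf₂, r₂⟩ := E.symm.exists_sl D
  haveI := E.normal_M D
  have hMA : A ≤ E.M := hgen _ (E.a₁_mem D) (E.a₂_mem D)
  have hodd : ∀ c : H, Odd (orderOf c) → c ∈ E.M := by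
    intro c hc
    haveI := Fact.mk Nat.prime_three
    have h9 : orderOf c ∣ 9 := by
      have hd := orderOf_dvd_natCard c
      rw [D.card, show 1152 = 2 ^ 7 * 9 from rfl] at hd
      exact (Nat.Coprime.pow_right 7 (Nat.coprime_two_right.2 hc)).dvd_of_dvd_mul_left hd
    have hp : IsPGroup 3 (zpowers c) := by
      obtain ⟨i, -, e⟩ := (Nat.dvd_prime_pow Nat.prime_three (m := 2)).1 h9
      exact IsPGroup.of_card (n := i) (by rw [Nat.card_zpowers, e])
    obtain ⟨P, hP⟩ := hp.exists_le_sylow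
    let P' : Sylow 3 H := (IsPGroup.of_card (n := 2) (by rw [hA]; norm_num)).toSylow
      (show ¬ 3 ∣ A.index by
        have := Subgroup.card_mul_index A
        rw [hA, D.card] at this
        have : A.index = 128 := by omega
        rw [this]; decide)
    obtain ⟨g, hg⟩ := MulAction.exists_smul_eq H P' P
    have : c ∈ (P : Subgroup H) := hP (mem_zpowers c)
    rw [← hg, Sylow.coe_subgroup_smul] at this
    obtain ⟨a, ha, rfl⟩ := this
    exact Subgroup.Normal.conj_mem inferInstance a (hMA ha) g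
  have hM : E.M = Subgroup.closure {x : H | Odd (orderOf x)} := by
    refine le_antisymm ?_ ((Subgroup.closure_le _).2 hodd)
    set K := Subgroup.closure {x : H | Odd (orderOf x)}
    have hKn : ∀ g : H, ∀ k ∈ K, g * k * g⁻¹ ∈ K := by
      intro g k hk
      have : K ≤ K.comap (MulAut.conj g).toMonoidHom := (Subgroup.closure_le _).2 fun c hc =>
        Subgroup.subset_closure (show Odd (orderOf (MulAut.conj g c)) by
          rw [MulEquiv.orderOf_eq]; exact hc)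
      exact this hk
    have ha : ∀ a : H, a ^ 3 = 1 → a ∈ K := fun a h => Subgroup.subset_closure
      (Odd.of_dvd_nat (by decide : Odd 3) (orderOf_dvd_of_pow_eq_one h))
    have hF : ∀ {P : Subgroup H} {x y a : H}, Quat P z x y → Cyc z x y a → P ≤ K := by
      intro P x y a q c g hg
      have h0 : ∀ w, a * w * a⁻¹ * w⁻¹ ∈ K := fun w => by
        rw [show a * w * a⁻¹ * w⁻¹ = a * (w * a⁻¹ * w⁻¹) by group]
        exact mul_mem (ha a c.a3) (hKn w _ (inv_mem (ha a c.a3)))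
      have hx : x ∈ K := by
        have := h0 y
        rwa [c.ay, mul_inv_cancel_right] at this
      have hy : y ∈ K := c.ax ▸ hKn a x hx
      have hz : z ∈ K := q.xx ▸ mul_mem hx hx
      rcases q.cases g hg with e | e | e | e <;> rcases e with e | e <;> rw [e] <;>
        first
          | exact one_mem _ | exact hx | exact hy | exact mul_mem hx hy
          | exact mul_mem hz (one_mem _)
          | exact mul_mem hz hx | exact mul_mem hz hy | exact mul_mem hz (mul_mem hx hy)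
    exact sup_le (sup_le (hF E.q₁ E.c₁) (zpowers_le.2 (ha _ E.c₁.a3)))
      (sup_le (hF E.q₂ E.c₂) (zpowers_le.2 (ha _ E.c₂.a3)))
  have hQp : IsPGroup 2 Q := D.isPGroup
  have hMdvd : 288 ∣ Nat.card E.M := by
    have e1 : 32 ∣ Nat.card E.M := D.cardQ ▸ Subgroup.card_dvd_of_le (E.Q_le_M D)
    have e2 : 9 ∣ Nat.card E.M := hA ▸ Subgroup.card_dvd_of_le hMA
    exact Nat.Coprime.mul_dvd_of_dvd_of_dvd (by norm_num : Nat.Coprime 32 9) e1 e2
  have hM288 : Nat.card E.M = 288 :=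
    le_antisymm (E.card_M D) (Nat.le_of_dvd Nat.card_pos hMdvd)
  haveI : Q.Normal := ⟨fun x hx g => D.normal g x hx⟩
  have hQM : (Cfsg.pCore 2 ↥E.M).map E.M.subtype = Q := by
    have hle : Q ≤ (Cfsg.pCore 2 ↥E.M).map E.M.subtype :=
      CharTwoLocal.le_pCore_map hQp (E.Q_le_M D) (fun g _ =>
        mem_normalizer_fintype fun x hx => D.normal g x hx)
    refine (Subgroup.eq_of_le_of_card_ge hle ?_).symm
    obtain ⟨k, hk⟩ := IsPGroup.iff_card.1 (CharTwoLocal.isPGroup_pCore_map E.M)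
    have hd : 2 ^ k ∣ 288 := by
      rw [← hk, ← hM288]
      exact Subgroup.card_dvd_of_le (Subgroup.map_subtype_le _)
    have : 2 ^ k ∣ 32 := (Nat.Coprime.pow_left k (by norm_num : Nat.Coprime 2 9)).dvd_of_dvd_mul_right
      (show 2 ^ k ∣ 32 * 9 from hd)
    rw [hk, D.cardQ]
    exact Nat.le_of_dvd (by norm_num) this
  have hOH : Cfsg.pCore 2 H = Q := by
    refine le_antisymm (fun p hp => ?_) (ComponentsCores.le_pCore' hQp)
    have hPn : ∀ g : H, ∀ x ∈ Cfsg.pCore 2 H, g * x * g⁻¹ ∈ Cfsg.pCore 2 H := fun g x hx =>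
      Subgroup.Normal.conj_mem inferInstance x hx g
    have hinter : E.M ⊓ Cfsg.pCore 2 H ≤ Q := by
      refine le_trans ?_ hQM.le
      exact CharTwoLocal.le_pCore_map ((ComponentsCores.isPGroup_pCore 2).to_le inf_le_right)
        inf_le_left fun g _ => mem_normalizer_fintype fun x hx =>
          ⟨Subgroup.Normal.conj_mem inferInstance x hx.1 g, hPn g x hx.2⟩
    have hcomm : ∀ a ∈ E.M, p * a * p⁻¹ * a⁻¹ ∈ Q := fun a ha => hinter
      ⟨E.M.mul_mem (Subgroup.Normal.conj_mem inferInstance a ha p) (E.M.inv_mem ha), by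
        rw [show p * a * p⁻¹ * a⁻¹ = p * (a * p⁻¹ * a⁻¹) by group]
        exact (Cfsg.pCore 2 H).mul_mem hp (hPn a _ ((Cfsg.pCore 2 H).inv_mem hp))⟩
    have hfix : F₁.map (MulAut.conj p).toMonoidHom = F₁ := by
      rcases E.dichotomy D p with ⟨d, -⟩ | ⟨d, -⟩
      · exact d
      · exfalso
        have hc := E.conj_a₁_cent D p (d.symm ▸ E.q₂.hx)
        set q := p * a₁ * p⁻¹ * a₁⁻¹ with hq
        have e1 : p * a₁ * p⁻¹ = q * a₁ := by rw [hq]; group
        rw [e1] at hc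
        apply E.q₂.ne_y
        have e2 : q * y₂ * q⁻¹ = x₂ := by
          rw [← E.c₂.ax, show q * (a₁ * x₂ * a₁⁻¹) * q⁻¹ = q * a₁ * x₂ * (q * a₁)⁻¹ by group, hc,
            mul_inv_cancel_right]
        have := (E.symm.q_triv D (hcomm a₁ (E.a₁_mem D))).fix y₂ E.q₂.hy
        rw [← hq, e2] at this
        exact this.symm D.zz
    exact hinter ⟨E.mem_M D hfix (hcomm _ (E.a₁_mem D)) (hcomm _ (E.a₂_mem D)), hp⟩
  have hcomm12 : F₁ ⊔ zpowers a₂ ≤ centralizer ((F₂ ⊔ zpowers a₁ : Subgroup H) : Set H) := by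
    rw [Subgroup.le_centralizer_iff]
    refine sup_le (fun v hv => mem_centralizer_iff.2 fun u hu => ?_) (zpowers_le.2
      (mem_centralizer_iff.2 fun u hu => ?_))
    · have : F₁ ⊔ zpowers a₂ ≤ centralizer ({v} : Set H) := sup_le
        (fun g hg => mem_centralizer_singleton_iff.2 (E.comm g hg v hv))
        (zpowers_le.2 (mem_centralizer_singleton_iff.2 (E.e₂ v hv)))
      exact mem_centralizer_singleton_iff.1 (this hu)
    · have : F₁ ⊔ zpowers a₂ ≤ centralizer ({a₁} : Set H) := sup_le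
        (fun g hg => mem_centralizer_singleton_iff.2 (E.e₁ g hg).symm)
        (zpowers_le.2 (mem_centralizer_singleton_iff.2 E.acomm.symm))
      exact mem_centralizer_singleton_iff.1 (this hu)
  refine ⟨F₁ ⊔ zpowers a₂, F₂ ⊔ zpowers a₁, hM, ?_, ?_,
    ⟨(MulEquiv.subgroupCongr r₁.symm).trans (MonoidHom.ofInjective hf₁).symm⟩,
    ⟨(MulEquiv.subgroupCongr r₂.symm).trans (MonoidHom.ofInjective hf₂).symm⟩, ?_, hQM, ?_, ?_⟩
  · exact (normal_subgroupOf_iff_le_normalizer le_sup_left).2 (sup_le le_normalizer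
      ((Subgroup.le_centralizer_iff.1 hcomm12).trans (centralizer_le_normalizer _)))
  · exact (normal_subgroupOf_iff_le_normalizer le_sup_right).2 (sup_le
      (hcomm12.trans (centralizer_le_normalizer _)) le_normalizer)
  · refine le_antisymm (fun g ⟨hg1, hg2⟩ => ?_)
      (zpowers_le.2 ⟨mem_sup_left E.q₁.mem, mem_sup_left E.q₂.mem⟩)
    rcases D.cent g fun x hx => by
        obtain ⟨u, hu, v, hv, rfl⟩ := E.prod x hx
        exact ((show Commute g u from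
          (mem_centralizer_iff.1 (Subgroup.le_centralizer_iff.1 hcomm12 hg2) u
            (mem_sup_left hu)).symm).mul_right
          (mem_centralizer_iff.1 (hcomm12 hg1) v (mem_sup_left hv)).symm).eq
      with e | e <;> rw [e]
    exacts [one_mem _, mem_zpowers z]
  · rw [CharTwoLocal.gen_eq_of_charTwo (show Cfsg.IsOfCharacteristicTwo H by
      intro g hg
      rw [hOH] at hg ⊢
      rcases D.cent g fun x hx => (mem_centralizer_iff.1 hg x hx).symm with e | e <;> rw [e]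
      exacts [Q.one_mem, D.mem]), hOH]
  · have hinv : ∀ {P : Subgroup H} {x y : H}, Quat P z x y → y * x * y⁻¹ = x⁻¹ := by
      intro P x y q
      rw [q.yx]
      exact (inv_eq_of_mul_eq_one_right (by rw [← mul_assoc, D.zc x, mul_assoc, q.xx, D.zz])).symm
    obtain ⟨h, hh | hh⟩ := E.flip D h11 h21
    · exact ⟨a₁, x₁, y₁, h, E.c₂.a3, h11, E.le₁ E.q₁.hx, E.le₁ E.q₁.hy,
        (E.e₁ _ E.q₁.hx).symm, (E.e₁ _ E.q₁.hy).symm, E.q₁.xx, E.q₁.yy, hinv E.q₁, hh⟩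
    · exact ⟨a₂, x₂, y₂, h, E.c₁.a3, h21, E.le₂ E.q₂.hx, E.le₂ E.q₂.hy,
        (E.e₂ _ E.q₂.hx).symm, (E.e₂ _ E.q₂.hy).symm, E.q₂.xx, E.q₂.yy, hinv E.q₂, hh⟩

end Cfsg.Agent.SuzY42Local
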