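import Mathlib
import Cfsg.Agent.Lib.OrthUnitaryTransvection

/-!
In `PSU(4,3)` an element of order three commuting with a quaternion group is the commutator of two
elements commuting with it (it comes from a transvection, which is a commutator of two Eichler
transformations with the same centre).
-/

set_option autoImplicit false
set_option linter.unusedSectionVars false

namespace Cfsg.Agent.SuzY42Model

open Cfsg Cfsg.Agent.OrthUnitaryHerm Cfsg.Agent.OrthUnitaryTransvection
open scoped Matrix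

section LinAlg

variable {K : Type*} [Field K] {V : Type*} [AddCommGroup V] [Module K V] [FiniteDimensional K V]

/-- A scalar which is the commutator of two maps on an invariant subspace is a root of unity of
that dimension. -/
theorem scalar_pow_finrank (X X' Y Y' : Module.End K V) (hX : X * X' = 1) (hY : Y * Y' = 1)
    (S : Submodule K V) (sX : ∀ v ∈ S, X v ∈ S) (sX' : ∀ v ∈ S, X' v ∈ S)
    (sY : ∀ v ∈ S, Y v ∈ S) (sY' : ∀ v ∈ S, Y' v ∈ S) (e : K)
    (he : ∀ v ∈ S, (Y * X * Y' * X') v = e • v) : e ^ Module.finrank K S = 1 := by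
  have h1 : LinearMap.det (X.restrict sX) * LinearMap.det (X'.restrict sX') = 1 := by
    rw [← LinearMap.det_comp]
    convert LinearMap.det_id (A := K) (M := S) using 2
    ext v
    exact LinearMap.congr_fun hX (v : V)
  have h2 : LinearMap.det (Y.restrict sY) * LinearMap.det (Y'.restrict sY') = 1 := by
    rw [← LinearMap.det_comp]
    convert LinearMap.det_id (A := K) (M := S) using 2
    ext v
    exact LinearMap.congr_fun hY (v : V)
  have h3 : ((Y.restrict sY).comp ((X.restrict sX).comp ((Y'.restrict sY').comp (X'.restrict sX'))))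
      = e • LinearMap.id := by
    ext v
    exact he (v : V) v.2
  have h4 := congrArg LinearMap.det h3
  rw [LinearMap.det_comp, LinearMap.det_comp, LinearMap.det_comp, LinearMap.det_smul,
    LinearMap.det_id, mul_one] at h4
  rw [← h4]
  linear_combination (LinearMap.det (Y.restrict sY) * LinearMap.det (Y'.restrict sY')) * h1 + h2

end LinAlg

variable {K : Type*} [Field K] [Fintype K]

theorem char_three (hK : Fintype.card K = 9) : (3 : K) = 0 := by
  have h : ((9 : ℕ) : K) = 0 := by rw [← hK]; exact FiniteField.cast_card_eq_zero K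
  have : (3 : K) * 3 = 0 := by rw [← h]; norm_num
  exact mul_self_eq_zero.mp this

theorem two_ne (hK : Fintype.card K = 9) : (2 : K) ≠ 0 := fun h => one_ne_zero (α := K) (by
  linear_combination char_three hK - h)

theorem isSquare_of_pow_four (hK : Fintype.card K = 9) {a : K} (ha : a ^ 4 = 1) :
    ∃ s : K, s * s = a := by
  have ha0 : a ≠ 0 := fun h => by simp [h] at ha
  have h2 : ringChar K ≠ 2 := fun h => two_ne hK (by
    have := ringChar.Nat.cast_ringChar (R := K)
    rw [h] at this; simpa using this)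
  obtain ⟨s, hs⟩ := (FiniteField.isSquare_iff h2 ha0).mpr (by rw [hK]; exact ha)
  exact ⟨s, hs.symm⟩

/-- The linear map of an element of `SU`. -/
def op : Cfsg.SU 4 K 3 →* Module.End K (Fin 4 → K) :=
  ((Matrix.toLinAlgEquiv' (R := K) (n := Fin 4)).toMonoidHom).comp
    ((slToMat 4 K).comp (Cfsg.SU 4 K 3).subtype)

theorem op_apply (g : Cfsg.SU 4 K 3) (v : Fin 4 → K) : op g v = act g v := rfl

theorem op_injective : Function.Injective (op (K := K)) := fun _ _ h =>
  su_ext fun x => LinearMap.congr_fun h x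

theorem center_scalar (hK : Fintype.card K = 9) {c : Cfsg.SU 4 K 3}
    (hc : c ∈ Subgroup.center (Cfsg.SU 4 K 3)) : ∃ l : K, l ^ 4 = 1 ∧ op c = l • 1 := by
  set M := ((c : Matrix.SpecialLinearGroup (Fin 4) K) : Matrix (Fin 4) (Fin 4) K) with hM
  have h := center_SU_scalar (q := 3) (n := 4) (by rw [hK]; norm_num) (by norm_num) hc
  have hM' : M = M 0 0 • (1 : Matrix (Fin 4) (Fin 4) K) := by
    ext i j
    rw [hM, h i j, Matrix.smul_apply, Matrix.one_apply]
    split_ifs <;> simp
  refine ⟨M 0 0, ?_, ?_⟩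
  · have hd : M.det = 1 := (c : Matrix.SpecialLinearGroup (Fin 4) K).2
    rw [hM', Matrix.det_smul, Matrix.det_one, mul_one, Fintype.card_fin] at hd
    exact hd
  · refine LinearMap.ext fun v => ?_
    show M *ᵥ v = _
    conv_lhs => rw [hM']
    rw [Matrix.smul_mulVec, Matrix.one_mulVec]
    rfl

theorem center_pow_four (hK : Fintype.card K = 9) {c : Cfsg.SU 4 K 3}
    (hc : c ∈ Subgroup.center (Cfsg.SU 4 K 3)) : c ^ 4 = 1 := by
  obtain ⟨l, hl, he⟩ := center_scalar hK hc
  apply op_injective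
  rw [map_pow, he, map_one, smul_pow, one_pow, hl, one_smul]

/-- The image in the projective group. -/
abbrev pr : Cfsg.SU 4 K 3 →* Cfsg.PSU 4 K 3 :=
  QuotientGroup.mk' (Subgroup.center (Cfsg.SU 4 K 3))

theorem exists_lift_three (hK : Fintype.card K = 9) {a : Cfsg.PSU 4 K 3} (ha : a ^ 3 = 1) :
    ∃ A : Cfsg.SU 4 K 3, pr A = a ∧ A ^ 3 = 1 := by
  obtain ⟨A₀, rfl⟩ := QuotientGroup.mk'_surjective _ a
  have hc : A₀ ^ 3 ∈ Subgroup.center (Cfsg.SU 4 K 3) := by
    rw [← QuotientGroup.eq_one_iff]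
    exact (map_pow pr A₀ 3).trans ha
  refine ⟨A₀ * A₀ ^ 3, ?_, ?_⟩
  · rw [map_mul, map_pow]
    exact (congrArg _ ha).trans (mul_one _)
  · have : Commute A₀ (A₀ ^ 3) := (Commute.refl A₀).pow_right 3
    rw [this.mul_pow, ← pow_mul, ← pow_add, show 3 + 3 * 3 = 3 * 4 from rfl, pow_mul]
    exact center_pow_four hK hc

theorem lift_commute (hK : Fintype.card K = 9) {A X : Cfsg.SU 4 K 3} (hA : A ^ 3 = 1)
    (h : Commute (pr X) (pr A)) : Commute X A := by
  set c := X * A * X⁻¹ * A⁻¹ with hc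
  have hcm : c ∈ Subgroup.center (Cfsg.SU 4 K 3) := by
    rw [← QuotientGroup.eq_one_iff]
    show pr c = 1
    rw [hc, map_mul, map_mul, map_mul, map_inv, map_inv, h.eq]
    group
  have e : X * A * X⁻¹ = c * A := by rw [hc]; group
  have h3 : c ^ 3 = 1 := by
    have : (X * A * X⁻¹) ^ 3 = (c * A) ^ 3 := by rw [e]
    rw [conj_pow, hA, mul_one, mul_inv_cancel,
      (show Commute c A from (Subgroup.mem_center_iff.1 hcm A).symm).mul_pow, hA, mul_one] at this
    exact this.symm
  have h1 : c = 1 := by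
    have h4 := center_pow_four hK hcm
    rwa [pow_succ, h3, one_mul] at h4
  rw [h1, one_mul] at e
  exact mul_inv_eq_iff_eq_mul.mp e

theorem cube_zero (hK : Fintype.card K = 9) (A : Cfsg.SU 4 K 3) (hA : A ^ 3 = 1)
    (v : Fin 4 → K) : (op A - 1) ((op A - 1) ((op A - 1) v)) = 0 := by
  have hA3 : op A * (op A * op A) = 1 := by
    rw [← map_mul, ← map_mul, show A * (A * A) = A ^ 3 by simp [pow_succ, mul_assoc], hA, map_one]
  have h3 : op A (op A (op A v)) = v := LinearMap.congr_fun hA3 v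
  simp only [LinearMap.sub_apply, Module.End.one_apply, map_sub]
  rw [h3]
  have h30 : (3 : K) • (op A v - op A (op A v)) = 0 := by rw [char_three hK, zero_smul]
  rw [← h30]
  module

/-- The map behind an element of order three commuting with a quaternion group has a fixed space
of codimension one. -/
theorem finrank_range (hK : Fintype.card K = 9) (A X Y : Cfsg.SU 4 K 3) (hA : A ^ 3 = 1)
    (hXA : Commute X A) (hYA : Commute Y A)
    (hsq : pr X * pr X = pr Y * pr Y) (hinv : pr Y * pr X * (pr Y)⁻¹ = (pr X)⁻¹)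
    (hne : pr X * pr X ≠ 1) :
    Module.finrank K (LinearMap.range (op A - 1)) ≤ 1 := by
  have hpr : ∀ {g : Cfsg.SU 4 K 3}, pr g = 1 → g ∈ Subgroup.center (Cfsg.SU 4 K 3) := fun h =>
    (QuotientGroup.eq_one_iff _).1 h
  set Z := X * X with hZ
  have hx4 : pr X * pr X * (pr X * pr X) = 1 := by
    have e1 : pr Y * (pr X * pr X) * (pr Y)⁻¹ = (pr X * pr X)⁻¹ := by
      rw [mul_inv_rev, ← hinv]; group
    have e2 : pr Y * (pr X * pr X) * (pr Y)⁻¹ = pr X * pr X := by rw [hsq]; group
    rw [e2] at e1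
    exact mul_eq_one_iff_eq_inv.2 e1
  obtain ⟨l, hl, hlz⟩ := center_scalar hK (c := Z * Z) (hpr (by rw [map_mul, hZ, map_mul, hx4]))
  obtain ⟨s, hs⟩ := isSquare_of_pow_four hK hl
  have hs0 : s ≠ 0 := fun h => by rw [h, mul_zero] at hs; rw [← hs] at hl; simp at hl
  set z := op Z with hz
  have hzz : ∀ v, z (z v) = (s * s) • v := fun v => by
    rw [← Module.End.mul_apply, hz, ← map_mul, hlz, hs]; rfl
  have hcomm : ∀ W : Cfsg.SU 4 K 3, Commute W Z → ∀ v, z (op W v) = op W (z v) := fun W hW v => by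
    rw [hz, ← Module.End.mul_apply, ← Module.End.mul_apply, ← map_mul, ← map_mul, hW.eq]
  obtain ⟨l₁, hl₁, hd⟩ := center_scalar hK (c := Y * X * Y⁻¹ * X) (hpr (by
    rw [map_mul, map_mul, map_mul, map_inv, hinv, inv_mul_cancel]))
  have hXZ : Commute X Z := (Commute.refl X).mul_right (Commute.refl X)
  obtain ⟨c₂, hc₂m, hc₂⟩ : ∃ c₂ ∈ Subgroup.center (Cfsg.SU 4 K 3), Z = c₂ * (Y * Y) :=
    ⟨Z * (Y * Y)⁻¹, hpr (by rw [map_mul, map_inv, hZ, map_mul, map_mul, hsq, mul_inv_cancel]),
      by group⟩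
  have hYZ : Commute Y Z := hc₂ ▸ Commute.mul_right (Subgroup.mem_center_iff.1 hc₂m Y)
    ((Commute.refl Y).mul_right (Commute.refl Y))
  have hAZ : Commute A Z := hXA.symm.mul_right hXA.symm
  -- the commutator of `X` and `Y` on an eigenspace of `Z`
  have hDe : ∀ t : K, t ≠ 0 → ∀ v, z v = t • v →
      op (Y * X * Y⁻¹ * X⁻¹) v = (l₁ * t⁻¹) • v := by
    intro t ht v hv
    have e : Y * X * Y⁻¹ * X⁻¹ = Y * X * Y⁻¹ * X * Z⁻¹ := by rw [hZ]; group
    have hzi : op Z⁻¹ v = t⁻¹ • v := by
      have h1 : op Z⁻¹ (z v) = v := by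
        rw [hz, ← Module.End.mul_apply, ← map_mul, inv_mul_cancel, map_one]; rfl
      rw [hv, map_smul] at h1
      exact (eq_inv_smul_iff₀ ht).2 h1
    rw [e, map_mul, Module.End.mul_apply, hzi, map_smul, hd]
    show t⁻¹ • (l₁ • v) = _
    rw [smul_smul, mul_comm]
  let E : K → Submodule K (Fin 4 → K) := fun t => LinearMap.ker (z - t • 1)
  have hE : ∀ t v, v ∈ E t ↔ z v = t • v := fun t v => by
    simp [E, sub_eq_zero]
  have hinvE : ∀ t (W : Cfsg.SU 4 K 3), Commute W Z → ∀ v ∈ E t, op W v ∈ E t := by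
    intro t W hW v hv
    rw [hE] at hv ⊢
    rw [hcomm W hW, hv, map_smul]
  -- key: dimensions one and three force the scalar one
  have key : ∀ t : K, t ≠ 0 → ∀ S : Submodule K (Fin 4 → K), S ≤ E t →
      (∀ W : Cfsg.SU 4 K 3, Commute W A → Commute W Z → ∀ v ∈ S, op W v ∈ S) →
      (Module.finrank K S = 1 ∨ Module.finrank K S = 3) → t = l₁ := by
    intro t ht S hS hSi hdim
    have hmul : ∀ W : Cfsg.SU 4 K 3, op W * op W⁻¹ = 1 := fun W => by
      rw [← map_mul, mul_inv_cancel, map_one]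
    have := scalar_pow_finrank (op X) (op X⁻¹) (op Y) (op Y⁻¹) (hmul X) (hmul Y) S
      (hSi X hXA hXZ) (hSi X⁻¹ hXA.inv_left hXZ.inv_left) (hSi Y hYA hYZ)
      (hSi Y⁻¹ hYA.inv_left hYZ.inv_left) (l₁ * t⁻¹) (fun v hv => by
        rw [← map_mul, ← map_mul, ← map_mul]
        exact hDe t ht v ((hE t v).1 (hS hv)))
    have h1 : l₁ * t⁻¹ = 1 := by
      rcases hdim with h | h <;> rw [h] at this
      · simpa using this
      · have h3 : (l₁ * t⁻¹ - 1) ^ 3 = 0 := by
          linear_combination this - ((l₁ * t⁻¹) * (l₁ * t⁻¹ - 1)) * char_three hK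
        exact sub_eq_zero.1 (pow_eq_zero_iff (by norm_num) |>.1 h3)
    have := congrArg (· * t) h1
    simp only [one_mul] at this
    rw [mul_assoc, inv_mul_cancel₀ ht, mul_one] at this
    exact this.symm
  set N := op A - 1 with hN
  have hN3 : ∀ v, N (N (N v)) = 0 := fun v => cube_zero hK A hA v
  have hNinv : ∀ W : Cfsg.SU 4 K 3, Commute W A → ∀ v, N (op W v) = op W (N v) := fun W hW v => by
    simp only [hN, LinearMap.sub_apply, Module.End.one_apply, map_sub]
    rw [← Module.End.mul_apply, ← map_mul, ← hW.eq, map_mul, Module.End.mul_apply]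
  have hsum : E s ⊔ E (-s) = ⊤ := by
    rw [eq_top_iff]
    intro v _
    rw [Submodule.mem_sup]
    refine ⟨(2 : K)⁻¹ • (v + s⁻¹ • z v), ?_, (2 : K)⁻¹ • (v - s⁻¹ • z v), ?_, ?_⟩
    · rw [hE, map_smul, map_add, map_smul, hzz, smul_smul, inv_mul_cancel_left₀ hs0]
      match_scalars <;> field_simp
    · rw [hE, map_smul, map_sub, map_smul, hzz, smul_smul, inv_mul_cancel_left₀ hs0]
      match_scalars <;> field_simp
    · rw [← smul_add, show v + s⁻¹ • z v + (v - s⁻¹ • z v) = (2 : K) • v by module, smul_smul,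
        inv_mul_cancel₀ (two_ne hK), one_smul]
  have hns : -s ≠ s := fun h => hs0 (by
    have : (2 : K) * s = 0 := by linear_combination -h
    exact (mul_eq_zero.1 this).resolve_left (two_ne hK))
  have hdis : E s ⊓ E (-s) = ⊥ := by
    rw [Submodule.eq_bot_iff]
    rintro v ⟨h1, h2⟩
    rw [SetLike.mem_coe, hE] at h1 h2
    have : ((-s) - s) • v = 0 := by rw [sub_smul, ← h1, ← h2, sub_self]
    exact (smul_eq_zero.1 this).resolve_left (sub_ne_zero.2 hns)
  have hrank : Module.finrank K (E s) + Module.finrank K (E (-s)) = 4 := by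
    have := Submodule.finrank_sup_add_finrank_inf_eq (E s) (E (-s))
    rw [hsum, hdis, finrank_bot, finrank_top, Module.finrank_fintype_fun_eq_card,
      Fintype.card_fin] at this
    omega
  have hnotop : ∀ t : K, E t ≠ ⊤ := by
    intro t ht
    apply hne
    rw [← map_mul, ← hZ]
    refine (QuotientGroup.eq_one_iff Z).2 (Subgroup.mem_center_iff.2 fun W => op_injective ?_)
    refine LinearMap.ext fun v => ?_
    have hv : ∀ v, z v = t • v := fun v => (hE t v).1 (ht ▸ Submodule.mem_top)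
    rw [map_mul op W Z, map_mul op Z W, Module.End.mul_apply, Module.End.mul_apply, ← hz, hv, hv,
      map_smul]
  have hne0 : ∀ t : K, (t = s ∨ t = -s) → Module.finrank K (E t) ≠ 0 := by
    intro t ht h0
    rw [Submodule.finrank_eq_zero] at h0
    rcases ht with rfl | rfl
    · rw [h0, bot_sup_eq] at hsum; exact hnotop _ hsum
    · rw [h0, sup_bot_eq] at hsum; exact hnotop _ hsum
  -- on an eigenspace where `N` does not vanish the scalar is one
  have hone : ∀ t : K, t ≠ 0 → Module.finrank K (E t) = 2 → (∃ v ∈ E t, N v ≠ 0) →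
      t = l₁ ∧ 1 ≤ Module.finrank K (E t ⊓ LinearMap.ker N : Submodule K (Fin 4 → K)) := by
    intro t ht h2 ⟨v, hv, hNv⟩
    set S : Submodule K (Fin 4 → K) := E t ⊓ LinearMap.ker N
    have hlt : S < E t := lt_of_le_of_ne inf_le_left fun h => hNv (LinearMap.mem_ker.1
      ((show v ∈ S from h ▸ hv).2))
    have hS0 : S ≠ ⊥ := by
      have hN1 : N v ∈ E t := by
        simp only [hN, LinearMap.sub_apply, Module.End.one_apply]
        exact sub_mem (hinvE t A hAZ v hv) hv
      have hN2 : N (N v) ∈ E t := by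
        simp only [hN, LinearMap.sub_apply, Module.End.one_apply]
        exact sub_mem (hinvE t A hAZ _ hN1) hN1
      intro hS
      by_cases h : N (N v) = 0
      · exact hNv ((Submodule.eq_bot_iff _).1 hS _ ⟨hN1, h⟩)
      · exact h ((Submodule.eq_bot_iff _).1 hS _ ⟨hN2, hN3 v⟩)
    have h1 : Module.finrank K S = 1 := by
      have := Submodule.finrank_lt_finrank_of_lt hlt
      have h0 : Module.finrank K S ≠ 0 := fun h => hS0 (Submodule.finrank_eq_zero.1 h)
      omega
    refine ⟨key t ht S inf_le_left (fun W hWA hWZ w hw => ⟨hinvE t W hWZ w hw.1, ?_⟩) (Or.inl h1),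
      h1.ge⟩
    rw [SetLike.mem_coe, LinearMap.mem_ker, hNinv W hWA, LinearMap.mem_ker.1 hw.2, map_zero]
  have hkey' : ∀ t : K, t ≠ 0 → (Module.finrank K (E t) = 1 ∨ Module.finrank K (E t) = 3) →
      t = l₁ := fun t ht h => key t ht (E t) le_rfl (fun W _ hW => hinvE t W hW) h
  have h22 : Module.finrank K (E s) = 2 := by
    have a := hne0 s (Or.inl rfl)
    have b := hne0 (-s) (Or.inr rfl)
    by_contra hc
    exact hns ((hkey' (-s) (neg_ne_zero.2 hs0) (by omega)).trans
      (hkey' s hs0 (by omega)).symm)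
  have h22' : Module.finrank K (E (-s)) = 2 := by omega
  -- `N` vanishes on one eigenspace and has a kernel on the other one
  obtain ⟨t, t', ht', hEt, hNt, hEt', hdist⟩ : ∃ t t' : K, t' ≠ 0 ∧ Module.finrank K (E t) = 2 ∧
      (∀ v ∈ E t, N v = 0) ∧ Module.finrank K (E t') = 2 ∧ E t ⊓ E t' = ⊥ := by
    by_cases h : ∀ v ∈ E s, N v = 0
    · exact ⟨s, -s, neg_ne_zero.2 hs0, h22, h, h22', hdis⟩
    · refine ⟨-s, s, hs0, h22', fun v hv => ?_, h22, by rw [inf_comm]; exact hdis⟩
      by_contra hv'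
      push Not at h
      exact hns ((hone (-s) (neg_ne_zero.2 hs0) h22' ⟨v, hv, hv'⟩).1.trans
        (hone s hs0 h22 h).1.symm)
  have h3 : 3 ≤ Module.finrank K (LinearMap.ker N) := by
    have hle : E t ≤ LinearMap.ker N := fun v hv => LinearMap.mem_ker.2 (hNt v hv)
    have h1 : 1 ≤ Module.finrank K (E t' ⊓ LinearMap.ker N : Submodule K (Fin 4 → K)) := by
      by_cases h : ∀ v ∈ E t', N v = 0
      · rw [inf_eq_left.2 fun v hv => LinearMap.mem_ker.2 (h v hv), hEt']; norm_num
      · push Not at h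
        exact (hone t' ht' hEt' h).2
    have hd : E t ⊓ (E t' ⊓ LinearMap.ker N) = ⊥ := by
      rw [← inf_assoc, hdist, bot_inf_eq]
    have := Submodule.finrank_sup_add_finrank_inf_eq (E t) (E t' ⊓ LinearMap.ker N)
    rw [hd, finrank_bot] at this
    have := Submodule.finrank_mono (s := E t ⊔ (E t' ⊓ LinearMap.ker N)) (t := LinearMap.ker N)
      (sup_le hle inf_le_right)
    omega
  have := LinearMap.finrank_range_add_finrank_ker N
  rw [Module.finrank_fintype_fun_eq_card, Fintype.card_fin] at this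
  omega

/-- A map of rank one and order three in `SU` is a transvection with isotropic centre. -/
theorem exists_tv (hK : Fintype.card K = 9) (A : Cfsg.SU 4 K 3) (hA : A ^ 3 = 1) (hA1 : A ≠ 1)
    (hr : Module.finrank K (LinearMap.range (op A - 1)) ≤ 1) :
    ∃ (v : Fin 4 → K) (c : K) (hv : hermForm 4 K 3 v v = 0) (hc : c + c ^ 3 = 0),
      v ≠ 0 ∧ A = tv (by rw [hK]; norm_num) v c hv hc := by
  classical
  have hF : Fintype.card K = 3 ^ 2 := by rw [hK]; norm_num
  set N := op A - 1 with hN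
  obtain ⟨x₀, hx₀⟩ : ∃ x, N x ≠ 0 := by
    by_contra hcon
    push Not at hcon
    exact hA1 (op_injective (by rw [map_one]; exact sub_eq_zero.1 (LinearMap.ext hcon)))
  set v := N x₀ with hv
  have hspan : ∀ x, ∃ d : K, N x = d • v := by
    intro x
    have hle : (K ∙ v) ≤ LinearMap.range N :=
      Submodule.span_le.2 (Set.singleton_subset_iff.2 ⟨x₀, rfl⟩)
    have heq : (K ∙ v) = LinearMap.range N := Submodule.eq_of_le_of_finrank_le hle (by
      rw [finrank_span_singleton hx₀]; exact hr)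
    obtain ⟨d, hd⟩ := Submodule.mem_span_singleton.1 (heq ▸ LinearMap.mem_range_self N x)
    exact ⟨d, hd.symm⟩
  choose φ hφ using hspan
  have hact : ∀ x, act A x = x + φ x • v := by
    intro x
    have := hφ x
    rw [hN, LinearMap.sub_apply, Module.End.one_apply, op_apply] at this
    rw [← this]; abel
  have hrel : ∀ x y, φ x * hermForm 4 K 3 v y + φ y ^ 3 * hermForm 4 K 3 x v
      + φ x * φ y ^ 3 * hermForm 4 K 3 v v = 0 := by
    intro x y
    have := herm_act A x y
    rw [hact, hact] at this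
    simp only [herm_add_left, herm_add_right hF, herm_smul_left, herm_smul_right] at this
    linear_combination this
  have hφ1 : φ x₀ = 1 := by
    have h : (φ x₀ - 1) • v = 0 := by rw [sub_smul, one_smul, ← hφ x₀, hv, sub_self]
    exact sub_eq_zero.1 ((smul_eq_zero.1 h).resolve_right hx₀)
  have hφv : φ v = 0 := by
    have h3 : N (N (N x₀)) = 0 := cube_zero hK A hA x₀
    rw [← hv, hφ v, map_smul, hφ v, smul_smul] at h3
    exact mul_self_eq_zero.1 ((smul_eq_zero.1 h3).resolve_right hx₀)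
  have hvv : hermForm 4 K 3 v v = 0 := by
    have := hrel v x₀
    rw [hφv, hφ1] at this
    linear_combination this
  obtain ⟨y₀, hy₀⟩ := exists_herm_eq hF hx₀ 1
  have hy₀' : hermForm 4 K 3 v y₀ = 1 := by rw [herm_conj hF, hy₀, one_pow]
  have hc : φ y₀ + φ y₀ ^ 3 = 0 := by
    have := hrel y₀ y₀
    rw [hy₀, hy₀', hvv] at this
    linear_combination this
  refine ⟨v, φ y₀, hvv, hc, hx₀, su_ext fun x => ?_⟩
  rw [hact, tv_act]
  congr 2
  have := hrel x y₀
  rw [hy₀', hvv] at this
  linear_combination this - hermForm 4 K 3 x v * hc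

theorem tv_comm_eich (hF : Fintype.card K = 3 ^ 2) {v w : Fin 4 → K} {c μ : K}
    (hv : hermForm 4 K 3 v v = 0) (hc : c + c ^ 3 = 0) (hw : hermForm 4 K 3 w v = 0)
    (hμ : μ + μ ^ 3 + hermForm 4 K 3 w w = 0) :
    Commute (eich hF v w μ hv hw hμ) (tv hF v c hv hc) := by
  refine su_ext fun x => ?_
  have h : hermForm 4 K 3 (act (eich hF v w μ hv hw hμ) x) v = hermForm 4 K 3 x v := by
    conv_lhs => arg 5; rw [← eich_self hF v w μ hv hw hμ]
    exact herm_act _ _ _
  rw [act_mul, act_mul, tv_act, tv_act, h, act_add, act_smul, eich_self]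

/-- In `PSU(4,3)` an element of order three commuting with a quaternion group is the commutator of
two elements commuting with it. -/
theorem exists_commutator (hK : Fintype.card K = 9) {a x y : Cfsg.PSU 4 K 3} (ha : a ^ 3 = 1)
    (ha1 : a ≠ 1) (hxa : Commute x a) (hya : Commute y a) (hsq : x * x = y * y)
    (hinv : y * x * y⁻¹ = x⁻¹) (hne : x * x ≠ 1) :
    ∃ u w : Cfsg.PSU 4 K 3, Commute u a ∧ Commute w a ∧ u * w * u⁻¹ * w⁻¹ = a := by
  have hF : Fintype.card K = 3 ^ 2 := by rw [hK]; norm_num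
  obtain ⟨A, rfl, hA⟩ := exists_lift_three hK ha
  obtain ⟨X, rfl⟩ := QuotientGroup.mk'_surjective _ x
  obtain ⟨Y, rfl⟩ := QuotientGroup.mk'_surjective _ y
  have hA1 : A ≠ 1 := fun h => ha1 (by rw [h, map_one])
  have hr := finrank_range hK A X Y hA (lift_commute hK hA hxa) (lift_commute hK hA hya)
    hsq hinv hne
  obtain ⟨v, c, hv, hc, hv0, rfl⟩ := exists_tv hK A hA hA1 hr
  obtain ⟨f, hff, hfe, hef⟩ := exists_hyp hF hv0 hv
  obtain ⟨k, hkv, -, hkk⟩ := exists_perp2 hF (by norm_num) hv hff hef hfe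
    (r := (1 : K)) (one_pow 3)
  have hk' : hermForm 4 K 3 (c • k) v = 0 := by rw [herm_smul_left, hkv, mul_zero]
  obtain ⟨μ, hμ⟩ := exists_mu hF k
  obtain ⟨μ', hμ'⟩ := exists_mu hF (c • k)
  refine ⟨pr (eich hF v k μ hv hkv hμ), pr (eich hF v (c • k) μ' hv hk' hμ'),
    (tv_comm_eich hF hv hc hkv hμ).map pr, (tv_comm_eich hF hv hc hk' hμ').map pr, ?_⟩
  have h0 : hermForm 4 K 3 (0 : Fin 4 → K) v = 0 := herm_zero_left v
  have h0' : c + c ^ 3 + hermForm 4 K 3 (0 : Fin 4 → K) (0 : Fin 4 → K) = 0 := by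
    rw [herm_zero_left, add_zero, hc]
  have key : eich hF v k μ hv hkv hμ * eich hF v (c • k) μ' hv hk' hμ' = tv hF v c hv hc *
      (eich hF v (c • k) μ' hv hk' hμ' * eich hF v k μ hv hkv hμ) := by
    rw [← eich_eq_tv hF hv h0 h0', eich_mul, eich_mul, eich_mul]
    refine eich_congr hF _ _ _ _ _ (by rw [zero_add, add_comm]) ?_
    rw [herm_zero_right hF, herm_smul_left, herm_smul_right, hkk]
    linear_combination hc - c * char_three hK
  rw [← map_inv, ← map_inv, ← map_mul, ← map_mul, ← map_mul]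
  congr 1
  rw [key]
  group

end Cfsg.Agent.SuzY42Model
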