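import Mathlib
import Cfsg.Agent.Lib.SuzTypeClasses62
import Cfsg.Agent.Lib.SuzY42Local

/-!
In a group of Suzuki sporadic type: the centraliser of an element `y` of order three in `C(z)` whose
commutator with `Q` is a quaternion group of order eight.
-/

set_option autoImplicit false
set_option linter.unusedSectionVars false

namespace Cfsg.Agent.SuzY42Setup

open Subgroup Cfsg.Agent.LargeExtraspecial Cfsg.Agent.SuzTypeCoord62 Cfsg.Agent.SuzY42Quat
open scoped commutatorElement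

variable {G : Type*} [Group G] [Finite G]

/-- The hypotheses on `y`. -/
structure Yd (Q : Subgroup G) (z y : G) : Prop where
  H : Hyp Q z
  fus : ∃ g : G, g * z * g⁻¹ ∈ Q ∧ g * z * g⁻¹ ≠ z
  y3 : y ^ 3 = 1
  y1 : y ≠ 1
  yz : y * z = z * y
  cardW : Nat.card ↥⁅Q, zpowers y⁆ = 8
  nab : ∃ a ∈ ⁅Q, zpowers y⁆, ∃ b ∈ ⁅Q, zpowers y⁆, a * b ≠ b * a

/-- In a group whose order is not divisible by nine two elements of order three are conjugate up
to inversion. -/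
theorem conj_three {S : Type*} [Group S] [Finite S] (h9 : ¬ 9 ∣ Nat.card S) {c c' : S}
    (hc : c ^ 3 = 1) (hc1 : c ≠ 1) (hc' : c' ^ 3 = 1) (hc'1 : c' ≠ 1) :
    ∃ s : S, s * c * s⁻¹ = c' ∨ s * c * s⁻¹ = c'⁻¹ := by
  haveI := Fact.mk Nat.prime_three
  have ho : ∀ {d : S}, d ^ 3 = 1 → d ≠ 1 → orderOf d = 3 := fun h h' => orderOf_eq_prime h h'
  have syl : ∀ {d : S}, d ^ 3 = 1 → d ≠ 1 →
      IsPGroup 3 (zpowers d) ∧ ¬ 3 ∣ (zpowers d).index := by
    intro d h h'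
    refine ⟨IsPGroup.of_card (n := 1) (by rw [Nat.card_zpowers, ho h h', pow_one]), fun hd => h9 ?_⟩
    have := Subgroup.card_mul_index (zpowers d)
    rw [Nat.card_zpowers, ho h h'] at this
    rw [← this, show 9 = 3 * 3 from rfl]
    exact Nat.mul_dvd_mul_left 3 hd
  obtain ⟨g, hg⟩ := MulAction.exists_smul_eq S ((syl hc hc1).1.toSylow (syl hc hc1).2)
    ((syl hc' hc'1).1.toSylow (syl hc' hc'1).2)
  have hm : g * c * g⁻¹ ∈ zpowers c' := by
    have : g * c * g⁻¹ ∈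
        ((g • (syl hc hc1).1.toSylow (syl hc hc1).2 : Sylow 3 S) : Subgroup S) := by
      rw [Sylow.coe_subgroup_smul]
      exact ⟨c, mem_zpowers c, rfl⟩
    rwa [hg] at this
  refine ⟨g, ?_⟩
  obtain ⟨k, hk⟩ := mem_zpowers_iff.1 hm
  have hne : g * c * g⁻¹ ≠ 1 := fun e => hc1 (conj_eq_one_iff.1 e)
  rw [← hk, ← zpow_mod_orderOf, ho hc' hc'1] at hne ⊢
  rcases (by omega : k % (3 : ℕ) = 0 ∨ k % (3 : ℕ) = 1 ∨ k % (3 : ℕ) = 2) with e | e | e <;>
    rw [e] at hne ⊢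
  · exact absurd (zpow_zero c') hne
  · exact Or.inl (zpow_one c')
  · refine Or.inr (eq_inv_of_mul_eq_one_left ?_)
    rw [show (2 : ℤ) = ((2 : ℕ) : ℤ) from rfl, zpow_natCast, ← pow_succ, hc']

theorem conj_three_sub {S : Subgroup G} (h9 : ¬ 9 ∣ Nat.card S) {c c' : G} (hcS : c ∈ S)
    (hc'S : c' ∈ S) (hc : c ^ 3 = 1) (hc1 : c ≠ 1) (hc' : c' ^ 3 = 1) (hc'1 : c' ≠ 1) :
    ∃ s ∈ S, s * c * s⁻¹ = c' ∨ s * c * s⁻¹ = c'⁻¹ := by
  obtain ⟨s, hs⟩ := conj_three h9 (c := (⟨c, hcS⟩ : S)) (c' := ⟨c', hc'S⟩) (Subtype.ext hc)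
    (fun e => hc1 (congrArg Subtype.val e)) (Subtype.ext hc') (fun e => hc'1 (congrArg Subtype.val e))
  exact ⟨s, s.2, hs.imp (congrArg Subtype.val) (congrArg Subtype.val)⟩

theorem perm_inverter : ∀ σ : Equiv.Perm (Fin 5), σ ^ 3 = 1 → σ ≠ 1 →
    ∃ τ : Equiv.Perm (Fin 5), Equiv.Perm.sign τ = 1 ∧ τ * σ * τ⁻¹ = σ⁻¹ := by decide +kernel

theorem perm_cent : ∀ σ : Equiv.Perm (Fin 5), σ ^ 3 = 1 → σ ≠ 1 → ∀ τ : Equiv.Perm (Fin 5),
    Equiv.Perm.sign τ = 1 → τ * σ = σ * τ → τ = 1 ∨ τ = σ ∨ τ = σ * σ := by decide +kernel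

namespace Yd

variable {Q : Subgroup G} {z y : G} (Y : Yd Q z y)
include Y

theorem nine : ∀ {t : G}, Sing Q z t → ¬ 9 ∣ Nat.card (Sx z t) := fun ht => Y.H.not_nine_dvd ht

theorem act (b : G) (hb : b ∈ zpowers y) (x : G) (hx : x ∈ Q) : b * x * b⁻¹ ∈ Q := by
  obtain ⟨k, rfl⟩ := hb
  exact Y.H.h.norm _ ((show Commute y z from Y.yz).zpow_left k).eq x hx

theorem odd_y : Odd (Nat.card (zpowers y)) := by
  rw [Nat.card_zpowers, orderOf_eq_prime Y.y3 Y.y1]; decide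

theorem ext_Q₀ : Ext (Q ⊓ centralizer (zpowers y : Set G)) z :=
  LargeExtraspecialAct.ext_centralizer Y.H.h.toExt Y.act Y.odd_y

theorem mem_Q₀ {g : G} : g ∈ Q ⊓ centralizer (zpowers y : Set G) ↔ g ∈ Q ∧ y * g = g * y :=
  SuzY42Local.mem_F

theorem W_le : ⁅Q, zpowers y⁆ ≤ Q := LargeExtraspecialAct.commutator_le Y.H.h.toExt Y.act

theorem comm_W {c w : G} (hc : c ∈ Q ⊓ centralizer (zpowers y : Set G))
    (hw : w ∈ ⁅Q, zpowers y⁆) : c * w = w * c :=
  LargeExtraspecialAct.commute_commutator Y.H.h.toExt Y.act hc hw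

theorem z_mem_W : z ∈ ⁅Q, zpowers y⁆ := by
  obtain ⟨a, ha, b, hb, hab⟩ := Y.nab
  rcases Y.H.h.conj a (Y.W_le ha) b (Y.W_le hb) with e | e
  · exact absurd (mul_inv_eq_iff_eq_mul.1 e) hab
  · have h := mul_mem (mul_mem (mul_mem ha hb) (inv_mem ha)) (inv_mem hb)
    rwa [e, mul_inv_cancel_right] at h

theorem ext_W : Ext ⁅Q, zpowers y⁆ z :=
  LargeExtraspecialAct.ext_commutator Y.H.h.toExt Y.act Y.odd_y Y.z_mem_W

theorem inter {x : G} (h₀ : x ∈ Q ⊓ centralizer (zpowers y : Set G))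
    (hW : x ∈ ⁅Q, zpowers y⁆) : x = 1 ∨ x = z :=
  Y.ext_W.central hW fun _ hw => (Y.comm_W h₀ hw).symm

theorem y_W {w : G} (hw : w ∈ ⁅Q, zpowers y⁆) {l : G} (hlz : l * z = z * l)
    (hly : l * y = y * l) : l * w * l⁻¹ ∈ ⁅Q, zpowers y⁆ := by
  have : ⁅Q, zpowers y⁆ ≤ (⁅Q, zpowers y⁆).comap (MulAut.conj l).toMonoidHom := by
    rw [Subgroup.commutator_le]
    rintro x hx _ ⟨k, rfl⟩
    show l * ⁅x, y ^ k⁆ * l⁻¹ ∈ ⁅Q, zpowers y⁆
    have hk : l * y ^ k * l⁻¹ = y ^ k := by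
      rw [((show Commute l y from hly).zpow_right k).eq, mul_inv_cancel_right]
    have : l * ⁅x, y ^ k⁆ * l⁻¹ = ⁅l * x * l⁻¹, y ^ k⁆ := by
      conv_rhs => rw [← hk]
      simp only [commutatorElement_def]; group
    rw [this]
    exact commutator_mem_commutator (Y.H.h.norm l hlz x hx) (zpow_mem (mem_zpowers y) k)
  exact this hw

theorem exists_quat_W : ∃ xw yw, Quat ⁅Q, zpowers y⁆ z xw yw ∧ Cyc z xw yw y :=
  exists_quat Y.ext_W Y.cardW Y.yz Y.y3 (fun _ hw => Y.y_W hw Y.yz rfl)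
    fun _ hw hc => Y.inter (Y.mem_Q₀.2 ⟨Y.W_le hw, hc⟩) hw

/-- The decomposition map. -/
theorem fibre {c c' w w' : G} (hc : c ∈ Q ⊓ centralizer (zpowers y : Set G))
    (hc' : c' ∈ Q ⊓ centralizer (zpowers y : Set G)) (hw : w ∈ ⁅Q, zpowers y⁆)
    (hw' : w' ∈ ⁅Q, zpowers y⁆) (e : c * w = c' * w') :
    (c = c' ∧ w = w') ∨ (c = z * c' ∧ w = z * w') := by
  have h1 : c'⁻¹ * c = w' * w⁻¹ := by
    rw [inv_mul_eq_iff_eq_mul, ← mul_assoc, ← e, mul_inv_cancel_right]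
  rcases Y.inter (mul_mem (inv_mem hc') hc) (h1 ▸ mul_mem hw' (inv_mem hw)) with d | d
  · refine Or.inl ⟨(inv_mul_eq_one.1 d).symm, ?_⟩
    rw [h1] at d
    exact (mul_inv_eq_one.1 d).symm
  · refine Or.inr ⟨?_, ?_⟩
    · rw [inv_mul_eq_iff_eq_mul.1 d, Y.H.h.comm c' hc'.1]
    · rw [h1] at d
      rw [mul_inv_eq_iff_eq_mul.1 d, Y.H.h.z_mul_z_mul]

theorem card_Q₀ : Nat.card ↥(Q ⊓ centralizer (zpowers y : Set G)) = 32 := by
  classical
  set A := Q ⊓ centralizer (zpowers y : Set G) with hA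
  set W := ⁅Q, zpowers y⁆ with hW
  let φ : A × W →* Q :=
    { toFun := fun p => ⟨p.1 * p.2, Q.mul_mem p.1.2.1 (Y.W_le p.2.2)⟩
      map_one' := Subtype.ext (mul_one 1)
      map_mul' := fun p r => Subtype.ext (by
        show (p.1 : G) * r.1 * (p.2 * r.2) = p.1 * p.2 * (r.1 * r.2)
        exact (show Commute (r.1 : G) p.2 from Y.comm_W r.1.2 p.2.2).mul_mul_mul_comm _ _) }
  have hsurj : φ.range = ⊤ := by
    rw [eq_top_iff]
    rintro ⟨q, hq⟩ -
    obtain ⟨c, hc, w, hw, e⟩ := LargeExtraspecialAct.decompose Y.H.h.toExt Y.act Y.odd_y hq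
    exact ⟨(⟨c, hc⟩, ⟨w, hw⟩), Subtype.ext e.symm⟩
  have hker : Nat.card φ.ker = 2 := by
    refine le_antisymm ?_ ?_
    · refine le_trans (Nat.card_le_card_of_injective
        (fun p : φ.ker => (⟨(p.1.1 : G), ?_⟩ : zpowers z)) fun p r e => ?_) ?_
      · have e : (p.1.1 : G) * p.1.2 = 1 := congrArg Subtype.val p.2
        rcases Y.fibre p.1.1.2 (one_mem _) p.1.2.2 (one_mem _) (by rw [e, one_mul]) with d | d
        · rw [d.1]; exact one_mem _
        · rw [d.1, mul_one]; exact mem_zpowers z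
      · have e' : (p.1.1 : G) = r.1.1 := by simpa using congrArg Subtype.val e
        have ep : (p.1.1 : G) * p.1.2 = 1 := congrArg Subtype.val p.2
        have er : (r.1.1 : G) * r.1.2 = 1 := congrArg Subtype.val r.2
        refine Subtype.ext (Prod.ext (Subtype.ext e') (Subtype.ext ?_))
        rw [e'] at ep
        exact mul_left_cancel (ep.trans er.symm)
      · rw [Nat.card_zpowers, Y.H.h.toExt.orderOf_z]
    · have hne : (⟨(⟨z, Y.ext_Q₀.mem⟩, ⟨z, Y.z_mem_W⟩), Subtype.ext Y.H.h.zz⟩ : φ.ker) ≠ 1 :=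
        fun e => Y.H.h.ne_one
          (congrArg Subtype.val (congrArg Prod.fst (congrArg Subtype.val e)))
      haveI : Nontrivial φ.ker := nontrivial_of_ne _ _ hne
      exact Finite.one_lt_card
  have hm : Nat.card φ.ker * Nat.card φ.range = Nat.card A * 8 := by
    rw [← Subgroup.index_ker, Subgroup.card_mul_index, Nat.card_prod, hW, Y.cardW]
  rw [hker, hsurj, Subgroup.card_top, Y.H.cardQ] at hm
  omega

theorem card_inv : {q : G | q ∈ Q ⊓ centralizer (zpowers y : Set G) ∧ q * q = 1}.ncard = 20 := by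
  classical
  haveI : Fintype G := Fintype.ofFinite G
  set A := Q ⊓ centralizer (zpowers y : Set G) with hA
  set W := ⁅Q, zpowers y⁆ with hW
  obtain ⟨xw, yw, q, -⟩ := Y.exists_quat_W
  have hz := Y.H.h.zz
  set AF := (Finset.univ : Finset G).filter (fun g => g ∈ A) with hAF
  set WF := (Finset.univ : Finset G).filter (fun g => g ∈ W) with hWF
  set I := AF.filter (fun g => g * g = 1) with hI
  set T := (Finset.univ : Finset G).filter (fun g => g ∈ Q ∧ g * g = 1) with hT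
  set P := (AF ×ˢ WF).filter (fun p => p.1 * p.2 * (p.1 * p.2) = 1) with hP
  have hAc : AF.card = 32 := by
    rw [hAF, ← Fintype.card_subtype, ← Nat.card_eq_fintype_card]
    exact Y.card_Q₀
  have hWc : WF.card = 8 := by
    rw [hWF, ← Fintype.card_subtype, ← Nat.card_eq_fintype_card]
    exact Y.cardW
  have hTc : T.card = 56 := by
    obtain ⟨g, hgQ, hgz⟩ := Y.fus
    have hs : Sing Q z (g * z * g⁻¹) := ⟨hgQ, (Y.H.h.map_conj g).zz, (Y.H.h.map_conj g).ne_one, hgz⟩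
    have h54 := (Y.H.orb_eq hs).2.1
    have hOm : Y.H.Om = ↑((T.erase 1).erase z) := by
      ext a
      simp only [Hyp.Om, Sing, Set.mem_setOf_eq, Finset.coe_erase, Set.mem_diff, Finset.mem_coe,
        hT, Finset.mem_filter, Finset.mem_univ, true_and, Set.mem_singleton_iff]
      tauto
    have h1 : (1 : G) ∈ T := by simp [hT]
    have hzm : z ∈ T.erase 1 := by simp [hT, Y.H.h.ne_one, Y.H.h.mem, hz]
    rw [hOm, Set.ncard_coe_finset, Finset.card_erase_of_mem hzm, Finset.card_erase_of_mem h1] at h54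
    omega
  have hmap : ∀ p ∈ P, p.1 * p.2 ∈ T := by
    intro p hp
    simp only [hP, hAF, hWF, Finset.mem_filter, Finset.mem_product, Finset.mem_univ, true_and] at hp
    simp only [hT, Finset.mem_filter, Finset.mem_univ, true_and]
    exact ⟨Q.mul_mem hp.1.1.1 (Y.W_le hp.1.2), hp.2⟩
  have hPc : P.card = 112 := by
    rw [Finset.card_eq_sum_card_fiberwise hmap, Finset.sum_const_nat (m := 2), hTc]
    intro t ht
    simp only [hT, Finset.mem_filter, Finset.mem_univ, true_and] at ht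
    obtain ⟨c, hc0, w, hw, rfl⟩ := LargeExtraspecialAct.decompose Y.H.h.toExt Y.act Y.odd_y ht.1
    have hzc : c * z = z * c := Y.H.h.comm c hc0.1
    have hzz : z * c * (z * w) = c * w := by
      calc z * c * (z * w) = z * (c * z) * w := by group
        _ = z * z * (c * w) := by rw [hzc]; group
        _ = c * w := by rw [hz, one_mul]
    have hset : (P.filter fun p => p.1 * p.2 = c * w) = {(c, w), (z * c, z * w)} := by
      ext ⟨a, b⟩
      simp only [hP, hAF, hWF, Finset.mem_filter, Finset.mem_product, Finset.mem_univ, true_and,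
        Finset.mem_insert, Finset.mem_singleton, Prod.mk.injEq]
      constructor
      · rintro ⟨⟨⟨ha, hb⟩, -⟩, e⟩
        exact Y.fibre ha hc0 hb hw e
      · rintro (⟨rfl, rfl⟩ | ⟨rfl, rfl⟩)
        · exact ⟨⟨⟨hc0, hw⟩, ht.2⟩, rfl⟩
        · exact ⟨⟨⟨mul_mem Y.ext_Q₀.mem hc0, mul_mem Y.z_mem_W hw⟩, by rw [hzz]; exact ht.2⟩, hzz⟩
    rw [hset, Finset.card_pair]
    exact fun e => Y.H.h.z_mul_ne c (congrArg Prod.fst e).symm
  have hsplit : P = I ×ˢ ({1, z} : Finset G) ∪ (AF \ I) ×ˢ (WF \ {1, z}) := by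
    ext ⟨a, b⟩
    simp only [hP, hI, Finset.mem_filter, Finset.mem_product, Finset.mem_union, Finset.mem_sdiff,
      Finset.mem_insert, Finset.mem_singleton]
    by_cases ha : a ∈ AF
    swap
    · simp [ha]
    have haA : a ∈ A := by simpa [hAF] using ha
    have hbW : (b = 1 ∨ b = z) → b ∈ WF := by
      rintro (e | e) <;> simp [e, hWF, hW, Y.z_mem_W, one_mem]
    have hsq : b ∈ WF → a * b * (a * b) = a * a * (b * b) := fun hb =>
      (show Commute b a from (Y.comm_W haA (by simpa [hWF] using hb)).symm).mul_mul_mul_comm _ _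
    by_cases hb1 : b = 1 ∨ b = z
    · have hbb : b * b = 1 := by rcases hb1 with rfl | rfl <;> simp [hz]
      simp [ha, hb1, hbW hb1, hsq (hbW hb1), hbb]
    · by_cases hb : b ∈ WF
      swap
      · simp [hb, hb1]
      push Not at hb1
      have hbb : b * b = z := q.sq_eq (by simpa [hWF] using hb) hb1.1 hb1.2
      rcases Y.H.h.sq a haA.1 with e | e
      · simp [ha, hb, hb1.1, hb1.2, hsq hb, e, hbb, Y.H.h.ne_one]
      · simp [ha, hb, hb1.1, hb1.2, hsq hb, e, hbb, hz, Y.H.h.ne_one]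
  have hpair : ({1, z} : Finset G).card = 2 := Finset.card_pair Y.H.h.ne_one.symm
  have hsub : ({1, z} : Finset G) ⊆ WF := by
    intro b hb
    simp only [Finset.mem_insert, Finset.mem_singleton] at hb
    rcases hb with e | e <;> simp [e, hWF, hW, Y.z_mem_W, one_mem]
  rw [hsplit, Finset.card_union_of_disjoint, Finset.card_product, Finset.card_product, hpair,
    Finset.card_sdiff_of_subset (hI ▸ Finset.filter_subset _ _),
    Finset.card_sdiff_of_subset hsub, hpair, hAc, hWc] at hPc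
  swap
  · rw [Finset.disjoint_left]
    rintro ⟨a, b⟩ h1 h2
    simp only [Finset.mem_product, Finset.mem_sdiff] at h1 h2
    exact h2.1.2 h1.1
  have hIle : I.card ≤ 32 := hAc ▸ Finset.card_filter_le _ _
  have hset : {q : G | q ∈ A ∧ q * q = 1} = ↑I := by ext a; simp [hI, hAF]
  rw [hset, Set.ncard_coe_finset]
  omega

theorem card_sing : {t : G | Sing Q z t ∧ y * t = t * y}.ncard = 18 := by
  have h : {t : G | Sing Q z t ∧ y * t = t * y} =
      ({q : G | q ∈ Q ⊓ centralizer (zpowers y : Set G) ∧ q * q = 1} \ {1}) \ {z} := by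
    ext t
    simp only [Set.mem_setOf_eq, Set.mem_diff, Set.mem_singleton_iff, Sing, Y.mem_Q₀]
    tauto
  rw [h, Set.ncard_diff_singleton_of_mem, Set.ncard_diff_singleton_of_mem, Y.card_inv]
  · exact ⟨one_mem _, one_mul 1⟩
  · exact ⟨⟨Y.ext_Q₀.mem, Y.H.h.zz⟩, Y.H.h.ne_one⟩

theorem exists_sing : ∃ t, Sing Q z t ∧ y * t = t * y := by
  obtain ⟨t, ht⟩ := Set.nonempty_of_ncard_ne_zero (s := {t : G | Sing Q z t ∧ y * t = t * y})
    (by rw [Y.card_sing]; norm_num)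
  exact ⟨t, ht⟩

theorem mem_Sx {t : G} (hyt : y * t = t * y) : y ∈ Sx z t :=
  SuzTypeCoord62.mem_Sx.2 ⟨Y.yz, hyt⟩

theorem exists_conj {t : G} (ht : Sing Q z t) : ∃ g : G, g * z * g⁻¹ = t := by
  obtain ⟨g, hgQ, hgz⟩ := Y.fus
  obtain ⟨c, hcz, hc⟩ := Y.H.transitive
    ⟨hgQ, (Y.H.h.map_conj g).zz, (Y.H.h.map_conj g).ne_one, hgz⟩ ht
  exact ⟨c * g, by rw [← hc]; group⟩

/-- An element of `C(z) ∩ C(t)` inverting `y`. -/
theorem inverter {t : G} (ht : Sing Q z t) (hyt : y * t = t * y) :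
    ∃ n ∈ Sx z t, n * y * n⁻¹ = y⁻¹ := by
  obtain ⟨g, rfl⟩ := Y.exists_conj ht
  obtain ⟨ν, d, ρ, D⟩ := SuzTypeRadical62.exists_ctx Y.H (g := g) ht.1 ht.2.2.2
  set yy : ↥(Sx z (g * z * g⁻¹)) := ⟨y, Y.mem_Sx hyt⟩ with hyy
  have hσ3 : ρ yy ^ 3 = 1 := by
    rw [← map_pow, show yy ^ 3 = 1 from Subtype.ext Y.y3, map_one]
  have hσ1 : ρ yy ≠ 1 := fun e => Y.y1 (by
    have h4 : y ^ 4 = 1 := D.P.R_pow (D.rho_R.1 e)
    rwa [pow_succ, Y.y3, one_mul] at h4)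
  obtain ⟨τ, hτ, hτc⟩ := perm_inverter _ hσ3 hσ1
  obtain ⟨n₀, hn₀⟩ := D.exists_rho_eq hτ
  set M : Subgroup ↥(Sx z (g * z * g⁻¹)) := (zpowers (ρ yy)).comap ρ with hM
  have h9 : ¬ 9 ∣ Nat.card M := fun h =>
    Y.nine ht (h.trans (Subgroup.card_subgroup_dvd_card M))
  have hyM : yy ∈ M := mem_zpowers _
  set y' := n₀ * yy * n₀⁻¹ with hy'
  have hρy' : ρ y' = (ρ yy)⁻¹ := by rw [hy', map_mul, map_mul, map_inv, hn₀, hτc]
  have hy'M : y' ∈ M := show ρ y' ∈ zpowers _ from hρy' ▸ inv_mem (mem_zpowers _)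
  have hy3 : yy ^ 3 = 1 := Subtype.ext Y.y3
  have hy1 : yy ≠ 1 := fun e => Y.y1 (congrArg Subtype.val e)
  obtain ⟨s, hs⟩ := conj_three h9 (c := (⟨y', hy'M⟩ : M)) (c' := ⟨yy, hyM⟩)
    (Subtype.ext (show y' ^ 3 = 1 by rw [hy', conj_pow, hy3, mul_one, mul_inv_cancel]))
    (fun e => hy1 (conj_eq_one_iff.1 (congrArg Subtype.val e))) (Subtype.ext hy3)
    (fun e => hy1 (congrArg Subtype.val e))
  obtain ⟨k, hk⟩ := (s.2 : ρ (s : ↥(Sx z (g * z * g⁻¹))) ∈ zpowers (ρ yy))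
  have hρs : ρ ((s : ↥(Sx z (g * z * g⁻¹))) * y' * (s : ↥(Sx z (g * z * g⁻¹)))⁻¹) = (ρ yy)⁻¹ := by
    rw [map_mul, map_mul, map_inv, hρy', ← hk]
    group
  rcases hs with e | e
  · exfalso
    have e' : (s : ↥(Sx z (g * z * g⁻¹))) * y' * (s : ↥(Sx z (g * z * g⁻¹)))⁻¹ = yy :=
      congrArg Subtype.val e
    rw [e'] at hρs
    apply hσ1
    calc ρ yy = ρ yy ^ 3 * (ρ yy * ρ yy)⁻¹ := by group
      _ = 1 := by
        rw [hσ3, one_mul, inv_eq_one]
        nth_rewrite 2 [hρs]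
        exact mul_inv_cancel _
  · refine ⟨((s : ↥(Sx z (g * z * g⁻¹))) * n₀ : ↥(Sx z (g * z * g⁻¹))), SetLike.coe_mem _, ?_⟩
    have e' : (s : ↥(Sx z (g * z * g⁻¹))) * y' * (s : ↥(Sx z (g * z * g⁻¹)))⁻¹ = yy⁻¹ :=
      congrArg Subtype.val e
    rw [hy', show (s : ↥(Sx z (g * z * g⁻¹))) * (n₀ * yy * n₀⁻¹)
        * (s : ↥(Sx z (g * z * g⁻¹)))⁻¹
      = (s : ↥(Sx z (g * z * g⁻¹))) * n₀ * yy * ((s : ↥(Sx z (g * z * g⁻¹))) * n₀)⁻¹ by group] at e'
    exact congrArg Subtype.val e'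

/-- Correcting an element into the centraliser of `y`. -/
theorem fix_y {t : G} (ht : Sing Q z t) (hyt : y * t = t * y) {γ : G}
    (hγ : γ * y * γ⁻¹ ∈ Sx z t) : ∃ s ∈ Sx z t, (s * γ) * y = y * (s * γ) := by
  have h3 : (γ * y * γ⁻¹) ^ 3 = 1 := by rw [conj_pow, Y.y3, mul_one, mul_inv_cancel]
  obtain ⟨s, hs, e⟩ := conj_three_sub (Y.nine ht) hγ (Y.mem_Sx hyt) h3
    (fun e => Y.y1 (conj_eq_one_iff.1 e)) Y.y3 Y.y1
  rcases e with e | e
  · refine ⟨s, hs, mul_inv_eq_iff_eq_mul.1 ?_⟩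
    rw [show s * γ * y * (s * γ)⁻¹ = s * (γ * y * γ⁻¹) * s⁻¹ by group, e]
  · obtain ⟨n, hn, hny⟩ := Y.inverter ht hyt
    refine ⟨n * s, mul_mem hn hs, mul_inv_eq_iff_eq_mul.1 ?_⟩
    rw [show n * s * γ * y * (n * s * γ)⁻¹ = n * (s * (γ * y * γ⁻¹) * s⁻¹) * n⁻¹ by group, e,
      show n * y⁻¹ * n⁻¹ = (n * y * n⁻¹)⁻¹ by group, hny, inv_inv]

theorem trans_sing {t t' : G} (ht : Sing Q z t) (hyt : y * t = t * y) (ht' : Sing Q z t')
    (hyt' : y * t' = t' * y) :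
    ∃ c, c * z = z * c ∧ c * y = y * c ∧ c * t * c⁻¹ = t' := by
  obtain ⟨γ, hγz, hγ⟩ := Y.H.transitive ht ht'
  have hS : γ * y * γ⁻¹ ∈ Sx z t' := SuzTypeCoord62.mem_Sx.2
    ⟨(((show Commute γ z from hγz).mul_left Y.yz).mul_left (show Commute γ z from hγz).inv_left).eq,
      by
        rw [← hγ]
        calc γ * y * γ⁻¹ * (γ * t * γ⁻¹) = γ * (y * t) * γ⁻¹ := by group
          _ = γ * (t * y) * γ⁻¹ := by rw [hyt]
          _ = γ * t * γ⁻¹ * (γ * y * γ⁻¹) := by group⟩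
  obtain ⟨s, hs, hsy⟩ := Y.fix_y ht' hyt' hS
  obtain ⟨hsz, hst⟩ := SuzTypeCoord62.mem_Sx.1 hs
  refine ⟨s * γ, ((show Commute s z from hsz).mul_left hγz).eq, hsy, ?_⟩
  rw [show s * γ * t * (s * γ)⁻¹ = s * (γ * t * γ⁻¹) * s⁻¹ by group, hγ, hst, mul_inv_cancel_right]

/-- Elements centralising `y` exchanging `z` and `t`. -/
theorem swap {t : G} (ht : Sing Q z t) (hyt : y * t = t * y) :
    ∃ g, g * y = y * g ∧ g * z * g⁻¹ = t ∧ g * t * g⁻¹ = z := by
  obtain ⟨g₀, rfl⟩ := Y.exists_conj ht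
  obtain ⟨ν, d, ρ, D⟩ := SuzTypeRadical62.exists_ctx Y.H (g := g₀) ht.1 ht.2.2.2
  obtain ⟨w, hw, ew⟩ := D.P.zQ'
  simp only [MulEquiv.coe_toMonoidHom, MulAut.conj_apply] at ew
  have hwS : Sing Q z w := by
    refine ⟨hw, ?_, fun e => Y.H.h.ne_one (by rw [← ew, e]; group), fun e => ht.2.2.2 ?_⟩
    · calc w * w = g₀⁻¹ * ((g₀ * w * g₀⁻¹) * (g₀ * w * g₀⁻¹)) * g₀ := by group
        _ = 1 := by rw [ew, Y.H.h.zz]; group
    · nth_rewrite 2 [← ew]
      rw [e]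
  obtain ⟨c, hcz, hc⟩ := Y.H.transitive ht hwS
  set g₁ := g₀ * c with hg₁
  have e1 : g₁ * z * g₁⁻¹ = g₀ * z * g₀⁻¹ := by
    rw [hg₁, show g₀ * c * z * (g₀ * c)⁻¹ = g₀ * (c * z) * c⁻¹ * g₀⁻¹ by group, hcz]
    group
  have e2 : g₁ * (g₀ * z * g₀⁻¹) * g₁⁻¹ = z := by
    rw [hg₁, show g₀ * c * (g₀ * z * g₀⁻¹) * (g₀ * c)⁻¹ = g₀ * (c * (g₀ * z * g₀⁻¹) * c⁻¹) * g₀⁻¹
      by group, hc, ew]
  have hS : g₁ * y * g₁⁻¹ ∈ Sx z (g₀ * z * g₀⁻¹) := SuzTypeCoord62.mem_Sx.2 ⟨by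
      conv_lhs => rw [← e2]
      conv_rhs => rw [← e2]
      calc g₁ * y * g₁⁻¹ * (g₁ * (g₀ * z * g₀⁻¹) * g₁⁻¹)
          = g₁ * (y * (g₀ * z * g₀⁻¹)) * g₁⁻¹ := by group
        _ = g₁ * (g₀ * z * g₀⁻¹ * y) * g₁⁻¹ := by rw [hyt]
        _ = _ := by group, by
      rw [← e1]
      calc g₁ * y * g₁⁻¹ * (g₁ * z * g₁⁻¹) = g₁ * (y * z) * g₁⁻¹ := by group
        _ = g₁ * (z * y) * g₁⁻¹ := by rw [Y.yz]
        _ = _ := by group⟩
  obtain ⟨s, hs, hsy⟩ := Y.fix_y ht hyt hS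
  obtain ⟨hsz, hst⟩ := SuzTypeCoord62.mem_Sx.1 hs
  refine ⟨s * g₁, hsy, ?_, ?_⟩
  · rw [show s * g₁ * z * (s * g₁)⁻¹ = s * (g₁ * z * g₁⁻¹) * s⁻¹ by group, e1, hst,
      mul_inv_cancel_right]
  · rw [show s * g₁ * (g₀ * z * g₀⁻¹) * (s * g₁)⁻¹
      = s * (g₁ * (g₀ * z * g₀⁻¹) * g₁⁻¹) * s⁻¹ by group, e2, hsz, mul_inv_cancel_right]

theorem card_Q₀_cent {t : G} (ht : Sing Q z t) (hyt : y * t = t * y) :
    Nat.card ↥(Q ⊓ centralizer (zpowers y : Set G) ⊓ centralizer ({t} : Set G)) = 16 := by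
  have h := SuzY42Local.card_fix Y.ext_Q₀ (Y.mem_Q₀.2 ⟨ht.1, hyt⟩) ht.2.2.1 ht.2.2.2
  rw [Y.card_Q₀] at h
  omega

theorem card_CS_ctx {g t d : G} {ν : G → SuzTypeModel62.M4}
    {ρ : ↥(Sx z t) →* Equiv.Perm (Fin 5)}
    (D : SuzTypeRadical62.Ctx Q (Q.map (MulAut.conj g).toMonoidHom) z t ν d ρ)
    (ht : Sing Q z t) (hyt : y * t = t * y) (hgy : g * y = y * g) (hgt : g * t * g⁻¹ = z) :
    Nat.card ↥(Sx z t ⊓ centralizer ({y} : Set G)) = 192 := by
  set S' := Sx z t ⊓ centralizer ({y} : Set G) with hS'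
  let ρ' : S' →* Equiv.Perm (Fin 5) := ρ.comp (Subgroup.inclusion inf_le_left)
  set yy : ↥(Sx z t) := ⟨y, Y.mem_Sx hyt⟩ with hyy
  have hσ3 : ρ yy ^ 3 = 1 := by
    rw [← map_pow, show yy ^ 3 = 1 from Subtype.ext Y.y3, map_one]
  have hσ1 : ρ yy ≠ 1 := fun e => Y.y1 (by
    have h4 : y ^ 4 = 1 := D.P.R_pow (D.rho_R.1 e)
    rwa [pow_succ, Y.y3, one_mul] at h4)
  have hrange : ρ'.range = zpowers (ρ yy) := by
    refine le_antisymm ?_ (zpowers_le.2
      ⟨⟨y, Y.mem_Sx hyt, mem_centralizer_singleton_iff.2 rfl⟩, rfl⟩)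
    rintro _ ⟨c, rfl⟩
    have hc : ρ' c * ρ yy = ρ yy * ρ' c := by
      show ρ _ * ρ yy = ρ yy * ρ _
      rw [← map_mul, ← map_mul]
      exact congrArg ρ (Subtype.ext (mem_centralizer_singleton_iff.1 c.2.2))
    rcases perm_cent _ hσ3 hσ1 _ (D.sign_rho _) hc with e | e | e <;>
      change ρ _ ∈ _ <;> rw [e]
    exacts [one_mem _, mem_zpowers _, mul_mem (mem_zpowers _) (mem_zpowers _)]
  set A := Cx Q t ⊓ centralizer ({y} : Set G) with hA
  set B := Cx (Q.map (MulAut.conj g).toMonoidHom) z ⊓ centralizer ({y} : Set G) with hB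
  have hAc : Nat.card A = 16 := by
    have e : A = Q ⊓ centralizer (zpowers y : Set G) ⊓ centralizer ({t} : Set G) := by
      ext a
      rw [hA, mem_inf, mem_inf, mem_Cx, mem_centralizer_singleton_iff, Y.mem_Q₀,
        mem_centralizer_singleton_iff]
      exact ⟨fun h => ⟨⟨h.1.1, h.2.symm⟩, h.1.2⟩, fun h => ⟨⟨h.1.1, h.2⟩, h.1.2.symm⟩⟩
    rw [e, Y.card_Q₀_cent ht hyt]
  have hBA : B = A.map (MulAut.conj g).toMonoidHom := by
    have hgy' : Commute g y := hgy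
    ext b
    constructor
    · rintro ⟨hb, hby⟩
      obtain ⟨⟨a, ha, rfl⟩, hbz⟩ := mem_Cx.1 hb
      refine ⟨a, ⟨mem_Cx.2 ⟨ha, ?_⟩, ?_⟩, rfl⟩
      · simp only [MulEquiv.coe_toMonoidHom, MulAut.conj_apply] at hbz
        rw [← hgt] at hbz
        exact mul_right_cancel (b := g⁻¹) (mul_left_cancel (a := g) (by
          simpa [mul_assoc] using hbz))
      · have h := mem_centralizer_singleton_iff.1 hby
        simp only [MulEquiv.coe_toMonoidHom, MulAut.conj_apply] at h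
        refine mem_centralizer_singleton_iff.2 ?_
        have e1 : a = g⁻¹ * (g * a * g⁻¹) * g := by group
        rw [e1]
        exact ((hgy'.inv_left.mul_left h).mul_left hgy').eq
    · rintro ⟨a, ⟨ha, hay⟩, rfl⟩
      obtain ⟨haQ, hat⟩ := mem_Cx.1 ha
      have hay' : Commute a y := mem_centralizer_singleton_iff.1 hay
      refine ⟨mem_Cx.2 ⟨⟨a, haQ, rfl⟩, ?_⟩, mem_centralizer_singleton_iff.2 ?_⟩
      · simp only [MulEquiv.coe_toMonoidHom, MulAut.conj_apply]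
        nth_rewrite 1 [← hgt]
        nth_rewrite 1 [← hgt]
        calc g * a * g⁻¹ * (g * t * g⁻¹) = g * (a * t) * g⁻¹ := by group
          _ = g * (t * a) * g⁻¹ := by rw [hat]
          _ = g * t * g⁻¹ * (g * a * g⁻¹) := by group
      · exact ((hgy'.mul_left hay').mul_left hgy'.inv_left).eq
  have hVy : ∀ v ∈ D.P.V, y * v = v * y := fun v hv => by
    rcases D.P.mem_V.1 hv with rfl | rfl | rfl | rfl
    exacts [by simp, Y.yz, hyt, ((show Commute y z from Y.yz).mul_right hyt).eq]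
  have hVA : D.P.V ≤ A ⊓ B := fun v hv =>
    ⟨⟨D.V_le_Cx hv, mem_centralizer_singleton_iff.2 (hVy v hv).symm⟩,
      D.V_le_C' hv, mem_centralizer_singleton_iff.2 (hVy v hv).symm⟩
  have hABV : ∀ a ∈ A, a ∈ B → a ∈ D.P.V := fun a ha hb =>
    D.E_eq ▸ ⟨(mem_Cx.1 ha.1).1, (mem_Cx.1 hb.1).1⟩
  set RC := D.P.R ⊓ centralizer ({y} : Set G) with hRC
  have hsplit : ∀ r : RC, ∃ p : A × B, (r : G) = (p.1 : G) * p.2 := by
    rintro ⟨r, hr, hry⟩
    obtain ⟨a, ha, b, hb, rfl⟩ := D.decomp hr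
    have hyS := Y.mem_Sx hyt
    have hry' : y * (a * b) * y⁻¹ = a * b := by
      rw [(mem_centralizer_singleton_iff.1 hry).symm, mul_inv_cancel_right]
    have hb' : y * b * y⁻¹ ∈ Cx (Q.map (MulAut.conj g).toMonoidHom) z := D.conj_C' hyS hb
    have ha' : y * a * y⁻¹ ∈ Cx Q t := Y.H.conj_Cx hyS ha
    set v := a⁻¹ * (y * a * y⁻¹) with hv
    have hvV : v ∈ D.P.V := by
      have e : v = b * (y * b * y⁻¹)⁻¹ := by
        rw [eq_mul_inv_iff_mul_eq, hv, mul_assoc, inv_mul_eq_iff_eq_mul]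
        exact (by group : y * a * y⁻¹ * (y * b * y⁻¹) = y * (a * b) * y⁻¹).trans hry'
      rw [← D.E_eq]
      refine ⟨(mem_Cx.1 (mul_mem (inv_mem ha) ha')).1, ?_⟩
      rw [e]
      exact (mem_Cx.1 (mul_mem hb (inv_mem hb'))).1
    have hvy : Commute y v := hVy v hvV
    have hya : y * a * y⁻¹ = a * v := by rw [hv]; group
    have h3 : a = a * v ^ 3 := by
      have e2 : y * (a * v) * y⁻¹ = a * (v * v) := by
        rw [show y * (a * v) * y⁻¹ = y * a * y⁻¹ * (y * v * y⁻¹) by group, hya, hvy.eq,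
          mul_inv_cancel_right, mul_assoc]
      have e3 : y * (a * (v * v)) * y⁻¹ = a * v ^ 3 := by
        rw [show y * (a * (v * v)) * y⁻¹ = y * a * y⁻¹ * (y * (v * v) * y⁻¹) by group, hya,
          (hvy.mul_right hvy).eq, mul_inv_cancel_right, pow_succ', pow_two]
        group
      have e4 : y ^ 3 * a * (y ^ 3)⁻¹ = a * v ^ 3 := by
        rw [← e3, ← e2, ← hya]
        simp only [pow_succ, pow_zero, one_mul]
        group
      rwa [Y.y3, one_mul, inv_one, mul_one] at e4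
    have hv1 : v = 1 := by
      have h3' : v ^ 3 = 1 := mul_eq_left.1 h3.symm
      have hv2 : v * v = 1 := D.P.E_sq (D.P.V_le_E hvV)
      rwa [pow_succ, pow_two, hv2, one_mul] at h3'
    rw [hv1, mul_one] at hya
    have hay : a * y = y * a := (mul_inv_eq_iff_eq_mul.1 hya).symm
    have hby : b * y = y * b := by
      have h1 : Commute (a * b) y := (mem_centralizer_singleton_iff.1 hry)
      have := (show Commute a y from hay).inv_left.mul_left h1
      rwa [inv_mul_cancel_left] at this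
    exact ⟨(⟨a, ha, mem_centralizer_singleton_iff.2 hay⟩,
      ⟨b, hb, mem_centralizer_singleton_iff.2 hby⟩), rfl⟩
  choose sp hsp using hsplit
  have hmulmem : ∀ (a : A) (b : B), (a : G) * b ∈ RC := fun a b =>
    ⟨D.P.R.mul_mem (D.Cx_le_R a.2.1) (D.C'_le_R b.2.1), mul_mem a.2.2 b.2.2⟩
  have hV : ∀ v : D.P.V, (v : G) ∈ A ∧ (v : G) ∈ B := fun v => hVA v.2
  let e : A × B ≃ RC × D.P.V :=
    { toFun := fun p =>
        (⟨(p.1 : G) * p.2, hmulmem p.1 p.2⟩,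
          ⟨((sp ⟨(p.1 : G) * p.2, hmulmem p.1 p.2⟩).1 : G)⁻¹ * p.1, by
            refine hABV _ (mul_mem (inv_mem (SetLike.coe_mem _)) p.1.2) ?_
            have h := hsp ⟨(p.1 : G) * p.2, hmulmem p.1 p.2⟩
            have : ((sp ⟨(p.1 : G) * p.2, hmulmem p.1 p.2⟩).1 : G)⁻¹ * p.1
                = ((sp ⟨(p.1 : G) * p.2, hmulmem p.1 p.2⟩).2 : G) * (p.2 : G)⁻¹ := by
              rw [inv_mul_eq_iff_eq_mul, ← mul_assoc]
              exact eq_mul_inv_of_mul_eq h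
            rw [this]
            exact mul_mem (SetLike.coe_mem _) (inv_mem p.2.2)⟩)
      invFun := fun q => (⟨((sp q.1).1 : G) * q.2, mul_mem (sp q.1).1.2 (hV q.2).1⟩,
        ⟨(q.2 : G)⁻¹ * (sp q.1).2, mul_mem (inv_mem (hV q.2).2) (sp q.1).2.2⟩)
      left_inv := fun p => by
        set r : RC := ⟨(p.1 : G) * p.2, hmulmem p.1 p.2⟩
        have h : (p.1 : G) * p.2 = (sp r).1 * (sp r).2 := hsp r
        refine Prod.ext (Subtype.ext (mul_inv_cancel_left _ _)) (Subtype.ext ?_)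
        show (((sp r).1 : G)⁻¹ * p.1)⁻¹ * (sp r).2 = p.2
        rw [mul_inv_rev, inv_inv, mul_assoc, ← h, inv_mul_cancel_left]
      right_inv := fun q => by
        have h : (⟨((sp q.1).1 : G) * q.2 * ((q.2 : G)⁻¹ * (sp q.1).2), hmulmem
            ⟨_, mul_mem (sp q.1).1.2 (hV q.2).1⟩
            ⟨_, mul_mem (inv_mem (hV q.2).2) (sp q.1).2.2⟩⟩ : RC) = q.1 :=
          Subtype.ext (by
            show ((sp q.1).1 : G) * q.2 * ((q.2 : G)⁻¹ * (sp q.1).2) = q.1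
            rw [hsp q.1]; group)
        refine Prod.ext h (Subtype.ext ?_)
        simp only [h]
        exact inv_mul_cancel_left _ _ }
  have hVc : Nat.card D.P.V = 4 := by
    classical
    obtain ⟨d1, d2, d3⟩ := Y.H.U_distinct ht
    have hset : (D.P.V : Set G) = ({1, z, t, z * t} : Set G) := by
      ext a; simpa using D.P.mem_V
    rw [← SetLike.coe_sort_coe, Nat.card_coe_set_eq, hset]
    have c1 : (1 : G) ∉ ({z, t, z * t} : Set G) := by
      simp [Y.H.h.ne_one.symm, ht.2.2.1.symm, d1.symm]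
    have c2 : z ∉ ({t, z * t} : Set G) := by simp [ht.2.2.2.symm, d2.symm]
    rw [Set.ncard_insert_of_notMem c1, Set.ncard_insert_of_notMem c2, Set.ncard_pair d3.symm]
  have hRCc : Nat.card RC = 64 := by
    have h := Nat.card_congr e
    rw [Nat.card_prod, Nat.card_prod, hAc, hBA,
      Subgroup.card_map_of_injective (MulAut.conj g).injective, hAc, hVc] at h
    omega
  have hker : Nat.card ρ'.ker = 64 := by
    rw [← hRCc]
    exact Nat.card_congr
      { toFun := fun c => ⟨((c : S') : G), D.rho_R.1 c.2, (c : S').2.2⟩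
        invFun := fun r => ⟨⟨r, D.R_le_Sx r.2.1, r.2.2⟩, D.rho_R.2 r.2.1⟩
        left_inv := fun _ => rfl
        right_inv := fun _ => rfl }
  rw [← Subgroup.card_mul_index ρ'.ker, Subgroup.index_ker, hker, hrange, Nat.card_zpowers,
    orderOf_eq_prime hσ3 hσ1]

theorem card_CS {t : G} (ht : Sing Q z t) (hyt : y * t = t * y) :
    Nat.card ↥(Sx z t ⊓ centralizer ({y} : Set G)) = 192 := by
  obtain ⟨g, hgy, rfl, hgt⟩ := Y.swap ht hyt
  obtain ⟨ν, d, ρ, D⟩ := SuzTypeRadical62.exists_ctx Y.H (g := g) ht.1 ht.2.2.2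
  exact Y.card_CS_ctx D ht hyt hgy hgt

theorem card_Cz : Nat.card ↥(centralizer ({z} : Set G) ⊓ centralizer ({y} : Set G)) = 3456 := by
  obtain ⟨t, ht, hyt⟩ := Y.exists_sing
  set C := centralizer ({z} : Set G) ⊓ centralizer ({y} : Set G) with hC
  letI : MulAction ↥C G := MulAction.compHom G (ConjAct.toConjAct.toMonoidHom.comp C.subtype)
  have ha : ∀ (c : ↥C) (x : G), c • x = (c : G) * x * (c : G)⁻¹ := fun c x =>
    ConjAct.smul_def (ConjAct.toConjAct (c : G)) x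
  have ho : MulAction.orbit ↥C t = {t : G | Sing Q z t ∧ y * t = t * y} := by
    ext x
    simp only [MulAction.mem_orbit_iff, ha, Set.mem_setOf_eq]
    constructor
    · rintro ⟨⟨c, hcz, hcy⟩, rfl⟩
      have hy' : Commute c y := mem_centralizer_singleton_iff.1 hcy
      exact ⟨Y.H.conj_sing hcz ht, ((hy'.symm.mul_right hyt).mul_right hy'.symm.inv_right).eq⟩
    · rintro ⟨hx, hxy⟩
      obtain ⟨c, hcz, hcy, e⟩ := Y.trans_sing ht hyt hx hxy
      exact ⟨⟨c, mem_centralizer_singleton_iff.2 hcz, mem_centralizer_singleton_iff.2 hcy⟩, e⟩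
  have hs : Nat.card (MulAction.stabilizer ↥C t) = 192 := by
    rw [← Y.card_CS ht hyt]
    exact Nat.card_congr
      { toFun := fun c => ⟨(c : ↥C), ⟨(c : ↥C).2.1, mem_centralizer_singleton_iff.mpr
          (mul_inv_eq_iff_eq_mul.mp ((ha c t).symm.trans c.2))⟩, (c : ↥C).2.2⟩
        invFun := fun c => ⟨⟨c, c.2.1.1, c.2.2⟩, (ha _ t).trans
          (mul_inv_eq_iff_eq_mul.mpr (SuzTypeCoord62.mem_Sx.1 c.2.1).2)⟩
        left_inv := fun _ => rfl
        right_inv := fun _ => rfl }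
  rw [← Subgroup.card_mul_index (MulAction.stabilizer ↥C t), MulAction.index_stabilizer, ho,
    Y.card_sing, hs]

/-- Three-elements of `C(z) ∩ C(t)` commuting with `y` are powers of `y`. -/
theorem mem_zpowers_y {t l : G} (ht : Sing Q z t) (hyt : y * t = t * y) (hl : l ∈ Sx z t)
    (hly : l * y = y * l) (h9 : l ^ 9 = 1) : l ∈ zpowers y := by
  haveI := Fact.mk Nat.prime_three
  set K := zpowers y ⊔ zpowers l with hK
  have hKS : K ≤ Sx z t := sup_le (zpowers_le.2 (Y.mem_Sx hyt)) (zpowers_le.2 hl)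
  have hp1 : IsPGroup 3 (zpowers y) := IsPGroup.of_card (n := 1)
    (by rw [Nat.card_zpowers, orderOf_eq_prime Y.y3 Y.y1, pow_one])
  have hp2 : IsPGroup 3 (zpowers l) := by
    obtain ⟨i, -, e⟩ := (Nat.dvd_prime_pow Nat.prime_three (m := 2)).1
      (orderOf_dvd_of_pow_eq_one h9)
    exact IsPGroup.of_card (n := i) (by rw [Nat.card_zpowers, e])
  have hnorm : zpowers l ≤ normalizer (zpowers y : Set G) :=
    (zpowers_le.2 (mem_centralizer_iff.2 (by
      rintro _ ⟨k, rfl⟩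
      exact ((show Commute l y from hly).zpow_right k).symm.eq))).trans (centralizer_le_normalizer _)
  obtain ⟨k, hk⟩ := IsPGroup.iff_card.1 (hp1.to_sup_of_normal_left' hp2 hnorm)
  have hd : Nat.card K ∣ Nat.card (Sx z t) := Subgroup.card_dvd_of_le hKS
  have hk1 : k ≤ 1 := by
    by_contra hk2
    refine Y.nine ht (dvd_trans ?_ hd)
    rw [hK, hk, show 9 = 3 ^ 2 from rfl]
    exact pow_dvd_pow 3 (by omega)
  have hle : Nat.card K ≤ 3 := by
    rw [hK, hk]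
    interval_cases k <;> norm_num
  have : zpowers y = K := Subgroup.eq_of_le_of_card_ge le_sup_left
    (by rw [Nat.card_zpowers, orderOf_eq_prime Y.y3 Y.y1]; exact hle)
  exact this ▸ mem_sup_right (mem_zpowers l)

/-- The action on `[Q, y]` is that of a power of `y`, up to an inner one. -/
theorem adjust_W {l : G} (hlz : l * z = z * l) (hly : l * y = y * l) :
    ∃ i : ℕ, Triv ⁅Q, zpowers y⁆ z ((y ^ i)⁻¹ * l) := by
  obtain ⟨xw, yw, q, c⟩ := Y.exists_quat_W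
  refine q.commuting_case c hlz (fun g hg => Y.y_W hg hlz hly) fun g _ => Or.inl ?_
  have hc : Commute l y := hly
  calc l * (y * g * y⁻¹) * l⁻¹ = (l * y) * g * (l * y)⁻¹ := by group
    _ = (y * l) * g * (y * l)⁻¹ := by rw [hc.eq]
    _ = y * (l * g * l⁻¹) * y⁻¹ := by group

end Yd

end Cfsg.Agent.SuzY42Setup
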