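import Mathlib
import Cfsg.Agent.Lib.SuzY42Setup
import Cfsg.Agent.Lib.SuzY42Local
import Cfsg.Agent.Lib.SuzY42Model
import Cfsg.Agent.Lib.OrthUnitaryPSU
import Cfsg.Prelude.Def_CaseTheorems

/-!
In a group of Suzuki sporadic type, `C(y)/⟨y⟩` has the local structure of the unitary group in
dimension four over nine elements, and when it is that group `C(y)` is quasisimple.
-/

set_option autoImplicit false
set_option linter.unusedSectionVars false

namespace Cfsg.Agent.SuzY42Quotient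

open Subgroup Cfsg.Agent.LargeExtraspecial Cfsg.Agent.SuzY42Setup Cfsg.Agent.SuzY42Quat
open scoped commutatorElement

variable {G : Type*} [Group G] [Finite G]

/-- The centraliser of `y`. -/
abbrev CY (y : G) : Subgroup G := centralizer (zpowers y : Set G)

/-- `⟨y⟩` inside its centraliser. -/
abbrev N (y : G) : Subgroup (CY y) := (zpowers y).subgroupOf (CY y)

theorem mem_CY {y g : G} : g ∈ CY y ↔ g * y = y * g := by
  rw [mem_centralizer_iff]
  refine ⟨fun h => (h y (mem_zpowers y)).symm, fun h => ?_⟩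
  rintro _ ⟨k, rfl⟩
  exact ((show Commute g y from h).zpow_right k).symm.eq

theorem central {y : G} {n : CY y} (hn : n ∈ N y) (l : CY y) : l * n = n * l :=
  Subtype.ext (mem_centralizer_iff.1 l.2 _ (mem_subgroupOf.1 hn)).symm

instance N_normal (y : G) : (N y).Normal :=
  ⟨fun n hn g => by rw [central hn g, mul_inv_cancel_right]; exact hn⟩

/-- The projection. -/
def pr (y : G) : CY y →* CY y ⧸ N y := QuotientGroup.mk' _

theorem pr_surj (y : G) : Function.Surjective (pr y) := QuotientGroup.mk'_surjective _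

theorem pr_eq_one {y : G} {l : CY y} : pr y l = 1 ↔ (l : G) ∈ zpowers y :=
  (QuotientGroup.eq_one_iff l).trans mem_subgroupOf

theorem pr_eq {y : G} {l l' : CY y} : pr y l = pr y l' ↔ (l : G)⁻¹ * l' ∈ zpowers y := by
  rw [← inv_mul_eq_one, ← map_inv, ← map_mul, pr_eq_one]
  rfl

theorem ext_range {L : Type*} [Group L] {P : Subgroup G} {z : G} (h : Ext P z) (φ : P →* L)
    (hφ : Function.Injective φ) : Ext φ.range (φ ⟨z, h.mem⟩) := by
  refine ⟨⟨_, rfl⟩, fun e => h.ne_one (congrArg Subtype.val (hφ (e.trans (map_one φ).symm))),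
    by rw [← map_mul, ← map_one φ]; exact congrArg φ (Subtype.ext h.zz), ?_, ?_, ?_, ?_⟩
  · rintro _ ⟨x, rfl⟩
    rw [← map_mul, ← map_mul]
    exact congrArg φ (Subtype.ext (h.comm x x.2))
  · rintro _ ⟨x, rfl⟩
    rcases h.sq x x.2 with e | e
    · exact Or.inl (by rw [← map_mul, ← map_one φ]; exact congrArg φ (Subtype.ext e))
    · exact Or.inr (by rw [← map_mul]; exact congrArg φ (Subtype.ext e))
  · rintro _ ⟨x, rfl⟩ _ ⟨w, rfl⟩
    rcases h.conj x x.2 w w.2 with e | e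
    · exact Or.inl (by rw [← map_mul, ← map_inv, ← map_mul]; exact congrArg φ (Subtype.ext e))
    · exact Or.inr (by
        rw [← map_mul, ← map_inv, ← map_mul, ← map_mul]; exact congrArg φ (Subtype.ext e))
  · rintro _ ⟨x, rfl⟩ h1 h2
    obtain ⟨w, hw, e⟩ := h.partner x x.2
      (fun e => h1 (by rw [← map_one φ]; exact congrArg φ (Subtype.ext e)))
      (fun e => h2 (congrArg φ (Subtype.ext e)))
    exact ⟨φ ⟨w, hw⟩, ⟨_, rfl⟩, by
      rw [← map_mul, ← map_inv, ← map_mul, ← map_mul]; exact congrArg φ (Subtype.ext e)⟩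

section

variable {Q : Subgroup G} {z y : G} (Y : Yd Q z y)
include Y

theorem k_four {k : G} (hk : k ∈ zpowers y) (h : k ^ 4 = 1) : k = 1 :=
  eq_one_of_mem_odd_of_pow_two Y.odd_y hk (n := 2) h

theorem k_two {k : G} (hk : k ∈ zpowers y) (h : k * k = 1) : k = 1 :=
  eq_one_of_mem_odd_of_pow_two Y.odd_y hk (n := 1) (by rw [pow_one, pow_two]; exact h)

theorem k_three {k : G} (hk : k ∈ zpowers y) : k ^ 3 = 1 := by
  obtain ⟨j, rfl⟩ := hk
  rw [← zpow_natCast, ← zpow_mul, mul_comm, zpow_mul, zpow_natCast, Y.y3, one_zpow]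

/-- Two elements of exponent four congruent modulo `⟨y⟩` are equal. -/
theorem eq_of_four {a b : G} (ha : a ^ 4 = 1) (hb : b ^ 4 = 1) (hay : a * y = y * a)
    (h : a⁻¹ * b ∈ zpowers y) : a = b := by
  have hc : Commute a (a⁻¹ * b) := by
    obtain ⟨j, hj⟩ := h
    rw [← hj]
    exact (show Commute a y from hay).zpow_right j
  refine inv_mul_eq_one.1 (k_four Y h ?_)
  have := hc.mul_pow 4
  rw [mul_inv_cancel_left, hb, ha, one_mul] at this
  exact this.symm

theorem Q₀_CY : Q ⊓ centralizer (zpowers y : Set G) ≤ CY y := inf_le_right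

/-- The image of `C_Q(y)` in the quotient. -/
def emb : ↥(Q ⊓ centralizer (zpowers y : Set G)) →* CY y ⧸ N y :=
  (pr y).comp (Subgroup.inclusion (Q₀_CY Y))

theorem pow_four (q : ↥(Q ⊓ centralizer (zpowers y : Set G))) : (q : G) ^ 4 = 1 :=
  Y.ext_Q₀.pow_four q.2

theorem q_comm_y (q : ↥(Q ⊓ centralizer (zpowers y : Set G))) : (q : G) * y = y * q :=
  (Y.mem_Q₀.1 q.2).2.symm

theorem emb_inj : Function.Injective (emb Y) := fun q q' e =>
  Subtype.ext (eq_of_four Y (pow_four Y q) (pow_four Y q') (q_comm_y Y q) (pr_eq.1 e))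

theorem lift_eq {l : CY y} (hl4 : (l : G) ^ 4 = 1)
    {q : ↥(Q ⊓ centralizer (zpowers y : Set G))} (e : pr y l = emb Y q) : (l : G) = q :=
  eq_of_four Y hl4 (pow_four Y q) (mem_CY.1 l.2) (pr_eq.1 e)

theorem z_mem : z ∈ CY y := mem_CY.2 Y.yz.symm

/-- The image of `z`. -/
def zb : CY y ⧸ N y := emb Y ⟨z, Y.ext_Q₀.mem⟩

theorem zb_eq : zb Y = pr y ⟨z, z_mem Y⟩ := rfl

theorem emb_comm_iff {l : CY y} (hlz : (l : G) * z = z * l)
    (q : ↥(Q ⊓ centralizer (zpowers y : Set G))) :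
    pr y l * emb Y q = emb Y q * pr y l ↔ (l : G) * q = q * l := by
  refine ⟨fun e => ?_, fun e => ?_⟩
  · have hm : (l : G) * q * (l : G)⁻¹ ∈ Q := Y.H.h.norm _ hlz _ q.2.1
    have h1 : pr y ⟨(l : G) * q * (l : G)⁻¹, mul_mem (mul_mem l.2 (Q₀_CY Y q.2)) (inv_mem l.2)⟩
        = emb Y q := by
      rw [show (⟨(l : G) * q * (l : G)⁻¹, _⟩ : CY y) = l * (Subgroup.inclusion (Q₀_CY Y) q) * l⁻¹
        from rfl, map_mul, map_mul, map_inv]
      exact mul_inv_eq_iff_eq_mul.2 e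
    exact mul_inv_eq_iff_eq_mul.1 (lift_eq Y (Y.H.h.pow_four hm) h1)
  · show pr y l * pr y _ = pr y _ * pr y l
    rw [← map_mul, ← map_mul]
    exact congrArg (pr y) (Subtype.ext e)

theorem lift_z {c : CY y ⧸ N y} (hc : c * zb Y = zb Y * c) :
    ∃ l : CY y, pr y l = c ∧ (l : G) * z = z * l := by
  obtain ⟨l, rfl⟩ := pr_surj y c
  refine ⟨l, rfl, ?_⟩
  have h1 : pr y ⟨(l : G) * z * (l : G)⁻¹, mul_mem (mul_mem l.2 (z_mem Y)) (inv_mem l.2)⟩
      = zb Y := by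
    rw [show (⟨(l : G) * z * (l : G)⁻¹, _⟩ : CY y) = l * ⟨z, z_mem Y⟩ * l⁻¹ from rfl, map_mul,
      map_mul, map_inv, ← zb_eq Y]
    exact mul_inv_eq_iff_eq_mul.2 hc
  refine mul_inv_eq_iff_eq_mul.1 (lift_eq Y ?_ h1)
  rw [conj_pow, Y.H.h.pow_four Y.H.h.mem, mul_one, mul_inv_cancel]

theorem emb_mem (q : ↥(Q ⊓ centralizer (zpowers y : Set G))) :
    emb Y q ∈ centralizer ({zb Y} : Set (CY y ⧸ N y)) := by
  rw [mem_centralizer_singleton_iff, zb, ← map_mul, ← map_mul]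
  exact congrArg _ (Subtype.ext (Y.H.h.comm q q.2.1))

/-- The image of `C_Q(y)` inside the centraliser of the image of `z`. -/
def embC : ↥(Q ⊓ centralizer (zpowers y : Set G)) →* centralizer ({zb Y} : Set (CY y ⧸ N y)) :=
  (emb Y).codRestrict _ (emb_mem Y)

theorem embC_inj : Function.Injective (embC Y) := fun _ _ e =>
  emb_inj Y (congrArg Subtype.val e)

theorem orderOf_zb : orderOf (zb Y) = 2 :=
  orderOf_eq_prime
    (by rw [zb, ← map_pow, ← map_one (emb Y)]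
        exact congrArg _ (Subtype.ext (by
          show z ^ 2 = 1
          rw [pow_two]; exact Y.H.h.zz)))
    (fun e => Y.H.h.ne_one (congrArg Subtype.val (emb_inj Y (e.trans (map_one _).symm))))

theorem card_centralizer :
    Nat.card ↥(centralizer ({zb Y} : Set (CY y ⧸ N y))) = 1152 := by
  set C := centralizer ({z} : Set G) ⊓ centralizer ({y} : Set G) with hC
  have hle : C ≤ CY y := fun g hg => mem_CY.2 (mem_centralizer_singleton_iff.1 hg.2)
  let φ : C →* centralizer ({zb Y} : Set (CY y ⧸ N y)) :=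
    ((pr y).comp (Subgroup.inclusion hle)).codRestrict _ fun g => by
      rw [mem_centralizer_singleton_iff, zb_eq]
      show pr y _ * pr y _ = pr y _ * pr y _
      rw [← map_mul, ← map_mul]
      exact congrArg _ (Subtype.ext (mem_centralizer_singleton_iff.1 g.2.1))
  have hsurj : φ.range = ⊤ := by
    rw [eq_top_iff]
    rintro ⟨c, hc⟩ -
    obtain ⟨l, hl, hlz⟩ := lift_z Y (mem_centralizer_singleton_iff.1 hc)
    exact ⟨⟨l, mem_centralizer_singleton_iff.2 hlz,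
      mem_centralizer_singleton_iff.2 (mem_CY.1 l.2)⟩, Subtype.ext hl⟩
  have hyC : zpowers y ≤ C := zpowers_le.2
    ⟨mem_centralizer_singleton_iff.2 Y.yz, mem_centralizer_singleton_iff.2 rfl⟩
  have hker : Nat.card φ.ker = 3 := by
    rw [← orderOf_eq_prime Y.y3 Y.y1, ← Nat.card_zpowers]
    exact Nat.card_congr
      { toFun := fun g => ⟨((g : C) : G), pr_eq_one.1 (congrArg Subtype.val g.2)⟩
        invFun := fun k => ⟨⟨k, hyC k.2⟩, Subtype.ext (pr_eq_one.2 k.2)⟩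
        left_inv := fun _ => rfl
        right_inv := fun _ => rfl }
  have h := Subgroup.card_mul_index φ.ker
  rw [Subgroup.index_ker, hsurj, Subgroup.card_top, hker, Y.card_Cz] at h
  omega

theorem cent :
    SuzY42Local.Cent (embC Y).range (embC Y ⟨z, Y.ext_Q₀.mem⟩) := by
  refine ⟨ext_range Y.ext_Q₀ _ (embC_inj Y), card_centralizer Y, ?_, ?_, ?_, ?_, ?_⟩
  · rw [← Y.card_Q₀]
    exact (Nat.card_congr (MonoidHom.ofInjective (embC_inj Y)).toEquiv).symm
  · intro g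
    exact Subtype.ext (mem_centralizer_singleton_iff.1 g.2)
  · rintro ⟨c, hc⟩ _ ⟨q, rfl⟩
    obtain ⟨l, rfl, hlz⟩ := lift_z Y (mem_centralizer_singleton_iff.1 hc)
    exact ⟨⟨(l : G) * q * (l : G)⁻¹,
      Y.H.h.norm _ hlz _ q.2.1, (CY y).mul_mem ((CY y).mul_mem l.2 (Q₀_CY Y q.2)) ((CY y).inv_mem l.2)⟩,
      Subtype.ext (by
        show pr y (l * Subgroup.inclusion (Q₀_CY Y) q * l⁻¹) = pr y l * emb Y q * (pr y l)⁻¹
        rw [map_mul, map_mul, map_inv]; rfl)⟩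
  · rintro ⟨c, hc⟩ hall
    obtain ⟨l, rfl, hlz⟩ := lift_z Y (mem_centralizer_singleton_iff.1 hc)
    have hlQ : ∀ q ∈ Q ⊓ centralizer (zpowers y : Set G), Commute (l : G) q := fun q hq =>
      (emb_comm_iff Y hlz ⟨q, hq⟩).1 (congrArg Subtype.val (hall _ ⟨⟨q, hq⟩, rfl⟩))
    have hly : (l : G) * y = y * l := mem_CY.1 l.2
    obtain ⟨i, hi⟩ := Y.adjust_W hlz hly
    obtain ⟨xw, yw, qW, -⟩ := Y.exists_quat_W
    obtain ⟨w, hw, hwc⟩ := qW.inner hi
    have hm : w⁻¹ * ((y ^ i)⁻¹ * l) = 1 ∨ w⁻¹ * ((y ^ i)⁻¹ * l) = z := by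
      refine Y.H.h.cent _ fun x hx => ?_
      obtain ⟨a, ha, b, hb, rfl⟩ := LargeExtraspecialAct.decompose Y.H.h.toExt Y.act Y.odd_y hx
      have c1 : Commute w a := (Y.comm_W ha hw).symm
      have c2 : Commute (y ^ i) a := (show Commute y a from (Y.mem_Q₀.1 ha).2).pow_left i
      have c3 : Commute (w⁻¹ * ((y ^ i)⁻¹ * l)) a :=
        c1.inv_left.mul_left (c2.inv_left.mul_left (hlQ a ha))
      exact (c3.mul_right (hwc b hb)).eq
    have hyi : ∀ g : G, Commute g y → Commute g (y ^ i) := fun g hg => hg.pow_right i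
    have hwy : y * w = w * y := by
      have hzy : Commute z y := Y.yz.symm
      have e : w = (y ^ i)⁻¹ * l * (w⁻¹ * ((y ^ i)⁻¹ * l))⁻¹ := by group
      have hmy : Commute (w⁻¹ * ((y ^ i)⁻¹ * l)) y := by
        rcases hm with e' | e' <;> rw [e']
        exacts [Commute.one_left y, hzy]
      rw [e]
      exact (((hyi y (Commute.refl y)).inv_right.mul_right
        (show Commute y (l : G) from hly.symm)).mul_right hmy.symm.inv_right).eq
    have hwz : w = 1 ∨ w = z := Y.inter (Y.mem_Q₀.2 ⟨Y.W_le hw, hwy⟩) hw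
    have hlm : ((y ^ i)⁻¹ * (l : G)) = 1 ∨ ((y ^ i)⁻¹ * (l : G)) = z := by
      have e : (y ^ i)⁻¹ * (l : G) = w * (w⁻¹ * ((y ^ i)⁻¹ * l)) := by group
      rw [e]
      rcases hm with e' | e' <;> rcases hwz with e'' | e'' <;> rw [e', e'']
      exacts [Or.inl (one_mul 1), Or.inr (mul_one z), Or.inr (one_mul z), Or.inl Y.H.h.zz]
    rcases hlm with e | e
    · refine Or.inl (Subtype.ext ((pr_eq_one).2 ?_))
      rw [← (inv_mul_eq_one.1 e)]
      exact pow_mem (mem_zpowers y) i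
    · refine Or.inr (Subtype.ext ?_)
      show pr y l = pr y ⟨z, z_mem Y⟩
      rw [eq_comm, pr_eq]
      show z⁻¹ * (l : G) ∈ zpowers y
      rw [inv_mul_eq_iff_eq_mul.1 e, ← mul_assoc,
        ((show Commute y z from Y.yz).pow_left i).symm.inv_left.eq, mul_assoc, inv_mul_cancel,
        mul_one]
      exact pow_mem (mem_zpowers y) i
  · rintro ⟨c, hc⟩ _ h3 ⟨q, rfl⟩ htt ht1 htz hct
    obtain ⟨l, rfl, hlz⟩ := lift_z Y (mem_centralizer_singleton_iff.1 hc)
    have hlq : (l : G) * q = q * l := (emb_comm_iff Y hlz q).1 (congrArg Subtype.val hct)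
    have hs : SuzTypeCoord62.Sing Q z q := by
      refine ⟨q.2.1, ?_, fun e => ht1 ?_, fun e => htz ?_⟩
      · exact congrArg Subtype.val (embC_inj Y
          (a₁ := q * q) (a₂ := 1) (by rw [map_mul, map_one]; exact htt))
      · rw [show q = 1 from Subtype.ext e, map_one]
      · rw [show q = ⟨z, Y.ext_Q₀.mem⟩ from Subtype.ext e]
    have hl3 : (l : G) ^ 3 ∈ zpowers y := by
      have : pr y (l ^ 3) = 1 := by rw [map_pow]; exact congrArg Subtype.val h3
      exact pr_eq_one.1 this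
    have hl9 : (l : G) ^ 9 = 1 := by
      rw [show 9 = 3 * 3 from rfl, pow_mul]; exact k_three Y hl3
    have := Y.mem_zpowers_y hs (q_comm_y Y q).symm (SuzTypeCoord62.mem_Sx.2 ⟨hlz, hlq⟩)
      (mem_CY.1 l.2) hl9
    exact Subtype.ext (pr_eq_one.2 this)

theorem range_map :
    ((embC Y).range).map (centralizer ({zb Y} : Set (CY y ⧸ N y))).subtype = (emb Y).range := by
  rw [MonoidHom.map_range]
  rfl

theorem exists_fus : ∃ g : CY y ⧸ N y,
    (∃ hq : g * zb Y * g⁻¹ ∈ centralizer ({zb Y} : Set (CY y ⧸ N y)),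
      (⟨g * zb Y * g⁻¹, hq⟩ : centralizer ({zb Y} : Set (CY y ⧸ N y))) ∈ (embC Y).range) ∧
      g * zb Y * g⁻¹ ≠ zb Y := by
  obtain ⟨t, ht, hyt⟩ := Y.exists_sing
  obtain ⟨g, hgy, hgz, -⟩ := Y.swap ht hyt
  set q : ↥(Q ⊓ centralizer (zpowers y : Set G)) := ⟨t, Y.mem_Q₀.2 ⟨ht.1, hyt⟩⟩
  have he : pr y ⟨g, mem_CY.2 hgy⟩ * zb Y * (pr y ⟨g, mem_CY.2 hgy⟩)⁻¹ = emb Y q := by
    rw [zb_eq, ← map_inv, ← map_mul, ← map_mul]
    exact congrArg (pr y) (Subtype.ext hgz)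
  refine ⟨pr y ⟨g, mem_CY.2 hgy⟩, ⟨he ▸ emb_mem Y q, q, Subtype.ext he.symm⟩, ?_⟩
  rw [he]
  exact fun e => ht.2.2.2 (congrArg Subtype.val (emb_inj Y e))

theorem card_inter (g : CY y ⧸ N y) (hg : g * zb Y * g⁻¹ ∈ (emb Y).range)
    (hne : g * zb Y * g⁻¹ ≠ zb Y) :
    Nat.card ↥((emb Y).range ⊓ (emb Y).range.map (MulAut.conj g).toMonoidHom) = 4 := by
  obtain ⟨l, rfl⟩ := pr_surj y g
  obtain ⟨q, hq⟩ := hg
  have hly : (l : G) * y = y * l := mem_CY.1 l.2
  set t : CY y := l * ⟨z, z_mem Y⟩ * l⁻¹ with htdef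
  have ht4 : (t : G) ^ 4 = 1 := by
    show ((l : G) * z * (l : G)⁻¹) ^ 4 = 1
    rw [conj_pow, Y.H.h.pow_four Y.H.h.mem, mul_one, mul_inv_cancel]
  have hpt : pr y t = emb Y q := by
    rw [hq, htdef, map_mul, map_mul, map_inv]; rfl
  have htq : (t : G) = q := lift_eq Y ht4 hpt
  have hgQ : (l : G) * z * (l : G)⁻¹ ∈ Q := by
    have : (t : G) ∈ Q := htq ▸ q.2.1
    exact this
  have hgz : (l : G) * z * (l : G)⁻¹ ≠ z := fun e => hne (by
    rw [← hq, ← hpt]
    exact congrArg (pr y) (Subtype.ext e))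
  obtain ⟨ν, d, ρ, D⟩ := SuzTypeRadical62.exists_ctx Y.H (g := (l : G)) hgQ hgz
  have hyt : y * ((l : G) * z * (l : G)⁻¹) = (l : G) * z * (l : G)⁻¹ * y :=
    (((show Commute y (l : G) from hly.symm).mul_right Y.yz).mul_right
      (show Commute y (l : G) from hly.symm).inv_right).eq
  have hV0 : D.P.V ≤ Q ⊓ centralizer (zpowers y : Set G) := fun v hv => by
    refine Y.mem_Q₀.2 ⟨(D.P.V_le_E hv).1, ?_⟩
    rcases D.P.mem_V.1 hv with e | e | e | e <;> rw [e]
    exacts [(mul_one y).trans (one_mul y).symm, Y.yz, hyt,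
      ((show Commute y z from Y.yz).mul_right hyt).eq]
  have hset : (emb Y).range ⊓ (emb Y).range.map (MulAut.conj (pr y l)).toMonoidHom
      = (D.P.V.subgroupOf (Q ⊓ centralizer (zpowers y : Set G))).map (emb Y) := by
    ext x
    constructor
    · rintro ⟨⟨a, rfl⟩, ⟨_, ⟨b, rfl⟩, e⟩⟩
      refine ⟨a, mem_subgroupOf.2 (D.E_eq ▸ ⟨a.2.1, ⟨b, b.2.1, ?_⟩⟩), rfl⟩
      have h4 : ((l : G) * b * (l : G)⁻¹) ^ 4 = 1 := by
        rw [conj_pow, pow_four Y b, mul_one, mul_inv_cancel]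
      have e' : pr y (l * Subgroup.inclusion (Q₀_CY Y) b * l⁻¹) = emb Y a := by
        rw [map_mul, map_mul, map_inv]
        exact e
      exact lift_eq Y h4 e'
    · rintro ⟨a, ha, rfl⟩
      refine ⟨⟨a, rfl⟩, ?_⟩
      obtain ⟨b, hb, e⟩ := (D.P.V_le_E (mem_subgroupOf.1 ha)).2
      simp only [MulEquiv.coe_toMonoidHom, MulAut.conj_apply] at e
      have hby : y * b = b * y := by
        have e1 : b = (l : G)⁻¹ * (a : G) * l := by rw [← e]; group
        rw [e1]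
        exact (((show Commute y (l : G) from hly.symm).inv_right.mul_right
          (show Commute y (a : G) from (q_comm_y Y a).symm)).mul_right hly.symm).eq
      refine ⟨_, ⟨⟨b, Y.mem_Q₀.2 ⟨hb, hby⟩⟩, rfl⟩, ?_⟩
      show pr y l * pr y _ * (pr y l)⁻¹ = pr y _
      rw [← map_inv, ← map_mul, ← map_mul]
      exact congrArg (pr y) (Subtype.ext e)
  rw [hset, Subgroup.card_map_of_injective (emb_inj Y),
    Nat.card_congr (Subgroup.subgroupOfEquivOfLe hV0).toEquiv]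
  have ht : SuzTypeCoord62.Sing Q z ((l : G) * z * (l : G)⁻¹) := D.sing
  classical
  obtain ⟨d1, d2, d3⟩ := Y.H.U_distinct ht
  set t' := (l : G) * z * (l : G)⁻¹ with ht'
  have hset : (D.P.V : Set G) = ({1, z, t', z * t'} : Set G) := by
    ext a; simpa using D.P.mem_V
  rw [← SetLike.coe_sort_coe, Nat.card_coe_set_eq, hset]
  have c1 : (1 : G) ∉ ({z, t', z * t'} : Set G) := by
    simp [Y.H.h.ne_one.symm, ht.2.2.1.symm, d1.symm]
  have c2 : z ∉ ({t', z * t'} : Set G) := by simp [ht.2.2.2.symm, d2.symm]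
  rw [Set.ncard_insert_of_notMem c1, Set.ncard_insert_of_notMem c2, Set.ncard_pair d3.symm]

/-- `C(y)/⟨y⟩` satisfies the hypotheses of the characterisation of the unitary group. -/
theorem type_data :
    ∃ (H₁ H₂ Qc : Subgroup (centralizer ({zb Y} : Set (CY y ⧸ N y)))),
      H₁ ⊔ H₂ = Subgroup.closure {x | Odd (orderOf x)} ∧
      (H₁.subgroupOf (H₁ ⊔ H₂)).Normal ∧ (H₂.subgroupOf (H₁ ⊔ H₂)).Normal ∧
      Nonempty (H₁ ≃* SL23Model77.SL) ∧ Nonempty (H₂ ≃* SL23Model77.SL) ∧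
      (H₁ ⊓ H₂).map (Subgroup.subtype _) = Subgroup.zpowers (zb Y) ∧ Qc.Normal ∧
      Qc = (Cfsg.pCore 2 ↥(H₁ ⊔ H₂)).map (H₁ ⊔ H₂).subtype ∧
      Cfsg.generalizedFittingSubgroup (centralizer ({zb Y} : Set (CY y ⧸ N y))) = Qc ∧
      (∃ g, (∃ hq : g * zb Y * g⁻¹ ∈ centralizer ({zb Y} : Set (CY y ⧸ N y)),
        (⟨g * zb Y * g⁻¹, hq⟩ : centralizer ({zb Y} : Set (CY y ⧸ N y))) ∈ Qc) ∧
          g * zb Y * g⁻¹ ≠ zb Y) ∧
      Nat.card ↥(centralizer ({zb Y} : Set (CY y ⧸ N y))) = 2 ^ 7 * 3 ^ 2 ∧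
      ∀ g, g * zb Y * g⁻¹ ∈ Qc.map (Subgroup.subtype _) → g * zb Y * g⁻¹ ≠ zb Y →
        Nat.card ↥(Qc.map (Subgroup.subtype _) ⊓
          (Qc.map (Subgroup.subtype _)).map (MulAut.conj g).toMonoidHom) = 4 := by
  obtain ⟨H₁, H₂, h1, h2, h3, h4, h5, h6, h7, h8, -⟩ := (cent Y).result
  refine ⟨H₁, H₂, (embC Y).range, h1, h2, h3, h4, h5, ?_,
    ⟨fun x hx g => (cent Y).normal g x hx⟩, h7.symm, h8, exists_fus Y,
    by rw [card_centralizer Y]; norm_num, ?_⟩
  · rw [h6, MonoidHom.map_zpowers]; rfl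
  · intro g hg hne
    rw [range_map Y] at hg ⊢
    exact card_inter Y g hg hne

theorem relIndex_two :
    (CY y).relIndex (normalizer (zpowers y : Set G)) = 2 := by
  obtain ⟨t, ht, hyt⟩ := Y.exists_sing
  obtain ⟨n, -, hn⟩ := Y.inverter ht hyt
  have ho : orderOf y = 3 := orderOf_eq_prime Y.y3 Y.y1
  have hni : y⁻¹ ≠ y := fun e => by
    have h2 : y * y = 1 := inv_eq_iff_mul_eq_one.1 e
    have h3 := Y.y3
    rw [pow_succ, pow_two, h2, one_mul] at h3
    exact Y.y1 h3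
  have hnN : n ∈ normalizer (zpowers y : Set G) := by
    refine mem_normalizer_fintype fun x hx => ?_
    obtain ⟨k, rfl⟩ := hx
    rw [← conj_zpow, hn]
    exact zpow_mem (inv_mem (mem_zpowers y)) k
  have hpm : ∀ b ∈ normalizer (zpowers y : Set G), b * y * b⁻¹ = y ∨ b * y * b⁻¹ = y⁻¹ := by
    intro b hb
    obtain ⟨k, hk⟩ := mem_zpowers_iff.1 ((mem_normalizer_iff.1 hb y).1 (mem_zpowers y))
    have hne : b * y * b⁻¹ ≠ 1 := fun e => Y.y1 (conj_eq_one_iff.1 e)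
    rw [← hk, ← zpow_mod_orderOf, ho] at hne ⊢
    rcases (by omega : k % (3 : ℕ) = 0 ∨ k % (3 : ℕ) = 1 ∨ k % (3 : ℕ) = 2) with e | e | e <;>
      rw [e] at hne ⊢
    · exact absurd (zpow_zero y) hne
    · exact Or.inl (zpow_one y)
    · refine Or.inr (eq_inv_of_mul_eq_one_left ?_)
      rw [show (2 : ℤ) = ((2 : ℕ) : ℤ) from rfl, zpow_natCast, ← pow_succ, Y.y3]
  refine relIndex_eq_two_iff.2 ⟨n, hnN, fun b hb => ?_⟩
  rcases hpm b hb with e | e
  · refine Or.inr ⟨mem_CY.2 (mul_inv_eq_iff_eq_mul.1 e), fun h => hni ?_⟩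
    have h' := mul_inv_eq_iff_eq_mul.2 (mem_CY.1 h)
    rwa [show b * n * y * (b * n)⁻¹ = b * (n * y * n⁻¹) * b⁻¹ by group, hn,
      show b * y⁻¹ * b⁻¹ = (b * y * b⁻¹)⁻¹ by group, e] at h'
  · refine Or.inl ⟨mem_CY.2 (mul_inv_eq_iff_eq_mul.1 ?_), fun h => hni ?_⟩
    · rw [show b * n * y * (b * n)⁻¹ = b * (n * y * n⁻¹) * b⁻¹ by group, hn,
        show b * y⁻¹ * b⁻¹ = (b * y * b⁻¹)⁻¹ by group, e, inv_inv]
    · rw [← e, mul_inv_eq_iff_eq_mul.2 (mem_CY.1 h)]

/-- A power of `y` centralising `[Q, y]` is trivial. -/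
theorem k_W {k : G} (hk : k ∈ zpowers y)
    (hc : ∀ w ∈ ⁅Q, zpowers y⁆, k * w = w * k) : k = 1 := by
  by_contra h1
  have hz : zpowers k = zpowers y := Subgroup.eq_of_le_of_card_ge (zpowers_le.2 hk)
    (by rw [Nat.card_zpowers, Nat.card_zpowers, orderOf_eq_prime (k_three Y hk) h1,
      orderOf_eq_prime Y.y3 Y.y1])
  obtain ⟨xw, yw, q, c⟩ := Y.exists_quat_W
  obtain ⟨j, hj⟩ : y ∈ zpowers k := hz ▸ mem_zpowers y
  refine q.ne_y (Or.inl ?_)
  have h2 : Commute y xw := hj ▸ (show Commute k xw from hc xw q.hx).zpow_left j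
  rw [← c.ax, h2.eq, mul_inv_cancel_right]

theorem not_comm : ¬ ∀ a b : CY y ⧸ N y, a * b = b * a := fun h => by
  obtain ⟨g, -, hne⟩ := exists_fus Y
  exact hne (by rw [h g (zb Y), mul_inv_cancel_right])

/-- If the quotient is `PSU(4,3)`, the centraliser of `y` is quasisimple. -/
theorem quasisimple {K : Type} [Field K] [Fintype K] (hK : Fintype.card K = 9)
    (e : CY y ⧸ N y ≃* Cfsg.PSU 4 K 3) : Cfsg.IsQuasisimple ↥(CY y) := by
  haveI : IsSimpleGroup (Cfsg.PSU 4 K 3) :=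
    OrthUnitaryPSU.isSimpleGroup_PSU (by rw [hK]; norm_num) (by norm_num) (by norm_num)
  haveI : IsSimpleGroup (CY y ⧸ N y) := e.isSimpleGroup
  have hcen : Subgroup.center ↥(CY y) = N y := by
    refine le_antisymm (fun l hl => ?_) fun n hn => Subgroup.mem_center_iff.2 (central hn)
    haveI hmn : ((Subgroup.center ↥(CY y)).map (pr y)).Normal :=
      Subgroup.Normal.map inferInstance (pr y) (pr_surj y)
    rcases hmn.eq_bot_or_eq_top with h | h
    · have : pr y l ∈ (⊥ : Subgroup (CY y ⧸ N y)) := h ▸ ⟨l, hl, rfl⟩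
      exact (QuotientGroup.eq_one_iff l).1 (Subgroup.mem_bot.1 this)
    · refine absurd (fun a b => ?_) (not_comm Y)
      obtain ⟨l', hl', rfl⟩ : a ∈ (Subgroup.center ↥(CY y)).map (pr y) := h ▸ mem_top a
      obtain ⟨m, rfl⟩ := pr_surj y b
      rw [← map_mul, ← map_mul, (Subgroup.mem_center_iff.1 hl' m)]
  refine ⟨?_, (QuotientGroup.quotientMulEquivOfEq hcen).isSimpleGroup⟩
  set L₀ := _root_.commutator ↥(CY y) with hL₀
  haveI : L₀.Normal := inferInstance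
  have htop : L₀.map (pr y) = ⊤ := by
    haveI hmn : (L₀.map (pr y)).Normal := Subgroup.Normal.map inferInstance (pr y) (pr_surj y)
    rcases hmn.eq_bot_or_eq_top with h | h
    · refine absurd (fun a b => ?_) (not_comm Y)
      obtain ⟨a, rfl⟩ := pr_surj y a
      obtain ⟨b, rfl⟩ := pr_surj y b
      have : pr y (a * b * a⁻¹ * b⁻¹) = 1 := Subgroup.mem_bot.1
        (h ▸ ⟨_, commutator_mem_commutator (mem_top a) (mem_top b), rfl⟩)
      rw [map_mul, map_mul, map_mul, map_inv, map_inv] at this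
      exact mul_inv_eq_iff_eq_mul.1 (mul_inv_eq_one.1 this)
    · exact h
  have hlift : ∀ c : CY y ⧸ N y, ∃ l ∈ L₀, pr y l = c := fun c =>
    (htop ▸ mem_top c : c ∈ L₀.map (pr y))
  have hmod : ∀ l : CY y, ∃ k ∈ N y, l * k ∈ L₀ := by
    intro l
    obtain ⟨l', hl', he⟩ := hlift (pr y l)
    exact ⟨l⁻¹ * l', mem_subgroupOf.2 (pr_eq.1 he.symm), by rwa [mul_inv_cancel_left]⟩
  refine ⟨?_⟩
  rw [← hL₀, eq_top_iff]
  by_contra hcon
  have hN0 : ∀ n ∈ N y, n ∈ L₀ → n = 1 := by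
    intro n hn hnL
    by_contra hn1
    apply hcon
    intro l _
    obtain ⟨k, hk, hkl⟩ := hmod l
    have hnk : k ∈ zpowers n := by
      have h3 : (n : G) ^ 3 = 1 := k_three Y (mem_subgroupOf.1 hn)
      have hz : zpowers n = N y := Subgroup.eq_of_le_of_card_ge (zpowers_le.2 hn)
        (by
          rw [Nat.card_congr (Subgroup.subgroupOfEquivOfLe
            (zpowers_le.2 (mem_CY.2 rfl) : zpowers y ≤ CY y)).toEquiv, Nat.card_zpowers,
            Nat.card_zpowers, ← Subgroup.orderOf_coe n,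
            orderOf_eq_prime h3 (fun h => hn1 (Subtype.ext h)), orderOf_eq_prime Y.y3 Y.y1])
      exact hz ▸ hk
    have : k ∈ L₀ := (zpowers_le.2 hnL : zpowers n ≤ L₀) hnk
    exact (mul_mem_cancel_right this).1 hkl
  have hfour : ∀ l : CY y, (l : G) ^ 4 = 1 → l ∈ L₀ := by
    intro l hl
    obtain ⟨k, hk, hkl⟩ := hmod l
    have h4 : (l * k) ^ 4 = k ^ 4 := by
      rw [(show Commute l k from central hk l).mul_pow, show l ^ 4 = 1 from Subtype.ext hl, one_mul]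
    have hk1 : k = 1 := by
      refine Subtype.ext (k_four Y (mem_subgroupOf.1 hk) ?_)
      exact congrArg Subtype.val (hN0 _ (pow_mem hk 4) (h4 ▸ pow_mem hkl 4))
    rwa [hk1, mul_one] at hkl
  -- a three-element commuting with a quaternion group
  obtain ⟨H₁, H₂, -, -, -, -, -, -, -, -, a, x, yq, u, ha3, ha1, hx, hyq, hxa, hya, hxx, hyy,
    hinv, hu⟩ := (cent Y).result
  obtain ⟨qx, rfl⟩ := hx
  obtain ⟨qy, rfl⟩ := hyq
  obtain ⟨qu, hqu⟩ := hu
  obtain ⟨la, hla, hlaz⟩ := lift_z Y (mem_centralizer_singleton_iff.1 a.2)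
  obtain ⟨lu, hlu, hluz⟩ := lift_z Y (mem_centralizer_singleton_iff.1 u.2)
  obtain ⟨i, hi⟩ := Y.adjust_W hlaz (mem_CY.1 la.2)
  obtain ⟨r, hr⟩ : ∃ r : CY y, (r : G) = (y ^ i)⁻¹ * la :=
    ⟨⟨_, mul_mem (inv_mem (pow_mem (mem_CY.2 rfl) i)) la.2⟩, rfl⟩
  have hrla : pr y r = (a : CY y ⧸ N y) := by
    rw [← hla, eq_comm, pr_eq, hr,
      (((show Commute y (la : G) from (mem_CY.1 la.2).symm).pow_left i).inv_left).eq,
      inv_mul_cancel_left]
    exact inv_mem (pow_mem (mem_zpowers y) i)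
  have hrz : (r : G) * z = z * r := hr ▸ hi.pz
  have hr3y : (r : G) ^ 3 ∈ zpowers y := by
    have : pr y (r ^ 3) = 1 := by
      rw [map_pow, hrla]; exact congrArg Subtype.val ha3
    exact pr_eq_one.1 this
  have hr9 : (r : G) ^ 9 = 1 := by
    rw [show 9 = 3 * 3 from rfl, pow_mul]; exact k_three Y hr3y
  have hrW : ∀ w ∈ ⁅Q, zpowers y⁆, (r : G) * w = w * r := fun w hw =>
    LargeExtraspecialAct.fix_of_fix_mod Y.H.h.toExt (n := 9) (by decide) hr9 hrz
      (hr ▸ hi.fix w hw)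
  have hr3 : (r : G) ^ 3 = 1 :=
    k_W Y hr3y fun w hw => ((show Commute (r : G) w from hrW w hw).pow_left 3).eq
  have hqcomm : ∀ q, embC Y q * a = a * embC Y q → (r : G) * q = q * r := by
    intro q hq
    refine (emb_comm_iff Y hrz q).1 ?_
    rw [hrla]
    exact (congrArg Subtype.val hq).symm
  -- `r` lies in the derived group
  have huq : (lu : G) * r * (lu : G)⁻¹ * r = qu := by
    have hpr : pr y (lu * r * lu⁻¹ * r) = emb Y qu := by
      rw [map_mul, map_mul, map_mul, map_inv, hlu, hrla]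
      exact (congrArg Subtype.val hqu).symm
    have hk : ((lu : G) * r * (lu : G)⁻¹ * r)⁻¹ * qu = 1 := by
      refine k_W Y (pr_eq.1 hpr) fun w hw => ?_
      have hly : (lu : G) * y = y * lu := mem_CY.1 lu.2
      have hc : Commute ((lu : G) * r * (lu : G)⁻¹) w := by
        have hw' : (lu : G)⁻¹ * w * (lu : G)⁻¹⁻¹ ∈ ⁅Q, zpowers y⁆ :=
          Y.y_W hw (show Commute (lu : G) z from hluz).inv_left.eq
            (show Commute (lu : G) y from hly).inv_left.eq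
        have := hrW _ hw'
        rw [inv_inv] at this
        calc (lu : G) * r * (lu : G)⁻¹ * w
            = (lu : G) * ((r : G) * ((lu : G)⁻¹ * w * lu)) * (lu : G)⁻¹ := by group
          _ = (lu : G) * ((lu : G)⁻¹ * w * lu * r) * (lu : G)⁻¹ := by rw [this]
          _ = w * ((lu : G) * r * (lu : G)⁻¹) := by group
      exact ((hc.mul_left (hrW w hw)).inv_left.mul_left (Y.comm_W qu.2 hw)).eq
    exact inv_mul_eq_one.1 hk
  have hrL : r ∈ L₀ := by
    obtain ⟨k, hk, hkl⟩ := hmod r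
    have hq : lu * r * lu⁻¹ * r ∈ L₀ := hfour _ (by
      show ((lu : G) * r * (lu : G)⁻¹ * r) ^ 4 = 1
      rw [huq]; exact pow_four Y qu)
    have h2 : lu * (r * k) * lu⁻¹ * (r * k) ∈ L₀ :=
      mul_mem (Subgroup.Normal.conj_mem inferInstance _ hkl lu) hkl
    have h3 : lu * (r * k) * lu⁻¹ * (r * k) = lu * r * lu⁻¹ * r * (k * k) := by
      have ck : ∀ m : CY y, Commute m k := fun m => central hk m
      calc lu * (r * k) * lu⁻¹ * (r * k) = lu * r * (k * (lu⁻¹ * r)) * k := by group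
        _ = lu * r * (lu⁻¹ * r * k) * k := by rw [(ck (lu⁻¹ * r)).eq]
        _ = lu * r * lu⁻¹ * r * (k * k) := by group
    rw [h3] at h2
    have hk2 : k * k = 1 := hN0 _ (mul_mem hk hk) ((mul_mem_cancel_left hq).1 h2)
    have : k = 1 := Subtype.ext (k_two Y (mem_subgroupOf.1 hk) (congrArg Subtype.val hk2))
    rwa [this, mul_one] at hkl
  -- the quotient writes it as a commutator
  obtain ⟨u₀, v₀, hu₀, hv₀, huv⟩ := SuzY42Model.exists_commutator hK
    (a := e (a : CY y ⧸ N y)) (x := e (emb Y qx)) (y := e (emb Y qy))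
    (by rw [← map_pow, ← map_one e]; exact congrArg e (congrArg Subtype.val ha3))
    (fun h => ha1 (Subtype.ext (e.injective (h.trans (map_one e).symm))))
    ((show Commute (emb Y qx) (a : CY y ⧸ N y) from congrArg Subtype.val hxa).map e.toMonoidHom)
    ((show Commute (emb Y qy) (a : CY y ⧸ N y) from congrArg Subtype.val hya).map e.toMonoidHom)
    (by rw [← map_mul e, ← map_mul e]; exact congrArg e (congrArg Subtype.val (hxx.trans hyy.symm)))
    (by rw [← map_mul e, ← map_inv e, ← map_mul e, ← map_inv e]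
        exact congrArg e (congrArg Subtype.val hinv))
    (by
      intro h
      rw [← map_mul, ← map_one e] at h
      have h' : emb Y (qx * qx) = 1 := by rw [map_mul]; exact e.injective h
      have hz1 : emb Y ⟨z, Y.ext_Q₀.mem⟩ = 1 := by
        rw [← h', map_mul]; exact (congrArg Subtype.val hxx).symm
      exact Y.H.h.ne_one (congrArg Subtype.val (emb_inj Y (hz1.trans (map_one _).symm))))
  obtain ⟨u₁, hu₁L, hu₁⟩ := hlift (e.symm u₀)
  obtain ⟨v₁, hv₁L, hv₁⟩ := hlift (e.symm v₀)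
  have hcommr : ∀ (w : CY y) (w₀ : Cfsg.PSU 4 K 3), w ∈ L₀ → pr y w = e.symm w₀ →
      Commute w₀ (e (a : CY y ⧸ N y)) → Commute w r := by
    intro w w₀ hwL hw hc
    have h1 : pr y (w * r * w⁻¹ * r⁻¹) = 1 := by
      rw [map_mul, map_mul, map_mul, map_inv, map_inv, hw, hrla,
        (by simpa using hc.map e.symm.toMonoidHom : Commute (e.symm w₀) (a : CY y ⧸ N y)).eq]
      group
    have := hN0 _ ((QuotientGroup.eq_one_iff _).1 h1)
      (mul_mem (Subgroup.Normal.conj_mem inferInstance r hrL w) (inv_mem hrL))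
    exact mul_inv_eq_iff_eq_mul.1 (mul_inv_eq_one.1 this)
  have hrc : u₁ * v₁ * u₁⁻¹ * v₁⁻¹ = r := by
    have h1 : pr y (u₁ * v₁ * u₁⁻¹ * v₁⁻¹ * r⁻¹) = 1 := by
      rw [map_mul, map_mul, map_mul, map_mul, map_inv, map_inv, map_inv, hu₁, hv₁, hrla,
        mul_inv_eq_one]
      rw [← e.symm_apply_apply (a : CY y ⧸ N y), ← huv]
      simp only [map_mul, map_inv]
    have := hN0 _ ((QuotientGroup.eq_one_iff _).1 h1) (mul_mem
      (mul_mem (mul_mem (mul_mem hu₁L hv₁L) (inv_mem hu₁L)) (inv_mem hv₁L)) (inv_mem hrL))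
    exact mul_inv_eq_one.1 this
  have hu₁r := hcommr u₁ u₀ hu₁L hu₁ hu₀
  have hv₁r := hcommr v₁ v₀ hv₁L hv₁ hv₀
  -- `r` is conjugate to `y^±`
  obtain ⟨xw, yw, qW, -⟩ := Y.exists_quat_W
  have hqxx : (qx : G) * qx = z :=
    congrArg Subtype.val (embC_inj Y (a₁ := qx * qx) (a₂ := ⟨z, Y.ext_Q₀.mem⟩)
      (by rw [map_mul]; exact hxx))
  set t' := (qx : G) * xw with ht'
  have hcW : Commute (qx : G) xw := Y.comm_W qx.2 qW.hx
  have hxw : xw ∈ Q := Y.W_le qW.hx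
  have hS : SuzTypeCoord62.Sing Q z t' := by
    have key : ∀ c, (c = 1 ∨ c = z) → t' ≠ c := by
      intro c hc h
      have hm : (qx : G) ∈ ⁅Q, zpowers y⁆ := by
        rw [eq_mul_inv_of_mul_eq h]
        refine mul_mem ?_ (inv_mem qW.hx)
        rcases hc with e' | e' <;> rw [e']
        exacts [one_mem _, Y.z_mem_W]
      rcases Y.inter qx.2 hm with e' | e' <;> rw [e'] at hqxx
      · exact Y.H.h.ne_one (by rw [← hqxx, one_mul])
      · exact Y.H.h.ne_one (hqxx.symm.trans Y.H.h.zz)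
    refine ⟨Q.mul_mem qx.2.1 hxw, ?_, key 1 (Or.inl rfl), key z (Or.inr rfl)⟩
    rw [ht', hcW.symm.mul_mul_mul_comm, hqxx, qW.xx, Y.H.h.zz]
  have hrt : (r : G) * t' = t' * r :=
    ((show Commute (r : G) qx from hqcomm qx hxa).mul_right (hrW xw qW.hx)).eq
  obtain ⟨t₀, ht₀, hyt₀⟩ := Y.exists_sing
  obtain ⟨γ, hγz, hγ⟩ := Y.H.transitive hS ht₀
  have hγS : γ * (r : G) * γ⁻¹ ∈ SuzTypeCoord62.Sx z t₀ := SuzTypeCoord62.mem_Sx.2
    ⟨(((show Commute γ z from hγz).mul_left hrz).mul_left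
      (show Commute γ z from hγz).inv_left).eq, by
      rw [← hγ]
      calc γ * r * γ⁻¹ * (γ * t' * γ⁻¹) = γ * ((r : G) * t') * γ⁻¹ := by group
        _ = γ * (t' * r) * γ⁻¹ := by rw [hrt]
        _ = γ * t' * γ⁻¹ * (γ * r * γ⁻¹) := by group⟩
  have hr1 : (r : G) ≠ 1 := fun h => ha1 (Subtype.ext (by
    rw [← hrla, show r = 1 from Subtype.ext h, map_one]; rfl))
  obtain ⟨s, -, hs⟩ := conj_three_sub (Y.nine ht₀) hγS (Y.mem_Sx hyt₀)
    (by rw [conj_pow, hr3, mul_one, mul_inv_cancel]) (fun h => hr1 (conj_eq_one_iff.1 h)) Y.y3 Y.y1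
  set δ := s * γ with hδ
  have hδr : δ * r * δ⁻¹ = y ∨ δ * r * δ⁻¹ = y⁻¹ := by
    have e1 : δ * r * δ⁻¹ = s * (γ * r * γ⁻¹) * s⁻¹ := by rw [hδ]; group
    rw [e1]; exact hs
  have hδmem : ∀ w : CY y, Commute w r → δ * (w : G) * δ⁻¹ ∈ CY y := by
    intro w hw
    have hc : Commute (δ * (w : G) * δ⁻¹) (δ * (r : G) * δ⁻¹) := by
      show _ = _
      calc δ * (w : G) * δ⁻¹ * (δ * r * δ⁻¹) = δ * ((w : G) * r) * δ⁻¹ := by group
        _ = δ * ((r : G) * w) * δ⁻¹ := by rw [show (w : G) * r = r * w from congrArg Subtype.val hw.eq]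
        _ = _ := by group
    rcases hδr with h | h <;> rw [h] at hc
    · exact mem_CY.2 hc.eq
    · exact mem_CY.2 (by simpa using hc.inv_right.eq)
  have hδrm : δ * (r : G) * δ⁻¹ ∈ zpowers y := by
    rcases hδr with h | h <;> rw [h]
    exacts [mem_zpowers y, inv_mem (mem_zpowers y)]
  have hin : (⟨δ * (r : G) * δ⁻¹,
      (zpowers_le.2 (mem_CY.2 rfl) : zpowers y ≤ CY y) hδrm⟩ : CY y) ∈ L₀ := by
    have : (⟨δ * (r : G) * δ⁻¹, (zpowers_le.2 (mem_CY.2 rfl) : zpowers y ≤ CY y) hδrm⟩ : CY y)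
        = ⁅(⟨_, hδmem u₁ hu₁r⟩ : CY y), ⟨_, hδmem v₁ hv₁r⟩⁆ := Subtype.ext (by
      show δ * (r : G) * δ⁻¹ = δ * (u₁ : G) * δ⁻¹ * (δ * v₁ * δ⁻¹) * (δ * (u₁ : G) * δ⁻¹)⁻¹
        * (δ * v₁ * δ⁻¹)⁻¹
      rw [← hrc]
      show δ * ((u₁ : G) * v₁ * (u₁ : G)⁻¹ * (v₁ : G)⁻¹) * δ⁻¹ = _
      group)
    rw [this]
    exact commutator_mem_commutator (mem_top _) (mem_top _)
  exact hr1 (conj_eq_one_iff.1 (congrArg Subtype.val (hN0 _ (mem_subgroupOf.2 hδrm) hin)))

end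

end Cfsg.Agent.SuzY42Quotient
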