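import Mathlib
import Cfsg.Agent.Lib.SuzY42Quotient
import Cfsg.Agent.Lib.SuzTypeOrder62
import Cfsg.Agent.Lib.LargeExtraspecialSetting

/-!
The frozen hypotheses translated for the centraliser of a three-element in a group of Suzuki
sporadic type.
-/

set_option autoImplicit false

namespace Cfsg.Agent.SuzY42Main

open Subgroup Cfsg.Agent.SuzY42Setup Cfsg.Agent.SuzY42Quotient

theorem exists_yd {G : Type*} [Group G] [Finite G] {z : G} (hz : orderOf z = 2)
    (Q : Subgroup (centralizer ({z} : Set G))) [Q.Normal]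
    (hF : Cfsg.generalizedFittingSubgroup (centralizer ({z} : Set G)) = Q)
    (hQ : Cfsg.IsExtraspecial 2 Q) (hcard : Nat.card Q = 2 ^ 7)
    (e : (centralizer ({z} : Set G)) ⧸ Q ≃*
      Cfsg.Omega (ZMod 2) (Cfsg.quadFormMinus 2 (ZMod 2) 1 1))
    (hnwc : ∃ g : G, (∃ hq : g * z * g⁻¹ ∈ centralizer ({z} : Set G),
      (⟨g * z * g⁻¹, hq⟩ : centralizer ({z} : Set G)) ∈ Q) ∧ g * z * g⁻¹ ≠ z)
    (Y : Subgroup (centralizer ({z} : Set G))) (hY : Nat.card Y = 3)
    (hQY : Nat.card ↥⁅Q, Y⁆ = 8) (hna : ¬ IsMulCommutative ↥⁅Q, Y⁆) :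
    ∃ y : G, Y.map (centralizer ({z} : Set G)).subtype = zpowers y ∧
      Yd (Q.map (centralizer ({z} : Set G)).subtype) z y := by
  haveI := Fact.mk Nat.prime_three
  obtain ⟨hL, -⟩ := LargeExtraspecialSetting.lhyp_of_fitting hz Q hF hQ
  set f := (centralizer ({z} : Set G)).subtype with hf
  have hinj : Function.Injective f := Subgroup.subtype_injective _
  have hC : Nat.card (centralizer ({z} : Set G)) = 128 * 25920 := by
    rw [Subgroup.card_eq_card_quotient_mul_card_subgroup Q, Nat.card_congr e.toEquiv,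
      SuzTypeOrder62.card_omega, hcard]
    norm_num
  have H : SuzTypeCoord62.Hyp (Q.map f) z := ⟨hL, by
    rw [Subgroup.card_map_of_injective hinj, hcard]; norm_num, hC⟩
  have hcardY : Nat.card ↥(Y.map f) = 3 := by rw [Subgroup.card_map_of_injective hinj, hY]
  haveI : Nontrivial ↥(Y.map f) := Finite.one_lt_card_iff_nontrivial.1 (by omega)
  obtain ⟨⟨y, hy⟩, hy1⟩ := exists_ne (1 : ↥(Y.map f))
  have hy1' : y ≠ 1 := fun h => hy1 (Subtype.ext h)
  have hy3 : y ^ 3 = 1 := by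
    have := pow_card_eq_one' (x := (⟨y, hy⟩ : ↥(Y.map f)))
    rw [hcardY] at this
    exact congrArg Subtype.val this
  have hzp : Y.map f = zpowers y := (Subgroup.eq_of_le_of_card_ge (zpowers_le.2 hy)
    (by rw [Nat.card_zpowers, orderOf_eq_prime hy3 hy1', hcardY])).symm
  have hcomm : (⁅Q, Y⁆).map f = ⁅Q.map f, zpowers y⁆ := by rw [map_commutator, hzp]
  obtain ⟨g, ⟨hq, hgQ⟩, hgz⟩ := hnwc
  refine ⟨y, hzp, ⟨H, ⟨g, ⟨_, hgQ, rfl⟩, hgz⟩, hy3, hy1', ?_, ?_, ?_⟩⟩
  · obtain ⟨c, -, rfl⟩ := hy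
    exact mem_centralizer_singleton_iff.1 c.2
  · rw [← hcomm, Subgroup.card_map_of_injective hinj, hQY]
  · by_contra hcon
    push Not at hcon
    refine hna ⟨⟨fun a b => Subtype.ext (hinj ?_)⟩⟩
    simp only [Subgroup.coe_mul, map_mul]
    exact hcon _ (hcomm ▸ mem_map_of_mem f a.2) _ (hcomm ▸ mem_map_of_mem f b.2)

theorem concl {G : Type*} [Group G] [Finite G] {Q : Subgroup G} {z y : G} (Y : Yd Q z y)
    (Y' : Subgroup G) (hY' : Y' = zpowers y)
    [(Y'.subgroupOf (centralizer (Y' : Set G))).Normal]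
    {K : Type} [Field K] [Fintype K] (hK : Fintype.card K = 9)
    (hiso : Nonempty (CY y ⧸ N y ≃* Cfsg.PSU 4 K 3)) :
    Cfsg.IsQuasisimple ↥(centralizer (Y' : Set G)) ∧
      Nonempty (↥(centralizer (Y' : Set G)) ⧸ Y'.subgroupOf (centralizer (Y' : Set G)) ≃*
        Cfsg.PSU 4 K 3) ∧
      (centralizer (Y' : Set G)).relIndex (normalizer (Y' : Set G)) = 2 := by
  subst hY'
  obtain ⟨e⟩ := hiso
  exact ⟨quasisimple Y hK e, ⟨e⟩, relIndex_two Y⟩

end Cfsg.Agent.SuzY42Main
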