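import Cfsg.Agent.Lib.U43Type38Three33
import Cfsg.Agent.Lib.CoprimeGen

/-!
In a finite group with the centraliser of an involution of unitary type in dimension four over
nine elements there is a fifth element satisfying all relations of the five generators.
-/

set_option autoImplicit false

namespace Cfsg.Agent.U43Type38Amalgam33

open Cfsg.Agent.U43Type38 Cfsg.Agent.U43Type38Cent42 Cfsg.Agent.U43Type38Nodes33
  Cfsg.Agent.U43Type38Bridge33 Cfsg.Agent.U43Type38Fusion33 Cfsg.Agent.U43Type38Three33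
open scoped Pointwise

universe u

theorem setCP_ok : setOk [576, 48, 48, 4, 4] centP (wordIn [576, 48, 48, 4, 4]) = true := by
  decide +kernel

theorem normP_conj_ok : allB (fun i => !(listP.contains (cj i 48) && listP.contains (cj i 4)) ||
    [52, 104, 56, 100].all fun j => [j, mul j j].contains (cj i j)) = true := by decide +kernel

theorem genF_ok : (listP.all fun u => [0, 52, 104].contains u ||
    [0, 52, 104].any fun j => mul u j == 56 || mul (mul u u) j == 56) = true := by decide +kernel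

variable {G : Type u} [Group G] [Finite G] {g : Gens G} (h : Loc g)
include h

/-- The subgroup of order nine. -/
noncomputable def P9 : Subgroup G := sub h genP

theorem El_mem_P {i : Nat} (hi : i < 1152) : El h i ∈ P9 h ↔ i ∈ listP :=
  El_mem_sub_iff h setP_ok hi

theorem exists_mem_P {t : G} (ht : t ∈ P9 h) : ∃ i ∈ listP, i < 1152 ∧ El h i = t := by
  obtain ⟨i, hi, e⟩ := (mem_sub_iff h setP_ok).mp ht
  exact ⟨i, hi, (setOk_spec setP_ok).2.2.1 i hi, e⟩

theorem card_P : Nat.card (P9 h) = 3 ^ 2 := by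
  rw [P9, card_sub h setP_ok, cards_ok.2.2.1]; rfl

theorem commute_P {s t : G} (hs : s ∈ P9 h) (ht : t ∈ P9 h) : Commute s t := by
  obtain ⟨i, hi, hi', rfl⟩ := exists_mem_P h hs
  obtain ⟨j, hj, hj', rfl⟩ := exists_mem_P h ht
  have := List.all_eq_true.mp abelP_ok i hi
  simp only [Bool.and_eq_true, List.all_eq_true] at this
  exact (com_iff h hi' hj').mp (this.2 j hj)

theorem cube_P {t : G} (ht : t ∈ P9 h) : t ^ 3 = 1 := by
  obtain ⟨i, hi, hi', rfl⟩ := exists_mem_P h ht
  have := List.all_eq_true.mp abelP_ok i hi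
  simp only [Bool.and_eq_true, beq_iff_eq] at this
  rw [pow_succ, pow_two, ← El_mul h hi' hi', ← El_mul h (mul_lt _ hi') hi', this.1, El_zero]

theorem b_mem_P : g.b ∈ P9 h := El_b h ▸ (El_mem_P h (by norm_num)).mpr (by decide)

theorem b'_mem_P : g.b' ∈ P9 h := El_b' h ▸ (El_mem_P h (by norm_num)).mpr (by decide)

theorem d_mem_P : g.d ∈ P9 h := El_d h ▸ (El_mem_P h (by norm_num)).mpr (by decide)

theorem f_mem_P : g.f ∈ P9 h := El_f h ▸ (El_mem_P h (by norm_num)).mpr (by decide)

/-- An element of the centraliser of `b` and `b'` commutes with the subgroup of order nine. -/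
theorem commute_of_bb' {c t : G} (h1 : Commute c g.b) (h2 : Commute c g.b') (ht : t ∈ P9 h) :
    Commute c t := by
  have hle : P9 h ≤ Subgroup.centralizer ({c} : Set G) := by
    rw [P9, sub, Subgroup.closure_le]
    rintro _ ⟨i, hi, rfl⟩
    rw [SetLike.mem_coe, Subgroup.mem_centralizer_iff]
    rintro y rfl
    simp only [genP, List.mem_cons, List.not_mem_nil, or_false] at hi
    rcases hi with rfl | rfl | rfl | rfl <;> first
      | (rw [El_b]; exact h1.eq)
      | (rw [El_b']; exact h2.eq)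
  exact Subgroup.mem_centralizer_iff.mp (hle ht) c rfl

/-- The centraliser of a conjugate of `b` contains no four group. -/
theorem not_isConj_b {t r s : G} (hr : r * r = 1) (hr1 : r ≠ 1) (hs : s * s = 1) (hs1 : s ≠ 1)
    (hrs : Commute r s) (hne : r ≠ s) (htr : Commute t r) (hts : Commute t s) :
    ¬ IsConj t g.b := by
  intro hc
  obtain ⟨k, hk⟩ := isConj_iff.mp hc
  have mem : ∀ {y : G}, Commute t y → k * y * k⁻¹ ∈ Subgroup.centralizer ({g.b} : Set G) := by
    intro y hy
    rw [Subgroup.mem_centralizer_iff]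
    rintro _ rfl
    rw [← hk]
    exact (hy.map (MulAut.conj k).toMonoidHom).eq
  have hsq : ∀ {y : G}, y * y = 1 → k * y * k⁻¹ * (k * y * k⁻¹) = 1 := fun {y} hy => by
    rw [conj_mul, hy]; group
  refine hne (mul_left_cancel (mul_right_cancel (eq_of_commute_of_isolated (z := g.z) ?_
    (sq_z h) (z_ne_one h) ?_ (mem htr) (mem hts) (hsq hr) (fun e => hr1 (conj_eq_one_iff.mp e))
    (hsq hs) (fun e => hs1 (conj_eq_one_iff.mp e)) (hrs.map (MulAut.conj k).toMonoidHom))))
  · rw [Subgroup.mem_centralizer_iff]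
    rintro _ rfl
    exact h.rels.bz.eq
  · intro y hy hy2 hyz
    obtain ⟨i, hi, rfl⟩ := exists_node h hyz
    have hc : com i 48 = true := by
      rw [com_iff h hi (by norm_num), El_b]
      exact (Subgroup.mem_centralizer_iff.mp hy g.b rfl).symm
    have := List.all_eq_true.mp centB_ok i (mem_invs h hi hy2)
    simp only [hc, Bool.not_true, Bool.false_or, Bool.or_eq_true, beq_iff_eq] at this
    rcases this with rfl | rfl
    · exact Or.inl (El_zero h)
    · exact Or.inr (El_z h)

theorem isConj_d {x : G} (hx : x ∈ Subgroup.normalizer (A h : Set G)) (hx3 : x ^ 3 = 1)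
    (hx1 : x ≠ 1) (hxw : Commute x g.w) : IsConj x g.d := by
  obtain ⟨k, hk, e⟩ := exists_normalizer_conj h (w_mem_A h) (w_ne_one h)
  have hyz : Commute (k * x * k⁻¹) g.z := e ▸ (hxw.map (MulAut.conj k).toMonoidHom)
  obtain ⟨i, hi, hiy⟩ := exists_node h hyz
  have hn : normA i = true := by
    simp only [normA, List.all_eq_true, List.contains_iff_mem]
    intro y hy
    have hy' : y < 1152 := (setOk_spec setA_ok).2.1 y hy
    rw [← El_mem_A h (cj_lt _ hi), El_cj h hi hy', hiy]
    exact (Subgroup.mem_normalizer_iff.mp (mul_mem (mul_mem hk hx) (inv_mem hk)) _).mp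
      (Subgroup.subset_closure ⟨y, hy, rfl⟩)
  have h3 : mul (mul i i) i = 0 := by
    refine El_inj h (mul_lt _ (mul_lt _ hi)) (by norm_num) ?_
    rw [El_mul h (mul_lt _ hi) hi, El_mul h hi hi, hiy, ← pow_two, ← pow_succ, conj_pow, hx3,
      El_zero]
    simp
  have hi0 : i ≠ 0 := by
    rintro rfl
    rw [El_zero] at hiy
    exact hx1 (conj_eq_one_iff.mp hiy.symm)
  have := allB_spec three_ok hi
  simp only [h3, hn, beq_self_eq_true, Bool.and_self, Bool.not_true, Bool.false_or,
    Bool.or_eq_true, beq_iff_eq, Bool.and_eq_true, decide_eq_true_eq, List.contains_iff_mem,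
    List.mem_cons, List.not_mem_nil, or_false] at this
  obtain ⟨hc, hm⟩ := this.resolve_left hi0
  have h1 : IsConj x (El h (cj ((threeWit.lookup i).getD 0) i)) :=
    (isConj_iff.mpr ⟨k, hiy.symm⟩).trans (isConj_iff.mpr ⟨_, (El_cj h hc hi).symm⟩)
  rcases hm with e | e <;> rw [e] at h1
  · rwa [El_d] at h1
  · refine h1.trans (isConj_iff.mpr ⟨El h 2, ?_⟩)
    rw [← El_cj h (by norm_num) (by norm_num), ← El_d h]
    congr 1

/-- Elements of odd order of the centraliser commuting with `d` lie in the subgroup of order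
nine. -/
theorem mem_P_of_odd {t : G} (ht : Commute t g.z) (htd : Commute t g.d)
    (hodd : Odd (orderOf t)) : t ∈ P9 h := by
  obtain ⟨i, hi, rfl⟩ := exists_node h ht
  have h9 : El h i ^ 9 = 1 := by
    refine orderOf_dvd_iff_pow_eq_one.mp ?_
    have hmem : El h i ∈ Subgroup.centralizer ({g.z} : Set G) := by
      rw [Subgroup.mem_centralizer_iff]
      rintro y rfl
      exact (El_commute_z h hi).eq.symm
    have := orderOf_dvd_natCard (⟨El h i, hmem⟩ : Subgroup.centralizer ({g.z} : Set G))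
    rw [Subgroup.orderOf_mk, h.card] at this
    exact ((Nat.coprime_two_right.mpr hodd).pow_right 7).dvd_of_dvd_mul_left this
  have := allB_spec centD_ok hi
  simp only [(com_iff h hi (by norm_num : 52 < 1152)).mpr (by rwa [El_d h]), nine_of_pow h hi h9,
    Bool.and_self, Bool.not_true, Bool.false_or, Bool.and_eq_true, List.contains_iff_mem] at this
  exact (El_mem_P h hi).mpr this.1

/-- From a new element of the fixed points, the relation with `f`. -/
theorem fx_of_fixed {y u : G} (hyd : Commute y g.d) (hu : Commute u g.z) (hud : Commute u g.d)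
    (hodd : Odd (orderOf u)) (hfv : Commute g.f (y * u * y⁻¹)) (hnP : y * u * y⁻¹ ∉ P9 h) :
    Commute g.f (y * g.f * y⁻¹) := by
  obtain ⟨i, hiP, hi, rfl⟩ := exists_mem_P h (mem_P_of_odd h hu hud hodd)
  have hcd : Commute g.f (y * g.d * y⁻¹) := by
    rw [hyd.mul_inv_cancel]; exact commute_P h (f_mem_P h) (d_mem_P h)
  have hpow : ∀ j ∈ [0, 52, 104], j < 1152 ∧ ∃ n : ℕ, El h j = g.d ^ n := by
    intro j hj
    simp only [List.mem_cons, List.not_mem_nil, or_false] at hj
    rcases hj with rfl | rfl | rfl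
    · exact ⟨by norm_num, 0, by rw [El_zero, pow_zero]⟩
    · exact ⟨by norm_num, 1, by rw [El_d, pow_one]⟩
    · refine ⟨by norm_num, 2, ?_⟩
      rw [show (104 : Nat) = mul 52 52 by decide +kernel, El_mul h (by norm_num) (by norm_num),
        El_d, pow_two]
  have := List.all_eq_true.mp genF_ok i hiP
  simp only [Bool.or_eq_true, List.contains_iff_mem, List.any_eq_true, beq_iff_eq] at this
  rcases this with h0 | ⟨j, hj, hij⟩
  · exfalso
    obtain ⟨-, n, e⟩ := hpow i h0
    rw [e, (hyd.pow_right n).mul_inv_cancel] at hnP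
    exact hnP (pow_mem (d_mem_P h) n)
  · obtain ⟨hj', n, e⟩ := hpow j hj
    have hdn : Commute g.f (y * g.d ^ n * y⁻¹) := by rw [← conj_pow]; exact hcd.pow_right n
    rcases hij with e' | e'
    · rw [← El_f h]; nth_rewrite 2 [← e']
      rw [El_f, El_mul h hi hj', e, ← conj_mul]
      exact hfv.mul_right hdn
    · rw [← El_f h]; nth_rewrite 2 [← e']
      rw [El_f, El_mul h (mul_lt _ hi) hj', El_mul h hi hi, e, ← conj_mul, ← conj_mul]
      exact (hfv.mul_right hfv).mul_right hdn

/-- The centraliser of the subgroup of order nine is not inside the centraliser of the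
involution. -/
theorem exists_not_commute {x : G} (hxA : x ∈ Subgroup.normalizer (A h : Set G)) (hx3 : x ^ 3 = 1)
    (hxd : Commute x g.d) (hxz : x * g.z * x⁻¹ = g.p) (hxw : Commute x g.w) :
    ∃ c, Commute c g.b ∧ Commute c g.b' ∧ ¬ Commute c g.z := by
  by_contra hcon
  push Not at hcon
  haveI : Fact (Nat.Prime 3) := ⟨Nat.prime_three⟩
  have hnz : ¬ Commute x g.z := fun hc => z_ne_p h (hc.mul_inv_cancel.symm.trans hxz)
  have hPz : ∀ t ∈ P9 h, Commute t g.z := fun t ht => by
    obtain ⟨i, -, hi, rfl⟩ := exists_mem_P h ht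
    exact El_commute_z h hi
  have hN : Subgroup.normalizer (P9 h : Set G) ≤ Subgroup.centralizer ({g.z} : Set G) := by
    intro n hn
    have hcomm : ∀ t ∈ P9 h, Commute (n * g.z * n⁻¹) t := fun t ht => by
      have := (hPz _ ((Subgroup.mem_normalizer_iff''.mp hn t).mp ht)).symm.map
        (MulAut.conj n).toMonoidHom
      simpa [mul_assoc] using this
    have hz' : Commute (n * g.z * n⁻¹) g.z :=
      hcon _ (hcomm _ (b_mem_P h)) (hcomm _ (b'_mem_P h))
    obtain ⟨i, hi, e⟩ := exists_node h hz'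
    have hc : com i 48 = true := by
      rw [com_iff h hi (by norm_num), El_b, e]; exact hcomm _ (b_mem_P h)
    have hi2 : El h i * El h i = 1 := by rw [e, conj_mul, sq_z h]; group
    have := List.all_eq_true.mp centB_ok i (mem_invs h hi hi2)
    simp only [hc, Bool.not_true, Bool.false_or, Bool.or_eq_true, beq_iff_eq] at this
    rw [Subgroup.mem_centralizer_iff]
    rintro _ rfl
    rcases this with rfl | rfl
    · rw [El_zero] at e
      exact absurd (conj_eq_one_iff.mp e.symm) (z_ne_one h)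
    · rw [El_z] at e
      exact (mul_inv_eq_iff_eq_mul.mp e.symm).symm
  obtain ⟨S, hS⟩ := exists_sylow_of_not_dvd (card_P h)
    (not_dvd_of_normalizer_le (card_P h) hN (by rw [h.card]; decide))
  have hpair : IsPGroup 3 (CoprimeGen.pairSubgroup g.d x hxd.symm) := by
    have hd := CoprimeGen.card_pairSubgroup_dvd g.d x hxd.symm
    rw [orderOf_d h] at hd
    obtain ⟨j, -, e⟩ := (Nat.dvd_prime_pow Nat.prime_three).mp
      (hd.trans (mul_dvd_mul_left 3 (orderOf_dvd_of_pow_eq_one hx3)) : _ ∣ 3 ^ 2)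
    exact IsPGroup.of_card e
  obtain ⟨S', hS'⟩ := hpair.exists_le_sylow
  obtain ⟨k, hk⟩ := MulAction.exists_smul_eq G S' S
  have himg : ∀ t ∈ (S' : Subgroup G), k * t * k⁻¹ ∈ P9 h := fun t ht => by
    have : k * t * k⁻¹ ∈ ((k • S' : Sylow 3 G) : Subgroup G) := ⟨t, ht, rfl⟩
    rwa [hk, hS] at this
  have hd' := himg _ (hS' (CoprimeGen.left_mem_pairSubgroup _ _ _))
  have hx' := himg _ (hS' (CoprimeGen.right_mem_pairSubgroup _ _ _))
  have hx1 : x ≠ 1 := fun e => hnz (e ▸ Commute.one_left _)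
  -- neither is conjugate to one of `b`, `b'` or their inverses
  have cases4 : ∀ {t r s : G}, t ∈ (S' : Subgroup G) → t ≠ 1 → r * r = 1 → r ≠ 1 → s * s = 1 →
      s ≠ 1 → Commute r s → r ≠ s → Commute t r → Commute t s →
      ∃ j ∈ [52, 104, 56, 100], El h j = k * t * k⁻¹ := by
    intro t r s ht ht1 hr hr1 hs hs1 hrs hne htr hts
    obtain ⟨j, hjP, hj, e⟩ := exists_mem_P h (himg t ht)
    have hb := not_isConj_b h hr hr1 hs hs1 hrs hne htr hts
    have hbi := not_isConj_b h (t := t⁻¹) hr hr1 hs hs1 hrs hne htr.inv_left hts.inv_left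
    have hconj : IsConj t (El h j) := e ▸ isConj_iff.mpr ⟨k, rfl⟩
    have hconj' : IsConj t⁻¹ (El h j)⁻¹ := e ▸ isConj_iff.mpr ⟨k, by group⟩
    have hbb : IsConj g.b' g.b := isConj_iff.mpr ⟨g.p, by
      have := sq_p h
      rw [p_inv h.rels, Gens.b']
      simp [← mul_assoc, this]; simp [mul_assoc, this]⟩
    have hinv : ∀ i, i < 1152 → mul i j = 0 → (El h j)⁻¹ = El h i := fun i hi e' =>
      inv_eq_of_mul_eq_one_left (by rw [← El_mul h hi hj, e', El_zero])
    simp only [listP, List.mem_cons, List.not_mem_nil, or_false] at hjP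
    rcases hjP with rfl | rfl | rfl | rfl | rfl | rfl | rfl | rfl | rfl
    · rw [El_zero] at e; exact absurd (conj_eq_one_iff.mp e.symm) ht1
    · rw [El_b] at hconj; exact absurd hconj hb
    · rw [El_b'] at hconj; exact absurd (hconj.trans hbb) hb
    · rw [hinv 48 (by norm_num) (by decide +kernel), El_b] at hconj'; exact absurd hconj' hbi
    · exact ⟨52, by decide, e⟩
    · rw [hinv 4 (by norm_num) (by decide +kernel), El_b'] at hconj'
      exact absurd (hconj'.trans hbb) hbi
    · exact ⟨100, by decide, e⟩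
    · exact ⟨56, by decide, e⟩
    · exact ⟨104, by decide, e⟩
  have hzp : g.z ≠ g.p := z_ne_p h
  obtain ⟨jd, hjd, ejd⟩ := cases4 (hS' (CoprimeGen.left_mem_pairSubgroup _ _ _)) (d_ne_one h)
    (sq_z h) (z_ne_one h) (sq_p h) (p_ne_one h) (commute_p_z h).symm hzp (commute_d_z h)
    (commute_d_p h)
  have hw1 : g.d * g.w * g.d⁻¹ ∈ A h :=
    (Subgroup.mem_normalizer_iff.mp (d_mem_normalizer h) _).mp (w_mem_A h)
  obtain ⟨jx, hjx, ejx⟩ := cases4 (hS' (CoprimeGen.right_mem_pairSubgroup _ _ _)) hx1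
    (sq_A h (w_mem_A h)) (w_ne_one h) (sq_A h hw1) (fun e => w_ne_one h (conj_eq_one_iff.mp e))
    (commute_A h (w_mem_A h) hw1) (fun e => by
      rw [← El_w1 h, ← El_w h] at e
      exact absurd (El_inj h (by norm_num) (by norm_num) e) (by norm_num))
    hxw ((hxd.mul_right hxw).mul_right hxd.inv_right)
  -- fusion in the normaliser
  obtain ⟨t, ht⟩ := isConj_iff.mp (isConj_d h hxA hx3 hx1 hxw).symm
  haveI : IsMulCommutative (S : Subgroup G) := ⟨⟨fun a b => Subtype.ext
    (commute_P h (hS ▸ a.2) (hS ▸ b.2)).eq⟩⟩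
  obtain ⟨n, hn, hne⟩ := S.conj_eq_normalizer_conj_of_mem (k * g.d * k⁻¹) (k * t⁻¹ * k⁻¹)
    (by show k * g.d * k⁻¹ ∈ (S : Subgroup G); rw [hS]; exact hd') (by
      show _ ∈ (S : Subgroup G)
      rw [hS]
      convert hx' using 1
      rw [← ht]; group)
  replace hn : n ∈ Subgroup.normalizer (P9 h : Set G) := by
    rw [← hS]; exact hn
  have hn' : n⁻¹ ∈ Subgroup.normalizer (P9 h : Set G) := inv_mem hn
  obtain ⟨i, hi, ei⟩ := exists_node h
    ((Subgroup.mem_centralizer_iff.mp (hN hn') g.z rfl).symm : Commute n⁻¹ g.z)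
  have hPi : ∀ y, y < 1152 → El h y ∈ P9 h → cj i y ∈ listP := fun y hy hm => by
    rw [← El_mem_P h (cj_lt _ hi), El_cj h hi hy, ei]
    exact (Subgroup.mem_normalizer_iff.mp hn' _).mp hm
  have hnp := allB_spec normP_conj_ok hi
  simp only [List.contains_iff_mem.mpr (hPi 48 (by norm_num) (El_b h ▸ b_mem_P h)),
    List.contains_iff_mem.mpr (hPi 4 (by norm_num) (El_b' h ▸ b'_mem_P h)), Bool.and_self,
    Bool.not_true, Bool.false_or, List.all_eq_true, List.contains_iff_mem, List.mem_cons,
    List.not_mem_nil, or_false] at hnp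
  have hjd' : jd < 1152 := by
    simp only [List.mem_cons, List.not_mem_nil, or_false] at hjd
    rcases hjd with rfl | rfl | rfl | rfl <;> norm_num
  have hxeq : k * x * k⁻¹ = El h (cj i jd) := by
    rw [El_cj h hi hjd', ejd, ei, inv_inv, ← hne, ← ht]; group
  have hzpow : k * x * k⁻¹ ∈ Subgroup.zpowers (k * g.d * k⁻¹) := by
    rcases hnp jd (by simpa using hjd) with e | e <;> rw [hxeq, e, ← ejd]
    · exact Subgroup.mem_zpowers _
    · rw [El_mul h hjd' hjd']
      exact mul_mem (Subgroup.mem_zpowers _) (Subgroup.mem_zpowers _)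
  obtain ⟨q, hq⟩ := Subgroup.mem_zpowers_iff.mp hzpow
  rw [conj_zpow] at hq
  have hxq : g.d ^ q = x := mul_left_cancel (mul_right_cancel hq)
  exact hnz (hxq ▸ (commute_d_z h).zpow_left q)

/-- A new element of odd order centralising the subgroup of order nine and `p` or `z p`. -/
theorem exists_fixed {x : G} (hxA : x ∈ Subgroup.normalizer (A h : Set G)) (hx3 : x ^ 3 = 1)
    (hxd : Commute x g.d) (hxz : x * g.z * x⁻¹ = g.p) (hxw : Commute x g.w) :
    ∃ v, Commute v g.b ∧ Commute v g.b' ∧ Odd (orderOf v) ∧ v ∉ P9 h ∧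
      (Commute v g.p ∨ Commute v (g.z * g.p)) := by
  haveI : Fact (Nat.Prime 2) := ⟨Nat.prime_two⟩
  obtain ⟨c₀, hc₀b, hc₀b', hc₀z⟩ := exists_not_commute h hxA hx3 hxd hxz hxw
  set C := Subgroup.centralizer ({g.b, g.b'} : Set G) with hC
  have memC : ∀ {c : G}, c ∈ C ↔ Commute c g.b ∧ Commute c g.b' := fun {c} => by
    rw [hC, Subgroup.mem_centralizer_iff]
    simp only [Set.mem_insert_iff, Set.mem_singleton_iff, forall_eq_or_imp, forall_eq]
    exact ⟨fun ⟨a, b⟩ => ⟨a.symm, b.symm⟩, fun ⟨a, b⟩ => ⟨a.eq.symm, b.eq.symm⟩⟩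
  have hzC : g.z ∈ C := memC.mpr ⟨h.rels.bz.symm, by
    rw [← El_b' h]; exact (El_commute_z h (by norm_num)).symm⟩
  set z' : C := ⟨g.z, hzC⟩
  have hz2 : orderOf z' = 2 := (Subgroup.orderOf_mk _ _).trans h.hz
  set Z := Subgroup.zpowers z' with hZ
  have hZcard : Nat.card Z = 2 ^ 1 := by rw [hZ, Nat.card_zpowers, hz2, pow_one]
  have hZmem : ∀ y ∈ Z, y = 1 ∨ y = z' := by
    intro y hy
    obtain ⟨n, hn⟩ := Subgroup.mem_zpowers_iff.mp hy
    rw [← zpow_mod_orderOf, hz2] at hn
    rcases Int.emod_two_eq n with e | e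
    · left; rw [← hn]; simp [e]
    · right; rw [← hn]; simp [e]
  have hNZ : Subgroup.normalizer (Z : Set C) ≤ Subgroup.centralizer ({z'} : Set C) := by
    intro n hn
    rw [Subgroup.mem_centralizer_iff]
    rintro _ rfl
    rcases hZmem _ ((Subgroup.mem_normalizer_iff.mp hn z').mp (Subgroup.mem_zpowers z')) with
      e | e
    · exact absurd (conj_eq_one_iff.mp e) (fun e' => by rw [e', orderOf_one] at hz2; omega)
    · exact (mul_inv_eq_iff_eq_mul.mp e).symm
  have hcard : Nat.card (Subgroup.centralizer ({z'} : Set C)) ∣ 18 := by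
    have hle : (Subgroup.centralizer ({z'} : Set C)).map C.subtype ≤
        sub h [576, 48, 48, 4, 4] := by
      rintro _ ⟨y, hy, rfl⟩
      have hyz : Commute (y : G) g.z :=
        (congrArg Subtype.val (Subgroup.mem_centralizer_iff.mp hy z' rfl)).symm
      obtain ⟨i, hi, e⟩ := exists_node h hyz
      obtain ⟨h1, h2⟩ := memC.mp y.2
      have hc1 := (com_iff h hi (by norm_num : 48 < 1152)).mpr (by rwa [El_b h, e])
      have hc2 := (com_iff h hi (by norm_num : 4 < 1152)).mpr (by rwa [El_b' h, e])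
      have := allB_spec centP_ok hi
      simp only [hc1, hc2, Bool.and_self, Bool.not_true, Bool.false_or,
        List.contains_iff_mem] at this
      show (y : G) ∈ _
      rw [← e]
      exact (El_mem_sub_iff h setCP_ok hi).mpr this
    have := Subgroup.card_dvd_of_le hle
    rw [card_sub h setCP_ok,
      Subgroup.card_map_of_injective C.subtype_injective] at this
    exact this
  obtain ⟨S, hS⟩ := exists_sylow_of_not_dvd hZcard
    (not_dvd_of_normalizer_le hZcard hNZ fun hd => absurd (hd.trans hcard) (by decide))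
  have hle : Subgroup.normalizer ((S : Subgroup C) : Set C) ≤
      Subgroup.centralizer ((S : Subgroup C) : Set C) := by
    rw [hS]
    intro n hn
    have hn' := Subgroup.mem_centralizer_iff.mp (hNZ hn) z' rfl
    rw [Subgroup.mem_centralizer_iff]
    intro y hy
    rcases hZmem y hy with rfl | rfl
    · simp
    · exact hn'
  set φ := MonoidHom.transferSylow S hle
  have hodd : Odd (Nat.card φ.ker) := by
    rw [Nat.odd_iff, ← Nat.two_dvd_ne_zero]
    exact MonoidHom.not_dvd_card_ker_transferSylow S hle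
  have hker : ∀ y : C, y ∈ φ.ker ↔ Odd (orderOf y) := by
    intro y
    constructor
    · intro hy
      have := orderOf_dvd_natCard (⟨y, hy⟩ : φ.ker)
      rw [Subgroup.orderOf_mk] at this
      exact Odd.of_dvd_nat hodd this
    · intro hy
      rw [MonoidHom.mem_ker, ← orderOf_eq_one_iff]
      have h2 : orderOf (φ y) ∣ 2 := by
        have := orderOf_dvd_natCard (φ y)
        have hSc : Nat.card (S : Subgroup C) = 2 := by rw [hS, hZcard, pow_one]
        rwa [hSc] at this
      exact Nat.eq_one_of_dvd_coprimes (Nat.coprime_two_right.mpr hy)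
        (orderOf_map_dvd φ y) h2
  set W := φ.ker.map C.subtype with hW
  have memW : ∀ {y : G}, y ∈ W ↔ y ∈ C ∧ Odd (orderOf y) := by
    intro y
    constructor
    · rintro ⟨y, hy, rfl⟩
      exact ⟨y.2, by rw [Subgroup.coe_subtype, Subgroup.orderOf_coe]; exact (hker y).mp hy⟩
    · rintro ⟨hy, ho⟩
      exact ⟨⟨y, hy⟩, (hker _).mpr (by rwa [Subgroup.orderOf_mk]), rfl⟩
  have hnorm : ∀ e : G, (∀ y ∈ C, e * y * e⁻¹ ∈ C) → e ∈ Subgroup.normalizer (W : Set G) := by
    intro e he
    refine Subgroup.mem_normalizer_fintype fun y hy => ?_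
    obtain ⟨h1, h2⟩ := memW.mp hy
    refine memW.mpr ⟨he y h1, ?_⟩
    rwa [show orderOf (e * y * e⁻¹) = orderOf y from (MulAut.conj e).orderOf_eq y]
  have hpC : ∀ y ∈ C, g.p * y * g.p⁻¹ ∈ C := by
    intro y hy
    obtain ⟨h1, h2⟩ := memC.mp hy
    have pp := sq_p h
    have e1 : g.p * g.b' * g.p⁻¹ = g.b := by
      rw [p_inv h.rels, Gens.b']; simp [← mul_assoc, pp]; simp [mul_assoc, pp]
    have e2 : g.p * g.b * g.p⁻¹ = g.b' := by rw [p_inv h.rels]; rfl
    exact memC.mpr ⟨e1 ▸ h2.map (MulAut.conj g.p).toMonoidHom,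
      e2 ▸ h1.map (MulAut.conj g.p).toMonoidHom⟩
  have hpair : CoprimeGen.IsPairAction 2 g.p g.z W :=
    { comm := commute_p_z h
      pow_left := h.rels.p2
      pow_right := by rw [pow_two]; exact sq_z h
      right_ne := z_ne_one h
      left_not_mem := fun hm => by
        obtain ⟨n, hn⟩ := Subgroup.mem_zpowers_iff.mp hm
        rw [← zpow_mod_orderOf, h.hz] at hn
        rcases Int.emod_two_eq n with e | e
        · exact p_ne_one h (by rw [← hn]; simp [e])
        · exact z_ne_p h (by rw [← hn]; simp [e])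
      mem_left := hnorm _ hpC
      mem_right := hnorm _ fun y hy => mul_mem (mul_mem hzC hy) (inv_mem hzC) }
  by_contra hcon
  push Not at hcon
  have h2W : ¬ 2 ∣ Nat.card W := by
    rw [hW, Subgroup.card_map_of_injective C.subtype_injective]
    exact MonoidHom.not_dvd_card_ker_transferSylow S hle
  have hWP : W ≤ P9 h := by
    refine CoprimeGen.le_of_pair_centralizers hpair h2W fun e he he1 => ?_
    obtain ⟨m, n, rfl⟩ := CoprimeGen.mem_pairSubgroup_iff.mp he
    intro v hv
    obtain ⟨hvW, hve⟩ := Subgroup.mem_inf.mp hv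
    obtain ⟨hvC, hvo⟩ := memW.mp hvW
    obtain ⟨hvb, hvb'⟩ := memC.mp hvC
    have hve' : Commute v (g.p ^ m * g.z ^ n) :=
      (Subgroup.mem_centralizer_iff.mp hve _ rfl).symm
    have hp2 : orderOf g.p = 2 := orderOf_eq_prime h.rels.p2 (p_ne_one h)
    rw [← zpow_mod_orderOf g.p m, hp2, ← zpow_mod_orderOf g.z n, h.hz] at he1 hve'
    rcases Int.emod_two_eq m with em | em <;> rcases Int.emod_two_eq n with en | en <;>
      simp only [Nat.cast_ofNat, em, en, zpow_zero, zpow_one, one_mul, mul_one, ne_eq,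
        not_true_eq_false] at he1 hve'
    · exact mem_P_of_odd h hve' (commute_of_bb' h hvb hvb' (d_mem_P h)) hvo
    · by_contra hnP
      exact (hcon v hvb hvb' hvo hnP).1 hve'
    · by_contra hnP
      exact (hcon v hvb hvb' hvo hnP).2 ((commute_p_z h).eq ▸ hve')
  -- then every element of the centraliser commutes with the involution
  refine hc₀z ?_
  have hWz : ∀ y ∈ W, Commute y g.z := fun y hy => by
    obtain ⟨i, -, hi, rfl⟩ := exists_mem_P h (hWP hy)
    exact El_commute_z h hi
  set c : C := ⟨c₀, memC.mpr ⟨hc₀b, hc₀b'⟩⟩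
  by_cases hck : φ c = 1
  · exact hWz c₀ ⟨c, hck, rfl⟩
  · have hz1 : φ z' ≠ 1 := fun e => by
      have := (hker z').mp e
      rw [hz2] at this
      exact absurd this (by decide)
    haveI hcard2 : Finite (S : Subgroup C) := inferInstance
    have hcz : c * z' ∈ φ.ker := by
      rw [MonoidHom.mem_ker, map_mul]
      have hval : ∀ q : (S : Subgroup C), q ≠ 1 → (q : C) = z' := fun q hq =>
        (hZmem q (hS ▸ q.2)).resolve_left fun e => hq (Subtype.ext e)
      apply Subtype.ext
      rw [Subgroup.coe_mul, hval _ hck, hval _ hz1, Subgroup.coe_one]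
      exact Subtype.ext (sq_z h)
    have := hWz _ ⟨c * z', hcz, rfl⟩
    simp only [Subgroup.coe_subtype, Subgroup.coe_mul, c, z'] at this
    have := this.mul_left (Commute.refl g.z)
    rwa [mul_assoc, sq_z h, mul_one] at this

/-- There is a fifth element satisfying all relations. -/
theorem exists_rels : ∃ x : G, ({g with x := x} : Gens G).Rels := by
  obtain ⟨x, hxA, hx3, hxd, hxz, hxp, hxw, hmx⟩ := exists_x h
  obtain ⟨v, hvb, hvb', hvo, hvP, hvzp⟩ := exists_fixed h hxA hx3 hxd hxz hxw
  have hvd : Commute v g.d := commute_of_bb' h hvb hvb' (d_mem_P h)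
  have hfv : Commute g.f v := (commute_of_bb' h hvb hvb' (f_mem_P h)).symm
  have hord : ∀ k : G, Odd (orderOf (k * v * k⁻¹)) := fun k => by
    rwa [show orderOf (k * v * k⁻¹) = orderOf v from (MulAut.conj k).orderOf_eq v]
  have hfx : Commute g.f (x * g.f * x⁻¹) := by
    rcases hvzp with hp | hp
    · refine fx_of_fixed h hxd (u := x⁻¹ * v * x) ?_ ?_ (by simpa using hord x⁻¹)
        (by simpa [mul_assoc] using hfv) (by simpa [mul_assoc] using hvP)
      · have hz : g.z = x⁻¹ * g.p * x := by rw [← hxz]; group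
        rw [hz]
        simpa [mul_assoc] using hp.map (MulAut.conj x⁻¹).toMonoidHom
      · exact (hxd.inv_left.mul_left hvd).mul_left hxd
    · have hxzp : x * (g.z * g.p) * x⁻¹ = g.z := by
        rw [← conj_mul, hxz, hxp, ← mul_assoc, (commute_p_z h).eq, mul_assoc, sq_p h, mul_one]
      have hz : Commute (x * v * x⁻¹) g.z := hxzp ▸ hp.map (MulAut.conj x).toMonoidHom
      have key := fx_of_fixed h hxd.inv_left (u := x * v * x⁻¹) hz
        ((hxd.mul_left hvd).mul_left hxd.inv_left) (hord x)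
        (by simpa [mul_assoc] using hfv) (by simpa [mul_assoc] using hvP)
      have := key.symm.map (MulAut.conj x).toMonoidHom
      simpa [mul_assoc] using this
  exact ⟨x,
    { toCentRels := ⟨h.rels.a4, h.rels.b3, h.rels.p2, h.rels.m2, h.rels.bz, h.rels.ab, h.rels.pz,
        h.rels.mz, h.rels.pm, h.rels.aa', h.rels.ab', h.rels.ba', h.rels.bb', h.rels.ma,
        h.rels.mb⟩
      x3 := hx3
      xd := hxd
      xz := hxz
      xp := hxp
      xw := hxw
      xw' := (hxd.mul_right hxw).mul_right hxd.inv_right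
      mx := hmx
      fx := hfx
      five := U43Type38Three33.five h hxA hxd hxz hxp hxw }⟩

end Cfsg.Agent.U43Type38Amalgam33
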