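import Cfsg.Agent.Lib.U43Type38Cert40Data

/-! Coset enumeration over the centraliser of the involution (index 8505) for the five generators of unitary type in dimension four over nine elements. -/

set_option autoImplicit false
set_option maxRecDepth 100000
set_option Elab.async false

namespace Cfsg.Agent.U43Type38Cert40P1

open Cfsg.Agent.CosetCertCore Cfsg.Agent.CosetCertTable Cfsg.Agent.U43Type38Cert40Data

theorem points36c : allFrom (pointOk cert 41052 table) 128 4480 = true := by
  decide +kernel

theorem points37c : allFrom (pointOk cert 41052 table) 128 4608 = true := by
  decide +kernel

theorem points38c : allFrom (pointOk cert 41052 table) 128 4736 = true := by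
  decide +kernel

theorem points39c : allFrom (pointOk cert 41052 table) 128 4864 = true := by
  decide +kernel

theorem points40c : allFrom (pointOk cert 41052 table) 128 4992 = true := by
  decide +kernel

theorem points41c : allFrom (pointOk cert 41052 table) 128 5120 = true := by
  decide +kernel

theorem points42c : allFrom (pointOk cert 41052 table) 128 5248 = true := by
  decide +kernel

theorem points43c : allFrom (pointOk cert 41052 table) 128 5376 = true := by
  decide +kernel

theorem points44c : allFrom (pointOk cert 41052 table) 128 5504 = true := by
  decide +kernel

theorem points45c : allFrom (pointOk cert 41052 table) 128 5632 = true := by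
  decide +kernel

theorem points46c : allFrom (pointOk cert 41052 table) 128 5760 = true := by
  decide +kernel

theorem points47c : allFrom (pointOk cert 41052 table) 128 5888 = true := by
  decide +kernel

theorem points48c : allFrom (pointOk cert 41052 table) 128 6016 = true := by
  decide +kernel

theorem points49c : allFrom (pointOk cert 41052 table) 128 6144 = true := by
  decide +kernel

theorem points50c : allFrom (pointOk cert 41052 table) 128 6272 = true := by
  decide +kernel

theorem points51c : allFrom (pointOk cert 41052 table) 128 6400 = true := by
  decide +kernel

theorem points52c : allFrom (pointOk cert 41052 table) 128 6528 = true := by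
  decide +kernel

theorem points53c : allFrom (pointOk cert 41052 table) 128 6656 = true := by
  decide +kernel

theorem points54c : allFrom (pointOk cert 41052 table) 128 6784 = true := by
  decide +kernel

theorem points55c : allFrom (pointOk cert 41052 table) 128 6912 = true := by
  decide +kernel

theorem points56c : allFrom (pointOk cert 41052 table) 128 7040 = true := by
  decide +kernel

theorem points57c : allFrom (pointOk cert 41052 table) 128 7168 = true := by
  decide +kernel

theorem points58c : allFrom (pointOk cert 41052 table) 128 7296 = true := by
  decide +kernel

theorem points59c : allFrom (pointOk cert 41052 table) 128 7424 = true := by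
  decide +kernel

theorem points60c : allFrom (pointOk cert 41052 table) 128 7552 = true := by
  decide +kernel

theorem points61c : allFrom (pointOk cert 41052 table) 128 7680 = true := by
  decide +kernel

theorem points62c : allFrom (pointOk cert 41052 table) 128 7808 = true := by
  decide +kernel

theorem points63c : allFrom (pointOk cert 41052 table) 128 7936 = true := by
  decide +kernel

theorem points64c : allFrom (pointOk cert 41052 table) 128 8064 = true := by
  decide +kernel

theorem points65c : allFrom (pointOk cert 41052 table) 128 8192 = true := by
  decide +kernel

theorem points66c : allFrom (pointOk cert 41052 table) 128 8320 = true := by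
  decide +kernel

theorem points67c : allFrom (pointOk cert 41052 table) 57 8448 = true := by
  decide +kernel

end Cfsg.Agent.U43Type38Cert40P1
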