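import Cfsg.Agent.Lib.U43Type38Cert40C0
import Cfsg.Agent.Lib.U43Type38Cert40C1
import Cfsg.Agent.Lib.U43Type38Cert40C2
import Cfsg.Agent.Lib.U43Type38Cert40C3
import Cfsg.Agent.Lib.U43Type38Cert40P0
import Cfsg.Agent.Lib.U43Type38Cert40P1

/-! Coset enumeration over the centraliser of the involution (index 8505) for the five generators of unitary type in dimension four over nine elements. -/

set_option autoImplicit false
set_option maxRecDepth 100000
set_option Elab.async false

namespace Cfsg.Agent.U43Type38Cert40Idx

open Cfsg.Agent.CosetCertCore Cfsg.Agent.CosetCertTable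
  Cfsg.Agent.U43Type38Cert40Data

universe u

/-- The facts hold up to `n`. -/
def Valid (n : Nat) : Prop :=
  ∀ {G X : Type u} [Group G] [MulAction G X] (g : Nat → G) (base : X),
    Ctx g base cert → AllValid g (nodeVal g base cert) cert n

theorem Valid.step {lo n : Nat} (h : Valid.{u} lo) (L : List Nat)
    (hn : (Nat.beq (lo + L.length) n && checkList cert L lo) = true) : Valid.{u} n := by
  rw [Bool.and_eq_true, Nat.beq_eq] at hn
  intro G X _ _ g base hC
  exact hn.1 ▸ checkList_sound g base hC L lo (h g base hC) hn.2

theorem valid0 : Valid.{u} 0 := fun _ _ _ _ h => absurd h (Nat.not_lt_zero _)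

theorem valid1 : Valid.{u} 256 :=
  valid0.step U43Type38Cert40C0.just0 U43Type38Cert40C0.check0

theorem valid2 : Valid.{u} 512 :=
  valid1.step U43Type38Cert40C0.just1 U43Type38Cert40C0.check1

theorem valid3 : Valid.{u} 768 :=
  valid2.step U43Type38Cert40C0.just2 U43Type38Cert40C0.check2

theorem valid4 : Valid.{u} 1024 :=
  valid3.step U43Type38Cert40C0.just3 U43Type38Cert40C0.check3

theorem valid5 : Valid.{u} 1280 :=
  valid4.step U43Type38Cert40C0.just4 U43Type38Cert40C0.check4

theorem valid6 : Valid.{u} 1536 :=
  valid5.step U43Type38Cert40C0.just5 U43Type38Cert40C0.check5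

theorem valid7 : Valid.{u} 1792 :=
  valid6.step U43Type38Cert40C0.just6 U43Type38Cert40C0.check6

theorem valid8 : Valid.{u} 2048 :=
  valid7.step U43Type38Cert40C0.just7 U43Type38Cert40C0.check7

theorem valid9 : Valid.{u} 2304 :=
  valid8.step U43Type38Cert40C0.just8 U43Type38Cert40C0.check8

theorem valid10 : Valid.{u} 2560 :=
  valid9.step U43Type38Cert40C0.just9 U43Type38Cert40C0.check9

theorem valid11 : Valid.{u} 2816 :=
  valid10.step U43Type38Cert40C0.just10 U43Type38Cert40C0.check10

theorem valid12 : Valid.{u} 3072 :=
  valid11.step U43Type38Cert40C0.just11 U43Type38Cert40C0.check11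

theorem valid13 : Valid.{u} 3328 :=
  valid12.step U43Type38Cert40C0.just12 U43Type38Cert40C0.check12

theorem valid14 : Valid.{u} 3584 :=
  valid13.step U43Type38Cert40C0.just13 U43Type38Cert40C0.check13

theorem valid15 : Valid.{u} 3840 :=
  valid14.step U43Type38Cert40C0.just14 U43Type38Cert40C0.check14

theorem valid16 : Valid.{u} 4096 :=
  valid15.step U43Type38Cert40C0.just15 U43Type38Cert40C0.check15

theorem valid17 : Valid.{u} 4352 :=
  valid16.step U43Type38Cert40C0.just16 U43Type38Cert40C0.check16

theorem valid18 : Valid.{u} 4608 :=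
  valid17.step U43Type38Cert40C0.just17 U43Type38Cert40C0.check17

theorem valid19 : Valid.{u} 4864 :=
  valid18.step U43Type38Cert40C0.just18 U43Type38Cert40C0.check18

theorem valid20 : Valid.{u} 5120 :=
  valid19.step U43Type38Cert40C0.just19 U43Type38Cert40C0.check19

theorem valid21 : Valid.{u} 5376 :=
  valid20.step U43Type38Cert40C0.just20 U43Type38Cert40C0.check20

theorem valid22 : Valid.{u} 5632 :=
  valid21.step U43Type38Cert40C0.just21 U43Type38Cert40C0.check21

theorem valid23 : Valid.{u} 5888 :=
  valid22.step U43Type38Cert40C0.just22 U43Type38Cert40C0.check22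

theorem valid24 : Valid.{u} 6144 :=
  valid23.step U43Type38Cert40C0.just23 U43Type38Cert40C0.check23

theorem valid25 : Valid.{u} 6400 :=
  valid24.step U43Type38Cert40C0.just24 U43Type38Cert40C0.check24

theorem valid26 : Valid.{u} 6656 :=
  valid25.step U43Type38Cert40C0.just25 U43Type38Cert40C0.check25

theorem valid27 : Valid.{u} 6912 :=
  valid26.step U43Type38Cert40C0.just26 U43Type38Cert40C0.check26

theorem valid28 : Valid.{u} 7168 :=
  valid27.step U43Type38Cert40C0.just27 U43Type38Cert40C0.check27

theorem valid29 : Valid.{u} 7424 :=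
  valid28.step U43Type38Cert40C0.just28 U43Type38Cert40C0.check28

theorem valid30 : Valid.{u} 7680 :=
  valid29.step U43Type38Cert40C0.just29 U43Type38Cert40C0.check29

theorem valid31 : Valid.{u} 7936 :=
  valid30.step U43Type38Cert40C0.just30 U43Type38Cert40C0.check30

theorem valid32 : Valid.{u} 8192 :=
  valid31.step U43Type38Cert40C0.just31 U43Type38Cert40C0.check31

theorem valid33 : Valid.{u} 8448 :=
  valid32.step U43Type38Cert40C0.just32 U43Type38Cert40C0.check32

theorem valid34 : Valid.{u} 8704 :=
  valid33.step U43Type38Cert40C0.just33 U43Type38Cert40C0.check33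

theorem valid35 : Valid.{u} 8960 :=
  valid34.step U43Type38Cert40C0.just34 U43Type38Cert40C0.check34

theorem valid36 : Valid.{u} 9216 :=
  valid35.step U43Type38Cert40C0.just35 U43Type38Cert40C0.check35

theorem valid37 : Valid.{u} 9472 :=
  valid36.step U43Type38Cert40C0.just36 U43Type38Cert40C0.check36

theorem valid38 : Valid.{u} 9728 :=
  valid37.step U43Type38Cert40C0.just37 U43Type38Cert40C0.check37

theorem valid39 : Valid.{u} 9984 :=
  valid38.step U43Type38Cert40C0.just38 U43Type38Cert40C0.check38

theorem valid40 : Valid.{u} 10240 :=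
  valid39.step U43Type38Cert40C0.just39 U43Type38Cert40C0.check39

theorem valid41 : Valid.{u} 10496 :=
  valid40.step U43Type38Cert40C0.just40 U43Type38Cert40C0.check40

theorem valid42 : Valid.{u} 10752 :=
  valid41.step U43Type38Cert40C0.just41 U43Type38Cert40C0.check41

theorem valid43 : Valid.{u} 11008 :=
  valid42.step U43Type38Cert40C1.just42 U43Type38Cert40C1.check42

theorem valid44 : Valid.{u} 11264 :=
  valid43.step U43Type38Cert40C1.just43 U43Type38Cert40C1.check43

theorem valid45 : Valid.{u} 11520 :=
  valid44.step U43Type38Cert40C1.just44 U43Type38Cert40C1.check44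

theorem valid46 : Valid.{u} 11776 :=
  valid45.step U43Type38Cert40C1.just45 U43Type38Cert40C1.check45

theorem valid47 : Valid.{u} 12032 :=
  valid46.step U43Type38Cert40C1.just46 U43Type38Cert40C1.check46

theorem valid48 : Valid.{u} 12288 :=
  valid47.step U43Type38Cert40C1.just47 U43Type38Cert40C1.check47

theorem valid49 : Valid.{u} 12544 :=
  valid48.step U43Type38Cert40C1.just48 U43Type38Cert40C1.check48

theorem valid50 : Valid.{u} 12800 :=
  valid49.step U43Type38Cert40C1.just49 U43Type38Cert40C1.check49

theorem valid51 : Valid.{u} 13056 :=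
  valid50.step U43Type38Cert40C1.just50 U43Type38Cert40C1.check50

theorem valid52 : Valid.{u} 13312 :=
  valid51.step U43Type38Cert40C1.just51 U43Type38Cert40C1.check51

theorem valid53 : Valid.{u} 13568 :=
  valid52.step U43Type38Cert40C1.just52 U43Type38Cert40C1.check52

theorem valid54 : Valid.{u} 13824 :=
  valid53.step U43Type38Cert40C1.just53 U43Type38Cert40C1.check53

theorem valid55 : Valid.{u} 14080 :=
  valid54.step U43Type38Cert40C1.just54 U43Type38Cert40C1.check54

theorem valid56 : Valid.{u} 14336 :=
  valid55.step U43Type38Cert40C1.just55 U43Type38Cert40C1.check55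

theorem valid57 : Valid.{u} 14592 :=
  valid56.step U43Type38Cert40C1.just56 U43Type38Cert40C1.check56

theorem valid58 : Valid.{u} 14848 :=
  valid57.step U43Type38Cert40C1.just57 U43Type38Cert40C1.check57

theorem valid59 : Valid.{u} 15104 :=
  valid58.step U43Type38Cert40C1.just58 U43Type38Cert40C1.check58

theorem valid60 : Valid.{u} 15360 :=
  valid59.step U43Type38Cert40C1.just59 U43Type38Cert40C1.check59

theorem valid61 : Valid.{u} 15616 :=
  valid60.step U43Type38Cert40C1.just60 U43Type38Cert40C1.check60

theorem valid62 : Valid.{u} 15872 :=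
  valid61.step U43Type38Cert40C1.just61 U43Type38Cert40C1.check61

theorem valid63 : Valid.{u} 16128 :=
  valid62.step U43Type38Cert40C1.just62 U43Type38Cert40C1.check62

theorem valid64 : Valid.{u} 16384 :=
  valid63.step U43Type38Cert40C1.just63 U43Type38Cert40C1.check63

theorem valid65 : Valid.{u} 16640 :=
  valid64.step U43Type38Cert40C1.just64 U43Type38Cert40C1.check64

theorem valid66 : Valid.{u} 16896 :=
  valid65.step U43Type38Cert40C1.just65 U43Type38Cert40C1.check65

theorem valid67 : Valid.{u} 17152 :=
  valid66.step U43Type38Cert40C1.just66 U43Type38Cert40C1.check66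

theorem valid68 : Valid.{u} 17408 :=
  valid67.step U43Type38Cert40C1.just67 U43Type38Cert40C1.check67

theorem valid69 : Valid.{u} 17664 :=
  valid68.step U43Type38Cert40C1.just68 U43Type38Cert40C1.check68

theorem valid70 : Valid.{u} 17920 :=
  valid69.step U43Type38Cert40C1.just69 U43Type38Cert40C1.check69

theorem valid71 : Valid.{u} 18176 :=
  valid70.step U43Type38Cert40C1.just70 U43Type38Cert40C1.check70

theorem valid72 : Valid.{u} 18432 :=
  valid71.step U43Type38Cert40C1.just71 U43Type38Cert40C1.check71

theorem valid73 : Valid.{u} 18688 :=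
  valid72.step U43Type38Cert40C1.just72 U43Type38Cert40C1.check72

theorem valid74 : Valid.{u} 18944 :=
  valid73.step U43Type38Cert40C1.just73 U43Type38Cert40C1.check73

theorem valid75 : Valid.{u} 19200 :=
  valid74.step U43Type38Cert40C1.just74 U43Type38Cert40C1.check74

theorem valid76 : Valid.{u} 19456 :=
  valid75.step U43Type38Cert40C1.just75 U43Type38Cert40C1.check75

theorem valid77 : Valid.{u} 19712 :=
  valid76.step U43Type38Cert40C1.just76 U43Type38Cert40C1.check76

theorem valid78 : Valid.{u} 19968 :=
  valid77.step U43Type38Cert40C1.just77 U43Type38Cert40C1.check77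

theorem valid79 : Valid.{u} 20224 :=
  valid78.step U43Type38Cert40C1.just78 U43Type38Cert40C1.check78

theorem valid80 : Valid.{u} 20480 :=
  valid79.step U43Type38Cert40C1.just79 U43Type38Cert40C1.check79

theorem valid81 : Valid.{u} 20736 :=
  valid80.step U43Type38Cert40C1.just80 U43Type38Cert40C1.check80

theorem valid82 : Valid.{u} 20992 :=
  valid81.step U43Type38Cert40C1.just81 U43Type38Cert40C1.check81

theorem valid83 : Valid.{u} 21248 :=
  valid82.step U43Type38Cert40C1.just82 U43Type38Cert40C1.check82

theorem valid84 : Valid.{u} 21504 :=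
  valid83.step U43Type38Cert40C1.just83 U43Type38Cert40C1.check83

theorem valid85 : Valid.{u} 21760 :=
  valid84.step U43Type38Cert40C2.just84 U43Type38Cert40C2.check84

theorem valid86 : Valid.{u} 22016 :=
  valid85.step U43Type38Cert40C2.just85 U43Type38Cert40C2.check85

theorem valid87 : Valid.{u} 22272 :=
  valid86.step U43Type38Cert40C2.just86 U43Type38Cert40C2.check86

theorem valid88 : Valid.{u} 22528 :=
  valid87.step U43Type38Cert40C2.just87 U43Type38Cert40C2.check87

theorem valid89 : Valid.{u} 22784 :=
  valid88.step U43Type38Cert40C2.just88 U43Type38Cert40C2.check88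

theorem valid90 : Valid.{u} 23040 :=
  valid89.step U43Type38Cert40C2.just89 U43Type38Cert40C2.check89

theorem valid91 : Valid.{u} 23296 :=
  valid90.step U43Type38Cert40C2.just90 U43Type38Cert40C2.check90

theorem valid92 : Valid.{u} 23552 :=
  valid91.step U43Type38Cert40C2.just91 U43Type38Cert40C2.check91

theorem valid93 : Valid.{u} 23808 :=
  valid92.step U43Type38Cert40C2.just92 U43Type38Cert40C2.check92

theorem valid94 : Valid.{u} 24064 :=
  valid93.step U43Type38Cert40C2.just93 U43Type38Cert40C2.check93

theorem valid95 : Valid.{u} 24320 :=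
  valid94.step U43Type38Cert40C2.just94 U43Type38Cert40C2.check94

theorem valid96 : Valid.{u} 24576 :=
  valid95.step U43Type38Cert40C2.just95 U43Type38Cert40C2.check95

theorem valid97 : Valid.{u} 24832 :=
  valid96.step U43Type38Cert40C2.just96 U43Type38Cert40C2.check96

theorem valid98 : Valid.{u} 25088 :=
  valid97.step U43Type38Cert40C2.just97 U43Type38Cert40C2.check97

theorem valid99 : Valid.{u} 25344 :=
  valid98.step U43Type38Cert40C2.just98 U43Type38Cert40C2.check98

theorem valid100 : Valid.{u} 25600 :=
  valid99.step U43Type38Cert40C2.just99 U43Type38Cert40C2.check99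

theorem valid101 : Valid.{u} 25856 :=
  valid100.step U43Type38Cert40C2.just100 U43Type38Cert40C2.check100

theorem valid102 : Valid.{u} 26112 :=
  valid101.step U43Type38Cert40C2.just101 U43Type38Cert40C2.check101

theorem valid103 : Valid.{u} 26368 :=
  valid102.step U43Type38Cert40C2.just102 U43Type38Cert40C2.check102

theorem valid104 : Valid.{u} 26624 :=
  valid103.step U43Type38Cert40C2.just103 U43Type38Cert40C2.check103

theorem valid105 : Valid.{u} 26880 :=
  valid104.step U43Type38Cert40C2.just104 U43Type38Cert40C2.check104

theorem valid106 : Valid.{u} 27136 :=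
  valid105.step U43Type38Cert40C2.just105 U43Type38Cert40C2.check105

theorem valid107 : Valid.{u} 27392 :=
  valid106.step U43Type38Cert40C2.just106 U43Type38Cert40C2.check106

theorem valid108 : Valid.{u} 27648 :=
  valid107.step U43Type38Cert40C2.just107 U43Type38Cert40C2.check107

theorem valid109 : Valid.{u} 27904 :=
  valid108.step U43Type38Cert40C2.just108 U43Type38Cert40C2.check108

theorem valid110 : Valid.{u} 28160 :=
  valid109.step U43Type38Cert40C2.just109 U43Type38Cert40C2.check109

theorem valid111 : Valid.{u} 28416 :=
  valid110.step U43Type38Cert40C2.just110 U43Type38Cert40C2.check110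

theorem valid112 : Valid.{u} 28672 :=
  valid111.step U43Type38Cert40C2.just111 U43Type38Cert40C2.check111

theorem valid113 : Valid.{u} 28928 :=
  valid112.step U43Type38Cert40C2.just112 U43Type38Cert40C2.check112

theorem valid114 : Valid.{u} 29184 :=
  valid113.step U43Type38Cert40C2.just113 U43Type38Cert40C2.check113

theorem valid115 : Valid.{u} 29440 :=
  valid114.step U43Type38Cert40C2.just114 U43Type38Cert40C2.check114

theorem valid116 : Valid.{u} 29696 :=
  valid115.step U43Type38Cert40C2.just115 U43Type38Cert40C2.check115

theorem valid117 : Valid.{u} 29952 :=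
  valid116.step U43Type38Cert40C2.just116 U43Type38Cert40C2.check116

theorem valid118 : Valid.{u} 30208 :=
  valid117.step U43Type38Cert40C2.just117 U43Type38Cert40C2.check117

theorem valid119 : Valid.{u} 30464 :=
  valid118.step U43Type38Cert40C2.just118 U43Type38Cert40C2.check118

theorem valid120 : Valid.{u} 30720 :=
  valid119.step U43Type38Cert40C2.just119 U43Type38Cert40C2.check119

theorem valid121 : Valid.{u} 30976 :=
  valid120.step U43Type38Cert40C2.just120 U43Type38Cert40C2.check120

theorem valid122 : Valid.{u} 31232 :=
  valid121.step U43Type38Cert40C2.just121 U43Type38Cert40C2.check121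

theorem valid123 : Valid.{u} 31488 :=
  valid122.step U43Type38Cert40C2.just122 U43Type38Cert40C2.check122

theorem valid124 : Valid.{u} 31744 :=
  valid123.step U43Type38Cert40C2.just123 U43Type38Cert40C2.check123

theorem valid125 : Valid.{u} 32000 :=
  valid124.step U43Type38Cert40C2.just124 U43Type38Cert40C2.check124

theorem valid126 : Valid.{u} 32256 :=
  valid125.step U43Type38Cert40C2.just125 U43Type38Cert40C2.check125

theorem valid127 : Valid.{u} 32512 :=
  valid126.step U43Type38Cert40C3.just126 U43Type38Cert40C3.check126

theorem valid128 : Valid.{u} 32768 :=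
  valid127.step U43Type38Cert40C3.just127 U43Type38Cert40C3.check127

theorem valid129 : Valid.{u} 33024 :=
  valid128.step U43Type38Cert40C3.just128 U43Type38Cert40C3.check128

theorem valid130 : Valid.{u} 33280 :=
  valid129.step U43Type38Cert40C3.just129 U43Type38Cert40C3.check129

theorem valid131 : Valid.{u} 33536 :=
  valid130.step U43Type38Cert40C3.just130 U43Type38Cert40C3.check130

theorem valid132 : Valid.{u} 33792 :=
  valid131.step U43Type38Cert40C3.just131 U43Type38Cert40C3.check131

theorem valid133 : Valid.{u} 34048 :=
  valid132.step U43Type38Cert40C3.just132 U43Type38Cert40C3.check132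

theorem valid134 : Valid.{u} 34304 :=
  valid133.step U43Type38Cert40C3.just133 U43Type38Cert40C3.check133

theorem valid135 : Valid.{u} 34560 :=
  valid134.step U43Type38Cert40C3.just134 U43Type38Cert40C3.check134

theorem valid136 : Valid.{u} 34816 :=
  valid135.step U43Type38Cert40C3.just135 U43Type38Cert40C3.check135

theorem valid137 : Valid.{u} 35072 :=
  valid136.step U43Type38Cert40C3.just136 U43Type38Cert40C3.check136

theorem valid138 : Valid.{u} 35328 :=
  valid137.step U43Type38Cert40C3.just137 U43Type38Cert40C3.check137

theorem valid139 : Valid.{u} 35584 :=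
  valid138.step U43Type38Cert40C3.just138 U43Type38Cert40C3.check138

theorem valid140 : Valid.{u} 35840 :=
  valid139.step U43Type38Cert40C3.just139 U43Type38Cert40C3.check139

theorem valid141 : Valid.{u} 36096 :=
  valid140.step U43Type38Cert40C3.just140 U43Type38Cert40C3.check140

theorem valid142 : Valid.{u} 36352 :=
  valid141.step U43Type38Cert40C3.just141 U43Type38Cert40C3.check141

theorem valid143 : Valid.{u} 36608 :=
  valid142.step U43Type38Cert40C3.just142 U43Type38Cert40C3.check142

theorem valid144 : Valid.{u} 36864 :=
  valid143.step U43Type38Cert40C3.just143 U43Type38Cert40C3.check143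

theorem valid145 : Valid.{u} 37120 :=
  valid144.step U43Type38Cert40C3.just144 U43Type38Cert40C3.check144

theorem valid146 : Valid.{u} 37376 :=
  valid145.step U43Type38Cert40C3.just145 U43Type38Cert40C3.check145

theorem valid147 : Valid.{u} 37632 :=
  valid146.step U43Type38Cert40C3.just146 U43Type38Cert40C3.check146

theorem valid148 : Valid.{u} 37888 :=
  valid147.step U43Type38Cert40C3.just147 U43Type38Cert40C3.check147

theorem valid149 : Valid.{u} 38144 :=
  valid148.step U43Type38Cert40C3.just148 U43Type38Cert40C3.check148

theorem valid150 : Valid.{u} 38400 :=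
  valid149.step U43Type38Cert40C3.just149 U43Type38Cert40C3.check149

theorem valid151 : Valid.{u} 38656 :=
  valid150.step U43Type38Cert40C3.just150 U43Type38Cert40C3.check150

theorem valid152 : Valid.{u} 38912 :=
  valid151.step U43Type38Cert40C3.just151 U43Type38Cert40C3.check151

theorem valid153 : Valid.{u} 39168 :=
  valid152.step U43Type38Cert40C3.just152 U43Type38Cert40C3.check152

theorem valid154 : Valid.{u} 39424 :=
  valid153.step U43Type38Cert40C3.just153 U43Type38Cert40C3.check153

theorem valid155 : Valid.{u} 39680 :=
  valid154.step U43Type38Cert40C3.just154 U43Type38Cert40C3.check154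

theorem valid156 : Valid.{u} 39936 :=
  valid155.step U43Type38Cert40C3.just155 U43Type38Cert40C3.check155

theorem valid157 : Valid.{u} 40192 :=
  valid156.step U43Type38Cert40C3.just156 U43Type38Cert40C3.check156

theorem valid158 : Valid.{u} 40448 :=
  valid157.step U43Type38Cert40C3.just157 U43Type38Cert40C3.check157

theorem valid159 : Valid.{u} 40704 :=
  valid158.step U43Type38Cert40C3.just158 U43Type38Cert40C3.check158

theorem valid160 : Valid.{u} 40960 :=
  valid159.step U43Type38Cert40C3.just159 U43Type38Cert40C3.check159

theorem valid161 : Valid.{u} 41052 :=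
  valid160.step U43Type38Cert40C3.just160 U43Type38Cert40C3.check160

theorem points0 : AllBelow (pointOk cert 41052 table) 0 := AllBelow.zero _

theorem points1 : AllBelow (pointOk cert 41052 table) 128 :=
  AllBelow.step points0 128 U43Type38Cert40P0.points1c

theorem points2 : AllBelow (pointOk cert 41052 table) 256 :=
  AllBelow.step points1 128 U43Type38Cert40P0.points2c

theorem points3 : AllBelow (pointOk cert 41052 table) 384 :=
  AllBelow.step points2 128 U43Type38Cert40P0.points3c

theorem points4 : AllBelow (pointOk cert 41052 table) 512 :=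
  AllBelow.step points3 128 U43Type38Cert40P0.points4c

theorem points5 : AllBelow (pointOk cert 41052 table) 640 :=
  AllBelow.step points4 128 U43Type38Cert40P0.points5c

theorem points6 : AllBelow (pointOk cert 41052 table) 768 :=
  AllBelow.step points5 128 U43Type38Cert40P0.points6c

theorem points7 : AllBelow (pointOk cert 41052 table) 896 :=
  AllBelow.step points6 128 U43Type38Cert40P0.points7c

theorem points8 : AllBelow (pointOk cert 41052 table) 1024 :=
  AllBelow.step points7 128 U43Type38Cert40P0.points8c

theorem points9 : AllBelow (pointOk cert 41052 table) 1152 :=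
  AllBelow.step points8 128 U43Type38Cert40P0.points9c

theorem points10 : AllBelow (pointOk cert 41052 table) 1280 :=
  AllBelow.step points9 128 U43Type38Cert40P0.points10c

theorem points11 : AllBelow (pointOk cert 41052 table) 1408 :=
  AllBelow.step points10 128 U43Type38Cert40P0.points11c

theorem points12 : AllBelow (pointOk cert 41052 table) 1536 :=
  AllBelow.step points11 128 U43Type38Cert40P0.points12c

theorem points13 : AllBelow (pointOk cert 41052 table) 1664 :=
  AllBelow.step points12 128 U43Type38Cert40P0.points13c

theorem points14 : AllBelow (pointOk cert 41052 table) 1792 :=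
  AllBelow.step points13 128 U43Type38Cert40P0.points14c

theorem points15 : AllBelow (pointOk cert 41052 table) 1920 :=
  AllBelow.step points14 128 U43Type38Cert40P0.points15c

theorem points16 : AllBelow (pointOk cert 41052 table) 2048 :=
  AllBelow.step points15 128 U43Type38Cert40P0.points16c

theorem points17 : AllBelow (pointOk cert 41052 table) 2176 :=
  AllBelow.step points16 128 U43Type38Cert40P0.points17c

theorem points18 : AllBelow (pointOk cert 41052 table) 2304 :=
  AllBelow.step points17 128 U43Type38Cert40P0.points18c

theorem points19 : AllBelow (pointOk cert 41052 table) 2432 :=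
  AllBelow.step points18 128 U43Type38Cert40P0.points19c

theorem points20 : AllBelow (pointOk cert 41052 table) 2560 :=
  AllBelow.step points19 128 U43Type38Cert40P0.points20c

theorem points21 : AllBelow (pointOk cert 41052 table) 2688 :=
  AllBelow.step points20 128 U43Type38Cert40P0.points21c

theorem points22 : AllBelow (pointOk cert 41052 table) 2816 :=
  AllBelow.step points21 128 U43Type38Cert40P0.points22c

theorem points23 : AllBelow (pointOk cert 41052 table) 2944 :=
  AllBelow.step points22 128 U43Type38Cert40P0.points23c

theorem points24 : AllBelow (pointOk cert 41052 table) 3072 :=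
  AllBelow.step points23 128 U43Type38Cert40P0.points24c

theorem points25 : AllBelow (pointOk cert 41052 table) 3200 :=
  AllBelow.step points24 128 U43Type38Cert40P0.points25c

theorem points26 : AllBelow (pointOk cert 41052 table) 3328 :=
  AllBelow.step points25 128 U43Type38Cert40P0.points26c

theorem points27 : AllBelow (pointOk cert 41052 table) 3456 :=
  AllBelow.step points26 128 U43Type38Cert40P0.points27c

theorem points28 : AllBelow (pointOk cert 41052 table) 3584 :=
  AllBelow.step points27 128 U43Type38Cert40P0.points28c

theorem points29 : AllBelow (pointOk cert 41052 table) 3712 :=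
  AllBelow.step points28 128 U43Type38Cert40P0.points29c

theorem points30 : AllBelow (pointOk cert 41052 table) 3840 :=
  AllBelow.step points29 128 U43Type38Cert40P0.points30c

theorem points31 : AllBelow (pointOk cert 41052 table) 3968 :=
  AllBelow.step points30 128 U43Type38Cert40P0.points31c

theorem points32 : AllBelow (pointOk cert 41052 table) 4096 :=
  AllBelow.step points31 128 U43Type38Cert40P0.points32c

theorem points33 : AllBelow (pointOk cert 41052 table) 4224 :=
  AllBelow.step points32 128 U43Type38Cert40P0.points33c

theorem points34 : AllBelow (pointOk cert 41052 table) 4352 :=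
  AllBelow.step points33 128 U43Type38Cert40P0.points34c

theorem points35 : AllBelow (pointOk cert 41052 table) 4480 :=
  AllBelow.step points34 128 U43Type38Cert40P0.points35c

theorem points36 : AllBelow (pointOk cert 41052 table) 4608 :=
  AllBelow.step points35 128 U43Type38Cert40P1.points36c

theorem points37 : AllBelow (pointOk cert 41052 table) 4736 :=
  AllBelow.step points36 128 U43Type38Cert40P1.points37c

theorem points38 : AllBelow (pointOk cert 41052 table) 4864 :=
  AllBelow.step points37 128 U43Type38Cert40P1.points38c

theorem points39 : AllBelow (pointOk cert 41052 table) 4992 :=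
  AllBelow.step points38 128 U43Type38Cert40P1.points39c

theorem points40 : AllBelow (pointOk cert 41052 table) 5120 :=
  AllBelow.step points39 128 U43Type38Cert40P1.points40c

theorem points41 : AllBelow (pointOk cert 41052 table) 5248 :=
  AllBelow.step points40 128 U43Type38Cert40P1.points41c

theorem points42 : AllBelow (pointOk cert 41052 table) 5376 :=
  AllBelow.step points41 128 U43Type38Cert40P1.points42c

theorem points43 : AllBelow (pointOk cert 41052 table) 5504 :=
  AllBelow.step points42 128 U43Type38Cert40P1.points43c

theorem points44 : AllBelow (pointOk cert 41052 table) 5632 :=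
  AllBelow.step points43 128 U43Type38Cert40P1.points44c

theorem points45 : AllBelow (pointOk cert 41052 table) 5760 :=
  AllBelow.step points44 128 U43Type38Cert40P1.points45c

theorem points46 : AllBelow (pointOk cert 41052 table) 5888 :=
  AllBelow.step points45 128 U43Type38Cert40P1.points46c

theorem points47 : AllBelow (pointOk cert 41052 table) 6016 :=
  AllBelow.step points46 128 U43Type38Cert40P1.points47c

theorem points48 : AllBelow (pointOk cert 41052 table) 6144 :=
  AllBelow.step points47 128 U43Type38Cert40P1.points48c

theorem points49 : AllBelow (pointOk cert 41052 table) 6272 :=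
  AllBelow.step points48 128 U43Type38Cert40P1.points49c

theorem points50 : AllBelow (pointOk cert 41052 table) 6400 :=
  AllBelow.step points49 128 U43Type38Cert40P1.points50c

theorem points51 : AllBelow (pointOk cert 41052 table) 6528 :=
  AllBelow.step points50 128 U43Type38Cert40P1.points51c

theorem points52 : AllBelow (pointOk cert 41052 table) 6656 :=
  AllBelow.step points51 128 U43Type38Cert40P1.points52c

theorem points53 : AllBelow (pointOk cert 41052 table) 6784 :=
  AllBelow.step points52 128 U43Type38Cert40P1.points53c

theorem points54 : AllBelow (pointOk cert 41052 table) 6912 :=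
  AllBelow.step points53 128 U43Type38Cert40P1.points54c

theorem points55 : AllBelow (pointOk cert 41052 table) 7040 :=
  AllBelow.step points54 128 U43Type38Cert40P1.points55c

theorem points56 : AllBelow (pointOk cert 41052 table) 7168 :=
  AllBelow.step points55 128 U43Type38Cert40P1.points56c

theorem points57 : AllBelow (pointOk cert 41052 table) 7296 :=
  AllBelow.step points56 128 U43Type38Cert40P1.points57c

theorem points58 : AllBelow (pointOk cert 41052 table) 7424 :=
  AllBelow.step points57 128 U43Type38Cert40P1.points58c

theorem points59 : AllBelow (pointOk cert 41052 table) 7552 :=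
  AllBelow.step points58 128 U43Type38Cert40P1.points59c

theorem points60 : AllBelow (pointOk cert 41052 table) 7680 :=
  AllBelow.step points59 128 U43Type38Cert40P1.points60c

theorem points61 : AllBelow (pointOk cert 41052 table) 7808 :=
  AllBelow.step points60 128 U43Type38Cert40P1.points61c

theorem points62 : AllBelow (pointOk cert 41052 table) 7936 :=
  AllBelow.step points61 128 U43Type38Cert40P1.points62c

theorem points63 : AllBelow (pointOk cert 41052 table) 8064 :=
  AllBelow.step points62 128 U43Type38Cert40P1.points63c

theorem points64 : AllBelow (pointOk cert 41052 table) 8192 :=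
  AllBelow.step points63 128 U43Type38Cert40P1.points64c

theorem points65 : AllBelow (pointOk cert 41052 table) 8320 :=
  AllBelow.step points64 128 U43Type38Cert40P1.points65c

theorem points66 : AllBelow (pointOk cert 41052 table) 8448 :=
  AllBelow.step points65 128 U43Type38Cert40P1.points66c

theorem points67 : AllBelow (pointOk cert 41052 table) 8505 :=
  AllBelow.step points66 57 U43Type38Cert40P1.points67c

theorem table_N : table.N = 8505 := rfl

theorem points : AllBelow (pointOk cert 41052 table) table.N := points67

theorem node_zero : table.node 0 = 0 := by decide +kernel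

section

variable {G : Type u} [Group G] (g : Nat → G) (H : Subgroup G)

theorem node_smul (hctx : Ctx g ((1 : G) : G ⧸ H) cert) {x i : Nat} (hi : i < table.N)
    (hx : x < table.NG) :
    table.img x i < table.N ∧
      g x • nodeVal g ((1 : G) : G ⧸ H) cert (table.node i) =
        nodeVal g ((1 : G) : G ⧸ H) cert (table.node (table.img x i)) := by
  have h := points i hi
  simp only [pointOk, Bool.and_eq_true] at h
  have he := (allFrom_iff _ _ _).mp h.1 x (Nat.zero_le x) (by omega)
  simp only [edgeOk, force_eq, Bool.and_eq_true, Bool.or_eq_true, Nat.blt_eq, Nat.beq_eq] at he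
  obtain ⟨⟨⟨⟨h1, -⟩, h3⟩, h4⟩, h5⟩ := he
  refine ⟨h1, ?_⟩
  have hs := valid161.{u} g ((1 : G) : G ⧸ H) hctx _ h3
  rw [Sem, if_neg (by omega)] at hs
  rw [h4, Nat.add_sub_cancel] at hs
  rcases h5 with ⟨e1, e2⟩ | ⟨e1, e2⟩
  · rw [← e1, ← e2, hs]
  · rw [← e1, ← e2, ← hs, smul_self g hctx.invol]

/-- The index bound: a group generated by the five letters over the subgroup of the first four. -/
theorem card_closure_le (hinv : ∀ x, g x * g x = 1) (hrels : ∀ w ∈ cert.rels, val g w = 1)
    (hmem : ∀ x, x < 4 → g x ∈ H) {c : Nat} (hfin : Finite H) (hc : Nat.card H ≤ c) :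
    Finite ↥(Subgroup.closure {y | ∃ x, x < table.NG ∧ y = g x}) ∧
      Nat.card ↥(Subgroup.closure {y | ∃ x, x < table.NG ∧ y = g x}) ≤ 8505 * c := by
  have hctx : Ctx g ((1 : G) : G ⧸ H) cert := by
    refine ⟨hinv, hrels, fun w hw => ?_⟩
    rw [act_eq _ hinv]
    show (((val g w)⁻¹ * 1 : G) : G ⧸ H) = _
    rw [mul_one, eq_comm, QuotientGroup.eq, inv_one, one_mul, inv_mem_iff]
    simp only [cert, List.mem_cons, List.not_mem_nil, or_false] at hw
    rcases hw with rfl | rfl | rfl | rfl <;> simpa [val] using hmem _ (by norm_num)
  set S := Subgroup.closure {y | ∃ x, x < table.NG ∧ y = g x}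
  set v : Fin table.N → G ⧸ H := fun i => nodeVal g ((1 : G) : G ⧸ H) cert (table.node i)
  have hstep : ∀ x, x < table.NG → ∀ i, ∃ j, g x • v i = v j := fun x hx i =>
    ⟨⟨_, (node_smul g H hctx i.2 hx).1⟩, (node_smul g H hctx i.2 hx).2⟩
  have hcl : ∀ k ∈ S, ∀ i, ∃ j, k • v i = v j := by
    intro k hk
    induction hk using Subgroup.closure_induction'' with
    | mem y hy => obtain ⟨x, hx, rfl⟩ := hy; exact hstep x hx
    | inv_mem y hy => obtain ⟨x, hx, rfl⟩ := hy; rw [inv_of_sq g hinv]; exact hstep x hx
    | one => intro i; exact ⟨i, one_smul _ _⟩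
    | mul a b _ _ ha hb =>
      intro i
      obtain ⟨j, hj⟩ := hb i
      obtain ⟨l, hl⟩ := ha j
      exact ⟨l, by rw [mul_smul, hj, hl]⟩
  have h0 : ∀ k : S, ∃ j, ((k : G) : G ⧸ H) = v j := by
    intro k
    obtain ⟨j, hj⟩ := hcl k k.2 ⟨0, by rw [table_N]; norm_num⟩
    refine ⟨j, Eq.trans ?_ hj⟩
    show _ = (k : G) • nodeVal g ((1 : G) : G ⧸ H) cert (table.node 0)
    rw [node_zero, nodeVal_zero]
    show _ = (((k : G) * 1 : G) : G ⧸ H)
    rw [mul_one]
  choose j hj using h0
  have hout : ∀ k : S, ((v (j k)).out)⁻¹ * (k : G) ∈ H := by
    intro k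
    rw [← QuotientGroup.eq, QuotientGroup.out_eq', hj k]
  let f : S → Fin table.N × H := fun k => (j k, ⟨_, hout k⟩)
  have hf : Function.Injective f := by
    intro k l hkl
    simp only [f, Prod.mk.injEq, Subtype.mk.injEq] at hkl
    have h2 := hkl.2
    rw [hkl.1] at h2
    exact Subtype.ext (mul_left_cancel h2)
  refine ⟨Finite.of_injective f hf, (Nat.card_le_card_of_injective f hf).trans ?_⟩
  rw [Nat.card_prod, Nat.card_fin, table_N]
  exact Nat.mul_le_mul le_rfl hc

end

end Cfsg.Agent.U43Type38Cert40Idx
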