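import Cfsg.Agent.Lib.U43Type38Cent42
import Cfsg.Agent.Lib.U43Type38Cert40Idx

/-!
The order bound `8505 * 1152` for the group of the five generators of unitary type in dimension four
over nine elements, from the coset enumeration over the subgroup of `a, b, p, m`.

The letters of the enumeration are five involutions: `p`, `m`, `a b p b⁻¹ a`, `a b a m a b⁻¹ a⁻¹`
and `y = m x`.
-/

set_option autoImplicit false

namespace Cfsg.Agent.U43Type38Cert40

open Cfsg.Agent.U43Type38

universe u

/-- The first four letters as words in `a, a⁻¹, b, b⁻¹, p, m`. -/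
def lw (i : Nat) : List Nat :=
  if i = 0 then [4] else if i = 1 then [5] else if i = 2 then [0, 2, 4, 3, 0]
  else if i = 3 then [0, 2, 0, 5, 0, 3, 1] else []

/-- The word in `a, a⁻¹, b, b⁻¹, p, m` of a word in the first four letters. -/
def flat (w : List Nat) : List Nat := w.flatMap lw

variable {G : Type u} [Group G] (g : Gens G)

/-- The letters of the enumeration. -/
def let5 (i : Nat) : G := if i = 4 then g.m * g.x else U43Type38Cent42.val g (lw i)

/-- The value of a word in the letters. -/
def V (w : List Nat) : G := CosetCertCore.val (let5 g) w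

theorem V_append (v w : List Nat) : V g (v ++ w) = V g v * V g w := by
  simp [V, CosetCertCore.val]

theorem V_cons (x : Nat) (w : List Nat) : V g (x :: w) = let5 g x * V g w := by
  simp [V, CosetCertCore.val]

theorem V_low : ∀ {w : List Nat}, (∀ x ∈ w, x ≠ 4) → V g w = U43Type38Cent42.val g (flat w)
  | [], _ => by simp [V, CosetCertCore.val, flat, U43Type38Cent42.val]
  | x :: w, hw => by
    rw [V_cons, V_low fun y hy => hw y (List.mem_cons_of_mem _ hy), let5,
      if_neg (hw x (List.mem_cons_self ..))]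
    simp [flat, U43Type38Cent42.val]

variable {g}

theorem V_eq (h : g.CentRels) (w v : List Nat)
    (hw : w.all (fun x => x != 4) = true)
    (hr : U43Type38Cent42.run (flat w) 0 = U43Type38Cent42.run v 0) :
    V g w = U43Type38Cent42.val g v := by
  rw [V_low g (fun x hx => by simpa using (List.all_eq_true.mp hw) x hx),
    U43Type38Cent42.val_eq h, U43Type38Cent42.val_eq h, hr]

section

variable (h : g.Rels)
include h

theorem mm : g.m * g.m = 1 := by rw [← pow_two]; exact h.m2

theorem let5_sq (i : Nat) : let5 g i * let5 g i = 1 := by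
  have hx : g.x⁻¹ * g.x = 1 := inv_mul_cancel _
  by_cases h4 : i = 4
  · subst h4
    rw [let5, if_pos rfl, ← mul_assoc, h.mx, hx]
  · rw [let5, if_neg h4,
      show U43Type38Cent42.val g (lw i) * U43Type38Cent42.val g (lw i) =
        U43Type38Cent42.val g (lw i ++ lw i) by simp [U43Type38Cent42.val]]
    apply U43Type38Cent42.val_eq_one h.toCentRels
    unfold lw
    repeat' split
    all_goals decide +kernel

/-- A relation `x u x⁻¹ = v` of the spec as a relation of the involution `y = m x`. -/
theorem conj_rel {c c' : G} (hc : g.x * c * g.x⁻¹ = c') :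
    g.m * g.x * c * (g.m * g.x) * (g.m * c' * g.m)⁻¹ = 1 := by
  have hy : g.m * g.x = g.x⁻¹ * g.m := by
    rw [← h.mx, mul_assoc, mm h, mul_one]
  rw [mul_inv_eq_one, ← hc]
  nth_rewrite 2 [hy]
  simp only [mul_assoc]

theorem conj_word (A B : List Nat) {c c' : G} (hA : V g A = c) (hB : V g B = (g.m * c' * g.m)⁻¹)
    (hc : g.x * c * g.x⁻¹ = c') : V g (4 :: A ++ 4 :: B) = 1 := by
  rw [List.cons_append, V_cons, V_append, V_cons, hA, hB, let5, if_pos rfl]
  simpa only [mul_assoc] using conj_rel h hc

theorem rel_fx : V g ([3, 2, 3, 0] ++ 4 :: [3, 2, 3, 0] ++ 4 :: [0, 3, 2, 3] ++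
    4 :: [0, 3, 2, 3] ++ [4]) = 1 := by
  have hp := U43Type38Cent42.p_inv h.toCentRels
  have hm := U43Type38Cent42.m_inv h.toCentRels
  have e1 : V g [3, 2, 3, 0] = g.f :=
    (V_eq h.toCentRels _ [2, 4, 3, 4] (by decide) (by decide +kernel)).trans
      (by simp [U43Type38Cent42.val, U43Type38Cent42.gen, Gens.f, Gens.b', mul_assoc, hp])
  have e2 : V g [3, 2, 3, 0] = g.m * g.f * g.m :=
    (V_eq h.toCentRels _ [5, 2, 4, 3, 4, 5] (by decide) (by decide +kernel)).trans
      (by simp [U43Type38Cent42.val, U43Type38Cent42.gen, Gens.f, Gens.b', mul_assoc, hp])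
  have e3 : V g [0, 3, 2, 3] = g.f⁻¹ :=
    (V_eq h.toCentRels _ [4, 2, 4, 3] (by decide) (by decide +kernel)).trans
      (by simp [U43Type38Cent42.val, U43Type38Cent42.gen, Gens.f, Gens.b', mul_assoc, hp])
  have hfm : g.m * g.f * g.m = g.f := e2.symm.trans e1
  have hc : g.f * (g.x * g.f * g.x⁻¹) * g.f⁻¹ * (g.x * g.f * g.x⁻¹)⁻¹ = 1 := by
    rw [h.fx.eq, mul_inv_cancel_right, mul_inv_cancel]
  have hmf : g.m * g.f = g.f * g.m := by
    nth_rewrite 2 [← hfm]
    rw [mul_assoc _ g.m g.m, mm h, mul_one]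
  have hxy : g.x⁻¹ = g.m * g.x * g.m := h.mx.symm
  simp only [V_append, V_cons, e1, e3, let5, if_pos]
  have hV : V g [] = 1 := rfl
  rw [hV, mul_one]
  have hy : g.m * g.x = g.x⁻¹ * g.m := by rw [← h.mx, mul_assoc, mm h, mul_one]
  have hmfi : g.m * g.f⁻¹ = g.f⁻¹ * g.m := ((Commute.inv_right (a := g.m) (b := g.f) hmf)).eq
  calc _
      = g.f * (g.m * g.x) * g.f * (g.x⁻¹ * g.m) * g.f⁻¹ * (g.m * g.x) * g.f⁻¹ * (g.x⁻¹ * g.m) := by
        rw [← hy]; simp only [mul_assoc]
    _ = g.m * (g.f * (g.x * g.f * g.x⁻¹) * g.f⁻¹ * (g.x * g.f * g.x⁻¹)⁻¹) * g.m := by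
        simp only [← mul_assoc]
        rw [← hmf, mul_assoc _ g.m g.f⁻¹, hmfi, ← mul_assoc, mul_assoc _ g.m g.m, mm h, mul_one]
        group
    _ = 1 := by rw [hc, mul_one, mm h]

theorem rel_five : V g (List.replicate 5 [4, 0, 3, 0, 2, 3, 1, 2, 1]).flatten = 1 := by
  have hfl : ∀ n, V g (List.replicate n [4, 0, 3, 0, 2, 3, 1, 2, 1]).flatten =
      (g.m * g.x * g.a) ^ n := by
    intro n
    induction n with
    | zero => simp [V, CosetCertCore.val]
    | succ n ih =>
      rw [List.replicate_succ, List.flatten_cons, V_append, ih, pow_succ', V_cons,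
        V_eq h.toCentRels [0, 3, 0, 2, 3, 1, 2, 1] [0] (by decide) (by decide +kernel), let5,
        if_pos rfl]
      simp [U43Type38Cent42.val, U43Type38Cent42.gen]
  rw [hfl, show g.m * g.x * g.a = g.m * (g.x * g.a * g.m) * g.m⁻¹ by group, conj_pow, h.five,
    mul_one, mul_inv_cancel]

theorem val_rels : ∀ w ∈ U43Type38Cert40Data.cert.rels, CosetCertCore.val (let5 g) w = 1 := by
  have hp := U43Type38Cent42.p_inv h.toCentRels
  have hm := U43Type38Cent42.m_inv h.toCentRels
  intro w hw
  rcases List.mem_append.mp hw with hw | hw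
  · have h1 : (U43Type38Cert40Data.centRels.all fun w =>
        w.all (fun x => x != 4) && U43Type38Cent42.run (flat w) 0 == 0) = true := by decide +kernel
    obtain ⟨h2, h3⟩ := Bool.and_eq_true_iff.mp (List.all_eq_true.mp h1 w hw)
    exact (V_eq h.toCentRels w [] h2 (by simpa [U43Type38Cent42.run] using h3)).trans rfl
  simp only [U43Type38Cert40Data.xRels, List.mem_cons, List.not_mem_nil, or_false] at hw
  rcases hw with rfl | rfl | rfl | rfl | rfl | rfl | rfl | rfl | rfl
  · simpa [CosetCertCore.val] using let5_sq h 4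
  · have h1 : let5 g 1 * let5 g 4 = g.x := by
      simp [let5, lw, U43Type38Cent42.val, U43Type38Cent42.gen, ← mul_assoc, mm h]
    have h3 := h.x3
    rw [pow_succ, pow_two] at h3
    simpa [CosetCertCore.val, ← mul_assoc, h1] using
      (by rw [h1]; exact h3 :
        let5 g 1 * let5 g 4 * (let5 g 1 * let5 g 4) * (let5 g 1 * let5 g 4) = 1)
  · exact conj_word h [0, 3, 0, 2, 3, 2, 3, 1] [0, 3, 0, 2, 3, 2, 3, 1] (c := g.d) (c' := g.d)
      ((V_eq h.toCentRels _ [2, 4, 2, 4] (by decide) (by decide +kernel)).trans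
        (by simp [U43Type38Cent42.val, U43Type38Cent42.gen, Gens.d, Gens.b', mul_assoc]))
      ((V_eq h.toCentRels _ [5, 4, 3, 4, 3, 5] (by decide) (by decide +kernel)).trans
        (by simp [U43Type38Cent42.val, U43Type38Cent42.gen, Gens.d, Gens.b', mul_assoc, hp, hm]))
      (by rw [h.xd.eq, mul_inv_cancel_right])
  · exact conj_word h [0, 1, 0, 1] [1, 0, 1] (c := g.z) (c' := g.p)
      ((V_eq h.toCentRels _ [0, 0] (by decide) (by decide +kernel)).trans
        (by simp [U43Type38Cent42.val, U43Type38Cent42.gen, Gens.z]))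
      ((V_eq h.toCentRels _ [5, 4, 5] (by decide) (by decide +kernel)).trans
        (by simp [U43Type38Cent42.val, U43Type38Cent42.gen, mul_assoc, hp, hm]))
      h.xz
  · exact conj_word h [0] [0] (c := g.p) (c' := g.z * g.p)
      ((V_eq h.toCentRels _ [4] (by decide) (by decide +kernel)).trans
        (by simp [U43Type38Cent42.val, U43Type38Cent42.gen]))
      ((V_eq h.toCentRels _ [5, 4, 1, 1, 5] (by decide) (by decide +kernel)).trans
        (by simp [U43Type38Cent42.val, U43Type38Cent42.gen, Gens.z, mul_assoc, hp, hm]))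
      h.xp
  · exact conj_word h [0, 2, 0, 1, 2, 0, 1, 2] [0, 2, 0, 1, 2, 0, 1, 2] (c := g.w) (c' := g.w)
      ((V_eq h.toCentRels _ [2, 4, 2, 4, 0, 4, 0, 4, 4, 3, 4, 3, 4, 1, 4, 1] (by decide)
        (by decide +kernel)).trans
        (by simp [U43Type38Cent42.val, U43Type38Cent42.gen, Gens.w, Gens.d, Gens.a', Gens.b',
          mul_assoc, hp]))
      ((V_eq h.toCentRels _ [5, 0, 4, 0, 4, 2, 4, 2, 4, 4, 1, 4, 1, 4, 3, 4, 3, 5] (by decide)
        (by decide +kernel)).trans
        (by simp [U43Type38Cent42.val, U43Type38Cent42.gen, Gens.w, Gens.d, Gens.a', Gens.b',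
          mul_assoc, hp, hm]))
      (by rw [h.xw.eq, mul_inv_cancel_right])
  · exact conj_word h [1, 0, 3, 0, 3, 1] [0, 3, 0, 3] (c := g.d * g.w * g.d⁻¹)
      (c' := g.d * g.w * g.d⁻¹)
      ((V_eq h.toCentRels _ [2, 4, 2, 4, 2, 4, 2, 4, 0, 4, 0, 4, 4, 3, 4, 3, 4, 1, 4, 1, 4, 3, 4, 3]
        (by decide) (by decide +kernel)).trans
        (by simp [U43Type38Cent42.val, U43Type38Cent42.gen, Gens.w, Gens.d, Gens.a', Gens.b',
          mul_assoc, hp]))
      ((V_eq h.toCentRels _
        [5, 2, 4, 2, 4, 0, 4, 0, 4, 2, 4, 2, 4, 4, 1, 4, 1, 4, 3, 4, 3, 4, 3, 4, 3, 5]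
        (by decide) (by decide +kernel)).trans
        (by simp [U43Type38Cent42.val, U43Type38Cent42.gen, Gens.w, Gens.d, Gens.a', Gens.b',
          mul_assoc, hp, hm]))
      (by rw [h.xw'.eq, mul_inv_cancel_right])
  · exact rel_fx h
  · exact rel_five h

/-- The group of the five generators has at most `8505 * 1152` elements. -/
theorem card_span : Finite g.span ∧ Nat.card g.span ≤ 9797760 := by
  obtain ⟨hf, hc⟩ := U43Type38Cent42.card_le h.toCentRels
  set C := Subgroup.closure ({g.a, g.b, g.p, g.m} : Set G) with hC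
  have hgen : ∀ k, U43Type38Cent42.gen g k ∈ C := by
    intro k
    have : ∀ {t : G}, t ∈ ({g.a, g.b, g.p, g.m} : Set G) → t ∈ C :=
      fun ht => Subgroup.subset_closure ht
    unfold U43Type38Cent42.gen
    repeat' split
    exacts [this (by simp), inv_mem (this (by simp)), this (by simp), inv_mem (this (by simp)),
      this (by simp), this (by simp)]
  have hmem : ∀ i, i < 4 → let5 g i ∈ C := by
    intro i hi
    rw [let5, if_neg (by omega)]
    refine list_prod_mem fun t ht => ?_
    obtain ⟨k, -, rfl⟩ := List.mem_map.mp ht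
    exact hgen k
  have hspan : g.span ≤ Subgroup.closure
      {y | ∃ i, i < U43Type38Cert40Data.table.NG ∧ y = let5 g i} := by
    set S := Subgroup.closure {y | ∃ i, i < U43Type38Cert40Data.table.NG ∧ y = let5 g i}
    have hl : ∀ i, i < 5 → let5 g i ∈ S := fun i hi => Subgroup.subset_closure ⟨i, hi, rfl⟩
    have hV : ∀ w : List Nat, (∀ i ∈ w, i < 5) → V g w ∈ S := fun w hw =>
      list_prod_mem fun t ht => by
        obtain ⟨k, hk, rfl⟩ := List.mem_map.mp ht
        exact hl k (hw k hk)
    have hw : ∀ (w v : List Nat) (t : G), w.all (fun x => x != 4 && decide (x < 5)) = true →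
        U43Type38Cent42.run (flat w) 0 = U43Type38Cent42.run v 0 →
        U43Type38Cent42.val g v = t → t ∈ S := by
      intro w v t h1 h2 h3
      rw [← h3, ← V_eq h.toCentRels w v (List.all_eq_true.mpr fun x hx =>
        (Bool.and_eq_true_iff.mp (List.all_eq_true.mp h1 x hx)).1) h2]
      exact hV w fun i hi => by
        simpa using (Bool.and_eq_true_iff.mp (List.all_eq_true.mp h1 i hi)).2
    have ha : g.a ∈ S := hw [0, 3, 0, 2, 3, 1, 2, 1] [0] _ (by decide) (by decide +kernel)
      (by simp [U43Type38Cent42.val, U43Type38Cent42.gen])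
    have hb : g.b ∈ S := hw [0, 1, 0, 3, 0, 2] [2] _ (by decide) (by decide +kernel)
      (by simp [U43Type38Cent42.val, U43Type38Cent42.gen])
    have hpS : g.p ∈ S := hw [0] [4] _ (by decide) (by decide +kernel)
      (by simp [U43Type38Cent42.val, U43Type38Cent42.gen])
    have hmS : g.m ∈ S := hw [1] [5] _ (by decide) (by decide +kernel)
      (by simp [U43Type38Cent42.val, U43Type38Cent42.gen])
    have hx : g.x ∈ S := by
      have hy := hl 4 (by norm_num)
      rw [let5, if_pos rfl] at hy
      simpa [← mul_assoc, mm h] using mul_mem hmS hy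
    rw [Gens.span, Subgroup.closure_le]
    intro t ht
    simp only [Set.mem_insert_iff, Set.mem_singleton_iff] at ht
    rcases ht with rfl | rfl | rfl | rfl | rfl
    exacts [ha, hb, hpS, hmS, hx]
  obtain ⟨hfS, hcS⟩ := U43Type38Cert40Idx.card_closure_le (let5 g) C (let5_sq h) (val_rels h)
    hmem hf hc
  refine ⟨Finite.of_injective _ (Subgroup.inclusion_injective hspan), ?_⟩
  exact ((Nat.card_le_card_of_injective _ (Subgroup.inclusion_injective hspan)).trans hcS).trans_eq
    (by norm_num)

end

/-- The group of the five generators has at most `9797760` elements. -/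
theorem card_span_le {G : Type u} [Group G] (g : Gens G) (h : g.Rels) :
    Finite g.span ∧ Nat.card g.span ≤ 9797760 :=
  card_span h

end Cfsg.Agent.U43Type38Cert40
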