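import Cfsg.Agent.Lib.PSUFourThree56
import Cfsg.Agent.Lib.OrthUnitaryPSU

/-!
Facts about groups isomorphic to `PSU₄(3)`: order, simplicity, one class of involutions and no
element of order `35`.
-/

set_option autoImplicit false
set_option linter.unusedSectionVars false

namespace Cfsg.Agent.U43Type38Facts22

open Cfsg Cfsg.Agent.OrthUnitaryHerm Cfsg.Agent.OrthUnitaryTransvection
open scoped Matrix

universe u

variable {K : Type u} [Field K] [Fintype K] (hF : Fintype.card K = 3 ^ 2)

/-- the matrix of an element of `SU₄(3)` -/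
def mat (g : SU 4 K 3) : Matrix (Fin 4) (Fin 4) K :=
  ((g : Matrix.SpecialLinearGroup (Fin 4) K) : Matrix (Fin 4) (Fin 4) K)

theorem mat_mul (g h : SU 4 K 3) : mat (g * h) = mat g * mat h := rfl

theorem mat_inj {g h : SU 4 K 3} (e : mat g = mat h) : g = h := Subtype.ext (Subtype.ext e)

theorem det_mat (g : SU 4 K 3) : (mat g).det = 1 := g.1.2

include hF in
theorem three_eq : (3 : K) = 0 := by
  have h := FiniteField.cast_card_eq_zero K
  rw [hF] at h
  exact pow_eq_zero_iff (n := 2) (by norm_num) |>.1 (by exact_mod_cast h)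

include hF in
theorem neg_one_ne_one : (-1 : K) ≠ 1 := fun h =>
  one_ne_zero (α := K) (by linear_combination (1 : K) * three_eq hF + h)

/-- `h(e_j, e_k) = δ_jk` for the columns gives a unitary matrix. -/
theorem isU_of_cols (hF : Fintype.card K = 3 ^ 2) {M : Matrix (Fin 4) (Fin 4) K}
    (h : ∀ j k : Fin 4, hermForm 4 K 3 (fun i => M i j) (fun i => M i k) = if j = k then 1 else 0) :
    IsU 3 M := by
  intro u v
  simp only [hermForm, Matrix.mulVec, dotProduct] at h ⊢
  calc ∑ i, (∑ j, M i j * u j) * (∑ k, M i k * v k) ^ 3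
      = ∑ i, ∑ j, ∑ k, u j * v k ^ 3 * (M i j * M i k ^ 3) := by
        refine Finset.sum_congr rfl fun i _ => ?_
        rw [sum_pow_q hF, Finset.sum_mul]
        refine Finset.sum_congr rfl fun j _ => ?_
        rw [Finset.mul_sum]
        exact Finset.sum_congr rfl fun k _ => by ring
    _ = ∑ j, ∑ k, u j * v k ^ 3 * ∑ i, M i j * M i k ^ 3 := by
        rw [Finset.sum_comm]
        refine Finset.sum_congr rfl fun j _ => ?_
        rw [Finset.sum_comm]
        exact Finset.sum_congr rfl fun k _ => (Finset.mul_sum _ _ _).symm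
    _ = ∑ i, u i * v i ^ 3 := by
        refine Finset.sum_congr rfl fun j _ => ?_
        simp [h]

/-- A vector of norm one and its projection. -/
theorem two_vectors (hF : Fintype.card K = 3 ^ 2) {A : Matrix (Fin 4) (Fin 4) K} (hA : IsU 3 A)
    (h2 : A * A = 1) (hd : A.det = 1) (hne : A ≠ -1) :
    ∃ e f : Fin 4 → K, A *ᵥ e = e ∧ A *ᵥ f = f ∧ hermForm 4 K 3 e e = 1 ∧
      hermForm 4 K 3 f f = 1 ∧ hermForm 4 K 3 f e = 0 := by
  have h3 := three_eq hF
  have hAA : ∀ x, A *ᵥ (A *ᵥ x) = x := fun x => by rw [Matrix.mulVec_mulVec, h2, Matrix.one_mulVec]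
  have hsym : ∀ x y, hermForm 4 K 3 (A *ᵥ x) y = hermForm 4 K 3 x (A *ᵥ y) := fun x y => by
    conv_lhs => rw [← hAA y]
    rw [hA]
  let π : (Fin 4 → K) →ₗ[K] (Fin 4 → K) := -(LinearMap.id + A.mulVecLin)
  have hπ : ∀ x, π x = -(x + A *ᵥ x) := fun x => rfl
  have hfix : ∀ x, π x = x → A *ᵥ x = x := fun x hx => by
    rw [hπ] at hx
    funext i
    have := congrFun hx i
    simp only [Pi.neg_apply, Pi.add_apply] at this
    linear_combination -this - (x i) * h3
  have hπsym : ∀ x y, hermForm 4 K 3 (π x) y = hermForm 4 K 3 x (π y) := fun x y => by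
    have hn : ∀ w : Fin 4 → K, -w = (-1 : K) • w := fun w => by simp
    rw [hπ, hπ, hn, hn, herm_smul_left, herm_smul_right, herm_add_left, herm_add_right hF, hsym,
      neg_pow_q hF, one_pow]
  have hπid : ∀ x, π (π x) = π x := fun x => by
    rw [hπ, hπ, Matrix.mulVec_neg, Matrix.mulVec_add, hAA]
    funext i
    simp only [Pi.neg_apply, Pi.add_apply]
    linear_combination (x i + (A *ᵥ x) i) * h3
  have hπne : π ≠ 0 := fun h => hne (by
    refine Matrix.ext_of_mulVec_single fun i => ?_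
    have := LinearMap.congr_fun h (Pi.single i 1)
    rw [hπ, LinearMap.zero_apply, neg_eq_zero, add_comm, add_eq_zero_iff_eq_neg] at this
    rw [this, Matrix.neg_mulVec, Matrix.one_mulVec])
  obtain ⟨e, hπe, hee⟩ := exists_norm_of_proj hF π hπsym hπid hπne (r := 1) (one_pow _)
  let π2 : (Fin 4 → K) →ₗ[K] (Fin 4 → K) := π - (hermL 3 e).smulRight e
  have hπ2 : ∀ x, π2 x = π x - hermForm 4 K 3 x e • e := fun x => rfl
  have hπe' : ∀ x, hermForm 4 K 3 (π x) e = hermForm 4 K 3 x e := fun x => by rw [hπsym, hπe]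
  have h2sym : ∀ x y, hermForm 4 K 3 (π2 x) y = hermForm 4 K 3 x (π2 y) := fun x y => by
    rw [hπ2, hπ2, herm_sub_left, herm_sub_right hF, herm_smul_left, herm_smul_right, hπsym,
      ← herm_conj hF y e]
    ring
  have h2id : ∀ x, π2 (π2 x) = π2 x := fun x => by
    rw [hπ2, hπ2, map_sub, map_smul, hπid, hπe, herm_sub_left, herm_smul_left, hπe', hee, mul_one,
      sub_self, zero_smul, sub_zero]
  have h2ne : π2 ≠ 0 := fun h => by
    have hA' : A = -unitaryTransvection 4 3 e 1 := by
      refine Matrix.ext_of_mulVec_single fun i => ?_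
      have := LinearMap.congr_fun h (Pi.single i 1)
      rw [hπ2, LinearMap.zero_apply, sub_eq_zero, hπ] at this
      rw [Matrix.neg_mulVec, transvection_mulVec, one_mul, ← this]
      abel
    have : A.det = 1 + 1 * hermForm 4 K 3 e e := by
      rw [hA', Matrix.det_neg, Fintype.card_fin, det_transvection hF]; ring
    rw [hd, hee, one_mul] at this
    exact one_ne_zero (add_eq_left.1 this.symm)
  obtain ⟨f, hπf, hff⟩ := exists_norm_of_proj hF π2 h2sym h2id h2ne (r := 1) (one_pow _)
  have hfe : hermForm 4 K 3 f e = 0 := by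
    rw [← hπf, hπ2, herm_sub_left, herm_smul_left, hπe', hee, mul_one, sub_self]
  refine ⟨e, f, hfix e hπe, hfix f ?_, hee, hff, hfe⟩
  rw [hπ2, hfe, zero_smul, sub_zero] at hπf
  exact hπf

/-- the standard involution -/
def dstd : Matrix (Fin 4) (Fin 4) K := Matrix.diagonal ![1, 1, -1, -1]

/-- An element of `SU₄(3)` with square one is conjugate to the standard one. -/
theorem exists_conj (hF : Fintype.card K = 3 ^ 2) (g : SU 4 K 3) (h2 : mat g * mat g = 1)
    (hne : mat g ≠ 1) (hne' : mat g ≠ -1) :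
    ∃ m : SU 4 K 3, mat g * mat m = mat m * dstd := by
  have h3 := three_eq hF
  obtain ⟨e, f, he, hf, hee, hff, hfe⟩ := two_vectors hF (A := mat g) g.2 h2 (det_mat g) hne'
  have hnU : IsU 3 (-mat g) := fun u v => by
    have hn : ∀ w : Fin 4 → K, -w = (-1 : K) • w := fun w => by simp
    rw [Matrix.neg_mulVec, Matrix.neg_mulVec, hn, hn (mat g *ᵥ v), herm_smul_left, herm_smul_right,
      neg_pow_q hF, one_pow, ← mul_assoc, neg_mul_neg, one_mul, one_mul]
    exact g.2 u v
  obtain ⟨e', f', he', hf', hee', hff', hfe'⟩ := two_vectors hF (A := -mat g) hnU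
    (by rw [neg_mul_neg, h2]) (by rw [Matrix.det_neg, det_mat]; simp; ring) (fun h => hne (neg_injective h))
  have he'' : mat g *ᵥ e' = -e' := by rw [Matrix.neg_mulVec] at he'; exact neg_eq_iff_eq_neg.1 he'
  have hf'' : mat g *ᵥ f' = -f' := by rw [Matrix.neg_mulVec] at hf'; exact neg_eq_iff_eq_neg.1 hf'
  have horth : ∀ u w, mat g *ᵥ u = u → mat g *ᵥ w = -w → hermForm 4 K 3 u w = 0 := by
    intro u w hu hw
    have := g.2 u w
    change hermForm 4 K 3 (mat g *ᵥ u) (mat g *ᵥ w) = _ at this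
    rw [hu, hw, show -w = (-1 : K) • w by simp, herm_smul_right, neg_pow_q hF, one_pow] at this
    linear_combination this + hermForm 4 K 3 u w * h3
  have z1 := herm_skew_zero hF hfe
  have z1' := herm_skew_zero hF hfe'
  have o1 := horth e e' he he''
  have o2 := horth e f' he hf''
  have o3 := horth f e' hf he''
  have o4 := horth f f' hf hf''
  let cols : K → Fin 4 → Fin 4 → K := fun d => ![d • e, f, e', f']
  let N : K → Matrix (Fin 4) (Fin 4) K := fun d => Matrix.of fun i j => cols d j i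
  have hN : ∀ d : K, d * d ^ 3 = 1 → IsU 3 (N d) := by
    intro d hd
    refine isU_of_cols hF fun j k => ?_
    show hermForm 4 K 3 (cols d j) (cols d k) = _
    fin_cases j <;> fin_cases k <;>
      simp [cols, herm_smul_left, herm_smul_right, hee, hff, hfe, hee', hff', hfe', z1, z1', o1, o2,
        o3, o4, herm_skew_zero hF o1, herm_skew_zero hF o2, herm_skew_zero hF o3,
        herm_skew_zero hF o4, (show d ^ 3 * d = 1 by linear_combination hd)]
  have hU1 := hN 1 (by ring)
  have hdet : (N 1).det * (N 1).det ^ 3 = 1 := by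
    rw [← pow_succ']
    exact IsU.det_pow hF hU1
  set d := (N 1).det ^ 3 with hd
  have hdd : d * d ^ 3 = 1 := by rw [hd, ← mul_pow, hdet, one_pow]
  have hNd : N d = N 1 * Matrix.diagonal ![d, 1, 1, 1] := by
    ext i j
    rw [Matrix.mul_diagonal]
    fin_cases j <;> simp [N, cols, mul_comm]
  have hdet1 : (N d).det = 1 := by
    rw [hNd, Matrix.det_mul, Matrix.det_diagonal, Fin.prod_univ_four]
    simpa [hd] using hdet
  refine ⟨mkSU (N d) hdet1 (hN d hdd), ?_⟩
  show mat g * N d = N d * dstd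
  have hcol : ∀ j i, (mat g * N d) i j = (mat g *ᵥ cols d j) i := fun j i => by
    simp [Matrix.mul_apply, Matrix.mulVec, dotProduct, N]
  ext i j
  rw [hcol, dstd, Matrix.mul_diagonal]
  fin_cases j <;> simp [N, cols, Matrix.mulVec_smul, he, hf, he'', hf'']

/-- An element of `SU₄(3)` cannot square to a scalar of order four. -/
theorem sq_scalar (hF : Fintype.card K = 3 ^ 2) (g : SU 4 K 3) {l : K}
    (h : mat g * mat g = l • (1 : Matrix (Fin 4) (Fin 4) K)) : l * l = 1 := by
  have h3 := three_eq hF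
  by_contra hl
  set A := mat g with hA
  have hU : IsU 3 A := g.2
  have hAA : ∀ x, A *ᵥ (A *ᵥ x) = l • x := fun x => by
    rw [Matrix.mulVec_mulVec, h, Matrix.smul_mulVec, Matrix.one_mulVec]
  have hl4 : l ^ 4 = 1 := by
    have := congrArg Matrix.det h
    rw [Matrix.det_mul, hA, det_mat, Matrix.det_smul, Matrix.det_one, Fintype.card_fin, mul_one,
      mul_one] at this
    exact this.symm
  have hll : l * l = -1 := by
    have : (l * l - 1) * (l * l + 1) = 0 := by linear_combination hl4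
    rcases mul_eq_zero.1 this with h' | h'
    · exact absurd (sub_eq_zero.1 h') hl
    · linear_combination h'
  have hl0 : l ≠ 0 := fun h0 => by
    rw [h0, zero_mul] at hll
    exact one_ne_zero (α := K) (by linear_combination hll)
  -- the Gram determinant of `x`, `A x` never vanishes for a norm one vector
  have hgram : ∀ x, hermForm 4 K 3 x x = 1 →
      hermForm 4 K 3 (A *ᵥ x) x * hermForm 4 K 3 (A *ᵥ x) x ^ 3 ≠ 1 := by
    intro x hx hbad
    set a := hermForm 4 K 3 (A *ᵥ x) x with ha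
    have h1 : a ^ 3 * l ^ 3 * a = l ^ 3 * 1 := by linear_combination l ^ 3 * hbad
    have h2 : hermForm 4 K 3 (A *ᵥ (A *ᵥ x)) (A *ᵥ x) = a := by rw [hU, ha]
    rw [hAA, herm_smul_left, herm_conj hF (A *ᵥ x) x, ← ha] at h2
    have ha0 : a ≠ 0 := fun h0 => by rw [h0, zero_mul] at hbad; exact zero_ne_one hbad
    have h4 : l * a ^ 2 = 1 := mul_left_cancel₀ ha0 (by linear_combination h2)
    have : l * l * (a * a ^ 3) = 1 := by linear_combination (l * a ^ 2 + 1) * h4
    rw [hbad, mul_one] at this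
    exact hl this
  -- projection away from `x` and `A x`
  let π0 : (Fin 4 → K) →ₗ[K] (Fin 4 → K) := LinearMap.id
  obtain ⟨v, -, hv⟩ := exists_norm_of_proj hF π0 (fun _ _ => rfl) (fun _ => rfl)
    (fun hz => one_ne_zero (α := K)
      (congrFun (LinearMap.congr_fun hz (Pi.single (0 : Fin 4) (1 : K))) 0 |> fun h => by
        simpa [π0] using h)) (r := 1) (one_pow _)
  set u := A *ᵥ v with hu
  set a := hermForm 4 K 3 u v with ha
  have hvu : hermForm 4 K 3 v u = a ^ 3 := by rw [ha, ← herm_conj hF]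
  have huu : hermForm 4 K 3 u u = 1 := by rw [hu, hU, hv]
  set G := 1 - a * a ^ 3 with hG
  have hG0 : G ≠ 0 := sub_ne_zero.2 (Ne.symm (hgram v hv))
  have hG3 : G ^ 3 = G := by
    rw [hG, sub_pow_q hF, one_pow, mul_pow, pow_q_q hF]; ring
  have hGi : G⁻¹ ^ 3 = G⁻¹ := by rw [inv_pow, hG3]
  let P : (Fin 4 → K) →ₗ[K] (Fin 4 → K) := LinearMap.id -
    ((G⁻¹ • hermL 3 v).smulRight v + (G⁻¹ • hermL 3 u).smulRight u -
      (G⁻¹ • a • hermL 3 u).smulRight v - (G⁻¹ • a ^ 3 • hermL 3 v).smulRight u)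
  have hP : ∀ x, P x = x - ((G⁻¹ * hermForm 4 K 3 x v) • v + (G⁻¹ * hermForm 4 K 3 x u) • u
      - (G⁻¹ * a * hermForm 4 K 3 x u) • v - (G⁻¹ * a ^ 3 * hermForm 4 K 3 x v) • u) := fun x => by
    simp [P, hermL_apply, mul_assoc, smul_smul]
  have hPv : ∀ x, hermForm 4 K 3 (P x) v = 0 := fun x => by
    simp only [hP, herm_sub_left, herm_add_left, herm_smul_left, hv, ← ha]
    field_simp
    rw [hG]; ring
  have hPu : ∀ x, hermForm 4 K 3 (P x) u = 0 := fun x => by
    simp only [hP, herm_sub_left, herm_add_left, herm_smul_left, huu, hvu]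
    field_simp
    rw [hG]; ring
  have hPsym : ∀ x y, hermForm 4 K 3 (P x) y = hermForm 4 K 3 x (P y) := fun x y => by
    simp only [hP, herm_sub_left, herm_sub_right hF, herm_add_left, herm_add_right hF,
      herm_smul_left, herm_smul_right, mul_pow, hGi, pow_q_q hF, ← herm_conj hF]
    ring
  have hPid : ∀ x, P (P x) = P x := fun x => by
    rw [hP (P x), hPv, hPu]; simp
  have hPne : P ≠ 0 := by
    intro h0
    obtain ⟨z, hzu, hz0⟩ : ∃ z : Fin 4 → K,
        (hermForm 4 K 3 z u = 0 ∧ hermForm 4 K 3 z v = 0) ∧ z ≠ 0 := by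
      have hk : ((hermL 3 u).prod (hermL 3 v) : (Fin 4 → K) →ₗ[K] K × K).ker ≠ ⊥ := fun hb => by
        have := LinearMap.finrank_le_finrank_of_injective (LinearMap.ker_eq_bot.1 hb)
        simp at this
      obtain ⟨z, hz, hz0⟩ := Submodule.exists_mem_ne_zero_of_ne_bot hk
      exact ⟨z, by simpa [hermL_apply] using hz, hz0⟩
    have := LinearMap.congr_fun h0 z
    rw [hP, hzu.1, hzu.2] at this
    exact hz0 (by simpa using this)
  obtain ⟨w, hPw, hw⟩ := exists_norm_of_proj hF P hPsym hPid hPne (r := 1) (one_pow _)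
  have hwv : hermForm 4 K 3 w v = 0 := by rw [← hPw]; exact hPv w
  have hwu : hermForm 4 K 3 w u = 0 := by rw [← hPw]; exact hPu w
  set t := A *ᵥ w with ht
  set b := hermForm 4 K 3 t w with hb
  have htt : hermForm 4 K 3 t t = 1 := by rw [ht, hU, hw]
  have htu : hermForm 4 K 3 t u = 0 := by rw [ht, hu, hU, hwv]
  have htv : hermForm 4 K 3 t v = 0 := by
    have h5 : hermForm 4 K 3 (A *ᵥ t) u = 0 := by rw [ht, hAA, herm_smul_left, hwu, mul_zero]
    rwa [hu, hU] at h5
  let cols : Fin 4 → Fin 4 → K := ![v, u, w, t]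
  let N : Matrix (Fin 4) (Fin 4) K := Matrix.of fun i j => cols j i
  have hinj : N.det ≠ 0 := by
    intro h0
    obtain ⟨s, hs0, hs⟩ := Matrix.exists_mulVec_eq_zero_iff.2 h0
    have hs' : s 0 • v + s 1 • u + s 2 • w + s 3 • t = 0 := by
      rw [← hs]
      funext i
      simp [N, cols, Matrix.mulVec, dotProduct, Fin.sum_univ_four, mul_comm]
    have e1 := congrArg (fun x => hermForm 4 K 3 x v) hs'
    have e2 := congrArg (fun x => hermForm 4 K 3 x u) hs'
    have e3 := congrArg (fun x => hermForm 4 K 3 x w) hs'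
    have e4 := congrArg (fun x => hermForm 4 K 3 x t) hs'
    simp only [herm_add_left, herm_smul_left, herm_zero_left, hv, hvu, huu, ← ha, hwv, hwu,
      htu, htv, herm_skew_zero hF hwv, herm_skew_zero hF hwu, herm_skew_zero hF htu,
      herm_skew_zero hF htv, hw, htt, ← hb, (show hermForm 4 K 3 w t = b ^ 3 from by
        rw [hb, ← herm_conj hF]), mul_zero, add_zero, zero_add, mul_one] at e1 e2 e3 e4
    have g1 : s 1 * (1 - a * a ^ 3) = 0 := by linear_combination e2 - a ^ 3 * e1
    have g3 : s 3 * (1 - b * b ^ 3) = 0 := by linear_combination e4 - b ^ 3 * e3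
    have hs1 := (mul_eq_zero.1 g1).resolve_right hG0
    have hs3 := (mul_eq_zero.1 g3).resolve_right (sub_ne_zero.2 (Ne.symm (hgram w hw)))
    rw [hs1, zero_mul, add_zero] at e1
    rw [hs3, zero_mul, add_zero] at e3
    exact hs0 (funext fun i => by fin_cases i <;> assumption)
  have hcol : ∀ j i, (A * N) i j = (A *ᵥ cols j) i := fun j i => by
    simp [Matrix.mul_apply, Matrix.mulVec, dotProduct, N]
  have hAN : A * N = N * !![0, l, 0, 0; 1, 0, 0, 0; 0, 0, 0, l; 0, 0, 1, 0] := by
    ext i j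
    rw [hcol, Matrix.mul_apply, Fin.sum_univ_four]
    fin_cases j <;> simp [N, cols, ← hu, ← ht, hu ▸ hAA v, ht ▸ hAA w, mul_comm]
  have := congrArg Matrix.det hAN
  rw [Matrix.det_mul, Matrix.det_mul, hA, det_mat, one_mul, mul_comm] at this
  have hD : (!![0, l, 0, 0; 1, 0, 0, 0; 0, 0, 0, l; 0, 0, 1, 0] :
      Matrix (Fin 4) (Fin 4) K).det = 1 := mul_right_cancel₀ hinj (this.symm.trans (one_mul _).symm)
  rw [Matrix.det_succ_row_zero, Fin.sum_univ_four] at hD
  simp [Matrix.det_fin_three, Fin.succAbove] at hD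
  exact hl (by linear_combination hD)

/-- Two lifts differing by a scalar have the same image. -/
theorem mk_eq_of_smul (g h : SU 4 K 3) (s : K) (e : mat g = s • mat h) :
    QuotientGroup.mk' (Subgroup.center (SU 4 K 3)) g = QuotientGroup.mk' _ h := by
  refine (QuotientGroup.eq.2 ?_)
  have h1 : mat h⁻¹ * mat h = 1 := by rw [← mat_mul, inv_mul_cancel]; rfl
  have hz : mat (h⁻¹ * g) = s • (1 : Matrix (Fin 4) (Fin 4) K) := by
    rw [mat_mul, e, mul_smul_comm, h1]
  have hk : h⁻¹ * g ∈ Subgroup.center (SU 4 K 3) := by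
    rw [Subgroup.mem_center_iff]
    intro b
    apply mat_inj
    rw [mat_mul, mat_mul _ b, hz, smul_mul_assoc, one_mul, mul_smul_comm, mul_one]
  simpa using inv_mem hk

/-- An involution of `PSU₄(3)` is the image of a conjugate of the standard involution. -/
theorem exists_conj_PSU (hF : Fintype.card K = 3 ^ 2) (y : PSU 4 K 3) (hy : orderOf y = 2) :
    ∃ g m : SU 4 K 3, QuotientGroup.mk' (Subgroup.center (SU 4 K 3)) g = y ∧
      mat g * mat m = mat m * dstd := by
  obtain ⟨g, rfl⟩ := QuotientGroup.mk'_surjective _ y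
  set π := QuotientGroup.mk' (Subgroup.center (SU 4 K 3))
  have hne : π g ≠ 1 := fun h => by rw [h, orderOf_one] at hy; omega
  have hmem : g * g ∈ Subgroup.center (SU 4 K 3) := by
    rw [← QuotientGroup.eq_one_iff]
    show π (g * g) = 1
    rw [map_mul, ← sq, ← hy, pow_orderOf_eq_one]
  set l := mat (g * g) 0 0 with hl
  have hsc : mat g * mat g = l • (1 : Matrix (Fin 4) (Fin 4) K) := by
    ext i j
    have := center_SU_scalar hF (by norm_num) hmem i j
    rw [← mat_mul]
    show mat (g * g) i j = _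
    rw [show mat (g * g) i j = _ from this, Matrix.smul_apply, Matrix.one_apply]
    split <;> simp [hl, mat]
  have hns : ∀ a : K, mat g ≠ a • (1 : Matrix (Fin 4) (Fin 4) K) := fun a h =>
    hne ((mk_eq_of_smul g 1 a (by rw [h]; rfl)).trans (map_one π))
  have hll := sq_scalar hF g hsc
  rcases mul_self_eq_one_iff.1 hll with h1 | h1
  · rw [h1, one_smul] at hsc
    obtain ⟨m, hm⟩ := exists_conj hF g hsc (fun h => hns 1 (by rw [h, one_smul]))
      (fun h => hns (-1) (by rw [h, neg_one_smul]))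
    exact ⟨g, m, rfl, hm⟩
  · obtain ⟨c, hc⟩ : ∃ c : K, c * c = -1 := by
      obtain ⟨c, hc⟩ := (FiniteField.isSquare_neg_one_iff (F := K)).2 (by rw [hF]; norm_num)
      exact ⟨c, hc.symm⟩
    have hc4 : c ^ 4 = 1 := by linear_combination (c * c - 1) * hc
    let g' : SU 4 K 3 := mkSU (c • mat g)
      (by rw [Matrix.det_smul, det_mat, Fintype.card_fin, hc4, one_mul])
      (fun u v => by
        rw [Matrix.smul_mulVec, Matrix.smul_mulVec, herm_smul_left, herm_smul_right, ← mul_assoc,
          ← pow_succ', hc4, one_mul]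
        exact g.2 u v)
    have hg' : mat g' = c • mat g := rfl
    have he : π g' = π g := mk_eq_of_smul g' g c hg'
    have h2 : mat g' * mat g' = 1 := by
      rw [hg', smul_mul_smul_comm, hsc, h1, smul_smul, hc]; simp
    obtain ⟨m, hm⟩ := exists_conj hF g' h2
      (fun h => hne (he ▸ (mk_eq_of_smul g' 1 1 (by rw [h, one_smul]; rfl)).trans (map_one π)))
      (fun h => hne (he ▸ (mk_eq_of_smul g' 1 (-1) (by rw [h, neg_one_smul]; rfl)).trans (map_one π)))
    exact ⟨g', m, he, hm⟩

/-- `PSU₄(3)` has one class of involutions. -/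
theorem isConj_PSU (hF : Fintype.card K = 3 ^ 2) (y y' : PSU 4 K 3) (hy : orderOf y = 2)
    (hy' : orderOf y' = 2) : IsConj y y' := by
  obtain ⟨g, m, rfl, hm⟩ := exists_conj_PSU hF y hy
  obtain ⟨g', m', rfl, hm'⟩ := exists_conj_PSU hF y' hy'
  set π := QuotientGroup.mk' (Subgroup.center (SU 4 K 3))
  rw [isConj_iff]
  refine ⟨π (m' * m⁻¹), ?_⟩
  have h : m'⁻¹ * g' * m' = m⁻¹ * g * m := by
    apply mat_inj
    have e : ∀ a b : SU 4 K 3, mat a * mat b = mat b * dstd → mat (b⁻¹ * a * b) = dstd := by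
      intro a b hab
      rw [mat_mul, mat_mul, mul_assoc, hab, ← mul_assoc, ← mat_mul, inv_mul_cancel]
      exact one_mul _
    rw [e _ _ hm', e _ _ hm]
  rw [← map_inv, ← map_mul, ← map_mul]
  congr 1
  calc m' * m⁻¹ * g * (m' * m⁻¹)⁻¹ = m' * (m⁻¹ * g * m) * m'⁻¹ := by group
    _ = g' := by rw [← h]; group

/-- `PSU₄(3)` has no element of order `35`. -/
theorem orderOf_ne_PSU (hF : Fintype.card K = 3 ^ 2) (y : PSU 4 K 3) : orderOf y ≠ 35 := by
  intro hy
  have h5 : orderOf (y ^ 5) = 7 := by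
    rw [orderOf_pow, hy]; rfl
  have hC := (PSUFourThree56.normalizer_seven (by rw [hF]; rfl) (Subgroup.zpowers (y ^ 5))
    (by rw [Nat.card_zpowers, h5])).2
  have hmem : y ∈ Subgroup.centralizer (Subgroup.zpowers (y ^ 5) : Set (PSU 4 K 3)) := by
    rw [Subgroup.mem_centralizer_iff]
    rintro _ ⟨i, rfl⟩
    exact ((Commute.pow_self y 5).zpow_left i).eq
  rw [hC] at hmem
  have : orderOf y ∣ 7 := by
    rw [← h5, ← Nat.card_zpowers (y ^ 5)]
    exact (Subgroup.orderOf_mk y hmem).symm.dvd.trans (orderOf_dvd_natCard _)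
  rw [hy] at this
  norm_num at this

section transfer

variable {L : Type*} [Group L] (hK : Fintype.card K = 3 ^ 2) (e : L ≃* PSU 4 K 3)

include hK e

theorem card_eq : Nat.card L = 3265920 := by
  rw [Nat.card_congr e.toEquiv, PSUFourThree56.card_PSU (by rw [hK]; rfl)]

theorem isSimple : IsSimpleGroup L := by
  haveI := OrthUnitaryPSU.isSimpleGroup_PSU (n := 4) (q := 3) hK (by norm_num) (by omega)
  exact e.isSimpleGroup

theorem isConj_of_orderOf_two (x y : L) (hx : orderOf x = 2) (hy : orderOf y = 2) : IsConj x y := by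
  have h := isConj_PSU hK (e x) (e y) (by rw [MulEquiv.orderOf_eq, hx])
    (by rw [MulEquiv.orderOf_eq, hy])
  simpa using e.symm.toMonoidHom.map_isConj h

theorem orderOf_ne_35 (x : L) : orderOf x ≠ 35 := by
  rw [← MulEquiv.orderOf_eq e x]
  exact orderOf_ne_PSU hK _

end transfer

end Cfsg.Agent.U43Type38Facts22
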