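import Cfsg.Agent.Lib.U43Type38Inv7

/-!
# From the relations to the isomorphism

Five elements with all relations in a group with the local data generate a copy of any finite
simple group `M` of order `3265920` generated by such elements, as soon as the relations bound
the order of the generated group by three times that number: a normal subgroup of order at most
three of the generated group would centralise `z` and be normalised by its centraliser.
-/

set_option autoImplicit false

namespace Cfsg.Agent.U43Type38Glue7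

universe u

open Cfsg.Agent.U43Type38 Cfsg.Agent.U43Type38Cent42 Cfsg.Agent.U43Type38Inv7

/-- The check on the nodes: the centre has order two and no subgroup of order three is normal. -/
def check3 (i : Nat) : Bool :=
  let w := wordN i
  (i == 0 || i == run [0, 0] 0 || run (w ++ w) 0 != 0 ||
      [0, 2, 4, 5].any fun x => run (x :: w) 0 != run (w ++ [x]) 0) &&
    (i == 0 || run (w ++ w ++ w) 0 != 0 ||
      [0, 2, 4, 5].any fun x => run (x :: w) 0 != run (w ++ [x]) 0 &&
        run (x :: w) 0 != run (w ++ w ++ [x]) 0)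

theorem check3_all : (List.range 1152).all check3 = true := by decide +kernel

theorem p_ne_z_check : run [4] 0 ≠ run [0, 0] 0 := by decide +kernel

variable {G : Type u} [Group G]

theorem conj_mem_cases {n : ℕ} {c : G} (hc : orderOf c = n) (hn0 : n ≠ 0) (hn : n ≤ 3) {t : G}
    (ht : t ∈ Subgroup.zpowers c) (ht1 : t ≠ 1) : t = c ∨ t = c * c := by
  obtain ⟨z, rfl⟩ := ht
  simp only at ht1 ⊢
  rw [← zpow_mod_orderOf, hc] at ht1 ⊢
  have h1 := Int.emod_nonneg z (by exact_mod_cast hn0 : (n : ℤ) ≠ 0)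
  have h2 := Int.emod_lt_of_pos z (by omega : (0 : ℤ) < n)
  rcases (by omega : z % (n : ℤ) = 0 ∨ z % (n : ℤ) = 1 ∨ z % (n : ℤ) = 2) with h | h | h
  · exact absurd (by rw [h, zpow_zero]) ht1
  · exact Or.inl (by rw [h, zpow_one])
  · exact Or.inr (by rw [h, zpow_two])

/-- An element of order two or three whose cyclic group is normalised by the five elements
does not exist. -/
theorem no_small_normal [Finite G] {g : Gens G} (h : Loc g) (hx : g.Rels) {c : G}
    (hn : orderOf c = 2 ∨ orderOf c = 3)
    (hnorm : ∀ t ∈ g.span, t * c * t⁻¹ ∈ Subgroup.zpowers c) : False := by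
  have hc1 : c ≠ 1 := by
    rintro rfl
    simp at hn
  have hcases : ∀ t ∈ g.span, t * c * t⁻¹ = c ∨ t * c * t⁻¹ = c * c := fun t ht =>
    conj_mem_cases (n := orderOf c) rfl (by omega) (by omega) (hnorm t ht)
      (fun e => hc1 (conj_eq_one_iff.1 e))
  have hgen : ∀ t ∈ ({g.a, g.b, g.p, g.m, g.x} : Set G), t ∈ g.span := fun t ht =>
    Subgroup.subset_closure ht
  -- `z` is a square, so centralises `c`
  have hcz : g.z * c = c * g.z := by
    have ha := hcases g.a (hgen _ (by simp))
    have h3 : (c * c) * (c * c) = c ∨ orderOf c = 2 := by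
      rcases hn with h2 | h3
      · exact Or.inr h2
      · left
        have := pow_orderOf_eq_one c
        rw [h3] at this
        calc c * c * (c * c) = c ^ 3 * c := by simp [pow_succ, mul_assoc]
          _ = c := by rw [this, one_mul]
    refine mul_inv_eq_iff_eq_mul.1 ?_
    rw [Gens.z, show g.a * g.a * c * (g.a * g.a)⁻¹ = g.a * (g.a * c * g.a⁻¹) * g.a⁻¹ by group]
    rcases ha with ha | ha
    · rw [ha, ha]
    · rcases h3 with h3 | h2
      · rw [ha, show g.a * (c * c) * g.a⁻¹ = g.a * c * g.a⁻¹ * (g.a * c * g.a⁻¹) by group, ha, h3]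
      · have hcc : c * c = 1 := by rw [← pow_two, ← h2, pow_orderOf_eq_one]
        rw [hcc] at ha
        exact absurd (conj_eq_one_iff.1 ha) hc1
  have hcard : Nat.card ↥(Subgroup.closure ({g.a, g.b, g.p, g.m} : Set G)) = 1152 := by
    rw [h.gen, h.card]; norm_num
  obtain ⟨i, hi, hci⟩ := exists_elem h.rels (t := c) (by
    rw [h.gen]; exact Subgroup.mem_centralizer_singleton_iff.2 hcz.symm)
  have hk := List.all_eq_true.1 check3_all i (List.mem_range.2 hi)
  simp only [check3, Bool.and_eq_true, Bool.or_eq_true, beq_iff_eq, bne_iff_ne, List.any_eq_true]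
    at hk
  obtain ⟨hk2, hk3⟩ := hk
  have hi0 : i ≠ 0 := by
    rintro rfl
    rw [elem_zero] at hci
    exact hc1 hci.symm
  have hw : val g (wordN i) = c := by
    have hr := List.all_eq_true.1 check_all i (List.mem_range.2 hi)
    simp only [check, Bool.and_eq_true, beq_iff_eq] at hr
    rw [val_eq h.rels, hr.1, hci]
  have hne := fun {v w : List Nat} => val_ne (v := v) (w := w) h.rels hcard
  have hconj : ∀ x ∈ [0, 2, 4, 5], gen g x * c = c * gen g x ∨ gen g x * c = c * c * gen g x := by
    intro x hxm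
    have hmem : gen g x ∈ g.span := by
      simp only [List.mem_cons, List.not_mem_nil, or_false] at hxm
      rcases hxm with rfl | rfl | rfl | rfl <;> exact hgen _ (by simp [gen])
    rcases hcases _ hmem with e | e
    · exact Or.inl (mul_inv_eq_iff_eq_mul.1 e)
    · exact Or.inr (mul_inv_eq_iff_eq_mul.1 e)
  have hcons : ∀ x, val g (x :: wordN i) = gen g x * c := fun x => by
    rw [← hw]; simp [val]
  have hsnoc : ∀ x, val g (wordN i ++ [x]) = c * gen g x := fun x => by
    rw [← hw]; simp [val]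
  rcases hn with h2 | h3
  · have hcc : c * c = 1 := by rw [← pow_two, ← h2, pow_orderOf_eq_one]
    rcases hk2 with ((h0 | hz) | hsq) | ⟨x, hxm, hxne⟩
    · exact hi0 h0
    · -- `c = z`, which `x` moves
      have hcz' : c = g.z := by
        rw [← hci, hz, ← val_eq h.rels]
        simp [val, gen, Gens.z]
      rcases hcases g.x (hgen _ (by simp)) with e | e
      · rw [hcz', hx.xz] at e
        refine hne p_ne_z_check ?_
        simpa [val, gen, Gens.z] using e
      · rw [hcc] at e
        exact hc1 (conj_eq_one_iff.1 e)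
    · refine hne (w := []) hsq ?_
      rw [val_append, hw, hcc]
      rfl
    · rcases hconj x hxm with e | e
      · exact hne hxne (by rw [hcons, hsnoc, e])
      · rw [hcc, one_mul] at e
        exact hc1 (mul_eq_left.1 e)
  · rcases hk3 with (h0 | hcube) | ⟨x, hxm, hxne⟩
    · exact hi0 h0
    · refine hne (w := []) hcube ?_
      have hc3 := pow_orderOf_eq_one c
      rw [h3, pow_succ, pow_two] at hc3
      rw [val_append, val_append, hw, hc3]
      rfl
    · rcases hconj x hxm with e | e
      · exact hne hxne.1 (by rw [hcons, hsnoc, e])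
      · refine hne hxne.2 ?_
        rw [hcons, e, val_append, val_append, hw]
        simp [val]

/-- The five pairs. -/
def pair {H : Type*} [Group H] (g : Gens G) (g₀ : Gens H) : Gens (G × H) :=
  ⟨(g.a, g₀.a), (g.b, g₀.b), (g.p, g₀.p), (g.m, g₀.m), (g.x, g₀.x)⟩

theorem pair_rels {H : Type*} [Group H] {g : Gens G} {g₀ : Gens H} (h : g.Rels) (h₀ : g₀.Rels) :
    (pair g g₀).Rels :=
  { a4 := Prod.ext h.a4 h₀.a4
    b3 := Prod.ext h.b3 h₀.b3
    p2 := Prod.ext h.p2 h₀.p2
    m2 := Prod.ext h.m2 h₀.m2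
    bz := Prod.ext h.bz h₀.bz
    ab := Prod.ext h.ab h₀.ab
    pz := Prod.ext h.pz h₀.pz
    mz := Prod.ext h.mz h₀.mz
    pm := Prod.ext h.pm h₀.pm
    aa' := Prod.ext h.aa' h₀.aa'
    ab' := Prod.ext h.ab' h₀.ab'
    ba' := Prod.ext h.ba' h₀.ba'
    bb' := Prod.ext h.bb' h₀.bb'
    ma := Prod.ext h.ma h₀.ma
    mb := Prod.ext h.mb h₀.mb
    x3 := Prod.ext h.x3 h₀.x3
    xd := Prod.ext h.xd h₀.xd
    xz := Prod.ext h.xz h₀.xz
    xp := Prod.ext h.xp h₀.xp
    xw := Prod.ext h.xw h₀.xw
    xw' := Prod.ext h.xw' h₀.xw'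
    mx := Prod.ext h.mx h₀.mx
    fx := Prod.ext h.fx h₀.fx
    five := Prod.ext h.five h₀.five }

theorem map_span_fst {H : Type*} [Group H] (g : Gens G) (g₀ : Gens H) :
    (pair g g₀).span.map (MonoidHom.fst G H) = g.span := by
  simp only [Gens.span, MonoidHom.map_closure, Set.image_insert_eq, Set.image_singleton]
  rfl

theorem map_span_snd {H : Type*} [Group H] (g : Gens G) (g₀ : Gens H) :
    (pair g g₀).span.map (MonoidHom.snd G H) = g₀.span := by
  simp only [Gens.span, MonoidHom.map_closure, Set.image_insert_eq, Set.image_singleton]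
  rfl

/-- The generated group is the simple model. -/
theorem span_equiv [Finite G] {g : Gens G} (h : Loc g) (hx : g.Rels)
    (hbound : ∀ {H : Type u} [Group H] (g' : Gens H), g'.Rels →
      Finite g'.span ∧ Nat.card g'.span ≤ 9797760)
    {M : Type} [Group M] [IsSimpleGroup M] {g₀ : Gens M} (h₀ : g₀.Rels) (htop : g₀.span = ⊤)
    (hM : Nat.card M = 3265920) : Nonempty (g.span ≃* M) := by
  set Γ := (pair g g₀).span with hΓ
  obtain ⟨hfin, hle⟩ := hbound (pair g g₀) (pair_rels hx h₀)
  set π₂ : Γ →* M := (MonoidHom.snd G M).comp Γ.subtype with hπ₂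
  have hs : Function.Surjective π₂ := by
    intro y
    have hy : y ∈ Γ.map (MonoidHom.snd G M) := by rw [map_span_snd, htop]; trivial
    obtain ⟨x, hxΓ, rfl⟩ := Subgroup.mem_map.1 hy
    exact ⟨⟨x, hxΓ⟩, rfl⟩
  have hker : Nat.card π₂.ker ≤ 3 := by
    have h1 := Subgroup.card_eq_card_quotient_mul_card_subgroup π₂.ker
    rw [Nat.card_congr (QuotientGroup.quotientKerEquivOfSurjective π₂ hs).toEquiv, hM] at h1
    rw [h1] at hle
    omega
  set N : Subgroup G := Γ.comap (MonoidHom.inl G M) with hN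
  have hNnorm : ∀ t ∈ g.span, ∀ c ∈ N, t * c * t⁻¹ ∈ N := by
    intro t ht c hc
    rw [← map_span_fst g g₀] at ht
    obtain ⟨⟨t1, t2⟩, hx', rfl⟩ := Subgroup.mem_map.1 ht
    have := mul_mem (mul_mem hx' hc) (inv_mem hx')
    show ((t1 * c * t1⁻¹, (1 : M)) : G × M) ∈ Γ
    simpa using this
  have hNcard : Nat.card N ≤ 3 := by
    refine le_trans ?_ hker
    exact Nat.card_le_card_of_injective
      (fun c : N => (⟨⟨((c : G), 1), c.2⟩, MonoidHom.mem_ker.2 rfl⟩ : π₂.ker))
      (fun a b hab => Subtype.ext (congrArg (fun w : π₂.ker => (w : Γ).1.1) hab))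
  have hNbot : ∀ c ∈ N, c = 1 := by
    intro c hc
    by_contra hc1
    have hord : orderOf c ≤ Nat.card N := by
      rw [← Nat.card_zpowers]
      exact Subgroup.card_le_of_le (Subgroup.zpowers_le.2 hc)
    have h1 : orderOf c ≠ 1 := fun e => hc1 (orderOf_eq_one_iff.1 e)
    have h0 := orderOf_pos c
    have hcases : orderOf c = 2 ∨ orderOf c = 3 := by omega
    have hdvd : orderOf c ∣ Nat.card N := by
      rw [← Subgroup.orderOf_mk c hc]; exact orderOf_dvd_natCard _
    have heq : Subgroup.zpowers c = N := by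
      refine Subgroup.eq_of_le_of_card_ge (Subgroup.zpowers_le.2 hc) ?_
      rw [Nat.card_zpowers]
      obtain ⟨k, hk⟩ := hdvd
      rcases hcases with e | e <;> rw [e] at hk ⊢ <;> omega
    exact no_small_normal h hx hcases fun t ht => heq ▸ hNnorm t ht c hc
  have hinj : Function.Injective π₂ := by
    rw [injective_iff_map_eq_one]
    rintro ⟨⟨c, t⟩, hct⟩ (ht : t = 1)
    subst ht
    have : c = 1 := hNbot c hct
    subst this
    rfl
  let e₂ : Γ ≃* M := MulEquiv.ofBijective π₂ ⟨hinj, hs⟩
  set π₁ : M →* g.span :=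
    (((MonoidHom.fst G M).comp Γ.subtype).codRestrict g.span fun x => by
      rw [← map_span_fst g g₀]; exact ⟨_, x.2, rfl⟩).comp e₂.symm.toMonoidHom with hπ₁
  have hs1 : Function.Surjective π₁ := by
    rintro ⟨y, hy⟩
    rw [← map_span_fst g g₀] at hy
    obtain ⟨x, hxΓ, rfl⟩ := Subgroup.mem_map.1 hy
    exact ⟨e₂ ⟨x, hxΓ⟩, Subtype.ext (by simp [hπ₁])⟩
  have hi1 : Function.Injective π₁ := by
    rw [← MonoidHom.ker_eq_bot_iff]
    rcases π₁.normal_ker.eq_bot_or_eq_top with hb | ht
    · exact hb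
    · exfalso
      have hone : ∀ y : g.span, y = 1 := fun y => by
        obtain ⟨x, rfl⟩ := hs1 y
        exact MonoidHom.mem_ker.1 (ht ▸ Subgroup.mem_top x)
      have ha : g.a = 1 := congrArg Subtype.val
        (hone ⟨g.a, Subgroup.subset_closure (by simp)⟩)
      have := h.hz
      rw [Gens.z, ha, mul_one, orderOf_one] at this
      norm_num at this
  exact ⟨(MulEquiv.ofBijective π₁ ⟨hi1, hs1⟩).symm⟩

/-- The endgame: the group is the simple model, and has one class of involutions. -/
theorem main [Finite G] {g : Gens G} (h : Loc g) (hx : g.Rels)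
    (hbound : ∀ {H : Type u} [Group H] (g' : Gens H), g'.Rels →
      Finite g'.span ∧ Nat.card g'.span ≤ 9797760)
    {M : Type} [Group M] [IsSimpleGroup M] {g₀ : Gens M} (h₀ : g₀.Rels) (htop : g₀.span = ⊤)
    (hM : Nat.card M = 3265920)
    (hM1 : ∀ s t : M, orderOf s = 2 → orderOf t = 2 → IsConj s t)
    (hM35 : ∀ s : M, orderOf s ≠ 35) :
    Nonempty (G ≃* M) ∧ Nat.card G = 2 ^ 7 * 3 ^ 6 * 5 * 7 ∧
      ∀ x y : G, orderOf x = 2 → orderOf y = 2 → IsConj x y := by
  obtain ⟨e⟩ := span_equiv h hx (fun g' => hbound g') h₀ htop hM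
  have htopG := U43Type38Top7.eq_top_of_equiv h (U43Type38Inv7.hone h) e hM hM1 hM35
  let e' : G ≃* M := Subgroup.topEquiv.symm.trans ((MulEquiv.subgroupCongr htopG.symm).trans e)
  refine ⟨⟨e'⟩, by rw [Nat.card_congr e'.toEquiv, hM]; norm_num, fun x y hx' hy => ?_⟩
  exact (U43Type38Inv7.hone h x hx').symm.trans (U43Type38Inv7.hone h y hy)

end Cfsg.Agent.U43Type38Glue7
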