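import Cfsg.Agent.Lib.U43Type38Spec

/-!
The interface between the analysis of the centraliser of the involution in a group of the
unitary type in dimension four over nine elements and the rest of the argument.
-/

set_option autoImplicit false

namespace Cfsg.Agent.U43Type38

universe u

variable {G : Type u} [Group G]

/-- What the analysis of the centraliser of the involution gives. -/
structure Loc (g : Gens G) : Prop where
  rels : g.CentRels
  hz : orderOf g.z = 2
  gen : Subgroup.closure {g.a, g.b, g.p, g.m} = Subgroup.centralizer ({g.z} : Set G)
  card : Nat.card (Subgroup.centralizer ({g.z} : Set G)) = 2 ^ 7 * 3 ^ 2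
  conj_aa' : IsConj g.z (g.a * g.a')
  conj_p : IsConj g.z g.p
  conj_m : IsConj g.z g.m

end Cfsg.Agent.U43Type38
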