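import Cfsg.Agent.Lib.U43Type38Good
import Cfsg.Agent.Lib.U43Type38Loc

/-!
Generators of the centraliser of the involution in a group of the unitary type in dimension four
over nine elements, with their relations.
-/

set_option autoImplicit false

namespace Cfsg.Agent.U43Type38

open Cfsg.Agent.U43Type38SL Cfsg.Agent.SL23Model77

universe u

variable {G : Type u} [Group G] {z y : G} {φ : P →* G}

theorem no_inner : ∀ c : SL, c * w0 * c⁻¹ = w0 * n →
    c * w1 * c⁻¹ = k0 ∨ c * w1 * c⁻¹ = k0 * n → False := by decide +kernel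

theorem conj_w1_fact : w1 * w0 * w1⁻¹ = w0 * n ∧
    (w1 * (w0 * w1) * w1⁻¹ = k0 ∨ w1 * (w0 * w1) * w1⁻¹ = k0 * n) ∧
    (w1 * (w0 * (w1 * n)) * w1⁻¹ = k0 ∨ w1 * (w0 * (w1 * n)) * w1⁻¹ = k0 * n) ∧
    (k0 * n) * n = k0 := by decide +kernel

theorem pair_facts : (∀ a b : SL, Eq' (a, 1) (b, 1) → a = b) ∧
    (∀ a b : SL, Eq' (1, a) (1, b) → a = b) ∧
    ∀ a b : SL, Eq' (a, 1) (1, b) → (a = 1 ∨ a = n) := by decide +kernel

theorem aa_fact : ∀ A A' : SL, A ^ 4 = 1 → A * A = n → A' ^ 4 = 1 →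
    ¬ Eq' ((A, 1) * (1, A')) 1 ∧ ¬ Eq' ((A, 1) * (1, A')) zz := by decide +kernel

set_option maxHeartbeats 4000000 in
theorem exists_loc [Finite G] (S : Setup z φ) : ∃ g : Gens G, Loc g ∧ g.z = z := by
  classical
  obtain ⟨y, φ, ψ, W, hconjy⟩ := S.exists_world
  clear S
  have S := W.sφ
  obtain ⟨r₁, r₂, R⟩ := W.exists_goodPair hconjy
  have hzy : Commute z y := W.z_commute_y
  have r1inv : r₁⁻¹ = r₁ := inv_eq_of_mul_eq_one_left R.sq₁
  have r2inv : r₂⁻¹ = r₂ := inv_eq_of_mul_eq_one_left R.sq₂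
  -- the action on the first coordinate
  have hr0 : ∀ r, r * r = 1 → Commute r z → gcm (φ v0) r = z * y →
      r * φ (w0, 1) * r = φ (1, w0) := by
    intro r hr2 hrz hg
    have hrinv : r⁻¹ = r := inv_eq_of_mul_eq_one_left hr2
    have e1 : r * (φ v0)⁻¹ * r = (φ v0)⁻¹ * (z * y) := by
      rw [← hg, gcm, hrinv]; group
    have e2 : r * φ v0 * r = (z * y)⁻¹ * φ v0 := by
      have := congrArg (·⁻¹) e1
      simp only [mul_inv_rev, inv_inv, hrinv] at this
      rw [← mul_assoc] at this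
      rw [this, mul_inv_rev]
    have e3 : (z * y)⁻¹ = φ (zz * y0) := by
      rw [map_mul, S.φz, W.φy]
      refine inv_eq_of_mul_eq_one_left ?_
      rw [hzy.symm.mul_mul_mul_comm, S.zz_sq, W.sψ.zz_sq, one_mul]
    show r * φ v0 * r = _
    rw [e2, e3, ← map_mul]
    exact S.eq_iff.2 (by decide +kernel)
  have h01 := hr0 r₁ R.sq₁ R.cz₁ R.c0₁
  have h02 := hr0 r₂ R.sq₂ R.cz₂ R.c0₂
  obtain ⟨hw1, hf1, hs1⟩ := swap_aux S (Or.inl rfl) R.sq₁ R.cz₁ h01 R.c11
  obtain ⟨hw2, hf2, hs2⟩ := swap_aux S (Or.inr rfl) R.sq₂ R.cz₂ h02 R.c22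
  -- the two involutions
  set K := φ q1 with hKdef
  obtain ⟨p, hpdef⟩ : ∃ p, p = K * r₁ * K⁻¹ := ⟨_, rfl⟩
  have hKz : Commute K z := S.commute_z q1
  have hp2 : p * p = 1 := by
    calc p * p = K * (r₁ * r₁) * K⁻¹ := by rw [hpdef]; group
      _ = 1 := by rw [R.sq₁]; simp
  have hpinv : p⁻¹ = p := inv_eq_of_mul_eq_one_left hp2
  have hm2 : r₂ * r₂ = 1 := R.sq₂
  have hpz : Commute p z := by rw [hpdef]; exact (hKz.mul_left R.cz₁).mul_left hKz.inv_left
  have hpfirst : ∀ x, ∃ x', p * φ (x, 1) * p = φ (1, x') := by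
    intro x
    obtain ⟨x', hx'⟩ := hf1 (w1⁻¹ * x * w1)
    refine ⟨x', ?_⟩
    calc p * φ (x, 1) * p = K * (r₁ * (K⁻¹ * φ (x, 1) * K) * r₁) * K⁻¹ := by
          rw [hpdef]; group
      _ = K * φ (1, x') * K⁻¹ := by
          rw [hKdef, ← map_inv, ← map_mul, ← map_mul, show (q1⁻¹ * (x, 1) * q1 : P) =
            (w1⁻¹ * x * w1, 1) by simp [q1], hx']
      _ = φ (1, x') := by
          rw [hKdef, ← map_inv, ← map_mul, ← map_mul]; simp [q1]
  have hpsecond : ∀ x x', r₁ * φ (1, x) * r₁ = φ (x', 1) →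
      p * φ (1, x) * p = φ (w1 * x' * w1⁻¹, 1) := by
    intro x x' hx'
    calc p * φ (1, x) * p = K * (r₁ * (K⁻¹ * φ (1, x) * K) * r₁) * K⁻¹ := by
          rw [hpdef]; group
      _ = K * φ (x', 1) * K⁻¹ := by
          rw [hKdef, ← map_inv, ← map_mul, ← map_mul,
            show (q1⁻¹ * (1, x) * q1 : P) = (1, x) by simp [q1], hx']
      _ = _ := by rw [hKdef, ← map_inv, ← map_mul, ← map_mul]; simp [q1]
  -- `p` in standard form
  obtain ⟨c, hc, hpc⟩ : ∃ c, Zc z c ∧ p = c * φ v1 * r₁ := by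
    have e : p = K * (r₁ * K⁻¹ * r₁) * r₁ := by
      rw [hpdef]
      simp only [mul_assoc, R.sq₁, mul_one]
    have e' : r₁ * K⁻¹ * r₁ = (r₁ * φ (w1, 1) * r₁)⁻¹ := by
      rw [hKdef, mul_inv_rev, mul_inv_rev, r1inv, mul_assoc]; rfl
    rcases hw1 with h | h
    · refine ⟨z, Or.inr rfl, ?_⟩
      rw [e, e', h, hKdef, ← map_inv, ← map_mul, ← S.φz, ← map_mul]
      congr 1
      exact S.eq_iff.2 (by decide +kernel)
    · refine ⟨1, Or.inl rfl, ?_⟩
      rw [e, e', h, hKdef, ← map_inv, ← map_mul, one_mul]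
      congr 1
      exact S.eq_iff.2 (by decide +kernel)
  have hpm : p * r₂ * (p * r₂) = z := by
    have hvz : Commute (φ v1) z := S.commute_z v1
    have hvy : Commute (φ v1) y := by
      rw [← W.φy]; exact S.commute_iff.2 (by decide +kernel)
    have hg : gcm (φ v1 * r₁) r₂ = z := by
      rw [gcm_mul_left, R.comm, conj_of_commute hvy, R.c12, ← mul_assoc, ← hzy.eq, mul_assoc,
        W.sψ.zz_sq, mul_one]
    have hg' : gcm p r₂ = z := by
      rw [hpc]
      rcases hc with h | h <;> rw [h]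
      · rw [one_mul, hg]
      · rw [mul_assoc, gcm_mul_left, hg, show gcm z r₂ = 1 from gcm_eq_one_iff.2 R.cz₂.symm,
          mul_one, conj_of_commute (Commute.refl z)]
    calc p * r₂ * (p * r₂) = gcm p r₂ := by rw [gcm, hpinv, r2inv]; group
      _ = z := hg'
  obtain ⟨s, hsdef⟩ : ∃ s, s = p * r₂ := ⟨_, rfl⟩
  have hsinv : s⁻¹ = r₂ * p := by rw [hsdef, mul_inv_rev, hpinv, r2inv]
  -- the automorphism of the first factor
  have hα : ∀ x : SL, ∃ x', s * φ (x, 1) * s⁻¹ = φ (x', 1) := by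
    intro x
    obtain ⟨x₁, h1⟩ := hf2 x
    obtain ⟨x₂, h2⟩ := hs1 x₁
    refine ⟨w1 * x₂ * w1⁻¹, ?_⟩
    calc s * φ (x, 1) * s⁻¹ = p * (r₂ * φ (x, 1) * r₂) * p := by rw [hsinv, hsdef]; group
      _ = _ := by rw [h1, hpsecond _ _ h2]
  choose α hαspec using hα
  have hαmul : ∀ a b, α (a * b) = α a * α b := by
    intro a b
    refine pair_facts.1 _ _ (S.eq_iff.1 ?_)
    rw [← hαspec, show ((a * b, 1) : P) = (a, 1) * (b, 1) by simp,
      show ((α a * α b, 1) : P) = (α a, 1) * (α b, 1) by simp, map_mul, map_mul, ← hαspec,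
      ← hαspec]
    group
  have hα1 : α 1 = 1 := by
    have h := hαmul 1 1
    rw [one_mul] at h
    exact mul_eq_left.1 h.symm
  let αh : SL →* SL := ⟨⟨α, hα1⟩, hαmul⟩
  have hinvol : ∀ x, α (α x) = x := by
    intro x
    refine pair_facts.1 _ _ (S.eq_iff.1 ?_)
    rw [← hαspec, ← hαspec]
    have hzs : s * s = z := by rw [hsdef]; exact hpm
    calc s * (s * φ (x, 1) * s⁻¹) * s⁻¹ = (s * s) * φ (x, 1) * (s * s)⁻¹ := by group
      _ = φ (x, 1) := by rw [hzs, (S.commute_z (x, 1)).symm.eq, mul_inv_cancel_right]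
  have hI : α w0 = w0 * n := by
    refine pair_facts.1 _ _ (S.eq_iff.1 ?_)
    rw [← hαspec]
    have h1 : r₁ * φ (1, w0) * r₁ = φ (w0, 1) := by
      rw [← h01]
      calc r₁ * (r₁ * φ (w0, 1) * r₁) * r₁ = (r₁ * r₁) * φ (w0, 1) * (r₁ * r₁) := by group
        _ = _ := by rw [R.sq₁, one_mul, mul_one]
    calc s * φ (w0, 1) * s⁻¹ = p * (r₂ * φ (w0, 1) * r₂) * p := by rw [hsinv, hsdef]; group
      _ = _ := by rw [h02, hpsecond _ _ h1, conj_w1_fact.1]
  have hJ : α w1 = k0 ∨ α w1 = k0 * n := by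
    have h1 : r₁ * φ (1, w0) * r₁ = φ (w0, 1) := by
      rw [← h01]
      calc r₁ * (r₁ * φ (w0, 1) * r₁) * r₁ = (r₁ * r₁) * φ (w0, 1) * (r₁ * r₁) := by group
        _ = _ := by rw [R.sq₁, one_mul, mul_one]
    have hback : ∀ a b : G, r₁ * a * r₁ = b → r₁ * b * r₁ = a := fun a b h => by
      rw [← h]
      calc r₁ * (r₁ * a * r₁) * r₁ = (r₁ * r₁) * a * (r₁ * r₁) := by group
        _ = a := by rw [R.sq₁, one_mul, mul_one]
    have hw : r₁ * φ (1, w1) * r₁ = φ (w1, 1) ∨ r₁ * φ (1, w1) * r₁ = φ (w1 * n, 1) := by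
      rcases hw1 with h | h
      · exact Or.inl (hback _ _ h)
      · right
        have := hback _ _ h
        rw [show ((1, w1 * n) : P) = (1, w1) * (1, n) by simp, map_mul,
          S.eq_iff.2 (show Eq' ((1, n) : P) zz by decide +kernel), S.φz, ← mul_assoc,
          mul_assoc _ z, ← R.cz₁.eq, ← mul_assoc] at this
        rw [eq_mul_inv_of_mul_eq this, S.z_inv, ← S.φz, ← map_mul]
        simp [zz]
    obtain ⟨e, he, hk⟩ : ∃ e, (e = w1 ∨ e = w1 * n) ∧
        r₁ * φ (1, k0) * r₁ = φ (w0 * e, 1) := by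
      have hsplit : r₁ * φ (1, k0) * r₁ = (r₁ * φ (1, w0) * r₁) * (r₁ * φ (1, w1) * r₁) := by
        rw [show ((1, k0) : P) = (1, w0) * (1, w1) by simp [k0], map_mul]
        calc r₁ * (φ (1, w0) * φ (1, w1)) * r₁
            = r₁ * φ (1, w0) * (r₁ * r₁) * φ (1, w1) * r₁ := by rw [R.sq₁]; group
          _ = _ := by group
      rcases hw with h | h
      · exact ⟨w1, Or.inl rfl, by rw [hsplit, h1, h, ← map_mul]; simp⟩
      · exact ⟨w1 * n, Or.inr rfl, by rw [hsplit, h1, h, ← map_mul]; simp⟩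
    have hstep : s * φ (w1, 1) * s⁻¹ = φ (w1 * (w0 * e) * w1⁻¹, 1) ∨
        s * φ (w1, 1) * s⁻¹ = φ (w1 * (w0 * e) * w1⁻¹ * n, 1) := by
      have hcalc : s * φ (w1, 1) * s⁻¹ = p * (r₂ * φ (w1, 1) * r₂) * p := by
        rw [hsinv, hsdef]; group
      rcases hw2 with h | h
      · exact Or.inl (by rw [hcalc, h, hpsecond _ _ hk])
      · right
        have hne : φ (1, k0 * n) = φ (1, k0) * z := by
          rw [← S.φz, ← map_mul]; exact S.eq_iff.2 (by decide +kernel)
        rw [hcalc, h, hne]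
        calc p * (φ (1, k0) * z) * p = p * φ (1, k0) * p * z := by
              rw [mul_assoc, mul_assoc, ← hpz.eq, ← mul_assoc, ← mul_assoc]
          _ = _ := by rw [hpsecond _ _ hk, ← S.φz, ← map_mul]; simp [zz]
    have hnn := conj_w1_fact.2.2.2
    rcases hstep with h | h <;>
      rw [pair_facts.1 _ _ (S.eq_iff.1 ((hαspec w1).symm.trans h))] <;>
      rcases he with rfl | rfl
    · exact conj_w1_fact.2.1
    · exact conj_w1_fact.2.2.1
    · rcases conj_w1_fact.2.1 with e | e <;> rw [e] <;> simp [hnn]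
    · rcases conj_w1_fact.2.2.1 with e | e <;> rw [e] <;> simp [hnn]
  have hU : (α u) ^ 3 = 1 := by
    show (αh u) ^ 3 = 1
    rw [← map_pow, show u ^ 3 = (1 : SL) by decide +kernel, map_one]
  have hUI : α u * α w0 * (α u)⁻¹ = α w1 := by
    show αh u * αh w0 * (αh u)⁻¹ = αh w1
    rw [← map_inv, ← map_mul, ← map_mul]; rfl
  obtain ⟨t, ht⟩ := enc_surjective (α u)
  have hNF : ∀ t : Idx, NF (α w0) (α u) t = α (enc t) := by
    intro t
    show (αh w0) ^ t.1.val * (αh u * αh w0 * (αh u)⁻¹) ^ t.2.1.val * (αh u) ^ t.2.2.val =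
      αh (enc t)
    simp only [enc, w1, map_mul, map_pow, map_inv]
  obtain ⟨tA, tB, hA4, hA2, hB3, hAB, hαB, hαA, hgenAB⟩ := outer_fact (α w0) (Or.inr hI)
    (α u) hU (by rw [hUI]; exact hJ) t ht (by rw [hNF, ht, hinvol])
  rw [hNF] at hαB hαA
  set A := enc tA
  set B := enc tB
  set a := φ (A, 1) with hadef
  set b := φ (B, 1) with hbdef
  let g : Gens G := ⟨a, b, p, r₂, 1⟩
  have hgz : g.z = z := by
    show a * a = z
    rw [hadef, ← map_mul, ← S.φz]; simp [zz, hA2]
  obtain ⟨A', hA'⟩ := hpfirst A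
  obtain ⟨B', hB'⟩ := hpfirst B
  have ha' : g.a' = φ (1, A') := hA'
  have hb' : g.b' = φ (1, B') := hB'
  have hsab : ∀ x, p * (r₂ * φ (x, 1) * r₂) * p = φ (α x, 1) := fun x => by
    rw [← hαspec, hsinv, hsdef]; group
  have hrels : g.CentRels := by
    refine ⟨?_, ?_, ?_, ?_, ?_, ?_, ?_, ?_, ?_, ?_, ?_, ?_, ?_, ?_, ?_⟩
    · show a ^ 4 = 1
      rw [hadef, ← map_pow]; simp [hA4]; exact map_one φ
    · show b ^ 3 = 1
      rw [hbdef, ← map_pow]; simp [hB3]; exact map_one φ
    · show p ^ 2 = 1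
      rw [pow_two]; exact hp2
    · show r₂ ^ 2 = 1
      rw [pow_two]; exact hm2
    · rw [hgz]; exact S.commute_z _
    · show (a * b) ^ 3 = g.z
      rw [hgz, hadef, hbdef, ← map_mul, ← map_pow, ← S.φz]
      simp [zz, hAB]
    · rw [hgz]; exact hpz
    · rw [hgz]; exact R.cz₂
    · show (p * r₂) ^ 2 = g.z
      rw [hgz, pow_two]; exact hpm
    · rw [ha']; exact (show Commute ((A, 1) : P) (1, A') by simp [Commute, SemiconjBy]).map φ
    · rw [hb']; exact (show Commute ((A, 1) : P) (1, B') by simp [Commute, SemiconjBy]).map φ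
    · rw [ha']; exact (show Commute ((B, 1) : P) (1, A') by simp [Commute, SemiconjBy]).map φ
    · rw [hb']; exact (show Commute ((B, 1) : P) (1, B') by simp [Commute, SemiconjBy]).map φ
    · show p * (r₂ * a * r₂) * p = b * a⁻¹ * b⁻¹
      rw [hadef, hsab, hαA, hbdef, ← map_inv, ← map_inv, ← map_mul, ← map_mul]; simp
    · show r₂ * b * r₂ = (p * b * p)⁻¹
      have h := hsab B
      rw [hαB, ← hbdef] at h
      have h2 : r₂ * b * r₂ = p * φ (B⁻¹, 1) * p := by
        rw [← h]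
        calc r₂ * b * r₂ = (p * p) * (r₂ * b * r₂) * (p * p) := by rw [hp2, one_mul, mul_one]
          _ = _ := by group
      rw [h2, show ((B⁻¹, 1) : P) = (B, 1)⁻¹ by simp, map_inv, ← hbdef, mul_inv_rev, mul_inv_rev,
        hpinv, mul_assoc]
  set T := Subgroup.closure {a, b, p, r₂} with hT
  have hTa : a ∈ T := Subgroup.subset_closure (by simp)
  have hTb : b ∈ T := Subgroup.subset_closure (by simp)
  have hTp : p ∈ T := Subgroup.subset_closure (by simp)
  have hTm : r₂ ∈ T := Subgroup.subset_closure (by simp)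
  have hfirstT : ∀ x : SL, φ (x, 1) ∈ T := by
    intro x
    obtain ⟨t', rfl⟩ := hgenAB x
    have hsplit : φ (NF A B t', 1) = a ^ t'.1.val * (b * a * b⁻¹) ^ t'.2.1.val * b ^ t'.2.2.val := by
      simp only [hadef, hbdef, ← map_inv, ← map_pow, ← map_mul]
      congr 1
      simp [NF]
    rw [hsplit]
    exact mul_mem (mul_mem (pow_mem hTa _) (pow_mem (mul_mem (mul_mem hTb hTa) (inv_mem hTb)) _))
      (pow_mem hTb _)
  have hrange : ∀ x : P, φ x ∈ T := by
    intro x
    have hsecondT : ∀ x, φ (1, x) ∈ T := by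
      intro x
      obtain ⟨x', hx'⟩ := hs1 x
      have h := hpsecond _ _ hx'
      have : φ (1, x) = p * φ (w1 * x' * w1⁻¹, 1) * p := by
        rw [← h]
        calc φ (1, x) = (p * p) * φ (1, x) * (p * p) := by rw [hp2, one_mul, mul_one]
          _ = _ := by group
      rw [this]
      exact mul_mem (mul_mem hTp (hfirstT _)) hTp
    rw [show x = (x.1, 1) * (1, x.2) by simp, map_mul]
    exact mul_mem (hfirstT _) (hsecondT _)
  have hTle : T ≤ Subgroup.centralizer ({z} : Set G) := by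
    rw [hT, Subgroup.closure_le]
    intro w hw
    simp only [Set.mem_insert_iff, Set.mem_singleton_iff] at hw
    rcases hw with rfl | rfl | rfl | rfl
    · exact S.le _
    · exact S.le _
    · exact Subgroup.mem_centralizer_singleton_iff.2 hpz
    · exact Subgroup.mem_centralizer_singleton_iff.2 R.cz₂
  -- the four cosets of the image
  have hnormal1 : ∀ (q : P) (x : SL), φ q * φ (x, 1) * (φ q)⁻¹ = φ (q.1 * x * q.1⁻¹, 1) := by
    intro q x
    rw [← map_inv, ← map_mul, ← map_mul]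
    congr 1
    ext1 <;> simp
  have hw0ne : ∀ x : SL, w0 ≠ 1 ∧ w0 ≠ n ∧ x * w0 * x⁻¹ ≠ 1 ∧ x * w0 * x⁻¹ ≠ n := by
    decide +kernel
  have hpnot : ∀ q : P, φ q ≠ p := by
    intro q hq
    obtain ⟨x', hx'⟩ := hpfirst w0
    nth_rw 2 [← hpinv] at hx'
    rw [← hq, hnormal1] at hx'
    rcases pair_facts.2.2 _ _ (S.eq_iff.1 hx') with h | h
    · exact (hw0ne q.1).2.2.1 h
    · exact (hw0ne q.1).2.2.2 h
  have hmnot : ∀ q : P, φ q ≠ r₂ := by
    intro q hq
    have hx' := h02
    nth_rw 2 [← r2inv] at hx'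
    rw [← hq, hnormal1] at hx'
    rcases pair_facts.2.2 _ _ (S.eq_iff.1 hx') with h | h
    · exact (hw0ne q.1).2.2.1 h
    · exact (hw0ne q.1).2.2.2 h
  have hsnot : ∀ q : P, φ q ≠ s := by
    intro q hq
    have hc : ∀ x, α x = q.1 * x * q.1⁻¹ := fun x => by
      refine pair_facts.1 _ _ (S.eq_iff.1 ?_)
      rw [← hαspec, ← hq, hnormal1]
    refine no_inner q.1 ?_ ?_
    · rw [← hc, hI]
    · rw [← hc]; exact hJ
  have hlow : 1152 ≤ Nat.card T := by
    let c : Fin 4 → G := ![1, p, r₂, s]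
    have hcT : ∀ i, c i ∈ T := by
      intro i; fin_cases i
      exacts [one_mem _, hTp, hTm, (show s ∈ T from hsdef ▸ mul_mem hTp hTm)]
    let F : φ.range × Fin 4 → T := fun k => ⟨(k.1 : G) * c k.2, mul_mem
      (by obtain ⟨x, hx⟩ := k.1.2; rw [← hx]; exact hrange x) (hcT k.2)⟩
    have hF : Function.Injective F := by
      rintro ⟨⟨k, hk⟩, i⟩ ⟨⟨k', hk'⟩, j⟩ h
      have h' : k * c i = k' * c j := congrArg Subtype.val h
      have hmem : c j * (c i)⁻¹ ∈ φ.range := by
        have : c j * (c i)⁻¹ = k'⁻¹ * k := by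
          rw [eq_inv_mul_iff_mul_eq, ← mul_assoc, ← h', mul_inv_cancel_right]
        rw [this]; exact mul_mem (inv_mem hk') hk
      have hij : i = j := by
        by_contra hne
        have key : ∀ g, g ∈ φ.range → g ≠ p ∧ g ≠ r₂ ∧ g ≠ s := by
          rintro g ⟨q, rfl⟩
          exact ⟨hpnot q, hmnot q, hsnot q⟩
        have hzr : z ∈ φ.range := ⟨zz, S.φz⟩
        have e1 : p * r₂ = s := hsdef.symm
        have e2 : r₂ * p = s⁻¹ := hsinv.symm
        have e3 : p * s = r₂ := by rw [hsdef, ← mul_assoc, hp2, one_mul]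
        have e4 : s * r₂ = p := by rw [hsdef, mul_assoc, hm2, mul_one]
        have hconjR : ∀ g ∈ φ.range, p * g * p ∈ φ.range := by
          rintro g ⟨q, rfl⟩
          obtain ⟨q', hq'⟩ := S.norm p (Subgroup.mem_centralizer_singleton_iff.2 hpz) q
          rw [hpinv] at hq'
          exact ⟨q', hq'.symm⟩
        have e5 : p * (s * p) * p = r₂ := by
          rw [← mul_assoc, mul_assoc _ p p, hp2, mul_one, e3]
        fin_cases i <;> fin_cases j <;>
          simp only [c, Fin.zero_eta, Fin.mk_one, Fin.reduceFinMk, Matrix.cons_val_zero,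
            Matrix.cons_val_one, Matrix.cons_val, inv_one, mul_one, one_mul, hpinv, r2inv] at hmem hne
        all_goals first
          | exact hne rfl
          | exact absurd trivial hne
          | exact (key _ hmem).1 rfl
          | exact (key _ hmem).2.1 rfl
          | exact (key _ hmem).2.2 rfl
          | (rw [e1] at hmem; exact (key _ hmem).2.2 rfl)
          | (rw [e2] at hmem; exact (key _ (by simpa using inv_mem hmem)).2.2 rfl)
          | (rw [e4] at hmem; exact (key _ hmem).1 rfl)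
          | (have := inv_mem hmem; rw [inv_inv] at this; exact (key _ this).1 rfl)
          | (have := inv_mem hmem; rw [inv_inv] at this; exact (key _ this).2.1 rfl)
          | (have := inv_mem hmem; rw [inv_inv] at this; exact (key _ this).2.2 rfl)
          | (have := inv_mem hmem; rw [mul_inv_rev, inv_inv, hpinv] at this; rw [e3] at this;
             exact (key _ this).2.1 rfl)
          | (have := inv_mem hmem; rw [mul_inv_rev, inv_inv, r2inv] at this; rw [e4] at this;
             exact (key _ this).1 rfl)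
          | (rw [e3] at hmem; exact (key _ hmem).2.1 rfl)
          | (have := hconjR _ hmem; rw [e5] at this; exact (key _ this).2.1 rfl)
          | (have := inv_mem hmem; rw [mul_inv_rev, inv_inv, hpinv] at this
             have := hconjR _ this; rw [e5] at this; exact (key _ this).2.1 rfl)
      subst hij
      simpa using mul_right_cancel h'
    have h1 := Nat.card_le_card_of_injective F hF
    have h2 : 288 ≤ Nat.card φ.range := by
      have h3 := Subgroup.card_eq_card_quotient_mul_card_subgroup φ.ker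
      rw [Nat.card_congr (QuotientGroup.quotientKerEquivRange φ).toEquiv] at h3
      have hker : Nat.card φ.ker ≤ 2 := by
        have hsub : (φ.ker : Set P) ⊆ {1, om} := fun x hx => by
          simpa using (S.ker x).1 hx
        calc Nat.card φ.ker = (φ.ker : Set P).ncard := rfl
          _ ≤ ({1, om} : Set P).ncard := Set.ncard_le_ncard hsub (Set.toFinite _)
          _ ≤ 2 := (Set.ncard_insert_le _ _).trans (by simp)
      have hP : Nat.card P = 576 := by
        rw [Nat.card_prod, Nat.card_eq_fintype_card,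
          show Fintype.card SL = 24 by decide +kernel]
      rw [hP] at h3
      have := Nat.mul_le_mul_left (Nat.card φ.range) hker
      omega
    rw [Nat.card_prod, Nat.card_fin] at h1
    omega
  have hgen : T = Subgroup.centralizer ({z} : Set G) :=
    Subgroup.eq_of_le_of_card_ge hTle (by rw [S.card]; omega)
  refine ⟨g, ⟨hrels, by rw [hgz]; exact S.hz, by rw [hgz]; exact hgen,
    by rw [hgz]; exact S.card, ?_, ?_, by rw [hgz]; exact R.conj₂⟩, hgz⟩
  · rw [hgz, ha']
    show IsConj z (a * φ (1, A'))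
    have hA'4 : A' ^ 4 = 1 := by
      refine pair_facts.2.1 _ _ (S.eq_iff.1 ?_)
      rw [show ((1, A' ^ 4) : P) = (1, A') ^ 4 by simp, show ((1, 1) : P) = 1 from rfl, map_pow,
        map_one, ← hA', show p * φ (A, 1) * p = p * φ (A, 1) * p⁻¹ by rw [hpinv], conj_pow,
        ← map_pow]
      simp [hA4]
      exact map_one φ
    have hsq : a * φ (1, A') * (a * φ (1, A')) = 1 := by
      have hc : Commute a (φ (1, A')) :=
        (show Commute ((A, 1) : P) (1, A') by simp [Commute, SemiconjBy]).map φ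
      have h2 : φ (1, A') * φ (1, A') = z := by
        rw [← hA']
        calc p * φ (A, 1) * p * (p * φ (A, 1) * p) = p * (φ (A, 1) * φ (A, 1)) * p := by
              rw [show p * φ (A, 1) * p * (p * φ (A, 1) * p) =
                p * φ (A, 1) * (p * p) * φ (A, 1) * p by group, hp2]; group
          _ = z := by
              rw [show φ (A, 1) * φ (A, 1) = z from hgz, hpz.eq, mul_assoc, hp2, mul_one]
      rw [hc.symm.mul_mul_mul_comm, h2, show a * a = z from hgz, S.zz_sq]
    obtain ⟨k, hk⟩ := S.exists_chart (x := a * φ (1, A'))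
      ⟨(A, 1) * (1, A'), ⟨by simpa using hA4, by simpa using hA'4⟩, by rw [map_mul]⟩ hsq
      (fun h => (aa_fact A A' hA4 hA2 hA'4).1 (S.eq_iff.1 (by rw [map_mul, map_one, ← hadef, h])))
      (fun h => (aa_fact A A' hA4 hA2 hA'4).2 (S.eq_iff.1 (by rw [map_mul, S.φz, ← hadef, h])))
    refine hconjy.trans (isConj_iff.2 ⟨φ k, ?_⟩)
    rw [← W.φy, ← map_inv, ← map_mul, ← map_mul, hk]
  · rw [hgz]
    exact R.conj₁.trans (isConj_iff.2 ⟨K, hpdef.symm⟩)

end Cfsg.Agent.U43Type38
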