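import Mathlib
import Cfsg.Prelude.Def_KGroupFacts

/-!
Central extensions from voltages on an orbit of ordered pairs.

A group `G` acts on `N` labelled objects; a voltage `v` on the points for a permutation `s` is compatible
when it carries a chosen edge labelling `E` into itself. The pairs of a group element with such an affine
permutation of `Fin N × B` form a central extension of `G`.
-/

set_option autoImplicit false

namespace Cfsg.Agent.EdgeVoltageCover60

universe u v

open scoped commutatorElement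

variable {G : Type u} [Group G] {α : Type v} {N : ℕ} {B : Type} [AddCommGroup B]

/-- The data: an action on labelled objects and a labelled edge relation. -/
structure Setup (G : Type u) [Group G] (α : Type v) (N : ℕ) (B : Type) [AddCommGroup B] where
  act : G → α → α
  act_one : ∀ x, act 1 x = x
  act_mul : ∀ g h x, act (g * h) x = act g (act h x)
  obj : Fin N → α
  obj_inj : Function.Injective obj
  E : Fin N → Fin N → B → Prop
  E_fun : ∀ {i j f f'}, E i j f → E i j f' → f = f'
  root : Fin N
  par : Fin N → Fin N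
  depth : ℕ
  par_root : ∀ c, par^[depth] c = root
  par_edge : ∀ c, c = root ∨ ∃ f, E (par c) c f ∨ E c (par c) f

variable (S : Setup G α N B)

/-- The affine data carried by a pair. -/
def Compat (g : G) (π : Equiv.Perm (Fin N × B)) (s : Fin N → Fin N) (v : Fin N → B) : Prop :=
  (∀ c a, π (c, a) = (s c, v c + a)) ∧ (∀ c, S.act g (S.obj c) = S.obj (s c)) ∧
    ∀ i j f, S.E i j f → S.E (s i) (s j) (f + v i - v j)

/-- The carrier monoid. -/
def monoid : Submonoid (G × Equiv.Perm (Fin N × B)) where
  carrier := {p | ∃ s v, Compat S p.1 p.2 s v}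
  one_mem' := ⟨id, 0, fun c a => by simp, fun c => S.act_one _, fun i j f h => by simpa using h⟩
  mul_mem' := by
    rintro ⟨g₁, π₁⟩ ⟨g₂, π₂⟩ ⟨s₁, v₁, h₁, k₁, e₁⟩ ⟨s₂, v₂, h₂, k₂, e₂⟩
    refine ⟨s₁ ∘ s₂, fun c => v₁ (s₂ c) + v₂ c, fun c a => ?_, fun c => ?_, fun i j f h => ?_⟩
    · show π₁ (π₂ (c, a)) = _
      rw [h₂, h₁]; simp [add_assoc]
    · show S.act (g₁ * g₂) _ = _
      rw [S.act_mul, k₂, k₁]; rfl
    · have h' := e₁ _ _ _ (e₂ i j f h)
      show S.E (s₁ (s₂ i)) (s₁ (s₂ j)) (f + (v₁ (s₂ i) + v₂ i) - (v₁ (s₂ j) + v₂ j))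
      rw [show f + (v₁ (s₂ i) + v₂ i) - (v₁ (s₂ j) + v₂ j) =
        f + v₂ i - v₂ j + v₁ (s₂ i) - v₁ (s₂ j) by abel]
      exact h'

/-- The extension. -/
def cover [Finite G] [Finite B] : Subgroup (G × Equiv.Perm (Fin N × B)) where
  toSubmonoid := monoid S
  inv_mem' := by
    intro x hx
    have h : Submonoid.powers x ≤ monoid S := Submonoid.powers_le.2 hx
    obtain ⟨n, hn, hpow⟩ := (isOfFinOrder_of_finite x).exists_pow_eq_one
    have : x⁻¹ = x ^ (n - 1) := inv_eq_of_mul_eq_one_right (by
      rw [← pow_succ', Nat.sub_add_cancel hn, hpow])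
    rw [this]
    exact h ⟨n - 1, rfl⟩

/-- The projection. -/
def proj [Finite G] [Finite B] : cover S →* G := (MonoidHom.fst _ _).comp (cover S).subtype

/-- The translation by `b`. -/
def shift (b : B) : Equiv.Perm (Fin N × B) := (Equiv.refl (Fin N)).prodCongr (Equiv.addLeft b)

theorem shift_apply (b : B) (c : Fin N) (a : B) : shift (N := N) b (c, a) = (c, b + a) := rfl

variable [Finite G] [Finite B]

theorem shift_mem (b : B) : ((1 : G), shift b) ∈ cover S :=
  ⟨id, fun _ => b, fun c a => shift_apply b c a, fun c => S.act_one _, fun i j f h => by simpa using h⟩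

/-- an element acting trivially on the objects is a translation on the fibres -/
theorem eq_shift {p : G × Equiv.Perm (Fin N × B)} (hp : p ∈ cover S)
    (hg : ∀ c, S.act p.1 (S.obj c) = S.obj c) : ∃ b, p.2 = shift b := by
  obtain ⟨s, v, h, k, e⟩ := hp
  have hs : ∀ c, s c = c := fun c => S.obj_inj ((k c).symm.trans (hg c))
  have hedge : ∀ {i j f}, S.E i j f → v i = v j := by
    intro i j f hf
    have h' := e i j f hf
    rw [hs, hs] at h'
    have := S.E_fun h' hf
    rwa [add_sub_assoc, add_eq_left, sub_eq_zero] at this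
  have hpar : ∀ c, v c = v (S.par c) ∨ c = S.root := by
    intro c
    rcases S.par_edge c with hc | ⟨f, hf | hf⟩
    · exact Or.inr hc
    · exact Or.inl (hedge hf).symm
    · exact Or.inl (hedge hf)
  have hroot : ∀ n c, S.par^[n] c = S.root → v c = v S.root := by
    intro n
    induction n with
    | zero => intro c hc; rw [show c = S.root from hc]
    | succ n ih =>
      intro c hc
      rw [Function.iterate_succ_apply] at hc
      rcases hpar c with h1 | h1
      · rw [h1]; exact ih _ hc
      · rw [h1]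
  refine ⟨v S.root, Equiv.ext fun x => ?_⟩
  rw [show x = (x.1, x.2) from rfl, h, hs, shift_apply, hroot _ _ (S.par_root x.1)]

theorem mul_shift {p : G × Equiv.Perm (Fin N × B)} (hp : p ∈ cover S) (b : B) :
    p.2 * shift b = shift b * p.2 := by
  obtain ⟨s, v, h, -, -⟩ := hp
  refine Equiv.ext fun x => ?_
  obtain ⟨c, a⟩ := x
  show p.2 (shift b (c, a)) = shift b (p.2 (c, a))
  rw [shift_apply, h, h, shift_apply]
  simp [add_left_comm]

theorem proj_surjective {ι : Type*} {gen : ι → G} (lift : ι → Equiv.Perm (Fin N × B))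
    (hmem : ∀ i, (gen i, lift i) ∈ cover S) (hgen : Subgroup.closure (Set.range gen) = ⊤) :
    Function.Surjective (proj S) := by
  rw [← MonoidHom.range_eq_top, eq_top_iff, ← hgen, Subgroup.closure_le]
  rintro _ ⟨i, rfl⟩
  exact ⟨⟨_, hmem i⟩, rfl⟩

/-- the translation part of a commutator of two lifts of commuting elements -/
theorem shift_mem_commutator {x y : G × Equiv.Perm (Fin N × B)} (hx : x ∈ cover S) (hy : y ∈ cover S)
    (hcomm : x.1 * y.1 = y.1 * x.1) (c : Fin N) (a : B) :
    (⟨(1, shift (((x.2 * y.2) (c, a)).2 - ((y.2 * x.2) (c, a)).2)), shift_mem S _⟩ : cover S) ∈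
      commutator (cover S) := by
  set X : cover S := ⟨x, hx⟩
  set Y : cover S := ⟨y, hy⟩
  have hmem : ((X * Y * (Y * X)⁻¹ : cover S)).1 ∈ cover S := SetLike.coe_mem _
  have hone : ((X * Y * (Y * X)⁻¹ : cover S)).1.1 = 1 := by
    show x.1 * y.1 * (y.1 * x.1)⁻¹ = 1
    rw [hcomm, mul_inv_cancel]
  obtain ⟨b, hb⟩ := eq_shift S hmem (fun d => by rw [hone, S.act_one])
  have he : x.2 * y.2 = shift b * (y.2 * x.2) := by
    rw [← hb]
    show x.2 * y.2 = x.2 * y.2 * (y.2 * x.2)⁻¹ * (y.2 * x.2)
    rw [inv_mul_cancel_right]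
  have hbv : ((x.2 * y.2) (c, a)).2 - ((y.2 * x.2) (c, a)).2 = b := by
    rw [he]
    show (shift b ((y.2 * x.2) (c, a))).2 - _ = b
    rw [show ((y.2 * x.2) (c, a)) = (((y.2 * x.2) (c, a)).1, ((y.2 * x.2) (c, a)).2) from rfl,
      shift_apply]
    simp
  simp only [hbv]
  have hXY : ⁅X, Y⁆ = (⟨(1, shift b), shift_mem S b⟩ : cover S) := by
    have : ⁅X, Y⁆ = X * Y * (Y * X)⁻¹ := by rw [commutatorElement_def, mul_inv_rev]; group
    rw [this]
    exact Subtype.ext (Prod.ext hone hb)
  rw [← hXY, _root_.commutator_def]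
  exact Subgroup.commutator_mem_commutator (Subgroup.mem_top X) (Subgroup.mem_top Y)

/-- the translations as a homomorphism -/
def shiftHom : Multiplicative B →* cover S where
  toFun b := ⟨(1, shift b.toAdd), shift_mem S _⟩
  map_one' := Subtype.ext (Prod.ext rfl (Equiv.ext fun x => by
    show shift (0 : B) x = x
    rw [show x = (x.1, x.2) from rfl, shift_apply, zero_add]))
  map_mul' a b := Subtype.ext (Prod.ext (mul_one 1).symm (Equiv.ext fun x => by
    show shift (a.toAdd + b.toAdd) x = shift a.toAdd (shift b.toAdd x)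
    rw [show x = (x.1, x.2) from rfl, shift_apply, shift_apply, shift_apply, add_assoc]))

theorem shiftHom_injective (c₀ : Fin N) : Function.Injective (shiftHom S) := by
  intro a b h
  have := congrArg (fun p : cover S => (p.1.2 (c₀, 0)).2) h
  simpa [shiftHom, shift_apply] using this

theorem shiftHom_range : (shiftHom S).range = (proj S).ker := by
  ext p
  constructor
  · rintro ⟨b, rfl⟩; rfl
  · intro hp
    obtain ⟨b, hb⟩ := eq_shift S p.2 (fun c => by rw [show p.1.1 = 1 from hp, S.act_one])
    exact ⟨Multiplicative.ofAdd b, Subtype.ext (Prod.ext (Eq.symm hp) hb.symm)⟩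

theorem ker_le_center : (proj S).ker ≤ Subgroup.center (cover S) := by
  rw [← shiftHom_range]
  rintro _ ⟨b, rfl⟩
  exact Subgroup.mem_center_iff.2 fun q => Subtype.ext (Prod.ext
    ((mul_one q.1.1).trans (one_mul q.1.1).symm) (mul_shift S q.2 b.toAdd))

theorem isStemExtension (hsurj : Function.Surjective (proj S))
    (hcomm : ∀ b, (shiftHom S b) ∈ commutator (cover S)) : Cfsg.IsStemExtension (proj S) := by
  refine ⟨hsurj, ker_le_center S, ?_⟩
  rw [← shiftHom_range]
  rintro _ ⟨b, rfl⟩
  exact hcomm b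

/-- Composing with a central quotient of a perfect group: the kernel is the product of the two kernels. -/
theorem exists_cover {Q : Type u} [Group Q] (π : G →* Q) (hπs : Function.Surjective π)
    (hπc : π.ker ≤ Subgroup.center G) (hfix : ∀ g ∈ π.ker, ∀ c, S.act g (S.obj c) = S.obj c)
    (hperf : commutator G = ⊤) (hsurj : Function.Surjective (proj S))
    (hcomm : ∀ b, (shiftHom S b) ∈ commutator (cover S)) :
    ∃ (Γ : Type u) (_ : Group Γ) (_ : Finite Γ) (σ : Γ →* Q),
      Cfsg.IsStemExtension σ ∧ Nonempty (σ.ker ≃* π.ker × Multiplicative B) := by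
  have hcen : ∀ z : cover S, z.1.1 ∈ π.ker → z ∈ Subgroup.center (cover S) := by
    intro z hz
    refine Subgroup.mem_center_iff.2 fun w => Subtype.ext (Prod.ext ?_ ?_)
    · exact Subgroup.mem_center_iff.1 (hπc hz) w.1.1
    · obtain ⟨b, hb⟩ := eq_shift S z.2 (hfix _ hz)
      show w.1.2 * z.1.2 = z.1.2 * w.1.2
      rw [hb]; exact mul_shift S w.2 b
  have hstem := isStemExtension S hsurj hcomm
  -- the cover is perfect
  have hΓ : commutator (cover S) = ⊤ := by
    rw [eq_top_iff]
    intro z _
    have : proj S z ∈ (commutator (cover S)).map (proj S) := by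
      rw [_root_.commutator_def, Subgroup.map_commutator, Subgroup.map_top_of_surjective _ hsurj,
        ← _root_.commutator_def, hperf]
      trivial
    obtain ⟨w, hw, hwz⟩ := this
    have hk : w⁻¹ * z ∈ (proj S).ker := by
      rw [MonoidHom.mem_ker, map_mul, map_inv, hwz, inv_mul_cancel]
    simpa using mul_mem hw (hstem.2.2 hk)
  refine ⟨cover S, inferInstance, inferInstance, π.comp (proj S), ⟨hπs.comp hsurj, fun z hz => hcen z hz,
    by rw [hΓ]; exact le_top⟩, ?_⟩
  let f : (π.comp (proj S)).ker →* π.ker :=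
    { toFun := fun z => ⟨proj S z, z.2⟩, map_one' := Subtype.ext (map_one _),
      map_mul' := fun a b => Subtype.ext (map_mul (proj S) _ _) }
  choose bf hbf using fun z : (π.comp (proj S)).ker => eq_shift S z.1.2 (hfix _ z.2)
  have inj : ∀ {b b' : B}, (shift b : Equiv.Perm (Fin N × B)) = shift b' → b = b' := fun h => by
    simpa [shift_apply] using congrArg Prod.snd (Equiv.ext_iff.1 h (S.root, 0))
  let g : (π.comp (proj S)).ker →* Multiplicative B :=
    MonoidHom.mk' (fun z => Multiplicative.ofAdd (bf z)) fun a b => by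
      show _ = Multiplicative.ofAdd (bf a + bf b)
      refine congrArg Multiplicative.ofAdd (inj ?_)
      rw [← hbf]
      show a.1.1.2 * b.1.1.2 = _
      rw [hbf, hbf]
      exact Equiv.ext fun x => by
        show shift (bf a) (shift (bf b) x) = _
        rw [show x = (x.1, x.2) from rfl, shift_apply, shift_apply, shift_apply, add_assoc]
  refine ⟨MulEquiv.ofBijective (f.prod g) ⟨fun a b h => ?_, ?_⟩⟩
  · obtain ⟨h1, h2⟩ := Prod.ext_iff.1 h
    refine Subtype.ext (Subtype.ext (Prod.ext (congrArg Subtype.val h1) ?_))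
    rw [hbf a, hbf b]
    exact congrArg shift (Multiplicative.ofAdd.injective h2)
  · rintro ⟨⟨k, hk⟩, b⟩
    obtain ⟨z, hz⟩ := hsurj k
    have hzk : z ∈ (π.comp (proj S)).ker := by
      show π (proj S z) = 1
      rw [hz]; exact hk
    set b0 := bf ⟨z, hzk⟩
    have hm : shiftHom S (Multiplicative.ofAdd (b.toAdd - b0)) ∈ (π.comp (proj S)).ker := map_one π
    refine ⟨⟨z, hzk⟩ * ⟨shiftHom S (Multiplicative.ofAdd (b.toAdd - b0)), hm⟩, ?_⟩
    · refine Prod.ext (Subtype.ext ?_) ?_
      · show proj S (z * _) = k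
        rw [map_mul, hz]
        exact mul_one k
      · show g _ = b
        rw [map_mul]
        show Multiplicative.ofAdd (b0 + bf _) = b
        have : bf ⟨shiftHom S (Multiplicative.ofAdd (b.toAdd - b0)), hm⟩ = b.toAdd - b0 := inj (hbf _).symm
        rw [this, add_sub_cancel]
        rfl

end Cfsg.Agent.EdgeVoltageCover60
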