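import Cfsg.Agent.Lib.StemSUFrame
import Mathlib

/-!
`SU_n(q)` is generated by its `p`-elements; the pointwise stabiliser of two vectors moves unit vectors.
-/

set_option autoImplicit false
set_option linter.unusedSectionVars false

namespace Cfsg.Agent.StemSUGen

open Subgroup
open Cfsg.Agent.OrthUnitaryHerm
open Cfsg.Agent.OrthUnitaryTransvection
open Cfsg.Agent.StemSUFrame
open Cfsg.Agent.StemLift (IsPElem)

variable {F : Type*} [Field F] [Fintype F] {q n : ℕ} (hF : Fintype.card F = q ^ 2)
  (p : ℕ) [Fact p.Prime] [CharP F p]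

include hF in
/-- The anisotropic pair spanning a hyperbolic line. -/
theorem exists_pair {e f : Fin n → F} (he : hermForm n F q e e = 0) (hff : hermForm n F q f f = 0)
    (hef : hermForm n F q e f = 1) (hfe : hermForm n F q f e = 1) :
    ∃ a b : Fin n → F, hermForm n F q a a = 1 ∧ hermForm n F q b b ≠ 0 ∧
      hermForm n F q a b = 0 ∧
      (∀ g : SU n F q, act g e = e → act g f = f → act g a = a ∧ act g b = b) ∧
      (∀ g : SU n F q, act g a = a → act g b = b → act g e = e ∧ act g f = f) ∧
      (∀ x, hermForm n F q x e = 0 → hermForm n F q x f = 0 →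
        hermForm n F q x a = 0 ∧ hermForm n F q x b = 0) := by
  obtain ⟨s, hs⟩ := exists_trace hF (a := (1 : F)) (one_pow q)
  refine ⟨e + s • f, e + (-(s ^ q)) • f, ?_, ?_, ?_, ?_, ?_, ?_⟩
  · simp only [herm_add_left, herm_add_right hF, herm_smul_left, herm_smul_right, he, hfe, hef, hff]
    linear_combination hs
  · have : hermForm n F q (e + (-(s ^ q)) • f) (e + (-(s ^ q)) • f) = -1 := by
      simp only [herm_add_left, herm_add_right hF, herm_smul_left, herm_smul_right, he,
        hfe, hef, hff, neg_pow_q hF, pow_q_q hF]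
      linear_combination -hs
    rw [this]; exact neg_ne_zero.2 one_ne_zero
  · simp only [herm_add_left, herm_add_right hF, herm_smul_left, herm_smul_right, he, hfe, hef,
      hff, neg_pow_q hF, pow_q_q hF]
    ring
  · intro g hge hgf
    rw [act_add, act_smul, hge, hgf, act_add, act_smul, hge, hgf]
    exact ⟨rfl, rfl⟩
  · intro g hga hgb
    have h1 : (e + s • f) - (e + (-(s ^ q)) • f) = f := by
      conv_rhs => rw [← one_smul F f, ← hs]
      module
    have hgf : act g f = f := by rw [← h1, act_sub, hga, hgb]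
    refine ⟨?_, hgf⟩
    rw [act_add, act_smul, hgf] at hga
    exact add_right_cancel hga
  · intro x hxe hxf
    simp only [herm_add_right hF, herm_smul_right, hxe, hxf, mul_zero, add_zero, and_self]

include hF in
theorem pgen {m : ℕ} (hm : 1 ≤ m) : PGen p m F q := by
  intro g
  by_cases h32 : m = 3 ∧ q = 2
  · obtain ⟨rfl, -⟩ := h32
    obtain ⟨e, he0, he⟩ := exists_isotropic hF (n := 3) (by omega)
    obtain ⟨f, hff, hfe, hef⟩ := exists_hyp hF he0 he
    set C := closure {x : ↥(SU 3 F q) | IsPElem p x}
    have hS : ∀ e w μ he hw hμ, eich hF e w μ he hw hμ ∈ C := fun e w μ he hw hμ =>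
      subset_closure (isPElem_eich hF p he hw hμ)
    have hge0 : act g e ≠ 0 := fun h => he0 (by rw [← act_inv_act g e, h, act_zero])
    obtain ⟨t, ht, hte⟩ := exists_move hF (le_refl 3) C hS hge0 (by rw [herm_act, he]) he0 he
    have h1e : act (t * g) e = e := by rw [act_mul, hte]
    obtain ⟨w, μ, hw, hμ, hmv⟩ := exists_eich_move hF he (u := act (t * g) f) (v := f)
      (by rw [herm_act, hff]) hff (by conv_lhs => arg 5; rw [← h1e]
                                      rw [herm_act, hfe]) hfe
    set k := eich hF e w μ he hw hμ * (t * g) with hk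
    obtain ⟨a, b, haa, hbb, hab, hfix, -, -⟩ := exists_pair hF he hff hef hfe
    obtain ⟨hka, hkb⟩ := hfix k (by rw [hk, act_mul, h1e, eich_self]) (by rw [hk, act_mul, hmv])
    have hba := herm_skew_zero hF hab
    have hG1 : PGen p 1 F q := fun x => by
      have : x = 1 := by
        apply Subtype.ext; apply Subtype.ext
        ext i j
        have h := x.1.2
        rw [Matrix.det_fin_one] at h
        rw [Subsingleton.elim i 0, Subsingleton.elim j 0]
        simpa using h
      rw [this]; exact one_mem _
    have hkC : k ∈ C := by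
      refine closure_mono (fun x hx => hx.1) (fix_gen hF p 2 3 1 rfl hG1 ![a, b] ?_ ?_ k ?_)
      · intro i; fin_cases i
        · simp [haa]
        · simpa using hbb
      · intro i j hij
        fin_cases i <;> fin_cases j <;> simp_all
      · intro i; fin_cases i <;> simp [hka, hkb]
    have hgk : g = t⁻¹ * ((eich hF e w μ he hw hμ)⁻¹ * k) := by rw [hk]; group
    rw [hgk]
    exact mul_mem (inv_mem ht) (mul_mem (inv_mem (hS _ _ _ _ _ _)) hkC)
  · have hg : g ∈ tGroup m F q := by rw [tGroup_eq_top hF hm h32]; exact mem_top g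
    refine (closure_le _).2 ?_ hg
    rintro A ⟨v, c, hv, hA⟩
    rcases eq_tv_or_one hF hv hA with rfl | ⟨hc, rfl, -⟩
    · exact one_mem _
    · exact subset_closure (isPElem_tv hF p hv hc)

include hF in
/-- The pointwise stabiliser of two orthogonal to `u`, `v` vectors moves `u` to `v`. -/
theorem pair_move (hn : 5 ≤ n) {r r' u v : Fin n → F} (hr : hermForm n F q r r ≠ 0)
    (hur : hermForm n F q u r = 0) (hvr : hermForm n F q v r = 0)
    (hur' : hermForm n F q u r' = 0) (hvr' : hermForm n F q v r' = 0)
    (hu : hermForm n F q u u = 1) (hv : hermForm n F q v v = 1) :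
    ∃ g ∈ Fix q p ({r, r'} : Set (Fin n → F)), act g u = v := by
  have hu0 : hermForm n F q u u ≠ 0 := by rw [hu]; exact one_ne_zero
  have huv : hermForm n F q u u = hermForm n F q v v := by rw [hu, hv]
  set c := hermForm n F q r' r / hermForm n F q r r with hc
  set e := r' - c • r with he'
  have her : hermForm n F q e r = 0 := by
    rw [he', herm_sub_left, herm_smul_left, hc, div_mul_cancel₀ _ hr, sub_self]
  have hre := herm_skew_zero hF her
  have hfix : ∀ x : SU n F q, act x r = r → act x e = e →
      ∀ s ∈ ({r, r'} : Set (Fin n → F)), act x s = s := by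
    rintro x h1 h2 s (rfl | rfl)
    · exact h1
    · rw [he', act_sub, act_smul, h1] at h2
      exact sub_left_inj.1 h2
  have hue : hermForm n F q u e = 0 := by
    rw [he', herm_sub_right hF, herm_smul_right, hur, hur', mul_zero, sub_zero]
  have hve : hermForm n F q v e = 0 := by
    rw [he', herm_sub_right hF, herm_smul_right, hvr, hvr', mul_zero, sub_zero]
  by_cases he0 : e = 0
  · obtain ⟨g, hg, hgu⟩ := fix_move hF p 1 n (n - 1) (by omega) (by omega) (pgen hF p (by omega))
      ![r] (fun i => by fin_cases i; simpa using hr)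
      (fun i j h => absurd (Subsingleton.elim i j) h) u v
      (fun i => by fin_cases i; simpa using hur) (fun i => by fin_cases i; simpa using hvr) huv hu0
    refine ⟨g, Fix_le (S := Set.range ![r]) (fun x hx => hfix x (hx r ⟨0, rfl⟩) ?_) hg, hgu⟩
    rw [he0, act_zero]
  by_cases hee : hermForm n F q e e = 0
  swap
  · obtain ⟨g, hg, hgu⟩ := fix_move hF p 2 n (n - 2) (by omega) (by omega) (pgen hF p (by omega))
      ![r, e] (fun i => by fin_cases i <;> simp [hr, hee])
      (fun i j h => by fin_cases i <;> fin_cases j <;> simp_all) u v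
      (fun i => by fin_cases i <;> simp [hur, hue]) (fun i => by fin_cases i <;> simp [hvr, hve])
      huv hu0
    exact ⟨g, Fix_le (S := Set.range ![r, e]) (fun x hx => hfix x (hx r ⟨0, rfl⟩) (hx e ⟨1, rfl⟩)) hg, hgu⟩
  -- the degenerate case
  obtain ⟨n', rfl⟩ : ∃ n', n = n' + 1 := ⟨n - 1, by omega⟩
  obtain ⟨ι, π, hπ, hπr, hsurj, -⟩ := exists_frame hF hr
  obtain ⟨e', he''⟩ := hsurj e her
  have he'0 : e' ≠ 0 := fun h => he0 (by rw [← he'', h, map_zero])
  obtain ⟨f', hff', hfe', hef'⟩ := exists_hyp hF he'0 (by rw [← hπ, he'', hee])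
  have hef : hermForm (n' + 1) F q e (π f') = 1 := by rw [← he'', hπ, hef']
  have hfe : hermForm (n' + 1) F q (π f') e = 1 := by rw [← he'', hπ, hfe']
  have hff : hermForm (n' + 1) F q (π f') (π f') = 0 := by rw [hπ, hff']
  have hfr : hermForm (n' + 1) F q (π f') r = 0 := hπr f'
  generalize π f' = f at hef hfe hff hfr
  obtain ⟨a, b, haa, hbb, hab, -, hfix', hperp⟩ := exists_pair hF hee hff hef hfe
  set α := hermForm (n' + 1) F q u f with hα
  set β := hermForm (n' + 1) F q v f with hβ
  set u0 := u - α • e with hu0'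
  set v0 := v - β • e with hv0'
  have hrab := hperp r hre (herm_skew_zero hF hfr)
  have huab := hperp u0 (by rw [hu0', herm_sub_left, herm_smul_left, hue, hee]; ring)
    (by rw [hu0', herm_sub_left, herm_smul_left, hef, hα]; ring)
  have hvab := hperp v0 (by rw [hv0', herm_sub_left, herm_smul_left, hve, hee]; ring)
    (by rw [hv0', herm_sub_left, herm_smul_left, hef, hβ]; ring)
  have hu0r : hermForm (n' + 1) F q u0 r = 0 := by
    rw [hu0', herm_sub_left, herm_smul_left, hur, her]; ring
  have hv0r : hermForm (n' + 1) F q v0 r = 0 := by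
    rw [hv0', herm_sub_left, herm_smul_left, hvr, her]; ring
  have hu00 : hermForm (n' + 1) F q u0 u0 = 1 := by
    rw [hu0', herm_sub_left, herm_sub_right hF, herm_sub_right hF, herm_smul_left, herm_smul_left,
      herm_smul_right, herm_smul_right, hu, hue, herm_skew_zero hF hue, hee]
    ring
  have hv00 : hermForm (n' + 1) F q v0 v0 = 1 := by
    rw [hv0', herm_sub_left, herm_sub_right hF, herm_sub_right hF, herm_smul_left, herm_smul_left,
      herm_smul_right, herm_smul_right, hv, hve, herm_skew_zero hF hve, hee]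
    ring
  obtain ⟨g, hg, hgu⟩ := fix_move hF p 3 (n' + 1) (n' - 2) (by omega) (by omega)
    (pgen hF p (by omega)) ![r, a, b]
    (fun i => by fin_cases i <;> simp [hr, haa, hbb])
    (fun i j h => by
      fin_cases i <;> fin_cases j <;>
        simp_all [herm_skew_zero hF hab, herm_skew_zero hF hrab.1, herm_skew_zero hF hrab.2])
    u0 v0 (fun i => by fin_cases i <;> simp [hu0r, huab.1, huab.2])
    (fun i => by fin_cases i <;> simp [hv0r, hvab.1, hvab.2]) (by rw [hu00, hv00])
    (by rw [hu00]; exact one_ne_zero)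
  have hge : act g e = e :=
    (hfix' g (Fix_act hg a ⟨1, rfl⟩) (Fix_act hg b ⟨2, rfl⟩)).1
  -- the correction by an Eichler transformation
  have hv0e : hermForm (n' + 1) F q v0 e = 0 := by
    rw [hv0', herm_sub_left, herm_smul_left, hve, hee]; ring
  have hwe : hermForm (n' + 1) F q ((α - β) ^ q • v0) e = 0 := by
    rw [herm_smul_left, hv0e, mul_zero]
  obtain ⟨μ, hμ⟩ := exists_mu hF ((α - β) ^ q • v0)
  have hgu' : act g u = v0 + α • e := by
    conv_lhs => rw [show u = u0 + α • e by rw [hu0', sub_add_cancel]]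
    rw [act_add, act_smul, hgu, hge]
  have hrv0 := herm_skew_zero hF hv0r
  refine ⟨eich hF e _ μ hee hwe hμ * g, mul_mem (mem_Fix (isPElem_eich hF p hee hwe hμ) ?_)
    (Fix_le (S := Set.range ![r, a, b]) (fun x hx => hfix x (hx r ⟨0, rfl⟩)
      (hfix' x (hx a ⟨1, rfl⟩) (hx b ⟨2, rfl⟩)).1) hg), ?_⟩
  · refine hfix _ ?_ (eich_self hF _ _ _ _ _ _)
    rw [eich_act, hre, herm_smul_right, hrv0]
    simp
  · rw [act_mul, hgu', eich_act]
    simp only [herm_add_left, herm_smul_left, herm_smul_right, pow_q_q hF, hv0e, hee, hv00,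
      herm_skew_zero hF hv0e]
    rw [hv0']
    module

end Cfsg.Agent.StemSUGen
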