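import Cfsg.Agent.Lib.StemSUBaseTools
import Cfsg.Agent.Lib.StemSUGen
import Mathlib

/-!
Diagonal elements of `SU_n(q)`, the stabiliser of the first coordinate line, and orders of cyclic
extensions of subgroups.
-/

set_option autoImplicit false
set_option linter.unusedSectionVars false

namespace Cfsg.Agent.StemSUDiag

open Subgroup
open Cfsg.Agent.OrthUnitaryHerm
open Cfsg.Agent.OrthUnitaryTransvection
open Cfsg.Agent.StemSUFrame
open Cfsg.Agent.StemSULifts
open Cfsg.Agent.StemLift (IsPElem)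
open scoped Matrix

universe u v

/-- Elements of an extension by a cyclic group. -/
theorem exists_mul_pow {G : Type*} [Group G] (L : Subgroup G) (w : G) {N : ℕ} (hN : 0 < N)
    (hwN : w ^ N ∈ L) (hnorm : w ∈ Subgroup.normalizer (L : Set G)) {g : G}
    (hg : g ∈ L ⊔ zpowers w) : ∃ l ∈ L, ∃ i : ℕ, i < N ∧ g = l * w ^ i := by
  have hle : zpowers w ≤ Subgroup.normalizer (L : Set G) := zpowers_le.2 hnorm
  have hconj : ∀ i : ℤ, ∀ l ∈ L, w ^ i * l * (w ^ i)⁻¹ ∈ L := fun i l hl =>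
    (Subgroup.mem_normalizer_iff.1 (hle (zpow_mem (mem_zpowers w) i)) l).1 hl
  let R : Subgroup G :=
    { carrier := {g | ∃ l ∈ L, ∃ i : ℤ, g = l * w ^ i}
      one_mem' := ⟨1, one_mem _, 0, by simp⟩
      mul_mem' := by
        rintro _ _ ⟨l, hl, i, rfl⟩ ⟨l', hl', j, rfl⟩
        exact ⟨l * (w ^ i * l' * (w ^ i)⁻¹), mul_mem hl (hconj i l' hl'), i + j, by
          rw [zpow_add]; group⟩
      inv_mem' := by
        rintro _ ⟨l, hl, i, rfl⟩
        exact ⟨w ^ (-i) * l⁻¹ * (w ^ (-i))⁻¹, hconj _ _ (inv_mem hl), -i, by group⟩ }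
  have hR : L ⊔ zpowers w ≤ R :=
    sup_le (fun l hl => ⟨l, hl, 0, by simp⟩) (zpowers_le.2 ⟨1, one_mem _, 1, by simp⟩)
  obtain ⟨l, hl, i, rfl⟩ := hR hg
  have hN' : (0 : ℤ) < N := by exact_mod_cast hN
  refine ⟨l * w ^ ((N : ℤ) * (i / N)), mul_mem hl ?_, (i % N).toNat, ?_, ?_⟩
  · rw [zpow_mul, zpow_natCast]
    exact zpow_mem hwN _
  · rw [Int.toNat_lt (Int.emod_nonneg _ hN'.ne')]
    exact Int.emod_lt_of_pos _ hN'
  · rw [← zpow_natCast, Int.toNat_of_nonneg (Int.emod_nonneg _ hN'.ne'), mul_assoc, ← zpow_add,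
      Int.mul_ediv_add_emod]

/-- The order of an extension by a cyclic group. -/
theorem card_sup_zpowers {G : Type*} [Group G] (L : Subgroup G) (w : G) {N : ℕ} (hN : 0 < N)
    (hwN : w ^ N ∈ L) (hnorm : w ∈ Subgroup.normalizer (L : Set G))
    (hmin : ∀ i, i < N → w ^ i ∈ L → i = 0) :
    Nat.card ↥(L ⊔ zpowers w) = Nat.card L * N := by
  let f : L × Fin N → ↥(L ⊔ zpowers w) := fun x =>
    ⟨x.1 * w ^ (x.2 : ℕ), mul_mem (mem_sup_left x.1.2) (mem_sup_right (npow_mem_zpowers w _))⟩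
  have hf : Function.Bijective f := by
    refine ⟨?_, ?_⟩
    · rintro ⟨l, i⟩ ⟨l', j⟩ h
      have h' : (l : G) * w ^ (i : ℕ) = l' * w ^ (j : ℕ) := congrArg Subtype.val h
      have key : ∀ (l l' : L) (i j : Fin N), (i : ℕ) ≤ j → (l : G) * w ^ (i : ℕ) = l' * w ^ (j : ℕ) →
          l = l' ∧ i = j := by
        intro l l' i j hij h'
        have hp : w ^ ((j : ℕ) - (i : ℕ)) ∈ L := by
          have : w ^ ((j : ℕ) - (i : ℕ)) = (l' : G)⁻¹ * l := by
            rw [eq_inv_mul_iff_mul_eq, ← mul_left_inj (w ^ (i : ℕ)), mul_assoc, ← pow_add,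
              Nat.sub_add_cancel hij, h']
          rw [this]; exact mul_mem (inv_mem l'.2) l.2
        have h0 := hmin _ (by omega) hp
        obtain rfl : i = j := Fin.ext (by omega)
        exact ⟨Subtype.ext (mul_right_cancel h'), rfl⟩
      rcases le_total (i : ℕ) j with hij | hij
      · obtain ⟨rfl, rfl⟩ := key l l' i j hij h'; rfl
      · obtain ⟨rfl, rfl⟩ := key l' l j i hij h'.symm; rfl
    · rintro ⟨g, hg⟩
      obtain ⟨l, hl, i, hi, rfl⟩ := exists_mul_pow L w hN hwN hnorm hg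
      exact ⟨(⟨l, hl⟩, ⟨i, hi⟩), rfl⟩
  rw [← Nat.card_eq_of_bijective f hf, Nat.card_prod, Nat.card_fin]

variable {F : Type*} [Field F] [Fintype F] {q n : ℕ} (hF : Fintype.card F = q ^ 2)

include hF in
/-- A generator of the scalars of norm one. -/
theorem exists_normOne_gen :
    ∃ α : F, α ^ (q + 1) = 1 ∧ orderOf α = q + 1 ∧ ∀ x : F, x ^ (q + 1) = 1 → ∃ i : ℕ, α ^ i = x := by
  obtain ⟨g, hg⟩ := IsCyclic.exists_ofOrder_eq_natCard (α := Fˣ)
  have hq := two_le_q hF
  have h0 : orderOf (g ^ (q - 1)) = q + 1 := by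
    rw [orderOf_pow, hg, card_units_eq hF, Nat.gcd_mul_left_left, Nat.mul_div_cancel _ (by omega)]
  have ho : orderOf ((g ^ (q - 1) : Fˣ) : F) = q + 1 := by rw [orderOf_units, h0]
  refine ⟨((g ^ (q - 1) : Fˣ) : F), ?_, ho, fun x hx => ?_⟩
  · rw [← ho]; exact pow_orderOf_eq_one _
  · have hp := IsPrimitiveRoot.orderOf ((g ^ (q - 1) : Fˣ) : F)
    rw [ho] at hp
    obtain ⟨i, -, hi⟩ := hp.eq_pow_of_pow_eq_one hx
    exact ⟨i, hi⟩

/-- Diagonal element. -/
def dg (d : Fin n → F) (hd : ∀ i, d i ^ (q + 1) = 1) (hp : ∏ i, d i = 1) : SU n F q :=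
  mkSU (monMat 1 d) (by rw [det_monMat]; simpa using hp) (isU_monMat 1 hd)

omit [Fintype F] in
theorem dg_act (d : Fin n → F) (hd : ∀ i, d i ^ (q + 1) = 1) (hp : ∏ i, d i = 1)
    (x : Fin n → F) (i : Fin n) : act (dg d hd hp) x i = d i * x i := by
  show (monMat 1 d *ᵥ x) i = _
  rw [monMat_mulVec]; rfl

omit [Fintype F] in
theorem dg_mul {d d' : Fin n → F} (hd : ∀ i, d i ^ (q + 1) = 1) (hp : ∏ i, d i = 1)
    (hd' : ∀ i, d' i ^ (q + 1) = 1) (hp' : ∏ i, d' i = 1) :
    dg d hd hp * dg d' hd' hp' = dg (fun i => d i * d' i)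
      (fun i => by rw [mul_pow, hd, hd', one_mul]) (by rw [Finset.prod_mul_distrib, hp, hp', one_mul]) :=
  su_ext fun x => funext fun i => by rw [act_mul, dg_act, dg_act, dg_act, mul_assoc]

omit [Fintype F] in
theorem dg_pow {d : Fin n → F} (hd : ∀ i, d i ^ (q + 1) = 1) (hp : ∏ i, d i = 1) (k : ℕ)
    (x : Fin n → F) (i : Fin n) : act (dg d hd hp ^ k) x i = d i ^ k * x i := by
  induction k generalizing x with
  | zero => simp [act_one]
  | succ k ih => rw [pow_succ, act_mul, ih, dg_act, pow_succ]; ring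

omit [Fintype F] in
theorem dg_zpow {d : Fin n → F} (hd : ∀ i, d i ^ (q + 1) = 1) (hp : ∏ i, d i = 1) (k : ℤ)
    (x : Fin n → F) (i : Fin n) : act (dg d hd hp ^ k) x i = d i ^ k * x i := by
  rcases k with k | k
  · simp [dg_pow]
  · have h0 : d i ≠ 0 := fun e => by
      have := hd i
      rw [e, zero_pow (Nat.succ_ne_zero q)] at this
      exact zero_ne_one this
    rw [zpow_negSucc, zpow_negSucc, eq_inv_mul_iff_mul_eq₀ (pow_ne_zero _ h0),
      ← dg_pow hd hp, act_act_inv]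

/-- The stabiliser of the first coordinate line. -/
def lineStab (q n : ℕ) (F : Type*) [Field F] : Subgroup (SU (n + 1) F q) where
  carrier := {g | ∀ i, i ≠ 0 → act g (Pi.single 0 1) i = 0}
  one_mem' i hi := by rw [act_one, Pi.single_eq_of_ne hi]
  mul_mem' {a b} ha hb i hi := by
    have : act b (Pi.single 0 1) = act b (Pi.single 0 1) 0 • (Pi.single 0 1 : Fin (n + 1) → F) := by
      funext j
      rcases eq_or_ne j 0 with rfl | hj
      · simp
      · simp [hb j hj, hj]
    rw [act_mul, this, act_smul, Pi.smul_apply, ha i hi, smul_zero]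
  inv_mem' {a} ha i hi := by
    have h1 : act a (Pi.single 0 1) = act a (Pi.single 0 1) 0 • (Pi.single 0 1 : Fin (n + 1) → F) := by
      funext j
      rcases eq_or_ne j 0 with rfl | hj
      · simp
      · simp [ha j hj, hj]
    have h2 := congrArg (act a⁻¹) h1
    rw [act_inv_act, act_smul] at h2
    have h3 := congrFun h2 i
    rw [Pi.single_eq_of_ne hi, Pi.smul_apply, smul_eq_mul, eq_comm, mul_eq_zero] at h3
    refine h3.resolve_left fun h0 => ?_
    rw [h0, zero_smul] at h1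
    have := congrFun (congrArg (act a⁻¹) h1) 0
    rw [act_inv_act, act, Matrix.mulVec_zero] at this
    simp at this

/-- The line stabiliser has no multiplier, and its order. -/
theorem lineStab_spec {F : Type v} [Field F] [Fintype F] {q n : ℕ} (hF : Fintype.card F = q ^ 2)
    (hn : 1 ≤ n) {p : ℕ} [Fact p.Prime] [CharP F p]
    {Γ : Type u} [Group Γ] [Finite Γ] {σ : Γ →* SU (n + 1) F q} (hs : Function.Surjective σ)
    (hc : σ.ker ≤ center Γ) (hZ : Nat.Coprime (Nat.card σ.ker) p)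
    (htriv : PTriv.{u} p n F q) :
    StemBasic.KerFree σ (lineStab q n F) ∧
      Nat.card (lineStab q n F) = Nat.card (SU n F q) * (q + 1) := by
  classical
  set a : Fin (n + 1) → F := Pi.single 0 1 with ha
  have haa : hermForm (n + 1) F q a a ≠ 0 := by rw [ha, herm_single_right hF]; simp
  have hne : ∀ i : Fin 1, hermForm (n + 1) F q (![a] i) (![a] i) ≠ 0 := fun i => by
    fin_cases i; simpa using haa
  have ho : ∀ i j : Fin 1, i ≠ j → hermForm (n + 1) F q (![a] i) (![a] j) = 0 := fun i j h =>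
    absurd (Subsingleton.elim i j) h
  obtain ⟨ρ, hρi, hρ⟩ := exists_emb hF 1 (n + 1) n (Nat.add_comm n 1) ![a] hne ho
  have hinj := inj_K p σ hs hc hZ hF (k := 1) (m := n) (Nat.add_comm n 1)
    (StemSUGen.pgen hF p hn) htriv ![a] hne ho
  set M := K p σ (Set.range ![a])
  have hMmap : M.map σ = ρ.range := by
    rw [map_K p σ hs hZ]
    ext g
    refine ⟨fun hg => (hρ g).2 fun i => Fix_act hg _ ⟨i, rfl⟩, fun hg => ?_⟩
    exact fix_gen hF p 1 (n + 1) n (Nat.add_comm n 1) (StemSUGen.pgen hF p hn) ![a] hne ho g ((hρ g).1 hg)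
  have hρa : ∀ g, g ∈ ρ.range ↔ act g a = a := fun g =>
    ⟨fun h => (hρ g).1 h 0, fun h => (hρ g).2 fun i => by fin_cases i; exact h⟩
  obtain ⟨α, hα, hαo, hαgen⟩ := exists_normOne_gen hF
  have hα0 : α ≠ 0 := fun e => by
    rw [e, zero_pow (Nat.succ_ne_zero q)] at hα; exact zero_ne_one hα
  have h01 : (0 : Fin (n + 1)) ≠ Fin.last n := fun h => by
    have := congrArg Fin.val h; simp at this; omega
  set d : Fin (n + 1) → F := Pi.mulSingle 0 α * Pi.mulSingle (Fin.last n) α⁻¹ with hd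
  have hdn : ∀ i, d i ^ (q + 1) = 1 := by
    intro i
    rw [hd, Pi.mul_apply, mul_pow]
    have h1 : ∀ (j : Fin (n + 1)) (c : F), c ^ (q + 1) = 1 →
        (Pi.mulSingle j c : Fin (n + 1) → F) i ^ (q + 1) = 1 := by
      intro j c hc
      rcases eq_or_ne i j with rfl | hij
      · rw [Pi.mulSingle_eq_same, hc]
      · rw [Pi.mulSingle_eq_of_ne hij, one_pow]
    rw [h1 _ _ hα, h1 _ _ (by rw [inv_pow, hα, inv_one]), one_mul]
  have hdp : ∏ i, d i = 1 := by
    simp only [hd, Pi.mul_apply, Finset.prod_mul_distrib, Finset.prod_pi_mulSingle',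
      Finset.mem_univ, if_true]
    exact mul_inv_cancel₀ hα0
  have hd0 : d 0 = α := by rw [hd, Pi.mul_apply, Pi.mulSingle_eq_same, Pi.mulSingle_eq_of_ne h01, mul_one]
  set g0 := dg d hdn hdp
  have hpow : ∀ i : ℕ, act (g0 ^ i) a = α ^ i • a := by
    intro i
    funext j
    rw [dg_pow, Pi.smul_apply, smul_eq_mul]
    rcases eq_or_ne j 0 with rfl | hj
    · rw [hd0]
    · simp [ha, hj]
  have hg0H : g0 ∈ lineStab q n F := fun i hi => by
    show act g0 a i = 0
    rw [dg_act, ha, Pi.single_eq_of_ne hi, mul_zero]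
  have hdec : ∀ h ∈ lineStab q n F, ∃ i : ℕ, h * (g0 ^ i)⁻¹ ∈ ρ.range := by
    intro h hh
    set l := act h a 0
    have h1 : act h a = l • a := by
      funext j
      rcases eq_or_ne j 0 with rfl | hj
      · simp [ha, l]
      · simp [ha, hh j hj, hj]
    have hl : l ^ (q + 1) = 1 := by
      have := herm_act h a a
      rw [h1, herm_smul_left, herm_smul_right, ha, herm_single_right hF] at this
      rw [pow_succ']
      simpa using this
    obtain ⟨i, hi⟩ := hαgen l hl
    refine ⟨i, (hρa _).2 ?_⟩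
    have h2 : act (g0 ^ i)⁻¹ a = (α ^ i)⁻¹ • a := by
      have h3 := congrArg (act (g0 ^ i)⁻¹) (hpow i)
      rw [act_inv_act, act_smul] at h3
      rw [eq_inv_smul_iff₀ (pow_ne_zero _ hα0), ← h3]
    rw [act_mul, h2, act_smul, h1, ← hi, smul_smul, inv_mul_cancel₀ (pow_ne_zero _ hα0), one_smul]
  have hrangeH : ρ.range ≤ lineStab q n F := fun g hg i hi => by
    show act g a i = 0
    rw [(hρa g).1 hg, ha, Pi.single_eq_of_ne hi]
  refine ⟨StemSUBaseTools.kerFree_quot hs hc M hinj ?_ g0 hg0H ?_, ?_⟩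
  · intro g hg x hx
    have h2 := K_conj p σ g hx
    refine K_mono p σ ?_ h2
    rintro y hy _ ⟨i, rfl⟩
    fin_cases i
    have h1 : act (σ g) a = act (σ g) a 0 • a := by
      funext j
      rcases eq_or_ne j 0 with rfl | hj
      · simp [ha]
      · simp [ha, hg j hj, hj]
    have h3 := hy _ ⟨a, ⟨0, rfl⟩, rfl⟩
    rw [h1, act_smul] at h3
    refine smul_right_injective (Fin (n + 1) → F) ?_ h3
    intro h0
    rw [h0, zero_smul] at h1
    exact haa (by rw [← herm_act (σ g), h1, herm_zero_left])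
  · intro h hh
    obtain ⟨i, hi⟩ := hdec h hh
    exact ⟨i, by rw [zpow_natCast, hMmap]; exact hi⟩
  · have heq : lineStab q n F = ρ.range ⊔ zpowers g0 := by
      refine le_antisymm (fun h hh => ?_) (sup_le hrangeH (zpowers_le.2 hg0H))
      obtain ⟨i, hi⟩ := hdec h hh
      rw [show h = h * (g0 ^ i)⁻¹ * g0 ^ i by group]
      exact mul_mem (mem_sup_left hi) (mem_sup_right (npow_mem_zpowers g0 i))
    rw [heq, card_sup_zpowers _ g0 (Nat.succ_pos q) ?_ ?_ ?_,
      ← Nat.card_congr (MonoidHom.ofInjective hρi).toEquiv]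
    · refine (hρa _).2 ?_
      rw [hpow, hα, one_smul]
    · refine Subgroup.mem_normalizer_iff.2 fun x => ?_
      have h1 : act g0 a = α • a := by simpa using hpow 1
      have h2 : act g0⁻¹ a = α⁻¹ • a := by
        have h3 := congrArg (act g0⁻¹) h1
        rw [act_inv_act, act_smul] at h3
        rw [eq_inv_smul_iff₀ hα0, ← h3]
      have e : act (g0 * x * g0⁻¹) a = α⁻¹ • act g0 (act x a) := by
        rw [act_mul, act_mul, h2, act_smul, act_smul]
      rw [hρa, hρa, e]
      constructor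
      · intro hx; rw [hx, h1, inv_smul_smul₀ hα0]
      · intro hx
        rw [inv_smul_eq_iff₀ hα0, ← h1] at hx
        simpa [act_inv_act] using congrArg (act g0⁻¹) hx
    · intro i hi hmem
      have h1 := (hρa _).1 hmem
      rw [hpow] at h1
      have h2 : α ^ i = 1 := by simpa [ha] using congrFun h1 0
      have := Nat.eq_zero_of_dvd_of_lt (orderOf_dvd_of_pow_eq_one h2) (by rw [hαo]; exact hi)
      exact this

end Cfsg.Agent.StemSUDiag
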