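import Cfsg.Agent.Lib.U43CoverOps51
import Cfsg.Agent.Lib.OrthUnitaryTransvection
import Cfsg.Agent.Lib.StemSUDiag

/-!
Codes for the field with nine elements and three elements of `SU_4(3)` on vector codes.
-/

set_option autoImplicit false

namespace Cfsg.Agent.U43Field51

open Cfsg.Agent.OrthUnitaryHerm Cfsg.Agent.OrthUnitaryTransvection
open Cfsg.Agent.U43CoverOps51
open scoped Matrix

universe u

variable {F : Type u} [Field F] [Fintype F] (hF : Fintype.card F = 3 ^ 2) {c : F} (hcc : c * c = -1)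

include hF in
theorem three_eq : (3 : F) = 0 := by
  obtain ⟨p, hp⟩ := CharP.exists F
  have hpp : p.Prime := CharP.char_is_prime F p
  have h : ((3 ^ 2 : ℕ) : F) = 0 := by rw [← hF]; exact Nat.cast_card_eq_zero F
  exact pow_eq_zero_iff (n := 2) (by norm_num) |>.1 (by exact_mod_cast h)

include hF in
theorem cast_mod (n : ℕ) : ((n % 3 : ℕ) : F) = (n : F) := by
  conv_rhs => rw [← Nat.mod_add_div n 3]
  push_cast
  rw [three_eq hF, zero_mul, add_zero]

/-- the field element of a code -/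
def ev (c : F) (a : ℕ) : F := ((a % 3 : ℕ) : F) + ((a / 3 : ℕ) : F) * c

omit [Fintype F] in
theorem mk_lt (x y : ℕ) : mk x y < 9 := by
  rw [mk]; omega

include hF in
theorem ev_mk (x y : ℕ) : ev c (mk x y) = (x : F) + (y : F) * c := by
  have h1 : mk x y % 3 = x % 3 := by rw [mk]; omega
  have h2 : mk x y / 3 = y % 3 := by rw [mk]; omega
  rw [ev, h1, h2, cast_mod hF, cast_mod hF]

include hF in
theorem ev_add (a b : ℕ) : ev c (fadd a b) = ev c a + ev c b := by
  rw [fadd, ev_mk hF, ev, ev]; push_cast; ring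

include hF hcc in
theorem ev_mul (a b : ℕ) : ev c (fmul a b) = ev c a * ev c b := by
  rw [fmul, ev_mk hF, ev, ev]; push_cast [cast_mod hF]
  linear_combination (-((a / 3 : ℕ) : F) * ((b / 3 : ℕ) : F)) * hcc +
    (((a / 3 : ℕ) : F) * ((b / 3 : ℕ) : F)) * three_eq hF

include hF in
theorem ev_neg (a : ℕ) : ev c (fneg a) = -ev c a := by
  rw [fneg, ev_mk hF, ev]; push_cast
  linear_combination (((a % 3 : ℕ) : F) + ((a / 3 : ℕ) : F) * c) * three_eq hF

include hF hcc in
theorem skew : c ^ 3 = -c := by linear_combination c * hcc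

include hF in
theorem natCast_cube (n : ℕ) : (n : F) ^ 3 = n := by
  have h : ∀ k < 3, (k ^ 3) % 3 = k % 3 := by decide
  rw [← cast_mod hF n, ← Nat.cast_pow, ← cast_mod hF ((n % 3) ^ 3), h _ (Nat.mod_lt _ (by norm_num)),
    Nat.mod_mod]

include hF hcc in
theorem ev_conj (a : ℕ) : ev c (fconj a) = ev c a ^ 3 := by
  rw [fconj, ev_mk hF, ev, add_pow_q hF, mul_pow, natCast_cube hF, natCast_cube hF, skew hF hcc]
  push_cast
  linear_combination (((a / 3 : ℕ) : F) * c) * three_eq hF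

omit [Fintype F] in
theorem ev_zero : ev c 0 = 0 := by simp [ev]

omit [Fintype F] in
theorem ev_one : ev c 1 = 1 := by simp [ev]

omit [Fintype F] in
theorem ev_three : ev c 3 = c := by simp [ev]

include hF hcc in
theorem ev_six : ev c 6 = -c := by
  rw [show (6 : ℕ) = fneg 3 from rfl, ev_neg hF, ev_three]

include hF hcc in
theorem ev_eq_zero {a : ℕ} (ha : a < 9) (h : ev c a = 0) : a = 0 := by
  have hn : ((((a % 3) * (a % 3) + (a / 3) * (a / 3)) % 3 : ℕ) : F) = 0 := by
    rw [cast_mod hF]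
    push_cast
    have : (((a % 3 : ℕ) : F) - ((a / 3 : ℕ) : F) * c) * ev c a = 0 := by rw [h, mul_zero]
    rw [ev] at this
    linear_combination this + (((a / 3 : ℕ) : F) * ((a / 3 : ℕ) : F)) * hcc
  have key : ∀ a < 9, ((a % 3) * (a % 3) + (a / 3) * (a / 3)) % 3 = 0 → a = 0 := by decide
  refine key a ha ?_
  have hlt := Nat.mod_lt ((a % 3) * (a % 3) + (a / 3) * (a / 3)) (show 3 > 0 by norm_num)
  generalize ((a % 3) * (a % 3) + (a / 3) * (a / 3)) % 3 = k at hn hlt
  interval_cases k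
  · rfl
  · simp at hn
  · exfalso
    have : (1 : F) = 0 := by linear_combination three_eq hF - hn
    exact one_ne_zero this

include hF hcc in
theorem ev_inj {a b : ℕ} (ha : a < 9) (hb : b < 9) (h : ev c a = ev c b) : a = b := by
  have h0 : ev c (fadd a (fneg b)) = 0 := by rw [ev_add hF, ev_neg hF, h, add_neg_cancel]
  have := ev_eq_zero hF hcc (mk_lt _ _) h0
  have key : ∀ a < 9, ∀ b < 9, fadd a (fneg b) = 0 → a = b := by decide +kernel
  exact key a ha b hb this

include hF hcc in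
theorem ev_surj (x : F) : ∃ a < 9, ev c a = x := by
  have hinj : Function.Injective (fun a : Fin 9 => ev c a) := fun a b h =>
    Fin.ext (ev_inj hF hcc a.2 b.2 h)
  have hb : Function.Bijective (fun a : Fin 9 => ev c a) :=
    (Fintype.bijective_iff_injective_and_card _).2 ⟨hinj, by rw [hF]; rfl⟩
  obtain ⟨a, ha⟩ := hb.2 x
  exact ⟨a, a.2, ha⟩

/-- the vector of a code -/
def vec (c : F) (v : ℕ) : Fin 4 → F :=
  ![ev c (dig v 0), ev c (dig v 1), ev c (dig v 2), ev c (dig v 3)]

theorem dig_lt (v j : ℕ) : dig v j < 9 := Nat.mod_lt _ (by norm_num)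

omit [Fintype F] in
theorem vec_pack {a b d e : ℕ} (ha : a < 9) (hb : b < 9) (hd : d < 9) (he : e < 9) :
    vec c (pack a b d e) = ![ev c a, ev c b, ev c d, ev c e] := by
  have h0 : dig (pack a b d e) 0 = a := by simp only [dig, pack, pow_zero, Nat.div_one]; omega
  have h1 : dig (pack a b d e) 1 = b := by simp only [dig, pack, pow_one]; omega
  have h2 : dig (pack a b d e) 2 = d := by
    simp only [dig, pack, show (9 : ℕ) ^ 2 = 81 by norm_num]; omega
  have h3 : dig (pack a b d e) 3 = e := by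
    simp only [dig, pack, show (9 : ℕ) ^ 3 = 729 by norm_num]; omega
  rw [vec, h0, h1, h2, h3]

theorem pack_lt {a b d e : ℕ} (ha : a < 9) (hb : b < 9) (hd : d < 9) (he : e < 9) :
    pack a b d e < 6561 := by
  rw [pack]; omega

theorem fmul_lt (a b : ℕ) : fmul a b < 9 := mk_lt _ _

theorem fneg_lt (a : ℕ) : fneg a < 9 := mk_lt _ _

theorem fadd_lt (a b : ℕ) : fadd a b < 9 := mk_lt _ _

theorem smulV_lt (m v : ℕ) : smulV m v < 6561 := pack_lt (mk_lt _ _) (mk_lt _ _) (mk_lt _ _) (mk_lt _ _)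

include hF hcc in
theorem vec_smulV (m v : ℕ) : vec c (smulV m v) = ev c m • vec c v := by
  rw [smulV, vec_pack (F := F) (fmul_lt _ _) (fmul_lt _ _) (fmul_lt _ _) (fmul_lt _ _)]
  funext i
  fin_cases i <;> simp [vec, ev_mul hF hcc]

theorem eq_pack {v : ℕ} (hv : v < 6561) : v = pack (dig v 0) (dig v 1) (dig v 2) (dig v 3) := by
  simp only [dig, pack, pow_zero, pow_one, Nat.div_one, show (9 : ℕ) ^ 2 = 81 by norm_num,
    show (9 : ℕ) ^ 3 = 729 by norm_num]
  omega

include hF hcc in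
theorem vec_inj {v w : ℕ} (hv : v < 6561) (hw : w < 6561) (h : vec c v = vec c w) : v = w := by
  have h0 := ev_inj hF hcc (dig_lt v 0) (dig_lt w 0) (congrFun h 0)
  have h1 := ev_inj hF hcc (dig_lt v 1) (dig_lt w 1) (congrFun h 1)
  have h2 := ev_inj hF hcc (dig_lt v 2) (dig_lt w 2) (congrFun h 2)
  have h3 := ev_inj hF hcc (dig_lt v 3) (dig_lt w 3) (congrFun h 3)
  rw [eq_pack hv, eq_pack hw, h0, h1, h2, h3]

include hF hcc in
theorem vec_surj (x : Fin 4 → F) : ∃ v < 6561, vec c v = x := by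
  choose a ha hax using fun i => ev_surj hF hcc (x i)
  refine ⟨pack (a 0) (a 1) (a 2) (a 3), pack_lt (ha _) (ha _) (ha _) (ha _), ?_⟩
  rw [vec_pack (F := F) (ha _) (ha _) (ha _) (ha _)]
  funext i
  fin_cases i <;> simp [hax]

include hF hcc in
theorem herm_vec (v : ℕ) : hermForm 4 F 3 (vec c v) (vec c v) = ev c (normV v) := by
  rw [normV, ev_add hF, ev_add hF, ev_add hF, ev_mul hF hcc, ev_mul hF hcc, ev_mul hF hcc,
    ev_mul hF hcc, ev_conj hF hcc, ev_conj hF hcc, ev_conj hF hcc, ev_conj hF hcc]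
  simp [hermForm, Fin.sum_univ_four, vec]

theorem lead_lt (v : ℕ) : lead v < 9 := by
  unfold lead
  rcases (dig v 0 == 0) <;> rcases (dig v 1 == 0) <;> rcases (dig v 2 == 0) <;> exact dig_lt _ _

/-! ### Three elements -/

include hF in
theorem base_herm : hermForm 4 F 3 ![1, 1, 1, 0] ![1, 1, 1, 0] = 0 := by
  simp [hermForm, Fin.sum_univ_four]
  linear_combination three_eq hF

include hF hcc in
theorem skew_cond : c + c ^ 3 = 0 := by rw [skew hF hcc, add_neg_cancel]

include hF hcc in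
theorem cyc_norm : ∀ i, (![1, 1, 1, -1] : Fin 4 → F) i ^ (3 + 1) = 1 := by
  intro i; fin_cases i <;> simp; ring

include hF hcc in
theorem diag_norm : ∀ i, (![c, -c, 1, 1] : Fin 4 → F) i ^ (3 + 1) = 1 := by
  intro i; fin_cases i <;> simp
  all_goals linear_combination (c * c - 1) * hcc

include hF hcc in
theorem diag_prod : ∏ i, (![c, -c, 1, 1] : Fin 4 → F) i = 1 := by
  simp [Fin.prod_univ_four]; linear_combination -hcc

include hF hcc in
theorem cyc_det : (monMat (finRotate 4).symm (![1, 1, 1, -1] : Fin 4 → F)).det = 1 := by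
  rw [det_monMat, Equiv.Perm.sign_symm, sign_finRotate]
  simp [Fin.prod_univ_four]

/-- the three elements -/
noncomputable def gen (k : Fin 3) : SU 4 F 3 :=
  ![tv hF ![1, 1, 1, 0] c (base_herm hF) (skew_cond hF hcc),
    mkSU (monMat (finRotate 4).symm ![1, 1, 1, -1]) (cyc_det hF hcc)
      (isU_monMat _ (cyc_norm hF hcc)),
    StemSUDiag.dg ![c, -c, 1, 1] (diag_norm hF hcc) (diag_prod hF hcc)] k

theorem act_gen (k : Fin 3) (v : ℕ) : act (gen hF hcc k) (vec c v) = vec c (stepV k v) := by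
  fin_cases k
  · show act (tv hF (![1, 1, 1, 0] : Fin 4 → F) c (base_herm hF) (skew_cond hF hcc)) (vec c v) = _
    rw [tv_act]
    show _ = vec c (pack _ _ _ _)
    rw [vec_pack (F := F) (fadd_lt _ _) (fadd_lt _ _) (fadd_lt _ _) (dig_lt _ _)]
    funext i
    fin_cases i <;> simp [hermForm, Fin.sum_univ_four, vec, ev_add hF, ev_mul hF hcc, ev_three]
  · show monMat _ _ *ᵥ vec c v = _
    show _ = vec c (pack _ _ _ _)
    rw [vec_pack (F := F) (fneg_lt _) (dig_lt _ _) (dig_lt _ _) (dig_lt _ _)]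
    funext i
    rw [monMat_mulVec]
    fin_cases i <;> simp [vec, ev_neg hF]
  · show act (StemSUDiag.dg (![c, -c, 1, 1] : Fin 4 → F) (diag_norm hF hcc) (diag_prod hF hcc)) (vec c v) = _
    show _ = vec c (pack _ _ _ _)
    rw [vec_pack (F := F) (fmul_lt _ _) (fmul_lt _ _) (dig_lt _ _) (dig_lt _ _)]
    funext i
    rw [StemSUDiag.dg_act]
    fin_cases i <;> simp [vec, ev_mul hF hcc, ev_three, ev_six hF hcc]

end Cfsg.Agent.U43Field51
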