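import Cfsg.Agent.Lib.U43Type38Spec
import Cfsg.Agent.Lib.U43Cover51
import Cfsg.Agent.Lib.U43Defect51

/-!
Five elements of `PSU₄(3)` satisfying the relations of `U43Type38Spec`, generating the group.
Matrices over the field with nine elements are stored as lists of sixteen codes.
-/

set_option autoImplicit false
set_option linter.unusedSectionVars false

namespace Cfsg.Agent.U43Type38Model22

open Cfsg Cfsg.Agent.OrthUnitaryHerm Cfsg.Agent.OrthUnitaryTransvection
open Cfsg.Agent.U43CoverOps51 Cfsg.Agent.U43Field51 Cfsg.Agent.U43Type38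
open scoped Matrix

/-! ### Matrices of codes -/

/-- entry `(i, j)` of a coded matrix -/
def ent (A : List ℕ) (i j : ℕ) : ℕ := A.getD (4 * i + j) 0

/-- the product of coded matrices -/
def mulC (A B : List ℕ) : List ℕ :=
  (List.range 16).map fun t =>
    fadd (fadd (fadd (fmul (ent A (t / 4) 0) (ent B 0 (t % 4)))
      (fmul (ent A (t / 4) 1) (ent B 1 (t % 4))))
      (fmul (ent A (t / 4) 2) (ent B 2 (t % 4))))
      (fmul (ent A (t / 4) 3) (ent B 3 (t % 4)))

/-- a scalar multiple of a coded matrix -/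
def sclC (s : ℕ) (A : List ℕ) : List ℕ :=
  (List.range 16).map fun t => fmul s (ent A (t / 4) (t % 4))

/-- the conjugate transpose of a coded matrix -/
def starC (A : List ℕ) : List ℕ :=
  (List.range 16).map fun t => fconj (ent A (t % 4) (t / 4))

/-- the unit coded matrix -/
def oneC : List ℕ := [1, 0, 0, 0, 0, 1, 0, 0, 0, 0, 1, 0, 0, 0, 0, 1]

/-- the coded generators -/
def gC : Fin 5 → List ℕ :=
  ![[0, 3, 0, 0, 3, 0, 0, 0, 0, 0, 1, 0, 0, 0, 0, 1],
    [4, 4, 0, 0, 5, 7, 0, 0, 0, 0, 1, 0, 0, 0, 0, 1],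
    [0, 0, 3, 0, 0, 0, 0, 3, 3, 0, 0, 0, 0, 3, 0, 0],
    [0, 0, 4, 8, 0, 0, 8, 8, 5, 7, 0, 0, 7, 7, 0, 0],
    [4, 0, 7, 0, 0, 4, 0, 7, 8, 0, 7, 0, 0, 8, 0, 7]]

/-- the product along a word -/
def prodC (l : List (Fin 5)) : List ℕ := (l.map gC).foldr mulC oneC

variable {K : Type*} [Field K] [Fintype K] (hF : Fintype.card K = 3 ^ 2) {c : K}
  (hcc : c * c = -1)

/-- the matrix of an element of `SU₄(3)` -/
def mat (g : SU 4 K 3) : Matrix (Fin 4) (Fin 4) K :=
  ((g : Matrix.SpecialLinearGroup (Fin 4) K) : Matrix (Fin 4) (Fin 4) K)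

theorem mat_mul (g h : SU 4 K 3) : mat (g * h) = mat g * mat h := rfl

theorem mat_inj {g h : SU 4 K 3} (e : mat g = mat h) : g = h := Subtype.ext (Subtype.ext e)

theorem mk_eq_of_smul (g h : SU 4 K 3) (s : K) (e : mat g = s • mat h) :
    QuotientGroup.mk' (Subgroup.center (SU 4 K 3)) g = QuotientGroup.mk' _ h := by
  refine (QuotientGroup.eq.2 ?_)
  rw [Subgroup.mem_center_iff]
  intro b
  have h1 : mat h⁻¹ * mat h = 1 := by rw [← mat_mul, inv_mul_cancel]; rfl
  have hz : mat (h⁻¹ * g) = s • (1 : Matrix (Fin 4) (Fin 4) K) := by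
    rw [mat_mul, e, mul_smul_comm, h1]
  have hk : h⁻¹ * g ∈ Subgroup.center (SU 4 K 3) := by
    rw [Subgroup.mem_center_iff]
    intro b
    apply mat_inj
    rw [mat_mul, mat_mul _ b, hz, smul_mul_assoc, one_mul, mul_smul_comm, mul_one]
  have : g⁻¹ * h ∈ Subgroup.center (SU 4 K 3) := by
    simpa using inv_mem hk
  exact Subgroup.mem_center_iff.1 this b

/-- the matrix of a code -/
def toMat (c : K) (A : List ℕ) : Matrix (Fin 4) (Fin 4) K :=
  Matrix.of fun i j => ev c (ent A i j)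

theorem ent_map (f : ℕ → ℕ) (i j : Fin 4) :
    ent ((List.range 16).map f) i j = f (4 * i.1 + j.1) := by
  have h : 4 * i.1 + j.1 < 16 := by omega
  simp [ent, List.getD_eq_getElem?_getD, List.getElem?_map, List.getElem?_range, h]

include hF hcc

theorem toMat_mulC (A B : List ℕ) : toMat c (mulC A B) = toMat c A * toMat c B := by
  ext i j
  simp only [toMat, mulC, Matrix.of_apply, Matrix.mul_apply, Fin.sum_univ_four]
  rw [ent_map]
  have h1 : (4 * i.1 + j.1) / 4 = i.1 := by omega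
  have h2 : (4 * i.1 + j.1) % 4 = j.1 := by omega
  rw [h1, h2, ev_add hF, ev_add hF, ev_add hF, ev_mul hF hcc, ev_mul hF hcc, ev_mul hF hcc,
    ev_mul hF hcc]
  rfl

theorem toMat_sclC (s : ℕ) (A : List ℕ) : toMat c (sclC s A) = ev c s • toMat c A := by
  ext i j
  simp only [toMat, sclC, Matrix.of_apply, Matrix.smul_apply, smul_eq_mul]
  rw [ent_map, show (4 * i.1 + j.1) / 4 = i.1 by omega, show (4 * i.1 + j.1) % 4 = j.1 by omega,
    ev_mul hF hcc]

theorem toMat_starC (A : List ℕ) (i j : Fin 4) :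
    toMat c (starC A) i j = toMat c A j i ^ 3 := by
  simp only [toMat, starC, Matrix.of_apply]
  rw [ent_map, show (4 * i.1 + j.1) / 4 = i.1 by omega, show (4 * i.1 + j.1) % 4 = j.1 by omega,
    ev_conj hF hcc]

omit hF hcc in
theorem toMat_oneC : toMat c oneC = 1 := by
  ext i j
  fin_cases i <;> fin_cases j <;> simp [toMat, ent, oneC, U43Field51.ev]

theorem isU_toMat {A : List ℕ} (h : mulC (starC A) A = oneC) : IsU 3 (toMat c A) := by
  have h1 : toMat c (starC A) * toMat c A = 1 := by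
    rw [← toMat_mulC hF hcc, h, toMat_oneC]
  have hkey : ∀ j k : Fin 4,
      ∑ i, toMat c A i j * toMat c A i k ^ 3 = if j = k then 1 else 0 := by
    intro j k
    have := congrFun (congrFun h1 k) j
    rw [Matrix.mul_apply, Matrix.one_apply] at this
    rw [show (if j = k then (1 : K) else 0) = if k = j then 1 else 0 by simp [eq_comm], ← this]
    exact Finset.sum_congr rfl fun i _ => by rw [toMat_starC hF hcc, mul_comm]
  intro u v
  simp only [hermForm, Matrix.mulVec, dotProduct]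
  calc ∑ i, (∑ j, toMat c A i j * u j) * (∑ k, toMat c A i k * v k) ^ 3
      = ∑ i, ∑ j, ∑ k, u j * v k ^ 3 * (toMat c A i j * toMat c A i k ^ 3) := by
        refine Finset.sum_congr rfl fun i _ => ?_
        rw [sum_pow_q hF, Finset.sum_mul]
        refine Finset.sum_congr rfl fun j _ => ?_
        rw [Finset.mul_sum]
        exact Finset.sum_congr rfl fun k _ => by ring
    _ = ∑ j, ∑ k, u j * v k ^ 3 * ∑ i, toMat c A i j * toMat c A i k ^ 3 := by
        rw [Finset.sum_comm]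
        refine Finset.sum_congr rfl fun j _ => ?_
        rw [Finset.sum_comm]
        exact Finset.sum_congr rfl fun k _ => (Finset.mul_sum _ _ _).symm
    _ = ∑ i, u i * v i ^ 3 := by
        refine Finset.sum_congr rfl fun j _ => ?_
        simp [hkey]

omit hF hcc

/-- the determinant of the block with rows `r`, `s`, `t` and columns `u`, `v`, `w` -/
def det3C (A : List ℕ) (r s t u v w : ℕ) : ℕ :=
  fadd (fadd (fmul (ent A r u) (fadd (fmul (ent A s v) (ent A t w))
      (fneg (fmul (ent A s w) (ent A t v)))))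
    (fneg (fmul (ent A r v) (fadd (fmul (ent A s u) (ent A t w))
      (fneg (fmul (ent A s w) (ent A t u)))))))
    (fmul (ent A r w) (fadd (fmul (ent A s u) (ent A t v))
      (fneg (fmul (ent A s v) (ent A t u)))))

/-- the determinant of a coded matrix -/
def detC (A : List ℕ) : ℕ :=
  fadd (fadd (fadd (fmul (ent A 0 0) (det3C A 1 2 3 1 2 3))
    (fneg (fmul (ent A 0 1) (det3C A 1 2 3 0 2 3))))
    (fmul (ent A 0 2) (det3C A 1 2 3 0 1 3)))
    (fneg (fmul (ent A 0 3) (det3C A 1 2 3 0 1 2)))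

include hF hcc

theorem det_toMat (A : List ℕ) : (toMat c A).det = ev c (detC A) := by
  simp only [detC, det3C, ev_add hF, ev_mul hF hcc, ev_neg hF]
  rw [Matrix.det_succ_row_zero, Fin.sum_univ_four]
  simp [Matrix.det_fin_three, toMat, Fin.succAbove]
  ring

theorem toMat_inj {A B : List ℕ} (hA : ∀ i < 4, ∀ j < 4, ent A i j < 9)
    (hB : ∀ i < 4, ∀ j < 4, ent B i j < 9) (h : toMat c A = toMat c B) :
    ∀ i < 4, ∀ j < 4, ent A i j = ent B i j := fun i hi j hj =>
  ev_inj hF hcc (hA i hi j hj) (hB i hi j hj) (congrFun (congrFun h ⟨i, hi⟩) ⟨j, hj⟩)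

omit hF hcc

theorem gC_ok : ∀ k, mulC (starC (gC k)) (gC k) = oneC ∧ detC (gC k) = 1 := by decide +kernel

/-- the five elements of `SU₄(3)` -/
noncomputable def g5 (k : Fin 5) : SU 4 K 3 :=
  mkSU (toMat c (gC k)) (by rw [det_toMat hF hcc, (gC_ok k).2, ev_one])
    (isU_toMat hF hcc (gC_ok k).1)

include hF hcc

theorem toM_prod (l : List (Fin 5)) :
    mat ((l.map (g5 hF hcc)).prod) = toMat c (prodC l) := by
  induction l with
  | nil => simp [prodC, toMat_oneC, mat]
  | cons k l ih =>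
    rw [List.map_cons, List.prod_cons, show prodC (k :: l) = mulC (gC k) (prodC l) from rfl,
      toMat_mulC hF hcc, ← ih]
    rfl

/-- the value of a word in `PSU₄(3)` -/
noncomputable def wrd (l : List (Fin 5)) : PSU 4 K 3 :=
  QuotientGroup.mk' (Subgroup.center (SU 4 K 3)) ((l.map (g5 hF hcc)).prod)

theorem wrd_append (l l' : List (Fin 5)) : wrd hF hcc (l ++ l') = wrd hF hcc l * wrd hF hcc l' := by
  rw [wrd, List.map_append, List.prod_append, map_mul]; rfl

theorem rel {l l' : List (Fin 5)} (s : ℕ) (h : prodC l = sclC s (prodC l')) :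
    wrd hF hcc l = wrd hF hcc l' := by
  have hm := toM_prod hF hcc l
  rw [h, toMat_sclC hF hcc, ← toM_prod hF hcc l'] at hm
  exact mk_eq_of_smul _ _ _ hm

theorem relB {l l' : List (Fin 5)}
    (h : ([1, 2, 3, 6].any fun s => prodC l == sclC s (prodC l')) = true) :
    wrd hF hcc l = wrd hF hcc l' := by
  obtain ⟨s, -, hs⟩ := List.any_eq_true.1 h
  exact rel hF hcc s (by simpa using hs)

theorem wrd_nil : wrd hF hcc [] = 1 := map_one _

theorem inv_wrd {l l' : List (Fin 5)}
    (h : ([1, 2, 3, 6].any fun s => prodC (l ++ l') == sclC s (prodC [])) = true) :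
    (wrd hF hcc l)⁻¹ = wrd hF hcc l' := by
  refine inv_eq_of_mul_eq_one_right ?_
  rw [← wrd_append, relB hF hcc h, wrd_nil]

/-- the five elements of `PSU₄(3)` -/
noncomputable def model : Gens (PSU 4 K 3) :=
  ⟨wrd hF hcc [0], wrd hF hcc [1], wrd hF hcc [2], wrd hF hcc [3], wrd hF hcc [4]⟩

theorem model_rels : (model hF hcc).Rels := by
  have ia := inv_wrd hF hcc (l := [0]) (l' := [0, 0, 0]) (by decide +kernel)
  have ib := inv_wrd hF hcc (l := [1]) (l' := [1, 1]) (by decide +kernel)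
  have ip := inv_wrd hF hcc (l := [2]) (l' := [2]) (by decide +kernel)
  have im := inv_wrd hF hcc (l := [3]) (l' := [3]) (by decide +kernel)
  have ix := inv_wrd hF hcc (l := [4]) (l' := [4, 4]) (by decide +kernel)
  refine ⟨⟨?_, ?_, ?_, ?_, ?_, ?_, ?_, ?_, ?_, ?_, ?_, ?_, ?_, ?_, ?_⟩, ?_, ?_, ?_, ?_, ?_, ?_, ?_, ?_, ?_⟩ <;>
    simp only [Gens.z, Gens.a', Gens.b', Gens.d, Gens.f, Gens.w, model, Commute, SemiconjBy,
      pow_succ, pow_zero, one_mul, mul_inv_rev, inv_inv, ia, ib, ip, im, ix] <;>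
    simp only [← wrd_append, List.cons_append, List.nil_append, ← wrd_nil hF hcc] <;>
    refine relB hF hcc ?_ <;> decide +kernel

theorem model_z_ne : (model hF hcc).z ≠ 1 := by
  intro h
  have hc : (QuotientGroup.mk' (Subgroup.center (SU 4 K 3)))
      (([0, 0] : List (Fin 5)).map (g5 hF hcc)).prod = 1 := by
    rw [← h]
    simp only [Gens.z, model, ← wrd_append]
    rfl
  have hz := Subgroup.mem_center_iff.1 ((QuotientGroup.eq_one_iff _).1 hc)
    (([2] : List (Fin 5)).map (g5 hF hcc)).prod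
  have hm := congrArg (mat (K := K)) hz
  rw [← List.prod_append, ← List.prod_append, ← List.map_append, ← List.map_append,
    toM_prod hF hcc, toM_prod hF hcc] at hm
  have := toMat_inj hF hcc (by decide +kernel) (by decide +kernel) hm
  exact absurd this (by decide +kernel)

omit hF hcc in
theorem gen_digits : ∀ (k : Fin 3) (i j : Fin 4), dig (stepV k (9 ^ i.1)) j.1 = ent
    (![[4, 3, 3, 0, 3, 4, 3, 0, 3, 3, 4, 0, 0, 0, 0, 1],
       [0, 0, 0, 2, 1, 0, 0, 0, 0, 1, 0, 0, 0, 0, 1, 0],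
       [3, 0, 0, 0, 0, 6, 0, 0, 0, 0, 1, 0, 0, 0, 0, 1]] k) j.1 i.1 := by
  decide +kernel

theorem gen_eq (k : Fin 3) : mat (U43Field51.gen hF hcc k) = toMat c
    (![[4, 3, 3, 0, 3, 4, 3, 0, 3, 3, 4, 0, 0, 0, 0, 1],
       [0, 0, 0, 2, 1, 0, 0, 0, 0, 1, 0, 0, 0, 0, 1, 0],
       [3, 0, 0, 0, 0, 6, 0, 0, 0, 0, 1, 0, 0, 0, 0, 1]] k) := by
  refine Matrix.ext_of_mulVec_single fun i => ?_
  show act (U43Field51.gen hF hcc k) (Pi.single i 1) = _
  have e : (Pi.single i 1 : Fin 4 → K) = vec c (9 ^ i.1) := by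
    funext j
    fin_cases i <;> fin_cases j <;> simp [vec, dig, ev]
  rw [e, act_gen hF hcc, ← e, Matrix.mulVec_single_one]
  funext j
  show _ = ev c (ent _ j.1 i.1)
  rw [← gen_digits k i j]
  fin_cases j <;> rfl

/-- words for the three generators -/
def gWords : Fin 3 → List (Fin 5) :=
  ![[2, 4, 4, 1, 0, 0, 0, 4, 4, 0, 0, 0, 1, 4, 4, 1, 4, 4, 0, 0, 0, 3, 0, 0, 0], [2, 4, 4, 1, 3, 0, 1, 1, 4], [1, 0, 1, 1]]

theorem model_span : (model hF hcc).span = ⊤ := by
  set π := QuotientGroup.mk' (Subgroup.center (SU 4 K 3))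
  have hmem : ∀ l, wrd hF hcc l ∈ (model hF hcc).span := by
    intro l
    induction l with
    | nil => rw [wrd_nil]; exact one_mem _
    | cons k l ih =>
      rw [show k :: l = [k] ++ l from rfl, wrd_append]
      refine mul_mem (Subgroup.subset_closure ?_) ih
      fin_cases k <;> simp [model]
  have hH : ((model hF hcc).span.comap π) = ⊤ := by
    rw [eq_top_iff, ← U43Cover51.closure_eq_top hF hcc, Subgroup.closure_le]
    rintro _ ⟨k, rfl⟩
    show π _ ∈ (model hF hcc).span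
    have hk : ([1, 2, 3, 6].any fun s => prodC (gWords k) == sclC s
        (![[4, 3, 3, 0, 3, 4, 3, 0, 3, 3, 4, 0, 0, 0, 0, 1],
           [0, 0, 0, 2, 1, 0, 0, 0, 0, 1, 0, 0, 0, 0, 1, 0],
           [3, 0, 0, 0, 0, 6, 0, 0, 0, 0, 1, 0, 0, 0, 0, 1]] k)) = true := by
      revert k; decide +kernel
    obtain ⟨s, -, hs⟩ := List.any_eq_true.1 hk
    have hm := toM_prod hF hcc (gWords k)
    rw [show prodC (gWords k) = sclC s _ from by simpa using hs, toMat_sclC hF hcc,
      ← gen_eq hF hcc] at hm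
    rw [← mk_eq_of_smul _ _ _ hm]
    exact hmem _
  rw [eq_top_iff]
  intro y _
  obtain ⟨Y, rfl⟩ := QuotientGroup.mk'_surjective _ y
  exact (hH ▸ Subgroup.mem_top Y : Y ∈ (model hF hcc).span.comap π)

omit hcc in
/-- `PSU₄(3)` has five generators satisfying the relations. -/
theorem exists_model : ∃ g : Gens (PSU 4 K 3), g.Rels ∧ g.span = ⊤ ∧ g.z ≠ 1 := by
  obtain ⟨c, -, hcc⟩ := U43Defect51.exists_unit_skew hF
  exact ⟨model hF hcc, model_rels hF hcc, model_span hF hcc, model_z_ne hF hcc⟩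

end Cfsg.Agent.U43Type38Model22
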