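import Cfsg.Agent.Lib.U43Type38SL

/-!
A coordinate system on the product of the two copies of `SL(2,3)` inside the centraliser of the
involution of a group of the unitary type in dimension four over nine elements.
-/

set_option autoImplicit false

namespace Cfsg.Agent.U43Type38

open Cfsg.Agent.U43Type38SL

universe u

variable {G : Type u} [Group G]

/-- The image of the quaternion groups. -/
def qSet (φ : P →* G) : Set G := {x | ∃ q, QP q ∧ φ q = x}

/-- The data of the centraliser of `z`: a product of two copies of `SL(2,3)` with the centres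
identified, whose quaternion part is self-centralising and normal. -/
structure Setup (z : G) (φ : P →* G) : Prop where
  ker : ∀ x : P, φ x = 1 ↔ x = 1 ∨ x = om
  φz : φ zz = z
  hz : orderOf z = 2
  le : ∀ x : P, φ x ∈ Subgroup.centralizer ({z} : Set G)
  norm : ∀ h ∈ Subgroup.centralizer ({z} : Set G), ∀ x : P, ∃ y : P, h * φ x * h⁻¹ = φ y
  normQ : ∀ h ∈ Subgroup.centralizer ({z} : Set G), ∀ x : P, QP x →
    ∃ y : P, QP y ∧ h * φ x * h⁻¹ = φ y
  cen : ∀ h ∈ Subgroup.centralizer ({z} : Set G), (∀ x : P, QP x → Commute h (φ x)) →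
    h = 1 ∨ h = z
  card : Nat.card (Subgroup.centralizer ({z} : Set G)) = 2 ^ 7 * 3 ^ 2
  exists_conj : ∃ g : G, g * z * g⁻¹ ∈ qSet φ ∧ g * z * g⁻¹ ≠ z
  inter : ∀ g : G, g * z * g⁻¹ ∈ qSet φ → g * z * g⁻¹ ≠ z →
    {x | x ∈ qSet φ ∧ g⁻¹ * x * g ∈ qSet φ}.ncard = 4

end Cfsg.Agent.U43Type38
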