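import Mathlib
import Cfsg.Prelude.Def_Solvable
import Cfsg.Prelude.Def_Local
import Cfsg.Agent.Lib.U43Type38Chart
import Cfsg.Agent.Lib.HallCore
import Cfsg.Agent.S1265

/-!
The coordinate system on the centraliser of the involution of a group of the unitary type in
dimension four over nine elements, from the defining hypotheses.
-/

set_option autoImplicit false

namespace Cfsg.Agent.U43Type38Setup36

open Subgroup Cfsg.Agent.U43Type38 Cfsg.Agent.U43Type38SL Cfsg.Agent.SL23Model77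

universe u

/-- The lower triangular element of order three. -/
def lo : SL := ⟨!![1, 0; 1, 1], by decide⟩

theorem sl_facts : w0 = SL23Model77.u⁻¹ * lo * SL23Model77.u⁻¹ ∧ lo ^ 3 = 1 ∧
    SL23Model77.u ^ 3 = 1 ∧ ∀ s : SL, s ^ 12 = 1 := by
  decide +kernel

theorem gL_qp : ∀ t, QP (gL t) := by decide +kernel

theorem pow_four_of_two {s : SL} {m : ℕ} (h : s ^ 2 ^ m = 1) : s ^ 4 = 1 := by
  have hg : s ^ Nat.gcd (2 ^ m) 12 = 1 := pow_gcd_eq_one.mpr ⟨h, sl_facts.2.2.2 s⟩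
  have hd : Nat.gcd (2 ^ m) 12 ∣ 4 := by
    have hc : Nat.Coprime (Nat.gcd (2 ^ m) 12) 3 :=
      Nat.Coprime.coprime_dvd_left (Nat.gcd_dvd_left _ _) (Nat.Coprime.pow_left m (by norm_num))
    exact hc.dvd_of_dvd_mul_right (show Nat.gcd (2 ^ m) 12 ∣ 4 * 3 from Nat.gcd_dvd_right _ _)
  obtain ⟨c, hc⟩ := hd
  rw [hc, pow_mul, hg, one_pow]

/-- The quaternion part of the two copies. -/
def QS : Subgroup P where
  carrier := {x | QP x}
  one_mem' := ⟨one_pow _, one_pow _⟩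
  mul_mem' := fun {x y} hx hy => ⟨(q8_mul _ _ hx.1 hy.1).1, (q8_mul _ _ hx.2 hy.2).1⟩
  inv_mem' := fun {x} hx => ⟨(q8_mul _ _ hx.1 hx.1).2, (q8_mul _ _ hx.2 hx.2).2⟩

/-- An order three element commutes with everything commuting with it modulo a central involution. -/
theorem commute_of_cube {M : Type u} [Group M] {a b c : M} (hc : c * c = 1)
    (hcb : ∀ g : M, Commute c g) (hb : b ^ 3 = 1) (h : a * b * a⁻¹ = c * b) : Commute a b := by
  have h1 : (a * b * a⁻¹) ^ 3 = 1 := by rw [conj_pow, hb, mul_one, mul_inv_cancel]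
  rw [h, (hcb b).mul_pow, hb, mul_one, pow_succ, pow_two, hc, one_mul] at h1
  rw [h1, one_mul] at h
  exact mul_inv_eq_iff_eq_mul.mp h

theorem exists_setup_aux {G : Type u} [Group G] [Finite G] (z : G) (hz : orderOf z = 2) (C : Subgroup G)
    (hC : C = Subgroup.centralizer ({z} : Set G))
    (H₁ H₂ : Subgroup C)
    (hK : H₁ ⊔ H₂ = Subgroup.closure
      {x : C | Odd (orderOf x)})
    (hn₁ : (H₁.subgroupOf (H₁ ⊔ H₂)).Normal) (hn₂ : (H₂.subgroupOf (H₁ ⊔ H₂)).Normal)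
    (e₁ : H₁ ≃* Matrix.SpecialLinearGroup (Fin 2) (ZMod 3))
    (e₂ : H₂ ≃* Matrix.SpecialLinearGroup (Fin 2) (ZMod 3))
    (hmeet : (H₁ ⊓ H₂).map (Subgroup.subtype C) =
      Subgroup.zpowers z)
    (Q : Subgroup C) [Q.Normal]
    (hQ : Q = (Cfsg.pCore 2 ↥(H₁ ⊔ H₂)).map (Subgroup.subtype (H₁ ⊔ H₂)))
    (hF : Cfsg.generalizedFittingSubgroup C = Q)
    (hnwc : ∃ g : G, (∃ hq : g * z * g⁻¹ ∈ C,
      (⟨g * z * g⁻¹, hq⟩ : C) ∈ Q) ∧ g * z * g⁻¹ ≠ z)
    (hH : Nat.card ↥C = 2 ^ 7 * 3 ^ 2)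
    (hQQg : ∀ g : G, g * z * g⁻¹ ∈ Q.map (Subgroup.subtype C) →
      g * z * g⁻¹ ≠ z →
      Nat.card ↥((Q.map (Subgroup.subtype C)) ⊓
        (Q.map (Subgroup.subtype C)).map
          (MulAut.conj g).toMonoidHom) = 4) :
    ∃ φ : P →* G, Setup z φ := by
  let zc : C := ⟨z, hC.ge (mem_centralizer_singleton_iff.mpr rfl)⟩
  have hzc : ∀ g : C, Commute zc g := fun g => Subtype.ext (hC.le g.2 z (Set.mem_singleton z))
  have hz1 : z ≠ 1 := fun h => by rw [h, orderOf_one] at hz; norm_num at hz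
  have hzz : z * z = 1 := by rw [← pow_two, ← hz, pow_orderOf_eq_one]
  have hzzc : zc * zc = 1 := Subtype.ext hzz
  obtain ⟨_, hzmem, hzeq⟩ := hmeet.ge (mem_zpowers z)
  have hzI : zc ∈ H₁ ⊓ H₂ := by
    rwa [← Subtype.ext (a1 := _) (a2 := zc) hzeq]
  have hI : ∀ c ∈ H₁ ⊓ H₂, c = 1 ∨ c = zc := by
    intro c hc
    obtain ⟨i, hi⟩ := mem_zpowers_iff.mp (hmeet.le (mem_map_of_mem C.subtype hc))
    rcases Int.even_or_odd' i with ⟨j, rfl | rfl⟩
    · refine Or.inl (Subtype.ext ?_)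
      rw [zpow_mul, zpow_two, hzz, one_zpow] at hi
      exact hi.symm
    · refine Or.inr (Subtype.ext ?_)
      rw [zpow_add, zpow_mul, zpow_two, hzz, one_zpow, one_mul, zpow_one] at hi
      exact hi.symm
  -- the factors commute
  have hcomm : ∀ (a : H₁) (t : SL), Commute (a : C) ((e₂.symm t : H₂) : C) := by
    intro a
    let S : Subgroup SL :=
      { carrier := {t | Commute (a : C) ((e₂.symm t : H₂) : C)}
        one_mem' := by simp
        mul_mem' := fun {s t} hs ht => by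
          simp only [Set.mem_setOf_eq, map_mul, Subgroup.coe_mul]
          exact hs.mul_right ht
        inv_mem' := fun {s} hs => by
          simp only [Set.mem_setOf_eq, map_inv, InvMemClass.coe_inv]
          exact hs.inv_right }
    have h3 : ∀ t : SL, t ^ 3 = 1 → t ∈ S := by
      intro t ht
      set b : C := ((e₂.symm t : H₂) : C) with hb
      have hb3 : b ^ 3 = 1 := by
        rw [hb, ← SubmonoidClass.coe_pow, ← map_pow, ht, map_one]
        rfl
      have haK : (a : C) ∈ H₁ ⊔ H₂ := mem_sup_left a.2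
      have hbK : b ∈ H₁ ⊔ H₂ := mem_sup_right (e₂.symm t).2
      have h1 : (a : C) * b * (a : C)⁻¹ ∈ H₂ :=
        mem_subgroupOf.mp (hn₂.conj_mem ⟨b, hbK⟩ (mem_subgroupOf.mpr (e₂.symm t).2) ⟨a, haK⟩)
      have h2 : b * (a : C)⁻¹ * b⁻¹ ∈ H₁ :=
        mem_subgroupOf.mp (hn₁.conj_mem ⟨(a : C)⁻¹, inv_mem haK⟩
          (mem_subgroupOf.mpr (inv_mem a.2)) ⟨b, hbK⟩)
      have hc : (a : C) * b * (a : C)⁻¹ * b⁻¹ ∈ H₁ ⊓ H₂ :=
        mem_inf.mpr ⟨by
          have := mul_mem a.2 h2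
          simpa [mul_assoc] using this, mul_mem h1 (inv_mem (e₂.symm t).2)⟩
      show Commute (a : C) b
      rcases hI _ hc with h | h
      · exact mul_inv_eq_iff_eq_mul.mp (mul_inv_eq_one.mp h)
      · exact commute_of_cube hzzc hzc hb3 (mul_inv_eq_iff_eq_mul.mp h)
    have hu : SL23Model77.u ∈ S := h3 _ sl_facts.2.2.1
    have hw : w0 ∈ S := by
      rw [sl_facts.1]
      exact mul_mem (mul_mem (inv_mem hu) (h3 _ sl_facts.2.1)) (inv_mem hu)
    have hw1 : w1 ∈ S := mul_mem (mul_mem hu hw) (inv_mem hu)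
    intro t
    obtain ⟨i, rfl⟩ := enc_surjective t
    exact mul_mem (mul_mem (pow_mem hw _) (pow_mem hw1 _)) (pow_mem hu _)
  let f₁ : SL →* C := H₁.subtype.comp e₁.symm.toMonoidHom
  let f₂ : SL →* C := H₂.subtype.comp e₂.symm.toMonoidHom
  let ψ : P →* C := MonoidHom.noncommCoprod f₁ f₂ fun s t => hcomm (e₁.symm s) t
  have hψ : ∀ x : P, ψ x = ((e₁.symm x.1 : H₁) : C) * ((e₂.symm x.2 : H₂) : C) := fun _ => rfl
  have hzn : ∀ (K : Subgroup C) (e : K ≃* SL) (h : zc ∈ K), e ⟨zc, h⟩ = n := by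
    intro K e h
    refine (center_fact.2.2.2 _ ?_).resolve_left fun h1 => hz1 ?_
    · rw [← map_mul, show (⟨zc, h⟩ : K) * ⟨zc, h⟩ = 1 from Subtype.ext hzzc, map_one]
    · rw [← map_one e] at h1
      exact congrArg (fun y : K => ((y : C) : G)) (e.injective h1)
  have hn1 : ((e₁.symm n : H₁) : C) = zc := by
    rw [← hzn H₁ e₁ hzI.1, MulEquiv.symm_apply_apply]
  have hn2 : ((e₂.symm n : H₂) : C) = zc := by
    rw [← hzn H₂ e₂ hzI.2, MulEquiv.symm_apply_apply]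
  have hker : ∀ x : P, ψ x = 1 ↔ x = 1 ∨ x = om := by
    intro x
    constructor
    · intro h
      rw [hψ] at h
      have hmem : ((e₁.symm x.1 : H₁) : C) ∈ H₁ ⊓ H₂ := by
        refine mem_inf.mpr ⟨(e₁.symm x.1).2, ?_⟩
        rw [eq_inv_of_mul_eq_one_left h]
        exact inv_mem (e₂.symm x.2).2
      rcases hI _ hmem with h1 | h1
      · rw [h1, one_mul] at h
        refine Or.inl (Prod.ext ?_ ?_)
        · exact e₁.symm.injective (Subtype.ext (h1.trans (by simp)))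
        · exact e₂.symm.injective (Subtype.ext (h.trans (by simp)))
      · rw [h1] at h
        refine Or.inr (Prod.ext ?_ ?_)
        · exact e₁.symm.injective (Subtype.ext (h1.trans hn1.symm))
        · refine e₂.symm.injective (Subtype.ext ?_)
          rw [show (om : P).2 = n from rfl, hn2]
          exact (eq_inv_of_mul_eq_one_right h).trans (inv_eq_of_mul_eq_one_right hzzc)
    · rintro (rfl | rfl)
      · exact map_one _
      · rw [hψ, show (om : P).1 = n from rfl, show (om : P).2 = n from rfl, hn1, hn2, hzzc]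
  have hψz : ψ zz = zc := by
    rw [hψ, show (zz : P).1 = n from rfl, show (zz : P).2 = 1 from rfl, hn1, map_one,
      Subgroup.coe_one, mul_one]
  have hrange : ψ.range = H₁ ⊔ H₂ := by
    refine le_antisymm ?_ (sup_le ?_ ?_)
    · rintro _ ⟨x, rfl⟩
      exact mul_mem (mem_sup_left (e₁.symm x.1).2) (mem_sup_right (e₂.symm x.2).2)
    · intro a ha
      exact ⟨(e₁ ⟨a, ha⟩, 1), by simp [hψ]⟩
    · intro a ha
      exact ⟨(1, e₂ ⟨a, ha⟩), by simp [hψ]⟩
  have hKn : ∀ h : C, ∀ x ∈ H₁ ⊔ H₂, h * x * h⁻¹ ∈ H₁ ⊔ H₂ := by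
    intro h
    have hle : (H₁ ⊔ H₂).map (MulAut.conj h).toMonoidHom ≤ H₁ ⊔ H₂ := by
      conv_lhs => rw [hK]
      rw [MonoidHom.map_closure, closure_le]
      rintro _ ⟨x, hx, rfl⟩
      rw [SetLike.mem_coe, hK]
      refine subset_closure (?_ : Odd (orderOf _))
      rw [orderOf_injective (MulAut.conj h).toMonoidHom (MulAut.conj h).injective]
      exact hx
    exact fun x hx => hle (mem_map_of_mem _ hx)
  -- the quaternion part
  have hQS : QS.map ψ = Q := by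
    rw [hQ]
    refine le_antisymm ?_ ?_
    · have hle : QS.map ψ ≤ H₁ ⊔ H₂ := (map_le_range ψ QS).trans hrange.le
      haveI : ((QS.map ψ).subgroupOf (H₁ ⊔ H₂)).Normal := by
        refine ⟨fun a ha k => ?_⟩
        obtain ⟨w, hw, hwa⟩ := mem_subgroupOf.mp ha
        obtain ⟨v, hv⟩ := hrange.ge k.2
        refine mem_subgroupOf.mpr ⟨v * w * v⁻¹, ⟨q8_normal _ _ hw.1, q8_normal _ _ hw.2⟩, ?_⟩
        rw [map_mul, map_mul, map_inv, hv, hwa]
        rfl
      have h2 : IsPGroup 2 (QS.map ψ) := by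
        refine IsPGroup.map (fun x => ⟨2, Subtype.ext ?_⟩) ψ
        exact Prod.ext x.2.1 x.2.2
      intro a ha
      exact ⟨⟨a, hle ha⟩, HallCore.le_pCore (h2.of_equiv (subgroupOfEquivOfLe hle).symm)
        (mem_subgroupOf.mpr ha), rfl⟩
    · rintro _ ⟨k, hk, rfl⟩
      obtain ⟨x, hx⟩ := hrange.ge k.2
      obtain ⟨i, hi⟩ := HallCore.isPGroup_pCore 2 ↥(H₁ ⊔ H₂) ⟨k, hk⟩
      have hki : (k : C) ^ 2 ^ i = 1 := congrArg
        (fun y : Cfsg.pCore 2 ↥(H₁ ⊔ H₂) => ((y : ↥(H₁ ⊔ H₂)) : C)) hi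
      have hxi : x ^ 2 ^ (i + 1) = 1 := by
        rw [pow_succ, pow_mul, pow_two]
        rcases (hker (x ^ 2 ^ i)).mp (by rw [map_pow, hx, hki]) with h | h
        · rw [h, one_mul]
        · rw [h]; exact Prod.ext center_fact.1 center_fact.1
      exact ⟨x, ⟨pow_four_of_two (congrArg Prod.fst hxi), pow_four_of_two (congrArg Prod.snd hxi)⟩,
        hx⟩
  let φ : P →* G := C.subtype.comp ψ
  have hqset : ∀ y : G, y ∈ qSet φ ↔ y ∈ Q.map C.subtype := by
    intro y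
    constructor
    · rintro ⟨q, hq, rfl⟩
      exact ⟨ψ q, hQS.le ⟨q, hq, rfl⟩, rfl⟩
    · rintro ⟨c, hc, rfl⟩
      obtain ⟨q, hq, rfl⟩ := hQS.ge hc
      exact ⟨q, hq, rfl⟩
  refine ⟨φ, ⟨fun x => ?_, congrArg Subtype.val hψz, hz, fun x => hC.le (ψ x).2, ?_, ?_, ?_, hC ▸ hH, ?_, ?_⟩⟩
  · rw [← hker x]
    exact ⟨fun h => Subtype.ext h, fun h => congrArg Subtype.val h⟩
  · intro h hh x
    obtain ⟨y, hy⟩ := hrange.ge (hKn ⟨h, hC.ge hh⟩ (ψ x) (hrange.le ⟨x, rfl⟩))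
    exact ⟨y, (congrArg Subtype.val hy).symm⟩
  · intro h hh x hx
    obtain ⟨y, hy, hyx⟩ := hQS.ge
      ((inferInstance : Q.Normal).conj_mem (ψ x) (hQS.le ⟨x, hx, rfl⟩) ⟨h, hC.ge hh⟩)
    exact ⟨y, hy, (congrArg Subtype.val hyx).symm⟩
  · intro h hh hall
    have hhc : (⟨h, hC.ge hh⟩ : C) ∈ Q := by
      have h1 : (⟨h, hC.ge hh⟩ : C) ∈ Subgroup.centralizer (Q : Set C) := by
        intro c hc
        obtain ⟨q, hq, rfl⟩ := hQS.ge hc
        exact Subtype.ext (hall q hq).eq.symm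
      have h2 := S1265.result (G := C) (by rw [hF]; exact h1)
      rwa [hF] at h2
    obtain ⟨q, hq, hqh⟩ := hQS.ge hhc
    have hcom : ∀ t, Com q (gL t) := by
      intro t
      have h1 : ψ (q * gL t) = ψ (gL t * q) := by
        rw [map_mul, map_mul, hqh]
        exact Subtype.ext (hall (gL t) (gL_qp t)).eq
      have h2 : ψ ((gL t * q)⁻¹ * (q * gL t)) = 1 := by
        rw [map_mul, map_inv, h1, inv_mul_cancel]
      rcases (hker _).mp h2 with h3 | h3
      · exact Or.inl (inv_mul_eq_one.mp h3).symm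
      · exact Or.inr (inv_mul_eq_iff_eq_mul.mp h3)
    have hh' : h = φ q := (congrArg Subtype.val hqh).symm
    have e1 : ((e₁.symm q.1 : H₁) : C) = 1 ∨ ((e₁.symm q.1 : H₁) : C) = zc := by
      rcases cent_first q (hcom 0) (hcom 1) with h' | h' <;> rw [h']
      · exact Or.inl (by rw [map_one]; rfl)
      · exact Or.inr hn1
    have e2 : ((e₂.symm q.2 : H₂) : C) = 1 ∨ ((e₂.symm q.2 : H₂) : C) = zc := by
      rcases cent_second q (hcom 2) (hcom 3) with h' | h' <;> rw [h']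
      · exact Or.inl (by rw [map_one]; rfl)
      · exact Or.inr hn2
    rw [hh', show φ q = ((ψ q : C) : G) from rfl, hψ]
    rcases e1 with e1 | e1 <;> rcases e2 with e2 | e2 <;> rw [e1, e2]
    · exact Or.inl (by simp)
    · exact Or.inr (by simp [zc])
    · exact Or.inr (by simp [zc])
    · exact Or.inl (by rw [hzzc]; rfl)
  · obtain ⟨g, ⟨hq, hgQ⟩, hne⟩ := hnwc
    exact ⟨g, (hqset _).mpr ⟨_, hgQ, rfl⟩, hne⟩
  · intro g hg hne
    have h := hQQg g ((hqset _).mp hg) hne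
    rw [← h, ← Nat.card_coe_set_eq]
    refine Nat.card_congr (Equiv.setCongr (Set.ext fun y => ?_))
    rw [Set.mem_setOf_eq, hqset, hqset]
    constructor
    · rintro ⟨h1, h2⟩
      exact ⟨h1, _, h2, by simp [mul_assoc]⟩
    · rintro ⟨h1, w, hw, rfl⟩
      exact ⟨h1, by simpa [mul_assoc] using hw⟩

theorem exists_setup {G : Type u} [Group G] [Finite G] (z : G) (hz : orderOf z = 2)
    (H₁ H₂ : Subgroup (Subgroup.centralizer ({z} : Set G)))
    (hK : H₁ ⊔ H₂ = Subgroup.closure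
      {x : Subgroup.centralizer ({z} : Set G) | Odd (orderOf x)})
    (hn₁ : (H₁.subgroupOf (H₁ ⊔ H₂)).Normal) (hn₂ : (H₂.subgroupOf (H₁ ⊔ H₂)).Normal)
    (e₁ : H₁ ≃* Matrix.SpecialLinearGroup (Fin 2) (ZMod 3))
    (e₂ : H₂ ≃* Matrix.SpecialLinearGroup (Fin 2) (ZMod 3))
    (hmeet : (H₁ ⊓ H₂).map (Subgroup.subtype (Subgroup.centralizer ({z} : Set G))) =
      Subgroup.zpowers z)
    (Q : Subgroup (Subgroup.centralizer ({z} : Set G))) [Q.Normal]
    (hQ : Q = (Cfsg.pCore 2 ↥(H₁ ⊔ H₂)).map (Subgroup.subtype (H₁ ⊔ H₂)))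
    (hF : Cfsg.generalizedFittingSubgroup (Subgroup.centralizer ({z} : Set G)) = Q)
    (hnwc : ∃ g : G, (∃ hq : g * z * g⁻¹ ∈ Subgroup.centralizer ({z} : Set G),
      (⟨g * z * g⁻¹, hq⟩ : Subgroup.centralizer ({z} : Set G)) ∈ Q) ∧ g * z * g⁻¹ ≠ z)
    (hH : Nat.card ↥(Subgroup.centralizer ({z} : Set G)) = 2 ^ 7 * 3 ^ 2)
    (hQQg : ∀ g : G, g * z * g⁻¹ ∈ Q.map (Subgroup.subtype (Subgroup.centralizer ({z} : Set G))) →
      g * z * g⁻¹ ≠ z →
      Nat.card ↥((Q.map (Subgroup.subtype (Subgroup.centralizer ({z} : Set G)))) ⊓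
        (Q.map (Subgroup.subtype (Subgroup.centralizer ({z} : Set G)))).map
          (MulAut.conj g).toMonoidHom) = 4) :
    ∃ φ : P →* G, Setup z φ :=
  exists_setup_aux z hz _ rfl H₁ H₂ hK hn₁ hn₂ e₁ e₂ hmeet Q hQ hF hnwc hH hQQg

end Cfsg.Agent.U43Type38Setup36
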