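import Cfsg.Agent.Lib.ConwayThreeQuot24
import Cfsg.Agent.S5380

/-!
The centraliser of the element of order three is quasisimple when its quotient is the Suzuki group.
-/

set_option autoImplicit false
set_option linter.unusedSectionVars false

namespace Cfsg.Agent.ConwayThreePerfect24

open Subgroup Cfsg.Agent.LargeExtraspecial
open Cfsg.Agent.ConwayTypeModel62 Cfsg.Agent.ConwayTypeCoord62 Cfsg.Agent.ConwayTypeRadical62
open Cfsg.Agent.ConwayThreeFacts24 Cfsg.Agent.ConwayThreeStd24 Cfsg.Agent.ConwayThreeCoord24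
open Cfsg.Agent.ConwayThreeSplit24 Cfsg.Agent.ConwayThreeLocal24 Cfsg.Agent.ConwayThreeQuot24
open Cfsg.Agent.SuzY42Quat
open scoped commutatorElement

variable {G : Type*} [Group G] [Finite G]

/-- The commutator group of a subgroup, as a subgroup. -/
theorem map_commutator_top {L : Type*} [Group L] (H : Subgroup L) :
    (commutator ↥H).map H.subtype = ⁅H, H⁆ := by
  rw [commutator_def, Subgroup.map_commutator, ← MonoidHom.range_eq_map, Subgroup.range_subtype]

/-- A second element of the same kind, a commutator in the centraliser of the first, and fixing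
`[Q, x]`. -/
theorem exists_r {Q Q' : Subgroup G} {z t : G} {ν : G → M6} {d : G} {ρ : ↥(Sx z t) →* P8}
    {x : ↥(Sx z t)} (S : Std Q Q' z t ν d ρ x) :
    ∃ r : G, r * (x : G) = x * r ∧ Three Q z r ∧ r ∈ ⁅CY (x : G), CY (x : G)⁆ ∧
      ∀ w ∈ ⁅Q, zpowers (x : G)⁆, r * w = w * r := by
  classical
  obtain ⟨σ, τ, hσ, hτ, hσc, hτc, hst⟩ := five_comm
  obtain ⟨u, hu, hux⟩ := exists_lift S hσ hσc
  obtain ⟨v, hv, hvx⟩ := exists_lift S hτ hτc
  set c : ↥(Sx z t) := u * v * u⁻¹ * v⁻¹ with hc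
  have hρc : ρ c = c3' := by
    rw [hc, map_mul, map_mul, map_mul, map_inv, map_inv, hu, hv, hst]
  obtain ⟨hs', hcc', h3', h1', hfix', hmove'⟩ := c3'_facts
  set r : ↥(Sx z t) := c ^ 4 with hr
  have hρr : ρ r = c3' := by rw [hr, map_pow, hρc, pow_succ, h3', one_mul]
  have hr3 : r ^ 3 = 1 := by
    rw [hr, ← pow_mul, show 4 * 3 = 3 * 4 from rfl, pow_mul]
    exact ConwayThreeStd24.R_four S.D (by rw [map_pow, hρc, h3'])
  have hr3' : (r : G) ^ 3 = 1 := by simpa using congrArg Subtype.val hr3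
  have hr1 : (r : G) ≠ 1 := fun e => h1' (by rw [← hρr, show r = 1 from Subtype.ext e, map_one])
  have ho : orderOf (r : G) = 3 := haveI : Fact (Nat.Prime 3) := ⟨Nat.prime_three⟩
    orderOf_eq_prime hr3' hr1
  have hrx : Commute r x := by
    rw [hr]
    exact ((((show Commute u x from hux).mul_left hvx).mul_left
      (show Commute u x from hux).inv_left).mul_left (show Commute v x from hvx).inv_left).pow_left 4
  have hrx' : (r : G) * (x : G) = x * r := congrArg Subtype.val hrx.eq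
  obtain ⟨hrz, hrt⟩ := mem_Sx.1 r.2
  have Tr : Three Q z (r : G) := by
    refine ⟨hr3', hr1, hrz, ?_⟩
    rw [card_CQ_double S.D.H S.D.sing.1 S.D.sing.2.2.1 S.D.sing.2.2.2 hrz hrt (by rw [ho]; decide),
      card_cx_fix S.D hr3', hρr, hfix']
  refine ⟨r, hrx', Tr, ?_, ?_⟩
  · have huY : (u : G) ∈ CY (x : G) := mem_CY.2 (congrArg Subtype.val hux)
    have hvY : (v : G) ∈ CY (x : G) := mem_CY.2 (congrArg Subtype.val hvx)
    have hcm : (c : G) ∈ ⁅CY (x : G), CY (x : G)⁆ := by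
      have e : (c : G) = ⁅(u : G), (v : G)⁆ := by
        rw [hc, commutatorElement_def]; simp
      rw [e]
      exact commutator_mem_commutator huY hvY
    rw [hr, SubmonoidClass.coe_pow]
    exact pow_mem hcm 4
  · -- an element of `Q` fixed by `r` and not by `x`
    obtain ⟨a, ha, hνa⟩ := S.D.K.surj (e 0 + e 1)
    have hra : a * (r : G) = r * a :=
      (cx_fix_iff S.D hr3' ha).2 (by rw [hρr, hνa]; exact hmove')
    obtain ⟨k, hk, w₁, hw₁, hkw⟩ := decompose S.D.H S.T (mem_Cx.1 ha).1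
    have hw₁ne : w₁ ≠ 1 ∧ w₁ ≠ z := by
      have hna : ¬ a ∈ CQ Q (x : G) := fun h => by
        have := (cx_fix_iff S.D S.T.y3 ha).1 (mem_CQ.1 h).2
        rw [S.rx, hνa] at this
        revert this
        decide +kernel
      refine ⟨fun e => hna ?_, fun e => hna ?_⟩
      · rw [hkw, e, mul_one]; exact hk
      · rw [hkw, e]; exact mul_mem hk (ConwayThreeStd24.z_CQ S)
    have hrk : (r : G) * k * (r : G)⁻¹ ∈ CQ Q (x : G) := by
      refine mem_CQ.2 ⟨S.D.H.h.norm _ hrz _ (mem_CQ.1 hk).1, ?_⟩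
      have h : Commute (r : G) (x : G) := hrx'
      exact ((h.mul_left (show Commute k (x : G) from (mem_CQ.1 hk).2)).mul_left h.inv_left).eq
    have hrw : (r : G) * w₁ * (r : G)⁻¹ ∈ ⁅Q, zpowers (x : G)⁆ := y_W S.D.H S.T hw₁ hrz hrx'
    have hE : Eqz z ((r : G) * w₁ * (r : G)⁻¹) w₁ := by
      have e : (r : G) * k * (r : G)⁻¹ * ((r : G) * w₁ * (r : G)⁻¹) = k * w₁ := by
        calc (r : G) * k * (r : G)⁻¹ * ((r : G) * w₁ * (r : G)⁻¹) = r * (k * w₁) * (r : G)⁻¹ := by
              group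
          _ = k * w₁ := by rw [← hkw, ← hra, mul_inv_cancel_right]
      rcases fibre S.D.H S.T hrk hk hrw hw₁ e with d | d
      exacts [Or.inl d.2, Or.inr d.2]
    have hfix₁ : (r : G) * w₁ = w₁ * r :=
      LargeExtraspecialAct.fix_of_fix_mod S.D.H.h.toExt (n := 3) (by decide) hr3' hrz hE
    obtain ⟨i, hi⟩ := adjust_W S.D.H S.T hrz hrx'
    have hxi : (x : G) ^ i = 1 := by
      by_contra hne
      have hgen : (x : G) ∈ zpowers ((x : G) ^ i) := by
        have h : zpowers ((x : G) ^ i) = zpowers (x : G) := Subgroup.eq_of_le_of_card_ge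
          (zpowers_le.2 (pow_mem (mem_zpowers _) i)) (by
            haveI : Fact (Nat.Prime 3) := ⟨Nat.prime_three⟩
            rw [Nat.card_zpowers, Nat.card_zpowers, S.T.orderOf_eq,
              orderOf_eq_prime (by rw [← pow_mul, mul_comm, pow_mul, S.T.y3, one_pow]) hne])
        exact h ▸ mem_zpowers (x : G)
      have hf := hi.fix w₁ hw₁
      rw [show ((x : G) ^ i)⁻¹ * (r : G) * w₁ * (((x : G) ^ i)⁻¹ * (r : G))⁻¹
        = ((x : G) ^ i)⁻¹ * ((r : G) * w₁ * (r : G)⁻¹) * ((x : G) ^ i) by group, hfix₁,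
        mul_inv_cancel_right] at hf
      have hz : Commute ((x : G) ^ i)⁻¹ z :=
        ((show Commute (x : G) z from xz S).pow_left i).inv_left
      have hfix2 : ((x : G) ^ i)⁻¹ * w₁ = w₁ * ((x : G) ^ i)⁻¹ :=
        LargeExtraspecialAct.fix_of_fix_mod S.D.H.h.toExt (n := 3) (by decide)
          (by rw [inv_pow, ← pow_mul, mul_comm, pow_mul, S.T.y3, one_pow, inv_one]) hz.eq
          (by rw [inv_inv]; exact hf)
      obtain ⟨j, hj⟩ := hgen
      have hc2 : Commute (x : G) w₁ := by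
        have h := (show Commute ((x : G) ^ i)⁻¹ w₁ from hfix2).inv_left.zpow_left j
        rw [inv_inv] at h
        simp only at hj
        rwa [hj] at h
      rcases inter S.D.H S.T (mem_CQ.2 ⟨W_le S.D.H S.T hw₁, hc2.symm.eq⟩) hw₁ with e | e
      exacts [hw₁ne.1 e, hw₁ne.2 e]
    intro w hw
    have hf := hi.fix w hw
    rw [hxi, inv_one, one_mul] at hf
    exact LargeExtraspecialAct.fix_of_fix_mod S.D.H.h.toExt (n := 3) (by decide) hr3' hrz hf

section

variable {Q : Subgroup G} {z x : G} (K : Cd Q z x)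
include K

theorem not_comm : ¬ ∀ a b : CY x ⧸ N x, a * b = b * a := fun h => by
  obtain ⟨g, -, hne⟩ := exists_fus K
  exact hne (by rw [h g (zb K), mul_inv_cancel_right])

/-- The image of `r` is in the commutator group of its centraliser, by the theorem on groups of
Suzuki type. -/
theorem r_mem {r : G} (hrx : r * x = x * r) (Tr : Three Q z r)
    (hW : ∀ w ∈ ⁅Q, zpowers x⁆, r * w = w * r) :
    pr x ⟨r, mem_CY.2 hrx⟩ ∈ ⁅centralizer (zpowers (pr x ⟨r, mem_CY.2 hrx⟩) : Set (CY x ⧸ N x)),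
      centralizer (zpowers (pr x ⟨r, mem_CY.2 hrx⟩) : Set (CY x ⧸ N x))⁆ := by
  obtain ⟨hn, hF, ⟨e⟩⟩ := local_data K
  haveI := hn
  set rb := pr x ⟨r, mem_CY.2 hrx⟩ with hrb
  have hrC : r ∈ CC z x := mem_CC.2 ⟨Tr.yz, hrx⟩
  set A := (CQ Q x).subgroupOf (CC z x) with hA
  set R := zpowers (⟨r, hrC⟩ : ↥(CC z x)) with hR
  have hAm : A.map (prC K) = (embC K).range := by
    ext c
    constructor
    · rintro ⟨m, hm, rfl⟩
      exact ⟨⟨m, mem_subgroupOf.1 hm⟩, rfl⟩
    · rintro ⟨m, rfl⟩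
      exact ⟨Subgroup.inclusion (CQ_CC K) m, m.2, rfl⟩
  set Y := R.map (prC K) with hY
  have hYm : Y.map (Subgroup.subtype _) = zpowers rb := by
    rw [hY, hR, MonoidHom.map_zpowers, MonoidHom.map_zpowers]
    rfl
  have hAR : ⁅A, R⁆.map (CC z x).subtype = ⁅Q, zpowers r⁆ := by
    rw [Subgroup.map_commutator, hR, MonoidHom.map_zpowers, hA,
      Subgroup.map_subgroupOf_eq_of_le (CQ_CC K)]
    show ⁅CQ Q x, zpowers r⁆ = _
    refine le_antisymm (Subgroup.commutator_mono inf_le_left le_rfl) ?_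
    rw [Subgroup.commutator_le]
    intro y hy g hg
    obtain ⟨k, hk, w, hw, rfl⟩ := decompose K.H K.T hy
    obtain ⟨j, rfl⟩ := hg
    have hwj : Commute w (r ^ j) := ((show Commute r w from hW w hw).zpow_left j).symm
    have e : ⁅k * w, r ^ j⁆ = ⁅k, r ^ j⁆ := by
      simp only [commutatorElement_def]
      calc k * w * r ^ j * (k * w)⁻¹ * (r ^ j)⁻¹ = k * (w * r ^ j) * w⁻¹ * k⁻¹ * (r ^ j)⁻¹ := by
            group
        _ = k * r ^ j * k⁻¹ * (r ^ j)⁻¹ := by rw [hwj.eq]; group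
    rw [e]
    exact commutator_mem_commutator hk (zpow_mem (mem_zpowers r) j)
  have hinj : ∀ g ∈ ⁅A, R⁆, prC K g = 1 → g = 1 := by
    intro g hg h1
    have hgQ : (g : G) ∈ Q := by
      have hm : (g : G) ∈ ⁅Q, zpowers r⁆ := hAR ▸ mem_map_of_mem (CC z x).subtype hg
      exact W_le K.H Tr hm
    exact Subtype.ext (K.H.h.toExt.eq_one_of_mem_odd (ConwayThreeSplit24.odd_x K.H K.T)
      ((prC_eq_one K).1 h1) hgQ)
  have hcomm : ⁅(embC K).range, Y⁆ = ⁅A, R⁆.map (prC K) := by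
    rw [Subgroup.map_commutator, hAm]
  have hcard : Nat.card ↥⁅(embC K).range, Y⁆ = 8 := by
    rw [hcomm, ← card_W K.H Tr, ← hAR, Subgroup.card_map_of_injective (CC z x).subtype_injective]
    refine (Nat.card_congr (Equiv.ofBijective
      (fun g : ↥⁅A, R⁆ => (⟨prC K g, mem_map_of_mem _ g.2⟩ : ↥(⁅A, R⁆.map (prC K)))) ⟨?_, ?_⟩)).symm
    · intro g g' h
      have h' : prC K (g : ↥(CC z x)) = prC K g' := congrArg Subtype.val h
      refine Subtype.ext (inv_mul_eq_one.1 (hinj _ (mul_mem (inv_mem g.2) g'.2) ?_))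
      rw [map_mul, map_inv, h', inv_mul_cancel]
    · rintro ⟨_, g, hg, rfl⟩
      exact ⟨⟨g, hg⟩, rfl⟩
  have hna : ¬ IsMulCommutative ↥⁅(embC K).range, Y⁆ := by
    intro hcom
    obtain ⟨xw, yw, qW, -⟩ := exists_quat_W K.H Tr
    have hlift : ∀ w ∈ ⁅Q, zpowers r⁆, ∃ g ∈ ⁅A, R⁆, ((g : ↥(CC z x)) : G) = w := fun w hw => by
      rw [← hAR] at hw
      obtain ⟨g, hg, e'⟩ := hw
      exact ⟨g, hg, e'⟩
    obtain ⟨gx, hgx, ex⟩ := hlift xw qW.hx
    obtain ⟨gy, hgy, ey⟩ := hlift yw qW.hy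
    have h := hcom.is_comm.comm (⟨prC K gy, hcomm ▸ mem_map_of_mem _ hgy⟩ : ↥⁅(embC K).range, Y⁆)
      ⟨prC K gx, hcomm ▸ mem_map_of_mem _ hgx⟩
    have h' : prC K gy * prC K gx = prC K gx * prC K gy := congrArg Subtype.val h
    have hg : gy * gx * gy⁻¹ * gx⁻¹ = 1 := by
      refine hinj _ ?_ ?_
      · exact mul_mem (mul_mem (mul_mem hgy hgx) (inv_mem hgy)) (inv_mem hgx)
      · rw [map_mul, map_mul, map_mul, map_inv, map_inv, h']; group
    have hg' : yw * xw * yw⁻¹ * xw⁻¹ = 1 := by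
      have := congrArg (fun g : ↥(CC z x) => (g : G)) hg
      simpa [ex, ey] using this
    rw [qW.yx, mul_inv_cancel_right] at hg'
    exact K.H.h.ne_one hg'
  have hY3 : Nat.card ↥Y = 3 := by
    rw [hY, hR, MonoidHom.map_zpowers, Nat.card_zpowers]
    haveI : Fact (Nat.Prime 3) := ⟨Nat.prime_three⟩
    refine orderOf_eq_prime ?_ fun h => ?_
    · rw [← map_pow, show (⟨r, hrC⟩ : ↥(CC z x)) ^ 3 = 1 from Subtype.ext (by simpa using Tr.y3),
        map_one]
    · have hzero : ⁅(embC K).range, Y⁆ = ⊥ := by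
        rw [hY, hR, MonoidHom.map_zpowers, h, zpowers_one_eq_bot]
        exact Subgroup.commutator_bot_right _
      rw [hzero, Subgroup.card_bot] at hcard
      omega
  haveI : ((Y.map (Subgroup.subtype _)).subgroupOf
      (centralizer ((Y.map (Subgroup.subtype _)) : Set (CY x ⧸ N x)))).Normal :=
    ⟨fun n hnm g => by
      have h : g * n = n * g :=
        Subtype.ext (mem_centralizer_iff.1 g.2 _ (mem_subgroupOf.1 hnm)).symm
      rw [h, mul_inv_cancel_right]; exact hnm⟩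
  haveI : Fact (Nat.Prime 3) := ⟨Nat.prime_three⟩
  haveI : Fintype (GaloisField 3 2) := Fintype.ofFinite _
  have hK9 : Fintype.card (GaloisField 3 2) = 9 := by
    rw [← Nat.card_eq_fintype_card, GaloisField.card 3 2 (by norm_num)]
    norm_num
  have hq := (Cfsg.Agent.S5380.result (zb K) (orderOf_zb K) (embC K).range hF (isExtraspecial_range K)
    (card_range K) e (exists_fus K) Y hY3 hcard hna (GaloisField 3 2) hK9).1
  have hperf : commutator ↥(centralizer ((Y.map (Subgroup.subtype _)) : Set (CY x ⧸ N x))) = ⊤ :=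
    hq.1.commutator_eq_top
  have hin : rb ∈ centralizer ((Y.map (Subgroup.subtype _)) : Set (CY x ⧸ N x)) := by
    rw [hYm, mem_centralizer_iff]
    rintro _ ⟨j, rfl⟩
    exact ((Commute.refl rb).zpow_left j).eq
  have := mem_map_of_mem (centralizer ((Y.map (Subgroup.subtype _)) : Set (CY x ⧸ N x))).subtype
    (hperf.ge (mem_top ⟨rb, hin⟩))
  rw [map_commutator_top] at this
  have h2 : rb ∈ ⁅centralizer ((Y.map (Subgroup.subtype _)) : Set (CY x ⧸ N x)),
      centralizer ((Y.map (Subgroup.subtype _)) : Set (CY x ⧸ N x))⁆ := this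
  rwa [hYm] at h2

/-- If the quotient is the Suzuki group, the centraliser of `x` is quasisimple. -/
theorem quasisimple (hs : IsSimpleGroup (CY x ⧸ N x)) : Cfsg.IsQuasisimple ↥(CY x) := by
  haveI := hs
  have hcen : Subgroup.center ↥(CY x) = N x := by
    refine le_antisymm (fun l hl => ?_) fun n hn => Subgroup.mem_center_iff.2 (central hn)
    haveI hmn : ((Subgroup.center ↥(CY x)).map (pr x)).Normal :=
      Subgroup.Normal.map inferInstance (pr x) (pr_surj x)
    rcases hmn.eq_bot_or_eq_top with h | h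
    · have : pr x l ∈ (⊥ : Subgroup (CY x ⧸ N x)) := h ▸ ⟨l, hl, rfl⟩
      exact (QuotientGroup.eq_one_iff l).1 (Subgroup.mem_bot.1 this)
    · refine absurd (fun a b => ?_) (not_comm K)
      obtain ⟨l', hl', rfl⟩ : a ∈ (Subgroup.center ↥(CY x)).map (pr x) := h ▸ mem_top a
      obtain ⟨m, rfl⟩ := pr_surj x b
      rw [← map_mul, ← map_mul, (Subgroup.mem_center_iff.1 hl' m)]
  refine ⟨?_, (QuotientGroup.quotientMulEquivOfEq hcen).isSimpleGroup⟩
  set L₀ := _root_.commutator ↥(CY x) with hL₀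
  have htop : L₀.map (pr x) = ⊤ := by
    haveI hmn : (L₀.map (pr x)).Normal := Subgroup.Normal.map inferInstance (pr x) (pr_surj x)
    rcases hmn.eq_bot_or_eq_top with h | h
    · refine absurd (fun a b => ?_) (not_comm K)
      obtain ⟨a, rfl⟩ := pr_surj x a
      obtain ⟨b, rfl⟩ := pr_surj x b
      have : pr x (a * b * a⁻¹ * b⁻¹) = 1 := Subgroup.mem_bot.1
        (h ▸ ⟨_, commutator_mem_commutator (mem_top a) (mem_top b), rfl⟩)
      rw [map_mul, map_mul, map_mul, map_inv, map_inv] at this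
      exact mul_inv_eq_iff_eq_mul.1 (mul_inv_eq_one.1 this)
    · exact h
  refine ⟨?_⟩
  rw [← hL₀, eq_top_iff]
  by_contra hcon
  have hN0 : ∀ n ∈ N x, n ∈ L₀ → n = 1 := by
    intro n hn hnL
    by_contra hn1
    apply hcon
    intro l _
    obtain ⟨l', hl', he⟩ := (htop ▸ mem_top (pr x l) : pr x l ∈ L₀.map (pr x))
    have hkN : l⁻¹ * l' ∈ N x := mem_subgroupOf.2 (pr_eq.1 he.symm)
    have hz : zpowers n = N x := Subgroup.eq_of_le_of_card_ge (zpowers_le.2 hn) (by
      have h3 : (n : G) ^ 3 = 1 := by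
        obtain ⟨j, hj⟩ := mem_subgroupOf.1 hn
        rw [← hj, ← zpow_natCast, ← zpow_mul, mul_comm, zpow_mul, zpow_natCast, K.T.y3, one_zpow]
      haveI : Fact (Nat.Prime 3) := ⟨Nat.prime_three⟩
      rw [Nat.card_congr (Subgroup.subgroupOfEquivOfLe
        (zpowers_le.2 (mem_CY.2 rfl) : zpowers x ≤ CY x)).toEquiv, Nat.card_zpowers,
        Nat.card_zpowers, ← Subgroup.orderOf_coe n,
        orderOf_eq_prime h3 (fun h => hn1 (Subtype.ext h)), K.T.orderOf_eq])
    have hk : l⁻¹ * l' ∈ L₀ := (zpowers_le.2 hnL : zpowers n ≤ L₀) (hz.ge hkN)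
    have := mul_mem hl' (inv_mem hk)
    rwa [mul_inv_rev, inv_inv, mul_inv_cancel_left] at this
  obtain ⟨t, d, a, b, p, q, S6, Q', ν, ρ, xs, S, hxs⟩ := exists_data K
  subst hxs
  obtain ⟨r, hrx, Tr, hrG, hW⟩ := exists_r S
  set rr : ↥(CY (xs : G)) := ⟨r, mem_CY.2 hrx⟩ with hrr
  have hrL : rr ∈ L₀ := by
    rw [← map_commutator_top] at hrG
    obtain ⟨m, hm, hme⟩ := hrG
    exact (show m = rr from Subtype.ext hme) ▸ hm
  set C₀ := L₀ ⊓ centralizer ({rr} : Set ↥(CY (xs : G))) with hC₀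
  have hle : centralizer (zpowers (pr (xs : G) rr) : Set (CY (xs : G) ⧸ N (xs : G))) ≤
      C₀.map (pr (xs : G)) := by
    intro c hc
    obtain ⟨l, hl, rfl⟩ := (htop ▸ mem_top c : c ∈ L₀.map (pr (xs : G)))
    refine ⟨l, ⟨hl, mem_centralizer_singleton_iff.2 ?_⟩, rfl⟩
    have h1 : pr (xs : G) (l * rr * l⁻¹ * rr⁻¹) = 1 := by
      rw [map_mul, map_mul, map_mul, map_inv, map_inv,
        ← mem_centralizer_iff.1 hc _ (mem_zpowers _)]
      group
    have := hN0 _ ((QuotientGroup.eq_one_iff _).1 h1)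
      (mul_mem (Subgroup.Normal.conj_mem inferInstance rr hrL l) (inv_mem hrL))
    exact mul_inv_eq_iff_eq_mul.1 (mul_inv_eq_one.1 this)
  have hrm : pr (xs : G) rr ∈ ⁅C₀, C₀⁆.map (pr (xs : G)) := by
    rw [Subgroup.map_commutator]
    exact Subgroup.commutator_mono hle hle (r_mem K hrx Tr hW)
  obtain ⟨c₀, hc₀, hce⟩ := hrm
  have hc₀L : c₀ ∈ L₀ := Subgroup.commutator_mono le_top le_top hc₀
  have hc₀r : c₀ = rr := by
    have h := hN0 (c₀⁻¹ * rr) (mem_subgroupOf.2 (pr_eq.1 hce)) (mul_mem (inv_mem hc₀L) hrL)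
    exact inv_mul_eq_one.1 h
  rw [hc₀r] at hc₀
  -- move `r` to `x`
  obtain ⟨g₀, hg₀, hg₀'⟩ := K.fus
  obtain ⟨s, hsz, hs⟩ := three_conj K.H K.T Tr hg₀ hg₀'
  set φ : ↥(CY (xs : G)) →* G :=
    (MulAut.conj s).toMonoidHom.comp (CY (xs : G)).subtype with hφ
  have hφC : C₀.map φ ≤ CY (xs : G) := by
    rintro _ ⟨l, ⟨-, hl⟩, rfl⟩
    refine mem_CY.2 ?_
    have h : (l : G) * r = r * l := congrArg Subtype.val (mem_centralizer_singleton_iff.1 hl)
    show s * (l : G) * s⁻¹ * (xs : G) = xs * (s * (l : G) * s⁻¹)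
    have e : s * (l : G) * s⁻¹ * (s * r * s⁻¹) = s * r * s⁻¹ * (s * (l : G) * s⁻¹) := by
      calc s * (l : G) * s⁻¹ * (s * r * s⁻¹) = s * ((l : G) * r) * s⁻¹ := by group
        _ = s * (r * l) * s⁻¹ := by rw [h]
        _ = s * r * s⁻¹ * (s * (l : G) * s⁻¹) := by group
    simpa only [hs] using e
  have hx : (xs : G) ∈ ⁅CY (xs : G), CY (xs : G)⁆ := by
    refine Subgroup.commutator_mono hφC hφC ?_
    rw [← Subgroup.map_commutator]
    exact ⟨rr, hc₀, hs⟩
  rw [← map_commutator_top] at hx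
  obtain ⟨m, hm, hme⟩ := hx
  have := hN0 m (mem_subgroupOf.2 (by
    show (m : G) ∈ zpowers (xs : G)
    rw [show (m : G) = xs from hme]; exact mem_zpowers _)) hm
  exact K.T.y1 (hme.symm.trans (congrArg Subtype.val this))

end

end Cfsg.Agent.ConwayThreePerfect24
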