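import Cfsg.Agent.Lib.ConwayThreeLocal24
import Cfsg.Agent.Lib.ConwayThreeOmega24
import Cfsg.Agent.Lib.CharTwoLocal
import Cfsg.Agent.Lib.HallCore
import Cfsg.Agent.Lib.LargeExtraspecialSetting
import Cfsg.Prelude.Def_CaseTheorems

/-!
The centraliser of an element of order three in a group of Conway type, modulo that element, is of
Suzuki sporadic type.
-/

set_option autoImplicit false
set_option linter.unusedSectionVars false

namespace Cfsg.Agent.ConwayThreeQuot24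

open Subgroup Cfsg.Agent.LargeExtraspecial
open Cfsg.Agent.ConwayTypeModel62 Cfsg.Agent.ConwayTypeCoord62 Cfsg.Agent.ConwayTypeRadical62
open Cfsg.Agent.ConwayThreeFacts24 Cfsg.Agent.ConwayThreeStd24 Cfsg.Agent.ConwayThreeCoord24
open Cfsg.Agent.ConwayThreeSplit24 Cfsg.Agent.ConwayThreeLocal24

variable {G : Type*} [Group G] [Finite G]

/-- The hypotheses on `x`. -/
structure Cd (Q : Subgroup G) (z x : G) : Prop where
  H : Hyp Q z
  T : Three Q z x
  fus : ∃ g : G, g * z * g⁻¹ ∈ Q ∧ g * z * g⁻¹ ≠ z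

/-- The centraliser of `x`. -/
abbrev CY (x : G) : Subgroup G := centralizer (zpowers x : Set G)

/-- `⟨x⟩` inside its centraliser. -/
abbrev N (x : G) : Subgroup (CY x) := (zpowers x).subgroupOf (CY x)

theorem mem_CY {x g : G} : g ∈ CY x ↔ g * x = x * g := by
  show g ∈ centralizer (zpowers x : Set G) ↔ _
  rw [centralizer_zpowers, mem_centralizer_singleton_iff]

theorem central {x : G} {n : CY x} (hn : n ∈ N x) (l : CY x) : l * n = n * l :=
  Subtype.ext (mem_centralizer_iff.1 l.2 _ (mem_subgroupOf.1 hn)).symm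

instance N_normal (x : G) : (N x).Normal :=
  ⟨fun n hn g => by rw [central hn g, mul_inv_cancel_right]; exact hn⟩

/-- The projection. -/
def pr (x : G) : CY x →* CY x ⧸ N x := QuotientGroup.mk' _

theorem pr_surj (x : G) : Function.Surjective (pr x) := QuotientGroup.mk'_surjective _

theorem pr_eq_one {x : G} {l : CY x} : pr x l = 1 ↔ (l : G) ∈ zpowers x :=
  (QuotientGroup.eq_one_iff l).trans mem_subgroupOf

theorem pr_eq {x : G} {l l' : CY x} : pr x l = pr x l' ↔ (l : G)⁻¹ * l' ∈ zpowers x := by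
  rw [← inv_mul_eq_one, ← map_inv, ← map_mul, pr_eq_one]
  rfl

section

variable {Q : Subgroup G} {z x : G} (K : Cd Q z x)
include K

theorem k_four {k : G} (hk : k ∈ zpowers x) (h : k ^ 4 = 1) : k = 1 :=
  eq_one_of_mem_odd_of_pow_two (ConwayThreeSplit24.odd_x K.H K.T) hk (n := 2) h

/-- Two elements of exponent four congruent modulo `⟨x⟩` are equal. -/
theorem eq_of_four {a b : G} (ha : a ^ 4 = 1) (hb : b ^ 4 = 1) (hay : a * x = x * a)
    (h : a⁻¹ * b ∈ zpowers x) : a = b := by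
  have hc : Commute a (a⁻¹ * b) := by
    obtain ⟨j, hj⟩ := h
    rw [← hj]
    exact (show Commute a x from hay).zpow_right j
  refine inv_mul_eq_one.1 (k_four K h ?_)
  have := hc.mul_pow 4
  rw [mul_inv_cancel_left, hb, ha, one_mul] at this
  exact this.symm

theorem CQ_CY : CQ Q x ≤ CY x := fun _ hg => mem_CY.2 (mem_CQ.1 hg).2

theorem z_CQ : z ∈ CQ Q x := mem_CQ.2 ⟨K.H.h.mem, K.T.yz.symm⟩

/-- The image of `C_Q(x)` in the quotient. -/
def emb : ↥(CQ Q x) →* CY x ⧸ N x := (pr x).comp (Subgroup.inclusion (CQ_CY K))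

theorem pow_four (q : ↥(CQ Q x)) : (q : G) ^ 4 = 1 := K.H.h.pow_four (mem_CQ.1 q.2).1

theorem emb_inj : Function.Injective (emb K) := fun q q' e =>
  Subtype.ext (eq_of_four K (pow_four K q) (pow_four K q') (mem_CQ.1 q.2).2 (pr_eq.1 e))

theorem lift_eq {l : CY x} (hl4 : (l : G) ^ 4 = 1) {q : ↥(CQ Q x)} (e : pr x l = emb K q) :
    (l : G) = q :=
  eq_of_four K hl4 (pow_four K q) (mem_CY.1 l.2) (pr_eq.1 e)

theorem z_mem : z ∈ CY x := mem_CY.2 K.T.yz.symm

/-- The image of `z`. -/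
def zb : CY x ⧸ N x := emb K ⟨z, z_CQ K⟩

theorem zb_eq : zb K = pr x ⟨z, z_mem K⟩ := rfl

theorem orderOf_zb : orderOf (zb K) = 2 :=
  orderOf_eq_prime
    (by rw [zb, ← map_pow, ← map_one (emb K)]
        exact congrArg _ (Subtype.ext (by
          show z ^ 2 = 1
          rw [pow_two]; exact K.H.h.zz)))
    (fun e => K.H.h.ne_one (congrArg Subtype.val (emb_inj K (e.trans (map_one _).symm))))

theorem lift_z {c : CY x ⧸ N x} (hc : c * zb K = zb K * c) :
    ∃ l : CY x, pr x l = c ∧ (l : G) * z = z * l := by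
  obtain ⟨l, rfl⟩ := pr_surj x c
  refine ⟨l, rfl, ?_⟩
  have h1 : pr x ⟨(l : G) * z * (l : G)⁻¹, mul_mem (mul_mem l.2 (z_mem K)) (inv_mem l.2)⟩
      = zb K := by
    rw [show (⟨(l : G) * z * (l : G)⁻¹, _⟩ : CY x) = l * ⟨z, z_mem K⟩ * l⁻¹ from rfl, map_mul,
      map_mul, map_inv, ← zb_eq K]
    exact mul_inv_eq_iff_eq_mul.2 hc
  refine mul_inv_eq_iff_eq_mul.1 (lift_eq K ?_ h1)
  rw [conj_pow, K.H.h.pow_four K.H.h.mem, mul_one, mul_inv_cancel]

theorem CC_CY : CC z x ≤ CY x := fun _ hg => mem_CY.2 (mem_CC.1 hg).2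

theorem CQ_CC : CQ Q x ≤ CC z x := fun _ hg =>
  mem_CC.2 ⟨K.H.h.comm _ (mem_CQ.1 hg).1, (mem_CQ.1 hg).2⟩

theorem x_CC : x ∈ CC z x := mem_CC.2 ⟨K.T.yz, rfl⟩

/-- The projection onto the centraliser of the image of `z`. -/
def prC : ↥(CC z x) →* centralizer ({zb K} : Set (CY x ⧸ N x)) :=
  ((pr x).comp (Subgroup.inclusion (CC_CY K))).codRestrict _ fun g => by
    rw [mem_centralizer_singleton_iff, zb_eq]
    show pr x _ * pr x _ = pr x _ * pr x _
    rw [← map_mul, ← map_mul]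
    exact congrArg _ (Subtype.ext (mem_CC.1 g.2).1)

theorem prC_surj : Function.Surjective (prC K) := by
  rintro ⟨c, hc⟩
  obtain ⟨l, hl, hlz⟩ := lift_z K (mem_centralizer_singleton_iff.1 hc)
  exact ⟨⟨l, mem_CC.2 ⟨hlz, mem_CY.1 l.2⟩⟩, Subtype.ext hl⟩

theorem prC_eq_one {c : ↥(CC z x)} : prC K c = 1 ↔ (c : G) ∈ zpowers x :=
  ⟨fun h => (pr_eq_one (l := ⟨(c : G), CC_CY K c.2⟩)).1 (congrArg Subtype.val h),
    fun h => Subtype.ext ((pr_eq_one (l := ⟨(c : G), CC_CY K c.2⟩)).2 h)⟩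

/-- The image of `C_Q(x)` inside the centraliser of the image of `z`. -/
def embC : ↥(CQ Q x) →* centralizer ({zb K} : Set (CY x ⧸ N x)) :=
  (prC K).comp (Subgroup.inclusion (CQ_CC K))

theorem coe_embC (q : ↥(CQ Q x)) : ((embC K q : _) : CY x ⧸ N x) = emb K q := rfl

theorem embC_inj : Function.Injective (embC K) := fun _ _ e =>
  emb_inj K (congrArg Subtype.val e)

theorem exists_data : ∃ (t d a b p q : G), Six Q z x t d a b p q ∧
    ∃ (Q' : Subgroup G) (ν : G → M6) (ρ : ↥(Sx z t) →* P8) (xs : ↥(Sx z t)),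
      Std Q Q' z t ν d ρ xs ∧ (xs : G) = x := by
  obtain ⟨g₀, hg₀, hg₀'⟩ := K.fus
  obtain ⟨g, hgQ, hgz, hgx⟩ := exists_conj_fix K.H K.T hg₀ hg₀'
  obtain ⟨ν, d, ρ, S⟩ := exists_std K.H K.T hgQ hgz hgx
  obtain ⟨a, b, p, q, S6⟩ := exists_six S
  exact ⟨_, d, a, b, p, q, S6, _, ν, ρ, _, S, rfl⟩

theorem ext_range : Ext (embC K).range (embC K ⟨z, z_CQ K⟩) := by
  obtain ⟨t, d, a, b, p, q, -, Q', ν, ρ, xs, S, hxs⟩ := exists_data K
  have hE : Ext (CQ Q x) z := hxs ▸ ext_CQ S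
  have h := LargeExtraspecialSetting.ext_map_injOn (embC K)
    (Q := (⊤ : Subgroup ↥(CQ Q x))) (z := ⟨z, z_CQ K⟩)
    ⟨mem_top _, fun e => hE.ne_one (congrArg Subtype.val e), Subtype.ext hE.zz,
      fun u _ => Subtype.ext (hE.comm u u.2),
      fun u _ => (hE.sq u u.2).imp Subtype.ext Subtype.ext,
      fun u _ v _ => (hE.conj u u.2 v v.2).imp Subtype.ext Subtype.ext,
      fun u _ h1 h2 => by
        obtain ⟨y, hy, e⟩ := hE.partner u u.2 (fun e => h1 (Subtype.ext e))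
          (fun e => h2 (Subtype.ext e))
        exact ⟨⟨y, hy⟩, mem_top _, Subtype.ext e⟩⟩
    fun u _ e => embC_inj K (e.trans (map_one _).symm)
  rwa [← MonoidHom.range_eq_map] at h

theorem card_range : Nat.card (embC K).range = 2 ^ 7 := by
  rw [← Nat.card_congr (MonoidHom.ofInjective (embC_inj K)).toEquiv, K.T.card]
  norm_num

theorem isExtraspecial_range : Cfsg.IsExtraspecial 2 ↥(embC K).range := by
  have hE := ext_range K
  have hne : ∃ u ∈ (embC K).range, u ≠ 1 ∧ u ≠ embC K ⟨z, z_CQ K⟩ := by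
    obtain ⟨t, d, a, b, p, q, S6, Q', ν, ρ, xs, S, hxs⟩ := exists_data K
    refine ⟨embC K ⟨t, S6.ht⟩, ⟨_, rfl⟩, fun e => S.D.sing.2.2.1 ?_, fun e => S.D.sing.2.2.2 ?_⟩
    · exact congrArg Subtype.val (embC_inj K (e.trans (map_one _).symm))
    · exact congrArg Subtype.val (embC_inj K e)
  obtain ⟨u, hu, h1, h2⟩ := hne
  exact hE.isExtraspecial hu h1 h2

/-- The centraliser of the image of `z`, its core and the quotient. -/
theorem local_data : ∃ _hn : (embC K).range.Normal,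
    Cfsg.generalizedFittingSubgroup ↥(centralizer ({zb K} : Set (CY x ⧸ N x))) = (embC K).range ∧
    Nonempty (↥(centralizer ({zb K} : Set (CY x ⧸ N x))) ⧸ (embC K).range ≃*
      Cfsg.Omega (ZMod 2) (Cfsg.quadFormMinus 2 (ZMod 2) 1 1)) := by
  haveI : Fact (Nat.Prime 2) := ⟨Nat.prime_two⟩
  obtain ⟨t, d, a, b, p, q, S6, Q', ν, ρ, xs, S, hxs⟩ := exists_data K
  subst hxs
  let θ : ↥(CC z (xs : G)) →* ↥(Cfsg.Omega (ZMod 2) qm) :=
    S6.toIso.codRestrict _ fun g => range_eq S S6 ▸ ⟨g, rfl⟩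
  have hθs : Function.Surjective θ := by
    rintro ⟨w, hw⟩
    obtain ⟨g, rfl⟩ := (range_eq S S6).ge hw
    exact ⟨g, rfl⟩
  have hθ : ∀ g, θ g = 1 ↔ S6.toIso g = 1 := fun g =>
    ⟨fun h => congrArg Subtype.val h, fun h => Subtype.ext h⟩
  have hker : (prC K).ker ≤ θ.ker := by
    intro g hg
    rw [MonoidHom.mem_ker, hθ, S6.toIso_eq_one]
    intro k hk
    obtain ⟨l, hl⟩ := (prC_eq_one K).1 hg
    have hc : Commute (xs : G) k := (mem_CQ.1 hk).2.symm
    rw [← hl, (hc.zpow_left l).eq, mul_inv_cancel_right]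
  let φ := MonoidHom.liftOfSurjective (prC K) (prC_surj K) ⟨θ, hker⟩
  have hφ : ∀ g, φ (prC K g) = θ g := fun g =>
    MonoidHom.liftOfRightInverse_comp_apply _ _ _ _ _
  have hφs : Function.Surjective φ := fun w => by
    obtain ⟨g, rfl⟩ := hθs w
    exact ⟨prC K g, hφ g⟩
  have hQk : (embC K).range = φ.ker := by
    refine le_antisymm ?_ fun c hc => ?_
    · rintro _ ⟨m, rfl⟩
      show φ (prC K _) = 1
      rw [hφ, hθ, S6.toIso_eq_one]
      intro k hk
      show S6.co ((m : G) * k * (m : G)⁻¹) = _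
      rw [cb_spec S6.H.h.toExt (mem_CQ.1 m.2).1 (mem_CQ.1 hk).1,
        S6.co_mul (zp_mem S6.H.h.mem _) (mem_CQ.1 hk).1, S6.co_zp, zero_add]
    · obtain ⟨g, rfl⟩ := prC_surj K c
      rw [MonoidHom.mem_ker, hφ, hθ] at hc
      obtain ⟨i, m, hm, e⟩ := exists_of_triv S S6 g hc
      refine ⟨⟨m, hm⟩, ?_⟩
      show prC K _ = prC K g
      rw [← inv_mul_eq_one, ← map_inv, ← map_mul, prC_eq_one]
      show m⁻¹ * (g : G) ∈ zpowers (xs : G)
      rw [e, ← ((show Commute m (xs : G) from (mem_CQ.1 hm).2).pow_right i).eq,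
        inv_mul_cancel_left]
      exact pow_mem (mem_zpowers _) i
  haveI hn : (embC K).range.Normal := hQk ▸ MonoidHom.normal_ker φ
  refine ⟨hn, ?_, ⟨(QuotientGroup.quotientMulEquivOfEq hQk).trans
    (QuotientGroup.quotientKerEquivOfSurjective φ hφs)⟩⟩
  haveI := ConwayThreeOmega24.isSimpleGroup_omega
  have hQp : IsPGroup 2 (embC K).range := (ext_range K).isPGroup
  have hcore : Cfsg.pCore 2 ↥(centralizer ({zb K} : Set (CY (xs : G) ⧸ N (xs : G))))
      = (embC K).range := by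
    refine le_antisymm ?_ (HallCore.le_pCore hQp)
    rw [hQk]
    haveI : ((Cfsg.pCore 2 _).map φ).Normal := Subgroup.Normal.map inferInstance φ hφs
    rcases IsSimpleGroup.eq_bot_or_eq_top_of_normal ((Cfsg.pCore 2 _).map φ) inferInstance with h | h
    · exact (Subgroup.map_eq_bot_iff _).1 h
    · exfalso
      have hp := (HallCore.isPGroup_pCore 2 ↥(centralizer
        ({zb K} : Set (CY (xs : G) ⧸ N (xs : G))))).map φ
      rw [h] at hp
      exact ConwayThreeOmega24.not_two_group (hp.of_equiv Subgroup.topEquiv)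
  rw [CharTwoLocal.gen_eq_of_charTwo (CharTwoLocal.charTwo_of_isPGroup ?_), hcore]
  rw [hcore]
  refine hQp.to_le fun c hc => ?_
  obtain ⟨g, rfl⟩ := prC_surj K c
  rw [hQk, MonoidHom.mem_ker, hφ, hθ, S6.toIso_eq_one]
  intro k hk
  have h := mem_centralizer_iff.1 hc _ ⟨⟨k, hk⟩, rfl⟩
  have h' : (g : G) * k * (g : G)⁻¹ = k := by
    have hgx : Commute (g : G) (xs : G) := (mem_CC.1 g.2).2
    have hk4 := pow_four K ⟨k, hk⟩
    have hm := Six.conj_mem S6 g.2 hk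
    have e : emb K ⟨_, hm⟩ = emb K ⟨k, hk⟩ := by
      show pr _ (⟨(g : G), CC_CY K g.2⟩ * ⟨k, CQ_CY K hk⟩ * ⟨(g : G), CC_CY K g.2⟩⁻¹) = _
      rw [map_mul, map_mul, map_inv]
      exact mul_inv_eq_iff_eq_mul.2 (congrArg Subtype.val h).symm
    exact congrArg Subtype.val (emb_inj K e)
  rw [h']

theorem exists_fus : ∃ g : CY x ⧸ N x,
    (∃ hq : g * zb K * g⁻¹ ∈ centralizer ({zb K} : Set (CY x ⧸ N x)),
      (⟨g * zb K * g⁻¹, hq⟩ : centralizer ({zb K} : Set (CY x ⧸ N x))) ∈ (embC K).range) ∧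
      g * zb K * g⁻¹ ≠ zb K := by
  obtain ⟨t, d, a, b, p, q, S6, Q', ν, ρ, xs, S, hxs⟩ := exists_data K
  subst hxs
  obtain ⟨h, hhx, hhz⟩ := ConwayThreeStd24.exists_fus S
  have he : pr (xs : G) ⟨h, mem_CY.2 hhx⟩ * zb K * (pr (xs : G) ⟨h, mem_CY.2 hhx⟩)⁻¹
      = emb K ⟨t, S6.ht⟩ := by
    rw [zb_eq, ← map_inv, ← map_mul, ← map_mul]
    exact congrArg (pr _) (Subtype.ext hhz)
  refine ⟨pr _ ⟨h, mem_CY.2 hhx⟩, ⟨he ▸ (embC K ⟨t, S6.ht⟩).2, ⟨t, S6.ht⟩, Subtype.ext he.symm⟩, ?_⟩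
  rw [he]
  exact fun e => S.D.sing.2.2.2 (congrArg Subtype.val (emb_inj K e))

end

end Cfsg.Agent.ConwayThreeQuot24
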