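import Cfsg.Agent.Lib.ConwayThreeFacts24
import Cfsg.Agent.Lib.ConwayTypePair62
import Cfsg.Agent.Lib.ConwayTypeClasses62
import Cfsg.Agent.Lib.ConwayTypeCentral62
import Cfsg.Agent.Lib.ConwayFiveStd30
import Cfsg.Agent.Lib.LargeExtraspecialAct

/-!
# Elements of order three in a group of Conway type with centraliser of order 128 in `Q`
-/

set_option autoImplicit false
set_option linter.unusedSectionVars false

namespace Cfsg.Agent.ConwayThreeStd24

open Subgroup Cfsg.Agent.LargeExtraspecial Cfsg.Agent.LargeExtraspecialPair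
open Cfsg.Agent.ConwayTypeModel62 Cfsg.Agent.ConwayTypeCoord62 Cfsg.Agent.ConwayTypeRadical62
open Cfsg.Agent.ConwayThreeFacts24

variable {G : Type*} [Group G] [Finite G]

/-- The centraliser in `Q`. -/
abbrev CQ (Q : Subgroup G) (x : G) : Subgroup G := Q ⊓ centralizer ({x} : Set G)

theorem mem_CQ {Q : Subgroup G} {x g : G} : g ∈ CQ Q x ↔ g ∈ Q ∧ g * x = x * g := by
  simp [CQ, mem_centralizer_singleton_iff]

/-- The elements of order three in question. -/
structure Three (Q : Subgroup G) (z y : G) : Prop where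
  y3 : y ^ 3 = 1
  y1 : y ≠ 1
  yz : y * z = z * y
  card : Nat.card ↥(CQ Q y) = 128

theorem Three.orderOf_eq {Q : Subgroup G} {z y : G} (T : Three Q z y) : orderOf y = 3 :=
  haveI : Fact (Nat.Prime 3) := ⟨Nat.prime_three⟩
  orderOf_eq_prime T.y3 T.y1

theorem centralizer_zpowers (y : G) :
    centralizer (zpowers y : Set G) = centralizer ({y} : Set G) := by
  rw [zpowers_eq_closure, centralizer_closure]

theorem Three.conj {Q : Subgroup G} {z y : G} (T : Three Q z y) (h : LHyp Q z) {c : G}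
    (hc : c * z = z * c) : Three Q z (c * y * c⁻¹) := by
  have hcz : Commute c z := hc
  refine ⟨by rw [conj_pow, T.y3, mul_one, mul_inv_cancel],
    fun e => T.y1 (conj_eq_one_iff.mp e),
    ((hcz.mul_left T.yz).mul_left hcz.inv_left).eq, ?_⟩
  refine (Nat.card_congr
    { toFun := fun (q : ↥(CQ Q y)) => (⟨c * q * c⁻¹, mem_CQ.2 ⟨h.norm c hc _ (mem_CQ.1 q.2).1, by
        calc c * q * c⁻¹ * (c * y * c⁻¹) = c * ((q : G) * y) * c⁻¹ := by group
          _ = c * y * c⁻¹ * (c * q * c⁻¹) := by rw [(mem_CQ.1 q.2).2]; group⟩⟩ :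
            ↥(CQ Q (c * y * c⁻¹)))
      invFun := fun q => ⟨c⁻¹ * q * c, mem_CQ.2 ⟨by
          have := h.norm c⁻¹ hcz.inv_left.eq _ (mem_CQ.1 q.2).1
          rwa [inv_inv] at this, by
        calc c⁻¹ * q * c * y = c⁻¹ * ((q : G) * (c * y * c⁻¹)) * c := by group
          _ = y * (c⁻¹ * q * c) := by rw [(mem_CQ.1 q.2).2]; group⟩⟩
      left_inv := fun q => Subtype.ext (by simp [mul_assoc])
      right_inv := fun q => Subtype.ext (by simp [mul_assoc]) }).symm.trans T.card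

/-- An element moved only by a commuting involution is fixed. -/
theorem fixed_of_moved {b a u : G} (h3 : b ^ 3 = 1) (hu : u * u = 1) (hbu : b * u = u * b)
    (h : b * a * b⁻¹ = u * a) : b * a = a * b := by
  have key : ∀ n : ℕ, b ^ n * a * (b ^ n)⁻¹ = u ^ n * a := by
    intro n
    induction n with
    | zero => simp
    | succ n ih =>
      have hc : Commute b (u ^ n) := (show Commute b u from hbu).pow_right n
      calc b ^ (n + 1) * a * (b ^ (n + 1))⁻¹ = b * (b ^ n * a * (b ^ n)⁻¹) * b⁻¹ := by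
            rw [pow_succ']; group
        _ = (b * u ^ n) * a * b⁻¹ := by rw [ih]; group
        _ = u ^ n * (b * a * b⁻¹) := by rw [hc.eq]; group
        _ = u ^ (n + 1) * a := by rw [h, pow_succ]; group
  have h1 := key 3
  rw [h3, show u ^ 3 = u * u * u by simp [pow_succ], hu] at h1
  simp only [one_mul, inv_one, mul_one] at h1
  have hu1 : u = 1 := right_eq_mul.mp h1
  rw [hu1, one_mul] at h
  exact mul_inv_eq_iff_eq_mul.mp h

/-- In a group of Conway type half of the centraliser of an odd element commutes with a fixed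
non-central element. -/
theorem card_CQ_double {Q : Subgroup G} {z t x : G} (H : Hyp Q z) (ht : t ∈ Q) (h1 : t ≠ 1)
    (h2 : t ≠ z) (hxz : x * z = z * x) (hxt : x * t = t * x) (hodd : Odd (orderOf x)) :
    Nat.card ↥(CQ Q x) = 2 * Nat.card ↥(Cx Q t ⊓ centralizer ({x} : Set G) : Subgroup G) := by
  have hA : ∀ a ∈ zpowers x, ∀ w ∈ Q, a * w * a⁻¹ ∈ Q := by
    rintro _ ⟨k, rfl⟩ w hw
    exact H.h.norm _ ((show Commute x z from hxz).zpow_left k).eq w hw
  obtain ⟨d, hd, ed⟩ := LargeExtraspecialAct.partner_fixed H.h.toExt hA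
    (by rwa [Nat.card_zpowers]) ht
    (by rintro _ ⟨k, rfl⟩; exact ((show Commute x t from hxt).zpow_left k).eq) h1 h2
  rw [centralizer_zpowers] at hd
  have hidx : ((Cx Q t ⊓ centralizer ({x} : Set G)).subgroupOf (CQ Q x)).index = 2 := by
    refine Subgroup.index_eq_two_iff.mpr ⟨⟨d, hd⟩, fun b => ?_⟩
    have hbQ : (b : G) ∈ Q := b.2.1
    have hdt : ¬ d * t = t * d := (H.h.not_comm_iff ht hd.1).mpr ed
    simp only [Subgroup.mem_subgroupOf, mem_inf, mem_Cx, Subgroup.coe_mul]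
    by_cases hb : (b : G) * t = t * b
    · refine Or.inr ⟨⟨⟨hbQ, hb⟩, b.2.2⟩, fun e => hdt ?_⟩
      have := (show Commute (b : G) t from hb).inv_left.mul_left
        (show Commute ((b : G) * d) t from e.1.2)
      rw [inv_mul_cancel_left] at this
      exact this
    · refine Or.inl ⟨⟨⟨Q.mul_mem hbQ hd.1, ?_⟩, mul_mem b.2.2 hd.2⟩, fun e => hb e.1.2⟩
      exact mul_inv_eq_iff_eq_mul.mp (H.h.mul_fix hbQ ((H.h.not_comm_iff ht hbQ).mp hb) ed)
  have h := Subgroup.card_mul_index ((Cx Q t ⊓ centralizer ({x} : Set G)).subgroupOf (CQ Q x))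
  rw [hidx, Nat.card_congr (Subgroup.subgroupOfEquivOfLe
    (show Cx Q t ⊓ centralizer ({x} : Set G) ≤ CQ Q x from
      fun a ha => ⟨(mem_Cx.1 ha.1).1, ha.2⟩)).toEquiv] at h
  omega

/-- Conjugacy of three-cycles by an even element. -/
theorem exists_even_conj {σ : P8} (h3 : σ ^ 3 = 1) (h1 : σ ≠ 1)
    (hfix : (Finset.univ.filter fun v : M6 => act σ v = v).card = 16) :
    ∃ τ : P8, Equiv.Perm.sign τ = 1 ∧ τ * c3 * τ⁻¹ = σ := by
  haveI : Fact (Nat.Prime 3) := ⟨Nat.prime_three⟩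
  have ho := orderOf_eq_prime h3 h1
  obtain ⟨n, hn⟩ := Equiv.Perm.cycleType_prime_order (σ := σ) (by rw [ho]; norm_num)
  rw [ho] at hn
  have hsum : σ.cycleType.sum ≤ 8 := by
    rw [Equiv.Perm.sum_cycleType]
    exact (Finset.card_le_univ _).trans (le_of_eq (Fintype.card_fin 8))
  rw [hn, Multiset.sum_replicate, smul_eq_mul] at hsum
  obtain rfl : n = 0 := by
    by_contra hn0
    obtain rfl : n = 1 := by omega
    obtain ⟨τ, rfl⟩ := isConj_iff.mp (Equiv.Perm.isConj_iff_cycleType_eq.mpr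
      (c3_facts.2.2.2.2.2.2.trans hn.symm))
    refine fix_card.2 (Eq.trans (Finset.card_bij (fun v _ => act τ v) ?_ ?_ ?_) hfix)
    · intro v hv
      simp only [Finset.mem_filter, Finset.mem_univ, true_and] at hv ⊢
      rw [act_mul, act_mul, act_inv_act, hv]
    · intro v _ w _ e
      have := congrArg (act τ⁻¹) e
      rwa [act_inv_act, act_inv_act] at this
    · intro w hw
      simp only [Finset.mem_filter, Finset.mem_univ, true_and] at hw ⊢
      refine ⟨act τ⁻¹ w, ?_, by rw [← act_mul, mul_inv_cancel, act_one]⟩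
      have := congrArg (act τ⁻¹) hw
      rwa [act_mul, act_mul, act_inv_act] at this
  obtain ⟨τ, hτ⟩ := isConj_iff.mp (Equiv.Perm.isConj_iff_cycleType_eq.mpr
    ((c3_facts.2.2.2.2.2.1.trans (Multiset.replicate_one 3).symm).trans hn.symm))
  rcases Int.units_eq_one_or (Equiv.Perm.sign τ) with hs | hs
  · exact ⟨τ, hs, hτ⟩
  · refine ⟨τ * sw, ?_, ?_⟩
    · rw [map_mul, hs, c3_facts.2.2.2.1]; rfl
    · rw [show τ * sw * c3 * (τ * sw)⁻¹ = τ * (sw * c3 * sw⁻¹) * τ⁻¹ by group,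
        show sw * c3 * sw⁻¹ = c3 from mul_inv_eq_iff_eq_mul.mpr c3_facts.2.2.2.2.1, hτ]

/-- A fixed point of a permutation of order dividing three on a set of size prime to three. -/
theorem exists_fixed {α : Type*} [Finite α] (π : Equiv.Perm α) (h3 : π ^ 3 = 1)
    (hc : ¬ 3 ∣ Nat.card α) : ∃ a, π a = a := by
  classical
  haveI : Fact (Nat.Prime 3) := ⟨Nat.prime_three⟩
  letI := Fintype.ofFinite α
  exact Equiv.Perm.exists_fixed_point_of_prime (p := 3) (n := 1)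
    (by rwa [← Nat.card_eq_fintype_card]) (σ := π) (by rwa [pow_one])

section general

variable {Q Q' : Subgroup G} {z t : G} {ν : G → M6} {d : G} {ρ : ↥(Sx z t) →* P8}
  (D : Ctx Q Q' z t ν d ρ)
include D

/-- Fixed elements of `C_Q(t)` and fixed vectors. -/
theorem cx_fix_iff {x : ↥(Sx z t)} (hx : (x : G) ^ 3 = 1) {a : G} (ha : a ∈ Cx Q t) :
    a * (x : G) = x * a ↔ act (ρ x) (ν a) = ν a := by
  have hρ := D.hρ x a ha
  refine ⟨fun h => by rw [hρ, ← h, mul_inv_cancel_right], fun h => ?_⟩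
  set u := (x : G) * a * (x : G)⁻¹ * a⁻¹ with hu
  have hconj := D.H.conj_Cx x.2 ha
  have hU : InU z t u := by
    refine (D.K.ker _ (mul_mem hconj (inv_mem ha))).mp ?_
    rw [D.K.add _ hconj _ (inv_mem ha), ← hρ, h, D.H.nu_inv D.sing D.K ha, add_self]
  exact (fixed_of_moved hx (D.H.U_inv D.sing hU).1 (D.H.U_comm D.sing hU x.2)
    (by rw [hu]; group)).symm

/-- Fixed elements of the other side and fixed vectors. -/
theorem c'_fix_iff {x : ↥(Sx z t)} (hx : (x : G) ^ 3 = 1) {c : G} (hc : c ∈ Cx Q' z) :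
    c * (x : G) = x * c ↔ act (ρ x) (ev ν d c) = ev ν d c := by
  have hev := D.ev_conj (c := x) hc
  refine ⟨fun h => by rw [← hev, ← h, mul_inv_cancel_right], fun h => ?_⟩
  have hconj := D.conj_C' x.2 hc
  set u := (x : G) * c * (x : G)⁻¹ * c⁻¹ with hu
  have hV : u ∈ D.P.V := by
    refine (D.ev_eq_zero (mul_mem hconj (inv_mem hc))).mp ?_
    rw [D.ev_mul (D.triv_of_R (D.C'_le_R hconj)) (D.C'_le_Sx (inv_mem hc)),
      D.ev_inv hc, hev, h, add_self]
  have hU : InU z t u := D.inU_iff.mpr hV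
  exact (fixed_of_moved hx (D.H.U_inv D.sing hU).1 (D.H.U_comm D.sing hU x.2)
    (by rw [hu]; group)).symm

theorem card_U : Nat.card {a : G // InU z t a} = 4 := by
  rw [← D.card_V]
  exact Nat.card_congr (Equiv.subtypeEquivRight fun a => D.inU_iff)

theorem card_cx_fix {x : ↥(Sx z t)} (hx : (x : G) ^ 3 = 1) :
    Nat.card ↥(Cx Q t ⊓ centralizer ({(x : G)} : Set G) : Subgroup G) =
      4 * (Finset.univ.filter fun v : M6 => act (ρ x) v = v).card := by
  classical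
  choose s hs hνs using D.K.surj
  rw [← Fintype.card_subtype, ← Nat.card_eq_fintype_card, ← card_U D, ← Nat.card_prod]
  refine Nat.card_congr
    { toFun := fun a => (⟨(a : G) * (s (ν a))⁻¹,
          (D.H.nu_eq D.sing D.K a.2.1 (hs _)).mp (hνs _).symm⟩,
        ⟨ν a, (cx_fix_iff D hx a.2.1).mp (mem_centralizer_singleton_iff.mp a.2.2)⟩)
      invFun := fun p => ⟨(p.1 : G) * s p.2,
        mul_mem (D.H.U_mem D.sing p.1.2) (hs _), mem_centralizer_singleton_iff.mpr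
          ((show Commute (p.1 : G) x from (D.H.U_comm D.sing p.1.2 x.2).symm).mul_left
            ((cx_fix_iff D hx (hs _)).mpr (by rw [hνs]; exact p.2.2))).eq⟩
      left_inv := fun a => Subtype.ext (by dsimp; group)
      right_inv := fun p => by
        have e : ν ((p.1 : G) * s p.2) = p.2 := by
          rw [D.K.add _ (D.H.U_mem D.sing p.1.2) _ (hs _),
            (D.K.ker _ (D.H.U_mem D.sing p.1.2)).mpr p.1.2, hνs, zero_add]
        refine Prod.ext (Subtype.ext ?_) (Subtype.ext e)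
        show (p.1 : G) * s p.2 * (s (ν ((p.1 : G) * s p.2)))⁻¹ = p.1
        rw [e, mul_inv_cancel_right] }

theorem R_four {c : ↥(Sx z t)} (h : ρ c = 1) : c ^ 4 = 1 :=
  Subtype.ext (by simpa using D.P.R_pow (D.rho_R.mp h))

theorem rho_three {x : ↥(Sx z t)} (hx : (x : G) ^ 3 = 1) : ρ x ^ 3 = 1 := by
  rw [← map_pow, show x ^ 3 = 1 from Subtype.ext (by simpa using hx), map_one]

theorem rho_ne_one {x : ↥(Sx z t)} (hx : (x : G) ^ 3 = 1) (h1 : (x : G) ≠ 1) : ρ x ≠ 1 :=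
  fun e => h1 (by
    have h4 : (x : G) ^ 4 = 1 := by simpa using congrArg Subtype.val (R_four D e)
    rwa [pow_succ, hx, one_mul] at h4)

/-- The permutation induced by one of our elements is a three-cycle. -/
theorem rho_cycle {x : ↥(Sx z t)} (T : Three Q z (x : G)) :
    ∃ τ : P8, Equiv.Perm.sign τ = 1 ∧ τ * c3 * τ⁻¹ = ρ x := by
  refine exists_even_conj (rho_three D T.y3) (rho_ne_one D T.y3 T.y1) ?_
  have h := card_CQ_double D.H D.sing.1 D.sing.2.2.1 D.sing.2.2.2 T.yz (mem_Sx.mp x.2).2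
    (by rw [T.orderOf_eq]; decide)
  rw [T.card, card_cx_fix D T.y3] at h
  omega

/-- Two elements of order dividing three with the same image are conjugate by an element of `R`. -/
theorem conj_of_rho_eq {x y : ↥(Sx z t)} (hx : x ^ 3 = 1) (hy : y ^ 3 = 1) (h : ρ x = ρ y) :
    ∃ g : ↥(Sx z t), ρ g = 1 ∧ g⁻¹ * x * g = y := by
  have hm : ∀ g : ↥ρ.ker, x * (g : ↥(Sx z t)) * y⁻¹ ∈ ρ.ker := fun g => by
    rw [MonoidHom.mem_ker, map_mul, map_mul, map_inv, (MonoidHom.mem_ker).mp g.2, mul_one, h,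
      mul_inv_cancel]
  have hm' : ∀ g : ↥ρ.ker, x⁻¹ * (g : ↥(Sx z t)) * y ∈ ρ.ker := fun g => by
    rw [MonoidHom.mem_ker, map_mul, map_mul, map_inv, (MonoidHom.mem_ker).mp g.2, mul_one, h,
      inv_mul_cancel]
  let π : Equiv.Perm ↥ρ.ker :=
    { toFun := fun g => ⟨_, hm g⟩
      invFun := fun g => ⟨_, hm' g⟩
      left_inv := fun g => Subtype.ext (by dsimp; group)
      right_inv := fun g => Subtype.ext (by dsimp; group) }
  have hpow : ∀ (n : ℕ) (g : ↥ρ.ker),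
      (((π ^ n) g : ↥ρ.ker) : ↥(Sx z t)) = x ^ n * g * (y ^ n)⁻¹ := by
    intro n
    induction n with
    | zero => intro g; simp
    | succ n ih =>
      intro g
      rw [pow_succ' π, Equiv.Perm.mul_apply]
      show x * (((π ^ n) g : ↥ρ.ker) : ↥(Sx z t)) * y⁻¹ = _
      rw [ih, pow_succ' x, pow_succ' y]; group
  obtain ⟨g, hg⟩ := exists_fixed π (Equiv.ext fun g => Subtype.ext (by
    rw [hpow 3 g, hx, hy]; simp)) (by rw [D.card_ker]; norm_num)
  refine ⟨g, MonoidHom.mem_ker.mp g.2, ?_⟩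
  have : x * (g : ↥(Sx z t)) * y⁻¹ = g := congrArg Subtype.val hg
  rw [mul_inv_eq_iff_eq_mul] at this
  rw [mul_assoc, this, inv_mul_cancel_left]

/-- Conjugacy inside the centraliser of the four group. -/
theorem conj_in_Sx {x y : G} (Tx : Three Q z x) (Ty : Three Q z y) (hxt : x * t = t * x)
    (hyt : y * t = t * y) : ∃ s ∈ Sx z t, s * y * s⁻¹ = x := by
  set xx : ↥(Sx z t) := ⟨x, mem_Sx.mpr ⟨Tx.yz, hxt⟩⟩ with hxx
  set yy : ↥(Sx z t) := ⟨y, mem_Sx.mpr ⟨Ty.yz, hyt⟩⟩ with hyy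
  obtain ⟨τ₁, hs₁, e₁⟩ := rho_cycle D (x := xx) Tx
  obtain ⟨τ₂, hs₂, e₂⟩ := rho_cycle D (x := yy) Ty
  obtain ⟨c, hc⟩ := D.exists_rho_eq (σ := τ₁ * τ₂⁻¹)
    (by rw [map_mul, map_inv, hs₁, hs₂, inv_one, mul_one])
  have hy3 : yy ^ 3 = 1 := Subtype.ext (by simpa using Ty.y3)
  obtain ⟨g, -, e⟩ := conj_of_rho_eq D (x := c * yy * c⁻¹) (y := xx)
    (by rw [conj_pow, hy3, mul_one, mul_inv_cancel]) (Subtype.ext (by simpa using Tx.y3))
    (by rw [map_mul, map_mul, map_inv, hc, ← e₁, ← e₂]; group)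
  have e' : g⁻¹ * c * yy * (g⁻¹ * c)⁻¹ = xx := by rw [← e]; group
  exact ⟨_, (g⁻¹ * c).2, congrArg Subtype.val e'⟩

end general

/-- The standard data. -/
structure Std (Q Q' : Subgroup G) (z t : G) (ν : G → M6) (d : G) (ρ : ↥(Sx z t) →* P8)
    (x : ↥(Sx z t)) : Prop where
  D : Ctx Q Q' z t ν d ρ
  T : Three Q z (x : G)
  rx : ρ x = c3
  xd : (x : G) * d = d * x
  dd : d * d = 1

/-- A fixed singular element gives standard data. -/
theorem exists_std_ctx {Q Q' : Subgroup G} {z t x : G} {ν : G → M6} {d : G}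
    {ρ : ↥(Sx z t) →* P8} (D : Ctx Q Q' z t ν d ρ) (T : Three Q z x) (hxt : x * t = t * x) :
    ∃ ν' d' ρ', Std Q Q' z t ν' d' ρ' ⟨x, mem_Sx.mpr ⟨T.yz, hxt⟩⟩ := by
  have H := D.H
  have hgQ := D.sing.1
  set xx : ↥(Sx z t) := ⟨x, mem_Sx.mpr ⟨T.yz, hxt⟩⟩ with hxx
  obtain ⟨τ, -, hτ⟩ := rho_cycle D (x := xx) T
  have hA : ∀ a ∈ zpowers x, ∀ w ∈ Q, a * w * a⁻¹ ∈ Q := by
    rintro _ ⟨k, rfl⟩ w hw
    exact H.h.norm _ ((show Commute x z from T.yz).zpow_left k).eq w hw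
  obtain ⟨d₀, hd₀, ed₀⟩ := LargeExtraspecialAct.partner_fixed H.h.toExt hA
    (by rw [Nat.card_zpowers, T.orderOf_eq]; decide) hgQ
    (by rintro _ ⟨k, rfl⟩; exact ((show Commute x t from hxt).zpow_left k).eq) D.sing.2.2.1
    D.sing.2.2.2
  rw [centralizer_zpowers] at hd₀
  obtain ⟨hd₀Q, hd₀x⟩ := mem_CQ.1 hd₀
  -- make it an involution
  obtain ⟨d', hd'Q, hd'x, ed', hd'2⟩ :
      ∃ d', d' ∈ Q ∧ d' * x = x * d' ∧ d' * t * d'⁻¹ = z * t ∧ d' * d' = 1 := by
    rcases H.h.sq d₀ hd₀Q with e | e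
    · exact ⟨d₀, hd₀Q, hd₀x, ed₀, e⟩
    obtain ⟨a, ha, hνa⟩ := D.K.surj (act τ vp)
    have hax : a * x = x * a := (cx_fix_iff D (x := xx) T.y3 ha).mpr (by
      rw [hνa, ← hτ, ← act_mul, inv_mul_cancel_right, act_mul, basis_fix.1])
    have haa : a * a = z := by rw [D.K.sq a ha, hνa, f_act, basis_f.1, zp_one]
    obtain ⟨haQ, hat⟩ := mem_Cx.1 ha
    have hzz := H.h.zz
    have mv : ∀ b, b * t = t * b → d₀ * b * t * (d₀ * b)⁻¹ = z * t := fun b hb => by
      calc d₀ * b * t * (d₀ * b)⁻¹ = d₀ * (b * t * b⁻¹) * d₀⁻¹ := by group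
        _ = z * t := by rw [mul_inv_eq_iff_eq_mul.mpr hb, ed₀]
    have sq : ∀ b, d₀ * b = b * d₀ → b * b = z → d₀ * b * (d₀ * b) = 1 := fun b hb hbb => by
      rw [(show Commute b d₀ from hb.symm).mul_mul_mul_comm, e, hbb, hzz]
    by_cases hc : d₀ * a = a * d₀
    · exact ⟨d₀ * a, Q.mul_mem hd₀Q haQ,
        ((show Commute d₀ x from hd₀x).mul_left hax).eq, mv a hat, sq a hc haa⟩
    · have hat' : Commute a t := hat
      have hta : d₀ * (t * a) = t * a * d₀ := by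
        have e1 : d₀ * a * d₀⁻¹ = z * a := (H.h.not_comm_iff haQ hd₀Q).mp hc
        refine mul_inv_eq_iff_eq_mul.mp ?_
        rw [show d₀ * (t * a) * d₀⁻¹ = (d₀ * t * d₀⁻¹) * (d₀ * a * d₀⁻¹) by group, ed₀, e1,
          show z * t * (z * a) = z * (t * z) * a by group, H.h.comm t hgQ, ← mul_assoc, hzz, one_mul]
      have htta : t * a * (t * a) = z := by
        rw [(show Commute a t from hat).mul_mul_mul_comm, D.sing.2.1, haa, one_mul]
      exact ⟨d₀ * (t * a), Q.mul_mem hd₀Q (Q.mul_mem hgQ haQ),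
        ((show Commute d₀ x from hd₀x).mul_left ((show Commute t x from hxt.symm).mul_left hax)).eq,
        mv _ ((Commute.refl t).mul_left hat').eq, sq _ hta htta⟩
  refine ⟨fun g => act τ⁻¹ (ν g), d', (MulAut.conj τ⁻¹).toMonoidHom.comp ρ, ?_, T, ?_,
    hd'x.symm, hd'2⟩
  · refine ⟨D.H, D.H', D.P, ⟨?_, ?_, ?_, ?_⟩, hd'Q, ed', ?_, D.conj, D.tz⟩
    · intro a ha c hc
      rw [D.K.add a ha c hc, act_add]
    · intro w
      obtain ⟨a, ha, e⟩ := D.K.surj (act τ w)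
      exact ⟨a, ha, by rw [e, act_inv_act]⟩
    · intro a ha
      rw [← D.K.ker a ha]
      refine ⟨fun e => ?_, fun e => by rw [e, act_zero]⟩
      have := congrArg (act τ) e
      rwa [← act_mul, mul_inv_cancel, act_one, act_zero] at this
    · intro a ha
      rw [f_act, D.K.sq a ha]
    · intro c a ha
      show act (τ⁻¹ * ρ c * τ⁻¹⁻¹) (act τ⁻¹ (ν a)) = _
      rw [← act_mul, inv_inv, mul_assoc, mul_inv_cancel, mul_one, act_mul, D.hρ c a ha]
  · show τ⁻¹ * ρ xx * τ⁻¹⁻¹ = c3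
    rw [← hτ]; group

/-- A fixed conjugate of `z` gives standard data. -/
theorem exists_std {Q : Subgroup G} {z g x : G} (H : Hyp Q z) (T : Three Q z x)
    (hgQ : g * z * g⁻¹ ∈ Q) (hgz : g * z * g⁻¹ ≠ z)
    (hxt : x * (g * z * g⁻¹) = g * z * g⁻¹ * x) :
    ∃ ν d ρ, Std Q (Q.map (MulAut.conj g).toMonoidHom) z (g * z * g⁻¹) ν d ρ
      ⟨x, mem_Sx.mpr ⟨T.yz, hxt⟩⟩ := by
  obtain ⟨ν, d, ρ, D⟩ := exists_ctx H hgQ hgz
  exact exists_std_ctx D T hxt

/-- A non-central involution in an extraspecial group of order more than eight. -/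
theorem exists_sing_of_card {E : Subgroup G} {z : G} (h : Ext E z) (hc : 16 < Nat.card E) :
    ∃ w ∈ E, w * w = 1 ∧ w ≠ 1 ∧ w ≠ z := by
  classical
  by_contra hno
  push Not at hno
  have hsq : ∀ w ∈ E, w ≠ 1 → w ≠ z → w * w = z := fun w hw h1 h2 =>
    (h.sq w hw).resolve_left fun e => h2 (hno w hw e h1)
  obtain ⟨a, ha, ha1, haz⟩ : ∃ a ∈ E, a ≠ 1 ∧ a ≠ z := by
    by_contra hb
    push Not at hb
    have hsub : (E : Set G) ⊆ ({1, z} : Set G) := fun g hg => by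
      by_cases hg1 : g = 1
      · simp [hg1]
      · simp [hb g hg hg1]
    have h1 := Set.ncard_le_ncard hsub (Set.toFinite _)
    have h2 : ({1, z} : Set G).ncard ≤ 2 := by
      refine (Set.ncard_insert_le _ _).trans ?_
      rw [Set.ncard_singleton]
    rw [← Nat.card_coe_set_eq, SetLike.coe_sort_coe] at h1
    omega
  obtain ⟨y, hy, ey⟩ := h.partner a ha ha1 haz
  have hidx : ((E ⊓ centralizer ({a} : Set G)).subgroupOf E).index = 2 := by
    refine Subgroup.index_eq_two_iff.mpr ⟨⟨y, hy⟩, fun b => ?_⟩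
    simp only [Subgroup.mem_subgroupOf, mem_inf, mem_centralizer_singleton_iff, Subgroup.coe_mul]
    by_cases hb : (b : G) * a = a * b
    · refine Or.inr ⟨⟨b.2, hb⟩, fun e => (h.not_comm_iff ha hy).mpr ey ?_⟩
      have := (show Commute (b : G) a from hb).inv_left.mul_left
        (show Commute ((b : G) * y) a from e.2)
      rw [inv_mul_cancel_left] at this
      exact this
    · refine Or.inl ⟨⟨E.mul_mem b.2 hy, ?_⟩, fun e => hb e.2⟩
      exact mul_inv_eq_iff_eq_mul.mp (h.mul_fix b.2 ((h.not_comm_iff ha b.2).mp hb) ey)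
  have hh := Subgroup.card_mul_index ((E ⊓ centralizer ({a} : Set G)).subgroupOf E)
  rw [hidx, Nat.card_congr (Subgroup.subgroupOfEquivOfLe
    (inf_le_left : E ⊓ centralizer ({a} : Set G) ≤ E)).toEquiv] at hh
  have hsub : ¬ ((E ⊓ centralizer ({a} : Set G) : Subgroup G) : Set G) ⊆
      ({1, z, a, z * a} : Set G) := by
    intro hs
    have h1 := Set.ncard_le_ncard hs (Set.toFinite _)
    have h4 : ({1, z, a, z * a} : Set G).ncard ≤ 4 := by
      refine (Set.ncard_insert_le _ _).trans (Nat.succ_le_succ ?_)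
      refine (Set.ncard_insert_le _ _).trans (Nat.succ_le_succ ?_)
      refine (Set.ncard_insert_le _ _).trans ?_
      rw [Set.ncard_singleton]
    rw [← Nat.card_coe_set_eq, SetLike.coe_sort_coe] at h1
    omega
  obtain ⟨b, ⟨hb, hba⟩, hbn⟩ := Set.not_subset.mp hsub
  simp only [Set.mem_insert_iff, Set.mem_singleton_iff, not_or] at hbn
  obtain ⟨hb1, hbz, hbna, hbnza⟩ := hbn
  have hab : Commute b a := mem_centralizer_singleton_iff.mp hba
  have e : b * a * (b * a) = 1 := by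
    rw [hab.symm.mul_mul_mul_comm, hsq b hb hb1 hbz, hsq a ha ha1 haz, h.zz]
  have hai : a⁻¹ = z * a := by
    refine inv_eq_of_mul_eq_one_right ?_
    rw [← mul_assoc, h.comm a ha, mul_assoc, hsq a ha ha1 haz, h.zz]
  have h1 : b * a ≠ 1 := fun e1 => hbnza (by rw [eq_inv_of_mul_eq_one_left e1, hai])
  refine hbna ?_
  rw [eq_mul_inv_of_mul_eq (hno _ (E.mul_mem hb ha) e h1), hai, h.z_mul_z_mul]

/-- A conjugate of `z` fixed by our element. -/
theorem exists_conj_fix {Q : Subgroup G} {z g x : G} (H : Hyp Q z) (T : Three Q z x)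
    (hgQ : g * z * g⁻¹ ∈ Q) (hgz : g * z * g⁻¹ ≠ z) :
    ∃ h : G, h * z * h⁻¹ ∈ Q ∧ h * z * h⁻¹ ≠ z ∧ x * (h * z * h⁻¹) = h * z * h⁻¹ * x := by
  have hA : ∀ a ∈ zpowers x, ∀ w ∈ Q, a * w * a⁻¹ ∈ Q := by
    rintro _ ⟨k, rfl⟩ w hw
    exact H.h.norm _ ((show Commute x z from T.yz).zpow_left k).eq w hw
  have hE := LargeExtraspecialAct.ext_centralizer H.h.toExt hA
    (by rw [Nat.card_zpowers, T.orderOf_eq]; decide)
  rw [centralizer_zpowers] at hE
  obtain ⟨w, hw, hww, hw1, hwz⟩ := exists_sing_of_card hE (by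
    show 16 < Nat.card ↥(CQ Q x)
    rw [T.card]; norm_num)
  have hs : Sing Q z (g * z * g⁻¹) :=
    ⟨hgQ, (H.h.map_conj g).zz, (H.h.map_conj g).ne_one, hgz⟩
  obtain ⟨c, hcz, hc⟩ := H.transitive hs ⟨(mem_CQ.1 hw).1, hww, hw1, hwz⟩
  refine ⟨c * g, ?_, ?_, ?_⟩ <;>
    rw [show c * g * z * (c * g)⁻¹ = c * (g * z * g⁻¹) * c⁻¹ by group, hc]
  exacts [(mem_CQ.1 hw).1, hwz, (mem_CQ.1 hw).2.symm]

/-- All our elements are conjugate in the centraliser of `z`. -/
theorem three_conj {Q : Subgroup G} {z g x y : G} (H : Hyp Q z) (Tx : Three Q z x)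
    (Ty : Three Q z y) (hgQ : g * z * g⁻¹ ∈ Q) (hgz : g * z * g⁻¹ ≠ z) :
    ∃ s : G, s * z = z * s ∧ s * y * s⁻¹ = x := by
  obtain ⟨h₁, h1Q, h1z, h1x⟩ := exists_conj_fix H Tx hgQ hgz
  obtain ⟨h₂, h2Q, h2z, h2y⟩ := exists_conj_fix H Ty hgQ hgz
  obtain ⟨ν, d, ρ, D⟩ := exists_ctx H h1Q h1z
  obtain ⟨c, hcz, hc⟩ := H.transitive
    (show Sing Q z (h₂ * z * h₂⁻¹) from
      ⟨h2Q, (H.h.map_conj h₂).zz, (H.h.map_conj h₂).ne_one, h2z⟩) D.sing
  obtain ⟨s, hs, e⟩ := conj_in_Sx D Tx (Ty.conj H.h hcz) h1x (by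
    rw [← hc]
    calc c * y * c⁻¹ * (c * (h₂ * z * h₂⁻¹) * c⁻¹) = c * (y * (h₂ * z * h₂⁻¹)) * c⁻¹ := by group
      _ = c * (h₂ * z * h₂⁻¹ * y) * c⁻¹ := by rw [h2y]
      _ = c * (h₂ * z * h₂⁻¹) * c⁻¹ * (c * y * c⁻¹) := by group)
  refine ⟨s * c, ((show Commute s z from (mem_Sx.mp hs).1).mul_left hcz).eq, ?_⟩
  rw [← e]; group

section std

variable {Q Q' : Subgroup G} {z t : G} {ν : G → M6} {d : G} {ρ : ↥(Sx z t) →* P8}
  {x : ↥(Sx z t)} (S : Std Q Q' z t ν d ρ x)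
include S

theorem xz : (x : G) * z = z * x := (mem_Sx.mp x.2).1

theorem xt : (x : G) * t = t * x := (mem_Sx.mp x.2).2

theorem z_CQ : z ∈ CQ Q (x : G) := mem_CQ.2 ⟨S.D.H.h.mem, (xz S).symm⟩

theorem t_CQ : t ∈ CQ Q (x : G) := mem_CQ.2 ⟨S.D.sing.1, (xt S).symm⟩

theorem d_CQ : d ∈ CQ Q (x : G) := mem_CQ.2 ⟨S.D.hd, S.xd.symm⟩

theorem ext_CQ : Ext (CQ Q (x : G)) z := by
  have hA : ∀ a ∈ zpowers (x : G), ∀ w ∈ Q, a * w * a⁻¹ ∈ Q := by
    rintro _ ⟨k, rfl⟩ w hw
    exact S.D.H.h.norm _ ((show Commute (x : G) z from xz S).zpow_left k).eq w hw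
  have hE := LargeExtraspecialAct.ext_centralizer S.D.H.h.toExt hA
    (by rw [Nat.card_zpowers, S.T.orderOf_eq]; decide)
  rwa [centralizer_zpowers] at hE

/-- Lifting the centraliser of the three-cycle. -/
theorem exists_lift {σ : P8} (hσ : Equiv.Perm.sign σ = 1) (hc : σ * c3 = c3 * σ) :
    ∃ c : ↥(Sx z t), ρ c = σ ∧ c * x = x * c := by
  obtain ⟨c, hc'⟩ := S.D.exists_rho_eq hσ
  have h3 : x ^ 3 = 1 := Subtype.ext (by simpa using S.T.y3)
  obtain ⟨g, hg, e⟩ := conj_of_rho_eq S.D (x := c * x * c⁻¹) (y := x)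
    (by rw [conj_pow, h3, mul_one, mul_inv_cancel]) h3
    (by rw [map_mul, map_mul, map_inv, hc', S.rx, hc, mul_inv_cancel_right])
  refine ⟨g⁻¹ * c, by rw [map_mul, map_inv, hg, inv_one, one_mul, hc'], ?_⟩
  calc g⁻¹ * c * x = (g⁻¹ * (c * x * c⁻¹) * g) * (g⁻¹ * c) := by group
    _ = x * (g⁻¹ * c) := by rw [e]

theorem exists_fix {v : M6} (hv : act c3 v = v) :
    ∃ a ∈ Cx Q t, a * (x : G) = x * a ∧ ν a = v := by
  obtain ⟨a, ha, e⟩ := S.D.K.surj v
  exact ⟨a, ha, (cx_fix_iff S.D S.T.y3 ha).mpr (by rw [S.rx, e, hv]), e⟩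

/-- An element carrying `z` to `t` and centralising `x`. -/
theorem exists_fus : ∃ h : G, h * (x : G) = x * h ∧ h * z * h⁻¹ = t := by
  obtain ⟨g, hg⟩ := isConj_iff.mp S.D.tz
  have hQ' : Q' = Q.map (MulAut.conj g).toMonoidHom := by
    refine Subgroup.eq_of_le_of_card_ge (fun w hw => ?_) ?_
    · obtain ⟨y, hy, e⟩ := S.D.P.conj_eq 1 g (by rw [hg]; group) w hw
      refine ⟨y, hy, ?_⟩
      simp only [MulEquiv.coe_toMonoidHom, MulAut.conj_apply]
      rw [← e]; group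
    · rw [Subgroup.card_map_of_injective (MulAut.conj g).injective, S.D.H.cardQ, S.D.H'.cardQ]
  obtain ⟨ν', d', ρ', D'⟩ := S.D.exists_swap
  have hxS' : (x : G) ∈ Sx t z := mem_Sx.mpr ⟨xt S, xz S⟩
  -- the centraliser of `x` in the other side has the same order
  have hcard' : Nat.card ↥(CQ Q' (x : G)) = 128 := by
    have h := card_CQ_double S.D.H' S.D.P.zQ' S.D.H.h.ne_one S.D.P.ne.symm (xt S) (xz S)
      (by rw [S.T.orderOf_eq]; decide)
    have h2 : Nat.card ↥(Cx Q' z ⊓ centralizer ({(x : G)} : Set G) : Subgroup G) = 64 := by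
      classical
      choose s hs hes using S.D.ev_surj
      rw [show 64 = 4 * (Finset.univ.filter fun v : M6 => act c3 v = v).card by rw [fix_card.1],
        ← Fintype.card_subtype, ← Nat.card_eq_fintype_card, ← card_U S.D, ← Nat.card_prod]
      refine Nat.card_congr
        { toFun := fun a => (⟨(a : G) * (s (ev ν d a))⁻¹, S.D.inU_iff.mpr
              ((S.D.ev_eq_zero (mul_mem a.2.1 (inv_mem (hs _)))).mp (by
                rw [S.D.ev_mul (S.D.triv_of_R (S.D.C'_le_R a.2.1)) (S.D.C'_le_Sx (inv_mem (hs _))),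
                  S.D.ev_inv (hs _), hes, add_self]))⟩,
            ⟨ev ν d a, by
              have := (c'_fix_iff S.D S.T.y3 a.2.1).mp (mem_centralizer_singleton_iff.mp a.2.2)
              rwa [S.rx] at this⟩)
          invFun := fun p => ⟨(p.1 : G) * s p.2,
            mul_mem (S.D.V_le_C' (S.D.inU_iff.mp p.1.2)) (hs _), mem_centralizer_singleton_iff.mpr
              ((show Commute (p.1 : G) x from (S.D.H.U_comm S.D.sing p.1.2 x.2).symm).mul_left
                ((c'_fix_iff S.D S.T.y3 (hs _)).mpr (by rw [hes, S.rx]; exact p.2.2))).eq⟩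
          left_inv := fun a => Subtype.ext (by dsimp; group)
          right_inv := fun p => by
            have hp : (p.1 : G) ∈ S.D.P.V := S.D.inU_iff.mp p.1.2
            have e : ev ν d ((p.1 : G) * s p.2) = p.2 := by
              rw [S.D.ev_mul (S.D.triv_of_R (S.D.C'_le_R (S.D.V_le_C' hp))) (S.D.C'_le_Sx (hs _)),
                (S.D.ev_eq_zero (S.D.V_le_C' hp)).mpr hp, hes, add_zero]
            refine Prod.ext (Subtype.ext ?_) (Subtype.ext e)
            show (p.1 : G) * s p.2 * (s (ev ν d ((p.1 : G) * s p.2)))⁻¹ = p.1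
            rw [e, mul_inv_cancel_right] }
    rw [h, h2]
  have T' : Three Q z (g⁻¹ * (x : G) * g) := by
    refine ⟨?_, fun e => S.T.y1 ?_, ?_, ?_⟩
    · have := S.T.y3
      calc (g⁻¹ * (x : G) * g) ^ 3 = g⁻¹ * (x : G) ^ 3 * g := by
            simp only [pow_succ, pow_zero]; group
        _ = 1 := by rw [this]; group
    · calc (x : G) = g * (g⁻¹ * x * g) * g⁻¹ := by group
        _ = 1 := by rw [e]; group
    · calc g⁻¹ * (x : G) * g * z = g⁻¹ * ((x : G) * (g * z * g⁻¹)) * g := by group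
        _ = g⁻¹ * (g * z * g⁻¹ * x) * g := by rw [hg, xt S]
        _ = z * (g⁻¹ * x * g) := by group
    · rw [← hcard']
      refine Nat.card_congr
        { toFun := fun q => ⟨g * q * g⁻¹, mem_CQ.2 ⟨hQ'.ge ⟨(q : G), (mem_CQ.1 q.2).1, rfl⟩, by
            calc g * q * g⁻¹ * x = g * ((q : G) * (g⁻¹ * x * g)) * g⁻¹ := by group
              _ = x * (g * q * g⁻¹) := by rw [(mem_CQ.1 q.2).2]; group⟩⟩
          invFun := fun q => ⟨g⁻¹ * q * g, mem_CQ.2 ⟨by
            obtain ⟨w, hw, e⟩ := hQ'.le (mem_CQ.1 q.2).1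
            simp only [MulEquiv.coe_toMonoidHom, MulAut.conj_apply] at e
            rw [← e, show g⁻¹ * (g * w * g⁻¹) * g = w by group]
            exact hw, by
            calc g⁻¹ * q * g * (g⁻¹ * x * g) = g⁻¹ * ((q : G) * x) * g := by group
              _ = g⁻¹ * x * g * (g⁻¹ * q * g) := by rw [(mem_CQ.1 q.2).2]; group⟩⟩
          left_inv := fun q => Subtype.ext (by simp [mul_assoc])
          right_inv := fun q => Subtype.ext (by simp [mul_assoc]) }
  obtain ⟨s, hsz, hs⟩ := three_conj S.D.H S.T T' (g := g) (by rw [hg]; exact S.D.sing.1)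
    (by rw [hg]; exact S.D.sing.2.2.2)
  refine ⟨g * s⁻¹, ?_, ?_⟩
  · calc g * s⁻¹ * (x : G) = g * (s⁻¹ * (s * (g⁻¹ * x * g) * s⁻¹)) := by rw [hs]; group
      _ = x * (g * s⁻¹) := by group
  · calc g * s⁻¹ * z * (g * s⁻¹)⁻¹ = g * (s⁻¹ * (z * s)) * g⁻¹ := by group
      _ = t := by rw [← hsz, inv_mul_cancel_left, hg]

end std

end Cfsg.Agent.ConwayThreeStd24
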