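import Mathlib
import Cfsg.Agent.Lib.ConwayTypeFusion62

/-!
# Involutions inducing a fixed-point-free permutation

Such an involution is `k r` with `k` a chosen involution inducing the same permutation; one of three
functionals on the perpendicular of the line vanishes, and the involution is conjugate into `R`.
-/

set_option autoImplicit false

namespace Cfsg.Agent.ConwayTypeRadical62

open Subgroup Cfsg.Agent.LargeExtraspecial Cfsg.Agent.LargeExtraspecialPair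
open Cfsg.Agent.ConwayTypeModel62 Cfsg.Agent.ConwayTypeCoord62

variable {G : Type*} [Group G] [Finite G]

namespace Ctx

variable {Q Q' : Subgroup G} {z t : G} {ν : G → M6} {d : G}
  {ρ : ↥(Sx z t) →* P8} (D : Ctx Q Q' z t ν d ρ)
include D

/-- A standard involution inducing the fixed-point-free permutation. -/
theorem exists_k : ∃ k : ↥(Sx z t), (k : G) * k = 1 ∧ ρ k = σ4 ∧ InL (ev ν d (k : G)) ∧
    ∀ a ∈ Cx Q t, InP (ν a) → (k : G) * a * (k : G)⁻¹ = a := by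
  obtain ⟨u, huC, hνu⟩ := D.K.surj α₀
  have huu : u * u = 1 := by rw [D.K.sq u huC, hνu, chosen.1, zp_zero]
  have hu0 : u ≠ 1 := fun e => chosen.2.2.2.2.2.2.2.1 (by
    rw [← hνu, e]; exact D.H.nu_one D.sing D.K)
  have huz : u ≠ z := fun e => chosen.2.2.2.2.2.2.2.1 (by
    rw [← hνu, e]; exact (D.K.ker z (D.H.z_mem D.sing)).mpr (Or.inr (Or.inl rfl)))
  obtain ⟨g, rfl⟩ := isConj_iff.mp (D.conj_z_Q (mem_Cx.mp huC).1 huu hu0).symm
  obtain ⟨νu, du, ρu, Du⟩ := exists_ctx D.H (mem_Cx.mp huC).1 huz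
  set u := g * z * g⁻¹ with hud
  obtain ⟨w, hwC, hνw⟩ := D.K.surj β₀
  have hwu : w * u = u * w := by
    have h := D.comm_Cx hwC huC
    rw [hνw, hνu, B_comm, chosen.2.2.1, show ((0 : ZMod 2), (0 : ZMod 2)) = 0 from rfl, vv_zero] at h
    exact mul_inv_eq_iff_eq_mul.mp (mul_inv_eq_one.mp h)
  have hwCu : w ∈ Cx Q u := mem_Cx.mpr ⟨(mem_Cx.mp hwC).1, hwu⟩
  have hww : w * w = 1 := by rw [D.K.sq w hwC, hνw, chosen.2.1, zp_zero]
  obtain ⟨k, hk, hek⟩ := Du.ev_surj (νu w)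
  have hfw : f (νu w) = 0 := by
    have h := Du.K.sq w hwCu
    rw [hww] at h
    exact zp_inj D.H.h.ne_one (h.symm.trans (zp_zero z).symm)
  have hkk : k * k = 1 := by
    rw [Du.sq_C' k hk, hek, hfw]
    exact vv_zero z u
  have hki : k⁻¹ = k := inv_eq_of_mul_eq_one_right hkk
  have hkz : k * z = z * k := (mem_Cx.mp hk).2
  have hkey : ∀ a ∈ Cx Q u, ∀ b, a * w * a⁻¹ * w⁻¹ = zp z b →
      a * k * a⁻¹ * k⁻¹ = vv z u (b, b) := by
    intro a ha b hb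
    rw [Du.comm_Cx ha hwCu, vv, zp_zero, mul_one] at hb
    rw [Du.comm_ab a ha k hk, hek, (zp_inj D.H.h.ne_one hb : B (νu a) (νu w) = b)]
  have htu : t ∈ Cx Q u := mem_Cx.mpr ⟨D.sing.1, ((mem_Cx.mp huC).2).symm⟩
  have hkt : k * t = t * k := by
    have h := hkey t htu 0 (by
      rw [show t * w * t⁻¹ * w⁻¹ = (t * w) * t⁻¹ * w⁻¹ by group, ← (mem_Cx.mp hwC).2, zp_zero]
      group)
    rw [show ((0 : ZMod 2), (0 : ZMod 2)) = 0 from rfl, vv_zero] at h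
    exact (mul_inv_eq_iff_eq_mul.mp (mul_inv_eq_one.mp h)).symm
  obtain ⟨kk, hkv⟩ : ∃ kk : ↥(Sx z t), (kk : G) = k := ⟨⟨k, mem_Sx.mpr ⟨hkz, hkt⟩⟩, rfl⟩
  have hact : ∀ a ∈ Cx Q t, B (ν a) α₀ = 0 →
      k * a * k⁻¹ * a⁻¹ = vv z u (B (ν a) β₀, B (ν a) β₀) := by
    intro a ha h0
    have hau : a ∈ Cx Q u := by
      have h := D.comm_Cx ha huC
      rw [hνu, h0, show ((0 : ZMod 2), (0 : ZMod 2)) = 0 from rfl, vv_zero] at h
      exact mem_Cx.mpr ⟨(mem_Cx.mp ha).1, mul_inv_eq_iff_eq_mul.mp (mul_inv_eq_one.mp h)⟩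
    have h1 := hkey a hau (B (ν a) β₀) (by
      rw [D.comm_Cx ha hwC, hνw, vv, zp_zero, mul_one])
    rw [← Du.vv_inv (B (ν a) β₀, B (ν a) β₀), ← h1]
    group
  have hσa : ∀ v, B v α₀ = 0 → act (ρ kk) v + v = B v β₀ • α₀ := by
    intro v h0
    obtain ⟨a, ha, rfl⟩ := D.K.surj v
    obtain ⟨-, hν⟩ := D.comm_key kk ha
    rw [hkv, hact a ha h0] at hν
    rw [← hν]
    rcases two_eq (B (ν a) β₀) with e | e <;> rw [e]
    · rw [show ((0 : ZMod 2), (0 : ZMod 2)) = 0 from rfl, vv_zero, zero_smul]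
      exact D.H.nu_one D.sing D.K
    · rw [vv, zp_one, zp_one, one_smul, D.K.add z (D.H.z_mem D.sing) u huC,
        (D.K.ker z (D.H.z_mem D.sing)).mpr (Or.inr (Or.inl rfl)), zero_add, hνu]
  have hinv : ∀ v, act (ρ kk) (act (ρ kk) v) = v := fun v => by
    rw [← act_mul, ← map_mul, show kk * kk = 1 from Subtype.ext (by rw [coe_mul, hkv]; exact hkk),
      map_one, act_one]
  have hσ : ρ kk = σ4 := by
    obtain ⟨δ, hδ⟩ : ∃ δ, δ = act (ρ kk) v₁ + v₁ := ⟨_, rfl⟩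
    have e : δ = β₀ := by
      refine delta_eq δ (fun v hv => ?_) ?_
      · rw [hδ, B_add_left, show B (act (ρ kk) v₁) v = B v₁ (act (ρ kk) v) by
          conv_lhs => rw [← hinv v, B_act], ← B_add_right, hσa v hv]
        rcases two_eq (B v β₀) with e | e <;> rw [e]
        · rw [zero_smul, B_zero_right]
        · rw [one_smul, v_spec.1]
      · rw [hδ, show v₁ + (act (ρ kk) v₁ + v₁) = act (ρ kk) v₁ + (v₁ + v₁) by abel, add_self,
          add_zero, f_act]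
    refine act_inj fun v => add_right_cancel (b := v) ?_
    rw [σ4_act]
    rcases two_eq (B v α₀) with h0 | h0
    · rw [h0, hσa v h0, zero_smul, add_zero]
    · have h1 := hσa (v + v₁) (by rw [B_add_left, h0, v_spec.1]; rfl)
      rw [B_add_left, v_spec.2.1, add_zero, act_add] at h1
      rw [h0, one_smul]
      calc act (ρ kk) v + v = (act (ρ kk) v + act (ρ kk) v₁ + (v + v₁)) + δ := by
            rw [hδ, show act (ρ kk) v + act (ρ kk) v₁ + (v + v₁) + (act (ρ kk) v₁ + v₁)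
              = (act (ρ kk) v + v) + ((act (ρ kk) v₁ + act (ρ kk) v₁) + (v₁ + v₁)) by abel,
              add_self, add_self, add_zero, add_zero]
        _ = _ := by rw [h1, e]
  have hfix : ∀ a ∈ Cx Q t, InP (ν a) → k * a * k⁻¹ = a := by
    intro a ha hp
    have h := hact a ha hp.1
    rw [hp.2, show ((0 : ZMod 2), (0 : ZMod 2)) = 0 from rfl, vv_zero] at h
    exact mul_inv_eq_one.mp h
  refine ⟨kk, by rw [hkv]; exact hkk, hσ, ?_, by rw [hkv]; exact hfix⟩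
  rw [hkv]
  exact D.ev_perp (by rw [← hkv]; exact kk.2) hkk fun a ha hp =>
    ⟨0, by rw [hfix a ha hp, zp_zero, one_mul]⟩

/-- The case of a vanishing functional on the side of `Q'`. -/
theorem easy_swap (x : ↥(Sx z t)) (hxx : (x : G) * x = 1) (hσ : ρ x = σ4)
    (hZ : ∀ b ∈ Cx Q' z, InP (ev ν d b) →
      ∃ j, (x : G) * b * (x : G)⁻¹ = vv z t (0, j) * b) :
    ∃ g, g * (x : G) * g⁻¹ ∈ D.P.R := by
  obtain ⟨ν', d', ρ', D'⟩ := D.exists_swap
  have hxS : (x : G) ∈ Sx t z := mem_Sx.mpr ⟨(mem_Sx.mp x.2).2, (mem_Sx.mp x.2).1⟩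
  have hC' : ∀ b ∈ Cx Q' z, (x : G) * b * (x : G)⁻¹ * b⁻¹ ∈ Cx Q' z ∧
      ev ν d ((x : G) * b * (x : G)⁻¹ * b⁻¹) = act σ4 (ev ν d b) + ev ν d b := by
    intro b hb
    have hc := D.conj_C' x.2 hb
    refine ⟨mul_mem hc (inv_mem hb), ?_⟩
    rw [D.ev_mul (D.triv_of_R (D.C'_le_R hc)) (D.C'_le_Sx (inv_mem hb)), D.ev_inv hb,
      D.ev_conj hb, hσ, add_comm]
  have hR : D'.P.R = D.P.R :=
    sup_comm (Q ⊓ centralizer ({t} : Set G)) (Q' ⊓ centralizer ({z} : Set G))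
  rw [← hR]
  refine D'.easy ⟨(x : G), hxS⟩ hxx ?_ ?_
  · intro b hb
    obtain ⟨hm, he⟩ := hC' b hb
    show (x : G) * b * (x : G)⁻¹ * b⁻¹ * ((x : G) * b * (x : G)⁻¹ * b⁻¹) = 1
    rw [D.sq_C' _ hm, he, σ4_sing]
    exact vv_zero z t
  · intro b hb hu
    obtain ⟨hm, he⟩ := hC' b hb
    have hV : (x : G) * b * (x : G)⁻¹ * b⁻¹ ∈ D.P.V := by
      have hu' : InU t z ((x : G) * b * (x : G)⁻¹ * b⁻¹) := hu
      rcases hu' with e | e | e | e <;> rw [e]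
      exacts [one_mem _, D.P.z'_mem_V, D.P.z_mem_V, mul_mem D.P.z'_mem_V D.P.z_mem_V]
    rw [(D.ev_eq_zero hm).mpr hV] at he
    obtain ⟨j, hj⟩ := hZ b hb ((σ4_fix _).mp (eq_of_add he.symm))
    refine ⟨j, ?_⟩
    show (x : G) * b * (x : G)⁻¹ = zp t j * b
    rw [hj, vv, zp_zero, one_mul]

/-- An involution inducing the fixed-point-free permutation is conjugate into `R`. -/
theorem split (x : ↥(Sx z t)) (hxx : (x : G) * x = 1) (hσ : ρ x = σ4) :
    ∃ g, g * (x : G) * g⁻¹ ∈ D.P.R := by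
  obtain ⟨k, hkk, hk, hη, hkfix⟩ := D.exists_k
  have hki : (k : G)⁻¹ = k := inv_eq_of_mul_eq_one_right hkk
  obtain ⟨r, hr⟩ : ∃ r, r = k⁻¹ * x := ⟨_, rfl⟩
  have hrR : (r : G) ∈ D.P.R := D.rho_R.mp (by rw [hr, map_mul, map_inv, hk, hσ, inv_mul_cancel])
  have hxkr : (x : G) = (k : G) * r := by rw [hr]; simp only [coe_mul, coe_inv]; group
  have hkR : ∀ p, (k : G) * vv z t p = vv z t p * (k : G) := fun p => D.vv_comm_Sx p k.2
  obtain ⟨a, ha, b, hb, hab⟩ := D.decomp hrR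
  obtain ⟨α, hα⟩ : ∃ α, α = ν a := ⟨_, rfl⟩
  obtain ⟨β, hβ⟩ : ∃ β, β = ev ν d b := ⟨_, rfl⟩
  obtain ⟨p, hp⟩ : ∃ p, p = (f α + B α β, f β + B α β) := ⟨_, rfl⟩
  have hrr : (r : G) * r = vv z t p := by rw [hab, D.sq_R ha hb, hp, hα, hβ]
  have hkr : (k : G) * r * (k : G)⁻¹ = (r : G) * vv z t p := by
    have h1 : ((k : G) * r) * ((k : G) * r) = 1 := by rw [← hxkr]; exact hxx
    have h2 : (k : G) * r * (k : G) = (r : G)⁻¹ := by
      calc (k : G) * r * (k : G) = ((k : G) * r) * ((k : G) * r) * (r : G)⁻¹ := by group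
        _ = (r : G)⁻¹ := by rw [h1, one_mul]
    rw [hki, h2, ← hrr]
    calc (r : G)⁻¹ = (r : G)⁻¹ * (vv z t p * vv z t p) := by
          rw [← D.vv_add, Prod.ext (CharTwo.add_self_eq_zero _) (CharTwo.add_self_eq_zero _)
            |> (fun h : p + p = 0 => h), vv_zero, mul_one]
      _ = (r : G) * ((r : G) * r) := by rw [← hrr]; group
  have hvm : vv z t p ∈ Cx Q t := D.V_le_Cx (D.vv_mem p)
  have hpb : b * vv z t p = vv z t p * b := D.vv_comm p (D.C'_le_R hb)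
  obtain ⟨hαP, hβP⟩ : InP α ∧ InP β := by
    have h := hkr
    rw [hab] at h
    have e : ((k : G) * a * (k : G)⁻¹) * ((k : G) * b * (k : G)⁻¹) = (a * vv z t p) * b := by
      calc _ = (k : G) * (a * b) * (k : G)⁻¹ := by group
        _ = a * (b * vv z t p) := by rw [h]; group
        _ = _ := by rw [hpb, mul_assoc]
    obtain ⟨e1, e2⟩ := D.decomp_unique (D.H.conj_Cx k.2 ha) (D.conj_C' k.2 hb)
      (mul_mem ha hvm) hb e
    rw [D.K.add a ha _ hvm, (D.K.ker _ hvm).mpr (D.inU_iff.mpr (D.vv_mem p)), add_zero,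
      ← D.hρ k a ha, hk, ← hα] at e1
    rw [D.ev_conj hb, hk, ← hβ] at e2
    exact ⟨(σ4_fix _).mp e1, (σ4_fix _).mp e2⟩
  -- the `t`-part of the action of `k` on the perpendicular
  have hkb : ∀ b' ∈ Cx Q' z, InP (ev ν d b') →
      ∃ i, (k : G) * b' * (k : G)⁻¹ = vv z t (i, 0) * b' := by
    intro b' hb' hbP
    have hc := D.conj_C' k.2 hb'
    obtain ⟨⟨q₁, q₂⟩, hq⟩ := D.vv_surj ((D.ev_eq_zero (mul_mem hc (inv_mem hb'))).mp (by
      rw [D.ev_mul (D.triv_of_R (D.C'_le_R hc)) (D.C'_le_Sx (inv_mem hb')), D.ev_inv hb',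
        D.ev_conj hb', hk, (σ4_fix _).mpr hbP, add_self]))
    rw [mul_inv_eq_iff_eq_mul] at hq
    obtain ⟨a₁, ha₁, hν₁, hd₁⟩ := D.d_conj_C' hb'
    obtain ⟨ak, hakd⟩ : ∃ ak, ak = ((k : G) * d * (k : G)⁻¹ * d⁻¹)⁻¹ := ⟨_, rfl⟩
    have hak : ak ∈ Cx Q t := by rw [hakd]; exact inv_mem (D.ev_mem k.2)
    have hνak : ν ak = ev ν d (k : G) := by
      rw [hakd]; exact D.H.nu_inv D.sing D.K (D.ev_mem k.2)
    have hB0 : B (ev ν d (k : G)) (ev ν d b') = 0 :=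
      (show ∀ l v : M6, InL l → InP v → B l v = 0 by decide +kernel) _ _ hη hbP
    have c1 : Commute ak a₁ := by
      have h := D.comm_Cx hak ha₁
      rw [hνak, hν₁, hB0, show ((0 : ZMod 2), (0 : ZMod 2)) = 0 from rfl, vv_zero] at h
      exact mul_inv_eq_iff_eq_mul.mp (mul_inv_eq_one.mp h)
    have c2 : Commute ak b' := by
      have h := D.comm_ab ak hak b' hb'
      rw [hνak, hB0, show ((0 : ZMod 2), (0 : ZMod 2)) = 0 from rfl, vv_zero] at h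
      exact mul_inv_eq_iff_eq_mul.mp (mul_inv_eq_one.mp h)
    have c3 : Commute ak (vv z t (q₁, q₂)) := D.vv_comm _ (D.Cx_le_R hak)
    have hka : (k : G) * a₁ * (k : G)⁻¹ = a₁ := hkfix a₁ ha₁ (by rw [hν₁]; exact hbP)
    have hv : Commute a₁ (vv z t (q₁, q₂)) := D.vv_comm _ (D.Cx_le_R ha₁)
    have hdk : d * (k : G) * d⁻¹ = ak * (k : G) := by rw [hakd]; group
    have e : vv z t (q₁ + q₂, q₂) * (a₁ * b') = vv z t (q₁, q₂) * (a₁ * b') := by
      calc vv z t (q₁ + q₂, q₂) * (a₁ * b')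
          = (d * vv z t (q₁, q₂) * d⁻¹) * (d * b' * d⁻¹) := by rw [D.d_vv, hd₁]
        _ = d * (vv z t (q₁, q₂) * b') * d⁻¹ := by group
        _ = (d * (k : G) * d⁻¹) * (d * b' * d⁻¹) * (d * (k : G) * d⁻¹)⁻¹ := by rw [← hq]; group
        _ = ak * (((k : G) * a₁ * (k : G)⁻¹) * ((k : G) * b' * (k : G)⁻¹)) * ak⁻¹ := by
            rw [hdk, hd₁]; group
        _ = ak * (vv z t (q₁, q₂) * (a₁ * b')) * ak⁻¹ := by
            rw [hka, hq, ← mul_assoc a₁, hv.eq]; group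
        _ = vv z t (q₁, q₂) * (a₁ * b') := by
            rw [(c3.mul_right (c1.mul_right c2)).eq, mul_inv_cancel_right]
    have h2 := congrArg Prod.fst (D.vv_inj (mul_right_cancel e))
    have h0 : q₂ = 0 := add_eq_left.mp h2
    exact ⟨q₁, by rw [hq, h0]⟩
  have hxa : ∀ a' ∈ Cx Q t, InP (ν a') → (x : G) * a' * (x : G)⁻¹
      = vv z t (B α (ν a') + B (ν a') β, B (ν a') β) * a' := by
    intro a' ha' hP
    have h := D.comm_R ha hb ha' (one_mem _)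
    rw [mul_one, ← hab, D.ev_one, ← hα, ← hβ] at h
    calc (x : G) * a' * (x : G)⁻¹
        = (k : G) * ((r : G) * a' * (r : G)⁻¹ * a'⁻¹) * a' * (k : G)⁻¹ := by rw [hxkr]; group
      _ = vv z t (cm (α, β) (ν a', 0)) * ((k : G) * a' * (k : G)⁻¹) := by rw [h, hkR]; group
      _ = _ := by
          rw [hkfix a' ha' hP]
          congr 2
          simp [cm, B_zero_left, B_zero_right]
  have hxb : ∀ b' ∈ Cx Q' z, InP (ev ν d b') → ∃ i, (k : G) * b' * (k : G)⁻¹ = vv z t (i, 0) * b' ∧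
      (x : G) * b' * (x : G)⁻¹
        = vv z t (B α (ev ν d b') + i, B α (ev ν d b') + B β (ev ν d b')) * b' := by
    intro b' hb' hP
    obtain ⟨i, hi⟩ := hkb b' hb' hP
    refine ⟨i, hi, ?_⟩
    have h := D.comm_R ha hb (one_mem _) hb'
    rw [one_mul, ← hab, D.H.nu_one D.sing D.K, ← hα, ← hβ] at h
    calc (x : G) * b' * (x : G)⁻¹
        = (k : G) * ((r : G) * b' * (r : G)⁻¹ * b'⁻¹) * b' * (k : G)⁻¹ := by rw [hxkr]; group
      _ = vv z t (cm (α, β) (0, ev ν d b')) * ((k : G) * b' * (k : G)⁻¹) := by rw [h, hkR]; group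
      _ = _ := by
          rw [hi, ← mul_assoc, ← D.vv_add]
          congr 2
          simp [cm, B_zero_left, B_zero_right]
  have hSF : D.SF (x : G) := D.SF_of_f x fun v => by rw [hσ, σ4_sing]
  by_cases hβL : InL β
  · refine D.easy x hxx hSF fun a' ha' hu => ?_
    obtain ⟨hm, hν⟩ := D.comm_key x ha'
    rw [(D.K.ker _ hm).mpr hu, hσ] at hν
    have hP : InP (ν a') := (σ4_fix _).mp (eq_of_add hν.symm)
    refine ⟨B α (ν a') + B (ν a') β, ?_⟩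
    rw [hxa a' ha' hP, (show ∀ l v : M6, InL l → InP v → B v l = 0 by decide +kernel) _ _ hβL hP,
      vv, zp_zero, mul_one]
  have hbb : (k : G) * b * (k : G)⁻¹ = vv z t p * b := by
    have e1 : (k : G) * a * (k : G)⁻¹ = a := hkfix a ha (by rw [← hα]; exact hαP)
    have h := hkr
    rw [hab] at h
    apply mul_left_cancel (a := a)
    calc a * ((k : G) * b * (k : G)⁻¹) = ((k : G) * a * (k : G)⁻¹) * ((k : G) * b * (k : G)⁻¹) := by
          rw [e1]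
      _ = (k : G) * (a * b) * (k : G)⁻¹ := by group
      _ = a * (b * vv z t p) := by rw [h]; group
      _ = a * (vv z t p * b) := by rw [hpb]
  have hfβ : f β + B α β = 0 := by
    obtain ⟨i, hi⟩ := hkb b hb (by rw [← hβ]; exact hβP)
    rw [hbb] at hi
    have := congrArg Prod.snd (D.vv_inj (mul_right_cancel hi))
    rwa [hp] at this
  have hfα : f α = 0 := by
    rcases two_eq (f α) with e | e
    · exact e
    · exact absurd (plane_fix α β hαP hβP e hfβ) hβL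
  -- the functional on the side of `Q'`
  let Z : G → ZMod 2 → Prop := fun b' i => ∃ j, (x : G) * b' * (x : G)⁻¹ = vv z t (i, j) * b'
  have Zmul : ∀ b₁ b₂ i₁ i₂, b₁ ∈ Cx Q' z → Z b₁ i₁ → Z b₂ i₂ → Z (b₁ * b₂) (i₁ + i₂) := by
    rintro b₁ b₂ i₁ i₂ hb₁ ⟨j₁, h1⟩ ⟨j₂, h2⟩
    refine ⟨j₁ + j₂, ?_⟩
    calc (x : G) * (b₁ * b₂) * (x : G)⁻¹
        = ((x : G) * b₁ * (x : G)⁻¹) * ((x : G) * b₂ * (x : G)⁻¹) := by group
      _ = vv z t (i₁, j₁) * (b₁ * vv z t (i₂, j₂)) * b₂ := by rw [h1, h2]; group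
      _ = vv z t ((i₁, j₁) + (i₂, j₂)) * (b₁ * b₂) := by
          rw [D.vv_comm _ (D.C'_le_R hb₁), D.vv_add]; group
  have Zb : Z b 0 := by
    obtain ⟨i, hi, hxi⟩ := hxb b hb (by rw [← hβ]; exact hβP)
    rw [hbb] at hi
    have hp1 : p.1 = i := congrArg Prod.fst (D.vv_inj (mul_right_cancel hi))
    have h0 : B α (ev ν d b) + i = 0 := by
      rw [← hp1, hp, ← hβ]
      show B α β + (f α + B α β) = 0
      rw [hfα, zero_add, CharTwo.add_self_eq_zero]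
    rw [h0] at hxi
    exact ⟨_, hxi⟩
  have ZL : ∀ b' ∈ Cx Q' z, InL (ev ν d b') → Z b' 0 := by
    intro b' hb' hl
    obtain ⟨hl0, hlP, v, hv⟩ := L_spec _ hl
    obtain ⟨i, hi, hxi⟩ := hxb b' hb' hlP
    obtain ⟨b₁, hb₁, rfl⟩ := D.ev_surj v
    have hc := D.conj_C' k.2 hb₁
    obtain ⟨m, hm⟩ : ∃ m, m = (k : G) * b₁ * (k : G)⁻¹ * b₁⁻¹ := ⟨_, rfl⟩
    have hmC : m ∈ Cx Q' z := hm ▸ mul_mem hc (inv_mem hb₁)
    have hem : ev ν d m = ev ν d b' := by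
      rw [hm, D.ev_mul (D.triv_of_R (D.C'_le_R hc)) (D.C'_le_Sx (inv_mem hb₁)), D.ev_inv hb₁,
        D.ev_conj hb₁, hk, add_comm]
      exact hv
    have hmm : m * m = 1 := by
      rw [D.sq_C' m hmC, hem, hl0]
      exact vv_zero z t
    have hkm : (k : G) * m * (k : G)⁻¹ = m := by
      calc (k : G) * m * (k : G)⁻¹
          = ((k : G) * k) * b₁ * ((k : G) * k)⁻¹ * ((k : G) * b₁ * (k : G)⁻¹)⁻¹ := by
            rw [hm]; group
        _ = m⁻¹ := by rw [hkk, hm]; group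
        _ = m := inv_eq_of_mul_eq_one_right hmm
    have hV : b' * m⁻¹ ∈ D.P.V := (D.ev_eq_zero (mul_mem hb' (inv_mem hmC))).mp (by
      rw [D.ev_mul (D.triv_of_R (D.C'_le_R hb')) (D.C'_le_Sx (inv_mem hmC)), D.ev_inv hmC, hem,
        add_self])
    have hk' : (k : G) * b' * (k : G)⁻¹ = b' := by
      obtain ⟨q, hq⟩ := D.vv_surj hV
      rw [mul_inv_eq_iff_eq_mul] at hq
      calc (k : G) * b' * (k : G)⁻¹ = ((k : G) * vv z t q) * m * (k : G)⁻¹ := by rw [hq]; group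
        _ = vv z t q * ((k : G) * m * (k : G)⁻¹) := by rw [hkR]; group
        _ = b' := by rw [hkm, hq]
    have hi0 : i = 0 := by
      rw [hk'] at hi
      have h := mul_right_cancel (b := b') (show 1 * b' = vv z t (i, 0) * b' by rw [one_mul]; exact hi)
      exact (congrArg Prod.fst (D.vv_inj ((vv_zero z t).trans h))).symm
    rw [hi0, add_zero,
      (show ∀ v l : M6, InP v → InL l → B v l = 0 by decide +kernel) _ _ hαP hl] at hxi
    exact ⟨_, hxi⟩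
  have Z0 : ∀ b' ∈ Cx Q' z, InP (ev ν d b') → B (ev ν d b') β = 0 → Z b' 0 := by
    intro b' hb' hP h0
    rcases span_beta β (ev ν d b') hβP hβL hP h0 with h | h
    · exact ZL b' hb' h
    · have := Zmul b (b⁻¹ * b') 0 0 hb Zb (ZL _ (mul_mem (inv_mem hb) hb') (by
        rw [D.ev_mul (D.triv_of_R (D.C'_le_R (inv_mem hb))) (D.C'_le_Sx hb'), D.ev_inv hb, ← hβ]
        exact h))
      rwa [mul_inv_cancel_left, add_zero] at this
  obtain ⟨b₀, hb₀, hb₀P, hb₀β⟩ : ∃ b₀ ∈ Cx Q' z, InP (ev ν d b₀) ∧ B (ev ν d b₀) β = 1 := by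
    by_contra hno
    push Not at hno
    refine hβL (perp_perp_L fun w hw => ?_)
    obtain ⟨b', hb', rfl⟩ := D.ev_surj w
    rw [B_comm]
    exact (two_eq _).resolve_right (hno b' hb' hw)
  obtain ⟨i₀, j₀, hb₀x⟩ : ∃ i₀ j₀, (x : G) * b₀ * (x : G)⁻¹ = vv z t (i₀, j₀) * b₀ := by
    obtain ⟨i, -, h⟩ := hxb b₀ hb₀ hb₀P
    exact ⟨_, _, h⟩
  have Zall : ∀ b' ∈ Cx Q' z, InP (ev ν d b') → Z b' (B (ev ν d b') β * i₀) := by
    intro b' hb' hP
    rcases two_eq (B (ev ν d b') β) with e | e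
    · rw [e, zero_mul]; exact Z0 b' hb' hP e
    · have hev : ev ν d (b' * b₀⁻¹) = ev ν d b₀ + ev ν d b' := by
        rw [D.ev_mul (D.triv_of_R (D.C'_le_R hb')) (D.C'_le_Sx (inv_mem hb₀)), D.ev_inv hb₀]
      have h := Zmul (b' * b₀⁻¹) b₀ 0 i₀ (mul_mem hb' (inv_mem hb₀))
        (Z0 _ (mul_mem hb' (inv_mem hb₀))
          (by rw [hev]; exact ⟨by rw [B_add_left, hb₀P.1, hP.1, add_zero],
            by rw [B_add_left, hb₀P.2, hP.2, add_zero]⟩)
          (by rw [hev, B_add_left, hb₀β, e]; rfl)) ⟨j₀, hb₀x⟩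
      rw [inv_mul_cancel_right, zero_add] at h
      rw [e, one_mul]
      exact h
  rcases two_eq i₀ with hi₀ | hi₀
  · refine D.easy_swap x hxx hσ fun b' hb' hP => ?_
    obtain ⟨j, hj⟩ := Zall b' hb' hP
    rw [hi₀, mul_zero] at hj
    exact ⟨j, hj⟩
  -- move by `d`
  have hdS : d * (x : G) * d⁻¹ = ((x : G) * d * (x : G)⁻¹ * d⁻¹)⁻¹ * x := by group
  have hdC : ((x : G) * d * (x : G)⁻¹ * d⁻¹)⁻¹ ∈ Cx Q t := inv_mem (D.ev_mem x.2)
  obtain ⟨x₂, hx₂⟩ : ∃ x₂ : ↥(Sx z t), (x₂ : G) = d * (x : G) * d⁻¹ :=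
    ⟨⟨d * (x : G) * d⁻¹, by rw [hdS]; exact mul_mem (D.H.Cx_le_Sx hdC) x.2⟩, rfl⟩
  have hσ₂ : ρ x₂ = σ4 := by
    rw [show x₂ = ⟨_, D.H.Cx_le_Sx hdC⟩ * x from Subtype.ext (by rw [coe_mul, hx₂, hdS]), map_mul,
      D.rho_R.mpr (D.Cx_le_R hdC), one_mul, hσ]
  obtain ⟨g, hg⟩ := D.easy_swap x₂ (by
      rw [hx₂]
      calc d * (x : G) * d⁻¹ * (d * (x : G) * d⁻¹) = d * ((x : G) * x) * d⁻¹ := by group
        _ = 1 := by rw [hxx]; group) hσ₂ fun b' hb' hP => by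
    obtain ⟨a₁, ha₁, hν₁, hd₁⟩ := D.d_conj_C' hb'
    obtain ⟨k₁, -, hk₁⟩ := D.d_conj ha₁
    obtain ⟨a₂, ha₂def⟩ : ∃ a₂, a₂ = (d⁻¹ * a₁ * d)⁻¹ := ⟨_, rfl⟩
    have hzk : zp z k₁ ∈ Cx Q t := by
      rcases two_eq k₁ with rfl | rfl
      · rw [zp_zero]; exact one_mem _
      · rw [zp_one]; exact D.H.z_mem D.sing
    have ha₂ : a₂ ∈ Cx Q t := by rw [ha₂def, hk₁]; exact inv_mem (mul_mem hzk ha₁)
    have hν₂ : ν a₂ = ev ν d b' := by
      rw [ha₂def, hk₁, D.H.nu_inv D.sing D.K (mul_mem hzk ha₁), D.K.add _ hzk _ ha₁,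
        (D.K.ker _ hzk).mpr (by
          rcases two_eq k₁ with rfl | rfl
          · rw [zp_zero]; exact Or.inl rfl
          · rw [zp_one]; exact Or.inr (Or.inl rfl)), zero_add, hν₁]
    have hdb : d⁻¹ * b' * d = a₂ * b' := by
      calc d⁻¹ * b' * d = (d⁻¹ * a₁ * d)⁻¹ * (d⁻¹ * (a₁ * b') * d) := by group
        _ = a₂ * b' := by rw [← ha₂def, ← hd₁]; group
    obtain ⟨j, hj⟩ := Zall b' hb' hP
    obtain ⟨i, -, hxi⟩ := hxb b' hb' hP
    have hj' : j = B α (ev ν d b') + B β (ev ν d b') := by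
      rw [hxi] at hj
      exact (congrArg Prod.snd (D.vv_inj (mul_right_cancel hj))).symm
    have hA := hxa a₂ ha₂ (by rw [hν₂]; exact hP)
    rw [hν₂] at hA
    obtain ⟨q, hq⟩ : ∃ q, q = (B α (ev ν d b') + B (ev ν d b') β, B (ev ν d b') β)
        + ((B (ev ν d b') β * i₀, j) : ZMod 2 × ZMod 2) := ⟨_, rfl⟩
    have hq0 : q.1 + q.2 = 0 := by
      rw [hq, hj', hi₀, mul_one, B_comm β]
      show _ + _ + _ + (_ + (_ + _)) = (0 : ZMod 2)
      generalize B α (ev ν d b') = u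
      generalize B (ev ν d b') β = w
      revert u w
      decide
    refine ⟨q.2, ?_⟩
    calc (x₂ : G) * b' * (x₂ : G)⁻¹ = d * ((x : G) * (d⁻¹ * b' * d) * (x : G)⁻¹) * d⁻¹ := by
          rw [hx₂]; group
      _ = d * (((x : G) * a₂ * (x : G)⁻¹) * ((x : G) * b' * (x : G)⁻¹)) * d⁻¹ := by rw [hdb]; group
      _ = d * (vv z t q * (a₂ * b')) * d⁻¹ := by
          rw [hA, hj, hq, D.vv_add, mul_assoc (vv z t _) a₂, ← mul_assoc a₂,
            D.vv_comm _ (D.Cx_le_R ha₂)]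
          group
      _ = (d * vv z t q * d⁻¹) * (d * (d⁻¹ * b' * d) * d⁻¹) := by rw [hdb]; group
      _ = vv z t (0, q.2) * b' := by rw [D.d_vv, hq0]; group
  refine ⟨g * d, ?_⟩
  rw [show g * d * (x : G) * (g * d)⁻¹ = g * (d * (x : G) * d⁻¹) * g⁻¹ by group, ← hx₂]
  exact hg

/-- Every involution centralising `z` is conjugate into `R`. -/
theorem into_R {x : G} (hxz : x * z = z * x) (hxx : x * x = 1) :
    ∃ g, g * x * g⁻¹ ∈ D.P.R := by
  obtain ⟨g, x', hx', hSF⟩ := D.to_SF hxz hxx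
  have hxx' : (x' : G) * x' = 1 := by
    rw [hx']
    calc g * x * g⁻¹ * (g * x * g⁻¹) = g * (x * x) * g⁻¹ := by group
      _ = 1 := by rw [hxx]; group
  rcases D.normalize x' hxx' hSF with h | ⟨c, hc⟩
  · exact ⟨g, hx' ▸ h⟩
  obtain ⟨g', hg'⟩ := D.split (c * x' * c⁻¹) (by
    simp only [coe_mul, coe_inv]
    calc (c : G) * x' * (c : G)⁻¹ * ((c : G) * x' * (c : G)⁻¹)
        = (c : G) * ((x' : G) * x') * (c : G)⁻¹ := by group
      _ = 1 := by rw [hxx']; group) hc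
  refine ⟨g' * (c : G) * g, ?_⟩
  rw [show g' * (c : G) * g * x * (g' * (c : G) * g)⁻¹
    = g' * ((c : G) * (g * x * g⁻¹) * (c : G)⁻¹) * g'⁻¹ by group, ← hx']
  simpa using hg'

end Ctx

end Cfsg.Agent.ConwayTypeRadical62
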