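import Mathlib

/-!
An automorphism of prime order `r` not dividing the order of a finite group: fixed points in
invariant sets, the subgroup generated by the displacements, and the notion of a good involution
(one whose centraliser is fixed pointwise).
-/

set_option autoImplicit false

namespace Cfsg.Agent.CoprimeFix81

universe u

variable {G : Type u} [Group G]

/-- The fixed points of an automorphism. -/
def fixS (a : MulAut G) : Subgroup G := MonoidHom.eqLocus a.toMonoidHom (MonoidHom.id G)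

theorem mem_fixS {a : MulAut G} {x : G} : x ∈ fixS a ↔ a x = x := Iff.rfl

/-- `a` is an automorphism with `a ^ r = 1` for a prime `r` not dividing the group order. -/
structure Hyp (a : MulAut G) (r : ℕ) : Prop where
  prime : r.Prime
  pow : a ^ r = 1
  ndvd : ¬ r ∣ Nat.card G

/-- An involution whose centraliser consists of fixed points. -/
def Good (a : MulAut G) (u : G) : Prop :=
  orderOf u = 2 ∧ Subgroup.centralizer ({u} : Set G) ≤ fixS a

/-- The subgroup generated by the displacements `g⁻¹ * a g` of the elements of `C`. -/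
def comOn (a : MulAut G) (C : Subgroup G) : Subgroup G :=
  Subgroup.closure ((fun g => g⁻¹ * a g) '' (C : Set G))

theorem disp_mem {a : MulAut G} {C : Subgroup G} {g : G} (hg : g ∈ C) :
    g⁻¹ * a g ∈ comOn a C :=
  Subgroup.subset_closure ⟨g, hg, rfl⟩

theorem comOn_le {a : MulAut G} {C N : Subgroup G} (h : ∀ g ∈ C, g⁻¹ * a g ∈ N) :
    comOn a C ≤ N := by
  refine (Subgroup.closure_le _).2 ?_
  rintro _ ⟨g, hg, rfl⟩
  exact h g hg

theorem comOn_le_self {a : MulAut G} {C : Subgroup G} (hC : ∀ x ∈ C, a x ∈ C) :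
    comOn a C ≤ C :=
  comOn_le fun g hg => mul_mem (inv_mem hg) (hC g hg)

theorem comOn_inv {a : MulAut G} {C : Subgroup G} (hC : ∀ x ∈ C, a x ∈ C) :
    ∀ x ∈ comOn a C, a x ∈ comOn a C := by
  have h : comOn a C ≤ (comOn a C).comap a.toMonoidHom := by
    refine comOn_le fun g hg => ?_
    show a (g⁻¹ * a g) ∈ comOn a C
    rw [map_mul, map_inv]
    exact disp_mem (hC g hg)
  exact fun x hx => h hx

theorem conj_mem_comOn {a : MulAut G} {C : Subgroup G} {h : G} (hh : h ∈ C) :
    ∀ x ∈ comOn a C, h⁻¹ * x * h ∈ comOn a C := by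
  have key : comOn a C ≤ (comOn a C).comap (MulAut.conj h⁻¹).toMonoidHom := by
    refine comOn_le fun g hg => ?_
    show (MulAut.conj h⁻¹) (g⁻¹ * a g) ∈ comOn a C
    have e : (MulAut.conj h⁻¹) (g⁻¹ * a g) = ((g * h)⁻¹ * a (g * h)) * (h⁻¹ * a h)⁻¹ := by
      simp only [MulAut.conj_apply, inv_inv, map_mul]
      group
    rw [e]
    exact mul_mem (disp_mem (mul_mem hg hh)) (inv_mem (disp_mem hh))
  intro x hx
  simpa [MulAut.conj_apply] using key hx

theorem conj_mem_comOn' {a : MulAut G} {C : Subgroup G} {h : G} (hh : h ∈ C) {x : G}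
    (hx : x ∈ comOn a C) : h * x * h⁻¹ ∈ comOn a C := by
  simpa using conj_mem_comOn (inv_mem hh) x hx

variable [Finite G] {a : MulAut G} {r : ℕ}

/-- A fixed point in an invariant set whose size divides the group order. -/
theorem exists_fixed (h : Hyp a r) (S : Set G) (hS : ∀ x ∈ S, a x ∈ S)
    (hd : Nat.card S ∣ Nat.card G) : ∃ x ∈ S, a x = x := by
  classical
  have := Fintype.ofFinite G
  have := Fact.mk h.prime
  have hpow : ∀ (n : ℕ) (x : G), x ∈ S → (a ^ n) x ∈ S := by
    intro n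
    induction n with
    | zero => exact fun x hx => hx
    | succ n ih =>
      intro x hx
      rw [pow_succ']
      exact hS _ (ih x hx)
  have hiff : ∀ x, MulAut.toPerm G a x ∈ S ↔ x ∈ S := by
    intro x
    refine ⟨fun hx => ?_, fun hx => hS x hx⟩
    have h1 := hpow (r - 1) _ hx
    have h2 : (a ^ (r - 1)) (a x) = x := by
      rw [← MulAut.mul_apply, ← pow_succ, Nat.sub_add_cancel h.prime.pos, h.pow]
      rfl
    exact h2 ▸ h1
  let σ : Equiv.Perm S := (MulAut.toPerm G a).subtypePerm hiff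
  have hσ : σ ^ r ^ 1 = 1 := by
    rw [pow_one, Equiv.Perm.subtypePerm_pow]
    ext x
    simp only [Equiv.Perm.subtypePerm_apply, Equiv.Perm.one_apply]
    rw [← map_pow, h.pow, map_one]
    rfl
  have hcard : ¬ r ∣ Fintype.card S := by
    rw [← Nat.card_eq_fintype_card]
    exact fun hr => h.ndvd (hr.trans hd)
  obtain ⟨x, hx⟩ := Equiv.Perm.exists_fixed_point_of_prime hcard hσ
  exact ⟨x, x.2, congrArg Subtype.val hx⟩

/-- An invariant coset contains a fixed point. -/
theorem coset_fixed (h : Hyp a r) {C : Subgroup G} (hC : ∀ x ∈ C, a x ∈ C) {g : G}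
    (hg : g⁻¹ * a g ∈ C) : ∃ m, a m = m ∧ g⁻¹ * m ∈ C := by
  let e : ({x : G | g⁻¹ * x ∈ C} : Set G) ≃ C :=
    { toFun := fun x => ⟨g⁻¹ * x.1, x.2⟩
      invFun := fun c => ⟨g * c.1, by simp⟩
      left_inv := fun x => by simp
      right_inv := fun c => by simp }
  obtain ⟨m, hm, hfix⟩ := exists_fixed h {x : G | g⁻¹ * x ∈ C} (fun x hx => by
      have e1 : g⁻¹ * a x = (g⁻¹ * a g) * a (g⁻¹ * x) := by
        rw [map_mul, map_inv]; group
      show g⁻¹ * a x ∈ C
      rw [e1]
      exact mul_mem hg (hC _ hx))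
    (by rw [Nat.card_congr e]; exact C.card_subgroup_dvd_card)
  exact ⟨m, hfix, hm⟩

/-- Every element of an invariant subgroup is a displacement element times a fixed point. -/
theorem split (h : Hyp a r) {C : Subgroup G} (hC : ∀ x ∈ C, a x ∈ C) {g : G} (hg : g ∈ C) :
    ∃ n ∈ comOn a C, ∃ m ∈ C, a m = m ∧ g = n * m := by
  obtain ⟨m, hm, hgm⟩ := coset_fixed h (comOn_inv hC) (disp_mem hg)
  have hmC : m ∈ C := by
    have := mul_mem hg (comOn_le_self hC hgm)
    simpa using this
  refine ⟨m * (g⁻¹ * m)⁻¹ * m⁻¹, conj_mem_comOn' hmC (inv_mem hgm), m, hmC, hm, ?_⟩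
  group

/-- If all displacements lie in an invariant subgroup, they lie in its displacement subgroup. -/
theorem disp_descend (h : Hyp a r) {C : Subgroup G} (hC : ∀ x ∈ C, a x ∈ C) {g : G}
    (hg : g⁻¹ * a g ∈ C) : g⁻¹ * a g ∈ comOn a C := by
  obtain ⟨m, hm, hgm⟩ := coset_fixed h hC hg
  have e : g⁻¹ * a g = ((g⁻¹ * m)⁻¹)⁻¹ * a ((g⁻¹ * m)⁻¹) := by
    rw [map_inv, map_mul, map_inv, hm]; group
  rw [e]
  exact disp_mem (inv_mem hgm)

/-- The restriction to an invariant subgroup. -/
noncomputable def aRes (a : MulAut G) (C : Subgroup G) (hC : ∀ x ∈ C, a x ∈ C) : MulAut C :=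
  MulEquiv.ofBijective
    ((a.toMonoidHom.comp C.subtype).codRestrict C fun x => hC x x.2)
    (Finite.injective_iff_bijective.1 fun x y hxy =>
      Subtype.ext (a.injective (congrArg Subtype.val hxy)))

theorem aRes_apply (C : Subgroup G) (hC : ∀ x ∈ C, a x ∈ C) (x : C) :
    ((aRes a C hC x : C) : G) = a x := rfl

theorem aRes_hyp (h : Hyp a r) (C : Subgroup G) (hC : ∀ x ∈ C, a x ∈ C) :
    Hyp (aRes a C hC) r := by
  refine ⟨h.prime, ?_, fun hr => h.ndvd (hr.trans C.card_subgroup_dvd_card)⟩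
  have key : ∀ (n : ℕ) (x : C), (((aRes a C hC) ^ n) x : G) = (a ^ n) x := by
    intro n
    induction n with
    | zero => exact fun x => rfl
    | succ n ih =>
      intro x
      rw [pow_succ', pow_succ', MulAut.mul_apply, MulAut.mul_apply, aRes_apply, ih]
  ext x
  rw [key, h.pow]
  rfl

theorem aRes_good {C : Subgroup G} (hC : ∀ x ∈ C, a x ∈ C) {u : G} (hu : Good a u) (huC : u ∈ C) :
    Good (aRes a C hC) (⟨u, huC⟩ : C) := by
  refine ⟨(Subgroup.orderOf_mk u huC).trans hu.1, fun x hx => mem_fixS.2 (Subtype.ext ?_)⟩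
  have h1 := congrArg Subtype.val (Subgroup.mem_centralizer_singleton_iff.1 hx)
  exact hu.2 (Subgroup.mem_centralizer_singleton_iff.2 h1)

theorem card_comOn_aRes (C : Subgroup G) (hC : ∀ x ∈ C, a x ∈ C) :
    Nat.card (comOn (aRes a C hC) ⊤) = Nat.card (comOn a C) := by
  have e : (comOn (aRes a C hC) ⊤).map C.subtype = comOn a C := by
    rw [comOn, MonoidHom.map_closure, comOn, ← Set.image_comp]
    congr 1
    ext y
    constructor
    · rintro ⟨x, -, rfl⟩
      exact ⟨x.1, x.2, rfl⟩
    · rintro ⟨g, hg, rfl⟩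
      exact ⟨⟨g, hg⟩, trivial, rfl⟩
  rw [← e, Subgroup.card_map_of_injective C.subtype_injective]

end Cfsg.Agent.CoprimeFix81
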