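import Mathlib
import Cfsg.Agent.Lib.CoprimeFix81

/-!
Two commuting fixed involutions `j`, `v`: the fibre inequality
`|v^G ∩ vθ(j)| * |v^M| ≤ |v^M ∩ vθ(j)| * |v^G|`, proved by counting orbits on the cosets of the
fixed point subgroup `M`.
-/

set_option autoImplicit false

namespace Cfsg.Agent.CoprimeIneq81

open CoprimeFix81
open scoped Classical

universe u

variable {G : Type u} [Group G]

/-- The centraliser of one element. -/
abbrev cen (v : G) : Subgroup G := Subgroup.centralizer ({v} : Set G)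

/-- `N` is an odd invariant normal subgroup of the centraliser of `v`, covering it modulo fixed
points. -/
structure Split (a : MulAut G) (v : G) (N : Subgroup G) : Prop where
  le : N ≤ cen v
  odd : Odd (Nat.card N)
  inv : ∀ x ∈ N, a x ∈ N
  conj : ∀ g ∈ cen v, ∀ x ∈ N, g * x * g⁻¹ ∈ N
  split : ∀ g ∈ cen v, ∃ n ∈ N, ∃ m, a m = m ∧ g = n * m

theorem card_split [Finite G] (U L N : Subgroup G) (hN : N ≤ U) (hL : L ≤ U)
    (hs : ∀ g ∈ U, ∃ n ∈ N, ∃ l ∈ L, g = n * l) :
    Nat.card U * Nat.card (N ⊓ L : Subgroup G) = Nat.card N * Nat.card L := by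
  choose! n hn l hl he using hs
  rw [← Nat.card_prod, ← Nat.card_prod]
  refine Nat.card_congr
    { toFun := fun p => (⟨n p.1 * p.2, mul_mem (hn _ p.1.2) p.2.2.1⟩,
        ⟨(p.2 : G)⁻¹ * l p.1, mul_mem (inv_mem p.2.2.2) (hl _ p.1.2)⟩)
      invFun := fun q => (⟨q.1 * q.2, mul_mem (hN q.1.2) (hL q.2.2)⟩,
        ⟨(n ((q.1 : G) * q.2))⁻¹ * q.1,
          ⟨N.mul_mem (N.inv_mem (hn _ (mul_mem (hN q.1.2) (hL q.2.2)))) q.1.2, by
            have hU := mul_mem (hN q.1.2) (hL q.2.2)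
            have e : (n ((q.1 : G) * q.2))⁻¹ * q.1 = l ((q.1 : G) * q.2) * (q.2 : G)⁻¹ := by
              rw [eq_mul_inv_iff_mul_eq, mul_assoc, inv_mul_eq_iff_eq_mul]
              exact he _ hU
            show (n ((q.1 : G) * q.2))⁻¹ * q.1 ∈ L
            rw [e]
            exact mul_mem (hl _ hU) (inv_mem q.2.2)⟩⟩)
      left_inv := fun p => by
        have e : n p.1 * (p.2 : G) * ((p.2 : G)⁻¹ * l p.1) = p.1 := by
          rw [mul_assoc, mul_inv_cancel_left, ← he _ p.1.2]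
        refine Prod.ext (Subtype.ext e) (Subtype.ext ?_)
        simp only [e]
        simp
      right_inv := fun q => by
        have hU := mul_mem (hN q.1.2) (hL q.2.2)
        refine Prod.ext (Subtype.ext ?_) (Subtype.ext ?_)
        · simp
        · simp only [mul_inv_rev, inv_inv]
          rw [mul_assoc, inv_mul_eq_iff_eq_mul]
          exact (he _ hU).symm }

theorem conjImage_card [Finite G] (N : Subgroup G) (v : G) :
    Nat.card ((fun y => y * v * y⁻¹) '' (N : Set G) : Set G) * Nat.card (N ⊓ cen v : Subgroup G)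
      = Nat.card N := by
  set S := (fun y => y * v * y⁻¹) '' (N : Set G) with hS
  have hsec : ∀ w : S, ∃ y ∈ N, y * v * y⁻¹ = (w : G) := fun w => w.2
  choose y hy hyw using hsec
  have hmem : ∀ n : N, (n : G) * v * (n : G)⁻¹ ∈ S := fun n => ⟨n, n.2, rfl⟩
  rw [← Nat.card_prod]
  refine Nat.card_congr
    { toFun := fun p => ⟨y p.1 * p.2, mul_mem (hy _) p.2.2.1⟩
      invFun := fun n => (⟨_, hmem n⟩, ⟨(y ⟨_, hmem n⟩)⁻¹ * n, N.mul_mem (N.inv_mem (hy _)) n.2, by
        show (y ⟨_, hmem n⟩)⁻¹ * n ∈ cen v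
        have h := hyw ⟨_, hmem n⟩
        rw [Subgroup.mem_centralizer_singleton_iff]
        calc (y ⟨_, hmem n⟩)⁻¹ * (n : G) * v
            = (y ⟨_, hmem n⟩)⁻¹ * ((n : G) * v * (n : G)⁻¹) * n := by group
          _ = (y ⟨_, hmem n⟩)⁻¹ * (y ⟨_, hmem n⟩ * v * (y ⟨_, hmem n⟩)⁻¹) * n := by rw [h]
          _ = v * ((y ⟨_, hmem n⟩)⁻¹ * n) := by group⟩)
      left_inv := fun p => by
        have hc := Subgroup.mem_centralizer_singleton_iff.1 p.2.2.2
        have e : (⟨y p.1 * (p.2 : G) * v * (y p.1 * (p.2 : G))⁻¹,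
            ⟨y p.1 * (p.2 : G), mul_mem (hy _) p.2.2.1, rfl⟩⟩ : S) = p.1 := by
          apply Subtype.ext
          calc y p.1 * (p.2 : G) * v * (y p.1 * (p.2 : G))⁻¹
              = y p.1 * ((p.2 : G) * v) * (p.2 : G)⁻¹ * (y p.1)⁻¹ := by group
            _ = y p.1 * (v * (p.2 : G)) * (p.2 : G)⁻¹ * (y p.1)⁻¹ := by rw [hc]
            _ = y p.1 * v * (y p.1)⁻¹ := by group
            _ = p.1 := hyw p.1
        refine Prod.ext e (Subtype.ext ?_)
        simp only [e]
        simp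
      right_inv := fun n => Subtype.ext (by simp) }

/-- An involution in the coset of an involution by an odd element is a conjugate by a power. -/
theorem exists_sqrt {v x : G} (hv : v * v = 1) (hw : v * x * (v * x) = 1)
    (hx : Odd (orderOf x)) : ∃ y ∈ Subgroup.zpowers x, y * v * y⁻¹ = v * x := by
  have hvx : v * x * v⁻¹ = x⁻¹ := by
    rw [inv_eq_of_mul_eq_one_right hv]
    exact eq_inv_of_mul_eq_one_left (by rw [mul_assoc]; exact hw)
  obtain ⟨k, hk⟩ := hx
  refine ⟨(x ^ (k + 1))⁻¹, inv_mem (pow_mem (Subgroup.mem_zpowers x) _), ?_⟩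
  have h1 : v * x ^ (k + 1) * v⁻¹ = (x ^ (k + 1))⁻¹ := by
    rw [← conj_pow, hvx, inv_pow]
  have h2 : x ^ (k + 1) * x ^ (k + 1) = x := by
    rw [← pow_add, show k + 1 + (k + 1) = orderOf x + 1 by omega, pow_succ, pow_orderOf_eq_one,
      one_mul]
  rw [inv_inv]
  calc (x ^ (k + 1))⁻¹ * v * x ^ (k + 1) = v * x ^ (k + 1) * v⁻¹ * v * x ^ (k + 1) := by rw [h1]
    _ = v * (x ^ (k + 1) * x ^ (k + 1)) := by group
    _ = v * x := by rw [h2]

theorem mul_self_of_order {v : G} (hv : orderOf v = 2) : v * v = 1 := by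
  rw [← pow_two, ← hv, pow_orderOf_eq_one]

theorem odd_orderOf_mem [Finite G] {N : Subgroup G} (hN : Odd (Nat.card N)) {x : G} (hx : x ∈ N) :
    Odd (orderOf x) :=
  Odd.of_dvd_nat hN (Subgroup.orderOf_dvd_natCard _ hx)

variable [Finite G] {a : MulAut G} {r : ℕ}

theorem rel_card_le {B D C : Subgroup G} (hDB : D ≤ B) :
    Nat.card (B ⊓ C : Subgroup G) * Nat.card D ≤ Nat.card B * Nat.card (D ⊓ C : Subgroup G) := by
  have e : ∀ K : Subgroup G, Nat.card (K ⊓ C : Subgroup G) * C.relIndex K = Nat.card K := by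
    intro K
    rw [inf_comm, ← Subgroup.inf_relIndex_right C K, ← Subgroup.relIndex_bot_left,
      ← Subgroup.relIndex_bot_left, Subgroup.relIndex_mul_relIndex ⊥ _ K bot_le inf_le_right]
  have hle : C.relIndex D ≤ C.relIndex B := Subgroup.relIndex_le_of_le_right hDB (by
    intro h0
    have := e B
    rw [h0, mul_zero] at this
    exact Nat.card_pos.ne' this.symm)
  calc Nat.card (B ⊓ C : Subgroup G) * Nat.card D
      = Nat.card (B ⊓ C : Subgroup G) * (Nat.card (D ⊓ C : Subgroup G) * C.relIndex D) := by rw [e D]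
    _ ≤ Nat.card (B ⊓ C : Subgroup G) * (Nat.card (D ⊓ C : Subgroup G) * C.relIndex B) :=
        Nat.mul_le_mul_left _ (Nat.mul_le_mul_left _ hle)
    _ = Nat.card (B ⊓ C : Subgroup G) * C.relIndex B * Nat.card (D ⊓ C : Subgroup G) := by ring
    _ = Nat.card B * Nat.card (D ⊓ C : Subgroup G) := by rw [e B]

/-- The centraliser of `j` and `v` is covered by `A` and fixed points. -/
theorem split_two {j v : G} {A : Subgroup G} (hj : a j = j) (hv : a v = v) (hv2 : v * v = 1)
    (hjv : Commute j v) (SA : Split a j A) :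
    ∀ g ∈ cen j ⊓ cen v, ∃ n ∈ A ⊓ cen v, ∃ l ∈ cen j ⊓ cen v ⊓ fixS a, g = n * l := by
  intro g hg
  obtain ⟨n, hn, m, hm, rfl⟩ := SA.split g hg.1
  have hgv := Subgroup.mem_centralizer_singleton_iff.1 hg.2
  have hnj := SA.le hn
  have hmj : m ∈ cen j := by
    have := mul_mem (inv_mem hnj) hg.1
    rwa [inv_mul_cancel_left] at this
  set w := m * v * m⁻¹ with hw
  have hwfix : a w = w := by rw [hw, map_mul, map_mul, map_inv, hm, hv]
  have hwA : v⁻¹ * w ∈ A := by
    have e : w = n⁻¹ * v * n := by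
      calc w = n⁻¹ * (n * m * v) * m⁻¹ := by rw [hw]; group
        _ = n⁻¹ * (v * (n * m)) * m⁻¹ := by rw [hgv]
        _ = _ := by group
    rw [e, ← mul_assoc, ← mul_assoc]
    refine mul_mem ?_ hn
    have := SA.conj v⁻¹ (inv_mem (Subgroup.mem_centralizer_singleton_iff.2 hjv.eq.symm)) n⁻¹
      (inv_mem hn)
    rwa [inv_inv] at this
  obtain ⟨y, hy, hyv⟩ := exists_sqrt (x := v⁻¹ * w) hv2 (by
      rw [mul_inv_cancel_left, hw]
      calc m * v * m⁻¹ * (m * v * m⁻¹) = m * (v * v) * m⁻¹ := by group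
        _ = 1 := by rw [hv2]; group) (odd_orderOf_mem SA.odd hwA)
  rw [mul_inv_cancel_left] at hyv
  have hyA : y ∈ A := Subgroup.zpowers_le.2 hwA hy
  have hyfix : a y = y := mem_fixS.1
    ((Subgroup.zpowers_le.2 (mem_fixS.2 (by rw [map_mul, map_inv, hv, hwfix]))) hy)
  have hl : y⁻¹ * m ∈ cen v := by
    rw [Subgroup.mem_centralizer_singleton_iff]
    calc y⁻¹ * m * v = y⁻¹ * w * m := by rw [hw]; group
      _ = y⁻¹ * (y * v * y⁻¹) * m := by rw [hyv]
      _ = _ := by group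
  refine ⟨n * y, ⟨mul_mem hn hyA, ?_⟩, y⁻¹ * m,
    ⟨⟨(cen j).mul_mem ((cen j).inv_mem (SA.le hyA)) hmj, hl⟩, mem_fixS.2 (by rw [map_mul, map_inv, hm, hyfix])⟩,
    by group⟩
  show n * y ∈ cen v
  have e : n * y = n * m * (y⁻¹ * m)⁻¹ := by group
  rw [e]
  exact mul_mem hg.2 (inv_mem hl)

/-- The symmetry of the two local indices. -/
theorem cross_eq {j v : G} {A B : Subgroup G} (hj : a j = j) (hv : a v = v)
    (hj2 : j * j = 1) (hv2 : v * v = 1)
    (hjv : Commute j v) (SA : Split a j A) (SB : Split a v B) :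
    Nat.card (A ⊓ cen v : Subgroup G) * Nat.card (B ⊓ fixS a ⊓ cen j : Subgroup G)
      = Nat.card (B ⊓ cen j : Subgroup G) * Nat.card (A ⊓ fixS a ⊓ cen v : Subgroup G) := by
  have hA := card_split (cen j ⊓ cen v) (cen j ⊓ cen v ⊓ fixS a) (A ⊓ cen v)
    (le_inf (inf_le_left.trans SA.le) inf_le_right) inf_le_left (split_two hj hv hv2 hjv SA)
  have hB := card_split (cen j ⊓ cen v) (cen j ⊓ cen v ⊓ fixS a) (B ⊓ cen j)
    (le_inf inf_le_right (inf_le_left.trans SB.le)) inf_le_left (fun g hg => by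
      obtain ⟨n, hn, l, hl, e⟩ := split_two hv hj hj2 hjv.symm SB g ⟨hg.2, hg.1⟩
      exact ⟨n, hn, l, ⟨⟨hl.1.2, hl.1.1⟩, hl.2⟩, e⟩)
  have eA : (A ⊓ cen v ⊓ (cen j ⊓ cen v ⊓ fixS a) : Subgroup G) = A ⊓ fixS a ⊓ cen v := by
    refine le_antisymm (fun x hx => ⟨⟨hx.1.1, hx.2.2⟩, hx.1.2⟩) fun x hx => ?_
    exact ⟨⟨hx.1.1, hx.2⟩, ⟨SA.le hx.1.1, hx.2⟩, hx.1.2⟩
  have eB : (B ⊓ cen j ⊓ (cen j ⊓ cen v ⊓ fixS a) : Subgroup G) = B ⊓ fixS a ⊓ cen j := by
    refine le_antisymm (fun x hx => ⟨⟨hx.1.1, hx.2.2⟩, hx.1.2⟩) fun x hx => ?_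
    exact ⟨⟨hx.1.1, hx.2⟩, ⟨hx.2, SB.le hx.1.1⟩, hx.1.2⟩
  rw [eA] at hA
  rw [eB] at hB
  have hU : 0 < Nat.card (cen j ⊓ cen v : Subgroup G) := Nat.card_pos
  refine Nat.eq_of_mul_eq_mul_left hU ?_
  calc _ = Nat.card (A ⊓ cen v : Subgroup G) *
        (Nat.card (cen j ⊓ cen v : Subgroup G) * Nat.card (B ⊓ fixS a ⊓ cen j : Subgroup G)) := by ring
    _ = Nat.card (B ⊓ cen j : Subgroup G) *
        (Nat.card (A ⊓ cen v : Subgroup G) *
          Nat.card (cen j ⊓ cen v ⊓ fixS a : Subgroup G)) := by rw [hB]; ring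
    _ = _ := by rw [← hA]; ring

omit [Finite G] in
theorem mk_stab_iff {M : Subgroup G} {x y : G} :
    y • (QuotientGroup.mk x : G ⧸ M) = QuotientGroup.mk x ↔ x⁻¹ * y * x ∈ M := by
  rw [MulAction.Quotient.smul_mk, eq_comm, QuotientGroup.eq, smul_eq_mul, mul_assoc]

/-- Bound for the stabilisers in `B` of the points of the orbit of `A`. -/
theorem stab_bound (h : Hyp a r) {j v : G} {A B : Subgroup G} (hv : a v = v)
    (hv2 : v * v = 1) (hjv : Commute j v) (SA : Split a j A) (SB : Split a v B) {x : G}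
    (hx : x ∈ A) :
    let q : G ⧸ fixS a := QuotientGroup.mk x
    Nat.card (B ⊓ fixS a ⊓ cen j : Subgroup G) *
        Nat.card (B ⊓ MulAction.stabilizer G q : Subgroup G)
      ≤ Nat.card (B ⊓ fixS a : Subgroup G) *
        Nat.card (B ⊓ MulAction.stabilizer G q ⊓ cen j : Subgroup G) := by
  intro q
  have hvj : v ∈ cen j := Subgroup.mem_centralizer_singleton_iff.2 hjv.eq.symm
  set v' := x⁻¹ * v * x with hv'
  have hv'2 : v' * v' = 1 := by
    calc v' * v' = x⁻¹ * (v * v) * x := by rw [hv']; group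
      _ = 1 := by rw [hv2]; group
  have hv'A : v⁻¹ * v' ∈ A := by
    rw [hv', ← mul_assoc, ← mul_assoc]
    refine mul_mem ?_ hx
    have := SA.conj v⁻¹ (inv_mem hvj) x⁻¹ (inv_mem hx)
    rwa [inv_inv] at this
  set CM : Subgroup G := cen v' ⊓ fixS a with hCM
  set S0 : Subgroup G := A ⊓ Subgroup.centralizer (CM : Set G) with hS0
  have hcomm : ∀ c ∈ CM, a v' * c = c * a v' := by
    intro c hc
    have h1 := congrArg a (Subgroup.mem_centralizer_singleton_iff.1 hc.1)
    rw [map_mul a v' c, map_mul a c v', mem_fixS.1 hc.2] at h1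
    exact h1.symm
  have hw : v'⁻¹ * a v' ∈ S0 := by
    refine ⟨?_, Subgroup.mem_centralizer_iff.2 fun c hc => ?_⟩
    · have e : v'⁻¹ * a v' = (v⁻¹ * v')⁻¹ * a (v⁻¹ * v') := by
        rw [map_mul a v⁻¹ v', map_inv, hv]; group
      rw [e]
      exact A.mul_mem (A.inv_mem hv'A) (SA.inv _ hv'A)
    · have h1 : Commute c v' := Subgroup.mem_centralizer_singleton_iff.1 hc.1
      exact (h1.inv_right.mul_right (hcomm c hc).symm).eq
  obtain ⟨y0, hy0, hy0v⟩ := exists_sqrt (x := v'⁻¹ * a v') hv'2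
    (by rw [mul_inv_cancel_left, ← map_mul, hv'2, map_one]) (odd_orderOf_mem SA.odd hw.1)
  rw [mul_inv_cancel_left] at hy0v
  have hy0S : y0 ∈ S0 := Subgroup.zpowers_le.2 hw hy0
  obtain ⟨v0, ⟨s, hs, rfl⟩, hfix⟩ := exists_fixed h ((fun y => y * v' * y⁻¹) '' (S0 : Set G)) (by
      rintro _ ⟨s, hs, rfl⟩
      refine ⟨a s * y0, mul_mem ⟨SA.inv s hs.1, Subgroup.mem_centralizer_iff.2 fun c hc => ?_⟩
        hy0S, ?_⟩
      · have h1 := congrArg a (Subgroup.mem_centralizer_iff.1 hs.2 c hc)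
        rw [map_mul, map_mul, mem_fixS.1 hc.2] at h1
        exact h1
      · show a s * y0 * v' * (a s * y0)⁻¹ = a (s * v' * s⁻¹)
        rw [map_mul, map_mul, map_inv, ← hy0v]
        group)
    (((dvd_mul_right _ _).trans (dvd_of_eq (conjImage_card S0 v'))).trans
      S0.card_subgroup_dvd_card)
  simp only at hfix
  set v0 := s * v' * s⁻¹ with hv0
  have hv0A : v⁻¹ * v0 ∈ A := by
    have e : v⁻¹ * v0 = (v⁻¹ * s * v⁻¹⁻¹) * (v⁻¹ * v') * s⁻¹ := by rw [hv0]; group
    rw [e]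
    exact mul_mem (mul_mem (SA.conj v⁻¹ (inv_mem hvj) s hs.1) hv'A) (inv_mem hs.1)
  obtain ⟨t, ht, htv⟩ := exists_sqrt (x := v⁻¹ * v0) hv2 (by
      rw [mul_inv_cancel_left, hv0]
      calc s * v' * s⁻¹ * (s * v' * s⁻¹) = s * (v' * v') * s⁻¹ := by group
        _ = 1 := by rw [hv'2]; group) (odd_orderOf_mem SA.odd hv0A)
  rw [mul_inv_cancel_left] at htv
  have htA : t ∈ A := Subgroup.zpowers_le.2 hv0A ht
  have htfix : a t = t := mem_fixS.1
    ((Subgroup.zpowers_le.2 (mem_fixS.2 (by rw [map_mul, map_inv, hv, hfix]))) ht)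
  set c := t⁻¹ * s * x⁻¹ with hc
  have hcv : c ∈ cen v := by
    rw [Subgroup.mem_centralizer_singleton_iff]
    calc c * v = t⁻¹ * (s * v' * s⁻¹) * (s * x⁻¹) := by rw [hc, hv']; group
      _ = t⁻¹ * (t * v * t⁻¹) * (s * x⁻¹) := by rw [← hv0, htv]
      _ = v * c := by rw [hc]; group
  set g0 := t⁻¹ * x⁻¹ with hg0
  have hg0j : g0 ∈ cen j := mul_mem (inv_mem (SA.le htA)) (inv_mem (SA.le hx))
  set D := B ⊓ MulAction.stabilizer G q with hD
  set D' := D.map (MulAut.conj g0).toMonoidHom with hD'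
  have hD'le : D' ≤ B ⊓ fixS a := by
    rintro _ ⟨d, hd, rfl⟩
    have hdq : x⁻¹ * d * x ∈ fixS a := mk_stab_iff.1 (MulAction.mem_stabilizer_iff.1 hd.2)
    have hdCM : x⁻¹ * d * x ∈ CM := by
      refine ⟨Subgroup.mem_centralizer_singleton_iff.2 ?_, hdq⟩
      have hdv := Subgroup.mem_centralizer_singleton_iff.1 (SB.le hd.1)
      calc x⁻¹ * d * x * v' = x⁻¹ * (d * v) * x := by rw [hv']; group
        _ = x⁻¹ * (v * d) * x := by rw [hdv]
        _ = _ := by rw [hv']; group
    have hsd := Subgroup.mem_centralizer_iff.1 hs.2 _ hdCM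
    have e : (MulAut.conj g0).toMonoidHom d = c * d * c⁻¹ := by
      show g0 * d * g0⁻¹ = _
      calc g0 * d * g0⁻¹ = t⁻¹ * ((x⁻¹ * d * x) * s) * s⁻¹ * t := by rw [hg0]; group
        _ = t⁻¹ * (s * (x⁻¹ * d * x)) * s⁻¹ * t := by rw [hsd]
        _ = _ := by rw [hc]; group
    refine ⟨e ▸ SB.conj c hcv d hd.1, mem_fixS.2 ?_⟩
    show a (g0 * d * g0⁻¹) = g0 * d * g0⁻¹
    have e2 : g0 * d * g0⁻¹ = t⁻¹ * (x⁻¹ * d * x) * t := by rw [hg0]; group
    rw [e2, map_mul, map_mul, map_inv, htfix, mem_fixS.1 hdq]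
  have hcap : D' ⊓ cen j = (D ⊓ cen j).map (MulAut.conj g0).toMonoidHom := by
    refine le_antisymm ?_ ?_
    · rintro _ ⟨⟨d, hd, rfl⟩, hdj⟩
      refine ⟨d, ⟨hd, ?_⟩, rfl⟩
      have := mul_mem (mul_mem (inv_mem hg0j) hdj) hg0j
      show d ∈ cen j
      convert this using 1
      show d = g0⁻¹ * (g0 * d * g0⁻¹) * g0
      group
    · rintro _ ⟨d, hd, rfl⟩
      exact ⟨⟨d, hd.1, rfl⟩, (cen j).mul_mem ((cen j).mul_mem hg0j hd.2) ((cen j).inv_mem hg0j)⟩
  have key := rel_card_le (C := cen j) hD'le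
  rw [hcap, hD', Subgroup.card_map_of_injective (MulAut.conj g0).injective,
    Subgroup.card_map_of_injective (MulAut.conj g0).injective] at key
  exact key

/-- Points of the orbit of `A` in one orbit of `B` lie in one orbit of `B ⊓ cen j`. -/
theorem sep {j v : G} {A B : Subgroup G} (hj : a j = j) (hj2 : j * j = 1)
    (hjv : Commute j v) (SA : Split a j A) (SB : Split a v B) {x x' y : G} (hx : x ∈ A)
    (hx' : x' ∈ A) (hy : y ∈ B)
    (hyx : y • (QuotientGroup.mk x : G ⧸ fixS a) = QuotientGroup.mk x') :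
    ∃ e ∈ B ⊓ cen j, e • (QuotientGroup.mk x : G ⧸ fixS a) = QuotientGroup.mk x' := by
  have hfixF : ∀ z ∈ A, j • (QuotientGroup.mk z : G ⧸ fixS a) = QuotientGroup.mk z := by
    intro z hz
    refine mk_stab_iff.2 (mem_fixS.2 ?_)
    have hzj := Subgroup.mem_centralizer_singleton_iff.1 (SA.le hz)
    have e : z⁻¹ * j * z = j := by rw [mul_assoc, ← hzj, inv_mul_cancel_left]
    rw [e, hj]
  set w := j⁻¹ * (y⁻¹ * j * y) with hw
  have hjcv : j ∈ cen v := Subgroup.mem_centralizer_singleton_iff.2 hjv.eq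
  have hwB : w ∈ B := by
    have h1 := SB.conj j⁻¹ (inv_mem hjcv) y⁻¹ (inv_mem hy)
    rw [inv_inv] at h1
    have := mul_mem h1 hy
    rw [hw]
    simpa [mul_assoc] using this
  obtain ⟨d, hd, hdj⟩ := exists_sqrt (x := w) hj2 (by
      rw [hw, mul_inv_cancel_left]
      calc y⁻¹ * j * y * (y⁻¹ * j * y) = y⁻¹ * (j * j) * y := by group
        _ = 1 := by rw [hj2]; group) (odd_orderOf_mem SB.odd hwB)
  have hdB : d ∈ B := Subgroup.zpowers_le.2 hwB hd
  have hwq : w • (QuotientGroup.mk x : G ⧸ fixS a) = QuotientGroup.mk x := by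
    have hinvj : j⁻¹ = j := inv_eq_of_mul_eq_one_right hj2
    rw [hw, mul_smul, mul_smul, mul_smul, hyx, hfixF x' hx', ← hyx, inv_smul_smul, hinvj,
      hfixF x hx]
  have hdq : d • (QuotientGroup.mk x : G ⧸ fixS a) = QuotientGroup.mk x :=
    MulAction.mem_stabilizer_iff.1
      ((Subgroup.zpowers_le.2 (MulAction.mem_stabilizer_iff.2 hwq)) hd)
  refine ⟨y * d, ⟨mul_mem hy hdB, ?_⟩, by rw [mul_smul, hdq, hyx]⟩
  show y * d ∈ cen j
  rw [Subgroup.mem_centralizer_singleton_iff]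
  have h2 : d * j * d⁻¹ = y⁻¹ * j * y := by rw [hdj, hw, mul_inv_cancel_left]
  calc y * d * j = y * (d * j * d⁻¹) * d := by group
    _ = y * (y⁻¹ * j * y) * d := by rw [h2]
    _ = j * (y * d) := by group

omit [Finite G] in
theorem orbit_mul_stab (B : Subgroup G) {X : Type*} [MulAction G X] (q : X) :
    Nat.card (MulAction.orbit B q) * Nat.card (MulAction.stabilizer B q) = Nat.card B := by
  rw [← Nat.card_prod]
  exact Nat.card_congr (MulAction.orbitProdStabilizerEquivGroup B q)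

omit [Finite G] in
theorem card_stab (B : Subgroup G) {X : Type*} [MulAction G X] (q : X) :
    Nat.card (MulAction.stabilizer B q) = Nat.card (B ⊓ MulAction.stabilizer G q : Subgroup G) := by
  have e : (MulAction.stabilizer B q).map B.subtype = B ⊓ MulAction.stabilizer G q := by
    ext y
    constructor
    · rintro ⟨z, hz, rfl⟩
      exact ⟨z.2, hz⟩
    · rintro ⟨hy, hyq⟩
      exact ⟨⟨y, hy⟩, hyq, rfl⟩
  rw [← e, Subgroup.card_map_of_injective B.subtype_injective]

/-- The orbit counting inequality. -/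
theorem count_ineq (h : Hyp a r) {j v : G} {A B : Subgroup G} (hj : a j = j) (hv : a v = v)
    (hj2 : j * j = 1) (hv2 : v * v = 1) (hjv : Commute j v) (SA : Split a j A)
    (SB : Split a v B) :
    Nat.card A * Nat.card B * Nat.card (B ⊓ fixS a ⊓ cen j : Subgroup G) * Nat.card (fixS a)
      ≤ Nat.card G * Nat.card (A ⊓ fixS a : Subgroup G) * Nat.card (B ⊓ fixS a : Subgroup G) *
        Nat.card (B ⊓ cen j : Subgroup G) := by
  have := Fintype.ofFinite (G ⧸ fixS a)
  let p : G ⧸ fixS a := QuotientGroup.mk 1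
  have hFp : ∀ q ∈ MulAction.orbit A p, ∃ x ∈ A, q = QuotientGroup.mk x := by
    rintro _ ⟨x, rfl⟩
    refine ⟨x, x.2, ?_⟩
    show (x : G) • (QuotientGroup.mk 1 : G ⧸ fixS a) = _
    rw [MulAction.Quotient.smul_mk, smul_eq_mul, mul_one]
  have hpstab : MulAction.stabilizer G p = fixS a := by
    ext y
    rw [MulAction.mem_stabilizer_iff]
    show y • (QuotientGroup.mk 1 : G ⧸ fixS a) = QuotientGroup.mk 1 ↔ _
    rw [mk_stab_iff]
    simp
  set F : Finset (G ⧸ fixS a) := Finset.univ.filter (fun q => q ∈ MulAction.orbit A p) with hF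
  have hFcard : F.card * Nat.card (A ⊓ fixS a : Subgroup G) = Nat.card A := by
    have e := orbit_mul_stab A p
    have e' : F.card = Nat.card (MulAction.orbit A p) := by
      rw [hF, Nat.card_eq_fintype_card, Fintype.card_subtype]
    rw [card_stab A p, hpstab] at e
    rw [e']
    exact e
  let orb : G ⧸ fixS a → Set (G ⧸ fixS a) := fun q => MulAction.orbit B q
  set κ := Nat.card B * Nat.card (B ⊓ fixS a ⊓ cen j : Subgroup G)
  set μ := Nat.card (B ⊓ fixS a : Subgroup G) * Nat.card (B ⊓ cen j : Subgroup G)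
  have hper : ∀ O ∈ F.image orb,
      κ * (F.filter fun q => orb q = O).card
        ≤ μ * (Finset.univ.filter fun q => orb q = O).card := by
    intro O hO
    obtain ⟨q, hq, rfl⟩ := Finset.mem_image.1 hO
    obtain ⟨x, hx, rfl⟩ := hFp q (Finset.mem_filter.1 hq).2
    set q : G ⧸ fixS a := QuotientGroup.mk x with hqdef
    have hOc : (Finset.univ.filter fun q' => orb q' = orb q).card *
        Nat.card (B ⊓ MulAction.stabilizer G q : Subgroup G) = Nat.card B := by
      have e := orbit_mul_stab B q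
      rw [← card_stab B q]
      have e' : (Finset.univ.filter fun q' => orb q' = orb q).card
          = Nat.card (MulAction.orbit B q) := by
        rw [Nat.card_eq_fintype_card, Fintype.card_subtype]
        congr 1
        ext q'
        simp [orb, MulAction.orbit_eq_iff]
      rw [e']
      exact e
    have hFc : (F.filter fun q' => orb q' = orb q).card *
        Nat.card (B ⊓ MulAction.stabilizer G q ⊓ cen j : Subgroup G)
          ≤ Nat.card (B ⊓ cen j : Subgroup G) := by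
      set K : Subgroup G := B ⊓ cen j with hK
      have e := orbit_mul_stab K q
      have e1 : (B ⊓ MulAction.stabilizer G q ⊓ cen j : Subgroup G)
          = K ⊓ MulAction.stabilizer G q := inf_right_comm _ _ _
      rw [e1, ← card_stab K q]
      calc _ ≤ Nat.card (MulAction.orbit K q) * Nat.card (MulAction.stabilizer K q) := by
            refine Nat.mul_le_mul_right _ ?_
            rw [Nat.card_eq_fintype_card, Fintype.card_subtype]
            refine Finset.card_le_card fun q' hq' => ?_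
            simp only [Finset.mem_filter, orb] at hq'
            obtain ⟨x', hx', rfl⟩ := hFp q' (Finset.mem_filter.1 hq'.1).2
            obtain ⟨⟨y, hy⟩, hyq⟩ := MulAction.orbit_eq_iff.1 hq'.2
            obtain ⟨e, he, heq⟩ := sep hj hj2 hjv SA SB hx hx' hy hyq
            exact Finset.mem_filter.2 ⟨Finset.mem_univ _, ⟨⟨e, he⟩, heq⟩⟩
        _ = _ := e
    have hD := stab_bound h hv hv2 hjv SA SB hx
    simp only at hD
    rw [← hqdef] at hD
    have hpos : 0 < Nat.card (B ⊓ MulAction.stabilizer G q ⊓ cen j : Subgroup G) := Nat.card_pos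
    refine Nat.le_of_mul_le_mul_right ?_ hpos
    calc κ * (F.filter fun q' => orb q' = orb q).card *
          Nat.card (B ⊓ MulAction.stabilizer G q ⊓ cen j : Subgroup G)
        ≤ κ * Nat.card (B ⊓ cen j : Subgroup G) := by
          rw [mul_assoc]; exact Nat.mul_le_mul_left _ hFc
      _ = (Finset.univ.filter fun q' => orb q' = orb q).card * Nat.card (B ⊓ cen j : Subgroup G) *
          (Nat.card (B ⊓ fixS a ⊓ cen j : Subgroup G) *
            Nat.card (B ⊓ MulAction.stabilizer G q : Subgroup G)) := by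
          show Nat.card B * _ * _ = _
          rw [← hOc]; ring
      _ ≤ (Finset.univ.filter fun q' => orb q' = orb q).card * Nat.card (B ⊓ cen j : Subgroup G) *
          (Nat.card (B ⊓ fixS a : Subgroup G) *
            Nat.card (B ⊓ MulAction.stabilizer G q ⊓ cen j : Subgroup G)) :=
          Nat.mul_le_mul_left _ hD
      _ = _ := by ring
  have hmain : κ * F.card ≤ μ * Nat.card (G ⧸ fixS a) := by
    rw [Finset.card_eq_sum_card_image orb F, Finset.mul_sum]
    refine (Finset.sum_le_sum hper).trans ?_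
    rw [← Finset.mul_sum, Nat.card_eq_fintype_card]
    refine Nat.mul_le_mul_left _ ?_
    rw [← Finset.card_univ, Finset.card_eq_sum_card_image orb Finset.univ]
    exact Finset.sum_le_sum_of_subset (Finset.image_subset_image (Finset.subset_univ _))
  rw [Subgroup.card_eq_card_quotient_mul_card_subgroup (fixS a), ← hFcard]
  calc F.card * Nat.card (A ⊓ fixS a : Subgroup G) * Nat.card B *
        Nat.card (B ⊓ fixS a ⊓ cen j : Subgroup G) * Nat.card (fixS a)
      = κ * F.card * (Nat.card (A ⊓ fixS a : Subgroup G) * Nat.card (fixS a)) := by ring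
    _ ≤ μ * Nat.card (G ⧸ fixS a) * (Nat.card (A ⊓ fixS a : Subgroup G) * Nat.card (fixS a)) :=
        Nat.mul_le_mul_right _ hmain
    _ = _ := by ring

/-- The fibre inequality. -/
theorem fibre_ineq (h : Hyp a r) {j v : G} {A B : Subgroup G} (hj : a j = j) (hv : a v = v)
    (hj2 : j * j = 1) (hv2 : v * v = 1) (hjv : Commute j v) (SA : Split a j A)
    (SB : Split a v B) :
    Nat.card ((fun y => y * v * y⁻¹) '' (A : Set G) : Set G) *
        Nat.card ((fun y => y * v * y⁻¹) '' (fixS a : Set G) : Set G)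
      ≤ Nat.card ((fun y => y * v * y⁻¹) '' ((A ⊓ fixS a : Subgroup G) : Set G) : Set G) *
        Nat.card ((fun y => y * v * y⁻¹) '' ((⊤ : Subgroup G) : Set G) : Set G) := by
  have c1 := conjImage_card A v
  have c2 := conjImage_card (fixS a) v
  have c3 := conjImage_card (A ⊓ fixS a) v
  have c4 := conjImage_card (⊤ : Subgroup G) v
  rw [top_inf_eq, Subgroup.card_top] at c4
  have cr := cross_eq hj hv hj2 hv2 hjv SA SB
  have sp : Nat.card (cen v) * Nat.card (B ⊓ fixS a : Subgroup G)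
      = Nat.card B * Nat.card (fixS a ⊓ cen v : Subgroup G) := by
    have e : (B ⊓ fixS a : Subgroup G) = B ⊓ (fixS a ⊓ cen v) := le_antisymm
      (fun x hx => ⟨hx.1, hx.2, SB.le hx.1⟩) (fun x hx => ⟨hx.1, hx.2.1⟩)
    rw [e]
    refine card_split (cen v) (fixS a ⊓ cen v) B SB.le inf_le_right fun g hg => ?_
    obtain ⟨n, hn, m, hm, rfl⟩ := SB.split g hg
    refine ⟨n, hn, m, ⟨hm, ?_⟩, rfl⟩
    have := mul_mem (inv_mem (SB.le hn)) hg
    rwa [inv_mul_cancel_left] at this
  have ci := count_ineq h hj hv hj2 hv2 hjv SA SB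
  have hpos1 : 0 < Nat.card (A ⊓ cen v : Subgroup G) := Nat.card_pos
  have hpos2 : 0 < Nat.card (fixS a ⊓ cen v : Subgroup G) := Nat.card_pos
  have hpos3 : 0 < Nat.card (A ⊓ fixS a ⊓ cen v : Subgroup G) := Nat.card_pos
  have hpos4 : 0 < Nat.card (cen v) := Nat.card_pos
  have hpos5 : 0 < Nat.card (B ⊓ cen j : Subgroup G) := Nat.card_pos
  have hpos6 : 0 < Nat.card (B ⊓ fixS a : Subgroup G) := Nat.card_pos
  generalize Nat.card ((fun y => y * v * y⁻¹) '' (A : Set G) : Set G) = SA' at *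
  generalize Nat.card ((fun y => y * v * y⁻¹) '' (fixS a : Set G) : Set G) = SM at *
  generalize Nat.card ((fun y => y * v * y⁻¹) '' ((A ⊓ fixS a : Subgroup G) : Set G) : Set G)
    = SA0 at *
  generalize Nat.card ((fun y => y * v * y⁻¹) '' ((⊤ : Subgroup G) : Set G) : Set G) = SG at *
  generalize Nat.card A = nA at *
  generalize Nat.card B = nB at *
  generalize Nat.card G = nG at *
  generalize Nat.card (fixS a) = nM at *
  generalize Nat.card (A ⊓ cen v : Subgroup G) = nA' at *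
  generalize Nat.card (fixS a ⊓ cen v : Subgroup G) = nMv at *
  generalize Nat.card (A ⊓ fixS a ⊓ cen v : Subgroup G) = nA0' at *
  generalize Nat.card (cen v) = nCv at *
  generalize Nat.card (A ⊓ fixS a : Subgroup G) = nA0 at *
  generalize Nat.card (B ⊓ fixS a : Subgroup G) = nB0 at *
  generalize Nat.card (B ⊓ cen j : Subgroup G) = nB' at *
  generalize Nat.card (B ⊓ fixS a ⊓ cen j : Subgroup G) = nB0' at *
  subst c1 c2 c3 c4
  refine Nat.le_of_mul_le_mul_right ?_
    (show 0 < nA' * nA0' * nCv * nMv * (nB' * nB0) from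
      Nat.mul_pos (Nat.mul_pos (Nat.mul_pos (Nat.mul_pos hpos1 hpos3) hpos4) hpos2)
        (Nat.mul_pos hpos5 hpos6))
  calc SA' * SM * (nA' * nA0' * nCv * nMv * (nB' * nB0))
      = (SA' * nA') * (SM * nMv) * (nB' * nA0') * (nCv * nB0) := by ring
    _ = (SA' * nA') * (SM * nMv) * (nA' * nB0') * (nB * nMv) := by rw [cr, sp]
    _ = ((SA' * nA') * nB * nB0' * (SM * nMv)) * (nA' * nMv) := by ring
    _ ≤ (SG * nCv * (SA0 * nA0') * nB0 * nB') * (nA' * nMv) := Nat.mul_le_mul_right _ ci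
    _ = _ := by ring

end Cfsg.Agent.CoprimeIneq81
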