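import Mathlib
import Cfsg.Agent.Lib.CoprimeFix81

/-!
Good involutions: a good involution fixes only one coset of the fixed point subgroup, and the
reduction modulo a central involution.
-/

set_option autoImplicit false

namespace Cfsg.Agent.CoprimeQuot81

open CoprimeFix81

universe u

variable {G : Type u} [Group G] [Finite G] {a : MulAut G} {r : ℕ}

omit [Finite G] in
theorem good_mem {u : G} (hu : Good a u) : a u = u :=
  hu.2 (Subgroup.mem_centralizer_singleton_iff.2 rfl)

/-- A fixed conjugate of a good involution is a conjugate by a fixed element only. -/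
theorem good_conj_fixed (h : Hyp a r) {u g : G} (hu : Good a u)
    (hfix : a (g * u * g⁻¹) = g * u * g⁻¹) : a g = g := by
  have hC : g⁻¹ * a g ∈ Subgroup.centralizer ({u} : Set G) := by
    rw [Subgroup.mem_centralizer_singleton_iff]
    rw [map_mul, map_mul, map_inv, good_mem hu] at hfix
    calc g⁻¹ * a g * u = g⁻¹ * (a g * u * (a g)⁻¹) * a g := by group
      _ = g⁻¹ * (g * u * g⁻¹) * a g := by rw [hfix]
      _ = u * (g⁻¹ * a g) := by group
  have hinv : ∀ x ∈ Subgroup.centralizer ({u} : Set G),
      a x ∈ Subgroup.centralizer ({u} : Set G) := fun x hx => by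
    have := mem_fixS.1 (hu.2 hx)
    rwa [this]
  obtain ⟨m, hm, hgm⟩ := coset_fixed h hinv hC
  have h2 := mem_fixS.1 (hu.2 hgm)
  rw [map_mul, map_inv, hm] at h2
  exact inv_injective (mul_right_cancel h2)

omit [Finite G] in
/-- Conjugates of good involutions by fixed elements are good. -/
theorem good_conj {u m : G} (hu : Good a u) (hm : a m = m) : Good a (m * u * m⁻¹) := by
  refine ⟨?_, fun x hx => mem_fixS.2 ?_⟩
  · exact ((MulAut.conj m).orderOf_eq u).trans hu.1
  rw [Subgroup.mem_centralizer_singleton_iff] at hx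
  have h1 : m⁻¹ * x * m ∈ Subgroup.centralizer ({u} : Set G) := by
    rw [Subgroup.mem_centralizer_singleton_iff]
    calc m⁻¹ * x * m * u = m⁻¹ * (x * (m * u * m⁻¹)) * m := by group
      _ = m⁻¹ * ((m * u * m⁻¹) * x) * m := by rw [hx]
      _ = u * (m⁻¹ * x * m) := by group
  have h2 := mem_fixS.1 (hu.2 h1)
  rw [map_mul, map_mul, map_inv, hm] at h2
  exact mul_left_cancel (mul_right_cancel h2)

/-- The induction statement for groups smaller than `n`. -/
def Below (n : ℕ) : Prop :=
  ∀ (H : Type u) [Group H] [Finite H] (b : MulAut H) (r : ℕ) (t : H), Nat.card H < n →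
    Hyp b r → Good b t → Odd (Nat.card (comOn b (⊤ : Subgroup H)))

/-- A subgroup with a displacement subgroup of odd order, from the induction hypothesis. -/
theorem odd_comOn_of_below (h : Hyp a r) (ih : Below.{u} (Nat.card G)) {C : Subgroup G}
    (hC : ∀ x ∈ C, a x ∈ C) (hne : C ≠ ⊤) {t : G} (ht : Good a t) (htC : t ∈ C) :
    Odd (Nat.card (comOn a C)) := by
  rw [← card_comOn_aRes C hC]
  refine ih C (aRes a C hC) r ⟨t, htC⟩ ?_ (aRes_hyp h C hC) (aRes_good hC ht htC)
  exact lt_of_le_of_ne (Subgroup.card_le_card_group C) fun e => hne (Subgroup.card_eq_iff_eq_top C |>.1 e)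

/-- Reduction modulo a central involution. -/
theorem odd_of_central (h : Hyp a r) (ih : Below.{u} (Nat.card G)) {τ v : G} (hτ : Good a τ)
    (hv : orderOf v = 2) (hvc : v ∈ Subgroup.center G) (hτv : τ ≠ v) :
    Odd (Nat.card (comOn a (⊤ : Subgroup G))) := by
  classical
  have hav : a v = v := mem_fixS.1 (hτ.2 (Subgroup.mem_centralizer_singleton_iff.2
    (Subgroup.mem_center_iff.1 hvc τ).symm))
  set K := Subgroup.zpowers v with hKdef
  have : K.Normal := by
    refine ⟨fun n hn g => ?_⟩
    obtain ⟨k, rfl⟩ := Subgroup.mem_zpowers_iff.1 hn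
    have h1 : g * v ^ k = v ^ k * g :=
      Subgroup.mem_center_iff.1 (Subgroup.zpow_mem _ hvc k) g
    rw [h1, mul_inv_cancel_right]
    exact hn
  have hKcard : Nat.card K = 2 := (Nat.card_zpowers v).trans hv
  have hmap : K.map a.toMonoidHom = K := by
    rw [hKdef, MonoidHom.map_zpowers]
    exact congrArg Subgroup.zpowers hav
  let b : MulAut (G ⧸ K) := QuotientGroup.congr K K a hmap
  have hbmk : ∀ x : G, b (QuotientGroup.mk x) = QuotientGroup.mk (a x) := fun x =>
    QuotientGroup.congr_mk K K a hmap x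
  have hcardlt : Nat.card (G ⧸ K) < Nat.card G := by
    have e := Subgroup.card_eq_card_quotient_mul_card_subgroup K
    rw [hKcard] at e
    have := Nat.card_pos (α := G ⧸ K)
    omega
  have hb : Hyp b r := by
    refine ⟨h.prime, ?_, fun hr => h.ndvd (hr.trans (Subgroup.card_quotient_dvd_card K))⟩
    have key : ∀ (n : ℕ) (x : G), (b ^ n) (QuotientGroup.mk x) = QuotientGroup.mk ((a ^ n) x) := by
      intro n
      induction n with
      | zero => exact fun x => rfl
      | succ n ihn =>
        intro x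
        rw [pow_succ', pow_succ', MulAut.mul_apply, MulAut.mul_apply, ihn, hbmk]
    ext q
    obtain ⟨x, rfl⟩ := QuotientGroup.mk_surjective q
    rw [key, h.pow]
    rfl
  have hmemK : ∀ x ∈ K, x = 1 ∨ x = v := by
    intro x hx
    have hx2 : x ^ 2 = 1 := by
      have h2 : orderOf (⟨x, hx⟩ : K) ∣ 2 := hKcard ▸ orderOf_dvd_natCard _
      rw [Subgroup.orderOf_mk] at h2
      exact orderOf_dvd_iff_pow_eq_one.1 h2
    obtain ⟨k, rfl⟩ := Subgroup.mem_zpowers_iff.1 hx
    rcases Int.even_or_odd k with ⟨j, rfl⟩ | ⟨j, rfl⟩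
    · left
      have : v ^ 2 = 1 := hv ▸ pow_orderOf_eq_one v
      rw [← two_mul, zpow_mul]
      norm_cast
      simp [this]
    · right
      have : v ^ 2 = 1 := hv ▸ pow_orderOf_eq_one v
      rw [zpow_add, zpow_mul]
      norm_cast
      simp [this]
  have hτK : τ ∉ K := fun hx => by
    rcases hmemK τ hx with e | e
    · simp [e] at *
      have := hτ.1
      simp at this
    · exact hτv e
  have hgood : Good b (QuotientGroup.mk τ) := by
    refine ⟨?_, ?_⟩
    · refine orderOf_eq_prime (p := 2) ?_ fun e => hτK ((QuotientGroup.eq_one_iff τ).1 e)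
      rw [← QuotientGroup.mk_pow, ← hτ.1, pow_orderOf_eq_one]
      rfl
    · intro q hq
      obtain ⟨x, rfl⟩ := QuotientGroup.mk_surjective q
      refine mem_fixS.2 ?_
      rw [hbmk]
      have hx : a x = x := by
        refine good_conj_fixed h hτ ?_
        have h1 := Subgroup.mem_centralizer_singleton_iff.1 hq
        rw [← QuotientGroup.mk_mul, ← QuotientGroup.mk_mul, QuotientGroup.eq] at h1
        have h2 : x * τ * x⁻¹ * τ⁻¹ ∈ K := by
          have h3 := Subgroup.Normal.conj_mem ‹K.Normal› _ (inv_mem h1) (τ * x)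
          convert h3 using 1
          group
        rcases hmemK _ h2 with e | e
        · rw [mul_inv_eq_one] at e
          rw [e, good_mem hτ]
        · rw [mul_inv_eq_iff_eq_mul] at e
          rw [e, map_mul, hav, good_mem hτ]
      rw [hx]
  have hodd : Odd (Nat.card (comOn b (⊤ : Subgroup (G ⧸ K)))) :=
    ih (G ⧸ K) b r _ hcardlt hb hgood
  set D := comOn a (⊤ : Subgroup G) with hD
  have himage : D.map (QuotientGroup.mk' K) = comOn b (⊤ : Subgroup (G ⧸ K)) := by
    rw [hD, comOn, MonoidHom.map_closure, comOn, ← Set.image_comp]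
    congr 1
    ext y
    constructor
    · rintro ⟨g, -, rfl⟩
      refine ⟨QuotientGroup.mk g, trivial, ?_⟩
      simp [hbmk]
    · rintro ⟨q, -, rfl⟩
      obtain ⟨g, rfl⟩ := QuotientGroup.mk_surjective q
      exact ⟨g, trivial, by simp [hbmk]⟩
  have hDinv := comOn_inv (a := a) (C := (⊤ : Subgroup G)) (fun x _ => Subgroup.mem_top _)
  let f : D →* G ⧸ K := (QuotientGroup.mk' K).comp D.subtype
  have hrange : f.range = D.map (QuotientGroup.mk' K) := by
    rw [MonoidHom.range_comp, Subgroup.range_subtype]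
  have hker : f.ker = K.subgroupOf D := by
    ext x
    simp [f, Subgroup.mem_subgroupOf, QuotientGroup.eq_one_iff]
  have hsplit : Nat.card D = Nat.card (K.subgroupOf D) * Nat.card (D.map (QuotientGroup.mk' K)) := by
    rw [← hrange, ← hker, ← Subgroup.index_ker, Subgroup.card_mul_index]
  rw [himage] at hsplit
  by_cases hvD : v ∈ D
  swap
  · have : K.subgroupOf D = ⊥ := by
      refine (Subgroup.eq_bot_iff_forall _).2 fun x hx => Subtype.ext ?_
      rcases hmemK _ (Subgroup.mem_subgroupOf.1 hx) with e | e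
      · exact e
      · exact absurd (e ▸ x.2) hvD
    rw [this, Subgroup.card_bot, one_mul] at hsplit
    rwa [hsplit]
  exfalso
  have hKD : K ≤ D := Subgroup.zpowers_le.2 hvD
  have hc2 : Nat.card (K.subgroupOf D) = 2 :=
    (Nat.card_congr (Subgroup.subgroupOfEquivOfLe hKD).toEquiv).trans hKcard
  rw [hc2] at hsplit
  have hindex : (K.subgroupOf D).index = Nat.card (comOn b (⊤ : Subgroup (G ⧸ K))) := by
    have e := Subgroup.card_mul_index (K.subgroupOf D)
    rw [hc2, hsplit] at e
    exact Nat.eq_of_mul_eq_mul_left two_pos e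
  obtain ⟨Q, hQ⟩ := Subgroup.exists_right_complement'_of_coprime (N := K.subgroupOf D)
    (by rw [hc2, hindex]; exact hodd.coprime_two_left)
  have hQcard : Nat.card Q = Nat.card (comOn b (⊤ : Subgroup (G ⧸ K))) := by
    have e := hQ.card_mul_card
    rw [hc2, hsplit] at e
    exact Nat.eq_of_mul_eq_mul_left two_pos e
  have hQi : Q.index = 2 := by
    have e := Subgroup.card_mul_index Q
    rw [hQcard, hsplit, mul_comm 2] at e
    exact Nat.eq_of_mul_eq_mul_left Nat.card_pos e
  have hQodd : ∀ x : D, x ∈ Q ↔ Odd (orderOf x) := by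
    intro x
    constructor
    · intro hx
      refine Odd.of_dvd_nat (hQcard ▸ hodd) ?_
      rw [← Subgroup.orderOf_mk x hx]
      exact orderOf_dvd_natCard _
    · rintro ⟨k, hk⟩
      have e : x = (x * x) ^ (k + 1) := by
        rw [← pow_two, ← pow_mul, show 2 * (k + 1) = orderOf x + 1 by omega, pow_succ,
          pow_orderOf_eq_one, one_mul]
      rw [e]
      exact pow_mem (Subgroup.mul_self_mem_of_index_two hQi x) _
  have hle : comOn a D ≤ Q.map D.subtype := by
    refine comOn_le fun d hd => ?_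
    refine ⟨(⟨d, hd⟩ : D)⁻¹ * ⟨a d, hDinv d hd⟩, ?_, rfl⟩
    rw [SetLike.mem_coe, Subgroup.mul_mem_iff_of_index_two hQi, inv_mem_iff, hQodd, hQodd]
    have e : orderOf (⟨a d, hDinv d hd⟩ : D) = orderOf (⟨d, hd⟩ : D) := by
      rw [Subgroup.orderOf_mk, Subgroup.orderOf_mk, MulEquiv.orderOf_eq]
    rw [e]
  have hDle : D ≤ Q.map D.subtype :=
    comOn_le fun g _ => hle (disp_descend h hDinv (disp_mem (Subgroup.mem_top g)))
  have hvQ := hDle hvD
  obtain ⟨w, hw, hwv⟩ := hvQ
  have h3 := (hQodd w).1 hw
  rw [← Subgroup.orderOf_coe, show ((w : D) : G) = v from hwv, hv] at h3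
  exact absurd h3 (by decide)

end Cfsg.Agent.CoprimeQuot81
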