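import Mathlib
import Cfsg.Agent.Lib.CoprimeFix81
import Cfsg.Agent.Lib.CoprimeQuot81
import Cfsg.Agent.Lib.CoprimeIneq81
import Cfsg.Agent.Lib.CoprimeGen
import Cfsg.Agent.Lib.ZStarTheorem

/-!
If an automorphism `a` of prime order coprime to `|G|` fixes the centraliser of an involution
pointwise, then the subgroup generated by all `g⁻¹ * a g` has odd order.
-/

set_option autoImplicit false

namespace Cfsg.Agent.CoprimeCentMain81

open CoprimeFix81 CoprimeQuot81 CoprimeIneq81
open scoped Classical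

universe u

variable {G : Type u} [Group G] [Finite G]

/-- The central involution of the dihedral group generated by two involutions. -/
noncomputable def phi (x w : G) : G := (x * w) ^ (orderOf (x * w) / 2)

omit [Finite G] in
theorem conj_of_odd {x w : G} (hx : orderOf x = 2) (hw : orderOf w = 2)
    (ho : Odd (orderOf (x * w))) : ∃ g ∈ Subgroup.zpowers (x * w), g * x * g⁻¹ = w := by
  have hxx := mul_self_of_order hx
  have e : x * (x * w) = w := by rw [← mul_assoc, hxx, one_mul]
  obtain ⟨g, hg, hgx⟩ := exists_sqrt (x := x * w) hxx (by rw [e]; exact mul_self_of_order hw) ho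
  exact ⟨g, hg, hgx.trans e⟩

theorem phi_spec {x w : G} (hx : orderOf x = 2) (hw : orderOf w = 2)
    (he : Even (orderOf (x * w))) :
    orderOf (phi x w) = 2 ∧ Commute x (phi x w) ∧ Commute w (phi x w) := by
  obtain ⟨k, hk⟩ := he
  have hpos : 0 < orderOf (x * w) := orderOf_pos _
  have hphi : phi x w = (x * w) ^ k := by
    rw [phi, show orderOf (x * w) / 2 = k by omega]
  have h2 : phi x w * phi x w = 1 := by
    rw [hphi, ← pow_add, ← hk, pow_orderOf_eq_one]
  have h1 : phi x w ≠ 1 := by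
    rw [hphi]
    exact pow_ne_one_of_lt_orderOf (by omega) (by omega)
  have hxi : x⁻¹ = x := inv_eq_of_mul_eq_one_right (mul_self_of_order hx)
  have hwi : w⁻¹ = w := inv_eq_of_mul_eq_one_right (mul_self_of_order hw)
  have hpi : ((x * w)⁻¹) ^ k = phi x w := by
    rw [inv_pow, ← hphi]
    exact inv_eq_of_mul_eq_one_right h2
  have hx2 : x * phi x w * x⁻¹ = phi x w := by
    calc x * phi x w * x⁻¹ = (x * (x * w) * x⁻¹) ^ k := by rw [conj_pow, hphi]
      _ = ((x * w)⁻¹) ^ k := by
        congr 1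
        rw [mul_inv_rev, hwi, ← mul_assoc, mul_self_of_order hx, one_mul]
      _ = phi x w := hpi
  have hw2 : w * phi x w * w⁻¹ = phi x w := by
    calc w * phi x w * w⁻¹ = (w * (x * w) * w⁻¹) ^ k := by rw [conj_pow, hphi]
      _ = ((x * w)⁻¹) ^ k := by
        congr 1
        rw [mul_inv_rev, hwi, hxi]
        rw [mul_assoc, mul_assoc, mul_self_of_order hw, mul_one]
      _ = phi x w := hpi
  refine ⟨orderOf_eq_prime (by rw [pow_two, h2]) h1, ?_, ?_⟩
  · exact mul_inv_eq_iff_eq_mul.1 hx2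
  · exact mul_inv_eq_iff_eq_mul.1 hw2

/-- `phi` depends only on the coset of the odd normal subgroup of the centraliser. -/
theorem phi_coset {x w w' : G} (N : Subgroup G) (hN : Odd (Nat.card N))
    (hconj : ∀ g ∈ cen (phi x w), ∀ n ∈ N, g * n * g⁻¹ ∈ N) (hNj : N ≤ cen (phi x w))
    (hx : orderOf x = 2) (hw : orderOf w = 2) (he : Even (orderOf (x * w)))
    (hw' : w⁻¹ * w' ∈ N) : phi x w' = phi x w := by
  obtain ⟨hj2, hxj, hwj⟩ := phi_spec hx hw he
  set j := phi x w with hj
  set C := cen j with hC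
  have hxC : x ∈ C := Subgroup.mem_centralizer_singleton_iff.2 hxj.eq
  have hwC : w ∈ C := Subgroup.mem_centralizer_singleton_iff.2 hwj.eq
  have hjC : j ∈ C := Subgroup.mem_centralizer_singleton_iff.2 rfl
  have hw'C : w' ∈ C := by
    have := C.mul_mem hwC (hNj hw')
    rwa [mul_inv_cancel_left] at this
  set N' : Subgroup C := N.subgroupOf C with hN'
  have : N'.Normal := ⟨fun n hn g => Subgroup.mem_subgroupOf.2
    (hconj g g.2 n (Subgroup.mem_subgroupOf.1 hn))⟩
  let π := QuotientGroup.mk' N'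
  set g : C := ⟨x * w, C.mul_mem hxC hwC⟩ with hg
  set g' : C := ⟨x * w', C.mul_mem hxC hw'C⟩ with hg'
  have hπ : π g' = π g := by
    symm
    refine (QuotientGroup.eq).2 (Subgroup.mem_subgroupOf.2 ?_)
    show (x * w)⁻¹ * (x * w') ∈ N
    convert hw' using 1
    group
  have hodd : ∀ y : C, π y = 1 → Odd (orderOf y) := by
    intro y hy
    rw [← Subgroup.orderOf_coe]
    exact odd_orderOf_mem hN (Subgroup.mem_subgroupOf.1 ((QuotientGroup.eq_one_iff y).1 hy))
  set m := orderOf (π g) with hm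
  have key : ∀ y : C, π y = π g → ∃ k, Odd k ∧ orderOf y = m * k := by
    intro y hy
    obtain ⟨k, hk⟩ : m ∣ orderOf y := by
      rw [hm, ← hy]; exact orderOf_map_dvd π y
    refine ⟨k, ?_, hk⟩
    have h1 : Odd (orderOf (y ^ m)) := hodd _ (by rw [map_pow, hy, hm, pow_orderOf_eq_one])
    rwa [orderOf_pow, hk, Nat.gcd_mul_right_left, Nat.mul_div_cancel_left _ (orderOf_pos _)] at h1
  obtain ⟨k, hk, hgk⟩ := key g rfl
  obtain ⟨k', hk', hgk'⟩ := key g' hπ
  have hog : orderOf g = orderOf (x * w) := Subgroup.orderOf_mk _ _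
  have hog' : orderOf g' = orderOf (x * w') := Subgroup.orderOf_mk _ _
  have hmeven : Even m := by
    rw [← hog, hgk, Nat.even_mul] at he
    exact he.resolve_right (Nat.not_even_iff_odd.2 hk)
  obtain ⟨i, hi⟩ := hmeven
  have hpow : ∀ (y : C) (l : ℕ), Odd l → π y = π g → π (y ^ ((m * l) / 2)) = (π g) ^ i := by
    rintro y l ⟨s, rfl⟩ hy
    have e : m * (2 * s + 1) / 2 = m * s + i := by
      rw [show m * (2 * s + 1) = 2 * (m * s + i) by rw [hi]; ring]; omega
    rw [map_pow, hy, e, pow_add, pow_mul, hm, pow_orderOf_eq_one, one_pow, one_mul]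
  have e1 : π (g ^ (orderOf g / 2)) = (π g) ^ i := by rw [hgk]; exact hpow g k hk rfl
  have e2 : π (g' ^ (orderOf g' / 2)) = (π g) ^ i := by rw [hgk']; exact hpow g' k' hk' hπ
  have hj' : phi x w' = ((g' ^ (orderOf g' / 2) : C) : G) := by
    rw [phi, SubmonoidClass.coe_pow, hog']
  have hjg : j = ((g ^ (orderOf g / 2) : C) : G) := by
    rw [hj, phi, SubmonoidClass.coe_pow, hog]
  set J := g ^ (orderOf g / 2)
  set J' := g' ^ (orderOf g' / 2)
  have hd : π (J⁻¹ * J') = 1 := by rw [map_mul, map_inv, e1, e2, inv_mul_cancel]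
  have hJJ : J * J = 1 := Subtype.ext (by
    rw [Subgroup.coe_mul, Subgroup.coe_one, ← hjg]; exact mul_self_of_order hj2)
  have heven' : Even (orderOf g') := by
    rw [hgk', Nat.even_mul]; exact Or.inl ⟨i, hi⟩
  have hJ'J' : J' * J' = 1 := by
    obtain ⟨l, hl⟩ := heven'
    rw [← pow_add, show orderOf g' / 2 + orderOf g' / 2 = orderOf g' by omega, pow_orderOf_eq_one]
  have hcomm : Commute J J' := by
    refine Subtype.ext ?_
    show (J : G) * J' = J' * J
    rw [← hjg]
    exact (Subgroup.mem_centralizer_singleton_iff.1 J'.2).symm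
  have h3 : (J⁻¹ * J') ^ 2 = 1 := by
    rw [(hcomm.inv_left).mul_pow, inv_pow, pow_two, pow_two, hJJ, hJ'J', inv_one, one_mul]
  have h4 : J⁻¹ * J' = 1 := by
    rw [← orderOf_eq_one_iff]
    exact Nat.eq_one_of_dvd_coprimes (Nat.coprime_two_right.2 (hodd _ hd)) dvd_rfl
      (orderOf_dvd_of_pow_eq_one h3)
  rw [hj', hjg, inv_mul_eq_one.1 h4]

variable {a : MulAut G} {r : ℕ}

/-- A counterexample of least order. -/
structure Min (a : MulAut G) (r : ℕ) : Prop where
  hyp : Hyp a r
  below : Below.{u} (Nat.card G)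
  bad : ¬ Odd (Nat.card (comOn a (⊤ : Subgroup G)))

variable (H : Min a r)

omit [Finite G] in
theorem cen_inv {v : G} (hv : a v = v) : ∀ x ∈ cen v, a x ∈ cen v := by
  intro x hx
  rw [Subgroup.mem_centralizer_singleton_iff] at hx ⊢
  have := congrArg a hx
  rwa [map_mul, map_mul, hv] at this

include H

theorem exists_moved : ∃ g : G, a g ≠ g := by
  by_contra hcon
  push Not at hcon
  refine H.bad ?_
  have : comOn a (⊤ : Subgroup G) = ⊥ := by
    refine le_bot_iff.1 (comOn_le fun g _ => ?_)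
    rw [hcon g, inv_mul_cancel]
    exact one_mem _
  rw [this, Subgroup.card_bot]
  exact odd_one

theorem cen_ne_top {u v : G} (hu : Good a u) (hv : orderOf v = 2) : cen v ≠ ⊤ := by
  intro hc
  have hvc : v ∈ Subgroup.center G := Subgroup.mem_center_iff.2 fun g => by
    have : g ∈ cen v := hc ▸ Subgroup.mem_top g
    exact Subgroup.mem_centralizer_singleton_iff.1 this
  by_cases he : u = v
  · obtain ⟨g, hg⟩ := exists_moved H
    exact hg (hu.2 (by rw [he]; show g ∈ cen v; rw [hc]; trivial))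
  · exact H.bad (odd_of_central H.hyp H.below hu hv hvc he)

theorem mkSplit {v b : G} (hv : orderOf v = 2) (hav : a v = v) (hb : Good a b)
    (hbv : Commute b v) : Split a v (comOn a (cen v)) := by
  refine ⟨comOn_le_self (cen_inv hav), ?_, comOn_inv (cen_inv hav),
    fun g hg x hx => conj_mem_comOn' hg hx, fun g hg => ?_⟩
  · exact odd_comOn_of_below H.hyp H.below (cen_inv hav) (cen_ne_top H hb hv) hb
      (Subgroup.mem_centralizer_singleton_iff.2 hbv.eq)
  · obtain ⟨n, hn, m, -, hm, e⟩ := split H.hyp (cen_inv hav) hg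
    exact ⟨n, hn, m, hm, e⟩

theorem exists_moved_conj {v b : G} (hv : orderOf v = 2) (hav : a v = v) (hb : Good a b)
    (hbv : Commute b v) : ∃ g : G, a (g * v * g⁻¹) ≠ g * v * g⁻¹ := by
  by_contra hcon
  push Not at hcon
  refine H.bad (Odd.of_dvd_nat (mkSplit H hv hav hb hbv).odd
    (Subgroup.card_dvd_of_le (comOn_le fun g _ => disp_descend H.hyp (cen_inv hav) ?_)))
  rw [Subgroup.mem_centralizer_singleton_iff]
  have hfix := hcon g
  rw [map_mul, map_mul, map_inv, hav] at hfix
  calc g⁻¹ * a g * v = g⁻¹ * (a g * v * (a g)⁻¹) * a g := by group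
    _ = g⁻¹ * (g * v * g⁻¹) * a g := by rw [hfix]
    _ = v * (g⁻¹ * a g) := by group

omit H

theorem good_of_fixed_conj (h : Hyp a r) {u g : G} (hu : Good a u)
    (hfix : a (g * u * g⁻¹) = g * u * g⁻¹) : Good a (g * u * g⁻¹) :=
  good_conj hu (good_conj_fixed h hu hfix)

theorem fusion (h : Hyp a r) {v g : G} (hav : a v = v)
    (hfix : a (g * v * g⁻¹) = g * v * g⁻¹) : ∃ m, a m = m ∧ m * v * m⁻¹ = g * v * g⁻¹ := by
  have hmem : g⁻¹ * a g ∈ cen v := by
    rw [Subgroup.mem_centralizer_singleton_iff]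
    rw [map_mul, map_mul, map_inv, hav] at hfix
    calc g⁻¹ * a g * v = g⁻¹ * (a g * v * (a g)⁻¹) * a g := by group
      _ = g⁻¹ * (g * v * g⁻¹) * a g := by rw [hfix]
      _ = v * (g⁻¹ * a g) := by group
  obtain ⟨m, hm, hgm⟩ := coset_fixed h (cen_inv hav) hmem
  refine ⟨m, hm, ?_⟩
  have h1 := Subgroup.mem_centralizer_singleton_iff.1 hgm
  calc m * v * m⁻¹ = g * ((g⁻¹ * m) * v) * m⁻¹ := by group
    _ = g * (v * (g⁻¹ * m)) * m⁻¹ := by rw [h1]
    _ = g * v * g⁻¹ := by group

include H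

/-- The counting step. -/
theorem claimA {x v b : G} (hx : Good a x) (hv : orderOf v = 2) (hav : a v = v)
    (hvbad : ¬ Good a v) (hb : Good a b) (hbv : Commute b v) (hj : Good a (phi x v)) : False := by
  have := Fintype.ofFinite G
  set X : Finset G := ((fun y => y * v * y⁻¹) '' ((⊤ : Subgroup G) : Set G)).toFinset with hX
  set XM : Finset G := X.filter (fun w => a w = w) with hXM
  have hmemX : ∀ {w}, w ∈ X ↔ ∃ y, y * v * y⁻¹ = w := by
    intro w; simp [hX]
  have hXord : ∀ w ∈ X, orderOf w = 2 := by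
    intro w hw
    obtain ⟨y, rfl⟩ := hmemX.1 hw
    exact ((MulAut.conj y).orderOf_eq v).trans hv
  have heven : ∀ w ∈ X, Even (orderOf (x * w)) := by
    intro w hw
    rw [← Nat.not_odd_iff_even]
    intro ho
    obtain ⟨g, -, hg⟩ := conj_of_odd hx.1 (hXord w hw) ho
    obtain ⟨y, rfl⟩ := hmemX.1 hw
    have e : (y⁻¹ * g) * x * (y⁻¹ * g)⁻¹ = v := by
      rw [mul_inv_rev, inv_inv]
      calc y⁻¹ * g * x * (g⁻¹ * y) = y⁻¹ * (g * x * g⁻¹) * y := by group
        _ = v := by rw [hg]; group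
    exact hvbad (e ▸ good_of_fixed_conj H.hyp hx (by rw [e, hav]))
  have hphi : ∀ w ∈ X, orderOf (phi x w) = 2 ∧ a (phi x w) = phi x w ∧ Commute x (phi x w)
      ∧ Commute w (phi x w) := by
    intro w hw
    obtain ⟨h1, h2, h3⟩ := phi_spec hx.1 (hXord w hw) (heven w hw)
    exact ⟨h1, hx.2 (Subgroup.mem_centralizer_singleton_iff.2 h2.symm.eq), h2, h3⟩
  let key : G → G × Set G := fun w => (phi x w, {z | w⁻¹ * z ∈ comOn a (cen (phi x w))})
  have hper : ∀ w ∈ X,
      (X.filter fun w' => key w' = key w).card * XM.card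
        ≤ (XM.filter fun w' => key w' = key w).card * X.card ∧
      (Good a (phi x w) → a w = w →
        (X.filter fun w' => key w' = key w).card * XM.card
          < (XM.filter fun w' => key w' = key w).card * X.card) := by
    intro w hw
    obtain ⟨hj2, haj, hxj, hwj⟩ := hphi w hw
    set j := phi x w with hjdef
    set A := comOn a (cen j) with hA
    have SA : Split a j A := mkSplit H hj2 haj hx hxj
    have hwC : w ∈ cen j := Subgroup.mem_centralizer_singleton_iff.2 hwj.eq
    have hwe : w⁻¹ * a w ∈ A := disp_mem hwC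
    have hww := mul_self_of_order (hXord w hw)
    obtain ⟨y0, hy0, hy0w⟩ := exists_sqrt (x := w⁻¹ * a w) hww
      (by rw [mul_inv_cancel_left, ← map_mul, hww, map_one]) (odd_orderOf_mem SA.odd hwe)
    rw [mul_inv_cancel_left] at hy0w
    obtain ⟨v0, ⟨s, hs, rfl⟩, hv0fix⟩ := exists_fixed H.hyp
      ((fun y => y * w * y⁻¹) '' (A : Set G)) (by
        rintro _ ⟨s, hs, rfl⟩
        refine ⟨a s * y0, A.mul_mem (SA.inv s hs) (Subgroup.zpowers_le.2 hwe hy0), ?_⟩
        show a s * y0 * w * (a s * y0)⁻¹ = a (s * w * s⁻¹)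
        rw [map_mul, map_mul, map_inv, ← hy0w]
        group)
      (((dvd_mul_right _ _).trans (dvd_of_eq (conjImage_card A w))).trans
        A.card_subgroup_dvd_card)
    simp only at hv0fix
    set v0 := s * w * s⁻¹ with hv0
    have hwv0 : w⁻¹ * v0 ∈ A := by
      have := A.mul_mem (SA.conj w⁻¹ ((cen j).inv_mem hwC) s hs) (A.inv_mem hs)
      convert this using 1
      rw [hv0]; group
    obtain ⟨y, hy⟩ := hmemX.1 hw
    have hv0conj : v0 = (s * y) * v * (s * y)⁻¹ := by rw [hv0, ← hy]; group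
    have hv0X : v0 ∈ X := hmemX.2 ⟨_, hv0conj.symm⟩
    have hv02 := mul_self_of_order (hXord v0 hv0X)
    have hphiv0 : phi x v0 = j :=
      phi_coset A SA.odd SA.conj SA.le hx.1 (hXord w hw) (heven w hw) hwv0
    have hjv0 : Commute j v0 := (hphiv0 ▸ (hphi v0 hv0X).2.2.2).symm
    obtain ⟨m, hm, hmv⟩ := fusion H.hyp hav (g := s * y) (by rw [← hv0conj, hv0fix])
    rw [← hv0conj] at hmv
    have SB : Split a v0 (comOn a (cen v0)) := by
      refine mkSplit H (hXord v0 hv0X) hv0fix (good_conj hb hm) ?_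
      rw [← hmv]
      exact hbv.map (MulAut.conj m)
    have hkey : ∀ w', key w' = key w → w⁻¹ * w' ∈ A := by
      intro w' he
      have h2 : w' ∈ (key w').2 := by
        show w'⁻¹ * w' ∈ comOn a (cen (phi x w'))
        rw [inv_mul_cancel]
        exact one_mem _
      rw [he] at h2
      exact h2
    have eG : X.filter (fun w' => key w' = key w)
        = ((fun y => y * v0 * y⁻¹) '' (A : Set G)).toFinset := by
      ext w'
      rw [Finset.mem_filter]
      constructor
      · rintro ⟨hw', he⟩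
        rw [Set.mem_toFinset]
        have h1 : v0⁻¹ * w' ∈ A := by
          have := A.mul_mem (A.inv_mem hwv0) (hkey w' he)
          convert this using 1
          group
        obtain ⟨t, ht, htv⟩ := exists_sqrt (x := v0⁻¹ * w') hv02
          (by rw [mul_inv_cancel_left]; exact mul_self_of_order (hXord w' hw'))
          (odd_orderOf_mem SA.odd h1)
        exact ⟨t, Subgroup.zpowers_le.2 h1 ht, by rw [mul_inv_cancel_left] at htv; exact htv⟩
      · intro hmem
        obtain ⟨t, ht, rfl⟩ := Set.mem_toFinset.1 hmem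
        simp only
        have hv0C : v0 ∈ cen j := Subgroup.mem_centralizer_singleton_iff.2 hjv0.eq.symm
        have h1 : w⁻¹ * (t * v0 * t⁻¹) ∈ A := by
          have := A.mul_mem hwv0
            (A.mul_mem (SA.conj v0⁻¹ ((cen j).inv_mem hv0C) t ht) (A.inv_mem ht))
          convert this using 1
          group
        refine ⟨hmemX.2 ⟨t * (s * y), by rw [hv0conj]; group⟩, ?_⟩
        have e1 : phi x (t * v0 * t⁻¹) = j :=
          phi_coset A SA.odd SA.conj SA.le hx.1 (hXord w hw) (heven w hw) h1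
        refine Prod.ext e1 ?_
        show {z | (t * v0 * t⁻¹)⁻¹ * z ∈ comOn a (cen (phi x (t * v0 * t⁻¹)))}
          = {z | w⁻¹ * z ∈ comOn a (cen (phi x w))}
        rw [e1]
        ext z
        show (t * v0 * t⁻¹)⁻¹ * z ∈ A ↔ w⁻¹ * z ∈ A
        rw [show w⁻¹ * z = (w⁻¹ * (t * v0 * t⁻¹)) * ((t * v0 * t⁻¹)⁻¹ * z) by group]
        exact (A.mul_mem_cancel_left h1).symm
    have eM : XM.filter (fun w' => key w' = key w)
        = ((fun y => y * v0 * y⁻¹) '' ((A ⊓ fixS a : Subgroup G) : Set G)).toFinset := by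
      ext w'
      rw [hXM, Finset.filter_comm, Finset.mem_filter, eG, Set.mem_toFinset, Set.mem_toFinset]
      constructor
      · rintro ⟨⟨t, ht, rfl⟩, hfix⟩
        simp only at hfix ⊢
        have hv0C : v0 ∈ cen j := Subgroup.mem_centralizer_singleton_iff.2 hjv0.eq.symm
        have h1 : v0⁻¹ * (t * v0 * t⁻¹) ∈ A ⊓ fixS a := by
          refine ⟨?_, mem_fixS.2 (by rw [map_mul, map_inv, hv0fix, hfix])⟩
          have := A.mul_mem (SA.conj v0⁻¹ ((cen j).inv_mem hv0C) t ht) (A.inv_mem ht)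
          show v0⁻¹ * (t * v0 * t⁻¹) ∈ A
          convert this using 1
          group
        obtain ⟨t', ht', htv⟩ := exists_sqrt (x := v0⁻¹ * (t * v0 * t⁻¹)) hv02
          (by
            rw [mul_inv_cancel_left]
            calc t * v0 * t⁻¹ * (t * v0 * t⁻¹) = t * (v0 * v0) * t⁻¹ := by group
              _ = 1 := by rw [hv02]; group)
          (odd_orderOf_mem SA.odd h1.1)
        exact ⟨t', Subgroup.zpowers_le.2 h1 ht', by rw [mul_inv_cancel_left] at htv; exact htv⟩
      · rintro ⟨t, ht, rfl⟩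
        refine ⟨⟨t, ht.1, rfl⟩, ?_⟩
        show a (t * v0 * t⁻¹) = t * v0 * t⁻¹
        rw [map_mul, map_mul, map_inv, mem_fixS.1 ht.2, hv0fix]
    have eX : X = ((fun y => y * v0 * y⁻¹) '' ((⊤ : Subgroup G) : Set G)).toFinset := by
      ext z
      rw [hmemX, Set.mem_toFinset]
      constructor
      · rintro ⟨g, rfl⟩
        exact ⟨g * (s * y)⁻¹, trivial, by simp only [hv0conj]; group⟩
      · rintro ⟨g, -, rfl⟩
        exact ⟨g * (s * y), by simp only [hv0conj]; group⟩
    have eXM : XM = ((fun y => y * v0 * y⁻¹) '' (fixS a : Set G)).toFinset := by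
      ext z
      rw [hXM, Finset.mem_filter, eX, Set.mem_toFinset, Set.mem_toFinset]
      constructor
      · rintro ⟨⟨g, -, rfl⟩, hfix⟩
        obtain ⟨m', hm', e⟩ := fusion H.hyp hv0fix hfix
        exact ⟨m', hm', e⟩
      · rintro ⟨g, hg, rfl⟩
        refine ⟨⟨g, trivial, rfl⟩, ?_⟩
        show a (g * v0 * g⁻¹) = g * v0 * g⁻¹
        rw [map_mul, map_mul, map_inv, mem_fixS.1 hg, hv0fix]
    refine ⟨?_, fun hgood hwfix => ?_⟩
    · rw [eG, eM, eX, eXM]
      simp only [Set.toFinset_card, ← Nat.card_eq_fintype_card]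
      exact fibre_ineq H.hyp haj hv0fix (mul_self_of_order hj2) hv02 hjv0 SA SB
    · have hAbot : A = ⊥ := by
        refine le_bot_iff.1 (comOn_le fun g hg => ?_)
        rw [mem_fixS.1 (hgood.2 hg), inv_mul_cancel]
        exact one_mem _
      have e1 : X.filter (fun w' => key w' = key w) = {w} := by
        refine Finset.eq_singleton_iff_unique_mem.2 ⟨Finset.mem_filter.2 ⟨hw, rfl⟩, fun w' hw' => ?_⟩
        have := hkey w' (Finset.mem_filter.1 hw').2
        rw [hAbot, Subgroup.mem_bot, inv_mul_eq_one] at this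
        exact this.symm
      have e2 : XM.filter (fun w' => key w' = key w) = {w} := by
        rw [hXM, Finset.filter_comm, e1, Finset.filter_singleton, if_pos hwfix]
      rw [e1, e2, Finset.card_singleton, one_mul, one_mul]
      obtain ⟨g, hg⟩ := exists_moved_conj H hv hav hb hbv
      exact Finset.card_lt_card (Finset.ssubset_iff_subset_ne.2
        ⟨Finset.filter_subset _ _, fun e => hg (Finset.mem_filter.1
          (by rw [← hXM, e]; exact hmemX.2 ⟨g, rfl⟩ : g * v * g⁻¹ ∈ X.filter (fun w => a w = w))).2⟩)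
  have s1 : X.card = ∑ K ∈ X.image key, (X.filter fun w => key w = K).card :=
    Finset.card_eq_sum_card_image key X
  have s2 : XM.card = ∑ K ∈ X.image key, (XM.filter fun w => key w = K).card :=
    Finset.card_eq_sum_card_fiberwise fun w hw =>
      Finset.mem_image_of_mem key (Finset.mem_filter.1 hw).1
  have hlt : ∑ K ∈ X.image key, (X.filter fun w => key w = K).card * XM.card
      < ∑ K ∈ X.image key, (XM.filter fun w => key w = K).card * X.card := by
    refine Finset.sum_lt_sum (fun K hK => ?_) ?_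
    · obtain ⟨w, hw, rfl⟩ := Finset.mem_image.1 hK
      exact (hper w hw).1
    · have hvX : v ∈ X := hmemX.2 ⟨1, by group⟩
      exact ⟨key v, Finset.mem_image_of_mem key hvX, (hper v hvX).2 hj hav⟩
  rw [← Finset.sum_mul, ← Finset.sum_mul, ← s1, ← s2, mul_comm] at hlt
  exact lt_irrefl _ hlt

/-- A good involution commutes with another good conjugate. -/
theorem neighbour {z : G} (hz : Good a z) : ∃ c, Good a c ∧ Commute c z ∧ c ≠ z := by
  by_contra hcon
  push Not at hcon
  have hiso : Cfsg.IsIsolatedInvolution z := by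
    refine ⟨hz.1, fun g hg => ?_⟩
    refine hcon _ (good_of_fixed_conj H.hyp hz (hz.2 ?_)) hg.symm
    exact Subgroup.mem_centralizer_singleton_iff.2 hg.symm.eq
  set O := Cfsg.pPrimeCore 2 G with hO
  have hOodd : Odd (Nat.card O) := ZStarTheorem.odd_card_pPrimeCore
  have hOn : O.Normal := HallCore.pPrimeCore_normal 2 G
  have hOinv : ∀ y ∈ O, a y ∈ O := by
    have : (O.map a.toMonoidHom).Normal := hOn.map _ a.surjective
    have hle : O.map a.toMonoidHom ≤ O := HallCore.le_pPrimeCore (by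
      rw [Subgroup.card_map_of_injective (f := a.toMonoidHom) a.injective]
      exact Nat.coprime_two_right.2 hOodd)
    exact fun y hy => hle ⟨y, hy, rfl⟩
  refine H.bad (Odd.of_dvd_nat hOodd (Subgroup.card_dvd_of_le (comOn_le fun g _ => ?_)))
  have hc := ZStarTheorem.commutator_mem hiso g
  have hzz := mul_self_of_order hz.1
  have hzi : z⁻¹ = z := inv_eq_of_mul_eq_one_right hzz
  set w := g * z * g⁻¹ with hw
  have hzw : z⁻¹ * w ∈ O := by
    rw [hzi, hw]
    have e : z * (g * z * g⁻¹) = z * g * z⁻¹ * g⁻¹ := by rw [hzi]; group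
    rw [e]
    exact hc
  obtain ⟨y, hy, hyz⟩ := exists_sqrt (x := z⁻¹ * w) hzz (by
    rw [mul_inv_cancel_left, hw]
    calc g * z * g⁻¹ * (g * z * g⁻¹) = g * (z * z) * g⁻¹ := by group
      _ = 1 := by rw [hzz]; group) (odd_orderOf_mem hOodd hzw)
  rw [mul_inv_cancel_left] at hyz
  have hyO : y ∈ O := Subgroup.zpowers_le.2 hzw hy
  have hm : y⁻¹ * g ∈ cen z := by
    rw [Subgroup.mem_centralizer_singleton_iff]
    calc y⁻¹ * g * z = y⁻¹ * w * g := by rw [hw]; group
      _ = y⁻¹ * (y * z * y⁻¹) * g := by rw [hyz]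
      _ = z * (y⁻¹ * g) := by group
  have hmfix := mem_fixS.1 (hz.2 hm)
  rw [map_mul, map_inv, inv_mul_eq_iff_eq_mul] at hmfix
  rw [hmfix]
  have e : g⁻¹ * (a y * (y⁻¹ * g)) = g⁻¹ * (a y * y⁻¹) * g := by group
  rw [e]
  simpa using hOn.conj_mem _ (O.mul_mem (hOinv y hyO) (O.inv_mem hyO)) g⁻¹

theorem mul_good {b c : G} (hb : Good a b) (hc : Good a c) (hbc : Commute b c) (hne : b ≠ c) :
    Good a (b * c) := by
  by_contra hbad
  have hbb := mul_self_of_order hb.1
  have hcc := mul_self_of_order hc.1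
  have hord : orderOf (b * c) = 2 := by
    refine orderOf_eq_prime (p := 2) (by rw [hbc.mul_pow, pow_two, pow_two, hbb, hcc, one_mul])
      fun e => hne ?_
    rw [eq_inv_of_mul_eq_one_left e]
    exact inv_eq_of_mul_eq_one_right hcc
  refine claimA H hb hord ?_ hbad hb ((Commute.refl b).mul_right hbc) ?_
  · rw [map_mul, good_mem hb, good_mem hc]
  · rw [phi, ← mul_assoc, hbb, one_mul, hc.1, pow_one]
    exact hc

theorem good_of_commute {u b c : G} (hu : orderOf u = 2) (hau : a u = u) (hb : Good a b)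
    (hc : Good a c) (hbc : Commute b c) (hne : b ≠ c) (hub : Commute b u) (huc : Commute c u) :
    Good a u := by
  have SA := mkSplit H hu hau hb hub
  set A := comOn a (cen u) with hA
  have : Fact (Nat.Prime 2) := ⟨Nat.prime_two⟩
  have hbb := mul_self_of_order hb.1
  have hcc := mul_self_of_order hc.1
  have hnorm : ∀ x : G, Commute x u → x ∈ Subgroup.normalizer (A : Set G) := by
    intro x hx
    have hxC : x ∈ cen u := Subgroup.mem_centralizer_singleton_iff.2 hx.eq
    rw [Subgroup.mem_normalizer_iff]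
    intro n
    refine ⟨fun hn => SA.conj x hxC n hn, fun hn => ?_⟩
    have := SA.conj x⁻¹ ((cen u).inv_mem hxC) _ hn
    convert this using 1
    group
  have hpow : ∀ (z : G), z * z = 1 → ∀ k : ℤ, z ^ k = 1 ∨ z ^ k = z := by
    intro z hz k
    rcases Int.even_or_odd k with ⟨l, rfl⟩ | ⟨l, rfl⟩
    · left
      rw [zpow_add, ← (Commute.refl z).mul_zpow, hz, one_zpow]
    · right
      rw [zpow_add_one, two_mul, zpow_add, ← (Commute.refl z).mul_zpow, hz, one_zpow, one_mul]
  have hP : CoprimeGen.IsPairAction 2 b c A :=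
    { comm := hbc
      pow_left := by rw [pow_two, hbb]
      pow_right := by rw [pow_two, hcc]
      right_ne := fun e => by simpa [e] using hc.1
      left_not_mem := fun hm => by
        obtain ⟨k, hk⟩ := Subgroup.mem_zpowers_iff.1 hm
        rcases hpow c hcc k with e | e <;> rw [e] at hk
        · simpa [← hk] using hb.1
        · exact hne hk.symm
      mem_left := hnorm b hub
      mem_right := hnorm c huc }
  have hAfix : A ≤ fixS a := by
    refine CoprimeGen.le_of_pair_centralizers hP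
      (fun hd => (Nat.not_even_iff_odd.2 SA.odd) (even_iff_two_dvd.2 hd)) fun e he he1 => ?_
    refine inf_le_right.trans ?_
    obtain ⟨k, l, rfl⟩ := CoprimeGen.mem_pairSubgroup_iff.1 he
    rcases hpow b hbb k with e1 | e1 <;> rcases hpow c hcc l with e2 | e2 <;>
      simp only [e1, e2, one_mul, mul_one] at he1 ⊢
    · exact absurd rfl he1
    · exact hc.2
    · exact hb.2
    · exact (mul_good H hb hc hbc hne).2
  refine ⟨hu, fun g hg => ?_⟩
  obtain ⟨n, hn, m, hm, rfl⟩ := SA.split g hg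
  exact (fixS a).mul_mem (hAfix hn) hm

omit H

theorem index_odd (h : Hyp a r) {z : G} (hz : Good a z) : Odd (fixS a).index := by
  have : Fact (Nat.Prime 2) := ⟨Nat.prime_two⟩
  have hP : IsPGroup 2 (Subgroup.zpowers z) :=
    IsPGroup.of_card (n := 1) (by rw [Nat.card_zpowers, hz.1, pow_one])
  have hfix : MulAction.fixedPoints (Subgroup.zpowers z) (G ⧸ fixS a) = {QuotientGroup.mk 1} := by
    ext q
    rw [Set.mem_singleton_iff]
    constructor
    · intro hq
      obtain ⟨g, rfl⟩ := QuotientGroup.mk_surjective q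
      have h1 : g⁻¹ * z * g ∈ fixS a := mk_stab_iff.1 (hq ⟨z, Subgroup.mem_zpowers z⟩)
      have h2 : a g⁻¹ = g⁻¹ := good_conj_fixed h hz (by rw [inv_inv]; exact mem_fixS.1 h1)
      refine QuotientGroup.eq.2 ?_
      simpa using (show g⁻¹ ∈ fixS a from mem_fixS.2 h2)
    · rintro rfl ⟨y, hy⟩
      show y • (QuotientGroup.mk 1 : G ⧸ fixS a) = QuotientGroup.mk 1
      rw [mk_stab_iff]
      simpa using (Subgroup.zpowers_le.2 (mem_fixS.2 (good_mem hz)) : Subgroup.zpowers z ≤ fixS a) hy
  have h1 := hP.card_modEq_card_fixedPoints (G ⧸ fixS a)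
  rw [hfix, Nat.card_coe_set_eq, Set.ncard_singleton, ← Subgroup.index_eq_card] at h1
  exact Nat.odd_iff.2 h1

include H

theorem all_good {τ : G} (hτ : Good a τ) : ∀ v, orderOf v = 2 → a v = v → Good a v := by
  have : Fact (Nat.Prime 2) := ⟨Nat.prime_two⟩
  obtain ⟨c, hc, hcτ, hne⟩ := neighbour H hτ
  set M := fixS a with hM
  set P := CoprimeGen.pairSubgroup τ c hcτ.symm with hP
  have hPM : P ≤ M := CoprimeGen.pairSubgroup_le (good_mem hτ) (good_mem hc)
  have hP2 : IsPGroup 2 P := by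
    have hd := CoprimeGen.card_pairSubgroup_dvd τ c hcτ.symm
    rw [hτ.1, hc.1] at hd
    obtain ⟨k, -, hk⟩ := (Nat.dvd_prime_pow Nat.prime_two (m := 2)).1 hd
    exact IsPGroup.of_card hk
  obtain ⟨Q, hQ⟩ := (hP2.of_equiv (Subgroup.subgroupOfEquivOfLe hPM).symm).exists_le_sylow
  have hTidx : ¬ 2 ∣ ((Q : Subgroup M).map M.subtype).index := by
    rw [Subgroup.index_map_subtype]
    intro hd
    rcases Nat.prime_two.dvd_mul.1 hd with hd | hd
    · exact Q.not_dvd_index hd
    · exact (Nat.not_even_iff_odd.2 (index_odd H.hyp hτ)) (even_iff_two_dvd.2 hd)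
  set T : Sylow 2 G := (Q.2.map M.subtype).toSylow hTidx with hT
  have hTM : (T : Subgroup G) ≤ M := by
    rintro _ ⟨y, -, rfl⟩
    exact y.2
  have hPT : P ≤ (T : Subgroup G) := fun y hy =>
    ⟨⟨y, hPM hy⟩, hQ (Subgroup.mem_subgroupOf.2 hy), rfl⟩
  have hτT : τ ∈ (T : Subgroup G) := hPT (CoprimeGen.left_mem_pairSubgroup _ _ _)
  have hcT : c ∈ (T : Subgroup G) := hPT (CoprimeGen.right_mem_pairSubgroup _ _ _)
  have : Nontrivial (T : Subgroup G) := by
    refine ⟨⟨⟨τ, hτT⟩, 1, fun e => ?_⟩⟩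
    simpa [show τ = 1 from congrArg Subtype.val e] using hτ.1
  have : Nontrivial (Subgroup.center (T : Subgroup G)) := T.2.center_nontrivial
  obtain ⟨k, hk⟩ := IsPGroup.iff_card.1 (T.2.to_subgroup (Subgroup.center (T : Subgroup G)))
  have hk0 : k ≠ 0 := by
    rintro rfl
    exact absurd hk (by simpa using (Finite.one_lt_card (α := Subgroup.center (T : Subgroup G))).ne')
  obtain ⟨⟨⟨z, hzT⟩, hzc⟩, hzord⟩ :=
    exists_prime_orderOf_dvd_card' 2 (hk ▸ dvd_pow_self 2 hk0 :
      2 ∣ Nat.card (Subgroup.center (T : Subgroup G)))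
  have hz2 : orderOf z = 2 := by
    rwa [Subgroup.orderOf_mk, Subgroup.orderOf_mk] at hzord
  have hcentral : ∀ y ∈ (T : Subgroup G), Commute y z := fun y hy =>
    congrArg Subtype.val (Subgroup.mem_center_iff.1 hzc ⟨y, hy⟩)
  have hz : Good a z := good_of_commute H hz2 (hTM hzT) hτ hc hcτ.symm (Ne.symm hne)
    (hcentral τ hτT) (hcentral c hcT)
  obtain ⟨c', hc', hc'z, hne'⟩ := neighbour H hz
  have hTC : (T : Subgroup G) ≤ cen z := fun y hy =>
    Subgroup.mem_centralizer_singleton_iff.2 (hcentral y hy).eq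
  have hc'C : c' ∈ cen z := Subgroup.mem_centralizer_singleton_iff.2 hc'z.eq
  have hzp : IsPGroup 2 (Subgroup.zpowers (⟨c', hc'C⟩ : cen z)) :=
    IsPGroup.of_card (n := 1) (by rw [Nat.card_zpowers, pow_one, Subgroup.orderOf_mk, hc'.1])
  obtain ⟨R, hR⟩ := hzp.exists_le_sylow
  obtain ⟨g, hg⟩ := MulAction.exists_smul_eq (cen z) R (T.subtype hTC)
  obtain ⟨g₀, hg₀⟩ := g
  set c'' := g₀ * c' * g₀⁻¹ with hc''
  have hc''T : c'' ∈ (T : Subgroup G) := by
    have h1 : (⟨g₀, hg₀⟩ : cen z) * ⟨c', hc'C⟩ * (⟨g₀, hg₀⟩ : cen z)⁻¹ ∈ T.subtype hTC := by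
      rw [← hg]
      exact Subgroup.smul_mem_pointwise_smul _ (MulAut.conj (⟨g₀, hg₀⟩ : cen z)) _
        (hR (Subgroup.mem_zpowers _))
    exact h1
  have hg0z : Commute g₀ z := Subgroup.mem_centralizer_singleton_iff.1 hg₀
  have hgood'' : Good a c'' := good_conj hc' (hz.2 hg₀)
  have hc''z : Commute c'' z := hcentral c'' hc''T
  have hne'' : c'' ≠ z := fun e => hne' (by
    calc c' = g₀⁻¹ * c'' * g₀ := by rw [hc'']; group
      _ = g₀⁻¹ * (z * g₀) := by rw [e, mul_assoc]
      _ = z := by rw [← hg0z.eq, inv_mul_cancel_left])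
  have hTgood : ∀ v ∈ (T : Subgroup G), orderOf v = 2 → Good a v := by
    intro v hvT hv
    by_contra hvbad
    have heven : Even (orderOf (c'' * v)) := by
      rw [← Nat.not_odd_iff_even]
      intro ho
      obtain ⟨g, -, hgv⟩ := conj_of_odd hgood''.1 hv ho
      exact hvbad (hgv ▸ good_of_fixed_conj H.hyp hgood'' (by rw [hgv]; exact hTM hvT))
    obtain ⟨hj2, hcj, -⟩ := phi_spec hgood''.1 hv heven
    have hjT : phi c'' v ∈ (T : Subgroup G) :=
      Subgroup.pow_mem _ ((T : Subgroup G).mul_mem hc''T hvT) _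
    refine claimA H hgood'' hv (hTM hvT) hvbad hz (hcentral v hvT).symm ?_
    exact good_of_commute H hj2 (hTM hjT) hgood'' hz hc''z hne'' hcj (hcentral _ hjT).symm
  intro v hv hav
  have hzp' : IsPGroup 2 (Subgroup.zpowers (⟨v, hav⟩ : M)) :=
    IsPGroup.of_card (n := 1) (by rw [Nat.card_zpowers, pow_one, ← Subgroup.orderOf_coe]; exact hv)
  obtain ⟨R', hR'⟩ := hzp'.exists_le_sylow
  obtain ⟨m, hm⟩ := MulAction.exists_smul_eq M R' (T.subtype hTM)
  obtain ⟨m₀, hm₀⟩ := m
  have h1 : m₀ * v * m₀⁻¹ ∈ (T : Subgroup G) := by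
    have h1 : (⟨m₀, hm₀⟩ : M) * ⟨v, hav⟩ * (⟨m₀, hm₀⟩ : M)⁻¹ ∈ T.subtype hTM := by
      rw [← hm]
      exact Subgroup.smul_mem_pointwise_smul _ (MulAut.conj (⟨m₀, hm₀⟩ : M)) _
        (hR' (Subgroup.mem_zpowers _))
    exact h1
  have h2 := hTgood _ h1 (((MulAut.conj m₀).orderOf_eq v).trans hv)
  have h3 := good_conj h2 (mem_fixS.1 (M.inv_mem hm₀))
  convert h3 using 1
  group

theorem final {τ : G} (hτ : Good a τ) : False := by
  have := Fintype.ofFinite G
  have := Fintype.ofFinite (G ⧸ fixS a)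
  have : Fact (Nat.Prime 2) := ⟨Nat.prime_two⟩
  have hall := all_good H hτ
  obtain ⟨c, hc, hcτ, hne⟩ := neighbour H hτ
  set M := fixS a with hM
  have hMidx := index_odd H.hyp hτ
  set I : Finset G := Finset.univ.filter (fun u => orderOf u = 2) with hI
  set IM : Finset G := I.filter (fun u => a u = u) with hIM
  have hinto : ∀ u : G, orderOf u = 2 → ∃ g, a (g * u * g⁻¹) = g * u * g⁻¹ := by
    intro u hu
    obtain ⟨Q, -⟩ := (IsPGroup.of_bot (p := 2) (G := M)).exists_le_sylow
    have hTidx : ¬ 2 ∣ ((Q : Subgroup M).map M.subtype).index := by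
      rw [Subgroup.index_map_subtype]
      intro hd
      rcases Nat.prime_two.dvd_mul.1 hd with hd | hd
      · exact Q.not_dvd_index hd
      · exact (Nat.not_even_iff_odd.2 hMidx) (even_iff_two_dvd.2 hd)
    set T : Sylow 2 G := (Q.2.map M.subtype).toSylow hTidx
    have hzp : IsPGroup 2 (Subgroup.zpowers u) :=
      IsPGroup.of_card (n := 1) (by rw [Nat.card_zpowers, pow_one, hu])
    obtain ⟨R, hR⟩ := hzp.exists_le_sylow
    obtain ⟨g, hg⟩ := MulAction.exists_smul_eq G R T
    have h1 : g * u * g⁻¹ ∈ (T : Subgroup G) := by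
      rw [← hg]
      exact Subgroup.smul_mem_pointwise_smul _ (MulAut.conj g) _ (hR (Subgroup.mem_zpowers u))
    obtain ⟨y, -, hy⟩ := h1
    exact ⟨g, mem_fixS.1 (hy ▸ y.2 : g * u * g⁻¹ ∈ M)⟩
  have hIcard : I.card = IM.card * Fintype.card (G ⧸ M) := by
    rw [← Finset.card_univ (α := G ⧸ M), ← Finset.card_product]
    symm
    refine Finset.card_bij (fun iq _ => iq.2.out * iq.1 * iq.2.out⁻¹) ?_ ?_ ?_
    · rintro ⟨i, q⟩ hiq
      have hi := (Finset.mem_filter.1 (Finset.mem_product.1 hiq).1).1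
      exact Finset.mem_filter.2 ⟨Finset.mem_univ _,
        ((MulAut.conj q.out).orderOf_eq i).trans (Finset.mem_filter.1 hi).2⟩
    · rintro ⟨i, q⟩ hiq ⟨i', q'⟩ hiq' e
      simp only at e
      obtain ⟨hi, hif⟩ := Finset.mem_filter.1 (Finset.mem_product.1 hiq).1
      obtain ⟨-, hi'f⟩ := Finset.mem_filter.1 (Finset.mem_product.1 hiq').1
      have hig := hall i (Finset.mem_filter.1 hi).2 hif
      have e2 : (q'.out⁻¹ * q.out) * i * (q'.out⁻¹ * q.out)⁻¹ = i' := by
        calc (q'.out⁻¹ * q.out) * i * (q'.out⁻¹ * q.out)⁻¹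
            = q'.out⁻¹ * (q.out * i * q.out⁻¹) * q'.out := by group
          _ = i' := by rw [e]; group
      have h4 := good_conj_fixed H.hyp hig (g := q'.out⁻¹ * q.out) (by rw [e2]; exact hi'f)
      have hqq : q' = q := by
        rw [← QuotientGroup.out_eq' q', ← QuotientGroup.out_eq' q]
        exact QuotientGroup.eq.2 h4
      subst hqq
      exact Prod.ext (mul_left_cancel (mul_right_cancel e)) rfl
    · intro u hu
      obtain ⟨g, hg⟩ := hinto u (Finset.mem_filter.1 hu).2
      obtain ⟨m, hm⟩ := QuotientGroup.mk_out_eq_mul M g⁻¹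
      refine ⟨((m : G)⁻¹ * (g * u * g⁻¹) * m, QuotientGroup.mk g⁻¹), Finset.mem_product.2 ⟨?_,
        Finset.mem_univ _⟩, ?_⟩
      · refine Finset.mem_filter.2 ⟨Finset.mem_filter.2 ⟨Finset.mem_univ _, ?_⟩, ?_⟩
        · have e : (m : G)⁻¹ * (g * u * g⁻¹) * m
              = MulAut.conj ((m : G)⁻¹ * g) u := by rw [MulAut.conj_apply]; group
          rw [e, MulEquiv.orderOf_eq]
          exact (Finset.mem_filter.1 hu).2
        · rw [map_mul, map_mul, map_inv, hg, mem_fixS.1 m.2]
      · simp only [hm]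
        group
  set p : G ⧸ M := QuotientGroup.mk 1 with hp
  set S : Finset G := I.filter (fun u => ¬ a u = u) with hS
  have hSplit : IM.card + S.card = I.card := Finset.card_filter_add_card_filter_not _
  set t : Finset (G ⧸ M) := Finset.univ.erase p with ht
  have htne : t.Nonempty := by
    obtain ⟨g, hg⟩ := exists_moved H
    refine ⟨QuotientGroup.mk g, Finset.mem_erase.2 ⟨fun e => hg ?_, Finset.mem_univ _⟩⟩
    have := QuotientGroup.eq.1 e.symm
    exact mem_fixS.1 (by simpa using this)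
  have hmaps : ∀ u ∈ S, (QuotientGroup.mk u : G ⧸ M) ∈ t := by
    intro u hu
    refine Finset.mem_erase.2 ⟨fun e => (Finset.mem_filter.1 hu).2 ?_, Finset.mem_univ _⟩
    have := QuotientGroup.eq.1 e.symm
    exact mem_fixS.1 (by simpa using this)
  have htcard : t.card + 1 = Fintype.card (G ⧸ M) := by
    rw [ht, Finset.card_erase_add_one (Finset.mem_univ p), Finset.card_univ]
  obtain ⟨q, hq, hfib⟩ := Finset.exists_le_card_fiber_of_nsmul_le_card_of_maps_to hmaps htne
    (b := IM.card) (by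
      rw [smul_eq_mul]
      rw [← htcard] at hIcard
      nlinarith [hSplit, hIcard])
  set F := S.filter (fun u => (QuotientGroup.mk u : G ⧸ M) = q) with hF
  have hIMpos : 0 < IM.card :=
    Finset.card_pos.2 ⟨τ, Finset.mem_filter.2 ⟨Finset.mem_filter.2 ⟨Finset.mem_univ _, hτ.1⟩,
      good_mem hτ⟩⟩
  obtain ⟨u, hu⟩ := Finset.card_pos.1 (lt_of_lt_of_le hIMpos hfib)
  obtain ⟨huS, huq⟩ := Finset.mem_filter.1 hu
  obtain ⟨huI, humoved⟩ := Finset.mem_filter.1 huS
  have hu2 := (Finset.mem_filter.1 huI).2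
  have huu := mul_self_of_order hu2
  have hui : u⁻¹ = u := inv_eq_of_mul_eq_one_right huu
  set D := M ⊓ M.comap (MulAut.conj u).toMonoidHom with hD
  have hDmem : ∀ d, d ∈ D ↔ a d = d ∧ a (u * d * u⁻¹) = u * d * u⁻¹ := fun d => Iff.rfl
  have hDu : ∀ d ∈ D, u * d * u⁻¹ ∈ D := by
    intro d hd
    rw [hDmem] at hd ⊢
    refine ⟨hd.2, ?_⟩
    have e : u * (u * d * u⁻¹) * u⁻¹ = d := by
      calc u * (u * d * u⁻¹) * u⁻¹ = (u * u) * d * (u * u)⁻¹ := by group
        _ = d := by rw [huu]; group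
    rw [e]
    exact hd.1
  have hDodd : Odd (Nat.card D) := by
    rw [← Nat.not_even_iff_odd]
    intro hev
    obtain ⟨⟨i, hi⟩, hio⟩ := exists_prime_orderOf_dvd_card' 2 (even_iff_two_dvd.1 hev)
    rw [Subgroup.orderOf_mk] at hio
    obtain ⟨hi1, hi2⟩ := (hDmem i).1 hi
    exact humoved (good_conj_fixed H.hyp (hall i hio hi1) hi2)
  set N := Subgroup.normalizer (D : Set G) with hN
  have hNinv : ∀ y ∈ N, a y ∈ N := by
    intro y hy
    rw [Subgroup.mem_normalizer_iff] at hy ⊢
    intro n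
    constructor
    · intro hn
      have h1 := (hy n).1 hn
      have h2 := ((hDmem _).1 h1).1
      rw [map_mul, map_mul, map_inv, ((hDmem n).1 hn).1] at h2
      rw [h2]
      exact h1
    · intro hn
      have h3 : y⁻¹ * (a y * n * (a y)⁻¹) * y ∈ D := (hy _).2 (by
        convert hn using 1
        group)
      have h4 := ((hDmem _).1 h3).1
      rw [map_mul, map_mul, map_inv, ((hDmem _).1 hn).1] at h4
      have e : n = y⁻¹ * (a y * n * (a y)⁻¹) * y := by
        rw [← h4]
        group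
      rw [e]
      exact h3
  have huN : u ∈ N := by
    rw [Subgroup.mem_normalizer_iff]
    intro n
    refine ⟨hDu n, fun hn => ?_⟩
    have := hDu _ hn
    convert this using 1
    calc n = (u * u) * n * (u * u)⁻¹ := by rw [huu]; group
      _ = u * (u * n * u⁻¹) * u⁻¹ := by group
  set w := a u with hw
  have hw2 : orderOf w = 2 := (a.orderOf_eq u).trans hu2
  have hodd : Odd (orderOf (u * w)) := by
    rw [← Nat.not_even_iff_odd]
    intro hev
    obtain ⟨hj2, huj, hwj⟩ := phi_spec hu2 hw2 hev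
    set j := phi u w
    obtain ⟨g, hg⟩ := hinto u hu2
    have hgood := hall _ (((MulAut.conj g).orderOf_eq u).trans hu2) hg
    have h1 : a (g * j * g⁻¹) = g * j * g⁻¹ :=
      hgood.2 (Subgroup.mem_centralizer_singleton_iff.2 ((huj.symm.map (MulAut.conj g)).eq))
    have hg2 : a g * w * (a g)⁻¹ = g * u * g⁻¹ := by
      rw [← map_inv, hw, ← map_mul, ← map_mul, hg]
    have h2 : a (a g * j * (a g)⁻¹) = a g * j * (a g)⁻¹ := by
      refine hgood.2 (Subgroup.mem_centralizer_singleton_iff.2 ?_)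
      rw [MulAut.conj_apply, ← hg2]
      exact (hwj.symm.map (MulAut.conj (a g))).eq
    set k := a g * g⁻¹ with hk
    have hi := hall _ (((MulAut.conj g).orderOf_eq j).trans hj2) h1
    have hkfix : a k = k := good_conj_fixed H.hyp hi (g := k) (by
      have e : k * (g * j * g⁻¹) * k⁻¹ = a g * j * (a g)⁻¹ := by rw [hk]; group
      rw [show k * (MulAut.conj g) j * k⁻¹ = a g * j * (a g)⁻¹ from e]
      exact h2)
    have hpow : ∀ l : ℕ, (a ^ l) g = k ^ l * g := by
      intro l
      induction l with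
      | zero => simp
      | succ l ih =>
        rw [pow_succ', MulAut.mul_apply, ih, map_mul, map_pow, hkfix, pow_succ, hk]
        group
    have hkr : k ^ r = 1 := by
      have := hpow r
      rw [H.hyp.pow, MulAut.one_apply] at this
      exact mul_eq_right.1 this.symm
    have hk1 : k = 1 := by
      rw [← orderOf_eq_one_iff]
      rcases (Nat.dvd_prime H.hyp.prime).1 (orderOf_dvd_of_pow_eq_one hkr) with e | e
      · exact e
      · exact absurd (e ▸ orderOf_dvd_natCard k) H.hyp.ndvd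
    rw [hk, mul_inv_eq_one] at hk1
    have hgM : g ∈ M := hk1
    have : u ∈ M := by
      have := M.mul_mem (M.mul_mem (M.inv_mem hgM) (show g * u * g⁻¹ ∈ M from hg)) hgM
      convert this using 1
      group
    exact humoved this
  obtain ⟨y0, hy0, hy0u⟩ := conj_of_odd hu2 hw2 hodd
  have hy0N : y0 ∈ N := Subgroup.zpowers_le.2 (N.mul_mem huN (hNinv u huN)) hy0
  obtain ⟨_, ⟨n, hn, rfl⟩, hnfix⟩ := exists_fixed H.hyp ((fun y => y * u * y⁻¹) '' (N : Set G)) (by
      rintro _ ⟨s, hs, rfl⟩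
      refine ⟨a s * y0, N.mul_mem (hNinv s hs) hy0N, ?_⟩
      show a s * y0 * u * (a s * y0)⁻¹ = a (s * u * s⁻¹)
      rw [map_mul, map_mul, map_inv, ← hw, ← hy0u]
      group)
    (((dvd_mul_right _ _).trans (dvd_of_eq (conjImage_card N u))).trans N.card_subgroup_dvd_card)
  simp only at hnfix
  set s0 := n * u * n⁻¹ with hs0
  have hFD : ∀ u' ∈ F, u⁻¹ * u' ∈ D := by
    intro u' hu'
    obtain ⟨hu'S, hu'q⟩ := Finset.mem_filter.1 hu'
    have hu'u := mul_self_of_order (Finset.mem_filter.1 (Finset.mem_filter.1 hu'S).1).2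
    have hmem : u⁻¹ * u' ∈ M := QuotientGroup.eq.1 (huq.trans hu'q.symm)
    refine ⟨hmem, ?_⟩
    show u * (u⁻¹ * u') * u⁻¹ ∈ M
    have e : u * (u⁻¹ * u') * u⁻¹ = (u⁻¹ * u')⁻¹ := by
      rw [mul_inv_cancel_left, mul_inv_rev, inv_inv, inv_eq_of_mul_eq_one_right hu'u, hui]
    rw [e]
    exact M.inv_mem hmem
  let ψ : G → G := fun u' => n * u' * n⁻¹
  have hψ : ∀ u' ∈ F, ψ u' ∈ IM ∧ s0⁻¹ * ψ u' ∈ D := by
    intro u' hu'
    have hd : n * (u⁻¹ * u') * n⁻¹ ∈ D := (Subgroup.mem_normalizer_iff.1 hn _).1 (hFD u' hu')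
    have e : ψ u' = s0 * (n * (u⁻¹ * u') * n⁻¹) := by
      simp only [ψ, hs0]; group
    refine ⟨Finset.mem_filter.2 ⟨Finset.mem_filter.2 ⟨Finset.mem_univ _, ?_⟩, ?_⟩, ?_⟩
    · exact ((MulAut.conj n).orderOf_eq u').trans
        (Finset.mem_filter.1 (Finset.mem_filter.1 (Finset.mem_filter.1 hu').1).1).2
    · rw [e, map_mul, hnfix, ((hDmem _).1 hd).1]
    · rw [e, inv_mul_cancel_left]
      exact hd
  have himg : F.image ψ = IM := by
    refine Finset.eq_of_subset_of_card_le (Finset.image_subset_iff.2 fun u' hu' => (hψ u' hu').1) ?_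
    rw [Finset.card_image_of_injective F fun y y' e => mul_left_cancel (mul_right_cancel e)]
    exact hfib
  have hin : ∀ i, Good a i → s0⁻¹ * i ∈ D := by
    intro i hi
    have : i ∈ IM :=
      Finset.mem_filter.2 ⟨Finset.mem_filter.2 ⟨Finset.mem_univ _, hi.1⟩, good_mem hi⟩
    rw [← himg] at this
    obtain ⟨u', hu', rfl⟩ := Finset.mem_image.1 this
    exact (hψ u' hu').2
  have hprod : τ⁻¹ * c ∈ D := by
    have := D.mul_mem (D.inv_mem (hin τ hτ)) (hin c hc)
    convert this using 1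
    group
  have hsq : (τ⁻¹ * c) ^ 2 = 1 := by
    rw [(hcτ.symm.inv_left).mul_pow, inv_pow, pow_two, pow_two, mul_self_of_order hτ.1,
      mul_self_of_order hc.1, inv_one, one_mul]
  have h1 : τ⁻¹ * c = 1 := by
    rw [← orderOf_eq_one_iff]
    exact Nat.eq_one_of_dvd_coprimes (Nat.coprime_two_right.2 (odd_orderOf_mem hDodd hprod))
      dvd_rfl (orderOf_dvd_of_pow_eq_one hsq)
  exact hne (inv_mul_eq_one.1 h1).symm

omit H

theorem odd_comOn_aux : ∀ (n : ℕ) (G : Type u) [Group G] [Finite G] (a : MulAut G) (r : ℕ) (t : G),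
    Nat.card G = n → Hyp a r → Good a t → Odd (Nat.card (comOn a (⊤ : Subgroup G))) := by
  intro n
  induction n using Nat.strong_induction_on with
  | _ n ih =>
    intro G _ _ a r t hn h ht
    by_contra hbad
    refine final (G := G) (a := a) (r := r) ⟨h, ?_, hbad⟩ ht
    intro K _ _ b r' t' hlt hb ht'
    exact ih (Nat.card K) (hn ▸ hlt) K b r' t' rfl hb ht'

/-- If `a` (of prime order coprime to `|G|`) fixes the centraliser of an involution pointwise, all
displacements generate a subgroup of odd order. -/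
theorem odd_comOn {G : Type u} [Group G] [Finite G] (a : MulAut G) (r : ℕ) (t : G)
    (h : Hyp a r) (ht : Good a t) : Odd (Nat.card (comOn a (⊤ : Subgroup G))) :=
  odd_comOn_aux _ G a r t rfl h ht

omit [Finite G] in
theorem comOn_top_normal (a : MulAut G) : (comOn a (⊤ : Subgroup G)).Normal :=
  ⟨fun _ hn _ => conj_mem_comOn' (Subgroup.mem_top _) hn⟩

end Cfsg.Agent.CoprimeCentMain81
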