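import Mathlib

/-!
Averaged fixed-point bound: a `q`-group `Q` acting on an abelian group `V` of order prime to `q`
without nontrivial common fixed points has an element `b` with `|C_V(b)|² ≤ |V|`.
-/

set_option autoImplicit false

namespace Cfsg.Agent.CoprimeFixAverage87

variable {V : Type*} [CommGroup V] {Q : Type*} [Group Q]

/-- The fixed subgroup of an automorphism. -/
def fx (e : MulAut V) : Subgroup V := MonoidHom.eqLocus e.toMonoidHom (MonoidHom.id V)

theorem mem_fx {e : MulAut V} {v : V} : v ∈ fx e ↔ e v = v := Iff.rfl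

theorem eq_one_of_pow {q : ℕ} (hcop : (Nat.card V).Coprime q) {v : V} (h : v ^ q = 1) :
    v = 1 := by
  apply orderOf_eq_one_iff.1
  exact Nat.eq_one_of_dvd_coprimes hcop (orderOf_dvd_natCard v) (orderOf_dvd_of_pow_eq_one h)

/-- The norm map of the cyclic group generated by `z`, as a homomorphism. -/
def normHom (ρ : Q →* MulAut V) (z : Q) (q : ℕ) : V →* V :=
  MonoidHom.mk' (fun v => ∏ k ∈ Finset.range q, ρ (z ^ k) v) (fun a b => by
    simp only [map_mul, Finset.prod_mul_distrib])

theorem normHom_apply (ρ : Q →* MulAut V) (z : Q) (q : ℕ) (v : V) :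
    normHom ρ z q v = ∏ k ∈ Finset.range q, ρ (z ^ k) v := rfl

theorem pow_fix (ρ : Q →* MulAut V) {z : Q} {v : V} (h : ρ z v = v) (k : ℕ) :
    ρ (z ^ k) v = v := by
  induction k with
  | zero => simp
  | succ k ih => rw [pow_succ, map_mul, MulAut.mul_apply, h, ih]

/-- The product bound, for all invariant subgroups without common fixed points. -/
theorem prod_bound [Finite V] [Fintype Q] {q : ℕ} [hq : Fact q.Prime] (hQ : IsPGroup q Q)
    (hcop : (Nat.card V).Coprime q) (ρ : Q →* MulAut V) :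
    ∀ (n : ℕ) (W : Subgroup V), Nat.card W = n → (∀ (b : Q), ∀ w ∈ W, ρ b w ∈ W) →
      (∀ w ∈ W, (∀ b : Q, ρ b w = w) → w = 1) →
      ∏ b : Q, Nat.card ↥(W ⊓ fx (ρ b)) ^ q ≤ Nat.card W ^ Fintype.card Q := by
  classical
  intro n
  induction n using Nat.strong_induction_on with
  | _ n ih =>
    intro W hWn hinv hfree
    -- the kernel of the action on `W`
    let K : Subgroup Q :=
      { carrier := {b | ∀ w ∈ W, ρ b w = w}
        mul_mem' := fun {a b} ha hb w hw => by rw [map_mul, MulAut.mul_apply, hb w hw, ha w hw]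
        one_mem' := fun w _ => by simp
        inv_mem' := fun {a} ha w hw => by
          have h := congrArg (ρ a⁻¹) (ha w hw)
          rw [← MulAut.mul_apply, ← map_mul, inv_mul_cancel, map_one] at h
          exact h.symm }
    have hK : ∀ b, b ∈ K ↔ ∀ w ∈ W, ρ b w = w := fun _ => Iff.rfl
    haveI hKn : K.Normal := ⟨fun a ha g => (hK _).2 fun w hw => by
      rw [map_mul, map_mul, MulAut.mul_apply, MulAut.mul_apply,
        (hK a).1 ha _ (hinv g⁻¹ w hw), ← MulAut.mul_apply, ← map_mul, mul_inv_cancel, map_one]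
      rfl⟩
    by_cases hWb : W = ⊥
    · subst hWb
      simp
    obtain ⟨w0, hw0, hw01⟩ := (Subgroup.ne_bot_iff_exists_ne_one.1 hWb).elim
      fun w hw => (⟨(w : V), w.2, fun h => hw (Subtype.ext h)⟩ : ∃ v : V, v ∈ W ∧ v ≠ 1)
    have hKtop : K ≠ ⊤ := fun h => hw01 (hfree w0 hw0 fun b => (hK b).1 (h ▸ trivial) w0 hw0)
    -- an element acting as a central element of order `q`
    haveI : Nontrivial (Q ⧸ K) := QuotientGroup.nontrivial_iff.2 hKtop
    have hQK : IsPGroup q (Q ⧸ K) := hQ.to_quotient K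
    haveI := hQK.center_nontrivial
    have hd : q ∣ Nat.card (Subgroup.center (Q ⧸ K)) := by
      obtain h | h := (hQK.to_subgroup (Subgroup.center (Q ⧸ K))).card_eq_or_dvd
      · exact absurd h (Finite.one_lt_card).ne'
      · exact h
    obtain ⟨c, hc⟩ := exists_prime_orderOf_dvd_card' q hd
    obtain ⟨z, hz⟩ := QuotientGroup.mk'_surjective K (c : Q ⧸ K)
    have hzK : z ∉ K := fun h => by
      have h1 : (c : Q ⧸ K) = 1 := by rw [← hz]; exact (QuotientGroup.eq_one_iff z).2 h
      rw [← Subgroup.orderOf_coe, h1, orderOf_one] at hc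
      exact hq.out.one_lt.ne hc
    have hzq : z ^ q ∈ K := by
      rw [← QuotientGroup.eq_one_iff]
      have h1 : (c : Q ⧸ K) ^ q = 1 := by
        rw [← hc, ← Subgroup.orderOf_coe]; exact pow_orderOf_eq_one _
      rw [← hz] at h1
      exact h1
    have hzc : ∀ b, ∀ w ∈ W, ρ b (ρ z w) = ρ z (ρ b w) := by
      intro b w hw
      have h2 : (QuotientGroup.mk' K) b * (c : Q ⧸ K) = (c : Q ⧸ K) * (QuotientGroup.mk' K) b :=
        Subgroup.mem_center_iff.1 c.2 _
      rw [← hz, ← map_mul, ← map_mul, QuotientGroup.mk'_apply, QuotientGroup.mk'_apply,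
        QuotientGroup.eq] at h2
      have h3 := (hK _).1 h2 w hw
      conv_lhs => rw [← h3]
      simp only [← MulAut.mul_apply, ← map_mul]
      congr 2
      group
    have hzkc : ∀ (b : Q) (k : ℕ), ∀ w ∈ W, ρ b (ρ (z ^ k) w) = ρ (z ^ k) (ρ b w) := by
      intro b k
      induction k with
      | zero => intro w _; simp
      | succ k ihk =>
        intro w hw
        rw [pow_succ, map_mul, MulAut.mul_apply, MulAut.mul_apply, ihk _ (hinv z w hw),
          hzc b w hw]
    -- the two parts
    set e0 := normHom ρ z q with he0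
    have he0W : ∀ w ∈ W, e0 w ∈ W := fun w hw => by
      rw [he0, normHom_apply]
      exact W.prod_mem fun k _ => hinv _ _ hw
    have he0z : ∀ w ∈ W, ρ z (e0 w) = e0 w := by
      intro w hw
      rw [he0, normHom_apply, map_prod]
      have h2 : ∀ k, ρ z (ρ (z ^ k) w) = ρ (z ^ (k + 1)) w := fun k => by
        rw [pow_succ', map_mul]; rfl
      simp only [h2]
      have h3 := Finset.prod_range_succ (fun k => ρ (z ^ k) w) q
      rw [Finset.prod_range_succ' (fun k => ρ (z ^ k) w) q] at h3
      rw [(hK _).1 hzq w hw, pow_zero, map_one, MulAut.one_apply] at h3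
      exact mul_right_cancel h3
    have he0b : ∀ b, ∀ w ∈ W, ρ b (e0 w) = e0 (ρ b w) := by
      intro b w hw
      rw [he0, normHom_apply, normHom_apply, map_prod]
      exact Finset.prod_congr rfl fun k _ => hzkc b k w hw
    have he0fix : ∀ v : V, ρ z v = v → e0 v = v ^ q := by
      intro v hv
      rw [he0, normHom_apply, Finset.prod_congr rfl fun k _ => pow_fix ρ hv k, Finset.prod_const,
        Finset.card_range]
    let W0 : Subgroup V := W ⊓ fx (ρ z)
    let U : Subgroup V := W ⊓ e0.ker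
    -- `|W0| |U| ≤ |W|`
    have hprod : Nat.card W0 * Nat.card U ≤ Nat.card W := by
      rw [← Nat.card_prod]
      refine Nat.card_le_card_of_injective
        (fun x => (⟨(x.1 : V) * x.2, W.mul_mem x.1.2.1 x.2.2.1⟩ : W)) ?_
      rintro ⟨a, u⟩ ⟨a', u'⟩ h
      have h1 : (a : V) * u = a' * u' := congrArg Subtype.val h
      have h2 := congrArg e0 h1
      rw [map_mul, map_mul, he0fix _ a.2.2, he0fix _ a'.2.2, MonoidHom.mem_ker.1 u.2.2,
        MonoidHom.mem_ker.1 u'.2.2, mul_one, mul_one] at h2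
      have h3 : (a : V) = a' := by
        rw [← div_eq_one]
        exact eq_one_of_pow hcop (by rw [div_pow, h2, div_self'])
      have h4 : (u : V) = u' := by rw [h3] at h1; exact mul_left_cancel h1
      exact Prod.ext (Subtype.ext h3) (Subtype.ext h4)
    -- fixed points split
    have hsplit : ∀ b, Nat.card ↥(W ⊓ fx (ρ b)) ≤
        Nat.card ↥(W0 ⊓ fx (ρ b)) * Nat.card ↥(U ⊓ fx (ρ b)) := by
      intro b
      rw [← Nat.card_prod]
      have hb : ∀ v : ↥(W ⊓ fx (ρ b)), ρ b (e0 v) = e0 v := fun v => by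
        rw [he0b b _ v.2.1, mem_fx.1 v.2.2]
      refine Nat.card_le_card_of_injective (fun v : ↥(W ⊓ fx (ρ b)) =>
        ((⟨e0 v, ⟨he0W _ v.2.1, he0z _ v.2.1⟩, hb v⟩ : ↥(W0 ⊓ fx (ρ b))),
         (⟨(v : V) ^ q / e0 v, ⟨W.div_mem (W.pow_mem v.2.1 _) (he0W _ v.2.1),
            MonoidHom.mem_ker.2 ?_⟩, ?_⟩ : ↥(U ⊓ fx (ρ b))))) ?_
      · rw [map_div, map_pow, he0fix _ (he0z _ v.2.1), div_self']
      · refine mem_fx.2 ?_
        rw [map_div, map_pow, hb v, mem_fx.1 v.2.2]
      · intro v v' h
        have h1 : e0 v = e0 v' := congrArg Subtype.val (congrArg Prod.fst h)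
        have h2 : (v : V) ^ q / e0 v = (v' : V) ^ q / e0 v' :=
          congrArg Subtype.val (congrArg Prod.snd h)
        rw [h1, div_left_inj] at h2
        apply Subtype.ext
        rw [← div_eq_one]
        exact eq_one_of_pow hcop (by rw [div_pow, h2, div_self'])
    -- the part fixed by `z`
    have hW0 : ∏ b : Q, Nat.card ↥(W0 ⊓ fx (ρ b)) ^ q ≤ Nat.card W0 ^ Fintype.card Q := by
      refine ih (Nat.card W0) ?_ W0 rfl (fun b w hw => ⟨hinv b w hw.1, ?_⟩)
        (fun w hw h => hfree w hw.1 h)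
      · rw [← hWn]
        refine lt_of_le_of_ne (Subgroup.card_le_of_le inf_le_left) fun h => hzK ?_
        have h1 : W0 = W := Subgroup.eq_of_le_of_card_ge inf_le_left h.ge
        intro w hw
        have h2 : w ∈ W0 := h1 ▸ hw
        exact h2.2
      · refine mem_fx.2 ?_
        rw [← hzc b w hw.1, mem_fx.1 hw.2]
    -- the part without fixed points of `z`
    have hUfpf : ∀ v ∈ U, ρ z v = v → v = 1 := fun v hv h =>
      eq_one_of_pow hcop ((he0fix v h).symm.trans (MonoidHom.mem_ker.1 hv.2))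
    have hUi : ∀ b, ∏ i : Fin q, Nat.card ↥(U ⊓ fx (ρ (b * z ^ (i : ℕ)))) ≤ Nat.card U := by
      intro b
      rw [← Nat.card_pi]
      have hind : ∀ (s : Finset (Fin q)) (f : Fin q → V),
          (∀ i ∈ s, f i ∈ U ∧ ρ (b * z ^ (i : ℕ)) (f i) = f i) → ∏ i ∈ s, f i = 1 →
          ∀ i ∈ s, f i = 1 := by
        intro s
        induction s using Finset.induction with
        | empty => simp
        | @insert j t hjt iht =>
          intro f hf hp
          rw [Finset.prod_insert hjt] at hp
          -- apply `b z^j`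
          have h1 : ρ (b * z ^ (j : ℕ)) (f j * ∏ i ∈ t, f i) = 1 := by rw [hp, map_one]
          rw [map_mul (ρ (b * z ^ (j : ℕ))), (hf j (Finset.mem_insert_self _ _)).2, map_prod] at h1
          have h2 : ∏ i ∈ t, (ρ (b * z ^ (j : ℕ)) (f i) / f i) = 1 := by
            rw [Finset.prod_div_distrib, div_eq_one]
            exact mul_left_cancel (h1.trans hp.symm)
          have h3 : ∀ i ∈ t, ρ (b * z ^ (j : ℕ)) (f i) / f i = 1 := by
            refine iht (fun i => ρ (b * z ^ (j : ℕ)) (f i) / f i) (fun i hi => ?_) h2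
            obtain ⟨hiU, hifix⟩ := hf i (Finset.mem_insert_of_mem hi)
            have hcomm : ∀ k l : ℕ, ρ (b * z ^ k) (ρ (b * z ^ l) (f i)) =
                ρ (b * z ^ l) (ρ (b * z ^ k) (f i)) := by
              intro k l
              have hW' := hiU.1
              simp only [map_mul, MulAut.mul_apply]
              rw [← hzkc b k _ (hinv (z ^ l) _ hW'), ← hzkc b l _ (hinv (z ^ k) _ hW')]
              simp only [← MulAut.mul_apply, ← map_mul, mul_assoc, ← pow_add, add_comm]
            refine ⟨⟨W.div_mem (hinv _ _ hiU.1) hiU.1, MonoidHom.mem_ker.2 ?_⟩, ?_⟩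
            · rw [map_div, ← he0b _ _ hiU.1, MonoidHom.mem_ker.1 hiU.2, map_one, div_one]
            · rw [map_div, hifix, hcomm, hifix]
          have h4 : ∀ i ∈ t, f i = 1 := by
            intro i hi
            obtain ⟨hiU, hifix⟩ := hf i (Finset.mem_insert_of_mem hi)
            have hji : (i : ℕ) ≠ (j : ℕ) := fun h => hjt (Fin.ext h ▸ hi)
            have hjfix : ρ (b * z ^ (j : ℕ)) (f i) = f i := div_eq_one.1 (h3 i hi)
            have heq : ρ (z ^ (i : ℕ)) (f i) = ρ (z ^ (j : ℕ)) (f i) := by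
              rw [map_mul, MulAut.mul_apply] at hifix hjfix
              exact (ρ b).injective (hifix.trans hjfix.symm)
            -- a power of `z` prime to `q` fixes `f i`
            have hpow : ∀ k l : ℕ, k < l → l < q → ρ (z ^ k) (f i) = ρ (z ^ l) (f i) →
                f i = 1 := by
              intro k l hkl hlq h
              obtain ⟨d, rfl⟩ := Nat.exists_eq_add_of_le hkl.le
              have h5 : ρ (z ^ d) (f i) = f i := by
                rw [pow_add, map_mul, MulAut.mul_apply] at h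
                exact ((ρ (z ^ k)).injective h).symm
              obtain ⟨m, -, hm⟩ := Nat.exists_mul_mod_eq_one_of_coprime (k := q) (n := d)
                ((Nat.Prime.coprime_iff_not_dvd hq.out).2 fun hd' => by
                  have := Nat.le_of_dvd (by omega) hd'
                  omega).symm hq.out.one_lt
              refine hUfpf _ hiU ?_
              have h6 := pow_fix ρ h5 m
              rw [← pow_mul, ← Nat.mod_add_div (d * m) q, hm, pow_add, pow_one, pow_mul, map_mul,
                MulAut.mul_apply, (hK _).1 (K.pow_mem hzq _) _ hiU.1] at h6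
              exact h6
            rcases Nat.lt_or_gt_of_ne hji with h | h
            · exact hpow _ _ h j.2 heq
            · exact hpow _ _ h i.2 heq.symm
          intro i hi
          rcases Finset.mem_insert.1 hi with rfl | hi
          · rwa [Finset.prod_eq_one h4, mul_one] at hp
          · exact h4 i hi
      refine Nat.card_le_card_of_injective (fun f : ∀ i : Fin q, ↥(U ⊓ fx (ρ (b * z ^ (i : ℕ)))) =>
        (⟨∏ i, (f i : V), U.prod_mem fun i _ => (f i).2.1⟩ : U)) ?_
      intro f g h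
      have h1 : ∏ i, (f i : V) = ∏ i, (g i : V) := congrArg Subtype.val h
      have h2 := hind Finset.univ (fun i => (f i : V) / g i)
        (fun i _ => ⟨U.div_mem (f i).2.1 (g i).2.1,
          (Subgroup.div_mem _ (f i).2.2 (g i).2.2 : _ ∈ fx _)⟩)
        (by rw [Finset.prod_div_distrib, h1, div_self'])
      funext i
      exact Subtype.ext (div_eq_one.1 (h2 i (Finset.mem_univ i)))
    have hU : ∏ b : Q, Nat.card ↥(U ⊓ fx (ρ b)) ^ q ≤ Nat.card U ^ Fintype.card Q := by
      calc ∏ b : Q, Nat.card ↥(U ⊓ fx (ρ b)) ^ q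
          = (∏ b : Q, Nat.card ↥(U ⊓ fx (ρ b))) ^ q := Finset.prod_pow _ _ _
        _ = ∏ i : Fin q, ∏ b : Q, Nat.card ↥(U ⊓ fx (ρ (b * z ^ (i : ℕ)))) := by
          have h1 : ∀ i : Fin q, ∏ b : Q, Nat.card ↥(U ⊓ fx (ρ (b * z ^ (i : ℕ)))) =
              ∏ b : Q, Nat.card ↥(U ⊓ fx (ρ b)) := fun i =>
            Fintype.prod_equiv (Equiv.mulRight (z ^ (i : ℕ))) _ _ (fun b => rfl)
          simp only [h1, Finset.prod_const, Finset.card_univ, Fintype.card_fin]
        _ = ∏ b : Q, ∏ i : Fin q, Nat.card ↥(U ⊓ fx (ρ (b * z ^ (i : ℕ)))) := Finset.prod_comm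
        _ ≤ ∏ _b : Q, Nat.card U := Finset.prod_le_prod (fun _ _ => Nat.zero_le _) fun b _ => hUi b
        _ = Nat.card U ^ Fintype.card Q := by rw [Finset.prod_const, Finset.card_univ]
    calc ∏ b : Q, Nat.card ↥(W ⊓ fx (ρ b)) ^ q
        ≤ ∏ b : Q, (Nat.card ↥(W0 ⊓ fx (ρ b)) ^ q * Nat.card ↥(U ⊓ fx (ρ b)) ^ q) :=
          Finset.prod_le_prod (fun _ _ => Nat.zero_le _) fun b _ => by
            rw [← mul_pow]; exact Nat.pow_le_pow_left (hsplit b) q
      _ = (∏ b : Q, Nat.card ↥(W0 ⊓ fx (ρ b)) ^ q) * ∏ b : Q, Nat.card ↥(U ⊓ fx (ρ b)) ^ q :=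
          Finset.prod_mul_distrib
      _ ≤ Nat.card W0 ^ Fintype.card Q * Nat.card U ^ Fintype.card Q := Nat.mul_le_mul hW0 hU
      _ ≤ Nat.card W ^ Fintype.card Q := by
          rw [← mul_pow]; exact Nat.pow_le_pow_left hprod _

/-- Some element has at most the square root of `|V|` fixed points. -/
theorem exists_sq_fix_le [Finite V] [Finite Q] {q : ℕ} [hq : Fact q.Prime] (hQ : IsPGroup q Q)
    (hcop : (Nat.card V).Coprime q) (ρ : Q →* MulAut V)
    (hfree : ∀ v : V, (∀ b : Q, ρ b v = v) → v = 1) :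
    ∃ b : Q, Nat.card (fx (ρ b)) ^ 2 ≤ Nat.card V := by
  classical
  haveI := Fintype.ofFinite Q
  by_contra hno
  push Not at hno
  have h := prod_bound hQ hcop ρ _ ⊤ rfl (fun _ _ _ => trivial) (fun w _ h => hfree w h)
  simp only [top_inf_eq, Subgroup.card_top] at h
  have h1 : (Nat.card V ^ q) ^ Fintype.card Q < (∏ b : Q, Nat.card (fx (ρ b)) ^ q) ^ 2 := by
    rw [← Finset.prod_pow, ← Finset.card_univ, ← Finset.prod_const]
    refine Finset.prod_lt_prod_of_nonempty (fun b _ => pow_pos Nat.card_pos _) (fun b _ => ?_)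
      Finset.univ_nonempty
    rw [← pow_mul, mul_comm q 2, pow_mul]
    exact Nat.pow_lt_pow_left (hno b) hq.out.ne_zero
  have h2 : (∏ b : Q, Nat.card (fx (ρ b)) ^ q) ^ 2 ≤ (Nat.card V ^ q) ^ Fintype.card Q := by
    refine (Nat.pow_le_pow_left h 2).trans ?_
    rw [← pow_mul, ← pow_mul, mul_comm q]
    exact Nat.pow_le_pow_right Nat.card_pos (Nat.mul_le_mul_left _ hq.out.two_le)
  exact absurd h1 h2.not_gt

end Cfsg.Agent.CoprimeFixAverage87
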