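import Mathlib
import Cfsg.Agent.Lib.CoprimeExtra

/-!
If an abelian group `A` acts coprimely on a solvable group `Y` with `Y = [Y,A]`, then the fixed
points of `A` are generated by their intersections with the subgroups `[C_Y(A₀),A]`, `A/A₀` cyclic.
-/

set_option autoImplicit false

namespace Cfsg.Agent.CoprimeFixedGen56

open scoped commutatorElement Pointwise
open Cfsg.Agent.CoprimeAction

universe u

section defs

variable {G : Type*} [Group G]

/-- `A/A₀` is cyclic. -/
def Cocyclic (A A₀ : Subgroup G) : Prop :=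
  A₀ ≤ A ∧ ∃ g ∈ A, A ≤ A₀ ⊔ Subgroup.zpowers g

/-- `[C_Y(A₀),A]`. -/
def part (A A₀ Y : Subgroup G) : Subgroup G :=
  ⁅Y ⊓ Subgroup.centralizer (A₀ : Set G), A⁆

/-- The subgroup generated by the fixed points in the parts. -/
def fixedGen (A Y : Subgroup G) : Subgroup G :=
  ⨆ A₀ : {A₀ : Subgroup G // Cocyclic A A₀},
    Y ⊓ Subgroup.centralizer (A : Set G) ⊓ part A A₀ Y

theorem fixedGen_mono {A Y Y' : Subgroup G} (h : Y ≤ Y') : fixedGen A Y ≤ fixedGen A Y' :=
  iSup_mono fun _ => inf_le_inf (inf_le_inf_right _ h)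
    (Subgroup.commutator_mono (inf_le_inf_right _ h) le_rfl)

theorem fixedGen_le (A Y : Subgroup G) : fixedGen A Y ≤ Y ⊓ Subgroup.centralizer (A : Set G) :=
  iSup_le fun _ => inf_le_left

theorem centralizer_le_of_le {A A₀ : Subgroup G} (h : A₀ ≤ A) :
    Subgroup.centralizer (A : Set G) ≤ Subgroup.centralizer (A₀ : Set G) :=
  Subgroup.centralizer_le (SetLike.coe_subset_coe.2 h)

theorem map_centralizer_le {G' : Type*} [Group G'] (f : G →* G') (A : Subgroup G) :
    (Subgroup.centralizer (A : Set G)).map f ≤ Subgroup.centralizer (A.map f : Set G') := by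
  rintro _ ⟨x, hx, rfl⟩
  rw [Subgroup.mem_centralizer_iff]
  rintro _ ⟨a, ha, rfl⟩
  rw [← map_mul, Subgroup.mem_centralizer_iff.1 hx a ha, map_mul]

theorem map_fixedGen_le {G' : Type*} [Group G'] (f : G →* G') (A Y : Subgroup G) :
    (fixedGen A Y).map f ≤ fixedGen (A.map f) (Y.map f) := by
  rw [fixedGen, Subgroup.map_iSup]
  refine iSup_le fun ⟨A₀, h₀, g, hg, hA⟩ => ?_
  refine le_iSup_of_le ⟨A₀.map f, Subgroup.map_mono h₀, f g, Subgroup.mem_map_of_mem f hg, ?_⟩ ?_
  · rw [← MonoidHom.map_zpowers, ← Subgroup.map_sup]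
    exact Subgroup.map_mono hA
  · refine (Subgroup.map_inf_le _ _ f).trans (inf_le_inf ?_ ?_)
    · exact (Subgroup.map_inf_le _ _ f).trans (inf_le_inf_left _ (map_centralizer_le f A))
    · rw [part, Subgroup.map_commutator]
      exact Subgroup.commutator_mono
        ((Subgroup.map_inf_le _ _ f).trans (inf_le_inf_left _ (map_centralizer_le f A₀))) le_rfl

open scoped Pointwise in
theorem conj_smul_commutator (g : G) (H K : Subgroup G) :
    MulAut.conj g • ⁅H, K⁆ = ⁅MulAut.conj g • H, MulAut.conj g • K⁆ :=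
  Subgroup.map_commutator H K (MulAut.conj g).toMonoidHom

open scoped Pointwise in
theorem conj_smul_iSup {ι : Sort*} (g : G) (H : ι → Subgroup G) :
    MulAut.conj g • (⨆ i, H i) = ⨆ i, MulAut.conj g • H i :=
  Subgroup.map_iSup (MulAut.conj g).toMonoidHom H

open scoped Pointwise in
theorem conj_smul_eq_of_mem_normalizer {g : G} {H : Subgroup G}
    (h : g ∈ Subgroup.normalizer (H : Set G)) : MulAut.conj g • H = H := by
  ext x
  rw [Subgroup.mem_pointwise_smul_iff_inv_smul_mem, Subgroup.mem_normalizer_iff.1 (inv_mem h) x]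
  simp [MulAut.smul_def]

theorem mem_normalizer_of_forall [Finite G] {U : Subgroup G} {g : G}
    (h : ∀ u ∈ U, g * u * g⁻¹ ∈ U) : g ∈ Subgroup.normalizer (U : Set G) := by
  refine mem_normalizer_of_conj_smul_eq ?_
  refine Subgroup.eq_of_le_of_card_ge ?_ (le_of_eq ?_)
  · intro x hx
    rw [Subgroup.mem_pointwise_smul_iff_inv_smul_mem] at hx
    have := h _ hx
    simpa [MulAut.smul_def, mul_assoc] using this
  · exact Nat.card_congr (Subgroup.equivSMul _ U).toEquiv

theorem le_normalizer_of_centralizes {A C H : Subgroup G} (hAC : ∀ a ∈ A, ∀ c ∈ C, a * c = c * a)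
    (hH : H ≤ C) : A ≤ Subgroup.normalizer (H : Set G) := fun a ha =>
  Subgroup.centralizer_le_normalizer _ (Subgroup.mem_centralizer_iff.2 fun x hx =>
    (hAC a ha x (hH hx)).symm)

end defs

/-- **Fixed points of a coprime abelian group.** -/
theorem inf_centralizer_le_fixedGen : ∀ (n : ℕ) (G : Type u) [Group G] [Finite G] (A Y : Subgroup G),
    Nat.card Y = n → IsMulCommutative A → Group.IsSolvable Y →
    A ≤ Subgroup.normalizer (Y : Set G) → (Nat.card A).Coprime (Nat.card Y) → ⁅Y, A⁆ = Y →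
    Y ⊓ Subgroup.centralizer (A : Set G) ≤ fixedGen A Y := by
  intro n
  induction n using Nat.strong_induction_on with
  | _ n ih =>
  intro G _ _ A Y hn hA hsolv hAY hcop hYA
  classical
  haveI := hsolv
  haveI := hA
  set C := Subgroup.centralizer (A : Set G) with hC
  set W := fixedGen A Y with hW
  have hcommA : ∀ x ∈ A, ∀ y ∈ A, x * y = y * x := fun x hx y hy =>
    congrArg Subtype.val (mul_comm' (⟨x, hx⟩ : A) ⟨y, hy⟩)
  have hfix : ∀ a ∈ A, ∀ c ∈ C, a * c = c * a := fun a ha c hc =>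
    Subgroup.mem_centralizer_iff.1 hc a ha
  -- elementary facts on the parts
  have hCY : ∀ A₀ : Subgroup G, A₀ ≤ A →
      A ≤ Subgroup.normalizer ((Y ⊓ Subgroup.centralizer (A₀ : Set G) : Subgroup G) : Set G) := by
    intro A₀ h₀
    refine le_normalizer_inf hAY (le_trans ?_ Subgroup.le_normalizer)
    intro a ha
    exact Subgroup.mem_centralizer_iff.2 fun b hb => hcommA b (h₀ hb) a ha
  have hRle : ∀ A₀ : Subgroup G, A₀ ≤ A → part A A₀ Y ≤ Y ⊓ Subgroup.centralizer (A₀ : Set G) :=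
    fun A₀ h₀ => commutator_le_self_of_le_normalizer (hCY A₀ h₀)
  have hcop' : ∀ {K : Subgroup G}, K ≤ Y → (Nat.card A).Coprime (Nat.card K) :=
    fun hK => coprime_of_le_right hK hcop
  have hsolv' : ∀ {K : Subgroup G}, K ≤ Y → (Group.IsSolvable A ∨ Group.IsSolvable K) :=
    fun hK => Or.inr (isSolvable_of_le hK)
  have hdone : ∀ A₀ : Subgroup G, Cocyclic A A₀ → Y ≤ Subgroup.centralizer (A₀ : Set G) →
      Y ⊓ C ≤ W := by
    intro A₀ h₀ hY₀
    refine le_iSup_of_le ⟨A₀, h₀⟩ (le_inf le_rfl ?_)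
    show Y ⊓ C ≤ part A A₀ Y
    rw [part, inf_eq_left.2 hY₀, hYA]
    exact inf_le_left
  have hgenY : ∀ H : Subgroup G, (∀ A₀ : Subgroup G, Cocyclic A A₀ → part A A₀ Y ≤ H) →
      Y ⊓ C ≤ H → Y ≤ H := by
    intro H hR hCH
    refine CoprimeExtra.le_of_cyclic_quotient_centralizers hAY hcop fun B hB hcyc => ?_
    have hco : Cocyclic A B := by
      obtain ⟨⟨q, hq⟩⟩ := hcyc
      obtain ⟨g, rfl⟩ := QuotientGroup.mk_surjective q
      refine ⟨hB, g, g.2, fun a ha => ?_⟩
      obtain ⟨k, hk⟩ := Subgroup.mem_zpowers_iff.1 (hq (⟨a, ha⟩ : A))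
      rw [← QuotientGroup.mk_zpow, QuotientGroup.eq] at hk
      have h1 : ((g : G) ^ k)⁻¹ * a ∈ B := by
        have := Subgroup.mem_subgroupOf.1 hk
        simpa using this
      have h2 : a = ((g : G) ^ k)⁻¹ * a * (g : G) ^ k := by
        rw [mul_assoc, hcommA a ha _ (zpow_mem g.2 k), inv_mul_cancel_left]
      rw [h2]
      exact mul_mem (Subgroup.mem_sup_left h1)
        (Subgroup.mem_sup_right (Subgroup.zpow_mem_zpowers _ k))
    intro k hk
    obtain ⟨x, hx, c, hc, rfl⟩ := exists_mul_fixed (hCY B hB) (hcop' inf_le_left) (hsolv' inf_le_left) hk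
    exact mul_mem (hR B hco hx) (hCH ⟨hc.1.1, hc.2⟩)
  -- small invariant subgroups
  have hsmall : ∀ T : Subgroup G, T < Y → A ≤ Subgroup.normalizer (T : Set G) → ⁅T, A⁆ = T →
      T ⊓ C ≤ W := by
    intro T hT hAT hTA
    have hlt : Nat.card T < n := by
      rw [← hn]
      by_contra h
      exact hT.ne (Subgroup.eq_of_le_of_card_ge hT.le (not_lt.1 h))
    exact (ih _ hlt G A T rfl hA (isSolvable_of_le hT.le) hAT (hcop' hT.le) hTA).trans
      (fixedGen_mono hT.le)
  by_cases hex : ∃ U : Subgroup G, U < Y ∧ A ≤ Subgroup.normalizer (U : Set G) ∧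
      Y ≤ Subgroup.normalizer (U : Set G) ∧ ⁅U, A⁆ ≠ ⊥
  swap
  · -- every proper invariant normal subgroup is fixed
    push_neg at hex
    by_cases hY1 : Y = ⊥
    · rw [hY1, bot_inf_eq]; exact bot_le
    haveI : Nontrivial Y := (Subgroup.nontrivial_iff_ne_bot Y).2 hY1
    have hD : ⁅Y, Y⁆ < Y := by
      refine lt_of_le_of_ne (Subgroup.commutator_le.2 fun a ha b hb => by
        rw [commutatorElement_def]
        exact mul_mem (mul_mem (mul_mem ha hb) (inv_mem ha)) (inv_mem hb)) fun e => ?_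
      have h2 := Group.IsSolvable.commutator_lt_top_of_nontrivial Y
      refine h2.ne (Subgroup.map_injective Y.subtype_injective ?_)
      rw [Subgroup.map_subtype_commutator, ← MonoidHom.range_eq_map, Subgroup.range_subtype, e]
    have hconjD : ∀ g ∈ Subgroup.normalizer (Y : Set G),
        g ∈ Subgroup.normalizer ((⁅Y, Y⁆ : Subgroup G) : Set G) := by
      intro g hg
      refine mem_normalizer_of_conj_smul_eq ?_
      rw [conj_smul_commutator, conj_smul_eq_of_mem_normalizer hg]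
    have hDA : A ≤ Subgroup.normalizer ((⁅Y, Y⁆ : Subgroup G) : Set G) := fun a ha => hconjD a (hAY ha)
    have hDY : Y ≤ Subgroup.normalizer ((⁅Y, Y⁆ : Subgroup G) : Set G) :=
      fun y hy => hconjD y (Subgroup.le_normalizer hy)
    have hDC : ⁅Y, Y⁆ ≤ C := by
      have := hex _ hD hDA hDY
      exact (Subgroup.commutator_eq_bot_iff_le_centralizer).1 this
    by_cases hone : ∃ A₀ : Subgroup G, Cocyclic A A₀ ∧ part A A₀ Y ⊔ ⁅Y, Y⁆ = Y
    · obtain ⟨A₀, h₀, he⟩ := hone
      refine hdone A₀ h₀ (he ▸ sup_le ((hRle A₀ h₀.1).trans inf_le_right) ?_)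
      exact hDC.trans (centralizer_le_of_le h₀.1)
    push_neg at hone
    exfalso
    have hR : ∀ A₀ : Subgroup G, Cocyclic A A₀ → part A A₀ Y ≤ C := by
      intro A₀ h₀
      have hle : part A A₀ Y ⊔ ⁅Y, Y⁆ ≤ Y :=
        sup_le ((hRle A₀ h₀.1).trans inf_le_left) hD.le
      have hnA : A ≤ Subgroup.normalizer ((part A A₀ Y ⊔ ⁅Y, Y⁆ : Subgroup G) : Set G) := by
        refine fun a ha => mem_normalizer_of_conj_smul_eq ?_
        rw [part, Subgroup.smul_sup, conj_smul_eq_of_mem_normalizer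
            (Subgroup.normalizer_commutator_ge_right _ A ha),
          conj_smul_eq_of_mem_normalizer (hDA ha)]
      have hnY : Y ≤ Subgroup.normalizer ((part A A₀ Y ⊔ ⁅Y, Y⁆ : Subgroup G) : Set G) := by
        intro y hy
        refine mem_normalizer_of_forall fun u hu => ?_
        have h1 : y * u * y⁻¹ * u⁻¹ ∈ ⁅Y, Y⁆ := Subgroup.commutator_mem_commutator hy (hle hu)
        have := mul_mem (Subgroup.mem_sup_right (S := part A A₀ Y) h1) hu
        rwa [inv_mul_cancel_right] at this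
      have hbot := hex _ (lt_of_le_of_ne hle (hone A₀ h₀)) hnA hnY
      exact le_sup_left.trans ((Subgroup.commutator_eq_bot_iff_le_centralizer).1 hbot)
    have hYC : Y ≤ C := hgenY C hR inf_le_right
    rw [(Subgroup.commutator_eq_bot_iff_le_centralizer).2 hYC] at hYA
    exact hY1 hYA.symm
  obtain ⟨U, hUY, hAU, hYU, hUA⟩ := hex
  set X := ⁅U, A⁆ with hX
  have hXU : X ≤ U := commutator_le_self_of_le_normalizer hAU
  have hAX : A ≤ Subgroup.normalizer (X : Set G) := Subgroup.normalizer_commutator_ge_right U A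
  have hXA : ⁅X, A⁆ = X := commutator_commutator_eq hAU (hcop' hUY.le) (hsolv' hUY.le)
  -- it suffices to find a good normal subgroup
  suffices hN : Y ⊓ C ≤ W ∨ ∃ N : Subgroup G, N ≠ ⊥ ∧ N ≤ Y ∧ A ≤ Subgroup.normalizer (N : Set G) ∧
      Y ≤ Subgroup.normalizer (N : Set G) ∧ N ⊓ C ≤ W by
    rcases hN with h | ⟨N, hN1, hNY, hAN, hYN, hNW⟩
    · exact h
    set L := Subgroup.normalizer (N : Set G) with hL
    haveI hNn : (N.subgroupOf L).Normal := Subgroup.normal_subgroupOf_of_le_normalizer le_rfl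
    set π := QuotientGroup.mk' (N.subgroupOf L) with hπ
    set A₁ := A.subgroupOf L with hA₁
    set Y₁ := Y.subgroupOf L with hY₁
    have hAY₁ : A₁ ≤ Subgroup.normalizer (Y₁ : Set L) :=
      le_normalizer_of_conj_mem fun a ha k hk =>
        conj_mem (K := Y) (a := (a : G)) (k := (k : G)) (hAY ha) hk
    have hcA : Nat.card A₁ = Nat.card A :=
      Nat.card_congr (Subgroup.subgroupOfEquivOfLe hAN).toEquiv
    have hcY : Nat.card Y₁ = Nat.card Y :=
      Nat.card_congr (Subgroup.subgroupOfEquivOfLe hYN).toEquiv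
    have hcop₁ : (Nat.card A₁).Coprime (Nat.card Y₁) := by rw [hcA, hcY]; exact hcop
    haveI hsolv₁ : Group.IsSolvable Y₁ :=
      Group.isSolvable_of_surjective (f := (Subgroup.subgroupOfEquivOfLe hYN).symm.toMonoidHom)
        (Subgroup.subgroupOfEquivOfLe hYN).symm.surjective
    have hYA₁ : ⁅Y₁, A₁⁆ = Y₁ := by
      refine Subgroup.map_injective L.subtype_injective ?_
      rw [Subgroup.map_commutator, Subgroup.map_subgroupOf_eq_of_le hYN,
        Subgroup.map_subgroupOf_eq_of_le hAN, hYA]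
    have hlt : Nat.card (Y₁.map π) < n := by
      rw [← hn, ← hcY]
      let f := π.subgroupMap Y₁
      refine lt_of_le_of_ne (Nat.card_le_card_of_surjective _ (π.subgroupMap_surjective Y₁)) fun e => ?_
      have hinj : Function.Injective f :=
        ((Nat.bijective_iff_surjective_and_card f).2 ⟨π.subgroupMap_surjective Y₁, e.symm⟩).1
      obtain ⟨x, hx, hx1⟩ := (Subgroup.bot_or_exists_ne_one N).resolve_left hN1
      have hfx : f ⟨⟨x, Subgroup.le_normalizer hx⟩, hNY hx⟩ = f 1 := by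
        apply Subtype.ext
        rw [map_one]
        exact (QuotientGroup.eq_one_iff _).2 hx
      exact hx1 (congrArg (fun z : Y₁ => ((z : L) : G)) (hinj hfx))
    haveI : Group.IsSolvable (Y₁.map π) :=
      Group.isSolvable_of_surjective (π.subgroupMap_surjective Y₁)
    have hA₁c : IsMulCommutative A₁ :=
      ⟨⟨fun x y => Subtype.ext (Subtype.ext (hcommA _ x.2 _ y.2))⟩⟩
    have hAπ : IsMulCommutative (A₁.map π) := by
      refine ⟨⟨?_⟩⟩
      rintro ⟨_, x, hx, rfl⟩ ⟨_, y, hy, rfl⟩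
      apply Subtype.ext
      change π x * π y = π y * π x
      rw [← map_mul, ← map_mul]
      exact congrArg π (Subtype.ext (hcommA _ hx _ hy))
    have hih := ih _ hlt (L ⧸ N.subgroupOf L) (A₁.map π) (Y₁.map π) rfl hAπ inferInstance
      ((Subgroup.map_mono hAY₁).trans (Subgroup.le_normalizer_map π))
      ((hcop₁.coprime_dvd_left (Subgroup.card_map_dvd _ _)).coprime_dvd_right (Subgroup.card_map_dvd _ _))
      (by rw [← Subgroup.map_commutator, hYA₁])
    -- fixed generators lift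
    have hlift : fixedGen (A₁.map π) (Y₁.map π) ≤ (fixedGen A₁ Y₁).map π := by
      refine iSup_le fun ⟨B, hB, g', hg', hgen⟩ => ?_
      obtain ⟨g, hg, rfl⟩ := hg'
      set A₀ := A₁ ⊓ B.comap π with hA₀
      have hco : Cocyclic A₁ A₀ := by
        refine ⟨inf_le_left, g, hg, fun a ha => ?_⟩
        have hmem := hgen (Subgroup.mem_map_of_mem π ha)
        have hn' : Subgroup.zpowers (π g) ≤ Subgroup.normalizer (B : Set (L ⧸ N.subgroupOf L)) := by
          refine le_normalizer_of_centralizes (C := A₁.map π) (fun x hx y hy => ?_) hB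
          exact congrArg Subtype.val
            (mul_comm' (⟨x, Subgroup.zpowers_le.2 (Subgroup.mem_map_of_mem π hg) hx⟩ : A₁.map π) ⟨y, hy⟩)
        rw [← SetLike.mem_coe, Subgroup.coe_mul_of_right_le_normalizer_left _ _ hn'] at hmem
        obtain ⟨b, hb, z, hz, hbz⟩ := Set.mem_mul.1 hmem
        obtain ⟨k, rfl⟩ := Subgroup.mem_zpowers_iff.1 hz
        have h1 : a * (g ^ k)⁻¹ ∈ A₀ := by
          refine ⟨A₁.mul_mem ha (A₁.inv_mem (A₁.zpow_mem hg k)), ?_⟩
          show π (a * (g ^ k)⁻¹) ∈ B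
          rw [map_mul, map_inv, map_zpow, ← hbz, mul_inv_cancel_right]
          exact hb
        rw [show a = a * (g ^ k)⁻¹ * g ^ k by rw [inv_mul_cancel_right]]
        exact mul_mem (Subgroup.mem_sup_left h1)
          (Subgroup.mem_sup_right (Subgroup.zpow_mem_zpowers _ k))
      have himg : A₀.map π = B := by
        refine le_antisymm (Subgroup.map_le_iff_le_comap.2 inf_le_right) fun b hb => ?_
        obtain ⟨a, ha, rfl⟩ := hB hb
        exact ⟨a, ⟨ha, hb⟩, rfl⟩
      have hsol₁ : ∀ {K : Subgroup L}, K ≤ Y₁ → Group.IsSolvable A₁ ∨ Group.IsSolvable K :=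
        fun hK => Or.inr (isSolvable_of_le hK)
      have hK₁ : A₁ ≤ Subgroup.normalizer ((Y₁ ⊓ Subgroup.centralizer (A₀ : Set L) : Subgroup L) : Set L) := by
        refine le_normalizer_inf hAY₁ (le_trans ?_ Subgroup.le_normalizer)
        intro a ha
        exact Subgroup.mem_centralizer_iff.2 fun b hb =>
          Subtype.ext (hcommA _ (hb.1) _ ha)
      have hRle₁ : part A₁ A₀ Y₁ ≤ Y₁ :=
        (commutator_le_self_of_le_normalizer hK₁).trans inf_le_left
      have e1 : part (A₁.map π) B (Y₁.map π) = (part A₁ A₀ Y₁).map π := by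
        rw [part, part, Subgroup.map_commutator, map_inf_centralizer_eq π
          (inf_le_left.trans hAY₁) (coprime_of_le_left inf_le_left hcop₁)
          (Or.inr hsolv₁), himg]
      have hcR : (Nat.card A₁).Coprime (Nat.card (part A₁ A₀ Y₁)) := coprime_of_le_right hRle₁ hcop₁
      calc Y₁.map π ⊓ Subgroup.centralizer (A₁.map π : Set _) ⊓ part (A₁.map π) B (Y₁.map π)
          ≤ (part A₁ A₀ Y₁).map π ⊓ Subgroup.centralizer (A₁.map π : Set _) := by
            rw [e1]; exact le_inf inf_le_right (inf_le_left.trans inf_le_right)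
        _ = (part A₁ A₀ Y₁ ⊓ Subgroup.centralizer (A₁ : Set L)).map π :=
            (map_inf_centralizer_eq π (Subgroup.normalizer_commutator_ge_right _ A₁) hcR
              (hsol₁ hRle₁)).symm
        _ ≤ (fixedGen A₁ Y₁).map π := Subgroup.map_mono (le_iSup_of_le ⟨A₀, hco⟩
            (le_inf (le_inf (inf_le_left.trans hRle₁) inf_le_right) inf_le_left))
    intro c hc
    have hcL : c ∈ L := hYN hc.1
    have h1 : π ⟨c, hcL⟩ ∈ Y₁.map π ⊓ Subgroup.centralizer (A₁.map π : Set _) := by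
      refine ⟨Subgroup.mem_map_of_mem π (show (⟨c, hcL⟩ : L) ∈ Y₁ from hc.1), ?_⟩
      refine map_centralizer_le π A₁ (Subgroup.mem_map_of_mem π ?_)
      exact Subgroup.mem_centralizer_iff.2 fun a ha =>
        Subtype.ext (Subgroup.mem_centralizer_iff.1 hc.2 _ ha)
    obtain ⟨w, hw, hwc⟩ := hlift (hih h1)
    have hwW : (w : G) ∈ W := by
      have := map_fixedGen_le L.subtype A₁ Y₁ (Subgroup.mem_map_of_mem L.subtype hw)
      rwa [Subgroup.map_subgroupOf_eq_of_le hAN, Subgroup.map_subgroupOf_eq_of_le hYN] at this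
    have hn0 := QuotientGroup.eq.1 hwc
    have hn1 : (w : G)⁻¹ * c ∈ N := Subgroup.mem_subgroupOf.1 hn0
    have hn2 : (w : G)⁻¹ * c ∈ C := mul_mem (inv_mem (fixedGen_le A Y hwW).2) hc.2
    have := mul_mem hwW (hNW ⟨hn1, hn2⟩)
    rwa [mul_inv_cancel_left] at this
  have hXW : X ⊓ C ≤ W := hsmall X (lt_of_le_of_lt hXU hUY) hAX hXA
  by_cases hgen : ∃ A₀ : Subgroup G, Cocyclic A A₀ ∧ X ⊔ part A A₀ Y = Y
  · obtain ⟨A₀, h₀, he⟩ := hgen
    have hA₀U : A₀ ≤ Subgroup.normalizer (U : Set G) := h₀.1.trans hAU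
    set Z := ⁅U, A₀⁆ with hZ
    have hZU : Z ≤ U := commutator_le_self_of_le_normalizer hA₀U
    have hYZ : Y ≤ Subgroup.normalizer (Z : Set G) := by
      rw [← he]
      refine sup_le (hXU.trans (Subgroup.normalizer_commutator_ge_left U A₀)) fun r hr => ?_
      refine mem_normalizer_of_conj_smul_eq ?_
      have hr₀ : r ∈ Subgroup.normalizer (A₀ : Set G) :=
        Subgroup.centralizer_le_normalizer _ (hRle A₀ h₀.1 hr).2
      rw [hZ, conj_smul_commutator,
        conj_smul_eq_of_mem_normalizer (hYU (hRle A₀ h₀.1 hr).1),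
        conj_smul_eq_of_mem_normalizer hr₀]
    have hAZ : A ≤ Subgroup.normalizer (Z : Set G) := by
      intro a ha
      refine mem_normalizer_of_conj_smul_eq ?_
      rw [hZ, conj_smul_commutator, conj_smul_eq_of_mem_normalizer (hAU ha),
        conj_smul_eq_of_mem_normalizer (le_normalizer_of_centralizes hcommA h₀.1 ha)]
    by_cases hZ1 : Z = ⊥
    · left
      refine hdone A₀ h₀ (he ▸ sup_le (hXU.trans ?_) ((hRle A₀ h₀.1).trans inf_le_right))
      exact (Subgroup.commutator_eq_bot_iff_le_centralizer).1 hZ1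
    · right
      refine ⟨Z, hZ1, hZU.trans hUY.le, hAZ, hYZ, hsmall Z (lt_of_le_of_lt hZU hUY) hAZ ?_⟩
      refine le_antisymm (commutator_le_self_of_le_normalizer hAZ) ?_
      calc Z = ⁅Z, A₀⁆ := (commutator_commutator_eq hA₀U
            (coprime_of_le_left h₀.1 (hcop' hUY.le)) (Or.inr (isSolvable_of_le hUY.le))).symm
        _ ≤ ⁅Z, A⁆ := Subgroup.commutator_mono le_rfl h₀.1
  push_neg at hgen
  right
  set D := U ⊓ C ⊓ W with hD
  have hCX : Y ⊓ C ≤ Subgroup.normalizer (X : Set G) := by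
    intro c hc
    refine mem_normalizer_of_conj_smul_eq ?_
    rw [hX, conj_smul_commutator, conj_smul_eq_of_mem_normalizer (hYU hc.1),
      conj_smul_eq_of_mem_normalizer (Subgroup.centralizer_le_normalizer _ hc.2)]
  have hDX : D ≤ Subgroup.normalizer (X : Set G) := fun d hd =>
    hCX ⟨hUY.le hd.1.1, hd.1.2⟩
  have hmem : ∀ z ∈ X ⊔ D, ∃ x ∈ X, ∃ d ∈ D, z = x * d := by
    intro z hz
    rw [← SetLike.mem_coe, Subgroup.coe_mul_of_right_le_normalizer_left _ _ hDX] at hz
    obtain ⟨x, hx, d, hd, rfl⟩ := Set.mem_mul.1 hz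
    exact ⟨x, hx, d, hd, rfl⟩
  have hU0U : X ⊔ D ≤ U := sup_le hXU (inf_le_left.trans inf_le_left)
  have hA0 : A ≤ Subgroup.normalizer ((X ⊔ D : Subgroup G) : Set G) := by
    intro a ha
    refine mem_normalizer_of_conj_smul_eq ?_
    rw [Subgroup.smul_sup, conj_smul_eq_of_mem_normalizer (hAX ha),
      conj_smul_eq_of_mem_normalizer
        (le_normalizer_of_centralizes hfix (inf_le_left.trans inf_le_right) ha)]
  refine ⟨X ⊔ D, fun e => hUA (eq_bot_iff.2 (e ▸ le_sup_left)), hU0U.trans hUY.le, hA0, ?_, ?_⟩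
  · refine hgenY _ (fun A₀ h₀ => ?_) ?_
    · set R := part A A₀ Y with hR
      have hRY : R ≤ Y := (hRle A₀ h₀.1).trans inf_le_left
      have hAR : A ≤ Subgroup.normalizer (R : Set G) := Subgroup.normalizer_commutator_ge_right _ A
      have hRA : ⁅R, A⁆ = R :=
        commutator_commutator_eq (hCY A₀ h₀.1) (hcop' inf_le_left) (hsolv' inf_le_left)
      set T := X ⊔ R with hT
      have hTY : T < Y := lt_of_le_of_ne (sup_le (hXU.trans hUY.le) hRY) (hgen A₀ h₀)
      have hAT : A ≤ Subgroup.normalizer (T : Set G) := by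
        intro a ha
        refine mem_normalizer_of_conj_smul_eq ?_
        rw [hT, Subgroup.smul_sup, conj_smul_eq_of_mem_normalizer (hAX ha),
          conj_smul_eq_of_mem_normalizer (hAR ha)]
      have hTA : ⁅T, A⁆ = T := by
        refine le_antisymm (commutator_le_self_of_le_normalizer hAT) (sup_le ?_ ?_)
        · exact hXA ▸ Subgroup.commutator_mono le_sup_left le_rfl
        · exact hRA ▸ Subgroup.commutator_mono le_sup_right le_rfl
      have hTW := hsmall T hTY hAT hTA
      -- conjugates of `X` by `R`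
      have hXR : ∀ r ∈ R, ∀ x ∈ X, r * x * r⁻¹ ∈ X ⊔ D := by
        intro r hr x hx
        have ht : r * x * r⁻¹ ∈ U ⊓ T := ⟨conj_mem (hYU (hRY hr)) (hXU hx),
          T.mul_mem (T.mul_mem (Subgroup.mem_sup_right hr) (Subgroup.mem_sup_left hx))
            (T.inv_mem (Subgroup.mem_sup_right hr))⟩
        obtain ⟨y, hy, c, hc, e⟩ := exists_mul_fixed (le_normalizer_inf hAU hAT)
          (hcop' (inf_le_left.trans hUY.le)) (hsolv' (inf_le_left.trans hUY.le)) ht
        rw [e]
        exact mul_mem (Subgroup.mem_sup_left (Subgroup.commutator_mono inf_le_left le_rfl hy))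
          (Subgroup.mem_sup_right ⟨⟨hc.1.1, hc.2⟩, hTW ⟨hc.1.2, hc.2⟩⟩)
      rw [← hRA, Subgroup.commutator_le]
      intro r hr a ha
      refine mem_normalizer_of_forall fun z hz => ?_
      have hrR : ⁅r, a⁆ ∈ R := hRA ▸ Subgroup.commutator_mem_commutator hr ha
      obtain ⟨x, hx, d, hd, rfl⟩ := hmem z hz
      rw [show ⁅r, a⁆ * (x * d) * ⁅r, a⁆⁻¹ = ⁅r, a⁆ * x * ⁅r, a⁆⁻¹ * (⁅r, a⁆ * d * ⁅r, a⁆⁻¹) by group]
      refine mul_mem (hXR _ hrR x hx) ?_
      obtain ⟨y, hy, c, hc, e⟩ := exists_mul_fixed hAU (hcop' hUY.le) (hsolv' hUY.le)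
        (k := r⁻¹ * d * r) (by
          have := conj_mem (hYU (inv_mem (hRY hr))) hd.1.1
          simpa using this)
      have hda : a⁻¹ * d * a = d := by
        rw [mul_assoc, ← hfix a ha d hd.1.2, inv_mul_cancel_left]
      have hca : a * c * a⁻¹ = c := by rw [hfix a ha c hc.2, mul_inv_cancel_right]
      have key : ⁅r, a⁆ * d * ⁅r, a⁆⁻¹ = r * (a * y * a⁻¹ * y⁻¹) * r⁻¹ * d := by
        calc ⁅r, a⁆ * d * ⁅r, a⁆⁻¹ = r * a * (r⁻¹ * (a⁻¹ * d * a) * r) * a⁻¹ * r⁻¹ := by
              rw [commutatorElement_def]; group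
          _ = r * (a * y * a⁻¹) * (a * c * a⁻¹) * r⁻¹ := by rw [hda, e]; group
          _ = r * (a * y * a⁻¹ * y⁻¹) * r⁻¹ * (r * (y * c) * r⁻¹) := by rw [hca]; group
          _ = r * (a * y * a⁻¹ * y⁻¹) * r⁻¹ * d := by rw [← e]; group
      rw [key]
      exact mul_mem (hXR r hr _ (mul_mem (conj_mem (hAX ha) hy) (inv_mem hy)))
        (Subgroup.mem_sup_right hd)
    · intro c hc
      refine mem_normalizer_of_conj_smul_eq ?_
      rw [Subgroup.smul_sup, conj_smul_eq_of_mem_normalizer (hCX hc)]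
      congr 1
      rw [hD, Subgroup.smul_inf, Subgroup.smul_inf, conj_smul_eq_of_mem_normalizer (hYU hc.1),
        conj_smul_eq_of_mem_normalizer (Subgroup.le_normalizer hc.2)]
      congr 1
      rw [hW, fixedGen, conj_smul_iSup]
      refine iSup_congr fun A₀ => ?_
      rw [part, Subgroup.smul_inf, Subgroup.smul_inf,
        conj_smul_eq_of_mem_normalizer (Subgroup.le_normalizer hc.1),
        conj_smul_eq_of_mem_normalizer (Subgroup.le_normalizer hc.2)]
      congr 1
      rw [conj_smul_commutator, Subgroup.smul_inf,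
        conj_smul_eq_of_mem_normalizer (Subgroup.le_normalizer hc.1),
        conj_smul_eq_of_mem_normalizer (Subgroup.le_normalizer (centralizer_le_of_le A₀.2.1 hc.2)),
        conj_smul_eq_of_mem_normalizer (Subgroup.centralizer_le_normalizer _ hc.2)]
  · rintro z ⟨hz, hzC⟩
    obtain ⟨x, hx, d, hd, rfl⟩ := hmem z hz
    refine mul_mem (hXW ⟨hx, ?_⟩) hd.2
    have := C.mul_mem hzC (C.inv_mem hd.1.2)
    rwa [mul_inv_cancel_right] at this

/-- The statement, with solvability of `Y` as a hypothesis. -/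
theorem main {G : Type u} [Group G] [Finite G] (A B Y : Subgroup G) (hAc : IsMulCommutative A)
    (hB : B ≤ A) (hY : Group.IsSolvable Y) (hcop : (Nat.card A).Coprime (Nat.card Y))
    (hAY : A ≤ Subgroup.normalizer (Y : Set G)) (hYA : ⁅Y, A⁆ = Y) :
    Y ⊓ Subgroup.centralizer (B : Set G) = ⨆ B₀ : {B₀ : Subgroup G // B₀ ≤ B ∧
      ∀ [(B₀.subgroupOf B).Normal], IsCyclic (↥B ⧸ B₀.subgroupOf B)},
        Y ⊓ Subgroup.centralizer (B : Set G) ⊓ ⁅Y ⊓ Subgroup.centralizer ((B₀ : Subgroup G) : Set G), A⁆ := by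
  refine le_antisymm ?_ (iSup_le fun _ => inf_le_left)
  haveI := hY
  haveI := hAc
  have hcommA : ∀ x ∈ A, ∀ y ∈ A, x * y = y * x := fun x hx y hy =>
    congrArg Subtype.val (mul_comm' (⟨x, hx⟩ : A) ⟨y, hy⟩)
  set K := Y ⊓ Subgroup.centralizer (B : Set G) with hK
  have hAK : A ≤ Subgroup.normalizer (K : Set G) := by
    refine le_normalizer_inf hAY (le_trans ?_ Subgroup.le_normalizer)
    intro a ha
    exact Subgroup.mem_centralizer_iff.2 fun b hb => hcommA b (hB hb) a ha
  intro k hk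
  obtain ⟨x, hx, c, hc, rfl⟩ := exists_mul_fixed hAK (coprime_of_le_right inf_le_left hcop)
    (Or.inr (isSolvable_of_le inf_le_left)) hk
  refine mul_mem ?_ ?_
  · have hcyc : ∀ [(B.subgroupOf B).Normal], IsCyclic (↥B ⧸ B.subgroupOf B) := by
      intro _
      haveI : Subsingleton (↥B ⧸ B.subgroupOf B) := ⟨fun p q => by
        obtain ⟨p, rfl⟩ := QuotientGroup.mk_surjective p
        obtain ⟨q, rfl⟩ := QuotientGroup.mk_surjective q
        exact QuotientGroup.eq.2 (Subgroup.mem_subgroupOf.2 (p⁻¹ * q).2)⟩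
      infer_instance
    have hxK : x ∈ K ⊓ ⁅K, A⁆ := ⟨commutator_le_self_of_le_normalizer hAK hx, hx⟩
    exact le_iSup (fun B₀ : {B₀ : Subgroup G // B₀ ≤ B ∧
      ∀ [(B₀.subgroupOf B).Normal], IsCyclic (↥B ⧸ B₀.subgroupOf B)} =>
        Y ⊓ Subgroup.centralizer (B : Set G) ⊓
          ⁅Y ⊓ Subgroup.centralizer ((B₀ : Subgroup G) : Set G), A⁆) ⟨B, le_rfl, hcyc⟩ hxK
  · refine (le_trans (inf_centralizer_le_fixedGen _ G A Y rfl hAc hY hAY hcop hYA) ?_)
      ⟨hc.1.1, hc.2⟩
    refine iSup_le fun ⟨A₀, h₀, g, hg, hgen⟩ => ?_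
    haveI : ∀ H : Subgroup G, (H.subgroupOf A).Normal := fun H =>
      ⟨fun n hn a => by rwa [mul_comm' a n, mul_inv_cancel_right]⟩
    have hcyc : IsCyclic (A ⧸ A₀.subgroupOf A) := by
      refine ⟨⟨QuotientGroup.mk (⟨g, hg⟩ : A), fun q => ?_⟩⟩
      obtain ⟨⟨a, ha⟩, rfl⟩ := QuotientGroup.mk_surjective q
      have hmem := hgen ha
      rw [← SetLike.mem_coe, Subgroup.coe_mul_of_right_le_normalizer_left _ _
        (le_normalizer_of_centralizes (fun x hx y hy =>
          hcommA x (Subgroup.zpowers_le.2 hg hx) y hy) h₀)] at hmem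
      obtain ⟨b, hb, z, hz, hbz⟩ := Set.mem_mul.1 hmem
      obtain ⟨k, rfl⟩ := Subgroup.mem_zpowers_iff.1 hz
      refine Subgroup.mem_zpowers_iff.2 ⟨k, ?_⟩
      rw [← QuotientGroup.mk_zpow, QuotientGroup.eq, Subgroup.mem_subgroupOf, Subgroup.coe_mul,
        Subgroup.coe_inv, Subgroup.coe_zpow]
      show (g ^ k)⁻¹ * a ∈ A₀
      rw [← hbz, hcommA b (h₀ hb) _ (zpow_mem hg k), inv_mul_cancel_left]
      exact hb
    refine le_iSup_of_le ⟨A₀ ⊓ B, inf_le_right, fun {hn} => ?_⟩ ?_
    · let f : B →* A ⧸ A₀.subgroupOf A :=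
        (QuotientGroup.mk' (A₀.subgroupOf A)).comp (Subgroup.inclusion hB)
      have hker : f.ker = (A₀ ⊓ B).subgroupOf B := by
        ext b
        rw [MonoidHom.mem_ker, Subgroup.mem_subgroupOf]
        exact ⟨fun h => ⟨(QuotientGroup.eq_one_iff (Subgroup.inclusion hB b)).1 h, b.2⟩,
          fun h => (QuotientGroup.eq_one_iff (Subgroup.inclusion hB b)).2 h.1⟩
      exact isCyclic_of_injective
        ((QuotientGroup.kerLift f).comp (QuotientGroup.quotientMulEquivOfEq hker).symm.toMonoidHom)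
        ((QuotientGroup.kerLift_injective f).comp (MulEquiv.injective _))
    · refine inf_le_inf (inf_le_inf_left _ (centralizer_le_of_le hB)) ?_
      exact Subgroup.commutator_mono (inf_le_inf_left _ (centralizer_le_of_le inf_le_left)) le_rfl

end Cfsg.Agent.CoprimeFixedGen56
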