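import Cfsg.Agent.Lib.PGroupsCyclic
import Cfsg.Agent.Lib.CoprimeAction
import Cfsg.Agent.Lib.SignalizerCoprime

set_option autoImplicit false

/-!
# Irreducible coprime action of an odd `p`-group: two fixed point subgroups never cover
-/

namespace Cfsg.CoprimeImprimitive

open Finset

variable {V : Type*} [CommGroup V]

/-- Fixed points of an automorphism. -/
def fix (g : MulAut V) : Subgroup V := MonoidHom.eqLocus g.toMonoidHom (MonoidHom.id V)

lemma mem_fix {g : MulAut V} {v : V} : v ∈ fix g ↔ g v = v := Iff.rfl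

lemma pow_apply_fixed {g : MulAut V} {v : V} (h : g v = v) : ∀ m : ℕ, (g ^ m) v = v
  | 0 => rfl
  | m + 1 => by rw [pow_succ, MulAut.mul_apply, h, pow_apply_fixed h m]

/-- Averaging over the powers of `x`. -/
def avg (x : MulAut V) (p : ℕ) (v : V) : V := ∏ k ∈ range p, (x ^ k) v

lemma avg_fixed {x : MulAut V} {p : ℕ} (hx : x ^ p = 1) (v : V) : x (avg x p v) = avg x p v := by
  unfold avg
  rw [map_prod]
  have h1 := prod_range_succ' (fun k => (x ^ k) v) p
  rw [prod_range_succ, hx] at h1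
  simp only [pow_zero] at h1
  have h2 := mul_right_cancel h1
  rw [h2]
  refine prod_congr rfl fun k _ => ?_
  rw [pow_succ']; rfl

lemma avg_map {x y c : MulAut V} (h : c * x * c⁻¹ = y) (p : ℕ) (v : V) :
    avg y p (c v) = c (avg x p v) := by
  unfold avg
  rw [map_prod]
  refine prod_congr rfl fun k _ => ?_
  rw [← MulAut.mul_apply, ← MulAut.mul_apply, ← h, conj_pow, inv_mul_cancel_right]

lemma eq_one_of_pow_eq_one [Finite V] {p : ℕ} (hp : p.Prime) (hV : ¬ p ∣ Nat.card V) {v : V}
    (h : v ^ p = 1) : v = 1 := by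
  rcases (Nat.dvd_prime hp).1 (orderOf_dvd_of_pow_eq_one h) with h1 | h1
  · exact orderOf_eq_one_iff.1 h1
  · exact absurd (h1 ▸ orderOf_dvd_natCard v) hV

section pair

variable {p : ℕ} [hp : Fact p.Prime] {e z : MulAut V} (he : e ^ p = 1) (hz : z ^ p = 1)
  (hez : Commute e z) (hfz : ∀ v, z v = v → v = 1)

include hz hfz in
lemma fix_pow_trivial {k : ℕ} (hk : ¬ p ∣ k) {v : V} (h : (z ^ k) v = v) : v = 1 := by
  obtain ⟨m, -, hm⟩ := Nat.exists_mul_mod_eq_one_of_coprime
    ((hp.out.coprime_iff_not_dvd.2 hk).symm) hp.out.one_lt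
  apply hfz
  have h1 := pow_apply_fixed h m
  rwa [← pow_mul, pow_eq_pow_mod (k * m) hz, hm, pow_one] at h1

include he hz hez hfz in
lemma prod_avg (v : V) : ∏ i ∈ range p, avg (e * z ^ i) p v = v ^ p := by
  unfold avg
  rw [prod_comm]
  rw [prod_eq_single_of_mem 0 (mem_range.2 hp.out.pos)]
  · simp
  · intro k hk hk0
    have hkp : ¬ p ∣ k := fun h => hk0 (Nat.eq_zero_of_dvd_of_lt h (mem_range.1 hk))
    have h1 : ∀ i : ℕ, ((e * z ^ i) ^ k) v = (e ^ k) (((z ^ k) ^ i) v) := by
      intro i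
      rw [(hez.pow_right i).mul_pow, MulAut.mul_apply, pow_right_comm]
    simp only [h1]
    rw [← map_prod]
    have h2 : ∏ i ∈ range p, ((z ^ k) ^ i) v = 1 := by
      refine fix_pow_trivial hz hfz hkp ?_
      exact avg_fixed (by rw [← pow_mul, mul_comm, pow_mul, hz, one_pow]) v
    rw [h2, map_one]

include he hz hez hfz in
lemma trivial_of_no_fixed [Finite V] (hV : ¬ p ∣ Nat.card V)
    (h : ∀ i : ℕ, ∀ v, (e * z ^ i) v = v → v = 1) (v : V) : v = 1 := by
  apply eq_one_of_pow_eq_one hp.out hV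
  rw [← prod_avg he hz hez hfz v]
  refine prod_eq_one fun i _ => h i _ (avg_fixed ?_ v)
  rw [(hez.pow_right i).mul_pow, he, ← pow_mul, mul_comm i p, pow_mul, hz, one_pow, one_mul]

include hz hez hfz in
lemma independent : ∀ s : Finset ℕ, (∀ i ∈ s, i < p) → ∀ w : ℕ → V,
    (∀ i ∈ s, (e * z ^ i) (w i) = w i) → ∏ i ∈ s, w i = 1 → ∀ i ∈ s, w i = 1 := by
  intro s
  induction s using Finset.induction with
  | empty => intro _ w _ _ i hi; exact absurd hi (notMem_empty i)
  | @insert j s hj ih =>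
    intro hs w hw hprod
    have hxx : ∀ a b : ℕ, Commute (e * z ^ a) (e * z ^ b) := fun a b =>
      ((Commute.refl e).mul_right (hez.pow_right b)).mul_left
        ((hez.pow_right a).symm.mul_right (Commute.pow_pow (Commute.refl z) a b))
    rw [prod_insert hj] at hprod
    have hall : ∀ i ∈ s, w i = 1 := by
      intro i hi
      have h1 := ih (fun i hi => hs i (mem_insert_of_mem hi))
        (fun i => (e * z ^ j) (w i) / w i) (fun i hi => by
          have hwi := hw i (mem_insert_of_mem hi)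
          have e1 : (e * z ^ i) ((e * z ^ j) (w i)) = (e * z ^ j) ((e * z ^ i) (w i)) :=
            DFunLike.congr_fun (hxx i j).eq (w i)
          rw [map_div, e1, hwi])
        (by
          rw [prod_div_distrib, ← map_prod]
          have h2 : ∏ x ∈ s, w x = (w j)⁻¹ := eq_inv_of_mul_eq_one_right hprod
          rw [h2, map_inv, hw j (mem_insert_self j s), div_self']) i hi
      have hwi := hw i (mem_insert_of_mem hi)
      have hwj : (e * z ^ j) (w i) = w i := div_eq_one.1 h1
      rw [MulAut.mul_apply] at hwi hwj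
      have h3 : (z ^ i) (w i) = (z ^ j) (w i) := e.injective (hwi.trans hwj.symm)
      have hne : i ≠ j := fun h => hj (h ▸ hi)
      have hip := hs i (mem_insert_of_mem hi)
      have hjp := hs j (mem_insert_self j s)
      have h4 : (z ^ (p - i)) ((z ^ i) (w i)) = (z ^ (p - i)) ((z ^ j) (w i)) := by rw [h3]
      rw [← MulAut.mul_apply, ← pow_add, Nat.sub_add_cancel hip.le, hz, ← MulAut.mul_apply,
        ← pow_add] at h4
      refine fix_pow_trivial hz hfz (k := p - i + j) ?_ h4.symm
      intro hd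
      obtain ⟨q, hq⟩ := hd
      rcases q with _ | _ | q
      · omega
      · omega
      · have : p * 2 ≤ p * (q + 1 + 1) := Nat.mul_le_mul_left p (by omega)
        omega
    intro i hi
    rcases mem_insert.1 hi with rfl | hi
    · rwa [prod_eq_one hall, mul_one] at hprod
    · exact hall i hi

include he hz hez hfz in
lemma bound [Finite V] (hV : ¬ p ∣ Nat.card V) {c : MulAut V} {k : ℕ} (hk : ¬ p ∣ k)
    (hc : c * e * c⁻¹ = e * z ^ k) (hcz : Commute c z) :
    Nat.card (fix c) ≤ Nat.card (fix e) ∧ Nat.card (fix e) ^ p ≤ Nat.card V := by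
  have hconj : ∀ m : ℕ, c ^ m * e * (c ^ m)⁻¹ = e * z ^ (m * k) := by
    intro m
    induction m with
    | zero => simp
    | succ m ih =>
      calc c ^ (m + 1) * e * (c ^ (m + 1))⁻¹ = c * (c ^ m * e * (c ^ m)⁻¹) * c⁻¹ := by
            rw [pow_succ']; group
        _ = (c * e * c⁻¹) * (c * z ^ (m * k) * c⁻¹) := by rw [ih]; group
        _ = e * z ^ ((m + 1) * k) := by
            rw [hc, (hcz.pow_right (m * k)).eq, mul_inv_cancel_right, mul_assoc, ← pow_add]
            congr 2
            ring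
  have hsol : ∀ i : ℕ, ∃ m : ℕ, z ^ i = z ^ (m * k) := by
    intro i
    obtain ⟨m, -, hm⟩ := Nat.exists_mul_mod_eq_one_of_coprime
      ((hp.out.coprime_iff_not_dvd.2 hk).symm) hp.out.one_lt
    refine ⟨i * m, ?_⟩
    rw [pow_eq_pow_mod (i * m * k) hz, show i * m * k = i * (k * m) by ring, Nat.mul_mod, hm,
      mul_one, Nat.mod_mod, ← pow_eq_pow_mod i hz]
  constructor
  · let f : fix c → fix e := fun v => ⟨avg e p v.1, avg_fixed he v.1⟩
    refine Nat.card_le_card_of_injective f ?_
    intro a b hab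
    have h0 : avg e p a.1 = avg e p b.1 := congrArg Subtype.val hab
    apply Subtype.ext
    have hall : ∀ i, avg (e * z ^ i) p a.1 = avg (e * z ^ i) p b.1 := by
      intro i
      obtain ⟨m, hm⟩ := hsol i
      rw [hm]
      have ea := avg_map (hconj m) p a.1
      have eb := avg_map (hconj m) p b.1
      rw [pow_apply_fixed a.2 m] at ea
      rw [pow_apply_fixed b.2 m] at eb
      rw [ea, eb, h0]
    have hq : (a.1 / b.1) ^ p = 1 := by
      rw [div_pow, ← prod_avg he hz hez hfz a.1, ← prod_avg he hz hez hfz b.1, div_eq_one]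
      exact prod_congr rfl fun i _ => hall i
    exact div_eq_one.1 (eq_one_of_pow_eq_one hp.out hV hq)
  · choose m hm using hsol
    let f : (Fin p → fix e) → V := fun w => ∏ i : Fin p, (c ^ m i) (w i).1
    have hf : Function.Injective f := by
      intro w w' h
      let u : ℕ → V := fun i =>
        if hi : i < p then (c ^ m i) ((w ⟨i, hi⟩).1 / (w' ⟨i, hi⟩).1) else 1
      have h1 : ∏ i ∈ range p, u i = 1 := by
        rw [← Fin.prod_univ_eq_prod_range]
        calc ∏ i : Fin p, u i = ∏ i : Fin p, (c ^ m i) (w i).1 / (c ^ m i) (w' i).1 := by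
              refine prod_congr rfl fun i _ => ?_
              simp [u, map_div]
          _ = f w / f w' := prod_div_distrib _ _
          _ = 1 := by rw [h, div_self']
      funext i
      apply Subtype.ext
      have h2 := independent hz hez hfz (range p) (fun _ => mem_range.1) u (fun j hj => by
        have hjp := mem_range.1 hj
        simp only [u, dif_pos hjp]
        rw [hm j, ← hconj (m j), MulAut.mul_apply, MulAut.mul_apply, MulAut.inv_apply_self]
        congr 1
        rw [map_div, mem_fix.1 (w ⟨j, hjp⟩).2, mem_fix.1 (w' ⟨j, hjp⟩).2]) h1 i.1 (mem_range.2 i.2)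
      simp only [u, dif_pos i.2, map_eq_one_iff _ (MulEquiv.injective _), Fin.eta] at h2
      exact div_eq_one.1 h2
    have := Nat.card_le_card_of_injective f hf
    simpa [Nat.card_pi] using this

end pair

theorem no_cover [Finite V] [Nontrivial V] {p : ℕ} [hp : Fact p.Prime] (hp2 : p ≠ 2)
    (hV : ¬ p ∣ Nat.card V) (P : Subgroup (MulAut V)) (hP : IsPGroup p P) (hne : P ≠ ⊥)
    (hirr : ∀ W : Subgroup V, (∀ g ∈ P, ∀ v ∈ W, g v ∈ W) → W = ⊥ ∨ W = ⊤)
    (C D : Set (MulAut V)) (hC : Subgroup.closure C = P) (hD : Subgroup.closure D = P)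
    (h : ∀ c ∈ C, ∀ d ∈ D, ∀ v, ∃ u, c u = u ∧ d (u⁻¹ * v) = u⁻¹ * v) : False := by
  haveI : Finite (MulAut V) := Finite.of_injective (fun f => (f : V → V)) DFunLike.coe_injective
  have hcentral : ∀ x ∈ P, x ≠ 1 → (∀ g ∈ P, g * x = x * g) → ∀ v, x v = v → v = 1 := by
    intro x _ hx1 hxc v hv
    rcases hirr (fix x) (fun g hg w hw => by
      rw [mem_fix, ← MulAut.mul_apply, ← hxc g hg, MulAut.mul_apply, mem_fix.1 hw]) with h1 | h1
    · have : v ∈ fix x := hv
      rwa [h1] at this
    · exfalso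
      apply hx1
      ext w
      have : w ∈ fix x := h1 ▸ Subgroup.mem_top w
      exact this
  have hcov : ∀ c ∈ C, ∀ d ∈ D, Nat.card V ≤ Nat.card (fix c) * Nat.card (fix d) := by
    intro c hc d hd
    rw [← Nat.card_prod]
    refine Nat.card_le_card_of_surjective (fun q => q.1.1 * q.2.1) fun v => ?_
    obtain ⟨u, hu1, hu2⟩ := h c hc d hd v
    exact ⟨(⟨u, hu1⟩, ⟨u⁻¹ * v, hu2⟩), mul_inv_cancel_left u v⟩
  have hV1 : 1 < Nat.card V := Finite.one_lt_card
  have hnot : ∀ (S : Set (MulAut V)) (H : Subgroup (MulAut V)), Subgroup.closure S = P →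
      ¬ P ≤ H → ∃ s ∈ S, s ∈ P ∧ s ∉ H := by
    intro S H hS hH
    by_contra hcon
    push Not at hcon
    exact hH (hS ▸ (Subgroup.closure_le H).2 fun s hs =>
      hcon s hs (hS ▸ Subgroup.subset_closure hs))
  by_cases hcyc : IsCyclic P
  · have hcomm : ∀ x ∈ P, ∀ g ∈ P, g * x = x * g := by
      intro x hx g hg
      letI := hcyc.commGroup
      exact congrArg Subtype.val (mul_comm (⟨g, hg⟩ : P) ⟨x, hx⟩)
    obtain ⟨c, hc, hcP, hc1⟩ := hnot C ⊥ hC (fun h => hne (le_bot_iff.1 h))
    obtain ⟨d, hd, hdP, hd1⟩ := hnot D ⊥ hD (fun h => hne (le_bot_iff.1 h))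
    have hb : ∀ g ∈ P, g ∉ (⊥ : Subgroup (MulAut V)) → Nat.card (fix g) = 1 := by
      intro g hg hg1
      rw [Subgroup.card_eq_one, Subgroup.eq_bot_iff_forall]
      exact fun v hv => hcentral g hg (fun h => hg1 (h ▸ one_mem _)) (hcomm g hg) v hv
    have := hcov c hc d hd
    rw [hb c hcP hc1, hb d hdP hd1] at this
    omega
  obtain ⟨E, hEn, hEc, hEel⟩ := Cfsg.Agent.PGroupsCyclic.exists_normal_elementary_sq hP hp2 hcyc
  have hEp : ∀ x ∈ E, x ^ p = 1 := hEel.2
  haveI : Nontrivial E := Finite.one_lt_card_iff_nontrivial.1 (by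
    rw [hEc]; exact Nat.one_lt_pow two_ne_zero hp.out.one_lt)
  obtain ⟨z, hzE, hzc, hz1⟩ : ∃ z : P, z ∈ E ∧ z ∈ Subgroup.center P ∧ z ≠ 1 := by
    obtain ⟨x, hx, hx1⟩ := (E ⊓ Subgroup.center P).bot_or_exists_ne_one.resolve_left
      (Cfsg.Agent.PGroupsBasic.inf_center_ne_bot hP ((Subgroup.nontrivial_iff_ne_bot E).1 inferInstance))
    exact ⟨x, hx.1, hx.2, hx1⟩
  have hzord : orderOf z = p := orderOf_eq_prime (hEp z hzE) hz1
  obtain ⟨e, heE, hez'⟩ : ∃ e, e ∈ E ∧ e ∉ Subgroup.zpowers z := by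
    by_contra hcon
    push Not at hcon
    have := Subgroup.card_le_of_le (H := E) (K := Subgroup.zpowers z) hcon
    rw [hEc, Nat.card_zpowers, hzord] at this
    nlinarith [hp.out.two_le]
  have hzn : (Subgroup.zpowers z).Normal :=
    Cfsg.Agent.PGroupsBasic.normal_of_le_center (Subgroup.zpowers_le.2 hzc)
  have hconj : ∀ g : P, ∃ k : ℕ, g * e * g⁻¹ = e * z ^ k := by
    intro g
    have hQ : IsPGroup p (P ⧸ Subgroup.zpowers z) := hP.to_quotient _
    set M := E.map (QuotientGroup.mk' (Subgroup.zpowers z)) with hM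
    have hMn : M.Normal := hEn.map _ (QuotientGroup.mk'_surjective _)
    have hMc : Nat.card M = p := by
      set ψ := (QuotientGroup.mk' (Subgroup.zpowers z)).comp E.subtype
      have h1 : ψ.range = M := by rw [hM, MonoidHom.range_comp, Subgroup.range_subtype]
      have h2 : ψ.ker = (Subgroup.zpowers z).subgroupOf E := by
        ext x
        rw [MonoidHom.mem_ker, Subgroup.mem_subgroupOf]
        exact QuotientGroup.eq_one_iff _
      have h3 : Nat.card ψ.ker = p := by
        rw [h2, Nat.card_congr (Subgroup.subgroupOfEquivOfLe (Subgroup.zpowers_le.2 hzE)).toEquiv,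
          Nat.card_zpowers, hzord]
      have h4 := ψ.ker.card_eq_card_quotient_mul_card_subgroup
      rw [Nat.card_congr (QuotientGroup.quotientKerEquivRange ψ).toEquiv, h1, h3, hEc, sq] at h4
      exact (Nat.eq_of_mul_eq_mul_right hp.out.pos h4).symm
    have hcen : M ≤ Subgroup.center _ := by
      haveI : Nontrivial M := Finite.one_lt_card_iff_nontrivial.1 (by rw [hMc]; exact hp.out.one_lt)
      have h1 := Cfsg.Agent.PGroupsBasic.inf_center_ne_bot hQ
        ((Subgroup.nontrivial_iff_ne_bot M).1 inferInstance)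
      have h2 : Nat.card ↥(M ⊓ Subgroup.center _) ∣ p := by
        have := Subgroup.card_dvd_of_le (inf_le_left : M ⊓ Subgroup.center _ ≤ M)
        rwa [hMc] at this
      rcases (Nat.dvd_prime hp.out).1 h2 with h3 | h3
      · exact absurd (Subgroup.card_eq_one.1 h3) h1
      · exact inf_eq_left.1 (Subgroup.eq_of_le_of_card_ge inf_le_left (by rw [h3, hMc]))
    have h1 := Subgroup.mem_center_iff.1 (hcen ⟨e, heE, rfl⟩) (QuotientGroup.mk' _ g)
    rw [← map_mul, ← map_mul, QuotientGroup.mk'_eq_mk'] at h1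
    obtain ⟨y, hy, hye⟩ := h1
    obtain ⟨n, hn⟩ := (mem_powers_iff_mem_zpowers.2 (inv_mem hy) : y⁻¹ ∈ Submonoid.powers z)
    refine ⟨n, ?_⟩
    have hn' : z ^ n = y⁻¹ := hn
    rw [hn', mul_inv_eq_iff_eq_mul]
    have hyc : g * y⁻¹ = y⁻¹ * g :=
      Subgroup.mem_center_iff.1 (hn' ▸ pow_mem hzc n) g
    rw [mul_assoc e y⁻¹ g, ← hyc, ← mul_assoc, ← hye]
    simp
  set e' : MulAut V := (e : MulAut V) with he'
  set z' : MulAut V := (z : MulAut V) with hz'
  have he : e' ^ p = 1 := congrArg Subtype.val (hEp e heE)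
  have hz : z' ^ p = 1 := congrArg Subtype.val (hEp z hzE)
  have hez : Commute e' z' := congrArg Subtype.val (Subgroup.mem_center_iff.1 hzc e)
  have hfz : ∀ v, z' v = v → v = 1 := hcentral z' z.2 (fun h => hz1 (Subtype.ext h))
    (fun g hg => congrArg Subtype.val (Subgroup.mem_center_iff.1 hzc ⟨g, hg⟩))
  by_cases hecen : P ≤ Subgroup.centralizer {e'}
  · obtain ⟨v, hv⟩ := exists_ne (1 : V)
    refine hv (trivial_of_no_fixed he hz hez hfz hV (fun i w hw => ?_) v)
    refine hcentral (e' * z' ^ i) (mul_mem e.2 (pow_mem z.2 i)) ?_ ?_ w hw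
    · intro h1
      apply hez'
      have : e = (z ^ i)⁻¹ := eq_inv_of_mul_eq_one_left (Subtype.ext h1)
      rw [this]
      exact inv_mem (pow_mem (Subgroup.mem_zpowers z) i)
    · intro g hg
      have h1 : Commute g e' := Subgroup.mem_centralizer_singleton_iff.1 (hecen hg)
      have h2 : Commute g z' :=
        congrArg Subtype.val (Subgroup.mem_center_iff.1 hzc ⟨g, hg⟩)
      exact h1.mul_right (h2.pow_right i)
  · obtain ⟨c, hc, hcP, hce⟩ := hnot C _ hC hecen
    obtain ⟨d, hd, hdP, hde⟩ := hnot D _ hD hecen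
    have hb : ∀ g ∈ P, g ∉ Subgroup.centralizer {e'} →
        Nat.card (fix g) ≤ Nat.card (fix e') ∧ Nat.card (fix e') ^ p ≤ Nat.card V := by
      intro g hg hge
      obtain ⟨k, hk⟩ := hconj ⟨g, hg⟩
      have hk' : g * e' * g⁻¹ = e' * z' ^ k := congrArg Subtype.val hk
      refine bound he hz hez hfz hV (k := k) ?_ hk'
        (congrArg Subtype.val (Subgroup.mem_center_iff.1 hzc ⟨g, hg⟩))
      rintro ⟨q, rfl⟩
      rw [pow_mul, hz, one_pow, mul_one, mul_inv_eq_iff_eq_mul] at hk'
      exact hge (Subgroup.mem_centralizer_singleton_iff.2 hk')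
    have h1 := hb c hcP hce
    have h2 := (hb d hdP hde).1
    have h3 := (hcov c hc d hd).trans (Nat.mul_le_mul h1.1 h2)
    have hp3 : 3 ≤ p := by
      have := hp.out.two_le
      omega
    set w := Nat.card (fix e')
    rcases Nat.lt_or_ge w 2 with hw | hw
    · nlinarith
    · have : w * w < w ^ p := by
        calc w * w = w ^ 2 := (sq w).symm
          _ < w ^ p := Nat.pow_lt_pow_right (by omega) (by omega)
      omega

end Cfsg.CoprimeImprimitive
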