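import Mathlib
import Cfsg.Prelude.Def_Local
import Cfsg.Agent.Lib.CoprimeAction
import Cfsg.Agent.Lib.ComponentsBasic
import Cfsg.Agent.Lib.ComponentsCores
import Cfsg.Agent.Lib.FrobeniusNilpotent
import Cfsg.Agent.S0205
import Cfsg.Agent.S0227

/-!
`R` of prime order acts coprimely on `L` and on a perfect group `D = [D, R]` which normalises `L`.
If `D` centralises the fixed points of `R` in `L` then it centralises `L`.

The linear case is a hypothesis (`HHSProp`, a consequence of the Hall-Higman-Shult theorem).  For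
non-solvable `L` the reduction uses an invariant Sylow `2`-subgroup and Glauberman's theorem on
automorphisms centralising a Sylow `2`-subgroup.
-/

set_option autoImplicit false
set_option linter.style.haveILetI false

namespace Cfsg.Agent.CoprimeLayer44

open Subgroup Cfsg
open scoped Pointwise commutatorElement
open Cfsg.Agent.ComponentsBasic Cfsg.Agent.ComponentsCores Cfsg.Agent.CoprimeAction
open Cfsg.Agent.CoprimeSZ

universe u

/-- The linear case: a perfect `D = [D, R]` acting with `R` irreducibly on an elementary abelian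
group without fixed points of `R` acts trivially. -/
def HHSProp : Prop :=
  ∀ (X : Type u) [Group X] [Finite X] (V D R : Subgroup X) (q r : ℕ), q.Prime → r.Prime →
    V ≠ ⊥ → (∀ x ∈ V, ∀ y ∈ V, x * y = y * x) → (∀ x ∈ V, x ^ q = 1) →
    D ≤ normalizer (V : Set X) → R ≤ normalizer (V : Set X) → R ≤ normalizer (D : Set X) →
    ⁅D, D⁆ = D → ⁅D, R⁆ = D → Nat.card R = r → ¬ r ∣ Nat.card D →
    (∀ M : Subgroup X, M ≤ V → D ≤ normalizer (M : Set X) → R ≤ normalizer (M : Set X) →
      M = ⊥ ∨ M = V) →
    V ⊓ centralizer (R : Set X) = ⊥ → D ≤ centralizer (V : Set X)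

variable {X : Type u} [Group X]

/-- Conjugation by a normaliser element preserves centralisers. -/
lemma normalizer_le_centralizer_normalizer (H : Subgroup X) :
    normalizer (H : Set X) ≤ normalizer (centralizer (H : Set X) : Set X) := by
  refine le_normalizer_of_conj_mem fun a ha c hc => ?_
  rw [mem_centralizer_iff] at hc ⊢
  intro y hy
  have h1 := hc _ (conj_mem' ha hy)
  calc y * (a * c * a⁻¹) = a * ((a⁻¹ * y * a) * c) * a⁻¹ := by simp [mul_assoc]
    _ = a * (c * (a⁻¹ * y * a)) * a⁻¹ := by rw [h1]
    _ = a * c * a⁻¹ * y := by simp [mul_assoc]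

lemma norm_cen {A H : Subgroup X} (h : A ≤ normalizer (H : Set X)) :
    A ≤ normalizer (centralizer (H : Set X) : Set X) :=
  h.trans (normalizer_le_centralizer_normalizer H)

lemma cen_le_norm {A H : Subgroup X} (h : A ≤ centralizer (H : Set X)) :
    A ≤ normalizer (H : Set X) :=
  h.trans (centralizer_le_normalizer _)

lemma norm_norm {A H : Subgroup X} (h : A ≤ normalizer (H : Set X)) :
    A ≤ normalizer (normalizer (H : Set X) : Set X) :=
  h.trans le_normalizer

lemma norm_sup {A H K : Subgroup X} (hH : A ≤ normalizer (H : Set X))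
    (hK : A ≤ normalizer (K : Set X)) : A ≤ normalizer ((H ⊔ K : Subgroup X) : Set X) := by
  intro a ha
  rw [mem_normalizer_iff_map_conj_eq]
  have h1 := mem_normalizer_iff_map_conj_eq.mp (hH ha)
  have h2 := mem_normalizer_iff_map_conj_eq.mp (hK ha)
  rw [Subgroup.map_sup, h1, h2]

lemma sub_norm {A B N : Subgroup X} (h : A ≤ normalizer (B : Set X)) :
    A.subgroupOf N ≤ normalizer ((B.subgroupOf N : Subgroup N) : Set N) :=
  le_normalizer_of_conj_mem fun _ ha _ hb =>
    mem_subgroupOf.mpr (conj_mem (h (mem_subgroupOf.mp ha)) (mem_subgroupOf.mp hb))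

lemma map_norm {X' : Type*} [Group X'] (f : X →* X') {A B : Subgroup X}
    (h : A ≤ normalizer (B : Set X)) : A.map f ≤ normalizer ((B.map f : Subgroup X') : Set X') :=
  (map_mono h).trans (le_normalizer_map f)

/-- A perfect group inside `A ⊔ B` with `A` central in the relevant sense. -/
lemma le_of_sup_commutator {L W D : Subgroup X} {V : Subgroup X}
    (hW : W ≤ normalizer (L : Set X)) (hV : V ≤ normalizer (L : Set X))
    (hD : D ≤ ⁅L ⊔ W, V⁆) : D ≤ L ⊔ ⁅W, V⁆ := by
  set N := normalizer (L : Set X) with hN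
  haveI : (L.subgroupOf N).Normal := normal_subgroupOf_of_le_normalizer le_rfl
  set f := QuotientGroup.mk' (L.subgroupOf N)
  have hLN : L ≤ N := le_normalizer
  have hDN : D ≤ N :=
    hD.trans ((commutator_mono (sup_le hLN hW) hV).trans (commutator_le_self N))
  intro d hd
  have h1 : f ⟨d, hDN hd⟩ ∈ ⁅W.subgroupOf N, V.subgroupOf N⁆.map f := by
    have h2 : (⟨d, hDN hd⟩ : N) ∈ ⁅(L ⊔ W).subgroupOf N, V.subgroupOf N⁆ := by
      have h3 : ⁅(L ⊔ W).subgroupOf N, V.subgroupOf N⁆.map N.subtype = ⁅L ⊔ W, V⁆ := by
        rw [map_commutator, map_subgroupOf_eq_of_le (sup_le hLN hW), map_subgroupOf_eq_of_le hV]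
      obtain ⟨y, hy, hye⟩ := h3.symm ▸ hD hd
      rwa [← show y = ⟨d, hDN hd⟩ from Subtype.ext hye]
    have h4 := mem_map_of_mem f h2
    rw [map_commutator, subgroupOf_sup hLN hW, Subgroup.map_sup] at h4
    have h5 : (L.subgroupOf N).map f = ⊥ := by
      rw [Subgroup.map_eq_bot_iff, QuotientGroup.ker_mk']
    rw [h5, bot_sup_eq, ← map_commutator] at h4
    exact h4
  obtain ⟨w, hw, hwe⟩ := h1
  have h6 : w⁻¹ * (⟨d, hDN hd⟩ : N) ∈ L.subgroupOf N := QuotientGroup.eq.mp hwe
  have h7 : (w : X) ∈ ⁅W, V⁆ := by
    have h8 : ⁅W.subgroupOf N, V.subgroupOf N⁆.map N.subtype = ⁅W, V⁆ := by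
      rw [map_commutator, map_subgroupOf_eq_of_le hW, map_subgroupOf_eq_of_le hV]
    rw [← h8]
    exact mem_map_of_mem _ hw
  have e : d = (w : X) * ((w : X)⁻¹ * d) := by simp
  rw [e]
  exact mul_mem (mem_sup_right h7) (mem_sup_left (mem_subgroupOf.mp h6))

variable [Finite X]

/-- Frattini: `Y` normalising `L` is covered by `L` and the normaliser of a Sylow subgroup of `L`. -/
lemma frattini_cover {L Y : Subgroup X} (hY : Y ≤ normalizer (L : Set X)) (hLY : L ≤ Y)
    {p : ℕ} [Fact p.Prime] (P : Sylow p L) :
    Y ≤ L ⊔ (Y ⊓ normalizer (((P : Subgroup L).map L.subtype : Subgroup X) : Set X)) := by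
  intro y hy
  set T := (P : Subgroup L).map L.subtype with hT
  have hle : MulAut.conj y • T ≤ L := by
    intro x hx
    rw [mem_conj_smul] at hx
    have := conj_mem (hY hy) (map_subtype_le _ hx)
    simpa [mul_assoc] using this
  obtain ⟨Q, hQ⟩ := exists_sylow_map_eq hle (by rw [card_conj_smul, hT, card_map_sylow P])
  obtain ⟨l, hl⟩ := MulAction.exists_smul_eq L P Q
  have h1 : MulAut.conj (l : X) • T = MulAut.conj y • T := by
    rw [← hQ, ← hl, hT]
    exact (map_conj_smul L.subtype l (P : Subgroup L)).symm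
  have h2 : MulAut.conj ((l : X)⁻¹ * y) • T = T := by
    rw [conj_smul_mul, ← h1, ← conj_smul_mul, inv_mul_cancel, map_one, one_smul]
  have e : y = (l : X) * ((l : X)⁻¹ * y) := by simp
  rw [e]
  exact mul_mem (mem_sup_left l.2) (mem_sup_right
    ⟨Y.mul_mem (Y.inv_mem (hLY l.2)) hy, mem_normalizer_of_conj_smul_eq h2⟩)

/-- The main step: `D` centralises `L`. -/
theorem centralizes (hHHS : HHSProp.{u}) : ∀ (n : ℕ) (X : Type u) [Group X] [Finite X]
    (L D R : Subgroup X) (r : ℕ), Nat.card L ≤ n → r.Prime → Nat.card R = r →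
    ¬ r ∣ Nat.card (L ⊔ D : Subgroup X) → R ≤ normalizer (L : Set X) →
    R ≤ normalizer (D : Set X) → D ≤ normalizer (L : Set X) → ⁅D, D⁆ = D → ⁅D, R⁆ = D →
    D ≤ centralizer ((L ⊓ centralizer (R : Set X) : Subgroup X) : Set X) →
    D ≤ centralizer (L : Set X) := by
  intro n
  induction n using Nat.strong_induction_on with
  | h n IH =>
  intro X _ _ L D R r hn hr hR hcop hRL hRD hDL hDD hDR hfix
  haveI := Fact.mk hr
  have hcopL : ¬ r ∣ Nat.card L := fun h => hcop (h.trans (card_dvd_of_le le_sup_left))
  have hcopD : ¬ r ∣ Nat.card D := fun h => hcop (h.trans (card_dvd_of_le le_sup_right))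
  have copL : (Nat.card R).Coprime (Nat.card L) := by
    rw [hR]; exact hr.coprime_iff_not_dvd.mpr hcopL
  have hRsolv : Group.IsSolvable R := by
    have h1 : IsPGroup r R := IsPGroup.of_card (n := 1) (by rw [hR, pow_one])
    exact isSolvable_of_isPGroup h1
  -- smaller groups inside `X`
  have IH' : ∀ M : Subgroup X, M < L → R ≤ normalizer (M : Set X) → D ≤ normalizer (M : Set X) →
      D ≤ centralizer (M : Set X) := by
    intro M hM hRM hDM
    refine IH (Nat.card M) (lt_of_lt_of_le ?_ hn) X M D R r le_rfl hr hR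
      (fun h => hcop (h.trans (card_dvd_of_le (sup_le_sup_right hM.le _)))) hRM hRD hDM hDD hDR
      (hfix.trans (centralizer_le (inf_le_inf_right _ hM.le)))
    exact lt_of_le_of_ne (card_le_of_le hM.le)
      fun h => hM.ne (eq_of_le_of_card_ge hM.le h.ge)
  by_cases hM : ∃ M : Subgroup X, M < L ∧ M ≠ ⊥ ∧ L ≤ normalizer (M : Set X) ∧
      D ≤ normalizer (M : Set X) ∧ R ≤ normalizer (M : Set X)
  · -- an invariant normal subgroup
    obtain ⟨M, hML, hMne, hLM, hDM, hRM⟩ := hM
    have hMc := IH' M hML hRM hDM
    set N := normalizer (M : Set X) with hNdef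
    haveI : (M.subgroupOf N).Normal := normal_subgroupOf_of_le_normalizer le_rfl
    set f := QuotientGroup.mk' (M.subgroupOf N) with hf
    have hMN : M ≤ N := le_normalizer
    have hcardL : Nat.card (L.subgroupOf N) = Nat.card L :=
      Nat.card_congr (subgroupOfEquivOfLe hLM).toEquiv
    have hcardR : Nat.card (R.subgroupOf N) = r := by
      rw [Nat.card_congr (subgroupOfEquivOfLe hRM).toEquiv, hR]
    have hkey : (D.subgroupOf N).map f ≤
        centralizer (((L.subgroupOf N).map f : Subgroup _) : Set (N ⧸ M.subgroupOf N)) := by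
      refine IH (Nat.card ((L.subgroupOf N).map f)) ?_ _ _ _ ((R.subgroupOf N).map f) r le_rfl hr
        ?_ ?_ (map_norm f (sub_norm hRL)) (map_norm f (sub_norm hRD)) (map_norm f (sub_norm hDL))
        ?_ ?_ ?_
      · refine lt_of_lt_of_le ?_ (hcardL.le.trans hn)
        let g : L.subgroupOf N →* N ⧸ M.subgroupOf N := f.comp (L.subgroupOf N).subtype
        have hg : g.range = (L.subgroupOf N).map f := by
          rw [MonoidHom.range_eq_map, ← map_map, ← MonoidHom.range_eq_map, range_subtype]
        have h1 : Nat.card g.ker * Nat.card g.range = Nat.card (L.subgroupOf N) := by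
          rw [← index_ker, card_mul_index]
        obtain ⟨m, hm, hm1⟩ := (Subgroup.bot_or_exists_ne_one M).resolve_left hMne
        have h2 : g.ker ≠ ⊥ := fun hbot => by
          have hmem : (⟨⟨m, hMN hm⟩, mem_subgroupOf.mpr (hML.le hm)⟩ : L.subgroupOf N) ∈ g.ker :=
            (QuotientGroup.eq_one_iff _).mpr (mem_subgroupOf.mpr hm)
          rw [hbot, mem_bot] at hmem
          exact hm1 (congrArg (fun z : L.subgroupOf N => ((z : N) : X)) hmem)
        have h3 : 1 < Nat.card g.ker := by
          rw [← not_le, Subgroup.card_le_one_iff_eq_bot]; exact h2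
        rw [← hg, ← h1]
        have : 0 < Nat.card g.range := Nat.card_pos
        nlinarith
      · rcases (Nat.dvd_prime hr).mp (hcardR ▸ card_map_dvd (R.subgroupOf N) f) with h | h
        · exfalso
          rw [card_eq_one, Subgroup.map_eq_bot_iff, QuotientGroup.ker_mk'] at h
          have h1 : R ≤ M := fun x hx =>
            mem_subgroupOf.mp (h (show (⟨x, hRM hx⟩ : N) ∈ R.subgroupOf N from hx))
          exact hcopL (hR ▸ card_dvd_of_le (h1.trans hML.le))
        · exact h
      · rw [← Subgroup.map_sup]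
        intro h
        apply hcop
        have h1 := h.trans (card_map_dvd _ f)
        rw [← subgroupOf_sup hLM hDM, Nat.card_congr (subgroupOfEquivOfLe (sup_le hLM hDM)).toEquiv] at h1
        exact h1
      · rw [← map_commutator]
        congr 1
        apply map_injective N.subtype_injective
        rw [map_commutator, map_subgroupOf_eq_of_le hDM, hDD]
      · rw [← map_commutator]
        congr 1
        apply map_injective N.subtype_injective
        rw [map_commutator, map_subgroupOf_eq_of_le hDM, map_subgroupOf_eq_of_le hRM, hDR]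
      · rw [← map_inf_centralizer_eq f (sub_norm hRL) (by rwa [hcardR, hcardL, ← hR])
          (Or.inl (by
            have h1 : IsPGroup r (R.subgroupOf N) := IsPGroup.of_card (n := 1) (by rw [hcardR, pow_one])
            exact isSolvable_of_isPGroup h1))]
        rintro _ ⟨d, hd, rfl⟩
        rw [mem_centralizer_iff]
        rintro _ ⟨x, ⟨hxL, hxC⟩, rfl⟩
        rw [← map_mul, ← map_mul]
        congr 1
        apply Subtype.ext
        refine mem_centralizer_iff.mp (hfix hd) (x : X) ⟨hxL, mem_centralizer_iff.mpr fun a ha => ?_⟩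
        exact congrArg Subtype.val (mem_centralizer_iff.mp hxC ⟨a, hRM ha⟩ ha)
    have hLDM : ⁅L, D⁆ ≤ M := by
      rw [commutator_le]
      intro l hl d hd
      have h1 := mem_centralizer_iff.mp (hkey (mem_map_of_mem f (show (⟨d, hDM hd⟩ : N) ∈ _ from hd)))
        _ (mem_map_of_mem f (show (⟨l, hLM hl⟩ : N) ∈ _ from hl))
      have h2 : f ⁅(⟨l, hLM hl⟩ : N), ⟨d, hDM hd⟩⁆ = 1 := by
        rw [map_commutatorElement, commutatorElement_eq_one_iff_mul_comm]
        exact h1
      exact mem_subgroupOf.mp ((QuotientGroup.eq_one_iff _).mp h2)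
    have h3 : ⁅⁅L, D⁆, D⁆ = ⊥ := by
      rw [← le_bot_iff]
      refine (commutator_mono hLDM le_rfl).trans ?_
      rw [le_bot_iff, commutator_comm, commutator_eq_bot_iff_le_centralizer]
      exact hMc
    exact commutator_eq_bot_iff_le_centralizer.mp (commutator_eq_bot_of_perfect hDD h3)
  -- no invariant normal subgroup
  have irr : ∀ M : Subgroup X, M ≤ L → L ≤ normalizer (M : Set X) → D ≤ normalizer (M : Set X) →
      R ≤ normalizer (M : Set X) → M = ⊥ ∨ M = L := by
    intro M hML hLM hDM hRM
    by_contra! h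
    exact hM ⟨M, lt_of_le_of_ne hML h.2, h.1, hLM, hDM, hRM⟩
  have charM : ∀ (K : Subgroup L) [K.Characteristic], K = ⊥ ∨ K = ⊤ := by
    intro K _
    have hn' : normalizer (L : Set X) ≤ normalizer ((K.map L.subtype : Subgroup X) : Set X) :=
      normalizer_le_normalizer_map_subtype L K
    rcases irr (K.map L.subtype) (map_subtype_le K) (le_normalizer.trans hn') (hDL.trans hn')
        (hRL.trans hn') with h | h
    · exact Or.inl ((K.map_eq_bot_iff_of_injective L.subtype_injective).mp h)
    · refine Or.inr (map_injective L.subtype_injective ?_)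
      rw [h, ← MonoidHom.range_eq_map, range_subtype]
  by_cases hLbot : L = ⊥
  · intro d _
    rw [mem_centralizer_iff]
    intro x hx
    rw [hLbot, SetLike.mem_coe, mem_bot] at hx
    simp [hx]
  by_cases hsol : Group.IsSolvable L
  · -- elementary abelian
    have hab : commutator L = ⊥ := by
      rcases charM (commutator L) with h | h
      · exact h
      · exfalso
        obtain ⟨k, hk⟩ := (Group.isSolvable_def _).mp hsol
        have : derivedSeries L k = ⊤ := by
          clear hk
          induction k with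
          | zero => simp
          | succ k ih => rw [derivedSeries_succ, ih]; exact h
        rw [hk] at this
        haveI : Subsingleton L := Subgroup.subsingleton_iff.mp (subsingleton_of_bot_eq_top this)
        exact hLbot L.eq_bot_of_subsingleton
    have hcomm : ∀ x ∈ L, ∀ y ∈ L, x * y = y * x := by
      intro x hx y hy
      have h1 : ⁅(⟨x, hx⟩ : L), (⟨y, hy⟩ : L)⁆ = (1 : L) := by
        have := commutator_mem_commutator (mem_top (⟨x, hx⟩ : L)) (mem_top (⟨y, hy⟩ : L))
        rw [← _root_.commutator_def, hab, mem_bot] at this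
        exact this
      exact congrArg Subtype.val (commutatorElement_eq_one_iff_mul_comm.mp h1)
    obtain ⟨q, hq, hqd⟩ := Nat.exists_prime_and_dvd (n := Nat.card L)
      (fun h => hLbot (card_eq_one.mp h))
    haveI := Fact.mk hq
    let Ω : Subgroup X :=
      { carrier := {x | x ∈ L ∧ x ^ q = 1}
        one_mem' := ⟨L.one_mem, one_pow q⟩
        mul_mem' := fun {a b} ha hb => ⟨L.mul_mem ha.1 hb.1, by
          rw [(show Commute a b from hcomm a ha.1 b hb.1).mul_pow, ha.2, hb.2, one_mul]⟩
        inv_mem' := fun {a} ha => ⟨L.inv_mem ha.1, by rw [inv_pow, ha.2, inv_one]⟩ }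
    have hΩn : normalizer (L : Set X) ≤ normalizer (Ω : Set X) :=
      le_normalizer_of_conj_mem fun a ha x hx =>
        ⟨conj_mem ha hx.1, by rw [conj_pow, hx.2, mul_one, mul_inv_cancel]⟩
    have hΩ : Ω = L := by
      refine (irr Ω (fun x hx => hx.1) (le_normalizer.trans hΩn) (hDL.trans hΩn)
        (hRL.trans hΩn)).resolve_left fun h => ?_
      obtain ⟨x, hx⟩ := exists_prime_orderOf_dvd_card' (G := L) q hqd
      have h1 : (x : X) ∈ Ω := ⟨x.2, by
        have h4 := pow_orderOf_eq_one x
        rw [hx] at h4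
        exact congrArg Subtype.val h4⟩
      rw [h, mem_bot] at h1
      rw [OneMemClass.coe_eq_one.mp h1, orderOf_one] at hx
      exact hq.ne_one hx.symm
    by_cases hfx : L ⊓ centralizer (R : Set X) = ⊥
    · exact hHHS X L D R q r hq hr hLbot hcomm (fun x hx => by rw [← hΩ] at hx; exact hx.2) hDL hRL
        hRD hDD hDR hR hcopD
        (fun M hML hDM hRM => irr M hML (cen_le_norm fun l hl => mem_centralizer_iff.mpr
          fun m hm => hcomm m (hML hm) l hl) hDM hRM) hfx
    · have hLL : L ≤ normalizer ((L ⊓ centralizer (D : Set X) : Subgroup X) : Set X) :=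
        cen_le_norm fun l hl => mem_centralizer_iff.mpr fun m hm => hcomm m hm.1 l hl
      rcases irr (L ⊓ centralizer (D : Set X)) inf_le_left hLL
          (le_normalizer_inf hDL (norm_cen le_normalizer))
          (le_normalizer_inf hRL (norm_cen hRD)) with h | h
      · exact absurd (le_bot_iff.mp (h ▸ le_inf inf_le_left (le_centralizer_iff.mp hfix))) hfx
      · exact le_centralizer_iff.mp (h ▸ inf_le_right)
  -- `L` is not solvable
  have hO : ∀ K : Subgroup L, K.Normal → Odd (Nat.card K) → K = ⊥ := by
    intro K hK hodd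
    have hle : K ≤ pPrimeCore 2 L := by
      haveI := hK
      exact le_pPrimeCore' (Nat.coprime_two_right.mpr hodd)
    rcases charM (pPrimeCore 2 L) with h | h
    · exact le_bot_iff.mp (h ▸ hle)
    · exfalso
      have h1 := pPrimeCore_coprime (G := L) 2
      rw [h, card_top] at h1
      exact hsol (S0205.result (Nat.coprime_two_right.mp h1))
  have hZ : L ⊓ centralizer (L : Set X) = ⊥ := by
    rcases charM (center L) with h | h
    · rw [eq_bot_iff]
      rintro x ⟨hx, hxc⟩
      have : (⟨x, hx⟩ : L) ∈ center L :=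
        mem_center_iff.mpr fun y => Subtype.ext (mem_centralizer_iff.mp hxc y y.2)
      rw [h, mem_bot] at this
      exact mem_bot.mpr (congrArg Subtype.val this)
    · exfalso
      apply hsol
      exact Group.isSolvable_of_comm fun a b => (mem_center_iff.mp (h ▸ mem_top b) a)
  obtain ⟨P, hP⟩ := exists_invariant_sylow hRL copL (Or.inl hRsolv) 2
  set T := (P : Subgroup L).map L.subtype with hTdef
  have hTL : T ≤ L := map_subtype_le _
  have hTne : T ≠ L := by
    intro h
    apply hsol
    have h1 : IsPGroup 2 L := h ▸ P.2.map L.subtype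
    exact isSolvable_of_isPGroup h1
  have hTlt : T < L := lt_of_le_of_ne hTL hTne
  set Y := L ⊔ D
  have hYL : Y ≤ normalizer (L : Set X) := sup_le le_normalizer hDL
  have hRY : R ≤ normalizer (Y : Set X) := norm_sup hRL hRD
  -- a perfect subgroup covering `D` and centralising `T`
  obtain ⟨W, hWN, hWW, hDW, hWT⟩ : ∃ W : Subgroup X, W ≤ normalizer (L : Set X) ∧ ⁅W, W⁆ = W ∧
      D ≤ L ⊔ W ∧ W ≤ centralizer (T : Set X) := by
    by_cases hTfix : T ⊓ centralizer (R : Set X) = ⊥
    · obtain ⟨W, ⟨hWY, hRW, hDW⟩, hmin⟩ := (Set.toFinite {W : Subgroup X |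
          W ≤ Y ⊓ normalizer (T : Set X) ∧ R ≤ normalizer (W : Set X) ∧ D ≤ L ⊔ W}).exists_minimal
        ⟨_, le_rfl, le_normalizer_inf hRY (norm_norm hP),
          le_sup_right.trans (frattini_cover hYL le_sup_left P)⟩
      have hWN : W ≤ normalizer (L : Set X) := (hWY.trans inf_le_left).trans hYL
      have hWW : ⁅W, W⁆ = W := by
        refine le_antisymm (commutator_le_self W) (hmin ⟨(commutator_le_self W).trans hWY, ?_, ?_⟩
          (commutator_le_self W))
        · intro a ha
          rw [mem_normalizer_iff_map_conj_eq, map_commutator,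
            mem_normalizer_iff_map_conj_eq.mp (hRW ha)]
        · have h1 : D ≤ ⁅L ⊔ W, L ⊔ W⁆ := by
            conv_lhs => rw [← hDD]
            exact commutator_mono hDW hDW
          have h2 := le_of_sup_commutator hWN (sup_le le_normalizer hWN) h1
          refine h2.trans (sup_le le_sup_left ?_)
          rw [commutator_comm]
          exact le_of_sup_commutator hWN hWN le_rfl
      have hWR : ⁅W, R⁆ = W := by
        refine le_antisymm (commutator_le_self_of_le_normalizer hRW)
          (hmin ⟨(commutator_le_self_of_le_normalizer hRW).trans hWY,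
            normalizer_commutator_ge_right W R, ?_⟩ (commutator_le_self_of_le_normalizer hRW))
        refine le_of_sup_commutator hWN hRL ?_
        conv_lhs => rw [← hDR]
        exact commutator_mono hDW le_rfl
      refine ⟨W, hWN, hWW, hDW, ?_⟩
      refine IH (Nat.card T) (lt_of_lt_of_le ?_ hn) X T W R r le_rfl hr hR ?_ hP hRW
        (hWY.trans inf_le_right) hWW hWR ?_
      · exact lt_of_le_of_ne (card_le_of_le hTL) fun h => hTne (eq_of_le_of_card_ge hTL h.ge)
      · exact fun h => hcop (h.trans (card_dvd_of_le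
          (sup_le (hTL.trans le_sup_left) (hWY.trans inf_le_left))))
      · rw [hTfix]
        intro w _
        rw [mem_centralizer_iff]
        intro x hx
        rw [SetLike.mem_coe, mem_bot] at hx
        simp [hx]
    · refine ⟨D, hDL, hDD, le_sup_right, ?_⟩
      set P0 := T ⊓ centralizer (D : Set X) with hP0
      have hP0ne : P0 ≠ ⊥ := fun h => hTfix (le_bot_iff.mp (h ▸ le_inf inf_le_left
        (le_centralizer_iff.mp (hfix.trans (centralizer_le (inf_le_inf_right _ hTL))))))
      by_contra hne
      have hlt : P0 < T := lt_of_le_of_ne inf_le_left fun h =>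
        hne (le_centralizer_iff.mp (h ▸ inf_le_right))
      have hDP0 : D ≤ normalizer (P0 : Set X) :=
        cen_le_norm (le_centralizer_iff.mp inf_le_right)
      have hRP0 : R ≤ normalizer (P0 : Set X) := le_normalizer_inf hP (norm_cen hRD)
      set M := L ⊓ normalizer (P0 : Set X) with hMdef
      have hMlt : M < L := lt_of_le_of_ne inf_le_left fun h => by
        rcases irr P0 (inf_le_left.trans hTL) (h ▸ inf_le_right) hDP0 hRP0 with h1 | h1
        · exact hP0ne h1
        · exact absurd (h1 ▸ inf_le_left : L ≤ T) (fun hle => hTne (le_antisymm hTL hle))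
      have hMc := IH' M hMlt (le_normalizer_inf hRL (norm_norm hRP0))
        (le_normalizer_inf hDL (norm_norm hDP0))
      have hTp : IsPGroup 2 T := P.2.map L.subtype
      haveI := hTp.isNilpotent
      have hlt' : P0.subgroupOf T < ⊤ :=
        lt_top_iff_ne_top.mpr fun h => not_le_of_gt hlt (subgroupOf_eq_top.mp h)
      obtain ⟨x, hx, hxn⟩ :=
        SetLike.exists_of_lt (normalizerCondition_of_isNilpotent (P0.subgroupOf T) hlt')
      apply hxn
      have hxM : (x : X) ∈ M := by
        refine ⟨hTL x.2, ?_⟩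
        refine mem_normalizer_iff.mpr fun y => ?_
        rw [mem_normalizer_iff] at hx
        constructor
        · intro hy
          exact (hx ⟨y, hlt.le hy⟩).mp hy
        · intro hy
          have hyT : y ∈ T := by
            have := T.mul_mem (T.mul_mem (T.inv_mem x.2) (hlt.le hy)) x.2
            simpa [mul_assoc] using this
          exact (hx ⟨y, hyT⟩).mpr hy
      exact mem_subgroupOf.mpr ⟨x.2, le_centralizer_iff.mp hMc hxM⟩
  -- `W` acts trivially
  have hWC : W ≤ centralizer (L : Set X) := by
    let Cfix : Subgroup (MulAut L) :=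
      { carrier := {φ | ∀ s : L, s ∈ (P : Subgroup L) → φ s = s}
        one_mem' := fun s _ => rfl
        mul_mem' := fun {a b} ha hb s hs => by
          rw [MulAut.mul_apply, hb s hs, ha s hs]
        inv_mem' := fun {a} ha s hs => by
          rw [MulAut.inv_apply, MulEquiv.symm_apply_eq, ha s hs] }
    haveI : Group.IsSolvable Cfix := (S0227.result hO P Cfix fun φ => Iff.rfl).2
    set N := normalizer (L : Set X)
    have himg : (W.subgroupOf N).map L.normalizerMonoidHom = ⊥ := by
      refine perfect_eq_bot_of_le_solvable (S := Cfix) ?_ ?_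
      · rw [← map_commutator]
        congr 1
        apply map_injective N.subtype_injective
        rw [map_commutator, map_subgroupOf_eq_of_le hWN, hWW]
      · rintro _ ⟨w, hw, rfl⟩ s hs
        apply Subtype.ext
        show (w : X) * s * (w : X)⁻¹ = s
        rw [mul_inv_eq_iff_eq_mul]
        exact (mem_centralizer_iff.mp (hWT hw) s (mem_map_of_mem L.subtype hs)).symm
    intro w hw
    rw [mem_centralizer_iff]
    intro x hx
    have h1 : L.normalizerMonoidHom ⟨w, hWN hw⟩ = 1 := by
      rw [← mem_bot, ← himg]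
      exact mem_map_of_mem _ hw
    have h2 : w * x * w⁻¹ = x := congrArg (fun φ : MulAut L => ((φ ⟨x, hx⟩ : L) : X)) h1
    exact (mul_inv_eq_iff_eq_mul.mp h2).symm
  have hDLC : D ≤ L ⊔ centralizer (L : Set X) := hDW.trans (sup_le_sup_left hWC _)
  set C := L ⊓ centralizer (R : Set X) with hC
  set K := L ⊓ centralizer (C : Set X) with hK
  have hDK : D ≤ normalizer (K : Set X) := le_normalizer_inf hDL (norm_cen (cen_le_norm hfix))
  have hRC : R ≤ normalizer (C : Set X) := le_normalizer_inf hRL (le_normalizer_centralizer_self R)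
  have hRK : R ≤ normalizer (K : Set X) := le_normalizer_inf hRL (norm_cen hRC)
  by_cases hKL : K = L
  · exfalso
    apply hsol
    have hC1 : C = ⊥ := le_bot_iff.mp (hZ ▸ le_inf inf_le_left
      (le_centralizer_iff.mp (hKL ▸ inf_le_right)))
    obtain ⟨a, ha⟩ := exists_prime_orderOf_dvd_card' (G := R) r (hR ▸ dvd_rfl)
    have haL : (a : X) ∈ normalizer (L : Set X) := hRL a.2
    have hgen : R ≤ zpowers (a : X) := by
      have h1 : zpowers (a : X) ≤ R := zpowers_le.mpr a.2
      refine (eq_of_le_of_card_ge h1 ?_).ge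
      rw [Nat.card_zpowers, orderOf_coe, ha, hR]
    haveI : Group.IsNilpotent L := FrobeniusNilpotent.isNilpotent_of_fpf
      (L.normalizerMonoidHom ⟨a, haL⟩) (fun x hx => by
        have h1 : (a : X) * x * (a : X)⁻¹ = x := congrArg Subtype.val hx
        have h2 : (x : X) ∈ C := by
          refine ⟨x.2, ?_⟩
          refine mem_centralizer_iff.mpr fun b hb => ?_
          obtain ⟨k, rfl⟩ := mem_zpowers_iff.mp (hgen hb)
          exact ((show Commute (a : X) x from mul_inv_eq_iff_eq_mul.mp h1).zpow_left k).eq
        rw [hC1, mem_bot] at h2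
        exact Subtype.ext h2) r hr (by
        rw [← map_pow, show (⟨(a : X), haL⟩ : normalizer (L : Set X)) ^ r = 1 from
          Subtype.ext (by
            show (a : X) ^ r = 1
            rw [← ha, ← orderOf_coe, pow_orderOf_eq_one]), map_one])
    infer_instance
  · have hKc := IH' K (lt_of_le_of_ne inf_le_left hKL) hRK hDK
    have hdec : ∀ d ∈ D, ∃ l ∈ K, ∃ c ∈ centralizer (L : Set X), d = l * c ∧
        l ∈ centralizer (K : Set X) := by
      intro d hd
      have h1 : d ∈ ((L ⊔ centralizer (L : Set X) : Subgroup X) : Set X) := hDLC hd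
      rw [Subgroup.coe_mul_of_left_le_normalizer_right _ _ (norm_cen le_normalizer)] at h1
      obtain ⟨l, hl, c, hc, rfl⟩ := h1
      have hlK : l ∈ centralizer (C : Set X) := by
        have h2 := mul_mem (hfix hd) (inv_mem (centralizer_le
          (inf_le_left : C ≤ L) hc))
        rwa [mul_inv_cancel_right] at h2
      refine ⟨l, ⟨hl, hlK⟩, c, hc, rfl, ?_⟩
      have h3 := mul_mem (hKc hd) (inv_mem (centralizer_le (inf_le_left : K ≤ L) hc))
      rwa [mul_inv_cancel_right] at h3
    rw [← hDD, commutator_le]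
    intro x hx y hy
    obtain ⟨l, hl, c, hc, rfl, hlc⟩ := hdec x hx
    obtain ⟨m, hm, e, he, rfl, hmc⟩ := hdec y hy
    have hcm : c * m = m * c := (mem_centralizer_iff.mp hc m hm.1).symm
    have hel : e * l = l * e := (mem_centralizer_iff.mp he l hl.1).symm
    have hlm : l * m = m * l := mem_centralizer_iff.mp hmc l hl
    have h4 : ⁅l * c, m * e⁆ = ⁅c, e⁆ := by
      have e1 : l * c * (m * e) = (l * m) * (c * e) := by
        rw [mul_assoc, ← mul_assoc c, hcm, mul_assoc, ← mul_assoc]
      have e2 : m * e * (l * c) = (l * m) * (e * c) := by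
        rw [mul_assoc, ← mul_assoc e, hel, mul_assoc, ← mul_assoc, ← hlm]
      have e3 : ⁅l * c, m * e⁆ = (l * c * (m * e)) * (m * e * (l * c))⁻¹ := by
        simp [commutatorElement_def, mul_assoc, mul_inv_rev]
      have hce : c * e * (e * c)⁻¹ ∈ centralizer (L : Set X) :=
        mul_mem (mul_mem hc he) (inv_mem (mul_mem he hc))
      have e4 : (l * m) * (c * e * (e * c)⁻¹) = (c * e * (e * c)⁻¹) * (l * m) :=
        mem_centralizer_iff.mp hce (l * m) (mul_mem hl.1 hm.1)
      rw [e3, e1, e2]
      calc l * m * (c * e) * (l * m * (e * c))⁻¹ =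
            (l * m) * (c * e * (e * c)⁻¹) * (l * m)⁻¹ := by simp [mul_assoc, mul_inv_rev]
        _ = c * e * (e * c)⁻¹ := by rw [e4, mul_inv_cancel_right]
        _ = ⁅c, e⁆ := by simp [commutatorElement_def, mul_assoc, mul_inv_rev]
    rw [h4]
    exact mul_mem (mul_mem (mul_mem hc he) (inv_mem hc)) (inv_mem he)

end Cfsg.Agent.CoprimeLayer44
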