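import Mathlib
import Cfsg.Agent.Lib.CoprimeLayer44Core
import Cfsg.Agent.Lib.ComponentsBalance
import Cfsg.Agent.Lib.ComponentsBender
import Cfsg.Agent.Lib.ComponentsCommutator

/-!
`R` of prime order acts coprimely on `G`.  Layers of `R C_G(R)`-invariant subgroups `H = [H, R]`,
and the trichotomy for a quasisimple subgroup whose `R C_G(R)`-conjugates commute.
-/

set_option autoImplicit false
set_option linter.style.haveILetI false

namespace Cfsg.Agent.CoprimeLayer44

open Subgroup Cfsg
open scoped Pointwise commutatorElement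
open Cfsg.Agent.ComponentsBasic Cfsg.Agent.ComponentsCores Cfsg.Agent.CoprimeAction
open Cfsg.Agent.ComponentsBalance Cfsg.Agent.ComponentsBender
open Cfsg.Agent.ComponentsCommutator (commutator_sSup_le)

universe u

variable {X : Type u} [Group X]

/-- Conjugate of a subgroup. -/
abbrev cj (g : X) (K : Subgroup X) : Subgroup X := K.map (MulAut.conj g).toMonoidHom

lemma cj_one (K : Subgroup X) : cj 1 K = K :=
  conj_map_of_mem_normalizer K (one_mem _)

lemma cj_le {A B : Subgroup X} {g : X} (hg : g ∈ normalizer (B : Set X)) (h : A ≤ B) :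
    cj g A ≤ B :=
  (map_mono h).trans (conj_map_of_mem_normalizer B hg).le

lemma mem_norm_of_cj {g : X} {K : Subgroup X} (h : cj g K = K) : g ∈ normalizer (K : Set X) :=
  mem_normalizer_iff_map_conj_eq.mpr h

lemma cj_inj {g : X} {A B : Subgroup X} (h : cj g A = cj g B) : A = B :=
  map_injective (f := (MulAut.conj g).toMonoidHom) (MulAut.conj g).injective h

/-! ### Components of a subgroup -/

lemma cof_qs {K H : Subgroup X} (h : IsComponentOf K H) : IsQuasisimple K :=
  isQuasisimple_of_mulEquiv (subgroupOfEquivOfLe h.1) h.2.2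

lemma cof_perfect {K H : Subgroup X} (h : IsComponentOf K H) : ⁅K, K⁆ = K :=
  isQuasisimple_perfect (cof_qs h)

lemma cof_map {H : Subgroup X} {C : Subgroup H} (h : IsComponent C) :
    IsComponentOf (C.map H.subtype) H := by
  refine ⟨map_subtype_le C, ?_⟩
  rwa [show (C.map H.subtype).subgroupOf H = C from comap_map_eq_self_of_injective
    H.subtype_injective C]

lemma comm_of_sub {A B H : Subgroup X} (hA : A ≤ H) (hB : B ≤ H)
    (h : ⁅A.subgroupOf H, B.subgroupOf H⁆ = ⊥) : ⁅A, B⁆ = ⊥ := by
  rw [← map_subgroupOf_eq_of_le hA, ← map_subgroupOf_eq_of_le hB, ← map_commutator, h,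
    Subgroup.map_bot]

lemma cof_le_or_commute {K H S : Subgroup X} (h : IsComponentOf K H) (hS : S ≤ H)
    (hsn : (S.subgroupOf H).IsSubnormal) : K ≤ S ∨ ⁅K, S⁆ = ⊥ := by
  rcases component_le_or_commute h.2 hsn with h1 | h1
  · exact Or.inl fun x hx => mem_subgroupOf.mp (h1 (mem_subgroupOf.mpr hx : (⟨x, h.1 hx⟩ : H) ∈ _))
  · exact Or.inr (comm_of_sub h.1 hS h1)

lemma cof_le_or_commute_normal {K H S : Subgroup X} (h : IsComponentOf K H) (hS : S ≤ H)
    (hn : H ≤ normalizer (S : Set X)) : K ≤ S ∨ ⁅K, S⁆ = ⊥ :=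
  cof_le_or_commute h hS (normal_subgroupOf_of_le_normalizer hn).isSubnormal

lemma cof_commute {K L H : Subgroup X} (hK : IsComponentOf K H) (hL : IsComponentOf L H)
    (hne : K ≠ L) : ⁅K, L⁆ = ⊥ :=
  comm_of_sub hK.1 hL.1 (components_commute hK.2 hL.2 fun h => hne <| by
    rw [← map_subgroupOf_eq_of_le hK.1, h, map_subgroupOf_eq_of_le hL.1])

lemma cof_norm {K L H : Subgroup X} (hK : IsComponentOf K H) (hL : IsComponentOf L H) :
    L ≤ normalizer (K : Set X) := by
  by_cases h : L = K
  · exact h ▸ le_normalizer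
  · exact cen_le_norm (commutator_eq_bot_iff_le_centralizer.mp (cof_commute hL hK h))

lemma cof_conj {K H : Subgroup X} (hK : IsComponentOf K H) {a : X}
    (ha : a ∈ normalizer (H : Set X)) : IsComponentOf (cj a K) H := by
  have h1 := cof_map (isComponent_map_mulEquiv (conjAutOfNormalizer H a ha) hK.2)
  rwa [map_map, show H.subtype.comp (conjAutOfNormalizer H a ha).toMonoidHom =
    (MulAut.conj a).toMonoidHom.comp H.subtype from rfl, ← map_map,
    map_subgroupOf_eq_of_le hK.1] at h1

lemma cof_of_normal {K H : Subgroup X} (hKH : K ≤ H) (hn : H ≤ normalizer (K : Set X))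
    (hq : IsQuasisimple K) : IsComponentOf K H :=
  ⟨hKH, (normal_subgroupOf_of_le_normalizer hn).isSubnormal,
    isQuasisimple_of_mulEquiv (subgroupOfEquivOfLe hKH).symm hq⟩

/-- The join of the components of `H` having a given property. -/
def compJoin (H : Subgroup X) (P : Subgroup X → Prop) : Subgroup X :=
  sSup {K | IsComponentOf K H ∧ P K}

lemma compJoin_le {H : Subgroup X} {P : Subgroup X → Prop} : compJoin H P ≤ H :=
  sSup_le fun _ hK => hK.1.1

lemma compJoin_perfect (H : Subgroup X) (P : Subgroup X → Prop) :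
    ⁅compJoin H P, compJoin H P⁆ = compJoin H P :=
  isPerfect_sSup _ fun _ hK => cof_perfect hK.1

lemma compJoin_norm {A H : Subgroup X} {P : Subgroup X → Prop}
    (hA : A ≤ normalizer (H : Set X)) (hP : ∀ a ∈ A, ∀ K, P K → P (cj a K)) :
    A ≤ normalizer (compJoin H P : Set X) := by
  refine le_normalizer_of_conj_mem fun a ha x hx => ?_
  have hle : compJoin H P ≤ (compJoin H P).comap (MulAut.conj a).toMonoidHom :=
    sSup_le fun K hK => map_le_iff_le_comap.mp
      (le_sSup ⟨cof_conj hK.1 (hA ha), hP a ha K hK.2⟩)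
  exact hle hx

lemma not_le_cj {a : X} {K S : Subgroup X} (ha : a ∈ normalizer (S : Set X)) (h : ¬ K ≤ S) :
    ¬ cj a K ≤ S := fun h1 => h <| by
  have h2 := cj_le (inv_mem ha) h1
  rwa [cj, cj, conj_map_map, inv_mul_cancel, ← cj, cj_one] at h2

lemma lay_le {H S : Subgroup X} (h : ∀ K, IsComponentOf K H → K ≤ S) : lay H ≤ S :=
  map_le_iff_le_comap.mpr (sSup_le fun C hC => map_le_iff_le_comap.mp (h _ (cof_map hC)))

lemma le_lay {K H : Subgroup X} (h : IsComponentOf K H) : K ≤ lay H := by
  rw [← map_subgroupOf_eq_of_le h.1]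
  exact map_mono (component_le_layer h.2)

lemma norm_lay {A H : Subgroup X} (h : A ≤ normalizer (H : Set X)) :
    A ≤ normalizer (lay H : Set X) :=
  h.trans (normalizer_le_normalizer_map_subtype H (layer H))

lemma lay_le_norm_comp {K H : Subgroup X} (h : IsComponentOf K H) :
    lay H ≤ normalizer (K : Set X) :=
  lay_le fun _ hL => cof_norm h hL

/-- A component is inside `[E, R]` or centralised by `R`. -/
lemma comp_le_comm {H E R K : Subgroup X} (hK : IsComponentOf K H) (hKE : K ≤ E) (hEH : E ≤ H)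
    (hHE : H ≤ normalizer (E : Set X)) (hRE : R ≤ normalizer (E : Set X)) :
    K ≤ ⁅E, R⁆ ∨ ⁅K, R⁆ = ⊥ := by
  have hD : ⁅E, R⁆ ≤ E := commutator_le_left_of_normalizes hRE
  have hsn : ((⁅E, R⁆).subgroupOf H).IsSubnormal :=
    isSubnormal_of_le_normalizer (K := E.subgroupOf H) (fun x hx => hD hx)
      (normal_subgroupOf_of_le_normalizer hHE).isSubnormal
      (sub_norm (normalizer_commutator_ge_left E R))
  refine (cof_le_or_commute hK (hD.trans hEH) hsn).imp id fun h1 => ?_
  refine commutator_eq_bot_of_perfect (cof_perfect hK) ?_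
  rw [← le_bot_iff, ← h1, commutator_comm K ⁅E, R⁆]
  refine commutator_mono ?_ le_rfl
  rw [commutator_comm]
  exact commutator_mono hKE le_rfl

/-- Two subgroups commuting modulo `W` have commutator in `W`. -/
lemma comm_mod {A B W : Subgroup X} (hA : A ≤ normalizer (W : Set X))
    (hB : B ≤ normalizer (W : Set X)) (h : ⁅A, B⁆ = ⊥) : ⁅W ⊔ A, W ⊔ B⁆ ≤ W := by
  refine (le_of_sup_commutator hA (sup_le le_normalizer hB) le_rfl).trans (sup_le le_rfl ?_)
  rw [commutator_comm]
  refine (le_of_sup_commutator hB hA le_rfl).trans (sup_le le_rfl ?_)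
  rw [commutator_comm, h]
  exact bot_le

/-- A normal subgroup of a quasisimple subgroup is everything or central. -/
lemma qs_dich {L S : Subgroup X} (hL : IsQuasisimple L) (hSL : S ≤ L)
    (hn : L ≤ normalizer (S : Set X)) : S = L ∨ S ≤ centralizer (L : Set X) := by
  haveI : (S.subgroupOf L).Normal := normal_subgroupOf_of_le_normalizer hn
  rcases normal_le_center_or_eq_top hL (S.subgroupOf L) with h1 | h1
  · refine Or.inr fun s hs => mem_centralizer_iff.mpr fun y hy => ?_
    exact congrArg Subtype.val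
      (mem_center_iff.mp (h1 (mem_subgroupOf.mpr hs : (⟨s, hSL hs⟩ : L) ∈ _)) ⟨y, hy⟩)
  · exact Or.inl (le_antisymm hSL (subgroupOf_eq_top.mp h1))

/-- A perfect subgroup commuting with itself is trivial. -/
lemma qs_not_abelian {L : Subgroup X} (hL : IsQuasisimple L) : ¬ ⁅L, L⁆ ≤ centralizer (L : Set X) := by
  intro h
  rw [isQuasisimple_perfect hL, ← commutator_eq_bot_iff_le_centralizer,
    isQuasisimple_perfect hL] at h
  exact isQuasisimple_ne_bot hL h

/-- Three subgroups: `[H, R]` centralises `E`. -/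
lemma comm_HR_bot {H R E : Subgroup X} (hHE : H ≤ normalizer (E : Set X)) (hER : ⁅E, R⁆ = ⊥) :
    ⁅⁅H, R⁆, E⁆ = ⊥ := by
  refine commutator_commutator_eq_bot_of_rotate ?_ ?_
  · rw [commutator_comm R E, hER, commutator_bot_left]
  · rw [← le_bot_iff, ← hER]
    exact commutator_mono (commutator_le_left_of_normalizes hHE) le_rfl

/-! ### The layer of `H` -/

variable [Finite X]

lemma prime_zpowers {R : Subgroup X} {r : ℕ} (hr : r.Prime) (hR : Nat.card R = r) {a : X}
    (ha : a ∈ R) (ha1 : a ≠ 1) : zpowers a = R := by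
  refine eq_of_le_of_card_ge (zpowers_le.mpr ha) ?_
  rw [hR, Nat.card_zpowers]
  rcases (Nat.dvd_prime hr).mp (hR ▸ orderOf_dvd_natCard R ha) with h | h
  · exact absurd (orderOf_eq_one_iff.mp h) ha1
  · exact h.ge

lemma prime_exists_gen {R : Subgroup X} {r : ℕ} (hr : r.Prime) (hR : Nat.card R = r) :
    ∃ a ∈ R, a ≠ 1 := by
  refine R.bot_or_exists_ne_one.resolve_left fun h => hr.ne_one ?_
  rw [← hR, h, card_bot]

lemma prime_self_cen {R : Subgroup X} {r : ℕ} (hr : r.Prime) (hR : Nat.card R = r) :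
    R ≤ centralizer (R : Set X) := by
  obtain ⟨a, ha, ha1⟩ := prime_exists_gen hr hR
  intro x hx
  rw [← prime_zpowers hr hR ha ha1] at hx
  refine mem_centralizer_iff.mpr fun y hy => ?_
  rw [← prime_zpowers hr hR ha ha1] at hy
  obtain ⟨i, rfl⟩ := mem_zpowers_iff.mp hx
  obtain ⟨j, rfl⟩ := mem_zpowers_iff.mp hy
  exact zpow_mul_comm a j i

lemma not_dvd_of_le {G A : Subgroup X} {r : ℕ} (hr : r.Prime)
    (hcop : (Nat.card G).Coprime r) (h : A ≤ G) : ¬ r ∣ Nat.card A := fun h1 =>
  hr.ne_one (Nat.dvd_one.mp (hcop ▸ Nat.dvd_gcd (h1.trans (card_dvd_of_le h)) dvd_rfl))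

lemma perfect_le_lay {K G : Subgroup X} (hK : ⁅K, K⁆ = K) (h : K ≤ fs G) : K ≤ lay G := by
  have hKG : K ≤ G := h.trans fs_le
  set K' := K.subgroupOf G with hK'
  have hp : ⁅K', K'⁆ = K' := by
    apply map_injective G.subtype_injective
    rw [map_commutator, map_subgroupOf_eq_of_le hKG, hK]
  have hle : K' ≤ layer G ⊔ fittingSubgroup G := fun x hx => by
    obtain ⟨y, hy, hxy⟩ := h (mem_subgroupOf.mp hx)
    rwa [← G.subtype_injective hxy]
  set f := QuotientGroup.mk' (layer G)
  have h1 : K'.map f ≤ (fittingSubgroup G).map f := by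
    refine (map_mono hle).trans ?_
    rw [Subgroup.map_sup, show (layer G).map f = ⊥ by
      rw [Subgroup.map_eq_bot_iff, QuotientGroup.ker_mk'], bot_sup_eq]
  haveI : Group.IsSolvable ((fittingSubgroup G).map f) :=
    Group.isSolvable_of_surjective (MonoidHom.subgroupMap_surjective f (fittingSubgroup G))
  have h2 := perfect_eq_bot_of_le_solvable (H := K'.map f) (by rw [← map_commutator, hp]) h1
  rw [Subgroup.map_eq_bot_iff, QuotientGroup.ker_mk'] at h2
  rw [← map_subgroupOf_eq_of_le hKG]
  exact map_mono h2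

/-- The layer of an invariant `H = [H, R]` lies in the layer of `G`. -/
theorem layer_le (hHHS : HHSProp.{u}) {G R H : Subgroup X} {r : ℕ} (hr : r.Prime)
    (hR : Nat.card R = r) (hcop : (Nat.card G).Coprime r)
    (hnorm : R ≤ normalizer (G : Set X)) (hHG : H ≤ G)
    (hHinv : R ⊔ (G ⊓ centralizer (R : Set X)) ≤ normalizer (H : Set X)) (hHR : ⁅H, R⁆ = H) :
    lay H ≤ lay G := by
  haveI := Fact.mk hr
  set T := fs G with hT
  have hTG : T ≤ G := fs_le
  have hNT : normalizer (G : Set X) ≤ normalizer (T : Set X) :=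
    normalizer_le_normalizer_map_subtype G _
  have hGT : G ≤ normalizer (T : Set X) := le_normalizer.trans hNT
  set E := compJoin H (fun K => ¬ K ≤ T) with hE
  have hEH : E ≤ H := compJoin_le
  have hRH : R ≤ normalizer (H : Set X) := le_sup_left.trans hHinv
  have hHE : H ≤ normalizer (E : Set X) :=
    compJoin_norm le_normalizer fun a ha K hK => not_le_cj (hGT (hHG ha)) hK
  have hRE : R ≤ normalizer (E : Set X) :=
    compJoin_norm hRH fun a ha K hK => not_le_cj (hNT (hnorm ha)) hK
  have hEp : ⁅E, E⁆ = E := compJoin_perfect _ _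
  have hEcT : ⁅H ⊓ T, E⁆ = ⊥ := by
    rw [commutator_eq_bot_iff_le_centralizer, le_centralizer_iff]
    refine sSup_le fun K hK => ?_
    rw [← commutator_eq_bot_iff_le_centralizer]
    exact (cof_le_or_commute_normal hK.1 inf_le_left
      (le_normalizer_inf le_normalizer (hHG.trans hGT))).resolve_left
        fun h => hK.2 (h.trans inf_le_right)
  have hEC : E ≤ centralizer ((T ⊓ centralizer (R : Set X) : Subgroup X) : Set X) := by
    rw [← commutator_eq_bot_iff_le_centralizer]
    refine commutator_eq_bot_of_perfect hEp ?_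
    rw [← le_bot_iff, ← hEcT]
    refine commutator_mono (le_inf ?_ ?_) le_rfl
    · rw [commutator_comm]
      refine (commutator_mono hEH le_rfl).trans (commutator_le_left_of_normalizes ?_)
      exact (inf_le_inf hTG le_rfl).trans (le_sup_right.trans hHinv)
    · exact (commutator_mono inf_le_left le_rfl).trans
        (commutator_le_left_of_normalizes ((hEH.trans hHG).trans hGT))
  set D := ⁅E, R⁆ with hD
  set E1 := compJoin H (fun K => K ≤ D) with hE1
  have hDE : D ≤ E := commutator_le_left_of_normalizes hRE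
  have hE1le : E1 ≤ D := sSup_le fun K hK => hK.2
  have hRD : R ≤ normalizer (D : Set X) := normalizer_commutator_ge_right E R
  have hE1n : R ≤ normalizer (E1 : Set X) :=
    compJoin_norm hRH fun a ha K hK => cj_le (hRD ha) hK
  have hDE1 : D ≤ E1 := by
    refine commutator_sSup_le (fun L hL => ?_) fun L hL => ?_
    · exact compJoin_norm (hL.1.1.trans le_normalizer) fun a ha K hK =>
        cj_le (normalizer_commutator_ge_left E R (le_sSup hL ha : a ∈ E)) hK
    · rcases comp_le_comm hL.1 (le_sSup hL) hEH hHE hRE with h1 | h1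
      · exact (commutator_mono (le_sSup (show L ∈ {K | IsComponentOf K H ∧ K ≤ D} from
          ⟨hL.1, h1⟩)) le_rfl).trans (commutator_le_left_of_normalizes hE1n)
      · rw [h1]
        exact bot_le
  have hDp : ⁅D, D⁆ = D := by
    rw [le_antisymm hDE1 hE1le]
    exact compJoin_perfect _ _
  have hsolv : Group.IsSolvable R := by
    obtain ⟨a, ha, ha1⟩ := prime_exists_gen hr hR
    rw [← prime_zpowers hr hR ha ha1]
    exact isSolvable_zpowers a
  have hDR : ⁅D, R⁆ = D := commutator_commutator_eq hRE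
    (hR ▸ (hcop.coprime_dvd_left (card_dvd_of_le (hEH.trans hHG))).symm) (Or.inl hsolv)
  have hDT : D ≤ centralizer (T : Set X) :=
    centralizes hHHS (Nat.card T) X T D R r le_rfl hr hR
      (not_dvd_of_le hr hcop (sup_le hTG ((hDE.trans hEH).trans hHG))) (hnorm.trans hNT) hRD
      (((hDE.trans hEH).trans hHG).trans hGT) hDp hDR (hDE.trans hEC)
  have hD0 : D = ⊥ := by
    haveI : Group.IsSolvable (fit G) := Group.isSolvable_of_surjective
      (MonoidHom.subgroupMap_surjective G.subtype (fittingSubgroup G))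
    exact perfect_eq_bot_of_le_solvable hDp
      ((le_inf ((hDE.trans hEH).trans hHG) hDT).trans inf_centralizer_fs_le)
  have hE0 : E = ⊥ := by
    have h1 := comm_HR_bot hHE hD0
    rw [hHR] at h1
    rw [← le_bot_iff, ← h1, ← hEp]
    exact commutator_mono hEH (by rw [hEp])
  refine lay_le fun K hK => perfect_le_lay (cof_perfect hK) ?_
  by_contra h
  have h1 : K ≤ E := le_sSup ⟨hK, h⟩
  rw [hE0, le_bot_iff] at h1
  exact isQuasisimple_ne_bot (cof_qs hK) h1

/-! ### The trichotomy -/

/-- The orbit of `K` under `A ≤ C(R)` is perfect, `[Q, R] = Q`, and consists of components. -/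
lemma orbit_facts {A K R : Subgroup X} (hK : IsQuasisimple K) (hRA : R ≤ A)
    (hAR : A ≤ centralizer (R : Set X))
    (hpw : ∀ g ∈ A, ∀ h ∈ A, cj g K = cj h K ∨ ⁅cj g K, cj h K⁆ = ⊥)
    (hKR : ⁅K, R⁆ ≠ ⊥) :
    (∀ g ∈ A, IsComponentOf (cj g K) (orbitSup A K)) ∧ ⁅orbitSup A K, orbitSup A K⁆ = orbitSup A K ∧
      ⁅orbitSup A K, R⁆ = orbitSup A K := by
  set Q := orbitSup A K with hQ
  have hcomp : ∀ g ∈ A, IsComponentOf (cj g K) Q := fun g hg => by
    refine cof_of_normal (le_iSup (fun g : A => cj (g : X) K) ⟨g, hg⟩) (iSup_le fun h => ?_)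
      (isQuasisimple_map_of_injective _ (MulAut.conj g).injective hK)
    rcases hpw h h.2 g hg with h1 | h1
    · exact h1.le.trans le_normalizer
    · exact cen_le_norm (commutator_eq_bot_iff_le_centralizer.mp h1)
  have hp : ⁅Q, Q⁆ = Q := isPerfect_sSup _ fun S hS => by
    obtain ⟨g, rfl⟩ := hS
    exact cof_perfect (hcomp g g.2)
  refine ⟨hcomp, hp, le_antisymm ?_ (iSup_le fun g => ?_)⟩
  · exact commutator_le_left_of_normalizes (hRA.trans (le_normalizer_orbitSup A K))
  · refine (comp_le_comm (hcomp g g.2) (hcomp g g.2).1 le_rfl le_normalizer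
      (hRA.trans (le_normalizer_orbitSup A K))).resolve_right fun h1 => hKR ?_
    have h2 : R.map (MulAut.conj (g : X)).toMonoidHom = R :=
      conj_map_of_mem_normalizer R (centralizer_le_normalizer _ (hAR g.2))
    apply map_injective (f := (MulAut.conj (g : X)).toMonoidHom) (MulAut.conj (g : X)).injective
    rw [map_commutator, h2, Subgroup.map_bot]
    exact h1

/-- Diagonal element of a commuting orbit. -/
lemma diag {L R M : Subgroup X} {r : ℕ} (hr : r.Prime) (hR : Nat.card R = r) {a : X}
    (ha : a ∈ R) (ha1 : a ≠ 1) (hM : ∀ i : ℕ, cj (a ^ i) L ≤ M)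
    (hcom : ∀ i : ℕ, 0 < i → i < r → cj (a ^ i) L ≤ centralizer (L : Set X)) {x : X}
    (hx : x ∈ L) :
    ∃ c ∈ M ⊓ centralizer (R : Set X), x⁻¹ * c ∈ centralizer (L : Set X) := by
  have hz := prime_zpowers hr hR ha ha1
  have har : a ^ r = 1 := by
    rw [← hR, ← hz, Nat.card_zpowers]
    exact pow_orderOf_eq_one a
  let p : ℕ → X := fun n => (x * a) ^ n * (a ^ n)⁻¹
  have hstep : ∀ n, p (n + 1) = p n * (a ^ n * x * (a ^ n)⁻¹) := fun n => by
    simp only [p, pow_succ]
    simp [mul_assoc]
  have hpM : ∀ n, p n ∈ M := by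
    intro n
    induction n with
    | zero => simp [p]
    | succ n ih =>
      rw [hstep]
      exact mul_mem ih (hM n (mem_map_of_mem _ hx))
  have hpc : ∀ n, 1 ≤ n → n ≤ r → x⁻¹ * p n ∈ centralizer (L : Set X) := by
    intro n h1
    induction n, h1 using Nat.le_induction with
    | base =>
      intro _
      simp [p, mul_assoc]
    | succ n h1 ih =>
      intro h2
      rw [hstep, ← mul_assoc]
      exact mul_mem (ih (by omega)) (hcom n (by omega) (by omega) (mem_map_of_mem _ hx))
  have hpr : p r = (x * a) ^ r := by simp [p, har]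
  have hxp := hpc r hr.one_lt.le le_rfl
  rw [hpr] at hxp
  have hcx : Commute ((x * a) ^ r) x := by
    have h2 : Commute x (x⁻¹ * (x * a) ^ r) := mem_centralizer_iff.mp hxp x hx
    have h3 := (Commute.refl x).mul_right h2
    rw [mul_inv_cancel_left] at h3
    exact h3.symm
  refine ⟨(x * a) ^ r, ⟨hpr ▸ hpM r, ?_⟩, hxp⟩
  have hca : Commute ((x * a) ^ r) a := by
    have h2 := hcx.inv_right.mul_right ((Commute.refl (x * a)).pow_left r)
    rwa [inv_mul_cancel_left] at h2
  refine mem_centralizer_iff.mpr fun y hy => ?_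
  rw [← hz] at hy
  obtain ⟨i, rfl⟩ := mem_zpowers_iff.mp hy
  exact (hca.zpow_right i).eq.symm

/-- `K` covers a component it does not centralise, modulo the centraliser of that component. -/
lemma cover {L K M C : Subgroup X} (hL : IsQuasisimple L) (hK : K ≤ M)
    (hLM : L ≤ M) (hMn : M ≤ normalizer (L : Set X))
    (hM : M ≤ L ⊔ (M ⊓ centralizer (L : Set X))) (hKL : ¬ K ≤ centralizer (L : Set X))
    (hCM : C ≤ M) (hdiag : ∀ x ∈ L, ∃ c ∈ C, x⁻¹ * c ∈ centralizer (L : Set X))
    (hpw : ∀ c ∈ C, cj c K = K ∨ ⁅K, cj c K⁆ = ⊥) :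
    L ≤ (M ⊓ centralizer (L : Set X)) ⊔ K := by
  set W := M ⊓ centralizer (L : Set X) with hW
  have hMW : M ≤ normalizer (W : Set X) := le_normalizer_inf le_normalizer (norm_cen hMn)
  set P := L ⊓ (W ⊔ K) with hP
  have hdec : ∀ y ∈ M, ∃ l ∈ L, ∃ w ∈ W, l * w = y := fun y hy => by
    have h1 : y ∈ (L : Set X) * (W : Set X) := by
      rw [← coe_mul_of_left_le_normalizer_right L W (hLM.trans hMW)]
      exact hM hy
    exact Set.mem_mul.mp h1
  have hPn : ∀ x ∈ L, cj x P ≤ normalizer (P : Set X) := by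
    intro x hx
    obtain ⟨c, hc, hxc⟩ := hdiag x hx
    have hxcW : x⁻¹ * c ∈ W := ⟨M.mul_mem (M.inv_mem (hLM hx)) (hCM hc), hxc⟩
    have e1 : cj x (W ⊔ K) = W ⊔ cj c K := by
      have h2 : cj (x⁻¹ * c) (W ⊔ K) = W ⊔ K :=
        conj_map_of_mem_normalizer _ (le_normalizer (mem_sup_left hxcW))
      conv_lhs => rw [← h2]
      rw [cj, cj, conj_map_map, mul_inv_cancel_left, Subgroup.map_sup,
        conj_map_of_mem_normalizer W (hMW (hCM hc))]
    have e2 : cj x P ≤ L ⊓ (W ⊔ cj c K) := by
      rw [← e1]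
      exact le_inf ((map_mono inf_le_left).trans (cj_le (le_normalizer hx) le_rfl))
        (map_mono inf_le_right)
    rcases hpw c hc with h1 | h1
    · rw [h1] at e2
      exact e2.trans le_normalizer
    · rw [le_normalizer_iff_commutator_le_left]
      refine (le_inf ?_ ?_ : ⁅P, cj x P⁆ ≤ L ⊓ W).trans (inf_le_inf le_rfl le_sup_left)
      · exact (commutator_mono inf_le_left (e2.trans inf_le_left)).trans (commutator_le_self L)
      · exact (commutator_mono inf_le_right (e2.trans inf_le_right)).trans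
          (comm_mod (hK.trans hMW) ((cj_le (le_normalizer (hCM hc)) hK).trans hMW) h1)
  have hQ : orbitSup L P ≤ L := iSup_le fun x => cj_le (le_normalizer x.2) inf_le_left
  rcases qs_dich hL hQ (le_normalizer_orbitSup L P) with h1 | h1
  · have h2 : L ≤ normalizer (P : Set X) := h1 ▸ iSup_le fun x : L => hPn x x.2
    rcases qs_dich hL inf_le_left h2 with h3 | h3
    · exact h3 ▸ inf_le_right
    · exact absurd h3 fun h3 => hKL fun k hk => by
        obtain ⟨l, hl, w, hw, rfl⟩ := hdec k (hK hk)
        have hlP : l ∈ P := ⟨hl, by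
          have := mul_mem (mem_sup_right hk : l * w ∈ W ⊔ K) (inv_mem (mem_sup_left hw))
          rwa [mul_inv_cancel_right] at this⟩
        exact mul_mem (h3 hlP) hw.2
  · exact absurd h1 fun h1 => hKL fun k hk => by
      obtain ⟨l, hl, w, hw, rfl⟩ := hdec k (hK hk)
      have hlP : l ∈ P := ⟨hl, by
        have := mul_mem (mem_sup_right hk : l * w ∈ W ⊔ K) (inv_mem (mem_sup_left hw))
        rwa [mul_inv_cancel_right] at this⟩
      exact mul_mem (h1 (le_orbitSup L P hlP)) hw.2

/-- `K` is a component of the centraliser, a component, or lies in an `R`-invariant component. -/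
theorem trichotomy (hHHS : HHSProp.{u}) {G R K : Subgroup X} {r : ℕ} (hr : r.Prime)
    (hR : Nat.card R = r) (hcop : (Nat.card G).Coprime r)
    (hnorm : R ≤ normalizer (G : Set X)) (hKG : K ≤ G) (hKq : IsQuasisimple K)
    (hcomm : ∀ g ∈ R ⊔ (G ⊓ centralizer (R : Set X)), cj g K ≠ K → ⁅K, cj g K⁆ = ⊥) :
    (K ≤ G ⊓ centralizer (R : Set X) ∧
        IsComponent (K.subgroupOf (G ⊓ centralizer (R : Set X)))) ∨
      IsComponent (K.subgroupOf G) ∨
      ∃ L : Subgroup X, L ≤ G ∧ IsComponent (L.subgroupOf G) ∧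
        (∀ a ∈ R, cj a L = L) ∧ K ≤ L := by
  set C := G ⊓ centralizer (R : Set X) with hC
  set A := R ⊔ C with hA
  have hKp : ⁅K, K⁆ = K := isQuasisimple_perfect hKq
  have hpw : ∀ g ∈ A, ∀ h ∈ A, cj g K = cj h K ∨ ⁅cj g K, cj h K⁆ = ⊥ := by
    intro g hg h hh
    by_cases h1 : cj (g⁻¹ * h) K = K
    · left
      conv_lhs => rw [← h1]
      rw [cj, cj, conj_map_map, mul_inv_cancel_left]
    · right
      have h2 := congrArg (Subgroup.map (MulAut.conj g).toMonoidHom)
        (hcomm _ (mul_mem (inv_mem hg) hh) h1)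
      rwa [map_commutator, Subgroup.map_bot, cj, conj_map_map, mul_inv_cancel_left] at h2
  have hpw1 : ∀ g ∈ A, cj g K = K ∨ ⁅K, cj g K⁆ = ⊥ := fun g hg => by
    by_cases h : cj g K = K
    · exact Or.inl h
    · exact Or.inr (hcomm g hg h)
  by_cases hKR : ⁅K, R⁆ = ⊥
  · left
    have hKC : K ≤ C := le_inf hKG (commutator_eq_bot_iff_le_centralizer.mp hKR)
    set Q := orbitSup C K with hQ
    have hQC : Q ≤ C := iSup_le fun g => cj_le (le_normalizer g.2) hKC
    have hQn : Q ≤ normalizer (K : Set X) := iSup_le fun g => by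
      rcases hpw1 g ((le_sup_right : C ≤ A) g.2) with h | h
      · exact h.le.trans le_normalizer
      · rw [commutator_comm, commutator_eq_bot_iff_le_centralizer] at h
        exact cen_le_norm h
    refine ⟨hKC, isSubnormal_of_le_normalizer (K := Q.subgroupOf C)
      (fun x hx => le_orbitSup C K hx)
      (normal_subgroupOf_of_le_normalizer (le_normalizer_orbitSup C K)).isSubnormal
      (sub_norm hQn), isQuasisimple_of_mulEquiv (subgroupOfEquivOfLe hKC).symm hKq⟩
  right
  have hRA : R ≤ A := le_sup_left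
  have hAR : A ≤ centralizer (R : Set X) := sup_le (prime_self_cen hr hR) inf_le_right
  have hAG : A ≤ normalizer (G : Set X) := sup_le hnorm (inf_le_left.trans le_normalizer)
  obtain ⟨hHc, -, hHR⟩ := orbit_facts hKq hRA hAR hpw hKR
  have hKH : IsComponentOf K (orbitSup A K) := by
    have := hHc 1 (one_mem A)
    rwa [cj_one] at this
  have hKE : K ≤ lay G := (le_lay hKH).trans (layer_le hHHS hr hR hcop hnorm
    (iSup_le fun g => cj_le (hAG g.2) hKG) (le_normalizer_orbitSup A K) hHR)
  obtain ⟨L, hL, hKL⟩ : ∃ L, IsComponentOf L G ∧ ¬ K ≤ centralizer (L : Set X) := by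
    by_contra! h
    have h1 : K ≤ centralizer (lay G : Set X) := by
      rw [le_centralizer_iff]
      exact lay_le fun L hL => le_centralizer_iff.mp (h L hL)
    refine qs_not_abelian hKq ?_
    rw [hKp]
    exact h1.trans (centralizer_le hKE)
  have hLR : ∀ g ∈ R, IsComponentOf (cj g L) G := fun g hg => cof_conj hL (hnorm hg)
  set M := orbitSup R L with hM
  have hMlay : M ≤ lay G := iSup_le fun g => le_lay (hLR g g.2)
  have hlayM : lay G ≤ normalizer (M : Set X) := by
    refine le_normalizer_of_conj_mem fun e he x hx => ?_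
    have hle : M ≤ M.comap (MulAut.conj e).toMonoidHom := iSup_le fun g =>
      map_le_iff_le_comap.mp ((conj_map_of_mem_normalizer _
        (lay_le_norm_comp (hLR g g.2) he)).le.trans (le_iSup (fun g : R => cj (g : X) L) g))
    exact hle hx
  have hRM : R ≤ normalizer (M : Set X) := le_normalizer_orbitSup R L
  have hMG : M ≤ G := hMlay.trans lay_le_self
  have hCA : M ⊓ centralizer (R : Set X) ≤ A :=
    (inf_le_inf hMG le_rfl).trans le_sup_right
  set Mh := compJoin G (fun N => ¬ N ≤ M) with hMh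
  have hMhlay : Mh ≤ lay G := sSup_le fun N hN => le_lay hN.1
  have hMMh : ⁅M, Mh⁆ = ⊥ := by
    rw [commutator_eq_bot_iff_le_centralizer]
    refine iSup_le fun g => ?_
    rw [le_centralizer_iff]
    refine sSup_le fun N hN => ?_
    rw [← commutator_eq_bot_iff_le_centralizer]
    refine cof_commute hN.1 (hLR g g.2) fun h => hN.2 ?_
    rw [h]
    exact le_iSup (fun g : R => cj (g : X) L) g
  have hKM : K ≤ M := by
    suffices hK2 : K ≤ centralizer (Mh : Set X) by
      rw [← hKp]
      have hE : lay G ≤ sSup {M, Mh} := lay_le fun N hN => by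
        by_cases h : N ≤ M
        · exact h.trans (le_sSup (Set.mem_insert _ _))
        · exact (le_sSup (show N ∈ {N | IsComponentOf N G ∧ ¬ N ≤ M} from ⟨hN, h⟩)).trans
            (le_sSup (Set.mem_insert_of_mem _ rfl) : Mh ≤ sSup {M, Mh})
      refine (commutator_mono (hKE.trans hE) le_rfl).trans (commutator_sSup_le ?_ ?_)
      · rintro S (rfl | rfl)
        · exact le_normalizer
        · exact hMhlay.trans hlayM
      · rintro S (rfl | rfl)
        · exact commutator_le_left_of_normalizes (hKE.trans hlayM)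
        · rw [commutator_comm, commutator_eq_bot_iff_le_centralizer.mpr hK2]
          exact bot_le
    by_contra hK2
    have hKnM : ¬ K ≤ M := fun h => hK2 <| h.trans <|
      commutator_eq_bot_iff_le_centralizer.mp hMMh
    have hfix : ∀ c ∈ M ⊓ centralizer (R : Set X), c ∈ normalizer (K : Set X) := by
      intro c hc
      refine mem_norm_of_cj ((hpw1 c (hCA hc)).resolve_right fun h => hKnM ?_)
      rw [← hKp]
      have h1 : K ≤ M ⊔ cj c K := fun k hk => by
        have h2 : c * k * c⁻¹ ∈ cj c K := mem_map_of_mem _ hk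
        have h3 : k⁻¹ * c⁻¹ * k ∈ M := conj_mem' (hlayM (hKE hk)) (inv_mem hc.1)
        have e : k = c⁻¹ * (c * k * c⁻¹) * c := by simp [mul_assoc]
        rw [e]
        exact mul_mem (mul_mem (mem_sup_left (inv_mem hc.1)) (mem_sup_right h2)) (mem_sup_left hc.1)
      exact (commutator_mono (le_sup_right : K ≤ M ⊔ K) h1).trans (comm_mod (hKE.trans hlayM)
        ((cj_le (le_normalizer (hMlay hc.1)) hKE).trans hlayM) h)
    have hKC : K ≤ centralizer ((M ⊓ centralizer (R : Set X) : Subgroup X) : Set X) := by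
      rw [← commutator_eq_bot_iff_le_centralizer]
      refine commutator_eq_bot_of_perfect hKp ?_
      have h1 : ⁅M ⊓ centralizer (R : Set X), K⁆ ≤ M ⊓ K := le_inf
        ((commutator_mono inf_le_left le_rfl).trans
          (commutator_le_left_of_normalizes (hKE.trans hlayM)))
        (by rw [commutator_comm]; exact commutator_le_left_of_normalizes hfix)
      rcases qs_dich hKq inf_le_right (le_normalizer_inf (hKE.trans hlayM) le_normalizer)
        with h2 | h2
      · exact absurd (inf_eq_right.mp h2) hKnM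
      · exact commutator_eq_bot_iff_le_centralizer.mpr (h1.trans h2)
    obtain ⟨hH1c, hH1p, hH1R⟩ := orbit_facts hKq le_rfl (prime_self_cen hr hR)
      (fun g hg h hh => hpw g (hRA hg) h (hRA hh)) hKR
    set H1 := orbitSup R K with hH1
    have hH1lay : H1 ≤ lay G :=
      iSup_le fun g => cj_le (norm_lay hnorm g.2) hKE
    have hH1C : H1 ≤ centralizer ((M ⊓ centralizer (R : Set X) : Subgroup X) : Set X) :=
      iSup_le fun g => cj_le (norm_cen (le_normalizer_inf hRM
        (norm_cen le_normalizer)) g.2) hKC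
    have h1 := centralizes hHHS (Nat.card M) X M H1 R r le_rfl hr hR
      (not_dvd_of_le hr hcop (sup_le hMG (hH1lay.trans lay_le_self))) hRM
      (le_normalizer_orbitSup R K) (hH1lay.trans hlayM) hH1p hH1R hH1C
    exact hKL (((le_orbitSup R K).trans h1).trans (centralizer_le (le_orbitSup R L)))
  by_cases hLfix : ∀ a ∈ R, cj a L = L
  · exact Or.inr ⟨L, hL.1, hL.2, hLfix, hKM.trans (iSup_le fun g => (hLfix g g.2).le)⟩
  left
  obtain ⟨b, hb, hbL⟩ : ∃ b ∈ R, cj b L ≠ L := by push Not at hLfix; exact hLfix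
  have hmoved : ∀ g ∈ R, g ≠ 1 → cj g L ≠ L := fun g hg hg1 h => hbL <| by
    rw [← prime_zpowers hr hR hg hg1] at hb
    exact conj_map_of_mem_normalizer L (zpowers_le.mpr (mem_norm_of_cj h) hb)
  obtain ⟨a, ha, ha1⟩ := prime_exists_gen hr hR
  set W := M ⊓ centralizer (L : Set X) with hW
  have hLM : L ≤ M := le_orbitSup R L
  have hMn : M ≤ normalizer (L : Set X) := hMlay.trans (lay_le_norm_comp hL)
  have hothers : ∀ g ∈ R, g ≠ 1 → cj g L ≤ centralizer (L : Set X) := fun g hg hg1 =>
    commutator_eq_bot_iff_le_centralizer.mp (cof_commute (hLR g hg) hL (hmoved g hg hg1))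
  have hMW : M ≤ L ⊔ W := iSup_le fun g => by
    by_cases hg : (g : X) = 1
    · rw [hg]
      exact (cj_one L).le.trans le_sup_left
    · exact le_sup_of_le_right (le_inf (le_iSup (fun g : R => cj (g : X) L) g)
        (hothers g g.2 hg))
  have hdiag : ∀ x ∈ L, ∃ c ∈ M ⊓ centralizer (R : Set X), x⁻¹ * c ∈ centralizer (L : Set X) :=
    fun x hx => diag hr hR ha ha1
      (fun i => le_iSup (fun g : R => cj (g : X) L) ⟨a ^ i, pow_mem ha i⟩)
      (fun i h1 h2 => hothers _ (pow_mem ha i) fun h => by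
        have h3 : r ∣ i := by
          rw [← hR, ← prime_zpowers hr hR ha ha1, Nat.card_zpowers]
          exact orderOf_dvd_of_pow_eq_one h
        exact absurd (Nat.le_of_dvd h1 h3) (not_le.mpr h2)) hx
  have hcov : ∀ g ∈ R, ¬ K ≤ centralizer (cj g L : Set X) →
      cj g L ≤ (M ⊓ centralizer (cj g L : Set X)) ⊔ K := by
    intro g hg hKg
    have hMg : cj g L ≤ M := le_iSup (fun g : R => cj (g : X) L) ⟨g, hg⟩
    have hoth : ∀ h ∈ R, h ≠ 1 → cj h (cj g L) ≤ centralizer (cj g L : Set X) := fun h hh hh1 => by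
      refine commutator_eq_bot_iff_le_centralizer.mp
        (cof_commute (cof_conj (hLR g hg) (hnorm hh)) (hLR g hg) fun e => hmoved h hh hh1 ?_)
      refine cj_inj (g := g) ?_
      rw [← e]
      show cj g (cj h L) = cj h (cj g L)
      rw [cj, cj, cj, cj, conj_map_map, conj_map_map,
        mem_centralizer_iff.mp (prime_self_cen hr hR hh) g hg]
    refine cover (cof_qs (hLR g hg)) hKM hMg (hMlay.trans (lay_le_norm_comp (hLR g hg)))
      (iSup_le fun h => ?_) hKg inf_le_left (fun x hx => ?_) (fun c hc => hpw1 c (hCA hc))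
    · by_cases hh : (h : X) = g
      · rw [hh]
        exact le_sup_left
      · refine le_sup_of_le_right (le_inf (le_iSup (fun g : R => cj (g : X) L) h) ?_)
        have h1 := hoth ((h : X) * g⁻¹) (mul_mem h.2 (inv_mem hg))
          (fun e => hh (mul_inv_eq_one.mp e))
        rwa [cj, cj, conj_map_map, inv_mul_cancel_right] at h1
    · refine diag hr hR ha ha1 (fun i => ?_) (fun i h1 h2 => hoth _ (pow_mem ha i) fun h => ?_) hx
      · rw [cj, cj, conj_map_map]
        exact le_iSup (fun g : R => cj (g : X) L) ⟨a ^ i * g, mul_mem (pow_mem ha i) hg⟩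
      · have h3 : r ∣ i := by
          rw [← hR, ← prime_zpowers hr hR ha ha1, Nat.card_zpowers]
          exact orderOf_dvd_of_pow_eq_one h
        exact absurd (Nat.le_of_dvd h1 h3) (not_le.mpr h2)
  have hcov1 : L ≤ W ⊔ K := by
    have h1 := hcov 1 (one_mem R) (by rwa [cj_one])
    rwa [cj_one] at h1
  have hWn : M ≤ normalizer (W : Set X) := le_normalizer_inf le_normalizer (norm_cen hMn)
  have hLnW : ¬ ⁅L, L⁆ ≤ centralizer (L : Set X) := qs_not_abelian (cof_qs hL)
  have hCK : M ⊓ centralizer (R : Set X) ≤ normalizer (K : Set X) := by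
    intro c hc
    refine mem_norm_of_cj ((hpw1 c (hCA hc)).resolve_right fun h => hLnW ?_)
    have h1 : L ≤ W ⊔ cj c K := by
      rw [← conj_map_of_mem_normalizer L (hMn hc.1)]
      refine (map_mono hcov1).trans ?_
      rw [Subgroup.map_sup, conj_map_of_mem_normalizer W (hWn hc.1)]
    exact (commutator_mono hcov1 h1).trans ((comm_mod (hKM.trans hWn)
      ((cj_le (le_normalizer hc.1) hKM).trans hWn) h).trans inf_le_right)
  have hone : ∀ g ∈ R, g ≠ 1 → K ≤ centralizer (cj g L : Set X) := by
    intro g hg hg1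
    by_contra hKg
    have hgK : g ∈ normalizer (K : Set X) := by
      refine mem_norm_of_cj ((hpw1 g (hRA hg)).resolve_right fun h => ?_)
      set W' := M ⊓ centralizer (cj g L : Set X)
      have hW'n : M ≤ normalizer (W' : Set X) := le_normalizer_inf le_normalizer
        (norm_cen (hMlay.trans (lay_le_norm_comp (hLR g hg))))
      have h1 : cj g L ≤ W' ⊔ cj g K := by
        refine (map_mono hcov1).trans ?_
        rw [Subgroup.map_sup]
        refine sup_le_sup_right (le_inf (cj_le (hRM hg) inf_le_left) ?_) _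
        rintro _ ⟨w, hw, rfl⟩
        refine mem_centralizer_iff.mpr ?_
        rintro _ ⟨y, hy, rfl⟩
        rw [← map_mul, ← map_mul, mem_centralizer_iff.mp hw.2 y hy]
      exact qs_not_abelian (cof_qs (hLR g hg)) ((commutator_mono (hcov g hg hKg) h1).trans
        ((comm_mod (hKM.trans hW'n) ((cj_le (hRM hg) hKM).trans hW'n) h).trans inf_le_right))
    have hRK : R ≤ normalizer (K : Set X) := by
      rw [← prime_zpowers hr hR hg hg1]
      exact zpowers_le.mpr hgK
    set N0 := normalizer (K : Set X) ⊓ centralizer (L : Set X) with hN0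
    have hN0K : N0 ≤ centralizer (K : Set X) := by
      rw [← commutator_eq_bot_iff_le_centralizer, commutator_comm]
      refine commutator_eq_bot_of_perfect hKp ?_
      rw [commutator_eq_bot_iff_le_centralizer]
      have h1 : ⁅N0, K⁆ ≤ K ⊓ centralizer (L : Set X) := le_inf
        (by rw [commutator_comm]; exact commutator_le_left_of_normalizes inf_le_left)
        ((commutator_mono inf_le_right le_rfl).trans
          (commutator_le_left_of_normalizes (norm_cen (hKM.trans hMn))))
      rcases qs_dich hKq inf_le_left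
        (le_normalizer_inf le_normalizer (norm_cen (hKM.trans hMn))) with h2 | h2
      · exact absurd (inf_eq_left.mp h2) hKL
      · exact h1.trans h2
    refine hKR (commutator_eq_bot_of_perfect hKp ?_)
    rw [commutator_eq_bot_iff_le_centralizer, commutator_comm, commutator_le]
    intro k hk b hb
    obtain ⟨l, hl, w, hw, hlw⟩ : ∃ l ∈ L, ∃ w ∈ W, l * w = k := by
      have h1 : k ∈ (L : Set X) * (W : Set X) := by
        rw [← coe_mul_of_left_le_normalizer_right L W (hLM.trans hWn)]
        exact hMW (hKM hk)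
      exact Set.mem_mul.mp h1
    obtain ⟨c, hc, hlc⟩ : ∃ c ∈ M ⊓ centralizer (R : Set X),
        l⁻¹ * c ∈ centralizer (L : Set X) :=
      diag hr hR ha ha1 (fun i => le_iSup (fun g : R => cj (g : X) L) ⟨a ^ i, pow_mem ha i⟩)
        (fun i h1 h2 => hothers _ (pow_mem ha i) fun h => by
          have h3 : r ∣ i := by
            rw [← hR, ← prime_zpowers hr hR ha ha1, Nat.card_zpowers]
            exact orderOf_dvd_of_pow_eq_one h
          exact absurd (Nat.le_of_dvd h1 h3) (not_le.mpr h2)) hl
    have hn : k⁻¹ * c ∈ centralizer (K : Set X) := by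
      refine hN0K ⟨(normalizer (K : Set X)).mul_mem (le_normalizer (K.inv_mem hk)) (hCK hc), ?_⟩
      rw [← hlw, mul_inv_rev, mul_assoc]
      exact (centralizer (L : Set X)).mul_mem ((centralizer (L : Set X)).inv_mem hw.2) hlc
    have hbc : b * c = c * b := mem_centralizer_iff.mp hc.2 b hb
    have e : ⁅k, b⁆ = c * ((k⁻¹ * c)⁻¹ * (b * (k⁻¹ * c) * b⁻¹)) * c⁻¹ := by
      calc ⁅k, b⁆ = k * b * k⁻¹ * (c * c⁻¹) * b⁻¹ := by simp [commutatorElement_def, mul_assoc]
        _ = k * b * k⁻¹ * c * (b⁻¹ * (b * c⁻¹) * b⁻¹) := by simp [mul_assoc]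
        _ = k * b * k⁻¹ * c * (b⁻¹ * (c⁻¹ * b) * b⁻¹) := by
          rw [show b * c⁻¹ = c⁻¹ * b from (Commute.inv_right hbc).eq]
        _ = c * ((k⁻¹ * c)⁻¹ * (b * (k⁻¹ * c) * b⁻¹)) * c⁻¹ := by simp [mul_assoc]
    rw [e]
    exact conj_mem (norm_cen le_rfl (hCK hc))
      (mul_mem (inv_mem hn) (conj_mem (norm_cen hRK hb) hn))
  have hKleL : K ≤ L := by
    rw [← hKp]
    refine (commutator_mono (show K ≤ sSup (Set.range fun g : R => cj (g : X) L) from hKM)
      le_rfl).trans (commutator_sSup_le ?_ ?_)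
    · rintro _ ⟨g, rfl⟩
      exact lay_le_norm_comp hL |>.trans' (le_lay (hLR g g.2))
    · rintro _ ⟨g, rfl⟩
      by_cases hg : (g : X) = 1
      · show ⁅cj (g : X) L, K⁆ ≤ L
        rw [hg, cj_one]
        exact commutator_le_left_of_normalizes (hKM.trans hMn)
      · show ⁅cj (g : X) L, K⁆ ≤ L
        rw [commutator_comm, commutator_eq_bot_iff_le_centralizer.mpr (hone g g.2 hg)]
        exact bot_le
  have hLn : L ≤ normalizer (K : Set X) := by
    intro y hy
    have h1 : y ∈ (K : Set X) * (W : Set X) := by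
      rw [← coe_mul_of_left_le_normalizer_right K W (hKM.trans hWn), sup_comm]
      exact hcov1 hy
    obtain ⟨k, hk, w, hw, rfl⟩ := Set.mem_mul.mp h1
    exact mul_mem (le_normalizer hk) (cen_le_norm (centralizer_le hKleL) hw.2)
  rcases qs_dich (cof_qs hL) hKleL hLn with h1 | h1
  · exact h1 ▸ hL.2
  · exact absurd h1 hKL

end Cfsg.Agent.CoprimeLayer44
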