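import Mathlib
import Cfsg.Statements.S3041
import Cfsg.Agent.Lib.CoprimeLayer44Core
import Cfsg.Agent.Lib.FrobeniusPrimeAct

/-!
The linear input of `CoprimeLayer44` from the fixed-point theorem of Hall-Higman-Shult type (the
statement of S3041, taken as a hypothesis here).
-/

set_option autoImplicit false
set_option linter.style.haveILetI false

namespace Cfsg.Agent.CoprimeLayer44

open Subgroup Cfsg
open scoped commutatorElement
open Cfsg.Agent.ComponentsBasic Cfsg.Agent.CoprimeAction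

universe u

/-- The form of S3041 that is used. -/
def ShultProp : Prop :=
  ∀ {X : Type u} [Group X] [Finite X] (G R : Subgroup X) [G.Normal] (_ : G ⊔ R = ⊤) (r : ℕ)
    (_ : r.Prime) (_ : Nat.card R = r) (_ : ¬ r ∣ Nat.card G)
    {k : Type} [Field k] {p : ℕ} [Fact p.Prime] [CharP k p] {V : Type u} [AddCommGroup V]
    [Module k V] [FiniteDimensional k V] [Nontrivial V]
    (ρ : Representation k X V) (_ : Function.Injective ρ)
    (_ : ∀ W : Submodule k V, (∀ x : X, W.map (ρ x) ≤ W) → W = ⊥ ∨ W = ⊤)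
    (_ : ∀ v : V, (∀ x ∈ R, ρ x v = v) → v = 0),
    ⁅G, R⁆ = ⊥ ∨ ((∃ m : ℕ, r = 2 ^ m + 1) ∧ ¬ IsMulCommutative ↥⁅G, R⁆ ∧
      Cfsg.IsSpecial 2 ↥⁅G, R⁆)

/-- The linear core inside the automorphism group of an elementary abelian group. -/
theorem aut_core (h : ShultProp.{u}) {V : Type u} [CommGroup V] [Finite V] [Nontrivial V]
    {q r : ℕ} [Fact q.Prime] (hr : r.Prime) (hexp : ∀ v : V, v ^ q = 1)
    (Gb Rb : Subgroup (MulAut V)) (hRG : Rb ≤ normalizer (Gb : Set (MulAut V)))
    (hperf : ⁅Gb, Gb⁆ = Gb) (hGR : ⁅Gb, Rb⁆ = Gb) (hRcard : Nat.card Rb = r)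
    (hcop : ¬ r ∣ Nat.card Gb)
    (hirr : ∀ M : Subgroup V, (∀ φ ∈ Gb, ∀ v ∈ M, φ v ∈ M) → (∀ φ ∈ Rb, ∀ v ∈ M, φ v ∈ M) →
      M = ⊥ ∨ M = ⊤)
    (hfix : ∀ v : V, (∀ φ ∈ Rb, φ v = v) → v = 1) : Gb = ⊥ := by
  have hexp' : ∀ x : Additive V, q • x = 0 := fun x => Additive.toMul.injective (hexp x.toMul)
  let _ : Module (ZMod q) (Additive V) := AddCommGroup.zmodModule (G := Additive V) (n := q) hexp'
  set Xb := Gb ⊔ Rb with hXb
  haveI : (Gb.subgroupOf Xb).Normal :=
    normal_subgroupOf_of_le_normalizer (sup_le le_normalizer hRG)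
  have hRbcard : Nat.card (Rb.subgroupOf Xb) = r := by
    rw [Nat.card_congr (subgroupOfEquivOfLe (le_sup_right : Rb ≤ Xb)).toEquiv, hRcard]
  have hGcop : ¬ r ∣ Nat.card (Gb.subgroupOf Xb) := by
    rwa [Nat.card_congr (subgroupOfEquivOfLe (le_sup_left : Gb ≤ Xb)).toEquiv]
  let ρ : Representation (ZMod q) Xb (Additive V) := FrobeniusPrimeAct.repOf q Xb.subtype
  haveI : Finite (Additive V) := ‹Finite V›
  have hρ : ∀ (x : Xb) (v : V), (ρ x : Additive V →ₗ[ZMod q] Additive V) (Additive.ofMul v) =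
      Additive.ofMul ((x : MulAut V) v) :=
    fun _ _ => rfl
  have hfaith : Function.Injective ρ := by
    intro a b hab
    apply Subtype.ext
    ext v
    have := DFunLike.congr_fun hab (Additive.ofMul v)
    rw [hρ, hρ] at this
    exact Additive.ofMul.injective this
  have hirr' : ∀ W : Submodule (ZMod q) (Additive V), (∀ x : Xb, W.map (ρ x) ≤ W) →
      W = ⊥ ∨ W = ⊤ := by
    intro W hW
    let M : Subgroup V :=
      { carrier := {v | Additive.ofMul v ∈ W}
        one_mem' := W.zero_mem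
        mul_mem' := fun {a b} ha hb => W.add_mem ha hb
        inv_mem' := fun {a} ha => W.neg_mem ha }
    have key : ∀ φ ∈ Xb, ∀ v ∈ M, φ v ∈ M := fun φ hφ v hv => by
      have h1 := hW ⟨φ, hφ⟩ (Submodule.mem_map_of_mem (show Additive.ofMul v ∈ W from hv))
      rw [hρ] at h1
      exact h1
    rcases hirr M (fun φ hφ => key φ ((le_sup_left : Gb ≤ Xb) hφ))
        (fun φ hφ => key φ ((le_sup_right : Rb ≤ Xb) hφ)) with hM | hM
    · left
      rw [Submodule.eq_bot_iff]
      intro w hw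
      have h1 : w.toMul ∈ M := hw
      rw [hM, mem_bot] at h1
      exact Additive.toMul.injective h1
    · right
      rw [Submodule.eq_top_iff']
      intro w
      have h1 : w.toMul ∈ M := by rw [hM]; exact mem_top _
      exact h1
  have hfix' : ∀ v : Additive V, (∀ x ∈ Rb.subgroupOf Xb, ρ x v = v) → v = 0 := fun v hv =>
    Additive.toMul.injective (hfix v.toMul fun φ hφ =>
      congrArg Additive.toMul (hv ⟨φ, (le_sup_right : Rb ≤ Xb) hφ⟩ hφ))
  have hsup : Gb.subgroupOf Xb ⊔ Rb.subgroupOf Xb = ⊤ := by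
    rw [← subgroupOf_sup (le_sup_left : Gb ≤ Xb) le_sup_right, subgroupOf_self]
  have hmap : ⁅Gb.subgroupOf Xb, Rb.subgroupOf Xb⁆.map Xb.subtype = Gb := by
    rw [map_commutator, map_subgroupOf_eq_of_le le_sup_left, map_subgroupOf_eq_of_le le_sup_right,
      hGR]
  rcases h (Gb.subgroupOf Xb) (Rb.subgroupOf Xb) hsup r hr hRbcard hGcop (k := ZMod q) (p := q)
    ρ hfaith hirr' hfix' with h1 | ⟨-, -, h1⟩
  · rw [← hmap, h1, Subgroup.map_bot]
  · haveI : Fact (Nat.Prime 2) := ⟨Nat.prime_two⟩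
    haveI : Group.IsSolvable Gb := isSolvable_of_isPGroup (p := 2) (hmap ▸ h1.1.map Xb.subtype)
    exact perfect_eq_bot_of_le_solvable hperf le_rfl

theorem hhs_of_shult (h : ShultProp.{u}) : HHSProp.{u} := by
  intro X _ _ V D R q r hq hr hVne hcomm hexp hDV hRV hRD hDD hDR hR hcop hirr hfix
  classical
  haveI := Fact.mk hq
  letI : CommGroup V :=
    { (inferInstance : Group V) with mul_comm := fun a b => Subtype.ext (hcomm a a.2 b b.2) }
  haveI : Nontrivial V := (Subgroup.nontrivial_iff_ne_bot V).mpr hVne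
  set N := normalizer (V : Set X) with hN
  let f : N →* MulAut V := V.normalizerMonoidHom
  have hfapp : ∀ (n : N) (v : V), ((f n v : V) : X) = (n : X) * v * (n : X)⁻¹ := fun _ _ => rfl
  set Gb := (D.subgroupOf N).map f with hGb
  set Rb := (R.subgroupOf N).map f with hRb
  have hperf : ⁅Gb, Gb⁆ = Gb := by
    rw [hGb, ← map_commutator]
    congr 1
    apply map_injective N.subtype_injective
    rw [map_commutator, map_subgroupOf_eq_of_le hDV, hDD]
  have hGR : ⁅Gb, Rb⁆ = Gb := by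
    rw [hGb, hRb, ← map_commutator]
    congr 1
    apply map_injective N.subtype_injective
    rw [map_commutator, map_subgroupOf_eq_of_le hDV, map_subgroupOf_eq_of_le hRV, hDR]
  have hRcard : Nat.card Rb = r := by
    have h0 : Nat.card (R.subgroupOf N) = r := by
      rw [Nat.card_congr (subgroupOfEquivOfLe hRV).toEquiv, hR]
    rcases (Nat.dvd_prime hr).mp (h0 ▸ card_map_dvd (R.subgroupOf N) f) with h1 | h1
    · exfalso
      apply hVne
      rw [← le_bot_iff, ← hfix]
      refine le_inf le_rfl fun v hv => mem_centralizer_iff.mpr fun a ha => ?_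
      have h2 : f ⟨a, hRV ha⟩ ∈ Rb := mem_map_of_mem f ha
      rw [hRb, card_eq_one.mp h1, mem_bot] at h2
      have h3 := hfapp ⟨a, hRV ha⟩ ⟨v, hv⟩
      rw [h2] at h3
      exact mul_inv_eq_iff_eq_mul.mp h3.symm
    · exact h1
  have hGcop : ¬ r ∣ Nat.card Gb := fun h1 => hcop <| by
    have h2 := h1.trans (card_map_dvd _ f)
    rwa [Nat.card_congr (subgroupOfEquivOfLe hDV).toEquiv] at h2
  have hbot : Gb = ⊥ := by
    refine aut_core h hr (q := q) (fun v => Subtype.ext (hexp _ v.2)) Gb Rb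
      (map_norm f (sub_norm hRD)) hperf hGR hRcard hGcop ?_ ?_
    · intro M hMG hMR
      have hnorm : ∀ A : Subgroup X, A ≤ N → (∀ φ ∈ (A.subgroupOf N).map f, ∀ v ∈ M, φ v ∈ M) →
          A ≤ normalizer ((M.map V.subtype : Subgroup X) : Set X) := by
        intro A hA hAM
        refine le_normalizer_of_conj_mem fun a ha x hx => ?_
        obtain ⟨v, hv, rfl⟩ := hx
        exact ⟨f ⟨a, hA ha⟩ v, hAM _ (mem_map_of_mem f ha) v hv, hfapp _ _⟩
      rcases hirr (M.map V.subtype) (map_subtype_le M) (hnorm D hDV hMG) (hnorm R hRV hMR)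
        with hM | hM
      · exact Or.inl ((M.map_eq_bot_iff_of_injective V.subtype_injective).mp hM)
      · refine Or.inr (map_injective V.subtype_injective ?_)
        rw [hM, ← MonoidHom.range_eq_map, range_subtype]
    · intro v hv
      have h1 : (v : X) ∈ V ⊓ centralizer (R : Set X) := by
        refine ⟨v.2, mem_centralizer_iff.mpr fun a ha => ?_⟩
        have h3 := hfapp ⟨a, hRV ha⟩ v
        rw [hv _ (mem_map_of_mem f ha)] at h3
        exact mul_inv_eq_iff_eq_mul.mp h3.symm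
      rw [hfix, mem_bot] at h1
      exact Subtype.ext h1
  intro d hd
  rw [mem_centralizer_iff]
  intro v hv
  have h2 : f ⟨d, hDV hd⟩ ∈ Gb := mem_map_of_mem f hd
  rw [hbot, mem_bot] at h2
  have h3 := hfapp ⟨d, hDV hd⟩ ⟨v, hv⟩
  rw [h2] at h3
  exact (mul_inv_eq_iff_eq_mul.mp h3.symm).symm

end Cfsg.Agent.CoprimeLayer44
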