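import Mathlib
import Cfsg.Agent.Lib.CoprimeActionAut
import Cfsg.Agent.Lib.FrobeniusThompson
import Cfsg.Agent.Lib.NilpotentMaximal
import Cfsg.Agent.Lib.Offenders

/-!
# Coprime action with all maximal invariant subgroups nilpotent
-/

set_option autoImplicit false

namespace Cfsg.Agent.CoprimeMaxNilp67

open Subgroup
open scoped commutatorElement
open scoped Pointwise

universe u v

variable {G : Type u} [Group G] {A : Type v} [Group A]

/-- Invariance under the action. -/
def Inv (φ : A →* MulAut G) (H : Subgroup G) : Prop := ∀ a, ∀ x ∈ H, φ a x ∈ H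

theorem inv_iff {φ : A →* MulAut G} {H : Subgroup G} :
    Inv φ H ↔ ∀ a, H.map (φ a).toMonoidHom = H := by
  refine ⟨fun h a => le_antisymm ?_ ?_, fun h a x hx => ?_⟩
  · rintro _ ⟨x, hx, rfl⟩; exact h a x hx
  · intro x hx
    refine ⟨φ a⁻¹ x, h _ x hx, ?_⟩
    show φ a (φ a⁻¹ x) = x
    rw [← MulAut.mul_apply, ← map_mul, mul_inv_cancel, map_one, MulAut.one_apply]
  · have h1 : φ a x ∈ H.map (φ a).toMonoidHom := ⟨x, hx, rfl⟩
    rwa [h a] at h1

theorem Inv.mem_iff {φ : A →* MulAut G} {H : Subgroup G} (h : Inv φ H) (a : A) {x : G} :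
    φ a x ∈ H ↔ x ∈ H := by
  refine ⟨fun hx => ?_, h a x⟩
  have := h a⁻¹ _ hx
  rwa [← MulAut.mul_apply, ← map_mul, inv_mul_cancel, map_one, MulAut.one_apply] at this

theorem inv_of_char (φ : A →* MulAut G) (H : Subgroup G) [h : H.Characteristic] : Inv φ H :=
  inv_iff.2 fun a => Subgroup.characteristic_iff_map_eq.1 h (φ a)

theorem Inv.normalizer {φ : A →* MulAut G} {H : Subgroup G} (h : Inv φ H) :
    Inv φ (Subgroup.normalizer (H : Set G)) := by
  intro a x hx
  rw [Subgroup.mem_normalizer_iff] at hx ⊢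
  intro y
  obtain ⟨y, rfl⟩ := (φ a).surjective y
  rw [← map_inv, ← map_mul, ← map_mul, h.mem_iff, h.mem_iff]
  exact hx y

theorem Inv.centralizer {φ : A →* MulAut G} {H : Subgroup G} (h : Inv φ H) :
    Inv φ (Subgroup.centralizer (H : Set G)) := by
  intro a x hx
  rw [Subgroup.mem_centralizer_iff] at hx ⊢
  intro y hy
  obtain ⟨y, rfl⟩ := (φ a).surjective y
  rw [← map_mul, ← map_mul, hx y ((h.mem_iff a).1 hy)]

theorem Inv.inf {φ : A →* MulAut G} {H K : Subgroup G} (h : Inv φ H) (k : Inv φ K) : Inv φ (H ⊓ K) :=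
  fun a x hx => ⟨h a x hx.1, k a x hx.2⟩

theorem Inv.sup {φ : A →* MulAut G} {H K : Subgroup G} (h : Inv φ H) (k : Inv φ K) : Inv φ (H ⊔ K) :=
  inv_iff.2 fun a => by rw [Subgroup.map_sup, inv_iff.1 h a, inv_iff.1 k a]

theorem Inv.thompson [Finite G] {φ : A →* MulAut G} {P : Subgroup G} (h : Inv φ P) (p : ℕ) :
    Inv φ (Cfsg.thompsonSubgroupOf p P) :=
  inv_iff.2 fun a => by
    rw [FrobeniusThompson.map_thompsonOf _ P ((φ a).injective.comp P.subtype_injective), inv_iff.1 h a]

/-- The action on a quotient by an invariant normal subgroup. -/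
def quotAct (φ : A →* MulAut G) (M : Subgroup G) [M.Normal] (hM : Inv φ M) : A →* MulAut (G ⧸ M) where
  toFun a := QuotientGroup.congr M M (φ a) (inv_iff.1 hM a)
  map_one' := by
    ext x
    induction x using QuotientGroup.induction_on with
    | H z => simp [QuotientGroup.congr_mk]
  map_mul' a b := by
    ext x
    induction x using QuotientGroup.induction_on with
    | H z =>
      show (QuotientGroup.mk (φ (a * b) z) : G ⧸ M) = QuotientGroup.mk (φ a (φ b z))
      rw [map_mul, MulAut.mul_apply]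

theorem inv_comap {φ : A →* MulAut G} {M : Subgroup G} [M.Normal] (hM : Inv φ M)
    {K : Subgroup (G ⧸ M)} (hK : Inv (quotAct φ M hM) K) : Inv φ (K.comap (QuotientGroup.mk' M)) :=
  fun a _ hx => hK a _ hx

theorem solvable [Finite A] : ∀ (n : ℕ) (G : Type u) [Group G] [Finite G] (φ : A →* MulAut G),
    Nat.card G = n → (Nat.card A).Coprime (Nat.card G) → (Group.IsSolvable A ∨ Group.IsSolvable G) →
    (∀ H : Subgroup G, Inv φ H → H ≠ ⊤ → Group.IsNilpotent H) → Group.IsSolvable G := by
  intro n
  induction n using Nat.strong_induction_on with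
  | _ n ih =>
    intro G _ _ φ hn hcop hsolv hH
    by_cases hex : ∃ M : Subgroup G, M.Normal ∧ Inv φ M ∧ M ≠ ⊥ ∧ M ≠ ⊤
    · obtain ⟨M, hMn, hMi, hM0, hM1⟩ := hex
      have hlt : Nat.card (G ⧸ M) < Nat.card G := by
        rw [← Subgroup.index_eq_card, ← M.card_mul_index]
        exact lt_mul_of_one_lt_left (Nat.pos_of_ne_zero M.index_ne_zero_of_finite)
          (M.one_lt_card_iff_ne_bot.mpr hM0)
      have : Group.IsNilpotent M := hH M hMi hM1
      have hq : Group.IsSolvable (G ⧸ M) := by
        refine ih _ (hn ▸ hlt) (G ⧸ M) (quotAct φ M hMi) rfl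
          (hcop.coprime_dvd_right (Subgroup.card_quotient_dvd_card M))
          (hsolv.imp id fun h => by have := h; exact Group.isSolvable_of_surjective (f := QuotientGroup.mk' M) (QuotientGroup.mk'_surjective M))
          fun K hK hK1 => ?_
        have hc : K.comap (QuotientGroup.mk' M) ≠ ⊤ := fun e => hK1
          (Subgroup.comap_injective (QuotientGroup.mk'_surjective M) (e.trans (Subgroup.comap_top _).symm))
        have := hH _ (inv_comap hMi hK) hc
        exact Group.nilpotent_of_surjective ((QuotientGroup.mk' M).subgroupComap K)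
          ((QuotientGroup.mk' M).subgroupComap_surjective_of_surjective K (QuotientGroup.mk'_surjective M))
      exact Group.isSolvable_of_ker_le_range M.subtype (QuotientGroup.mk' M)
        (by rw [QuotientGroup.ker_mk', M.range_subtype])
    · push Not at hex
      rcases subsingleton_or_nontrivial G with hG | hG
      · exact Group.isSolvable_of_comm (fun a b => Subsingleton.elim _ _)
      by_cases hp2 : ∀ p, p.Prime → p ∣ Nat.card G → p = 2
      · have : Fact (Nat.Prime 2) := ⟨Nat.prime_two⟩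
        have h2 : IsPGroup 2 G := IsPGroup.iff_card.2 ⟨_,
          Nat.eq_prime_pow_of_unique_prime_dvd Nat.card_pos.ne' fun {d} hd hdvd => hp2 d hd hdvd⟩
        have := h2.isNilpotent
        infer_instance
      push Not at hp2
      obtain ⟨p, hp, hpG, hp2⟩ := hp2
      have : Fact p.Prime := ⟨hp⟩
      obtain ⟨P, hP⟩ := CoprimeActionAut.exists_invariant_sylow φ hcop hsolv p
      have hPi : Inv φ (P : Subgroup G) := hP
      have hP0 : (P : Subgroup G) ≠ ⊥ := P.ne_bot_of_dvd_card hpG
      by_cases hPt : (P : Subgroup G) = ⊤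
      · have hG' : IsPGroup p G := by
          have h := P.isPGroup'
          rw [hPt] at h
          exact h.of_equiv Subgroup.topEquiv
        have := hG'.isNilpotent
        infer_instance
      have hPn : ¬ (P : Subgroup G).Normal := fun h => hPt (hex _ h hPi hP0)
      set J := Cfsg.thompsonSubgroupOf p (P : Subgroup G)
      have hJle : J ≤ (P : Subgroup G) := Offenders.thompsonOf_le _
      have hJ0 : J ≠ ⊥ := FrobeniusThompson.thompsonOf_ne_bot P.isPGroup' hP0
      have hJi : Inv φ J := hPi.thompson p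
      have hNJ : Subgroup.normalizer (J : Set G) ≠ ⊤ := fun h => hPt (top_le_iff.1
        ((hex J (Subgroup.normalizer_eq_top_iff.1 h) hJi hJ0).ge.trans hJle))
      set Z := FrobeniusThompson.zOf (P : Subgroup G)
      have hZi : Inv φ Z := hPi.inf hPi.centralizer
      have hZ0 : Z ≠ ⊥ := by
        have : Nontrivial (P : Subgroup G) := (Subgroup.nontrivial_iff_ne_bot _).2 hP0
        obtain ⟨z, hz, hz1⟩ := (Subgroup.nontrivial_iff_exists_ne_one _).1 P.isPGroup'.center_nontrivial
        refine fun h => hz1 (Subtype.ext ?_)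
        have hzZ : (z : G) ∈ Z := ⟨z.2, Subgroup.mem_centralizer_iff.2 fun y hy =>
          congrArg Subtype.val (Subgroup.mem_center_iff.1 hz ⟨y, hy⟩)⟩
        rw [h, Subgroup.mem_bot] at hzZ
        exact hzZ
      have hCZ : Subgroup.centralizer (Z : Set G) ≠ ⊤ := fun h => by
        have hn' : Z.Normal := ⟨fun x hx g => by
          have hg : g ∈ Subgroup.centralizer (Z : Set G) := h ▸ Subgroup.mem_top g
          rw [← Subgroup.mem_centralizer_iff.1 hg x hx, mul_inv_cancel_right]; exact hx⟩
        exact hPt (top_le_iff.1 ((hex Z hn' hZi hZ0).ge.trans inf_le_left))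
      obtain ⟨Q, N, hN, hNQ⟩ := FrobeniusThompson.hasNormalPComplement_of_thompson hp2 P
        (NilpotentMaximal.hasNormalPComplement_of_isNilpotent (hH _ hJi.normalizer hNJ) p)
        (NilpotentMaximal.hasNormalPComplement_of_isNilpotent (hH _ hZi.centralizer hCZ) p)
      have hNc : ¬ p ∣ Nat.card N := by
        have h1 : (Q : Subgroup G).index = Nat.card N := Subgroup.IsComplement'.index_eq_card hNQ
        rw [← h1]; exact Q.not_dvd_index
      have hNchar : Inv φ N := by
        intro a x hx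
        rw [← QuotientGroup.eq_one_iff, ← orderOf_eq_one_iff]
        have h1 : orderOf (QuotientGroup.mk (φ a x) : G ⧸ N) ∣ Nat.card N := by
          refine (orderOf_map_dvd (QuotientGroup.mk' N) _).trans ?_
          rw [MulEquiv.orderOf_eq]
          rw [← Subgroup.orderOf_mk x hx]
          exact _root_.orderOf_dvd_natCard _
        have h2 : orderOf (QuotientGroup.mk (φ a x) : G ⧸ N) ∣ Nat.card (Q : Subgroup G) := by
          refine (_root_.orderOf_dvd_natCard _).trans ?_
          rw [← Subgroup.index_eq_card, (Subgroup.IsComplement'.symm hNQ).index_eq_card]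
        refine Nat.eq_one_of_dvd_coprimes ?_ h1 h2
        obtain ⟨k, hk⟩ := IsPGroup.iff_card.1 Q.isPGroup'
        rw [hk]
        exact ((hp.coprime_iff_not_dvd.2 hNc).symm.pow_right k)
      by_cases hN0 : N = ⊥
      · exfalso
        have h1 : (Q : Subgroup G).index = Nat.card N := Subgroup.IsComplement'.index_eq_card hNQ
        rw [hN0, Subgroup.card_bot, Subgroup.index_eq_one] at h1
        refine hPt (Subgroup.eq_top_of_card_eq _ ?_)
        rw [show Nat.card (P : Subgroup G) = Nat.card (Q : Subgroup G) by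
          rw [P.card_eq_multiplicity, Q.card_eq_multiplicity], h1, Subgroup.card_top]
      · exact absurd (hex N hN hNchar hN0) fun h => hNc (by rw [h, Subgroup.card_top]; exact hpG)

theorem structure' [Finite A] [Finite G] (φ : A →* MulAut G) (hcop : (Nat.card A).Coprime (Nat.card G))
    (hsolv : Group.IsSolvable A ∨ Group.IsSolvable G)
    (hmax : ∀ H : Subgroup G, H ≠ ⊤ → Inv φ H →
      (∀ K : Subgroup G, H < K → Inv φ K → K = ⊤) → Group.IsNilpotent H)
    (hG : ¬ Group.IsNilpotent G) :
    Group.IsSolvable G ∧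
      (∃ p q a b : ℕ, p.Prime ∧ q.Prime ∧ p ≠ q ∧ Nat.card G = p ^ a * q ^ b) ∧
      ∃ (p : ℕ) (P : Sylow p G), p.Prime ∧ p ∣ Nat.card G ∧ (P : Subgroup G).Normal ∧
        Inv φ (P : Subgroup G) := by
  have hH : ∀ H : Subgroup G, Inv φ H → H ≠ ⊤ → Group.IsNilpotent H := by
    intro H hi ht
    obtain ⟨K, hHK, ⟨hKi, hKt⟩, hKm⟩ := ({K : Subgroup G | Inv φ K ∧ K ≠ ⊤} : Set _).toFinite.exists_le_maximal
      (show H ∈ {K : Subgroup G | Inv φ K ∧ K ≠ ⊤} from ⟨hi, ht⟩)
    have := hmax K hKt hKi fun L hKL hL => by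
      by_contra hLt
      exact hKL.not_ge (hKm ⟨hL, hLt⟩ hKL.le)
    exact Group.nilpotent_of_surjective (Subgroup.subgroupOfEquivOfLe hHK).toMonoidHom
      (Subgroup.subgroupOfEquivOfLe hHK).surjective
  have hsol : Group.IsSolvable G := solvable _ G φ rfl hcop hsolv hH
  refine ⟨hsol, ?_⟩
  have : Nontrivial G := not_subsingleton_iff_nontrivial.1 fun h => hG inferInstance
  -- a maximal invariant normal subgroup containing the derived group
  obtain ⟨M, hDM, ⟨hMi, hMt⟩, hMm⟩ := ({K : Subgroup G | Inv φ K ∧ K ≠ ⊤} : Set _).toFinite.exists_le_maximal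
    (show commutator G ∈ {K : Subgroup G | Inv φ K ∧ K ≠ ⊤} from
      ⟨inv_of_char φ _, (Group.IsSolvable.commutator_lt_top_of_nontrivial G).ne⟩)
  have hMn : M.Normal := ⟨fun x hx g => by
    have h1 : ⁅g, x⁆ ∈ M := hDM (Subgroup.commutator_mem_commutator (Subgroup.mem_top g) (Subgroup.mem_top x))
    have := M.mul_mem h1 hx
    rwa [commutatorElement_def, mul_assoc, inv_mul_cancel, mul_one] at this⟩
  have hMnil : Group.IsNilpotent M := hH M hMi hMt
  obtain ⟨q, hq, hqM⟩ := Nat.exists_prime_and_dvd (fun h => hMt (Subgroup.index_eq_one.1 h))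
  have : Fact q.Prime := ⟨hq⟩
  -- the index is a power of `q`
  have hidx : ∀ r, r.Prime → r ∣ M.index → r = q := by
    intro r hr hrd
    by_contra hrq
    have : Fact r.Prime := ⟨hr⟩
    let T : Subgroup G := M ⊔ Subgroup.closure {x : G | ∃ k : ℕ, orderOf x = q ^ k}
    have hTi : Inv φ T := hMi.sup (inv_iff.2 fun a => by
      rw [MonoidHom.map_closure]
      congr 1
      ext y
      constructor
      · rintro ⟨x, ⟨k, hk⟩, rfl⟩; exact ⟨k, by rw [← hk]; exact MulEquiv.orderOf_eq (φ a) x⟩
      · rintro ⟨k, hk⟩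
        obtain ⟨x, rfl⟩ := (φ a).surjective y
        exact ⟨x, ⟨k, by rw [← hk, MulEquiv.orderOf_eq]⟩, rfl⟩)
    have hMT : M < T := by
      refine lt_of_le_of_ne le_sup_left fun e => ?_
      obtain ⟨S⟩ := Sylow.nonempty (p := q) (G := G)
      have hS : (S : Subgroup G) ≤ M := fun x hx => by
        rw [e]
        refine Subgroup.mem_sup_right (Subgroup.subset_closure ?_)
        obtain ⟨k, hk⟩ := IsPGroup.iff_orderOf.1 S.isPGroup' ⟨x, hx⟩
        exact ⟨k, by rwa [Subgroup.orderOf_mk] at hk⟩
      exact S.not_dvd_index (hqM.trans (Subgroup.index_dvd_of_le hS))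
    have hTt : T = ⊤ := by
      by_contra h
      exact hMT.not_ge (hMm ⟨hTi, h⟩ hMT.le)
    -- `T / M` is generated by `q`-elements in an abelian group
    let c : CommGroup (G ⧸ M) := { (inferInstance : Group (G ⧸ M)) with
      mul_comm := fun x y => by
        induction x using QuotientGroup.induction_on with
        | H a =>
          induction y using QuotientGroup.induction_on with
          | H b =>
            rw [← QuotientGroup.mk_mul, ← QuotientGroup.mk_mul, QuotientGroup.eq]
            exact hDM (by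
              rw [show (a * b)⁻¹ * (b * a) = ⁅b⁻¹, a⁻¹⁆ by rw [commutatorElement_def]; group]
              exact Subgroup.commutator_mem_commutator (Subgroup.mem_top _) (Subgroup.mem_top _)) }
    have hall : ∀ x : G, ∃ k : ℕ, (QuotientGroup.mk' M x) ^ q ^ k = 1 := by
      intro x
      have hx : x ∈ T := hTt ▸ Subgroup.mem_top x
      have hle : T ≤ (CommGroup.primaryComponent (G ⧸ M) q).comap (QuotientGroup.mk' M) := by
        refine sup_le (fun y hy => ?_) ((Subgroup.closure_le _).2 ?_)
        · rw [Subgroup.mem_comap, QuotientGroup.mk'_apply, (QuotientGroup.eq_one_iff y).2 hy]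
          exact one_mem _
        · rintro y ⟨k, hk⟩
          obtain ⟨j, -, hj⟩ := (Nat.dvd_prime_pow hq).1 (hk ▸ orderOf_map_dvd (QuotientGroup.mk' M) y)
          exact ⟨j, by rw [← hj]; exact pow_orderOf_eq_one _⟩
      exact hle hx
    rw [Subgroup.index_eq_card] at hrd
    obtain ⟨y, hy⟩ := exists_prime_orderOf_dvd_card' r hrd
    obtain ⟨x, rfl⟩ := QuotientGroup.mk'_surjective M y
    obtain ⟨k, hk⟩ := hall x
    exact hrq ((Nat.prime_dvd_prime_iff_eq hr hq).1
      (hr.dvd_of_dvd_pow (hy ▸ orderOf_dvd_of_pow_eq_one hk)))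
  -- Sylow subgroups for the other primes are normal
  have hnorm : ∀ (r : ℕ) [Fact r.Prime], r ≠ q → ∀ R : Sylow r G,
      (R : Subgroup G).Normal ∧ Inv φ (R : Subgroup G) := by
    intro r _ hr R
    have hle : (R : Subgroup G) ≤ M := by
      intro x hx
      rw [← QuotientGroup.eq_one_iff, ← orderOf_eq_one_iff]
      by_contra h
      obtain ⟨s, hs, hsd⟩ := Nat.exists_prime_and_dvd h
      have h1 : s = q := hidx s hs (hsd.trans (Subgroup.index_eq_card M ▸ orderOf_dvd_natCard _))
      obtain ⟨k, hk⟩ := IsPGroup.iff_orderOf.1 R.isPGroup' ⟨x, hx⟩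
      rw [Subgroup.orderOf_mk] at hk
      exact hr ((Nat.prime_dvd_prime_iff_eq hq Fact.out).1
        (hq.dvd_of_dvd_pow (h1 ▸ hk ▸ hsd.trans (orderOf_map_dvd (QuotientGroup.mk' M) x)))).symm
    have hRn : (R : Subgroup G).Normal := by
      have hch : ((R.subtype hle : Sylow r M) : Subgroup M).Characteristic :=
        Sylow.characteristic_of_normal _ (Sylow.normal_of_normalizerCondition
          (Group.normalizerCondition_of_isNilpotent (h := hMnil)) _)
      have h2 := ConjAct.normal_of_characteristic_of_normal (H := M) (K := ((R.subtype hle : Sylow r M) : Subgroup M))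
      rwa [Sylow.coe_subtype, Subgroup.map_subgroupOf_eq_of_le hle] at h2
    have := Sylow.characteristic_of_normal R hRn
    exact ⟨hRn, inv_of_char φ _⟩
  have hqG : q ∣ Nat.card G := hqM.trans M.index_dvd_card
  obtain ⟨Q, hQ⟩ := CoprimeActionAut.exists_invariant_sylow φ hcop hsolv q
  have hQn : ¬ (Q : Subgroup G).Normal := by
    intro h
    apply hG
    refine ((Group.isNilpotent_of_finite_tfae (G := G)).out 0 3 rfl rfl).mpr ?_
    intro r hr R
    by_cases hrq : r = q
    · subst hrq
      have := Sylow.unique_of_normal Q h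
      rwa [Subsingleton.elim R Q]
    · exact (@hnorm r hr hrq R).1
  obtain ⟨p, hp, hpG, hpq⟩ : ∃ p, p.Prime ∧ p ∣ Nat.card G ∧ p ≠ q := by
    by_contra h
    push Not at h
    have hqg : IsPGroup q G := IsPGroup.iff_card.2 ⟨_,
      Nat.eq_prime_pow_of_unique_prime_dvd Nat.card_pos.ne' fun {d} hd hdvd => h d hd hdvd⟩
    exact hG hqg.isNilpotent
  have : Fact p.Prime := ⟨hp⟩
  obtain ⟨P⟩ := Sylow.nonempty (p := p) (G := G)
  refine ⟨?_, p, P, hp, hpG, (hnorm p hpq P).1, (hnorm p hpq P).2⟩
  have hprimes : ∀ r, r.Prime → r ∣ Nat.card G → r = p ∨ r = q := by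
    intro r hr hrG
    by_contra hne
    push Not at hne
    apply hQn
    -- every other Sylow subgroup centralises `Q`
    have hcent : ∀ (s : ℕ) [Fact s.Prime] (S : Sylow s G), s ≠ q → ∀ s' : ℕ, s'.Prime → s' ∣ Nat.card G → s' ≠ s → s' ≠ q →
        (S : Subgroup G) ≤ Subgroup.normalizer ((Q : Subgroup G) : Set G) := by
      intro s _ S hs s' hs' hs'G hs's hs'q
      have hSn := @hnorm s _ hs S
      have := hSn.1
      have hne : (Q : Subgroup G) ⊔ (S : Subgroup G) ≠ ⊤ := by
        intro htop
        have : Fact s'.Prime := ⟨hs'⟩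
        have h1 : Nat.card ↥((Q : Subgroup G) ⊔ (S : Subgroup G)) ∣ Nat.card (Q : Subgroup G) * Nat.card (S : Subgroup G) := by
          rw [← Cfsg.Agent.HallCore.card_mul_relIndex (le_sup_right : (S : Subgroup G) ≤ (Q : Subgroup G) ⊔ S),
            Subgroup.relIndex_sup_right, mul_comm]
          exact Nat.mul_dvd_mul_right (Subgroup.relIndex_dvd_card _ _) _
        rw [htop, Subgroup.card_top] at h1
        obtain ⟨a, ha⟩ := IsPGroup.iff_card.1 Q.isPGroup'
        obtain ⟨b, hb⟩ := IsPGroup.iff_card.1 S.isPGroup'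
        rw [ha, hb] at h1
        rcases (Nat.Prime.dvd_mul hs').1 (hs'G.trans h1) with h | h
        · exact hs'q ((Nat.prime_dvd_prime_iff_eq hs' hq).1 (hs'.dvd_of_dvd_pow h))
        · exact hs's ((Nat.prime_dvd_prime_iff_eq hs' Fact.out).1 (hs'.dvd_of_dvd_pow h))
      have hX := hH _ (Inv.sup (show Inv φ (Q : Subgroup G) from hQ) hSn.2) hne
      have hQX := Sylow.normal_of_normalizerCondition
        (Group.normalizerCondition_of_isNilpotent (h := hX)) (Q.subtype (le_sup_left : (Q : Subgroup G) ≤ (Q : Subgroup G) ⊔ (S : Subgroup G)))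
      rw [Sylow.coe_subtype, Subgroup.normal_subgroupOf_iff_le_normalizer le_sup_left] at hQX
      exact le_trans le_sup_right hQX
    rw [← Subgroup.normalizer_eq_top_iff, ← Subgroup.index_eq_one]
    by_contra hi
    obtain ⟨s, hs, hsd⟩ := Nat.exists_prime_and_dvd hi
    have : Fact s.Prime := ⟨hs⟩
    obtain ⟨S⟩ := Sylow.nonempty (p := s) (G := G)
    by_cases hsq : s = q
    · subst hsq
      exact Q.not_dvd_index (hsd.trans (Subgroup.index_dvd_of_le Subgroup.le_normalizer))
    have hsle : (S : Subgroup G) ≤ Subgroup.normalizer ((Q : Subgroup G) : Set G) := by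
      by_cases hsp : s = p
      · exact hcent s S hsq r hr hrG (hsp ▸ hne.1) hne.2
      · exact hcent s S hsq p hp hpG (Ne.symm hsp) hpq
    exact S.not_dvd_index (hsd.trans (Subgroup.index_dvd_of_le hsle))
  refine ⟨p, q, (Nat.card G).factorization p, (Nat.card G).factorization q, hp, hq, hpq, ?_⟩
  have hdec := Nat.prod_factorization_pow_eq_self (Nat.card_pos (α := G)).ne'
  rw [Finsupp.prod, Nat.support_factorization] at hdec
  have hpf : (Nat.card G).primeFactors = {p, q} := by
    ext r
    rw [Nat.mem_primeFactors, Finset.mem_insert, Finset.mem_singleton]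
    constructor
    · exact fun h => hprimes r h.1 h.2.1
    · rintro (rfl | rfl)
      · exact ⟨hp, hpG, Nat.card_pos.ne'⟩
      · exact ⟨hq, hqG, Nat.card_pos.ne'⟩
  rw [hpf, Finset.prod_pair hpq] at hdec
  exact hdec.symm

/-- The same for an action given by `MulDistribMulAction`. -/
theorem structure_smul [Finite A] [Finite G] [MulDistribMulAction A G]
    (hcop : (Nat.card A).Coprime (Nat.card G)) (hsolv : Group.IsSolvable A ∨ Group.IsSolvable G)
    (hmax : ∀ H : Subgroup G, H ≠ ⊤ → (∀ a : A, ∀ x ∈ H, a • x ∈ H) →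
      (∀ K : Subgroup G, H < K → (∀ a : A, ∀ x ∈ K, a • x ∈ K) → K = ⊤) → Group.IsNilpotent H)
    (hG : ¬ Group.IsNilpotent G) :
    Group.IsSolvable G ∧
      (∃ p q a b : ℕ, p.Prime ∧ q.Prime ∧ p ≠ q ∧ Nat.card G = p ^ a * q ^ b) ∧
      ∃ (p : ℕ) (P : Sylow p G), p.Prime ∧ p ∣ Nat.card G ∧ (P : Subgroup G).Normal ∧
        (∀ a : A, ∀ x ∈ (P : Subgroup G), a • x ∈ (P : Subgroup G)) :=
  structure' (MulDistribMulAction.toMulAut A G) hcop hsolv hmax hG

end Cfsg.Agent.CoprimeMaxNilp67
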