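import Mathlib
import Cfsg.Agent.Lib.NilpotentMaximal
import Cfsg.Agent.Lib.TransferTate
import Cfsg.Agent.Lib.CoprimeMaxNilp67
import Cfsg.Agent.Lib.CoprimeGen
import Cfsg.Agent.Lib.BaerSuzuki
import Cfsg.Agent.Lib.Offenders
import Cfsg.Agent.S0205

/-!
# A nilpotent maximal invariant subgroup with Sylow two-subgroup of class two

A group with a coprime operator group and such a subgroup is solvable.
-/

set_option autoImplicit false

namespace Cfsg.Agent.CoprimeNilMax38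

open Subgroup
open scoped commutatorElement Pointwise

universe u v

section basics

variable {G : Type u} [Group G]

/-- An element of two-power order. -/
def Two (x : G) : Prop := ∃ k : ℕ, orderOf x = 2 ^ k

theorem Two.map {H : Type*} [Group H] (f : G →* H) {x : G} (h : Two x) : Two (f x) := by
  obtain ⟨k, hk⟩ := h
  obtain ⟨j, -, hj⟩ := (Nat.dvd_prime_pow Nat.prime_two).1 (hk ▸ orderOf_map_dvd f x)
  exact ⟨j, hj⟩

theorem two_of_isPGroup {P : Subgroup G} [Fact (Nat.Prime 2)] (hP : IsPGroup 2 P) {x : G}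
    (hx : x ∈ P) : Two x := by
  obtain ⟨k, hk⟩ := IsPGroup.iff_orderOf.1 hP ⟨x, hx⟩
  exact ⟨k, by rwa [Subgroup.orderOf_mk] at hk⟩

/-- An element of odd order which only multiplies `v` by a fixed involution fixes `v`. -/
theorem fix_of_shift {r v f : G} (hr : Odd (orderOf r)) (hv : r * v * r⁻¹ = v * f)
    (hf : r * f = f * r) (hf2 : f * f = 1) : f = 1 := by
  have hi : ∀ i : ℕ, r ^ i * v * (r ^ i)⁻¹ = v * f ^ i := by
    intro i
    induction i with
    | zero => simp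
    | succ i ih =>
      have e : r * f ^ i * r⁻¹ = f ^ i := by
        rw [(Commute.pow_right (show Commute r f from hf) i).eq, mul_inv_cancel_right]
      calc r ^ (i + 1) * v * (r ^ (i + 1))⁻¹ = r * (r ^ i * v * (r ^ i)⁻¹) * r⁻¹ := by
            rw [pow_succ']; group
        _ = (r * v * r⁻¹) * (r * f ^ i * r⁻¹) := by rw [ih]; group
        _ = v * f ^ (i + 1) := by rw [hv, e, pow_succ', mul_assoc]
  have h1 := hi (orderOf r)
  rw [pow_orderOf_eq_one, one_mul, inv_one, mul_one, left_eq_mul] at h1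
  obtain ⟨k, hk⟩ := hr
  rwa [hk, pow_succ, pow_mul, pow_two, hf2, one_pow, one_mul] at h1

variable [Finite G]

theorem mem_normalizer_of_map_le {H : Subgroup G} {g : G}
    (h : H.map (MulAut.conj g).toMonoidHom ≤ H) : g ∈ normalizer (H : Set G) := by
  rw [mem_normalizer_iff_map_conj_eq]
  exact Subgroup.eq_of_le_of_card_ge h
    (Subgroup.card_map_of_injective (f := (MulAut.conj g).toMonoidHom) (MulAut.conj g).injective).ge

theorem two_or_part (x : G) : ∃ s k : G, s ∈ zpowers x ∧ k ∈ zpowers x ∧ x = s * k ∧ Two s ∧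
    Odd (orderOf k) := by
  set n := orderOf x
  have hn : n ≠ 0 := (orderOf_pos x).ne'
  set a := ordProj[2] n
  set b := ordCompl[2] n
  have hab : a * b = n := Nat.ordProj_mul_ordCompl_eq_self n 2
  have hb : Odd b := Nat.not_even_iff_odd.1 fun he =>
    Nat.not_dvd_ordCompl Nat.prime_two hn (even_iff_two_dvd.1 he)
  have hcop : Nat.Coprime a b := Nat.Coprime.pow_left _ (Nat.coprime_two_left.2 hb)
  have hg : (1 : ℤ) = (a : ℤ) * Nat.gcdA a b + (b : ℤ) * Nat.gcdB a b := by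
    rw [← Nat.gcd_eq_gcd_ab, hcop.gcd_eq_one]; norm_num
  refine ⟨(x ^ b) ^ Nat.gcdB a b, (x ^ a) ^ Nat.gcdA a b, zpow_mem (pow_mem (mem_zpowers x) _) _,
    zpow_mem (pow_mem (mem_zpowers x) _) _, ?_, ?_, ?_⟩
  · rw [← zpow_natCast, ← zpow_natCast x a, ← zpow_mul, ← zpow_mul, ← zpow_add, add_comm, ← hg,
      zpow_one]
  · have hd : orderOf ((x ^ b) ^ Nat.gcdB a b) ∣ a := by
      refine orderOf_dvd_of_pow_eq_one ?_
      rw [← zpow_natCast, ← zpow_mul, mul_comm, zpow_mul, zpow_natCast, ← pow_mul, mul_comm b a, hab,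
        pow_orderOf_eq_one, one_zpow]
    obtain ⟨j, -, hj⟩ := (Nat.dvd_prime_pow Nat.prime_two).1 hd
    exact ⟨j, hj⟩
  · refine hb.of_dvd_nat (orderOf_dvd_of_pow_eq_one ?_)
    rw [← zpow_natCast, ← zpow_mul, mul_comm, zpow_mul, zpow_natCast, ← pow_mul, hab,
      pow_orderOf_eq_one, one_zpow]

theorem two_lift {H : Type*} [Group H] (f : G →* H) {M : Subgroup G} {y : H} (hy : y ∈ M.map f)
    (h2 : Two y) : ∃ s ∈ M, Two s ∧ f s = y := by
  obtain ⟨m, hm, rfl⟩ := hy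
  obtain ⟨s, k, hs, hk, hmk, hs2, hk2⟩ := two_or_part m
  refine ⟨s, zpowers_le.2 hm hs, hs2, ?_⟩
  obtain ⟨i, hi⟩ := mem_zpowers_iff.1 hs
  obtain ⟨j, hj⟩ := mem_zpowers_iff.1 hk
  have hc : Commute (f m) (f s)⁻¹ := by
    rw [← hi, map_zpow]; exact ((Commute.refl _).zpow_right i).inv_right
  have hfk : f k = f m * (f s)⁻¹ := by
    rw [hc.eq, hmk, map_mul, inv_mul_cancel_left]
  obtain ⟨a, ha⟩ := h2
  obtain ⟨b, hb⟩ := hs2.map f
  have h1 : orderOf (f k) ∣ 2 ^ (max a b) := by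
    refine orderOf_dvd_of_pow_eq_one ?_
    rw [hfk, hc.mul_pow, inv_pow,
      orderOf_dvd_iff_pow_eq_one.1 (ha ▸ Nat.pow_dvd_pow 2 (le_max_left a b)),
      orderOf_dvd_iff_pow_eq_one.1 (hb ▸ Nat.pow_dvd_pow 2 (le_max_right a b)), inv_one, mul_one]
  have h2 : Odd (orderOf (f k)) := hk2.of_dvd_nat (orderOf_map_dvd f k)
  have h3 : orderOf (f k) = 1 := Nat.eq_one_of_dvd_coprimes
    ((Nat.coprime_two_right.2 h2).pow_right _) dvd_rfl h1
  rw [orderOf_eq_one_iff] at h3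
  rw [hmk, map_mul, h3, mul_one]

/-- In a nilpotent subgroup elements of odd order commute with elements of two-power order. -/
theorem commute_of_nilpotent {M : Subgroup G} (hM : Group.IsNilpotent M) {k s : G} (hk : k ∈ M)
    (hs : s ∈ M) (hk2 : Odd (orderOf k)) (hs2 : Two s) : k * s = s * k := by
  have : Fact (Nat.Prime 2) := ⟨Nat.prime_two⟩
  obtain ⟨Q, N, hN, hNQ⟩ := NilpotentMaximal.hasNormalPComplement_of_isNilpotent hM 2
  have hQn : (Q : Subgroup M).Normal := by have := hM; infer_instance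
  have hkN : (⟨k, hk⟩ : M) ∈ N := by
    rw [← QuotientGroup.eq_one_iff, ← orderOf_eq_one_iff]
    obtain ⟨a, ha⟩ := IsPGroup.iff_card.1 Q.isPGroup'
    have h1 : orderOf ((⟨k, hk⟩ : M) : M ⧸ N) ∣ 2 ^ a := by
      rw [← ha, ← hNQ.symm.index_eq_card, Subgroup.index_eq_card]
      exact _root_.orderOf_dvd_natCard _
    have h2 : orderOf ((⟨k, hk⟩ : M) : M ⧸ N) ∣ orderOf k := by
      rw [← Subgroup.orderOf_mk k hk]
      exact orderOf_map_dvd (QuotientGroup.mk' N) _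
    exact Nat.eq_one_of_dvd_coprimes ((Nat.coprime_two_right.2 hk2).pow_right a) h2 h1
  have hsQ : (⟨s, hs⟩ : M) ∈ (Q : Subgroup M) := by
    obtain ⟨a, ha⟩ := hs2
    have hp : IsPGroup 2 (zpowers (⟨s, hs⟩ : M)) :=
      IsPGroup.of_card (n := a) (by rw [Nat.card_zpowers, Subgroup.orderOf_mk, ha])
    obtain ⟨T, hT⟩ := hp.exists_le_sylow
    have := Sylow.unique_of_normal Q hQn
    rw [Subsingleton.elim Q T]
    exact hT (mem_zpowers _)
  have hc := Subgroup.commute_of_normal_of_disjoint N (Q : Subgroup M) hN hQn hNQ.disjoint _ _ hkN hsQ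
  exact congrArg Subtype.val hc.eq

theorem two_mem_sylow {M : Subgroup G} [Fact (Nat.Prime 2)] (hM : Group.IsNilpotent M) (T : Sylow 2 M)
    {x : G} (hx : x ∈ M) (h2 : Two x) : (⟨x, hx⟩ : M) ∈ (T : Subgroup M) := by
  obtain ⟨a, ha⟩ := h2
  have hp : IsPGroup 2 (zpowers (⟨x, hx⟩ : M)) :=
    IsPGroup.of_card (n := a) (by rw [Nat.card_zpowers, Subgroup.orderOf_mk, ha])
  obtain ⟨T', hT⟩ := hp.exists_le_sylow
  have := hM
  have := Sylow.unique_of_normal T inferInstance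
  rw [Subsingleton.elim T T']
  exact hT (mem_zpowers _)

end basics

/-- A four-group on which an element outside `M` acts, seen from the Sylow subgroup. -/
structure Four {G : Type u} [Group G] (S M U : Subgroup G) (z w g : G) : Prop where
  le : U ≤ S
  zle : ∀ x ∈ S, (∀ s ∈ S, s * x = x * s) → x ∈ U
  out : ∀ s ∈ S, s ∉ U → s * w * s⁻¹ = w * z
  idx : ∀ s ∈ S, s ∉ U → ∀ s' ∈ S, s' ∉ U → s * s' ∈ U
  normS : ∀ s ∈ S, ∀ u ∈ U, s * u * s⁻¹ ∈ U
  cw : ∀ u ∈ U, u * w = w * u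
  cz : ∀ s ∈ S, s * z = z * s
  zU : z ∈ U
  wU : w ∈ U
  z2 : z * z = 1
  w2 : w * w = 1
  comm : ∀ a ∈ U, ∀ b ∈ U, a * b * a⁻¹ * b⁻¹ ≠ z
  sq : ∀ u ∈ U, u * u ≠ z
  move : ∀ u ∈ U, g * u * g⁻¹ ∈ ({u, u * z, u * w, u * z * w} : Set G)
  gM : g ∉ M

namespace Four

variable {G : Type u} [Group G] {S M U : Subgroup G} {z w g : G}

theorem z_ne (h : Four S M U z w g) : z ≠ 1 := fun e => h.sq 1 U.one_mem (by rw [e, one_mul])

theorem map (h : Four S M U z w g) (e : G ≃* G) (hS : ∀ x, e x ∈ S ↔ x ∈ S)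
    (hM : ∀ x, e x ∈ M ↔ x ∈ M) :
    Four S M (U.map e.toMonoidHom) (e z) (e w) (e g) := by
  have hmem : ∀ x, e x ∈ U.map e.toMonoidHom ↔ x ∈ U := fun x =>
    mem_map_iff_mem e.injective
  refine ⟨?_, ?_, ?_, ?_, ?_, ?_, ?_, (hmem z).2 h.zU, (hmem w).2 h.wU,
    by rw [← map_mul, h.z2, map_one], by rw [← map_mul, h.w2, map_one], ?_, ?_, ?_, fun hg => h.gM ((hM g).1 hg)⟩
  · rintro _ ⟨x, hx, rfl⟩; exact (hS x).2 (h.le hx)
  · intro x hx hc
    obtain ⟨x, rfl⟩ := e.surjective x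
    refine (hmem x).2 (h.zle x ((hS x).1 hx) fun s hs => e.injective ?_)
    rw [map_mul, map_mul]; exact hc _ ((hS s).2 hs)
  · intro s hs hn
    obtain ⟨s, rfl⟩ := e.surjective s
    rw [← map_inv, ← map_mul, ← map_mul, h.out s ((hS s).1 hs) (fun hh => hn ((hmem s).2 hh)), map_mul]
  · intro s hs hn s' hs' hn'
    obtain ⟨s, rfl⟩ := e.surjective s
    obtain ⟨s', rfl⟩ := e.surjective s'
    rw [← map_mul, hmem]
    exact h.idx s ((hS s).1 hs) (fun hh => hn ((hmem s).2 hh)) s' ((hS s').1 hs')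
      (fun hh => hn' ((hmem s').2 hh))
  · intro s hs u hu
    obtain ⟨s, rfl⟩ := e.surjective s
    obtain ⟨u, rfl⟩ := e.surjective u
    rw [← map_inv, ← map_mul, ← map_mul, hmem]
    exact h.normS s ((hS s).1 hs) u ((hmem u).1 hu)
  · intro u hu
    obtain ⟨u, rfl⟩ := e.surjective u
    rw [← map_mul, ← map_mul, h.cw u ((hmem u).1 hu)]
  · intro s hs
    obtain ⟨s, rfl⟩ := e.surjective s
    rw [← map_mul, ← map_mul, h.cz s ((hS s).1 hs)]
  · intro a ha b hb hab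
    obtain ⟨a, rfl⟩ := e.surjective a
    obtain ⟨b, rfl⟩ := e.surjective b
    rw [← map_inv, ← map_inv, ← map_mul, ← map_mul, ← map_mul] at hab
    exact h.comm a ((hmem a).1 ha) b ((hmem b).1 hb) (e.injective hab)
  · intro a ha hab
    obtain ⟨a, rfl⟩ := e.surjective a
    rw [← map_mul] at hab
    exact h.sq a ((hmem a).1 ha) (e.injective hab)
  · intro u hu
    obtain ⟨u, rfl⟩ := e.surjective u
    have h1 := h.move u ((hmem u).1 hu)
    simp only [Set.mem_insert_iff, Set.mem_singleton_iff] at h1 ⊢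
    rw [← map_inv, ← map_mul, ← map_mul, ← map_mul, ← map_mul, ← map_mul]
    rcases h1 with h1 | h1 | h1 | h1 <;> rw [h1] <;> simp

variable {U₁ U₂ U₃ : Subgroup G} {z₁ w₁ g₁ z₂ w₂ g₂ z₃ w₃ g₃ : G}

theorem symm (h₁ : Four S M U₁ z₁ w₁ g₁) (h₂ : Four S M U₂ z₂ w₂ g₂) (h : w₂ ∉ U₁) : w₁ ∉ U₂ := by
  intro h'
  have e := h₁.out w₂ (h₂.le h₂.wU) h
  rw [← h₂.cw w₁ h', mul_inv_cancel_right, left_eq_mul] at e
  exact h₁.z_ne e

theorem z_eq (h₁ : Four S M U₁ z₁ w₁ g₁) (h₂ : Four S M U₂ z₂ w₂ g₂) (h : w₂ ∉ U₁) : z₂ = z₁ := by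
  have e₁ := h₁.out w₂ (h₂.le h₂.wU) h
  have e₂ := h₂.out w₁ (h₁.le h₁.wU) (h₁.symm h₂ h)
  rw [inv_eq_of_mul_eq_one_right h₂.w2] at e₁
  rw [inv_eq_of_mul_eq_one_right h₁.w2] at e₂
  have a : (w₂ * w₁) * (w₂ * w₁) = z₁ := by
    rw [show (w₂ * w₁) * (w₂ * w₁) = (w₂ * w₁ * w₂) * w₁ by group, e₁, mul_assoc,
      ← h₁.cz w₁ (h₁.le h₁.wU), ← mul_assoc, h₁.w2, one_mul]
  have b : (w₂ * w₁) * (w₂ * w₁) = z₂ := by
    rw [show (w₂ * w₁) * (w₂ * w₁) = w₂ * (w₁ * w₂ * w₁) by group, e₂, ← mul_assoc, h₂.w2, one_mul]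
  exact b.symm.trans a

/-- Two partners of one member have the same hyperplane. -/
theorem partner_le (h₁ : Four S M U₁ z₁ w₁ g₁) (h₂ : Four S M U₂ z₂ w₂ g₂) (h₃ : Four S M U₃ z₃ w₃ g₃)
    (h12 : w₂ ∉ U₁) (h13 : w₃ ∉ U₁) : U₂ ≤ U₃ := by
  set v := w₂ * w₃ with hvdef
  have hv : v ∈ U₁ := h₁.idx _ (h₂.le h₂.wU) h12 _ (h₃.le h₃.wU) h13
  have hw3 : w₃ = w₂ * v := by rw [hvdef, ← mul_assoc, h₂.w2, one_mul]
  have hz : z₂ = z₁ := h₁.z_eq h₂ h12
  have hz3 : z₃ = z₁ := h₁.z_eq h₃ h13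
  have hw₂ : w₂⁻¹ = w₂ := inv_eq_of_mul_eq_one_right h₂.w2
  have h23 : w₂ ∈ U₃ := by
    by_contra hn
    have e := h₃.out w₂ (h₂.le h₂.wU) hn
    rw [hw₂, hz3, hw3] at e
    have e' : v * w₂ = w₂ * v * z₁ := by
      rw [← e, ← mul_assoc w₂ w₂, h₂.w2, one_mul]
    have hsq : w₂ * v * (w₂ * v) = 1 := by rw [← hw3, h₃.w2]
    rw [show w₂ * v * (w₂ * v) = w₂ * (v * w₂) * v by group, e',
      show w₂ * (w₂ * v * z₁) * v = (w₂ * w₂) * (v * z₁ * v) by group, h₂.w2, one_mul,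
      h₁.cz v (h₁.le hv), mul_assoc, ← hz3] at hsq
    have : v * v = z₁ := by
      rw [← hz3]
      rw [← inv_eq_of_mul_eq_one_right hsq, inv_eq_of_mul_eq_one_right h₃.z2]
    exact h₁.sq v hv this
  have hin : ∀ s ∈ U₁, s ∈ U₂ → s ∈ U₃ := by
    intro s hs1 hs2
    by_contra hn
    have e := h₃.out s (h₂.le hs2) hn
    rw [hz3, hw3, show s * (w₂ * v) * s⁻¹ = (s * w₂) * v * s⁻¹ by group, h₂.cw s hs2,
      show w₂ * s * v * s⁻¹ = w₂ * (s * v * s⁻¹) by group, mul_assoc w₂ v z₁, mul_right_inj] at e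
    apply h₁.comm s hs1 v hv
    rw [e, h₁.cz v (h₁.le hv), mul_inv_cancel_right]
  intro s hs
  by_cases h1 : s ∈ U₁
  · exact hin s h1 hs
  · have := hin (w₂ * s) (h₁.idx _ (h₂.le h₂.wU) h12 _ (h₂.le hs) h1) (U₂.mul_mem h₂.wU hs)
    exact (U₃.mul_mem_cancel_left h23).1 this

end Four

/-- The situation: the invariant Sylow two-subgroup inside `M`. -/
structure Sit {G : Type u} [Group G] {A : Type v} [Group A] (φ : A →* MulAut G) (M : Subgroup G)
    (S : Sylow 2 G) : Prop where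
  top : M ≠ ⊤
  invM : CoprimeMaxNilp67.Inv φ M
  max : ∀ H : Subgroup G, M ≤ H → H ≠ ⊤ → CoprimeMaxNilp67.Inv φ H → H = M
  nil : Group.IsNilpotent M
  core : ∀ N : Subgroup G, N.Normal → CoprimeMaxNilp67.Inv φ N → N ≤ M → N = ⊥
  SM : (S : Subgroup G) ≤ M
  Sne : (S : Subgroup G) ≠ ⊥
  invS : CoprimeMaxNilp67.Inv φ (S : Subgroup G)
  norm : normalizer ((S : Subgroup G) : Set G) = M
  cls : ∀ x ∈ (S : Subgroup G), ∀ y ∈ (S : Subgroup G), ∀ s ∈ (S : Subgroup G),
    ⁅x, y⁆ * s = s * ⁅x, y⁆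
  oddA : Odd (Nat.card A)

namespace Sit

variable {G : Type u} [Group G] [Finite G] {A : Type v} [Group A] {φ : A →* MulAut G} {M : Subgroup G}
  {S : Sylow 2 G} [Fact (Nat.Prime 2)]

theorem comm_mem (h : Sit φ M S) {x y : G} (hx : x ∈ (S : Subgroup G)) (hy : y ∈ (S : Subgroup G)) :
    ⁅x, y⁆ ∈ FrobeniusThompson.zOf (S : Subgroup G) := by
  refine ⟨?_, mem_centralizer_iff.2 fun s hs => (h.cls x hx y hy s hs).symm⟩
  show ⁅x, y⁆ ∈ (S : Subgroup G)
  rw [commutatorElement_def]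
  exact mul_mem (mul_mem (mul_mem hx hy) (inv_mem hx)) (inv_mem hy)

theorem decomp (h : Sit φ M S) {m : G} (hm : m ∈ M) :
    ∃ s ∈ (S : Subgroup G), ∃ k, (∀ t ∈ (S : Subgroup G), k * t = t * k) ∧ m = k * s := by
  obtain ⟨s, k, hs, hk, rfl, hs2, hk2⟩ := two_or_part m
  have hsM := zpowers_le.2 hm hs
  have hkM := zpowers_le.2 hm hk
  refine ⟨s, ?_, k, fun t ht => commute_of_nilpotent h.nil hkM (h.SM ht) hk2
    (two_of_isPGroup S.isPGroup' ht), (commute_of_nilpotent h.nil hkM hsM hk2 hs2).symm⟩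
  exact two_mem_sylow h.nil (S.subtype h.SM) hsM hs2

theorem mem_S (h : Sit φ M S) {x : G} (hx : x ∈ M) (h2 : Two x) : x ∈ (S : Subgroup G) :=
  two_mem_sylow h.nil (S.subtype h.SM) hx h2

theorem normalizer_eq (h : Sit φ M S) {D : Subgroup G} (hD : D ≤ (S : Subgroup G)) (hne : D ≠ ⊥)
    (hi : CoprimeMaxNilp67.Inv φ D) (hn : M ≤ normalizer (D : Set G)) :
    normalizer (D : Set G) = M := by
  refine h.max _ hn (fun e => hne ?_) hi.normalizer
  exact h.core D (normalizer_eq_top_iff.1 e) hi (hD.trans h.SM)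

theorem normalizer_thompson (h : Sit φ M S) :
    normalizer (Cfsg.thompsonSubgroupOf 2 (S : Subgroup G) : Set G) = M :=
  h.normalizer_eq (Offenders.thompsonOf_le _)
    (FrobeniusThompson.thompsonOf_ne_bot S.isPGroup' h.Sne) (h.invS.thompson 2)
    (h.norm ▸ FrobeniusThompson.normalizer_le_normalizer_thompsonOf _)

/-- The involutions of the centre of `S`, with the identity. -/
theorem centralizer_le (h : Sit φ M S) {x : G}
    (hx : ∀ z ∈ (S : Subgroup G), (∀ s ∈ (S : Subgroup G), s * z = z * s) → z * z = 1 → x * z = z * x) :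
    x ∈ M := by
  classical
  let D : Subgroup G := {
    carrier := {z | (z ∈ (S : Subgroup G) ∧ ∀ s ∈ (S : Subgroup G), s * z = z * s) ∧ z * z = 1}
    one_mem' := ⟨⟨one_mem _, fun s _ => by simp⟩, one_mul 1⟩
    mul_mem' := fun {a b} ha hb => by
      refine ⟨⟨mul_mem ha.1.1 hb.1.1, fun s hs => ?_⟩, ?_⟩
      · rw [← mul_assoc, ha.1.2 s hs, mul_assoc, hb.1.2 s hs, ← mul_assoc]
      · rw [show a * b * (a * b) = a * (b * a) * b by group,
          ← hb.1.2 a ha.1.1, show a * (a * b) * b = (a * a) * (b * b) by group, ha.2, hb.2, one_mul]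
    inv_mem' := fun {a} ha => by
      rw [inv_eq_of_mul_eq_one_right ha.2]; exact ha }
  have hDS : D ≤ (S : Subgroup G) := fun z hz => hz.1.1
  have hi : CoprimeMaxNilp67.Inv φ D := by
    intro a z hz
    refine ⟨⟨h.invS a z hz.1.1, fun s hs => ?_⟩, by rw [← map_mul, hz.2, map_one]⟩
    obtain ⟨s, rfl⟩ := (φ a).surjective s
    rw [← map_mul, ← map_mul, hz.1.2 s ((h.invS.mem_iff a).1 hs)]
  have hne : D ≠ ⊥ := by
    intro hbot
    obtain ⟨z, hz, hord⟩ := PGroupsBasic.exists_orderOf_eq_of_ne_bot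
      (S.isPGroup'.to_le (inf_le_left : FrobeniusThompson.zOf (S : Subgroup G) ≤ S))
      (FrobeniusThompson.zOf_ne_bot S.isPGroup' h.Sne)
    have hzD : z ∈ D := ⟨⟨hz.1, fun s hs => mem_centralizer_iff.1 hz.2 s hs⟩, by
      rw [← pow_two, ← hord, pow_orderOf_eq_one]⟩
    rw [hbot, Subgroup.mem_bot] at hzD
    rw [hzD, orderOf_one] at hord
    omega
  have hn : M ≤ normalizer (D : Set G) := by
    intro m hm
    obtain ⟨s, hs, k, hk, rfl⟩ := h.decomp hm
    refine mem_normalizer_iff.2 fun z => ?_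
    have key : ∀ z ∈ D, k * s * z * (k * s)⁻¹ = z := by
      intro z hz
      rw [show k * s * z * (k * s)⁻¹ = k * (s * z * s⁻¹) * k⁻¹ by group, hz.1.2 s hs,
        mul_inv_cancel_right, hk z hz.1.1, mul_inv_cancel_right]
    refine ⟨fun hz => by rw [key z hz]; exact hz, fun hz => ?_⟩
    have e := key _ hz
    have : k * s * z * (k * s)⁻¹ = z := mul_left_cancel (mul_right_cancel e)
    rwa [this] at hz
  rw [← h.normalizer_eq hDS hne hi hn]
  exact Subgroup.centralizer_le_normalizer _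
    (mem_centralizer_iff.2 fun z hz => (hx z hz.1.1 hz.1.2 hz.2).symm)

/-- Some normal subgroup of `S` over its centre has normaliser outside `M`, or fusion is controlled. -/
theorem controls (h : Sit φ M S)
    (hU : ∀ U : Subgroup G, FrobeniusThompson.zOf (S : Subgroup G) ≤ U → U ≤ (S : Subgroup G) →
      (S : Subgroup G) ≤ normalizer (U : Set G) → normalizer (U : Set G) ≤ M) :
    TransferTate.ControlsFusion (S : Subgroup G) (S : Subgroup G) := by
  classical
  set Z := FrobeniusThompson.zOf (S : Subgroup G)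
  have huniq : ∀ R : Sylow 2 G, Z ≤ (R : Subgroup G) → (R : Subgroup G) = S := by
    intro R hZR
    set U := (S : Subgroup G) ⊓ R with hUdef
    have hSU : (S : Subgroup G) ≤ normalizer (U : Set G) := by
      refine FrobeniusThompson.le_normalizer_of_conj fun s hs x hx => ?_
      have e : s * x * s⁻¹ = ⁅s, x⁆ * x := by rw [commutatorElement_def]; group
      rw [e]
      have hc := h.comm_mem hs hx.1
      exact ⟨mul_mem hc.1 hx.1, mul_mem (hZR hc) hx.2⟩
    have hN := hU U (le_inf inf_le_left hZR) inf_le_left hSU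
    by_contra hne
    have hUR : U.subgroupOf R ≠ ⊤ := by
      intro ht
      exact hne (R.is_maximal' S.isPGroup' ((subgroupOf_eq_top.mp ht).trans inf_le_left)).symm
    have hnilR := R.isPGroup'.isNilpotent
    obtain ⟨r, hr, hrU⟩ := SetLike.exists_of_lt
      (Group.normalizerCondition_of_isNilpotent (G := R) (U.subgroupOf R) (lt_top_iff_ne_top.mpr hUR))
    apply hrU
    have hrM : (r : G) ∈ M := hN <| mem_normalizer_iff.mpr fun y => by
      have hr' := mem_normalizer_iff.mp hr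
      constructor
      · intro hy; exact (hr' ⟨y, hy.2⟩).mp hy
      · intro hy
        have hyR : y ∈ (R : Subgroup G) := by
          have := (R : Subgroup G).mul_mem ((R : Subgroup G).mul_mem ((R : Subgroup G).inv_mem r.2) hy.2) r.2
          simpa [mul_assoc] using this
        exact (hr' ⟨y, hyR⟩).mpr hy
    rw [mem_subgroupOf]
    exact ⟨h.mem_S hrM (two_of_isPGroup R.isPGroup' r.2), r.2⟩
  intro x hx g hy
  set y := g * x * g⁻¹ with hydef
  set C := centralizer ({y} : Set G) with hC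
  have hZC : Z ≤ C := fun z hz => by
    rw [hC, mem_centralizer_iff]
    rintro _ rfl
    exact mem_centralizer_iff.mp hz.2 _ hy
  set Z' := Z.map (MulAut.conj g).toMonoidHom with hZ'
  have hZ'C : Z' ≤ C := by
    rintro _ ⟨z, hz, rfl⟩
    rw [hC, mem_centralizer_iff]
    rintro _ rfl
    have := mem_centralizer_iff.mp hz.2 _ hx
    simp only [MulEquiv.coe_toMonoidHom, MulAut.conj_apply]
    calc y * (g * z * g⁻¹) = g * (x * z) * g⁻¹ := by rw [hydef]; group
      _ = g * (z * x) * g⁻¹ := by rw [this]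
      _ = g * z * g⁻¹ * y := by rw [hydef]; group
  have hpZ : IsPGroup 2 Z := S.isPGroup'.to_le inf_le_left
  obtain ⟨T, hT⟩ := (hpZ.comap_subtype (K := C)).exists_le_sylow
  obtain ⟨T₂, hT₂⟩ := ((hpZ.map (MulAut.conj g).toMonoidHom).comap_subtype (K := C)).exists_le_sylow
  obtain ⟨c, hc⟩ := MulAction.exists_smul_eq C T₂ T
  obtain ⟨S', hS'⟩ := (T.isPGroup'.map C.subtype).exists_le_sylow
  have hSS : (S' : Subgroup G) = S := huniq S' fun z hz => hS' ⟨⟨z, hZC hz⟩, hT hz, rfl⟩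
  set e := (c : G) * g with he
  have hconjZ : ∀ z ∈ Z, e * z * e⁻¹ ∈ (S : Subgroup G) := by
    intro z hz
    rw [← hSS]
    have hz' : g * z * g⁻¹ ∈ Z' := ⟨z, hz, rfl⟩
    have h2 : c * ⟨g * z * g⁻¹, hZ'C hz'⟩ * c⁻¹ ∈ (T : Subgroup C) := by
      rw [← hc]
      exact smul_mem_pointwise_smul _ (MulAut.conj c) _ (hT₂ hz')
    refine hS' ⟨_, h2, ?_⟩
    simp [he, mul_assoc]
  have heM : e ∈ M := by
    have := huniq (e⁻¹ • S) fun z hz => by
      rw [Sylow.coe_subgroup_smul, mem_pointwise_smul_iff_inv_smul_mem]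
      simpa using hconjZ z hz
    have h' : e⁻¹ ∈ normalizer ((S : Subgroup G) : Set G) :=
      Sylow.smul_eq_iff_mem_normalizer.mp (Sylow.ext this)
    rw [h.norm] at h'
    simpa using inv_mem h'
  have hexy : e * x * e⁻¹ = y := by
    have hcy := mem_centralizer_iff.mp c.2 y rfl
    rw [he]
    calc (c : G) * g * x * ((c : G) * g)⁻¹ = (c : G) * y * (c : G)⁻¹ := by rw [hydef]; group
      _ = y * (c : G) * (c : G)⁻¹ := by rw [hcy]
      _ = y := by group
  obtain ⟨a, ha, hax⟩ := TransferTate.control_of_hasNormalPComplement (S.subtype h.SM)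
    (NilpotentMaximal.hasNormalPComplement_of_isNilpotent h.nil 2) ⟨x, h.SM hx⟩ hx ⟨e, heM⟩ (by
      change e * x * e⁻¹ ∈ (S : Subgroup G)
      rw [hexy]; exact hy)
  exact ⟨a, ha, (congrArg Subtype.val hax).trans hexy⟩

/-- A maximal bad subgroup has index two in `S` and supplies a four-group. -/
theorem exists_four (h : Sit φ M S) (U : Subgroup G)
    (hZU : FrobeniusThompson.zOf (S : Subgroup G) ≤ U) (hUS : U ≤ (S : Subgroup G))
    (hSU : (S : Subgroup G) ≤ normalizer (U : Set G)) (hbad : ¬ normalizer (U : Set G) ≤ M)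
    (hmax : ∀ U' : Subgroup G, U < U' → U' ≤ (S : Subgroup G) →
      (S : Subgroup G) ≤ normalizer (U' : Set G) → normalizer (U' : Set G) ≤ M) :
    ∃ z w g : G, Four (S : Subgroup G) M U z w g := by
  classical
  set X := normalizer (U : Set G) with hX
  have hXU : ∀ x ∈ X, ∀ u ∈ U, x * u * x⁻¹ ∈ U := fun x hx u hu => (mem_normalizer_iff.1 hx u).1 hu
  have heq : ∀ U' : Subgroup G, U ≤ U' → U' ≤ (S : Subgroup G) → X ≤ normalizer (U' : Set G) → U' = U := by
    intro U' h1 h2 h3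
    by_contra hne
    exact hbad (h3.trans (hmax U' (lt_of_le_of_ne h1 (Ne.symm hne)) h2 (hSU.trans h3)))
  -- conjugation by elements of `S` changes elements by central elements
  have hconj : ∀ x ∈ (S : Subgroup G), ∀ y ∈ (S : Subgroup G), ∃ c ∈ FrobeniusThompson.zOf (S : Subgroup G),
      x * y * x⁻¹ = c * y := fun x hx y hy =>
    ⟨⁅x, y⁆, h.comm_mem hx hy, by rw [commutatorElement_def]; group⟩
  have hcz : ∀ c ∈ FrobeniusThompson.zOf (S : Subgroup G), ∀ s ∈ (S : Subgroup G), s * c = c * s :=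
    fun c hc s hs => mem_centralizer_iff.1 hc.2 s hs
  let V : Subgroup G := {
    carrier := {x | x ∈ U ∧ (∀ u ∈ U, u * x = x * u) ∧ x * x = 1}
    one_mem' := ⟨one_mem _, fun u _ => by simp, one_mul 1⟩
    mul_mem' := fun {a b} ha hb => by
      refine ⟨mul_mem ha.1 hb.1, fun u hu => ?_, ?_⟩
      · rw [← mul_assoc, ha.2.1 u hu, mul_assoc, hb.2.1 u hu, ← mul_assoc]
      · rw [show a * b * (a * b) = a * (b * a) * b by group, ha.2.1 b hb.1,
          show a * (a * b) * b = (a * a) * (b * b) by group, ha.2.2, hb.2.2, one_mul]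
    inv_mem' := fun {a} ha => by
      rw [inv_eq_of_mul_eq_one_right ha.2.2]; exact ha }
  have hVconj : ∀ x ∈ X, ∀ v ∈ V, x * v * x⁻¹ ∈ V := by
    intro x hx v hv
    refine ⟨hXU x hx v hv.1, fun u hu => ?_, ?_⟩
    · have h1 := hv.2.1 _ (hXU x⁻¹ (inv_mem hx) u hu)
      calc u * (x * v * x⁻¹) = x * ((x⁻¹ * u * x⁻¹⁻¹) * v) * x⁻¹ := by group
        _ = x * (v * (x⁻¹ * u * x⁻¹⁻¹)) * x⁻¹ := by rw [h1]
        _ = x * v * x⁻¹ * u := by group
    · rw [show x * v * x⁻¹ * (x * v * x⁻¹) = x * (v * v) * x⁻¹ by group, hv.2.2]; group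
  have hSX : (S : Subgroup G) ≤ X := hSU
  have hshift : ∀ s ∈ (S : Subgroup G), ∀ v ∈ V, ∃ c ∈ V, s * v * s⁻¹ = c * v ∧
      c ∈ FrobeniusThompson.zOf (S : Subgroup G) := by
    intro s hs v hv
    obtain ⟨c, hc, e⟩ := hconj s hs v (hUS hv.1)
    refine ⟨c, ?_, e, hc⟩
    have : c = s * v * s⁻¹ * v⁻¹ := by rw [e, mul_inv_cancel_right]
    rw [this]
    exact V.mul_mem (hVconj s (hSX hs) v hv) (V.inv_mem hv)
  -- the centraliser of `V` in `S` is `U`
  have hCV : ∀ s ∈ (S : Subgroup G), (∀ v ∈ V, s * v = v * s) → s ∈ U := by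
    intro s hs hsv
    have hT : (S : Subgroup G) ⊓ centralizer (V : Set G) = U := by
      refine heq _ (le_inf hUS fun u hu => mem_centralizer_iff.2 fun v hv => (hv.2.1 u hu).symm) inf_le_left ?_
      refine FrobeniusThompson.le_normalizer_of_conj fun x hx y hy => ?_
      have hc : x * y * x⁻¹ ∈ centralizer (V : Set G) := by
        refine mem_centralizer_iff.2 fun v hv => ?_
        have h1 := mem_centralizer_iff.1 hy.2 _ (hVconj x⁻¹ (inv_mem hx) v hv)
        calc v * (x * y * x⁻¹) = x * ((x⁻¹ * v * x⁻¹⁻¹) * y) * x⁻¹ := by group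
          _ = x * (y * (x⁻¹ * v * x⁻¹⁻¹)) * x⁻¹ := by rw [h1]
          _ = x * y * x⁻¹ * v := by group
      refine ⟨h.mem_S (h.centralizer_le fun z hz hzc hz2 => ?_) ?_, hc⟩
      · refine (mem_centralizer_iff.1 hc z ⟨hZU ⟨hz, mem_centralizer_iff.2 fun a ha => hzc a ha⟩,
          fun u hu => hzc u (hUS hu), hz2⟩).symm
      · exact (two_of_isPGroup S.isPGroup' hy.1).map (MulAut.conj x).toMonoidHom
    rw [← hT]
    exact ⟨hs, mem_centralizer_iff.2 fun v hv => (hsv v hv).symm⟩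
  have hsqU : ∀ s ∈ (S : Subgroup G), s * s ∈ U := by
    intro s hs
    refine hCV _ (mul_mem hs hs) fun v hv => ?_
    obtain ⟨c, hcV, e, hc⟩ := hshift s hs v hv
    have e1 : s * c = c * s := hcz c hc s hs
    calc s * s * v = s * (s * v * s⁻¹) * s := by group
      _ = (s * c) * v * s := by rw [e]; group
      _ = c * (s * v * s⁻¹) * (s * s) := by rw [e1]; group
      _ = (c * c) * v * (s * s) := by rw [e]; group
      _ = v * (s * s) := by rw [hcV.2.2, one_mul]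
  -- index two
  have hidx : ∀ s ∈ (S : Subgroup G), s ∉ U → ∀ s' ∈ (S : Subgroup G), s' ∉ U → s * s' ∈ U := by
    intro s₁ hs₁ hn₁ s₂ hs₂ hn₂
    by_contra hn₃
    haveI : (U.subgroupOf X).Normal := Subgroup.normal_subgroupOf_iff_le_normalizer (le_normalizer) |>.2 le_rfl
    set π := QuotientGroup.mk' (U.subgroupOf X)
    have hπ : Function.Surjective π := QuotientGroup.mk'_surjective _
    let P : Sylow 2 (X ⧸ U.subgroupOf X) := (S.subtype hSX).mapSurjective hπ
    have hπU : ∀ a : X, π a = 1 ↔ (a : G) ∈ U := fun a => (QuotientGroup.eq_one_iff a).trans mem_subgroupOf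
    have hPmem : ∀ a : X, π a ∈ (P : Subgroup (X ⧸ U.subgroupOf X)) ↔ (a : G) ∈ (S : Subgroup G) := by
      intro a
      constructor
      · rintro ⟨b, hb, hab⟩
        have h1 : π (b⁻¹ * a) = 1 := by rw [map_mul, map_inv, hab, inv_mul_cancel]
        have h2 := (hπU _).1 h1
        have h3 : (a : G) = (b : G) * ((b⁻¹ * a : X) : G) := by simp
        rw [h3]; exact mul_mem hb (hUS h2)
      · intro ha; exact ⟨a, ha, rfl⟩
    have hcommP : ∀ a b : X, (a : G) ∈ M → (b : G) ∈ (S : Subgroup G) → π a * π b = π b * π a := by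
      intro a b ha hb
      obtain ⟨s, hs, k, hk, he⟩ := h.decomp ha
      rw [← map_mul, ← map_mul, ← inv_mul_eq_one, ← map_inv, ← map_mul, hπU]
      show ((a : G) * b)⁻¹ * ((b : G) * a) ∈ U
      obtain ⟨c, hc, e⟩ := hconj _ (inv_mem hb) _ (inv_mem hs)
      rw [he, show (k * s * (b : G))⁻¹ * ((b : G) * (k * s)) = (b : G)⁻¹ * s⁻¹ * k⁻¹ * ((b : G) * k) * s by group,
        ← hk _ hb, show (b : G)⁻¹ * s⁻¹ * k⁻¹ * (k * (b : G)) * s = ((b : G)⁻¹ * s⁻¹ * (b : G)⁻¹⁻¹) * s by group,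
        e, mul_assoc, inv_mul_cancel, mul_one]
      exact hZU hc
    have hP : normalizer ((P : Subgroup (X ⧸ U.subgroupOf X)) : Set (X ⧸ U.subgroupOf X)) ≤
        centralizer ((P : Subgroup (X ⧸ U.subgroupOf X)) : Set (X ⧸ U.subgroupOf X)) := by
      intro q hq
      obtain ⟨a, rfl⟩ := hπ q
      have haM : (a : G) ∈ M := by
        rw [← h.norm, mem_normalizer_iff]
        intro y
        constructor
        · intro hy
          have := (mem_normalizer_iff.1 hq _).1 ((hPmem ⟨y, hSX hy⟩).2 hy)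
          rw [← map_inv, ← map_mul, ← map_mul, hPmem] at this
          exact this
        · intro hy
          have hyX : y ∈ X := by
            have := mul_mem (mul_mem (inv_mem a.2) (hSX hy)) a.2
            simpa [mul_assoc] using this
          have h1 : π a * π ⟨y, hyX⟩ * (π a)⁻¹ ∈ (P : Subgroup (X ⧸ U.subgroupOf X)) := by
            rw [← map_inv, ← map_mul, ← map_mul, hPmem]; exact hy
          exact (hPmem ⟨y, hyX⟩).1 ((mem_normalizer_iff.1 hq _).2 h1)
      refine mem_centralizer_iff.2 fun q' hq' => ?_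
      obtain ⟨b, rfl⟩ := hπ q'
      exact (hcommP a b haM ((hPmem b).1 hq')).symm
    set H := (MonoidHom.transferSylow P hP).ker
    set L := (M.subgroupOf X).map π
    have hHL : H ≤ L := by
      set b₁ := π ⟨s₁, hSX hs₁⟩
      set b₂ := π ⟨s₂, hSX hs₂⟩
      set B := Subgroup.closure ({b₁, b₂} : Set (X ⧸ U.subgroupOf X))
      have hBP : B ≤ (P : Subgroup _) := (closure_le _).2 (by
        rintro _ (rfl | rfl)
        · exact (hPmem _).2 hs₁
        · exact (hPmem _).2 hs₂)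
      have hBc : IsMulCommutative B := by
        refine ⟨⟨fun x y => Subtype.ext ?_⟩⟩
        obtain ⟨a, ha⟩ := hπ (x : X ⧸ U.subgroupOf X)
        obtain ⟨b, hb⟩ := hπ (y : X ⧸ U.subgroupOf X)
        show (x : X ⧸ U.subgroupOf X) * y = y * x
        rw [← ha, ← hb]
        exact hcommP a b (h.SM ((hPmem a).1 (ha ▸ hBP x.2))) ((hPmem b).1 (hb ▸ hBP y.2))
      have hB2 : ∀ x ∈ B, x * x = 1 := by
        intro x hx
        obtain ⟨a, rfl⟩ := hπ x
        rw [← map_mul, hπU]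
        exact hsqU _ ((hPmem a).1 (hBP hx))
      have hne₁ : b₁ ≠ 1 := fun e => hn₁ ((hπU _).1 e)
      have hne₂ : b₂ ≠ 1 := fun e => hn₂ ((hπU _).1 e)
      have hne₃ : b₁ * b₂ ≠ 1 := fun e => hn₃ ((hπU (⟨s₁, hSX hs₁⟩ * ⟨s₂, hSX hs₂⟩)).1 (by rw [map_mul]; exact e))
      have hBnc : ¬ IsCyclic B := by
        intro hc
        obtain ⟨⟨b, hb⟩, hgen⟩ := hc.exists_generator
        have : ∀ x ∈ B, x = 1 ∨ x = b := by
          intro x hx
          obtain ⟨i, hi⟩ := hgen ⟨x, hx⟩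
          have hi' : b ^ i = x := congrArg Subtype.val hi
          have hb2 : b ^ (2 : ℤ) = 1 := by rw [zpow_two]; exact hB2 b hb
          rcases Int.even_or_odd i with ⟨j, rfl⟩ | ⟨j, rfl⟩
          · left; rw [← hi', ← two_mul, zpow_mul, hb2, one_zpow]
          · right; rw [← hi', zpow_add, zpow_mul, hb2, one_zpow, one_mul, zpow_one]
        have m₁ : b₁ ∈ B := subset_closure (Or.inl rfl)
        have m₂ : b₂ ∈ B := subset_closure (Or.inr rfl)
        have e₁ := (this _ m₁).resolve_left hne₁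
        have e₂ := (this _ m₂).resolve_left hne₂
        exact hne₃ (by rw [e₁, ← e₂]; exact hB2 _ m₂)
      refine CoprimeGen.le_of_centralizers hBnc ?_ ?_ fun x hx hx1 y hy => ?_
      · rw [normalizer_eq_top_iff.2 inferInstance]; exact le_top
      · obtain ⟨k, hk⟩ := IsPGroup.iff_card.1 (P.isPGroup'.to_le hBP)
        rw [hk]
        exact ((Nat.prime_two.coprime_iff_not_dvd).2 (MonoidHom.not_dvd_card_ker_transferSylow P hP)).pow_left k
      · obtain ⟨a, rfl⟩ := hπ x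
        obtain ⟨b, rfl⟩ := hπ y
        have haS := (hPmem a).1 (hBP hx)
        have haU : (a : G) ∉ U := fun hh => hx1 ((hπU a).2 hh)
        refine ⟨b, mem_subgroupOf.2 ?_, rfl⟩
        set U' := U ⊔ zpowers (a : G)
        have hU'S : U' ≤ (S : Subgroup G) := sup_le hUS (zpowers_le.2 haS)
        have hU'lt : U < U' := left_lt_sup.2 fun hh => haU (hh (mem_zpowers _))
        have hU'n : (S : Subgroup G) ≤ normalizer (U' : Set G) := by
          refine FrobeniusThompson.le_normalizer_of_conj fun s hs x hx => ?_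
          obtain ⟨c, hc, e⟩ := hconj s hs x (hU'S hx)
          rw [e]; exact mul_mem (mem_sup_left (hZU hc)) hx
        refine hmax U' hU'lt hU'S hU'n ?_
        have hab : ((b : G) * a * (b : G)⁻¹) * (a : G)⁻¹ ∈ U := by
          have h1 := mem_centralizer_iff.1 hy.2 (π a) rfl
          have h2 : π (b * a * b⁻¹ * a⁻¹) = 1 := by
            rw [map_mul, map_mul, map_mul, map_inv, map_inv, ← h1, mul_inv_cancel_right, mul_inv_cancel]
          exact (hπU _).1 h2
        refine mem_normalizer_of_map_le ?_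
        rw [Subgroup.map_sup, MonoidHom.map_zpowers, sup_le_iff, zpowers_le]
        refine ⟨fun x hx => ?_, ?_⟩
        · obtain ⟨u, hu, rfl⟩ := hx
          exact mem_sup_left (hXU _ b.2 u hu)
        · have := mul_mem (mem_sup_left (T := zpowers (a : G)) hab) (mem_sup_right (S := U) (mem_zpowers (a : G)))
          rwa [inv_mul_cancel_right] at this
    apply hbad
    intro x hx
    have hcompl := MonoidHom.ker_transferSylow_isComplement' P hP
    have htop : L = ⊤ := by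
      rw [eq_top_iff, ← hcompl.sup_eq_top]
      refine sup_le hHL fun q hq => ?_
      obtain ⟨a, rfl⟩ := hπ q
      exact ⟨a, mem_subgroupOf.2 (h.SM ((hPmem a).1 hq)), rfl⟩
    obtain ⟨b, hb, hbx⟩ : π ⟨x, hx⟩ ∈ L := htop ▸ mem_top _
    have h1 : π (b⁻¹ * ⟨x, hx⟩) = 1 := by rw [map_mul, map_inv, hbx, inv_mul_cancel]
    have h2 := h.SM (hUS ((hπU _).1 h1))
    have := mul_mem (mem_subgroupOf.1 hb) h2
    simpa using this
  -- a largest elementary abelian subgroup outside `U`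
  obtain ⟨E, hE, hEU⟩ : ∃ E, Offenders.IsMaxIn 2 (S : Subgroup G) E ∧ ¬ E ≤ U := by
    by_contra hno
    push Not at hno
    apply hbad
    have hJ : Cfsg.thompsonSubgroupOf 2 (S : Subgroup G) = Cfsg.thompsonSubgroupOf 2 U := by
      rw [Offenders.thompsonOf_eq, Offenders.thompsonOf_eq]
      congr 1
      ext E
      refine ⟨fun hE => ⟨hno E hE, hE.2.1, fun B hB hBe => hE.2.2 B (hB.trans hUS) hBe⟩, fun hE => ?_⟩
      obtain ⟨E₀, hE₀⟩ := FrobeniusThompson.exists_isMaxIn (p := 2) (S : Subgroup G)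
      exact ⟨hE.1.trans hUS, hE.2.1, fun B hB hBe =>
        (hE₀.2.2 B hB hBe).trans (hE.2.2 E₀ (hno E₀ hE₀) hE₀.2.1)⟩
    rw [← h.normalizer_thompson, hJ]
    exact FrobeniusThompson.normalizer_le_normalizer_thompsonOf U
  obtain ⟨t, htE, htU⟩ := SetLike.not_le_iff_exists.1 hEU
  have htS : t ∈ (S : Subgroup G) := hE.1 htE
  have htX : t ∈ X := hSX htS
  have hEe := (Offenders.ea_iff E).1 hE.2.1
  have ht2 : t * t = 1 := by rw [← pow_two]; exact hEe.2 t htE
  have htne : t ≠ 1 := fun e => htU (e ▸ U.one_mem)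
  have htinv : t⁻¹ = t := inv_eq_of_mul_eq_one_right ht2
  -- `t` is a transvection on `V`
  have hfix2 : ∀ v₁ ∈ V, ∀ v₂ ∈ V, t * v₁ ≠ v₁ * t → t * v₂ ≠ v₂ * t → t * (v₁ * v₂) = v₁ * v₂ * t := by
    intro v₁ hv₁ v₂ hv₂ hm₁ hm₂
    set E₀ := E ⊓ U
    set E' := E₀ ⊔ V
    have hE'S : E' ≤ (S : Subgroup G) := sup_le (inf_le_right.trans hUS) fun v hv => hUS hv.1
    have hcard2 : Nat.card E ≤ 2 * Nat.card E₀ := by
      have h1 : E₀.relIndex E ≤ 2 := by
        rw [relIndex]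
        refine le_of_eq ((index_eq_two_iff.2 ⟨⟨t, htE⟩, fun b => ?_⟩))
        by_cases hb : (b : G) ∈ U
        · refine Or.inr ⟨mem_subgroupOf.2 ⟨b.2, hb⟩, fun hh => htU ?_⟩
          have := (U.mul_mem_cancel_left hb).1 (mem_subgroupOf.1 hh).2
          exact this
        · refine Or.inl ⟨mem_subgroupOf.2 ⟨mul_mem b.2 htE, hidx _ (hE.1 b.2) hb _ htS htU⟩,
            fun hh => hb (mem_subgroupOf.1 hh).2⟩
      rw [← HallCore.card_mul_relIndex (inf_le_left : E₀ ≤ E), mul_comm 2]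
      exact Nat.mul_le_mul_left _ h1
    have hE'e : Cfsg.IsElementaryAbelian 2 E' := Offenders.ea_sup (Offenders.ea_mono hE.2.1 inf_le_left)
      ((Offenders.ea_iff V).2 ⟨fun x hx y hy => hy.2.1 x hx.1, fun x hx => by rw [pow_two]; exact hx.2.2⟩)
      (fun a ha b hb => hb.2.1 a ha.2)
    have hle : Nat.card E' ≤ 2 * Nat.card E₀ := (hE.2.2 E' hE'S hE'e).trans hcard2
    have hcomm₀ : ∀ x ∈ E₀, t * x = x * t := fun x hx => hEe.1 t htE x hx.1
    rw [← HallCore.card_mul_relIndex (le_sup_left : E₀ ≤ E'), mul_comm 2] at hle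
    have hrel : E₀.relIndex E' ≤ 2 := Nat.le_of_mul_le_mul_left hle Nat.card_pos
    have hne1 : (E₀.subgroupOf E').index ≠ 1 := fun e => hm₁ (hcomm₀ v₁
      ((Subgroup.index_eq_one.1 e ▸ mem_top _ : (⟨v₁, mem_sup_right hv₁⟩ : E') ∈ E₀.subgroupOf E')))
    have h2 : (E₀.subgroupOf E').index = 2 := by
      have := (E₀.subgroupOf E').index_ne_zero_of_finite
      rw [relIndex] at hrel
      omega
    refine hcomm₀ _ (mem_subgroupOf.1 ((mul_mem_iff_of_index_two h2 (a := ⟨v₁, mem_sup_right hv₁⟩)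
      (b := ⟨v₂, mem_sup_right hv₂⟩)).2 ⟨fun hh => absurd (hcomm₀ _ hh) hm₁, fun hh => absurd (hcomm₀ _ hh) hm₂⟩))
  obtain ⟨v₀, hv₀, hm₀⟩ : ∃ v ∈ V, t * v ≠ v * t := by
    by_contra hno
    push Not at hno
    exact htU (hCV t htS hno)
  obtain ⟨z, hzV, hez, hzZ⟩ := hshift t htS v₀ hv₀
  have hzc := hcz z hzZ
  have hz2 : z * z = 1 := hzV.2.2
  have hz1 : z ≠ 1 := by
    intro e
    rw [e, one_mul, mul_inv_eq_iff_eq_mul] at hez
    exact hm₀ hez
  have hVc : ∀ a ∈ V, ∀ b ∈ V, a * b = b * a := fun a ha b hb => hb.2.1 a ha.1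
  have hVinv : ∀ a ∈ V, a⁻¹ = a := fun a ha => inv_eq_of_mul_eq_one_right ha.2.2
  have htv : ∀ v ∈ V, t * v * t⁻¹ = v ∨ t * v * t⁻¹ = z * v := by
    intro v hv
    by_cases hm : t * v = v * t
    · left; rw [hm, mul_inv_cancel_right]
    · right
      have h1 := hfix2 v hv v₀ hv₀ hm hm₀
      have h2 : t * (v * v₀) * t⁻¹ = v * v₀ := by rw [h1, mul_inv_cancel_right]
      rw [show t * (v * v₀) * t⁻¹ = (t * v * t⁻¹) * (t * v₀ * t⁻¹) by group, hez] at h2
      have h3 : t * v * t⁻¹ = v * v₀ * (z * v₀)⁻¹ := by rw [← h2, mul_inv_cancel_right]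
      rw [h3, mul_inv_rev, hVinv z hzV, ← mul_assoc, mul_inv_cancel_right, hVc z hzV v hv]
  -- an inverted element of odd order
  obtain ⟨⟨h', hh'X⟩, hh1, hhodd, hhinv⟩ := BaerSuzuki.exists_inverted_odd (⟨t, htX⟩ : X) (by
      rw [Subgroup.orderOf_mk]; exact orderOf_eq_prime (by rw [pow_two, ht2]) htne) (by
    intro N hN hNp htN
    set U' := U ⊔ N.map X.subtype
    have hNS : N.map X.subtype ≤ (S : Subgroup G) := by
      rintro _ ⟨x, hx, rfl⟩
      exact hNp.le_sylow_of_normal (S.subtype hSX) hx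
    have hU' : U' = U := by
      refine heq U' le_sup_left (sup_le hUS hNS) fun x hx => mem_normalizer_of_map_le ?_
      rw [Subgroup.map_sup, sup_le_iff]
      refine ⟨?_, ?_⟩
      · rintro _ ⟨u, hu, rfl⟩; exact mem_sup_left (hXU x hx u hu)
      · rintro _ ⟨_, ⟨y, hy, rfl⟩, rfl⟩
        exact mem_sup_right ⟨⟨x, hx⟩ * y * ⟨x, hx⟩⁻¹, hN.conj_mem y hy _, rfl⟩
    exact htU (hU' ▸ (mem_sup_right ⟨⟨t, htX⟩, htN, rfl⟩ : t ∈ U')))
  have hinv : t * h' * t⁻¹ = h'⁻¹ := congrArg Subtype.val hhinv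
  rw [Subgroup.orderOf_mk] at hhodd
  set t' := h' * t * h'⁻¹ with ht'
  set r := t * t' with hr
  have hr2 : r = (h' ^ 2)⁻¹ := by
    rw [hr, ht', show t * (h' * t * h'⁻¹) = (t * h' * t) * h'⁻¹ by group]
    conv_lhs => rw [show t * h' * t = t * h' * t⁻¹ by rw [htinv], hinv]
    rw [pow_two, mul_inv_rev]
  have hrX : r ∈ X := hr2 ▸ inv_mem (pow_mem hh'X 2)
  have hrodd : Odd (orderOf r) := by
    rw [hr2, orderOf_inv]; exact hhodd.of_dvd_nat (orderOf_pow_dvd 2)
  have hrne : r ≠ 1 := by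
    intro e
    rw [hr2, inv_eq_one] at e
    apply hh1
    have h2 : orderOf h' = 1 := Nat.eq_one_of_dvd_coprimes (Nat.coprime_two_right.2 hhodd) dvd_rfl
      (orderOf_dvd_of_pow_eq_one e)
    exact Subtype.ext (orderOf_eq_one_iff.1 h2)
  have hrM : r ∉ M := by
    intro hrM
    have hc := commute_of_nilpotent h.nil hrM (h.SM htS) hrodd (two_of_isPGroup S.isPGroup' htS)
    have hrinv : t * r * t⁻¹ = r⁻¹ := by
      rw [hr2, show t * (h' ^ 2)⁻¹ * t⁻¹ = ((t * h' * t⁻¹) ^ 2)⁻¹ by rw [conj_pow]; group, hinv,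
        inv_pow]
    rw [← hc, mul_inv_cancel_right] at hrinv
    have h2 : r ^ 2 = 1 := by rw [pow_two]; nth_rw 1 [hrinv]; exact inv_mul_cancel r
    exact hrne (orderOf_eq_one_iff.1 (Nat.eq_one_of_dvd_coprimes (Nat.coprime_two_right.2 hrodd)
      dvd_rfl (orderOf_dvd_of_pow_eq_one h2)))
  set w := h' * z * h'⁻¹ with hw
  have hwV : w ∈ V := hVconj h' hh'X z hzV
  have ht'v : ∀ v ∈ V, t' * v * t'⁻¹ = v ∨ t' * v * t'⁻¹ = w * v := by
    intro v hv
    have hv' := hVconj h'⁻¹ (inv_mem hh'X) v hv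
    rcases htv _ hv' with e | e
    · left
      rw [ht', show h' * t * h'⁻¹ * v * (h' * t * h'⁻¹)⁻¹ = h' * (t * (h'⁻¹ * v * h'⁻¹⁻¹) * t⁻¹) * h'⁻¹ by group, e]
      group
    · right
      rw [ht', show h' * t * h'⁻¹ * v * (h' * t * h'⁻¹)⁻¹ = h' * (t * (h'⁻¹ * v * h'⁻¹⁻¹) * t⁻¹) * h'⁻¹ by group, e,
        hw]
      group
  have hrv : ∀ v, r * v * r⁻¹ = t * (t' * v * t'⁻¹) * t⁻¹ := fun v => by rw [hr]; group
  have hmul : ∀ a b : G, t * (a * b) * t⁻¹ = (t * a * t⁻¹) * (t * b * t⁻¹) := fun a b => by group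
  have htz : t * z * t⁻¹ = z := by rw [hzc t htS, mul_inv_cancel_right]
  -- no element of `V` moves `r`'s fixed points
  have hnocent : (∀ v ∈ V, ∃ f ∈ V, r * v * r⁻¹ = v * f ∧ r * f = f * r) → False := by
    intro hall
    refine hrM (h.centralizer_le fun x hx hxc hx2 => ?_)
    obtain ⟨f, hf, e, hfc⟩ := hall x ⟨hZU ⟨hx, mem_centralizer_iff.2 fun a ha => hxc a ha⟩,
      fun u hu => hxc u (hUS hu), hx2⟩
    have := fix_of_shift hrodd e hfc hf.2.2
    rw [this, mul_one, mul_inv_eq_iff_eq_mul] at e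
    exact e
  have htw : t * w * t⁻¹ = z * w := by
    refine (htv w hwV).resolve_left fun e => hnocent fun v hv => ?_
    -- then `t'` fixes `z` as well
    have hhz : h'⁻¹ * z * h' = w := by
      rw [← e, hw, show t * (h' * z * h'⁻¹) * t⁻¹ =
        (t * h' * t⁻¹) * (t * z * t⁻¹) * (t * h' * t⁻¹)⁻¹ by group, hinv, htz, inv_inv]
    have ht'z : t' * z * t'⁻¹ = z := by
      rw [ht', show h' * t * h'⁻¹ * z * (h' * t * h'⁻¹)⁻¹ = h' * (t * (h'⁻¹ * z * h') * t⁻¹) * h'⁻¹ by group,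
        hhz, e, ← hhz]
      group
    have ht'w : t' * w * t'⁻¹ = w := by
      rw [ht', hw, show h' * t * h'⁻¹ * (h' * z * h'⁻¹) * (h' * t * h'⁻¹)⁻¹ = h' * (t * z * t⁻¹) * h'⁻¹ by group,
        htz]
    have hrz : r * z = z * r := by rw [← mul_inv_eq_iff_eq_mul, hrv, ht'z, htz]
    have hrw : r * w = w * r := by rw [← mul_inv_eq_iff_eq_mul, hrv, ht'w, e]
    have hrzw : r * (z * w) = z * w * r := by rw [← mul_assoc, hrz, mul_assoc z r w, hrw, ← mul_assoc]
    rw [hrv]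
    rcases ht'v v hv with e' | e' <;> rw [e']
    · rcases htv v hv with e'' | e'' <;> rw [e'']
      · exact ⟨1, V.one_mem, by simp, by simp⟩
      · exact ⟨z, hzV, hVc z hzV v hv, hrz⟩
    · rw [hmul, e]
      rcases htv v hv with e'' | e'' <;> rw [e'']
      · exact ⟨w, hwV, hVc w hwV v hv, hrw⟩
      · refine ⟨z * w, V.mul_mem hzV hwV, ?_, hrzw⟩
        rw [← mul_assoc, ← hVc z hzV w hwV, hVc (z * w) (V.mul_mem hzV hwV) v hv]
  have hw2 : w * w = 1 := hwV.2.2
  have ht'w : t' * w * t'⁻¹ = w := by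
    rw [ht', hw, show h' * t * h'⁻¹ * (h' * z * h'⁻¹) * (h' * t * h'⁻¹)⁻¹ = h' * (t * z * t⁻¹) * h'⁻¹ by group,
      htz]
  have ht'z : t' * z * t'⁻¹ = w * z := by
    refine (ht'v z hzV).resolve_left fun e => ?_
    have h1 : t * (h'⁻¹ * z * h') * t⁻¹ = h'⁻¹ * z * h' := by
      rw [show t * (h'⁻¹ * z * h') * t⁻¹ = h'⁻¹ * (t' * z * t'⁻¹) * h' by rw [ht']; group, e]
    have h2 : h'⁻¹ * z * h' = z * w := by
      rw [← htw, hw, show t * (h' * z * h'⁻¹) * t⁻¹ =
        (t * h' * t⁻¹) * (t * z * t⁻¹) * (t * h' * t⁻¹)⁻¹ by group, hinv, htz, inv_inv]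
    rw [h2, hmul, htz, htw, ← mul_assoc, hz2, one_mul] at h1
    exact hz1 (left_eq_mul.1 (h1.trans (hVc z hzV w hwV)))
  have hrz : r * z * r⁻¹ = w := by
    rw [hrv, ht'z, hmul, htz, htw, mul_assoc, hVc w hwV z hzV, ← mul_assoc, hz2, one_mul]
  have hrw : r * w * r⁻¹ = z * w := by rw [hrv, ht'w, htw]
  have hrzw : r * (z * w) * r⁻¹ = z := by
    rw [show r * (z * w) * r⁻¹ = (r * z * r⁻¹) * (r * w * r⁻¹) by group, hrz, hrw, ← mul_assoc,
      hVc w hwV z hzV, mul_assoc, hw2, mul_one]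
  have hnfix : r * z ≠ z * r := by
    intro e
    rw [e, mul_inv_cancel_right] at hrz
    rw [← hrz, hz2] at htw
    rw [htz] at htw
    exact hz1 htw
  let N : Subgroup G := Subgroup.closure {z, w}
  have hN : ∀ x ∈ N, x = 1 ∨ x = z ∨ x = w ∨ x = z * w := by
    intro x hx
    refine closure_induction (p := fun x _ => x = 1 ∨ x = z ∨ x = w ∨ x = z * w) ?_ (Or.inl rfl) ?_ ?_ hx
    · rintro _ (rfl | rfl) <;> simp
    · have hwz := hVc w hwV z hzV
      have hz' : ∀ a, z * (z * a) = a := fun a => by rw [← mul_assoc, hz2, one_mul]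
      have hw' : ∀ a, w * (w * a) = a := fun a => by rw [← mul_assoc, hw2, one_mul]
      have hwz' : ∀ a, w * (z * a) = z * (w * a) := fun a => by rw [← mul_assoc, hwz, mul_assoc]
      rintro a b - - (rfl | rfl | rfl | rfl) (rfl | rfl | rfl | rfl) <;>
        simp [mul_assoc, hz2, hw2, hz', hw', hwz, hwz']
    · intro a _ ha
      rcases ha with rfl | rfl | rfl | rfl
      · simp
      · rw [hVinv _ hzV]; simp
      · rw [hVinv _ hwV]; simp
      · rw [hVinv _ (V.mul_mem hzV hwV)]; simp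
  have hzN : z ∈ N := subset_closure (Or.inl rfl)
  have hwN : w ∈ N := subset_closure (Or.inr rfl)
  have hNfix : ∀ x ∈ N, r * x = x * r → x = 1 := by
    intro x hx hc
    have hc' : r * x * r⁻¹ = x := by rw [hc, mul_inv_cancel_right]
    have hzw : z ≠ w := fun e => hnfix (by rw [← mul_inv_eq_iff_eq_mul, hrz, e])
    rcases hN x hx with rfl | rfl | rfl | rfl
    · rfl
    · rw [hrz] at hc'; exact absurd hc'.symm hzw
    · rw [hrw] at hc'; exact absurd (mul_eq_right.1 hc') hz1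
    · rw [hrzw] at hc'
      exact absurd (left_eq_mul.1 hc') fun e => hz1 (conj_eq_one_iff.1 (hrz.trans e))
  -- `r` moves elements of `U` only inside the four group
  have hVN : ∀ v ∈ V, ∃ n ∈ N, r * v * r⁻¹ = v * n := by
    intro v hv
    rw [hrv]
    rcases ht'v v hv with e' | e' <;> rw [e']
    · rcases htv v hv with e | e <;> rw [e]
      · exact ⟨1, N.one_mem, (mul_one v).symm⟩
      · exact ⟨z, hzN, hVc z hzV v hv⟩
    · rw [hmul, htw]
      rcases htv v hv with e | e <;> rw [e]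
      · exact ⟨z * w, N.mul_mem hzN hwN, hVc _ (V.mul_mem hzV hwV) v hv⟩
      · refine ⟨w, hwN, ?_⟩
        rw [mul_assoc z w, ← mul_assoc w z, hVc w hwV z hzV, mul_assoc z w, ← mul_assoc z z, hz2, one_mul,
          hVc w hwV v hv]
  have htu : ∀ u ∈ U, ∃ c ∈ V, t * u * t⁻¹ = c * u := by
    intro u hu
    obtain ⟨c, hc, e⟩ := hconj t htS u (hUS hu)
    refine ⟨c, ⟨hZU hc, fun a ha => hcz c hc a (hUS ha), ?_⟩, e⟩
    have h1 : t * (t * u * t⁻¹) * t⁻¹ = u := by
      rw [show t * (t * u * t⁻¹) * t⁻¹ = (t * t) * u * (t * t)⁻¹ by group, ht2]; group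
    rw [e, hmul, e, hcz c hc t htS, mul_inv_cancel_right, ← mul_assoc, mul_eq_right] at h1
    exact h1
  have hrU : ∀ u ∈ U, ∃ f ∈ V, r * u * r⁻¹ = u * f := by
    intro u hu
    have hu' := hXU _ (inv_mem hh'X) u hu
    obtain ⟨c, hc, e⟩ := htu _ hu'
    obtain ⟨d, hd, ed⟩ := htu u hu
    have e' : t' * u * t'⁻¹ = (h' * c * h'⁻¹) * u := by
      rw [ht', show h' * t * h'⁻¹ * u * (h' * t * h'⁻¹)⁻¹ = h' * (t * (h'⁻¹ * u * h'⁻¹⁻¹) * t⁻¹) * h'⁻¹ by group, e]
      group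
    set c' := t * (h' * c * h'⁻¹) * t⁻¹ * d with hc'
    have hc'V : c' ∈ V := V.mul_mem (hVconj t htX _ (hVconj h' hh'X c hc)) hd
    refine ⟨c', hc'V, ?_⟩
    rw [hrv, e', hmul, ed, hc'V.2.1 u hu, hc', mul_assoc _ d u]
  have hrU' : ∀ u ∈ U, ∃ n ∈ N, r * u * r⁻¹ = u * n := by
    intro u hu
    obtain ⟨f, hf, e⟩ := hrU u hu
    refine ⟨f, ?_, e⟩
    have hi : ∀ i : ℕ, ∃ n ∈ N, r ^ i * u * (r ^ i)⁻¹ = u * f ^ i * n := by
      intro i
      induction i with
      | zero => exact ⟨1, N.one_mem, by simp⟩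
      | succ i ih =>
        obtain ⟨n, hn, en⟩ := ih
        obtain ⟨n₁, hn₁, en₁⟩ := hVN _ (V.pow_mem hf i)
        have hnV : n ∈ V := (closure_le _).2 (by rintro _ (rfl | rfl) <;> assumption) hn
        obtain ⟨n₂, hn₂, en₂⟩ := hVN n hnV
        refine ⟨n₁ * (n * n₂), N.mul_mem hn₁ (N.mul_mem hn hn₂), ?_⟩
        calc r ^ (i + 1) * u * (r ^ (i + 1))⁻¹ = r * (r ^ i * u * (r ^ i)⁻¹) * r⁻¹ := by rw [pow_succ']; group
          _ = (r * u * r⁻¹) * (r * f ^ i * r⁻¹) * (r * n * r⁻¹) := by rw [en]; group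
          _ = u * f ^ (i + 1) * (n₁ * (n * n₂)) := by rw [e, en₁, en₂, pow_succ']; group
    obtain ⟨n, hn, en⟩ := hi (orderOf r)
    rw [pow_orderOf_eq_one, one_mul, inv_one, mul_one, mul_assoc, left_eq_mul] at en
    obtain ⟨k, hk⟩ := hrodd
    rw [hk, pow_succ, pow_mul, pow_two, hf.2.2, one_pow, one_mul] at en
    rw [eq_inv_of_mul_eq_one_left en]
    exact N.inv_mem hn
  have hNcomm : ∀ n ∈ N, ∀ u ∈ U, u * n = n * u := fun n hn u hu =>
    ((closure_le V).2 (by rintro _ (rfl | rfl) <;> assumption) hn).2.1 u hu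
  refine ⟨z, w, r, ⟨hUS, fun x hx hc => hZU ⟨hx, mem_centralizer_iff.2 hc⟩, fun s hs hsU => ?_, hidx,
    fun s hs u hu => hXU s (hSX hs) u hu, hwV.2.1, hzc, hzV.1, hwV.1, hz2, hw2, ?_, ?_, ?_, hrM⟩⟩
  · have hst : s * t ∈ U := hidx s hs hsU t htS htU
    have e1 : s * w * s⁻¹ = (s * t) * (t * w * t⁻¹) * (s * t)⁻¹ := by
      conv_lhs => rw [show s = (s * t) * t by rw [mul_assoc, ht2, mul_one]]
      group
    rw [e1, htw, hVc z hzV w hwV, (V.mul_mem hwV hzV).2.1 (s * t) hst, mul_inv_cancel_right]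
  · intro a ha b hb hab
    obtain ⟨n₁, hn₁, e₁⟩ := hrU' a ha
    obtain ⟨n₂, hn₂, e₂⟩ := hrU' b hb
    have h1 : r * z * r⁻¹ = z := by
      conv_lhs => rw [← hab]
      rw [show r * (a * b * a⁻¹ * b⁻¹) * r⁻¹ =
        (r * a * r⁻¹) * (r * b * r⁻¹) * (r * a * r⁻¹)⁻¹ * (r * b * r⁻¹)⁻¹ by group, e₁, e₂]
      have c1 : n₁ * (b * n₂) = (b * n₂) * n₁ :=
        (hNcomm n₁ hn₁ _ (U.mul_mem hb ((closure_le V).2 (by rintro _ (rfl | rfl) <;> assumption) hn₂).1)).symm
      rw [show a * n₁ * (b * n₂) * (a * n₁)⁻¹ * (b * n₂)⁻¹ =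
        a * (n₁ * (b * n₂)) * n₁⁻¹ * a⁻¹ * n₂⁻¹ * b⁻¹ by group, c1,
        show a * (b * n₂ * n₁) * n₁⁻¹ * a⁻¹ * n₂⁻¹ * b⁻¹ = a * b * (n₂ * a⁻¹) * n₂⁻¹ * b⁻¹ by group,
        ← hNcomm n₂ hn₂ a⁻¹ (U.inv_mem ha), ← mul_assoc, mul_inv_cancel_right, hab]
    exact hnfix (mul_inv_eq_iff_eq_mul.1 h1)
  · intro u hu huu
    obtain ⟨n, hn, e⟩ := hrU' u hu
    have hn2 : n * n = 1 := ((closure_le V).2 (by rintro _ (rfl | rfl) <;> assumption) hn).2.2
    have h1 : r * z * r⁻¹ = z := by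
      conv_lhs => rw [← huu]
      rw [show r * (u * u) * r⁻¹ = (r * u * r⁻¹) * (r * u * r⁻¹) by group, e,
        show u * n * (u * n) = u * (n * u) * n by group, ← hNcomm n hn u hu,
        show u * (u * n) * n = u * u * (n * n) by group, hn2, mul_one, huu]
    exact hnfix (mul_inv_eq_iff_eq_mul.1 h1)
  · intro u hu
    obtain ⟨n, hn, e⟩ := hrU' u hu
    simp only [Set.mem_insert_iff, Set.mem_singleton_iff]
    rcases hN n hn with rfl | rfl | rfl | rfl
    · left; rw [e, mul_one]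
    · right; left; exact e
    · right; right; left; exact e
    · right; right; right; rw [e, mul_assoc]

/-- There is no four-group. -/
theorem no_four [Finite A] (h : Sit φ M S) {U : Subgroup G} {z w g : G}
    (F : Four (S : Subgroup G) M U z w g) : False := by
  classical
  let Ui : A → Subgroup G := fun a => U.map (φ a).toMonoidHom
  have Fa : ∀ a, Four (S : Subgroup G) M (Ui a) (φ a z) (φ a w) (φ a g) := fun a =>
    F.map (φ a) (fun x => h.invS.mem_iff a) (fun x => h.invM.mem_iff a)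
  have hUmul : ∀ a b x, φ b x ∈ Ui (b * a) ↔ x ∈ Ui a := by
    intro a b x
    simp only [Ui, mem_map_equiv]
    have : (φ (b * a)).symm (φ b x) = (φ a).symm x := by
      apply (φ (b * a)).injective
      rw [MulEquiv.apply_symm_apply, map_mul, MulAut.mul_apply, MulEquiv.apply_symm_apply]
    rw [this]
  have hw : ∀ a, φ a w ∈ U := by
    intro a
    by_contra hn
    have hn1 : φ a w ∉ Ui 1 := by simpa [Ui, MulAut.one_apply] using hn
    have F1 := Fa 1
    have hn2 : φ (a * a) w ∉ Ui a := by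
      rw [map_mul, MulAut.mul_apply]
      intro hh
      exact hn1 (((hUmul 1 a (φ a w)).1 (by rwa [mul_one])))
    have h1 : φ (1 : A) w ∉ Ui a := F1.symm (Fa a) hn1
    have heq : Ui 1 = Ui (a * a) := le_antisymm
      ((Fa a).partner_le F1 (Fa (a * a)) h1 hn2) ((Fa a).partner_le (Fa (a * a)) F1 hn2 h1)
    have hstab : ∀ i : ℕ, Ui ((a * a) ^ i) = Ui 1 := by
      intro i
      induction i with
      | zero => rw [pow_zero]
      | succ i ih =>
        rw [pow_succ']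
        ext x
        obtain ⟨y, rfl⟩ := (φ (a * a)).surjective x
        rw [hUmul, ih]
        conv_rhs => rw [heq]
        simpa using (hUmul 1 (a * a) y).symm
    obtain ⟨k, hk⟩ := h.oddA
    have ha : (a * a) ^ (k + 1) = a := by
      rw [← pow_two, ← pow_mul, show 2 * (k + 1) = Nat.card A + 1 by omega, pow_succ,
        pow_card_eq_one', one_mul]
    have := hstab (k + 1)
    rw [ha] at this
    exact hn1 (this ▸ (Fa a).wU)
  have hwU : ∀ a b, φ a w ∈ Ui b := by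
    intro a b
    have := (hUmul 1 b (φ (b⁻¹ * a) w)).2 (by simpa [Ui, MulAut.one_apply] using hw (b⁻¹ * a))
    rwa [mul_one, ← MulAut.mul_apply, ← map_mul, mul_inv_cancel_left] at this
  have hzU : ∀ a b, φ a z ∈ Ui b := fun a b =>
    (Fa b).zle _ ((Fa a).le (Fa a).zU) fun s hs => (Fa a).cz s hs
  let gens : Set G := (Set.range fun a => φ a z) ∪ Set.range fun a => φ a w
  let W := Subgroup.closure gens
  have hzW : ∀ a, φ a z ∈ W := fun a => subset_closure (Or.inl ⟨a, rfl⟩)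
  have hwW : ∀ a, φ a w ∈ W := fun a => subset_closure (Or.inr ⟨a, rfl⟩)
  have hWS : W ≤ (S : Subgroup G) := (closure_le _).2 (by
    rintro _ (⟨a, rfl⟩ | ⟨a, rfl⟩)
    · exact (Fa a).le (Fa a).zU
    · exact (Fa a).le (Fa a).wU)
  have hWi : CoprimeMaxNilp67.Inv φ W := CoprimeMaxNilp67.inv_iff.2 fun a => by
    rw [MonoidHom.map_closure]
    congr 1
    simp only [gens, Set.image_union, ← Set.range_comp]
    have key : ∀ x : G, Set.range (⇑(φ a).toMonoidHom ∘ fun b => φ b x) = Set.range fun b => φ b x := by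
      intro x
      ext y
      constructor
      · rintro ⟨b, rfl⟩; exact ⟨a * b, by simp⟩
      · rintro ⟨b, rfl⟩; exact ⟨a⁻¹ * b, by simp [← MulAut.mul_apply, ← map_mul]⟩
    rw [key, key]
  have hn : M ≤ normalizer (W : Set G) := by
    intro m hm
    obtain ⟨s, hs, k, hk, rfl⟩ := h.decomp hm
    refine mul_mem ?_ (mem_normalizer_of_map_le ?_)
    · exact Subgroup.centralizer_le_normalizer _ (mem_centralizer_iff.2 fun x hx => (hk x (hWS hx)).symm)
    · rw [MonoidHom.map_closure, closure_le]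
      rintro _ ⟨_, (⟨a, rfl⟩ | ⟨a, rfl⟩), rfl⟩ <;>
        simp only [MulEquiv.coe_toMonoidHom, MulAut.conj_apply, SetLike.mem_coe]
      · rw [(Fa a).cz s hs, mul_inv_cancel_right]; exact hzW a
      · by_cases hsU : s ∈ Ui a
        · rw [(Fa a).cw s hsU, mul_inv_cancel_right]; exact hwW a
        · rw [(Fa a).out s hs hsU]; exact mul_mem (hwW a) (hzW a)
  have hWne : W ≠ ⊥ := fun e => (Fa 1).z_ne (by simpa [e] using hzW 1)
  have hNW := h.normalizer_eq hWS hWne hWi hn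
  apply (Fa 1).gM
  rw [← hNW]
  refine mem_normalizer_of_map_le ?_
  rw [MonoidHom.map_closure, closure_le]
  have key : ∀ x ∈ W, x ∈ Ui 1 → φ 1 g * x * (φ 1 g)⁻¹ ∈ W := by
    intro x hxW hx
    have h1 := (Fa 1).move x hx
    simp only [Set.mem_insert_iff, Set.mem_singleton_iff] at h1
    rcases h1 with h1 | h1 | h1 | h1 <;> rw [h1]
    · exact hxW
    · exact mul_mem hxW (hzW 1)
    · exact mul_mem hxW (hwW 1)
    · exact mul_mem (mul_mem hxW (hzW 1)) (hwW 1)
  rintro _ ⟨_, (⟨a, rfl⟩ | ⟨a, rfl⟩), rfl⟩ <;>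
    simp only [MulEquiv.coe_toMonoidHom, MulAut.conj_apply, SetLike.mem_coe]
  · exact key _ (hzW a) (hzU a 1)
  · exact key _ (hwW a) (hwU a 1)

theorem complement [Finite A] (h : Sit φ M S) : Cfsg.HasNormalPComplement 2 G := by
  refine TransferTate.hasNormalPComplement_of_control S (h.controls ?_)
  intro U hZU hUS hSU
  by_contra hbad
  obtain ⟨U', -, ⟨hZ', hS', hn', hb'⟩, hm⟩ := ({U' : Subgroup G | FrobeniusThompson.zOf (S : Subgroup G) ≤ U' ∧
      U' ≤ (S : Subgroup G) ∧ (S : Subgroup G) ≤ normalizer (U' : Set G) ∧ ¬ normalizer (U' : Set G) ≤ M} :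
      Set _).toFinite.exists_le_maximal (a := U) ⟨hZU, hUS, hSU, hbad⟩
  obtain ⟨z, w, g, F⟩ := h.exists_four U' hZ' hS' hn' hb' fun V hlt hV hnV => by
    by_contra hb
    exact hlt.not_ge (hm ⟨hZ'.trans hlt.le, hV, hnV, hb⟩ hlt.le)
  exact h.no_four F

end Sit

end Cfsg.Agent.CoprimeNilMax38
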