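import Cfsg.Agent.Lib.CoprimeNilMax38

/-!
# Solvability from a nilpotent maximal invariant subgroup

The induction around `CoprimeNilMax38.Sit.complement`.
-/

set_option autoImplicit false

namespace Cfsg.Agent.CoprimeNilMax38

open Subgroup
open scoped commutatorElement Pointwise
open CoprimeMaxNilp67 (Inv)

universe u v

variable {A : Type v} [Group A] [Finite A]

/-- An invariant normal subgroup of order prime to `M` which `M` joins to nothing proper gives
solvability. -/
theorem solvable_of_complement {G : Type u} [Group G] [Finite G] {φ : A →* MulAut G}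
    (hcop : (Nat.card A).Coprime (Nat.card G)) (hA : Odd (Nat.card A)) {M : Subgroup G} (hMi : Inv φ M)
    (hmax : ∀ H : Subgroup G, M ≤ H → H ≠ ⊤ → Inv φ H → H = M) (hMsol : Group.IsSolvable M)
    (hM : Odd (Nat.card M)) {N : Subgroup G} [N.Normal] (hNi : Inv φ N)
    (hMN : (Nat.card M).Coprime (Nat.card N)) (hN : 2 ∣ Nat.card N) : Group.IsSolvable G := by
  classical
  have : Fact (Nat.Prime 2) := ⟨Nat.prime_two⟩
  have : Finite (G ⋊[φ] A) := Finite.of_equiv _ SemidirectProduct.equivProd.symm
  let X : Subgroup (G ⋊[φ] A) := {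
    carrier := {x | x.left ∈ M}
    one_mem' := by simp
    mul_mem' := fun {x y} hx hy => by
      show (x * y).left ∈ M
      rw [SemidirectProduct.mul_left]; exact mul_mem hx (hMi _ _ hy)
    inv_mem' := fun {x} hx => by
      show x⁻¹.left ∈ M
      rw [SemidirectProduct.inv_left]; exact hMi _ _ (inv_mem hx) }
  let e : X ≃ M × A :=
    { toFun := fun x => (⟨x.1.left, x.2⟩, x.1.right)
      invFun := fun q => ⟨⟨q.1.1, q.2⟩, q.1.2⟩
      left_inv := fun _ => rfl
      right_inv := fun _ => rfl }
  have hXc : Nat.card X = Nat.card M * Nat.card A := by rw [Nat.card_congr e, Nat.card_prod]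
  let K : Subgroup (G ⋊[φ] A) := N.map SemidirectProduct.inl
  have hKc : Nat.card K = Nat.card N := Subgroup.card_map_of_injective SemidirectProduct.inl_injective
  have hXK : X ≤ normalizer (K : Set (G ⋊[φ] A)) := by
    intro x _
    refine mem_normalizer_of_map_le ?_
    rintro _ ⟨_, ⟨n, hn, rfl⟩, rfl⟩
    refine ⟨x.left * φ x.right n * x.left⁻¹, Subgroup.Normal.conj_mem inferInstance _ (hNi _ _ hn) _, ?_⟩
    ext <;> simp [mul_assoc]
  have hXsol : Group.IsSolvable X := S0205.result (by rw [hXc]; exact hM.mul hA)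
  obtain ⟨S, hS⟩ := CoprimeAction.exists_invariant_sylow hXK
    (by rw [hXc, hKc]; exact Nat.Coprime.mul_left hMN (hcop.coprime_dvd_right N.card_subgroup_dvd_card))
    (Or.inl hXsol) 2
  set T' := (S : Subgroup K).map K.subtype with hT'
  set T := T'.comap (SemidirectProduct.inl : G →* G ⋊[φ] A) with hT
  have hT'K : T' ≤ K := Subgroup.map_subtype_le _
  have hTN : T ≤ N := fun t ht => by
    obtain ⟨n, hn, e⟩ := hT'K ht
    rwa [← SemidirectProduct.inl_injective e]
  have hmap : T.map SemidirectProduct.inl = T' :=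
    Subgroup.map_comap_eq_self fun x hx => by obtain ⟨n, -, e⟩ := hT'K hx; exact ⟨n, e⟩
  have hTp : IsPGroup 2 T := by
    have h1 : IsPGroup 2 T' := S.isPGroup'.map _
    rw [← hmap] at h1
    exact h1.of_equiv (T.equivMapOfInjective _ SemidirectProduct.inl_injective).symm
  have hT0 : T ≠ ⊥ := by
    intro e0
    rw [e0, Subgroup.map_bot] at hmap
    refine S.ne_bot_of_dvd_card (hKc ▸ hN) ?_
    rwa [eq_comm, hT', Subgroup.map_eq_bot_iff_of_injective _ K.subtype_injective] at hmap
  have hconj : ∀ x ∈ X, ∀ t ∈ T, x * SemidirectProduct.inl t * x⁻¹ ∈ T' := fun x hx t ht =>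
    (mem_normalizer_iff.1 (hS hx) _).1 ht
  have hTi : Inv φ T := fun a t ht => by
    show SemidirectProduct.inl (φ a t) ∈ T'
    rw [SemidirectProduct.inl_aut, map_inv]
    exact hconj _ (show (SemidirectProduct.inr a : G ⋊[φ] A).left ∈ M by simp) t ht
  have hMT : M ≤ normalizer (T : Set G) := by
    intro m hm
    refine mem_normalizer_of_map_le ?_
    rintro _ ⟨t, ht, rfl⟩
    show SemidirectProduct.inl (m * t * m⁻¹) ∈ T'
    rw [map_mul, map_mul, map_inv]
    exact hconj _ (show (SemidirectProduct.inl m : G ⋊[φ] A).left ∈ M by simpa using hm) t ht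
  have htop : M ⊔ T = ⊤ := by
    by_contra hne
    have h1 := hmax _ le_sup_left hne (hMi.sup hTi)
    have h2 : T ≤ M ⊓ N := le_inf (by rw [← h1]; exact le_sup_right) hTN
    rw [Subgroup.inf_eq_bot_of_coprime hMN, le_bot_iff] at h2
    exact hT0 h2
  have hTn : T.Normal := normalizer_eq_top_iff.1
    (eq_top_iff.2 (htop ▸ sup_le hMT Subgroup.le_normalizer))
  have := hMsol
  have hq : Group.IsSolvable (G ⧸ T) := by
    refine Group.isSolvable_of_surjective (f := (QuotientGroup.mk' T).comp M.subtype) ?_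
    rw [← MonoidHom.range_eq_top, MonoidHom.range_comp, Subgroup.range_subtype, eq_top_iff,
      ← Subgroup.map_top_of_surjective _ (QuotientGroup.mk'_surjective T), ← htop, Subgroup.map_sup,
      sup_le_iff]
    refine ⟨le_rfl, ?_⟩
    rw [QuotientGroup.map_mk'_self]; exact bot_le
  have := hTp.isNilpotent
  exact Group.isSolvable_of_ker_le_range T.subtype (QuotientGroup.mk' T) (by simp)

theorem solvable_of_nilpotent_maximal : ∀ (n : ℕ) (G : Type u) [Group G] [Finite G]
    (φ : A →* MulAut G), Nat.card G = n → (Nat.card A).Coprime (Nat.card G) →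
    ∀ M : Subgroup G, M ≠ ⊤ → Inv φ M → (∀ H : Subgroup G, M ≤ H → H ≠ ⊤ → Inv φ H → H = M) →
    Group.IsNilpotent M →
    (∀ x ∈ M, ∀ y ∈ M, ∀ s ∈ M, Two x → Two y → Two s → ⁅x, y⁆ * s = s * ⁅x, y⁆) →
    Group.IsSolvable G := by
  intro n
  induction n using Nat.strong_induction_on with
  | _ n ih =>
    intro G _ _ φ hn hcop M hMt hMi hmax hnil hcl
    classical
    by_cases hA : Odd (Nat.card A)
    swap
    · exact S0205.result (Nat.coprime_two_left.1
        (hcop.coprime_dvd_left (even_iff_two_dvd.1 (Nat.not_odd_iff_even.1 hA))))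
    have := hnil
    by_cases hcore : ∃ N : Subgroup G, N.Normal ∧ Inv φ N ∧ N ≤ M ∧ N ≠ ⊥
    · obtain ⟨N, hNn, hNi, hNM, hN0⟩ := hcore
      set π := QuotientGroup.mk' N
      have hsurj : Function.Surjective π := QuotientGroup.mk'_surjective N
      have hlt : Nat.card (G ⧸ N) < n := by
        rw [← hn, Subgroup.card_eq_card_quotient_mul_card_subgroup N]
        exact lt_mul_of_one_lt_right Nat.card_pos ((Subgroup.one_lt_card_iff_ne_bot N).mpr hN0)
      have hcomap : (M.map π).comap π = M :=
        Subgroup.comap_map_eq_self (by rw [QuotientGroup.ker_mk']; exact hNM)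
      have hq := ih _ hlt (G ⧸ N) (CoprimeMaxNilp67.quotAct φ N hNi) rfl
        (hcop.coprime_dvd_right (Subgroup.card_quotient_dvd_card N)) (M.map π)
        (fun h => hMt (by rw [← hcomap, h]; exact Subgroup.comap_top _))
        (by rintro a _ ⟨x, hx, rfl⟩; exact ⟨φ a x, hMi a x hx, rfl⟩)
        (fun H hMH hH hHi => by
          have h1 := hmax (H.comap π) (hcomap.symm.le.trans (Subgroup.comap_mono hMH))
            (fun e => hH (by rw [← Subgroup.map_comap_eq_self_of_surjective hsurj H, e,
              Subgroup.map_top_of_surjective _ hsurj]))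
            (CoprimeMaxNilp67.inv_comap hNi hHi)
          rw [← Subgroup.map_comap_eq_self_of_surjective hsurj H, h1])
        (Group.nilpotent_of_surjective _ (π.subgroupMap_surjective M))
        (fun x hx y hy s hs h2x h2y h2s => by
          obtain ⟨x', hx', h2x', rfl⟩ := two_lift π hx h2x
          obtain ⟨y', hy', h2y', rfl⟩ := two_lift π hy h2y
          obtain ⟨s', hs', h2s', rfl⟩ := two_lift π hs h2s
          rw [← map_commutatorElement, ← map_mul, ← map_mul, hcl x' hx' y' hy' s' hs' h2x' h2y' h2s'])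
      have hN : Group.IsSolvable N := CoprimeAction.isSolvable_of_le hNM
      exact Group.isSolvable_of_ker_le_range N.subtype π (by simp [π])
    push Not at hcore
    have hnt : ∀ X : Subgroup G, X ≤ M → X ≠ ⊥ → Inv φ X → normalizer (X : Set G) ≠ ⊤ :=
      fun X hX h0 hi he => h0 (hcore X (normalizer_eq_top_iff.1 he) hi hX)
    have key : ∀ (p : ℕ) [Fact p.Prime], p ∣ Nat.card M → ∃ Q : Sylow p G, (Q : Subgroup G) ≤ M ∧
        (Q : Subgroup G) ≠ ⊥ ∧ Inv φ (Q : Subgroup G) ∧ normalizer ((Q : Subgroup G) : Set G) = M := by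
      intro p _ hpM
      obtain ⟨P⟩ : Nonempty (Sylow p M) := inferInstance
      have hPn : (P : Subgroup M).Normal := inferInstance
      set P' := (P : Subgroup M).map M.subtype with hP'
      have hP'M : P' ≤ M := Subgroup.map_subtype_le _
      have hin : ∀ R : Subgroup G, IsPGroup p R → R ≤ M → R ≤ P' := by
        intro R hR hRM r hr
        obtain ⟨T, hT⟩ := (hR.comap_subtype (K := M)).exists_le_sylow
        have := Sylow.unique_of_normal P hPn
        rw [Subsingleton.elim T P] at hT
        exact ⟨⟨r, hRM hr⟩, hT hr, rfl⟩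
      have hP'i : Inv φ P' := fun a x hx => by
        refine hin _ ((P.isPGroup'.map M.subtype).map (φ a).toMonoidHom) ?_ ⟨x, hx, rfl⟩
        rintro _ ⟨y, hy, rfl⟩; exact hMi a y (hP'M hy)
      have hP'ne : P' ≠ ⊥ := by
        rw [hP', Ne, Subgroup.map_eq_bot_iff_of_injective _ M.subtype_injective]
        exact P.ne_bot_of_dvd_card hpM
      have hMP : M ≤ normalizer (P' : Set G) := by
        intro m hm
        refine mem_normalizer_of_map_le ?_
        rintro _ ⟨_, ⟨y, hy, rfl⟩, rfl⟩
        exact ⟨⟨m, hm⟩ * y * ⟨m, hm⟩⁻¹, hPn.conj_mem y hy _, rfl⟩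
      have hN : normalizer (P' : Set G) = M := hmax _ hMP (hnt _ hP'M hP'ne hP'i) hP'i.normalizer
      obtain ⟨Q, hQ⟩ := (P.isPGroup'.map M.subtype).exists_le_sylow
      have hQP : P' = (Q : Subgroup G) := by
        by_contra hne
        have hnilQ := Q.isPGroup'.isNilpotent
        have h1 := Group.normalizerCondition_of_isNilpotent (G := Q) (P'.subgroupOf Q)
          (lt_top_iff_ne_top.mpr fun h => hne (le_antisymm hQ (Subgroup.subgroupOf_eq_top.mp h)))
        obtain ⟨x, hx, hxP⟩ := SetLike.exists_of_lt h1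
        apply hxP
        have hxN : (x : G) ∈ M := by
          rw [← hN, mem_normalizer_iff]
          intro y
          constructor
          · intro hy
            exact ((mem_normalizer_iff.mp hx) ⟨y, hQ hy⟩).mp hy
          · intro hy
            have hyQ : y ∈ (Q : Subgroup G) := by
              have := mul_mem (mul_mem (inv_mem x.2) (hQ hy)) x.2
              simpa [mul_assoc] using this
            exact ((mem_normalizer_iff.mp hx) ⟨y, hyQ⟩).mpr hy
        rw [Subgroup.mem_subgroupOf]
        exact hin _ (Q.isPGroup'.to_le (inf_le_left : (Q : Subgroup G) ⊓ M ≤ Q)) inf_le_right ⟨x.2, hxN⟩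
      exact ⟨Q, hQP ▸ hP'M, hQP ▸ hP'ne, hQP ▸ hP'i, hQP ▸ hN⟩
    by_cases h2M : 2 ∣ Nat.card M
    · have : Fact (Nat.Prime 2) := ⟨Nat.prime_two⟩
      obtain ⟨S, hSM, hS0, hSi, hSn⟩ := key 2 h2M
      have hsit : Sit φ M S := ⟨hMt, hMi, hmax, hnil, fun N h1 h2 h3 => hcore N h1 h2 h3, hSM, hS0, hSi, hSn,
        fun x hx y hy s hs => hcl x (hSM hx) y (hSM hy) s (hSM hs) (two_of_isPGroup S.isPGroup' hx)
          (two_of_isPGroup S.isPGroup' hy) (two_of_isPGroup S.isPGroup' hs), hA⟩
      have hR : Group.IsSolvable (Cfsg.pResidual 2 G) := S0205.result (Nat.not_even_iff_odd.1 fun he =>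
        TransferPResidual.hasNormalPComplement_iff_not_dvd.mp hsit.complement (even_iff_two_dvd.1 he))
      have := (TransferPResidual.isPGroup_quotient_pResidual (p := 2) (G := G)).isNilpotent
      exact Group.isSolvable_of_ker_le_range (Cfsg.pResidual 2 G).subtype
        (QuotientGroup.mk' (Cfsg.pResidual 2 G)) (by simp)
    have hModd : Odd (Nat.card M) := Nat.not_even_iff_odd.1 fun he => h2M (even_iff_two_dvd.1 he)
    let P : Finset ℕ := (Nat.card M).primeFactors
    have hprime : ∀ p : P, Fact (p : ℕ).Prime := fun p => ⟨Nat.prime_of_mem_primeFactors p.2⟩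
    have hcompl : ∀ p : P, Cfsg.HasNormalPComplement (p : ℕ) G := by
      rintro ⟨p, hp⟩
      have : Fact p.Prime := ⟨Nat.prime_of_mem_primeFactors hp⟩
      have hpM : p ∣ Nat.card M := Nat.dvd_of_mem_primeFactors hp
      obtain ⟨Q, hQM, hQ0, hQi, hQn⟩ := key p hpM
      have hMc : Cfsg.HasNormalPComplement p M :=
        NilpotentMaximal.hasNormalPComplement_of_isNilpotent hnil p
      have hJ : normalizer (Cfsg.thompsonSubgroupOf p (Q : Subgroup G) : Set G) = M :=
        hmax _ (hQn ▸ FrobeniusThompson.normalizer_le_normalizer_thompsonOf _)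
          (hnt _ ((Offenders.thompsonOf_le _).trans hQM) (FrobeniusThompson.thompsonOf_ne_bot Q.isPGroup' hQ0)
            (hQi.thompson p)) (hQi.thompson p).normalizer
      have hZi : Inv φ (FrobeniusThompson.zOf (Q : Subgroup G)) := hQi.inf hQi.centralizer
      have hZn : M ≤ normalizer (FrobeniusThompson.zOf (Q : Subgroup G) : Set G) := by
        intro m hm
        rw [← hQn] at hm
        refine mem_normalizer_of_map_le ?_
        rintro _ ⟨z, hz, rfl⟩
        refine ⟨(mem_normalizer_iff.1 hm z).1 hz.1, mem_centralizer_iff.2 fun y hy => ?_⟩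
        have h1 := mem_centralizer_iff.1 hz.2 (m⁻¹ * y * m) ((mem_normalizer_iff.1 hm _).2 (by rw [show m * (m⁻¹ * y * m) * m⁻¹ = y by group]; exact hy))
        calc y * (m * z * m⁻¹) = m * ((m⁻¹ * y * m) * z) * m⁻¹ := by group
          _ = m * (z * (m⁻¹ * y * m)) * m⁻¹ := by rw [h1]
          _ = m * z * m⁻¹ * y := by group
      have hZ : normalizer (FrobeniusThompson.zOf (Q : Subgroup G) : Set G) = M :=
        hmax _ hZn (hnt _ (inf_le_left.trans hQM) (FrobeniusThompson.zOf_ne_bot Q.isPGroup' hQ0) hZi) hZi.normalizer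
      exact FrobeniusThompson.hasNormalPComplement_of_thompson
        (fun e => h2M (e ▸ hpM)) Q (by rw [hJ]; exact hMc)
        (TransferPResidual.hasNormalPComplement_mono
          ((Subgroup.centralizer_le_normalizer _).trans hZ.le) hMc)
    let f : G →* ∀ p : P, G ⧸ Cfsg.pResidual (p : ℕ) G := MonoidHom.pi fun p => QuotientGroup.mk' _
    have hker : ∀ x, x ∈ f.ker ↔ ∀ p : P, x ∈ Cfsg.pResidual (p : ℕ) G := fun x => by
      rw [MonoidHom.mem_ker, funext_iff]
      exact forall_congr' fun p => QuotientGroup.eq_one_iff x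
    have hNi : Inv φ f.ker := fun a x hx => (hker _).2 fun p =>
      CoprimeMaxNilp67.inv_of_char φ _ a x ((hker x).1 hx p)
    have hMN : (Nat.card M).Coprime (Nat.card f.ker) := by
      refine Nat.coprime_of_dvd fun q hq hqM hqN => ?_
      have hq' : q ∈ P := Nat.mem_primeFactors.mpr ⟨hq, hqM, Nat.card_pos.ne'⟩
      have : Fact q.Prime := ⟨hq⟩
      exact (TransferPResidual.hasNormalPComplement_iff_not_dvd.mp (hcompl ⟨q, hq'⟩))
        (hqN.trans (Subgroup.card_dvd_of_le fun x hx => (hker x).1 hx ⟨q, hq'⟩))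
    by_cases h2N : 2 ∣ Nat.card f.ker
    · exact solvable_of_complement hcop hA hMi hmax inferInstance hModd hNi hMN h2N
    have hN : Group.IsSolvable f.ker := S0205.result (Nat.not_even_iff_odd.1 fun he => h2N (even_iff_two_dvd.1 he))
    have : ∀ p : P, Group.IsNilpotent (G ⧸ Cfsg.pResidual (p : ℕ) G) := fun p =>
      have := hprime p
      TransferPResidual.isPGroup_quotient_pResidual.isNilpotent
    exact Group.isSolvable_of_ker_le_range f.ker.subtype f.rangeRestrict (by simp)

end Cfsg.Agent.CoprimeNilMax38
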