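import Mathlib
import Cfsg.Agent.Lib.SignalizerCoprime
import Cfsg.Agent.Lib.HallCore
import Cfsg.Prelude.Def_Transfer

/-!
An elementary abelian `p`-group acting on a group of order prime to `p`: fixed points of large
subgroups, lifting and generation.
-/

set_option autoImplicit false

namespace Cfsg.Agent.CoprimePieces99

open scoped commutatorElement

variable {A : Type*} [Group A] {R : Type*} [Group R]

/-- A subgroup of index at most `p`. -/
def Big (p : ℕ) (B : Subgroup A) : Prop := Nat.card A ≤ Nat.card B * p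

/-- The fixed points of `B`. -/
def Fix (φ : A →* MulAut R) (B : Subgroup A) : Subgroup R where
  carrier := {x | ∀ b ∈ B, φ b x = x}
  one_mem' := fun b _ => map_one (φ b)
  mul_mem' := fun hx hy b hb => by rw [map_mul, hx b hb, hy b hb]
  inv_mem' := fun hx b hb => by rw [map_inv, hx b hb]

theorem mem_Fix {φ : A →* MulAut R} {B : Subgroup A} {x : R} :
    x ∈ Fix φ B ↔ ∀ b ∈ B, φ b x = x := Iff.rfl

/-- An invariant subgroup. -/
def Inv (φ : A →* MulAut R) (M : Subgroup R) : Prop := ∀ a, ∀ x ∈ M, φ a x ∈ M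

/-- An elementary abelian group, as a type. -/
structure Elem (p : ℕ) (A : Type*) [Group A] : Prop where
  comm : ∀ a b : A, a * b = b * a
  pow : ∀ a : A, a ^ p = 1

variable {p : ℕ} {φ : A →* MulAut R}

theorem inv_Fix (hA : Elem p A) (B : Subgroup A) : Inv φ (Fix φ B) := fun a x hx b hb => by
  rw [← MulAut.mul_apply, ← map_mul, hA.comm b a, map_mul, MulAut.mul_apply, hx b hb]

theorem Fix_anti {B C : Subgroup A} (h : B ≤ C) : Fix φ C ≤ Fix φ B := fun _ hx b hb => hx b (h hb)

theorem Inv.inf {M N : Subgroup R} (hM : Inv φ M) (hN : Inv φ N) : Inv φ (M ⊓ N) :=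
  fun a x hx => ⟨hM a x hx.1, hN a x hx.2⟩

theorem Inv.commutator {M N : Subgroup R} (hM : Inv φ M) (hN : Inv φ N) : Inv φ ⁅M, N⁆ := by
  intro a x hx
  have h : ⁅M, N⁆ ≤ (⁅M, N⁆).comap (φ a).toMonoidHom := by
    rw [Subgroup.commutator_le]
    intro m hm n hn
    rw [Subgroup.mem_comap]
    show φ a ⁅m, n⁆ ∈ _
    rw [map_commutatorElement]
    exact Subgroup.commutator_mem_commutator (hM a m hm) (hN a n hn)
  exact h hx

theorem inv_of_characteristic (M : Subgroup R) [hM : M.Characteristic] : Inv φ M := fun a x hx => by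
  have := hM.fixed (φ a)
  rw [← this] at hx
  exact hx

theorem Inv.closure {S : Set R} (hS : ∀ a, ∀ x ∈ S, φ a x ∈ S) : Inv φ (Subgroup.closure S) := by
  intro a x hx
  have h : Subgroup.closure S ≤ (Subgroup.closure S).comap (φ a).toMonoidHom :=
    (Subgroup.closure_le _).2 fun y hy => Subgroup.subset_closure (hS a y hy)
  exact h hx

theorem isPGroup (hA : Elem p A) (B : Subgroup A) : IsPGroup p B := fun b =>
  ⟨1, Subtype.ext (by rw [pow_one]; exact hA.pow b)⟩

variable [hp : Fact p.Prime]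

/-- Fixed points lift. -/
theorem exists_lift_fixed [Finite R] (hA : Elem p A) (hR : (Nat.card R).Coprime p)
    {M K : Subgroup R} (hM : Inv φ M) (hK : Inv φ K) {B : Subgroup A} {x : R} (hx : x ∈ M)
    (hB : ∀ b ∈ B, φ b x * x⁻¹ ∈ K) : ∃ y ∈ M ⊓ Fix φ B, y * x⁻¹ ∈ K := by
  set α := {y : R // y ∈ M ∧ y * x⁻¹ ∈ K}
  letI act : MulAction B α :=
    { smul := fun b y => ⟨φ b y.1, hM b _ y.2.1, by
        have h := K.mul_mem (hK (b : A) _ y.2.2) (hB b b.2)
        rwa [map_mul, map_inv, mul_assoc, ← mul_assoc (φ (b : A) x)⁻¹, inv_mul_cancel, one_mul] at h⟩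
      one_smul := fun y => Subtype.ext (by
        show φ ((1 : B) : A) y.1 = y.1
        rw [Subgroup.coe_one, map_one]; rfl)
      mul_smul := fun b c y => Subtype.ext (by
        show φ ((b * c : B) : A) y.1 = φ (b : A) (φ (c : A) y.1)
        rw [Subgroup.coe_mul, map_mul, MulAut.mul_apply]) }
  have hα : ¬ p ∣ Nat.card α := by
    have e : α ≃ (M ⊓ K : Subgroup R) :=
      { toFun := fun y => ⟨y.1 * x⁻¹, M.mul_mem y.2.1 (M.inv_mem hx), y.2.2⟩
        invFun := fun k => ⟨k.1 * x, M.mul_mem k.2.1 hx, by rw [mul_inv_cancel_right]; exact k.2.2⟩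
        left_inv := fun y => Subtype.ext (inv_mul_cancel_right _ _)
        right_inv := fun k => Subtype.ext (mul_inv_cancel_right _ _) }
    rw [Nat.card_congr e]
    exact fun h => (hp.1.coprime_iff_not_dvd.1 hR.symm) (h.trans (Subgroup.card_subgroup_dvd_card _))
  obtain ⟨⟨y, hy⟩, hfix⟩ :=
    (isPGroup hA B).nonempty_fixed_point_of_prime_not_dvd_card α hα
  exact ⟨y, ⟨hy.1, fun b hb => congrArg Subtype.val (hfix ⟨b, hb⟩)⟩, hy.2⟩

/-- An invariant subgroup is generated by its fixed points of large subgroups. -/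
theorem le_of_big_le [Finite A] [Finite R] (hA : Elem p A) (hA2 : p ^ 2 ≤ Nat.card A)
    (hR : (Nat.card R).Coprime p) {M S : Subgroup R} (hM : Inv φ M)
    (h : ∀ B : Subgroup A, Big p B → M ⊓ Fix φ B ≤ S) : M ≤ S := by
  haveI : Finite (R ⋊[φ] A) := Finite.of_equiv _ SemidirectProduct.equivProd.symm
  set i : R →* R ⋊[φ] A := SemidirectProduct.inl
  set j : A →* R ⋊[φ] A := SemidirectProduct.inr
  have hji : Function.Injective j := SemidirectProduct.inr_injective
  have hi : Function.Injective i := SemidirectProduct.inl_injective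
  have hB : Cfsg.IsElementaryAbelian p j.range :=
    ⟨⟨⟨by rintro ⟨_, a, rfl⟩ ⟨_, b, rfl⟩; exact Subtype.ext (by
        show j a * j b = j b * j a
        rw [← map_mul, ← map_mul, hA.comm])⟩⟩,
      by rintro _ ⟨a, rfl⟩; rw [← map_pow, hA.pow, map_one]⟩
  have hcard : ∀ B : Subgroup A, Nat.card (B.map j) = Nat.card B := fun B =>
    Subgroup.card_map_of_injective hji
  have hrange : j.range = (⊤ : Subgroup A).map j := MonoidHom.range_eq_map j
  have hmain : M.map i ≤ S.map i := by
    refine SignalizerCoprime.le_of_hyperplane_centralizers_le (p := p) hB ?_ ?_ ?_ ?_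
    · rw [hrange, hcard, Subgroup.card_top]; exact hA2
    · have hconj : ∀ a, ∀ x ∈ M.map i, j a * x * (j a)⁻¹ ∈ M.map i := by
        rintro a _ ⟨x, hx, rfl⟩
        refine ⟨φ a x, hM a x hx, ?_⟩
        rw [← map_inv]
        exact SemidirectProduct.inl_aut a x
      rintro _ ⟨a, rfl⟩
      rw [Subgroup.mem_normalizer_iff]
      refine fun x => ⟨hconj a x, fun hx => ?_⟩
      have := hconj a⁻¹ _ hx
      rwa [map_inv, inv_inv, show (j a)⁻¹ * (j a * x * (j a)⁻¹) * j a = x by group] at this
    · rw [Subgroup.card_map_of_injective hi]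
      exact fun h => (hp.1.coprime_iff_not_dvd.1 hR.symm) (h.trans (Subgroup.card_subgroup_dvd_card _))
    · intro D hD hidx
      have hD' : (D.comap j).map j = D := Subgroup.map_comap_eq_self hD
      have hbig : Big p (D.comap j) := by
        have h1 := HallCore.card_mul_relIndex hD
        rw [hidx, hrange, hcard, Subgroup.card_top, ← hD', hcard] at h1
        exact h1.ge
      rintro _ ⟨⟨x, hx, rfl⟩, hc⟩
      refine ⟨x, h _ hbig ⟨hx, fun b hb => hi ?_⟩, rfl⟩
      have h2 := Subgroup.mem_centralizer_iff.1 hc (j b) (Subgroup.mem_comap.1 hb)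
      rw [SemidirectProduct.inl_aut]
      show j b * i x * j b⁻¹ = i x
      rw [h2, map_inv, mul_inv_cancel_right]
  intro x hx
  obtain ⟨y, hy, e⟩ := hmain ⟨x, hx, rfl⟩
  exact hi e ▸ hy

theorem pow_val_add {c : A} (hc : c ^ p = 1) (i j : ZMod p) :
    c ^ (i + j).val = c ^ i.val * c ^ j.val := by
  rw [← pow_add, ZMod.val_add, ← pow_eq_pow_mod (i.val + j.val) hc]

theorem pow_val_mul {c : A} (hc : c ^ p = 1) (i j : ZMod p) :
    c ^ (i * j).val = (c ^ i.val) ^ j.val := by
  rw [← pow_mul, ZMod.val_mul, ← pow_eq_pow_mod (i.val * j.val) hc]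

section

variable {L : Type*} [AddCommGroup L]

/-- The sum over the powers of `c`. -/
def orbSum (act : A → L →+ L) (c : A) (z : L) : L := ∑ i : ZMod p, act (c ^ i.val) z

omit hp in
theorem fixed_by_sup {act : A → L →+ L} (hone : ∀ z, act 1 z = z)
    (hmul : ∀ a b z, act (a * b) z = act a (act b z)) {D : Subgroup A} {c : A} {z : L}
    (hD : ∀ b ∈ D, act b z = z) (hc : act c z = z) :
    ∀ b ∈ D ⊔ Subgroup.zpowers c, act b z = z := by
  let F : Subgroup A :=
    { carrier := {b | act b z = z}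
      one_mem' := hone z
      mul_mem' := fun {a b} (ha : act a z = z) (hb : act b z = z) => by
        show act (a * b) z = z
        rw [hmul, hb, ha]
      inv_mem' := fun {a} (ha : act a z = z) => by
        show act a⁻¹ z = z
        conv_lhs => rw [← ha]
        rw [← hmul, inv_mul_cancel, hone] }
  exact sup_le (a := D) (b := Subgroup.zpowers c) (c := F) hD (Subgroup.zpowers_le.2 hc)

theorem orbSum_fixed {act : A → L →+ L}
    (hmul : ∀ a b z, act (a * b) z = act a (act b z)) {c : A} (hc : c ^ p = 1) (z : L) :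
    act c (orbSum (p := p) act c z) = orbSum (p := p) act c z := by
  unfold orbSum
  rw [map_sum]
  refine Fintype.sum_bijective (fun i : ZMod p => i + 1) (Equiv.addRight (1 : ZMod p)).bijective _ _
    fun i => ?_
  rw [← hmul, pow_val_add hc, ← pow_succ', pow_succ]
  congr 2
  rw [ZMod.val_one, pow_one]

theorem orbSum_fixed_of_fixed (hA : Elem p A) {act : A → L →+ L}
    (hmul : ∀ a b z, act (a * b) z = act a (act b z)) (c : A) {z : L} {b : A}
    (hb : act b z = z) : act b (orbSum (p := p) act c z) = orbSum (p := p) act c z := by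
  unfold orbSum
  rw [map_sum]
  refine Finset.sum_congr rfl fun i _ => ?_
  rw [← hmul, hA.comm, hmul, hb]

theorem orbSum_identity (hA : Elem p A) {act : A → L →+ L} (hone : ∀ z, act 1 z = z)
    (hmul : ∀ a b z, act (a * b) z = act a (act b z)) (c₁ c₂ : A) (z : L) :
    (∑ j : ZMod p, orbSum (p := p) act (c₁ * c₂ ^ j.val) z) + orbSum (p := p) act c₂ z =
      p • z + orbSum (p := p) act c₁ (orbSum (p := p) act c₂ z) := by
  classical
  have h2 : ∀ i : ZMod p, ∑ j : ZMod p, act ((c₁ * c₂ ^ j.val) ^ i.val) z =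
      if i = 0 then p • z else act (c₁ ^ i.val) (orbSum (p := p) act c₂ z) := by
    intro i
    split_ifs with hi
    · subst hi
      simp [hone, ZMod.card]
    · unfold orbSum
      rw [map_sum]
      refine Fintype.sum_bijective (fun j : ZMod p => j * i) (mulRight_bijective₀ i hi) _ _ fun j => ?_
      rw [← hmul, (show Commute c₁ (c₂ ^ j.val) from hA.comm _ _).mul_pow, ← pow_val_mul (hA.pow c₂)]
  have h3 : (∑ j : ZMod p, orbSum (p := p) act (c₁ * c₂ ^ j.val) z) =
      ∑ i : ZMod p, if i = 0 then p • z else act (c₁ ^ i.val) (orbSum (p := p) act c₂ z) := by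
    unfold orbSum
    rw [Finset.sum_comm]
    exact Finset.sum_congr rfl fun i _ => h2 i
  rw [h3, show orbSum (p := p) act c₁ (orbSum (p := p) act c₂ z) =
      ∑ i : ZMod p, act (c₁ ^ i.val) (orbSum (p := p) act c₂ z) from rfl,
    ← Finset.add_sum_erase _ _ (Finset.mem_univ (0 : ZMod p)),
    ← Finset.add_sum_erase _ (fun i : ZMod p => act (c₁ ^ i.val) (orbSum (p := p) act c₂ z))
      (Finset.mem_univ (0 : ZMod p)), if_pos rfl, ZMod.val_zero, pow_zero, hone,
    Finset.sum_congr rfl (g := fun i : ZMod p => act (c₁ ^ i.val) (orbSum (p := p) act c₂ z))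
      (fun i hi => if_neg (Finset.ne_of_mem_erase hi))]
  abel

/-- An invariant subgroup without `p`-torsion modulo `S` lies in `S` if its elements fixed by large
subgroups do. -/
theorem le_of_fixed_le [Finite A] (hA : Elem p A) (hA2 : p ^ 2 ≤ Nat.card A)
    {act : A → L →+ L} (hone : ∀ z, act 1 z = z)
    (hmul : ∀ a b z, act (a * b) z = act a (act b z)) {S T : AddSubgroup L}
    (hdiv : ∀ z, p • z ∈ S → z ∈ S) (hT : ∀ a, ∀ z ∈ T, act a z ∈ T)
    (h : ∀ B : Subgroup A, Big p B → ∀ z ∈ T, (∀ b ∈ B, act b z = z) → z ∈ S) :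
    T ≤ S := by
  suffices hmain : ∀ n, ∀ D : Subgroup A, Nat.card A - Nat.card D = n →
      ∀ z ∈ T, (∀ b ∈ D, act b z = z) → z ∈ S from fun z hz =>
    hmain _ ⊥ rfl z hz fun b hb => by rw [Subgroup.mem_bot.1 hb, hone]
  intro n
  induction n using Nat.strong_induction_on with
  | _ n ih =>
    intro D hn z hz hDz
    by_cases hbig : Big p D
    · exact h D hbig z hz hDz
    have hsum : ∀ c, ∀ w ∈ T, orbSum (p := p) act c w ∈ T := fun c w hw =>
      T.sum_mem fun i _ => hT _ w hw
    have hstep : ∀ c, c ∉ D → ∀ w ∈ T, (∀ b ∈ D, act b w = w) →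
        orbSum (p := p) act c w ∈ S := by
      intro c hc w hw hDw
      have hlt : Nat.card D < Nat.card ↥(D ⊔ Subgroup.zpowers c) := by
        refine lt_of_le_of_ne (Nat.le_of_dvd Nat.card_pos (Subgroup.card_dvd_of_le le_sup_left))
          fun e => hc ?_
        rw [Subgroup.eq_of_le_of_card_ge (le_sup_left (b := Subgroup.zpowers c)) e.ge]
        exact Subgroup.mem_sup_right (Subgroup.mem_zpowers c)
      have hle := Subgroup.card_le_card_group (D ⊔ Subgroup.zpowers c)
      refine ih _ (by omega) _ rfl _ (hsum c w hw)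
        (fixed_by_sup hone hmul (fun b hb => orbSum_fixed_of_fixed hA hmul c (hDw b hb))
          (orbSum_fixed hmul (hA.pow c) w))
    have hne : ∀ c : A, D ⊔ Subgroup.zpowers c ≠ ⊤ := by
      intro c e
      refine hbig ?_
      letI : CommGroup A := { (inferInstance : Group A) with mul_comm := hA.comm }
      have h1 := HallCore.card_sup_dvd (Subgroup.zpowers c) D
      rw [sup_comm, e, Subgroup.card_top, Nat.card_zpowers, mul_comm] at h1
      refine (Nat.le_of_dvd (Nat.mul_pos Nat.card_pos (orderOf_pos c)) h1).trans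
        (Nat.mul_le_mul_left _ (Nat.le_of_dvd hp.1.pos (orderOf_dvd_of_pow_eq_one (hA.pow c))))
    obtain ⟨c₁, hc₁⟩ : ∃ c, c ∉ D := by
      by_contra hcon
      push Not at hcon
      exact hne 1 (eq_top_iff.2 fun x _ => Subgroup.mem_sup_left (hcon x))
    obtain ⟨c₂, hc₂⟩ : ∃ c, c ∉ D ⊔ Subgroup.zpowers c₁ := by
      by_contra hcon
      push Not at hcon
      exact hne c₁ (eq_top_iff.2 fun x _ => hcon x)
    have hj : ∀ j : ZMod p, c₁ * c₂ ^ j.val ∉ D := by
      intro j hmem
      rcases eq_or_ne j 0 with rfl | hj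
      · rw [ZMod.val_zero, pow_zero, mul_one] at hmem
        exact hc₁ hmem
      · have h1 : c₂ ^ j.val ∈ D ⊔ Subgroup.zpowers c₁ := by
          have := mul_mem (inv_mem (Subgroup.mem_sup_right (S := D) (Subgroup.mem_zpowers c₁)))
            (Subgroup.mem_sup_left (T := Subgroup.zpowers c₁) hmem)
          rwa [inv_mul_cancel_left] at this
        have h2 := pow_mem h1 (j⁻¹).val
        rw [← pow_val_mul (hA.pow c₂), mul_inv_cancel₀ hj, ZMod.val_one, pow_one] at h2
        exact hc₂ h2
    have hid := orbSum_identity hA hone hmul c₁ c₂ z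
    refine hdiv z ?_
    rw [show p • z = ((∑ j : ZMod p, orbSum (p := p) act (c₁ * c₂ ^ j.val) z) +
      orbSum (p := p) act c₂ z) - orbSum (p := p) act c₁ (orbSum (p := p) act c₂ z) by
        rw [hid, add_sub_cancel_right]]
    refine S.sub_mem (S.add_mem (S.sum_mem fun j _ => hstep _ (hj j) z hz hDz)
      (hstep _ (fun hh => hc₂ (Subgroup.mem_sup_left hh)) z hz hDz)) ?_
    exact hstep c₁ hc₁ _ (hsum c₂ z hz) fun b hb => orbSum_fixed_of_fixed hA hmul c₂ (hDz b hb)

end

end Cfsg.Agent.CoprimePieces99
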