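import Mathlib

/-!
Kreknin: a Lie ring graded by `ZMod p` with zero component in degree `0` is solvable of derived
length at most `2 ^ (p - 1) - 1`.
-/

set_option autoImplicit false

namespace Cfsg.Agent.GrLie99Kreknin

variable {p : ℕ} {Λ : Type*} [LieRing Λ]

/-- A family of subgroups graded by `ZMod p`. -/
abbrev Fam (p : ℕ) (Λ : Type*) [LieRing Λ] := ZMod p → AddSubgroup Λ

/-- The family is closed under brackets. -/
def Closed (A : Fam p Λ) : Prop :=
  ∀ i j, ∀ a ∈ A i, ∀ b ∈ A j, ⁅a, b⁆ ∈ A (i + j)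

theorem lie_mem_closure {s t : Set Λ} {T : AddSubgroup Λ} (h : ∀ a ∈ s, ∀ b ∈ t, ⁅a, b⁆ ∈ T)
    {a b : Λ} (ha : a ∈ AddSubgroup.closure s) (hb : b ∈ AddSubgroup.closure t) : ⁅a, b⁆ ∈ T := by
  induction ha using AddSubgroup.closure_induction with
  | mem a ha =>
    induction hb using AddSubgroup.closure_induction with
    | mem b hb => exact h a ha b hb
    | zero => rw [lie_zero]; exact T.zero_mem
    | add x y _ _ hx hy => rw [lie_add]; exact T.add_mem hx hy
    | neg x _ hx => rw [lie_neg]; exact T.neg_mem hx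
  | zero => rw [zero_lie]; exact T.zero_mem
  | add x y _ _ hx hy => rw [add_lie]; exact T.add_mem hx hy
  | neg x _ hx => rw [neg_lie]; exact T.neg_mem hx

/-- The generators of the next derived family. -/
def bracketSet (A : Fam p Λ) (i : ZMod p) : Set Λ :=
  {x | ∃ (u v : ZMod p) (a b : Λ), a ∈ A u ∧ b ∈ A v ∧ u + v = i ∧ ⁅a, b⁆ = x}

/-- The derived family. -/
def derived (A : Fam p Λ) : Fam p Λ := fun i => AddSubgroup.closure (bracketSet A i)

theorem derived_le {A : Fam p Λ} (hA : Closed A) (i : ZMod p) : derived A i ≤ A i := by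
  rw [derived, AddSubgroup.closure_le]
  rintro x ⟨u, v, a, b, ha, hb, rfl, rfl⟩
  exact hA u v a ha b hb

theorem derived_closed {A : Fam p Λ} (hA : Closed A) : Closed (derived A) :=
  fun i j a ha b hb => AddSubgroup.subset_closure
    ⟨i, j, a, b, derived_le hA i ha, derived_le hA j hb, rfl, rfl⟩

/-- The derived series. -/
def series (A : Fam p Λ) : ℕ → Fam p Λ
  | 0 => A
  | n + 1 => derived (series A n)

theorem series_closed {A : Fam p Λ} (hA : Closed A) : ∀ n, Closed (series A n)
  | 0 => hA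
  | n + 1 => derived_closed (series_closed hA n)

theorem series_add (A : Fam p Λ) (m : ℕ) : ∀ n, series A (m + n) = series (series A m) n
  | 0 => rfl
  | n + 1 => by rw [← Nat.add_assoc, series, series, series_add A m n]

theorem series_le {A : Fam p Λ} (hA : Closed A) : ∀ (n : ℕ) (i : ZMod p), series A n i ≤ A i
  | 0, _ => le_rfl
  | n + 1, i => (derived_le (series_closed hA n) i).trans (series_le hA n i)

/-- Left normed products of homogeneous elements of degree larger than `k`. -/
inductive LN (A : Fam p Λ) (k : ℕ) : Λ → ZMod p → Prop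
  | gen {a : Λ} {j : ZMod p} : a ∈ A j → k < j.val → LN A k a j
  | step {P y : Λ} {d j : ZMod p} : LN A k P d → y ∈ A j → k < j.val → LN A k ⁅P, y⁆ (d + j)

theorem LN.mem {A : Fam p Λ} (hA : Closed A) {k : ℕ} {x : Λ} {d : ZMod p} (h : LN A k x d) :
    x ∈ A d := by
  induction h with
  | gen ha _ => exact ha
  | step _ hy _ ih => exact hA _ _ _ ih _ hy

/-- The subring generated by the components of degree larger than `k`. -/
def H (A : Fam p Λ) (k : ℕ) (d : ZMod p) : AddSubgroup Λ :=
  AddSubgroup.closure {x | LN A k x d}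

theorem H_le {A : Fam p Λ} (hA : Closed A) (k : ℕ) (d : ZMod p) : H A k d ≤ A d := by
  rw [H, AddSubgroup.closure_le]
  exact fun x hx => LN.mem hA hx

theorem H_mono {A B : Fam p Λ} (h : ∀ i, A i ≤ B i) (k : ℕ) (d : ZMod p) : H A k d ≤ H B k d := by
  refine AddSubgroup.closure_mono fun x hx => ?_
  induction hx with
  | gen ha hj => exact .gen (h _ ha) hj
  | step _ hy hj ih => exact LN.step ih (h _ hy) hj

theorem mem_H_of_gen {A : Fam p Λ} {k : ℕ} {a : Λ} {j : ZMod p} (ha : a ∈ A j) (hj : k < j.val) :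
    a ∈ H A k j :=
  AddSubgroup.subset_closure (LN.gen ha hj)

theorem H_step {A : Fam p Λ} {k : ℕ} {a y : Λ} {d j : ZMod p} (ha : a ∈ H A k d) (hy : y ∈ A j)
    (hj : k < j.val) : ⁅a, y⁆ ∈ H A k (d + j) := by
  refine lie_mem_closure (t := {y}) ?_ ha (AddSubgroup.subset_closure rfl)
  rintro P hP _ rfl
  exact AddSubgroup.subset_closure (LN.step hP hy hj)

theorem H_lie {A : Fam p Λ} {k : ℕ} : ∀ {Q : Λ} {e : ZMod p}, LN A k Q e →
    ∀ {a : Λ} {d : ZMod p}, a ∈ H A k d → ⁅a, Q⁆ ∈ H A k (d + e) := by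
  intro Q e hQ
  induction hQ with
  | gen hy hj => exact fun ha => H_step ha hy hj
  | @step P y d' j _ hy hj ih =>
    intro a d ha
    rw [show ⁅a, ⁅P, y⁆⁆ = ⁅⁅a, P⁆, y⁆ - ⁅⁅a, y⁆, P⁆ by
      rw [leibniz_lie a P y, ← lie_skew P ⁅a, y⁆]; abel]
    refine AddSubgroup.sub_mem _ ?_ ?_
    · rw [← add_assoc]
      exact H_step (ih ha) hy hj
    · rw [show d + (d' + j) = d + j + d' by abel]
      exact ih (H_step ha hy hj)

theorem H_closed (A : Fam p Λ) (k : ℕ) : Closed (H A k) := by
  intro i j a ha b hb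
  refine lie_mem_closure (s := {a}) ?_ (AddSubgroup.subset_closure rfl) hb
  rintro _ rfl Q hQ
  exact H_lie hQ ha

/-- The key step: degree `k` part of the derived ring of `⟨A_{≥ k}⟩`. -/
theorem derived_H [NeZero p] {A : Fam p Λ} (hA : Closed A) (h0 : A 0 = ⊥) {k : ℕ} (hk : k + 1 < p)
    {i : ZMod p} (hi : i.val = k + 1) : derived (H A k) i ≤ H A (k + 1) i := by
  have hgen : ∀ {P y : Λ} {d j : ZMod p}, P ∈ A d → y ∈ A j → k < j.val → d + j = i →
      ⁅P, y⁆ ∈ H A (k + 1) i := by
    intro P y d j hP hy hj hdj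
    rcases eq_or_lt_of_le (Nat.succ_le_of_lt hj) with hj' | hj'
    · have hji : j = i := ZMod.val_injective p (by omega)
      rw [hji, add_eq_right] at hdj
      rw [hdj, h0, AddSubgroup.mem_bot] at hP
      rw [hP, zero_lie]; exact AddSubgroup.zero_mem _
    · have hd : k + 1 < d.val := by
        by_contra hd
        have hadd := ZMod.val_add d j
        rw [hdj, hi] at hadd
        have := d.val_lt
        have := j.val_lt
        rcases lt_or_ge (d.val + j.val) p with h | h
        · rw [Nat.mod_eq_of_lt h] at hadd; omega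
        · rw [Nat.mod_eq_sub_mod h, Nat.mod_eq_of_lt (by omega)] at hadd; omega
      rw [← hdj]
      exact H_step (mem_H_of_gen hP hd) hy hj'
  rw [derived, AddSubgroup.closure_le]
  rintro x ⟨u, v, a, b, ha, hb, huv, rfl⟩
  refine lie_mem_closure (s := {a}) ?_ (AddSubgroup.subset_closure rfl) hb
  intro a' ha' Q hQ
  rw [Set.mem_singleton_iff] at ha'
  subst a'
  clear hb
  induction hQ generalizing a u with
  | gen hy hj => exact hgen (H_le hA k _ ha) hy hj huv
  | @step P y d j hP hy hj ih =>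
    rw [show ⁅a, ⁅P, y⁆⁆ = ⁅⁅a, P⁆, y⁆ - ⁅⁅a, y⁆, P⁆ by
      rw [leibniz_lie a P y, ← lie_skew P ⁅a, y⁆]; abel]
    refine AddSubgroup.sub_mem _ ?_ ?_
    · exact hgen (H_le hA k _ (H_lie hP ha)) hy hj (by rw [← huv]; abel)
    · exact ih _ _ (H_step ha hy hj) (by rw [← huv]; abel)

/-- `L^(2^k - 1)` lies in the subring generated by the components of degree above `k`. -/
theorem series_le_H [NeZero p] : ∀ (k : ℕ), k < p → ∀ (A : Fam p Λ), Closed A → A 0 = ⊥ →
    ∀ i, series A (2 ^ k - 1) i ≤ H A k i := by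
  intro k
  induction k with
  | zero =>
    intro _ A _ h0 i a ha
    change a ∈ A i at ha
    rcases eq_or_ne i 0 with rfl | hi
    · rw [h0, AddSubgroup.mem_bot] at ha
      rw [ha]; exact AddSubgroup.zero_mem _
    · exact mem_H_of_gen ha (Nat.pos_of_ne_zero ((ZMod.val_ne_zero i).2 hi))
  | succ k ih =>
    intro hk A hA h0
    have hk' : k < p := by omega
    set B := series A (2 ^ k) with hB
    have hBA : ∀ i, B i ≤ A i := series_le hA _
    have hB0 : B 0 = ⊥ := le_bot_iff.1 ((hBA 0).trans h0.le)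
    have hBk : ∀ i : ZMod p, i.val = k + 1 → B i ≤ H A (k + 1) i := by
      intro i hi
      refine le_trans ?_ (derived_H hA h0 hk hi)
      rw [hB, show 2 ^ k = (2 ^ k - 1) + 1 by have := Nat.one_le_two_pow (n := k); omega, series]
      refine AddSubgroup.closure_mono ?_
      rintro x ⟨u, v, a, b, ha, hb, huv, rfl⟩
      exact ⟨u, v, a, b, ih hk' A hA h0 u ha, ih hk' A hA h0 v hb, huv, rfl⟩
    have hgen : ∀ j : ZMod p, k < j.val → B j ≤ H A (k + 1) j := by
      intro j hj
      rcases eq_or_lt_of_le (Nat.succ_le_of_lt hj) with h | h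
      · exact hBk j h.symm
      · exact fun a ha => mem_H_of_gen (hBA j ha) h
    intro i
    rw [show 2 ^ (k + 1) - 1 = 2 ^ k + (2 ^ k - 1) by
      have := Nat.one_le_two_pow (n := k); rw [pow_succ]; omega, series_add]
    refine (ih hk' B (series_closed hA _) hB0 i).trans ?_
    rw [H, AddSubgroup.closure_le]
    intro x hx
    induction hx with
    | gen ha hj => exact hgen _ hj ha
    | step _ hy hj ih' => exact H_closed A (k + 1) _ _ _ ih' _ (hgen _ hj hy)

/-- Kreknin's theorem for prime (or any positive) modulus. -/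
theorem series_eq_bot [NeZero p] {A : Fam p Λ} (hA : Closed A) (h0 : A 0 = ⊥) (i : ZMod p) :
    series A (2 ^ (p - 1) - 1) i = ⊥ := by
  refine le_bot_iff.1 ((series_le_H (p - 1) (by have := NeZero.pos p; omega) A hA h0 i).trans ?_)
  rw [H, AddSubgroup.closure_le]
  intro x hx
  cases hx with
  | @gen a j ha hj => exact absurd hj (by have := i.val_lt; omega)
  | @step P y d j hP hy hj => exact absurd hj (by have := j.val_lt; omega)

end Cfsg.Agent.GrLie99Kreknin
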