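import Mathlib
import Cfsg.Agent.Lib.GrLie99Kreknin

/-!
Subgroups of a Lie ring acting nilpotently: a subring which is solvable of bounded length and is
spanned by boundedly many subgroups, each acting nilpotently of bounded index, acts nilpotently of
bounded index.
-/

set_option autoImplicit false

namespace Cfsg.Agent.CoprimePieces99

open Cfsg.Agent.GrLie99Kreknin (lie_mem_closure)

variable {L : Type*} [LieRing L]

/-- The span of the brackets `⁅v, x⁆`. -/
def act (V X : AddSubgroup L) : AddSubgroup L :=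
  AddSubgroup.closure {z | ∃ v ∈ V, ∃ x ∈ X, ⁅v, x⁆ = z}

theorem lie_mem_act {V X : AddSubgroup L} {v x : L} (hv : v ∈ V) (hx : x ∈ X) :
    ⁅v, x⁆ ∈ act V X :=
  AddSubgroup.subset_closure ⟨v, hv, x, hx, rfl⟩

theorem act_le_iff {V X W : AddSubgroup L} :
    act V X ≤ W ↔ ∀ v ∈ V, ∀ x ∈ X, ⁅v, x⁆ ∈ W := by
  refine ⟨fun h v hv x hx => h (lie_mem_act hv hx), fun h => ?_⟩
  rw [act, AddSubgroup.closure_le]
  rintro _ ⟨v, hv, x, hx, rfl⟩
  exact h v hv x hx

theorem act_mono {V V' X X' : AddSubgroup L} (hV : V ≤ V') (hX : X ≤ X') : act V X ≤ act V' X' :=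
  act_le_iff.2 fun _ hv _ hx => lie_mem_act (hV hv) (hX hx)

theorem lie_mem_swap {V X W : AddSubgroup L} (h : act V X ≤ W) {v x : L} (hv : v ∈ V) (hx : x ∈ X) :
    ⁅x, v⁆ ∈ W := by
  rw [← lie_skew]
  exact W.neg_mem (h (lie_mem_act hv hx))

theorem act_sup_right (V X Y : AddSubgroup L) : act V (X ⊔ Y) ≤ act V X ⊔ act V Y := by
  refine act_le_iff.2 fun v hv z hz => ?_
  obtain ⟨x, hx, y, hy, rfl⟩ := AddSubgroup.mem_sup.1 hz
  rw [lie_add]
  exact AddSubgroup.add_mem _ (AddSubgroup.mem_sup_left (lie_mem_act hv hx))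
    (AddSubgroup.mem_sup_right (lie_mem_act hv hy))

theorem act_sup_left (U V X : AddSubgroup L) : act (U ⊔ V) X ≤ act U X ⊔ act V X := by
  refine act_le_iff.2 fun v hv x hx => ?_
  obtain ⟨a, ha, b, hb, rfl⟩ := AddSubgroup.mem_sup.1 hv
  rw [add_lie]
  exact AddSubgroup.add_mem _ (AddSubgroup.mem_sup_left (lie_mem_act ha hx))
    (AddSubgroup.mem_sup_right (lie_mem_act hb hx))

theorem act_bot_right (V : AddSubgroup L) : act V ⊥ = ⊥ := by
  refine le_bot_iff.1 (act_le_iff.2 fun v _ x hx => ?_)
  rw [AddSubgroup.mem_bot.1 hx, lie_zero]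
  exact zero_mem _

theorem act_bot_left (X : AddSubgroup L) : act ⊥ X = ⊥ := by
  refine le_bot_iff.1 (act_le_iff.2 fun v hv x _ => ?_)
  rw [AddSubgroup.mem_bot.1 hv, zero_lie]
  exact zero_mem _

/-- Iterated action. -/
def actPow (X V : AddSubgroup L) : ℕ → AddSubgroup L
  | 0 => V
  | n + 1 => act (actPow X V n) X

theorem actPow_mono {X X' V V' : AddSubgroup L} (hX : X ≤ X') (hV : V ≤ V') :
    ∀ n, actPow X V n ≤ actPow X' V' n
  | 0 => hV
  | n + 1 => act_mono (actPow_mono hX hV n) hX

theorem actPow_add (X V : AddSubgroup L) (a : ℕ) :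
    ∀ b, actPow X V (a + b) = actPow X (actPow X V a) b
  | 0 => rfl
  | b + 1 => by rw [← Nat.add_assoc, actPow, actPow, actPow_add X V a b]

theorem actPow_le_of_stable {X W : AddSubgroup L} (h : act W X ≤ W) :
    ∀ n, actPow X W n ≤ W
  | 0 => le_rfl
  | n + 1 => (act_mono (actPow_le_of_stable h n) le_rfl).trans h

theorem actPow_sup_left (X U V : AddSubgroup L) :
    ∀ n, actPow X (U ⊔ V) n ≤ actPow X U n ⊔ actPow X V n
  | 0 => le_rfl
  | n + 1 => (act_mono (actPow_sup_left X U V n) le_rfl).trans (act_sup_left _ _ X)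

/-- If brackets with `I` are stable, the layers of `I` are stable. -/
theorem act_actPow_comm {U I F : AddSubgroup L} (hU : act U F ≤ U) (hI : act I F ≤ I) :
    ∀ n, act (actPow I U n) F ≤ actPow I U n
  | 0 => hU
  | n + 1 => by
    refine act_le_iff.2 fun v hv f hf => ?_
    rw [actPow] at hv
    refine (show actPow I U (n + 1) ≤ (AddSubgroup.comap
      (AddMonoidHom.mk' (fun w : L => ⁅w, f⁆) fun a b => add_lie a b f) (actPow I U (n + 1))) from ?_) hv
    refine act_le_iff.2 fun u hu i hi => ?_
    rw [AddSubgroup.mem_comap]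
    show ⁅⁅u, i⁆, f⁆ ∈ _
    rw [show ⁅⁅u, i⁆, f⁆ = ⁅⁅u, f⁆, i⁆ + ⁅u, ⁅i, f⁆⁆ by
      rw [leibniz_lie u i f, ← lie_skew i ⁅u, f⁆]; abel]
    exact AddSubgroup.add_mem _
      (lie_mem_act (act_actPow_comm hU hI n (lie_mem_act hu hf)) hi)
      (lie_mem_act hu (hI (lie_mem_act hi hf)))

/-- One layer: subgroups which commute on `U` modulo `W`. -/
theorem actPow_sup_le {U W X G : AddSubgroup L} (hWU : W ≤ U) (hUX : act U (X ⊔ G) ≤ U)
    (hW : act W (X ⊔ G) ≤ W)
    (hcomm : ∀ u ∈ U, ∀ x ∈ X, ∀ g ∈ G, ⁅u, ⁅x, g⁆⁆ ∈ W)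
    {m M : ℕ} (hX : actPow X U m ≤ W) (hG : actPow G U M ≤ W) :
    actPow (X ⊔ G) U (M * m) ≤ W := by
  set V : ℕ → AddSubgroup L := fun a => actPow X U a ⊔ W with hV
  have hVU : ∀ a, V a ≤ U := fun a =>
    sup_le (actPow_le_of_stable ((act_mono le_rfl le_sup_left).trans hUX) a) hWU
  have hVX : ∀ a, act (V a) X ≤ V (a + 1) := fun a =>
    (act_sup_left _ _ X).trans (sup_le le_sup_left
      (((act_mono le_rfl le_sup_left).trans hW).trans le_sup_right))
  -- stability under `G`
  have hVG : ∀ a, act (V a) G ≤ V a := by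
    intro a
    refine (act_sup_left _ _ G).trans (sup_le ?_
      (((act_mono le_rfl le_sup_right).trans hW).trans le_sup_right))
    induction a with
    | zero => exact ((act_mono le_rfl le_sup_right).trans hUX).trans le_sup_left
    | succ a ih =>
      refine act_le_iff.2 fun v hv g hg => ?_
      refine (show actPow X U (a + 1) ≤ AddSubgroup.comap
        (AddMonoidHom.mk' (fun w : L => ⁅w, g⁆) fun a b => add_lie a b g) (V (a + 1)) from ?_) hv
      refine act_le_iff.2 fun u hu x hx => ?_
      rw [AddSubgroup.mem_comap]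
      show ⁅⁅u, x⁆, g⁆ ∈ _
      rw [show ⁅⁅u, x⁆, g⁆ = ⁅⁅u, g⁆, x⁆ + ⁅u, ⁅x, g⁆⁆ by
        rw [leibniz_lie u x g, ← lie_skew x ⁅u, g⁆]; abel]
      exact AddSubgroup.add_mem _ (hVX a (lie_mem_act (ih (lie_mem_act hu hg)) hx))
        (AddSubgroup.mem_sup_right
          (hcomm u (actPow_le_of_stable ((act_mono le_rfl le_sup_left).trans hUX) a hu) x hx g hg))
  have hdesc : ∀ a, V (a + 1) ≤ V a := by
    intro a
    refine sup_le ?_ le_sup_right
    have h : ∀ a, actPow X U (a + 1) ≤ actPow X U a := by
      intro a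
      induction a with
      | zero => exact (act_mono le_rfl le_sup_left).trans hUX
      | succ a ih => exact act_mono ih le_rfl
    exact (h a).trans le_sup_left
  have key : ∀ a j, actPow (X ⊔ G) (V a) j ≤ actPow G (V a) j ⊔ V (a + 1) := by
    intro a j
    induction j with
    | zero => exact le_sup_left
    | succ j ih =>
      refine (act_mono ih le_rfl).trans ((act_sup_left _ _ _).trans (sup_le ?_ ?_))
      · refine (act_sup_right _ _ _).trans (sup_le ?_ le_sup_left)
        exact ((act_mono (actPow_le_of_stable (hVG a) j) le_rfl).trans (hVX a)).trans le_sup_right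
      · refine (act_sup_right _ _ _).trans (sup_le ?_ ((hVG (a + 1)).trans le_sup_right))
        exact ((hVX (a + 1)).trans (hdesc (a + 1))).trans le_sup_right
  have step : ∀ a, actPow (X ⊔ G) (V a) M ≤ V (a + 1) := fun a =>
    (key a M).trans (sup_le (((actPow_mono le_rfl (hVU a) M).trans hG).trans le_sup_right) le_rfl)
  have main : ∀ a, actPow (X ⊔ G) U (M * a) ≤ V a := by
    intro a
    induction a with
    | zero => exact le_sup_left
    | succ a ih =>
      rw [Nat.mul_succ, actPow_add]
      exact (actPow_mono le_rfl ih M).trans (step a)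
  exact (main m).trans (sup_le hX le_rfl)

/-- The derived series of a subgroup. -/
def dser (F : AddSubgroup L) : ℕ → AddSubgroup L
  | 0 => F
  | n + 1 => act (dser F n) (dser F n)

theorem dser_anti {F : AddSubgroup L} (hF : act F F ≤ F) : ∀ n, dser F (n + 1) ≤ dser F n
  | 0 => hF
  | n + 1 => act_mono (dser_anti hF n) (dser_anti hF n)

/-- The layer lemma. -/
theorem actPow_eq_bot_of_spanned {ι : Type*} [DecidableEq ι] (s : Finset ι)
    (X : ι → AddSubgroup L) {m : ℕ} (hm : ∀ i ∈ s, actPow (X i) ⊤ m = ⊥) :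
    ∀ (k : ℕ) (F : AddSubgroup L), act F F ≤ F → dser F k = ⊥ →
      (∀ j, dser F j ≤ s.sup fun i => dser F j ⊓ X i) →
      actPow F ⊤ ((m ^ s.card) ^ k) = ⊥ := by
  intro k
  induction k with
  | zero =>
    intro F _ h0 _
    rw [show F = ⊥ from h0, pow_zero]
    exact act_bot_right _
  | succ k ih =>
    intro F hF h0 hsp
    have hI := ih (act F F)
      (act_mono hF hF)
      (by
        have : ∀ n, dser (act F F) n = dser F (n + 1) := by
          intro n
          induction n with
          | zero => rfl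
          | succ n ihn => rw [dser, ihn]; rfl
        rw [this, h0])
      (by
        intro j
        have : dser (act F F) j = dser F (j + 1) := by
          induction j with
          | zero => rfl
          | succ n ihn => rw [dser, ihn]; rfl
        rw [this]
        exact hsp (j + 1))
    set I := act F F with hIdef
    have hIF : act I F ≤ I := act_mono hF le_rfl
    set V : ℕ → AddSubgroup L := fun t => actPow I ⊤ t with hV
    have hVF : ∀ t, act (V t) F ≤ V t := fun t => act_actPow_comm le_top hIF t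
    -- one layer
    have layer : ∀ t, actPow F (V t) (m ^ s.card) ≤ V (t + 1) := by
      intro t
      have hWU : V (t + 1) ≤ V t := by
        show act (actPow I ⊤ t) I ≤ _
        exact (act_mono le_rfl hF).trans (hVF t)
      have hFsp : F ≤ s.sup fun i => F ⊓ X i := hsp 0
      refine (actPow_mono hFsp le_rfl _).trans ?_
      have hsub : ∀ u ⊆ s, actPow (u.sup fun i => F ⊓ X i) (V t) (m ^ u.card) ≤ V (t + 1) := by
        intro u
        induction u using Finset.induction with
        | empty =>
          intro _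
          rw [Finset.sup_empty, Finset.card_empty, pow_zero]
          exact (act_bot_right _).le.trans bot_le
        | @insert a u hau ihu =>
          intro hus
          rw [Finset.sup_insert, Finset.card_insert_of_notMem hau, pow_succ]
          have hle : (F ⊓ X a) ⊔ (u.sup fun i => F ⊓ X i) ≤ F :=
            sup_le inf_le_left (Finset.sup_le fun i _ => inf_le_left)
          refine actPow_sup_le hWU ((act_mono le_rfl hle).trans (hVF t))
            ((act_mono le_rfl hle).trans (hVF (t + 1))) ?_ ?_
            (ihu ((Finset.subset_insert a u).trans hus))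
          · intro w hw x hx g hg
            exact lie_mem_act hw (lie_mem_act (le_sup_left.trans hle hx) (le_sup_right.trans hle hg))
          · refine (actPow_mono inf_le_right le_top m).trans ?_
            rw [hm a (hus (Finset.mem_insert_self a u))]
            exact bot_le
      exact hsub s subset_rfl
    have main : ∀ t, actPow F ⊤ (m ^ s.card * t) ≤ V t := by
      intro t
      induction t with
      | zero => exact le_rfl
      | succ t iht =>
        rw [Nat.mul_succ, actPow_add]
        exact (actPow_mono le_rfl iht _).trans (layer t)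
    refine le_bot_iff.1 ?_
    rw [pow_succ, mul_comm]
    exact (main _).trans hI.le

end Cfsg.Agent.CoprimePieces99
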