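import Mathlib
import Cfsg.Agent.Lib.GrLie99Kreknin
import Cfsg.Agent.Lib.CoprimePieces99Layer

/-!
Kreknin's theorem with a zero component acting nilpotently: a Lie ring graded by `ZMod p` whose zero
component acts nilpotently of index `M` is solvable of derived length bounded in terms of `p` and `M`.
-/

set_option autoImplicit false

namespace Cfsg.Agent.CoprimePieces99

open Cfsg.Agent.GrLie99Kreknin

variable {p : ℕ} {Λ : Type*} [LieRing Λ]

/-- The derived length in the generalised theorem of Kreknin. -/
def sKrek (M : ℕ) : ℕ → ℕ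
  | 0 => M
  | k + 1 => M * (sKrek M k + 1) + sKrek M k

theorem series_mono {A B : Fam p Λ} (h : ∀ i, A i ≤ B i) : ∀ (n : ℕ) (i : ZMod p),
    series A n i ≤ series B n i
  | 0, i => h i
  | n + 1, i => by
    refine AddSubgroup.closure_mono ?_
    rintro x ⟨u, v, a, b, ha, hb, huv, rfl⟩
    exact ⟨u, v, a, b, series_mono h n u ha, series_mono h n v hb, huv, rfl⟩

theorem act_H_zero {A : Fam p Λ} (hA : Closed A) (k : ℕ) (i : ZMod p) :
    act (H A k i) (A 0) ≤ H A k i := by
  refine act_le_iff.2 fun a ha z hz => ?_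
  refine lie_mem_closure (s := {x | LN A k x i}) (t := {z}) ?_ ha (AddSubgroup.subset_closure rfl)
  intro Q hQ z' hz'
  rw [Set.mem_singleton_iff] at hz'
  subst z'
  rw [Set.mem_setOf_eq] at hQ
  clear ha
  induction hQ with
  | @gen a j ha hj =>
    have h := hA j 0 a ha z hz
    rw [add_zero] at h
    exact mem_H_of_gen h hj
  | @step P y d j hP hy hj ih =>
    rw [show ⁅⁅P, y⁆, z⁆ = ⁅⁅P, z⁆, y⁆ + ⁅P, ⁅y, z⁆⁆ by
      rw [leibniz_lie P y z, ← lie_skew y ⁅P, z⁆]; abel]
    refine AddSubgroup.add_mem _ (H_step ih hy hj) ?_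
    have h := hA j 0 y hy z hz
    rw [add_zero] at h
    exact H_step (show P ∈ H A k d from AddSubgroup.subset_closure hP) h hj

/-- The key step with a zero component. -/
theorem derived_H_act [NeZero p] {A : Fam p Λ} (hA : Closed A) {k : ℕ} (hk : k + 1 < p)
    {i : ZMod p} (hi : i.val = k + 1) :
    derived (H A k) i ≤ H A (k + 1) i ⊔ act (A i) (A 0) := by
  have hgen : ∀ {P y : Λ} {d j : ZMod p}, P ∈ A d → y ∈ A j → k < j.val → d + j = i →
      ⁅P, y⁆ ∈ H A (k + 1) i ⊔ act (A i) (A 0) := by
    intro P y d j hP hy hj hdj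
    rcases eq_or_lt_of_le (Nat.succ_le_of_lt hj) with hj' | hj'
    · have hji : j = i := ZMod.val_injective p (by omega)
      rw [hji, add_eq_right] at hdj
      subst hji hdj
      refine AddSubgroup.mem_sup_right ?_
      rw [← lie_skew]
      exact AddSubgroup.neg_mem _ (lie_mem_act hy hP)
    · have hd : k + 1 < d.val := by
        by_contra hd
        have hadd := ZMod.val_add d j
        rw [hdj, hi] at hadd
        have := d.val_lt
        have := j.val_lt
        rcases lt_or_ge (d.val + j.val) p with h | h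
        · rw [Nat.mod_eq_of_lt h] at hadd; omega
        · rw [Nat.mod_eq_sub_mod h, Nat.mod_eq_of_lt (by omega)] at hadd; omega
      refine AddSubgroup.mem_sup_left ?_
      rw [← hdj]
      exact H_step (mem_H_of_gen hP hd) hy hj'
  rw [derived, AddSubgroup.closure_le]
  rintro x ⟨u, v, a, b, ha, hb, huv, rfl⟩
  refine lie_mem_closure (s := {a}) ?_ (AddSubgroup.subset_closure rfl) hb
  intro a' ha' Q hQ
  rw [Set.mem_singleton_iff] at ha'
  subst a'
  clear hb
  induction hQ generalizing a u with
  | gen hy hj => exact hgen (H_le hA k _ ha) hy hj huv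
  | @step P y d j hP hy hj ih =>
    rw [show ⁅a, ⁅P, y⁆⁆ = ⁅⁅a, P⁆, y⁆ - ⁅⁅a, y⁆, P⁆ by
      rw [leibniz_lie a P y, ← lie_skew P ⁅a, y⁆]; abel]
    refine AddSubgroup.sub_mem _ ?_ ?_
    · exact hgen (H_le hA k _ (H_lie hP ha)) hy hj (by rw [← huv]; abel)
    · exact ih _ _ (H_step ha hy hj) (by rw [← huv]; abel)

theorem series_zero_le {A : Fam p Λ} (hA : Closed A) [NeZero p] :
    ∀ j, series A j 0 ≤ H A 0 0 ⊔ actPow (A 0) (A 0) j
  | 0 => le_sup_right
  | j + 1 => by
    rw [series, derived, AddSubgroup.closure_le]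
    rintro x ⟨u, v, a, b, ha, hb, huv, rfl⟩
    rcases eq_or_ne v 0 with rfl | hv
    · rw [add_zero] at huv
      subst huv
      have h := (series_zero_le hA j) ha
      obtain ⟨c, hc, d, hd, rfl⟩ := AddSubgroup.mem_sup.1 h
      rw [add_lie]
      exact AddSubgroup.add_mem _
        (AddSubgroup.mem_sup_left (act_H_zero hA 0 0 (lie_mem_act hc (series_le hA j 0 hb))))
        (AddSubgroup.mem_sup_right (lie_mem_act hd (series_le hA j 0 hb)))
    · have hu : u ≠ 0 := by
        rintro rfl
        rw [zero_add] at huv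
        exact hv huv
      refine AddSubgroup.mem_sup_left ?_
      rw [← huv]
      exact H_step (mem_H_of_gen (series_le hA j u ha)
          (Nat.pos_of_ne_zero ((ZMod.val_ne_zero u).2 hu)))
        (series_le hA j v hb) (Nat.pos_of_ne_zero ((ZMod.val_ne_zero v).2 hv))

/-- Kreknin with a zero component acting nilpotently. -/
theorem series_le_H_act [NeZero p] {M : ℕ} : ∀ (k : ℕ), k < p → ∀ (A : Fam p Λ), Closed A →
    (∀ i, actPow (A 0) (A i) M = ⊥) → ∀ i, series A (sKrek M k) i ≤ H A k i := by
  intro k
  induction k with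
  | zero =>
    intro _ A hA hM i
    rcases eq_or_ne i 0 with rfl | hi
    · refine (series_zero_le hA M).trans (sup_le le_rfl ?_)
      rw [hM 0]
      exact bot_le
    · exact fun a ha => mem_H_of_gen (series_le hA _ i ha)
        (Nat.pos_of_ne_zero ((ZMod.val_ne_zero i).2 hi))
  | succ k ih =>
    intro hk A hA hM
    have hk' : k < p := by omega
    set s := sKrek M k with hs
    have hsub : ∀ t, ∀ i, actPow (series A t 0) (series A t i) M = ⊥ := fun t i =>
      le_bot_iff.1 ((actPow_mono (series_le hA t 0) (series_le hA t i) M).trans (hM i).le)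
    have hiter : ∀ j, ∀ (A' : Fam p Λ), Closed A' → (∀ i, A' i ≤ A i) →
        (∀ i, actPow (A' 0) (A' i) M = ⊥) →
        ∀ i : ZMod p, i.val = k + 1 →
        series A' (j * (s + 1)) i ≤ H A (k + 1) i ⊔ actPow (A 0) (A i) j := by
      intro j
      induction j with
      | zero =>
        intro A' _ hle _ i _
        rw [zero_mul]
        exact (hle i).trans le_sup_right
      | succ j ihj =>
        intro A' hA' hle hM' i hi
        set B := series A' (j * (s + 1)) with hB
        have hBA : ∀ i, B i ≤ A i := fun i => (series_le hA' _ i).trans (hle i)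
        have hBM : ∀ i, actPow (B 0) (B i) M = ⊥ := fun i =>
          le_bot_iff.1 ((actPow_mono (hBA 0) (hBA i) M).trans (hM i).le)
        rw [Nat.succ_mul, series_add, series]
        refine le_trans ?_ ((derived_H_act (series_closed hA' (j * (s + 1))) hk hi).trans ?_)
        · refine AddSubgroup.closure_mono ?_
          rintro x ⟨u, v, a, b, ha, hb, huv, rfl⟩
          exact ⟨u, v, a, b, ih hk' B (series_closed hA' _) hBM u ha,
            ih hk' B (series_closed hA' _) hBM v hb, huv, rfl⟩
        · refine sup_le ((H_mono hBA _ _).trans le_sup_left) ?_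
          refine (act_mono (ihj A' hA' hle hM' i hi) (hBA 0)).trans ?_
          exact (act_sup_left _ _ _).trans
            (sup_le_sup (act_H_zero hA (k + 1) i) le_rfl)
    set B := series A (M * (s + 1)) with hB
    have hBA : ∀ i, B i ≤ A i := series_le hA _
    have hgen : ∀ j : ZMod p, k < j.val → B j ≤ H A (k + 1) j := by
      intro j hj
      rcases eq_or_lt_of_le (Nat.succ_le_of_lt hj) with h | h
      · refine (hiter M A hA (fun _ => le_rfl) hM j h.symm).trans (sup_le le_rfl ?_)
        rw [hM j]
        exact bot_le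
      · exact fun a ha => mem_H_of_gen (hBA j ha) h
    intro i
    rw [sKrek, series_add]
    refine (ih hk' B (series_closed hA _) (hsub _) i).trans ?_
    rw [H, AddSubgroup.closure_le]
    intro x hx
    induction hx with
    | gen ha hj => exact hgen _ hj ha
    | step _ hy hj ih' => exact H_closed A (k + 1) _ _ _ ih' _ (hgen _ hj hy)

theorem series_eq_bot_act [NeZero p] {M : ℕ} {A : Fam p Λ} (hA : Closed A)
    (hM : ∀ i, actPow (A 0) (A i) M = ⊥) (i : ZMod p) :
    series A (sKrek M (p - 1)) i = ⊥ := by
  refine le_bot_iff.1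
    ((series_le_H_act (p - 1) (by have := NeZero.pos p; omega) A hA hM i).trans ?_)
  rw [H, AddSubgroup.closure_le]
  intro x hx
  cases hx with
  | @gen a j ha hj => exact absurd hj (by have := i.val_lt; omega)
  | @step P y d j hP hy hj => exact absurd hj (by have := j.val_lt; omega)

end Cfsg.Agent.CoprimePieces99
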