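import Mathlib
import Cfsg.Agent.Lib.GrLie99Kreknin

/-!
Higman: a solvable Lie ring graded by `ZMod p` (`p` prime) with zero component in degree `0` is
nilpotent, with class bounded by `1 + (p - 1) + ⋯ + (p - 1) ^ (s - 1)`.
-/

set_option autoImplicit false

namespace Cfsg.Agent.GrLie99Higman

open Cfsg.Agent.GrLie99Kreknin

variable {p : ℕ} {Λ : Type*} [LieRing Λ]

/-- The graded lower central series. -/
def lcs (A : Fam p Λ) : ℕ → Fam p Λ
  | 0 => A
  | n + 1 => fun i => AddSubgroup.closure
      {x | ∃ (u v : ZMod p) (a b : Λ), a ∈ lcs A n u ∧ b ∈ A v ∧ u + v = i ∧ ⁅a, b⁆ = x}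

theorem lcs_le {A : Fam p Λ} (hA : Closed A) : ∀ (n : ℕ) (i : ZMod p), lcs A n i ≤ A i
  | 0, _ => le_rfl
  | n + 1, i => by
    rw [lcs, AddSubgroup.closure_le]
    rintro x ⟨u, v, a, b, ha, hb, rfl, rfl⟩
    exact hA u v a (lcs_le hA n u ha) b hb

theorem lcs_lie (A : Fam p Λ) {n : ℕ} {u v : ZMod p} {a b : Λ} (ha : a ∈ lcs A n u) (hb : b ∈ A v) :
    ⁅a, b⁆ ∈ lcs A (n + 1) (u + v) :=
  AddSubgroup.subset_closure ⟨u, v, a, b, ha, hb, rfl, rfl⟩

theorem lcs_anti {A : Fam p Λ} (hA : Closed A) : ∀ (n : ℕ) (i : ZMod p), lcs A (n + 1) i ≤ lcs A n i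
  | 0, i => lcs_le hA 1 i
  | n + 1, i => by
    rw [lcs, AddSubgroup.closure_le]
    rintro x ⟨u, v, a, b, ha, hb, rfl, rfl⟩
    exact lcs_lie A (lcs_anti hA n u ha) hb

theorem lcs_anti' {A : Fam p Λ} (hA : Closed A) {m n : ℕ} (h : m ≤ n) (i : ZMod p) :
    lcs A n i ≤ lcs A m i := by
  induction h with
  | refl => exact le_rfl
  | step _ ih => exact (lcs_anti hA _ i).trans ih

theorem lcs_lcs (A : Fam p Λ) : ∀ (b a : ℕ) (i j : ZMod p) (x y : Λ), x ∈ lcs A a i → y ∈ lcs A b j →
    ⁅x, y⁆ ∈ lcs A (a + b + 1) (i + j)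
  | 0, a, i, j, x, y, hx, hy => lcs_lie A hx hy
  | b + 1, a, i, j, x, y, hx, hy => by
    refine lie_mem_closure (s := {x}) ?_ (AddSubgroup.subset_closure rfl) hy
    intro x' hx' z hz
    rw [Set.mem_singleton_iff] at hx'
    subst x'
    obtain ⟨u, v, c, d, hc, hd, rfl, rfl⟩ := hz
    rw [show ⁅x, ⁅c, d⁆⁆ = ⁅⁅x, c⁆, d⁆ - ⁅⁅x, d⁆, c⁆ by
      rw [leibniz_lie x c d, ← lie_skew c ⁅x, d⁆]; abel]
    refine AddSubgroup.sub_mem _ ?_ ?_
    · have := lcs_lie A (lcs_lcs A b a i u x c hx hc) hd
      rwa [show a + b + 1 + 1 = a + (b + 1) + 1 by omega, add_assoc i u v] at this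
    · have := lcs_lcs A b (a + 1) (i + v) u ⁅x, d⁆ c (lcs_lie A hx hd) hc
      rwa [show a + 1 + b + 1 = a + (b + 1) + 1 by omega,
        show i + v + u = i + (u + v) by abel] at this

theorem series_ideal {A : Fam p Λ} (hA : Closed A) : ∀ (m : ℕ) (u v : ZMod p) (a x : Λ),
    a ∈ series A m u → x ∈ A v → ⁅a, x⁆ ∈ series A m (u + v)
  | 0, u, v, a, x, ha, hx => hA u v a ha x hx
  | m + 1, u, v, a, x, ha, hx => by
    refine lie_mem_closure (t := {x}) ?_ ha (AddSubgroup.subset_closure rfl)
    intro z hz x' hx'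
    rw [Set.mem_singleton_iff] at hx'
    subst x'
    obtain ⟨u1, u2, c, d, hc, hd, rfl, rfl⟩ := hz
    rw [show ⁅⁅c, d⁆, x⁆ = ⁅⁅c, x⁆, d⁆ + ⁅c, ⁅d, x⁆⁆ by
      rw [leibniz_lie c d x, ← lie_skew d ⁅c, x⁆]; abel]
    refine AddSubgroup.add_mem _ ?_ ?_
    · refine AddSubgroup.subset_closure ⟨u1 + v, u2, _, _, series_ideal hA m _ _ c x hc hx, hd, ?_, rfl⟩
      abel
    · refine AddSubgroup.subset_closure ⟨u1, u2 + v, _, _, hc, series_ideal hA m _ _ d x hd hx, ?_, rfl⟩
      abel

/-- The whole of a derived term. -/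
def total (A : Fam p Λ) (m : ℕ) : AddSubgroup Λ :=
  AddSubgroup.closure {x | ∃ i, x ∈ series A m i}

theorem series_le_total (A : Fam p Λ) (m : ℕ) (i : ZMod p) : series A m i ≤ total A m :=
  fun _ hx => AddSubgroup.subset_closure ⟨i, hx⟩

theorem total_lie {A : Fam p Λ} (hA : Closed A) (m : ℕ) {a x : Λ} {v : ZMod p}
    (ha : a ∈ total A m) (hx : x ∈ A v) : ⁅a, x⁆ ∈ total A m := by
  refine lie_mem_closure (t := {x}) ?_ ha (AddSubgroup.subset_closure rfl)
  intro z hz x' hx'
  rw [Set.mem_singleton_iff] at hx'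
  subst x'
  obtain ⟨u, hu⟩ := hz
  exact series_le_total A m _ (series_ideal hA m u v z x hu hx)

/-- A weighted homogeneous element. -/
structure Op (A : Fam p Λ) where
  el : Λ
  wt : ℕ
  deg : ZMod p
  mem : el ∈ lcs A wt deg

variable {A : Fam p Λ}

/-- Weight of a list of operators. -/
def weight (l : List (Op A)) : ℕ := (l.map fun t => t.wt + 1).sum

/-- Degree of a list of operators. -/
def degree (l : List (Op A)) : ZMod p := (l.map Op.deg).sum

/-- Iterated bracket. -/
def fold (v : Λ) (l : List (Op A)) : Λ := l.foldl (fun a t => ⁅a, t.el⁆) v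

@[simp] theorem fold_nil (v : Λ) : fold v ([] : List (Op A)) = v := rfl

@[simp] theorem fold_cons (v : Λ) (t : Op A) (l : List (Op A)) :
    fold v (t :: l) = fold ⁅v, t.el⁆ l := rfl

theorem fold_append (v : Λ) (l l' : List (Op A)) : fold v (l ++ l') = fold (fold v l) l' :=
  List.foldl_append

theorem fold_zero : ∀ l : List (Op A), fold (0 : Λ) l = 0
  | [] => rfl
  | t :: l => by rw [fold_cons, zero_lie, fold_zero l]

theorem fold_add : ∀ (l : List (Op A)) (a b : Λ), fold (a + b) l = fold a l + fold b l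
  | [], _, _ => rfl
  | t :: l, a, b => by simp [add_lie, fold_add l]

theorem fold_neg : ∀ (l : List (Op A)) (a : Λ), fold (-a) l = -fold a l
  | [], _ => rfl
  | t :: l, a => by rw [fold_cons, fold_cons, neg_lie, fold_neg l]

theorem fold_mem (hA : Closed A) : ∀ (l : List (Op A)) (v : Λ) (d : ZMod p), v ∈ A d →
    fold v l ∈ A (d + degree l)
  | [], v, d, hv => by simpa [degree] using hv
  | t :: l, v, d, hv => by
    have := fold_mem hA l _ _ (hA _ _ v hv _ (lcs_le hA _ _ t.mem))
    simpa [degree, add_assoc] using this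

theorem fold_series (hA : Closed A) (m : ℕ) : ∀ (l : List (Op A)) (v : Λ) (d : ZMod p),
    v ∈ series A m d → fold v l ∈ series A m (d + degree l)
  | [], v, d, hv => by simpa [degree] using hv
  | t :: l, v, d, hv => by
    have := fold_series hA m l _ _ (series_ideal hA m _ _ v _ hv (lcs_le hA _ _ t.mem))
    simpa [degree, add_assoc] using this

theorem fold_total (hA : Closed A) (m : ℕ) : ∀ (l : List (Op A)) (v : Λ),
    v ∈ total A m → fold v l ∈ total A m
  | [], _, hv => hv
  | t :: l, v, hv => fold_total hA m l _ (total_lie hA m hv (lcs_le hA _ _ t.mem))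

variable [Fact p.Prime]

open Classical in
theorem exists_perm_prefix : ∀ (l : List (Op A)), (∀ t ∈ l, t.deg ≠ 0) →
    p - 1 ≤ l.length → ∀ c : ZMod p, ∃ l1 l2 : List (Op A), l.Perm (l1 ++ l2) ∧ degree l1 = c := by
  suffices H : ∀ (l : List (Op A)), (∀ t ∈ l, t.deg ≠ 0) → ∃ T : Finset (ZMod p),
      min p (l.length + 1) ≤ T.card ∧
      ∀ c ∈ T, ∃ l1 l2 : List (Op A), l.Perm (l1 ++ l2) ∧ degree l1 = c by
    intro l hl hlen c
    obtain ⟨T, hT, hTc⟩ := H l hl
    refine hTc c ?_
    have : T = Finset.univ := Finset.eq_univ_of_card _ (le_antisymm (Finset.card_le_univ T) (by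
      rw [ZMod.card]; have := (Fact.out : p.Prime).two_le; omega))
    rw [this]; exact Finset.mem_univ c
  intro l
  induction l with
  | nil =>
    exact fun _ => ⟨{0}, by simp, fun c hc => ⟨[], [], by simp, by simp_all [degree]⟩⟩
  | cons t l ih =>
    intro hl
    obtain ⟨T, hT, hTc⟩ := ih fun s hs => hl s (List.mem_cons_of_mem _ hs)
    refine ⟨T ∪ T.image (fun c => t.deg + c), ?_, fun c hc => ?_⟩
    · by_contra hcon
      rw [List.length_cons] at hcon
      have hle : T.card ≤ (T ∪ T.image fun c => t.deg + c).card :=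
        Finset.card_le_card Finset.subset_union_left
      have hp : T.card < p := by
        by_contra
        omega
      have heq : T ∪ T.image (fun c => t.deg + c) = T :=
        (Finset.eq_of_subset_of_card_le Finset.subset_union_left (by omega)).symm
      have hstab : ∀ c ∈ T, t.deg + c ∈ T := fun c hc => by
        rw [← heq]; exact Finset.mem_union_right _ (Finset.mem_image_of_mem _ hc)
      obtain ⟨c0, hc0⟩ : T.Nonempty := Finset.card_pos.1 (by
        have := (Fact.out : p.Prime).two_le; omega)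
      have hall : ∀ n : ℕ, (n : ZMod p) * t.deg + c0 ∈ T := by
        intro n
        induction n with
        | zero => simpa using hc0
        | succ n ihn =>
          have := hstab _ ihn
          rwa [show ((n + 1 : ℕ) : ZMod p) * t.deg + c0 = t.deg + ((n : ZMod p) * t.deg + c0) by
            push_cast; ring]
      have huniv : T = Finset.univ := Finset.eq_univ_iff_forall.2 fun c => by
        have := hall ((c - c0) / t.deg).val
        rwa [ZMod.natCast_rightInverse _, div_mul_cancel₀ _ (hl t List.mem_cons_self),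
          sub_add_cancel] at this
      rw [huniv, Finset.card_univ, ZMod.card] at hp
      omega
    · rcases Finset.mem_union.1 hc with hc | hc
      · obtain ⟨l1, l2, hperm, hd⟩ := hTc c hc
        exact ⟨l1, t :: l2, (hperm.cons t).trans List.perm_middle.symm, hd⟩
      · obtain ⟨c', hc', rfl⟩ := Finset.mem_image.1 hc
        obtain ⟨l1, l2, hperm, hd⟩ := hTc c' hc'
        exact ⟨t :: l1, l2, hperm.cons t, by rw [← hd]; simp [degree]⟩

section Main

variable (hA : Closed A) (h0 : A 0 = ⊥) (m ξ : ℕ) (hξ : ∀ i, lcs A ξ i ≤ series A m i)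
include hA h0 hξ

/-- Products of operators of large total weight map `series A m` into `total A (m + 1)`. -/
theorem fold_weight : ∀ (r : ℕ) (l : List (Op A)), l.length = r → (p - 2) * ξ < weight l →
    ∀ (v : Λ) (d : ZMod p), v ∈ series A m d → fold v l ∈ total A (m + 1) := by
  intro r
  induction r using Nat.strong_induction_on with
  | _ r ih =>
  intro l hl hw v d hv
  -- operators of large weight
  have hbig : ∀ (l : List (Op A)) (v : Λ) (d : ZMod p), v ∈ series A m d →
      (∃ t ∈ l, ξ ≤ t.wt) → fold v l ∈ total A (m + 1) := by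
    rintro l v d hv ⟨t, ht, hwt⟩
    obtain ⟨l1, l2, rfl⟩ := List.append_of_mem ht
    rw [fold_append, fold_cons]
    refine fold_total hA _ _ _ (series_le_total A (m + 1) (d + degree l1 + t.deg) ?_)
    exact AddSubgroup.subset_closure ⟨_, _, _, _, fold_series hA m l1 v d hv,
      hξ t.deg (lcs_anti' hA hwt t.deg t.mem), rfl, rfl⟩
  -- invariance under permutations
  have hperm : ∀ {l1 l2 : List (Op A)}, l1.Perm l2 → ∀ pre : List (Op A),
      (pre ++ l1).length = r → (p - 2) * ξ < weight (pre ++ l1) →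
      fold v (pre ++ l1) - fold v (pre ++ l2) ∈ total A (m + 1) := by
    intro l1 l2 h
    induction h with
    | nil => intro pre _ _; rw [sub_self]; exact AddSubgroup.zero_mem _
    | @cons x a b _ ihp =>
      intro pre h1 h2
      have := ihp (pre ++ [x]) (by simpa using h1) (by simpa using h2)
      simpa using this
    | swap x y a =>
      intro pre h1 h2
      have hc : ⁅y.el, x.el⁆ ∈ lcs A (y.wt + x.wt + 1) (y.deg + x.deg) :=
        lcs_lcs A _ _ _ _ _ _ y.mem x.mem
      have e : fold v (pre ++ y :: x :: a) - fold v (pre ++ x :: y :: a) =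
          fold v (pre ++ (⟨⁅y.el, x.el⁆, _, _, hc⟩ : Op A) :: a) := by
        set P := fold v pre with hP
        simp only [fold_append, fold_cons, ← hP]
        rw [show ⁅⁅P, y.el⁆, x.el⁆ = ⁅⁅P, x.el⁆, y.el⁆ + ⁅P, ⁅y.el, x.el⁆⁆ by
          rw [leibniz_lie P y.el x.el, ← lie_skew y.el ⁅P, x.el⁆]; abel, fold_add, add_sub_cancel_left]
      rw [e]
      refine ih (r - 1) (by simp at h1; omega) _ (by simp at h1 ⊢; omega) ?_ v d hv
      simp [weight] at h2 ⊢
      omega
    | @trans a b c hab _ i1 i2 =>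
      intro pre h1 h2
      have e1 := i1 pre h1 h2
      have e2 := i2 pre (by rw [← h1]; simpa using hab.length_eq.symm)
        (lt_of_lt_of_eq h2 (((hab.append_left pre).map _).sum_eq))
      simpa using AddSubgroup.add_mem _ e1 e2
  by_cases hex : ∃ t ∈ l, ξ ≤ t.wt
  · exact hbig l v d hv hex
  push Not at hex
  by_cases hdeg : ∃ t ∈ l, t.deg = 0
  · obtain ⟨t, ht, htd⟩ := hdeg
    obtain ⟨l1, l2, rfl⟩ := List.append_of_mem ht
    have : t.el = 0 := by
      have := lcs_le hA _ _ t.mem
      rwa [htd, h0, AddSubgroup.mem_bot] at this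
    rw [fold_append, fold_cons, this, lie_zero, fold_zero]
    exact AddSubgroup.zero_mem _
  push Not at hdeg
  have hlen : p - 1 ≤ l.length := by
    by_contra hlen
    have h1 : weight l ≤ l.length * ξ := by
      have := List.sum_le_card_nsmul (l.map fun t : Op A => t.wt + 1) ξ (by
        intro x hx
        obtain ⟨t, ht, rfl⟩ := List.mem_map.1 hx
        exact hex t ht)
      simpa [weight] using this
    have : l.length * ξ ≤ (p - 2) * ξ := Nat.mul_le_mul_right ξ (by omega)
    omega
  obtain ⟨l1, l2, hl12, hdeg1⟩ := exists_perm_prefix l hdeg hlen (-d)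
  have h1 := hperm hl12 [] (by simpa using hl) (by simpa using hw)
  have hz : fold v l1 = 0 := by
    have := fold_mem hA l1 v d (series_le hA m d hv)
    rwa [hdeg1, add_neg_cancel, h0, AddSubgroup.mem_bot] at this
  simpa [fold_append, hz, fold_zero] using h1

theorem fold_lcs : ∀ (j : ℕ) (i : ZMod p) (c : Λ), c ∈ lcs A (ξ + j) i → ∀ l : List (Op A),
    (p - 2) * ξ < weight l + j → fold c l ∈ total A (m + 1)
  | 0, i, c, hc, l, hl => fold_weight hA h0 m ξ hξ _ l rfl (by simpa using hl) c i (hξ i hc)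
  | j + 1, i, c, hc, l, hl => by
    rw [← Nat.add_assoc, lcs] at hc
    induction hc using AddSubgroup.closure_induction with
    | mem x hx =>
      obtain ⟨u, w, a, b, ha, hb, -, rfl⟩ := hx
      have := fold_lcs j u a ha ((⟨b, 0, w, hb⟩ : Op A) :: l) (by simp [weight] at hl ⊢; omega)
      simpa using this
    | zero => rw [fold_zero]; exact AddSubgroup.zero_mem _
    | add x y _ _ hx hy => rw [fold_add]; exact AddSubgroup.add_mem _ hx hy
    | neg x _ hx => rw [fold_neg]; exact AddSubgroup.neg_mem _ hx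

theorem lcs_le_total (i : ZMod p) : lcs A ((p - 1) * ξ + 1) i ≤ total A (m + 1) := by
  intro c hc
  obtain ⟨q, hq⟩ : ∃ q, p = q + 2 := ⟨p - 2, by have := (Fact.out : p.Prime).two_le; omega⟩
  have e : (p - 1) * ξ + 1 = ξ + ((p - 2) * ξ + 1) := by
    subst hq
    simp only [Nat.add_sub_cancel]
    rw [show q + 2 - 1 = q + 1 by omega, add_mul]; omega
  rw [e] at hc
  simpa using fold_lcs hA h0 m ξ hξ _ i c hc [] (by simp [weight])

end Main

/-- The bound function. -/
def bound (p : ℕ) (s : ℕ) : ℕ := ∑ i ∈ Finset.range s, (p - 1) ^ i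

/-- Higman: derived length `s` gives class `bound p s`, for independent homogeneous components. -/
theorem lcs_eq_bot (hA : Closed A) (h0 : A 0 = ⊥)
    (hind : iSupIndep A) :
    ∀ s : ℕ, ∀ i, lcs A (bound p s) i ≤ series A s i := by
  intro s
  induction s with
  | zero => intro i; simp [bound, lcs, series]
  | succ s ih =>
    intro i c hc
    have hb : bound p (s + 1) = (p - 1) * bound p s + 1 := by
      simp only [bound, Finset.sum_range_succ', pow_zero, Finset.mul_sum, pow_succ']
    rw [hb] at hc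
    have hmem : c ∈ total A (s + 1) := lcs_le_total hA h0 s _ ih i hc
    have hci : c ∈ A i := lcs_le hA _ _ hc
    have hle : total A (s + 1) ≤ series A (s + 1) i ⊔ ⨆ (j) (_ : j ≠ i), A j := by
      rw [total, AddSubgroup.closure_le]
      rintro x ⟨j, hj⟩
      rcases eq_or_ne j i with rfl | hji
      · exact AddSubgroup.mem_sup_left hj
      · exact AddSubgroup.mem_sup_right
          (le_iSup₂ (f := fun k (_ : k ≠ i) => A k) j hji (series_le hA _ j hj))
    obtain ⟨a, ha, b, hb', hab⟩ := AddSubgroup.mem_sup.1 (hle hmem)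
    have hbi : b ∈ A i := by
      rw [show b = c - a by rw [← hab]; abel]
      exact AddSubgroup.sub_mem _ hci (series_le hA _ i ha)
    have : b = 0 := (hind i).le_bot ⟨hbi, hb'⟩
    rw [← hab, this, add_zero]
    exact ha

end Cfsg.Agent.GrLie99Higman
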