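import Mathlib
import Cfsg.Agent.Lib.GrLie99Higman

/-!
A Lie ring with a fixed point free automorphism of prime order `p`, in which `p` is invertible,
becomes graded by `ZMod p` with trivial zero component after adjoining a `p`-th root of unity.
-/

set_option autoImplicit false
set_option linter.unusedSectionVars false

noncomputable section

namespace Cfsg.Agent.GrLie99Fpf

open Cfsg.Agent.GrLie99Kreknin Cfsg.Agent.GrLie99Higman
open scoped TensorProduct

attribute [-instance] LieAlgebra.ExtendScalars.instBracketTensorProduct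
  LieAlgebra.ExtendScalars.instLieRingModule

/-- The ring of `p`-cyclotomic integers. -/
abbrev CR (p : ℕ) : Type := AdjoinRoot (Polynomial.cyclotomic p ℤ)

/-- The additive character. -/
def chi {p : ℕ} (a : ZMod p) : CR p := AdjoinRoot.root (Polynomial.cyclotomic p ℤ) ^ a.val

/-- The lower central series of a Lie ring, as additive subgroups. -/
def C (M : Type*) [LieRing M] : ℕ → AddSubgroup M
  | 0 => ⊤
  | n + 1 => AddSubgroup.closure {x | ∃ a b : M, a ∈ C M n ∧ ⁅a, b⁆ = x}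

theorem C_lie {M : Type*} [LieRing M] {n : ℕ} {a : M} (ha : a ∈ C M n) (b : M) :
    ⁅a, b⁆ ∈ C M (n + 1) :=
  AddSubgroup.subset_closure ⟨a, b, ha, rfl⟩

section

variable {p : ℕ} [Fact p.Prime]

theorem sum_val {β : Type*} [AddCommMonoid β] (f : ℕ → β) :
    ∑ k : ZMod p, f k.val = ∑ i ∈ Finset.range p, f i := by
  refine Finset.sum_nbij' (fun k => k.val) (fun i => (i : ZMod p)) ?_ ?_ ?_ ?_ ?_
  · intro k _; exact Finset.mem_range.2 k.val_lt
  · intro i _; exact Finset.mem_univ _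
  · intro k _; exact ZMod.natCast_rightInverse k
  · intro i hi; exact ZMod.val_cast_of_lt (Finset.mem_range.1 hi)
  · intro k _; rfl

theorem geom_root :
    ∑ i ∈ Finset.range p, AdjoinRoot.root (Polynomial.cyclotomic p ℤ) ^ i = 0 := by
  have h : AdjoinRoot.mk (Polynomial.cyclotomic p ℤ) (Polynomial.cyclotomic p ℤ) = 0 :=
    AdjoinRoot.mk_self
  have e := Polynomial.cyclotomic_prime ℤ p
  have h' : AdjoinRoot.mk (Polynomial.cyclotomic p ℤ) (∑ i ∈ Finset.range p, Polynomial.X ^ i) = 0 := by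
    rw [← e]; exact h
  simpa using h'

theorem root_pow : AdjoinRoot.root (Polynomial.cyclotomic p ℤ) ^ p = 1 := by
  have h := geom_sum_mul (AdjoinRoot.root (Polynomial.cyclotomic p ℤ)) p
  rw [geom_root, zero_mul] at h
  exact sub_eq_zero.1 h.symm

theorem chi_add (a b : ZMod p) : chi (a + b) = chi a * chi b := by
  rw [chi, chi, chi, ← pow_add, pow_eq_pow_mod (a.val + b.val) root_pow, ZMod.val_add]

theorem chi_zero : chi (0 : ZMod p) = 1 := by simp [chi]

theorem sum_chi_mul (j : ZMod p) (hj : j ≠ 0) : ∑ k : ZMod p, chi (j * k) = 0 := by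
  rw [Fintype.sum_bijective (fun k : ZMod p => j * k) (mulLeft_bijective₀ j hj)
    (fun k => chi (j * k)) chi (fun _ => rfl)]
  exact (sum_val (fun i => AdjoinRoot.root (Polynomial.cyclotomic p ℤ) ^ i)).trans geom_root

theorem sum_chi_mul_eq (j : ZMod p) :
    ∑ k : ZMod p, chi (j * k) = if j = 0 then (p : CR p) else 0 := by
  split_ifs with h
  · subst h; simp [chi_zero, ZMod.card]
  · exact sum_chi_mul j h

theorem exists_coord : ∃ c : CR p →ₗ[ℤ] ℤ, c 1 = 1 := by
  have hm : (Polynomial.cyclotomic p ℤ).Monic := Polynomial.cyclotomic.monic p ℤ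
  let B := AdjoinRoot.powerBasis' hm
  have hd : 0 < B.dim := by
    rw [AdjoinRoot.powerBasis'_dim, Polynomial.natDegree_cyclotomic,
      Nat.totient_prime (Fact.out : p.Prime)]
    have := (Fact.out : p.Prime).two_le
    omega
  refine ⟨B.basis.coord ⟨0, hd⟩, ?_⟩
  have e : B.basis ⟨0, hd⟩ = 1 := by simp [B.basis_eq_pow]
  rw [← e, Module.Basis.coord_apply, Module.Basis.repr_self, Finsupp.single_eq_same]

variable {M : Type*} [LieRing M]

/-- The extended Lie ring. -/
abbrev Ext (p : ℕ) (M : Type*) [LieRing M] : Type _ := CR p ⊗[ℤ] M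

variable (φ : M →+ M)

/-- The extended automorphism. -/
def Phi : Module.End (CR p) (Ext p M) := φ.toIntLinearMap.baseChange (CR p)

theorem Phi_tmul (r : CR p) (m : M) : Phi φ (r ⊗ₜ[ℤ] m) = r ⊗ₜ[ℤ] φ m :=
  LinearMap.baseChange_tmul _ _ _

theorem Phi_pow_tmul (n : ℕ) (r : CR p) (m : M) :
    (Phi φ ^ n) (r ⊗ₜ[ℤ] m) = r ⊗ₜ[ℤ] (φ^[n] m) := by
  induction n with
  | zero => rfl
  | succ n ih => rw [pow_succ', Module.End.mul_apply, ih, Phi_tmul, Function.iterate_succ_apply']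

theorem Phi_pow_p (hp : ∀ m, φ^[p] m = m) (x : Ext p M) : (Phi φ ^ p) x = x := by
  induction x using TensorProduct.induction_on with
  | zero => exact map_zero _
  | tmul r m => rw [Phi_pow_tmul, hp]
  | add a b ha hb => rw [map_add, ha, hb]

theorem Phi_pow_succ (hp : ∀ m, φ^[p] m = m) (k : ZMod p) (x : Ext p M) :
    (Phi φ ^ (k + 1).val) x = Phi φ ((Phi φ ^ k.val) x) := by
  rw [← Module.End.mul_apply, ← pow_succ']
  rcases eq_or_lt_of_le (Nat.succ_le_of_lt k.val_lt) with h | h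
  · rw [show k.val + 1 = p from h, Phi_pow_p φ hp]
    have : (k + 1).val = 0 := by
      rw [ZMod.val_add, ZMod.val_one, show k.val + 1 = p from h, Nat.mod_self]
    rw [this, pow_zero]; rfl
  · rw [ZMod.val_add, ZMod.val_one, Nat.mod_eq_of_lt h]

/-- The eigenspace family. -/
def eig (i : ZMod p) : AddSubgroup (Ext p M) where
  carrier := {x | Phi φ x = chi i • x}
  zero_mem' := by simp
  add_mem' {a b} ha hb := by
    simp only [Set.mem_setOf_eq] at ha hb ⊢
    rw [map_add, ha, hb, smul_add]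
  neg_mem' {a} ha := by
    simp only [Set.mem_setOf_eq] at ha ⊢
    rw [map_neg, ha, smul_neg]

theorem mem_eig {i : ZMod p} {x : Ext p M} : x ∈ eig φ i ↔ Phi φ x = chi i • x := Iff.rfl

/-- The projections. -/
def prj (i : ZMod p) : Module.End (CR p) (Ext p M) :=
  ∑ k : ZMod p, chi (-(i * k)) • Phi φ ^ k.val

theorem prj_apply (i : ZMod p) (x : Ext p M) :
    prj φ i x = ∑ k : ZMod p, chi (-(i * k)) • (Phi φ ^ k.val) x := by
  simp [prj, LinearMap.sum_apply]

theorem prj_mem (hp : ∀ m, φ^[p] m = m) (i : ZMod p) (x : Ext p M) : prj φ i x ∈ eig φ i := by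
  rw [mem_eig, prj_apply, map_sum, Finset.smul_sum]
  refine Fintype.sum_bijective (fun k : ZMod p => k + 1) (Equiv.addRight (1 : ZMod p)).bijective _ _
    (fun k => ?_)
  rw [map_smul, ← Phi_pow_succ φ hp, smul_smul, ← chi_add]
  congr 2
  ring

theorem sum_prj (x : Ext p M) : ∑ i : ZMod p, prj φ i x = (p : CR p) • x := by
  simp only [prj_apply]
  rw [Finset.sum_comm, Finset.sum_eq_single (0 : ZMod p)]
  · simp [chi_zero, ZMod.card, ← Nat.cast_smul_eq_nsmul (CR p)]
  · intro k _ hk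
    rw [← Finset.sum_smul, show (∑ i : ZMod p, chi (-(i * k))) = 0 from ?_, zero_smul]
    have := sum_chi_mul (-k) (neg_ne_zero.2 hk)
    convert this using 3 with i
    ring
  · simp

theorem Phi_pow_eig {i : ZMod p} {x : Ext p M} (hx : x ∈ eig φ i) (n : ℕ) :
    (Phi φ ^ n) x = chi (i * (n : ZMod p)) • x := by
  induction n with
  | zero => simp [chi_zero]
  | succ n ih =>
    rw [pow_succ', Module.End.mul_apply, ih, map_smul, (mem_eig φ).1 hx, smul_smul, ← chi_add]
    congr 2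
    push_cast
    ring

theorem prj_eig {i : ZMod p} {x : Ext p M} (hx : x ∈ eig φ i) (j : ZMod p) :
    prj φ j x = (if i - j = 0 then (p : CR p) else 0) • x := by
  rw [prj_apply, ← sum_chi_mul_eq, Finset.sum_smul]
  refine Finset.sum_congr rfl fun k _ => ?_
  rw [Phi_pow_eig φ hx, smul_smul, ← chi_add, ZMod.natCast_rightInverse k]
  congr 2
  ring

theorem tmul_lie (r s : CR p) (m n : M) :
    ⁅(r ⊗ₜ[ℤ] m : Ext p M), (s ⊗ₜ[ℤ] n : Ext p M)⁆ = (r * s) ⊗ₜ[ℤ] ⁅m, n⁆ :=
  LieAlgebra.ExtendScalars.bracket_tmul ℤ (CR p) M M r s m n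

theorem ext_lie_smul (r : CR p) (x y : Ext p M) : ⁅x, r • y⁆ = r • ⁅x, y⁆ :=
  LieAlgebra.lie_smul (R := CR p) (L := Ext p M) r x y

theorem ext_smul_lie (r : CR p) (x y : Ext p M) : ⁅r • x, y⁆ = r • ⁅x, y⁆ := by
  rw [← lie_skew, ext_lie_smul, ← smul_neg, lie_skew]

theorem Phi_lie (hφ : ∀ a b, φ ⁅a, b⁆ = ⁅φ a, φ b⁆) (x y : Ext p M) :
    Phi φ ⁅x, y⁆ = ⁅Phi φ x, Phi φ y⁆ := by
  induction x using TensorProduct.induction_on with
  | zero => simp
  | add a b ha hb => simp only [add_lie, map_add, ha, hb]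
  | tmul r m =>
    induction y using TensorProduct.induction_on with
    | zero => simp
    | add a b ha hb => simp only [lie_add, map_add, ha, hb]
    | tmul s n =>
      rw [tmul_lie, Phi_tmul, Phi_tmul, Phi_tmul, hφ,
        tmul_lie]

theorem eig_closed (hφ : ∀ a b, φ ⁅a, b⁆ = ⁅φ a, φ b⁆) : Closed (eig (p := p) φ) := by
  intro i j a ha b hb
  rw [mem_eig] at ha hb ⊢
  rw [Phi_lie φ hφ, ha, hb, ext_smul_lie, ext_lie_smul, smul_smul, chi_add]

theorem nat_smul_cancel {q : ℤ} (hq : ∀ m : M, (q * (p : ℤ)) • m = m) (x : Ext p M) :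
    (q : CR p) • (p : CR p) • x = x := by
  rw [smul_smul, show ((q : CR p) * (p : CR p)) = ((q * (p : ℤ) : ℤ) : CR p) by push_cast; rfl,
    Int.cast_smul_eq_zsmul]
  induction x using TensorProduct.induction_on with
  | zero => exact smul_zero _
  | tmul r m => rw [TensorProduct.smul_tmul', TensorProduct.smul_tmul, hq]
  | add a b ha hb => rw [smul_add, ha, hb]

theorem eig_zero (hp : ∀ m, φ^[p] m = m) (hfix : ∀ m, φ m = m → m = 0) {q : ℤ}
    (hq : ∀ m : M, (q * (p : ℤ)) • m = m) : eig (p := p) φ 0 = ⊥ := by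
  refine (AddSubgroup.eq_bot_iff_forall _).2 fun x hx => ?_
  have h0 : ∀ y : Ext p M, prj φ (0 : ZMod p) y = 0 := by
    intro y
    induction y using TensorProduct.induction_on with
    | zero => exact map_zero _
    | add a b ha hb => rw [map_add, ha, hb, add_zero]
    | tmul r m =>
      have hs : ∑ n ∈ Finset.range p, φ^[n] m = 0 := by
        refine hfix _ ?_
        rw [map_sum]
        have e := (Finset.sum_range_succ' (fun n => φ^[n] m) p).symm.trans
          (Finset.sum_range_succ (fun n => φ^[n] m) p)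
        simp only [hp, Function.iterate_zero_apply, Function.iterate_succ_apply'] at e
        exact add_right_cancel e
      simp only [prj_apply, zero_mul, neg_zero, chi_zero, one_smul, Phi_pow_tmul]
      rw [sum_val (fun n => r ⊗ₜ[ℤ] (φ^[n] m)), ← TensorProduct.tmul_sum, hs,
        TensorProduct.tmul_zero]
  have e := prj_eig φ hx 0
  rw [h0, sub_zero, if_pos rfl] at e
  rw [← nat_smul_cancel hq x, ← e, smul_zero]

theorem eig_indep {q : ℤ} (hq : ∀ m : M, (q * (p : ℤ)) • m = m) : iSupIndep (eig (p := p) φ) := by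
  intro i
  rw [disjoint_iff, AddSubgroup.eq_bot_iff_forall]
  rintro x ⟨hxi, hxo⟩
  have h1 : x ∈ (prj φ i).toAddMonoidHom.ker := by
    refine (iSup₂_le ?_ : (⨆ (j) (_ : j ≠ i), eig φ j) ≤ _) hxo
    intro j hji y hy
    rw [AddMonoidHom.mem_ker]
    show prj φ i y = 0
    rw [prj_eig φ hy, if_neg (sub_ne_zero.2 hji), zero_smul]
  rw [AddMonoidHom.mem_ker] at h1
  have e := prj_eig φ hxi i
  rw [if_pos (sub_self i)] at e
  rw [← nat_smul_cancel hq x, ← e, show prj φ i x = 0 from h1, smul_zero]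

theorem tmul_mem (hp : ∀ m, φ^[p] m = m) {q : ℤ} (hq : ∀ m : M, (q * (p : ℤ)) • m = m) :
    ∀ (n : ℕ) (m : M), m ∈ C M n →
      (1 : CR p) ⊗ₜ[ℤ] m ∈ ⨆ i : ZMod p, lcs (eig φ) n i := by
  intro n
  induction n with
  | zero =>
    intro m _
    rw [← nat_smul_cancel hq ((1 : CR p) ⊗ₜ[ℤ] m), ← sum_prj φ, Int.cast_smul_eq_zsmul]
    exact AddSubgroup.zsmul_mem _ (AddSubgroup.sum_mem _ fun i _ =>
      AddSubgroup.mem_iSup_of_mem i (prj_mem φ hp i _)) q
  | succ n ih =>
    intro m hm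
    induction hm using AddSubgroup.closure_induction with
    | mem x hx =>
      obtain ⟨a, b, ha, rfl⟩ := hx
      have e : (1 : CR p) ⊗ₜ[ℤ] ⁅a, b⁆ = ⁅(1 : CR p) ⊗ₜ[ℤ] a, (1 : CR p) ⊗ₜ[ℤ] b⁆ := by
        rw [tmul_lie, mul_one]
      have hb : (1 : CR p) ⊗ₜ[ℤ] b ∈ ⨆ i : ZMod p, lcs (eig φ) 0 i := by
        rw [← nat_smul_cancel hq ((1 : CR p) ⊗ₜ[ℤ] b), ← sum_prj φ, Int.cast_smul_eq_zsmul]
        exact AddSubgroup.zsmul_mem _ (AddSubgroup.sum_mem _ fun i _ =>
          AddSubgroup.mem_iSup_of_mem i (prj_mem φ hp i _)) q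
      have ha' := ih a ha
      rw [AddSubgroup.iSup_eq_closure] at ha' hb
      rw [e]
      refine lie_mem_closure ?_ ha' hb
      intro u hu v hv
      obtain ⟨i, hu⟩ := Set.mem_iUnion.1 hu
      obtain ⟨j, hv⟩ := Set.mem_iUnion.1 hv
      exact AddSubgroup.mem_iSup_of_mem (i + j) (lcs_lie _ hu hv)
    | zero => rw [TensorProduct.tmul_zero]; exact AddSubgroup.zero_mem _
    | add x y _ _ hx hy => rw [TensorProduct.tmul_add]; exact AddSubgroup.add_mem _ hx hy
    | neg x _ hx => rw [TensorProduct.tmul_neg]; exact AddSubgroup.neg_mem _ hx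

end

universe u

/-- Class bound: any bound valid for all graded rings with trivial zero component applies. -/
theorem C_eq_bot {p : ℕ} (hp' : p.Prime) {M : Type u} [LieRing M] (φ : M →+ M)
    (hφ : ∀ a b, φ ⁅a, b⁆ = ⁅φ a, φ b⁆) (hp : ∀ m, φ^[p] m = m)
    (hfix : ∀ m, φ m = m → m = 0) {q : ℤ} (hq : ∀ m : M, (q * (p : ℤ)) • m = m) {N : ℕ}
    (hN : ∀ (Λ : Type u) [LieRing Λ] (A : Fam p Λ), Closed A → A 0 = ⊥ → iSupIndep A →
      ∀ i, lcs A N i = ⊥) : C M N = ⊥ := by
  have : Fact p.Prime := ⟨hp'⟩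
  refine (AddSubgroup.eq_bot_iff_forall _).2 fun m hm => ?_
  have h := tmul_mem φ hp hq N m hm
  rw [iSup_eq_bot.2 (hN (Ext p M) (eig φ) (eig_closed φ hφ) (eig_zero φ hp hfix hq)
    (eig_indep φ hq)), AddSubgroup.mem_bot] at h
  obtain ⟨c, hc⟩ := exists_coord (p := p)
  have := congrArg (TensorProduct.lift ((LinearMap.lsmul ℤ M).comp c)) h
  rwa [TensorProduct.lift.tmul, map_zero, LinearMap.comp_apply, hc, LinearMap.lsmul_apply,
    one_smul] at this

/-- For `p = 3` the class is at most `2`. -/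
theorem lcs_three {Λ : Type*} [LieRing Λ] {A : Fam 3 Λ} (hA : Closed A) (h0 : A 0 = ⊥)
    (i : ZMod 3) : lcs A 2 i = ⊥ := by
  have hz : ∀ {u v : ZMod 3} {a b : Λ}, a ∈ A u → b ∈ A v → u + v = 0 → ⁅a, b⁆ = 0 := by
    intro u v a b ha hb huv
    have := hA u v a ha b hb
    rwa [huv, h0, AddSubgroup.mem_bot] at this
  rw [eq_bot_iff, lcs, AddSubgroup.closure_le]
  rintro x ⟨w, v, z, c, hz', hc, -, rfl⟩
  refine lie_mem_closure (t := {c}) ?_ hz' (AddSubgroup.subset_closure rfl)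
  rintro _ ⟨u1, u2, a, b, ha, hb, rfl, rfl⟩ c' rfl
  rw [AddSubgroup.mem_bot]
  change a ∈ A u1 at ha
  by_cases h : u1 + u2 + v = 0
  · exact hz (hA u1 u2 a ha b hb) hc h
  rcases eq_or_ne (u1 + u2) 0 with h' | h'
  · rw [hz ha hb h', zero_lie]
  rcases eq_or_ne u1 0 with h1 | h1
  · rw [h1, h0, AddSubgroup.mem_bot] at ha
    rw [ha, zero_lie, zero_lie]
  rcases eq_or_ne u2 0 with h2 | h2
  · rw [h2, h0, AddSubgroup.mem_bot] at hb
    rw [hb, lie_zero, zero_lie]
  rcases eq_or_ne v 0 with h3 | h3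
  · rw [h3, h0, AddSubgroup.mem_bot] at hc
    rw [hc, lie_zero]
  have key : ∀ a b c : ZMod 3, a + b + c ≠ 0 → a + b ≠ 0 → a ≠ 0 → b ≠ 0 → c ≠ 0 →
      b + c = 0 ∧ a + c = 0 := by decide
  obtain ⟨e1, e2⟩ := key u1 u2 v h h' h1 h2 h3
  rw [lie_lie, hz hb hc e1, hz ha hc e2, lie_zero, lie_zero, sub_zero]

end Cfsg.Agent.GrLie99Fpf
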