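import Mathlib
import Cfsg.Agent.Lib.GrLie99Fpf
import Cfsg.Agent.Lib.CoprimePieces99Kreknin

/-!
A Lie ring with an automorphism of prime order `p` whose fixed points act nilpotently of index `M`,
and in which `p` is invertible, is solvable of bounded derived length.
-/

set_option autoImplicit false
set_option linter.unusedSectionVars false

noncomputable section

namespace Cfsg.Agent.CoprimePieces99

open Cfsg.Agent.GrLie99Kreknin Cfsg.Agent.GrLie99Fpf
open scoped TensorProduct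

attribute [-instance] LieAlgebra.ExtendScalars.instBracketTensorProduct
  LieAlgebra.ExtendScalars.instLieRingModule

variable {p : ℕ} [hp : Fact p.Prime] {M : Type*} [LieRing M] (φ : M →+ M)

/-- The additive subgroup of the extension spanned by a subgroup. -/
def span1 (p : ℕ) (V : AddSubgroup M) : AddSubgroup (Ext p M) :=
  AddSubgroup.closure {z | ∃ (r : CR p) (m : M), m ∈ V ∧ r ⊗ₜ[ℤ] m = z}

theorem tmul_mem_span1 {V : AddSubgroup M} (r : CR p) {m : M} (hm : m ∈ V) :
    r ⊗ₜ[ℤ] m ∈ span1 p V :=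
  AddSubgroup.subset_closure ⟨r, m, hm, rfl⟩

theorem actPow_span1 (F V : AddSubgroup M) :
    ∀ j, actPow (span1 p F) (span1 p V) j ≤ span1 p (actPow F V j)
  | 0 => le_rfl
  | j + 1 => by
    refine (act_mono (actPow_span1 F V j) le_rfl).trans (act_le_iff.2 fun v hv x hx => ?_)
    refine GrLie99Kreknin.lie_mem_closure ?_ hv hx
    rintro _ ⟨r, a, ha, rfl⟩ _ ⟨s, b, hb, rfl⟩
    rw [tmul_lie]
    exact tmul_mem_span1 _ (lie_mem_act ha hb)

theorem span1_top : span1 p (⊤ : AddSubgroup M) = ⊤ := by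
  refine eq_top_iff.2 fun z _ => ?_
  induction z using TensorProduct.induction_on with
  | zero => exact zero_mem _
  | tmul r m => exact tmul_mem_span1 r (AddSubgroup.mem_top m)
  | add a b ha hb => exact add_mem (ha (AddSubgroup.mem_top a)) (hb (AddSubgroup.mem_top b))

theorem span1_bot : span1 p (⊥ : AddSubgroup M) = ⊥ := by
  refine le_bot_iff.1 ((AddSubgroup.closure_le _).2 ?_)
  rintro _ ⟨r, m, hm, rfl⟩
  rw [AddSubgroup.mem_bot.1 hm, TensorProduct.tmul_zero]
  exact AddSubgroup.zero_mem _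

theorem eig_zero_le (hp' : ∀ m, φ^[p] m = m) {q : ℤ} (hq : ∀ m : M, (q * (p : ℤ)) • m = m)
    {F : AddSubgroup M} (hF : ∀ m, (∑ n ∈ Finset.range p, φ^[n] m) ∈ F) :
    eig (p := p) φ 0 ≤ span1 p F := by
  intro x hx
  have h0 : ∀ y : Ext p M, prj φ (0 : ZMod p) y ∈ span1 p F := by
    intro y
    induction y using TensorProduct.induction_on with
    | zero => rw [map_zero]; exact zero_mem _
    | add a b ha hb => rw [map_add]; exact add_mem ha hb
    | tmul r m =>
      simp only [prj_apply, zero_mul, neg_zero, chi_zero, one_smul, Phi_pow_tmul]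
      rw [sum_val (fun n => r ⊗ₜ[ℤ] (φ^[n] m)), ← TensorProduct.tmul_sum]
      exact tmul_mem_span1 r (hF m)
  have e := prj_eig φ hx 0
  rw [sub_zero, if_pos rfl] at e
  rw [← nat_smul_cancel hq x, ← e, Int.cast_smul_eq_zsmul]
  exact AddSubgroup.zsmul_mem _ (h0 x) q

/-- Bounded derived length. -/
theorem dser_top_eq_bot (hφ : ∀ a b, φ ⁅a, b⁆ = ⁅φ a, φ b⁆) (hp' : ∀ m, φ^[p] m = m)
    {q : ℤ} (hq : ∀ m : M, (q * (p : ℤ)) • m = m) {F : AddSubgroup M}
    (hF : ∀ m, (∑ n ∈ Finset.range p, φ^[n] m) ∈ F) {M₁ : ℕ} (hM : actPow F ⊤ M₁ = ⊥) :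
    dser (⊤ : AddSubgroup M) (sKrek M₁ (p - 1)) = ⊥ := by
  have hE : ∀ i, actPow (eig (p := p) φ 0) (eig φ i) M₁ = ⊥ := by
    intro i
    refine le_bot_iff.1 ((actPow_mono (eig_zero_le φ hp' hq hF) le_top M₁).trans ?_)
    rw [← span1_top]
    refine (actPow_span1 F ⊤ M₁).trans ?_
    rw [hM, span1_bot]
  have hser : ∀ j, ∀ m ∈ dser (⊤ : AddSubgroup M) j,
      (1 : CR p) ⊗ₜ[ℤ] m ∈ ⨆ i : ZMod p, series (eig φ) j i := by
    intro j
    induction j with
    | zero =>
      intro m _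
      rw [← nat_smul_cancel hq ((1 : CR p) ⊗ₜ[ℤ] m), ← sum_prj φ, Int.cast_smul_eq_zsmul]
      exact AddSubgroup.zsmul_mem _ (AddSubgroup.sum_mem _ fun i _ =>
        AddSubgroup.mem_iSup_of_mem i (prj_mem φ hp' i _)) q
    | succ j ih =>
      intro m hm
      rw [dser, act] at hm
      induction hm using AddSubgroup.closure_induction with
      | mem x hx =>
        obtain ⟨a, ha, b, hb, rfl⟩ := hx
        have ha' := ih a ha
        have hb' := ih b hb
        rw [AddSubgroup.iSup_eq_closure] at ha' hb'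
        rw [show (1 : CR p) ⊗ₜ[ℤ] ⁅a, b⁆ = ⁅(1 : CR p) ⊗ₜ[ℤ] a, (1 : CR p) ⊗ₜ[ℤ] b⁆ by
          rw [tmul_lie, mul_one]]
        refine GrLie99Kreknin.lie_mem_closure ?_ ha' hb'
        intro u hu v hv
        obtain ⟨i, hu⟩ := Set.mem_iUnion.1 hu
        obtain ⟨k, hv⟩ := Set.mem_iUnion.1 hv
        exact AddSubgroup.mem_iSup_of_mem (i + k)
          (AddSubgroup.subset_closure ⟨i, k, u, v, hu, hv, rfl, rfl⟩)
      | zero => rw [TensorProduct.tmul_zero]; exact AddSubgroup.zero_mem _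
      | add x y _ _ hx hy => rw [TensorProduct.tmul_add]; exact AddSubgroup.add_mem _ hx hy
      | neg x _ hx => rw [TensorProduct.tmul_neg]; exact AddSubgroup.neg_mem _ hx
  refine (AddSubgroup.eq_bot_iff_forall _).2 fun m hm => ?_
  have h := hser _ m hm
  rw [iSup_eq_bot.2 (series_eq_bot_act (eig_closed φ hφ) hE), AddSubgroup.mem_bot] at h
  obtain ⟨c, hc⟩ := exists_coord (p := p)
  have := congrArg (TensorProduct.lift ((LinearMap.lsmul ℤ M).comp c)) h
  rwa [TensorProduct.lift.tmul, map_zero, LinearMap.comp_apply, hc, LinearMap.lsmul_apply,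
    one_smul] at this

end Cfsg.Agent.CoprimePieces99
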