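import Mathlib
import Cfsg.Agent.Lib.PGroupsHallPetrescu

/-!
The Lie ring associated with the lower central series of a group, with functoriality.
-/

set_option autoImplicit false
set_option linter.unusedSectionVars false

noncomputable section

namespace Cfsg.Agent.GrLie99Assoc

open scoped commutatorElement

variable (G : Type*) [Group G]

/-- The lower central series of the whole group. -/
abbrev lc (n : ℕ) : Subgroup G := (⊤ : Subgroup G).lowerCentralSeries n

/-- The section `lc n / lc (n + 1)` inside `G / lc (n + 1)`. -/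
abbrev Sec (n : ℕ) : Subgroup (G ⧸ lc G (n + 1)) :=
  (lc G n).map (QuotientGroup.mk' (lc G (n + 1)))

variable {G}

theorem comm_mem {i j : ℕ} {x y : G} (hx : x ∈ lc G i) (hy : y ∈ lc G j) :
    ⁅x, y⁆ ∈ lc G (i + j + 1) :=
  Cfsg.Agent.PGroupsHallPetrescu.commutator_lcs_le i j (Subgroup.commutator_mem_commutator hx hy)

theorem lc_anti {i j : ℕ} (h : i ≤ j) : lc G j ≤ lc G i :=
  Subgroup.lowerCentralSeries_antitone _ h

theorem mk_central {n : ℕ} {x : G} (hx : x ∈ lc G n) (g : G ⧸ lc G (n + 1)) :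
    Commute (QuotientGroup.mk' (lc G (n + 1)) x) g := by
  induction g using QuotientGroup.induction_on with
  | _ g =>
    rw [← commutatorElement_eq_one_iff_commute, ← QuotientGroup.mk'_apply, ← map_commutatorElement,
      QuotientGroup.mk'_apply, QuotientGroup.eq_one_iff]
    exact Subgroup.commutator_mem_commutator hx (Subgroup.mem_top g)

/-- Commutative group structure on a section. -/
instance secCommGroup (n : ℕ) : CommGroup (Sec G n) :=
  { (inferInstance : Group (Sec G n)) with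
    mul_comm := by
      rintro ⟨a, ha⟩ ⟨b, _⟩
      obtain ⟨x, hx, rfl⟩ := ha
      exact Subtype.ext (mk_central hx b).eq }

variable (G)

/-- The graded group. -/
abbrev Gr : Type _ := DirectSum ℕ fun n => Additive (Sec G n)

variable {G}

/-- The class of an element in a graded piece. -/
def cls (n : ℕ) (x : G) (hx : x ∈ lc G n) : Additive (Sec G n) :=
  Additive.ofMul ⟨QuotientGroup.mk' _ x, Subgroup.mem_map_of_mem _ hx⟩

/-- The class of an element in the graded group. -/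
def ι (n : ℕ) (x : G) (hx : x ∈ lc G n) : Gr G :=
  DirectSum.of (fun n => Additive (Sec G n)) n (cls n x hx)

theorem exists_cls {n : ℕ} (a : Additive (Sec G n)) : ∃ x hx, a = cls n x hx := by
  obtain ⟨x, hx, e⟩ := (Additive.toMul a).2
  exact ⟨x, hx, Additive.toMul.injective (Subtype.ext e.symm)⟩

theorem ι_congr {n m : ℕ} (h : n = m) {x y : G} (hxy : x = y) (hx : x ∈ lc G n) (hy : y ∈ lc G m) :
    ι n x hx = ι m y hy := by
  subst h; subst hxy; rfl

theorem ι_eq_of_mk {n : ℕ} {x y : G} (hx : x ∈ lc G n) (hy : y ∈ lc G n)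
    (h : QuotientGroup.mk' (lc G (n + 1)) x = QuotientGroup.mk' (lc G (n + 1)) y) :
    ι n x hx = ι n y hy := by
  unfold ι cls
  congr 1
  exact congrArg Additive.ofMul (Subtype.ext h)

theorem ι_mul {n : ℕ} {x y : G} (hx : x ∈ lc G n) (hy : y ∈ lc G n) :
    ι n (x * y) (mul_mem hx hy) = ι n x hx + ι n y hy := by
  unfold ι
  rw [← map_add]
  congr 1

theorem ι_one {n : ℕ} (h : (1 : G) ∈ lc G n) : ι n (1 : G) h = 0 := by
  unfold ι
  rw [show cls n (1 : G) h = 0 from Additive.toMul.injective (Subtype.ext (map_one _)), map_zero]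

theorem ι_eq_zero {n : ℕ} {x : G} (hx : x ∈ lc G n) (h : x ∈ lc G (n + 1)) : ι n x hx = 0 := by
  rw [ι_eq_of_mk hx (one_mem _) (by rw [map_one]; exact (QuotientGroup.eq_one_iff x).2 h), ι_one]

theorem mem_of_ι_eq_zero {n : ℕ} {x : G} (hx : x ∈ lc G n) (h : ι n x hx = 0) :
    x ∈ lc G (n + 1) := by
  unfold ι at h
  rw [← map_zero (DirectSum.of (fun n => Additive (Sec G n)) n)] at h
  have := congrArg (fun a : Additive (Sec G n) => ((Additive.toMul a : Sec G n) : G ⧸ lc G (n + 1)))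
    (DirectSum.of_injective n h)
  exact (QuotientGroup.eq_one_iff x).1 this

/-- A representative of a class. -/
def rep {n : ℕ} (a : Additive (Sec G n)) : G := (exists_cls a).choose

theorem rep_mem {n : ℕ} (a : Additive (Sec G n)) : rep a ∈ lc G n := (exists_cls a).choose_spec.1

theorem cls_rep {n : ℕ} (a : Additive (Sec G n)) : a = cls n (rep a) (rep_mem a) :=
  (exists_cls a).choose_spec.2

/-- Bracket of two classes. -/
def br₀ {i j : ℕ} (a : Additive (Sec G i)) (b : Additive (Sec G j)) : Gr G :=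
  ι (i + j + 1) ⁅rep a, rep b⁆ (comm_mem (rep_mem a) (rep_mem b))

theorem ι_conj {n : ℕ} {c : G} (hc : c ∈ lc G n) (g : G) (h : g * c * g⁻¹ ∈ lc G n) :
    ι n (g * c * g⁻¹) h = ι n c hc := by
  refine ι_eq_of_mk h hc ?_
  rw [map_mul, map_mul, ← (mk_central hc _).eq, map_inv, mul_inv_cancel_right]

theorem ι_comm_mul_left {i j : ℕ} {x y z : G} (hx : x ∈ lc G i) (hy : y ∈ lc G i) (hz : z ∈ lc G j) :
    ι (i + j + 1) ⁅x * y, z⁆ (comm_mem (mul_mem hx hy) hz) =
      ι (i + j + 1) ⁅x, z⁆ (comm_mem hx hz) + ι (i + j + 1) ⁅y, z⁆ (comm_mem hy hz) := by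
  have h1 : x * ⁅y, z⁆ * x⁻¹ ∈ lc G (i + j + 1) :=
    (inferInstance : (lc G (i + j + 1)).Normal).conj_mem _ (comm_mem hy hz) x
  rw [ι_congr rfl (show ⁅x * y, z⁆ = x * ⁅y, z⁆ * x⁻¹ * ⁅x, z⁆ by
      simp only [commutatorElement_def]; group) _ (mul_mem h1 (comm_mem hx hz)),
    ι_mul h1 (comm_mem hx hz), ι_conj (comm_mem hy hz) x h1, add_comm]

theorem ι_comm_mul_right {i j : ℕ} {x y z : G} (hx : x ∈ lc G i) (hy : y ∈ lc G j) (hz : z ∈ lc G j) :
    ι (i + j + 1) ⁅x, y * z⁆ (comm_mem hx (mul_mem hy hz)) =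
      ι (i + j + 1) ⁅x, y⁆ (comm_mem hx hy) + ι (i + j + 1) ⁅x, z⁆ (comm_mem hx hz) := by
  have h1 : y * ⁅x, z⁆ * y⁻¹ ∈ lc G (i + j + 1) :=
    (inferInstance : (lc G (i + j + 1)).Normal).conj_mem _ (comm_mem hx hz) y
  rw [ι_congr rfl (show ⁅x, y * z⁆ = ⁅x, y⁆ * (y * ⁅x, z⁆ * y⁻¹) by
      simp only [commutatorElement_def]; group) _ (mul_mem (comm_mem hx hy) h1),
    ι_mul (comm_mem hx hy) h1, ι_conj (comm_mem hx hz) y h1]

theorem br₀_cls {i j : ℕ} {x y : G} (hx : x ∈ lc G i) (hy : y ∈ lc G j) :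
    br₀ (cls i x hx) (cls j y hy) = ι (i + j + 1) ⁅x, y⁆ (comm_mem hx hy) := by
  set a := cls i x hx
  set b := cls j y hy
  have hq : ∀ {n : ℕ} {u : G} (hu : u ∈ lc G n), (rep (cls n u hu))⁻¹ * u ∈ lc G (n + 1) := by
    intro n u hu
    have := congrArg (fun a : Additive (Sec G n) => ((Additive.toMul a : Sec G n) : G ⧸ lc G (n + 1)))
      (cls_rep (cls n u hu))
    simp only [cls, toMul_ofMul, QuotientGroup.mk'_apply] at this
    exact QuotientGroup.eq.1 this.symm
  obtain ⟨s, hs, hxs⟩ : ∃ s, s ∈ lc G (i + 1) ∧ x = rep a * s := ⟨_, hq hx, by simp [a]⟩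
  obtain ⟨t, ht, hyt⟩ : ∃ t, t ∈ lc G (j + 1) ∧ y = rep b * t := ⟨_, hq hy, by simp [b]⟩
  have hs' : s ∈ lc G i := lc_anti (Nat.le_succ i) hs
  have ht' : t ∈ lc G j := lc_anti (Nat.le_succ j) ht
  rw [ι_congr rfl (show ⁅x, y⁆ = ⁅rep a * s, rep b * t⁆ by rw [← hxs, ← hyt]) _
      (comm_mem (mul_mem (rep_mem a) hs') (mul_mem (rep_mem b) ht')),
    ι_comm_mul_left (rep_mem a) hs' (mul_mem (rep_mem b) ht'),
    ι_comm_mul_right (rep_mem a) (rep_mem b) ht', ι_comm_mul_right hs' (rep_mem b) ht',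
    ι_eq_zero (comm_mem (rep_mem a) ht') (lc_anti (by omega) (comm_mem (rep_mem a) ht)),
    ι_eq_zero (comm_mem hs' (rep_mem b)) (lc_anti (by omega) (comm_mem hs (rep_mem b))),
    ι_eq_zero (comm_mem hs' ht') (lc_anti (by omega) (comm_mem hs ht)), add_zero, add_zero, add_zero]
  rfl

theorem cls_add {n : ℕ} {x y : G} (hx : x ∈ lc G n) (hy : y ∈ lc G n) :
    cls n x hx + cls n y hy = cls n (x * y) (mul_mem hx hy) :=
  (Additive.toMul.injective (Subtype.ext (map_mul _ x y))).symm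

theorem br₀_add_left {i j : ℕ} (a a' : Additive (Sec G i)) (b : Additive (Sec G j)) :
    br₀ (a + a') b = br₀ a b + br₀ a' b := by
  obtain ⟨x, hx, rfl⟩ := exists_cls a
  obtain ⟨y, hy, rfl⟩ := exists_cls a'
  obtain ⟨z, hz, rfl⟩ := exists_cls b
  rw [cls_add, br₀_cls, br₀_cls, br₀_cls]
  exact ι_comm_mul_left hx hy hz

theorem br₀_add_right {i j : ℕ} (a : Additive (Sec G i)) (b b' : Additive (Sec G j)) :
    br₀ a (b + b') = br₀ a b + br₀ a b' := by
  obtain ⟨x, hx, rfl⟩ := exists_cls a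
  obtain ⟨y, hy, rfl⟩ := exists_cls b
  obtain ⟨z, hz, rfl⟩ := exists_cls b'
  rw [cls_add, br₀_cls, br₀_cls, br₀_cls]
  exact ι_comm_mul_right hx hy hz

/-- Bracket with a fixed homogeneous element on the left. -/
def brOf (i : ℕ) : Additive (Sec G i) →+ (Gr G →+ Gr G) :=
  AddMonoidHom.mk' (fun a => DirectSum.toAddMonoid fun _ =>
      AddMonoidHom.mk' (fun b => br₀ a b) (br₀_add_right a))
    (fun a a' => by
      refine DirectSum.addHom_ext fun j b => ?_
      rw [AddMonoidHom.add_apply, DirectSum.toAddMonoid_of, DirectSum.toAddMonoid_of,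
        DirectSum.toAddMonoid_of]
      exact br₀_add_left a a' b)

/-- The bracket. -/
def br : Gr G →+ Gr G →+ Gr G := DirectSum.toAddMonoid brOf

theorem br_ι {i j : ℕ} {x y : G} (hx : x ∈ lc G i) (hy : y ∈ lc G j) :
    br (ι i x hx) (ι j y hy) = ι (i + j + 1) ⁅x, y⁆ (comm_mem hx hy) := by
  rw [ι, ι, br, DirectSum.toAddMonoid_of]
  show (DirectSum.toAddMonoid _) _ = _
  rw [DirectSum.toAddMonoid_of]
  exact br₀_cls hx hy

theorem gr_induction {motive : Gr G → Prop} (z : Gr G) (h0 : motive 0)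
    (h1 : ∀ (n : ℕ) (x : G) (hx : x ∈ lc G n), motive (ι n x hx))
    (h2 : ∀ a b, motive a → motive b → motive (a + b)) : motive z := by
  induction z using DirectSum.induction_on with
  | zero => exact h0
  | of n a => obtain ⟨x, hx, rfl⟩ := exists_cls a; exact h1 n x hx
  | add a b ha hb => exact h2 a b ha hb

theorem br_skew (a b : Gr G) : br a b + br b a = 0 := by
  induction a using gr_induction with
  | h0 => simp
  | h2 a a' ha ha' =>
    rw [map_add, AddMonoidHom.add_apply, map_add, add_add_add_comm, ha, ha', add_zero]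
  | h1 i x hx =>
    induction b using gr_induction with
    | h0 => simp
    | h2 b b' hb hb' =>
      rw [map_add, map_add, AddMonoidHom.add_apply, add_add_add_comm, hb, hb', add_zero]
    | h1 j y hy =>
      rw [br_ι, br_ι, ι_congr (show j + i + 1 = i + j + 1 by omega) (commutatorElement_inv x y).symm _
        (inv_mem (comm_mem hx hy)), ← ι_mul (comm_mem hx hy) (inv_mem (comm_mem hx hy)),
        ι_congr rfl (mul_inv_cancel _) _ (one_mem _), ι_one]

theorem br_self (a : Gr G) : br a a = 0 := by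
  induction a using gr_induction with
  | h0 => simp
  | h1 i x hx => rw [br_ι, ι_congr rfl (commutatorElement_self x) _ (one_mem _), ι_one]
  | h2 a b ha hb =>
    simp only [map_add, AddMonoidHom.add_apply, ha, hb, zero_add, add_zero]
    exact br_skew b a

theorem hallWitt {H : Type*} [Group H] (X Y Z : H) (c1 : Commute ⁅X, Z⁆ ⁅Y, Z⁆)
    (c2 : Commute ⁅X, Y⁆ ⁅Y, Z⁆) (c3 : ⁅⁅X, Y⁆, ⁅X, Z⁆⁆ = 1) (t1 : ∀ g, Commute ⁅⁅X, Y⁆, Z⁆ g)
    (t2 : ∀ g, Commute ⁅Y, ⁅X, Z⁆⁆ g) : ⁅X, ⁅Y, Z⁆⁆ = ⁅⁅X, Y⁆, Z⁆ * ⁅Y, ⁅X, Z⁆⁆ := by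
  set A := ⁅X, Y⁆ with hA
  set B := ⁅X, Z⁆ with hB
  have e1 : ⁅X, ⁅Y, Z⁆⁆ = ⁅A * Y, B * Z⁆ * ⁅Y, Z⁆⁻¹ := by
    rw [hA, hB]; simp only [commutatorElement_def]; group
  have e2 : ⁅A * Y, B * Z⁆ = A * ⁅Y, B⁆ * A⁻¹ * (A * (B * ⁅Y, Z⁆ * B⁻¹) * A⁻¹) *
      (⁅A, B⁆ * (B * ⁅A, Z⁆ * B⁻¹)) := by
    simp only [commutatorElement_def]; group
  rw [e1, e2, c3, c1.eq, mul_inv_cancel_right, c2.eq, mul_inv_cancel_right, ← (t1 B).eq,
    mul_inv_cancel_right, ← (t2 A).eq, mul_inv_cancel_right, one_mul, mul_assoc,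
    (t1 ⁅Y, Z⁆⁻¹).eq, mul_assoc, mul_inv_cancel_left, (t1 ⁅Y, B⁆).eq]

theorem br_jacobi_ι {i j k : ℕ} {x y z : G} (hx : x ∈ lc G i) (hy : y ∈ lc G j) (hz : z ∈ lc G k) :
    br (ι i x hx) (br (ι j y hy) (ι k z hz)) =
      br (br (ι i x hx) (ι j y hy)) (ι k z hz) + br (ι j y hy) (br (ι i x hx) (ι k z hz)) := by
  simp only [br_ι]
  set N := i + j + k + 2
  have m0 : ⁅x, ⁅y, z⁆⁆ ∈ lc G N := lc_anti (by omega) (comm_mem hx (comm_mem hy hz))
  have m1 : ⁅⁅x, y⁆, z⁆ ∈ lc G N := lc_anti (by omega) (comm_mem (comm_mem hx hy) hz)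
  have m2 : ⁅y, ⁅x, z⁆⁆ ∈ lc G N := lc_anti (by omega) (comm_mem hy (comm_mem hx hz))
  rw [ι_congr (show i + (j + k + 1) + 1 = N by omega) rfl _ m0,
    ι_congr (show i + j + 1 + k + 1 = N by omega) rfl _ m1,
    ι_congr (show j + (i + k + 1) + 1 = N by omega) rfl _ m2, ← ι_mul m1 m2]
  refine ι_eq_of_mk m0 (mul_mem m1 m2) ?_
  have kill : ∀ g : G, g ∈ lc G (N + 1) → QuotientGroup.mk' (lc G (N + 1)) g = 1 := fun g hg => by
    rw [QuotientGroup.mk'_apply, QuotientGroup.eq_one_iff]; exact hg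
  have hc1 := mk_central m1
  have hc2 := mk_central m2
  simp only [map_mul, map_commutatorElement] at hc1 hc2 ⊢
  refine hallWitt _ _ _ ?_ ?_ ?_ hc1 hc2
  · rw [← commutatorElement_eq_one_iff_commute]
    simp only [← map_commutatorElement]
    exact kill _ (lc_anti (by omega) (comm_mem (comm_mem hx hz) (comm_mem hy hz)))
  · rw [← commutatorElement_eq_one_iff_commute]
    simp only [← map_commutatorElement]
    exact kill _ (lc_anti (by omega) (comm_mem (comm_mem hx hy) (comm_mem hy hz)))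
  · simp only [← map_commutatorElement]
    exact kill _ (lc_anti (by omega) (comm_mem (comm_mem hx hy) (comm_mem hx hz)))

theorem br_jacobi (a b c : Gr G) : br a (br b c) = br (br a b) c + br b (br a c) := by
  induction a using gr_induction with
  | h0 => simp
  | h2 a a' ha ha' =>
    simp only [map_add, AddMonoidHom.add_apply, ha, ha']; abel
  | h1 i x hx =>
    induction b using gr_induction with
    | h0 => simp
    | h2 b b' hb hb' =>
      simp only [map_add, AddMonoidHom.add_apply, hb, hb']; abel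
    | h1 j y hy =>
      induction c using gr_induction with
      | h0 => simp
      | h2 c c' hc hc' => simp only [map_add, hc, hc']; abel
      | h1 k z hz => exact br_jacobi_ι hx hy hz

/-- The associated Lie ring. -/
instance grLieRing : LieRing (Gr G) where
  bracket a b := br a b
  add_lie a b c := by simp [map_add]
  lie_add a b c := by simp [map_add]
  lie_self := br_self
  leibniz_lie := br_jacobi

theorem lie_ι {i j : ℕ} {x y : G} (hx : x ∈ lc G i) (hy : y ∈ lc G j) :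
    ⁅ι i x hx, ι j y hy⁆ = ι (i + j + 1) ⁅x, y⁆ (comm_mem hx hy) := br_ι hx hy

theorem map_mem_lc (φ : G ≃* G) {n : ℕ} {x : G} (hx : x ∈ lc G n) : φ x ∈ lc G n := by
  have h := Subgroup.map_lowerCentralSeries (⊤ : Subgroup G) φ.toMonoidHom n
  rw [Subgroup.map_top_of_surjective φ.toMonoidHom φ.surjective] at h
  rw [lc, ← h]
  exact Subgroup.mem_map_of_mem _ hx

/-- The map induced on the associated Lie ring by an automorphism. -/
def grMap (φ : G ≃* G) : Gr G →+ Gr G :=
  DirectSum.toAddMonoid fun n => AddMonoidHom.mk' (fun a => ι n (φ (rep a)) (map_mem_lc φ (rep_mem a)))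
    (fun a b => by
      rw [← ι_mul (map_mem_lc φ (rep_mem a)) (map_mem_lc φ (rep_mem b))]
      refine ι_eq_of_mk _ _ ?_
      rw [← map_mul φ]
      have e : (rep (a + b))⁻¹ * (rep a * rep b) ∈ lc G (n + 1) := by
        have h1 := cls_rep (a + b)
        conv_lhs at h1 => rw [cls_rep a, cls_rep b, cls_add]
        exact QuotientGroup.eq.1 (congrArg
          (fun a : Additive (Sec G n) => ((Additive.toMul a : Sec G n) : G ⧸ lc G (n + 1))) h1).symm
      refine QuotientGroup.eq.2 ?_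
      rw [← map_inv φ, ← map_mul φ]
      exact map_mem_lc φ e)

theorem grMap_ι (φ : G ≃* G) {n : ℕ} {x : G} (hx : x ∈ lc G n) :
    grMap φ (ι n x hx) = ι n (φ x) (map_mem_lc φ hx) := by
  unfold grMap
  rw [ι, DirectSum.toAddMonoid_of, AddMonoidHom.mk'_apply]
  refine ι_eq_of_mk _ _ (QuotientGroup.eq.2 ?_)
  rw [← map_inv φ, ← map_mul φ]
  exact map_mem_lc φ (QuotientGroup.eq.1 (congrArg
    (fun a : Additive (Sec G n) => ((Additive.toMul a : Sec G n) : G ⧸ lc G (n + 1)))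
    (cls_rep (cls n x hx))).symm)

theorem grMap_lie (φ : G ≃* G) (a b : Gr G) : grMap φ ⁅a, b⁆ = ⁅grMap φ a, grMap φ b⁆ := by
  induction a using gr_induction with
  | h0 => simp
  | h2 a a' ha ha' => simp only [add_lie, map_add, ha, ha']
  | h1 i x hx =>
    induction b using gr_induction with
    | h0 => simp
    | h2 b b' hb hb' => simp only [lie_add, map_add, hb, hb']
    | h1 j y hy =>
      rw [lie_ι, grMap_ι, grMap_ι, grMap_ι, lie_ι]
      exact ι_congr rfl (map_commutatorElement φ x y) _ _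

end Cfsg.Agent.GrLie99Assoc
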