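import Mathlib
import Cfsg.Agent.Lib.CoprimePieces99Base
import Cfsg.Agent.Lib.CoprimePieces99Tensor
import Cfsg.Agent.Lib.GrLie99Assoc

/-!
The class of a nilpotent group with a coprime elementary abelian group of automorphisms and a
system of pieces.
-/

set_option autoImplicit false
set_option linter.unusedSectionVars false

noncomputable section

namespace Cfsg.Agent.CoprimePieces99

open Cfsg.Agent.GrLie99Assoc
open scoped commutatorElement

/-- A system of pieces: invariant subgroups, fixed by large subgroups, closed under commutators. -/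
structure Sys {A : Type*} [Group A] {R : Type*} [Group R] (p c : ℕ) (φ : A →* MulAut R)
    (Ps : Finset (Subgroup R)) : Prop where
  inv : ∀ P ∈ Ps, Inv φ P
  fixed : ∀ P ∈ Ps, ∃ B, Big p B ∧ P ≤ Fix φ B
  closed : ∀ P ∈ Ps, ∀ Q ∈ Ps, ∀ B, Big p B → ∃ T ∈ Ps, ⁅P, Q⁆ ⊓ Fix φ B ≤ T
  loc : ∀ P ∈ Ps, ∀ B, Big p B → ∃ D : Subgroup R, P ≤ D ∧ D.lowerCentralSeries c = ⊥ ∧
    Fix φ B ≤ Subgroup.normalizer (D : Set R)

/-- The derived series of a subgroup. -/
def gder {R : Type*} [Group R] (F : Subgroup R) : ℕ → Subgroup R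
  | 0 => F
  | n + 1 => ⁅gder F n, gder F n⁆

/-- Iterated commutators with a fixed subgroup. -/
def cPow {R : Type*} [Group R] (P M : Subgroup R) : ℕ → Subgroup R
  | 0 => M
  | n + 1 => ⁅cPow P M n, P⁆

variable {A : Type*} [Group A] {R : Type*} [Group R] {p : ℕ}

/-- The action on the Lie ring. -/
def grAct (φ : A →* MulAut R) (a : A) : Gr R →+ Gr R := grMap (φ a)

theorem grAct_one (φ : A →* MulAut R) (z : Gr R) : grAct φ 1 z = z := by
  induction z using gr_induction with
  | h0 => exact map_zero _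
  | h1 n x hx =>
    rw [grAct, grMap_ι]
    exact ι_congr rfl (by rw [map_one]; rfl) _ _
  | h2 a b ha hb => rw [map_add, ha, hb]

theorem grAct_mul (φ : A →* MulAut R) (a b : A) (z : Gr R) :
    grAct φ (a * b) z = grAct φ a (grAct φ b z) := by
  induction z using gr_induction with
  | h0 => rw [map_zero, map_zero, map_zero]
  | h1 n x hx =>
    rw [grAct, grAct, grAct, grMap_ι, grMap_ι, grMap_ι]
    exact ι_congr rfl (by rw [map_mul]; rfl) _ _
  | h2 u v hu hv => simp only [map_add, hu, hv]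

theorem grAct_lie (φ : A →* MulAut R) (a : A) (z w : Gr R) :
    grAct φ a ⁅z, w⁆ = ⁅grAct φ a z, grAct φ a w⁆ := grMap_lie _ z w

/-- The part of the Lie ring coming from a subgroup. -/
def PL (P : Subgroup R) : AddSubgroup (Gr R) :=
  AddSubgroup.closure {z | ∃ (n : ℕ) (x : R) (hx : x ∈ lc R n), x ∈ P ∧ ι n x hx = z}

theorem ι_mem_PL {P : Subgroup R} {n : ℕ} {x : R} (hx : x ∈ lc R n) (hxP : x ∈ P) :
    ι n x hx ∈ PL P :=
  AddSubgroup.subset_closure ⟨n, x, hx, hxP, rfl⟩

theorem PL_mono {P Q : Subgroup R} (h : P ≤ Q) : PL P ≤ PL Q := by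
  refine (AddSubgroup.closure_le _).2 ?_
  rintro _ ⟨n, x, hx, hxP, rfl⟩
  exact ι_mem_PL hx (h hxP)

theorem PL_bot : PL (⊥ : Subgroup R) = ⊥ := by
  refine le_bot_iff.1 ((AddSubgroup.closure_le _).2 ?_)
  rintro _ ⟨n, x, hx, hxP, rfl⟩
  obtain rfl := Subgroup.mem_bot.1 hxP
  rw [ι_one]
  exact AddSubgroup.zero_mem _

theorem PL_top : PL (⊤ : Subgroup R) = ⊤ := by
  refine eq_top_iff.2 fun z _ => ?_
  induction z using gr_induction with
  | h0 => exact zero_mem _
  | h1 n x hx => exact ι_mem_PL hx (Subgroup.mem_top x)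
  | h2 a b ha hb => exact add_mem (ha (AddSubgroup.mem_top a)) (hb (AddSubgroup.mem_top b))

theorem act_PL_le (P Q : Subgroup R) : act (PL P) (PL Q) ≤ PL ⁅P, Q⁆ := by
  refine act_le_iff.2 fun v hv x hx => ?_
  refine GrLie99Kreknin.lie_mem_closure ?_ hv hx
  rintro _ ⟨i, a, ha, haP, rfl⟩ _ ⟨j, b, hb, hbQ, rfl⟩
  rw [lie_ι]
  exact ι_mem_PL _ (Subgroup.commutator_mem_commutator haP hbQ)

theorem grAct_mem_PL {φ : A →* MulAut R} {P : Subgroup R} (hP : Inv φ P) (a : A) {z : Gr R}
    (hz : z ∈ PL P) : grAct φ a z ∈ PL P := by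
  have h : PL P ≤ (PL P).comap (grAct φ a) := by
    refine (AddSubgroup.closure_le _).2 ?_
    rintro _ ⟨n, x, hx, hxP, rfl⟩
    show grMap (φ a) (ι n x hx) ∈ PL P
    rw [grMap_ι]
    exact ι_mem_PL _ (hP a x hxP)
  exact h hz

theorem exists_component {P : Subgroup R} {z : Gr R} (hz : z ∈ PL P) (n : ℕ) :
    ∃ (x : R) (hx : x ∈ lc R n), x ∈ P ∧ z n = cls n x hx := by
  classical
  refine AddSubgroup.closure_induction (p := fun z _ => ∃ (x : R) (hx : x ∈ lc R n),
    x ∈ P ∧ z n = cls n x hx) ?_ ?_ ?_ ?_ hz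
  · rintro _ ⟨m, x, hx, hxP, rfl⟩
    rcases eq_or_ne m n with rfl | h
    · exact ⟨x, hx, hxP, DirectSum.of_eq_same _ _⟩
    · refine ⟨1, one_mem _, one_mem _, ?_⟩
      rw [ι, DirectSum.of_eq_of_ne _ _ _ h.symm]
      exact (Additive.toMul.injective (Subtype.ext (map_one _).symm))
  · exact ⟨1, one_mem _, one_mem _, Additive.toMul.injective (Subtype.ext (map_one _).symm)⟩
  · rintro a b _ _ ⟨x, hx, hxP, ea⟩ ⟨y, hy, hyP, eb⟩
    exact ⟨x * y, mul_mem hx hy, mul_mem hxP hyP, by rw [DirectSum.add_apply, ea, eb, cls_add]⟩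
  · rintro a _ ⟨x, hx, hxP, ea⟩
    refine ⟨x⁻¹, inv_mem hx, inv_mem hxP, ?_⟩
    have h1 : cls n 1 (one_mem _) = (0 : Additive (Sec R n)) :=
      Additive.toMul.injective (Subtype.ext (map_one _))
    have e : cls n x hx + cls n x⁻¹ (inv_mem hx) = 0 := by
      rw [cls_add, ← h1]
      congr 1
      exact mul_inv_cancel x
    show (-a) n = _
    rw [show (-a) n = -(a n) from rfl, ea]
    exact neg_eq_of_add_eq_zero_right e

theorem mem_PL_of_component {P : Subgroup R} {z : Gr R}
    (h : ∀ n, ∃ (x : R) (hx : x ∈ lc R n), x ∈ P ∧ z n = cls n x hx) : z ∈ PL P := by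
  classical
  rw [← DirectSum.sum_support_of z]
  refine AddSubgroup.sum_mem _ fun n _ => ?_
  obtain ⟨x, hx, hxP, e⟩ := h n
  rw [e]
  exact ι_mem_PL hx hxP

theorem ι_comm_mem {S : AddSubgroup (Gr R)} {i j m : ℕ} (hm : m = i + j + 1) {a b : R}
    (ha : a ∈ lc R i) (hb : b ∈ lc R j) (hx : ⁅a, b⁆ ∈ lc R m)
    (h : ⁅ι i a ha, ι j b hb⁆ ∈ S) : ι m ⁅a, b⁆ hx ∈ S := by
  rw [ι_congr hm rfl hx (comm_mem ha hb), ← lie_ι ha hb]
  exact h

theorem exp_kill [Finite R] (m : Gr R) : (Nat.card R) • m = 0 := by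
  induction m using gr_induction with
  | h0 => exact smul_zero _
  | h2 a b ha hb => rw [smul_add, ha, hb, add_zero]
  | h1 n x hx =>
    have : ∀ k : ℕ, k • ι n x hx = ι n (x ^ k) (pow_mem hx k) := by
      intro k
      induction k with
      | zero =>
        rw [zero_smul]; exact ((ι_congr rfl (pow_zero x) _ (one_mem _)).trans (ι_one _)).symm
      | succ k ih =>
        rw [succ_nsmul, ih, ← ι_mul (pow_mem hx k) hx]
        exact ι_congr rfl (pow_succ x k).symm _ _
    rw [this, ι_congr rfl pow_card_eq_one' _ (one_mem _), ι_one]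

theorem exists_div [Finite R] (hR : (Nat.card R).Coprime p) :
    ∃ q : ℤ, ∀ m : Gr R, (q * (p : ℤ)) • m = m := by
  refine ⟨Nat.gcdB (Nat.card R) p, fun m => ?_⟩
  have h := Nat.gcd_eq_gcd_ab (Nat.card R) p
  rw [hR, Nat.cast_one] at h
  have e : Nat.gcdB (Nat.card R) p * (p : ℤ) =
      1 - Nat.gcdA (Nat.card R) p * (Nat.card R : ℤ) := by linarith
  rw [e, sub_smul, one_smul, mul_smul, natCast_zsmul, exp_kill, smul_zero, sub_zero]

theorem mem_of_nsmul_mem [Finite R] (hR : (Nat.card R).Coprime p) (S : AddSubgroup (Gr R))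
    (z : Gr R) (h : p • z ∈ S) : z ∈ S := by
  obtain ⟨q, hq⟩ := exists_div (R := R) hR
  rw [← hq z, mul_smul, natCast_zsmul]
  exact S.zsmul_mem h q

variable [hp : Fact p.Prime] [Finite R] {φ : A →* MulAut R}

/-- Fixed points in the Lie ring lift. -/
theorem mem_PL_fix (hA : Elem p A) (hR : (Nat.card R).Coprime p) {P : Subgroup R} (hP : Inv φ P)
    {B : Subgroup A} {z : Gr R} (hz : z ∈ PL P) (hfix : ∀ b ∈ B, grAct φ b z = z) :
    z ∈ PL (P ⊓ Fix φ B) := by
  classical
  refine mem_PL_of_component fun n => ?_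
  obtain ⟨x, hx, hxP, e⟩ := exists_component hz n
  have key : ∀ b : A, ∀ w : Gr R, grAct φ b (DirectSum.of (fun n => Additive (Sec R n)) n (w n)) =
      DirectSum.of (fun n => Additive (Sec R n)) n ((grAct φ b w) n) := by
    intro b w
    induction w using gr_induction with
    | h0 => simp only [map_zero, DirectSum.zero_apply]
    | h2 u v hu hv => simp only [map_add, DirectSum.add_apply, hu, hv]
    | h1 k y hy =>
      rw [grAct, grMap_ι]
      rcases eq_or_ne k n with rfl | h
      · rw [ι, ι, DirectSum.of_eq_same, DirectSum.of_eq_same]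
        exact grMap_ι (φ b) hy
      · simp only [ι, DirectSum.of_eq_of_ne _ _ _ h.symm, map_zero]
  have hdiff : ∀ b ∈ B, φ b x * x⁻¹ ∈ lc R (n + 1) := by
    intro b hb
    have h1 := key b z
    rw [hfix b hb, e] at h1
    change grMap (φ b) (ι n x hx) = ι n x hx at h1
    rw [grMap_ι] at h1
    refine mem_of_ι_eq_zero (mul_mem (map_mem_lc (φ b) hx) (inv_mem hx)) ?_
    rw [ι_mul (map_mem_lc (φ b) hx) (inv_mem hx), h1, ← ι_mul hx (inv_mem hx),
      ι_congr rfl (mul_inv_cancel x) _ (one_mem _), ι_one]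
  have hlc : ∀ k, Inv φ (lc R k) := fun k a y hy => map_mem_lc (φ a) hy
  obtain ⟨y, hy, hyx⟩ := exists_lift_fixed hA hR (hP.inf (hlc n)) (hlc (n + 1))
    (x := x) ⟨hxP, hx⟩ hdiff
  refine ⟨y, hy.1.2, ⟨hy.1.1, hy.2⟩, ?_⟩
  rw [e]
  refine (Additive.toMul.injective (Subtype.ext ?_)).symm
  show QuotientGroup.mk' (lc R (n + 1)) y = QuotientGroup.mk' (lc R (n + 1)) x
  rw [← mul_inv_eq_one, ← map_inv, ← map_mul]
  exact (QuotientGroup.eq_one_iff _).2 hyx

variable [Finite A]

/-- An invariant part of `PL M` is controlled by fixed points of large subgroups. -/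
theorem le_of_PL_big (hA : Elem p A) (hA2 : p ^ 2 ≤ Nat.card A) (hR : (Nat.card R).Coprime p)
    {M : Subgroup R} (hM : Inv φ M) {T S : AddSubgroup (Gr R)} (hTM : T ≤ PL M)
    (hT : ∀ a, ∀ z ∈ T, grAct φ a z ∈ T)
    (h : ∀ B : Subgroup A, Big p B → T ⊓ PL (M ⊓ Fix φ B) ≤ S) : T ≤ S :=
  le_of_fixed_le hA hA2 (grAct_one φ) (grAct_mul φ) (fun z hz => mem_of_nsmul_mem hR S z hz) hT
    fun B hB _ hz hfix => h B hB ⟨hz, mem_PL_fix hA hR hM (hTM hz) hfix⟩

theorem act_invariant {U V : AddSubgroup (Gr R)} (hU : ∀ a, ∀ z ∈ U, grAct φ a z ∈ U)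
    (hV : ∀ a, ∀ z ∈ V, grAct φ a z ∈ V) (a : A) : ∀ z ∈ act U V, grAct φ a z ∈ act U V := by
  intro z hz
  have h : act U V ≤ (act U V).comap (grAct φ a) := act_le_iff.2 fun u hu v hv => by
    rw [AddSubgroup.mem_comap, grAct_lie]
    exact lie_mem_act (hU a u hu) (hV a v hv)
  exact h hz

theorem act_finset_sup_le {ι' κ' : Type*} (s : Finset ι') (t : Finset κ')
    (U : ι' → AddSubgroup (Gr R)) (V : κ' → AddSubgroup (Gr R)) {W : AddSubgroup (Gr R)}
    (h : ∀ i ∈ s, ∀ j ∈ t, act (U i) (V j) ≤ W) : act (s.sup U) (t.sup V) ≤ W := by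
  refine act_le_iff.2 fun u hu v hv => ?_
  have h1 : ∀ i ∈ s, ∀ x ∈ U i, ⁅x, v⁆ ∈ W := fun i hi x hx => by
    refine (show t.sup V ≤ AddSubgroup.comap
      (AddMonoidHom.mk' (fun w : Gr R => ⁅x, w⁆) fun a b => lie_add x a b) W from ?_) hv
    exact Finset.sup_le fun j hj y hy => h i hi j hj (lie_mem_act hx hy)
  refine (show s.sup U ≤ AddSubgroup.comap
    (AddMonoidHom.mk' (fun w : Gr R => ⁅w, v⁆) fun a b => add_lie a b v) W from ?_) hu
  exact Finset.sup_le h1

variable {c : ℕ} {Ps : Finset (Subgroup R)}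

/-- Brackets of invariant parts of pieces decompose into pieces. -/
theorem act_pieces_le (hS : Sys p c φ Ps) (hA : Elem p A) (hA2 : p ^ 2 ≤ Nat.card A)
    (hR : (Nat.card R).Coprime p) {P Q : Subgroup R} (hP : P ∈ Ps) (hQ : Q ∈ Ps)
    {U V D : AddSubgroup (Gr R)} (hU : U ≤ PL P) (hV : V ≤ PL Q)
    (hUi : ∀ a, ∀ z ∈ U, grAct φ a z ∈ U) (hVi : ∀ a, ∀ z ∈ V, grAct φ a z ∈ V)
    (hD : act U V ≤ D) : act U V ≤ Ps.sup fun T => D ⊓ PL T := by
  refine le_of_PL_big hA hA2 hR ((hS.inv P hP).commutator (hS.inv Q hQ))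
    ((act_mono hU hV).trans (act_PL_le P Q)) (act_invariant hUi hVi) fun B hB => ?_
  obtain ⟨T, hT, hle⟩ := hS.closed P hP Q hQ B hB
  exact le_trans (le_inf (inf_le_left.trans hD) (inf_le_right.trans (PL_mono hle)))
    (Finset.le_sup (f := fun T => D ⊓ PL T) hT)

/-- The pieces act nilpotently. -/
theorem actPow_piece (hS : Sys p c φ Ps) (hA : Elem p A) (hA2 : p ^ 2 ≤ Nat.card A)
    (hR : (Nat.card R).Coprime p) {P : Subgroup R} (hP : P ∈ Ps) :
    actPow (PL P) (⊤ : AddSubgroup (Gr R)) (c + 1) = ⊥ := by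
  classical
  haveI : Fintype (Subgroup A) := Fintype.ofFinite _
  set Bs : Finset (Subgroup A) := Finset.univ.filter (fun B => Big p B)
  have htop : (⊤ : AddSubgroup (Gr R)) ≤ Bs.sup fun B => PL (Fix φ B) := by
    refine le_of_PL_big (φ := φ) hA hA2 hR (M := ⊤) (fun _ x _ => Subgroup.mem_top _) (by rw [PL_top])
      (fun _ _ _ => AddSubgroup.mem_top _) fun B hB => ?_
    exact inf_le_right.trans ((PL_mono inf_le_right).trans
      (Finset.le_sup (f := fun B => PL (Fix φ B)) (by simp [Bs, hB])))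
  have hone : ∀ B ∈ Bs, actPow (PL P) (PL (Fix φ B)) (c + 1) = ⊥ := by
    intro B hB
    obtain ⟨D, hPD, hDc, hDn⟩ := hS.loc P hP B (Finset.mem_filter.1 hB).2
    have h1 : ∀ j, actPow (PL P) (PL (Fix φ B)) j ≤ PL (cPow P (Fix φ B) j) := by
      intro j
      induction j with
      | zero => exact le_rfl
      | succ j ih => exact (act_mono ih le_rfl).trans (act_PL_le _ _)
    have h2 : ∀ j, cPow P (Fix φ B) (j + 1) ≤ D.lowerCentralSeries j := by
      intro j
      induction j with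
      | zero =>
        rw [cPow, cPow, Subgroup.lowerCentralSeries_zero, Subgroup.commutator_le]
        intro y hy x hx
        rw [commutatorElement_def]
        exact D.mul_mem ((Subgroup.mem_normalizer_iff.1 (hDn hy) x).1 (hPD hx))
          (D.inv_mem (hPD hx))
      | succ j ih =>
        rw [cPow, Subgroup.lowerCentralSeries_succ]
        exact Subgroup.commutator_mono ih hPD
    refine le_bot_iff.1 ((h1 _).trans ((PL_mono ((h2 c).trans hDc.le)).trans ?_))
    rw [PL_bot]
  have hsup : ∀ s ⊆ Bs, actPow (PL P) (s.sup fun B => PL (Fix φ B)) (c + 1) = ⊥ := by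
    intro s
    induction s using Finset.induction with
    | empty =>
      intro _
      rw [Finset.sup_empty]
      refine le_bot_iff.1 (actPow_le_of_stable ?_ _)
      rw [act_bot_left]
    | @insert B s _ ih =>
      intro hs
      rw [Finset.sup_insert]
      refine le_bot_iff.1 ((actPow_sup_left _ _ _ _).trans (sup_le ?_ ?_))
      · rw [hone B (hs (Finset.mem_insert_self B s))]
      · rw [ih ((Finset.subset_insert B s).trans hs)]
  exact le_bot_iff.1 ((actPow_mono le_rfl htop _).trans (hsup Bs subset_rfl).le)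

/-- The pieces span the Lie ring. -/
theorem top_le_pieces (hS : Sys p c φ Ps) (hA : Elem p A) (hA2 : p ^ 2 ≤ Nat.card A)
    (hR : (Nat.card R).Coprime p) (hgen : Subgroup.closure (⋃ P ∈ Ps, (P : Set R)) = ⊤) :
    (⊤ : AddSubgroup (Gr R)) ≤ Ps.sup fun T => PL T := by
  set S := Ps.sup fun T : Subgroup R => PL T with hSdef
  have hclosed : act S S ≤ S := by
    refine act_finset_sup_le Ps Ps _ _ fun P hP Q hQ => ?_
    refine (act_pieces_le hS hA hA2 hR hP hQ le_rfl le_rfl (fun a z hz => grAct_mem_PL (hS.inv P hP) a hz)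
      (fun a z hz => grAct_mem_PL (hS.inv Q hQ) a hz) (le_top (a := act (PL P) (PL Q)))).trans ?_
    exact Finset.sup_mono_fun fun T _ => inf_le_right
  have h0 : ∀ (x : R) (hx : x ∈ lc R 0), ι 0 x hx ∈ S := by
    intro x hx
    have hx' : x ∈ Subgroup.closure (⋃ P ∈ Ps, (P : Set R)) := hgen ▸ Subgroup.mem_top x
    induction hx' using Subgroup.closure_induction with
    | mem y hy =>
      obtain ⟨P, hP, hyP⟩ := Set.mem_iUnion₂.1 hy
      exact (Finset.le_sup (f := fun T => PL T) hP) (ι_mem_PL hx hyP)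
    | one => rw [ι_one]; exact zero_mem _
    | mul u v _ _ iu iv =>
      rw [ι_mul (Subgroup.mem_top u) (Subgroup.mem_top v)]
      exact add_mem (iu _) (iv _)
    | inv u _ iu =>
      have := (ι_mul (n := 0) (Subgroup.mem_top u) (Subgroup.mem_top u⁻¹)).symm.trans
        ((ι_congr rfl (mul_inv_cancel u) _ (one_mem _)).trans (ι_one _))
      rw [eq_neg_of_add_eq_zero_right this]
      exact neg_mem (iu _)
  have hall : ∀ n, ∀ x ∈ lc R n, ∃ hx : x ∈ lc R n, ι n x hx ∈ S := by
    intro n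
    induction n with
    | zero => exact fun x hx => ⟨hx, h0 x hx⟩
    | succ n ih =>
      intro x hx
      have e : lc R (n + 1) = ⁅lc R n, (⊤ : Subgroup R)⁆ := Subgroup.lowerCentralSeries_succ _ n
      have hx' := hx
      rw [e, Subgroup.commutator_def] at hx'
      induction hx' using Subgroup.closure_induction with
      | mem z hz =>
        obtain ⟨a, ha, b, hb, rfl⟩ := hz
        refine ⟨hx, ?_⟩
        have hb0 : b ∈ lc R 0 := by simp
        obtain ⟨_, h1⟩ := ih a ha
        exact ι_comm_mem (i := n) (j := 0) (by omega) ha hb0 hx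
          (hclosed (lie_mem_act h1 (h0 b hb0)))
      | one => exact ⟨one_mem _, by rw [ι_one]; exact zero_mem _⟩
      | mul u v hu hv iu iv =>
        obtain ⟨u1, u2⟩ := iu (by rw [e, Subgroup.commutator_def]; exact hu)
        obtain ⟨v1, v2⟩ := iv (by rw [e, Subgroup.commutator_def]; exact hv)
        exact ⟨mul_mem u1 v1, by rw [ι_mul u1 v1]; exact add_mem u2 v2⟩
      | inv u hu iu =>
        obtain ⟨u1, u2⟩ := iu (by rw [e, Subgroup.commutator_def]; exact hu)
        refine ⟨inv_mem u1, ?_⟩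
        have := (ι_mul u1 (inv_mem u1)).symm.trans
          ((ι_congr rfl (mul_inv_cancel u) _ (one_mem _)).trans (ι_one _))
        rw [eq_neg_of_add_eq_zero_right this]
        exact neg_mem u2
  intro z _
  induction z using gr_induction with
  | h0 => exact zero_mem _
  | h1 n x hx =>
    obtain ⟨_, h⟩ := hall n x hx
    exact h
  | h2 a b ha hb => exact add_mem (ha (AddSubgroup.mem_top a)) (hb (AddSubgroup.mem_top b))

/-- The derived series of an invariant subring spanned by pieces is spanned by pieces. -/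
theorem dser_spanned (hS : Sys p c φ Ps) (hA : Elem p A) (hA2 : p ^ 2 ≤ Nat.card A)
    (hR : (Nat.card R).Coprime p) {F : AddSubgroup (Gr R)}
    (hF : ∀ a, ∀ z ∈ F, grAct φ a z ∈ F) (h0 : F ≤ Ps.sup fun T => F ⊓ PL T) :
    ∀ j, dser F j ≤ Ps.sup fun T => dser F j ⊓ PL T
  | 0 => h0
  | j + 1 => by
    have hinv : ∀ j a, ∀ z ∈ dser F j, grAct φ a z ∈ dser F j := by
      intro j
      induction j with
      | zero => exact hF
      | succ j ih => exact fun a => act_invariant ih ih a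
    refine (act_mono (dser_spanned hS hA hA2 hR hF h0 j) (dser_spanned hS hA hA2 hR hF h0 j)).trans ?_
    refine act_finset_sup_le Ps Ps _ _ fun P hP Q hQ => ?_
    exact act_pieces_le hS hA hA2 hR hP hQ inf_le_right inf_le_right
      (fun a z hz => ⟨hinv j a z hz.1, grAct_mem_PL (hS.inv P hP) a hz.2⟩)
      (fun a z hz => ⟨hinv j a z hz.1, grAct_mem_PL (hS.inv Q hQ) a hz.2⟩)
      (act_mono inf_le_left inf_le_left)

/-- The class bound. -/
def classBound (p c s N : ℕ) : ℕ :=
  ((c + 1) ^ N) ^ sKrek (((c + 1) ^ N) ^ s) (p - 1)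

/-- A nilpotent group with a system of pieces has bounded class. -/
theorem lc_eq_bot (hS : Sys p c φ Ps) (hA : Elem p A) (hA2 : p ^ 2 ≤ Nat.card A)
    (hR : (Nat.card R).Coprime p) (hgen : Subgroup.closure (⋃ P ∈ Ps, (P : Set R)) = ⊤)
    [Group.IsNilpotent R] {N s : ℕ} (hN : Ps.card ≤ N) {a : A}
    (hsol : gder (Fix φ (Subgroup.zpowers a)) s = ⊥) :
    (⊤ : Subgroup R).lowerCentralSeries (classBound p c s N) = ⊥ := by
  classical
  set F := PL (Fix φ (Subgroup.zpowers a)) with hFdef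
  have hFinv : ∀ b, ∀ z ∈ F, grAct φ b z ∈ F := fun b z hz => grAct_mem_PL (inv_Fix hA _) b hz
  have hit : ∀ (k : ℕ) (z : Gr R), (grAct φ a)^[k] z = grAct φ (a ^ k) z := by
    intro k
    induction k with
    | zero => intro z; rw [pow_zero, grAct_one]; rfl
    | succ k ih => intro z; rw [Function.iterate_succ_apply', ih, pow_succ', grAct_mul]
  have horb : ∀ z, (∑ n ∈ Finset.range p, (grAct φ a)^[n] z) =
      orbSum (p := p) (grAct φ) a z := fun z => by
    rw [orbSum, GrLie99Fpf.sum_val (fun n => grAct φ (a ^ n) z)]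
    simp only [hit]
  have horbF : ∀ T : Subgroup R, Inv φ T → ∀ z ∈ PL T,
      orbSum (p := p) (grAct φ) a z ∈ F ⊓ PL T := by
    intro T hT z hz
    have h1 : orbSum (p := p) (grAct φ) a z ∈ PL T :=
      AddSubgroup.sum_mem _ fun i _ => grAct_mem_PL hT _ hz
    refine ⟨PL_mono inf_le_right (mem_PL_fix (B := Subgroup.zpowers a) hA hR hT h1 fun b hb => ?_), h1⟩
    exact fixed_by_sup (D := ⊥) (grAct_one φ) (grAct_mul φ)
      (fun b hb => by rw [Subgroup.mem_bot.1 hb, grAct_one])
      (orbSum_fixed (grAct_mul φ) (hA.pow a) z) b (Subgroup.mem_sup_right hb)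
  have htop := top_le_pieces hS hA hA2 hR hgen
  have hF0 : F ≤ Ps.sup fun T => F ⊓ PL T := by
    intro z hz
    refine mem_of_nsmul_mem hR _ z ?_
    have hfix : ∀ b ∈ Subgroup.zpowers a, grAct φ b z = z := by
      intro b hb
      induction hz using AddSubgroup.closure_induction with
      | mem w hw =>
        obtain ⟨n, x, hx, hxF, rfl⟩ := hw
        rw [grAct, grMap_ι]
        exact ι_congr rfl (hxF b hb) _ _
      | zero => exact map_zero _
      | add u v _ _ hu hv => rw [map_add, hu, hv]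
      | neg u _ hu => rw [map_neg, hu]
    have h1 : orbSum (p := p) (grAct φ) a z = p • z := by
      rw [orbSum, Finset.sum_congr rfl (g := fun _ => z)
        fun i _ => hfix _ (Subgroup.pow_mem _ (Subgroup.mem_zpowers a) _),
        Finset.sum_const, Finset.card_univ, ZMod.card]
    rw [← h1]
    refine (show (Ps.sup fun T : Subgroup R => PL T) ≤ AddSubgroup.comap
      (AddMonoidHom.mk' (fun w => orbSum (p := p) (grAct φ) a w) fun u v => by
        simp only [orbSum, map_add, Finset.sum_add_distrib])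
      (Ps.sup fun T => F ⊓ PL T) from ?_) (htop (AddSubgroup.mem_top z))
    exact Finset.sup_le fun T hT w hw =>
      (Finset.le_sup (f := fun T => F ⊓ PL T) hT) (horbF T (hS.inv T hT) w hw)
  have hder : ∀ j, dser F j ≤ PL (gder (Fix φ (Subgroup.zpowers a)) j) := by
    intro j
    induction j with
    | zero => exact le_rfl
    | succ j ih => exact (act_mono ih ih).trans (act_PL_le _ _)
  have hm : ∀ T ∈ Ps, actPow (PL T) (⊤ : AddSubgroup (Gr R)) (c + 1) = ⊥ :=
    fun T hT => actPow_piece hS hA hA2 hR hT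
  have hFF : act F F ≤ F := by
    refine (act_PL_le _ _).trans (PL_mono ?_)
    rw [Subgroup.commutator_le]
    intro x hx y hy
    rw [commutatorElement_def]
    exact mul_mem (mul_mem (mul_mem hx hy) (inv_mem hx)) (inv_mem hy)
  have hF1 : actPow F (⊤ : AddSubgroup (Gr R)) (((c + 1) ^ N) ^ s) = ⊥ := by
    have h := actPow_eq_bot_of_spanned Ps (fun T => PL T) hm s F hFF
      (le_bot_iff.1 ((hder s).trans (by rw [hsol, PL_bot]))) (dser_spanned hS hA hA2 hR hFinv hF0)
    have hle : ((c + 1) ^ Ps.card) ^ s ≤ ((c + 1) ^ N) ^ s :=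
      Nat.pow_le_pow_left (Nat.pow_le_pow_right (Nat.succ_pos c) hN) s
    obtain ⟨d, hd⟩ := Nat.exists_eq_add_of_le hle
    rw [hd, actPow_add, h]
    exact le_bot_iff.1 (actPow_le_of_stable (by rw [act_bot_left]) d)
  obtain ⟨q, hq⟩ := exists_div (R := R) hR
  set K := sKrek (((c + 1) ^ N) ^ s) (p - 1) with hK
  have hder2 : dser (⊤ : AddSubgroup (Gr R)) K = ⊥ :=
    dser_top_eq_bot (grAct φ a) (grAct_lie φ a)
      (fun m => by rw [hit, hA.pow, grAct_one]) hq
      (fun m => by
        rw [horb]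
        exact (horbF ⊤ (fun _ x _ => Subgroup.mem_top _) m (by rw [PL_top]; exact AddSubgroup.mem_top m)).1)
      hF1
  have hfinal : actPow (⊤ : AddSubgroup (Gr R)) ⊤ (classBound p c s N) = ⊥ := by
    have h := actPow_eq_bot_of_spanned Ps (fun T => PL T) hm K ⊤ le_top hder2
      (dser_spanned hS hA hA2 hR (fun _ _ _ => AddSubgroup.mem_top _)
        (htop.trans (Finset.sup_mono_fun fun T _ => le_inf le_top le_rfl)))
    have hle : ((c + 1) ^ Ps.card) ^ K ≤ ((c + 1) ^ N) ^ K :=
      Nat.pow_le_pow_left (Nat.pow_le_pow_right (Nat.succ_pos c) hN) K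
    obtain ⟨d, hd⟩ := Nat.exists_eq_add_of_le hle
    rw [classBound, ← hK, hd, actPow_add, h]
    exact le_bot_iff.1 (actPow_le_of_stable (by rw [act_bot_left]) d)
  have hmem : ∀ n, ∀ x ∈ lc R n, ∃ hx : x ∈ lc R n,
      ι n x hx ∈ actPow (⊤ : AddSubgroup (Gr R)) ⊤ n := by
    intro n
    induction n with
    | zero => exact fun x hx => ⟨hx, AddSubgroup.mem_top _⟩
    | succ n ih =>
      intro x hx
      have e : lc R (n + 1) = ⁅lc R n, (⊤ : Subgroup R)⁆ := Subgroup.lowerCentralSeries_succ _ n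
      have hx' := hx
      rw [e, Subgroup.commutator_def] at hx'
      induction hx' using Subgroup.closure_induction with
      | mem z hz =>
        obtain ⟨u, hu, b, hb, rfl⟩ := hz
        refine ⟨hx, ?_⟩
        have hb0 : b ∈ lc R 0 := by simp
        obtain ⟨_, h1⟩ := ih u hu
        exact ι_comm_mem (i := n) (j := 0) (by omega) hu hb0 hx
          (lie_mem_act h1 (AddSubgroup.mem_top _))
      | one => exact ⟨one_mem _, by rw [ι_one]; exact zero_mem _⟩
      | mul u v hu hv iu iv =>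
        obtain ⟨u1, u2⟩ := iu (by rw [e, Subgroup.commutator_def]; exact hu)
        obtain ⟨v1, v2⟩ := iv (by rw [e, Subgroup.commutator_def]; exact hv)
        exact ⟨mul_mem u1 v1, by rw [ι_mul u1 v1]; exact add_mem u2 v2⟩
      | inv u hu iu =>
        obtain ⟨u1, u2⟩ := iu (by rw [e, Subgroup.commutator_def]; exact hu)
        refine ⟨inv_mem u1, ?_⟩
        have := (ι_mul u1 (inv_mem u1)).symm.trans
          ((ι_congr rfl (mul_inv_cancel u) _ (one_mem _)).trans (ι_one _))
        rw [eq_neg_of_add_eq_zero_right this]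
        exact neg_mem u2
  set B := classBound p c s N with hBdef
  have hstep : lc R B ≤ lc R (B + 1) := by
    intro x hx
    obtain ⟨_, h⟩ := hmem B x hx
    rw [hfinal, AddSubgroup.mem_bot] at h
    exact mem_of_ι_eq_zero hx h
  have hconst : ∀ j, lc R B ≤ lc R (B + j) := by
    intro j
    induction j with
    | zero => exact le_rfl
    | succ j ih =>
      refine hstep.trans ?_
      show (⊤ : Subgroup R).lowerCentralSeries (B + 1) ≤
        (⊤ : Subgroup R).lowerCentralSeries (B + j + 1)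
      rw [Subgroup.lowerCentralSeries_succ, Subgroup.lowerCentralSeries_succ]
      exact Subgroup.commutator_mono ih le_rfl
  obtain ⟨n, hn⟩ := Subgroup.nilpotent_iff_lowerCentralSeries.1 (inferInstance : Group.IsNilpotent R)
  exact le_bot_iff.1 ((hconst n).trans ((lc_anti (Nat.le_add_left n B)).trans hn.le))

end Cfsg.Agent.CoprimePieces99
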