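import Mathlib
import Cfsg.Agent.Lib.CoprimePieces99Class
import Cfsg.Agent.Lib.SignalizerTransitivity
import Cfsg.Agent.Lib.ComponentsFitting
import Cfsg.Agent.Lib.BGFittingUnique
import Cfsg.Agent.Lib.LocalBasics

/-!
A group generated by a system of pieces under a coprime elementary abelian group of automorphisms of
rank at least three with solvable fixed point subgroups is nilpotent.
-/

set_option autoImplicit false
set_option linter.unusedSectionVars false

namespace Cfsg.Agent.CoprimePieces99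

open scoped commutatorElement

universe u

variable {A : Type*} [Group A] {R : Type u} [Group R] {p : ℕ}

/-- Iterated commutator with one element. -/
def itc {H : Type*} [Group H] (y x : H) : ℕ → H
  | 0 => y
  | n + 1 => ⁅itc y x n, x⁆

theorem itc_map {H K : Type*} [Group H] [Group K] (f : H →* K) (y x : H) :
    ∀ n, f (itc y x n) = itc (f y) (f x) n
  | 0 => rfl
  | n + 1 => by rw [itc, map_commutatorElement, itc_map f y x n, itc]

theorem itc_succ' {H : Type*} [Group H] (y x : H) :
    ∀ n, itc ⁅y, x⁆ x n = itc y x (n + 1)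
  | 0 => rfl
  | n + 1 => by rw [itc, itc_succ' y x n, itc]; rfl

theorem itc_mem {H : Type*} [Group H] {K : Subgroup H} [hK : K.Normal] {v x : H} (hv : v ∈ K) :
    ∀ n, itc v x n ∈ K
  | 0 => hv
  | n + 1 => Subgroup.commutator_le_left K ⊤
      (Subgroup.commutator_mem_commutator (itc_mem hv n) (Subgroup.mem_top x))

theorem itc_mul {H : Type*} [Group H] {K : Subgroup H} [hK : K.Normal]
    (hc : ∀ a ∈ K, ∀ b ∈ K, a * b = b * a) {u v x : H} (hu : u ∈ K) (hv : v ∈ K) :
    ∀ n, itc (u * v) x n = itc u x n * itc v x n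
  | 0 => rfl
  | n + 1 => by
    rw [itc, itc_mul hc hu hv n, itc, itc]
    set a := itc u x n with ha
    set b := itc v x n
    have h : ⁅a * b, x⁆ = a * ⁅b, x⁆ * a⁻¹ * ⁅a, x⁆ := by
      simp only [commutatorElement_def]; group
    rw [h, hc a (itc_mem hu n) ⁅b, x⁆ (itc_mem (x := x) hv (n + 1)), mul_inv_cancel_right]
    exact hc _ (itc_mem hv (n + 1)) _ (itc_mem hu (n + 1))

theorem itc_one {H : Type*} [Group H] (x : H) : ∀ n, itc 1 x n = 1
  | 0 => rfl
  | n + 1 => by rw [itc, itc_one x n, commutatorElement_one_left]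

theorem isSubnormal_comap {H K : Type*} [Group H] [Group K] (f : H →* K) {S : Subgroup K}
    (hS : S.IsSubnormal) : (S.comap f).IsSubnormal := by
  induction hS with
  | top => rw [Subgroup.comap_top]; exact Subgroup.IsSubnormal.top
  | step S T hle _ hN ih =>
    refine Subgroup.IsSubnormal.step _ _ (Subgroup.comap_mono hle) ih ⟨fun n hn g => ?_⟩
    rw [Subgroup.mem_subgroupOf, Subgroup.mem_comap] at hn ⊢
    have h := hN.conj_mem ⟨f n, hle hn⟩ (by rwa [Subgroup.mem_subgroupOf]) ⟨f g, g.2⟩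
    rw [Subgroup.mem_subgroupOf] at h
    simpa using h

theorem rElem_mul {H : Type*} [Group H] [Finite H] [Group.IsNilpotent H] {r : ℕ} [Fact r.Prime]
    {x y : H} {i j : ℕ} (hx : x ^ r ^ i = 1) (hy : y ^ r ^ j = 1) :
    ∃ k, (x * y) ^ r ^ k = 1 := by
  obtain ⟨T⟩ : Nonempty (Sylow r H) := inferInstance
  haveI hTn := Sylow.normal_of_normalizerCondition Group.normalizerCondition_of_isNilpotent T
  have hin : ∀ (z : H) (k : ℕ), z ^ r ^ k = 1 → z ∈ (T : Subgroup H) := by
    intro z k hz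
    have hp' : IsPGroup r (Subgroup.zpowers z) := by
      rintro ⟨w, hw⟩
      obtain ⟨m, rfl⟩ := Subgroup.mem_zpowers_iff.1 hw
      refine ⟨k, Subtype.ext ?_⟩
      show (z ^ m) ^ r ^ k = 1
      rw [← zpow_natCast, zpow_comm, zpow_natCast, hz, one_zpow]
    exact ((hp'.inf_normalizer_sylow T).le ⟨Subgroup.mem_zpowers z,
      (Subgroup.normalizer_eq_top_iff.2 hTn).ge (Subgroup.mem_top z)⟩).2
  obtain ⟨k, hk⟩ := T.2 ⟨x * y, mul_mem (hin x i hx) (hin y j hy)⟩
  exact ⟨k, congrArg Subtype.val hk⟩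

theorem rElem_mul_of_mem [Finite R] {D : Subgroup R} [Group.IsNilpotent D] {r : ℕ} [Fact r.Prime]
    {x y : R} (hxD : x ∈ D) (hyD : y ∈ D) {i j : ℕ} (hx : x ^ r ^ i = 1) (hy : y ^ r ^ j = 1) :
    ∃ k, (x * y) ^ r ^ k = 1 := by
  obtain ⟨k, hk⟩ := rElem_mul (H := D) (x := ⟨x, hxD⟩) (y := ⟨y, hyD⟩) (Subtype.ext hx)
    (Subtype.ext hy) (r := r)
  exact ⟨k, congrArg Subtype.val hk⟩

theorem eq_one_of_two {x : R} {r s i j : ℕ} (hr : r.Prime) (hs : s.Prime) (hne : r ≠ s)
    (h1 : x ^ r ^ i = 1) (h2 : x ^ s ^ j = 1) : x = 1 := by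
  have := pow_gcd_eq_one.2 ⟨h1, h2⟩
  rwa [Nat.Coprime.gcd_eq_one (Nat.Coprime.pow i j ((Nat.coprime_primes hr hs).2 hne)), pow_one]
    at this

theorem mem_of_ppow [Finite R] {T : Subgroup R}
    {x : R} (h : ∀ n : ℕ, ∀ r k : ℕ, r.Prime → (x ^ n) ^ r ^ k = 1 → x ^ n ∈ T) : x ∈ T := by
  suffices hs : ∀ m, ∀ n : ℕ, orderOf (x ^ n) = m → x ^ n ∈ T by
    simpa using hs _ 1 rfl
  intro m
  induction m using Nat.strong_induction_on with
  | _ m ih =>
    intro n hm
    set y := x ^ n with hy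
    by_cases h1 : m = 1
    · rw [orderOf_eq_one_iff.1 (hm.trans h1)]
      exact one_mem _
    obtain ⟨r, hr, hrm⟩ := Nat.exists_prime_and_dvd h1
    have hm0 : m ≠ 0 := hm ▸ (orderOf_pos y).ne'
    set a := r ^ m.factorization r with ha
    set b := m / a with hb
    have hab : a * b = m := Nat.ordProj_mul_ordCompl_eq_self m r
    have hcop : a.Coprime b := Nat.Coprime.pow_left _ (Nat.coprime_ordCompl hr hm0)
    by_cases hb1 : b = 1
    · refine h n r (m.factorization r) hr ?_
      rw [← ha, ← mul_one a, ← hb1, hab, ← hm]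
      exact pow_orderOf_eq_one y
    have ha1 : 1 < a := Nat.one_lt_pow (Nat.Prime.factorization_pos_of_dvd hr hm0 hrm).ne' hr.one_lt
    have hb0 : 0 < b := Nat.pos_of_ne_zero fun e => hm0 (by rw [← hab, e, mul_zero])
    have hya : y ^ a ∈ T := by
      rw [hy, ← pow_mul]
      refine ih b ?_ _ ?_
      · rw [← hab]; exact lt_mul_left hb0 ha1
      · rw [pow_mul, ← hy, orderOf_pow' _ (by omega), hm, ← hab,
          Nat.gcd_eq_right (dvd_mul_right a b), Nat.mul_div_cancel_left _ (by omega)]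
    have hyb : y ^ b ∈ T := by
      rw [hy, ← pow_mul]
      refine ih a ?_ _ ?_
      · rw [← hab]; exact lt_mul_right (by omega) (by omega)
      · rw [pow_mul, ← hy, orderOf_pow' _ (by omega), hm, ← hab,
          Nat.gcd_eq_right (dvd_mul_left b a), Nat.mul_div_cancel _ hb0]
    have hg : y ^ Int.natAbs 1 = y := by simp
    have e := Nat.gcd_eq_gcd_ab a b
    rw [hcop.gcd_eq_one, Nat.cast_one] at e
    have : y = (y ^ a) ^ Nat.gcdA a b * (y ^ b) ^ Nat.gcdB a b := by
      rw [← zpow_natCast y a, ← zpow_natCast y b, ← zpow_mul, ← zpow_mul, ← zpow_add, ← e, zpow_one]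
    rw [this]
    exact mul_mem (T.zpow_mem hya _) (T.zpow_mem hyb _)

/-- Restriction of the action. -/
def resAct (φ : A →* MulAut R) {H : Subgroup R} (hH : Inv φ H) : A →* MulAut H where
  toFun a :=
    { toFun := fun x => ⟨φ a x, hH a x x.2⟩
      invFun := fun x => ⟨φ a⁻¹ x, hH a⁻¹ x x.2⟩
      left_inv := fun x => Subtype.ext (by
        show φ a⁻¹ (φ a x) = x
        rw [← MulAut.mul_apply, ← map_mul, inv_mul_cancel, map_one]; rfl)
      right_inv := fun x => Subtype.ext (by
        show φ a (φ a⁻¹ x) = x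
        rw [← MulAut.mul_apply, ← map_mul, mul_inv_cancel, map_one]; rfl)
      map_mul' := fun x y => Subtype.ext (map_mul (φ a) (x : R) y) }
  map_one' := by ext x; show φ 1 x = x; rw [map_one]; rfl
  map_mul' a b := by ext x; show φ (a * b) x = φ a (φ b x); rw [map_mul]; rfl

theorem resAct_apply (φ : A →* MulAut R) {H : Subgroup R} (hH : Inv φ H) (a : A) (x : H) :
    ((resAct φ hH a x : H) : R) = φ a x := rfl

theorem Fix_resAct (φ : A →* MulAut R) {H : Subgroup R} (hH : Inv φ H) (B : Subgroup A) :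
    Fix (resAct φ hH) B = (Fix φ B).subgroupOf H := by
  ext x
  rw [Subgroup.mem_subgroupOf, mem_Fix, mem_Fix]
  exact forall₂_congr fun b _ => ⟨fun h => congrArg Subtype.val h, fun h => Subtype.ext h⟩

theorem Inv.resAct {φ : A →* MulAut R} {H P : Subgroup R} (hH : Inv φ H) (hP : Inv φ P) :
    Inv (resAct φ hH) (P.subgroupOf H) := fun a x hx => hP a (x : R) hx

variable [hp : Fact p.Prime] [Finite A] [Finite R] {φ : A →* MulAut R}

theorem fixed_iterate_zpowers {a : A} {x : R} (h : φ a x = x) :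
    ∀ b ∈ Subgroup.zpowers a, φ b x = x := by
  let F : Subgroup A :=
    { carrier := {b | φ b x = x}
      one_mem' := by show φ 1 x = x; rw [map_one]; rfl
      mul_mem' := fun {b c} (hb : φ b x = x) (hc : φ c x = x) => by
        show φ (b * c) x = x
        rw [map_mul, MulAut.mul_apply, hc, hb]
      inv_mem' := fun {b} (hb : φ b x = x) => by
        show φ b⁻¹ x = x
        conv_lhs => rw [← hb]
        rw [← MulAut.mul_apply, ← map_mul, inv_mul_cancel, map_one]; rfl }
  exact fun b hb => (Subgroup.zpowers_le.2 (show a ∈ F from h)) hb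

/-- A solvable group generated by elements acting as Engel elements on fixed points of large
subgroups is nilpotent. -/
theorem isNilpotent_of_engel (hA : Elem p A) (hA2 : p ^ 2 ≤ Nat.card A)
    (hR : (Nat.card R).Coprime p) [Group.IsSolvable R] {c : ℕ} (S : Set R)
    (hgen : Subgroup.closure S = ⊤)
    (heng : ∀ x ∈ S, ∀ B, Big p B → ∀ y ∈ Fix φ B, itc y x c = 1) : Group.IsNilpotent R := by
  obtain ⟨s, hs⟩ := (inferInstance : Group.IsSolvable R).solvable
  suffices hall : ∀ i, Group.IsNilpotent (R ⧸ derivedSeries R i) by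
    haveI := hall s
    exact nilpotent_of_mulEquiv ((QuotientGroup.quotientMulEquivOfEq hs).trans
      (QuotientGroup.quotientBot))
  intro i
  induction i with
  | zero =>
    haveI : Subsingleton (R ⧸ derivedSeries R 0) := by
      rw [derivedSeries_zero]; exact QuotientGroup.subsingleton_quotient_top
    infer_instance
  | succ i ih =>
    set N := derivedSeries R (i + 1) with hN
    set q := QuotientGroup.mk' N
    set K := (derivedSeries R i).map q with hK
    haveI hKn : K.Normal := Subgroup.Normal.map inferInstance q (QuotientGroup.mk'_surjective N)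
    have hKc : ∀ a ∈ K, ∀ b ∈ K, a * b = b * a := by
      rintro _ ⟨a, ha, rfl⟩ _ ⟨b, hb, rfl⟩
      rw [← commutatorElement_eq_one_iff_mul_comm, ← map_commutatorElement, QuotientGroup.mk'_apply,
        QuotientGroup.eq_one_iff, hN, derivedSeries_succ]
      exact Subgroup.commutator_mem_commutator ha hb
    haveI : Group.IsNilpotent ((R ⧸ N) ⧸ K) :=
      nilpotent_of_surjective (QuotientGroup.map (derivedSeries R i) K q (Subgroup.le_comap_map q _))
        (fun z => by
          obtain ⟨w, rfl⟩ := QuotientGroup.mk'_surjective K z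
          obtain ⟨v, rfl⟩ := QuotientGroup.mk'_surjective N w
          exact ⟨QuotientGroup.mk v, rfl⟩)
    rw [← Cfsg.Agent.ComponentsFitting.fittingSubgroup_eq_top_iff]
    refine eq_top_iff.2 ?_
    rw [← Subgroup.map_top_of_surjective q (QuotientGroup.mk'_surjective N), ← hgen,
      MonoidHom.map_closure]
    refine (Subgroup.closure_le _).2 ?_
    rintro _ ⟨x, hx, rfl⟩
    -- every element of `K` is killed by `x`
    have hW : ∀ v ∈ K, itc v (q x) c = 1 := by
      let W : Subgroup R :=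
        { carrier := {y | q y ∈ K ∧ itc (q y) (q x) c = 1}
          one_mem' := ⟨by rw [map_one]; exact one_mem _, by rw [map_one]; exact itc_one _ _⟩
          mul_mem' := fun {a b} ha hb => ⟨by rw [map_mul]; exact mul_mem ha.1 hb.1, by
            rw [map_mul, itc_mul hKc ha.1 hb.1, ha.2, hb.2, mul_one]⟩
          inv_mem' := fun {a} ha => ⟨by rw [map_inv]; exact inv_mem ha.1, by
            have h := itc_mul hKc (inv_mem ha.1) ha.1 (x := q x) c
            rw [inv_mul_cancel, itc_one, ha.2, mul_one] at h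
            rw [map_inv]; exact h.symm⟩ }
      have hle : derivedSeries R i ≤ W := by
        refine le_of_big_le hA hA2 hR (inv_of_characteristic (φ := φ) _) fun B hB y hy =>
          ⟨⟨y, hy.1, rfl⟩, ?_⟩
        rw [← itc_map, heng x hx B hB y hy.2, map_one]
      rintro _ ⟨y, hy, rfl⟩
      exact (hle hy).2
    set M := K ⊔ Subgroup.zpowers (q x) with hM
    have hMn : Group.IsNilpotent M := by
      set K' := K.subgroupOf M
      have hxM : q x ∈ M := Subgroup.mem_sup_right (Subgroup.mem_zpowers _)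
      have key : ∀ j, ∀ v : M, (v : R ⧸ N) ∈ K → itc (v : R ⧸ N) (q x) j = 1 →
          v ∈ Subgroup.upperCentralSeries M j := by
        intro j
        induction j with
        | zero =>
          intro v _ hv
          rw [show v = 1 from Subtype.ext hv]
          exact one_mem _
        | succ j ihj =>
          intro v hvK hv
          rw [Subgroup.mem_upperCentralSeries_succ_iff]
          let Y : Subgroup M :=
            { carrier := {y | ⁅v, y⁆ ∈ Subgroup.upperCentralSeries M j}
              one_mem' := by show ⁅v, (1 : M)⁆ ∈ Subgroup.upperCentralSeries M j; rw [commutatorElement_one_right]; exact one_mem _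
              mul_mem' := fun {a b} ha hb => by
                show ⁅v, a * b⁆ ∈ Subgroup.upperCentralSeries M j
                rw [show ⁅v, a * b⁆ = ⁅v, a⁆ * (a * ⁅v, b⁆ * a⁻¹) by
                  simp only [commutatorElement_def]; group]
                exact mul_mem ha ((inferInstance : (Subgroup.upperCentralSeries M j).Normal).conj_mem
                  _ hb a)
              inv_mem' := fun {a} ha => by
                show ⁅v, a⁻¹⁆ ∈ Subgroup.upperCentralSeries M j
                rw [show ⁅v, a⁻¹⁆ = a⁻¹ * ⁅v, a⁆⁻¹ * a⁻¹⁻¹ by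
                  simp only [commutatorElement_def]; group]
                exact (inferInstance : (Subgroup.upperCentralSeries M j).Normal).conj_mem
                  _ (inv_mem ha) a⁻¹ }
          intro y
          show y ∈ Y
          have hMY : M ≤ Y.map M.subtype := by
            refine sup_le (fun k hk => ⟨⟨k, Subgroup.mem_sup_left hk⟩, ?_, rfl⟩)
              (Subgroup.zpowers_le.2 ⟨⟨q x, hxM⟩, ?_, rfl⟩)
            · show ⁅v, (⟨k, Subgroup.mem_sup_left hk⟩ : M)⁆ ∈ Subgroup.upperCentralSeries M j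
              rw [show ⁅v, (⟨k, Subgroup.mem_sup_left hk⟩ : M)⁆ = 1 from Subtype.ext
                (commutatorElement_eq_one_iff_mul_comm.2 (hKc _ hvK k hk))]
              exact one_mem _
            · refine ihj _ (itc_mem (x := q x) hvK 1) ?_
              show itc ⁅(v : R ⧸ N), q x⁆ (q x) j = 1
              rw [itc_succ', hv]
          obtain ⟨w, hw, e⟩ := hMY y.2
          rwa [Subtype.ext e] at hw
      refine ⟨⟨c + 1, eq_top_iff.2 fun g _ => ?_⟩⟩
      rw [Subgroup.mem_upperCentralSeries_succ_iff]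
      intro y
      have hcomm : (⁅g, y⁆ : M).1 ∈ K := by
        show ⁅(g : R ⧸ N), (y : R ⧸ N)⁆ ∈ K
        rw [← QuotientGroup.eq_one_iff, ← QuotientGroup.mk'_apply, map_commutatorElement,
          commutatorElement_eq_one_iff_mul_comm]
        have hin : ∀ w : M, QuotientGroup.mk' K (w : R ⧸ N) ∈
            Subgroup.zpowers (QuotientGroup.mk' K (q x)) := by
          intro w
          have h : M ≤ (Subgroup.zpowers (QuotientGroup.mk' K (q x))).comap (QuotientGroup.mk' K) :=
            sup_le (fun k hk => by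
              rw [Subgroup.mem_comap, show QuotientGroup.mk' K k = 1 from
                (QuotientGroup.eq_one_iff k).2 hk]
              exact one_mem _)
              (Subgroup.zpowers_le.2 (Subgroup.mem_zpowers _))
          exact h w.2
        obtain ⟨m, hm⟩ := Subgroup.mem_zpowers_iff.1 (hin g)
        obtain ⟨l, hl⟩ := Subgroup.mem_zpowers_iff.1 (hin y)
        rw [← hm, ← hl, ← zpow_add, ← zpow_add]
        exact congrArg _ (add_comm m l)
      exact key c _ hcomm (hW _ hcomm)
    have hMs : M.IsSubnormal := by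
      have e : M = (M.map (QuotientGroup.mk' K)).comap (QuotientGroup.mk' K) := by
        rw [QuotientGroup.comap_map_mk', sup_eq_right.2 (le_sup_left : K ≤ M)]
      rw [e]
      exact isSubnormal_comap _ (BGFittingUnique.isSubnormal_of_nilpotent _ _ rfl)
    exact ComponentsFitting.subnormal_nilpotent_le_fitting hMs hMn
      (Subgroup.mem_sup_right (Subgroup.mem_zpowers _))

variable {c : ℕ} {Ps : Finset (Subgroup R)}

theorem engel_of_loc (hS : Sys p c φ Ps) {P : Subgroup R} (hP : P ∈ Ps) {x : R} (hx : x ∈ P)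
    {B : Subgroup A} (hB : Big p B) {y : R} (hy : y ∈ Fix φ B) : itc y x (c + 1) = 1 := by
  obtain ⟨D, hPD, hDc, hDn⟩ := hS.loc P hP B hB
  have h : ∀ j, itc y x (j + 1) ∈ D.lowerCentralSeries j := by
    intro j
    induction j with
    | zero =>
      rw [Subgroup.lowerCentralSeries_zero, itc, itc, commutatorElement_def]
      exact D.mul_mem ((Subgroup.mem_normalizer_iff.1 (hDn hy) x).1 (hPD hx)) (D.inv_mem (hPD hx))
    | succ j ih =>
      rw [itc, Subgroup.lowerCentralSeries_succ]
      exact Subgroup.commutator_mem_commutator ih (hPD hx)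
  have := h c
  rwa [hDc, Subgroup.mem_bot] at this

/-- An invariant solvable subgroup generated by its intersections with pieces is nilpotent. -/
theorem isNilpotent_of_pieces (hS : Sys p c φ Ps) (hA : Elem p A) (hA2 : p ^ 2 ≤ Nat.card A)
    (hR : (Nat.card R).Coprime p) {H : Subgroup R} (hH : Inv φ H) [Group.IsSolvable H]
    {S : Set R} (hSP : ∀ x ∈ S, ∃ P ∈ Ps, x ∈ P) (hgen : Subgroup.closure S = H) :
    Group.IsNilpotent H := by
  refine isNilpotent_of_engel (φ := resAct φ hH) hA hA2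
    (Nat.Coprime.coprime_dvd_left (Subgroup.card_subgroup_dvd_card H) hR) (c := c + 1)
    (Subtype.val ⁻¹' S) ?_ fun x hx B hB y hy => ?_
  · refine eq_top_iff.2 fun z _ => ?_
    have h : H ≤ (Subgroup.closure ((Subtype.val : H → R) ⁻¹' S)).map H.subtype := by
      conv_lhs => rw [← hgen]
      refine (Subgroup.closure_le _).2 fun w hw => ?_
      exact ⟨⟨w, hgen ▸ Subgroup.subset_closure hw⟩, Subgroup.subset_closure hw, rfl⟩
    obtain ⟨w, hw, e⟩ := h z.2
    rwa [Subtype.ext e] at hw
  · obtain ⟨P, hP, hxP⟩ := hSP _ hx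
    rw [Fix_resAct, Subgroup.mem_subgroupOf] at hy
    refine Subtype.ext ?_
    have := itc_map H.subtype y x (c + 1)
    exact this.trans (engel_of_loc hS hP hxP hB hy)

/-- Restriction of a system to an invariant subgroup. -/
theorem Sys.restrict [DecidableEq (Subgroup R)] (hS : Sys p c φ Ps) {H : Subgroup R} (hH : Inv φ H)
    [DecidableEq (Subgroup H)] :
    Sys p c (resAct φ hH) (Ps.image fun P => P.subgroupOf H) where
  inv := by
    intro Q hQ
    obtain ⟨P, hP, rfl⟩ := Finset.mem_image.1 hQ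
    exact Inv.resAct hH (hS.inv P hP)
  fixed := by
    intro Q hQ
    obtain ⟨P, hP, rfl⟩ := Finset.mem_image.1 hQ
    obtain ⟨B, hB, hle⟩ := hS.fixed P hP
    exact ⟨B, hB, fun x hx => by rw [Fix_resAct, Subgroup.mem_subgroupOf]; exact hle hx⟩
  closed := by
    intro P' hP' Q' hQ' B hB
    obtain ⟨P, hP, rfl⟩ := Finset.mem_image.1 hP'
    obtain ⟨Q, hQ, rfl⟩ := Finset.mem_image.1 hQ'
    obtain ⟨T, hT, hle⟩ := hS.closed P hP Q hQ B hB
    refine ⟨T.subgroupOf H, Finset.mem_image_of_mem _ hT, fun x hx => ?_⟩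
    rw [Subgroup.mem_subgroupOf]
    refine hle ⟨?_, ?_⟩
    · have h : (⁅P.subgroupOf H, Q.subgroupOf H⁆ : Subgroup H).map H.subtype ≤ ⁅P, Q⁆ := by
        rw [Subgroup.map_commutator]
        exact Subgroup.commutator_mono (Subgroup.map_comap_le _ _) (Subgroup.map_comap_le _ _)
      exact h ⟨x, hx.1, rfl⟩
    · have := hx.2
      rwa [Fix_resAct] at this
  loc := by
    intro P' hP' B hB
    obtain ⟨P, hP, rfl⟩ := Finset.mem_image.1 hP'
    obtain ⟨D, hPD, hDc, hDn⟩ := hS.loc P hP B hB
    refine ⟨D.subgroupOf H, Subgroup.comap_mono hPD, ?_, ?_⟩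
    · have h : ((D.subgroupOf H).lowerCentralSeries c).map H.subtype ≤ D.lowerCentralSeries c := by
        rw [Subgroup.map_lowerCentralSeries]
        have hm : ∀ {U V : Subgroup R}, U ≤ V → ∀ n,
            U.lowerCentralSeries n ≤ V.lowerCentralSeries n := by
          intro U V hUV n
          induction n with
          | zero => exact hUV
          | succ n ih => exact Subgroup.commutator_mono ih hUV
        exact hm (Subgroup.map_comap_le _ _) c
      rw [hDc, le_bot_iff, Subgroup.map_eq_bot_iff_of_injective _ H.subtype_injective] at h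
      exact h
    · rw [Fix_resAct]
      intro x hx
      rw [Subgroup.mem_normalizer_iff]
      intro z
      simp only [Subgroup.mem_subgroupOf, Subgroup.coe_mul, Subgroup.coe_inv]
      exact Subgroup.mem_normalizer_iff.1 (hDn hx) z

open Cfsg.Agent.GrLie99Assoc in
/-- In a nilpotent group with a generating system of pieces, fixed points are generated by fixed
points of pieces. -/
theorem fix_le_closure (hS : Sys p c φ Ps) (hA : Elem p A) (hA2 : p ^ 2 ≤ Nat.card A)
    (hR : (Nat.card R).Coprime p) [Group.IsNilpotent R]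
    (hgen : Subgroup.closure (⋃ P ∈ Ps, (P : Set R)) = ⊤) (B : Subgroup A) :
    Fix φ B ≤ Subgroup.closure (⋃ P ∈ Ps, ((P ⊓ Fix φ B : Subgroup R) : Set R)) := by
  classical
  set U := Subgroup.closure (⋃ P ∈ Ps, ((P ⊓ Fix φ B : Subgroup R) : Set R)) with hU
  have hUfix : U ≤ Fix φ B := (Subgroup.closure_le _).2 fun x hx => by
    obtain ⟨P, -, hxP⟩ := Set.mem_iUnion₂.1 hx
    exact hxP.2
  haveI : Fintype B := Fintype.ofFinite B
  obtain ⟨k, hk⟩ := (isPGroup hA B).exists_card_eq
  have htop := top_le_pieces hS hA hA2 hR hgen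
  have hstep : ∀ n, ∀ x ∈ lc R n, x ∈ Fix φ B → ∃ y ∈ U, y⁻¹ * x ∈ lc R (n + 1) := by
    intro n x hx hxB
    have hfix : ∀ b : B, grAct φ (b : A) (ι n x hx) = ι n x hx := fun b => by
      rw [grAct, grMap_ι]
      exact ι_congr rfl (hxB b b.2) _ _
    have hmem : ι n x hx ∈ PL U := by
      have h1 : (p ^ k) • ι n x hx ∈ PL U := by
        have e : ∑ b : B, grAct φ (b : A) (ι n x hx) = (p ^ k) • ι n x hx := by
          rw [Finset.sum_congr rfl fun b _ => hfix b, Finset.sum_const, Finset.card_univ,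
            ← Nat.card_eq_fintype_card, hk]
        rw [← e]
        refine (show (Ps.sup fun T : Subgroup R => PL T) ≤ AddSubgroup.comap
          (AddMonoidHom.mk' (fun w => ∑ b : B, grAct φ (b : A) w) fun u v => by
            simp only [map_add, Finset.sum_add_distrib]) (PL U) from ?_)
          (htop (AddSubgroup.mem_top (ι n x hx)))
        refine Finset.sup_le fun T hT w hw => ?_
        refine PL_mono (show T ⊓ Fix φ B ≤ U from fun y hy =>
          Subgroup.subset_closure (Set.mem_iUnion₂.2 ⟨T, hT, hy⟩)) ?_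
        refine mem_PL_fix hA hR (hS.inv T hT)
          (AddSubgroup.sum_mem _ fun b _ => grAct_mem_PL (hS.inv T hT) _ hw) fun b hb => ?_
        simp only [AddMonoidHom.mk'_apply, map_sum]
        refine Fintype.sum_bijective (fun b' : B => ⟨b, hb⟩ * b') (Group.mulLeft_bijective _) _ _
          fun b' => ?_
        rw [← grAct_mul]
        rfl
      clear hk
      induction k with
      | zero => simpa using h1
      | succ k ih =>
        refine ih (mem_of_nsmul_mem hR _ _ ?_)
        rwa [← mul_nsmul', ← pow_succ']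
    obtain ⟨y, hy, hyU, e⟩ := exists_component hmem n
    refine ⟨y, hyU, ?_⟩
    rw [ι, DirectSum.of_eq_same] at e
    have e2 := congrArg
      (fun a : Additive (Sec R n) => ((Additive.toMul a : Sec R n) : R ⧸ lc R (n + 1))) e
    exact QuotientGroup.eq.1 e2.symm
  obtain ⟨m, hm⟩ := Subgroup.nilpotent_iff_lowerCentralSeries.1 (inferInstance : Group.IsNilpotent R)
  suffices hrec : ∀ j n, m ≤ n + j → ∀ x ∈ lc R n, x ∈ Fix φ B → x ∈ U from fun x hx =>
    hrec m 0 (by omega) x (Subgroup.mem_top x) hx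
  intro j
  induction j with
  | zero =>
    intro n hn x hx _
    have h1 : x ∈ lc R m := lc_anti (by omega) hx
    rw [lc, hm, Subgroup.mem_bot] at h1
    rw [h1]
    exact one_mem _
  | succ j ih =>
    intro n hn x hx hxB
    obtain ⟨y, hy, hyx⟩ := hstep n x hx hxB
    have := mul_mem hy (ih (n + 1) (by omega) _ hyx (mul_mem (inv_mem (hUfix hy)) hxB))
    rwa [mul_inv_cancel_left] at this

/-- The `r`-elements of pieces fixed by `a`. -/
def thetaSet (φ : A →* MulAut R) (Ps : Finset (Subgroup R)) (r : ℕ) (a : A) : Set R :=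
  {x | ∃ P ∈ Ps, x ∈ P ∧ x ∈ Fix φ (Subgroup.zpowers a) ∧ ∃ k, x ^ r ^ k = 1}

/-- The signalizer functor of a prime. -/
def theta (φ : A →* MulAut R) (Ps : Finset (Subgroup R)) (r : ℕ) (a : A) : Subgroup R :=
  Subgroup.closure (thetaSet φ Ps r a)

theorem theta_inv (hS : Sys p c φ Ps) (hA : Elem p A) (r : ℕ) (a : A) :
    Inv φ (theta φ Ps r a) := by
  refine Inv.closure fun b x hx => ?_
  obtain ⟨P, hP, hxP, hxa, k, hk⟩ := hx
  exact ⟨P, hP, hS.inv P hP b x hxP, inv_Fix hA _ b x hxa, k, by rw [← map_pow, hk, map_one]⟩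

theorem theta_le_Fix (r : ℕ) (a : A) : theta φ Ps r a ≤ Fix φ (Subgroup.zpowers a) :=
  (Subgroup.closure_le _).2 fun _ hx => hx.choose_spec.2.2.1

theorem theta_nilpotent (hS : Sys p c φ Ps) (hA : Elem p A) (hA2 : p ^ 2 ≤ Nat.card A)
    (hR : (Nat.card R).Coprime p) (r : ℕ) (a : A)
    (hsol : Group.IsSolvable (Fix φ (Subgroup.zpowers a))) :
    Group.IsNilpotent (theta φ Ps r a) := by
  haveI := hsol
  haveI : Group.IsSolvable (theta φ Ps r a) :=
    CoprimeAction.isSolvable_of_le (theta_le_Fix r a)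
  exact isNilpotent_of_pieces hS hA hA2 hR (theta_inv hS hA r a) (S := thetaSet φ Ps r a)
    (fun x hx => ⟨_, hx.choose_spec.1, hx.choose_spec.2.1⟩) rfl

theorem theta_rElem (hS : Sys p c φ Ps) (hA : Elem p A) (hA2 : p ^ 2 ≤ Nat.card A)
    (hR : (Nat.card R).Coprime p) {r : ℕ} [Fact r.Prime] (a : A)
    (hsol : Group.IsSolvable (Fix φ (Subgroup.zpowers a))) {x : R} (hx : x ∈ theta φ Ps r a) :
    ∃ k, x ^ r ^ k = 1 := by
  haveI := theta_nilpotent hS hA hA2 hR r a hsol
  have h : ∀ y, ∀ hy : y ∈ theta φ Ps r a, ∃ k, y ^ r ^ k = 1 := by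
    intro y hy
    induction hy using Subgroup.closure_induction with
    | mem z hz => exact hz.choose_spec.2.2.2
    | one => exact ⟨0, one_pow _⟩
    | mul u v hu hv iu iv =>
      obtain ⟨i, hi⟩ := iu
      obtain ⟨j, hj⟩ := iv
      exact rElem_mul_of_mem (D := theta φ Ps r a) hu hv hi hj
    | inv u _ iu =>
      obtain ⟨i, hi⟩ := iu
      exact ⟨i, by rw [inv_pow, hi, inv_one]⟩
  exact h x hx

theorem theta_balance (hS : Sys p c φ Ps) (hA : Elem p A) (hA2 : p ^ 2 ≤ Nat.card A)
    (hR : (Nat.card R).Coprime p) {r : ℕ} [Fact r.Prime] (a b : A)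
    (hsol : Group.IsSolvable (Fix φ (Subgroup.zpowers a))) :
    theta φ Ps r a ⊓ Fix φ (Subgroup.zpowers b) ≤ theta φ Ps r b := by
  classical
  set W := theta φ Ps r a with hWdef
  haveI : Group.IsNilpotent W := theta_nilpotent hS hA hA2 hR r a hsol
  have hW := theta_inv hS hA r a
  have hgen : Subgroup.closure
      (⋃ (P : Subgroup W) (_ : P ∈ Ps.image (fun P => P.subgroupOf W)), (P : Set W)) = ⊤ := by
    refine eq_top_iff.2 fun z _ => ?_
    have h : W ≤ (Subgroup.closure
        (⋃ (P : Subgroup W) (_ : P ∈ Ps.image (fun P => P.subgroupOf W)), (P : Set W))).map W.subtype := by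
      refine (Subgroup.closure_le _).2 fun w hw => ?_
      obtain ⟨P, hP, hwP, hwa, hwk⟩ := hw
      exact ⟨⟨w, Subgroup.subset_closure ⟨P, hP, hwP, hwa, hwk⟩⟩,
        Subgroup.subset_closure (Set.mem_iUnion₂.2 ⟨_, Finset.mem_image_of_mem _ hP, hwP⟩), rfl⟩
    obtain ⟨w, hw, e⟩ := h z.2
    rwa [Subtype.ext e] at hw
  intro x hx
  have h1 := fix_le_closure (hS.restrict hW) hA hA2
    (Nat.Coprime.coprime_dvd_left (Subgroup.card_subgroup_dvd_card W) hR) hgen
    (Subgroup.zpowers b) (show (⟨x, hx.1⟩ : W) ∈ Fix (resAct φ hW) (Subgroup.zpowers b) by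
      rw [Fix_resAct, Subgroup.mem_subgroupOf]; exact hx.2)
  have h2 : Subgroup.closure (⋃ P ∈ Ps.image (fun P => P.subgroupOf W),
      ((P ⊓ Fix (resAct φ hW) (Subgroup.zpowers b) : Subgroup W) : Set W)) ≤
      (theta φ Ps r b).comap W.subtype := by
    refine (Subgroup.closure_le _).2 fun w hw => ?_
    obtain ⟨Q, hQ, hwQ⟩ := Set.mem_iUnion₂.1 hw
    obtain ⟨P, hP, rfl⟩ := Finset.mem_image.1 hQ
    have hwb := hwQ.2
    replace hwb : w ∈ Fix (resAct φ hW) (Subgroup.zpowers b) := hwb
    rw [Fix_resAct, Subgroup.mem_subgroupOf] at hwb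
    exact Subgroup.subset_closure
      ⟨P, hP, hwQ.1, hwb, theta_rElem hS hA hA2 hR a hsol w.2⟩
  exact h2 h1

/-- For each prime the `r`-elements of pieces generate an `r`-group. -/
theorem exists_rGroup (hS : Sys p c φ Ps) (hA : Elem p A) (hA3 : p ^ 3 ≤ Nat.card A)
    (hR : (Nat.card R).Coprime p)
    (hsol : ∀ a : A, a ≠ 1 → Group.IsSolvable (Fix φ (Subgroup.zpowers a)))
    {r : ℕ} [hr : Fact r.Prime] (hrp : r ≠ p) :
    ∃ X : Subgroup R, IsPGroup r X ∧
      ∀ P ∈ Ps, ∀ x ∈ P, (∃ k, x ^ r ^ k = 1) → x ∈ X := by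
  have hA2 : p ^ 2 ≤ Nat.card A := le_trans (Nat.pow_le_pow_right hp.1.pos (by norm_num)) hA3
  haveI : Finite (R ⋊[φ] A) := Finite.of_equiv _ SemidirectProduct.equivProd.symm
  set i : R →* R ⋊[φ] A := SemidirectProduct.inl with hidef
  set j : A →* R ⋊[φ] A := SemidirectProduct.inr with hjdef
  have hi : Function.Injective i := SemidirectProduct.inl_injective
  set θ : R ⋊[φ] A → Subgroup (R ⋊[φ] A) := fun g => (theta φ Ps r g.right).map i with hθdef
  have hθj : ∀ a, θ (j a) = (theta φ Ps r a).map i := fun a => rfl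
  have hB : Cfsg.IsElementaryAbelian p j.range :=
    ⟨⟨⟨by rintro ⟨_, a, rfl⟩ ⟨_, b, rfl⟩; exact Subtype.ext (by
        show j a * j b = j b * j a
        rw [← map_mul, ← map_mul, hA.comm])⟩⟩,
      by rintro _ ⟨a, rfl⟩; rw [← map_pow, hA.pow, map_one]⟩
  have hcomm : ∀ a : A, ∀ x : R, i x ∈ Subgroup.centralizer {j a} ↔
      x ∈ Fix φ (Subgroup.zpowers a) := by
    intro a x
    rw [Subgroup.mem_centralizer_singleton_iff]
    constructor
    · intro h b hb
      refine fixed_iterate_zpowers ?_ b hb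
      refine hi ?_
      rw [hidef, SemidirectProduct.inl_aut, ← hidef, ← hjdef, ← h, map_inv, mul_inv_cancel_right]
    · intro h
      have e := SemidirectProduct.inl_aut (φ := φ) a x
      rw [h a (Subgroup.mem_zpowers a), ← hidef, ← hjdef] at e
      conv_lhs => rw [e]
      rw [map_inv, inv_mul_cancel_right]
  have hne : ∀ a : A, j a ≠ 1 → a ≠ 1 := fun a h e => h (by rw [e, map_one])
  have hsig : Cfsg.IsSignalizerFunctor p j.range θ := by
    refine ⟨?_, ?_, ?_, ?_⟩
    · rintro _ ⟨a, rfl⟩ _ _ ⟨x, hx, rfl⟩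
      exact (hcomm a x).2 (theta_le_Fix r a hx)
    · rintro _ ⟨a, rfl⟩ _
      rw [hθj, Subgroup.card_map_of_injective hi]
      exact fun h => (hp.1.coprime_iff_not_dvd.1 hR.symm)
        (h.trans (Subgroup.card_subgroup_dvd_card _))
    · rintro _ ⟨a, rfl⟩ _ _ ⟨b, rfl⟩ _ ⟨x, hx, rfl⟩
      refine ⟨φ b x, theta_inv hS hA r a b x hx, ?_⟩
      rw [← map_inv]
      exact SemidirectProduct.inl_aut b x
    · rintro _ ⟨a, rfl⟩ ha _ ⟨b, rfl⟩ _ _ ⟨⟨x, hx, rfl⟩, hc⟩
      exact ⟨x, theta_balance hS hA hA2 hR a b (hsol a (hne a ha)) ⟨hx, (hcomm b x).1 hc⟩, rfl⟩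
  have hval : ∀ g ∈ j.range, g ≠ 1 → IsPGroup r ↥(θ g) := by
    rintro _ ⟨a, rfl⟩ ha
    rw [hθj]
    refine IsPGroup.map (fun x => ?_) i
    obtain ⟨k, hk⟩ := theta_rElem hS hA hA2 hR a (hsol a (hne a ha)) x.2
    exact ⟨k, Subtype.ext hk⟩
  have hsolθ : Cfsg.IsSolvableSignalizerFunctor p j.range θ :=
    ⟨hsig, fun g hg hg1 => by
      haveI := (hval g hg hg1).isNilpotent
      infer_instance⟩
  have hA3' : p ^ 3 ≤ Nat.card j.range := by
    rw [MonoidHom.range_eq_map, Subgroup.card_map_of_injective SemidirectProduct.inr_injective,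
      Subgroup.card_top]
    exact hA3
  obtain ⟨Q, -, hQ⟩ := SignalizerTransitivity.exists_isMaxMember_ge (q := r)
    (U := (⊥ : Subgroup (R ⋊[φ] A)))
    (show (⊥ : Subgroup (R ⋊[φ] A)) ∈ Cfsg.signalizerFamily p j.range θ from
      ⟨inferInstance, by simpa using hp.1.ne_one,
        fun b _ x hx => by rw [Subgroup.mem_bot.1 hx]; simp, fun a _ _ => by simp⟩)
    IsPGroup.of_bot
  refine ⟨Q.comap i, hQ.2.1.comap_of_injective i hi, fun P hP x hx hk => ?_⟩
  obtain ⟨B, hB', hPB⟩ := hS.fixed P hP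
  obtain ⟨a, ha, ha1⟩ : ∃ a ∈ B, a ≠ 1 := by
    by_contra hcon
    push Not at hcon
    have h1 : Nat.card A ≤ Nat.card B * p := hB'
    rw [(Subgroup.eq_bot_iff_forall B).2 hcon, Subgroup.card_bot, one_mul] at h1
    have := hp.1.two_le
    nlinarith
  have hja : j a ≠ 1 := fun e => ha1 (SemidirectProduct.inr_injective (e.trans (map_one j).symm))
  have h1 := SignalizerTransitivity.exists_isMaxMember_inf_centralizer hB hA3' hsolθ hrp hval hQ
    ⟨a, rfl⟩ hja
  have h2 : i x ∈ Q ⊓ Subgroup.centralizer {j a} := by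
    rw [h1, hθj]
    exact ⟨x, Subgroup.subset_closure
      ⟨P, hP, hx, Fix_anti (Subgroup.zpowers_le.2 ha) (hPB hx), hk⟩, rfl⟩
  exact h2.1

/-- A group generated by a system of pieces is nilpotent. -/
theorem isNilpotent_of_sys (hS : Sys p c φ Ps) (hA : Elem p A) (hA3 : p ^ 3 ≤ Nat.card A)
    (hR : (Nat.card R).Coprime p)
    (hsol : ∀ a : A, a ≠ 1 → Group.IsSolvable (Fix φ (Subgroup.zpowers a)))
    (hgen : Subgroup.closure (⋃ P ∈ Ps, (P : Set R)) = ⊤) : Group.IsNilpotent R := by
  set gens : ℕ → Set R := fun r => {x | ∃ P ∈ Ps, x ∈ P ∧ ∃ k, x ^ r ^ k = 1} with hgens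
  have hcommute : ∀ r s : ℕ, r.Prime → s.Prime → r ≠ s → ∀ x ∈ gens r, ∀ y ∈ gens s,
      x * y = y * x := by
    rintro r s hr hs hne x ⟨P, hP, hx, i, hi⟩ y ⟨Q, hQ, hy, j, hj⟩
    haveI := Fact.mk hr
    haveI := Fact.mk hs
    rw [← commutatorElement_eq_one_iff_mul_comm]
    obtain ⟨B, hB, hQB⟩ := hS.fixed Q hQ
    obtain ⟨B', hB', hPB⟩ := hS.fixed P hP
    obtain ⟨D, hPD, hDc, hDn⟩ := hS.loc P hP B hB
    obtain ⟨D', hQD, hDc', hDn'⟩ := hS.loc Q hQ B' hB'
    haveI : Group.IsNilpotent D := (Subgroup.isNilpotent_iff_lowerCentralSeries D).2 ⟨c, hDc⟩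
    haveI : Group.IsNilpotent D' := (Subgroup.isNilpotent_iff_lowerCentralSeries D').2 ⟨c, hDc'⟩
    have h1 : y * x⁻¹ * y⁻¹ ∈ D :=
      (Subgroup.mem_normalizer_iff.1 (hDn (hQB hy)) _).1 (D.inv_mem (hPD hx))
    obtain ⟨k, hk⟩ := rElem_mul_of_mem (r := r) (hPD hx) h1 hi (j := i) (by
      rw [conj_pow, inv_pow, hi, inv_one, mul_one, mul_inv_cancel])
    have h2 : x * y * x⁻¹ ∈ D' := (Subgroup.mem_normalizer_iff.1 (hDn' (hPB hx)) _).1 (hQD hy)
    obtain ⟨l, hl⟩ := rElem_mul_of_mem (r := s) h2 (D'.inv_mem (hQD hy)) (i := j) (by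
      rw [conj_pow, hj, mul_one, mul_inv_cancel]) (j := j) (by rw [inv_pow, hj, inv_one])
    refine eq_one_of_two hr hs hne (i := k) (j := l) ?_ ?_
    · rw [commutatorElement_def, show x * y * x⁻¹ * y⁻¹ = x * (y * x⁻¹ * y⁻¹) by group]
      exact hk
    · rw [commutatorElement_def]
      exact hl
  have hall : ∀ P ∈ Ps, ∀ x ∈ P,
      x ∈ Subgroup.closure {z | ∃ r, r.Prime ∧ z ∈ gens r} := fun P hP x hx =>
    mem_of_ppow fun n r k hr hrk =>
      Subgroup.subset_closure ⟨r, hr, P, hP, P.pow_mem hx n, k, hrk⟩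
  have htop : Subgroup.closure {z | ∃ r, r.Prime ∧ z ∈ gens r} = ⊤ := by
    refine eq_top_iff.2 ?_
    rw [← hgen]
    refine (Subgroup.closure_le _).2 fun x hx => ?_
    obtain ⟨P, hP, hxP⟩ := Set.mem_iUnion₂.1 hx
    exact hall P hP x hxP
  rw [← Cfsg.Agent.ComponentsFitting.fittingSubgroup_eq_top_iff]
  refine eq_top_iff.2 ?_
  rw [← htop]
  refine (Subgroup.closure_le _).2 ?_
  rintro x ⟨r, hr, hx⟩
  haveI := Fact.mk hr
  by_cases hx1 : x = 1
  · rw [hx1]; exact one_mem _
  have hrp : r ≠ p := by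
    rintro rfl
    obtain ⟨P, -, -, k, hk⟩ := hx
    refine hx1 ?_
    have := pow_gcd_eq_one.2 ⟨hk, (pow_card_eq_one' (x := x))⟩
    rwa [Nat.Coprime.gcd_eq_one (Nat.Coprime.pow_left k hR.symm), pow_one] at this
  obtain ⟨X, hX, hXgen⟩ := exists_rGroup hS hA hA3 hR hsol hrp
  set Xr := Subgroup.closure (gens r)
  have hXr : Xr ≤ X := (Subgroup.closure_le _).2 fun z ⟨P, hP, hz, hk⟩ => hXgen P hP z hz hk
  have hn : Xr.Normal := by
    rw [← Subgroup.normalizer_eq_top_iff, eq_top_iff, ← htop]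
    refine (Subgroup.closure_le _).2 ?_
    rintro y ⟨s, hs, hy⟩
    rcases eq_or_ne s r with rfl | hne
    · exact Subgroup.le_normalizer (Subgroup.subset_closure hy)
    · refine Cfsg.Agent.LocalBasics.centralizer_le_normalizer Xr
        (Subgroup.mem_centralizer_iff.2 fun w hw => ?_)
      induction hw using Subgroup.closure_induction with
      | mem z hz => exact hcommute r s hr hs hne.symm z hz y hy
      | one => rw [one_mul, mul_one]
      | mul u v _ _ iu iv => rw [mul_assoc, iv, ← mul_assoc, iu, mul_assoc]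
      | inv u _ iu => exact ((show Commute u y from iu).inv_left).eq
  haveI := (hX.to_le hXr).isNilpotent
  exact Cfsg.Agent.HallSolvable.le_fitting (N := Xr) (hN := hn) (Subgroup.subset_closure hx)

end Cfsg.Agent.CoprimePieces99
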