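import Mathlib
import Cfsg.Agent.Lib.CoprimePieces99Class
import Cfsg.Agent.Lib.CoprimePieces99Nilpotent

/-!
The special subgroups of a coprime elementary abelian group of automorphisms: derived series and
lower central series of the group are generated by them.
-/

set_option autoImplicit false
set_option linter.unusedSectionVars false

noncomputable section

namespace Cfsg.Agent.CoprimePieces99

open scoped commutatorElement

variable {A : Type*} [Group A] [Finite A] {G : Type*} [Group G] [Finite G] {p : ℕ} [hp : Fact p.Prime]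
  {φ : A →* MulAut G}

/-- The large subgroups. -/
def bigs (p : ℕ) (A : Type*) [Group A] [Finite A] : Finset (Subgroup A) :=
  (Set.toFinite {B : Subgroup A | Big p B}).toFinset

theorem mem_bigs {B : Subgroup A} : B ∈ bigs p A ↔ Big p B := Set.Finite.mem_toFinset _

theorem card_bigs_le : (bigs p A).card ≤ 2 ^ Nat.card A := by
  classical
  haveI : Fintype A := Fintype.ofFinite A
  refine le_trans (Finset.card_le_card_of_injOn (fun B : Subgroup A => (B : Set A))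
    (t := (Finset.univ : Finset (Set A))) (fun _ _ => Finset.mem_univ _)
    (fun _ _ _ _ h => SetLike.coe_injective h)) ?_
  rw [Finset.card_univ, Fintype.card_set, Nat.card_eq_fintype_card]

open Classical in
/-- Special subgroups of degree zero. -/
def pc0 (p : ℕ) (φ : A →* MulAut G) : Finset (Subgroup G) := (bigs p A).image (Fix φ)

open Classical in
/-- The next degree. -/
def pStep (p : ℕ) (φ : A →* MulAut G) (X Y : Finset (Subgroup G)) : Finset (Subgroup G) :=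
  ((X ×ˢ Y) ×ˢ bigs p A).image fun t => ⁅t.1.1, t.1.2⁆ ⊓ Fix φ t.2

theorem mem_pc0 {P : Subgroup G} : P ∈ pc0 p φ ↔ ∃ B, Big p B ∧ Fix φ B = P := by
  classical
  simp [pc0, mem_bigs]

theorem mem_pStep {X Y : Finset (Subgroup G)} {P : Subgroup G} :
    P ∈ pStep p φ X Y ↔ ∃ P₁ ∈ X, ∃ P₂ ∈ Y, ∃ B, Big p B ∧ ⁅P₁, P₂⁆ ⊓ Fix φ B = P := by
  classical
  simp only [pStep, Finset.mem_image, Finset.mem_product, Prod.exists, mem_bigs]
  constructor
  · rintro ⟨a, b, B, ⟨⟨ha, hb⟩, hB⟩, e⟩; exact ⟨a, ha, b, hb, B, hB, e⟩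
  · rintro ⟨a, ha, b, hb, B, hB, e⟩; exact ⟨a, b, B, ⟨⟨ha, hb⟩, hB⟩, e⟩

theorem card_pStep_le (X Y : Finset (Subgroup G)) :
    (pStep p φ X Y).card ≤ X.card * Y.card * (bigs p A).card := by
  classical
  refine Finset.card_image_le.trans ?_
  rw [Finset.card_product, Finset.card_product]

/-- Each member of `X` lies in a member of `Y`. -/
def Refines (X Y : Finset (Subgroup G)) : Prop := ∀ P ∈ X, ∃ Q ∈ Y, P ≤ Q

theorem Refines.rfl' (X : Finset (Subgroup G)) : Refines X X := fun P hP => ⟨P, hP, le_rfl⟩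

theorem Refines.trans' {X Y Z : Finset (Subgroup G)} (h : Refines X Y) (h' : Refines Y Z) :
    Refines X Z := fun P hP => by
  obtain ⟨Q, hQ, hle⟩ := h P hP
  obtain ⟨T, hT, hle'⟩ := h' Q hQ
  exact ⟨T, hT, hle.trans hle'⟩

theorem pStep_refines {X X' Y Y' : Finset (Subgroup G)} (hX : Refines X X') (hY : Refines Y Y') :
    Refines (pStep p φ X Y) (pStep p φ X' Y') := by
  intro P hP
  obtain ⟨P₁, h₁, P₂, h₂, B, hB, rfl⟩ := mem_pStep.1 hP
  obtain ⟨Q₁, g₁, l₁⟩ := hX P₁ h₁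
  obtain ⟨Q₂, g₂, l₂⟩ := hY P₂ h₂
  exact ⟨_, mem_pStep.2 ⟨Q₁, g₁, Q₂, g₂, B, hB, rfl⟩,
    inf_le_inf_right _ (Subgroup.commutator_mono l₁ l₂)⟩

theorem pStep_refines_pc0 (X Y : Finset (Subgroup G)) : Refines (pStep p φ X Y) (pc0 p φ) := by
  intro P hP
  obtain ⟨P₁, -, P₂, -, B, hB, rfl⟩ := mem_pStep.1 hP
  exact ⟨_, mem_pc0.2 ⟨B, hB, rfl⟩, inf_le_right⟩

theorem pc0_inv (hA : Elem p A) : ∀ P ∈ pc0 p φ, Inv φ P := by
  intro P hP
  obtain ⟨B, -, rfl⟩ := mem_pc0.1 hP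
  exact inv_Fix hA B

theorem pc0_fixed : ∀ P ∈ pc0 p φ, ∃ B, Big p B ∧ P ≤ Fix φ B := by
  intro P hP
  obtain ⟨B, hB, rfl⟩ := mem_pc0.1 hP
  exact ⟨B, hB, le_rfl⟩

theorem pStep_inv (hA : Elem p A) {X Y : Finset (Subgroup G)} (hX : ∀ P ∈ X, Inv φ P)
    (hY : ∀ P ∈ Y, Inv φ P) : ∀ P ∈ pStep p φ X Y, Inv φ P := by
  intro P hP
  obtain ⟨P₁, h₁, P₂, h₂, B, -, rfl⟩ := mem_pStep.1 hP
  exact ((hX P₁ h₁).commutator (hY P₂ h₂)).inf (inv_Fix hA B)

theorem pStep_fixed (X Y : Finset (Subgroup G)) :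
    ∀ P ∈ pStep p φ X Y, ∃ B, Big p B ∧ P ≤ Fix φ B := by
  intro P hP
  obtain ⟨P₁, -, P₂, -, B, hB, rfl⟩ := mem_pStep.1 hP
  exact ⟨B, hB, inf_le_right⟩

theorem closure_pc0 (hA : Elem p A) (hA2 : p ^ 2 ≤ Nat.card A) (hG : (Nat.card G).Coprime p) :
    (pc0 p φ).sup id = (⊤ : Subgroup G) := by
  refine eq_top_iff.2 (le_of_big_le (φ := φ) hA hA2 hG (fun _ x _ => Subgroup.mem_top _) fun B hB => ?_)
  exact inf_le_right.trans (Finset.le_sup (f := id) (mem_pc0.2 ⟨B, hB, rfl⟩))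

theorem normal_of_conj_le {W : Subgroup G} {J : Subgroup G} (h : ⁅W, J⁆ ≤ W) :
    J ≤ Subgroup.normalizer (W : Set G) := by
  refine Cfsg.Agent.LocalBasics.le_normalizer_of_conj fun x hx w hw => ?_
  have h1 := W.inv_mem (h (Subgroup.commutator_mem_commutator hw hx))
  have h2 := W.mul_mem h1 hw
  rwa [commutatorElement_def,
    show (w * x * w⁻¹ * x⁻¹)⁻¹ * w = x * w * x⁻¹ by group] at h2

theorem commutator_sup_le {s t : Finset (Subgroup G)} {W : Subgroup G}
    (hs : ∀ P ∈ s, P ≤ Subgroup.normalizer (W : Set G))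
    (ht : ∀ P ∈ t, P ≤ Subgroup.normalizer (W : Set G))
    (h : ∀ P ∈ s, ∀ Q ∈ t, ⁅P, Q⁆ ≤ W) : ⁅s.sup id, t.sup id⁆ ≤ W := by
  rw [Subgroup.commutator_le]
  have h1 : ∀ P ∈ s, ∀ x ∈ P, ∀ y ∈ t.sup id, ⁅x, y⁆ ∈ W := by
    intro P hP x hx
    let T : Subgroup G :=
      { carrier := {y | y ∈ Subgroup.normalizer (W : Set G) ∧ ⁅x, y⁆ ∈ W}
        one_mem' := ⟨one_mem _, by rw [commutatorElement_one_right]; exact one_mem _⟩
        mul_mem' := fun {a b} ha hb => ⟨mul_mem ha.1 hb.1, by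
          rw [show ⁅x, a * b⁆ = ⁅x, a⁆ * (a * ⁅x, b⁆ * a⁻¹) by
            simp only [commutatorElement_def]; group]
          exact mul_mem ha.2 ((Subgroup.mem_normalizer_iff.1 ha.1 _).1 hb.2)⟩
        inv_mem' := fun {a} ha => ⟨inv_mem ha.1, by
          rw [show ⁅x, a⁻¹⁆ = a⁻¹ * ⁅x, a⁆⁻¹ * a⁻¹⁻¹ by simp only [commutatorElement_def]; group]
          exact (Subgroup.mem_normalizer_iff.1 (inv_mem ha.1) _).1 (inv_mem ha.2)⟩ }
    have hle : t.sup id ≤ T := Finset.sup_le fun Q hQ y hy =>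
      ⟨ht Q hQ hy, h P hP Q hQ (Subgroup.commutator_mem_commutator hx hy)⟩
    exact fun y hy => (hle hy).2
  intro x hx y hy
  let S : Subgroup G :=
    { carrier := {z | z ∈ Subgroup.normalizer (W : Set G) ∧ ⁅z, y⁆ ∈ W}
      one_mem' := ⟨one_mem _, by rw [commutatorElement_one_left]; exact one_mem _⟩
      mul_mem' := fun {a b} ha hb => ⟨mul_mem ha.1 hb.1, by
        rw [show ⁅a * b, y⁆ = a * ⁅b, y⁆ * a⁻¹ * ⁅a, y⁆ by
          simp only [commutatorElement_def]; group]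
        exact mul_mem ((Subgroup.mem_normalizer_iff.1 ha.1 _).1 hb.2) ha.2⟩
      inv_mem' := fun {a} ha => ⟨inv_mem ha.1, by
        rw [show ⁅a⁻¹, y⁆ = a⁻¹ * ⁅a, y⁆⁻¹ * a⁻¹⁻¹ by simp only [commutatorElement_def]; group]
        exact (Subgroup.mem_normalizer_iff.1 (inv_mem ha.1) _).1 (inv_mem ha.2)⟩ }
  exact ((Finset.sup_le fun P hP z hz => ⟨hs P hP hz, h1 P hP z hz y hy⟩ : s.sup id ≤ S) hx).2

theorem sup_pStep (hA : Elem p A) (hA2 : p ^ 2 ≤ Nat.card A) (hG : (Nat.card G).Coprime p)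
    {X Y : Finset (Subgroup G)} (hXi : ∀ P ∈ X, Inv φ P) (hYi : ∀ P ∈ Y, Inv φ P)
    (h1 : Refines (pStep p φ X Y) X) (h2 : Refines X Y) :
    (pStep p φ X Y).sup id = ⁅X.sup id, Y.sup id⁆ := by
  set W := (pStep p φ X Y).sup id
  refine le_antisymm (Finset.sup_le fun P hP => ?_) ?_
  · obtain ⟨P₁, h₁, P₂, h₂, B, -, rfl⟩ := mem_pStep.1 hP
    exact inf_le_left.trans (Subgroup.commutator_mono (Finset.le_sup (f := id) h₁)
      (Finset.le_sup (f := id) h₂))
  have hPQ : ∀ P ∈ X, ∀ Q ∈ Y, ⁅P, Q⁆ ≤ W := fun P hP Q hQ =>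
    le_of_big_le hA hA2 hG ((hXi P hP).commutator (hYi Q hQ)) fun B hB =>
      Finset.le_sup (f := id) (mem_pStep.2 ⟨P, hP, Q, hQ, B, hB, rfl⟩)
  have hYn : ∀ J ∈ Y, J ≤ Subgroup.normalizer (W : Set G) := by
    intro J hJ
    refine normal_of_conj_le ?_
    have hle : W ≤ (W : Subgroup G) ⊓ ⨆ P ∈ X, P := le_inf le_rfl (Finset.sup_le fun P hP => by
      obtain ⟨P', hP', hle⟩ := h1 P hP
      exact hle.trans (le_biSup (fun Q => Q) hP'))
    rw [Subgroup.commutator_le]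
    intro w hw x hx
    let S : Subgroup G :=
      { carrier := {w | w ∈ W ∧ ⁅w, x⁆ ∈ W}
        one_mem' := ⟨one_mem _, by rw [commutatorElement_one_left]; exact one_mem _⟩
        mul_mem' := fun {a b} ha hb => ⟨mul_mem ha.1 hb.1, by
          rw [show ⁅a * b, x⁆ = a * ⁅b, x⁆ * a⁻¹ * ⁅a, x⁆ by
            simp only [commutatorElement_def]; group]
          exact mul_mem (mul_mem (mul_mem ha.1 hb.2) (inv_mem ha.1)) ha.2⟩
        inv_mem' := fun {a} ha => ⟨inv_mem ha.1, by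
          rw [show ⁅a⁻¹, x⁆ = a⁻¹ * ⁅a, x⁆⁻¹ * a by simp only [commutatorElement_def]; group]
          exact mul_mem (mul_mem (inv_mem ha.1) (inv_mem ha.2)) ha.1⟩ }
    have hWS : W ≤ S := Finset.sup_le fun P hP z hz => by
      obtain ⟨P', hP', hle'⟩ := h1 P hP
      exact ⟨Finset.le_sup (f := id) hP hz,
        hPQ P' hP' J hJ (Subgroup.commutator_mem_commutator (hle' hz) hx)⟩
    exact (hWS hw).2
  refine commutator_sup_le (fun J hJ => ?_) hYn hPQ
  obtain ⟨J', hJ', hle⟩ := h2 J hJ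
  exact hle.trans (hYn J' hJ')

/-- Derived degree pieces. -/
def pD (p : ℕ) (φ : A →* MulAut G) : ℕ → Finset (Subgroup G)
  | 0 => pc0 p φ
  | n + 1 => pStep p φ (pD p φ n) (pD p φ n)

/-- Lower central degree pieces. -/
def pL (p : ℕ) (φ : A →* MulAut G) : ℕ → Finset (Subgroup G)
  | 0 => pc0 p φ
  | n + 1 => pStep p φ (pL p φ n) (pc0 p φ)

theorem pD_refines : ∀ n, Refines (pD p φ (n + 1)) (pD p φ n)
  | 0 => pStep_refines_pc0 _ _
  | n + 1 => pStep_refines (pD_refines n) (pD_refines n)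

theorem pL_refines : ∀ n, Refines (pL p φ (n + 1)) (pL p φ n)
  | 0 => pStep_refines_pc0 _ _
  | n + 1 => pStep_refines (pL_refines n) (Refines.rfl' _)

theorem pD_inv (hA : Elem p A) : ∀ n, ∀ P ∈ pD p φ n, Inv φ P
  | 0 => pc0_inv hA
  | n + 1 => pStep_inv hA (pD_inv hA n) (pD_inv hA n)

theorem pL_inv (hA : Elem p A) : ∀ n, ∀ P ∈ pL p φ n, Inv φ P
  | 0 => pc0_inv hA
  | n + 1 => pStep_inv hA (pL_inv hA n) (pc0_inv hA)

theorem pD_fixed : ∀ n, ∀ P ∈ pD p φ n, ∃ B, Big p B ∧ P ≤ Fix φ B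
  | 0 => pc0_fixed
  | _ + 1 => pStep_fixed _ _

theorem pL_fixed : ∀ n, ∀ P ∈ pL p φ n, ∃ B, Big p B ∧ P ≤ Fix φ B
  | 0 => pc0_fixed
  | _ + 1 => pStep_fixed _ _

theorem pL_refines_pc0 : ∀ n, Refines (pL p φ n) (pc0 p φ)
  | 0 => Refines.rfl' _
  | _ + 1 => pStep_refines_pc0 _ _

theorem sup_pD (hA : Elem p A) (hA2 : p ^ 2 ≤ Nat.card A) (hG : (Nat.card G).Coprime p) :
    ∀ n, (pD p φ n).sup id = derivedSeries G n
  | 0 => closure_pc0 hA hA2 hG
  | n + 1 => by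
    rw [pD, sup_pStep hA hA2 hG (pD_inv hA n) (pD_inv hA n) (pD_refines n) (Refines.rfl' _),
      sup_pD hA hA2 hG n, derivedSeries_succ]

theorem sup_pL (hA : Elem p A) (hA2 : p ^ 2 ≤ Nat.card A) (hG : (Nat.card G).Coprime p) :
    ∀ n, (pL p φ n).sup id = (⊤ : Subgroup G).lowerCentralSeries n
  | 0 => closure_pc0 hA hA2 hG
  | n + 1 => by
    rw [pL, sup_pStep hA hA2 hG (pL_inv hA n) (pc0_inv hA) (pL_refines n) (pL_refines_pc0 n),
      sup_pL hA hA2 hG n, closure_pc0 hA hA2 hG, Subgroup.lowerCentralSeries_succ]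

/-- The number of pieces. -/
def numD (Q : ℕ) : ℕ → ℕ
  | 0 => Q
  | n + 1 => numD Q n * numD Q n * Q

/-- The number of pieces. -/
def numL (Q : ℕ) : ℕ → ℕ
  | 0 => Q
  | n + 1 => numL Q n * Q * Q

theorem card_pc0_le : (pc0 p φ).card ≤ 2 ^ Nat.card A := by
  classical
  exact Finset.card_image_le.trans card_bigs_le

theorem card_pD_le : ∀ n, (pD p φ n).card ≤ numD (2 ^ Nat.card A) n
  | 0 => card_pc0_le
  | n + 1 => (card_pStep_le _ _).trans
      (Nat.mul_le_mul (Nat.mul_le_mul (card_pD_le n) (card_pD_le n)) card_bigs_le)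

theorem card_pL_le : ∀ n, (pL p φ n).card ≤ numL (2 ^ Nat.card A) n
  | 0 => card_pc0_le
  | n + 1 => (card_pStep_le _ _).trans
      (Nat.mul_le_mul (Nat.mul_le_mul (card_pL_le n) card_pc0_le) card_bigs_le)

theorem card_inf_ge (B C : Subgroup A) :
    Nat.card B * Nat.card C ≤ Nat.card A * Nat.card (B ⊓ C : Subgroup A) := by
  have h1 := HallCore.card_mul_relIndex (inf_le_left : B ⊓ C ≤ B)
  rw [Subgroup.inf_relIndex_left] at h1
  have h2 : C.relIndex B ≤ C.index := by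
    have := Subgroup.relIndex_le_of_le_right (H := C) (le_top : B ≤ ⊤)
      (by rw [Subgroup.relIndex_top_right]; exact Subgroup.index_ne_zero_of_finite)
    rwa [Subgroup.relIndex_top_right] at this
  have h3 := C.card_mul_index
  rw [← h1, ← h3]
  calc Nat.card (B ⊓ C : Subgroup A) * C.relIndex B * Nat.card C
      ≤ Nat.card (B ⊓ C : Subgroup A) * C.index * Nat.card C :=
        Nat.mul_le_mul_right _ (Nat.mul_le_mul_left _ h2)
    _ = _ := by ring

theorem gder_mono {U V : Subgroup G} (h : U ≤ V) : ∀ n, gder U n ≤ gder V n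
  | 0 => h
  | n + 1 => Subgroup.commutator_mono (gder_mono h n) (gder_mono h n)

theorem gder_le : ∀ (F : Subgroup G) (n : ℕ), gder F n ≤ F
  | _, 0 => le_rfl
  | F, n + 1 => (Subgroup.commutator_mono (gder_le F n) (gder_le F n)).trans (by
      rw [Subgroup.commutator_le]
      intro x hx y hy
      rw [commutatorElement_def]
      exact mul_mem (mul_mem (mul_mem hx hy) (inv_mem hx)) (inv_mem hy))

theorem lcs_mono {U V : Subgroup G} (h : U ≤ V) :
    ∀ n, U.lowerCentralSeries n ≤ V.lowerCentralSeries n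
  | 0 => h
  | n + 1 => Subgroup.commutator_mono (lcs_mono h n) h

theorem gder_le_lcs (F : Subgroup G) : ∀ n, gder F n ≤ F.lowerCentralSeries n
  | 0 => le_rfl
  | n + 1 => Subgroup.commutator_mono (gder_le_lcs F n) (gder_le F n)

theorem gder_add (F : Subgroup G) (a : ℕ) : ∀ b, gder F (a + b) = gder (gder F a) b
  | 0 => rfl
  | b + 1 => by rw [← Nat.add_assoc, gder, gder, gder_add F a b]

theorem gder_map {H : Type*} [Group H] (f : G →* H) (F : Subgroup G) :
    ∀ n, (gder F n).map f = gder (F.map f) n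
  | 0 => rfl
  | n + 1 => by rw [gder, Subgroup.map_commutator, gder_map f F n]; rfl

theorem derivedSeries_map_subtype (F : Subgroup G) :
    ∀ n, (derivedSeries F n).map F.subtype = gder F n
  | 0 => by rw [derivedSeries_zero, gder, ← MonoidHom.range_eq_map, Subgroup.range_subtype]
  | n + 1 => by rw [derivedSeries_succ, Subgroup.map_commutator, derivedSeries_map_subtype F n, gder]

theorem isSolvable_of_gder {F : Subgroup G} {s : ℕ} (h : gder F s = ⊥) : Group.IsSolvable F := by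
  refine ⟨⟨s, ?_⟩⟩
  rw [← Subgroup.map_eq_bot_iff_of_injective _ F.subtype_injective, derivedSeries_map_subtype, h]

/-- The two term functions. -/
structure Term (T : Subgroup G → Subgroup G) : Prop where
  mono : ∀ {U V : Subgroup G}, U ≤ V → T U ≤ T V
  map : ∀ (U : Subgroup G) (g : G),
    (T U).map (MulAut.conj g).toMonoidHom = T (U.map (MulAut.conj g).toMonoidHom)

theorem Term.le_normalizer {T : Subgroup G → Subgroup G} (hT : Term T) (F : Subgroup G) :
    F ≤ Subgroup.normalizer (T F : Set G) := by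
  refine Cfsg.Agent.LocalBasics.le_normalizer_of_conj fun x hx w hw => ?_
  have h : F.map (MulAut.conj x).toMonoidHom ≤ F := by
    rintro _ ⟨y, hy, rfl⟩
    exact mul_mem (mul_mem hx hy) (inv_mem hx)
  have h2 := hT.mono h
  rw [← hT.map] at h2
  exact h2 ⟨w, hw, rfl⟩

theorem term_gder (n : ℕ) : Term (G := G) fun F => gder F n :=
  ⟨fun h => gder_mono h n, fun U g => gder_map _ U n⟩

theorem term_lcs (n : ℕ) : Term (G := G) fun F => F.lowerCentralSeries n :=
  ⟨fun h => lcs_mono h n, fun U g => Subgroup.map_lowerCentralSeries _ _ n⟩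

theorem exists_pD_bound (hA : Elem p A) : ∀ n, ∀ P ∈ pD p φ n, ∃ B : Subgroup A,
    Nat.card A ≤ Nat.card B * p ^ 2 ^ n ∧ P ≤ gder (Fix φ B) n
  | 0, P, hP => by
    obtain ⟨B, hB, rfl⟩ := mem_pc0.1 hP
    exact ⟨B, by simpa [Big] using hB, le_rfl⟩
  | n + 1, P, hP => by
    obtain ⟨P₁, h₁, P₂, h₂, B, -, rfl⟩ := mem_pStep.1 hP
    obtain ⟨B₁, c₁, l₁⟩ := exists_pD_bound hA n P₁ h₁
    obtain ⟨B₂, c₂, l₂⟩ := exists_pD_bound hA n P₂ h₂
    refine ⟨B₁ ⊓ B₂, ?_, inf_le_left.trans (Subgroup.commutator_mono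
      (l₁.trans (gder_mono (Fix_anti inf_le_left) n))
      (l₂.trans (gder_mono (Fix_anti inf_le_right) n)))⟩
    have h := card_inf_ge B₁ B₂
    have hc := Nat.mul_le_mul c₁ c₂
    rw [pow_succ, mul_comm (2 ^ n) 2, two_mul, pow_add]
    refine Nat.le_of_mul_le_mul_left (le_trans hc ?_) (Nat.card_pos (α := A))
    calc Nat.card B₁ * p ^ 2 ^ n * (Nat.card B₂ * p ^ 2 ^ n)
        = (Nat.card B₁ * Nat.card B₂) * (p ^ 2 ^ n * p ^ 2 ^ n) := by ring
      _ ≤ (Nat.card A * Nat.card (B₁ ⊓ B₂ : Subgroup A)) * (p ^ 2 ^ n * p ^ 2 ^ n) :=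
          Nat.mul_le_mul_right _ h
      _ = _ := by ring

theorem exists_pL_bound (hA : Elem p A) : ∀ n, ∀ P ∈ pL p φ n, ∃ B : Subgroup A,
    Nat.card A ≤ Nat.card B * p ^ (n + 1) ∧ P ≤ (Fix φ B).lowerCentralSeries n
  | 0, P, hP => by
    obtain ⟨B, hB, rfl⟩ := mem_pc0.1 hP
    exact ⟨B, by simpa [Big] using hB, le_rfl⟩
  | n + 1, P, hP => by
    obtain ⟨P₁, h₁, P₂, h₂, B, -, rfl⟩ := mem_pStep.1 hP
    obtain ⟨B₁, c₁, l₁⟩ := exists_pL_bound hA n P₁ h₁
    obtain ⟨B₂, c₂, rfl⟩ := mem_pc0.1 h₂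
    refine ⟨B₁ ⊓ B₂, ?_, inf_le_left.trans (Subgroup.commutator_mono
      (l₁.trans (lcs_mono (Fix_anti inf_le_left) n)) (Fix_anti inf_le_right))⟩
    have h := card_inf_ge B₁ B₂
    have hc := Nat.mul_le_mul c₁ (c₂ : Nat.card A ≤ Nat.card B₂ * p)
    refine Nat.le_of_mul_le_mul_left (le_trans hc ?_) (Nat.card_pos (α := A))
    calc Nat.card B₁ * p ^ (n + 1) * (Nat.card B₂ * p)
        = (Nat.card B₁ * Nat.card B₂) * (p ^ (n + 1 + 1)) := by rw [pow_succ p (n + 1)]; ring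
      _ ≤ (Nat.card A * Nat.card (B₁ ⊓ B₂ : Subgroup A)) * (p ^ (n + 1 + 1)) :=
          Nat.mul_le_mul_right _ h
      _ = _ := by ring

/-- The conclusion from a family of pieces attached to a term function. -/
theorem lcs_eq_bot_of_family {k e c n N : ℕ} (hA : Elem p A) (hk : Nat.card A = p ^ k) (hk3 : 3 ≤ k)
    (he : e + 2 ≤ k) (hG : (Nat.card G).Coprime p) {T : Subgroup G → Subgroup G} (hT : Term T)
    (hTn : ∀ F, gder F n ≤ T F) (hTle : ∀ F, T F ≤ F)
    {Ps : Finset (Subgroup G)} (hinv : ∀ P ∈ Ps, Inv φ P)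
    (hfix : ∀ P ∈ Ps, ∃ B, Big p B ∧ P ≤ Fix φ B)
    (hclosed : Refines (pStep p φ Ps Ps) Ps)
    (hbound : ∀ P ∈ Ps, ∃ B : Subgroup A, Nat.card A ≤ Nat.card B * p ^ e ∧ P ≤ T (Fix φ B))
    (hN : Ps.card ≤ N)
    (hc : ∀ a : A, a ≠ 1 → (T (Fix φ (Subgroup.zpowers a))).lowerCentralSeries c = ⊥) :
    (Ps.sup id).lowerCentralSeries (classBound p c (n + c) N) = ⊥ := by
  classical
  have hA2 : p ^ 2 ≤ Nat.card A := hk ▸ Nat.pow_le_pow_right hp.1.pos (by omega)
  have hA3 : p ^ 3 ≤ Nat.card A := hk ▸ Nat.pow_le_pow_right hp.1.pos hk3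
  have hS : Sys p c φ Ps := by
    refine ⟨hinv, hfix, fun P hP Q hQ B hB => hclosed _ (mem_pStep.2 ⟨P, hP, Q, hQ, B, hB, rfl⟩),
      fun P hP B hB => ?_⟩
    obtain ⟨B', hB', hPB⟩ := hbound P hP
    obtain ⟨a, ha, ha1⟩ : ∃ a ∈ B' ⊓ B, a ≠ 1 := by
      by_contra hcon
      push Not at hcon
      have h1 := card_inf_ge B' B
      rw [(Subgroup.eq_bot_iff_forall _).2 hcon, Subgroup.card_bot, mul_one] at h1
      have h2 : Nat.card A * Nat.card A ≤ Nat.card A * (p ^ e * p) :=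
        calc Nat.card A * Nat.card A ≤ (Nat.card B' * p ^ e) * (Nat.card B * p) :=
              Nat.mul_le_mul hB' hB
          _ = (Nat.card B' * Nat.card B) * (p ^ e * p) := by ring
          _ ≤ Nat.card A * (p ^ e * p) := Nat.mul_le_mul_right _ h1
      have h3 := Nat.le_of_mul_le_mul_left h2 Nat.card_pos
      rw [hk, ← pow_succ] at h3
      have := (Nat.pow_le_pow_iff_right hp.1.one_lt).1 h3
      omega
    refine ⟨T (Fix φ (Subgroup.zpowers a)),
      hPB.trans (hT.mono (Fix_anti (Subgroup.zpowers_le.2 ha.1))), hc a ha1, ?_⟩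
    exact (Fix_anti (Subgroup.zpowers_le.2 ha.2)).trans (hT.le_normalizer _)
  set R := Ps.sup id with hRdef
  have hR : Inv φ R := by
    intro a
    have h : R ≤ R.comap (φ a).toMonoidHom := Finset.sup_le fun P hP x hx =>
      Finset.le_sup (f := id) hP (hinv P hP a x hx)
    exact fun x hx => h hx
  have hRcop : (Nat.card R).Coprime p :=
    Nat.Coprime.coprime_dvd_left (Subgroup.card_subgroup_dvd_card R) hG
  have hgen : Subgroup.closure
      (⋃ (P : Subgroup R) (_ : P ∈ Ps.image (fun P => P.subgroupOf R)), (P : Set R)) = ⊤ := by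
    refine eq_top_iff.2 fun z _ => ?_
    have h : R ≤ (Subgroup.closure
        (⋃ (P : Subgroup R) (_ : P ∈ Ps.image (fun P => P.subgroupOf R)), (P : Set R))).map
          R.subtype := by
      refine Finset.sup_le fun P hP w hw => ?_
      exact ⟨⟨w, Finset.le_sup (f := id) hP hw⟩,
        Subgroup.subset_closure (Set.mem_iUnion₂.2 ⟨_, Finset.mem_image_of_mem _ hP, hw⟩), rfl⟩
    obtain ⟨w, hw, e⟩ := h z.2
    rwa [Subtype.ext e] at hw
  have hder : ∀ a : A, a ≠ 1 → gder (Fix (resAct φ hR) (Subgroup.zpowers a)) (n + c) = ⊥ := by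
    intro a ha
    rw [← Subgroup.map_eq_bot_iff_of_injective _ R.subtype_injective, gder_map, ← le_bot_iff]
    refine (gder_mono (V := Fix φ (Subgroup.zpowers a)) ?_ _).trans ?_
    · rw [Fix_resAct]
      exact Subgroup.map_comap_le _ _
    · rw [gder_add]
      exact ((gder_mono (hTn _) c).trans (gder_le_lcs _ c)).trans (hc a ha).le
  haveI : Group.IsNilpotent R :=
    isNilpotent_of_sys (hS.restrict hR) hA hA3 hRcop (fun a ha => isSolvable_of_gder (hder a ha)) hgen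
  obtain ⟨a, ha⟩ : ∃ a : A, a ≠ 1 := by
    haveI : Nontrivial A := Finite.one_lt_card_iff_nontrivial.1 (by
      rw [hk]; exact Nat.one_lt_pow (by omega) hp.1.one_lt)
    exact exists_ne 1
  have h := lc_eq_bot (hS.restrict hR) hA hA2 hRcop hgen
    (Finset.card_image_le.trans hN) (hder a ha)
  rw [← Subgroup.top_subtype_lowerCentralSeries, h, Subgroup.map_bot]

end Cfsg.Agent.CoprimePieces99

namespace Cfsg.Agent.CoprimePieces99

theorem eqLocus_eq_Fix {G : Type*} [Group G] (A : Subgroup (MulAut G)) (a : A) :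
    ((a : MulAut G)).toMonoidHom.eqLocus (MonoidHom.id G) = Fix A.subtype (Subgroup.zpowers a) := by
  ext x
  refine ⟨fun h => ?_, fun h => h a (Subgroup.mem_zpowers a)⟩
  let F : Subgroup A :=
    { carrier := {b | (b : MulAut G) x = x}
      one_mem' := rfl
      mul_mem' := fun {b c} (hb : (b : MulAut G) x = x) (hc : (c : MulAut G) x = x) => by
        show ((b : MulAut G) * c) x = x
        rw [MulAut.mul_apply, hc, hb]
      inv_mem' := fun {b} (hb : (b : MulAut G) x = x) => by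
        show (b : MulAut G)⁻¹ x = x
        conv_lhs => rw [← hb]
        rw [← MulAut.mul_apply, inv_mul_cancel]; rfl }
  exact fun b hb => (Subgroup.zpowers_le.2 (show a ∈ F from h)) hb

theorem elem_of_isElementaryAbelian {H : Type*} [Group H] {p : ℕ} {A : Subgroup H}
    (hA : Cfsg.IsElementaryAbelian p A) : Elem p A :=
  ⟨fun a b => hA.1.is_comm.comm a b, fun a => Subtype.ext (hA.2 a a.2)⟩

theorem lcs_lcs_map {G : Type*} [Group G] (F : Subgroup G) (U : Subgroup F) (c : ℕ)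
    (h : U.lowerCentralSeries c = ⊥) : (U.map F.subtype).lowerCentralSeries c = ⊥ := by
  rw [← Subgroup.map_lowerCentralSeries, h, Subgroup.map_bot]

end Cfsg.Agent.CoprimePieces99
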