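import Mathlib
import Cfsg.Prelude.Def_PLocal
import Cfsg.Prelude.Def_Local
import Cfsg.Agent.Lib.Offenders
import Cfsg.Agent.Lib.QuadraticSL2
import Cfsg.Agent.Lib.QuadraticRep
import Cfsg.Agent.Lib.QuadraticGroup
import Cfsg.Agent.Lib.QuadraticMain
import Cfsg.Agent.Lib.QuadraticDickson
import Cfsg.Agent.Lib.BaerSuzuki
import Cfsg.Agent.Lib.HallCore

/-!
A failure of `p`-stability (`p` odd) produces a section `SL(2,p)`, and with the module a section
`Qd(p)`.
-/

set_option autoImplicit false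

open scoped MatrixGroups commutatorElement

namespace Cfsg.Agent.QuadraticQd

open Cfsg QuadraticRep QuadraticMain

variable {p : ℕ} [Fact p.Prime]

section rep

variable {H : Type*} [Group H] [Finite H] {M : Type*} [AddCommGroup M] [Module (ZMod p) M]
  [Finite M] (ρ : H →* Module.End (ZMod p) M)

/-- Baer–Suzuki: a quadratic element outside `O_p` generates a non-`p`-group with a conjugate. -/
theorem exists_pair (hρ : Function.Injective ρ) {a : H} (ha : (ρ a - 1) * (ρ a - 1) = 0)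
    (hna : a ∉ pCore p H) : ∃ h : H, ¬ IsPGroup p (Subgroup.closure ({a, h * a * h⁻¹} : Set H)) := by
  have hX : IsPGroup p (Subgroup.zpowers a) := fun x => ⟨1, Subtype.ext (by
    obtain ⟨i, hi⟩ := x.2
    rw [pow_one, SubmonoidClass.coe_pow, ← hi, ← zpow_natCast, ← zpow_mul, mul_comm, zpow_mul,
      zpow_natCast, pow_eq_one_of_quad ρ hρ ha, one_zpow]; rfl)⟩
  by_contra hno
  push Not at hno
  obtain ⟨N, hN, hNp, hXN⟩ := BaerSuzuki.exists_normal_pGroup_of_pairs _ hX fun h => by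
    refine (hno h).to_le (sup_le (Subgroup.zpowers_le.2 (Subgroup.subset_closure (Or.inl rfl))) ?_)
    rw [MonoidHom.map_zpowers]
    exact Subgroup.zpowers_le.2 (Subgroup.subset_closure (Or.inr rfl))
  haveI := hN
  exact hna (pCore_mem_of_normal hNp (hXN (Subgroup.mem_zpowers a)))

/-- The data extracted from a quadratic element outside `O_p`. -/
theorem exists_data (hp : p ≠ 2) (hρ : Function.Injective ρ) {a : H}
    (ha : (ρ a - 1) * (ρ a - 1) = 0) (hna : a ∉ pCore p H) :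
    ∃ (K : Subgroup H) (θ : K →* SL(2, ZMod p)) (W : Submodule (ZMod p) M)
      (η : W →+ (Fin 2 → ZMod p)), Function.Surjective θ ∧ Function.Surjective η ∧
      ∀ (x : K) (w : W), ∃ hm : ρ (x : H) w ∈ W, η ⟨ρ (x : H) w, hm⟩ = (θ x).1.mulVec (η w) := by
  obtain ⟨h, hnp⟩ := exists_pair ρ hρ ha hna
  set b := h * a * h⁻¹ with hb
  set K₀ := Subgroup.closure ({a, b} : Set H) with hK₀
  obtain ⟨g, hg, hco⟩ := exists_coprime_elt hnp
  obtain ⟨I, W₀, Ψ, hΨs, hΨ⟩ := exists_image_factor (QuadraticGroup.closure_pair a b)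
    (ρ.comp K₀.subtype) (hρ.comp K₀.subtype_injective) ha (quad_conj ρ h ha) hg hco
  have hA : QuadraticDickson.up I.c ∈ I.φ.range := ⟨_, Subtype.ext I.ha⟩
  have hB : QuadraticDickson.lo (1 : I.F) ∈ I.φ.range := ⟨_, Subtype.ext I.hb⟩
  obtain ⟨u, hu⟩ := QuadraticDickson.exists_sl2 hp I.φ.range I.hc one_ne_zero hA hB
  let cast : ZMod p →+* I.F := ZMod.castHom (dvd_refl p) I.F
  set ψ := (QuadraticDickson.conjSL u).comp (Matrix.SpecialLinearGroup.map cast) with hψ
  have hψi : Function.Injective ψ := by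
    refine (QuadraticDickson.conjSL_injective u).comp fun s t h => ?_
    ext i j
    exact cast.injective (congrArg (fun m : SL(2, I.F) => m.1 i j) h)
  let ι : (Fin 2 → ZMod p) →+ (Fin 2 → I.F) :=
    { toFun := fun w => u.1.mulVec (cast ∘ w)
      map_zero' := by
        rw [show cast ∘ (0 : Fin 2 → ZMod p) = 0 from funext fun _ => map_zero cast,
          Matrix.mulVec_zero]
      map_add' := fun v w => by
        rw [show cast ∘ (v + w) = cast ∘ v + cast ∘ w from funext fun _ => map_add cast _ _,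
          Matrix.mulVec_add] }
  have hι : Function.Injective ι := by
    intro v w h
    have h' := congrArg (fun z => (u⁻¹).1.mulVec z) h
    simp only [ι, AddMonoidHom.coe_mk, ZeroHom.coe_mk, Matrix.mulVec_mulVec, ← Units.val_mul,
      inv_mul_cancel, Units.val_one, Matrix.one_mulVec] at h'
    exact funext fun i => cast.injective (congrFun h' i)
  have hιψ : ∀ s v, (ψ s).1.mulVec (ι v) = ι (s.1.mulVec v) := by
    intro s v
    show (u.1 * (Matrix.SpecialLinearGroup.map cast s).1 * (u⁻¹).1).mulVec (u.1.mulVec (cast ∘ v)) =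
      u.1.mulVec (cast ∘ s.1.mulVec v)
    rw [Matrix.mulVec_mulVec, mul_assoc, ← Units.val_mul, inv_mul_cancel, Units.val_one, mul_one,
      ← Matrix.mulVec_mulVec]
    congr 1
    funext i
    exact (RingHom.map_mulVec cast s.1 v i).symm
  -- the subgroup over `SL(2,p)` and the submodule over the plane
  let K₁ : Subgroup K₀ := ψ.range.comap I.φ
  let θ₁ : K₁ →* SL(2, ZMod p) := (MonoidHom.ofInjective hψi).symm.toMonoidHom.comp
    (MonoidHom.mk' (fun x : K₁ => (⟨I.φ x.1, x.2⟩ : ψ.range))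
      (fun x y => Subtype.ext (map_mul I.φ _ _)))
  have hθ₁ : ∀ x : K₁, ψ (θ₁ x) = I.φ x.1 := fun x =>
    congrArg Subtype.val ((MonoidHom.ofInjective hψi).apply_symm_apply
      (⟨I.φ x.1, x.2⟩ : ψ.range))
  let eK := K₁.equivMapOfInjective K₀.subtype K₀.subtype_injective
  let T : Submodule (ZMod p) W₀ := AddSubgroup.toZModSubmodule p (ι.range.comap Ψ)
  let eW := Submodule.equivMapOfInjective W₀.subtype W₀.subtype_injective T
  let η₀ : T →+ (Fin 2 → ZMod p) := (AddMonoidHom.ofInjective hι).symm.toAddMonoidHom.comp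
    (AddMonoidHom.mk' (fun w : T => (⟨Ψ w.1, w.2⟩ : ι.range))
      (fun x y => Subtype.ext (map_add Ψ _ _)))
  have hη₀ : ∀ w : T, ι (η₀ w) = Ψ w.1 := fun w =>
    congrArg Subtype.val ((AddMonoidHom.ofInjective hι).apply_symm_apply
      (⟨Ψ w.1, w.2⟩ : ι.range))
  have hact : ∀ (x : K₁) (w : T), ∃ (hm : ρ ((x.1 : K₀) : H) (w.1 : M) ∈ W₀)
      (hm' : (⟨ρ ((x.1 : K₀) : H) (w.1 : M), hm⟩ : W₀) ∈ T),
      η₀ ⟨_, hm'⟩ = (θ₁ x).1.mulVec (η₀ w) := by
    intro x w
    obtain ⟨hm, hx⟩ := hΨ x.1 w.1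
    have e : Ψ ⟨ρ ((x.1 : K₀) : H) (w.1 : M), hm⟩ = ι ((θ₁ x).1.mulVec (η₀ w)) := by
      rw [← hιψ, hθ₁, hη₀]; exact hx
    exact ⟨hm, ⟨_, e.symm⟩, hι (by rw [hη₀]; exact e)⟩
  refine ⟨K₁.map K₀.subtype, θ₁.comp eK.symm.toMonoidHom, T.map W₀.subtype,
    η₀.comp eW.symm.toAddEquiv.toAddMonoidHom, ?_, ?_, ?_⟩
  · refine Function.Surjective.comp (g := θ₁) ?_ eK.symm.surjective
    intro s
    obtain ⟨y, hy⟩ := hu ⟨s, rfl⟩
    exact ⟨⟨y, ⟨s, hy.symm⟩⟩, hψi (by rw [hθ₁]; exact hy)⟩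
  · refine Function.Surjective.comp (g := η₀) ?_ eW.symm.surjective
    intro v
    obtain ⟨w, hw⟩ := hΨs (ι v)
    exact ⟨⟨w, ⟨v, hw.symm⟩⟩, hι (by rw [hη₀]; exact hw)⟩
  · intro x w
    obtain ⟨x, rfl⟩ := eK.surjective x
    obtain ⟨w, rfl⟩ := eW.surjective w
    obtain ⟨hm, hm', e⟩ := hact x w
    refine ⟨⟨_, hm', rfl⟩, ?_⟩
    show η₀ (eW.symm _) = (θ₁ (eK.symm (eK x))).1.mulVec (η₀ (eW.symm (eW w)))
    rw [eK.symm_apply_apply, eW.symm_apply_apply, ← e]
    exact congrArg η₀ (eW.injective (by rw [eW.apply_symm_apply]; exact Subtype.ext rfl))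

/-- A quadratic element outside `O_p` gives a section `SL(2,p)`. -/
theorem section_sl2 (hp : p ≠ 2) (hρ : Function.Injective ρ) {a : H}
    (ha : (ρ a - 1) * (ρ a - 1) = 0) (hna : a ∉ pCore p H) : HasSection H SL(2, ZMod p) := by
  obtain ⟨K, θ, W, η, hθ, -⟩ := exists_data ρ hp hρ ha hna
  exact ⟨K, θ, hθ⟩

end rep

theorem hasSection_lift {G X Y : Type*} [Group G] [Group X] [Group Y] {f : G →* X}
    (hf : Function.Surjective f) (h : HasSection X Y) : HasSection G Y := by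
  obtain ⟨K, ψ, hψ⟩ := h
  refine ⟨K.comap f, ψ.comp (MonoidHom.mk' (fun x => (⟨f x.1, x.2⟩ : K))
    (fun x y => Subtype.ext (map_mul f _ _))), hψ.comp ?_⟩
  rintro ⟨y, hy⟩
  obtain ⟨g, rfl⟩ := hf y
  exact ⟨⟨g, hy⟩, rfl⟩

/-- A section in the form of the statements. -/
theorem exists_section {G Y : Type*} [Group G] [Group Y] (h : HasSection G Y) :
    ∃ (K L : Subgroup G) (hL : (L.subgroupOf K).Normal),
      Nonempty ((K ⧸ L.subgroupOf K) ≃* Y) := by
  obtain ⟨K, ψ, hψ⟩ := h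
  have e : (ψ.ker.map K.subtype).subgroupOf K = ψ.ker :=
    Subgroup.comap_map_eq_self_of_injective K.subtype_injective _
  haveI hN : ((ψ.ker.map K.subtype).subgroupOf K).Normal := by
    rw [e]; exact MonoidHom.normal_ker ψ
  exact ⟨K, _, hN, ⟨(QuotientGroup.quotientMulEquivOfEq e).trans
    (QuotientGroup.quotientKerEquivOfSurjective ψ hψ)⟩⟩

/-- The affine matrix with linear part `s` and translation part `w`. -/
def affine (s : SL(2, ZMod p)) (w : Fin 2 → ZMod p) : SL(3, ZMod p) :=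
  ⟨!![s.1 0 0, s.1 0 1, w 0; s.1 1 0, s.1 1 1, w 1; 0, 0, 1], by
    have hs : s.1 0 0 * s.1 1 1 - s.1 0 1 * s.1 1 0 = 1 := by
      rw [← Matrix.det_fin_two]; exact s.2
    simp [Matrix.det_fin_three]
    linear_combination hs⟩

theorem affine_mul (s t : SL(2, ZMod p)) (v w : Fin 2 → ZMod p) :
    affine s v * affine t w = affine (s * t) (v + s.1.mulVec w) := by
  apply Subtype.ext
  ext i j
  rw [Matrix.SpecialLinearGroup.coe_mul]
  fin_cases i <;> fin_cases j <;>
    simp [affine, Matrix.mul_apply, Fin.sum_univ_three, Fin.sum_univ_two, Matrix.mulVec,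
      dotProduct, Matrix.SpecialLinearGroup.coe_mul] <;> ring

theorem affine_mem (s : SL(2, ZMod p)) (w : Fin 2 → ZMod p) : affine s w ∈ qd p :=
  Subgroup.subset_closure ⟨by simp [affine], by simp [affine], by simp [affine]⟩

theorem mem_eq_affine {M : SL(3, ZMod p)} (h0 : M.1 2 0 = 0) (h1 : M.1 2 1 = 0)
    (h2 : M.1 2 2 = 1) : ∃ s w, M = affine s w := by
  refine ⟨⟨!![M.1 0 0, M.1 0 1; M.1 1 0, M.1 1 1], ?_⟩, ![M.1 0 2, M.1 1 2], ?_⟩
  · have := M.2
    rw [Matrix.det_fin_three, h0, h1, h2] at this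
    rw [Matrix.det_fin_two_of]
    linear_combination this
  · apply Subtype.ext
    ext i j
    fin_cases i <;> fin_cases j <;> simp [affine, h0, h1, h2]

/-- A group acting as `SL(2,p)` on a plane section of a `p`-subgroup gives a section `Qd(p)`. -/
theorem hasSection_qd {G : Type*} [Group G] [Finite G] (hp : p ≠ 2) (U L : Subgroup G)
    (hUp : IsPGroup p U) (hnorm : ∀ x ∈ L, ∀ u ∈ U, x * u * x⁻¹ ∈ U)
    (θ : L →* SL(2, ZMod p)) (hθ : Function.Surjective θ) (η : U → Fin 2 → ZMod p)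
    (hadd : ∀ u v : U, η (u * v) = η u + η v) (hη : Function.Surjective η)
    (heq : ∀ (x : L) (u : U), η ⟨x * u * (x : G)⁻¹, hnorm x x.2 u u.2⟩ = (θ x).1.mulVec (η u)) :
    HasSection G (qd p) := by
  have h2 := QuadraticSL2.two_ne_zero' (F := ZMod p) hp
  have hη1 : η 1 = 0 := by simpa using hadd 1 1
  have hηinv : ∀ u : U, η u⁻¹ = -η u := fun u =>
    eq_neg_of_add_eq_zero_left (by rw [← hadd, inv_mul_cancel, hη1])
  -- a 2-element over the central involution
  obtain ⟨z, hz⟩ := hθ (-1)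
  obtain ⟨e, m, hm, hzm⟩ :=
    Nat.exists_eq_pow_mul_and_not_dvd (orderOf_pos z).ne' 2 (by norm_num)
  have hmo : Odd m := Nat.odd_iff.2 (by omega)
  set t := z ^ m with htd
  have ht : θ t = -1 := by rw [htd, map_pow, hz, hmo.neg_one_pow]
  have hto : t ^ 2 ^ e = 1 := by rw [htd, ← pow_mul, mul_comm, ← hzm, pow_orderOf_eq_one]
  set Z := (Subgroup.center SL(2, ZMod p)).comap θ with hZ
  haveI : Z.Normal := Subgroup.Normal.comap inferInstance θ
  have htZ : t ∈ Z := by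
    show θ t ∈ Subgroup.center _
    rw [ht]
    exact Subgroup.mem_center_iff.2 fun g => by simp
  haveI : Fact (Nat.Prime 2) := ⟨Nat.prime_two⟩
  obtain ⟨T, hT⟩ : ∃ T : Sylow 2 Z, Subgroup.zpowers (⟨t, htZ⟩ : Z) ≤ (T : Subgroup Z) := by
    refine IsPGroup.exists_le_sylow fun x => ⟨e, ?_⟩
    obtain ⟨i, hi⟩ := x.2
    refine Subtype.ext (Subtype.ext ?_)
    simp only [SubmonoidClass.coe_pow, ← hi, Subgroup.coe_zpow, OneMemClass.coe_one]
    rw [← zpow_natCast, ← zpow_mul, mul_comm, zpow_mul, zpow_natCast, hto, one_zpow]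
  set T' := (T : Subgroup Z).map Z.subtype with hT'
  set N := Subgroup.normalizer (T' : Set L) with hN
  have hfr : N ⊔ Z = ⊤ := T.normalizer_sup_eq_top
  have htT : t ∈ T' := ⟨⟨t, htZ⟩, hT (Subgroup.mem_zpowers _), rfl⟩
  have hcent : ∀ c ∈ Subgroup.center SL(2, ZMod p), c ∈ N.map θ := by
    intro c hc
    obtain ⟨r, hr, hrc⟩ := Matrix.SpecialLinearGroup.mem_center_iff.1 hc
    have hr' : r * r = 1 := by simpa [sq] using hr
    rcases mul_self_eq_one_iff.1 hr' with rfl | rfl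
    · rw [show c = 1 from Subtype.ext (by rw [← hrc, map_one]; rfl)]
      exact one_mem _
    · refine ⟨t, Subgroup.le_normalizer htT, ?_⟩
      rw [ht]
      exact Subtype.ext (by
        rw [← hrc, map_neg, map_one, Matrix.SpecialLinearGroup.coe_neg,
          Matrix.SpecialLinearGroup.coe_one])
  have hNs : ∀ s, ∃ x ∈ N, θ x = s := by
    intro s
    obtain ⟨y, rfl⟩ := hθ s
    have hy : y ∈ N ⊔ Z := hfr ▸ Subgroup.mem_top y
    rw [← SetLike.mem_coe, Subgroup.mul_normal] at hy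
    obtain ⟨x, hx, c, hc, rfl⟩ := hy
    obtain ⟨x', hx', hθx⟩ := hcent (θ c) hc
    exact ⟨x * x', mul_mem hx hx', by rw [map_mul, map_mul, hθx]⟩
  -- intersection with `U`
  have hint : ∀ (u : U) (x : L), (u : G) = x → θ x = 1 ∧ (x ∈ N → η u = 0) := by
    intro u x hux
    have hx1 : θ x = 1 := by
      apply Subtype.ext
      refine Matrix.ext_of_mulVec_single fun i => ?_
      obtain ⟨v, hv⟩ := hη (Pi.single i 1)
      have e1 : (⟨(x : G) * v * (x : G)⁻¹, hnorm x x.2 v v.2⟩ : U) = u * v * u⁻¹ :=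
        Subtype.ext (by simp [hux])
      have e2 := heq x v
      rw [e1, hadd, hadd, hηinv, hv] at e2
      rw [← e2, Matrix.SpecialLinearGroup.coe_one, Matrix.one_mulVec]
      abel
    refine ⟨hx1, fun hxN => ?_⟩
    have hcU : (x : G) * t * (x : G)⁻¹ * (t : G)⁻¹ ∈ U := by
      rw [mul_assoc (x : G), mul_assoc (x : G), ← hux]
      exact mul_mem u.2 (hnorm t t.2 _ (inv_mem u.2))
    have hcT : x * t * x⁻¹ * t⁻¹ ∈ T' :=
      mul_mem ((Subgroup.mem_normalizer_iff.1 hxN t).1 htT) (inv_mem htT)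
    obtain ⟨j, hj⟩ := hUp ⟨_, hcU⟩
    obtain ⟨y, hy, hye⟩ := hcT
    obtain ⟨k, hk⟩ := T.isPGroup' ⟨y, hy⟩
    have hk' : ((x : G) * t * (x : G)⁻¹ * (t : G)⁻¹) ^ 2 ^ k = 1 := by
      have h1 : (y : L) ^ 2 ^ k = 1 := congrArg (fun w : (T : Subgroup Z) => ((w : Z) : L)) hk
      have h2 : ((y : L) : G) ^ 2 ^ k = 1 := by rw [← SubmonoidClass.coe_pow, h1]; rfl
      rwa [show ((y : L) : G) = _ from congrArg Subtype.val hye] at h2
    have hc1 : (x : G) * t * (x : G)⁻¹ * (t : G)⁻¹ = 1 :=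
      orderOf_eq_one_iff.1 (Nat.eq_one_of_dvd_coprimes
        (Nat.Coprime.pow _ _ ((Nat.coprime_primes Fact.out Nat.prime_two).2 hp))
        (orderOf_dvd_of_pow_eq_one (congrArg Subtype.val hj)) (orderOf_dvd_of_pow_eq_one hk'))
    have hcm : (t : G) * u * (t : G)⁻¹ = u := by
      rw [hux]
      calc (t : G) * x * (t : G)⁻¹ =
            ((x : G) * t * (x : G)⁻¹ * (t : G)⁻¹)⁻¹ * x := by group
        _ = x := by rw [hc1, inv_one, one_mul]
    have h := heq t u
    rw [show (⟨(t : G) * u * (t : G)⁻¹, hnorm t t.2 u u.2⟩ : U) = u from Subtype.ext hcm, ht,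
      Matrix.SpecialLinearGroup.coe_neg, Matrix.SpecialLinearGroup.coe_one, Matrix.neg_mulVec,
      Matrix.one_mulVec] at h
    funext i
    have h' : η u i = -η u i := congrFun h i
    exact (mul_eq_zero.1 (show (2 : ZMod p) * η u i = 0 by linear_combination h')).resolve_left h2
  -- the product `U N`
  set N' := N.map L.subtype with hN'
  have hle : N' ≤ Subgroup.normalizer (U : Set G) := by
    rintro _ ⟨x, hx, rfl⟩
    refine Subgroup.mem_normalizer_iff.2 fun v => ⟨hnorm x x.2 v, fun hv => ?_⟩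
    have := hnorm _ (x⁻¹ : L).2 _ hv
    simpa [mul_assoc] using this
  have hdec : ∀ w : ↥(U ⊔ N'), ∃ (u : U) (x : L), x ∈ N ∧ (w : G) = u * x := by
    intro w
    have hw := w.2
    rw [← SetLike.mem_coe, Subgroup.coe_mul_of_right_le_normalizer_left U N' hle] at hw
    obtain ⟨u, hu, _, ⟨x, hx, rfl⟩, h⟩ := hw
    exact ⟨⟨u, hu⟩, x, hx, h.symm⟩
  choose du dx hdx hd using hdec
  have hwell : ∀ (u u' : U) (x x' : L), x ∈ N → x' ∈ N → (u : G) * x = u' * x' →
      affine (θ x) (η u) = affine (θ x') (η u') := by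
    intro u u' x x' hx hx' h
    have e : ((u'⁻¹ * u : U) : G) = ((x' * x⁻¹ : L) : G) := by
      rw [Subgroup.coe_mul, Subgroup.coe_mul, Subgroup.coe_inv, Subgroup.coe_inv,
        eq_mul_inv_iff_mul_eq, mul_assoc, h, inv_mul_cancel_left]
    obtain ⟨h1, h3⟩ := hint _ _ e
    have h3' := h3 (mul_mem hx' (inv_mem hx))
    rw [hadd, hηinv, neg_add_eq_zero] at h3'
    rw [map_mul, map_inv, mul_inv_eq_one] at h1
    rw [h1, h3']
  let f : ↥(U ⊔ N') →* ↥(qd p) := MonoidHom.mk'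
    (fun w => ⟨affine (θ (dx w)) (η (du w)), affine_mem _ _⟩) fun v w => Subtype.ext (by
      show affine _ _ = affine _ _ * affine _ _
      rw [affine_mul, ← heq, ← hadd, ← map_mul]
      refine hwell _ _ _ _ (hdx _) (mul_mem (hdx _) (hdx _)) ?_
      rw [← hd, Subgroup.coe_mul, Subgroup.coe_mul, Subgroup.coe_mul, hd v, hd w]
      group)
  have hf : ∀ (u : U) (x : L) (hx : x ∈ N), ∃ w : ↥(U ⊔ N'),
      (f w : SL(3, ZMod p)) = affine (θ x) (η u) := fun u x hx =>
    ⟨⟨u * x, mul_mem (Subgroup.mem_sup_left u.2) (Subgroup.mem_sup_right ⟨x, hx, rfl⟩)⟩,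
      hwell _ _ _ _ (hdx _) hx (hd _).symm⟩
  refine ⟨U ⊔ N', f, ?_⟩
  have hr : qd p ≤ ((qd p).subtype.comp f).range := by
    refine (Subgroup.closure_le _).2 ?_
    rintro M ⟨h0, h1, h22⟩
    obtain ⟨s, w, rfl⟩ := mem_eq_affine h0 h1 h22
    obtain ⟨x, hx, rfl⟩ := hNs s
    obtain ⟨u, rfl⟩ := hη w
    obtain ⟨y, hy⟩ := hf u x hx
    exact ⟨y, hy⟩
  intro y
  obtain ⟨w, hw⟩ := hr y.2
  exact ⟨w, Subtype.ext hw⟩

section stable

variable {G : Type*} [Group G] [Finite G]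

/-- Failure of stability on a normal elementary abelian subgroup gives a section `SL(2,p)`. -/
theorem isPStableOn_of_sl2_free (hp : p ≠ 2) (hfree : ¬ HasSection G SL(2, ZMod p))
    (V : Subgroup G) [V.Normal] (hV : IsElementaryAbelian p V) : IsPStableOn p V := by
  intro a ha
  by_contra hna
  obtain ⟨i1, i2, ρ, hρ, hq⟩ := exists_rep_quotient V hV
  letI := i1
  letI := i2
  exact hfree (hasSection_lift (QuotientGroup.mk'_surjective _)
    (section_sl2 ρ hp hρ (hq a ha) hna))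

theorem qd_of_module {M : Type*} [AddCommGroup M] [Module (ZMod p) M] (hp : p ≠ 2)
    (V : Subgroup G) [V.Normal] (hVp : IsPGroup p V)
    (ε : V ≃ M) (hε : ∀ x y : V, ε (x * y) = ε x + ε y)
    (ρ : (G ⧸ Subgroup.centralizer (V : Set G)) →* Module.End (ZMod p) M)
    (hconj : ∀ (g : G) (v : V), ((ε.symm (ρ g (ε v)) : V) : G) = g * v * g⁻¹)
    (K : Subgroup (G ⧸ Subgroup.centralizer (V : Set G))) (θ : K →* SL(2, ZMod p))
    (W : Submodule (ZMod p) M) (η : W →+ (Fin 2 → ZMod p)) (hθ : Function.Surjective θ)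
    (hη : Function.Surjective η) (heq : ∀ (x : K) (w : W), ∃ hm : ρ (x : _) w ∈ W,
      η ⟨ρ (x : _) w, hm⟩ = (θ x).1.mulVec (η w)) : HasSection G (qd p) := by
  let ν : V →* Multiplicative M :=
    MonoidHom.mk' (fun x => Multiplicative.ofAdd (ε x))
      fun x y => congrArg Multiplicative.ofAdd (hε x y)
  let U₀ : Subgroup V := W.toAddSubgroup.toSubgroup.comap ν
  let eU := U₀.equivMapOfInjective V.subtype V.subtype_injective
  set π := QuotientGroup.mk' (Subgroup.centralizer (V : Set G)) with hπ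
  have hmemU : ∀ (g : G) (hg : π g ∈ K) (v : U₀),
      ∃ v' : U₀, ((v' : V) : G) = g * ((v : V) : G) * g⁻¹ ∧
        η ⟨ε (v' : V), v'.2⟩ = (θ ⟨π g, hg⟩).1.mulVec (η ⟨ε (v : V), v.2⟩) := by
    intro g hg v
    obtain ⟨hm, e⟩ := heq ⟨π g, hg⟩ ⟨ε (v : V), v.2⟩
    refine ⟨⟨ε.symm (ρ (π g) (ε (v : V))), ?_⟩, hconj g _, ?_⟩
    · show ε (ε.symm _) ∈ W
      rw [ε.apply_symm_apply]; exact hm
    · rw [← e]
      exact congrArg η (Subtype.ext (ε.apply_symm_apply _))
  have hnorm : ∀ x ∈ K.comap π, ∀ u ∈ U₀.map V.subtype, x * u * x⁻¹ ∈ U₀.map V.subtype := by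
    rintro x hx _ ⟨v, hv, rfl⟩
    obtain ⟨v', hv', -⟩ := hmemU x hx ⟨v, hv⟩
    exact ⟨v', v'.2, hv'⟩
  refine hasSection_qd hp (U₀.map V.subtype) (K.comap π)
    (hVp.to_le (Subgroup.map_subtype_le _)) hnorm
    (θ.comp (MonoidHom.mk' (fun x : K.comap π => (⟨π x.1, x.2⟩ : K))
      (fun x y => Subtype.ext (map_mul π _ _))))
    (hθ.comp ?_) (fun u => η ⟨ε (eU.symm u : V), (eU.symm u).2⟩) ?_ ?_ ?_
  · rintro ⟨y, hy⟩
    obtain ⟨g, rfl⟩ := QuotientGroup.mk'_surjective _ y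
    exact ⟨⟨g, hy⟩, rfl⟩
  · intro u v
    rw [← map_add]
    refine congrArg η (Subtype.ext ?_)
    show ε ((eU.symm (u * v) : U₀) : V) = ε (eU.symm u : V) + ε (eU.symm v : V)
    rw [map_mul, Subgroup.coe_mul, hε]
  · intro w
    obtain ⟨v, rfl⟩ := hη w
    refine ⟨eU ⟨ε.symm v.1, show ε (ε.symm v.1) ∈ W by rw [ε.apply_symm_apply]; exact v.2⟩,
      congrArg η (Subtype.ext ?_)⟩
    rw [eU.symm_apply_apply]
    exact ε.apply_symm_apply _
  · intro x u
    obtain ⟨v, rfl⟩ := eU.surjective u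
    obtain ⟨v', hv', e⟩ := hmemU x x.2 v
    have e1 : (⟨(x : G) * (eU v : G) * (x : G)⁻¹, hnorm x x.2 _ (eU v).2⟩ :
        U₀.map V.subtype) = eU v' := Subtype.ext hv'.symm
    simp only [e1, eU.symm_apply_apply]
    exact e

/-- Failure of stability on a normal elementary abelian subgroup gives a section `Qd(p)`. -/
theorem isPStableOn_of_qd_free (hp : p ≠ 2) (hfree : ¬ HasSection G (qd p))
    (V : Subgroup G) [V.Normal] (hV : IsElementaryAbelian p V) : IsPStableOn p V := by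
  intro a ha
  by_contra hna
  obtain ⟨i1, i2, ρ, hρ, hplus, hconj, hq⟩ := exists_rep_conj V hV
  obtain ⟨K, θ, W, η, hθ, hη, heq⟩ :=
    @exists_data p _ _ _ _ _ i1 i2 _ ρ hp hρ _ (hq a ha) hna
  exact hfree (@qd_of_module p _ G _ _ (Additive V) i1 i2 hp V _ (Offenders.ea_isPGroup hV)
    Additive.ofMul (fun x y => Additive.toMul.injective
      (hplus (Additive.ofMul x) (Additive.ofMul y)).symm)
    ρ (fun g v => hconj g (Additive.ofMul v)) K θ W η hθ hη heq)

end stable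

end Cfsg.Agent.QuadraticQd
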