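import Mathlib
import Cfsg.Agent.Lib.GlaubermanControl
import Cfsg.Agent.Lib.QuadraticQd

/-! ZJ theorems for `Qd(p)`-free and `SL(2,p)`-free groups. -/

set_option autoImplicit false

open scoped MatrixGroups

namespace Cfsg.Agent.GlaubermanFree

open Subgroup GlaubermanZJ GlaubermanControl QuadraticMain

universe u v

/-- Freeness passes to all normal `p`-subgroups of all members. -/
theorem stable_of_free {p : ℕ} [Fact p.Prime] (Z : Type v) [Group Z]
    (hV : ∀ (Y : Type u) [Group Y] [Finite Y], ¬ HasSection Y Z → ∀ (V : Subgroup Y) [V.Normal],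
      Cfsg.IsElementaryAbelian p V → Cfsg.IsPStableOn p V) :
    ∀ (Y : Type u) [Group Y] [Finite Y], ¬ HasSection Y Z → ∀ (P : Subgroup Y) [P.Normal],
      IsPGroup p P → Cfsg.IsPStableOn p P :=
  GlaubermanStable.isPStableOn_of_elementary (fun Y _ => ¬ HasSection Y Z)
    (fun _ _ _ N _ _ h hs => h (QuadraticQd.hasSection_lift (QuotientGroup.mk'_surjective N) hs))
    hV

theorem stable_of_qd_free {p : ℕ} [Fact p.Prime] (hp : p ≠ 2) :
    ∀ (Y : Type u) [Group Y] [Finite Y], ¬ HasSection Y (Cfsg.qd p) →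
      ∀ (P : Subgroup Y) [P.Normal], IsPGroup p P → Cfsg.IsPStableOn p P :=
  stable_of_free _ fun _ _ _ h V _ hV => QuadraticQd.isPStableOn_of_qd_free hp h V hV

theorem stable_of_sl2_free {p : ℕ} [Fact p.Prime] (hp : p ≠ 2) :
    ∀ (Y : Type u) [Group Y] [Finite Y], ¬ HasSection Y SL(2, ZMod p) →
      ∀ (P : Subgroup Y) [P.Normal], IsPGroup p P → Cfsg.IsPStableOn p P :=
  stable_of_free _ fun _ _ _ h V _ hV => QuadraticQd.isPStableOn_of_sl2_free hp h V hV

/-- Control of strong fusion in a group without a section `Z`. -/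
theorem ctrl_of_free {p n : ℕ} [Fact p.Prime] (hp : p ≠ 2) (hn : n = 0 ∨ n = p)
    (Z : Type v) [Group Z]
    (hstab : ∀ (Y : Type u) [Group Y] [Finite Y], ¬ HasSection Y Z →
      ∀ (P : Subgroup Y) [P.Normal], IsPGroup p P → Cfsg.IsPStableOn p P)
    (F : Functor'.{u} p)
    (hF : ∀ {X : Type u} [Group X] (D : Subgroup X),
      normalizer (thomY n D : Set X) ≤ normalizer (F.W D : Set X))
    (G : Type u) [Group G] [Finite G] (hfree : ¬ HasSection G Z) (P : Sylow p G) (D : Subgroup G)
    (hD : Cfsg.IsStronglyClosed D (P : Subgroup G)) : Ctrl (P : Subgroup G) (F.W D) := by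
  refine ctrl F (fun Y _ => ¬ HasSection Y Z) ?_ ?_ ?_ ?_ G hfree P D hD
  · exact fun Y _ _ H h hs => h (QuadraticMain.hasSection_subgroup H hs)
  · exact fun Y _ _ h hs => h (QuadraticQd.hasSection_lift (QuotientGroup.mk'_surjective _) hs)
  · exact fun Y _ _ h _ _ hs =>
      h (QuadraticQd.hasSection_lift (QuotientGroup.mk'_surjective _) hs)
  · intro Y _ _ hY hc P D hD
    have h := thomY_normal hp hn (fun B _ hB => hstab Y hY B hB) hc P D hD
    rw [← normalizer_eq_top_iff, ← top_le_iff, ← normalizer_eq_top_iff.mpr h]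
    exact hF D

end Cfsg.Agent.GlaubermanFree
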