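import Cfsg.Agent.Lib.JordanDivisionFinite

/-!
A finite special Jordan division algebra is a field: the last configuration (a companion cocycle
with a Chevalley–Warning zero) and the theorem.
-/

set_option autoImplicit false

namespace Cfsg.Agent.JordanDivisionFinite

variable {R : Type*} [Ring R] [Finite R]
variable {p : ℕ} [Fact p.Prime] {K : Type*} [Field K] [Finite K] [Algebra (ZMod p) K] {ι : K →+* R}

section Cocycle

omit [Finite R] in
/-- Entries of the cocycle are forms of weight `j + i - k`. -/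
theorem deg_cocycle (φ : K ≃ₐ[ZMod p] K) {σ : Type*} (C : (σ → fixF φ) → Matrix (Fin 2) (Fin 2) K)
    (hC : ∀ i k : Fin 2, Deg ((1 : ℤ) + (i : ℕ) - (k : ℕ)) (fun x => C x i k)) (j : ℕ) :
    ∀ i k : Fin 2, Deg ((j : ℤ) + (i : ℕ) - (k : ℕ)) (fun x => cocycle φ.toRingEquiv j (C x) i k) := by
  induction j with
  | zero =>
    intro i k
    by_cases hik : i = k
    · subst hik
      exact (Deg.const (d := ((0 : ℕ) : ℤ) + (i : ℕ) - (i : ℕ)) (by simp) (1 : K)).congr fun x => by
        simp [cocycle]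
    · exact (Deg.zero _).congr fun x => by simp [cocycle, hik]
  | succ j ih =>
    intro i k
    refine (Deg.sum Finset.univ (f := fun l : Fin 2 => fun x =>
      algF φ (cocycle φ.toRingEquiv j (C x) i l) * C x l k) fun l _ => ?_).congr fun x => ?_
    · refine ((Deg.map (ih i l) (algF φ)).mul (hC l k)).mono ?_
      push_cast
      omega
    · show _ = ((cocycle φ.toRingEquiv j (C x)).map φ.toRingEquiv * C x) i k
      rw [Matrix.mul_apply]
      rfl

/-- The companion matrix of `Y² + α Y + c`. -/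
def comp' (α c : K) : Matrix (Fin 2) (Fin 2) K := !![0, 1; -c, -α]

omit [Finite K] in
theorem det_comp' (α c : K) : (comp' α c).det = c := by simp [comp', Matrix.det_fin_two]

end Cocycle

namespace MaxField

variable {J : AddSubgroup R} (h : MaxField K J ι) {φ : K ≃ₐ[ZMod p] K} {A B : R}
include h

/-- A vector killed by `Y² + α Y + c` gives a vector killed by an element of `J`. -/
theorem Twist.no_generic (T : Twist ι J φ A B) {u v τ : K} (hu : ι u = A * B) (hv : ι v = B * A)
    (huv : u = φ v) (hτ : ι τ = A ^ orderOf φ + B ^ orderOf φ) (hu0 : u ≠ 0) : False := by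
  classical
  set m := orderOf φ with hm
  have hm0 : 0 < m := orderOf_pos φ
  obtain ⟨hφm, hmin⟩ := ringEquiv_order φ
  set ψ := φ.toRingEquiv with hψ
  have hv0 : v ≠ 0 := fun h0 => hu0 (by rw [huv, h0, map_zero])
  have hA1 : (A + B) ∈ J := by simpa using T.mem 1
  haveI : Nontrivial R := ⟨⟨A, 0, T.A0⟩⟩
  have hAu : IsUnit A := by
    have h1 : IsUnit (ι v) := (IsUnit.mk0 v hv0).map ι
    rw [hv] at h1
    exact isUnit_of_mul_isUnit_right h1
  have hτfix := T.tau_fixed h hu hv huv hτ
  -- `A^j B^j`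
  have hAB : ∀ j, A ^ j * B ^ j = ι (nrm ψ j u) := by
    intro j
    induction j with
    | zero => simp
    | succ j ih =>
      rw [pow_succ', pow_succ B, mul_assoc, ← mul_assoc (A ^ j), ih, ← mul_assoc, T.hA, mul_assoc,
        ← hu, ← map_mul]
      rfl
  have hN : A ^ m * (ι τ - A ^ m) = ι (nrm ψ m v) := by
    rw [hτ, add_sub_cancel_left, hAB, huv, show φ v = ψ v from rfl, nrm_map, nrm_fixed ψ hφm]
  have hAm : IsH ι (1 : K ≃ₐ[ZMod p] K) (A ^ m) := by
    have := T.hA.pow m
    rwa [pow_orderOf_eq_one] at this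
  let F := fixF φ
  let d := Module.finrank F K
  have hd : d = m := finrank_fixF φ
  let b := Module.finBasis F K
  let αF : ((Fin d ⊕ Fin d) → F) → K := fun x => ∑ i, x (Sum.inl i) • b i
  let aF : ((Fin d ⊕ Fin d) → F) → K := fun x => ∑ i, x (Sum.inr i) • b i
  let cF : ((Fin d ⊕ Fin d) → F) → K := fun x => φ⁻¹ (aF x) * φ⁻¹ (aF x) * v
  let CF : ((Fin d ⊕ Fin d) → F) → Matrix (Fin 2) (Fin 2) K := fun x => comp' (αF x) (cF x)
  let g : ((Fin d ⊕ Fin d) → F) → K := fun x =>
    (cocycle ψ m (CF x)).trace + -1 * (τ * nrm ψ m (aF x))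
  have hα : Deg 1 αF := deg_lin φ Sum.inl
  have ha : Deg 1 aF := deg_lin φ Sum.inr
  have hc : Deg 2 cF := by
    have h1 : Deg 1 (fun x => φ⁻¹ (aF x)) := (Deg.map ha (algF φ).symm).congr fun x => rfl
    exact ((h1.mul h1).constMul v).congr fun x => mul_comm _ _
  have hC : ∀ i k : Fin 2, Deg ((1 : ℤ) + (i : ℕ) - (k : ℕ)) (fun x => CF x i k) := by
    intro i k
    fin_cases i <;> fin_cases k
    · exact (Deg.zero _).congr fun x => rfl
    · exact (Deg.const (by simp) (1 : K)).congr fun x => rfl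
    · exact ((hc.constMul (-1)).mono (by simp)).congr fun x => by simp [CF, comp']
    · exact ((hα.constMul (-1)).mono (by simp)).congr fun x => by simp [CF, comp']
  have hg : Deg (m : ℤ) g := by
    refine Deg.add ?_ (Deg.constMul ((deg_nrm φ ha m).constMul τ) (-1))
    refine ((Deg.sum Finset.univ (d := (m : ℤ)) fun i _ =>
      (deg_cocycle φ CF hC m i i).mono (by simp)).congr fun x => ?_)
    simp [Matrix.trace, Matrix.diag, hψ]
  have hdeg0 : ∀ x, aF x = 0 → (cocycle ψ m (CF x)).trace = nrm ψ m (-αF x) := by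
    intro x hx
    have : CF x = !![0, 1; 0, -αF x] := by simp [CF, comp', cF, hx]
    rw [this, cocycle_upper ψ hm0]
  have hcdet : ∀ x, aF x ≠ 0 → (CF x).det ≠ 0 := fun x hx => by
    simp only [CF, det_comp', cF]
    exact mul_ne_zero (mul_ne_zero (fun h0 => hx (by simpa using congrArg φ h0))
      (fun h0 => hx (by simpa using congrArg φ h0))) hv0
  have hval : ∀ x, φ (g x) = g x := by
    intro x
    have hn : ∀ y, φ (nrm ψ m y) = nrm ψ m y := nrm_fixed ψ hφm
    show φ (_ + _) = _
    rw [map_add, map_mul, map_mul, map_neg, map_one, hτfix, hn]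
    congr 1
    by_cases hx : aF x = 0
    · rw [hdeg0 x hx, hn]
    · exact cocycle_trace_fixed ψ hφm (hcdet x hx)
  obtain ⟨x, hx0, hgx⟩ := exists_zero hg
    (by rw [Fintype.card_sum, Fintype.card_fin, hd]; push_cast; omega) (by positivity)
    (fun x => ⟨⟨g x, mem_fixF.mpr (hval x)⟩, rfl⟩)
    (by
      have h0 : aF 0 = 0 := by simp [aF]
      have h1 : αF 0 = 0 := by simp [αF]
      show _ + _ = (0 : K)
      rw [hdeg0 0 h0, h0, h1, neg_zero, nrm_zero_arg ψ hm0.ne']
      simp)
  have hcoord : ∀ (f : Fin d → F), (∑ i, f i • b i) = 0 → ∀ i, f i = 0 := fun f hf =>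
    Fintype.linearIndependent_iff.mp b.linearIndependent f hf
  set α := αF x with hαdef
  set a := aF x with hadef
  have ha0 : a ≠ 0 := by
    intro ha0
    have h1 : g x = nrm ψ m (-α) := by
      show _ + _ = _
      rw [hdeg0 x (hadef ▸ ha0), ← hadef, ha0, nrm_zero_arg ψ hm0.ne', mul_zero, mul_zero, add_zero]
    rw [h1] at hgx
    have hα0 : α = 0 := by
      by_contra hne
      exact nrm_ne_zero ψ m (neg_ne_zero.mpr hne) hgx
    exact hx0 (funext fun i => i.casesOn (fun i => hcoord (fun i => x (Sum.inl i)) hα0 i)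
      (fun i => hcoord (fun i => x (Sum.inr i)) ha0 i))
  set c := cF x with hcdef
  set Y := ι a * A with hY
  set B' := ι (φ⁻¹ a) * B with hB'
  have hYu : IsUnit Y := ((IsUnit.mk0 a ha0).map ι).mul hAu
  have hYH : IsH ι φ Y := T.hA.smul a
  have hBY : B' * Y = ι c := by
    show ι (φ⁻¹ a) * B * (ι a * A) = ι (φ⁻¹ a * φ⁻¹ a * v)
    rw [mul_assoc, ← mul_assoc B, T.hB, mul_assoc, ← hv, ← map_mul, ← map_mul]
    congr 1
    ring
  have hYm : Y ^ m = ι (nrm ψ m a) * A ^ m := twist_pow T.hA a m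
  -- the monodromy
  set C := comp' α c with hCdef
  set Q := cocycle ψ m C with hQ
  have hCd : C.det ≠ 0 := hcdet x (hadef ▸ ha0)
  have htr : Q.trace = τ * nrm ψ m a := by
    have : Q.trace + -1 * (τ * nrm ψ m a) = 0 := hgx
    linear_combination this
  have hdet : Q.det = nrm ψ m a * nrm ψ m a * nrm ψ m v := by
    rw [hQ, cocycle_det, det_comp']
    show nrm ψ m (φ⁻¹ a * φ⁻¹ a * v) = _
    have e : nrm ψ m (φ⁻¹ a) = nrm ψ m a := by
      rw [← nrm_fixed ψ hφm (φ⁻¹ a), ← nrm_map]
      congr 1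
      exact φ.apply_symm_apply a
    rw [nrm_mul, nrm_mul, e]
  set μ := Y ^ m with hμ
  have hμH : IsH ι (1 : K ≃ₐ[ZMod p] K) μ := by rw [hYm]; exact hAm.smul _
  have hμrel : μ * (ι Q.trace - μ) = ι Q.det := by
    rw [htr, hdet, hYm, map_mul _ τ]
    have hcn : ∀ y, A ^ m * ι y = ι y * A ^ m := fun y => by simpa using hAm y
    have e : ι τ * ι (nrm ψ m a) = ι (nrm ψ m a) * ι τ := by rw [← map_mul, ← map_mul, mul_comm]
    rw [e, ← mul_sub, mul_assoc, ← mul_assoc (A ^ m), hcn, mul_assoc, hN, ← map_mul, ← map_mul, ← mul_assoc]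
  -- over `Mat₂ R`
  let ιM : K →+* Matrix (Fin 2) (Fin 2) R := (Matrix.scalar (Fin 2)).comp ι
  let up : Matrix (Fin 2) (Fin 2) K →+* Matrix (Fin 2) (Fin 2) R := ι.mapMatrix
  let sc : R →+* Matrix (Fin 2) (Fin 2) R := Matrix.scalar (Fin 2)
  have hsc : ∀ (r : R) (M : Matrix (Fin 2) (Fin 2) R), sc r * M = Matrix.of fun i k => r * M i k := by
    intro r M; ext i k
    simp [sc, Matrix.scalar_apply]
  have hscr : ∀ (r : R) (M : Matrix (Fin 2) (Fin 2) R), M * sc r = Matrix.of fun i k => M i k * r := by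
    intro r M; ext i k
    simp [sc, Matrix.scalar_apply]
  have hμc : ∀ M : Matrix (Fin 2) (Fin 2) K, sc μ * up M = up M * sc μ := by
    intro M
    rw [hsc, hscr]
    ext i k
    simpa [up] using hμH (M i k)
  have hQQ : up Q * up Q - sc (ι Q.trace) * up Q = -sc (ι Q.det) := by
    have hK : Q * Q - Matrix.scalar (Fin 2) Q.trace * Q = -Matrix.scalar (Fin 2) Q.det := by
      ext i k
      fin_cases i <;> fin_cases k <;>
        simp [Matrix.mul_apply, Fin.sum_univ_two, Matrix.trace_fin_two, Matrix.det_fin_two,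
          Matrix.scalar_apply] <;> ring
    have hs : ∀ z : K, up (Matrix.scalar (Fin 2) z) = sc (ι z) := by
      intro z; ext i k
      fin_cases i <;> fin_cases k <;> simp [up, sc, Matrix.scalar_apply]
    rw [← hs, ← hs, ← map_mul, ← map_mul, ← map_sub, hK, map_neg]
  have hscμ : sc (ι Q.trace) * sc μ = sc μ * sc (ι Q.trace) := by
    rw [← map_mul, ← map_mul]
    congr 1
    simpa using (hμH Q.trace).symm
  have htrup : sc (ι Q.trace) * up Q = up Q * sc (ι Q.trace) := by
    rw [hsc, hscr]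
    ext i k
    simp [up, ← map_mul, mul_comm]
  obtain ⟨W, hW0, hW⟩ : ∃ W : Matrix (Fin 2) (Fin 2) R, W ≠ 0 ∧ sc μ * W = up Q * W := by
    set Tm := up Q + sc μ - sc (ι Q.trace) with hTm
    have hprod : (up Q - sc μ) * Tm = 0 := by
      have h2 : sc μ * sc (ι Q.trace) - sc μ * sc μ = sc (ι Q.det) := by
        rw [← map_mul, ← map_mul, ← map_sub, ← mul_sub, hμrel]
      have e : (up Q - sc μ) * Tm = (up Q * up Q - up Q * sc (ι Q.trace)) +
          (up Q * sc μ - sc μ * up Q) + (sc μ * sc (ι Q.trace) - sc μ * sc μ) := by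
        rw [hTm]; noncomm_ring
      rw [e, ← htrup, hQQ, hμc, sub_self, add_zero, h2, neg_add_cancel]
    by_cases hT0 : Tm = 0
    · refine ⟨1, one_ne_zero, ?_⟩
      rw [mul_one, mul_one]
      have he : ∀ i k, ι (Q i k) = (if i = k then ι Q.trace - μ else 0) := by
        intro i k
        have := congrFun (congrFun hT0 i) k
        simp only [hTm, up, sc, RingHom.mapMatrix_apply, Matrix.sub_apply, Matrix.add_apply,
          Matrix.map_apply, Matrix.scalar_apply, Matrix.zero_apply] at this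
        by_cases hik : i = k
        · subst hik
          simp only [Matrix.diagonal_apply_eq] at this
          rw [if_pos rfl]
          exact eq_sub_of_add_eq (by rw [← sub_eq_zero]; exact this)
        · simp only [Matrix.diagonal_apply_ne _ hik, sub_zero, add_zero] at this
          rw [if_neg hik, this]
      have h00 := he 0 0
      have h11 := he 1 1
      rw [if_pos rfl] at h00 h11
      have heq : Q 0 0 = Q 1 1 := ι.injective (h00.trans h11.symm)
      have hμe : μ = ι (Q 0 0) := by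
        have hμ' : μ = ι Q.trace - ι (Q 0 0) := by rw [h00]; abel
        rw [hμ', Matrix.trace_fin_two, map_add, add_sub_cancel_left, heq]
      ext i k
      fin_cases i <;> fin_cases k
      · simpa [up, sc, Matrix.scalar_apply] using hμe
      · simpa [up, sc, Matrix.scalar_apply] using (he 0 1).symm
      · simpa [up, sc, Matrix.scalar_apply] using (he 1 0).symm
      · simpa [up, sc, Matrix.scalar_apply, ← heq] using hμe
    · refine ⟨Tm, hT0, ?_⟩
      rw [← sub_eq_zero, ← sub_mul, ← neg_sub, neg_mul, hprod, neg_zero]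
  -- the semilinear map
  let Ci := C⁻¹
  have hCi : Ci * C = 1 := Matrix.nonsing_inv_mul _ (isUnit_iff_ne_zero.mpr hCd)
  have hCi' : C * Ci = 1 := Matrix.mul_nonsing_inv _ (isUnit_iff_ne_zero.mpr hCd)
  have hscY : ∀ M : Matrix (Fin 2) (Fin 2) K, sc Y * up M = up (M.map ψ) * sc Y := by
    intro M
    rw [hsc, hscr]
    ext i k
    simpa [up, hψ] using hYH (M i k)
  have hιc : ∀ (t : K) (M : Matrix (Fin 2) (Fin 2) K), up M * ιM t = ιM t * up M := by
    intro t M
    show up M * sc (ι t) = sc (ι t) * up M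
    rw [hsc, hscr]
    ext i k
    simp [up, ← map_mul, mul_comm]
  have hΘ : ∀ t, up Ci * sc Y * ιM t = ιM (ψ t) * (up Ci * sc Y) := by
    intro t
    rw [mul_assoc]
    show up Ci * (sc Y * sc (ι t)) = _
    rw [← map_mul, hYH, map_mul, ← mul_assoc]
    show up Ci * ιM (φ t) * sc Y = ιM (φ t) * (up Ci * sc Y)
    rw [hιc, mul_assoc]
  have hpow : ∀ j, ∃ P : Matrix (Fin 2) (Fin 2) K,
      (up Ci * sc Y) ^ j = up P * sc (Y ^ j) ∧ P * cocycle ψ j C = 1 := by
    intro j
    induction j with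
    | zero => exact ⟨1, by simp, by simp [cocycle]⟩
    | succ j ih =>
      obtain ⟨P, hP, hPQ⟩ := ih
      refine ⟨Ci * P.map ψ, ?_, ?_⟩
      · rw [pow_succ', hP, map_mul up, pow_succ' Y, sc.map_mul Y (Y ^ j)]
        rw [mul_assoc (up Ci), ← mul_assoc (sc Y), hscY]
        simp only [mul_assoc]
      · show Ci * P.map ψ * ((cocycle ψ j C).map ψ * C) = 1
        rw [mul_assoc, ← mul_assoc (P.map ψ), ← Matrix.map_mul, hPQ, Matrix.map_one _ (map_zero ψ) (map_one ψ),
          one_mul, hCi]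
  obtain ⟨P, hP, hPQ⟩ := hpow m
  obtain ⟨t, hS0, hS⟩ := exists_fixed ιM ψ hm0 hφm hmin (Θ := up Ci * sc Y) (W := W) hΘ
    (by rw [hP, mul_assoc, hW, ← mul_assoc, ← map_mul, hPQ, map_one, one_mul]) hW0
  set S := ∑ i ∈ Finset.range m, (up Ci * sc Y) ^ i * (ιM t * W)
  have hYS : sc Y * S = up C * S := by
    conv_rhs => rw [← hS]
    rw [← mul_assoc, ← mul_assoc, ← map_mul, hCi', map_one, one_mul]
  have hrow : ∀ k, Y * S 0 k = S 1 k ∧ Y * S 1 k = -(ι c * S 0 k) - ι α * S 1 k := by
    intro k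
    rw [hsc] at hYS
    refine ⟨?_, ?_⟩
    · have := congrFun (congrFun hYS 0) k
      simpa [up, C, comp', Matrix.mul_apply, Fin.sum_univ_two] using this
    · have := congrFun (congrFun hYS 1) k
      simp only [Matrix.of_apply, Matrix.mul_apply, Fin.sum_univ_two] at this
      rw [this]
      show ι (-c) * S 0 k + ι (-α) * S 1 k = _
      rw [map_neg, map_neg, neg_mul, neg_mul, sub_eq_add_neg]
  set w := ι α + (Y + B') with hw
  have hwJ : w ∈ J := J.add_mem (h.mem α) (T.mem a)
  have hw0 : w ≠ 0 := by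
    intro h0
    have hne : φ ≠ 1 := fun h1 => T.three (by rw [h1, mul_one])
    have hne' : φ ≠ φ⁻¹ := fun h' => T.three (by nth_rw 1 [h']; exact inv_mul_cancel φ)
    have h1 : proj ι φ w = Y := by
      rw [hw, proj_add, proj_add, proj_of_ne (IsH.const α) hne, proj_self hYH,
        proj_of_ne (T.hB.smul _) hne', zero_add, add_zero]
    rw [h0, proj_zero] at h1
    exact hYu.ne_zero h1.symm
  apply hS0
  ext i k
  obtain ⟨r1, r2⟩ := hrow k
  have h1 : w * S 1 k = 0 := by
    have e : B' * S 1 k = ι c * S 0 k := by rw [← r1, ← mul_assoc, hBY]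
    rw [hw, add_mul, add_mul, r2, e]
    abel
  have hS1 := h.smul_zero_cancel hwJ hw0 h1
  have hS0' : S 0 k = 0 := hYu.mul_right_eq_zero.mp (r1.trans hS1)
  fin_cases i
  · exact hS0'
  · exact hS1

theorem J_range (q : ℕ) [Fact q.Prime] [Algebra (ZMod q) K] {f : R} (hf : f ∈ J) : ∃ k, ι k = f := by
  by_contra hno
  obtain ⟨φ, hφ1, hφ⟩ : ∃ φ : K ≃ₐ[ZMod q] K, φ ≠ 1 ∧ proj ι φ f ≠ 0 := by
    by_contra hall
    push Not at hall
    refine hno ?_
    have h1 : proj ι (1 : K ≃ₐ[ZMod q] K) f = f := by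
      conv_rhs => rw [← sum_proj ι (p := q) f]
      exact (Finset.sum_eq_single 1 (fun φ _ hne => hall φ hne)
        (fun h => absurd (Finset.mem_univ _) h)).symm
    obtain ⟨k, hk⟩ := h.proj_one_range (p := q) hf
    exact ⟨k, hk.trans h1⟩
  by_cases h3 : φ * φ = 1
  · have hinv : φ⁻¹ = φ := inv_eq_of_mul_eq_one_right h3
    exact h.no_involution hinv hφ1 (proj_isH ι φ f) (h.self_mem hinv hf) hφ
  · have T := h.exists_twist hf h3 hφ
    obtain ⟨u, v, hu, hv, huv⟩ := T.AB_mem_range h
    obtain ⟨τ, hτ⟩ := T.sum_pow h hu hv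
    exact T.no_generic h hu hv huv hτ (T.u_ne_zero h hu hv huv hτ)

end MaxField

/-! ### The theorem -/

/-- A finite special Jordan division algebra is a field. -/
theorem JDiv.field {R : Type*} [Ring R] [Finite R] {J : AddSubgroup R} (h : JDiv J) :
    ∃ S : Subring R, (∀ x, x ∈ S ↔ x ∈ J) ∧ (∀ a ∈ J, ∀ b ∈ J, a * b = b * a) := by
  classical
  rcases subsingleton_or_nontrivial R with hR | hR
  · exact ⟨⊤, fun x => ⟨fun _ => by rw [Subsingleton.elim x 0]; exact J.zero_mem, fun _ => trivial⟩,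
      fun a _ b _ => Subsingleton.elim _ _⟩
  obtain ⟨p, hp, hp0⟩ := h.exists_char
  haveI : Fact p.Prime := ⟨hp⟩
  -- a maximal commutative subring inside `J`
  let P : Subring R → Prop := fun S => (∀ x ∈ S, x ∈ J) ∧ ∀ x ∈ S, ∀ y ∈ S, x * y = y * x
  have hbot : P ⊥ := by
    refine ⟨fun x hx => ?_, fun x hx y hy => ?_⟩
    · obtain ⟨n, rfl⟩ := Subring.mem_bot.mp hx
      rw [← zsmul_one]
      exact J.zsmul_mem h.one_mem n
    · obtain ⟨n, rfl⟩ := Subring.mem_bot.mp hx
      exact Int.cast_comm n y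
  haveI : Finite (Subring R) := Finite.of_injective _ SetLike.coe_injective
  obtain ⟨S, hS, hmax⟩ := Set.exists_max_image {S : Subring R | P S} (fun S => Nat.card S)
    (Set.toFinite _) ⟨⊥, hbot⟩
  haveI : Nontrivial S := ⟨⟨1, 0, fun h0 => one_ne_zero (congrArg Subtype.val h0)⟩⟩
  letI : CommRing S := { (inferInstance : Ring S) with mul_comm := fun a b => Subtype.ext (hS.2 a a.2 b b.2) }
  haveI : IsDomain S := by
    haveI : NoZeroDivisors S := ⟨fun {a b} hab => by
      by_contra hne
      push Not at hne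
      have ha := h.unit a (hS.1 a a.2) (fun h0 => hne.1 (Subtype.ext h0))
      exact hne.2 (Subtype.ext (ha.mul_right_eq_zero.mp (congrArg Subtype.val hab)))⟩
    exact NoZeroDivisors.to_isDomain S
  letI : Field S := (Finite.isDomain_to_isField S).toField
  haveI : CharP S p := by
    refine (CharP.charP_iff_prime_eq_zero hp).mpr (Subtype.ext ?_)
    show S.subtype ((p : ℕ) : S) = S.subtype 0
    rw [map_natCast, map_zero, hp0]
  letI : Algebra (ZMod p) S := ZMod.algebra S p
  let ι : S →+* R := S.subtype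
  have hkf : ∀ g ∈ J, (∀ k : S, g * ι k = ι k * g) → ∀ y ∈ S, y * g ∈ J := by
    intro g hg hgc y hy
    by_cases hp2 : p = 2
    · subst hp2
      obtain ⟨z, hz⟩ := (bijective_frobenius S 2).2 ⟨y, hy⟩
      have hz' : (z : R) * z = y := by
        have := congrArg Subtype.val hz
        simpa [frobenius_def, pow_two] using this
      have := h.sandwich _ (hS.1 z z.2) _ hg
      rwa [show (z : R) * g * z = z * (g * ι z) from mul_assoc _ _ _, hgc, ← mul_assoc,
        show (z : R) * ι z = y from hz'] at this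
    · have h2 : (2 : S) ≠ 0 := by
        intro h0
        have : ((2 : ℕ) : S) = 0 := by exact_mod_cast h0
        rw [CharP.cast_eq_zero_iff S p] at this
        exact hp2 ((Nat.prime_dvd_prime_iff_eq hp Nat.prime_two).mp this)
      set k : S := ⟨y, hy⟩ * 2⁻¹ with hk
      have := h.polar (hS.1 k k.2) h.one_mem hg
      rw [mul_one, one_mul, show g * (k : R) = k * g from hgc k, ← add_mul] at this
      rwa [show (k : R) + k = y from ?_] at this
      have e : k + k = ⟨y, hy⟩ := by rw [hk, ← mul_two, mul_assoc, inv_mul_cancel₀ h2, mul_one]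
      exact congrArg Subtype.val e
  have hmaxf : ∀ f ∈ J, (∀ k : S, f * ι k = ι k * f) → ∃ k : S, ι k = f := by
    intro f hf hfc
    let T := Subring.closure ((S : Set R) ∪ {f})
    have hcomm : ∀ x ∈ (S : Set R) ∪ {f}, ∀ y ∈ (S : Set R) ∪ {f}, x * y = y * x := by
      rintro x (hx | hx) y (hy | hy)
      · exact hS.2 x hx y hy
      · rw [Set.mem_singleton_iff.mp hy]; exact (hfc ⟨x, hx⟩).symm
      · rw [Set.mem_singleton_iff.mp hx]; exact hfc ⟨y, hy⟩
      · rw [Set.mem_singleton_iff.mp hx, Set.mem_singleton_iff.mp hy]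
    have hPT : P T := by
      refine ⟨fun x hx => ?_, fun x hx y hy => ?_⟩
      · rw [Subring.mem_closure_iff] at hx
        refine (AddSubgroup.closure_le J).mpr (fun z hz => ?_) hx
        have hz' : ∃ k ∈ S, ∃ j : ℕ, z = k * f ^ j := by
          induction hz using Submonoid.closure_induction with
          | mem z hz =>
            rcases hz with hz | hz
            · exact ⟨z, hz, 0, by simp⟩
            · exact ⟨1, S.one_mem, 1, by simpa using hz⟩
          | one => exact ⟨1, S.one_mem, 0, by simp⟩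
          | mul z w _ _ hz hw =>
            obtain ⟨k, hk, i, rfl⟩ := hz
            obtain ⟨l, hl, j, rfl⟩ := hw
            refine ⟨k * l, S.mul_mem hk hl, i + j, ?_⟩
            have hc : f ^ i * l = l * f ^ i := (Commute.pow_left (hfc ⟨l, hl⟩) i).eq
            rw [pow_add, mul_assoc, ← mul_assoc (f ^ i), hc]
            simp only [mul_assoc]
        obtain ⟨k, hk, j, rfl⟩ := hz'
        exact hkf _ (h.pow_mem hf j) (fun k => (Commute.pow_left (hfc k) j).eq) k hk
      · letI := Subring.closureCommRingOfComm hcomm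
        exact congrArg Subtype.val (mul_comm (⟨x, hx⟩ : T) ⟨y, hy⟩)
    have hST : S ≤ T := fun x hx => Subring.subset_closure (Or.inl hx)
    have hle := hmax T hPT
    have hset : (S : Set R) = T := by
      refine Set.eq_of_subset_of_ncard_le hST ?_ (Set.toFinite _)
      rw [← Nat.card_coe_set_eq, ← Nat.card_coe_set_eq]
      exact hle
    refine ⟨⟨f, ?_⟩, rfl⟩
    show f ∈ (S : Set R)
    rw [hset]
    exact Subring.subset_closure (Or.inr rfl)
  have hMF : MaxField S J ι := ⟨h, fun k => hS.1 k k.2, hmaxf⟩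
  have hmem : ∀ x, x ∈ J → x ∈ S := fun x hx => by
    obtain ⟨k, rfl⟩ := hMF.J_range p hx
    exact k.2
  exact ⟨S, fun x => ⟨hS.1 x, hmem x⟩, fun a ha b hb => hS.2 a (hmem a ha) b (hmem b hb)⟩

end Cfsg.Agent.JordanDivisionFinite
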