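import Mathlib
import Cfsg.Agent.Lib.QuadPairSL2
import Cfsg.Agent.Lib.QuadPairDickson
import Cfsg.Agent.Lib.PGroupsBasic
import Cfsg.Agent.Lib.PSLSimple
import Cfsg.Agent.Lib.PSL2Elements

/-!
Elements of the shape `up r` in the group `dick k λ` over a finite-dimensional `k`-algebra.
-/

set_option autoImplicit false
set_option linter.unusedSectionVars false

open scoped MatrixGroups
open Matrix

namespace Cfsg.Agent.QuadPairRed

open Cfsg.Agent.QuadPairSL2

section Shapes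

variable {R : Type*} [CommRing R]

/-- The diagonal element `diag(u, u⁻¹)`. -/
def dg (u : Rˣ) : SL(2, R) := ⟨!![(u : R), 0; 0, ((u⁻¹ : Rˣ) : R)], by simp [Matrix.det_fin_two]⟩

@[simp] theorem dg_00 (u : Rˣ) : (dg u).1 0 0 = u := rfl
@[simp] theorem dg_01 (u : Rˣ) : (dg u).1 0 1 = 0 := rfl
@[simp] theorem dg_10 (u : Rˣ) : (dg u).1 1 0 = 0 := rfl
@[simp] theorem dg_11 (u : Rˣ) : (dg u).1 1 1 = ((u⁻¹ : Rˣ) : R) := rfl

/-- The element `!![0, 1; -1, 0]`. -/
def anti : SL(2, R) := ⟨!![0, 1; -1, 0], by simp [Matrix.det_fin_two]⟩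

@[simp] theorem anti_00 : (anti : SL(2, R)).1 0 0 = 0 := rfl
@[simp] theorem anti_01 : (anti : SL(2, R)).1 0 1 = 1 := rfl
@[simp] theorem anti_10 : (anti : SL(2, R)).1 1 0 = -1 := rfl
@[simp] theorem anti_11 : (anti : SL(2, R)).1 1 1 = 0 := rfl

theorem anti_eq : (anti : SL(2, R)) = up 1 * lo (-1) * up 1 := by
  apply sl_ext <;> simp [QuadPairSL2.mul_apply]

theorem conj_up_entries (g : SL(2, R)) (t : R) :
    (g * up t * g⁻¹).1 0 0 = 1 - g.1 0 0 * g.1 1 0 * t ∧
    (g * up t * g⁻¹).1 0 1 = g.1 0 0 * g.1 0 0 * t ∧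
    (g * up t * g⁻¹).1 1 0 = -(g.1 1 0 * g.1 1 0 * t) ∧
    (g * up t * g⁻¹).1 1 1 = 1 + g.1 0 0 * g.1 1 0 * t := by
  have h := QuadPairSL2.det_eq g
  refine ⟨?_, ?_, ?_, ?_⟩ <;>
    simp only [QuadPairSL2.mul_apply, up_00, up_01, up_10, up_11, inv_00, inv_01, inv_10, inv_11]
  · linear_combination h
  · ring
  · ring
  · linear_combination h

theorem dg_conj_up (u : Rˣ) (r : R) : dg u * up r * (dg u)⁻¹ = up ((u : R) * u * r) := by
  obtain ⟨e0, e1, e2, e3⟩ := conj_up_entries (dg u) r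
  apply sl_ext
  · rw [e0]; simp
  · rw [e1]; simp
  · rw [e2]; simp
  · rw [e3]; simp

theorem dg_conj_lo (u : Rˣ) (r : R) :
    dg u * lo r * (dg u)⁻¹ = lo (((u⁻¹ : Rˣ) : R) * ((u⁻¹ : Rˣ) : R) * r) := by
  rw [mul_inv_eq_iff_eq_mul]
  apply sl_ext <;> simp [QuadPairSL2.mul_apply, mul_assoc, mul_comm r]

theorem of_commute_up {g : SL(2, R)} {r : R} (h : g * up r = up r * g) :
    r * g.1 1 0 = 0 ∧ r * (g.1 0 0 - g.1 1 1) = 0 := by
  have e0 := congrArg (fun m : SL(2, R) => m.1 0 0) h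
  have e1 := congrArg (fun m : SL(2, R) => m.1 0 1) h
  simp only [QuadPairSL2.mul_apply, up_00, up_01, up_10, up_11] at e0 e1
  exact ⟨by linear_combination -e0, by linear_combination e1⟩

theorem of_commute_lo {g : SL(2, R)} {r : R} (h : g * lo r = lo r * g) :
    r * g.1 0 1 = 0 ∧ r * (g.1 0 0 - g.1 1 1) = 0 := by
  have e0 := congrArg (fun m : SL(2, R) => m.1 0 0) h
  have e1 := congrArg (fun m : SL(2, R) => m.1 1 0) h
  simp only [QuadPairSL2.mul_apply, lo_00, lo_01, lo_10, lo_11] at e0 e1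
  exact ⟨by linear_combination e0, by linear_combination -e1⟩

theorem sign_eq_one {x : R} (hx : x * x = 1) {n : ℕ} (hn : Odd n) (h : x ^ n = 1) : x = 1 := by
  obtain ⟨m, rfl⟩ := hn
  rw [pow_succ, pow_mul, sq, hx, one_pow, one_mul] at h
  exact h

theorem eq_up_of {g : SL(2, R)} (h10 : g.1 1 0 = 0) (hd : g.1 0 0 = g.1 1 1) {n : ℕ} (hn : Odd n)
    (h : g ^ n = 1) : g = up (g.1 0 1) := by
  have hpow : ∀ m : ℕ, (g ^ m).1 1 0 = 0 ∧ (g ^ m).1 0 0 = g.1 0 0 ^ m := by
    intro m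
    induction m with
    | zero => simp
    | succ m ih =>
      constructor <;> rw [pow_succ, QuadPairSL2.mul_apply, h10]
      · rw [ih.1]; ring
      · rw [ih.2, pow_succ]; ring
  have h00 : g.1 0 0 = 1 := by
    refine sign_eq_one ?_ hn ?_
    · have := QuadPairSL2.det_eq g
      rw [h10, mul_zero, sub_zero, ← hd] at this
      exact this
    · rw [← (hpow n).2, h]; rfl
  apply sl_ext <;> simp [h10, h00, ← hd]

theorem eq_lo_of {g : SL(2, R)} (h01 : g.1 0 1 = 0) (hd : g.1 0 0 = g.1 1 1) {n : ℕ} (hn : Odd n)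
    (h : g ^ n = 1) : g = lo (g.1 1 0) := by
  have hpow : ∀ m : ℕ, (g ^ m).1 0 1 = 0 ∧ (g ^ m).1 0 0 = g.1 0 0 ^ m := by
    intro m
    induction m with
    | zero => simp
    | succ m ih =>
      constructor <;> rw [pow_succ, QuadPairSL2.mul_apply, ih.1]
      · rw [h01]; ring
      · rw [ih.2, pow_succ]; ring
  have h00 : g.1 0 0 = 1 := by
    refine sign_eq_one ?_ hn ?_
    · have := QuadPairSL2.det_eq g
      rw [h01, zero_mul, sub_zero, ← hd] at this
      exact this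
    · rw [← (hpow n).2, h]; rfl
  apply sl_ext <;> simp [h01, h00, ← hd]

theorem eq_zero_of_conj_up_upper {g : SL(2, R)} {s : R} (h : g * up 1 * g⁻¹ = up s) :
    g.1 1 0 = 0 := by
  obtain ⟨e0, e1, e2, e3⟩ := conj_up_entries g 1
  rw [h] at e0 e2
  simp only [up_00, up_10, mul_one] at e0 e2
  have hd := QuadPairSL2.det_eq g
  linear_combination g.1 1 1 * e0 - g.1 0 1 * e2 - g.1 1 0 * hd

theorem eq_zero_of_conj_up_lower {g : SL(2, R)} {s : R} (h : g * up 1 * g⁻¹ = lo s) :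
    g.1 0 0 = 0 := by
  obtain ⟨e0, e1, e2, e3⟩ := conj_up_entries g 1
  rw [h] at e0 e1
  simp only [lo_00, lo_01, mul_one] at e0 e1
  have hd := QuadPairSL2.det_eq g
  linear_combination -g.1 1 1 * e1 - g.1 0 1 * e0 - g.1 0 0 * hd

/-- Iterated commutator with a fixed element. -/
def iter {G : Type*} [Group G] (h : G) : ℕ → G → G
  | 0, x => x
  | m + 1, x => h * iter h m x * h⁻¹ * (iter h m x)⁻¹

theorem map_iter {G H : Type*} [Group G] [Group H] (f : G →* H) (h : G) :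
    ∀ (m : ℕ) (x : G), f (iter h m x) = iter (f h) m (f x)
  | 0, _ => rfl
  | m + 1, x => by simp only [iter, map_mul, map_inv, map_iter f h m x]

theorem iter_mem {G : Type*} [Group G] {K : Subgroup G} {h x : G} (hh : h ∈ K) (hx : x ∈ K) :
    ∀ m : ℕ, iter h m x ∈ K
  | 0 => hx
  | m + 1 => mul_mem (mul_mem (mul_mem hh (iter_mem hh hx m)) (inv_mem hh)) (inv_mem (iter_mem hh hx m))

theorem iter_one {G : Type*} [Group G] (h : G) : ∀ m : ℕ, iter h m 1 = 1
  | 0 => rfl
  | m + 1 => by simp [iter, iter_one h m]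

theorem iter_add {G : Type*} [Group G] (h x : G) : ∀ m n : ℕ, iter h (n + m) x = iter h n (iter h m x)
  | m, 0 => by rw [Nat.zero_add]; rfl
  | m, n + 1 => by rw [Nat.succ_add]; simp only [iter, iter_add h x m n]

theorem iter_up {h : SL(2, R)} {v : R} (hh : ∀ s, h * up s * h⁻¹ = up (v * s)) :
    ∀ (m : ℕ) (s : R), iter h m (up s) = up ((v - 1) ^ m * s)
  | 0, s => by rw [pow_zero, one_mul]; rfl
  | m + 1, s => by
    simp only [iter, iter_up hh m s, hh, up_inv, up_mul]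
    congr 1
    ring

variable (ε : R)

/-- Matrices which are strictly upper triangular modulo `ε`. -/
def nilp : Submodule R (Matrix (Fin 2) (Fin 2) R) where
  carrier := {A | ε ∣ A 0 0 ∧ ε ∣ A 1 0 ∧ ε ∣ A 1 1}
  zero_mem' := by simp
  add_mem' := fun {A B} ⟨a0, a1, a2⟩ ⟨b0, b1, b2⟩ => ⟨dvd_add a0 b0, dvd_add a1 b1, dvd_add a2 b2⟩
  smul_mem' := fun c A ⟨a0, a1, a2⟩ =>
    ⟨dvd_mul_of_dvd_right a0 c, dvd_mul_of_dvd_right a1 c, dvd_mul_of_dvd_right a2 c⟩

/-- Matrices divisible by `ε ^ l`. -/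
def divBy (l : ℕ) : Submodule R (Matrix (Fin 2) (Fin 2) R) where
  carrier := {A | ∀ i j, ε ^ l ∣ A i j}
  zero_mem' := by simp
  add_mem' := fun {A B} ha hb i j => dvd_add (ha i j) (hb i j)
  smul_mem' := fun c A ha i j => dvd_mul_of_dvd_right (ha i j) c

theorem nilp_mul_le : nilp ε * nilp ε ≤ nilp ε ⊓ divBy ε 1 := by
  refine Submodule.mul_le.2 fun A ⟨a0, a1, a2⟩ B ⟨b0, b1, b2⟩ => ?_
  have h : ∀ i j, ε ∣ (A * B) i j := by
    intro i j
    rw [Matrix.mul_apply, Fin.sum_univ_two]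
    fin_cases i <;> fin_cases j <;> simp only [Fin.zero_eta, Fin.mk_one] <;>
      first
        | exact dvd_add (dvd_mul_of_dvd_left a0 _) (dvd_mul_of_dvd_right b1 _)
        | exact dvd_add (dvd_mul_of_dvd_left a0 _) (dvd_mul_of_dvd_right b2 _)
        | exact dvd_add (dvd_mul_of_dvd_left a1 _) (dvd_mul_of_dvd_left a2 _)
  exact ⟨⟨h 0 0, h 1 0, h 1 1⟩, fun i j => by rw [pow_one]; exact h i j⟩

theorem nilp_pow_le : ∀ l : ℕ, nilp ε ^ (2 * l) ≤ divBy ε l
  | 0 => fun A _ i j => by rw [pow_zero]; exact one_dvd _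
  | l + 1 => by
    have : nilp ε ^ (2 * (l + 1)) = nilp ε ^ (2 * l) * (nilp ε * nilp ε) := by
      rw [show 2 * (l + 1) = 2 * l + 1 + 1 by omega, pow_succ, pow_succ, mul_assoc]
    rw [this]
    refine Submodule.mul_le.2 fun A hA B hB i j => ?_
    rw [Matrix.mul_apply, pow_succ]
    exact Finset.dvd_sum fun x _ =>
      mul_dvd_mul (nilp_pow_le l hA i x) (by simpa using (nilp_mul_le ε hB).2 x j)

theorem nilp_pow_mul_le : ∀ i : ℕ, nilp ε ^ (i + 1) * nilp ε ≤ nilp ε ^ (i + 1)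
  | 0 => by rw [pow_one]; exact (nilp_mul_le ε).trans inf_le_left
  | i + 1 => by
    rw [pow_succ' (nilp ε) (i + 1), mul_assoc]
    exact mul_le_mul' le_rfl (nilp_pow_mul_le i)

/-- Congruence to an upper unitriangular element modulo `ε`. -/
def uni : Subgroup SL(2, R) where
  carrier := {g | g.1 - 1 ∈ nilp ε}
  one_mem' := by simp [Matrix.SpecialLinearGroup.coe_one]
  mul_mem' := fun {g h} hg hh => by
    show (g * h).1 - 1 ∈ nilp ε
    rw [Matrix.SpecialLinearGroup.coe_mul,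
      show g.1 * h.1 - 1 = (g.1 - 1) + (h.1 - 1) + (g.1 - 1) * (h.1 - 1) by noncomm_ring]
    exact add_mem (add_mem hg hh) ((nilp_mul_le ε (Submodule.mul_mem_mul hg hh)).1)
  inv_mem' := fun {g} ⟨h0, h1, h2⟩ => by
    simp only [Matrix.sub_apply, Matrix.one_apply_eq,
      Matrix.one_apply_ne (show (1 : Fin 2) ≠ 0 by decide), sub_zero] at h0 h1 h2
    refine ⟨?_, ?_, ?_⟩ <;> simp only [Matrix.sub_apply, Matrix.one_apply_eq, inv_00, inv_10, inv_11,
      Matrix.one_apply_ne (show (1 : Fin 2) ≠ 0 by decide), sub_zero]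
    · exact h2
    · exact dvd_neg.2 h1
    · exact h0

theorem mem_uni_iff {g : SL(2, R)} :
    g ∈ uni ε ↔ ε ∣ g.1 0 0 - 1 ∧ ε ∣ g.1 1 0 ∧ ε ∣ g.1 1 1 - 1 := by
  show _ ∧ _ ∧ _ ↔ _
  simp

theorem dick_le_uni (k : Type*) [CommRing k] [Algebra k R] : dick k ε ≤ uni ε := by
  refine (Subgroup.closure_le _).2 ?_
  rintro g (⟨c, rfl⟩ | ⟨c, rfl⟩) <;> rw [SetLike.mem_coe, mem_uni_iff] <;> simp

/-- Iterated commutators in a nilpotent congruence group vanish. -/
theorem iter_eq_one (hε : IsNilpotent ε) {h x : SL(2, R)} (hh : h ∈ uni ε) (hx : x ∈ uni ε) :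
    ∃ m, ∀ n, m ≤ n → iter h n x = 1 := by
  obtain ⟨N, hN⟩ := hε
  have key : ∀ i, (iter h i x).1 - 1 ∈ nilp ε ^ (i + 1) := by
    intro i
    induction i with
    | zero => rw [pow_one]; exact hx
    | succ i ih =>
      set y := iter h i x
      have hy : y ∈ uni ε := iter_mem hh hx i
      show (h * y * h⁻¹ * y⁻¹).1 - 1 ∈ _
      have e : (h * y * h⁻¹ * y⁻¹).1 - 1 =
          ((h.1 - 1) * (y.1 - 1) - (y.1 - 1) * (h.1 - 1)) * (1 + ((h⁻¹ * y⁻¹).1 - 1)) := by
        have h1 : (h * y * h⁻¹ * y⁻¹).1 = h.1 * y.1 * (h⁻¹ * y⁻¹).1 := by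
          rw [mul_assoc (h * y)]; rfl
        have h2 : y.1 * h.1 * (h⁻¹ * y⁻¹).1 = 1 := by
          rw [← Matrix.SpecialLinearGroup.coe_mul, ← Matrix.SpecialLinearGroup.coe_mul,
            mul_assoc y h, mul_inv_cancel_left, mul_inv_cancel, Matrix.SpecialLinearGroup.coe_one]
        rw [h1]
        conv_lhs => rw [← h2]
        noncomm_ring
      rw [e, mul_add, mul_one]
      have h3 : (h.1 - 1) * (y.1 - 1) - (y.1 - 1) * (h.1 - 1) ∈ nilp ε ^ (i + 1 + 1) := by
        refine sub_mem ?_ ?_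
        · rw [pow_succ']; exact Submodule.mul_mem_mul hh ih
        · rw [pow_succ]; exact Submodule.mul_mem_mul ih hh
      exact add_mem h3 (nilp_pow_mul_le ε (i + 1)
        (Submodule.mul_mem_mul h3 (mul_mem (inv_mem hh) (inv_mem hy))))
  refine ⟨2 * N, fun n hn => ?_⟩
  have h0 : iter h (2 * N) x = 1 := by
    have hle : nilp ε ^ (2 * N + 1) ≤ divBy ε N :=
      (pow_succ' (nilp ε) (2 * N)).le.trans (Submodule.mul_le.2 fun A _ B hB i j => by
        rw [Matrix.mul_apply]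
        exact Finset.dvd_sum fun y _ => dvd_mul_of_dvd_right (nilp_pow_le ε N hB y j) _)
    apply Subtype.ext
    ext i j
    have := hle (key (2 * N)) i j
    rw [hN, zero_dvd_iff, Matrix.sub_apply, sub_eq_zero] at this
    rw [Matrix.SpecialLinearGroup.coe_one]
    exact this
  obtain ⟨l, rfl⟩ := Nat.exists_eq_add_of_le hn
  rw [Nat.add_comm, iter_add, h0, iter_one]

variable (k : Type*) [CommRing k] [Algebra k R]

theorem dick_conj_dg (lam : R) (u : kˣ) {g : SL(2, R)} (hg : g ∈ dick k lam) :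
    dg (Units.map (algebraMap k R : k →* R) u) * g *
      (dg (Units.map (algebraMap k R : k →* R) u))⁻¹ ∈ dick k lam := by
  set D := dg (Units.map (algebraMap k R : k →* R) u)
  suffices dick k lam ≤ (dick k lam).comap (MulAut.conj D).toMonoidHom from this hg
  conv_lhs => rw [dick]
  rw [Subgroup.closure_le]
  rintro x (⟨c, rfl⟩ | ⟨c, rfl⟩)
  · show D * up _ * D⁻¹ ∈ dick k lam
    rw [dg_conj_up, Units.coe_map, MonoidHom.coe_coe, ← map_mul, ← map_mul]
    exact up_mem_dick k lam _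
  · show D * lo _ * D⁻¹ ∈ dick k lam
    rw [dg_conj_lo, ← map_inv, Units.coe_map, MonoidHom.coe_coe, ← map_mul, ← mul_assoc, ← map_mul]
    exact lo_mem_dick k lam _

/-- From an element of `dick` with scalar lower left entry: diagonal elements up to conjugation. -/
theorem conj_dg_mem {lam : R} {g : SL(2, R)} (hg : g ∈ dick k lam) (δ : kˣ) {r : R}
    (h10 : g.1 1 0 = algebraMap k R δ) (h00 : g.1 0 0 = algebraMap k R δ * r) (u : kˣ) :
    up r * dg (Units.map (algebraMap k R : k →* R) u) * up (-r) ∈ dick k lam := by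
  have hlo : ∀ c : k, up r * lo (algebraMap k R c) * up (-r) ∈ dick k lam := by
    intro c
    have h := mul_mem (mul_mem hg (up_mem_dick k lam (-c * (↑δ⁻¹ * ↑δ⁻¹)))) (inv_mem hg)
    convert h using 1
    obtain ⟨e0, e1, e2, e3⟩ := conj_up_entries g (algebraMap k R (-c * (↑δ⁻¹ * ↑δ⁻¹)))
    have hδ : algebraMap k R δ * algebraMap k R (↑δ⁻¹) = 1 := by
      rw [← map_mul, Units.mul_inv, map_one]
    apply sl_ext
    · rw [e0]
      simp only [QuadPairSL2.mul_apply, up_00, up_01, up_10, up_11, lo_00, lo_01, lo_10, lo_11, h00,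
        h10, map_mul, map_neg]
      linear_combination -(r * algebraMap k R c) *
        (algebraMap k R δ * algebraMap k R (↑δ⁻¹) + 1) * hδ
    · rw [e1]
      simp only [QuadPairSL2.mul_apply, up_00, up_01, up_10, up_11, lo_00, lo_01, lo_10, lo_11, h00,
        h10, map_mul, map_neg]
      linear_combination (r * r * algebraMap k R c) *
        (algebraMap k R δ * algebraMap k R (↑δ⁻¹) + 1) * hδ
    · rw [e2]
      simp only [QuadPairSL2.mul_apply, up_00, up_01, up_10, up_11, lo_00, lo_01, lo_10, lo_11, h00,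
        h10, map_mul, map_neg]
      linear_combination -(algebraMap k R c) *
        (algebraMap k R δ * algebraMap k R (↑δ⁻¹) + 1) * hδ
    · rw [e3]
      simp only [QuadPairSL2.mul_apply, up_00, up_01, up_10, up_11, lo_00, lo_01, lo_10, lo_11, h00,
        h10, map_mul, map_neg]
      linear_combination (r * algebraMap k R c) *
        (algebraMap k R δ * algebraMap k R (↑δ⁻¹) + 1) * hδ
  set K : Subgroup SL(2, R) := (dick k lam).comap (MulAut.conj (up r)).toMonoidHom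
  suffices dg (Units.map (algebraMap k R : k →* R) u) ∈ K by
    have h : up r * dg (Units.map (algebraMap k R : k →* R) u) * (up r)⁻¹ ∈ dick k lam := this
    rwa [up_inv] at h
  have hloK : ∀ c : k, lo (algebraMap k R c) ∈ K := fun c => by
    show up r * lo _ * (up r)⁻¹ ∈ dick k lam
    rw [up_inv]; exact hlo c
  have hupK : ∀ c : k, up (algebraMap k R c) ∈ K := fun c => by
    show up r * up _ * (up r)⁻¹ ∈ dick k lam
    rw [up_inv, up_mul, up_mul, add_comm r, add_neg_cancel_right]; exact up_mem_dick k lam c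
  have e : dg (Units.map (algebraMap k R : k →* R) u) =
      up (algebraMap k R u) * lo (algebraMap k R (-↑u⁻¹)) * up (algebraMap k R u) *
        (up (algebraMap k R (-1)) * lo (algebraMap k R 1) * up (algebraMap k R (-1))) := by
    have hu : algebraMap k R u * algebraMap k R (↑u⁻¹) = 1 := by rw [← map_mul, Units.mul_inv, map_one]
    apply sl_ext <;>
      simp only [QuadPairSL2.mul_apply, up_00, up_01, up_10, up_11, lo_00, lo_01, lo_10, lo_11,
        dg_00, dg_01, dg_10, dg_11, Units.coe_map, MonoidHom.coe_coe, ← map_inv, map_neg, map_one]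
    · linear_combination (algebraMap k R u) * hu
    · linear_combination (-1 : R) * hu
    · linear_combination hu
    · linear_combination (0 : R) * hu
  rw [e]
  exact mul_mem (mul_mem (mul_mem (hupK _) (hloK _)) (hupK _))
    (mul_mem (mul_mem (hupK _) (hloK _)) (hupK _))

end Shapes

section Field

variable {F : Type*} [Field F] [Finite F] {p : ℕ} [Fact p.Prime] [CharP F p]

/-- A normal subgroup of order prime to `p` of `SL(2, F)` is central. -/
theorem le_center_of_normal (hF : 4 ≤ Nat.card F) (hp : p ≠ 2) (N : Subgroup SL(2, F)) [N.Normal]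
    (hN : ¬ p ∣ Nat.card N) : N ≤ Subgroup.center SL(2, F) := by
  haveI := PSLSimple.isSimpleGroup_PSL_fin' (F := F) (n := 2) le_rfl fun _ => hF
  set π := QuotientGroup.mk' (Subgroup.center SL(2, F))
  rcases (Subgroup.Normal.map inferInstance π (QuotientGroup.mk'_surjective _) :
    (N.map π).Normal).eq_bot_or_eq_top with h | h
  · rw [Subgroup.map_eq_bot_iff, QuotientGroup.ker_mk'] at h
    exact h
  · exfalso
    obtain ⟨m, hm, he⟩ := (h ▸ Subgroup.mem_top (π (up 1)) : π (up 1) ∈ N.map π)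
    obtain ⟨z, hz, hz'⟩ := (QuotientGroup.mk'_eq_mk' _).1 he
    have hz2 : z * z = 1 := by
      rcases (PSL2Elements.mem_center_iff z).1 hz with rfl | rfl <;> simp
    have hmem : up (2 : F) ∈ N := by
      have : up (2 : F) = m * m := by
        rw [← one_add_one_eq_two (R := F), ← up_mul, ← hz', mul_assoc, ← mul_assoc z,
          ← Subgroup.mem_center_iff.1 hz m, mul_assoc m z z, hz2, mul_one]
      rw [this]; exact mul_mem hm hm
    have h2 : (2 : F) ≠ 0 := Ring.two_ne_zero (by rw [ringChar.eq F p]; exact hp)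
    refine hN ?_
    have ho : orderOf (up (2 : F)) = p := by
      refine orderOf_eq_prime ?_ fun h => h2 (up_injective (h.trans up_zero.symm))
      have : ∀ n : ℕ, up (2 : F) ^ n = up ((n : F) * 2) := by
        intro n
        induction n with
        | zero => simp [up_zero]
        | succ n ih => rw [pow_succ, ih, up_mul]; congr 1; push_cast; ring
      rw [this, CharP.cast_eq_zero, zero_mul, up_zero]
    rw [← ho, ← Subgroup.orderOf_mk _ hmem]
    exact orderOf_dvd_natCard _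

end Field

section Finite

variable {k : Type*} [Field k] {S : Type*} [CommRing S] [Algebra k S] {p : ℕ} [Fact p.Prime]

theorem up_pow (r : S) : ∀ n : ℕ, up r ^ n = up ((n : S) * r)
  | 0 => by simp [up_zero]
  | n + 1 => by rw [pow_succ, up_pow r n, up_mul]; congr 1; push_cast; ring

theorem lo_pow (r : S) : ∀ n : ℕ, lo r ^ n = lo ((n : S) * r)
  | 0 => by simp [lo_zero]
  | n + 1 => by rw [pow_succ, lo_pow r n, lo_mul]; congr 1; push_cast; ring

variable [Finite S]

/-- A normal subgroup of order divisible by `p` contains some `up r`. -/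
theorem exists_up_mem_normal (hp : p ≠ 2) (hpS : (p : S) = 0) (Γ : Subgroup SL(2, S))
    (h1 : up (1 : S) ∈ Γ) (L : Subgroup Γ) [L.Normal] (hL : p ∣ Nat.card L) :
    ∃ (r : S) (h : up r ∈ Γ), r ≠ 0 ∧ (⟨_, h⟩ : Γ) ∈ L := by
  have hu : IsPGroup p (Subgroup.zpowers (⟨_, h1⟩ : Γ)) := by
    rintro ⟨x, hx⟩
    obtain ⟨n, rfl⟩ := Subgroup.mem_zpowers_iff.1 hx
    refine ⟨1, Subtype.ext ?_⟩
    rw [SubmonoidClass.coe_pow, pow_one, ← zpow_natCast, ← _root_.zpow_mul, mul_comm, _root_.zpow_mul, zpow_natCast]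
    have h : (⟨_, h1⟩ : Γ) ^ p = 1 := Subtype.ext (by
      rw [SubmonoidClass.coe_pow, up_pow, hpS, zero_mul, up_zero]; rfl)
    rw [h, _root_.one_zpow]
    rfl
  obtain ⟨P, hP⟩ := hu.exists_le_sylow
  obtain ⟨⟨y, hy⟩, hyo⟩ := exists_prime_orderOf_dvd_card' p hL
  have hyo' : orderOf y = p := by rwa [Subgroup.orderOf_mk] at hyo
  have hyp : IsPGroup p (Subgroup.zpowers y) :=
    IsPGroup.of_card (n := 1) (by rw [Nat.card_zpowers, hyo', pow_one])
  obtain ⟨Q, hQ⟩ := hyp.exists_le_sylow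
  obtain ⟨g, hg⟩ := MulAction.exists_smul_eq Γ Q P
  have hgy : g * y * g⁻¹ ∈ (P : Subgroup Γ) := by
    rw [← hg, Sylow.coe_subgroup_smul]
    exact Subgroup.smul_mem_pointwise_smul y (MulAut.conj g) _ (hQ (Subgroup.mem_zpowers y))
  have hne : L.subgroupOf (P : Subgroup Γ) ≠ ⊥ := by
    intro h
    have h' : (⟨_, hgy⟩ : (P : Subgroup Γ)) ∈ L.subgroupOf P :=
      Subgroup.Normal.conj_mem inferInstance y hy g
    rw [h, Subgroup.mem_bot, Subtype.ext_iff] at h'
    have hy1 : y = 1 := conj_eq_one_iff.1 h'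
    rw [hy1, orderOf_one] at hyo'
    exact (Fact.out : p.Prime).one_lt.ne hyo'
  obtain ⟨w, hw, hw1⟩ := (Subgroup.bot_or_exists_ne_one _).resolve_left
    (PGroupsBasic.inf_center_ne_bot P.isPGroup' hne)
  have hc := (Subgroup.mem_center_iff.1 hw.2 ⟨_, hP (Subgroup.mem_zpowers _)⟩).symm
  obtain ⟨c10, cd⟩ := of_commute_up (congrArg (fun t : (P : Subgroup Γ) => ((t : Γ) : SL(2, S))) hc)
  obtain ⟨m, hm⟩ := P.isPGroup' w
  have heq := eq_up_of (by simpa using c10) (by simpa [sub_eq_zero] using cd)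
    (((Fact.out : p.Prime).odd_of_ne_two hp).pow (n := m))
    (congrArg (fun t : (P : Subgroup Γ) => ((t : Γ) : SL(2, S))) hm)
  have hmemr := heq ▸ ((w : Γ)).2
  refine ⟨_, hmemr, fun h => hw1 ?_, ?_⟩
  · apply Subtype.ext
    apply Subtype.ext
    rw [heq, h, up_zero]
    rfl
  · rw [show (⟨_, hmemr⟩ : Γ) = (w : Γ) from Subtype.ext heq.symm]
    exact hw.1

/-- Dickson's theorem in every residue field. -/
theorem residue (hk2 : (2 : k) ≠ 0) (hk3 : Nat.card k ≠ 3) {lam : S} (hlam : IsUnit lam)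
    (hgen : Algebra.adjoin k ({lam} : Set S) = ⊤) (q : ℕ) [CharP k q] (J : Ideal S) [J.IsMaximal] :
    dick k (Ideal.Quotient.mkₐ k J lam) = ⊤ ∧ CharP (S ⧸ J) q ∧ 4 ≤ Nat.card (S ⧸ J) := by
  classical
  letI := Ideal.Quotient.field J
  haveI : Finite (S ⧸ J) := Finite.of_surjective _ Ideal.Quotient.mk_surjective
  haveI : Finite k := Finite.of_injective _ (algebraMap k (S ⧸ J)).injective
  cases nonempty_fintype k
  refine ⟨QuadPairDickson.dick_eq_top hk2 hk3 (hlam.map _).ne_zero ?_,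
    (RingHom.charP_iff (algebraMap k (S ⧸ J)) (algebraMap k (S ⧸ J)).injective q).mp inferInstance, ?_⟩
  · rw [show ({Ideal.Quotient.mkₐ k J lam} : Set (S ⧸ J)) = Ideal.Quotient.mkₐ k J '' {lam} from
      Set.image_singleton.symm, ← AlgHom.map_adjoin, hgen, Algebra.map_top, AlgHom.range_eq_top]
    exact Ideal.Quotient.mkₐ_surjective k J
  · refine le_trans ?_ (Nat.card_le_card_of_injective _ (algebraMap k (S ⧸ J)).injective)
    have h2 : 1 < Nat.card k := Finite.one_lt_card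
    have h2' : Nat.card k ≠ 2 := by
      intro h
      have := Nat.card_eq_fintype_card (α := k) ▸ h
      apply hk2
      have h0 : ((Fintype.card k : ℕ) : k) = 0 := Nat.cast_card_eq_zero k
      rw [this] at h0
      exact h0
    omega

/-- The reduction modulo an ideal, restricted to `dick k λ`. -/
noncomputable def redHom (k : Type*) [Field k] {S : Type*} [CommRing S] [Algebra k S] (lam : S)
    (J : Ideal S) : dick k lam →* SL(2, S ⧸ J) :=
  (Matrix.SpecialLinearGroup.map (n := Fin 2) (Ideal.Quotient.mkₐ k J).toRingHom).comp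
    (dick k lam).subtype

theorem redHom_surjective {lam : S} {J : Ideal S}
    (h : dick k (Ideal.Quotient.mkₐ k J lam) = ⊤) : Function.Surjective (redHom k lam J) := by
  intro y
  have hy : y ∈ (dick k lam).map (Matrix.SpecialLinearGroup.map (n := Fin 2)
      (Ideal.Quotient.mkₐ k J).toRingHom) := by rw [map_dick, h]; trivial
  obtain ⟨z, hz, rfl⟩ := hy
  exact ⟨⟨z, hz⟩, rfl⟩

theorem isNilpotent_entries_sq {A : Matrix (Fin 2) (Fin 2) S} (h : ∀ i j, IsNilpotent (A i j)) :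
    IsNilpotent (A * A) := by
  have hA2 : A * A = (A 0 0 + A 1 1) • A - (A 0 0 * A 1 1 - A 0 1 * A 1 0) • 1 := by
    ext i j
    fin_cases i <;> fin_cases j <;> simp [Matrix.mul_apply, Fin.sum_univ_two] <;> ring
  rw [hA2]
  obtain ⟨i, hi⟩ := (Commute.all _ _).isNilpotent_add (h 0 0) (h 1 1)
  obtain ⟨j, hj⟩ := (Commute.all _ _).isNilpotent_sub
    ((Commute.all (A 0 0) (A 1 1)).isNilpotent_mul_right (h 0 0))
    ((Commute.all (A 0 1) (A 1 0)).isNilpotent_mul_right (h 0 1))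
  exact Commute.isNilpotent_sub (((Commute.one_right A).smul_right _).smul_left _)
    ⟨i, by rw [smul_pow, hi, zero_smul]⟩ ⟨j, by rw [smul_pow, hj, zero_smul]⟩

/-- A normal subgroup of `dick k λ` of order prime to `p` is central. -/
theorem kernel_central [Nontrivial S] (hk2 : (2 : k) ≠ 0) (hk3 : Nat.card k ≠ 3) {lam : S}
    (hlam : IsUnit lam) (hgen : Algebra.adjoin k ({lam} : Set S) = ⊤) (q : ℕ) [Fact q.Prime]
    [CharP k q] (hq2 : q ≠ 2) (N : Subgroup (dick k lam)) [N.Normal] (hN : ¬ q ∣ Nat.card N)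
    (n : dick k lam) (hn : n ∈ N) (x : dick k lam) : n * x = x * n := by
  have hc : n * x * n⁻¹ * x⁻¹ ∈ N := by
    rw [mul_assoc n x, mul_assoc n]
    exact mul_mem hn (Subgroup.Normal.conj_mem inferInstance _ (inv_mem hn) x)
  set c := n * x * n⁻¹ * x⁻¹ with hcdef
  have hnil : ∀ i j, IsNilpotent ((((c : SL(2, S)) : Matrix (Fin 2) (Fin 2) S) - 1) i j) := by
    intro i j
    rw [← mem_nilradical, nilradical_eq_sInf, Ideal.mem_sInf]
    intro J hJ
    haveI hJp : Ideal.IsPrime J := hJ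
    haveI : Finite (S ⧸ J) := Finite.of_surjective _ Ideal.Quotient.mk_surjective
    haveI : J.IsMaximal := Ideal.Quotient.maximal_of_isField J (Finite.isField_of_domain (S ⧸ J))
    obtain ⟨htop, hch, hcard⟩ := residue hk2 hk3 hlam hgen q J
    letI := Ideal.Quotient.field J
    haveI := hch
    haveI := Subgroup.Normal.map (inferInstance : N.Normal) _ (redHom_surjective htop)
    have hcen := le_center_of_normal (F := S ⧸ J) hcard hq2 (N.map (redHom k lam J))
      fun hd => hN (hd.trans (Subgroup.card_map_dvd _ _))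
    have hψn := hcen (Subgroup.mem_map_of_mem _ hn)
    have hψc : redHom k lam J c = 1 := by
      rw [hcdef, map_mul, map_mul, map_mul, map_inv, map_inv,
        ← Subgroup.mem_center_iff.1 hψn (redHom k lam J x)]
      group
    have h' : Ideal.Quotient.mk J ((c : SL(2, S)).1 i j) = (1 : Matrix (Fin 2) (Fin 2) (S ⧸ J)) i j :=
      congrArg (fun A : SL(2, S ⧸ J) => A.1 i j) hψc
    rw [← Ideal.Quotient.eq_zero_iff_mem, Matrix.sub_apply, map_sub, h']
    by_cases hij : i = j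
    · subst hij; simp
    · simp [Matrix.one_apply_ne hij]
  obtain ⟨N', hN'⟩ := isNilpotent_entries_sq hnil
  have hcq : c ^ q ^ (2 * N') = 1 := by
    apply Subtype.ext
    apply Subtype.ext
    rw [SubmonoidClass.coe_pow, Matrix.SpecialLinearGroup.coe_pow]
    show _ = (1 : Matrix (Fin 2) (Fin 2) S)
    haveI : CharP S q := (RingHom.charP_iff (algebraMap k S) (algebraMap k S).injective q).mp inferInstance
    have h2 := pow_eq_zero_of_le (Nat.lt_pow_self (n := 2 * N') (Fact.out : q.Prime).one_lt).le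
      (show (((c : SL(2, S)) : Matrix (Fin 2) (Fin 2) S) - 1) ^ (2 * N') = 0 by
        rw [pow_mul, sq, hN'])
    rwa [sub_pow_char_pow_of_commute (p := q) _ (Commute.one_right _), one_pow, sub_eq_zero] at h2
  have hc1 : c = 1 := by
    rw [← orderOf_eq_one_iff]
    refine Nat.eq_one_of_dvd_coprimes ?_ (orderOf_dvd_of_pow_eq_one hcq)
      (Subgroup.orderOf_mk c hc ▸ orderOf_dvd_natCard _)
    exact Nat.Coprime.pow_left _ ((Fact.out : q.Prime).coprime_iff_not_dvd.2 hN)
  rw [hcdef, mul_inv_eq_one, mul_inv_eq_iff_eq_mul] at hc1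
  exact hc1

/-- If every `up r` in `dick k λ`, `r ≠ 0`, has unit `r`, then `dick k λ` is everything. -/
theorem dick_eq_top_of_units [Nontrivial S] (hk2 : (2 : k) ≠ 0) (hk3 : Nat.card k ≠ 3) {lam : S}
    (hlam : IsUnit lam) (hgen : Algebra.adjoin k ({lam} : Set S) = ⊤)
    (hA : ∀ r : S, r ≠ 0 → up r ∈ dick k lam → IsUnit r) : dick k lam = ⊤ := by
  classical
  haveI : Finite k := Finite.of_injective _ (algebraMap k S).injective
  cases nonempty_fintype k
  obtain ⟨q, hchar⟩ := CharP.exists k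
  haveI : Fact q.Prime := ⟨CharP.char_is_prime k q⟩
  have hq2 : q ≠ 2 := by
    rintro rfl
    exact hk2 (CharP.cast_eq_zero k 2)
  have hqS : (q : S) = 0 := by rw [← map_natCast (algebraMap k S), CharP.cast_eq_zero, map_zero]
  set Γ := dick k lam
  haveI hfinq : ∀ I : Ideal S, Finite (S ⧸ I) := fun I =>
    Finite.of_surjective _ Ideal.Quotient.mk_surjective
  have hres : ∀ J : Ideal S, J.IsMaximal →
      dick k (Ideal.Quotient.mkₐ k J lam) = ⊤ ∧ CharP (S ⧸ J) q ∧ 4 ≤ Nat.card (S ⧸ J) :=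
    fun J hJ => residue hk2 hk3 hlam hgen q J
  obtain ⟨I, hI⟩ := Ideal.exists_maximal S
  obtain ⟨htopF, hcharF, hcardF⟩ := hres I hI
  letI := Ideal.Quotient.field I
  set π : S →ₐ[k] S ⧸ I := Ideal.Quotient.mkₐ k I
  have hπ : Function.Surjective π := Ideal.Quotient.mkₐ_surjective k I
  set φ : Γ →* SL(2, S ⧸ I) :=
    (Matrix.SpecialLinearGroup.map (n := Fin 2) π.toRingHom).comp Γ.subtype with hφ
  have hφs : Function.Surjective φ := by
    intro y
    have hy : y ∈ Γ.map (Matrix.SpecialLinearGroup.map (n := Fin 2) π.toRingHom) := by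
      rw [map_dick, htopF]; trivial
    obtain ⟨x, hx, rfl⟩ := hy
    exact ⟨⟨x, hx⟩, rfl⟩
  have h1 : up (1 : S) ∈ Γ := by simpa using up_mem_dick k lam (1 : k)
  have hN : ¬ q ∣ Nat.card φ.ker := fun hd => by
    obtain ⟨r, hr, hr0, hrN⟩ := exists_up_mem_normal hq2 hqS Γ h1 φ.ker hd
    have h := MonoidHom.mem_ker.1 hrN
    change Matrix.SpecialLinearGroup.map π.toRingHom (up r) = 1 at h
    rw [map_up, ← up_zero] at h
    exact ((hA r hr0 hr).map π).ne_zero (up_injective h)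
  have hker1 : ∀ g : Γ, φ g = 1 → ∀ m : ℕ, g ^ q ^ m = 1 → g = 1 := by
    intro g hg m hm
    rw [← orderOf_eq_one_iff]
    refine Nat.eq_one_of_dvd_coprimes ?_ (orderOf_dvd_of_pow_eq_one hm)
      (show orderOf g ∣ Nat.card φ.ker from
        Subgroup.orderOf_mk g (MonoidHom.mem_ker.2 hg) ▸ orderOf_dvd_natCard _)
    exact Nat.Coprime.pow_left _ ((Fact.out : q.Prime).coprime_iff_not_dvd.2 hN)
  -- the kernel is central
  have hcentral : ∀ n : Γ, φ n = 1 → ∀ x : Γ, n * x = x * n := fun n hn =>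
    kernel_central hk2 hk3 hlam hgen q hq2 φ.ker hN n (MonoidHom.mem_ker.2 hn)
  -- the Sylow subgroup over `k`
  let U : Subgroup Γ :=
    { carrier := {g | ∃ c : k, (g : SL(2, S)) = up (algebraMap k S c)}
      one_mem' := ⟨0, by simp [up_zero]⟩
      mul_mem' := fun {g h} ⟨c, hc⟩ ⟨d, hd⟩ => ⟨c + d, by
        rw [Subgroup.coe_mul, hc, hd, up_mul, map_add]⟩
      inv_mem' := fun {g} ⟨c, hc⟩ => ⟨-c, by rw [Subgroup.coe_inv, hc, up_inv, map_neg]⟩ }
  have hUp : IsPGroup q U := by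
    rintro ⟨g, c, hc⟩
    refine ⟨1, Subtype.ext (Subtype.ext ?_)⟩
    simp only [pow_one, SubmonoidClass.coe_pow, OneMemClass.coe_one]
    rw [hc, up_pow, hqS, zero_mul, up_zero]
  obtain ⟨P, hP⟩ := hUp.exists_le_sylow
  have hPk : ∀ c : k, (⟨_, up_mem_dick k lam c⟩ : Γ) ∈ (P : Subgroup Γ) := fun c => hP ⟨c, rfl⟩
  have hodd : ∀ m : ℕ, Odd (q ^ m) := fun m => ((Fact.out : q.Prime).odd_of_ne_two hq2).pow
  have h1P : (⟨_, h1⟩ : Γ) ∈ (P : Subgroup Γ) := hP ⟨1, by simp⟩
  haveI := hcharF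
  -- the image of `P`
  have himg : ∀ g ∈ (P : Subgroup Γ), φ g = up ((φ g).1 0 1) := by
    have hQp : IsPGroup q ((P : Subgroup Γ).map φ) := P.isPGroup'.map φ
    have h1Q : up (1 : S ⧸ I) ∈ (P : Subgroup Γ).map φ := ⟨_, h1P, by
      show Matrix.SpecialLinearGroup.map π.toRingHom (up 1) = _
      rw [map_up, map_one]⟩
    haveI : Nontrivial ↥((P : Subgroup Γ).map φ) :=
      (Subgroup.nontrivial_iff_exists_ne_one _).2
        ⟨_, h1Q, fun h => one_ne_zero (up_injective (h.trans up_zero.symm))⟩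
    haveI := hQp.center_nontrivial
    obtain ⟨⟨z, hz⟩, hz1⟩ := exists_ne (1 : Subgroup.center ↥((P : Subgroup Γ).map φ))
    have hzc := fun g => congrArg Subtype.val (Subgroup.mem_center_iff.1 hz g)
    obtain ⟨z10, zd⟩ := of_commute_up (r := (1 : S ⧸ I)) (g := (z : SL(2, S ⧸ I))) (hzc ⟨_, h1Q⟩).symm
    obtain ⟨m, hm⟩ := hQp z
    have hzu := eq_up_of (g := (z : SL(2, S ⧸ I))) (by simpa using z10)
      (by simpa [sub_eq_zero] using zd) (hodd m) (congrArg Subtype.val hm)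
    have hzr : (z : SL(2, S ⧸ I)).1 0 1 ≠ 0 := fun h => hz1 (Subtype.ext (Subtype.ext (by
      rw [hzu, h, up_zero]; rfl)))
    intro g hg
    have hgc := hzc ⟨_, Subgroup.mem_map_of_mem φ hg⟩
    rw [Subgroup.coe_mul, Subgroup.coe_mul, hzu] at hgc
    obtain ⟨g10, gd⟩ := of_commute_up hgc
    obtain ⟨m, hm⟩ := P.isPGroup' ⟨g, hg⟩
    exact eq_up_of ((mul_eq_zero.1 g10).resolve_left hzr)
      (sub_eq_zero.1 ((mul_eq_zero.1 gd).resolve_left hzr)) (hodd m)
      (by rw [← map_pow, show g ^ q ^ m = 1 from congrArg Subtype.val hm, map_one])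
  have hPcomm : ∀ g ∈ (P : Subgroup Γ), ∀ g' ∈ (P : Subgroup Γ), g * g' = g' * g := by
    intro g hg g' hg'
    have e : φ (g * g') = φ (g' * g) := by
      rw [map_mul, map_mul, himg g hg, himg g' hg', up_mul, up_mul, add_comm]
    have hmem : (g * g') * (g' * g)⁻¹ ∈ (P : Subgroup Γ) :=
      mul_mem (mul_mem hg hg') (inv_mem (mul_mem hg' hg))
    obtain ⟨m, hm⟩ := P.isPGroup' ⟨_, hmem⟩
    exact mul_inv_eq_one.1 (hker1 _ (by rw [map_mul, map_inv, e, mul_inv_cancel]) m
      (congrArg Subtype.val hm))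
  have hPup : ∀ g ∈ (P : Subgroup Γ), (g : SL(2, S)) = up ((g : SL(2, S)).1 0 1) := by
    intro g hg
    obtain ⟨g10, gd⟩ := of_commute_up (congrArg Subtype.val (hPcomm g hg _ h1P))
    obtain ⟨m, hm⟩ := P.isPGroup' ⟨g, hg⟩
    exact eq_up_of (by simpa using g10) (by simpa [sub_eq_zero] using gd) (hodd m)
      (congrArg (fun t : (P : Subgroup Γ) => ((t : Γ) : SL(2, S))) hm)
  -- every unipotent upper element lifts to `P`
  have hlift : ∀ t : S ⧸ I, ∃ g ∈ (P : Subgroup Γ), φ g = up t := by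
    intro t
    let UF : Subgroup SL(2, S ⧸ I) :=
      { carrier := Set.range up
        one_mem' := ⟨0, up_zero⟩
        mul_mem' := by rintro _ _ ⟨c, rfl⟩ ⟨d, rfl⟩; exact ⟨c + d, (up_mul c d).symm⟩
        inv_mem' := by rintro _ ⟨c, rfl⟩; exact ⟨-c, (up_inv c).symm⟩ }
    have hUF : IsPGroup q UF := by
      rintro ⟨_, c, rfl⟩
      refine ⟨1, Subtype.ext ?_⟩
      simp only [pow_one, SubmonoidClass.coe_pow, OneMemClass.coe_one]
      rw [up_pow, CharP.cast_eq_zero, zero_mul, up_zero]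
    have hle : ((P.mapSurjective hφs : Sylow q SL(2, S ⧸ I)) : Subgroup SL(2, S ⧸ I)) ≤ UF := by
      rw [Sylow.coe_mapSurjective]
      rintro _ ⟨g, hg, rfl⟩
      exact ⟨_, (himg g hg).symm⟩
    have := (P.mapSurjective hφs).is_maximal' hUF hle
    have ht : up t ∈ UF := ⟨t, rfl⟩
    rw [this, Sylow.coe_mapSurjective] at ht
    exact ht
  choose lift hliftP hliftφ using hlift
  set σ : S ⧸ I → S := fun t => ((lift t : Γ) : SL(2, S)).1 0 1 with hσ
  have hliftup : ∀ t, ((lift t : Γ) : SL(2, S)) = up (σ t) := fun t => hPup _ (hliftP t)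
  have hπσ : ∀ t, π (σ t) = t := fun t => by
    have h := hliftφ t
    change Matrix.SpecialLinearGroup.map π.toRingHom ((lift t : Γ) : SL(2, S)) = up t at h
    rw [hliftup, map_up] at h
    exact up_injective h
  -- `q`-elements with upper image lie in `P`
  have hmemP : ∀ (g : Γ) (t : S ⧸ I), (∃ m, g ^ q ^ m = 1) → φ g = up t → g = lift t := by
    rintro g t ⟨m, hm⟩ hg
    obtain ⟨m', hm'⟩ := P.isPGroup' ⟨_, hliftP t⟩
    have hz : φ ((lift t)⁻¹ * g) = 1 := by rw [map_mul, map_inv, hliftφ, hg, inv_mul_cancel]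
    have hc : Commute ((lift t)⁻¹) g := by
      have := hcentral _ hz g
      rw [← mul_assoc g] at this
      exact mul_right_cancel this
    refine (inv_mul_eq_one.1 (hker1 _ hz (m' + m) ?_)).symm
    rw [hc.mul_pow, pow_add, inv_pow, pow_mul, show lift t ^ q ^ m' = 1 from congrArg Subtype.val hm',
      one_pow, inv_one, one_mul, mul_comm, pow_mul, hm, one_pow]
  have hσadd : ∀ t u, σ (t + u) = σ t + σ u := by
    intro t u
    have hmem := mul_mem (hliftP t) (hliftP u)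
    obtain ⟨m, hm⟩ := P.isPGroup' ⟨_, hmem⟩
    have := hmemP (lift t * lift u) (t + u) ⟨m, congrArg Subtype.val hm⟩
      (by rw [map_mul, hliftφ, hliftφ, up_mul])
    have e := congrArg (fun g : Γ => (g : SL(2, S)).1 0 1) this
    simp only [Subgroup.coe_mul, hliftup, up_mul, up_01] at e
    exact e.symm
  have hσk : ∀ c : k, σ (algebraMap k (S ⧸ I) c) = algebraMap k S c := by
    intro c
    obtain ⟨m, hm⟩ := P.isPGroup' ⟨_, hPk c⟩
    have := hmemP ⟨_, up_mem_dick k lam c⟩ (algebraMap k (S ⧸ I) c) ⟨m, congrArg Subtype.val hm⟩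
      (by show Matrix.SpecialLinearGroup.map π.toRingHom (up _) = _; rw [map_up]; exact congrArg up (π.commutes c))
    exact (congrArg (fun g : Γ => (g : SL(2, S)).1 0 1) this).symm
  have hσ1 : σ 1 = 1 := by simpa using hσk 1
  have hσ0 : σ 0 = 0 := by simpa using hσk 0
  have hconj : ∀ (x : Γ) (t t' : S ⧸ I), φ x * up t * (φ x)⁻¹ = up t' →
      (x : SL(2, S)) * up (σ t) * (x : SL(2, S))⁻¹ = up (σ t') := by
    intro x t t' h
    obtain ⟨m, hm⟩ := P.isPGroup' ⟨_, hliftP t⟩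
    have := hmemP (x * lift t * x⁻¹) t' ⟨m, by
      rw [conj_pow, show lift t ^ q ^ m = 1 from congrArg Subtype.val hm, mul_one, mul_inv_cancel]⟩
      (by rw [map_mul, map_mul, map_inv, hliftφ, h])
    have e := congrArg Subtype.val this
    simpa [hliftup] using e
  have hsq : ∀ u t : S ⧸ I, σ (u * u * t) = σ (u * u) * σ t := by
    intro u t
    rcases eq_or_ne u 0 with rfl | hu
    · simp [hσ0]
    obtain ⟨x, hx⟩ := hφs (dg (Units.mk0 u hu))
    have key : ∀ t, (x : SL(2, S)) * up (σ t) * (x : SL(2, S))⁻¹ = up (σ (u * u * t)) :=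
      fun t => hconj x t _ (by rw [hx, dg_conj_up]; rfl)
    have h1' := key 1
    rw [hσ1, mul_one] at h1'
    have h10 := eq_zero_of_conj_up_upper h1'
    obtain ⟨-, e1, -, -⟩ := conj_up_entries (x : SL(2, S)) 1
    obtain ⟨-, et, -, -⟩ := conj_up_entries (x : SL(2, S)) (σ t)
    rw [h1', up_01, mul_one] at e1
    rw [key t, up_01] at et
    rw [et, e1]
  have h2F : (2 : S ⧸ I) ≠ 0 := by
    rw [← map_ofNat (algebraMap k (S ⧸ I)) 2, Ne, map_eq_zero]; exact hk2
  have hmul : ∀ s t : S ⧸ I, σ (s * t) = σ s * σ t := by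
    intro s t
    have e : s = (s + 1) / 2 * ((s + 1) / 2) - (s - 1) / 2 * ((s - 1) / 2) := by field_simp; ring
    set σ' : (S ⧸ I) →+ S := AddMonoidHom.mk' σ hσadd
    show σ' (s * t) = σ' s * σ' t
    rw [e, sub_mul, map_sub, map_sub, sub_mul]
    exact congrArg₂ _ (hsq _ t) (hsq _ t)
  let σA : (S ⧸ I) →ₐ[k] S :=
    { toFun := σ
      map_one' := hσ1
      map_mul' := hmul
      map_zero' := hσ0
      map_add' := hσadd
      commutes' := hσk }
  -- the lower side
  obtain ⟨w, hw⟩ := hφs anti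
  have hanti : ∀ t : S ⧸ I, (anti : SL(2, S ⧸ I)) * up t * anti⁻¹ = lo (-t) := fun t => by
    rw [mul_inv_eq_iff_eq_mul]
    apply sl_ext <;> simp [QuadPairSL2.mul_apply]
  have hanti' : ∀ t : S ⧸ I, (anti : SL(2, S ⧸ I)) * up t = lo (-t) * anti := fun t =>
    mul_inv_eq_iff_eq_mul.1 (hanti t)
  have hlamΓ : lo lam ∈ Γ := by simpa using lo_mem_dick k lam (1 : k)
  have hlow : ∀ (g : Γ) (t : S ⧸ I), (∃ m, g ^ q ^ m = 1) → φ g = lo t →
      (g : SL(2, S)) = lo ((g : SL(2, S)).1 1 0) := by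
    rintro g t ⟨m, hm⟩ hg
    have key : ∀ (h : Γ) (s : S ⧸ I), (∃ m, h ^ q ^ m = 1) → φ h = lo s →
        w⁻¹ * h * w ∈ (P : Subgroup Γ) := by
      rintro h s ⟨m, hm⟩ hh
      have := hmemP (w⁻¹ * h * w) (-s) ⟨m, by
        rw [show w⁻¹ * h * w = w⁻¹ * h * (w⁻¹)⁻¹ by rw [inv_inv], conj_pow, hm]; simp⟩ (by
          rw [map_mul, map_mul, map_inv, hw, hh, mul_assoc, inv_mul_eq_iff_eq_mul,
            hanti', neg_neg])
      rw [this]; exact hliftP _
    have hl : φ ⟨_, hlamΓ⟩ = lo (π lam) := map_lo _ _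
    have hcomm := hPcomm _ (key g t ⟨m, hm⟩ hg) _ (key ⟨_, hlamΓ⟩ _ ⟨1, by
      apply Subtype.ext
      rw [pow_one, SubmonoidClass.coe_pow, lo_pow, hqS, zero_mul, lo_zero]; rfl⟩ hl)
    have hcomm' : g * ⟨_, hlamΓ⟩ = ⟨_, hlamΓ⟩ * g := by
      have := congrArg (fun y => w * y * w⁻¹) hcomm
      simpa [mul_assoc] using this
    obtain ⟨g01, gd⟩ := of_commute_lo (congrArg Subtype.val hcomm')
    exact eq_lo_of (hlam.mul_right_eq_zero.1 g01) (sub_eq_zero.1 (hlam.mul_right_eq_zero.1 gd))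
      (hodd m) (congrArg Subtype.val hm)
  set g₁ := w * lift 1 * w⁻¹ with hg₁
  obtain ⟨m₁, hm₁⟩ := P.isPGroup' ⟨_, hliftP 1⟩
  have hg₁φ : φ g₁ = lo (-1) := by rw [hg₁, map_mul, map_mul, map_inv, hw, hliftφ, hanti]
  have hg₁lo := hlow g₁ (-1) ⟨m₁, by
    rw [hg₁, conj_pow, show lift 1 ^ q ^ m₁ = 1 from congrArg Subtype.val hm₁, mul_one, mul_inv_cancel]⟩ hg₁φ
  set β := (g₁ : SL(2, S)).1 1 0
  set w₁ : Γ := ⟨_, h1⟩ * g₁ * ⟨_, h1⟩ with hw₁
  have hw₁φ : φ w₁ = anti := by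
    have h1φ : φ ⟨_, h1⟩ = up 1 := (map_up _ _).trans (congrArg up (map_one _))
    rw [hw₁, map_mul, map_mul, h1φ, hg₁φ, anti_eq]
  have hβ : β = -1 := by
    obtain ⟨m, hm⟩ := P.isPGroup' ⟨_, h1P⟩
    have h := hlow (w₁ * ⟨_, h1⟩ * w₁⁻¹) (-1) ⟨m, by
      rw [conj_pow, show (⟨_, h1⟩ : Γ) ^ q ^ m = 1 from congrArg Subtype.val hm, mul_one, mul_inv_cancel]⟩
      (by rw [map_mul, map_mul, map_inv, hw₁φ,
        show φ ⟨_, h1⟩ = up 1 from (map_up _ _).trans (congrArg up (map_one _)), hanti])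
    have h00 := eq_zero_of_conj_up_lower h
    rw [hw₁, Subgroup.coe_mul, Subgroup.coe_mul, hg₁lo, QuadPairSL2.mul_apply, QuadPairSL2.mul_apply] at h00
    simp [QuadPairSL2.mul_apply] at h00
    linear_combination h00
  have hlamσ : lam ∈ σA.range := by
    have hw₁' : (w₁ : SL(2, S)) = anti := by
      rw [hw₁, Subgroup.coe_mul, Subgroup.coe_mul, hg₁lo, hβ, anti_eq]
    obtain ⟨x, hx⟩ : ∃ x : Γ, (x : SL(2, S)) = up (-lam) := by
      refine ⟨w₁⁻¹ * ⟨_, hlamΓ⟩ * w₁, ?_⟩
      rw [Subgroup.coe_mul, Subgroup.coe_mul, Subgroup.coe_inv, hw₁', mul_assoc, inv_mul_eq_iff_eq_mul]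
      apply sl_ext <;> simp [QuadPairSL2.mul_apply]
    have hxl := hmemP x (π (-lam)) ⟨1, by
      apply Subtype.ext
      rw [pow_one, SubmonoidClass.coe_pow, hx, up_pow, hqS, zero_mul, up_zero]; rfl⟩
      (by show Matrix.SpecialLinearGroup.map π.toRingHom (x : SL(2, S)) = _; rw [hx, map_up]; rfl)
    have e : σ (π (-lam)) = -lam := by
      show ((lift (π (-lam)) : Γ) : SL(2, S)).1 0 1 = -lam
      rw [← hxl, hx, up_01]
    refine ⟨-π (-lam), ?_⟩
    show σA (-π (-lam)) = lam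
    rw [map_neg]
    show -σ (π (-lam)) = lam
    rw [e, neg_neg]
  have hsurj : Function.Surjective σA := by
    rw [← AlgHom.range_eq_top, eq_top_iff, ← hgen, Algebra.adjoin_le_iff]
    exact Set.singleton_subset_iff.2 hlamσ
  have hinj : Function.Injective π := fun x y h => by
    obtain ⟨x, rfl⟩ := hsurj x
    obtain ⟨y, rfl⟩ := hsurj y
    have hx : π (σA x) = x := hπσ x
    have hy : π (σA y) = y := hπσ y
    rw [hx, hy] at h
    rw [h]
  refine (Subgroup.map_injective (f := Matrix.SpecialLinearGroup.map (n := Fin 2) π.toRingHom) ?_) ?_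
  · intro x y h
    apply Subtype.ext
    ext i j
    exact hinj (congrArg (fun A : SL(2, S ⧸ I) => A.1 i j) h)
  · rw [map_dick, htopF, ← MonoidHom.range_eq_map, eq_comm, MonoidHom.range_eq_top]
    intro y
    obtain ⟨x, rfl⟩ := hφs y
    exact ⟨x, rfl⟩

/-- An element `up r` in the kernel of the reduction to a nilpotent part. -/
theorem exists_up_ker {S₀ F : Type*} [CommRing S₀] [Algebra k S₀] [Field F] [Algebra k F]
    (hk2 : (2 : k) ≠ 0) (hk3 : Nat.card k ≠ 3) {lam : S} (π₀ : S →ₐ[k] S₀) (π₁ : S →ₐ[k] F)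
    (h₀ : IsNilpotent (π₀ lam)) (h₁ : π₁ lam ≠ 0) (hs : Function.Surjective π₁)
    (hgen : Algebra.adjoin k ({lam} : Set S) = ⊤) :
    ∃ r : S, r ≠ 0 ∧ π₀ r = 0 ∧ up r ∈ dick k lam := by
  haveI : Nontrivial S := π₁.toRingHom.domain_nontrivial
  haveI : Finite k := Finite.of_injective _ (algebraMap k S).injective
  haveI : Finite F := Finite.of_surjective _ hs
  cases nonempty_fintype k
  obtain ⟨q, hchar⟩ := CharP.exists k
  haveI : Fact q.Prime := ⟨CharP.char_is_prime k q⟩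
  have hq2 : q ≠ 2 := by
    rintro rfl
    exact hk2 (CharP.cast_eq_zero k 2)
  have hqS : (q : S) = 0 := by rw [← map_natCast (algebraMap k S), CharP.cast_eq_zero, map_zero]
  haveI : CharP F q := (RingHom.charP_iff (algebraMap k F) (algebraMap k F).injective q).mp hchar
  have htop : dick k (π₁ lam) = ⊤ := QuadPairDickson.dick_eq_top hk2 hk3 h₁ (by
    rw [show ({π₁ lam} : Set F) = π₁ '' {lam} from Set.image_singleton.symm, ← AlgHom.map_adjoin,
      hgen, Algebra.map_top, AlgHom.range_eq_top]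
    exact hs)
  obtain ⟨u, hu0, hu1⟩ : ∃ u : k, u ≠ 0 ∧ u * u - 1 ≠ 0 := by
    obtain ⟨u, hu0, hu1⟩ := PSLSimple.exists_sq_ne_one (F := k) (by
      have h2 : 1 < Nat.card k := Finite.one_lt_card
      have h2' : Nat.card k ≠ 2 := by
        intro h
        have := Nat.card_eq_fintype_card (α := k) ▸ h
        apply hk2
        have h0 : ((Fintype.card k : ℕ) : k) = 0 := Nat.cast_card_eq_zero k
        rw [this] at h0
        exact h0
      omega)
    exact ⟨u, hu0, sub_ne_zero.2 (by rwa [← sq])⟩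
  have huF : algebraMap k F u ≠ 0 := by simpa using hu0
  obtain ⟨h, hh, hhe⟩ : ∃ h ∈ dick k lam,
      Matrix.SpecialLinearGroup.map π₁.toRingHom h = dg (Units.mk0 _ huF) := by
    have : dg (Units.mk0 _ huF) ∈ (dick k lam).map
        (Matrix.SpecialLinearGroup.map (n := Fin 2) π₁.toRingHom) := by
      rw [map_dick, htop]; trivial
    obtain ⟨h, hh, e⟩ := this
    exact ⟨h, hh, e⟩
  set f₀ := Matrix.SpecialLinearGroup.map (n := Fin 2) π₀.toRingHom
  set f₁ := Matrix.SpecialLinearGroup.map (n := Fin 2) π₁.toRingHom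
  have hdu : ∀ g ∈ dick k lam, f₀ g ∈ uni (π₀ lam) := fun g hg =>
    dick_le_uni _ k (map_dick k π₀ lam ▸ Subgroup.mem_map_of_mem f₀ hg)
  have h1 : up (1 : S) ∈ dick k lam := by simpa using up_mem_dick k lam (1 : k)
  obtain ⟨m, hm⟩ := iter_eq_one (π₀ lam) h₀ (hdu h hh) (hdu _ h1)
  set x := iter h m (up (1 : S)) with hxdef
  have hx : x ∈ dick k lam := iter_mem hh h1 m
  let L : Subgroup (dick k lam) := (f₀.comp (dick k lam).subtype).ker
  have hxL : (⟨x, hx⟩ : dick k lam) ∈ L := by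
    show f₀ x = 1
    rw [hxdef, map_iter]; exact hm m le_rfl
  have hx1 : f₁ x = up ((algebraMap k F (u * u - 1)) ^ m) := by
    rw [hxdef, map_iter, map_up, map_one, hhe,
      iter_up (fun s => (dg_conj_up (Units.mk0 _ huF) s).trans (by rw [Units.val_mk0])), mul_one,
      map_sub, map_mul, map_one]
  have hpL : q ∣ Nat.card L := by
    have ho : orderOf (f₁ x) = q := by
      rw [hx1]
      refine orderOf_eq_prime ?_ fun h => ?_
      · rw [up_pow, CharP.cast_eq_zero, zero_mul, up_zero]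
      · exact pow_ne_zero m ((map_ne_zero (algebraMap k F)).2 hu1)
          (up_injective (h.trans up_zero.symm))
    refine (ho ▸ orderOf_map_dvd (f₁.comp (dick k lam).subtype) (⟨x, hx⟩ : dick k lam) :
      q ∣ orderOf (⟨x, hx⟩ : dick k lam)).trans ?_
    exact Subgroup.orderOf_mk (⟨x, hx⟩ : dick k lam) hxL ▸ orderOf_dvd_natCard _
  obtain ⟨r, hr, hr0, hrL⟩ := exists_up_mem_normal hq2 hqS (dick k lam) h1 L hpL
  refine ⟨r, hr0, ?_, hr⟩
  have : f₀ (up r) = 1 := hrL
  rw [map_up, ← up_zero] at this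
  exact up_injective this

end Finite

end Cfsg.Agent.QuadPairRed
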