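import Mathlib

/-!
Regular continued fractions `Q/P` alternating between quotients `s X` and `t`:
existence, for squarefree `Q` with `Q(0) = 0` over an infinite field, of generic numerators `P`.
-/

set_option autoImplicit false

namespace Cfsg.Agent.QuadPairEuclid

open Polynomial

variable {R S : Type*} [CommRing R] [CommRing S]

/-- The intermediate polynomial of a double division step. -/
noncomputable def mid (n : ℕ) (Q P : R[X]) : R[X] :=
  C (P.coeff (n + 1)) * Q - C (Q.coeff (n + 2)) * X * P

/-- The numerator after a double division step. -/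
noncomputable def nextQ (n : ℕ) (Q P : R[X]) : R[X] :=
  C ((mid n Q P).coeff (n + 1)) * mid n Q P

/-- The denominator after a double division step. -/
noncomputable def nextP (n : ℕ) (Q P : R[X]) : R[X] :=
  C ((mid n Q P).coeff (n + 1) * P.coeff (n + 1)) * P - C (P.coeff (n + 1) ^ 2) * mid n Q P

/-- Product of all leading coefficients met by the division algorithm. -/
noncomputable def disc : ℕ → R[X] → R[X] → R
  | 0, _, P => P.coeff 0
  | 1, Q, P => Q.coeff 1 * P.coeff 0
  | n + 2, Q, P => Q.coeff (n + 2) * P.coeff (n + 1) * disc (n + 1) (nextQ n Q P) (nextP n Q P)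

theorem mid_map (f : R →+* S) (n : ℕ) (Q P : R[X]) :
    (mid n Q P).map f = mid n (Q.map f) (P.map f) := by
  simp [mid]

theorem nextQ_map (f : R →+* S) (n : ℕ) (Q P : R[X]) :
    (nextQ n Q P).map f = nextQ n (Q.map f) (P.map f) := by
  simp [nextQ, ← mid_map]

theorem nextP_map (f : R →+* S) (n : ℕ) (Q P : R[X]) :
    (nextP n Q P).map f = nextP n (Q.map f) (P.map f) := by
  simp [nextP, ← mid_map]

theorem disc_map (f : R →+* S) : ∀ (n : ℕ) (Q P : R[X]), f (disc n Q P) = disc n (Q.map f) (P.map f)
  | 0, _, P => by simp [disc]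
  | 1, Q, P => by simp [disc]
  | n + 2, Q, P => by
    simp only [disc, map_mul, coeff_map, disc_map f (n + 1), nextQ_map, nextP_map]

/-- Degree bounds of a state. -/
structure State (n : ℕ) (Q P : R[X]) : Prop where
  degQ : Q.degree ≤ (n + 1 : ℕ)
  degP : P.degree ≤ (n : ℕ)
  root : Q.coeff 0 = 0

theorem State.map {n : ℕ} {Q P : R[X]} (h : State n Q P) (f : R →+* S) : State n (Q.map f) (P.map f) :=
  ⟨degree_map_le.trans h.degQ, degree_map_le.trans h.degP, by rw [coeff_map, h.root, map_zero]⟩

theorem coeff_X_mul_succ (P : R[X]) (i : ℕ) : (X * P).coeff (i + 1) = P.coeff i := coeff_X_mul P i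

theorem mid_state {n : ℕ} {Q P : R[X]} (h : State (n + 1) Q P) :
    (mid n Q P).degree ≤ (n + 1 : ℕ) ∧ (mid n Q P).coeff 0 = 0 := by
  constructor
  · rw [degree_le_iff_coeff_zero]
    intro i hi
    have hi' : n + 1 < i := by exact_mod_cast hi
    obtain ⟨j, rfl⟩ : ∃ j, i = j + 1 := ⟨i - 1, by omega⟩
    have hP : ∀ l, n + 1 < l → P.coeff l = 0 := fun l hl =>
      coeff_eq_zero_of_degree_lt (lt_of_le_of_lt h.degP (by exact_mod_cast hl))
    have hQ : ∀ l, n + 2 < l → Q.coeff l = 0 := fun l hl =>
      coeff_eq_zero_of_degree_lt (lt_of_le_of_lt h.degQ (by exact_mod_cast hl))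
    simp only [mid, coeff_sub, mul_assoc, coeff_C_mul, coeff_X_mul_succ]
    rcases Nat.lt_or_ge (n + 1) j with hj | hj
    · rw [hP j hj, hQ (j + 1) (by omega)]; ring
    · have : j = n + 1 := by omega
      subst this
      ring
  · simp [mid, h.root]

theorem next_state {n : ℕ} {Q P : R[X]} (h : State (n + 1) Q P) :
    State n (nextQ n Q P) (nextP n Q P) := by
  obtain ⟨hd, h0⟩ := mid_state h
  refine ⟨?_, ?_, ?_⟩
  · rw [nextQ, degree_le_iff_coeff_zero]
    intro i hi
    rw [coeff_C_mul, coeff_eq_zero_of_degree_lt (lt_of_le_of_lt hd hi), mul_zero]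
  · rw [degree_le_iff_coeff_zero]
    intro i hi
    have hi' : n < i := by exact_mod_cast hi
    simp only [nextP, coeff_sub, coeff_C_mul]
    rcases Nat.lt_or_ge (n + 1) i with h1 | h1
    · have hPi : P.coeff i = 0 :=
        coeff_eq_zero_of_degree_lt (lt_of_le_of_lt h.degP (by exact_mod_cast h1))
      have hMi : (mid n Q P).coeff i = 0 :=
        coeff_eq_zero_of_degree_lt (lt_of_le_of_lt hd (by exact_mod_cast h1))
      rw [hPi, hMi]
      ring
    · have : i = n + 1 := by omega
      subst this
      ring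
  · rw [nextQ, coeff_C_mul, h0, mul_zero]

theorem State.eq_of_zero {Q P : R[X]} (h : State 0 Q P) :
    P = C (P.coeff 0) ∧ Q = C (Q.coeff 1) * X := by
  refine ⟨eq_C_of_degree_le_zero (by simpa using h.degP), ?_⟩
  have := eq_X_add_C_of_degree_le_one (p := Q) (by simpa using h.degQ)
  rwa [h.root, C_0, add_zero] at this

section Field

variable {L : Type*} [Field L]

theorem disc_coeff_ne {n : ℕ} {Q P : L[X]} (h : disc (n + 1) Q P ≠ 0) :
    Q.coeff (n + 1) ≠ 0 ∧ P.coeff n ≠ 0 := by
  cases n with
  | zero => simp only [disc, ne_eq, mul_eq_zero, not_or] at h; exact h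
  | succ n => simp only [disc, ne_eq, mul_eq_zero, not_or] at h; exact h.1

theorem mid_coeff_ne {n : ℕ} {Q P : L[X]} (h : disc (n + 2) Q P ≠ 0) :
    (mid n Q P).coeff (n + 1) ≠ 0 := by
  simp only [disc, ne_eq, mul_eq_zero, not_or] at h
  intro h0
  have := (disc_coeff_ne h.2).1
  rw [nextQ, coeff_C_mul, h0, zero_mul] at this
  exact this rfl

theorem eval_zero_of_mid {n : ℕ} {Q P : L[X]} (hp : P.coeff (n + 1) ≠ 0)
    (hm : (mid n Q P).coeff (n + 1) ≠ 0) {y : L} (h1 : (nextQ n Q P).eval y = 0)
    (h2 : (nextP n Q P).eval y = 0) : Q.eval y = 0 ∧ P.eval y = 0 := by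
  have hmid : (mid n Q P).eval y = 0 := by
    rw [nextQ, eval_mul, eval_C] at h1
    exact (mul_eq_zero.1 h1).resolve_left hm
  have hP : P.eval y = 0 := by
    rw [nextP, eval_sub, eval_mul, eval_mul, eval_C, eval_C, hmid, mul_zero, sub_zero] at h2
    exact (mul_eq_zero.1 h2).resolve_left (mul_ne_zero hm hp)
  refine ⟨?_, hP⟩
  rw [mid, eval_sub, eval_mul, eval_mul, eval_mul, eval_C, eval_C, hP, mul_zero, sub_zero] at hmid
  exact (mul_eq_zero.1 hmid).resolve_left hp

theorem coeff_X_sub_C_mul (x : L) (p : L[X]) (i : ℕ) :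
    ((X - C x) * p).coeff (i + 1) = p.coeff i - x * p.coeff (i + 1) := by
  rw [sub_mul, coeff_sub, coeff_X_mul, coeff_C_mul]

variable [Infinite L]

/-- A one-parameter deformation of a common linear factor times a regular pair is regular. -/
theorem deform : ∀ (n : ℕ) (Q P : L[X][X]) (q p : L[X]) (x : L),
    State (n + 1) Q P → State n q p → x ≠ 0 →
    Q.map (evalRingHom 0) = (X - C x) * q → P.map (evalRingHom 0) = (X - C x) * p →
    disc (n + 1) q p ≠ 0 →
    (∃ B : Finset L, ∀ e ∉ B, ∀ y : L,
      ¬ ((Q.map (evalRingHom e)).eval y = 0 ∧ (P.map (evalRingHom e)).eval y = 0)) →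
    disc (n + 2) Q P ≠ 0 := by
  classical
  intro n
  induction n with
  | zero =>
    intro Q P q p x hS hs hx hQ hP hd ⟨B, hB⟩
    obtain ⟨hq1, hp0⟩ := disc_coeff_ne hd
    obtain ⟨hpC, hqC⟩ := hs.eq_of_zero
    have hev : ∀ (A : L[X][X]) (e : L) (i : ℕ), (A.map (evalRingHom e)).coeff i = (A.coeff i).eval e :=
      fun A e i => by rw [coeff_map]; rfl
    have hp1 : P.coeff 1 ≠ 0 := by
      intro h
      apply hp0
      have := hev P 0 1
      rw [h, eval_zero, hP, coeff_X_sub_C_mul, coeff_eq_zero_of_degree_lt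
        (lt_of_le_of_lt hs.degP (by norm_num) : p.degree < (1 : ℕ))] at this
      simpa using this
    have hq2 : Q.coeff 2 ≠ 0 := by
      intro h
      apply hq1
      have := hev Q 0 2
      rw [h, eval_zero, hQ, coeff_X_sub_C_mul, coeff_eq_zero_of_degree_lt
        (lt_of_le_of_lt hs.degQ (by norm_num) : q.degree < (2 : ℕ))] at this
      simpa using this
    have hP0 : P.coeff 0 ≠ 0 := by
      intro h
      have := hev P 0 0
      rw [h, eval_zero, hP, mul_coeff_zero, coeff_sub, coeff_X_zero, coeff_C_zero, zero_sub] at this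
      exact mul_ne_zero (neg_ne_zero.2 hx) hp0 this
    have hm : (mid 0 Q P).coeff 1 ≠ 0 := by
      intro h0
      obtain ⟨hd', h00⟩ := mid_state hS
      have hz : mid 0 Q P = 0 := by
        rw [eq_X_add_C_of_degree_le_one (p := mid 0 Q P) (by simpa using hd'), h00, h0]
        simp
      obtain ⟨e, he⟩ := Infinite.exists_notMem_finset (B ∪ (P.coeff 1).roots.toFinset)
      simp only [Finset.mem_union, Multiset.mem_toFinset, mem_roots hp1, IsRoot.def, not_or] at he
      have hPe := hev P e
      have hlin : P.map (evalRingHom e) =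
          C ((P.coeff 1).eval e) * X + C ((P.coeff 0).eval e) := by
        rw [← hPe, ← hPe]
        exact eq_X_add_C_of_degree_le_one (by simpa using (hS.map (evalRingHom e)).degP)
      set y : L := - (P.coeff 0).eval e / (P.coeff 1).eval e with hy
      have hPy : (P.map (evalRingHom e)).eval y = 0 := by
        rw [hlin, eval_add, eval_mul, eval_C, eval_C, eval_X, hy]
        field_simp [he.2]
        ring
      refine hB e he.1 y ⟨?_, hPy⟩
      have := congrArg (fun A : L[X][X] => (A.map (evalRingHom e)).eval y) hz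
      simp only [mid_map, Polynomial.map_zero, eval_zero] at this
      rw [mid, eval_sub, eval_mul, eval_mul, eval_mul, eval_C, eval_C, hPy, mul_zero, sub_zero] at this
      refine (mul_eq_zero.1 this).resolve_left ?_
      rw [hPe]; exact he.2
    simp only [disc]
    refine mul_ne_zero (mul_ne_zero hq2 hp1) (mul_ne_zero ?_ ?_)
    · rw [nextQ, coeff_C_mul]; exact mul_ne_zero hm hm
    · rw [nextP, coeff_sub, coeff_C_mul, coeff_C_mul, (mid_state hS).2, mul_zero, sub_zero]
      exact mul_ne_zero (mul_ne_zero hm hp1) hP0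
  | succ n ih =>
    intro Q P q p x hS hs hx hQ hP hd ⟨B, hB⟩
    have hd' := hd
    simp only [disc, ne_eq, mul_eq_zero, not_or] at hd'
    obtain ⟨⟨hq, hp⟩, hrest⟩ := hd'
    have hmq := mid_coeff_ne hd
    have hz : ∀ (A : L[X]) (m i : ℕ), A.degree ≤ (m : ℕ) → m < i → A.coeff i = 0 := fun A m i h hi =>
      coeff_eq_zero_of_degree_lt (lt_of_le_of_lt h (by exact_mod_cast hi))
    have e1 : ((X - C x) * q).coeff (n + 1 + 2) = q.coeff (n + 2) := by
      rw [show n + 1 + 2 = (n + 2) + 1 from rfl, coeff_X_sub_C_mul, hz q _ (n + 2 + 1) hs.degQ (by omega)]; ring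
    have e2 : ((X - C x) * p).coeff (n + 1 + 1) = p.coeff (n + 1) := by
      rw [coeff_X_sub_C_mul, hz p _ (n + 1 + 1) hs.degP (by omega)]; ring
    have hmid : mid (n + 1) ((X - C x) * q) ((X - C x) * p) = (X - C x) * mid n q p := by
      rw [mid, e1, e2, mid]; ring
    have e3 : ((X - C x) * mid n q p).coeff (n + 1 + 1) = (mid n q p).coeff (n + 1) := by
      rw [coeff_X_sub_C_mul, hz (mid n q p) _ (n + 1 + 1) (mid_state hs).1 (by omega)]; ring
    have hnQ : (nextQ (n + 1) Q P).map (evalRingHom 0) = (X - C x) * nextQ n q p := by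
      rw [nextQ_map, hQ, hP, nextQ, hmid, e3, nextQ]; ring
    have hnP : (nextP (n + 1) Q P).map (evalRingHom 0) = (X - C x) * nextP n q p := by
      rw [nextP_map, hQ, hP, nextP, hmid, e2, e3, nextP]; ring
    have hP2 : P.coeff (n + 2) ≠ 0 := by
      intro h
      have := congrArg (fun A => A.coeff (n + 2)) hP
      simp only [coeff_map, h, map_zero] at this
      rw [e2] at this
      exact hp this.symm
    have hQ2 : Q.coeff (n + 3) ≠ 0 := by
      intro h
      have := congrArg (fun A => A.coeff (n + 3)) hQ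
      simp only [coeff_map, h, map_zero] at this
      rw [show n + 3 = n + 1 + 2 from rfl, e1] at this
      exact hq this.symm
    have hM : (mid (n + 1) Q P).coeff (n + 2) ≠ 0 := by
      intro h
      apply hmq
      rw [← e3, ← hmid, ← hQ, ← hP, ← mid_map, coeff_map, h, map_zero]
    show Q.coeff (n + 3) * P.coeff (n + 2) * disc (n + 2) (nextQ (n + 1) Q P) (nextP (n + 1) Q P) ≠ 0
    refine mul_ne_zero (mul_ne_zero hQ2 hP2)
      (ih _ _ _ _ x (next_state hS) (next_state hs) hx hnQ hnP hrest
        ⟨B ∪ (P.coeff (n + 2)).roots.toFinset ∪ ((mid (n + 1) Q P).coeff (n + 2)).roots.toFinset,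
          fun e he y hy => ?_⟩)
    simp only [Finset.mem_union, Multiset.mem_toFinset, mem_roots hP2, mem_roots hM, IsRoot.def,
      not_or] at he
    rw [nextQ_map, nextP_map] at hy
    refine hB e he.1.1 y (eval_zero_of_mid ?_ ?_ hy.1 hy.2)
    · rw [coeff_map]; exact he.1.2
    · rw [← mid_map, coeff_map]; exact he.2

/-- The numerator with given simple nonzero roots. -/
noncomputable def splitQ (c : L) (s : Finset L) : L[X] := C c * X * ∏ x ∈ s, (X - C x)

theorem degree_splitQ_le (c : L) (s : Finset L) : (splitQ c s).degree ≤ (s.card + 1 : ℕ) := by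
  classical
  induction s using Finset.induction_on with
  | empty => simpa [splitQ] using degree_C_mul_X_le c
  | @insert x s hx ih =>
    have : splitQ c (insert x s) = (X - C x) * splitQ c s := by
      simp only [splitQ, Finset.prod_insert hx]; ring
    rw [this, Finset.card_insert_of_notMem hx, degree_le_iff_coeff_zero]
    intro i hi
    have hi' : s.card + 1 + 1 < i := by exact_mod_cast hi
    obtain ⟨j, rfl⟩ : ∃ j, i = j + 1 := ⟨i - 1, by omega⟩
    rw [coeff_X_sub_C_mul,
      coeff_eq_zero_of_degree_lt (lt_of_le_of_lt ih (by exact_mod_cast (by omega : s.card + 1 < j))),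
      coeff_eq_zero_of_degree_lt (lt_of_le_of_lt ih (by exact_mod_cast (by omega : s.card + 1 < j + 1)))]
    ring

/-- Squarefree split numerators have regular denominators. -/
theorem exists_regular {c : L} (hc : c ≠ 0) (s : Finset L) (hs : (0 : L) ∉ s) :
    ∃ P : L[X], State s.card (splitQ c s) P ∧ disc (s.card + 1) (splitQ c s) P ≠ 0 ∧
      P.eval 0 ≠ 0 ∧ ∀ y ∈ s, P.eval y ≠ 0 := by
  classical
  induction s using Finset.induction_on with
  | empty =>
    refine ⟨1, ⟨by simpa using degree_splitQ_le c ∅, by simp, by simp [splitQ]⟩, ?_, by simp, by simp⟩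
    simp [disc, splitQ, hc]
  | @insert x s hx ih =>
    simp only [Finset.mem_insert, not_or] at hs
    obtain ⟨p, hst, hd, hp0, hps⟩ := ih hs.2
    have hxn : x ≠ 0 := Ne.symm hs.1
    have hins : splitQ c (insert x s) = (X - C x) * splitQ c s := by
      simp only [splitQ, Finset.prod_insert hx]; ring
    have hqx : (splitQ c s).eval x ≠ 0 := by
      simp only [splitQ, eval_mul, eval_C, eval_X, eval_prod, eval_sub]
      exact mul_ne_zero (mul_ne_zero hc hxn)
        (Finset.prod_ne_zero_iff.2 fun y hy => sub_ne_zero.2 fun h => hx (h ▸ hy))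
    set Q : L[X][X] := (splitQ c (insert x s)).map C with hQ
    set P : L[X][X] := ((X - C x) * p).map C + C X * (splitQ c s).map C with hP
    have hQe : ∀ e : L, Q.map (evalRingHom e) = splitQ c (insert x s) := fun e => by
      have : (evalRingHom e).comp (C : L →+* L[X]) = RingHom.id L := by ext a; simp
      rw [hQ, Polynomial.map_map, this, Polynomial.map_id]
    have hPe : ∀ e : L, P.map (evalRingHom e) = (X - C x) * p + C e * splitQ c s := fun e => by
      have : (evalRingHom e).comp (C : L →+* L[X]) = RingHom.id L := by ext a; simp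
      rw [hP, Polynomial.map_add, Polynomial.map_mul (p := C X), Polynomial.map_map, Polynomial.map_map, this]
      simp
    have hcard : (insert x s).card = s.card + 1 := Finset.card_insert_of_notMem hx
    have hdegp : ((X - C x) * p).degree ≤ ((s.card + 1 : ℕ) : WithBot ℕ) := by
      rw [degree_le_iff_coeff_zero]
      intro i hi
      have hi' : s.card + 1 < i := by exact_mod_cast hi
      obtain ⟨j, rfl⟩ : ∃ j, i = j + 1 := ⟨i - 1, by omega⟩
      rw [coeff_X_sub_C_mul,
        coeff_eq_zero_of_degree_lt (lt_of_le_of_lt hst.degP (by exact_mod_cast (by omega : s.card < j))),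
        coeff_eq_zero_of_degree_lt (lt_of_le_of_lt hst.degP (by exact_mod_cast (by omega : s.card < j + 1)))]
      ring
    have hS : State (s.card + 1) Q P := by
      refine ⟨degree_map_le.trans (hcard ▸ degree_splitQ_le c (insert x s)), ?_, ?_⟩
      · refine (degree_add_le _ _).trans (max_le (degree_map_le.trans hdegp) ?_)
        exact ((degree_mul_le _ _).trans (add_le_add degree_C_le degree_map_le)).trans
          (by simpa using degree_splitQ_le c s)
      · simp [hQ, splitQ]
    have hnocommon : ∀ e : L, e ≠ 0 → ∀ y : L, (splitQ c (insert x s)).eval y = 0 →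
        ((X - C x) * p + C e * splitQ c s).eval y ≠ 0 := by
      intro e he y hy
      simp only [splitQ, eval_mul, eval_C, eval_X, eval_prod, eval_sub, mul_eq_zero, hc, false_or,
        Finset.prod_eq_zero_iff, sub_eq_zero] at hy
      simp only [eval_add, eval_mul, eval_sub, eval_X, eval_C]
      rcases hy with rfl | ⟨z, hz, rfl⟩
      · simp [splitQ, hp0, hxn]
      · rcases Finset.mem_insert.1 hz with rfl | hz
        · simp [he, hqx]
        · have : (splitQ c s).eval y = 0 := by
            simp only [splitQ, eval_mul, eval_C, eval_X, eval_prod, eval_sub]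
            rw [Finset.prod_eq_zero hz (sub_self y), mul_zero]
          rw [this, mul_zero, add_zero]
          exact mul_ne_zero (sub_ne_zero.2 fun h => hx (h ▸ hz)) (hps y hz)
    have hne : disc (s.card + 2) Q P ≠ 0 := by
      refine deform s.card Q P (splitQ c s) p x hS hst hxn (by rw [hQe, hins]) (by rw [hPe]; simp) hd
        ⟨{0}, fun e he y hy => ?_⟩
      rw [hQe, hPe] at hy
      exact hnocommon e (by simpa using he) y hy.1 hy.2
    obtain ⟨e, he⟩ := Infinite.exists_notMem_finset ({0} ∪ (disc (s.card + 2) Q P).roots.toFinset)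
    simp only [Finset.mem_union, Finset.mem_singleton, Multiset.mem_toFinset, mem_roots hne,
      IsRoot.def, not_or] at he
    refine ⟨(X - C x) * p + C e * splitQ c s, ?_, ?_, ?_, fun y hy => ?_⟩
    · have := hS.map (evalRingHom e)
      rw [hQe, hPe] at this
      rwa [hcard]
    · have := he.2
      rw [show (disc (s.card + 2) Q P).eval e = evalRingHom e (disc (s.card + 2) Q P) from rfl,
        disc_map, hQe, hPe] at this
      rwa [hcard]
    · exact hnocommon e he.1 0 (by simp [splitQ])
    · exact hnocommon e he.1 y (by rw [splitQ, eval_mul, eval_prod, Finset.prod_eq_zero hy (by simp), mul_zero])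

end Field

section Descend

variable {k : Type*} [Field k] [Infinite k]

/-- Squarefree numerator: regular denominators are generic. -/
theorem exists_regular_pair (Q₀ : k[X]) (h0 : Q₀.eval 0 ≠ 0) (hsep : Q₀.Separable) (w : k[X])
    (hw : w.degree ≤ (Q₀.natDegree : ℕ)) :
    ∃ P : k[X], State Q₀.natDegree (X * Q₀) P ∧ disc (Q₀.natDegree + 1) (X * Q₀) P ≠ 0 ∧
      State Q₀.natDegree (X * Q₀) (P + w) ∧ disc (Q₀.natDegree + 1) (X * Q₀) (P + w) ≠ 0 := by
  classical
  let L := AlgebraicClosure k
  set d := Q₀.natDegree with hd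
  haveI : Infinite L := IsAlgClosed.instInfinite
  let ι := algebraMap k L
  have hne : Q₀ ≠ 0 := fun h => h0 (by simp [h])
  set s : Finset L := (Q₀.map ι).roots.toFinset with hs
  have hnodup : (Q₀.map ι).roots.Nodup := nodup_roots hsep.map
  have hspl : (Q₀.map ι).Splits := IsAlgClosed.splits _
  have hcard : s.card = d := by
    rw [hs, Multiset.toFinset_card_of_nodup hnodup, hspl.natDegree_eq_card_roots.symm, natDegree_map]
  have hs0 : (0 : L) ∉ s := by
    rw [hs, Multiset.mem_toFinset, mem_roots ((Polynomial.map_ne_zero_iff ι.injective).2 hne),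
      IsRoot.def, eval_zero_map]
    exact fun h => h0 (ι.injective (by rw [h, map_zero]))
  set c := (Q₀.map ι).leadingCoeff with hc
  have hc0 : c ≠ 0 := leadingCoeff_ne_zero.2 ((Polynomial.map_ne_zero_iff ι.injective).2 hne)
  have hQ : (X * Q₀).map ι = splitQ c s := by
    rw [Polynomial.map_mul, map_X, splitQ, hs, Finset.prod_eq_multiset_prod, Multiset.toFinset_val,
      Multiset.dedup_eq_self.2 hnodup]
    conv_lhs => rw [hspl.eq_prod_roots]
    ring
  obtain ⟨P, hP, hPd, -, -⟩ := exists_regular hc0 s hs0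
  rw [hcard, ← hQ] at hP hPd
  let gen : (MvPolynomial (Fin (d + 1)) k)[X] := ∑ i : Fin (d + 1), C (MvPolynomial.X i) * X ^ (i : ℕ)
  let Φ : (MvPolynomial (Fin (d + 1)) k) := disc (d + 1) ((X * Q₀).map MvPolynomial.C) gen
  have hgen : ∀ {R : Type _} [CommRing R] (f : (MvPolynomial (Fin (d + 1)) k) →+* R), gen.map f =
      ∑ i : Fin (d + 1), C (f (MvPolynomial.X i)) * X ^ (i : ℕ) := fun {R} _ f => by
    simp [gen, Polynomial.map_sum]
  have hsum : ∀ {R : Type _} [CommRing R] (A : R[X]), A.degree ≤ (d : ℕ) →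
      ∑ i : Fin (d + 1), C (A.coeff i) * X ^ (i : ℕ) = A := fun {R} _ A hA => by
    rw [Fin.sum_univ_eq_sum_range (fun i => C (A.coeff i) * X ^ i)]
    exact (as_sum_range_C_mul_X_pow' A (Nat.lt_succ_of_le (natDegree_le_iff_degree_le.2 hA))).symm
  have heval : ∀ (A : k[X]), A.degree ≤ (d : ℕ) →
      MvPolynomial.eval (fun i : Fin (d + 1) => A.coeff i) Φ = disc (d + 1) (X * Q₀) A := fun A hA => by
    rw [show MvPolynomial.eval (fun i : Fin (d + 1) => A.coeff i) Φ = _ from disc_map _ _ _ _, hgen,
      Polynomial.map_map]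
    have e : (MvPolynomial.eval fun i : Fin (d + 1) => A.coeff i).comp MvPolynomial.C = RingHom.id k :=
      RingHom.ext fun a => MvPolynomial.eval_C a
    rw [e, Polynomial.map_id]
    simp only [MvPolynomial.eval_X]
    rw [hsum A hA]
  have hΦ : Φ ≠ 0 := by
    intro h
    have := disc_map (MvPolynomial.eval₂Hom ι fun i : Fin (d + 1) => P.coeff i) (d + 1)
      ((X * Q₀).map MvPolynomial.C) gen
    rw [hgen, Polynomial.map_map] at this
    simp only [MvPolynomial.eval₂Hom_X'] at this
    rw [hsum P hP.degP] at this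
    have e : (MvPolynomial.eval₂Hom ι fun i : Fin (d + 1) => P.coeff i).comp MvPolynomial.C = ι :=
      RingHom.ext fun a => MvPolynomial.eval₂Hom_C _ _ a
    rw [e] at this
    apply hPd
    rw [← this, show disc (d + 1) _ gen = Φ from rfl, h, map_zero]
  let sh : (MvPolynomial (Fin (d + 1)) k) →ₐ[k] (MvPolynomial (Fin (d + 1)) k) := MvPolynomial.aeval fun i => MvPolynomial.X i + MvPolynomial.C (w.coeff i)
  let sh' : (MvPolynomial (Fin (d + 1)) k) →ₐ[k] (MvPolynomial (Fin (d + 1)) k) := MvPolynomial.aeval fun i => MvPolynomial.X i - MvPolynomial.C (w.coeff i)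
  have hshift : sh Φ ≠ 0 := by
    intro h
    apply hΦ
    have hid : sh'.comp sh = AlgHom.id k (MvPolynomial (Fin (d + 1)) k) := by
      apply MvPolynomial.algHom_ext
      intro i
      simp only [sh, sh', AlgHom.comp_apply, AlgHom.id_apply, MvPolynomial.aeval_X, map_add, MvPolynomial.aeval_C,
        MvPolynomial.algebraMap_eq, sub_add_cancel]
    have := congrArg (fun φ : (MvPolynomial (Fin (d + 1)) k) →ₐ[k] (MvPolynomial (Fin (d + 1)) k) => φ Φ) hid
    simp only [AlgHom.comp_apply, h, map_zero, AlgHom.id_apply] at this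
    exact this.symm
  obtain ⟨v, hv⟩ : ∃ v, MvPolynomial.eval v (Φ * sh Φ) ≠ 0 := by
    by_contra hall
    exact mul_ne_zero hΦ hshift (MvPolynomial.funext fun v => by
      rw [map_zero]; exact not_not.1 fun h => hall ⟨v, h⟩)
  rw [map_mul, mul_ne_zero_iff] at hv
  set A : k[X] := ∑ i : Fin (d + 1), C (v i) * X ^ (i : ℕ) with hA
  have hAdeg : A.degree ≤ (d : ℕ) := by
    refine (degree_sum_le _ _).trans (Finset.sup_le fun i _ => (degree_C_mul_X_pow_le _ _).trans ?_)
    exact_mod_cast Nat.le_of_lt_succ i.2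
  have hAc : ∀ i : Fin (d + 1), A.coeff i = v i := fun i => by
    simp [hA, coeff_X_pow, Fin.val_inj]
  have hQdeg : (X * Q₀).degree ≤ ((d + 1 : ℕ) : WithBot ℕ) := by
    rw [← natDegree_le_iff_degree_le, natDegree_X_mul hne]
  have hAw : (A + w).degree ≤ (d : ℕ) := (degree_add_le _ _).trans (max_le hAdeg hw)
  refine ⟨A, ⟨hQdeg, hAdeg, by simp⟩, ?_, ⟨hQdeg, hAw, by simp⟩, ?_⟩
  · rw [← heval A hAdeg]
    simp only [hAc]
    exact hv.1
  · rw [← heval _ hAw]
    have hcomp : (MvPolynomial.eval v).comp sh.toRingHom =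
        MvPolynomial.eval (fun i : Fin (d + 1) => (A + w).coeff i) := by
      apply MvPolynomial.ringHom_ext
      · intro a; simp [sh]
      · intro i; simp [sh, hAc]
    have := RingHom.congr_fun hcomp Φ
    rw [← this]
    exact hv.2

end Descend

end Cfsg.Agent.QuadPairEuclid
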