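import Mathlib
import Cfsg.Agent.Lib.QuadPairEuclid
import Cfsg.Agent.Lib.QuadPairSL2
import Cfsg.Agent.Lib.QuadPairRed

/-!
Elements of `dick k X` in `SL(2, k[X])` with prescribed reductions.
-/

set_option autoImplicit false
set_option linter.unusedSectionVars false

open scoped MatrixGroups
open Matrix Polynomial

namespace Cfsg.Agent.QuadPairWord

open Cfsg.Agent.QuadPairEuclid Cfsg.Agent.QuadPairSL2 Cfsg.Agent.QuadPairRed

variable {k : Type*} [Field k]

/-- Lifting `up r` from a quotient. -/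
theorem lift_up {N ρ : k[X]}
    (h : up (AdjoinRoot.mk N ρ) ∈ dick k (AdjoinRoot.root N : AdjoinRoot N)) :
    ∃ g ∈ dick k (X : k[X]), N ∣ g.1 0 1 - ρ ∧ N ∣ g.1 1 0 ∧ N ∣ g.1 0 0 - 1 ∧ N ∣ g.1 1 1 - 1 := by
  rw [← AdjoinRoot.mk_X, ← AdjoinRoot.coe_mkₐ, ← map_dick] at h
  obtain ⟨g, hg, he⟩ := h
  have e : ∀ i j, AdjoinRoot.mk N (g.1 i j) = (up (AdjoinRoot.mk N ρ)).1 i j := fun i j =>
    congrArg (fun A : SL(2, AdjoinRoot N) => A.1 i j) he
  refine ⟨g, hg, ?_, ?_, ?_, ?_⟩ <;> rw [← AdjoinRoot.mk_eq_zero]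
  · rw [map_sub, e, up_01, sub_self]
  · rw [e, up_10]
  · rw [map_sub, e, up_00, map_one, sub_self]
  · rw [map_sub, e, up_11, map_one, sub_self]

section Level

variable {R : Type*} [CommRing R]

/-- `up s * lo (t ε) * up (-s) * lo (-t ε)` and a further commutator with `up r`. -/
def n2 (ε r t : R) : SL(2, R) :=
  up r * (up 1 * lo (t * ε) * up (-1) * lo (-(t * ε))) * up (-r) *
    (up 1 * lo (t * ε) * up (-1) * lo (-(t * ε)))⁻¹

theorem n2_entries {ε : R} (h : ε ^ 3 = 0) (r t : R) :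
    (n2 ε r t).1 0 0 = 1 + r * t ^ 2 * ε ^ 2 ∧ (n2 ε r t).1 1 0 = 0 ∧
    (n2 ε r t).1 1 1 = 1 - r * t ^ 2 * ε ^ 2 ∧
    (n2 ε r t).1 0 1 = -2 * r * t * ε - (3 * r + r ^ 2) * t ^ 2 * ε ^ 2 := by
  set K := up 1 * lo (t * ε) * up (-1) * lo (-(t * ε)) with hK
  have k00 : K.1 0 0 = 1 + t * ε + t ^ 2 * ε ^ 2 := by
    simp [hK, QuadPairSL2.mul_apply]; ring
  have k01 : K.1 0 1 = -(t * ε) := by simp [hK, QuadPairSL2.mul_apply]
  have k10 : K.1 1 0 = t ^ 2 * ε ^ 2 := by
    simp [hK, QuadPairSL2.mul_apply]; ring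
  have k11 : K.1 1 1 = 1 - t * ε := by simp [hK, QuadPairSL2.mul_apply]; ring
  have h4 : ε ^ 4 = 0 := by rw [pow_succ, h, zero_mul]
  refine ⟨?_, ?_, ?_, ?_⟩ <;>
    simp only [n2, ← hK, QuadPairSL2.mul_apply, inv_00, inv_01, inv_10, inv_11, up_00, up_01, up_10,
      up_11, k00, k01, k10, k11] <;>
    ring_nf <;> simp [h, h4]

theorem level_base {ε : R} (h : ε ^ 3 = 0) :
    n2 ε 1 1 * n2 ε (-1) (-1) = up (-4 * ε - 2 * ε ^ 2) := by
  obtain ⟨a0, a1, a2, a3⟩ := n2_entries h 1 1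
  obtain ⟨b0, b1, b2, b3⟩ := n2_entries h (-1) (-1)
  have h4 : ε ^ 4 = 0 := by rw [pow_succ, h, zero_mul]
  apply sl_ext <;>
    simp only [QuadPairSL2.mul_apply, a0, a1, a2, a3, b0, b1, b2, b3, up_00, up_01, up_10, up_11] <;>
    ring_nf <;> simp [h, h4]

theorem n2_mem (k : Type*) [CommRing k] [Algebra k R] {ε : R} (r t : k) :
    n2 ε (algebraMap k R r) (algebraMap k R t) ∈ dick k ε := by
  have h1 : up (1 : R) ∈ dick k ε := by simpa using up_mem_dick k ε (1 : k)
  have h1' : up (-1 : R) ∈ dick k ε := by simpa using up_mem_dick k ε (-1 : k)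
  have hl : lo (algebraMap k R t * ε) ∈ dick k ε := lo_mem_dick k ε t
  have hl' : lo (-(algebraMap k R t * ε)) ∈ dick k ε := by
    rw [← lo_inv]; exact inv_mem hl
  have hK := mul_mem (mul_mem (mul_mem h1 hl) h1') hl'
  have hr' : up (-algebraMap k R r) ∈ dick k ε := by rw [← up_inv]; exact inv_mem (up_mem_dick k ε r)
  exact mul_mem (mul_mem (mul_mem (up_mem_dick k ε r) hK) hr') (inv_mem hK)

end Level

/-- Substitution of `-X²`. -/
noncomputable def phi : k[X] →ₐ[k] k[X] := aeval (-X ^ 2)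

/-- The endomorphism of the polynomial matrices given by substitution and conjugation by `up (1/X)`. -/
noncomputable def psiM (A : Matrix (Fin 2) (Fin 2) k[X]) : Matrix (Fin 2) (Fin 2) k[X] :=
  !![phi (A 0 0) - X * phi (A 1 0).divX,
    phi (A 0 1) + X * phi (A 0 0 - A 1 1).divX + phi (A 1 0).divX;
    -X ^ 2 * phi (A 1 0).divX, phi (A 1 1) + X * phi (A 1 0).divX]

theorem psiM_mul {A B : Matrix (Fin 2) (Fin 2) k[X]} (hA : InOrder A) (hB : InOrder B) :
    psiM (A * B) = psiM A * psiM B := by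
  obtain ⟨r, hr⟩ : ∃ r, A 1 0 = X * r := ⟨_, eq_X_mul_divX hA.lower⟩
  obtain ⟨r', hr'⟩ : ∃ r, B 1 0 = X * r := ⟨_, eq_X_mul_divX hB.lower⟩
  obtain ⟨m, hm⟩ : ∃ m, A 0 0 - A 1 1 = X * m := ⟨_, eq_X_mul_divX (by rw [coeff_sub, hA.diag, sub_self])⟩
  obtain ⟨m', hm'⟩ : ∃ m, B 0 0 - B 1 1 = X * m := ⟨_, eq_X_mul_divX (by rw [coeff_sub, hB.diag, sub_self])⟩
  have hA0 : A 0 0 = A 1 1 + X * m := by rw [← hm]; ring
  have hB0 : B 0 0 = B 1 1 + X * m' := by rw [← hm']; ring
  have e11 : (A * B) 1 1 = A 1 1 * B 1 1 + X * r * B 0 1 := by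
    rw [Matrix.mul_apply, Fin.sum_univ_two, hr]; ring
  have e00' : (A * B) 0 0 = A 0 0 * B 0 0 + A 0 1 * B 1 0 := by
    rw [Matrix.mul_apply, Fin.sum_univ_two]
  have e01 : (A * B) 0 1 = A 0 0 * B 0 1 + A 0 1 * B 1 1 := by
    rw [Matrix.mul_apply, Fin.sum_univ_two]
  have e10 : (A * B) 1 0 = X * (r * B 1 1 + X * r * m' + A 1 1 * r') := by
    rw [Matrix.mul_apply, Fin.sum_univ_two, hr, hr', hB0]; ring
  have e00 : (A * B) 0 0 - (A * B) 1 1 =
      X * (A 1 1 * m' + m * B 1 1 + X * m * m' + A 0 1 * r' - r * B 0 1) := by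
    rw [e11, e00', hA0, hB0, hr']; ring
  have hX : phi (X : k[X]) = -X ^ 2 := aeval_X _
  refine Matrix.ext fun i j => ?_
  fin_cases i <;> fin_cases j <;>
    simp only [psiM, e10, e00, hm, hm', hr, hr', divX_X_mul', Matrix.mul_apply (M := !![_, _; _, _]), Fin.sum_univ_two,
      Matrix.of_apply, Matrix.cons_val', Matrix.cons_val_zero, Matrix.cons_val_one, Matrix.empty_val',
      Matrix.cons_val_fin_one, Fin.zero_eta, Fin.mk_one] <;>
    simp only [hr, hr', hm, hm', e00', e01, e11, hA0, hB0, divX_X_mul', map_add, map_mul, map_sub,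
      map_neg, hX] <;>
    ring

theorem psiM_one : psiM (1 : Matrix (Fin 2) (Fin 2) k[X]) = 1 := by
  ext i j
  fin_cases i <;> fin_cases j <;> simp [psiM]

theorem psiM_mem {g : SL(2, k[X])} (hg : g ∈ dick k (X : k[X])) :
    ∃ h ∈ dick k (X : k[X]), h.1 = psiM g.1 := by
  induction hg using Subgroup.closure_induction with
  | mem x hx =>
    rcases hx with ⟨c, rfl⟩ | ⟨c, rfl⟩
    · refine ⟨up (algebraMap k k[X] c), up_mem_dick k _ c, ?_⟩
      ext i j
      fin_cases i <;> fin_cases j <;>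
        simp [psiM, phi, up, Algebra.algebraMap_self]
    · refine ⟨lo (algebraMap k k[X] 1 * X) * up (algebraMap k k[X] c) * (lo (algebraMap k k[X] 1 * X))⁻¹,
        mul_mem (mul_mem (lo_mem_dick k _ 1) (up_mem_dick k _ c)) (inv_mem (lo_mem_dick k _ 1)), ?_⟩
      have hd : (C c * X : k[X]).divX = C c := by rw [mul_comm, divX_X_mul']
      rw [lo_inv]
      refine Matrix.ext fun i j => ?_
      fin_cases i <;> fin_cases j <;>
        simp only [Fin.zero_eta, Fin.mk_one, QuadPairSL2.mul_apply, up_00, up_01, up_10, up_11, lo_00,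
          lo_01, lo_10, lo_11] <;>
        simp only [psiM, lo_00, lo_01, lo_10, lo_11, algebraMap_eq, hd, sub_self, divX_zero, map_zero, map_one,
          Matrix.of_apply, Matrix.cons_val', Matrix.cons_val_zero, Matrix.cons_val_one,
          Matrix.empty_val', Matrix.cons_val_fin_one, phi, aeval_C, algebraMap_eq] <;>
        ring
  | one => exact ⟨1, one_mem _, psiM_one.symm⟩
  | mul x y hx hy ihx ihy =>
    obtain ⟨x', hx', ex⟩ := ihx
    obtain ⟨y', hy', ey⟩ := ihy
    exact ⟨x' * y', mul_mem hx' hy', by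
      rw [Matrix.SpecialLinearGroup.coe_mul, Matrix.SpecialLinearGroup.coe_mul,
        psiM_mul (inOrder_of_gam (dick_le_gam hx)) (inOrder_of_gam (dick_le_gam hy)), ex, ey]⟩
  | inv x hx ih =>
    obtain ⟨x', hx', ex⟩ := ih
    refine ⟨x'⁻¹, inv_mem hx', ?_⟩
    have h1 : psiM x⁻¹.1 * x'.1 = 1 := by
      rw [ex, ← psiM_mul (inOrder_of_gam (dick_le_gam (inv_mem hx))) (inOrder_of_gam (dick_le_gam hx)),
        ← Matrix.SpecialLinearGroup.coe_mul, inv_mul_cancel, Matrix.SpecialLinearGroup.coe_one, psiM_one]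
    calc x'⁻¹.1 = psiM x⁻¹.1 * x'.1 * x'⁻¹.1 := by rw [h1, one_mul]
      _ = psiM x⁻¹.1 := by
        rw [mul_assoc, ← Matrix.SpecialLinearGroup.coe_mul, mul_inv_cancel,
          Matrix.SpecialLinearGroup.coe_one, mul_one]

theorem X_pow_dvd_phi {p : k[X]} {n : ℕ} (h : X ^ n ∣ p) : X ^ (2 * n) ∣ phi p := by
  obtain ⟨q, rfl⟩ := h
  rw [map_mul, map_pow, phi, aeval_X, neg_eq_neg_one_mul, mul_pow, ← pow_mul]
  exact dvd_mul_of_dvd_left (dvd_mul_left _ _) _

/-- Elements of `dick k X` close to `up ρ`, `ρ` of small positive order. -/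
theorem exists_level (hk2 : (2 : k) ≠ 0) : ∀ n : ℕ, 2 ≤ n → ∃ g ∈ dick k (X : k[X]), ∃ j,
    1 ≤ j ∧ j < n ∧ X ^ j ∣ g.1 0 1 ∧ ¬ X ^ (j + 1) ∣ g.1 0 1 ∧
    X ^ (n + 1) ∣ g.1 1 0 ∧ X ^ (n + 1) ∣ g.1 0 0 - 1 ∧ X ^ (n + 1) ∣ g.1 1 1 - 1 := by
  intro n
  induction n using Nat.strong_induction_on with
  | _ n ih =>
    intro hn
    rcases eq_or_ne n 2 with rfl | hn2
    · set S := AdjoinRoot ((X : k[X]) ^ 3)
      set ε : S := AdjoinRoot.root _
      have hε : ε ^ 3 = 0 := by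
        show (AdjoinRoot.root ((X : k[X]) ^ 3)) ^ 3 = 0
        rw [← AdjoinRoot.mk_X, ← map_pow, AdjoinRoot.mk_self]
      have h := mul_mem (n2_mem (R := S) k (ε := ε) 1 1) (n2_mem (R := S) k (ε := ε) (-1) (-1))
      rw [map_neg, map_one, level_base hε] at h
      have e : -4 * ε - 2 * ε ^ 2 = AdjoinRoot.mk ((X : k[X]) ^ 3) (-4 * X - 2 * X ^ 2) := by
        rw [map_sub, map_mul, map_mul, map_pow, AdjoinRoot.mk_X, map_neg, map_ofNat, map_ofNat]
      rw [e] at h
      obtain ⟨g, hg, h01, h10, h00, h11⟩ := lift_up h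
      refine ⟨g, hg, 1, le_rfl, by norm_num, ?_, ?_, h10, h00, h11⟩
      · have h' := (dvd_trans (dvd_pow_self (X : k[X]) three_ne_zero) h01)
        rw [pow_one]
        refine (dvd_sub_left ?_).1 h'
        exact dvd_sub (dvd_mul_left _ _) (dvd_mul_of_dvd_right (dvd_pow_self _ two_ne_zero) _)
      · intro h'
        have h2 : (X : k[X]) ^ 2 ∣ g.1 0 1 - (-4 * X - 2 * X ^ 2) :=
          (pow_dvd_pow X (by norm_num)).trans h01
        have h3 : (X : k[X]) ^ 2 ∣ -4 * X - 2 * X ^ 2 := (dvd_sub_right h').1 h2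
        have h4 := (X_pow_dvd_iff.1 h3) 1 (by norm_num)
        have e4 : ((-4 : k[X]) * X - 2 * X ^ 2) = C (-4 : k) * X - C 2 * X ^ 2 := by
          simp [map_neg, map_ofNat]
        rw [e4, coeff_sub, coeff_C_mul, coeff_C_mul, coeff_X_one, coeff_X_pow, if_neg (by norm_num)] at h4
        exact hk2 (mul_self_eq_zero.1 (by linear_combination -h4))
    · set m := (n + 1) / 2
      obtain ⟨g, hg, j, hj1, hjm, hjd, hjn, h10, h00, h11⟩ := ih m (by omega) (by omega)
      obtain ⟨h, hh, he⟩ := psiM_mem hg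
      have hord := inOrder_of_gam (dick_le_gam hg)
      have hr : X ^ m ∣ (g.1 1 0).divX := by
        rw [← mul_dvd_mul_iff_left (X_ne_zero (R := k)), ← pow_succ', ← eq_X_mul_divX hord.lower]
        exact h10
      have hm : X ^ m ∣ (g.1 0 0 - g.1 1 1).divX := by
        rw [← mul_dvd_mul_iff_left (X_ne_zero (R := k)), ← pow_succ',
          ← eq_X_mul_divX (by rw [coeff_sub, hord.diag, sub_self])]
        simpa using dvd_sub h00 h11
      have hφr := X_pow_dvd_phi hr
      have hφm := X_pow_dvd_phi hm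
      have hn' : n + 1 ≤ 2 * m + 1 := by omega
      have hXr : X ^ (n + 1) ∣ X * phi (g.1 1 0).divX :=
        (pow_dvd_pow X hn').trans (by rw [pow_succ']; exact mul_dvd_mul_left X hφr)
      obtain ⟨c, hc⟩ := hjd
      have hc0 : c.coeff 0 ≠ 0 := fun h0 => hjn (by
        rw [hc, pow_succ]; exact mul_dvd_mul_left _ (X_dvd_iff.2 h0))
      have e01 : h.1 0 1 = phi (g.1 0 1) + (X * phi (g.1 0 0 - g.1 1 1).divX + phi (g.1 1 0).divX) := by
        rw [he, ← add_assoc]; rfl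
      have hrest : X ^ (2 * m) ∣ X * phi (g.1 0 0 - g.1 1 1).divX + phi (g.1 1 0).divX :=
        dvd_add (dvd_mul_of_dvd_right hφm X) hφr
      refine ⟨h, hh, 2 * j, by omega, by omega, ?_, ?_, ?_, ?_, ?_⟩
      · rw [e01]
        exact dvd_add (X_pow_dvd_phi ⟨c, hc⟩) ((pow_dvd_pow X (by omega)).trans hrest)
      · intro hd
        rw [e01] at hd
        have h5 := (dvd_add_left ((pow_dvd_pow X (by omega : 2 * j + 1 ≤ 2 * m)).trans hrest)).1 hd
        rw [hc, map_mul, map_pow, phi, aeval_X, neg_eq_neg_one_mul, mul_pow, ← pow_mul, pow_succ,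
          mul_right_comm, mul_comm _ (X ^ (2 * j))] at h5
        rw [mul_dvd_mul_iff_left (pow_ne_zero _ X_ne_zero), X_dvd_iff, mul_coeff_zero] at h5
        rcases mul_eq_zero.1 h5 with h6 | h6
        · rw [coeff_zero_eq_eval_zero] at h6
          simp at h6
        · apply hc0
          rw [coeff_zero_eq_eval_zero, ← coe_aeval_eq_eval] at h6 ⊢
          rw [← aeval_algHom_apply] at h6
          simpa using h6
      · rw [he]
        show _ ∣ -X ^ 2 * phi (g.1 1 0).divX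
        rw [neg_mul, dvd_neg, pow_two, mul_assoc]
        exact dvd_mul_of_dvd_right hXr X
      · rw [he]
        show _ ∣ phi (g.1 0 0) - X * phi (g.1 1 0).divX - 1
        rw [sub_right_comm, show phi (g.1 0 0) - 1 = phi (g.1 0 0 - 1) by rw [map_sub, map_one]]
        exact dvd_sub ((pow_dvd_pow X (by omega)).trans (X_pow_dvd_phi h00)) hXr
      · rw [he]
        show _ ∣ phi (g.1 1 1) + X * phi (g.1 1 0).divX - 1
        rw [add_sub_right_comm, show phi (g.1 1 1) - 1 = phi (g.1 1 1 - 1) by rw [map_sub, map_one]]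
        exact dvd_add ((pow_dvd_pow X (by omega)).trans (X_pow_dvd_phi h11)) hXr

section Infinite

variable [Infinite k]

theorem exists_separable (f : k[X]) (hf : 0 < f.natDegree) (hf0 : f.coeff 0 ≠ 0) :
    ∃ t : k, (C t * f + f.divX).eval 0 ≠ 0 ∧ t ≠ 0 ∧ (C t * f + f.divX).Separable := by
  classical
  set h := f.divX with hh
  set W := derivative h * f - h * derivative f with hW
  have hfne : f ≠ 0 := fun e => by simp [e] at hf
  have hfe : X * h + C (f.coeff 0) = f := X_mul_divX_add f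
  have hcop : IsCoprime f h := ⟨C (f.coeff 0)⁻¹, -(C (f.coeff 0)⁻¹ * X), by
    have : C (f.coeff 0)⁻¹ * C (f.coeff 0) = 1 := by rw [← C_mul, inv_mul_cancel₀ hf0, C_1]
    linear_combination -C (f.coeff 0)⁻¹ * hfe + this⟩
  have hW0 : W ≠ 0 := by
    obtain ⟨i, hi⟩ : ∃ i, f.natDegree = i + 1 := ⟨_, (Nat.succ_pred_eq_of_pos hf).symm⟩
    have hhd : h.natDegree ≤ i := by rw [hh, natDegree_divX_eq_natDegree_tsub_one, hi]; omega
    have hfd : (derivative f).natDegree ≤ i := (natDegree_derivative_le f).trans (by omega)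
    intro e
    have ec : W.coeff (i + i) = 0 := by rw [e, coeff_zero]
    rw [hW, coeff_sub, coeff_mul_add_eq_of_natDegree_le hhd hfd, coeff_derivative, hh, coeff_divX] at ec
    have hlead : f.coeff (i + 1) ≠ 0 := by
      rw [← hi]; exact leadingCoeff_ne_zero.2 hfne
    cases i with
    | zero =>
      have : derivative h = 0 := by
        rw [eq_C_of_natDegree_le_zero hhd, derivative_C]
      rw [hh] at this
      rw [this, zero_mul, coeff_zero] at ec
      simp at ec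
      exact hlead ec
    | succ i =>
      have hd' : (derivative h).natDegree ≤ i := (natDegree_derivative_le h).trans (by omega)
      rw [hh] at hd'
      rw [show i + 1 + (i + 1) = i + (i + 2) by omega,
        coeff_mul_add_eq_of_natDegree_le hd' (le_of_eq hi : f.natDegree ≤ i + 2), coeff_derivative, coeff_divX]
        at ec
      push_cast at ec
      exact hlead (mul_self_eq_zero.1 (by linear_combination -ec))
  let L := AlgebraicClosure k
  let bad : Set k := {t | algebraMap k L t ∈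
    (fun y : L => -(aeval y h) / aeval y f) '' {y | aeval y W = 0}} ∪ {0, -(h.eval 0) / f.eval 0}
  have hbad : bad.Finite := by
    refine Set.Finite.union ?_ (Set.toFinite _)
    refine Set.Finite.preimage (algebraMap k L).injective.injOn (Set.Finite.image _ ?_)
    refine (W.rootSet_finite L).subset fun y hy => ?_
    exact mem_rootSet.2 ⟨hW0, hy⟩
  obtain ⟨t, ht⟩ := hbad.infinite_compl.nonempty
  simp only [bad, Set.mem_compl_iff, Set.mem_union, Set.mem_insert_iff, Set.mem_singleton_iff, not_or] at ht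
  obtain ⟨ht1, ht0, ht2⟩ := ht
  have hev0 : f.eval 0 ≠ 0 := by rwa [← coeff_zero_eq_eval_zero]
  refine ⟨t, ?_, ht0, ?_⟩
  · rw [eval_add, eval_mul, eval_C]
    intro e
    exact ht2 ((eq_div_iff hev0).2 (by linear_combination e))
  · rw [separable_def, Polynomial.isCoprime_iff_aeval_ne_zero_of_isAlgClosed k L]
    intro y
    by_contra hy
    rw [not_or, not_not, not_not] at hy
    obtain ⟨h1, h2⟩ := hy
    simp only [map_add, map_mul, aeval_C, derivative_mul, derivative_C, zero_mul, zero_add] at h1 h2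
    have hfy : aeval y f ≠ 0 := by
      intro e
      rw [e, mul_zero, zero_add] at h1
      rcases ((Polynomial.isCoprime_iff_aeval_ne_zero_of_isAlgClosed k L _ _).1 hcop y) with h3 | h3
      · exact h3 e
      · exact h3 h1
    refine ht1 ⟨y, ?_, ?_⟩
    · show aeval y W = 0
      simp only [hW, map_sub, map_mul]
      linear_combination -aeval y (derivative f) * h1 + aeval y f * h2
    · rw [div_eq_iff hfy]
      linear_combination -h1

/-- Two elements of `dick k X` with constant lower left entry modulo `f` and prescribed difference. -/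
theorem exists_pair (f : k[X]) (hf : 0 < f.natDegree) (hf0 : f.coeff 0 ≠ 0) (w : k[X])
    (hw : w.natDegree ≤ f.natDegree) :
    ∃ P : k[X], ∀ P' : k[X], P' = P ∨ P' = P + w → ∃ g ∈ dick k (X : k[X]), ∃ δ : kˣ,
      f ∣ g.1 1 0 - C (δ : k) ∧ g.1 0 0 = C (δ : k) * P' := by
  obtain ⟨t, ht0, ht, hsep⟩ := exists_separable f hf hf0
  set c0 := f.coeff 0
  set Q₀ := C t * f + f.divX with hQ
  have hdeg : Q₀.natDegree = f.natDegree := by
    rw [hQ, natDegree_add_eq_left_of_natDegree_lt, natDegree_C_mul ht]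
    rw [natDegree_C_mul ht, natDegree_divX_eq_natDegree_tsub_one]
    omega
  obtain ⟨P, hP, hPd, hPw, hPwd⟩ := exists_regular_pair Q₀ ht0 hsep (C (-c0) * w)
    ((degree_le_natDegree).trans (by
      rw [hdeg]
      exact_mod_cast (natDegree_C_mul_le _ _).trans hw))
  refine ⟨C (-c0⁻¹) * P, fun P' hP' => ?_⟩
  obtain ⟨R, hR, hRd, hRP⟩ : ∃ R, State Q₀.natDegree (X * Q₀) R ∧
      disc (Q₀.natDegree + 1) (X * Q₀) R ≠ 0 ∧ P' = C (-c0⁻¹) * R := by
    rcases hP' with rfl | rfl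
    · exact ⟨P, hP, hPd, rfl⟩
    · refine ⟨_, hPw, hPwd, ?_⟩
      have : C (-c0⁻¹) * C (-c0) = 1 := by rw [← C_mul, neg_mul_neg, inv_mul_cancel₀ hf0, C_1]
      linear_combination -w * this
  obtain ⟨g, hg, c, hc, hR0, hQ0⟩ := exists_word _ _ _ hR hRd
  refine ⟨g, hg, Units.mk0 (-c0 / c) (div_ne_zero (neg_ne_zero.2 hf0) hc), ?_, ?_⟩
  · rw [Units.val_mk0]
    have h1 : g.1 1 0 = C c⁻¹ * (X * Q₀) := by
      rw [hQ0, ← mul_assoc, ← C_mul, inv_mul_cancel₀ hc, C_1, one_mul]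
    refine ⟨C c⁻¹ * (C t * X + 1), ?_⟩
    rw [h1, hQ, div_eq_mul_inv, C_mul, C_neg]
    linear_combination C c⁻¹ * X_mul_divX_add f
  · rw [Units.val_mk0, hRP, hR0, ← mul_assoc, ← mul_assoc, ← C_mul, ← C_mul]
    rw [show -c0 / c * -c0⁻¹ * c = 1 by field_simp, C_1, one_mul]

end Infinite

end Cfsg.Agent.QuadPairWord
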