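import Mathlib
import Cfsg.Agent.Lib.QuadPairSL2
import Cfsg.Agent.Lib.QuadPairRed
import Cfsg.Agent.Lib.QuadPairWord

/-!
Two square-zero endomorphisms `a`, `b` of minimal rank: either `aba = bab = 0`, or `z = ab + ba`
satisfies an irreducible polynomial on both ranges and every `1 + p(z)a` lies in `<1 + ka, 1 + kb>`.
-/

set_option autoImplicit false
set_option linter.unusedSectionVars false

open scoped MatrixGroups
open Matrix Polynomial

namespace Cfsg.Agent.QuadPairCore

open Cfsg.Agent.QuadPairSL2 Cfsg.Agent.QuadPairRed Cfsg.Agent.QuadPairWord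

variable {k : Type*} [Field k] {M : Type*} [AddCommGroup M] [Module k M]

/-- All `1 + c • n` lie in `grp a b`. -/
def InH (a b n : Module.End k M) : Prop :=
  ∀ c : k, ∃ g ∈ grp a b, (g : Module.End k M) = 1 + c • n

/-- Two square-zero maps of rank `d` such that no nonzero one with scalar family in their group has
smaller rank. -/
structure IsPair (a b : Module.End k M) (d : ℕ) : Prop where
  ha : a * a = 0
  hb : b * b = 0
  hane : a ≠ 0
  hbne : b ≠ 0
  rank_a : Module.finrank k (LinearMap.range a) = d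
  rank_b : Module.finrank k (LinearMap.range b) = d
  rigid : ∀ n : Module.End k M, n * n = 0 → n ≠ 0 → InH a b n →
    d ≤ Module.finrank k (LinearMap.range n)

theorem inH_symm {a b n : Module.End k M} (h : InH b a n) : InH a b n := fun c => by
  obtain ⟨g, hg, he⟩ := h c
  exact ⟨g, grp_symm a b ▸ hg, he⟩

theorem IsPair.symm {a b : Module.End k M} {d : ℕ} (h : IsPair a b d) : IsPair b a d :=
  ⟨h.hb, h.ha, h.hbne, h.hane, h.rank_b, h.rank_a, fun n h1 h2 h3 => h.rigid n h1 h2 (inH_symm h3)⟩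

/-- Closeness to `up ρ`, precise enough for the value. -/
def Near (p ρ : k[X]) : Prop :=
  ∃ g ∈ dick k (X : k[X]),
    p ∣ g.1 0 1 - ρ ∧ X * p ∣ g.1 1 0 ∧ X * p ∣ g.1 0 0 - 1 ∧ X * p ∣ g.1 1 1 - 1

theorem aeval_mul' (z : Module.End k M) (p q : k[X]) : aeval z (p * q) = aeval z p * aeval z q := map_mul _ _ _

/-- The `ρ` with `1 + ρ(z)a` in the group. -/
def good {a b : Module.End k M} (ha : a * a = 0) : AddSubgroup k[X] where
  carrier := {ρ | ∃ g ∈ grp a b, (g : Module.End k M) = 1 + aeval (zz a b) ρ * a}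
  zero_mem' := ⟨1, one_mem _, by simp⟩
  add_mem' := fun {ρ σ} ⟨g, hg, hge⟩ ⟨h, hh, hhe⟩ => ⟨g * h, mul_mem hg hh, by
    have h0 : aeval (zz a b) ρ * a * (aeval (zz a b) σ * a) = 0 := by
      rw [mul_assoc, ← mul_assoc a, ← (aeval_commute (zz_comm_left (b := b) ha) σ).eq, mul_assoc _ a a,
        ha, mul_zero, mul_zero]
    rw [Units.val_mul, hge, hhe, add_mul, one_mul, mul_add, mul_one, h0, map_add, add_mul, add_zero]
    abel⟩
  neg_mem' := fun {ρ} ⟨g, hg, hge⟩ => ⟨g⁻¹, inv_mem hg, by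
    refine Units.inv_eq_of_mul_eq_one_right ?_
    have h0 : aeval (zz a b) ρ * a * (aeval (zz a b) ρ * a) = 0 := by
      rw [mul_assoc, ← mul_assoc a, ← (aeval_commute (zz_comm_left (b := b) ha) ρ).eq, mul_assoc _ a a,
        ha, mul_zero, mul_zero]
    rw [hge, map_neg, neg_mul, mul_add, mul_one, mul_neg, add_mul, one_mul, h0, add_zero]
    abel⟩

theorem near_scale {p ρ : k[X]} (h : Near p ρ) (u : k) : Near p (C (u * u) * ρ) := by
  rcases eq_or_ne u 0 with rfl | hu
  · exact ⟨1, one_mem _, by simp⟩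
  obtain ⟨g, hg, h01, h10, h00, h11⟩ := h
  refine ⟨_, dick_conj_dg k (X : k[X]) (Units.mk0 u hu) hg, ?_, ?_, ?_, ?_⟩ <;>
    simp only [QuadPairSL2.mul_apply, inv_00, inv_01, inv_10, inv_11, dg_00, dg_01, dg_10, dg_11,
      Units.coe_map, MonoidHom.coe_coe, ← map_inv, algebraMap_eq, Units.val_mk0, Units.val_inv_eq_inv_val,
      zero_mul, mul_zero, add_zero, zero_add, neg_zero]
  · rw [C_mul, show C u * g.1 0 1 * C u - C u * C u * ρ = C u * C u * (g.1 0 1 - ρ) by ring]
    exact dvd_mul_of_dvd_right h01 _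
  · exact dvd_mul_of_dvd_left (dvd_mul_of_dvd_right h10 _) _
  · rw [mul_comm (C u) (g.1 0 0), mul_assoc, ← C_mul, mul_inv_cancel₀ hu, C_1, mul_one]
    exact h00
  · rw [mul_comm (C u⁻¹) (g.1 1 1), mul_assoc, ← C_mul, inv_mul_cancel₀ hu, C_1, mul_one]
    exact h11

theorem inH_of_near (hk2 : (2 : k) ≠ 0) {a b : Module.End k M} (ha : a * a = 0) (hb : b * b = 0)
    {p ρ : k[X]} (hpa : aeval (zz a b) p * a = 0) (hpb : aeval (zz a b) p * b = 0) (h : Near p ρ) :
    InH a b (aeval (zz a b) ρ * a) := by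
  have hsq : ∀ u : k, C (u * u) * ρ ∈ good (b := b) ha := by
    intro u
    obtain ⟨g, hg, h01, h10, h00, h11⟩ := near_scale h u
    refine ⟨_, rep_mem_grp ha hb hg, ?_⟩
    rw [rep_apply, ← val_up]
    exact val_congr p hpa hpb (by simpa using h01) (by simpa using h10) (by simpa using h00)
      (by simpa using h11)
  intro c
  obtain ⟨g, hg, he⟩ := (good (b := b) ha).sub_mem (hsq ((c + 1) / 2)) (hsq ((c - 1) / 2))
  refine ⟨g, hg, he.trans ?_⟩
  congr 1
  rw [← sub_mul, ← C_sub, show (c + 1) / 2 * ((c + 1) / 2) - (c - 1) / 2 * ((c - 1) / 2) = c by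
    field_simp; ring, map_mul, aeval_C, mul_assoc, ← Algebra.smul_def]

theorem flip_kill {a b : Module.End k M} (hb : b * b = 0) (p : k[X])
    (h : aeval (zz a b) p * a = 0) : aeval (zz a b) (X * p) * b = 0 := by
  rw [mul_comm X p, map_mul, aeval_X, mul_assoc, zz, add_mul, mul_assoc a b b, hb, mul_zero, zero_add,
    ← zz, ← mul_assoc, ← mul_assoc, (aeval_commute (zz_comm_right (a := a) hb) p).eq, mul_assoc b, h,
    mul_zero, zero_mul]

variable [FiniteDimensional k M]

theorem range_mul_le {U a : Module.End k M} (h : Commute U a) :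
    LinearMap.range (U * a) ≤ LinearMap.range a := by
  rw [h.eq]
  exact LinearMap.range_comp_le_range U a

/-- If `1 + ρ(z) a` lies in the group, `ρ(z)` kills `a` or is surjective on its range. -/
theorem kill {a b : Module.End k M} {d : ℕ} (hp : IsPair a b d) {ρ σ : k[X]}
    (hi : InH a b (aeval (zz a b) ρ * a)) (h0 : aeval (zz a b) (σ * ρ) * a = 0) :
    aeval (zz a b) ρ * a = 0 ∨ aeval (zz a b) σ * a = 0 := by
  refine or_iff_not_imp_left.2 fun hne => ?_
  set n := aeval (zz a b) ρ * a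
  have hc := aeval_commute (zz_comm_left (b := b) hp.ha) ρ
  have hn : n * n = 0 := by
    rw [mul_assoc, ← mul_assoc a, ← hc.eq, mul_assoc _ a a, hp.ha, mul_zero, mul_zero]
  have hd := hp.rigid n hn hne hi
  have hle : LinearMap.range n ≤ LinearMap.range a := range_mul_le hc
  have heq : LinearMap.range n = LinearMap.range a :=
    Submodule.eq_of_le_of_finrank_le hle (hp.rank_a.symm ▸ hd)
  refine LinearMap.ext fun x => ?_
  obtain ⟨y, hy⟩ : a x ∈ LinearMap.range n := heq ▸ LinearMap.mem_range_self a x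
  show aeval (zz a b) σ (a x) = 0
  rw [← hy, ← Module.End.mul_apply, ← mul_assoc, ← map_mul, h0]
  rfl

theorem exists_annihilator (z a : Module.End k M) :
    ∃ f : k[X], f ≠ 0 ∧ ∀ p, aeval z p * a = 0 ↔ f ∣ p := by
  let I : Ideal k[X] :=
    { carrier := {p | aeval z p * a = 0}
      zero_mem' := by simp
      add_mem' := fun {p q} (hp : _ = 0) (hq : _ = 0) => by
        show _ = 0
        rw [map_add, add_mul, hp, hq, add_zero]
      smul_mem' := fun c p (hp : _ = 0) => by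
        show _ = 0
        rw [smul_eq_mul, map_mul, mul_assoc, hp, mul_zero] }
  refine ⟨Submodule.IsPrincipal.generator I, ?_, fun p => ?_⟩
  · intro h
    have hm : minpoly k z ∈ I := by show _ = 0; rw [minpoly.aeval, zero_mul]
    rw [Submodule.IsPrincipal.mem_iff_generator_dvd I, h, zero_dvd_iff] at hm
    exact minpoly.ne_zero (Algebra.IsIntegral.isIntegral z) hm
  · exact Submodule.IsPrincipal.mem_iff_generator_dvd I

theorem kill_of_coprime {z a : Module.End k M} {p q : k[X]} (h : IsCoprime p q)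
    {r : k[X]} (hp : aeval z (p * r) * a = 0) (hq : aeval z (q * r) * a = 0) : aeval z r * a = 0 := by
  obtain ⟨u, v, e⟩ := h
  have : r = u * (p * r) + v * (q * r) := by linear_combination -r * e
  rw [this, map_add, map_mul _ u, map_mul _ v, add_mul, mul_assoc, mul_assoc, hp, hq, mul_zero, mul_zero,
    add_zero]

/-- The nilpotent case, one side. -/
theorem nilpotent_aux (hk2 : (2 : k) ≠ 0) {a b : Module.End k M} {d : ℕ} (hp : IsPair a b d) {n : ℕ}
    (hn : 2 ≤ n) (hna : aeval (zz a b) (X ^ n : k[X]) * a = 0)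
    (hnb : aeval (zz a b) (X ^ n : k[X]) * b = 0) : aeval (zz a b) (X ^ (n - 1) : k[X]) * a = 0 := by
  obtain ⟨g, hg, j, hj1, hjn, ⟨c, hc⟩, hjnd, h10, h00, h11⟩ := exists_level hk2 n hn
  have hnear : Near (X ^ n) (g.1 0 1) :=
    ⟨g, hg, by simp, by rw [← pow_succ']; exact h10, by rw [← pow_succ']; exact h00,
      by rw [← pow_succ']; exact h11⟩
  have hi := inH_of_near hk2 hp.ha hp.hb hna hnb hnear
  have hc0 : IsCoprime c (X ^ n) := IsCoprime.pow_right
    ((Polynomial.prime_X.irreducible.coprime_iff_not_dvd).2 fun h => hjnd (by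
      rw [hc, pow_succ]; exact mul_dvd_mul_left _ h)).symm
  have hup : ∀ {i : ℕ}, n ≤ i → aeval (zz a b) (X ^ i : k[X]) * a = 0 := fun {i} hi => by
    obtain ⟨l, rfl⟩ := Nat.exists_eq_add_of_le hi
    rw [pow_add, mul_comm, map_mul, mul_assoc, hna, mul_zero]
  rcases kill hp hi (σ := X ^ (n - j)) (by
      rw [hc, ← mul_assoc, ← pow_add, Nat.sub_add_cancel hjn.le, mul_comm, map_mul, mul_assoc, hna,
        mul_zero]) with h | h
  · rw [hc, mul_comm] at h
    have h' := kill_of_coprime hc0 h (by rw [← pow_add]; exact hup (Nat.le_add_right n j))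
    rw [show n - 1 = (n - 1 - j) + j by omega, pow_add, map_mul, mul_assoc, h', mul_zero]
  · rw [show n - 1 = (j - 1) + (n - j) by omega, pow_add, map_mul, mul_assoc, h, mul_zero]

theorem nilpotent (hk2 : (2 : k) ≠ 0) {a b : Module.End k M} {d : ℕ} (hp : IsPair a b d) :
    ∀ n : ℕ, aeval (zz a b) (X ^ n : k[X]) * a = 0 → aeval (zz a b) (X ^ n : k[X]) * b = 0 →
      zz a b * a = 0 ∧ zz a b * b = 0
  | 0, h, _ => absurd (by simpa using h) hp.hane
  | 1, h, h' => ⟨by simpa using h, by simpa using h'⟩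
  | n + 2, h, h' => by
    refine nilpotent hk2 hp (n + 1) (nilpotent_aux hk2 hp (by omega) h h') ?_
    have := nilpotent_aux hk2 hp.symm (n := n + 2) (by omega)
      (by rw [zz_symm b a]; exact h') (by rw [zz_symm b a]; exact h)
    rw [zz_symm b a] at this
    exact this

theorem finite_adjoinRoot [Finite k] {N : k[X]} (hN : N ≠ 0) : Finite (AdjoinRoot N) := by
  haveI : Module.Finite k (AdjoinRoot N) := (AdjoinRoot.powerBasis hN).finite
  exact Module.finite_of_finite k

theorem exists_unit_sq_ne_one (hk2 : (2 : k) ≠ 0) (hk3 : Nat.card k ≠ 3) :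
    ∃ u : k, u ≠ 0 ∧ u * u - 1 ≠ 0 := by
  classical
  by_contra hcon
  push Not at hcon
  have hsub : ∀ x : k, x ∈ ({0, 1, -1} : Finset k) := fun x => by
    rcases eq_or_ne x 0 with h | h
    · simp [h]
    · have : (x - 1) * (x + 1) = 0 := by linear_combination hcon x h
      rcases mul_eq_zero.1 this with h' | h'
      · simp [sub_eq_zero.1 h']
      · simp [eq_neg_of_add_eq_zero_left h']
  haveI : Fintype k := Fintype.ofList [0, 1, -1] fun x => by simpa using hsub x
  apply hk3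
  rw [Nat.card_eq_fintype_card, ← Finset.card_univ,
    show (Finset.univ : Finset k) = {0, 1, -1} from (Finset.eq_univ_of_forall hsub).symm,
    Finset.card_eq_three]
  exact ⟨0, 1, -1, zero_ne_one, fun h => one_ne_zero (neg_eq_zero.1 h.symm),
    fun h => hk2 (by linear_combination h), rfl⟩

theorem natDegree_pos_of_not_isUnit {f : k[X]} (hf : f ≠ 0) (hu : ¬ IsUnit f) : 0 < f.natDegree := by
  rcases Nat.eq_zero_or_pos f.natDegree with h | h
  · exfalso
    apply hu
    rw [eq_C_of_natDegree_eq_zero h]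
    exact isUnit_C.2 (isUnit_iff_ne_zero.2 fun h0 => hf (by
      rw [eq_C_of_natDegree_eq_zero h, h0, C_0]))
  · exact h

/-- The exact elements `up ρ` modulo a product. -/
theorem mixed_near (hk2 : (2 : k) ≠ 0) (hk3 : Nat.card k ≠ 3) {f₁ : k[X]} (e : ℕ)
    (hf₁ : f₁ ≠ 0) (hu : ¬ IsUnit f₁) (hf0 : ¬ X ∣ f₁) :
    ∃ ρ, Near (X * (X ^ e * f₁)) ρ ∧ X ^ e ∣ ρ ∧ ¬ f₁ ∣ ρ := by
  set N := X ^ (e + 2) * f₁ with hN
  have hNe : X * (X * (X ^ e * f₁)) = N := by rw [hN, pow_succ', pow_succ']; ring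
  have hcop : IsCoprime ((X : k[X]) ^ (e + 2)) f₁ :=
    IsCoprime.pow_left (Polynomial.prime_X.irreducible.coprime_iff_not_dvd.2 hf0)
  suffices h : ∃ ρ, up (AdjoinRoot.mk N ρ) ∈ dick k (AdjoinRoot.root N) ∧ X ^ (e + 2) ∣ ρ ∧ ¬ f₁ ∣ ρ by
    obtain ⟨ρ, hρ, he, hn⟩ := h
    obtain ⟨g, hg, h01, h10, h00, h11⟩ := lift_up hρ
    refine ⟨ρ, ⟨g, hg, ?_, hNe ▸ h10, hNe ▸ h00, hNe ▸ h11⟩,
      (pow_dvd_pow X (by omega)).trans he, hn⟩
    exact (Dvd.intro_left X hNe).trans h01
  let π₀ : AdjoinRoot N →ₐ[k] AdjoinRoot ((X : k[X]) ^ (e + 2)) :=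
    AdjoinRoot.algHomOfDvd k N _ (dvd_mul_right _ _)
  have hπ₀ : ∀ q : k[X], π₀ (AdjoinRoot.mk N q) = AdjoinRoot.mk _ q := fun q => by
    rw [← AdjoinRoot.aeval_eq, ← aeval_algHom_apply, AdjoinRoot.algHomOfDvd_root, AdjoinRoot.aeval_eq]
  have hnil : IsNilpotent (π₀ (AdjoinRoot.root N)) := ⟨e + 2, by
    rw [AdjoinRoot.algHomOfDvd_root, ← AdjoinRoot.mk_X, ← map_pow, AdjoinRoot.mk_self]⟩
  rcases finite_or_infinite k with hfin | hinf
  · obtain ⟨g, hgirr, hgdvd⟩ := WfDvdMonoid.exists_irreducible_factor hu hf₁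
    haveI := Fact.mk hgirr
    haveI := finite_adjoinRoot (N := N) (mul_ne_zero (pow_ne_zero _ X_ne_zero) hf₁)
    let π₁ : AdjoinRoot N →ₐ[k] AdjoinRoot g :=
      AdjoinRoot.algHomOfDvd k N g (dvd_mul_of_dvd_right hgdvd _)
    have h1 : π₁ (AdjoinRoot.root N) ≠ 0 := by
      rw [AdjoinRoot.algHomOfDvd_root, ← AdjoinRoot.mk_X, Ne, AdjoinRoot.mk_eq_zero]
      exact fun h => hf0 ((hgirr.associated_of_dvd Polynomial.prime_X.irreducible h).symm.dvd.trans hgdvd)
    have hs : Function.Surjective π₁ := by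
      intro y
      obtain ⟨q, rfl⟩ := AdjoinRoot.mk_surjective y
      exact ⟨AdjoinRoot.mk N q, by
        rw [← AdjoinRoot.aeval_eq, ← aeval_algHom_apply, AdjoinRoot.algHomOfDvd_root, AdjoinRoot.aeval_eq]⟩
    obtain ⟨r, hr0, hr1, hr⟩ := exists_up_ker hk2 hk3 π₀ π₁ hnil h1 hs AdjoinRoot.adjoinRoot_eq_top
    obtain ⟨ρ, rfl⟩ := AdjoinRoot.mk_surjective r
    rw [hπ₀, AdjoinRoot.mk_eq_zero] at hr1
    exact ⟨ρ, hr, hr1, fun h => hr0 (AdjoinRoot.mk_eq_zero.2 (hcop.mul_dvd hr1 h))⟩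
  · have hc0 : f₁.coeff 0 ≠ 0 := fun h => hf0 (X_dvd_iff.2 h)
    have hdeg := natDegree_pos_of_not_isUnit hf₁ hu
    obtain ⟨P, hP⟩ := exists_pair f₁ hdeg hc0 0 (by simp)
    obtain ⟨g, hg, δ, h10, h00⟩ := hP P (Or.inl rfl)
    obtain ⟨u, hu0, hu1⟩ := exists_unit_sq_ne_one hk2 hk3
    set S₁ := AdjoinRoot f₁
    let π₁ : AdjoinRoot N →ₐ[k] S₁ := AdjoinRoot.algHomOfDvd k N f₁ (dvd_mul_left _ _)
    have hπ₁ : ∀ q : k[X], π₁ (AdjoinRoot.mk N q) = AdjoinRoot.mk f₁ q := fun q => by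
      rw [← AdjoinRoot.aeval_eq, ← aeval_algHom_apply, AdjoinRoot.algHomOfDvd_root, AdjoinRoot.aeval_eq]
    set f0' := Matrix.SpecialLinearGroup.map (n := Fin 2) π₀.toRingHom
    set f1' := Matrix.SpecialLinearGroup.map (n := Fin 2) π₁.toRingHom
    have hroot : (AdjoinRoot.mkₐ f₁) (X : k[X]) = AdjoinRoot.root f₁ := AdjoinRoot.mk_X
    have hgS : Matrix.SpecialLinearGroup.map (AdjoinRoot.mkₐ f₁).toRingHom g ∈
        dick k (AdjoinRoot.root f₁) := by
      rw [← hroot, ← map_dick]; exact Subgroup.mem_map_of_mem _ hg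
    have hT := conj_dg_mem k hgS δ (r := AdjoinRoot.mk f₁ P) (by
      show AdjoinRoot.mk f₁ (g.1 1 0) = algebraMap k S₁ δ
      rw [← sub_eq_zero, AdjoinRoot.algebraMap_eq, ← AdjoinRoot.mk_C, ← map_sub, AdjoinRoot.mk_eq_zero]
      exact h10) (by
      show AdjoinRoot.mk f₁ (g.1 0 0) = algebraMap k S₁ δ * AdjoinRoot.mk f₁ P
      rw [h00, map_mul, AdjoinRoot.mk_C]
      rfl) (Units.mk0 u hu0)
    set T := up (AdjoinRoot.mk f₁ P) *
      dg (Units.map (algebraMap k S₁ : k →* S₁) (Units.mk0 u hu0)) * up (-AdjoinRoot.mk f₁ P)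
    have hTc : ∀ s, T * up s * T⁻¹ = up ((algebraMap k S₁ u * algebraMap k S₁ u) * s) := by
      intro s
      simp only [T, _root_.mul_inv_rev, up_inv, neg_neg]
      rw [show ∀ A D : SL(2, S₁), A * D * up (-AdjoinRoot.mk f₁ P) * up s *
          (up (AdjoinRoot.mk f₁ P) * (D⁻¹ * up (-AdjoinRoot.mk f₁ P))) =
          A * (D * (up (-AdjoinRoot.mk f₁ P) * up s * up (AdjoinRoot.mk f₁ P)) * D⁻¹) *
            up (-AdjoinRoot.mk f₁ P) from fun A D => by group,
        up_mul, up_mul, dg_conj_up, up_mul, up_mul]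
      congr 1
      simp
    have hroot1 : π₁ (AdjoinRoot.root N) = AdjoinRoot.root f₁ := AdjoinRoot.algHomOfDvd_root _ _ _
    rw [← hroot1, ← map_dick] at hT
    obtain ⟨h, hh, hhT⟩ := hT
    have h1 : up (1 : AdjoinRoot N) ∈ dick k (AdjoinRoot.root N) := by
      simpa using up_mem_dick k (AdjoinRoot.root N) (1 : k)
    have hdu : ∀ y ∈ dick k (AdjoinRoot.root N), f0' y ∈ uni (π₀ (AdjoinRoot.root N)) := fun y hy =>
      dick_le_uni _ k (map_dick k π₀ _ ▸ Subgroup.mem_map_of_mem f0' hy)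
    obtain ⟨m, hm⟩ := iter_eq_one (π₀ (AdjoinRoot.root N)) hnil (hdu h hh) (hdu _ h1)
    set x := iter h m (up (1 : AdjoinRoot N)) with hx
    have hx0 : f0' x = 1 := by rw [hx, map_iter]; exact hm m le_rfl
    have hx1 : f1' x = up (algebraMap k S₁ ((u * u - 1) ^ m)) := by
      rw [hx, map_iter, map_up, map_one, hhT, iter_up hTc, mul_one, map_pow, map_sub, map_mul, map_one]
    obtain ⟨α, β, hab⟩ := hcop
    refine ⟨C ((u * u - 1) ^ m) * (α * X ^ (e + 2)), ?_,
      dvd_mul_of_dvd_right (dvd_mul_left _ _) _, ?_⟩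
    · suffices x = up (AdjoinRoot.mk N (C ((u * u - 1) ^ m) * (α * X ^ (e + 2)))) from
        this ▸ iter_mem hh h1 m
      have hinj : ∀ s t : AdjoinRoot N, π₀ s = π₀ t → π₁ s = π₁ t → s = t := by
        intro s t h0 h1
        obtain ⟨s, rfl⟩ := AdjoinRoot.mk_surjective s
        obtain ⟨t, rfl⟩ := AdjoinRoot.mk_surjective t
        rw [hπ₀, hπ₀, AdjoinRoot.mk_eq_mk] at h0
        rw [hπ₁, hπ₁, AdjoinRoot.mk_eq_mk] at h1
        exact AdjoinRoot.mk_eq_mk.2 (IsCoprime.mul_dvd ⟨α, β, hab⟩ h0 h1)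
      apply Subtype.ext
      ext i j
      refine hinj _ _ ?_ ?_
      · show (f0' x).1 i j = (f0' (up _)).1 i j
        rw [hx0, map_up, show π₀.toRingHom (AdjoinRoot.mk N _) = _ from hπ₀ _,
          (AdjoinRoot.mk_eq_zero).2 (dvd_mul_of_dvd_right (dvd_mul_left _ _) _), up_zero]
      · show (f1' x).1 i j = (f1' (up _)).1 i j
        rw [hx1, map_up, show π₁.toRingHom (AdjoinRoot.mk N _) = _ from hπ₁ _]
        congr 3
        rw [map_mul, AdjoinRoot.mk_C]
        have : AdjoinRoot.mk f₁ (α * X ^ (e + 2)) = 1 := by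
          rw [← map_one (AdjoinRoot.mk f₁), AdjoinRoot.mk_eq_mk, ← hab]
          exact ⟨-β, by ring⟩
        rw [this, mul_one]
        rfl
    · intro hd
      apply hu
      have hdm : f₁ ∣ C ((u * u - 1) ^ m) * (α * X ^ (e + 2) + β * f₁) := by
        rw [mul_add]; exact dvd_add hd (dvd_mul_of_dvd_right (dvd_mul_left _ _) _)
      rw [hab, mul_one] at hdm
      exact isUnit_of_dvd_unit hdm (isUnit_C.2 (isUnit_iff_ne_zero.2 (pow_ne_zero _ hu1)))

/-- A coprime modulus can be refined for free. -/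
theorem near_of_mem {f ρ : k[X]} (hf0 : ¬ X ∣ f)
    (h : up (AdjoinRoot.mk f ρ) ∈ dick k (AdjoinRoot.root f)) : Near f ρ := by
  obtain ⟨g, hg, h01, h10, h00, h11⟩ := lift_up h
  have hc := Polynomial.prime_X.irreducible.coprime_iff_not_dvd.2 hf0
  obtain ⟨g1, g2, g3⟩ := dick_le_gam hg
  exact ⟨g, hg, h01, hc.mul_dvd (X_dvd_iff.2 g1) h10,
    hc.mul_dvd (X_dvd_iff.2 (by simp [g2])) h00, hc.mul_dvd (X_dvd_iff.2 (by simp [g3])) h11⟩

/-- **The alternative.** -/
theorem main (hk2 : (2 : k) ≠ 0) (hk3 : Nat.card k ≠ 3) {a b : Module.End k M} {d : ℕ}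
    (hp : IsPair a b d) :
    (zz a b * a = 0 ∧ zz a b * b = 0) ∨
      ∃ g : k[X], Irreducible g ∧ ¬ X ∣ g ∧ aeval (zz a b) g * a = 0 ∧ aeval (zz a b) g * b = 0 ∧
        (∀ p : k[X], InH a b (aeval (zz a b) p * a)) ∧ ∀ p : k[X], InH a b (aeval (zz a b) p * b) := by
  classical
  obtain ⟨f, hfne, hf⟩ := exists_annihilator (zz a b) a
  obtain ⟨f₁, hfe, hf₁X⟩ := exists_eq_pow_rootMultiplicity_mul_and_not_dvd f hfne 0
  rw [C_0, sub_zero] at hfe hf₁X
  set e := f.rootMultiplicity 0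
  have hf₁ne : f₁ ≠ 0 := fun h => hfne (by rw [hfe, h, mul_zero])
  have hpa : aeval (zz a b) f * a = 0 := (hf f).2 dvd_rfl
  by_cases hu : IsUnit f₁
  · left
    have h1 : aeval (zz a b) (X ^ (e + 1) : k[X]) * a = 0 :=
      (hf _).2 (hfe ▸ (Units.mul_right_dvd (u := hu.unit)).2 (pow_dvd_pow X (by omega)))
    refine nilpotent hk2 hp (e + 2) ?_ ?_
    · rw [pow_succ', map_mul, mul_assoc, h1, mul_zero]
    · rw [pow_succ']
      exact flip_kill hp.hb _ h1
  right
  rcases Nat.eq_zero_or_pos e with he | he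
  swap
  · exfalso
    obtain ⟨ρ, hnear, hρe, hρn⟩ := mixed_near hk2 hk3 e hf₁ne hu hf₁X
    have hi := inH_of_near hk2 hp.ha hp.hb (p := X * (X ^ e * f₁))
      (by rw [← hfe]; exact (hf _).2 (dvd_mul_left f X))
      (by rw [← hfe]; exact flip_kill hp.hb _ hpa) hnear
    rcases kill hp hi (σ := f₁) (by
      refine (hf _).2 ?_
      rw [hfe, mul_comm]
      exact mul_dvd_mul_left _ hρe) with h | h
    · exact hρn ((dvd_mul_left f₁ (X ^ e)).trans (hfe ▸ (hf ρ).1 h))
    · have : f ∣ f₁ := (hf f₁).1 h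
      rw [hfe] at this
      exact hf₁X ((dvd_pow_self X (by omega)).trans ((dvd_mul_right _ f₁).trans this))
  rw [he, pow_zero, one_mul] at hfe
  subst hfe
  have hc0 : f.coeff 0 ≠ 0 := fun h => hf₁X (X_dvd_iff.2 h)
  have hpb : aeval (zz a b) f * b = 0 := by
    have hinj : LinearMap.range a ⊓ LinearMap.ker b = ⊥ := by
      rw [eq_bot_iff]
      rintro _ ⟨⟨x, rfl⟩, hx⟩
      rw [Submodule.mem_bot]
      have hz : zz a b (a x) = 0 := by
        show a (b (a x)) + b (a (a x)) = 0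
        have e1 : b (a x) = 0 := hx
        have e2 : a (a x) = 0 := LinearMap.congr_fun hp.ha x
        rw [e1, e2, map_zero, map_zero, add_zero]
      have h := LinearMap.congr_fun hpa x
      rw [← X_mul_divX_add f, map_add, mul_comm X, map_mul, aeval_X, aeval_C, add_mul,
        LinearMap.add_apply, Module.End.mul_apply, Module.End.mul_apply, hz, map_zero, zero_add,
        Module.End.mul_apply, Module.algebraMap_end_apply, LinearMap.zero_apply] at h
      exact (smul_eq_zero.1 h).resolve_left hc0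
    have hrange : LinearMap.range (b * a) = LinearMap.range b := by
      refine Submodule.eq_of_le_of_finrank_le (LinearMap.range_comp_le_range a b) ?_
      rw [hp.rank_b, ← hp.rank_a]
      have e : LinearMap.range (b * a) = (LinearMap.range a).map b := LinearMap.range_comp a b
      rw [e]
      have hi : Function.Injective (b.domRestrict (LinearMap.range a)) := by
        rw [← LinearMap.ker_eq_bot, LinearMap.ker_eq_bot']
        rintro ⟨y, hy⟩ h
        apply Subtype.ext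
        exact (Submodule.mem_bot k).1 (hinj ▸ ⟨hy, LinearMap.mem_ker.2 h⟩)
      rw [← LinearMap.finrank_range_of_inj hi, LinearMap.range_domRestrict]
    refine LinearMap.ext fun x => ?_
    obtain ⟨y, hy⟩ : b x ∈ LinearMap.range (b * a) := hrange ▸ LinearMap.mem_range_self b x
    show aeval (zz a b) f (b x) = 0
    rw [← hy, ← Module.End.mul_apply, ← mul_assoc, (aeval_commute (zz_comm_right (a := a) hp.hb) f).eq,
      mul_assoc, hpa, mul_zero, LinearMap.zero_apply]
  have hroot : IsUnit (AdjoinRoot.root f) := by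
    obtain ⟨α, β, hab⟩ := Polynomial.prime_X.irreducible.coprime_iff_not_dvd.2 hf₁X
    refine IsUnit.of_mul_eq_one (AdjoinRoot.mk f α) ?_
    rw [← AdjoinRoot.mk_X, ← map_mul, ← map_one (AdjoinRoot.mk f), AdjoinRoot.mk_eq_mk]
    exact ⟨-β, by linear_combination hab⟩
  have hnear : ∀ ρ, Near f ρ := by
    intro ρ
    refine near_of_mem hf₁X ?_
    rcases finite_or_infinite k with hfin | hinf
    · haveI := finite_adjoinRoot (N := f) hfne
      haveI : Nontrivial (AdjoinRoot f) := AdjoinRoot.nontrivial f (fun h => hu (isUnit_iff_degree_eq_zero.2 h))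
      rw [dick_eq_top_of_units hk2 hk3 hroot AdjoinRoot.adjoinRoot_eq_top ?_]
      · exact Subgroup.mem_top _
      intro r hr0 hr
      obtain ⟨σ, rfl⟩ := AdjoinRoot.mk_surjective r
      by_cases hcop : IsCoprime f σ
      · obtain ⟨α, β, hab⟩ := hcop
        refine IsUnit.of_mul_eq_one (AdjoinRoot.mk f β) ?_
        rw [← map_mul, ← map_one (AdjoinRoot.mk f), AdjoinRoot.mk_eq_mk]
        exact ⟨-α, by linear_combination hab⟩
      · exfalso
        have : ¬ ∀ z : k[X], Irreducible z → z ∣ f → ¬ z ∣ σ := fun h =>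
          hcop (isCoprime_of_irreducible_dvd (fun h' => hfne h'.1) h)
        push Not at this
        obtain ⟨γ, hγ, ⟨τ, hτ⟩, ⟨σ', hσ'⟩⟩ := this
        rcases kill hp (inH_of_near hk2 hp.ha hp.hb hpa hpb (near_of_mem hf₁X hr)) (σ := τ)
          ((hf _).2 ⟨σ', by rw [hτ, hσ']; ring⟩) with h | h
        · exact hr0 (AdjoinRoot.mk_eq_zero.2 ((hf σ).1 h))
        · obtain ⟨c, hc⟩ := (hf τ).1 h
          have hτ0 : τ ≠ 0 := fun h0 => hfne (by rw [hτ, h0, mul_zero])
          apply hγ.not_isUnit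
          refine IsUnit.of_mul_eq_one c (mul_left_cancel₀ hτ0 ?_)
          rw [hτ] at hc
          linear_combination -hc
    · obtain ⟨u, hu0, hu1⟩ := exists_unit_sq_ne_one hk2 hk3
      have hdeg := natDegree_pos_of_not_isUnit hfne hu
      set w := (C ((1 - u * u)⁻¹) * ρ) % f
      obtain ⟨P, hP⟩ := exists_pair f hdeg hc0 w ((natDegree_mod_lt _ hdeg.ne').le)
      set S := AdjoinRoot f
      have hmem : ∀ P', P' = P ∨ P' = P + w → up (AdjoinRoot.mk f P') *
          dg (Units.map (algebraMap k S : k →* S) (Units.mk0 u hu0)) * up (-AdjoinRoot.mk f P') ∈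
          dick k (AdjoinRoot.root f) := by
        intro P' hP'
        obtain ⟨g, hg, δ, h10, h00⟩ := hP P' hP'
        have hgS : Matrix.SpecialLinearGroup.map (AdjoinRoot.mkₐ f).toRingHom g ∈
            dick k (AdjoinRoot.root f) := by
          rw [← show (AdjoinRoot.mkₐ f) (X : k[X]) = AdjoinRoot.root f from AdjoinRoot.mk_X, ← map_dick]
          exact Subgroup.mem_map_of_mem _ hg
        refine conj_dg_mem k hgS δ ?_ ?_ _
        · show AdjoinRoot.mk f (g.1 1 0) = algebraMap k S δ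
          rw [← sub_eq_zero, AdjoinRoot.algebraMap_eq, ← AdjoinRoot.mk_C, ← map_sub, AdjoinRoot.mk_eq_zero]
          exact h10
        · show AdjoinRoot.mk f (g.1 0 0) = algebraMap k S δ * AdjoinRoot.mk f P'
          rw [h00, map_mul, AdjoinRoot.mk_C]
          rfl
      have h := mul_mem (hmem _ (Or.inr rfl)) (inv_mem (hmem _ (Or.inl rfl)))
      convert h using 1
      simp only [_root_.mul_inv_rev, up_inv, neg_neg]
      rw [show ∀ A B C' D E : SL(2, S), A * D * B * (C' * (D⁻¹ * E)) = A * (D * (B * C') * D⁻¹) * E from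
        fun A B C' D E => by group, up_mul, dg_conj_up, up_mul, up_mul]
      congr 1
      have hw : AdjoinRoot.mk f w = algebraMap k S ((1 - u * u)⁻¹) * AdjoinRoot.mk f ρ := by
        rw [show w = C ((1 - u * u)⁻¹) * ρ - f * ((C ((1 - u * u)⁻¹) * ρ) / f) from
          eq_sub_of_add_eq (by rw [add_comm]; exact EuclideanDomain.div_add_mod _ f), map_sub,
          map_mul _ f, AdjoinRoot.mk_self, zero_mul, sub_zero, map_mul, AdjoinRoot.mk_C]
        rfl
      have h1 : algebraMap k S ((1 - u * u)⁻¹) * algebraMap k S (1 - u * u) = 1 := by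
        rw [← map_mul, inv_mul_cancel₀ (fun h0 => hu1 (by linear_combination -h0)), map_one]
      simp only [map_add, hw, Units.coe_map, MonoidHom.coe_coe, Units.val_mk0, map_sub, map_mul,
        map_one] at h1 ⊢
      linear_combination -AdjoinRoot.mk f ρ * h1
  have hall : ∀ ρ, InH a b (aeval (zz a b) ρ * a) := fun ρ =>
    inH_of_near hk2 hp.ha hp.hb hpa hpb (hnear ρ)
  refine ⟨f, ⟨hu, fun {σ τ} h => ?_⟩, hf₁X, hpa, hpb, hall, fun ρ => ?_⟩
  · subst h
    rcases kill hp (hall τ) (σ := σ) hpa with h | h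
    · left
      obtain ⟨c, hc⟩ := (hf τ).1 h
      have hτ0 : τ ≠ 0 := right_ne_zero_of_mul hfne
      refine IsUnit.of_mul_eq_one c (mul_left_cancel₀ hτ0 ?_)
      linear_combination -hc
    · right
      obtain ⟨c, hc⟩ := (hf σ).1 h
      have hσ0 : σ ≠ 0 := left_ne_zero_of_mul hfne
      refine IsUnit.of_mul_eq_one c (mul_left_cancel₀ hσ0 ?_)
      linear_combination -hc
  · refine inH_symm ?_
    rw [zz_symm a b]
    exact inH_of_near hk2 hp.hb hp.ha (by rw [zz_symm b a]; exact hpb)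
      (by rw [zz_symm b a]; exact hpa) (hnear ρ)

end Cfsg.Agent.QuadPairCore
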