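import Cfsg.Prelude.Def_RootSubgroups

/-!
Basic theory of rank one groups (pairs of unipotent subgroups).
-/

set_option autoImplicit false

namespace Cfsg.Agent.RankOne

open Cfsg

section Conj

variable {G : Type*} [Group G] {A B : Subgroup G}

theorem conjBy_one (A : Subgroup G) : conjBy A 1 = A := by
  ext x; simp

theorem mem_conjBy {A : Subgroup G} {g x : G} : x ∈ conjBy A g ↔ g⁻¹ * x * g ∈ A := by
  constructor
  · rintro ⟨a, ha, rfl⟩
    simp only [MulEquiv.coe_toMonoidHom, MulAut.conj_apply]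
    simpa [mul_assoc] using ha
  · intro hx
    exact ⟨g⁻¹ * x * g, hx, by simp [mul_assoc]⟩

theorem conjBy_mul (A : Subgroup G) (g h : G) : conjBy (conjBy A h) g = conjBy A (g * h) := by
  ext x; simp only [mem_conjBy, mul_inv_rev, mul_assoc]

theorem conjBy_inv_conjBy (A : Subgroup G) (g : G) : conjBy (conjBy A g) g⁻¹ = A := by
  rw [conjBy_mul, inv_mul_cancel, conjBy_one]

theorem conjBy_conjBy_inv (A : Subgroup G) (g : G) : conjBy (conjBy A g⁻¹) g = A := by
  rw [conjBy_mul, mul_inv_cancel, conjBy_one]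

theorem conjBy_injective (g : G) : Function.Injective fun A : Subgroup G => conjBy A g :=
  Subgroup.map_injective (MulAut.conj g).injective

theorem conjBy_eq_iff {g : G} : conjBy A g = B ↔ A = conjBy B g⁻¹ := by
  constructor
  · rintro rfl; rw [conjBy_inv_conjBy]
  · rintro rfl; rw [conjBy_conjBy_inv]

theorem conjBy_eq_self_iff {g : G} : conjBy A g = A ↔ g ∈ Subgroup.normalizer (A : Set G) := by
  rw [Subgroup.mem_normalizer_iff]
  constructor
  · intro h n
    have h2 : g * n * g⁻¹ ∈ conjBy A g ↔ g * n * g⁻¹ ∈ A := by rw [h]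
    rw [mem_conjBy] at h2
    simpa [mul_assoc] using h2
  · intro h
    ext x
    rw [mem_conjBy, h (g⁻¹ * x * g)]
    simp [mul_assoc]

theorem conjBy_of_mem {g : G} (hg : g ∈ A) : conjBy A g = A :=
  conjBy_eq_self_iff.2 (Subgroup.le_normalizer hg)

theorem le_centralizer_of_commutator_eq_bot (h : ⁅A, B⁆ = ⊥) :
    A ≤ Subgroup.centralizer (B : Set G) :=
  Subgroup.commutator_eq_bot_iff_le_centralizer.1 h

theorem comm_of_commutator_eq_bot (h : ⁅A, B⁆ = ⊥) {a b : G} (ha : a ∈ A) (hb : b ∈ B) :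
    a * b = b * a :=
  (Subgroup.mem_centralizer_iff.1 (le_centralizer_of_commutator_eq_bot h ha) b hb).symm

theorem commutator_eq_bot_of_comm (h : ∀ a ∈ A, ∀ b ∈ B, a * b = b * a) : ⁅A, B⁆ = ⊥ :=
  Subgroup.commutator_eq_bot_iff_le_centralizer.2 fun a ha =>
    Subgroup.mem_centralizer_iff.2 fun b hb => (h a ha b hb).symm

theorem commutator_conjBy (A B : Subgroup G) (g : G) :
    ⁅conjBy A g, conjBy B g⁆ = conjBy ⁅A, B⁆ g :=
  (Subgroup.map_commutator A B _).symm

theorem conjBy_sup (A B : Subgroup G) (g : G) : conjBy (A ⊔ B) g = conjBy A g ⊔ conjBy B g :=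
  Subgroup.map_sup A B _

theorem commutator_conjBy_eq_bot {g : G} (h : ⁅A, B⁆ = ⊥) : ⁅conjBy A g, conjBy B g⁆ = ⊥ := by
  rw [commutator_conjBy, h]
  exact Subgroup.map_bot _

theorem isNilpotent_conjBy (g : G) (h : Group.IsNilpotent A) : Group.IsNilpotent (conjBy A g) :=
  have := h
  Group.nilpotent_of_mulEquiv (Subgroup.equivMapOfInjective A _ (MulAut.conj g).injective)

theorem isRankOnePair_conjBy (h : IsRankOnePair A B) (g : G) :
    IsRankOnePair (conjBy A g) (conjBy B g) := by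
  have key : ∀ {P Q : Subgroup G}, RankOneCondition P Q →
      RankOneCondition (conjBy P g) (conjBy Q g) := by
    intro P Q hPQ a ha ha1
    rw [mem_conjBy] at ha
    obtain ⟨b, hb, hb1, he⟩ := hPQ (g⁻¹ * a * g) ha fun hc => ha1 <| by
      calc a = g * (g⁻¹ * a * g) * g⁻¹ := by group
        _ = 1 := by rw [hc]; group
    refine ⟨g * b * g⁻¹, ?_, ?_, ?_⟩
    · rw [mem_conjBy]; simpa [mul_assoc] using hb
    · intro hc
      exact hb1 (by
        calc b = g⁻¹ * (g * b * g⁻¹) * g := by group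
          _ = 1 := by rw [hc]; group)
    · rw [conjBy_mul, conjBy_mul]
      have := congrArg (fun C => conjBy C g) he
      simp only [conjBy_mul] at this
      convert this using 2 <;> group
  exact ⟨fun hc => h.ne (conjBy_injective g hc), isNilpotent_conjBy g h.nilpotent_left,
    isNilpotent_conjBy g h.nilpotent_right, key h.cond_left, key h.cond_right⟩

end Conj

section Pair

variable {G : Type*} [Group G] {A B : Subgroup G}

theorem eq_one_of_normalizes (h : IsRankOnePair A B) {a : G} (ha : a ∈ A)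
    (hn : conjBy B a = B) : a = 1 := by
  by_contra h1
  obtain ⟨b, hb, _, he⟩ := h.cond_left a ha h1
  have h2 : conjBy B a⁻¹ = B := by
    conv_lhs => rw [← hn]
    rw [conjBy_inv_conjBy]
  rw [h2] at he
  exact h.ne (by
    conv_lhs => rw [← conjBy_conjBy_inv A b, he, conjBy_of_mem hb])

theorem inf_normalizer_eq_bot (h : IsRankOnePair A B) :
    A ⊓ Subgroup.normalizer (B : Set G) = ⊥ := by
  rw [eq_bot_iff]
  rintro a ⟨ha, hn⟩
  exact Subgroup.mem_bot.2 (eq_one_of_normalizes h ha (conjBy_eq_self_iff.2 hn))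

theorem inf_eq_bot (h : IsRankOnePair A B) : A ⊓ B = ⊥ := by
  rw [eq_bot_iff]
  rintro a ⟨ha, hb⟩
  exact Subgroup.mem_bot.2 (eq_one_of_normalizes h ha (conjBy_of_mem hb))

theorem left_ne_bot (h : IsRankOnePair A B) : A ≠ ⊥ := by
  intro hA
  apply h.ne
  rw [hA, eq_comm, eq_bot_iff]
  intro b hb
  by_contra hb1
  obtain ⟨a, ha, ha1, _⟩ := h.cond_right b hb (by simpa using hb1)
  rw [hA, Subgroup.mem_bot] at ha
  exact ha1 ha

theorem right_ne_bot (h : IsRankOnePair A B) : B ≠ ⊥ := left_ne_bot (RankOnePair_symm h)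

theorem commutator_ne_bot (h : IsRankOnePair A B) : ⁅A, B⁆ ≠ ⊥ := fun hc => by
  apply left_ne_bot h
  rw [eq_bot_iff]
  intro a ha
  refine Subgroup.mem_bot.2 (eq_one_of_normalizes h ha ?_)
  rw [conjBy_eq_self_iff]
  exact Subgroup.centralizer_le_normalizer _ (le_centralizer_of_commutator_eq_bot hc ha)

theorem eq_one_of_centralizes (h : IsRankOnePair A B) {a : G} (ha : a ∈ A)
    (hc : ∀ b ∈ B, a * b = b * a) : a = 1 := by
  refine eq_one_of_normalizes h ha (conjBy_eq_self_iff.2 ?_)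
  exact Subgroup.centralizer_le_normalizer _
    (Subgroup.mem_centralizer_iff.2 fun b hb => (hc b hb).symm)

theorem partner_unique (h : IsRankOnePair A B) {b b' : G} (hb : b ∈ B) (hb' : b' ∈ B)
    (he : conjBy A b⁻¹ = conjBy A b'⁻¹) : b = b' := by
  have h2 : conjBy A (b' * b⁻¹) = A := by
    rw [← conjBy_mul, he, conjBy_conjBy_inv]
  exact (mul_inv_eq_one.1
    (eq_one_of_normalizes (RankOnePair_symm h) (B.mul_mem hb' (B.inv_mem hb)) h2)).symm

theorem existsUnique_partner (h : IsRankOnePair A B) {a : G} (ha : a ∈ A) (ha1 : a ≠ 1) :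
    ∃! b : G, b ∈ B ∧ b ≠ 1 ∧ conjBy A b⁻¹ = conjBy B a⁻¹ := by
  obtain ⟨b, hb, hb1, he⟩ := h.cond_left a ha ha1
  exact ⟨b, ⟨hb, hb1, he⟩, fun b' h' => partner_unique h h'.1 hb (h'.2.2.trans he.symm)⟩

theorem existsUnique_partner_right (h : IsRankOnePair A B) {b : G} (hb : b ∈ B) (hb1 : b ≠ 1) :
    ∃! a : G, a ∈ A ∧ a ≠ 1 ∧ conjBy A b⁻¹ = conjBy B a⁻¹ := by
  obtain ⟨a, ha, ha1, he⟩ := h.cond_right b hb hb1
  exact ⟨a, ⟨ha, ha1, he.symm⟩,
    fun a' h' => partner_unique (RankOnePair_symm h) h'.1 ha (h'.2.2.symm.trans he.symm)⟩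

theorem eq_one_of_conjBy_eq (h : IsRankOnePair A B) {a : G} (ha : a ∈ A)
    (hn : conjBy B a⁻¹ = B) : a = 1 :=
  inv_eq_one.1 (eq_one_of_normalizes h (A.inv_mem ha) hn)

/-- The members of Ω other than `A` are the conjugates of `B` by `A`. -/
theorem unipotent_cases (h : IsRankOnePair A B) {C : Subgroup G}
    (hC : C ∈ unipotentSubgroups A B) : C = A ∨ ∃ a ∈ A, C = conjBy B a := by
  obtain ⟨x, hx, rfl⟩ := hC
  suffices ∀ x ∈ A ⊔ B, ∀ C : Subgroup G, (C = A ∨ ∃ a ∈ A, C = conjBy B a) →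
      (conjBy C x = A ∨ ∃ a ∈ A, conjBy C x = conjBy B a) from this x hx A (Or.inl rfl)
  have hA : ∀ x ∈ A, ∀ C : Subgroup G, (C = A ∨ ∃ a ∈ A, C = conjBy B a) →
      (conjBy C x = A ∨ ∃ a ∈ A, conjBy C x = conjBy B a) := by
    rintro x hx C (rfl | ⟨a, ha, rfl⟩)
    · exact Or.inl (conjBy_of_mem hx)
    · exact Or.inr ⟨x * a, A.mul_mem hx ha, conjBy_mul _ _ _⟩
  have htoB : ∀ C : Subgroup G, (C = A ∨ ∃ a ∈ A, C = conjBy B a) →
      (C = B ∨ ∃ b ∈ B, C = conjBy A b) := by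
    rintro C (rfl | ⟨a, ha, rfl⟩)
    · exact Or.inr ⟨1, B.one_mem, (conjBy_one _).symm⟩
    · rcases eq_or_ne a 1 with rfl | ha1
      · exact Or.inl (conjBy_one _)
      · obtain ⟨b, hb, _, he⟩ := h.cond_left a⁻¹ (A.inv_mem ha) (inv_ne_one.2 ha1)
        rw [inv_inv] at he
        exact Or.inr ⟨b⁻¹, B.inv_mem hb, he.symm⟩
  have hofB : ∀ C : Subgroup G, (C = B ∨ ∃ b ∈ B, C = conjBy A b) →
      (C = A ∨ ∃ a ∈ A, C = conjBy B a) := by
    rintro C (rfl | ⟨b, hb, rfl⟩)
    · exact Or.inr ⟨1, A.one_mem, (conjBy_one _).symm⟩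
    · rcases eq_or_ne b 1 with rfl | hb1
      · exact Or.inl (conjBy_one _)
      · obtain ⟨a, ha, _, he⟩ := h.cond_right b⁻¹ (B.inv_mem hb) (inv_ne_one.2 hb1)
        rw [inv_inv] at he
        exact Or.inr ⟨a⁻¹, A.inv_mem ha, he.symm⟩
  intro x hx
  rw [Subgroup.sup_eq_closure] at hx
  induction hx using Subgroup.closure_induction'' with
  | mem x hx =>
    rcases hx with hx | hx
    · exact hA x hx
    · intro C hC
      refine hofB _ ?_
      rcases htoB C hC with rfl | ⟨b, hb, rfl⟩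
      · exact Or.inl (conjBy_of_mem hx)
      · exact Or.inr ⟨x * b, B.mul_mem hx hb, conjBy_mul _ _ _⟩
  | inv_mem x hx =>
    rcases hx with hx | hx
    · exact hA _ (A.inv_mem hx)
    · intro C hC
      refine hofB _ ?_
      rcases htoB C hC with rfl | ⟨b, hb, rfl⟩
      · exact Or.inl (conjBy_of_mem (inv_mem hx))
      · exact Or.inr ⟨x⁻¹ * b, B.mul_mem (B.inv_mem hx) hb, conjBy_mul _ _ _⟩
  | one => intro C hC; rwa [conjBy_one]
  | mul x y _ _ hx hy => intro C hC; rw [← conjBy_mul]; exact hx _ (hy _ hC)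

theorem self_mem_unipotents : A ∈ unipotentSubgroups A B :=
  ⟨1, (A ⊔ B).one_mem, (conjBy_one A).symm⟩

theorem conjBy_mem_unipotents {C : Subgroup G} (hC : C ∈ unipotentSubgroups A B) {x : G}
    (hx : x ∈ A ⊔ B) : conjBy C x ∈ unipotentSubgroups A B := by
  obtain ⟨y, hy, rfl⟩ := hC
  exact ⟨x * y, mul_mem hx hy, conjBy_mul _ _ _⟩

theorem right_mem_unipotents (h : IsRankOnePair A B) : B ∈ unipotentSubgroups A B := by
  obtain ⟨a, ha, ha1⟩ := (Subgroup.bot_or_exists_ne_one A).resolve_left (left_ne_bot h)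
  obtain ⟨b, hb, _, he⟩ := h.cond_left a ha ha1
  refine ⟨a * b⁻¹, mul_mem (Subgroup.mem_sup_left ha)
    (inv_mem (Subgroup.mem_sup_right hb)), ?_⟩
  rw [← conjBy_mul, he, conjBy_conjBy_inv]

theorem unipotents_symm (h : IsRankOnePair A B) :
    unipotentSubgroups B A = unipotentSubgroups A B := by
  have key : ∀ {P Q : Subgroup G}, IsRankOnePair P Q →
      unipotentSubgroups Q P ⊆ unipotentSubgroups P Q := by
    rintro P Q hPQ C ⟨x, hx, rfl⟩
    exact conjBy_mem_unipotents (right_mem_unipotents hPQ) (sup_comm Q P ▸ hx)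
  exact (key h).antisymm (key (RankOnePair_symm h))

theorem le_of_mem_unipotents {C : Subgroup G} (hC : C ∈ unipotentSubgroups A B) :
    C ≤ A ⊔ B := by
  obtain ⟨x, hx, rfl⟩ := hC
  intro y hy
  rw [mem_conjBy] at hy
  have h1 : x * (x⁻¹ * y * x) * x⁻¹ ∈ A ⊔ B :=
    mul_mem (mul_mem hx (Subgroup.mem_sup_left hy)) (inv_mem hx)
  simpa [mul_assoc] using h1

theorem exists_conj_eq_right (h : IsRankOnePair A B) {C : Subgroup G}
    (hC : C ∈ unipotentSubgroups A B) (hCA : C ≠ A) : ∃ a ∈ A, C = conjBy B a :=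
  (unipotent_cases h hC).resolve_left hCA

theorem regular (h : IsRankOnePair A B) {C D : Subgroup G} (hC : C ∈ unipotentSubgroups A B)
    (hD : D ∈ unipotentSubgroups A B) (hCA : C ≠ A) (hDA : D ≠ A) :
    ∃! a : G, a ∈ A ∧ conjBy C a = D := by
  obtain ⟨a₁, h₁, rfl⟩ := exists_conj_eq_right h hC hCA
  obtain ⟨a₂, h₂, rfl⟩ := exists_conj_eq_right h hD hDA
  refine ⟨a₂ * a₁⁻¹, ⟨A.mul_mem h₂ (A.inv_mem h₁), ?_⟩, ?_⟩
  · rw [conjBy_mul, inv_mul_cancel_right]
  · rintro a ⟨ha, he⟩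
    rw [conjBy_mul] at he
    have h3 : conjBy B (a₂⁻¹ * (a * a₁)) = B := by
      rw [← conjBy_mul, he, conjBy_inv_conjBy]
    have h4 := eq_one_of_normalizes h (A.mul_mem (A.inv_mem h₂) (A.mul_mem ha h₁)) h3
    rw [inv_mul_eq_one] at h4
    rw [h4, mul_inv_cancel_right]

theorem two_transitive (h : IsRankOnePair A B) {C D : Subgroup G}
    (hC : C ∈ unipotentSubgroups A B) (hD : D ∈ unipotentSubgroups A B) (hCD : C ≠ D) :
    ∃ x ∈ A ⊔ B, conjBy A x = C ∧ conjBy B x = D := by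
  obtain ⟨x, hx, rfl⟩ := hC
  obtain ⟨a, ha, he⟩ := exists_conj_eq_right h (conjBy_mem_unipotents hD (inv_mem hx)) (by
    intro hc
    exact hCD ((conjBy_eq_iff.1 hc).trans (by rw [inv_inv])).symm)
  refine ⟨x * a, mul_mem hx (Subgroup.mem_sup_left ha), ?_, ?_⟩
  · rw [← conjBy_mul, conjBy_of_mem ha]
  · rw [← conjBy_mul, ← he, conjBy_conjBy_inv]

/-- Any two distinct unipotent subgroups generate the same rank one group. -/
theorem sup_eq_of_mem_unipotents (h : IsRankOnePair A B) {C D : Subgroup G}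
    (hC : C ∈ unipotentSubgroups A B) (hD : D ∈ unipotentSubgroups A B) (hCD : C ≠ D) :
    C ⊔ D = A ⊔ B := by
  obtain ⟨x, hx, rfl, rfl⟩ := two_transitive h hC hD hCD
  rw [← conjBy_sup, conjBy_of_mem hx]

theorem isRankOnePair_of_mem_unipotents (h : IsRankOnePair A B) {C D : Subgroup G}
    (hC : C ∈ unipotentSubgroups A B) (hD : D ∈ unipotentSubgroups A B) (hCD : C ≠ D) :
    IsRankOnePair C D := by
  obtain ⟨x, hx, rfl, rfl⟩ := two_transitive h hC hD hCD
  exact isRankOnePair_conjBy h x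

theorem exists_three (h : IsRankOnePair A B) :
    ∃ C ∈ unipotentSubgroups A B, C ≠ A ∧ C ≠ B := by
  obtain ⟨a, ha, ha1⟩ := (Subgroup.bot_or_exists_ne_one A).resolve_left (left_ne_bot h)
  refine ⟨conjBy B a, conjBy_mem_unipotents (right_mem_unipotents h)
    (Subgroup.mem_sup_left ha), ?_, fun hc => ha1 (eq_one_of_normalizes h ha hc)⟩
  intro hc
  rw [conjBy_eq_iff, conjBy_of_mem (A.inv_mem ha)] at hc
  exact h.ne hc.symm

/-- An element of the rank one group fixing every unipotent subgroup and lying in a normal set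
whose intersection with the unipotents is trivial is central. -/
theorem normal_dichotomy (h : IsRankOnePair A B) {N : Subgroup G}
    (hN : ∀ x ∈ A ⊔ B, conjBy N x = N) (hle : N ≤ A ⊔ B) :
    A ⊔ B ≤ N ⊔ A ∨ ∀ n ∈ N, ∀ x ∈ A ⊔ B, n * x = x * n := by
  by_cases hfix : ∀ n ∈ N, ∀ C ∈ unipotentSubgroups A B, conjBy C n = C
  · right
    have key : ∀ {P Q : Subgroup G}, IsRankOnePair P Q → (∀ x ∈ P, conjBy N x = N) →
        (∀ n ∈ N, conjBy P n = P ∧ conjBy Q n = Q) → ∀ n ∈ N, ∀ p ∈ P, n * p = p * n := by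
      intro P Q hPQ hNP hf n hn p hp
      have h1 : n * p * n⁻¹ * p⁻¹ ∈ N := by
        have h2 : p * n⁻¹ * p⁻¹ ∈ N := by
          have : p * n⁻¹ * p⁻¹ ∈ conjBy N p := by rw [mem_conjBy]; simpa [mul_assoc] using hn
          rwa [hNP p hp] at this
        simpa [mul_assoc] using mul_mem hn h2
      have h3 : n * p * n⁻¹ * p⁻¹ ∈ P := by
        have : n * p * n⁻¹ ∈ conjBy P n := by rw [mem_conjBy]; simpa [mul_assoc] using hp
        rw [(hf n hn).1] at this
        exact mul_mem this (inv_mem hp)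
      have h4 := eq_one_of_normalizes hPQ h3 (hf _ h1).2
      rw [mul_inv_eq_one, mul_inv_eq_iff_eq_mul] at h4
      exact h4
    intro n hn x hx
    have hA := key h (fun x hx => hN x (Subgroup.mem_sup_left hx))
      (fun n hn => ⟨hfix n hn A self_mem_unipotents, hfix n hn B (right_mem_unipotents h)⟩) n hn
    have hB := key (RankOnePair_symm h) (fun x hx => hN x (Subgroup.mem_sup_right hx))
      (fun n hn => ⟨hfix n hn B (right_mem_unipotents h), hfix n hn A self_mem_unipotents⟩) n hn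
    have : A ⊔ B ≤ Subgroup.centralizer ({n} : Set G) := sup_le
      (fun a ha => Subgroup.mem_centralizer_iff.2 fun y hy => by
        rw [Set.mem_singleton_iff.1 hy]; exact hA a ha)
      (fun a ha => Subgroup.mem_centralizer_iff.2 fun y hy => by
        rw [Set.mem_singleton_iff.1 hy]; exact hB a ha)
    exact Subgroup.mem_centralizer_iff.1 (this hx) n rfl
  · left
    push Not at hfix
    obtain ⟨n, hn, C, hC, hne⟩ := hfix
    obtain ⟨x, hx, hxA, hxB⟩ := two_transitive h hC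
      (conjBy_mem_unipotents hC (hle hn)) (Ne.symm hne)
    have hm : x⁻¹ * n * x ∈ N := by
      have : x⁻¹ * n * x ∈ conjBy N x⁻¹ := by rw [mem_conjBy]; simpa [mul_assoc] using hn
      rwa [hN _ (inv_mem hx)] at this
    have hB : conjBy A (x⁻¹ * n * x) = B := by
      rw [← conjBy_mul, hxA, ← conjBy_mul, ← hxB, conjBy_inv_conjBy]
    refine sup_le le_sup_right ?_
    rw [← hB]
    intro y hy
    rw [mem_conjBy] at hy
    have := mul_mem (mul_mem (Subgroup.mem_sup_left (T := A) hm)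
      (Subgroup.mem_sup_right (S := N) hy)) (inv_mem (Subgroup.mem_sup_left (T := A) hm))
    simpa [mul_assoc] using this

theorem not_le_normalizer (h : IsRankOnePair A B) :
    ¬ A ⊔ B ≤ Subgroup.normalizer (A : Set G) := fun hle => by
  obtain ⟨x, hx, he⟩ := right_mem_unipotents h
  rw [conjBy_eq_self_iff.2 (hle hx)] at he
  exact h.ne he.symm

end Pair

end Cfsg.Agent.RankOne
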