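import Mathlib
import Cfsg.Prelude.Def_RootSubgroups
import Cfsg.Agent.Lib.RankOne
import Cfsg.Agent.Lib.QuadPairCore

/-!
Minimal nilpotent parts of a quadratic pair: the classes `cls`, their groups `E`, and opposite pairs.
-/

set_option autoImplicit false
set_option linter.unusedSectionVars false

namespace Cfsg.Agent.QuadPairTheory

open Cfsg Cfsg.Agent.QuadPairSL2 Cfsg.Agent.QuadPairCore

variable {k : Type*} [Field k] {M : Type*} [AddCommGroup M] [Module k M]
  {G : Subgroup (LinearMap.GeneralLinearGroup k M)}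

/-- Rank of an endomorphism. -/
noncomputable abbrev rk (n : Module.End k M) : ℕ := Module.finrank k (LinearMap.range n)

/-- The nilpotent part. -/
abbrev nl (g : LinearMap.GeneralLinearGroup k M) : Module.End k M := (g : Module.End k M) - 1

/-- Square-zero maps `n` with all `1 + c n` in `G`. -/
def Lie (G : Subgroup (LinearMap.GeneralLinearGroup k M)) : Set (Module.End k M) :=
  {n | n * n = 0 ∧ ∀ c : k, ∃ g ∈ G, (g : Module.End k M) = 1 + c • n}

/-- The unit `1 + n`. -/
def unitOf (n : Module.End k M) (h : n * n = 0) : LinearMap.GeneralLinearGroup k M :=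
  ⟨1 + n, 1 - n, by simp [mul_sub, add_mul, h], by simp [mul_add, sub_mul, h]⟩

@[simp] theorem unitOf_coe (n : Module.End k M) (h : n * n = 0) :
    ((unitOf n h : LinearMap.GeneralLinearGroup k M) : Module.End k M) = 1 + n := rfl

theorem unitOf_inv (n : Module.End k M) (h : n * n = 0) :
    (((unitOf n h)⁻¹ : LinearMap.GeneralLinearGroup k M) : Module.End k M) = 1 - n := rfl

theorem Lie.sq {n : Module.End k M} (h : n ∈ Lie G) : n * n = 0 := h.1

theorem Lie.mem {n : Module.End k M} (h : n ∈ Lie G) : unitOf n h.1 ∈ G := by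
  obtain ⟨g, hg, he⟩ := h.2 1
  have : unitOf n h.1 = g := Units.ext (by rw [he, one_smul]; rfl)
  rw [this]; exact hg

theorem Lie.smul {n : Module.End k M} (h : n ∈ Lie G) (t : k) : t • n ∈ Lie G := by
  refine ⟨by rw [smul_mul_assoc, mul_smul_comm, h.1, smul_zero, smul_zero], fun c => ?_⟩
  obtain ⟨g, hg, he⟩ := h.2 (c * t)
  exact ⟨g, hg, by rw [he, mul_smul]⟩

theorem Lie.neg {n : Module.End k M} (h : n ∈ Lie G) : -n ∈ Lie G := by
  rw [← neg_one_smul k n]; exact Lie.smul h _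

theorem lie_zero : (0 : Module.End k M) ∈ Lie G :=
  ⟨mul_zero 0, fun c => ⟨1, one_mem G, by rw [smul_zero, add_zero]; rfl⟩⟩

theorem Lie.add {n n' : Module.End k M} (h : n ∈ Lie G) (h' : n' ∈ Lie G) (h1 : n * n' = 0)
    (h2 : n' * n = 0) : n + n' ∈ Lie G := by
  refine ⟨by rw [add_mul, mul_add, mul_add, h.1, h'.1, h1, h2]; simp, fun c => ?_⟩
  obtain ⟨g, hg, he⟩ := h.2 c
  obtain ⟨g', hg', he'⟩ := h'.2 c
  refine ⟨g * g', mul_mem hg hg', ?_⟩
  rw [Units.val_mul, he, he', add_mul, one_mul, mul_add, mul_one, smul_mul_assoc, mul_smul_comm, h1,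
    smul_zero, smul_zero, add_zero, smul_add]
  abel

/-- Conjugation of endomorphisms. -/
def cj (x : LinearMap.GeneralLinearGroup k M) (n : Module.End k M) : Module.End k M :=
  (x : Module.End k M) * n * ((x⁻¹ : LinearMap.GeneralLinearGroup k M) : Module.End k M)

theorem cj_mul (x : LinearMap.GeneralLinearGroup k M) (n n' : Module.End k M) :
    cj x (n * n') = cj x n * cj x n' := by
  simp only [cj, mul_assoc, Units.inv_mul_cancel_left]

theorem cj_add (x : LinearMap.GeneralLinearGroup k M) (n n' : Module.End k M) :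
    cj x (n + n') = cj x n + cj x n' := by
  simp only [cj, mul_add, add_mul]

theorem cj_sub (x : LinearMap.GeneralLinearGroup k M) (n n' : Module.End k M) :
    cj x (n - n') = cj x n - cj x n' := by
  simp only [cj, mul_sub, sub_mul]

theorem cj_smul (x : LinearMap.GeneralLinearGroup k M) (c : k) (n : Module.End k M) :
    cj x (c • n) = c • cj x n := by
  simp only [cj, mul_smul_comm, smul_mul_assoc]

theorem cj_zero (x : LinearMap.GeneralLinearGroup k M) : cj x (0 : Module.End k M) = 0 := by simp [cj]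

theorem cj_one (x : LinearMap.GeneralLinearGroup k M) : cj x (1 : Module.End k M) = 1 := by simp [cj]

theorem cj_coe (x g : LinearMap.GeneralLinearGroup k M) :
    cj x (g : Module.End k M) = ((x * g * x⁻¹ : LinearMap.GeneralLinearGroup k M) : Module.End k M) := rfl

theorem cj_comp (x y : LinearMap.GeneralLinearGroup k M) (n : Module.End k M) :
    cj x (cj y n) = cj (x * y) n := by
  simp only [cj, Units.val_mul, _root_.mul_inv_rev, mul_assoc]

theorem cj_inv_cancel (x : LinearMap.GeneralLinearGroup k M) (n : Module.End k M) :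
    cj x⁻¹ (cj x n) = n := by
  rw [cj_comp, inv_mul_cancel]; simp [cj]

theorem range_cj (x : LinearMap.GeneralLinearGroup k M) (n : Module.End k M) :
    LinearMap.range (cj x n) = (LinearMap.range n).map (x : Module.End k M) := by
  ext y
  constructor
  · rintro ⟨m, rfl⟩
    exact ⟨n (((x⁻¹ : LinearMap.GeneralLinearGroup k M) : Module.End k M) m), ⟨_, rfl⟩, rfl⟩
  · rintro ⟨_, ⟨m, rfl⟩, rfl⟩
    refine ⟨(x : Module.End k M) m, ?_⟩
    show (x : Module.End k M) (n ((((x⁻¹ : LinearMap.GeneralLinearGroup k M) : Module.End k M) *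
      (x : Module.End k M)) m)) = _
    rw [Units.inv_mul]
    rfl

theorem rk_cj (x : LinearMap.GeneralLinearGroup k M) (n : Module.End k M) : rk (cj x n) = rk n := by
  rw [rk, range_cj]
  refine (LinearEquiv.finrank_eq (Submodule.equivMapOfInjective _ ?_ _)).symm
  intro u v h
  have := congrArg (((x⁻¹ : LinearMap.GeneralLinearGroup k M) : Module.End k M)) h
  rwa [← Module.End.mul_apply, ← Module.End.mul_apply, Units.inv_mul] at this

theorem Lie.conj {n : Module.End k M} (h : n ∈ Lie G) {x : LinearMap.GeneralLinearGroup k M} (hx : x ∈ G) :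
    cj x n ∈ Lie G := by
  refine ⟨by rw [← cj_mul, h.1, cj_zero], fun c => ?_⟩
  obtain ⟨g, hg, he⟩ := h.2 c
  exact ⟨x * g * x⁻¹, mul_mem (mul_mem hx hg) (inv_mem hx), by rw [← cj_coe, he, cj_add, cj_one, cj_smul]⟩

variable [FiniteDimensional k M]

/-- Being of least rank. -/
def IsMin (G : Subgroup (LinearMap.GeneralLinearGroup k M)) (n : Module.End k M) : Prop :=
  n ∈ Lie G ∧ n ≠ 0 ∧ ∀ m ∈ Lie G, m ≠ 0 → rk n ≤ rk m

theorem IsMin.rk_eq {n n' : Module.End k M} (h : IsMin G n) (h' : IsMin G n') : rk n = rk n' :=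
  le_antisymm (h.2.2 n' h'.1 h'.2.1) (h'.2.2 n h.1 h.2.1)

theorem IsMin.of_rk_le {n n' : Module.End k M} (h : IsMin G n) (h' : n' ∈ Lie G) (h0 : n' ≠ 0)
    (hr : rk n' ≤ rk n) : IsMin G n' :=
  ⟨h', h0, fun m hm hm0 => hr.trans (h.2.2 m hm hm0)⟩

theorem IsMin.conj {n : Module.End k M} (h : IsMin G n) {x : LinearMap.GeneralLinearGroup k M} (hx : x ∈ G) :
    IsMin G (cj x n) :=
  h.of_rk_le (Lie.conj h.1 hx) (fun h0 => h.2.1 (by rw [← cj_inv_cancel x n, h0, cj_zero]))
    (rk_cj x n).le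

theorem scalarFamily_eq (σ : LinearMap.GeneralLinearGroup k M) : scalarFamily σ = fam (nl σ) := rfl

theorem lie_of_mem_quadratic {σ : LinearMap.GeneralLinearGroup k M} (h : σ ∈ quadraticElements G) :
    nl σ ∈ Lie G := by
  refine ⟨h.2.1.1, fun c => ?_⟩
  have hh : (c • nl σ) * (c • nl σ) = 0 := by
    rw [smul_mul_assoc, mul_smul_comm, show nl σ * nl σ = 0 from h.2.1.1, smul_zero, smul_zero]
  exact ⟨unitOf (c • nl σ) hh, h.2.2 ⟨c, rfl⟩, rfl⟩

theorem nl_unitOf (n : Module.End k M) (h : n * n = 0) : nl (unitOf n h) = n := add_sub_cancel_left 1 n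

theorem quadratic_of_lie {n : Module.End k M} (h : n ∈ Lie G) (h0 : n ≠ 0) :
    unitOf n h.1 ∈ quadraticElements G := by
  refine ⟨Lie.mem h, ⟨?_, ?_⟩, ?_⟩
  · show nl (unitOf n h.1) * nl (unitOf n h.1) = 0
    rw [nl_unitOf]; exact h.1
  · show nl (unitOf n h.1) ≠ 0
    rw [nl_unitOf]; exact h0
  · rintro g ⟨c, hc⟩
    change (g : Module.End k M) = 1 + c • nl (unitOf n h.1) at hc
    rw [nl_unitOf] at hc
    obtain ⟨g', hg', he⟩ := h.2 c
    rw [show g = g' from Units.ext (hc.trans he.symm)]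
    exact hg'

theorem isMin_of_mem {σ : LinearMap.GeneralLinearGroup k M} (h : σ ∈ minimalQuadraticElements G) :
    IsMin G (nl σ) := by
  refine ⟨lie_of_mem_quadratic h.1, h.1.2.1.2, fun m hm hm0 => ?_⟩
  have := h.2 _ (quadratic_of_lie hm hm0)
  rwa [commutatorRank, commutatorRank, show ((unitOf m hm.1 : LinearMap.GeneralLinearGroup k M) : M →ₗ[k] M) - 1 = m
    from nl_unitOf m hm.1] at this

theorem mem_of_isMin {n : Module.End k M} (h : IsMin G n) :
    unitOf n h.1.1 ∈ minimalQuadraticElements G := by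
  refine ⟨quadratic_of_lie h.1 h.2.1, fun τ hτ => ?_⟩
  rw [commutatorRank, show ((unitOf n h.1.1 : LinearMap.GeneralLinearGroup k M) : M →ₗ[k] M) - 1 = n
    from nl_unitOf n h.1.1]
  exact h.2.2 _ (lie_of_mem_quadratic hτ) hτ.2.1.2

theorem isPair {a b : Module.End k M} (ha : IsMin G a) (hb : IsMin G b) : IsPair a b (rk a) := by
  refine ⟨ha.1.1, hb.1.1, ha.2.1, hb.2.1, rfl, (ha.rk_eq hb).symm, fun n hn hn0 hi => ha.2.2 n ⟨hn, fun c => ?_⟩ hn0⟩
  obtain ⟨g, hg, he⟩ := hi c
  refine ⟨g, (Subgroup.closure_le G).2 ?_ hg, he⟩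
  rintro x (⟨t, ht⟩ | ⟨t, ht⟩)
  · obtain ⟨y, hy, hye⟩ := ha.1.2 t
    rw [show x = y from Units.ext (ht.trans hye.symm)]; exact hy
  · obtain ⟨y, hy, hye⟩ := hb.1.2 t
    rw [show x = y from Units.ext (ht.trans hye.symm)]; exact hy

/-- The class of `n`: members of `Lie G` with range and kernel bounded as for `n`. -/
def cls (G : Subgroup (LinearMap.GeneralLinearGroup k M)) {n : Module.End k M} (hn : n * n = 0) :
    Submodule k (Module.End k M) where
  carrier := {m | m ∈ Lie G ∧ LinearMap.range m ≤ LinearMap.range n ∧ LinearMap.ker n ≤ LinearMap.ker m}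
  zero_mem' := ⟨lie_zero, by simp, by simp⟩
  add_mem' := fun {u v} ⟨hu, hu1, hu2⟩ ⟨hv, hv1, hv2⟩ => by
    have hz : ∀ {p q : Module.End k M}, LinearMap.range q ≤ LinearMap.range n →
        LinearMap.ker n ≤ LinearMap.ker p → p * q = 0 := fun {p q} hq hp => by
      refine LinearMap.ext fun x => ?_
      refine LinearMap.mem_ker.1 (hp ?_)
      obtain ⟨y, hy⟩ := hq ⟨x, rfl⟩
      rw [LinearMap.mem_ker, ← hy]
      exact LinearMap.congr_fun hn y
    refine ⟨Lie.add hu hv (hz hv1 hu2) (hz hu1 hv2), ?_, fun x hx => ?_⟩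
    · rintro _ ⟨x, rfl⟩
      exact add_mem (hu1 ⟨x, rfl⟩) (hv1 ⟨x, rfl⟩)
    · rw [LinearMap.mem_ker, LinearMap.add_apply, LinearMap.mem_ker.1 (hu2 hx), LinearMap.mem_ker.1 (hv2 hx),
        add_zero]
  smul_mem' := fun c u ⟨hu, hu1, hu2⟩ => by
    refine ⟨Lie.smul hu c, ?_, fun x hx => ?_⟩
    · rintro _ ⟨x, rfl⟩
      exact Submodule.smul_mem _ c (hu1 ⟨x, rfl⟩)
    · rw [LinearMap.mem_ker, LinearMap.smul_apply, LinearMap.mem_ker.1 (hu2 hx), smul_zero]

theorem self_mem_cls {n : Module.End k M} (h : n ∈ Lie G) : n ∈ cls G h.1 := ⟨h, le_rfl, le_rfl⟩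

theorem cls_spaces {n m : Module.End k M} (hn : IsMin G n) (hm : m ∈ cls G hn.1.1) (h0 : m ≠ 0) :
    IsMin G m ∧ LinearMap.range m = LinearMap.range n ∧ LinearMap.ker m = LinearMap.ker n := by
  have hr : LinearMap.range m = LinearMap.range n :=
    Submodule.eq_of_le_of_finrank_le hm.2.1 (hn.2.2 m hm.1 h0)
  refine ⟨hn.of_rk_le hm.1 h0 (by rw [rk, hr]), hr, ?_⟩
  refine (Submodule.eq_of_le_of_finrank_le hm.2.2 ?_).symm
  have h1 := LinearMap.finrank_range_add_finrank_ker n
  have h2 := LinearMap.finrank_range_add_finrank_ker m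
  rw [hr] at h2
  omega

/-- The group `1 + cls n`. -/
def E (G : Subgroup (LinearMap.GeneralLinearGroup k M)) {n : Module.End k M} (hn : n * n = 0) :
    Subgroup (LinearMap.GeneralLinearGroup k M) where
  carrier := {g | nl g ∈ cls G hn}
  one_mem' := by
    show nl 1 ∈ cls G hn
    rw [nl, Units.val_one, sub_self]; exact zero_mem _
  mul_mem' := fun {g h} (hg : nl g ∈ cls G hn) (hh : nl h ∈ cls G hn) => by
    have hz : nl g * nl h = 0 := by
      refine LinearMap.ext fun x => LinearMap.mem_ker.1 (hg.2.2 ?_)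
      obtain ⟨y, hy⟩ := hh.2.1 ⟨x, rfl⟩
      rw [LinearMap.mem_ker, ← hy]
      exact LinearMap.congr_fun hn y
    show nl (g * h) ∈ cls G hn
    have : nl (g * h) = nl g + nl h + nl g * nl h := by simp only [nl, Units.val_mul]; noncomm_ring
    rw [this, hz, add_zero]
    exact add_mem hg hh
  inv_mem' := fun {g} (hg : nl g ∈ cls G hn) => by
    show nl g⁻¹ ∈ cls G hn
    have : g = unitOf (nl g) hg.1.1 := Units.ext (by simp [nl])
    have h2 : nl g⁻¹ = - nl g := by
      conv_lhs => rw [this, nl, unitOf_inv]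
      abel
    rw [h2]; exact neg_mem hg

theorem mem_E {n : Module.End k M} {hn : n * n = 0} {g : LinearMap.GeneralLinearGroup k M} :
    g ∈ E G hn ↔ nl g ∈ cls G hn := Iff.rfl

theorem unitOf_mem_E {n m : Module.End k M} {hn : n * n = 0} (h : m ∈ cls G hn) :
    unitOf m h.1.1 ∈ E G hn := by
  rw [mem_E, nl_unitOf]; exact h

theorem eq_unitOf {n : Module.End k M} {hn : n * n = 0} {g : LinearMap.GeneralLinearGroup k M}
    (h : g ∈ E G hn) : g = unitOf (nl g) (mem_E.1 h).1.1 := Units.ext (by simp [nl])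

theorem nl_eq_zero {g : LinearMap.GeneralLinearGroup k M} : nl g = 0 ↔ g = 1 := by
  rw [nl, sub_eq_zero, Units.val_eq_one]

theorem E_le {n : Module.End k M} (hn : n * n = 0) : E G hn ≤ G := fun g hg =>
  eq_unitOf hg ▸ Lie.mem (mem_E.1 hg).1

theorem E_congr {n n' : Module.End k M} (hn : n * n = 0) (hn' : n' * n' = 0)
    (hr : LinearMap.range n = LinearMap.range n') (hk : LinearMap.ker n = LinearMap.ker n') :
    E G hn = E G hn' := by
  ext g
  show (_ ∧ _ ∧ _) ↔ (_ ∧ _ ∧ _)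
  rw [hr, hk]

theorem E_eq_of_mem {n m : Module.End k M} (hn : IsMin G n) (hm : m ∈ cls G hn.1.1) (h0 : m ≠ 0) :
    E G hm.1.1 = E G hn.1.1 :=
  E_congr _ _ (cls_spaces hn hm h0).2.1 (cls_spaces hn hm h0).2.2

theorem E_neg {n : Module.End k M} (hn : n * n = 0) (hn' : -n * -n = 0) : E G hn' = E G hn :=
  E_congr _ _ (LinearMap.range_neg n) (LinearMap.ker_neg n)

theorem sameAction_eq {σ : LinearMap.GeneralLinearGroup k M} (h : σ ∈ minimalQuadraticElements G) :
    sameActionSubgroup G σ = E G (isMin_of_mem h).1.1 := by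
  apply le_antisymm
  · refine (Subgroup.closure_le _).2 fun τ hτ => ?_
    exact mem_E.2 ⟨lie_of_mem_quadratic hτ.1.1, hτ.2.2.le, hτ.2.1.ge⟩
  · intro g hg
    rcases eq_or_ne g 1 with rfl | h1
    · exact one_mem _
    have h0 : nl g ≠ 0 := fun e => h1 (nl_eq_zero.1 e)
    obtain ⟨hmin, hr, hk⟩ := cls_spaces (isMin_of_mem h) (mem_E.1 hg) h0
    refine Subgroup.subset_closure ⟨?_, hk, hr⟩
    rw [eq_unitOf hg]
    exact mem_of_isMin hmin

theorem mem_roots {A : Subgroup (LinearMap.GeneralLinearGroup k M)} :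
    A ∈ quadraticRootSubgroups G ↔ ∃ (n : Module.End k M) (h : IsMin G n), A = E G h.1.1 := by
  constructor
  · rintro ⟨σ, hσ, rfl⟩
    exact ⟨_, isMin_of_mem hσ, sameAction_eq hσ⟩
  · rintro ⟨n, h, rfl⟩
    refine ⟨unitOf n h.1.1, mem_of_isMin h, ?_⟩
    rw [sameAction_eq (mem_of_isMin h)]
    exact E_congr _ _ (by rw [nl_unitOf]) (by rw [nl_unitOf])

theorem ker_cj (x : LinearMap.GeneralLinearGroup k M) (n : Module.End k M) :
    LinearMap.ker (cj x n) =
      (LinearMap.ker n).comap ((x⁻¹ : LinearMap.GeneralLinearGroup k M) : Module.End k M) := by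
  ext m
  simp only [LinearMap.mem_ker, Submodule.mem_comap, cj, Module.End.mul_apply]
  refine ⟨fun h => ?_, fun h => by rw [h, map_zero]⟩
  have := congrArg (((x⁻¹ : LinearMap.GeneralLinearGroup k M) : Module.End k M)) h
  rwa [← Module.End.mul_apply, Units.inv_mul, map_zero, Module.End.one_apply] at this

theorem conjBy_E {n : Module.End k M} (hn : n * n = 0) {x : LinearMap.GeneralLinearGroup k M} (hx : x ∈ G)
    (hn' : cj x n * cj x n = 0) : conjBy (E G hn) x = E G hn' := by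
  have key : ∀ (y : LinearMap.GeneralLinearGroup k M), y ∈ G → ∀ (p : Module.End k M) (hp : p * p = 0)
      (hp' : cj y p * cj y p = 0) (g : LinearMap.GeneralLinearGroup k M), g ∈ E G hp →
      y * g * y⁻¹ ∈ E G hp' := by
    intro y hy p hp hp' g hg
    obtain ⟨h1, h2, h3⟩ := mem_E.1 hg
    have e : nl (y * g * y⁻¹) = cj y (nl g) := by rw [nl, ← cj_coe, nl, cj_sub, cj_one]
    rw [mem_E, e]
    refine ⟨Lie.conj h1 hy, ?_, ?_⟩
    · rw [range_cj, range_cj]; exact Submodule.map_mono h2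
    · rw [ker_cj, ker_cj]; exact Submodule.comap_mono h3
  apply le_antisymm
  · rintro _ ⟨g, hg, rfl⟩
    exact key x hx n hn hn' g hg
  · intro g hg
    have := key x⁻¹ (inv_mem hx) (cj x n) hn' (by rw [cj_inv_cancel]; exact hn) g hg
    rw [RankOne.mem_conjBy]
    simpa [cj_inv_cancel] using this

theorem isMulCommutative_E {n : Module.End k M} (hn : n * n = 0) : IsMulCommutative (E G hn) := by
  have hz : ∀ p ∈ cls G hn, ∀ q ∈ cls G hn, p * q = 0 := fun p hp q hq => LinearMap.ext fun x => by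
    refine LinearMap.mem_ker.1 (hp.2.2 ?_)
    obtain ⟨y, hy⟩ := hq.2.1 ⟨x, rfl⟩
    rw [LinearMap.mem_ker, ← hy]
    exact LinearMap.congr_fun hn y
  refine ⟨⟨fun g h => Subtype.ext (Units.ext ?_)⟩⟩
  have e1 := hz _ g.2 _ h.2
  have e2 := hz _ h.2 _ g.2
  show (g.1 : Module.End k M) * (h.1 : Module.End k M) = (h.1 : Module.End k M) * (g.1 : Module.End k M)
  simp only [nl, sub_mul, mul_sub, one_mul, mul_one] at e1 e2
  linear_combination (norm := abel) e1 - e2

theorem isNilpotent_of_comm {P : Type*} [Group P] (H : Subgroup P) [IsMulCommutative H] :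
    Group.IsNilpotent H := by
  letI : CommGroup H := { (inferInstance : Group H) with mul_comm := (inferInstance : IsMulCommutative H).is_comm.comm }
  infer_instance

/-! ### Opposite pairs -/

/-- `a` and `b` are mutually inverse between the two ranges. -/
structure Dual (a b : Module.End k M) : Prop where
  sqa : a * a = 0
  sqb : b * b = 0
  aba : a * b * a = a
  bab : b * a * b = b

theorem Dual.symm {a b : Module.End k M} (h : Dual a b) : Dual b a := ⟨h.sqb, h.sqa, h.bab, h.aba⟩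

/-- The pair generates a group of `SL(2)` type. -/
def Opp (a b : Module.End k M) : Prop :=
  LinearMap.range a ⊓ LinearMap.ker b = ⊥ ∧ LinearMap.range b ⊓ LinearMap.ker a = ⊥

/-- The pair generates a unipotent group. -/
def Uni (a b : Module.End k M) : Prop := a * b * a = 0 ∧ b * a * b = 0

theorem Dual.opp {a b : Module.End k M} (h : Dual a b) : Opp a b := by
  have key : ∀ {p q : Module.End k M}, p * q * p = p → LinearMap.range p ⊓ LinearMap.ker q = ⊥ := by
    intro p q hp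
    rw [eq_bot_iff]
    rintro _ ⟨⟨x, rfl⟩, hx⟩
    rw [Submodule.mem_bot, ← LinearMap.congr_fun hp x]
    show p (q (p x)) = 0
    rw [LinearMap.mem_ker.1 hx, map_zero]
  exact ⟨key h.aba, key h.bab⟩

theorem not_uni_of_opp {a b : Module.End k M} (ha : IsMin G a) (hb : IsMin G b) (h : Opp a b) :
    ¬ Uni a b := by
  rintro ⟨h1, -⟩
  have hba : LinearMap.range (b * a) ≤ LinearMap.range b ⊓ LinearMap.ker a := by
    rintro _ ⟨x, rfl⟩
    exact ⟨⟨a x, rfl⟩, LinearMap.mem_ker.2 (LinearMap.congr_fun h1 x)⟩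
  rw [h.2, le_bot_iff, LinearMap.range_eq_bot] at hba
  have : LinearMap.range a ≤ LinearMap.ker b := by
    rintro _ ⟨x, rfl⟩
    exact LinearMap.mem_ker.2 (LinearMap.congr_fun hba x)
  have h0 : LinearMap.range a = ⊥ := le_bot_iff.1 (h.1 ▸ le_inf le_rfl this)
  exact ha.2.1 (LinearMap.range_eq_bot.1 h0)

/-- The two cases, with an irreducible polynomial in the second. -/
theorem alternative (hk2 : (2 : k) ≠ 0) (hk3 : Nat.card k ≠ 3) {a b : Module.End k M} (ha : IsMin G a)
    (hb : IsMin G b) : Uni a b ∨ ∃ g : Polynomial k, Irreducible g ∧ ¬ Polynomial.X ∣ g ∧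
      Polynomial.aeval (zz a b) g * a = 0 ∧ Polynomial.aeval (zz a b) g * b = 0 ∧
      (∀ p : Polynomial k, InH a b (Polynomial.aeval (zz a b) p * a)) ∧ ∀ p : Polynomial k, InH a b (Polynomial.aeval (zz a b) p * b) := by
  refine (QuadPairCore.main hk2 hk3 (isPair ha hb)).imp (fun h => ⟨?_, ?_⟩) id
  · rw [← h.1, zz, add_mul, mul_assoc b a a, ha.1.1, mul_zero, add_zero]
  · rw [← h.2, zz, add_mul, mul_assoc a b b, hb.1.1, mul_zero, zero_add]

theorem opp_of_polynomial {a b : Module.End k M} (ha : a * a = 0) (hb : b * b = 0) {g : Polynomial k}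
    (hg : ¬ Polynomial.X ∣ g) (h1 : Polynomial.aeval (zz a b) g * a = 0)
    (h2 : Polynomial.aeval (zz a b) g * b = 0) : Opp a b := by
  have hc : g.coeff 0 ≠ 0 := fun h => hg (Polynomial.X_dvd_iff.2 h)
  have key : ∀ (p q : Module.End k M), p * p = 0 → zz a b = zz p q →
      Polynomial.aeval (zz a b) g * p = 0 → LinearMap.range p ⊓ LinearMap.ker q = ⊥ := by
    intro p q hp he h
    rw [eq_bot_iff]
    rintro _ ⟨⟨x, rfl⟩, hx⟩
    have hz : zz a b (p x) = 0 := by
      rw [he]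
      show p (q (p x)) + q (p (p x)) = 0
      rw [show p (p x) = 0 from LinearMap.congr_fun hp x, LinearMap.mem_ker.1 hx, map_zero, map_zero, add_zero]
    have h' := LinearMap.congr_fun h x
    rw [← Polynomial.X_mul_divX_add g, map_add, mul_comm Polynomial.X, map_mul, Polynomial.aeval_X,
      Polynomial.aeval_C, add_mul, LinearMap.add_apply, Module.End.mul_apply, Module.End.mul_apply, hz,
      map_zero, zero_add, Module.End.mul_apply, Module.algebraMap_end_apply, LinearMap.zero_apply] at h'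
    exact (Submodule.mem_bot k).2 ((smul_eq_zero.1 h').resolve_left hc)
  exact ⟨key a b ha rfl h1, key b a hb (zz_symm a b) h2⟩

theorem uni_or_opp (hk2 : (2 : k) ≠ 0) (hk3 : Nat.card k ≠ 3) {a b : Module.End k M} (ha : IsMin G a)
    (hb : IsMin G b) : Uni a b ∨ Opp a b :=
  (alternative hk2 hk3 ha hb).imp id fun ⟨_, _, hX, h1, h2, _, _⟩ => opp_of_polynomial ha.1.1 hb.1.1 hX h1 h2

/-- An opposite pair has a dual. -/
theorem exists_dual (hk2 : (2 : k) ≠ 0) (hk3 : Nat.card k ≠ 3) {a b : Module.End k M} (ha : IsMin G a)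
    (hb : IsMin G b) (h : Opp a b) : ∃ b' ∈ cls G hb.1.1, b' ≠ 0 ∧ Dual a b' := by
  rcases alternative hk2 hk3 ha hb with hu | ⟨g, hg, hX, h1, h2, -, hall⟩
  · exact absurd hu (not_uni_of_opp ha hb h)
  set z := zz a b with hz
  obtain ⟨u, v, huv⟩ : IsCoprime (Polynomial.X : Polynomial k) g :=
    Polynomial.prime_X.irreducible.coprime_iff_not_dvd.2 hX
  have hza : z * a = a * b * a := by rw [hz, zz, add_mul, mul_assoc b a a, ha.1.1, mul_zero, add_zero]
  have hzb : z * b = b * a * b := by rw [hz, zz, add_mul, mul_assoc a b b, hb.1.1, mul_zero, zero_add]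
  set W := Polynomial.aeval z u
  have hWz : ∀ p, Polynomial.aeval z g * p = 0 → W * (z * p) = p := by
    intro p hp
    have := congrArg (fun q => Polynomial.aeval z q * p) huv
    simp only [map_add, map_mul, Polynomial.aeval_X, add_mul, map_one, one_mul] at this
    rwa [mul_assoc (Polynomial.aeval z v), hp, mul_zero, add_zero, mul_assoc] at this
  have hWa : Commute W a := aeval_commute (zz_comm_left (b := b) ha.1.1) u
  have hWb : Commute W b := aeval_commute (zz_comm_right (a := a) hb.1.1) u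
  have hne : W * b ≠ 0 := fun h0 => hb.2.1 (by
    have e := hWz b h2
    rwa [← mul_assoc, show W * z = z * W from (aeval_commute (Commute.refl z) u).eq, mul_assoc, h0,
      mul_zero, eq_comm] at e)
  have hL : W * b ∈ Lie G := by
    refine ⟨by rw [mul_assoc, ← mul_assoc b, ← hWb.eq, mul_assoc W b b, hb.1.1, mul_zero, mul_zero], fun c => ?_⟩
    obtain ⟨x, hx, he⟩ := hall u c
    refine ⟨x, (Subgroup.closure_le G).2 ?_ hx, he⟩
    rintro y (⟨t, ht⟩ | ⟨t, ht⟩)
    · obtain ⟨y', hy, hye⟩ := ha.1.2 t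
      rw [show y = y' from Units.ext (ht.trans hye.symm)]; exact hy
    · obtain ⟨y', hy, hye⟩ := hb.1.2 t
      rw [show y = y' from Units.ext (ht.trans hye.symm)]; exact hy
  refine ⟨W * b, ⟨hL, range_mul_le hWb, fun x hx => ?_⟩, hne, ha.1.1, hL.1, ?_, ?_⟩
  · rw [LinearMap.mem_ker, Module.End.mul_apply, LinearMap.mem_ker.1 hx, map_zero]
  · rw [← mul_assoc a W, ← hWa.eq, mul_assoc W, mul_assoc W, ← hza, hWz a h1]
  · rw [mul_assoc W b a, mul_assoc W (b * a), ← mul_assoc (b * a) W, show b * a * W = W * (b * a) from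
      ((hWb.mul_right hWa).eq).symm, mul_assoc W (b * a) b, ← hzb, hWz b h2]

theorem Dual.left_mul {a b a' : Module.End k M} (h : Dual a b)
    (hr : LinearMap.range a' ≤ LinearMap.range a) : a * b * a' = a' := by
  refine LinearMap.ext fun x => ?_
  obtain ⟨y, hy⟩ := hr ⟨x, rfl⟩
  show a (b (a' x)) = a' x
  rw [← hy]
  exact LinearMap.congr_fun h.aba y

theorem Dual.right_mul {a b a' : Module.End k M} (h : Dual a b)
    (hk : LinearMap.ker a ≤ LinearMap.ker a') : a' * (b * a) = a' := by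
  refine LinearMap.ext fun x => ?_
  have : x - b (a x) ∈ LinearMap.ker a := by
    rw [LinearMap.mem_ker, map_sub, show a (b (a x)) = a x from LinearMap.congr_fun h.aba x, sub_self]
  have := LinearMap.mem_ker.1 (hk this)
  rw [map_sub, sub_eq_zero] at this
  exact this.symm

/-- The projection of a dual pair is the same for another dual pair on the same spaces. -/
theorem Dual.proj_eq {a b a' b' : Module.End k M} (h : Dual a b) (h' : Dual a' b')
    (ha : LinearMap.range a' = LinearMap.range a) (hb : LinearMap.ker b' = LinearMap.ker b) :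
    a' * b' = a * b := by
  calc a' * b' = (a * b * a') * b' := by rw [h.left_mul ha.le]
    _ = a * b * (a' * b') := by rw [mul_assoc]
    _ = a * (b * (a' * b')) := by rw [mul_assoc]
    _ = a * b := by rw [h'.symm.right_mul hb.le]

theorem Dual.conj_identity {a b : Module.End k M} (h : Dual a b) :
    cj (unitOf b h.sqb)⁻¹ a = cj (unitOf a h.sqa)⁻¹ (-b) := by
  rw [cj, cj, inv_inv, inv_inv, unitOf_inv, unitOf_inv, unitOf_coe, unitOf_coe]
  have e1 : b * a * b = b := h.bab
  have e2 : a * b * a = a := h.aba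
  have l : (1 - b) * a * (1 + b) = a + a * b - b * a - b * a * b := by noncomm_ring
  have r : (1 - a) * (-b) * (1 + a) = -b - b * a + a * b + a * b * a := by noncomm_ring
  rw [l, r, e1, e2]
  abel

variable {a b : Module.End k M} (ha : IsMin G a) (hb : IsMin G b)

theorem opp_of_cls (h : Opp a b) {a' b' : Module.End k M}
    (ha' : a' ∈ cls G ha.1.1) (ha0 : a' ≠ 0) (hb' : b' ∈ cls G hb.1.1) (hb0 : b' ≠ 0) : Opp a' b' := by
  obtain ⟨-, r1, k1⟩ := cls_spaces ha ha' ha0
  obtain ⟨-, r2, k2⟩ := cls_spaces hb hb' hb0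
  rw [Opp, r1, r2, k1, k2]; exact h

theorem uni_of_cls (hk2 : (2 : k) ≠ 0) (hk3 : Nat.card k ≠ 3)
    (h : Uni a b) {a' b' : Module.End k M}
    (ha' : a' ∈ cls G ha.1.1) (hb' : b' ∈ cls G hb.1.1) : Uni a' b' := by
  rcases eq_or_ne a' 0 with rfl | ha0
  · exact ⟨by simp, by simp⟩
  rcases eq_or_ne b' 0 with rfl | hb0
  · exact ⟨by simp, by simp⟩
  obtain ⟨m1, r1, k1⟩ := cls_spaces ha ha' ha0
  obtain ⟨m2, r2, k2⟩ := cls_spaces hb hb' hb0
  refine (uni_or_opp hk2 hk3 m1 m2).resolve_right fun ho => not_uni_of_opp ha hb ?_ h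
  rw [Opp, ← r1, ← r2, ← k1, ← k2]; exact ho

theorem rankOneCondition (hk2 : (2 : k) ≠ 0) (hk3 : Nat.card k ≠ 3) (h : Opp a b) :
    RankOneCondition (E G ha.1.1) (E G hb.1.1) := by
  intro u hu hu1
  obtain ⟨n, hn⟩ : ∃ n, n = nl u := ⟨_, rfl⟩
  rw [mem_E, ← hn] at hu
  have hn0 : n ≠ 0 := fun e => hu1 (nl_eq_zero.1 (hn ▸ e))
  obtain ⟨hnm, -, -⟩ := cls_spaces ha hu hn0
  obtain ⟨m, hm, hm0, hd⟩ := exists_dual hk2 hk3 hnm hb (opp_of_cls ha hb h hu hn0 (self_mem_cls hb.1) hb.2.1)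
  have hue : u = unitOf n hd.sqa := Units.ext (by simp [hn, nl])
  subst hue
  refine ⟨unitOf m hd.sqb, unitOf_mem_E hm, fun e => hm0 (by rw [← nl_unitOf m hd.sqb, nl_eq_zero.2 e]), ?_⟩
  have hv : (unitOf m hd.sqb)⁻¹ ∈ G := inv_mem (Lie.mem hm.1)
  have hu' : (unitOf n hd.sqa)⁻¹ ∈ G := inv_mem (Lie.mem hnm.1)
  have hneg : -m * -m = 0 := by rw [neg_mul_neg]; exact hd.sqb
  rw [← E_eq_of_mem ha hu hn0, ← E_eq_of_mem hb hm hm0, ← E_neg hm.1.1 hneg,
    conjBy_E _ hv (Lie.conj hnm.1 hv).1, conjBy_E hneg hu' (Lie.conj (Lie.neg hm.1) hu').1]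
  exact E_congr _ _ (by rw [hd.conj_identity]) (by rw [hd.conj_identity])

theorem isRankOnePair (hk2 : (2 : k) ≠ 0) (hk3 : Nat.card k ≠ 3) (h : Opp a b) :
    IsRankOnePair (E G ha.1.1) (E G hb.1.1) := by
  refine ⟨fun e => ?_, ?_, ?_, rankOneCondition ha hb hk2 hk3 h, rankOneCondition hb ha hk2 hk3 ⟨h.2, h.1⟩⟩
  · have hmem : unitOf a ha.1.1 ∈ E G hb.1.1 := e ▸ unitOf_mem_E (self_mem_cls ha.1)
    have hc := mem_E.1 hmem
    rw [nl_unitOf] at hc
    have : LinearMap.range a ≤ LinearMap.ker b := by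
      intro x hx
      obtain ⟨y, rfl⟩ := hc.2.1 hx
      exact LinearMap.congr_fun hb.1.1 y
    exact ha.2.1 (LinearMap.range_eq_bot.1 (le_bot_iff.1 (h.1 ▸ le_inf le_rfl this)))
  · haveI := isMulCommutative_E (G := G) ha.1.1; exact isNilpotent_of_comm _
  · haveI := isMulCommutative_E (G := G) hb.1.1; exact isNilpotent_of_comm _

theorem isSpecial (hk2 : (2 : k) ≠ 0) (hk3 : Nat.card k ≠ 3) (h : Opp a b) :
    IsSpecialRankOnePair (E G ha.1.1) (E G hb.1.1) := by
  have hR := isRankOnePair ha hb hk2 hk3 h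
  refine ⟨hR, fun u hu hu1 v hv hv1 he => ?_⟩
  obtain ⟨n, hn⟩ : ∃ n, n = nl u := ⟨_, rfl⟩
  rw [mem_E, ← hn] at hu
  have hn0 : n ≠ 0 := fun e => hu1 (nl_eq_zero.1 (hn ▸ e))
  obtain ⟨hnm, -, -⟩ := cls_spaces ha hu hn0
  obtain ⟨m, hm, hm0, hd⟩ := exists_dual hk2 hk3 hnm hb (opp_of_cls ha hb h hu hn0 (self_mem_cls hb.1) hb.2.1)
  have hue : u = unitOf n hd.sqa := Units.ext (by simp [hn, nl])
  subst hue
  have hvv : v = unitOf m hd.sqb := by
    refine RankOne.partner_unique hR hv (unitOf_mem_E hm) (he.trans ?_)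
    have hv' : (unitOf m hd.sqb)⁻¹ ∈ G := inv_mem (Lie.mem hm.1)
    have hu' : (unitOf n hd.sqa)⁻¹ ∈ G := inv_mem (Lie.mem hnm.1)
    have hneg : -m * -m = 0 := by rw [neg_mul_neg]; exact hd.sqb
    rw [← E_eq_of_mem ha hu hn0, ← E_eq_of_mem hb hm hm0, ← E_neg hm.1.1 hneg,
      conjBy_E _ hv' (Lie.conj hnm.1 hv').1, conjBy_E hneg hu' (Lie.conj (Lie.neg hm.1) hu').1]
    exact E_congr _ _ (by rw [hd.conj_identity]) (by rw [hd.conj_identity])
  subst hvv
  apply Units.ext
  rw [Units.val_mul, Units.val_mul, Units.val_mul, Units.val_mul, unitOf_inv, unitOf_inv, unitOf_coe,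
    unitOf_coe]
  have l : (1 - m) * (1 + n) * (1 + m) = 1 + n + n * m - m * n - m * n * m - m * m := by noncomm_ring
  have r : (1 - n) * (1 - m) * (1 + n) = 1 - m + n * m - m * n + n * m * n - n * n := by noncomm_ring
  rw [l, r, hd.bab, hd.aba, hd.sqa, hd.sqb]
  abel

end Cfsg.Agent.QuadPairTheory
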