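import Mathlib
import Cfsg.Prelude.Def_RootSubgroups
import Cfsg.Agent.Lib.RankOne
import Cfsg.Agent.Lib.QuadPairTheory
import Cfsg.Agent.S5061

/-!
Unipotent pairs of minimal nilpotent parts: the commutator `c = ab - ba`, and the surjectivity of
`b' ↦ ab' - b'a` onto the class of `c`.
-/

set_option autoImplicit false
set_option linter.unusedSectionVars false

namespace Cfsg.Agent.QuadPairUnipotent

open Cfsg Cfsg.Agent.QuadPairTheory

variable {k : Type*} [Field k] {M : Type*} [AddCommGroup M] [Module k M] [FiniteDimensional k M]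
  {G : Subgroup (LinearMap.GeneralLinearGroup k M)}

theorem finrank_map_add (f : Module.End k M) (p : Submodule k M) :
    Module.finrank k (p.map f) + Module.finrank k (p ⊓ LinearMap.ker f : Submodule k M) =
      Module.finrank k p := by
  have h := LinearMap.finrank_range_add_finrank_ker (f.domRestrict p)
  rw [LinearMap.range_domRestrict] at h
  rw [← h]
  congr 1
  have e : (LinearMap.ker (f.domRestrict p)).map p.subtype = p ⊓ LinearMap.ker f := by
    ext x
    simp only [Submodule.mem_map, LinearMap.mem_ker, Submodule.mem_inf, LinearMap.domRestrict_apply]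
    exact ⟨fun ⟨y, hy, he⟩ => he ▸ ⟨y.2, hy⟩, fun ⟨hx, hf⟩ => ⟨⟨x, hx⟩, hf, rfl⟩⟩
  rw [← e]
  exact (Submodule.equivMapOfInjective _ p.injective_subtype _).finrank_eq.symm

/-! ### Flags -/

/-- Elements acting trivially on `M / K`, `K / R` and `R`. -/
def flag (K R : Submodule k M) (hRK : R ≤ K) : Subgroup (LinearMap.GeneralLinearGroup k M) where
  carrier := {g | (∀ m, nl g m ∈ K) ∧ (∀ m ∈ K, nl g m ∈ R) ∧ ∀ m ∈ R, nl g m = 0}
  one_mem' := by simp [nl]
  mul_mem' := fun {g h} ⟨g1, g2, g3⟩ ⟨h1, h2, h3⟩ => by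
    have e : ∀ m, nl (g * h) m = nl g (nl h m) + nl g m + nl h m := fun m => by
      simp [nl]; abel
    refine ⟨fun m => ?_, fun m hm => ?_, fun m hm => ?_⟩ <;> rw [e]
    · exact add_mem (add_mem (g1 _) (g1 _)) (h1 _)
    · exact add_mem (add_mem (g2 _ (h1 _)) (g2 _ hm)) (h2 _ hm)
    · rw [h3 m hm, map_zero, g3 m hm]; simp
  inv_mem' := fun {g} ⟨g1, g2, g3⟩ => by
    have e : ∀ m, nl g⁻¹ m = -(nl g (((g⁻¹ : LinearMap.GeneralLinearGroup k M) : Module.End k M) m)) := by
      intro m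
      show ((g⁻¹ : LinearMap.GeneralLinearGroup k M) : Module.End k M) m - m = -((g : Module.End k M) _ - _)
      rw [← Module.End.mul_apply (g : Module.End k M), Units.mul_inv]; simp only [Module.End.one_apply]; abel
    have e' : ∀ m, ((g⁻¹ : LinearMap.GeneralLinearGroup k M) : Module.End k M) m = m + nl g⁻¹ m := by
      intro m; simp [nl]
    have hK : ∀ m, nl g⁻¹ m ∈ K := fun m => by rw [e]; exact neg_mem (g1 _)
    refine ⟨hK, fun m hm => ?_, fun m hm => ?_⟩
    · rw [e]; exact neg_mem (g2 _ (by rw [e']; exact add_mem hm (hK m)))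
    · have hR : nl g⁻¹ m ∈ R := by
        rw [e]; exact neg_mem (g2 _ (by rw [e']; exact add_mem (hRK hm) (hK m)))
      rw [e, g3 _ (by rw [e']; exact add_mem hm hR), neg_zero]

theorem mem_flag {K R : Submodule k M} {hRK : R ≤ K} {g : LinearMap.GeneralLinearGroup k M} :
    g ∈ flag K R hRK ↔ (∀ m, nl g m ∈ K) ∧ (∀ m ∈ K, nl g m ∈ R) ∧ ∀ m ∈ R, nl g m = 0 := Iff.rfl

theorem isUnipotentOn_of_le_flag {H : Subgroup (LinearMap.GeneralLinearGroup k M)} {K R : Submodule k M}
    {hRK : R ≤ K} (h : H ≤ flag K R hRK) : IsUnipotentOn H := by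
  refine ⟨3, fun l hl hlen => ?_⟩
  obtain ⟨x, y, z, rfl⟩ := List.length_eq_three.1 hlen
  obtain ⟨x1, x2, x3⟩ := h (hl x (by simp))
  obtain ⟨y1, y2, y3⟩ := h (hl y (by simp))
  obtain ⟨z1, z2, z3⟩ := h (hl z (by simp))
  refine LinearMap.ext fun m => ?_
  simp only [List.map_cons, List.map_nil, List.prod_cons, List.prod_nil, mul_one, List.bind_eq_flatMap,
    List.pure_def, List.flatMap_cons, List.flatMap_nil, List.singleton_append]
  exact x3 _ (y2 _ (z1 m))

theorem isUnipotentOn_mono {H H' : Subgroup (LinearMap.GeneralLinearGroup k M)} (h : H ≤ H')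
    (hu : IsUnipotentOn H') : IsUnipotentOn H := by
  obtain ⟨n, hn⟩ := hu
  exact ⟨n, fun l hl => hn l fun g hg => h (hl g hg)⟩

theorem exists_fixed_ne_zero {H : Subgroup (LinearMap.GeneralLinearGroup k M)} (hu : IsUnipotentOn H)
    {m₀ : M} (hm : m₀ ≠ 0) : ∃ m : M, m ≠ 0 ∧ ∀ g ∈ H, nl g m = 0 := by
  obtain ⟨n, hn⟩ := hu
  by_contra hcon
  push Not at hcon
  have : ∀ j, ∃ l : List (LinearMap.GeneralLinearGroup k M), (∀ g ∈ l, g ∈ H) ∧ l.length = j ∧
      ((l.map fun g : LinearMap.GeneralLinearGroup k M => nl g).prod) m₀ ≠ 0 := by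
    intro j
    induction j with
    | zero => exact ⟨[], by simp, rfl, by simpa using hm⟩
    | succ j ih =>
      obtain ⟨l, hl, hlen, hne⟩ := ih
      obtain ⟨g, hg, hgne⟩ := hcon _ hne
      refine ⟨g :: l, ?_, by simp [hlen], by simpa using hgne⟩
      intro x hx
      rcases List.mem_cons.1 hx with rfl | hx
      · exact hg
      · exact hl x hx
  obtain ⟨l, hl, hlen, hne⟩ := this n
  apply hne
  have h := hn l hl hlen
  have key : (((do let a ← l; pure (a : M →ₗ[k] M)) : List (M →ₗ[k] M)).map fun g => g - 1) =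
      l.map fun g : LinearMap.GeneralLinearGroup k M => nl g := by
    clear h hne hlen hl
    induction l with
    | nil => simp
    | cons a l ih => simp at ih ⊢; exact ih
  rw [← key]
  exact LinearMap.congr_fun h m₀

/-! ### Unipotent pairs -/

variable {a b : Module.End k M}

/-- `R_a ∩ K_b`. -/
abbrev pSp (a b : Module.End k M) : Submodule k M := LinearMap.range a ⊓ LinearMap.ker b

theorem cls_mul_range (hk2 : (2 : k) ≠ 0) (hk3 : Nat.card k ≠ 3) (ha : IsMin G a) (hb : IsMin G b)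
    (hu : Uni a b) {a' b' : Module.End k M} (ha' : a' ∈ cls G ha.1.1) (hb' : b' ∈ cls G hb.1.1) {x : M}
    (hx : x ∈ LinearMap.range a) : a' (b' x) = 0 := by
  rcases eq_or_ne a' 0 with rfl | h0
  · simp
  obtain ⟨y, rfl⟩ := (cls_spaces ha ha' h0).2.1.ge hx
  exact LinearMap.congr_fun (uni_of_cls ha hb hk2 hk3 hu ha' hb').1 y

theorem map_le_pSp (hk2 : (2 : k) ≠ 0) (hk3 : Nat.card k ≠ 3) (ha : IsMin G a) (hb : IsMin G b)
    (hu : Uni a b) {a' : Module.End k M} (ha' : a' ∈ cls G ha.1.1) {x : M} (hx : x ∈ LinearMap.range b) :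
    a' x ∈ pSp a b :=
  ⟨ha'.2.1 ⟨x, rfl⟩, LinearMap.mem_ker.2
    (cls_mul_range hk2 hk3 hb ha ⟨hu.2, hu.1⟩ (self_mem_cls hb.1) ha' hx)⟩

theorem sup_le_flag (hk2 : (2 : k) ≠ 0) (hk3 : Nat.card k ≠ 3) (ha : IsMin G a) (hb : IsMin G b)
    (hu : Uni a b) :
    ∃ (K R : Submodule k M) (h : R ≤ K), E G ha.1.1 ⊔ E G hb.1.1 ≤ flag K R h := by
  refine ⟨LinearMap.range a ⊔ LinearMap.range b, pSp a b ⊔ pSp b a,
    sup_le_sup inf_le_left inf_le_left, ?_⟩
  have side : ∀ {p q : Module.End k M} (hp : IsMin G p) (hq : IsMin G q), Uni p q →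
      ∀ n ∈ cls G hp.1.1, (∀ m, n m ∈ LinearMap.range p) ∧
        (∀ m ∈ LinearMap.range p ⊔ LinearMap.range q, n m ∈ pSp p q) ∧
        (∀ m ∈ pSp p q ⊔ pSp q p, n m = 0) := by
    intro p q hp hq h n hn
    refine ⟨fun m => hn.2.1 ⟨m, rfl⟩, fun m hm => ?_, fun m hm => ?_⟩
    · obtain ⟨y, hy, z, hz, rfl⟩ := Submodule.mem_sup.1 hm
      have hy0 : n y = 0 := LinearMap.mem_ker.1 (hn.2.2 (by
        obtain ⟨w, rfl⟩ := hy
        exact LinearMap.congr_fun hp.1.1 w))
      rw [map_add, hy0, zero_add]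
      exact map_le_pSp hk2 hk3 hp hq h hn hz
    · obtain ⟨y, hy, z, hz, rfl⟩ := Submodule.mem_sup.1 hm
      have hy0 : n y = 0 := LinearMap.mem_ker.1 (hn.2.2 (by
        obtain ⟨w, rfl⟩ := hy.1
        exact LinearMap.congr_fun hp.1.1 w))
      rw [map_add, hy0, zero_add]
      exact LinearMap.mem_ker.1 (hn.2.2 hz.2)
  refine sup_le (fun g hg => ?_) (fun g hg => ?_)
  · obtain ⟨h1, h2, h3⟩ := side ha hb hu _ (mem_E.1 hg)
    exact ⟨fun m => Submodule.mem_sup_left (h1 m), fun m hm => Submodule.mem_sup_left (h2 m hm), h3⟩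
  · obtain ⟨h1, h2, h3⟩ := side hb ha ⟨hu.2, hu.1⟩ _ (mem_E.1 hg)
    exact ⟨fun m => Submodule.mem_sup_right (h1 m),
      fun m hm => Submodule.mem_sup_right (h2 m (by rwa [sup_comm])),
      fun m hm => h3 m (by rwa [sup_comm])⟩

theorem isUnipotentOn_of_uni (hk2 : (2 : k) ≠ 0) (hk3 : Nat.card k ≠ 3) (ha : IsMin G a) (hb : IsMin G b)
    (hu : Uni a b) : IsUnipotentOn (E G ha.1.1 ⊔ E G hb.1.1) := by
  obtain ⟨K, R, h, hle⟩ := sup_le_flag hk2 hk3 ha hb hu
  exact isUnipotentOn_of_le_flag hle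

theorem uni_cj {x : LinearMap.GeneralLinearGroup k M} (h : Uni a b) : Uni (cj x a) (cj x b) :=
  ⟨by rw [← cj_mul, ← cj_mul, h.1, cj_zero], by rw [← cj_mul, ← cj_mul, h.2, cj_zero]⟩

/-- No non-trivial unipotent normal subgroup. -/
def Reduced (H : Subgroup (LinearMap.GeneralLinearGroup k M)) : Prop :=
  ∀ U : Subgroup (LinearMap.GeneralLinearGroup k M), U ≤ H → (∀ h ∈ H, conjBy U h = U) →
    IsUnipotentOn U → U = ⊥

/-- Every minimal nilpotent part has an opposite one. -/
theorem exists_opp (hk2 : (2 : k) ≠ 0) (hk3 : Nat.card k ≠ 3) (hG : Reduced G) (ha : IsMin G a) :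
    ∃ (b : Module.End k M), IsMin G b ∧ Opp a b := by
  by_contra hcon
  push Not at hcon
  set S : Set (Subgroup (LinearMap.GeneralLinearGroup k M)) :=
    {A | ∃ g ∈ G, A = conjBy (E G ha.1.1) g}
  have hU : IsUnipotentOn (⨆ A ∈ S, A) ∧ ∀ g ∈ G, conjBy (⨆ A ∈ S, A) g = ⨆ A ∈ S, A := by
    refine S5061.result (fun A hA => ?_) ?_ ?_
    · obtain ⟨g, hg, rfl⟩ := hA
      rw [conjBy_E _ hg (Lie.conj ha.1 hg).1]
      exact E_le _
    · rintro _ ⟨g, hg, rfl⟩ _ ⟨h, hh, rfl⟩
      rw [conjBy_E _ hg (Lie.conj ha.1 hg).1, conjBy_E _ hh (Lie.conj ha.1 hh).1]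
      refine isUnipotentOn_of_uni hk2 hk3 (ha.conj hg) (ha.conj hh) ?_
      have hgh : g⁻¹ * h ∈ G := mul_mem (inv_mem hg) hh
      have hu := (uni_or_opp hk2 hk3 ha (ha.conj hgh)).resolve_right fun ho => hcon _ (ha.conj hgh) ho
      have := uni_cj (x := g) hu
      rwa [cj_comp, mul_inv_cancel_left] at this
    · rintro _ ⟨g, hg, rfl⟩ h hh
      exact ⟨h * g, mul_mem hh hg, RankOne.conjBy_mul _ _ _⟩
  have hle : (⨆ A ∈ S, A) ≤ G := iSup₂_le fun A hA => by
    obtain ⟨g, hg, rfl⟩ := hA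
    rw [conjBy_E _ hg (Lie.conj ha.1 hg).1]
    exact E_le _
  have hmem : unitOf a ha.1.1 ∈ ⨆ A ∈ S, A :=
    Subgroup.mem_iSup_of_mem (E G ha.1.1) (Subgroup.mem_iSup_of_mem
      ⟨1, one_mem G, (RankOne.conjBy_one _).symm⟩ (unitOf_mem_E (self_mem_cls ha.1)))
  rw [hG _ hle hU.2 hU.1, Subgroup.mem_bot] at hmem
  apply ha.2.1
  rw [← nl_unitOf a ha.1.1, hmem, nl_eq_zero]

/-- The commutator `[p, q]` of two square-zero maps with `pqp = qpq = 0`. -/
theorem lie_comm {p q : Module.End k M} (hp : p ∈ Lie G) (hq : q ∈ Lie G) (h1 : p * q * p = 0)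
    (h2 : q * p * q = 0) : p * q - q * p ∈ Lie G := by
  have sqp : p * p = 0 := hp.1
  have sqq : q * q = 0 := hq.1
  have hsq : (p * q - q * p) * (p * q - q * p) = 0 := by
    have e : (p * q - q * p) * (p * q - q * p) =
        (p * q * p) * q - p * (q * q) * p - q * (p * p) * q + (q * p * q) * p := by noncomm_ring
    rw [e, h1, h2, sqp, sqq]; simp
  refine ⟨hsq, fun t => ?_⟩
  have hpt : (t • p) ∈ Lie G := Lie.smul hp t
  refine ⟨unitOf _ hpt.1 * unitOf q sqq * (unitOf _ hpt.1)⁻¹ * (unitOf q sqq)⁻¹,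
    mul_mem (mul_mem (mul_mem (Lie.mem hpt) (Lie.mem hq)) (inv_mem (Lie.mem hpt))) (inv_mem (Lie.mem hq)), ?_⟩
  rw [Units.val_mul, Units.val_mul, Units.val_mul, unitOf_inv, unitOf_inv, unitOf_coe, unitOf_coe]
  have e : ∀ s : Module.End k M, (1 + s) * (1 + q) * (1 - s) * (1 - q) =
      1 + (s * q - q * s) - (q * q) - (s * s) + (q * s * q) + (s * s * q) - (s * q * q) - (s * q * s) +
        (s * q * s) * q := by
    intro s; noncomm_ring
  rw [e, show (t • p) * q * (t • p) = 0 by simp [h1], show q * (t • p) * q = 0 by simp [h2],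
    show (t • p) * (t • p) = 0 from hpt.1, mul_assoc (t • p) q q, sqq]
  simp [smul_sub]

/-- Data of a unipotent pair with nonzero commutator. -/
structure Data (G : Subgroup (LinearMap.GeneralLinearGroup k M)) (a b c : Module.End k M) : Prop where
  hk2 : (2 : k) ≠ 0
  hk3 : Nat.card k ≠ 3
  ha : IsMin G a
  hb : IsMin G b
  hu : Uni a b
  hc : c = a * b - b * a
  hc0 : c ≠ 0

theorem Data.symm {c : Module.End k M} (D : Data G a b c) : Data G b a (-c) :=
  ⟨D.hk2, D.hk3, D.hb, D.ha, ⟨D.hu.2, D.hu.1⟩, by rw [D.hc, neg_sub], neg_ne_zero.2 D.hc0⟩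

variable {c : Module.End k M}

theorem Data.lie (D : Data G a b c) : c ∈ Lie G := D.hc ▸ lie_comm D.ha.1 D.hb.1 D.hu.1 D.hu.2

theorem Data.map_a_le (D : Data G a b c) : (LinearMap.range b).map a ≤ pSp a b := by
  rintro _ ⟨x, hx, rfl⟩
  exact map_le_pSp D.hk2 D.hk3 D.ha D.hb D.hu (self_mem_cls D.ha.1) hx

theorem Data.range_le (D : Data G a b c) :
    LinearMap.range c ≤ (LinearMap.range b).map a ⊔ (LinearMap.range a).map b := by
  rintro _ ⟨x, rfl⟩
  rw [D.hc, LinearMap.sub_apply, Module.End.mul_apply, Module.End.mul_apply]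
  exact sub_mem (Submodule.mem_sup_left ⟨_, ⟨x, rfl⟩, rfl⟩) (Submodule.mem_sup_right ⟨_, ⟨x, rfl⟩, rfl⟩)

theorem Data.spaces (D : Data G a b c) : IsMin G c ∧
    (LinearMap.range b).map a = pSp a b ∧ (LinearMap.range a).map b = pSp b a ∧
    Module.finrank k (pSp a b) + Module.finrank k (pSp b a) = rk a ∧
    LinearMap.range c = pSp a b ⊔ pSp b a ∧ pSp a b ⊓ pSp b a = ⊥ := by
  have h1 := finrank_map_add a (LinearMap.range b)
  have h2 := finrank_map_add b (LinearMap.range a)
  have m1 := Submodule.finrank_mono D.map_a_le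
  have m2 := Submodule.finrank_mono D.symm.map_a_le
  have hab : rk a = rk b := D.ha.rk_eq D.hb
  have hsum := Submodule.finrank_add_le_finrank_add_finrank
    ((LinearMap.range b).map a) ((LinearMap.range a).map b)
  have hlow : rk a ≤ rk c := D.ha.2.2 c D.lie D.hc0
  have hup : rk c ≤ Module.finrank k ↥((LinearMap.range b).map a ⊔ (LinearMap.range a).map b) :=
    Submodule.finrank_mono D.range_le
  simp only [rk, pSp] at *
  have e1 : (LinearMap.range b).map a = LinearMap.range a ⊓ LinearMap.ker b :=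
    Submodule.eq_of_le_of_finrank_le D.map_a_le (by omega)
  have e2 : (LinearMap.range a).map b = LinearMap.range b ⊓ LinearMap.ker a :=
    Submodule.eq_of_le_of_finrank_le D.symm.map_a_le (by omega)
  rw [e1, e2] at hup hsum
  rw [e1] at h1 m1
  rw [e2] at h2 m2
  have hr : LinearMap.range c = (LinearMap.range a ⊓ LinearMap.ker b) ⊔ (LinearMap.range b ⊓ LinearMap.ker a) :=
    Submodule.eq_of_le_of_finrank_le (e1 ▸ e2 ▸ D.range_le) (by omega)
  have hsup := Submodule.finrank_sup_add_finrank_inf_eq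
    (LinearMap.range a ⊓ LinearMap.ker b) (LinearMap.range b ⊓ LinearMap.ker a)
  refine ⟨D.ha.of_rk_le D.lie D.hc0 (by simp only [rk]; omega), e1, e2, by omega, hr,
    Submodule.finrank_eq_zero.1 (by omega)⟩

theorem Data.min (D : Data G a b c) : IsMin G c := D.spaces.1

theorem Data.ker_eq (D : Data G a b c) :
    LinearMap.ker c = (LinearMap.range a ⊔ LinearMap.ker b) ⊓ (LinearMap.range b ⊔ LinearMap.ker a) := by
  obtain ⟨-, e1, e2, -, -, hd⟩ := D.spaces
  ext x
  constructor
  · intro hx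
    rw [LinearMap.mem_ker, D.hc, LinearMap.sub_apply, sub_eq_zero, Module.End.mul_apply,
      Module.End.mul_apply] at hx
    have h0 : a (b x) = 0 := (Submodule.mem_bot k).1 (hd ▸
      ⟨e1 ▸ ⟨b x, ⟨x, rfl⟩, rfl⟩, hx ▸ (e2 ▸ ⟨a x, ⟨x, rfl⟩, rfl⟩)⟩)
    refine ⟨?_, ?_⟩
    · obtain ⟨r, hr, hre⟩ : b x ∈ (LinearMap.range a).map b :=
        e2.symm ▸ ⟨⟨x, rfl⟩, LinearMap.mem_ker.2 h0⟩
      exact Submodule.mem_sup.2 ⟨r, hr, x - r, by simp [hre], by abel⟩
    · obtain ⟨s, hs, hse⟩ : a x ∈ (LinearMap.range b).map a :=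
        e1.symm ▸ ⟨⟨x, rfl⟩, LinearMap.mem_ker.2 (hx ▸ h0)⟩
      exact Submodule.mem_sup.2 ⟨s, hs, x - s, by simp [hse], by abel⟩
  · rintro ⟨hx1, hx2⟩
    obtain ⟨r, ⟨r', rfl⟩, y, hy, rfl⟩ := Submodule.mem_sup.1 hx1
    obtain ⟨s, ⟨s', rfl⟩, z, hz, hs⟩ := Submodule.mem_sup.1 hx2
    rw [LinearMap.mem_ker] at hy hz
    have u1 : a (b (a r')) = 0 := LinearMap.congr_fun D.hu.1 r'
    have u2 : b (a (b s')) = 0 := LinearMap.congr_fun D.hu.2 s'
    rw [LinearMap.mem_ker, D.hc, LinearMap.sub_apply, Module.End.mul_apply, Module.End.mul_apply,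
      map_add b, hy, add_zero, u1, ← hs, map_add a, hz, add_zero, u2, sub_zero]

theorem Data.comm_mem (D : Data G a b c) {a' b' : Module.End k M} (ha' : a' ∈ cls G D.ha.1.1)
    (hb' : b' ∈ cls G D.hb.1.1) : a' * b' - b' * a' ∈ cls G D.min.1.1 := by
  obtain ⟨hu1, hu2⟩ := uni_of_cls D.ha D.hb D.hk2 D.hk3 D.hu ha' hb'
  refine ⟨lie_comm ha'.1 hb'.1 hu1 hu2, ?_, ?_⟩
  · rintro _ ⟨x, rfl⟩
    rw [D.spaces.2.2.2.2.1]
    exact sub_mem (Submodule.mem_sup_left (map_le_pSp D.hk2 D.hk3 D.ha D.hb D.hu ha' (hb'.2.1 ⟨x, rfl⟩)))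
      (Submodule.mem_sup_right (map_le_pSp D.hk2 D.hk3 D.hb D.ha ⟨D.hu.2, D.hu.1⟩ hb' (ha'.2.1 ⟨x, rfl⟩)))
  · rw [D.ker_eq]
    rintro x ⟨hx1, hx2⟩
    obtain ⟨r, hr, y, hy, rfl⟩ := Submodule.mem_sup.1 hx1
    obtain ⟨s, hs, z, hz, hsz⟩ := Submodule.mem_sup.1 hx2
    rw [LinearMap.mem_ker, LinearMap.sub_apply, Module.End.mul_apply, Module.End.mul_apply,
      map_add b', LinearMap.mem_ker.1 (hb'.2.2 hy), add_zero,
      cls_mul_range D.hk2 D.hk3 D.ha D.hb D.hu ha' hb' hr, ← hsz, map_add a',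
      LinearMap.mem_ker.1 (ha'.2.2 hz), add_zero,
      cls_mul_range D.hk2 D.hk3 D.hb D.ha ⟨D.hu.2, D.hu.1⟩ hb' ha' hs, sub_zero]

theorem Data.range_c_le_ker (D : Data G a b c) : LinearMap.range c ≤ LinearMap.ker a := by
  rw [D.spaces.2.2.2.2.1]
  refine sup_le ?_ inf_le_right
  rintro x ⟨⟨y, rfl⟩, -⟩
  exact LinearMap.congr_fun D.ha.1.1 y

theorem Data.range_a_le_ker (D : Data G a b c) : LinearMap.range a ≤ LinearMap.ker c := by
  rw [D.ker_eq]
  refine le_inf le_sup_left (le_trans ?_ le_sup_right)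
  rintro _ ⟨y, rfl⟩
  exact LinearMap.congr_fun D.ha.1.1 y

/-- All or no pairs of members commute. -/
theorem all_commute (hk2 : (2 : k) ≠ 0) (hk3 : Nat.card k ≠ 3) (ha : IsMin G a) (hb : IsMin G b)
    (hu : Uni a b) (h : a * b = b * a) {a' b' : Module.End k M} (ha' : a' ∈ cls G ha.1.1)
    (hb' : b' ∈ cls G hb.1.1) : a' * b' = b' * a' := by
  by_contra hne
  have ha0 : a' ≠ 0 := fun e => hne (by rw [e, mul_zero, zero_mul])
  have hb0 : b' ≠ 0 := fun e => hne (by rw [e, mul_zero, zero_mul])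
  obtain ⟨m1, r1, k1⟩ := cls_spaces ha ha' ha0
  obtain ⟨m2, r2, k2⟩ := cls_spaces hb hb' hb0
  have D : Data G a' b' (a' * b' - b' * a') :=
    ⟨hk2, hk3, m1, m2, uni_of_cls ha hb hk2 hk3 hu ha' hb', rfl, sub_ne_zero.2 hne⟩
  have hd : pSp a b ⊓ pSp b a = ⊥ := by
    have := D.spaces.2.2.2.2.2
    rwa [pSp, pSp, r1, r2, k1, k2] at this
  have hab : ∀ x, a (b x) = 0 := fun x => (Submodule.mem_bot k).1 (hd ▸
    ⟨map_le_pSp hk2 hk3 ha hb hu (self_mem_cls ha.1) ⟨x, rfl⟩, by
      rw [← Module.End.mul_apply, h]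
      exact map_le_pSp hk2 hk3 hb ha ⟨hu.2, hu.1⟩ (self_mem_cls hb.1) ⟨x, rfl⟩⟩)
  have hba : ∀ x, b (a x) = 0 := fun x => by
    rw [← Module.End.mul_apply, ← h, Module.End.mul_apply]; exact hab x
  apply hne
  refine LinearMap.ext fun x => ?_
  obtain ⟨y, hy⟩ := hb'.2.1 ⟨x, rfl⟩
  obtain ⟨z, hz⟩ := ha'.2.1 ⟨x, rfl⟩
  rw [Module.End.mul_apply, Module.End.mul_apply, ← hy, ← hz,
    LinearMap.mem_ker.1 (ha'.2.2 (LinearMap.mem_ker.2 (hab y))),
    LinearMap.mem_ker.1 (hb'.2.2 (LinearMap.mem_ker.2 (hba z)))]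

/-! ### The grading of a dual pair -/

/-- A dual of `c`. -/
structure Frame (G : Subgroup (LinearMap.GeneralLinearGroup k M)) (a b c d : Module.End k M) : Prop where
  D : Data G a b c
  dual : Dual c d
  hd : d ∈ Lie G

theorem Frame.symm {d : Module.End k M} (F : Frame G a b c d) : Frame G b a (-c) (-d) :=
  ⟨F.D.symm, ⟨by rw [neg_mul_neg]; exact F.dual.sqa, by rw [neg_mul_neg]; exact F.dual.sqb,
    by rw [neg_mul_neg, mul_neg, F.dual.aba], by rw [neg_mul_neg, mul_neg, F.dual.bab]⟩, Lie.neg F.hd⟩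

/-- The three idempotents. -/
structure Idem (e f m : Module.End k M) : Prop where
  ee : e * e = e
  ff : f * f = f
  ef : e * f = 0
  fe : f * e = 0
  hm : m = 1 - e - f

theorem Idem.em {e f m : Module.End k M} (I : Idem e f m) : e * m = 0 := by
  rw [I.hm, mul_sub, mul_sub, mul_one, I.ee, I.ef]; simp
theorem Idem.me {e f m : Module.End k M} (I : Idem e f m) : m * e = 0 := by
  rw [I.hm, sub_mul, sub_mul, one_mul, I.ee, I.fe]; simp
theorem Idem.fm {e f m : Module.End k M} (I : Idem e f m) : f * m = 0 := by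
  rw [I.hm, mul_sub, mul_sub, mul_one, I.fe, I.ff]; simp
theorem Idem.mf {e f m : Module.End k M} (I : Idem e f m) : m * f = 0 := by
  rw [I.hm, sub_mul, sub_mul, one_mul, I.ef, I.ff]; simp
theorem Idem.mm {e f m : Module.End k M} (I : Idem e f m) : m * m = m := by
  conv_lhs => arg 2; rw [I.hm]
  rw [mul_sub, mul_sub, mul_one, I.me, I.mf]; simp
theorem Idem.sum {e f m : Module.End k M} (I : Idem e f m) : e + m + f = 1 := by rw [I.hm]; abel

/-- Degree one maps. -/
def Deg1 (e f m p : Module.End k M) : Prop :=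
  ∃ x y, e * x = x ∧ x * m = x ∧ m * y = y ∧ y * f = y ∧ p = x + y

/-- Degree two maps. -/
def Deg2 (e f p : Module.End k M) : Prop := e * p = p ∧ p * f = p

theorem Deg1.mul {e f m p q : Module.End k M} (I : Idem e f m) (hp : Deg1 e f m p) (hq : Deg1 e f m q) :
    Deg2 e f (p * q) := by
  obtain ⟨x, y, x1, x2, y1, y2, rfl⟩ := hp
  obtain ⟨x', y', x'1, x'2, y'1, y'2, rfl⟩ := hq
  have a1 : x * x' = 0 := by rw [← x2, ← x'1, mul_assoc x, ← mul_assoc m, I.me, zero_mul, mul_zero]
  have a2 : y * x' = 0 := by rw [← y2, ← x'1, mul_assoc y, ← mul_assoc f, I.fe, zero_mul, mul_zero]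
  have a3 : y * y' = 0 := by rw [← y2, ← y'1, mul_assoc y, ← mul_assoc f, I.fm, zero_mul, mul_zero]
  have e' : (x + y) * (x' + y') = x * y' := by rw [add_mul, mul_add, mul_add, a1, a2, a3]; simp
  rw [e']
  exact ⟨by rw [← mul_assoc, x1], by rw [mul_assoc, y'2]⟩

theorem deg12 {e f m p q : Module.End k M} (I : Idem e f m) (hp : Deg1 e f m p) (hq : Deg2 e f q) :
    p * q = 0 ∧ q * p = 0 := by
  obtain ⟨x, y, x1, x2, y1, y2, rfl⟩ := hp
  refine ⟨?_, ?_⟩
  · rw [← hq.1, add_mul, ← mul_assoc x, ← mul_assoc y, ← x2, ← y2, mul_assoc x, mul_assoc y, I.me, I.fe]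
    simp
  · rw [← hq.2, mul_add, mul_assoc q, mul_assoc q, ← x1, ← y1, ← mul_assoc f, ← mul_assoc f, I.fe, I.fm]
    simp

theorem deg22 {e f m p q : Module.End k M} (I : Idem e f m) (hp : Deg2 e f p) (hq : Deg2 e f q) :
    p * q = 0 := by
  rw [← hp.2, ← hq.1, mul_assoc p, ← mul_assoc f, I.fe]; simp

theorem Deg1.three {e f m p q r : Module.End k M} (I : Idem e f m) (hp : Deg1 e f m p) (hq : Deg1 e f m q)
    (hr : Deg1 e f m r) : p * q * r = 0 :=
  (deg12 I hr (hp.mul I hq)).2

/-- The part of degree one. -/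
def one' (e f m p : Module.End k M) : Module.End k M := e * p * m + m * p * f

theorem deg1_one' {e f m : Module.End k M} (I : Idem e f m) (p : Module.End k M) :
    Deg1 e f m (one' e f m p) :=
  ⟨e * p * m, m * p * f, by rw [← mul_assoc, ← mul_assoc, I.ee], by rw [mul_assoc, I.mm],
    by rw [← mul_assoc, ← mul_assoc, I.mm], by rw [mul_assoc, I.ff], rfl⟩

theorem deg2_two {e f m : Module.End k M} (I : Idem e f m) (p : Module.End k M) : Deg2 e f (e * p * f) :=
  ⟨by rw [← mul_assoc, ← mul_assoc, I.ee], by rw [mul_assoc, I.ff]⟩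

section Frame

variable {d : Module.End k M} (F : Frame G a b c d)
include F

theorem Frame.idem : Idem (c * d) (d * c) (1 - c * d - d * c) :=
  ⟨by rw [← mul_assoc, F.dual.aba], by rw [← mul_assoc, F.dual.bab],
    by rw [mul_assoc, ← mul_assoc d d, F.dual.sqb]; simp,
    by rw [mul_assoc, ← mul_assoc c c, F.dual.sqa]; simp, rfl⟩

theorem Frame.a_mul_c : a * c = 0 := by
  refine LinearMap.ext fun x => LinearMap.mem_ker.1 (F.D.range_c_le_ker ⟨x, rfl⟩)

theorem Frame.c_mul_a : c * a = 0 := by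
  refine LinearMap.ext fun x => LinearMap.mem_ker.1 (F.D.range_a_le_ker ⟨x, rfl⟩)

theorem Frame.decomp :
    a = one' (c * d) (d * c) (1 - c * d - d * c) a + c * d * a * (d * c) ∧
      a * (c * d) = 0 ∧ d * c * a = 0 := by
  have hae : a * (c * d) = 0 := by rw [← mul_assoc, F.a_mul_c, zero_mul]
  have hfa : d * c * a = 0 := by rw [mul_assoc, F.c_mul_a, mul_zero]
  refine ⟨?_, hae, hfa⟩
  have h0 : (1 - c * d) * a * (1 - d * c) = 0 := by
    refine LinearMap.ext fun x => ?_
    have hx : (1 - d * c) x ∈ LinearMap.ker c := by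
      show c ((1 - d * c) x) = 0
      rw [← Module.End.mul_apply, mul_sub, mul_one, ← mul_assoc, F.dual.aba, sub_self]; rfl
    rw [F.D.ker_eq] at hx
    obtain ⟨s, hs, z, hz, he⟩ := Submodule.mem_sup.1 hx.2
    have hP : a ((1 - d * c) x) ∈ LinearMap.range c := by
      rw [← he, map_add, LinearMap.mem_ker.1 hz, add_zero, F.D.spaces.2.2.2.2.1, ← F.D.spaces.2.1]
      exact Submodule.mem_sup_left ⟨s, hs, rfl⟩
    obtain ⟨y, hy⟩ := hP
    show (1 - c * d) (a ((1 - d * c) x)) = 0
    rw [← hy, ← Module.End.mul_apply, sub_mul, one_mul, F.dual.aba, sub_self]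
    rfl
  set e := c * d
  set f := d * c
  set m := 1 - e - f with hm
  have I : Idem e f m := F.idem
  have mam : m * a * m = 0 := by
    have hme : m * (1 - e) = m := by rw [mul_sub, mul_one, I.me, sub_zero]
    have hfm : (1 - f) * m = m := by rw [sub_mul, one_mul, I.fm, sub_zero]
    calc m * a * m = m * (1 - e) * a * ((1 - f) * m) := by rw [hme, hfm]
      _ = m * ((1 - e) * a * (1 - f)) * m := by simp only [mul_assoc]
      _ = 0 := by rw [h0]; simp
  conv_lhs => rw [show a = (e + m + f) * a * (e + m + f) by rw [I.sum, one_mul, mul_one]]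
  simp only [one', add_mul, mul_add, mul_assoc _ a e, hae, hfa, mam, mul_zero, add_zero, zero_add]
  abel

/-- Weyl-torus elements of the root group of `c`. -/
theorem Frame.torus {n n' : Module.End k M} (hn : n ∈ cls G F.D.min.1.1) (hd' : Dual n n')
    (hn' : n' ∈ Lie G) (he : n * n' = c * d) (hf : n' * n = d * c) :
    ∃ g ∈ G, (g : Module.End k M) = (1 - c * d - d * c) + n * d + n' * c ∧
      ((g⁻¹ : LinearMap.GeneralLinearGroup k M) : Module.End k M) = (1 - c * d - d * c) + c * n' + d * n := by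
  set e := c * d with hedef
  set f := d * c with hfdef
  set m := 1 - e - f with hmdef
  have I : Idem e f m := F.idem
  have weyl : ∀ {p q : Module.End k M} (hp : p ∈ Lie G) (hq : q ∈ Lie G), Dual p q → p * q = e → q * p = f →
      ∃ g ∈ G, (g : Module.End k M) = m + p - q ∧
        ((g⁻¹ : LinearMap.GeneralLinearGroup k M) : Module.End k M) = m - p + q := by
    intro p q hp hq hD hpq hqp
    refine ⟨unitOf p hp.1 * (unitOf q hq.1)⁻¹ * unitOf p hp.1,
      mul_mem (mul_mem (Lie.mem hp) (inv_mem (Lie.mem hq))) (Lie.mem hp), ?_, ?_⟩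
    · rw [Units.val_mul, Units.val_mul, unitOf_inv, unitOf_coe]
      have e1 : (1 + p) * (1 - q) * (1 + p) = 1 - p * q - q * p + p - q + (p + p * p - p * q * p) := by
        noncomm_ring
      rw [e1, hD.aba, hD.sqa, hpq, hqp, hmdef]; abel
    · rw [_root_.mul_inv_rev, _root_.mul_inv_rev, inv_inv, Units.val_mul, Units.val_mul, unitOf_inv,
        unitOf_coe]
      have e1 : (1 - p) * ((1 + q) * (1 - p)) = 1 - p * q - q * p - p + q + (-p + p * p + p * q * p) := by
        noncomm_ring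
      rw [e1, hD.aba, hD.sqa, hpq, hqp, hmdef]; abel
  obtain ⟨g1, hg1, hg1e, hg1i⟩ := weyl hn.1 hn' hd' he hf
  obtain ⟨g2, hg2, hg2e, hg2i⟩ := weyl F.D.lie F.hd F.dual rfl rfl
  have cm : c * m = 0 := by
    rw [hmdef, mul_sub, mul_sub, mul_one, hedef, hfdef, ← mul_assoc, ← mul_assoc, F.dual.sqa, F.dual.aba]
    simp
  have mc : m * c = 0 := by
    rw [hmdef, sub_mul, sub_mul, one_mul, hedef, hfdef, F.dual.aba, mul_assoc, F.dual.sqa]
    simp
  have dm : d * m = 0 := by
    rw [hmdef, mul_sub, mul_sub, mul_one, hedef, hfdef, ← mul_assoc, ← mul_assoc, F.dual.sqb, F.dual.bab]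
    simp
  have md : m * d = 0 := by
    rw [hmdef, sub_mul, sub_mul, one_mul, hedef, hfdef, F.dual.bab, mul_assoc, F.dual.sqb]
    simp
  have nm : n * m = 0 := by
    rw [hmdef, mul_sub, mul_sub, mul_one, ← he, ← hf, ← mul_assoc, ← mul_assoc, hd'.sqa, hd'.aba]
    simp
  have mn : m * n = 0 := by
    rw [hmdef, sub_mul, sub_mul, one_mul, ← he, ← hf, hd'.aba, mul_assoc, hd'.sqa]
    simp
  have n'm : n' * m = 0 := by
    rw [hmdef, mul_sub, mul_sub, mul_one, ← he, ← hf, ← mul_assoc, ← mul_assoc, hd'.sqb, hd'.bab]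
    simp
  have mn' : m * n' = 0 := by
    rw [hmdef, sub_mul, sub_mul, one_mul, ← he, ← hf, hd'.bab, mul_assoc, hd'.sqb]
    simp
  have nc : n * c = 0 := by
    rw [← hd'.right_mul (a' := n) le_rfl, hf, hfdef, mul_assoc, mul_assoc, F.dual.sqa]; simp
  have cn : c * n = 0 := by
    rw [← hd'.left_mul (a' := n) le_rfl, he, hedef, ← mul_assoc, ← mul_assoc, F.dual.sqa]; simp
  have n'd : n' * d = 0 := by
    rw [← hd'.bab, mul_assoc n' n n', he, hedef, mul_assoc n' (c * d) d, mul_assoc c d d, F.dual.sqb]; simp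
  have dn' : d * n' = 0 := by
    rw [← hd'.bab, hf, hfdef, ← mul_assoc, ← mul_assoc, F.dual.sqb]; simp
  refine ⟨g1 * g2⁻¹, mul_mem hg1 (inv_mem hg2), ?_, ?_⟩
  · rw [Units.val_mul, hg1e, hg2i]
    simp only [mul_add, add_mul, mul_sub, sub_mul, mc, md, nm, n'm, nc, n'd, I.mm]
    abel
  · rw [_root_.mul_inv_rev, inv_inv, Units.val_mul, hg1i, hg2e]
    simp only [mul_add, add_mul, mul_sub, sub_mul, mn, mn', cm, dm, cn, dn', I.mm]
    abel

theorem Frame.parts :
    one' (c * d) (d * c) (1 - c * d - d * c) a ∈ Lie G ∧ c * d * a * (d * c) ∈ Lie G := by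
  obtain ⟨g, hg, hge, hgi⟩ := F.torus (n := -c) (n' := -d) (neg_mem (self_mem_cls F.D.lie))
    ⟨by rw [neg_mul_neg]; exact F.dual.sqa, by rw [neg_mul_neg]; exact F.dual.sqb,
      by rw [neg_mul_neg, mul_neg, F.dual.aba], by rw [neg_mul_neg, mul_neg, F.dual.bab]⟩
    (Lie.neg F.hd) (neg_mul_neg c d) (neg_mul_neg d c)
  obtain ⟨hdec, -, -⟩ := F.decomp
  have I := F.idem
  have hinv := Lie.conj F.D.ha.1 hg
  set e := c * d with hedef
  set f := d * c with hfdef
  set m := 1 - e - f
  rw [neg_mul c d, neg_mul d c, ← hedef, ← hfdef] at hge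
  rw [mul_neg c d, mul_neg d c, ← hedef, ← hfdef] at hgi
  set p := one' e f m a with hp
  set q := e * a * f with hq
  have dp : Deg1 e f m p := deg1_one' I a
  have dq : Deg2 e f q := deg2_two I a
  have pq := (deg12 I dp dq).1
  have qp := (deg12 I dp dq).2
  have qq : q * q = 0 := deg22 I dq dq
  have pp : p * p = 0 := by
    have h := F.D.ha.1.1
    rw [hdec, add_mul, mul_add, mul_add, pq, qp, qq] at h
    simpa using h
  have hcj : cj g a = q - p := by
    obtain ⟨x, y, x1, x2, y1, y2, he⟩ := dp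
    have c1 : (m + -e + -f) * p * (m + -e + -f) = -p := by
      rw [he, ← x1, ← x2, ← y1, ← y2]
      simp only [mul_add, add_mul, mul_neg, neg_mul, ← mul_assoc, I.me, I.mm, I.ee, I.ef, I.fe, I.fm,
        I.em, zero_mul, add_zero, zero_add, neg_zero, neg_neg]
      simp only [mul_assoc, I.me, I.mm, I.ee, I.ef, I.fe, I.fm, I.mf, I.em, I.ff, mul_zero, add_zero,
        zero_add, neg_zero, neg_neg]
      abel
    have c2 : (m + -e + -f) * q * (m + -e + -f) = q := by
      rw [← dq.1, ← dq.2]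
      simp only [mul_add, add_mul, mul_neg, neg_mul, ← mul_assoc, I.me, I.ee, I.fe, zero_mul, add_zero,
        zero_add, neg_zero, neg_neg]
      simp only [mul_assoc, I.fm, I.fe, I.ff, mul_zero, add_zero, zero_add, neg_zero, neg_neg]
    rw [cj, hge, hgi, hdec, mul_add (m + -e + -f) p q, add_mul _ _ (m + -e + -f), c1, c2]
    abel
  rw [hcj] at hinv
  have ap : a = p + q := hdec
  have e1 : a * (q - p) = 0 := by rw [ap, add_mul, mul_sub, mul_sub, pq, pp, qq, qp]; simp
  have e2 : (q - p) * a = 0 := by rw [ap, mul_add, sub_mul, sub_mul, pq, pp, qq, qp]; simp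
  refine ⟨?_, ?_⟩
  · have h := Lie.smul (Lie.add F.D.ha.1 (Lie.neg hinv) (by rw [mul_neg, e1, neg_zero])
      (by rw [neg_mul, e2, neg_zero])) (2⁻¹ : k)
    have e : (2⁻¹ : k) • (a + -(q - p)) = p := by
      rw [ap, show p + q + -(q - p) = (2 : k) • p by rw [two_smul]; abel, smul_smul,
        inv_mul_cancel₀ F.D.hk2, one_smul]
    rwa [e] at h
  · have h := Lie.smul (Lie.add F.D.ha.1 hinv e1 e2) (2⁻¹ : k)
    have e : (2⁻¹ : k) • (a + (q - p)) = q := by
      rw [ap, show p + q + (q - p) = (2 : k) • q by rw [two_smul]; abel, smul_smul,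
        inv_mul_cancel₀ F.D.hk2, one_smul]
    rwa [e] at h

theorem Frame.products :
    a * b = c * d * a * (1 - c * d - d * c) * ((1 - c * d - d * c) * b * (d * c)) ∧
    b * a = c * d * b * (1 - c * d - d * c) * ((1 - c * d - d * c) * a * (d * c)) ∧
    a * b = one' (c * d) (d * c) (1 - c * d - d * c) a * one' (c * d) (d * c) (1 - c * d - d * c) b ∧
    b * a = one' (c * d) (d * c) (1 - c * d - d * c) b * one' (c * d) (d * c) (1 - c * d - d * c) a := by
  have hdb := F.symm.decomp.1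
  simp only [neg_mul_neg] at hdb
  obtain ⟨hda, -, -⟩ := F.decomp
  have I := F.idem
  set e := c * d
  set f := d * c
  set m := 1 - e - f
  have da1 := deg1_one' I a
  have db1 := deg1_one' I b
  have da2 := deg2_two I a
  have db2 := deg2_two I b
  have e1 : a * b = one' e f m a * one' e f m b := by
    conv_lhs => rw [hda, hdb]
    rw [add_mul, mul_add, mul_add, (deg12 I da1 db2).1, (deg12 I db1 da2).2, deg22 I da2 db2]; simp
  have e2 : b * a = one' e f m b * one' e f m a := by
    conv_lhs => rw [hda, hdb]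
    rw [add_mul, mul_add, mul_add, (deg12 I db1 da2).1, (deg12 I da1 db2).2, deg22 I db2 da2]; simp
  have exp : ∀ p q : Module.End k M, one' e f m p * one' e f m q = e * p * m * (m * q * f) := by
    intro p q
    simp only [one', add_mul, mul_add, ← mul_assoc]
    rw [mul_assoc _ m e, mul_assoc _ f e, mul_assoc _ f m, I.me, I.fe, I.fm]
    simp
  exact ⟨e1.trans (exp a b), e2.trans (exp b a), e1, e2⟩

/-- The main step: homogeneous surjectivity. -/
theorem Frame.homogeneous {n : Module.End k M} (hn : n ∈ cls G F.D.min.1.1) :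
    ∃ q : Module.End k M, q ∈ Lie G ∧ Deg1 (c * d) (d * c) (1 - c * d - d * c) q ∧
      LinearMap.range q ≤ LinearMap.range (one' (c * d) (d * c) (1 - c * d - d * c) b) ∧
      LinearMap.ker (one' (c * d) (d * c) (1 - c * d - d * c) b) ≤ LinearMap.ker q ∧
      a * q - q * a = n := by
  obtain ⟨hcm, eP, eQ, hdim, hrc, hPQ⟩ := F.D.spaces
  obtain ⟨hab, hba, hab1, hba1⟩ := F.products
  have I := F.idem
  obtain ⟨hda, hae, hfa⟩ := F.decomp
  obtain ⟨ha1, ha2⟩ := F.parts
  have hb1 := F.symm.parts.1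
  have hdb := F.symm.decomp.1
  simp only [neg_mul_neg] at hb1 hdb
  set e := c * d with hedef
  set f := d * c with hfdef
  set m := 1 - e - f
  set a1 := one' e f m a with ha1def
  set b1 := one' e f m b with hb1def
  -- the projections
  set u := a * b * d with hu
  set v := -(b * a * d) with hv
  have huv : u + v = e := by rw [hu, hv, ← sub_eq_add_neg, ← sub_mul, ← F.D.hc, ← hedef]
  have hru : ∀ x, u x ∈ pSp a b := fun x => eP ▸ ⟨b (d x), ⟨_, rfl⟩, rfl⟩
  have hrv : ∀ x, v x ∈ pSp b a := fun x => by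
    rw [hv, LinearMap.neg_apply]; exact neg_mem (eQ ▸ ⟨a (d x), ⟨_, rfl⟩, rfl⟩)
  have de : d * e = d := by rw [hedef, ← mul_assoc, F.dual.bab]
  have ue : u * e = u := by rw [hu, mul_assoc, de]
  have ve : v * e = v := by rw [hv, neg_mul, mul_assoc, de]
  have efix : ∀ {x : M}, x ∈ pSp a b ⊔ pSp b a → e x = x := fun {x} hx => by
    obtain ⟨y, rfl⟩ := hrc.symm.le hx
    exact LinearMap.congr_fun F.dual.aba y
  have zero_of : ∀ {x y : M}, x ∈ pSp a b → y ∈ pSp b a → x + y = 0 → x = 0 ∧ y = 0 := by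
    intro x y hx hy h
    have hx' : x = -y := eq_neg_of_add_eq_zero_left h
    have h0 : x = 0 := (Submodule.mem_bot k).1 (hPQ ▸ ⟨hx, hx' ▸ neg_mem hy⟩)
    exact ⟨h0, by simpa [h0] using h⟩
  have hfixP : ∀ {x : M}, x ∈ pSp a b → u x = x ∧ v x = 0 := fun {x} hx => by
    have h := efix (Submodule.mem_sup_left hx)
    rw [← huv, LinearMap.add_apply] at h
    obtain ⟨h1, h2⟩ := zero_of (sub_mem (hru x) hx) (hrv x) (by rw [← sub_eq_zero] at h; rw [← h]; abel)
    exact ⟨sub_eq_zero.1 h1, h2⟩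
  have hfixQ : ∀ {x : M}, x ∈ pSp b a → v x = x ∧ u x = 0 := fun {x} hx => by
    have h := efix (Submodule.mem_sup_right hx)
    rw [← huv, LinearMap.add_apply] at h
    obtain ⟨h1, h2⟩ := zero_of (hru x) (sub_mem (hrv x) hx) (by rw [← sub_eq_zero] at h; rw [← h]; abel)
    exact ⟨sub_eq_zero.1 h2, h1⟩
  have vu : v * u = 0 := LinearMap.ext fun x => (hfixP (hru x)).2
  have uv : u * v = 0 := LinearMap.ext fun x => (hfixQ (hrv x)).2
  have uu : u * u = u := LinearMap.ext fun x => (hfixP (hru x)).1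
  have vv : v * v = v := LinearMap.ext fun x => (hfixQ (hrv x)).1
  have db1 : Deg1 e f m b1 := deg1_one' I b
  have da1 : Deg1 e f m a1 := deg1_one' I a
  have abf : a * b * f = a * b := by rw [hab]; simp only [mul_assoc, I.ff]
  have baf : b * a * f = b * a := by rw [hba]; simp only [mul_assoc, I.ff]
  have uc : u * c = a * b := by rw [hu, mul_assoc, ← hfdef, abf]
  have vc : v * c = -(b * a) := by rw [hv, neg_mul, mul_assoc, ← hfdef, baf]
  -- conjugates of `b1` under the torus
  have conj : ∀ p ∈ cls G F.D.min.1.1, p ≠ 0 → ∃ q, q ∈ Lie G ∧ Deg1 e f m q ∧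
      q = p * d * (e * b * m) + m * b * f * (d * p) ∧
      a * q - q * a = (u * (p * d) + p * d * v) * c ∧ (u * (p * d) + p * d * v) * c ∈ cls G F.D.min.1.1 := by
    intro p hp hp0
    obtain ⟨hpm, hpr, hpk⟩ := cls_spaces hcm hp hp0
    have hcd : IsMin G d := by
      refine F.D.min.of_rk_le F.hd (fun h => F.D.hc0 (by rw [← F.dual.aba, h, mul_zero, zero_mul])) ?_
      have hrr : LinearMap.range d = LinearMap.range (d * c) := by
        refine le_antisymm ?_ (LinearMap.range_comp_le_range c d)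
        rintro _ ⟨x, rfl⟩
        exact ⟨d x, LinearMap.congr_fun F.dual.bab x⟩
      calc rk d = rk (d * c) := by rw [rk, hrr]
        _ ≤ rk c := by
            show Module.finrank k (LinearMap.range (d ∘ₗ c)) ≤ _
            rw [LinearMap.range_comp]
            exact Submodule.finrank_map_le d _
    have hopp : Opp p d := by
      have h := F.dual.opp
      rw [Opp, hpr, hpk]
      exact h
    obtain ⟨p', hp', hp'0, hD⟩ := exists_dual F.D.hk2 F.D.hk3 hpm hcd hopp
    obtain ⟨-, hp'r, hp'k⟩ := cls_spaces hcd hp' hp'0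
    obtain ⟨g, hg, hge, hgi⟩ := F.torus hp hD hp'.1 (F.dual.proj_eq hD hpr hp'k)
      (F.dual.symm.proj_eq hD.symm hp'r hpk)
    have hq : cj g b1 = p * d * (e * b * m) + m * b * f * (d * p) := by
      have pe : p' * c * e = 0 := by rw [hedef, mul_assoc, ← mul_assoc c, F.dual.sqa]; simp
      have pf : p * d * f = 0 := by rw [hfdef, mul_assoc, ← mul_assoc d, F.dual.sqb]; simp
      have pm : p * d * m = 0 := by
        show p * d * (1 - e - f) = 0
        rw [mul_sub, mul_sub, mul_one, pf, mul_assoc p d e, de]; simp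
      have p'm : p' * c * m = 0 := by
        have cf : c * f = c := by rw [hfdef, ← mul_assoc, F.dual.aba]
        show p' * c * (1 - e - f) = 0
        rw [mul_sub, mul_sub, mul_one, pe, mul_assoc p' c f, cf]; simp
      have mcp : m * (c * p') = 0 := by
        rw [← mul_assoc, show m * c = 0 by
          show (1 - e - f) * c = 0
          rw [sub_mul, sub_mul, one_mul, hedef, F.dual.aba, hfdef, mul_assoc, F.dual.sqa]; simp]
        simp
      have fcp : f * (c * p') = 0 := by rw [hfdef, mul_assoc, ← mul_assoc c, F.dual.sqa]; simp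
      have mdp : m * (d * p) = 0 := by
        rw [← mul_assoc, show m * d = 0 by
          show (1 - e - f) * d = 0
          rw [sub_mul, sub_mul, one_mul, hfdef, F.dual.bab, hedef, mul_assoc, F.dual.sqb]; simp]
        simp
      rw [← hedef, ← hfdef] at hge hgi
      change (g : Module.End k M) = m + p * d + p' * c at hge
      change ((g⁻¹ : LinearMap.GeneralLinearGroup k M) : Module.End k M) = m + c * p' + d * p at hgi
      rw [cj, hge, hgi]
      simp only [hb1def, one', mul_add, add_mul, ← mul_assoc]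
      simp only [← mul_assoc, I.me, I.mm, pm, p'm, pe, zero_mul, add_zero, zero_add]
      simp only [mul_assoc, I.mm, I.fm, mcp, fcp, mdp, mul_zero, add_zero, zero_add]
    have ep : e * p = p := by rw [hedef]; exact F.dual.left_mul hpr.le
    have pf' : p * f = p := by rw [hfdef]; exact F.dual.right_mul hpk.ge
    have hq1 : Deg1 e f m (cj g b1) := by
      refine ⟨p * d * (e * b * m), m * b * f * (d * p), ?_, ?_, ?_, ?_, hq⟩
      · simp only [← mul_assoc, ep]
      · simp only [mul_assoc, I.mm]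
      · simp only [← mul_assoc, I.mm]
      · simp only [mul_assoc, pf']
    have hql := Lie.conj hb1 hg
    refine ⟨cj g b1, hql, hq1, hq, ?_⟩
    have hcomm : a * cj g b1 - cj g b1 * a = a1 * cj g b1 - cj g b1 * a1 := by
      conv_lhs => rw [hda]
      rw [add_mul, mul_add, (deg12 I hq1 (deg2_two I a)).1, (deg12 I hq1 (deg2_two I a)).2]
      simp [ha1def]
    have pc : p * d * c = p := by rw [mul_assoc, ← hfdef, pf']
    have k1 : a1 * cj g b1 = u * (p * d) * c := by
      rw [mul_assoc u, pc, hu, mul_assoc (a * b), hab, hq, ha1def]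
      simp only [one', add_mul, mul_add, ← mul_assoc]
      have x1 : ∀ w : Module.End k M, w * m * p = 0 := fun w => by
        rw [mul_assoc w, ← ep, ← mul_assoc m, I.me]; simp
      have x2 : ∀ w : Module.End k M, w * f * p = 0 := fun w => by
        rw [mul_assoc w, ← ep, ← mul_assoc f, I.fe]; simp
      have x3 : ∀ w : Module.End k M, w * f * m = 0 := fun w => by rw [mul_assoc, I.fm, mul_zero]
      have fd : ∀ w : Module.End k M, w * f * d = w * d := fun w => by
        rw [mul_assoc, hfdef, F.dual.bab]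
      simp only [x1, x2, x3, fd, zero_mul, add_zero, zero_add]
    have k2 : cj g b1 * a1 = -(p * d * v * c) := by
      rw [mul_assoc _ v c, vc, mul_neg, neg_neg, hba, hq, ha1def]
      simp only [one', add_mul, mul_add, ← mul_assoc]
      have x1 : ∀ w : Module.End k M, w * m * e = 0 := fun w => by rw [mul_assoc, I.me, mul_zero]
      have x2 : ∀ w : Module.End k M, w * p * e = 0 := fun w => by
        rw [mul_assoc, ← pf', mul_assoc p, I.fe]; simp
      have x3 : ∀ w : Module.End k M, w * p * m = 0 := fun w => by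
        rw [mul_assoc, ← pf', mul_assoc p, I.fm]; simp
      simp only [x1, x2, x3, zero_mul, add_zero, zero_add]
    have hval : a * cj g b1 - cj g b1 * a = (u * (p * d) + p * d * v) * c := by
      rw [hcomm, k1, k2, sub_neg_eq_add, ← add_mul]
    refine ⟨hval, ?_⟩
    rw [← hval]
    refine ⟨?_, ?_, ?_⟩
    · rw [hcomm]
      exact lie_comm ha1 hql (da1.three I hq1 da1) (hq1.three I da1 hq1)
    · rw [hval]
      rintro _ ⟨y, rfl⟩
      rw [hrc]
      rw [Module.End.mul_apply, LinearMap.add_apply, Module.End.mul_apply, Module.End.mul_apply]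
      refine add_mem (Submodule.mem_sup_left (hru _)) ?_
      rw [← hrc]
      exact hp.2.1 ⟨_, rfl⟩
    · rw [hval]
      intro y hy
      rw [LinearMap.mem_ker, Module.End.mul_apply, LinearMap.mem_ker.1 hy, map_zero]
  rcases eq_or_ne n 0 with rfl | hn0
  · exact ⟨0, lie_zero, ⟨0, 0, by simp, by simp, by simp, by simp, by simp⟩, by simp, by simp, by simp⟩
  obtain ⟨q, hq, hq1, hqe, hqv, hqm⟩ := conj n hn hn0
  have xe : n * d * e = n * d := by rw [mul_assoc, de]
  have en : e * n = n := by rw [hedef]; exact F.dual.left_mul hn.2.1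
  have ex : e * (n * d) = n * d := by rw [← mul_assoc, en]
  have nf : n * f = n := by rw [hfdef]; exact F.dual.right_mul hn.2.2
  have xc : n * d * c = n := by rw [mul_assoc, ← hfdef, nf]
  set x := n * d with hxdef
  have hx4 : x = u * x * u + u * x * v + v * x * u + v * x * v := by
    calc x = (u + v) * x * (u + v) := by rw [huv, ex, xe]
      _ = _ := by noncomm_ring
  have diff : n - (u * x + x * v) * c = (v * x * u - u * x * v) * c := by
    conv_lhs => rw [← xc, ← sub_mul]
    congr 1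
    have h1 : u * x = u * x * u + u * x * v := by rw [← mul_add, huv, mul_assoc u x e, xe]
    have h2 : x * v = u * x * v + v * x * v := by
      rw [← add_mul, ← add_mul, huv, ex]
    rw [h2]
    conv_lhs => arg 2; arg 1; rw [h1]
    conv_lhs => arg 1; rw [hx4]
    abel
  have hdiff : (v * x * u - u * x * v) * c ∈ cls G F.D.min.1.1 := diff ▸ sub_mem hn hqm
  have key : (u * x * v) * c ∈ cls G F.D.min.1.1 ∧ (v * x * u) * c ∈ cls G F.D.min.1.1 := by
    rcases eq_or_ne ((v * x * u - u * x * v) * c) 0 with h0 | h0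
    · have h2 := congrArg (fun w => u * w) h0
      simp only [← mul_assoc, mul_sub, sub_mul, mul_zero, uv, uu, zero_mul, zero_sub, neg_eq_zero] at h2
      have h1 := h0
      rw [sub_mul, h2, sub_zero] at h1
      rw [h2, h1]
      exact ⟨zero_mem _, zero_mem _⟩
    obtain ⟨-, -, -, -, -, hm2⟩ := conj _ hdiff h0
    have e2 : (v * x * u - u * x * v) * c * d = v * x * u - u * x * v := by
      rw [mul_assoc _ c d, ← hedef, sub_mul, mul_assoc _ u e, ue, mul_assoc _ v e, ve]
    rw [e2] at hm2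
    have e3 : u * (v * x * u - u * x * v) + (v * x * u - u * x * v) * v = -((2 : k) • (u * x * v)) := by
      simp only [mul_sub, sub_mul, ← mul_assoc, uv, uu, zero_mul]
      simp only [mul_assoc, uv, vv, mul_zero]
      rw [two_smul]; abel
    rw [e3, neg_mul, smul_mul_assoc] at hm2
    have h := Submodule.smul_mem _ (-(2⁻¹) : k) hm2
    rw [smul_neg, neg_smul, neg_neg, smul_smul, inv_mul_cancel₀ F.D.hk2, one_smul] at h
    refine ⟨h, ?_⟩
    have := add_mem hdiff h
    rwa [← add_mul, sub_add_cancel] at this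
  have zero_side : ∀ {w : Module.End k M}, w * c ∈ cls G F.D.min.1.1 → ∀ {S T : Submodule k M},
      (∀ y, w y ∈ S) → S ⊓ T = ⊥ → LinearMap.range c = S ⊔ T → w * c = 0 ∨ T = ⊥ := by
    intro w hw S T hS hd hr
    refine or_iff_not_imp_left.2 fun h0 => ?_
    obtain ⟨-, hwr, -⟩ := cls_spaces hcm hw h0
    have hle : LinearMap.range c ≤ S := hwr ▸ (by rintro _ ⟨y, rfl⟩; exact hS _)
    rw [hr] at hle
    exact le_bot_iff.1 (hd ▸ le_inf (le_sup_right.trans hle) le_rfl)
  have hz1 : u * x * v = 0 := by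
    have h : u * x * v * c = 0 := by
      refine (zero_side key.1 (fun y => hru _) hPQ hrc).elim id fun hT => ?_
      have : v = 0 := LinearMap.ext fun y => (Submodule.mem_bot k).1 (hT ▸ hrv y)
      rw [this]; simp
    have := congrArg (· * d) h
    simpa [mul_assoc, ← hedef, ve] using this
  have hz2 : v * x * u = 0 := by
    have h : v * x * u * c = 0 := by
      refine (zero_side key.2 (fun y => hrv _) (inf_comm (pSp a b) _ ▸ hPQ) (hrc.trans (sup_comm _ _))).elim
        id fun hT => ?_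
      have : u = 0 := LinearMap.ext fun y => (Submodule.mem_bot k).1 (hT ▸ hru y)
      rw [this]; simp
    have := congrArg (· * d) h
    simpa [mul_assoc, ← hedef, ue] using this
  have hval : (u * x + x * v) * c = n := by
    have := diff
    rw [hz1, hz2, sub_zero, zero_mul, sub_eq_zero] at this
    exact this.symm
  rw [hval] at hqv
  have hux : u * x = x * u := by
    have h1 : u * x = u * x * u := by
      conv_lhs => rw [← xe, ← huv]
      rw [← mul_assoc, mul_add, hz1, add_zero]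
    have h2 : x * u = u * x * u := by
      conv_lhs => rw [← ex, ← huv]
      rw [add_mul, add_mul, hz2, add_zero]
    rw [h1, h2]
  refine ⟨q, hq, hq1, ?_, ?_, hqv⟩
  · -- range
    have b1m : b1 * m = e * b * m := by
      rw [hb1def, one', add_mul, mul_assoc _ m m, I.mm, mul_assoc _ f m, I.fm]; simp
    have b1f : b1 * f = m * b * f := by
      rw [hb1def, one', add_mul, mul_assoc _ m f, I.mf, mul_assoc _ f f, I.ff]; simp
    rintro _ ⟨y, rfl⟩
    rw [hqe, LinearMap.add_apply]
    refine add_mem ?_ ?_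
    · -- the component in `Q`
      have hQmem : (e * b * m) y ∈ pSp b a := by
        show e (b (m y)) ∈ _
        have hmy : m y ∈ LinearMap.ker c := by
          show c (m y) = 0
          rw [← Module.End.mul_apply, show c * m = 0 by
            show c * (1 - e - f) = 0
            rw [mul_sub, mul_sub, mul_one, hedef, ← mul_assoc, F.dual.sqa, hfdef, ← mul_assoc,
              F.dual.aba]; simp]
          rfl
        rw [F.D.ker_eq] at hmy
        obtain ⟨r, hr, z, hz, hrz⟩ := Submodule.mem_sup.1 hmy.1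
        have hbm : b (m y) ∈ pSp b a := by
          rw [← hrz, map_add, LinearMap.mem_ker.1 hz, add_zero, ← eQ]
          exact ⟨r, hr, rfl⟩
        rwa [efix (Submodule.mem_sup_right hbm)]
      have hxq : x ((e * b * m) y) ∈ pSp b a := by
        have h1 := (hfixQ hQmem).1
        rw [← h1]
        have h2 : x * v = v * x * v := by
          conv_lhs => rw [← ex, ← huv]
          rw [add_mul, add_mul, hz1, zero_add]
        rw [← Module.End.mul_apply x v, h2]
        exact hrv _
      rw [← eQ] at hxq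
      obtain ⟨_, ⟨y', rfl⟩, hy'⟩ := hxq
      refine ⟨m ((m * a * f) y'), ?_⟩
      show b1 (m ((m * a * f) y')) = x ((e * b * m) y)
      rw [← Module.End.mul_apply b1 m, b1m, ← hy', ← Module.End.mul_apply, ← hba]
      rfl
    · rw [Module.End.mul_apply, ← b1f]
      exact ⟨f _, rfl⟩
  · -- kernel
    intro y hy
    rw [LinearMap.mem_ker] at hy
    have hb1' : b1 = e * b * m + m * b * f := rfl
    have q1 : (e * b * m) y = 0 := by
      have := congrArg e hy
      have w1 : e * (e * b * m) = e * b * m := by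
        simp only [← mul_assoc, I.ee, zero_mul]
      have w2 : e * (m * b * f) = 0 := by
        simp only [← mul_assoc, I.em, zero_mul]
      rw [map_zero, hb1', LinearMap.add_apply, map_add, ← Module.End.mul_apply e,
        ← Module.End.mul_apply e, w1, w2, LinearMap.zero_apply, add_zero] at this
      exact this
    have q2 : (m * b * f) y = 0 := by
      have := congrArg m hy
      have w1 : m * (e * b * m) = 0 := by
        simp only [← mul_assoc, I.me, zero_mul]
      have w2 : m * (m * b * f) = m * b * f := by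
        simp only [← mul_assoc, I.mm, zero_mul]
      rw [map_zero, hb1', LinearMap.add_apply, map_add, ← Module.End.mul_apply m,
        ← Module.End.mul_apply m, w1, w2, LinearMap.zero_apply, zero_add] at this
      exact this
    rw [LinearMap.mem_ker, hqe, LinearMap.add_apply, Module.End.mul_apply, q1, map_zero, zero_add]
    -- `ker (m b f) = ker (a b)`
    have hker : LinearMap.ker (m * b * f) = LinearMap.ker (a * b) := by
      have hle : LinearMap.ker (m * b * f) ≤ LinearMap.ker (a * b) := fun z hz => by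
        rw [LinearMap.mem_ker, hab, Module.End.mul_apply, LinearMap.mem_ker.1 hz, map_zero]
      refine Submodule.eq_of_le_of_finrank_le hle ?_
      have h1 := LinearMap.finrank_range_add_finrank_ker (m * b * f)
      have h2 := LinearMap.finrank_range_add_finrank_ker (a * b)
      have h3 : Module.finrank k (LinearMap.range (m * b * f)) ≤ Module.finrank k (pSp a b) := by
        have hr1 : LinearMap.range (m * b * f) ≤ (LinearMap.range b).map m := by
          rintro _ ⟨z, rfl⟩; exact ⟨b (f z), ⟨_, rfl⟩, rfl⟩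
        have hm1 := finrank_map_add m (LinearMap.range b)
        have hQm : pSp b a ≤ LinearMap.range b ⊓ LinearMap.ker m := fun z hz => ⟨hz.1, by
          show m z = 0
          rw [← efix (Submodule.mem_sup_right hz), ← Module.End.mul_apply, I.me]; rfl⟩
        have := Submodule.finrank_mono hr1
        have := Submodule.finrank_mono hQm
        have hab' : rk a = rk b := F.D.ha.rk_eq F.D.hb
        simp only [rk] at hdim hab'
        omega
      have h4 : LinearMap.range (a * b) = pSp a b := by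
        rw [← eP]; exact LinearMap.range_comp b a
      rw [h4] at h2
      omega
    have hy' : (d * n) y ∈ LinearMap.ker (m * b * f) := by
      have heq : a * b * (d * n) = x * (e * a * m) * (m * b * f) := by
        calc a * b * (d * n) = u * (x * c) := by rw [xc, hu]; simp only [mul_assoc]
          _ = x * u * c := by rw [← mul_assoc u x c, hux]
          _ = x * (a * b) := by rw [mul_assoc x u c, uc]
          _ = _ := by rw [hab]; simp only [mul_assoc]
      rw [hker, LinearMap.mem_ker, ← Module.End.mul_apply, heq, Module.End.mul_apply, q2, map_zero]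
    exact LinearMap.mem_ker.1 hy'

end Frame

/-- For a fixed `a` every member of the class of `c` is a commutator with a member of the class of `b`. -/
theorem surjective (hG : Reduced G) (D : Data G a b c) {n : Module.End k M}
    (hn : n ∈ cls G D.min.1.1) : ∃ b' ∈ cls G D.hb.1.1, a * b' - b' * a = n := by
  obtain ⟨d₀, hd₀, hopp⟩ := exists_opp D.hk2 D.hk3 hG D.min
  obtain ⟨d, hd, -, hdual⟩ := exists_dual D.hk2 D.hk3 D.min hd₀ hopp
  have F : Frame G a b c d := ⟨D, hdual, hd.1⟩
  obtain ⟨q, hq, hq1, hqr, hqk, hqv⟩ := F.homogeneous hn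
  obtain ⟨hdb, hbe, hfb⟩ := F.symm.decomp
  have hb2 := F.symm.parts.2
  have hneg : ∀ {p : Module.End k M}, p ∈ cls G F.D.min.1.1 → p ∈ cls G F.symm.D.min.1.1 := fun {p} hp =>
    ⟨hp.1, by rw [LinearMap.range_neg]; exact hp.2.1, by rw [LinearMap.ker_neg]; exact hp.2.2⟩
  have hb2c : c * d * b * (d * c) ∈ cls G F.D.min.1.1 := by
    refine ⟨by simpa only [neg_mul_neg] using hb2, ?_, ?_⟩
    · rintro _ ⟨y, rfl⟩; exact ⟨_, rfl⟩
    · intro y hy
      show (c * d * b) (d (c y)) = 0
      rw [LinearMap.mem_ker.1 hy, map_zero, map_zero]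
  obtain ⟨ν, hν, hν1, -, -, hνv⟩ := F.symm.homogeneous (hneg (neg_mem hb2c))
  simp only [neg_mul_neg] at hdb hbe hfb hν1
  have I := F.idem
  obtain ⟨hda, hae, hfa⟩ := F.decomp
  set e := c * d
  set f := d * c
  set m := 1 - e - f
  set b1 := one' e f m b with hb1
  set b2 := e * b * f with hb2def
  have db1 : Deg1 e f m b1 := deg1_one' I b
  have db2 : Deg2 e f b2 := deg2_two I b
  have hνb : ν * b1 - b1 * ν = b2 := by
    rw [hdb, add_mul, mul_add, (deg12 I hν1 db2).1, (deg12 I hν1 db2).2, add_zero, add_zero] at hνv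
    rw [← neg_sub, hνv, neg_neg]
  set h := unitOf ν hν.1
  have hcj : ∀ p, Deg1 e f m p → cj h p = p + (ν * p - p * ν) := by
    intro p hp
    rw [cj, unitOf_inv, unitOf_coe]
    have e3 : (1 + ν) * p * (1 - ν) = p + (ν * p - p * ν) - ν * p * ν := by noncomm_ring
    rw [e3, hν1.three I hp hν1, sub_zero]
  have hb : cj h b1 = b := by rw [hcj b1 db1, hνb]; exact hdb.symm
  refine ⟨cj h q, ⟨Lie.conj hq (Lie.mem hν), ?_, ?_⟩, ?_⟩
  · rw [range_cj, ← hb, range_cj]; exact Submodule.map_mono hqr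
  · rw [ker_cj, ← hb, ker_cj]; exact Submodule.comap_mono hqk
  · rw [hcj q hq1]
    have w : ν * q - q * ν ∈ Submodule.span k ({w | Deg2 e f w} : Set (Module.End k M)) :=
      Submodule.sub_mem _ (Submodule.subset_span (hν1.mul I hq1)) (Submodule.subset_span (hq1.mul I hν1))
    have hz : ∀ z ∈ Submodule.span k ({w | Deg2 e f w} : Set (Module.End k M)), a * z = 0 ∧ z * a = 0 := by
      intro z hz
      induction hz using Submodule.span_induction with
      | mem z hz =>
        exact ⟨by rw [← hz.1, ← mul_assoc, hae, zero_mul], by rw [← hz.2, mul_assoc, hfa, mul_zero]⟩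
      | zero => simp
      | add p r _ _ hp hr => exact ⟨by rw [mul_add, hp.1, hr.1, add_zero], by rw [add_mul, hp.2, hr.2, add_zero]⟩
      | smul t p _ hp => exact ⟨by rw [mul_smul_comm, hp.1, smul_zero], by rw [smul_mul_assoc, hp.2, smul_zero]⟩
    rw [mul_add, add_mul, (hz _ w).1, (hz _ w).2, add_zero, add_zero, hqv]

end Cfsg.Agent.QuadPairUnipotent
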