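import Mathlib
import Cfsg.Agent.Lib.QuadPairUnipotent
import Cfsg.Agent.Lib.QuadraticThree

/-!
All duals of a minimal square-zero map `a` are conjugate under one unipotent group, the elements of
`G` centralizing `a` and the flag `range a ≤ ker a`.
-/

set_option autoImplicit false
set_option linter.unusedSectionVars false

namespace Cfsg.Agent.QuadPairDualOrbit20

open Cfsg Cfsg.Agent.QuadPairTheory
open scoped MatrixGroups

variable {k : Type*} [Field k] {M : Type*} [AddCommGroup M] [Module k M]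
  {G : Subgroup (LinearMap.GeneralLinearGroup k M)}

local notation "Aut" => LinearMap.GeneralLinearGroup k M

section dual

variable {a b : Module.End k M}

/-- The support of a dual pair. -/
def supp (a b : Module.End k M) : Module.End k M := a * b + b * a

theorem dual_cj (h : Dual a b) (x : Aut) : Dual (cj x a) (cj x b) :=
  ⟨by rw [← cj_mul, h.sqa, cj_zero], by rw [← cj_mul, h.sqb, cj_zero],
    by rw [← cj_mul, ← cj_mul, h.aba], by rw [← cj_mul, ← cj_mul, h.bab]⟩

/-- Facts about members of the class of `b` relative to a dual `a`. -/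
theorem cls_right (h : Dual a b) {n : Module.End k M} (hn : n ∈ cls G h.sqb) :
    b * n = 0 ∧ n * b = 0 ∧ b * a * n = n ∧ n * a * b = n := by
  refine ⟨LinearMap.ext fun x => ?_, LinearMap.ext fun x => ?_, LinearMap.ext fun x => ?_,
    LinearMap.ext fun x => ?_⟩
  · obtain ⟨y, hy⟩ := hn.2.1 ⟨x, rfl⟩
    rw [Module.End.mul_apply, ← hy]
    exact LinearMap.congr_fun h.sqb y
  · exact LinearMap.mem_ker.1 (hn.2.2 (LinearMap.mem_ker.2 (LinearMap.congr_fun h.sqb x)))
  · obtain ⟨y, hy⟩ := hn.2.1 ⟨x, rfl⟩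
    rw [Module.End.mul_apply, ← hy]
    exact LinearMap.congr_fun h.bab y
  · have hk : x - a (b x) ∈ LinearMap.ker b := by
      rw [LinearMap.mem_ker, map_sub, sub_eq_zero]
      exact (LinearMap.congr_fun h.bab x).symm
    have := LinearMap.mem_ker.1 (hn.2.2 hk)
    rw [map_sub, sub_eq_zero] at this
    exact this.symm

/-- The representation of `SL(2)` attached to a dual pair, as endomorphisms. -/
def mat (a b : Module.End k M) (g : Matrix (Fin 2) (Fin 2) k) : Module.End k M :=
  1 - supp a b + g 0 0 • (a * b) + g 0 1 • a + g 1 0 • b + g 1 1 • (b * a)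

theorem mat_one : mat a b (1 : Matrix (Fin 2) (Fin 2) k) = 1 := by
  simp [mat, supp]
  abel

theorem supp_mul (h : Dual a b) : supp a b * a = a ∧ a * supp a b = a ∧ supp a b * b = b ∧
    b * supp a b = b := by
  refine ⟨?_, ?_, ?_, ?_⟩
  · rw [supp, add_mul, mul_assoc b a a, h.sqa, mul_zero, add_zero, h.aba]
  · rw [supp, mul_add, ← mul_assoc, h.sqa, zero_mul, zero_add, ← mul_assoc, h.aba]
  · rw [supp, add_mul, mul_assoc a b b, h.sqb, mul_zero, zero_add, h.bab]
  · rw [supp, mul_add, ← mul_assoc, ← mul_assoc, h.bab, h.sqb, zero_mul, add_zero]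

theorem supp_sq (h : Dual a b) : supp a b * supp a b = supp a b := by
  obtain ⟨h1, -, h3, -⟩ := supp_mul h
  conv_lhs => arg 2; rw [supp]
  rw [mul_add, ← mul_assoc, ← mul_assoc, h1, h3]
  rfl

theorem mat_mul (h : Dual a b) (g g' : Matrix (Fin 2) (Fin 2) k) :
    mat a b (g * g') = mat a b g * mat a b g' := by
  obtain ⟨h1, h2, h3, h4⟩ := supp_mul h
  have hP := supp_sq h
  have a1 : a * a = 0 := h.sqa
  have b1 : b * b = 0 := h.sqb
  have aba : a * (b * a) = a := by rw [← mul_assoc]; exact h.aba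
  have bab : b * (a * b) = b := by rw [← mul_assoc]; exact h.bab
  have aab : a * (a * b) = 0 := by rw [← mul_assoc, a1, zero_mul]
  have bba : b * (b * a) = 0 := by rw [← mul_assoc, b1, zero_mul]
  have p1 : supp a b * (a * b) = a * b := by rw [← mul_assoc, h1]
  have p2 : supp a b * (b * a) = b * a := by rw [← mul_assoc, h3]
  have p3 : (a * b) * supp a b = a * b := by rw [mul_assoc, h4]
  have p4 : (b * a) * supp a b = b * a := by rw [mul_assoc, h2]
  simp only [mat, Matrix.mul_apply, Fin.sum_univ_two, sub_mul, mul_sub, add_mul, mul_add, one_mul,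
    mul_one, smul_mul_assoc, mul_smul_comm, smul_add, smul_sub, smul_smul, h1, h2, h3, h4, hP, p1,
    p2, p3, p4, a1, b1, aab, bba, aba, bab, mul_assoc, mul_zero, smul_zero, add_smul]
  module

/-- The homomorphism from `SL(2, k)` attached to a dual pair. -/
def rep (h : Dual a b) : SL(2, k) →* Aut :=
  MonoidHom.toHomUnits
    { toFun := fun g => mat a b g.1
      map_one' := mat_one
      map_mul' := fun g g' => mat_mul h g.1 g'.1 }

theorem rep_coe (h : Dual a b) (g : SL(2, k)) : (rep h g : Module.End k M) = mat a b g.1 := rfl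

theorem rep_mem (h : Dual a b) (ha : a ∈ Lie G) (hb : b ∈ Lie G) (g : SL(2, k)) : rep h g ∈ G := by
  suffices hL : G.comap (rep h) = ⊤ by
    have : g ∈ G.comap (rep h) := hL ▸ Subgroup.mem_top g
    exact this
  have hU : ∀ t : k, (⟨!![1, t; 0, 1], by simp [Matrix.det_fin_two]⟩ : SL(2, k)) ∈ G.comap (rep h) := by
    intro t
    obtain ⟨x, hx, he⟩ := ha.2 t
    show rep h _ ∈ G
    convert hx using 1
    apply Units.ext
    rw [he]
    show mat a b !![1, t; 0, 1] = _
    simp [mat, supp]
    abel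
  have hV : ∀ t : k, (⟨!![1, 0; t, 1], by simp [Matrix.det_fin_two]⟩ : SL(2, k)) ∈ G.comap (rep h) := by
    intro t
    obtain ⟨x, hx, he⟩ := hb.2 t
    show rep h _ ∈ G
    convert hx using 1
    apply Units.ext
    rw [he]
    show mat a b !![1, 0; t, 1] = _
    simp [mat, supp]
    abel
  refine QuadraticThree.sl2_top _ (fun t => ⟨_, hU t, rfl⟩) ⟨_, mul_mem (mul_mem (hU (-1)) (hV 1)) (hU (-1)), ?_⟩
  show !![1, (-1 : k); 0, 1] * !![1, 0; 1, 1] * !![1, -1; 0, 1] = _
  simp

/-- The Weyl element of a dual pair. -/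
def weyl (h : Dual a b) : Aut :=
  rep h ⟨!![0, 1; -1, 0], by simp [Matrix.det_fin_two]⟩

theorem weyl_inv_coe (h : Dual a b) :
    (((weyl h)⁻¹ : Aut) : Module.End k M) = mat a b !![0, -1; 1, 0] := by
  refine Units.inv_eq_of_mul_eq_one_right ?_
  show mat a b !![0, 1; -1, 0] * _ = 1
  rw [← mat_mul h]
  simp [← Matrix.one_fin_two, mat_one]

/-- The Weyl element on the class of `b`. -/
theorem cj_weyl (h : Dual a b) {n : Module.End k M} (hn : n ∈ cls G h.sqb) :
    cj (weyl h) n = -(a * n * a) := by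
  obtain ⟨q1, q2, q3, q4⟩ := cls_right h hn
  obtain ⟨h1, h2, h3, h4⟩ := supp_mul h
  have s1 : supp a b * n = n := by rw [← q3, ← mul_assoc, ← mul_assoc, h3]
  have s2 : n * supp a b = n := by rw [← q4, mul_assoc, h4]
  rw [cj, weyl_inv_coe]
  show mat a b !![0, 1; -1, 0] * n * mat a b !![0, -1; 1, 0] = _
  have eL : mat a b !![0, 1; -1, 0] = 1 - supp a b + a - b := by
    simp [mat, sub_eq_add_neg]
  have eR : mat a b !![0, -1; 1, 0] = 1 - supp a b - a + b := by
    simp [mat, sub_eq_add_neg]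
  rw [eL, eR, sub_mul _ b, add_mul _ a, sub_mul (1 : Module.End k M), one_mul, s1, sub_self, zero_add, q1, sub_zero,
    mul_add, mul_sub, mul_sub, mul_one, mul_assoc a n (supp a b), s2, sub_self, zero_sub,
    mul_assoc a n b, q2, mul_zero, add_zero]

theorem weyl_mem (h : Dual a b) (ha : a ∈ Lie G) (hb : b ∈ Lie G) : weyl h ∈ G := rep_mem h ha hb _

end dual

variable [FiniteDimensional k M] {a b : Module.End k M}

/-- `a n a` stays in the class of `a`, for `n` in the class of a dual. -/
theorem sandwich_mem (h : Dual a b) (ha : IsMin G a) (hb : IsMin G b) {n : Module.End k M}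
    (hn : n ∈ cls G hb.1.1) : a * n * a ∈ cls G ha.1.1 := by
  refine ⟨?_, ?_, fun x hx => ?_⟩
  · have := Lie.conj hn.1 (weyl_mem h ha.1 hb.1)
    rw [cj_weyl h hn] at this
    simpa using Lie.neg this
  · rintro _ ⟨x, rfl⟩
    exact ⟨n (a x), rfl⟩
  · rw [LinearMap.mem_ker, Module.End.mul_apply, LinearMap.mem_ker.1 hx, map_zero]

theorem mem_cls_self (ha : IsMin G a) : a ∈ cls G ha.1.1 := self_mem_cls ha.1

/-- `b b' b` is in the class of `b` for any minimal `b'`. -/
theorem triple_mem (hk2 : (2 : k) ≠ 0) (hk3 : Nat.card k ≠ 3) (h : Dual a b) (ha : IsMin G a)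
    (hb : IsMin G b) {b' : Module.End k M} (hb' : IsMin G b') : b * b' * b ∈ cls G hb.1.1 := by
  rcases uni_or_opp hk2 hk3 hb hb' with hu | ho
  · rw [hu.1]; exact zero_mem _
  obtain ⟨b₀, hb₀, hne, hd⟩ := exists_dual hk2 hk3 hb' hb ⟨ho.2, ho.1⟩
  obtain ⟨-, -, q3, q4⟩ := cls_right h hb₀
  set a₁ := a * b₀ * a with ha₁
  have ha₁m : a₁ ∈ cls G ha.1.1 := sandwich_mem h ha hb hb₀
  have hb1a : b * a₁ * b = b₀ := by
    rw [ha₁, show b * (a * b₀ * a) * b = (b * a * b₀) * a * b by noncomm_ring, q3, q4]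
  have ha₁0 : a₁ ≠ 0 := fun e => hne (by rw [← hb1a, e, mul_zero, zero_mul])
  obtain ⟨d, hd', hd0, hdd⟩ := exists_dual hk2 hk3 (cls_spaces ha ha₁m ha₁0).1 hb
    (opp_of_cls ha hb h.opp ha₁m ha₁0 (self_mem_cls hb.1) hb.2.1)
  suffices hcd : b * b' * b = d by rw [hcd]; exact hd'
  set δ := b * b' * b - d with hδ
  obtain ⟨-, -, d3, d4⟩ := cls_right h hd'
  have δ3 : b * a * δ = δ := by
    rw [hδ, mul_sub, d3, ← mul_assoc, ← mul_assoc, h.bab]
  have δ4 : δ * a * b = δ := by
    rw [hδ, sub_mul, sub_mul, d4, mul_assoc (b * b'), mul_assoc (b * b'), h.bab]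
  have hz : a₁ * δ * a₁ = 0 := by
    rw [hδ, mul_sub, sub_mul, hdd.aba, sub_eq_zero, ha₁,
      show a * b₀ * a * (b * b' * b) * (a * b₀ * a) =
        a * (b₀ * a * b) * b' * (b * a * b₀) * a by noncomm_ring, q3, q4,
      show a * b₀ * b' * b₀ * a = a * (b₀ * b' * b₀) * a by noncomm_ring, hd.bab]
  have hker : LinearMap.range d = LinearMap.range b ∧ LinearMap.ker d = LinearMap.ker b :=
    ⟨(cls_spaces hb hd' hd0).2.1, (cls_spaces hb hd' hd0).2.2⟩
  have e1 : d * a₁ * δ = δ := by
    have : d * a₁ * b = b := LinearMap.ext fun x => by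
      obtain ⟨y, hy⟩ : b x ∈ LinearMap.range d := hker.1 ▸ ⟨x, rfl⟩
      rw [Module.End.mul_apply, ← hy]
      exact LinearMap.congr_fun hdd.bab y
    conv_lhs => rw [← δ3, show d * a₁ * (b * a * δ) = (d * a₁ * b) * a * δ by noncomm_ring, this]
    exact δ3
  have e2 : δ * a₁ * d = δ := by
    have : b * a₁ * d = b := LinearMap.ext fun x => by
      have hk : a₁ (d x) - x ∈ LinearMap.ker d := by
        rw [LinearMap.mem_ker, map_sub, sub_eq_zero]
        exact LinearMap.congr_fun hdd.bab x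
      rw [hker.2, LinearMap.mem_ker, map_sub, sub_eq_zero] at hk
      exact hk
    conv_lhs => rw [← δ4, show δ * a * b * a₁ * d = δ * a * (b * a₁ * d) by noncomm_ring, this]
    exact δ4
  have : δ = 0 := by
    rw [← e1, ← e2, show d * a₁ * (δ * a₁ * d) = d * (a₁ * δ * a₁) * d by noncomm_ring, hz,
      mul_zero, zero_mul]
  exact sub_eq_zero.1 this

/-- The unipotent group fixing `a` and the flag of `a`. -/
def flagFix (G : Subgroup Aut) (a : Module.End k M) : Subgroup Aut where
  carrier := {g | g ∈ G ∧ a * nl g = 0 ∧ nl g * a = 0 ∧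
    ∀ x ∈ LinearMap.ker a, nl g x ∈ LinearMap.range a}
  one_mem' := ⟨one_mem G, by simp [nl], by simp [nl], fun x _ => by simp [nl]⟩
  mul_mem' := fun {g g'} ⟨hg, g1, g2, g3⟩ ⟨hg', g1', g2', g3'⟩ => by
    have e : nl (g * g') = nl g + nl g' + nl g * nl g' := by
      simp only [nl, Units.val_mul]; noncomm_ring
    refine ⟨mul_mem hg hg', ?_, ?_, fun x hx => ?_⟩
    · rw [e, mul_add, mul_add, g1, g1', ← mul_assoc, g1, zero_mul, add_zero, add_zero]
    · rw [e, add_mul, add_mul, g2, g2', mul_assoc, g2', mul_zero, add_zero, add_zero]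
    · rw [e, LinearMap.add_apply, LinearMap.add_apply]
      refine add_mem (add_mem (g3 x hx) (g3' x hx)) ?_
      obtain ⟨y, hy⟩ := g3' x hx
      rw [Module.End.mul_apply, ← hy, ← Module.End.mul_apply, g2, LinearMap.zero_apply]
      exact zero_mem _
  inv_mem' := fun {g} ⟨hg, g1, g2, g3⟩ => by
    have e : nl g⁻¹ = -(((g⁻¹ : Aut) : Module.End k M) * nl g) := by
      rw [nl, nl, mul_sub, Units.inv_mul, mul_one, neg_sub]
    have hag : a * ((g⁻¹ : Aut) : Module.End k M) = a := by
      have h1 : a * (g : Module.End k M) = a := by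
        rw [nl, mul_sub, mul_one, sub_eq_zero] at g1; exact g1
      conv_lhs => rw [← h1, mul_assoc, Units.mul_inv, mul_one]
    have hga : ((g⁻¹ : Aut) : Module.End k M) * a = a := by
      have h1 : (g : Module.End k M) * a = a := by
        rw [nl, sub_mul, one_mul, sub_eq_zero] at g2; exact g2
      conv_lhs => rw [← h1, ← mul_assoc, Units.inv_mul, one_mul]
    refine ⟨inv_mem hg, ?_, ?_, fun x hx => ?_⟩
    · rw [e, mul_neg, ← mul_assoc, hag, g1, neg_zero]
    · rw [e, neg_mul, mul_assoc, g2, mul_zero, neg_zero]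
    · rw [e, LinearMap.neg_apply, Module.End.mul_apply]
      obtain ⟨y, hy⟩ := g3 x hx
      rw [← hy, ← Module.End.mul_apply, hga]
      exact neg_mem ⟨y, rfl⟩

theorem flagFix_le : flagFix G a ≤ G := fun _ h => h.1

theorem flagFix_fix {g : Aut} (hg : g ∈ flagFix G a) : cj g a = a := by
  have h1 : (g : Module.End k M) * a = a := by
    have := hg.2.2.1; rw [nl, sub_mul, one_mul, sub_eq_zero] at this; exact this
  have h2 : a * ((g⁻¹ : Aut) : Module.End k M) = a := by
    have := ((flagFix G a).inv_mem hg).2.1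
    rw [nl, mul_sub, mul_one, sub_eq_zero] at this; exact this
  rw [cj, h1, h2]

theorem isPGroup_flagFix {p : ℕ} [Fact p.Prime] [CharP k p] (hp : 3 ≤ p) (a : Module.End k M)
    (ha : a * a = 0) : IsPGroup p (flagFix G a) := by
  rintro ⟨g, hg, g1, g2, g3⟩
  refine ⟨1, Subtype.ext (Units.ext ?_)⟩
  rw [SubgroupClass.coe_pow, OneMemClass.coe_one, Units.val_pow_eq_pow_val, Units.val_one, pow_one]
  rcases subsingleton_or_nontrivial M with hM | hM
  · exact LinearMap.ext fun x => Subsingleton.elim _ _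
  haveI : CharP (Module.End k M) p :=
    charP_of_injective_algebraMap (algebraMap k (Module.End k M)).injective p
  have h3 : nl g ^ 3 = 0 := LinearMap.ext fun x => by
    have hx : nl g x ∈ LinearMap.ker a := LinearMap.mem_ker.2 (LinearMap.congr_fun g1 x)
    obtain ⟨y, hy⟩ := g3 _ hx
    rw [pow_succ, pow_two, Module.End.mul_apply, Module.End.mul_apply, ← hy]
    exact LinearMap.congr_fun g2 y
  have hpp : nl g ^ p = 0 := pow_eq_zero_of_le hp h3
  have e : (g : Module.End k M) = nl g + 1 := by rw [nl, sub_add_cancel]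
  rw [e, add_pow_char_of_commute (p := p) (Commute.one_right (nl g)), hpp, one_pow, zero_add]

theorem E_le_flagFix (ha : IsMin G a) : E G ha.1.1 ≤ flagFix G a := by
  intro g hg
  obtain ⟨h1, h2, h3⟩ := mem_E.1 hg
  refine ⟨E_le _ hg, LinearMap.ext fun x => ?_, LinearMap.ext fun x => ?_, fun x _ => h2 ⟨x, rfl⟩⟩
  · obtain ⟨y, hy⟩ := h2 ⟨x, rfl⟩
    rw [Module.End.mul_apply, ← hy]
    exact LinearMap.congr_fun ha.1.1 y
  · exact LinearMap.mem_ker.1 (h3 (LinearMap.mem_ker.2 (LinearMap.congr_fun ha.1.1 x)))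

/-- Duals with the same support differ by an element of the class of `a`. -/
theorem diff_mem (hk2 : (2 : k) ≠ 0) (hk3 : Nat.card k ≠ 3) {b' : Module.End k M} (h : Dual a b)
    (h' : Dual a b') (ha : IsMin G a) (hb : IsMin G b) (hb' : IsMin G b')
    (hP : supp a b = supp a b') :
    a * b - a * b' ∈ cls G ha.1.1 := by
  -- the quadratic part, for any dual with the same support
  have key : ∀ c : Module.End k M, Dual a c → IsMin G c → supp a b = supp a c →
      (a * b - a * c) * b * (a * b - a * c) ∈ cls G ha.1.1 ∧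
      (a * b - a * c) * b * a = a * b - a * c ∧ a * b * (a * b - a * c) = a * b - a * c ∧
      (a * b - a * c) * a = 0 := by
    intro c hc hcm hPc
    set u := a * b - a * c with hu
    obtain ⟨h1, h2, h3, h4⟩ := supp_mul h
    obtain ⟨c1, c2, c3, c4⟩ := supp_mul hc
    have ua : u * a = 0 := by rw [hu, sub_mul, h.aba, hc.aba, sub_self]
    have abu : a * b * u = u := by
      rw [hu, mul_sub, ← mul_assoc (a * b) a b, ← mul_assoc (a * b) a c, h.aba]
    have hu' : u = -(a * c * b * a) := by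
      have e : a * c * supp a b = a * c := by rw [hPc, mul_assoc, c4]
      rw [supp, mul_add, ← mul_assoc, hc.aba, ← mul_assoc] at e
      rw [hu]; linear_combination (norm := abel) e
    have uba : u * b * a = u := by
      rw [hu', neg_mul, neg_mul, show a * c * b * a * b * a = a * c * (b * a * b) * a by noncomm_ring,
        h.bab]
    have bac : b * a * c = b - b * c * a := by
      have e : b * (a * c + c * a) = b := by
        show b * supp a c = b
        rw [← hPc, h4]
      rw [mul_add, ← mul_assoc, ← mul_assoc] at e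
      exact eq_sub_of_add_eq e
    have bu : b * u = b * c * a := by
      rw [hu, mul_sub, ← mul_assoc, h.bab, ← mul_assoc, bac, sub_sub_cancel]
    refine ⟨?_, uba, abu, ua⟩
    have hm := sandwich_mem h ha hb (triple_mem hk2 hk3 h ha hb hcm)
    have heq : u * b * u = -(a * (b * c * b) * a) := by
      conv_lhs => arg 2; rw [hu']
      rw [mul_neg, show u * b * (a * c * b * a) = (u * b * a) * (c * b * a) by noncomm_ring, uba,
        show a * (b * c * b) * a = a * (b * c * b * a) by noncomm_ring]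
      rw [show u * (c * b * a) = a * b * u * (c * b * a) by rw [abu],
        show a * b * u * (c * b * a) = a * (b * u) * (c * b * a) by noncomm_ring, bu,
        show a * (b * c * a) * (c * b * a) = a * b * (c * a * c) * b * a by noncomm_ring, hc.bab]
      noncomm_ring
    rw [heq]; exact neg_mem hm
  obtain ⟨k1, k2, k3, k4⟩ := key b' h' hb' hP
  set u := a * b - a * b' with hu
  set t := unitOf a ha.1.1 with ht
  have htG : t ∈ G := Lie.mem ha.1
  have hta : cj t a = a := flagFix_fix (E_le_flagFix ha (unitOf_mem_E (self_mem_cls ha.1)))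
  have hd2 : Dual a (cj t b') := hta ▸ dual_cj h' t
  have hu2 : a * b - a * cj t b' = u + a := by
    rw [hu, cj, ht, unitOf_coe, unitOf_inv]
    rw [show a * ((1 + a) * b' * (1 - a)) = a * b' - a * b' * a + a * a * (b' * (1 - a)) by
      noncomm_ring, h'.aba, ha.1.1, zero_mul, add_zero]
    abel
  have hP2 : supp a b = supp a (cj t b') := by
    have : supp a (cj t b') = cj t (supp a b') := by
      simp only [supp, cj_add, cj_mul, hta]
    rw [this, ← hP]
    obtain ⟨h1, h2, -, -⟩ := supp_mul h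
    rw [cj, ht, unitOf_coe, unitOf_inv, add_mul, one_mul, h2, mul_sub, mul_one, add_mul, h1,
      ha.1.1, add_zero]
    abel
  obtain ⟨m1, -, -, -⟩ := key _ hd2 (hb'.conj htG) hP2
  rw [hu2] at m1
  have hsum : (2 : k) • u ∈ cls G ha.1.1 := by
    have : (u + a) * b * (u + a) - u * b * u - a = (2 : k) • u := by
      rw [two_smul, show (u + a) * b * (u + a) =
        u * b * u + u * b * a + a * b * u + a * b * a by noncomm_ring, k2, k3, h.aba]
      abel
    rw [← this]
    exact sub_mem (sub_mem m1 k1) (self_mem_cls ha.1)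
  have := Submodule.smul_mem _ (2 : k)⁻¹ hsum
  rwa [smul_smul, inv_mul_cancel₀ hk2, one_smul] at this

/-- A dual with the same support is a conjugate by a member of the root group of `a`. -/
theorem conj_of_supp (hk2 : (2 : k) ≠ 0) (hk3 : Nat.card k ≠ 3) {b' : Module.End k M} (h : Dual a b)
    (h' : Dual a b') (ha : IsMin G a) (hb : IsMin G b) (hb' : IsMin G b')
    (hP : supp a b = supp a b') : ∃ g ∈ flagFix G a, cj g b = b' := by
  have hm := diff_mem hk2 hk3 h h' ha hb hb' hP
  refine ⟨unitOf _ hm.1.1, E_le_flagFix ha (unitOf_mem_E hm), ?_⟩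
  obtain ⟨-, -, -, h4⟩ := supp_mul h
  obtain ⟨c1, c2, c3, c4⟩ := supp_mul h'
  rw [cj, unitOf_coe, unitOf_inv]
  have e2 : b' * (a * b + b * a) = b' := by
    show b' * supp a b = b'
    rw [hP, c4]
  have e3 : (a * b + b * a) * b' = b' := by
    show supp a b * b' = b'
    rw [hP, c3]
  have e4 : b * (a * b' + b' * a) = b := by
    show b * supp a b' = b
    rw [← hP, h4]
  have e5 : (a * b' + b' * a) * b = b := by
    show supp a b' * b = b
    obtain ⟨-, -, h3, -⟩ := supp_mul h
    rw [← hP, h3]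
  -- both sides are determined by `a b'`
  have hb'' : b' = b' * a * b' := h'.bab.symm
  have hbb : b * b = 0 := h.sqb
  calc (1 + (a * b - a * b')) * b * (1 - (a * b - a * b'))
      = (b + a * (b * b) - a * b' * b) * (1 - a * b + a * b') := by noncomm_ring
    _ = (b - a * b' * b) * (1 - a * b + a * b') := by rw [hbb, mul_zero, add_zero]
    _ = (b' * a * b) * (1 - a * b + a * b') := by
        rw [show b - a * b' * b = b' * a * b by
          conv_lhs => arg 1; rw [← e5]
          noncomm_ring]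
    _ = b' * a * b - b' * a * (b * a * b) + b' * a * b * a * b' := by noncomm_ring
    _ = b' * (a * b * a) * b' := by rw [h.bab, sub_self, zero_add]; noncomm_ring
    _ = b' := by rw [h.aba, h'.bab]

theorem exists_odd_half {g : Aut} {p : ℕ} [Fact p.Prime] (hp : p ≠ 2) (hg : ∃ i, g ^ p ^ i = 1) :
    ∃ i : ℕ, g ^ (2 * i + 1) = 1 := by
  obtain ⟨i, hi⟩ := hg
  obtain ⟨j, hj⟩ := ((Fact.out : p.Prime).odd_of_ne_two hp).pow (n := i)
  exact ⟨j, hj ▸ hi⟩

/-- **All duals of `a` are conjugate under the flag group of `a`.** -/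
theorem dual_conj {p : ℕ} [Fact p.Prime] [CharP k p] (hp : 3 ≤ p) (hk2 : (2 : k) ≠ 0)
    (hk3 : Nat.card k ≠ 3) {b' : Module.End k M} (h : Dual a b)
    (h' : Dual a b') (ha : IsMin G a) (hb : IsMin G b) (hb' : IsMin G b') :
    ∃ g ∈ flagFix G a, cj g b = b' := by
  classical
  set P := supp a b with hPd
  set P' := supp a b' with hP'd
  have hz : ∀ {c : Module.End k M} (hd : Dual a c), IsMin G c → ∃ z : Aut, z ∈ G ∧ z * z = 1 ∧
      (z : Module.End k M) = 1 - (supp a c + supp a c) := by
    intro c hd hc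
    refine ⟨rep hd (-1), rep_mem hd ha.1 hc.1 _, ?_, ?_⟩
    · rw [← map_mul, neg_mul_neg, one_mul, map_one]
    · show mat a c ((-1 : SL(2, k)) : Matrix (Fin 2) (Fin 2) k) = _
      simp [mat, supp]
      abel
  obtain ⟨z, hzG, hz2, hze⟩ := hz h hb
  obtain ⟨z', hz'G, hz'2, hz'e⟩ := hz h' hb'
  obtain ⟨h1, h2, -, -⟩ := supp_mul h
  obtain ⟨c1, c2, -, -⟩ := supp_mul h'
  have hgF : z * z' ∈ flagFix G a := by
    have e : nl (z * z') = 4 • (P * P') - (P + P + (P' + P')) := by
      rw [nl, Units.val_mul, hze, hz'e, ← hPd, ← hP'd]; noncomm_ring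
    refine ⟨mul_mem hzG hz'G, ?_, ?_, fun x hx => ?_⟩
    · rw [e, mul_sub, mul_smul_comm, ← mul_assoc, h2, c2, mul_add, mul_add, mul_add, h2, c2]
      abel
    · rw [e, sub_mul, smul_mul_assoc, mul_assoc, c1, h1, add_mul, add_mul, add_mul, h1, c1]
      abel
    · have p1 : ∀ {c : Module.End k M}, Dual a c → ∀ y ∈ LinearMap.ker a,
          supp a c y ∈ LinearMap.range a := by
        intro c hc y hy
        rw [supp, LinearMap.add_apply, Module.End.mul_apply c a, LinearMap.mem_ker.1 hy, map_zero,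
          add_zero]
        exact ⟨c y, rfl⟩
      have p2 : LinearMap.range a ≤ LinearMap.ker a := by
        rintro _ ⟨y, rfl⟩; exact LinearMap.congr_fun ha.1.1 y
      rw [e, LinearMap.sub_apply, LinearMap.smul_apply]
      exact sub_mem (nsmul_mem (p1 h _ (p2 (p1 h' x hx))) _)
        (add_mem (add_mem (p1 h x hx) (p1 h x hx)) (add_mem (p1 h' x hx) (p1 h' x hx)))
  obtain ⟨j, hj⟩ : ∃ j : ℕ, (z * z') ^ (2 * j + 1) = 1 := by
    refine exists_odd_half (p := p) (by omega) ?_
    obtain ⟨i, hi⟩ := isPGroup_flagFix (G := G) hp a ha.1.1 ⟨_, hgF⟩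
    exact ⟨i, congrArg Subtype.val hi⟩
  set g := z * z' with hg
  have hzinv : z⁻¹ = z := inv_eq_of_mul_eq_one_right hz2
  have hconj : ∀ n : ℕ, z * g ^ n * z = (g ^ n)⁻¹ := by
    intro n
    have h0 : z * g * z⁻¹ = g⁻¹ := by
      rw [hg, mul_inv_rev, ← mul_assoc z z z', hz2, one_mul, hzinv, inv_eq_of_mul_eq_one_right hz'2]
    have := congrArg (· ^ n) h0
    simp only [conj_pow, inv_pow] at this
    rwa [hzinv] at this
  have hy : g ^ j * z * (g ^ j)⁻¹ = z' := by
    have h2' : z * (g ^ j)⁻¹ = g ^ j * z := by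
      rw [← hconj j, ← mul_assoc, ← mul_assoc, hz2, one_mul]
    rw [mul_assoc, h2', ← mul_assoc, ← pow_add, ← two_mul]
    have h3 : g ^ (2 * j) = g⁻¹ := eq_inv_of_mul_eq_one_left (by rw [← pow_succ]; exact hj)
    rw [h3, hg, mul_inv_rev, inv_eq_of_mul_eq_one_right hz'2, hzinv, mul_assoc, hz2, mul_one]
  have hyF : g ^ j ∈ flagFix G a := pow_mem hgF j
  set y := g ^ j with hydef
  have hya : cj y a = a := flagFix_fix hyF
  have hsupp : supp a (cj y b) = supp a b' := by
    have e1 : cj y (z : Module.End k M) = (z' : Module.End k M) := by rw [cj_coe, hy]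
    rw [hze, hz'e, cj_sub, cj_one, cj_add] at e1
    have e2 : (2 : k) • cj y (supp a b) = (2 : k) • supp a b' := by
      rw [two_smul, two_smul]; exact sub_right_injective e1
    have e3 := congrArg (fun t => (2 : k)⁻¹ • t) e2
    simp only [smul_smul, inv_mul_cancel₀ hk2, one_smul] at e3
    rw [← e3, supp, supp, cj_add, cj_mul, cj_mul, hya]
  obtain ⟨g', hg', he⟩ := conj_of_supp hk2 hk3 (hya ▸ dual_cj h y) h' ha
    (hb.conj (flagFix_le hyF)) hb' hsupp
  exact ⟨g' * y, mul_mem hg' hyF, by rw [← cj_comp, he]⟩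

end Cfsg.Agent.QuadPairDualOrbit20
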