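import Mathlib
import Cfsg.Prelude.Def_RootSubgroups
import Cfsg.Agent.Lib.RankOne
import Cfsg.Agent.Lib.QuadPairTheory
import Cfsg.Agent.Lib.QuadPairUnipotent

/-!
Commutators of two quadratic root subgroups: commuting criteria and the class two case.
-/

set_option autoImplicit false
set_option linter.unusedSectionVars false

namespace Cfsg.Agent.QuadPairCommute

open Cfsg Cfsg.Agent.QuadPairTheory Cfsg.Agent.QuadPairUnipotent
open scoped commutatorElement

section Group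

variable {P : Type*} [Group P] {A B L : Subgroup P}

/-- Commutators of a join lie in a centralized subgroup once those of the generators do. -/
theorem commutator_sup_le (hAB : ⁅A, B⁆ ≤ L) (hA : ⁅A, A⁆ ≤ L) (hB : ⁅B, B⁆ ≤ L)
    (hc : ∀ g ∈ A ⊔ B, ∀ z ∈ L, g * z = z * g) : ⁅A ⊔ B, A ⊔ B⁆ ≤ L := by
  have hBA : ⁅B, A⁆ ≤ L := Subgroup.commutator_comm B A ▸ hAB
  have hcon : ∀ g ∈ A ⊔ B, ∀ z ∈ L, g * z * g⁻¹ = z := fun g hg z hz => by
    rw [hc g hg z hz, mul_inv_cancel_right]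
  have side : ∀ C : Subgroup P, ⁅C, A⁆ ≤ L → ⁅C, B⁆ ≤ L → ∀ g ∈ C, ∀ h ∈ A ⊔ B, g * h * g⁻¹ * h⁻¹ ∈ L := by
    intro C h1 h2 g hg h hh
    rw [Subgroup.sup_eq_closure] at hh
    induction hh using Subgroup.closure_induction with
    | mem x hx =>
      rcases hx with hx | hx
      · exact h1 (Subgroup.commutator_mem_commutator hg hx)
      · exact h2 (Subgroup.commutator_mem_commutator hg hx)
    | one => simp
    | mul x y hx hy ihx ihy =>
      rw [← Subgroup.sup_eq_closure] at hx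
      have e : g * (x * y) * g⁻¹ * (x * y)⁻¹ = (g * x * g⁻¹ * x⁻¹) * (x * (g * y * g⁻¹ * y⁻¹) * x⁻¹) := by
        group
      rw [e, hcon x hx _ ihy]; exact mul_mem ihx ihy
    | inv x hx ihx =>
      rw [← Subgroup.sup_eq_closure] at hx
      have e : g * x⁻¹ * g⁻¹ * x⁻¹⁻¹ = x⁻¹ * (g * x * g⁻¹ * x⁻¹)⁻¹ * x⁻¹⁻¹ := by group
      rw [e, hcon _ (inv_mem hx) _ (inv_mem ihx)]; exact inv_mem ihx
  refine Subgroup.commutator_le.2 fun g hg h hh => ?_
  rw [commutatorElement_def]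
  rw [Subgroup.sup_eq_closure] at hg
  induction hg using Subgroup.closure_induction with
  | mem x hx =>
    rcases hx with hx | hx
    · exact side A hA hAB x hx h hh
    · exact side B hBA hB x hx h hh
  | one => simp
  | mul x y hx hy ihx ihy =>
    rw [← Subgroup.sup_eq_closure] at hx
    have e : x * y * h * (x * y)⁻¹ * h⁻¹ = (x * (y * h * y⁻¹ * h⁻¹) * x⁻¹) * (x * h * x⁻¹ * h⁻¹) := by group
    rw [e, hcon x hx _ ihy]; exact mul_mem ihy ihx
  | inv x hx ihx =>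
    rw [← Subgroup.sup_eq_closure] at hx
    have e : x⁻¹ * h * x⁻¹⁻¹ * h⁻¹ = x⁻¹ * (x * h * x⁻¹ * h⁻¹)⁻¹ * x⁻¹⁻¹ := by group
    rw [e, hcon _ (inv_mem hx) _ (inv_mem ihx)]; exact inv_mem ihx

end Group

variable {k : Type*} [Field k] {M : Type*} [AddCommGroup M] [Module k M] [FiniteDimensional k M]
  {G : Subgroup (LinearMap.GeneralLinearGroup k M)} {a b c : Module.End k M}

theorem two_ne_zero_of_ringChar (h : ringChar k ≠ 2) : (2 : k) ≠ 0 := Ring.two_ne_zero h

/-- A unipotent pair of root groups is of unipotent type. -/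
theorem uni_of_isUnipotentOn (hk2 : (2 : k) ≠ 0) (hk3 : Nat.card k ≠ 3) (ha : IsMin G a) (hb : IsMin G b)
    (h : IsUnipotentOn (E G ha.1.1 ⊔ E G hb.1.1)) : Uni a b := by
  refine (uni_or_opp hk2 hk3 ha hb).resolve_right fun ho => ?_
  obtain ⟨b', hb', -, hd⟩ := exists_dual hk2 hk3 ha hb ho
  obtain ⟨n, hn⟩ := S5061.unipotent_iff.1 h
  set u := unitOf a hd.sqa
  set v := unitOf b' hd.sqb
  have hu : u ∈ E G ha.1.1 ⊔ E G hb.1.1 := Subgroup.mem_sup_left (unitOf_mem_E (self_mem_cls ha.1))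
  have hv : v ∈ E G ha.1.1 ⊔ E G hb.1.1 := Subgroup.mem_sup_right (unitOf_mem_E hb')
  set w := u * v⁻¹ * u
  have hw : w * w ∈ E G ha.1.1 ⊔ E G hb.1.1 :=
    mul_mem (mul_mem (mul_mem hu (inv_mem hv)) hu) (mul_mem (mul_mem hu (inv_mem hv)) hu)
  set z := a * b' + b' * a with hz
  have we : (w : Module.End k M) = 1 - z + a - b' := by
    rw [Units.val_mul, Units.val_mul, unitOf_inv, unitOf_coe]
    have e1 : (1 + a) * (1 - b') * (1 + a) =
        1 - a * b' - b' * a + a - b' + (a + a * a - a * b' * a) := by noncomm_ring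
    rw [e1, hd.aba, hd.sqa, hz]; abel
  have za : z * a = a := by rw [hz, add_mul, mul_assoc b', hd.sqa, hd.aba, mul_zero, add_zero]
  have zb : z * b' = b' := by rw [hz, add_mul, mul_assoc a, hd.sqb, hd.bab, mul_zero, zero_add]
  have az : a * z = a := by rw [hz, mul_add, ← mul_assoc, ← mul_assoc, hd.sqa, hd.aba, zero_mul, zero_add]
  have bz : b' * z = b' := by rw [hz, mul_add, ← mul_assoc, ← mul_assoc, hd.sqb, hd.bab, zero_mul, add_zero]
  have zz' : z * z = z := by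
    nth_rewrite 2 [hz]
    rw [mul_add, ← mul_assoc, ← mul_assoc, za, zb]
  have wne : nl (w * w) = (-2 : k) • z := by
    rw [nl, Units.val_mul, we]
    have e : (1 - z + a - b') * (1 - z + a - b') - 1 = -(2 : k) • z + (z * z - z * a + z * b' - a * z
        + b' * z + a * a + b' * b' - (a * b' + b' * a) + (2 : k) • a - (2 : k) • b') := by
      rw [two_smul, two_smul, neg_smul, two_smul]; noncomm_ring
    rw [e, zz', za, zb, az, bz, hd.sqa, hd.sqb, ← hz, two_smul, two_smul]; abel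
  have hpow := hn (List.replicate n (w * w)) (fun g hg => by rw [List.eq_of_mem_replicate hg]; exact hw)
    List.length_replicate
  rw [List.map_replicate, List.prod_replicate] at hpow
  change nl (w * w) ^ n = 0 at hpow
  rw [wne, smul_pow] at hpow
  have hzn : ∀ j : ℕ, z ^ (j + 1) = z := fun j => by
    induction j with
    | zero => rw [pow_one]
    | succ j ih => rw [pow_succ, ih, zz']
  have h0 : z = 0 := by
    cases n with
    | zero => rw [pow_zero, pow_zero, one_smul] at hpow; rw [← mul_one z, hpow, mul_zero]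
    | succ j =>
      rw [hzn] at hpow
      exact (smul_eq_zero.1 hpow).resolve_left (pow_ne_zero _ (neg_ne_zero.2 hk2))
  exact ha.2.1 (by rw [← za, h0, zero_mul])

theorem nl_comm {g h : LinearMap.GeneralLinearGroup k M} (h1 : g * h = h * g) : nl g * nl h = nl h * nl g := by
  have := congrArg (fun x : LinearMap.GeneralLinearGroup k M => (x : Module.End k M)) h1
  simp only [Units.val_mul] at this
  simp only [nl, sub_mul, mul_sub, one_mul, mul_one, this]
  abel

theorem comm_of_nl {g h : LinearMap.GeneralLinearGroup k M} (h1 : nl g * nl h = nl h * nl g) : g * h = h * g := by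
  apply Units.ext
  rw [Units.val_mul, Units.val_mul]
  simp only [nl, sub_mul, mul_sub, one_mul, mul_one] at h1
  linear_combination (norm := abel) h1

/-- Commuting members: all members commute. -/
theorem commutator_eq_bot (hk2 : (2 : k) ≠ 0) (hk3 : Nat.card k ≠ 3) (ha : IsMin G a) (hb : IsMin G b)
    (hu : Uni a b) (h : a * b = b * a) : ⁅E G ha.1.1, E G hb.1.1⁆ = ⊥ :=
  RankOne.commutator_eq_bot_of_comm fun _ hg _ hh =>
    comm_of_nl (all_commute hk2 hk3 ha hb hu h (mem_E.1 hg) (mem_E.1 hh))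

theorem commutator_eq_bot_of_nl (hk2 : (2 : k) ≠ 0) (hk3 : Nat.card k ≠ 3) (ha : IsMin G a) (hb : IsMin G b)
    (h : a * b = b * a) : ⁅E G ha.1.1, E G hb.1.1⁆ = ⊥ :=
  commutator_eq_bot hk2 hk3 ha hb
    ⟨by rw [h, mul_assoc, ha.1.1, mul_zero], by rw [← h, mul_assoc, hb.1.1, mul_zero]⟩ h

/-- A member normalizing another root group commutes with it. -/
theorem comm_of_normalizes (hk2 : (2 : k) ≠ 0) (hk3 : Nat.card k ≠ 3) (ha : IsMin G a) (hb : IsMin G b)
    (hN : unitOf a ha.1.1 ∈ Subgroup.normalizer (E G hb.1.1 : Set (LinearMap.GeneralLinearGroup k M))) :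
    a * b = b * a := by
  have hmem : ∀ {b' : Module.End k M}, b' ∈ cls G hb.1.1 →
      b' + a * b' - b' * a - a * b' * a ∈ cls G hb.1.1 := by
    intro b' hb'
    have h := (Subgroup.mem_normalizer_iff.1 hN (unitOf b' hb'.1.1)).1 (unitOf_mem_E hb')
    rw [mem_E] at h
    convert h using 1
    rw [nl, Units.val_mul, Units.val_mul, unitOf_inv, unitOf_coe, unitOf_coe]
    rw [show (1 + a) * (1 + b') * (1 - a) - 1 = b' + a * b' - b' * a - a * b' * a - a * a by noncomm_ring,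
      ha.1.1, sub_zero]
  rcases uni_or_opp hk2 hk3 ha hb with hu | ho
  · by_contra hne
    have h := sub_mem (hmem (self_mem_cls hb.1)) (self_mem_cls hb.1)
    rw [hu.1, sub_zero, show b + a * b - b * a - b = a * b - b * a by abel] at h
    have D : Data G a b (a * b - b * a) := ⟨hk2, hk3, ha, hb, hu, rfl, sub_ne_zero.2 hne⟩
    obtain ⟨-, hr, hker⟩ := cls_spaces hb h D.hc0
    apply D.hc0
    have e1 : a * b = 0 := LinearMap.ext fun x => LinearMap.mem_ker.1 (D.range_c_le_ker (hr.ge ⟨x, rfl⟩))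
    have e2 : b * a = 0 := LinearMap.ext fun x => LinearMap.mem_ker.1 (hker.le (D.range_a_le_ker ⟨x, rfl⟩))
    rw [e1, e2, sub_zero]
  · exfalso
    obtain ⟨b', hb', hb0, hd⟩ := exists_dual hk2 hk3 ha hb ho
    have h := hmem hb'
    rw [hd.aba] at h
    have hfix := hd.symm.left_mul (a' := b' + a * b' - b' * a - a)
      (h.2.1.trans (cls_spaces hb hb' hb0).2.1.ge)
    have e1 : b' * a * (b' + a * b' - b' * a - a) =
        b' * a * b' + b' * (a * a) * b' - (b' * a * b') * a - b' * (a * a) := by noncomm_ring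
    rw [e1, hd.sqa, hd.bab] at hfix
    simp only [mul_zero, zero_mul, add_zero, sub_zero] at hfix
    have e2 : a * b' - a = 0 := by
      have h2 : b' + a * b' - b' * a - a - (b' - b' * a) = 0 := by rw [← hfix]; abel
      rw [← h2]; abel
    have e3 := congrArg (· * b') e2
    simp only [sub_mul, mul_assoc, hd.sqb, mul_zero, zero_mul, zero_sub, neg_eq_zero] at e3
    rw [e3, zero_sub, neg_eq_zero] at e2
    exact ha.2.1 e2

theorem nl_commutator (hk2 : (2 : k) ≠ 0) (hk3 : Nat.card k ≠ 3) (ha : IsMin G a) (hb : IsMin G b)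
    (hu : Uni a b) {g h : LinearMap.GeneralLinearGroup k M} (hg : g ∈ E G ha.1.1) (hh : h ∈ E G hb.1.1) :
    nl (g * h * g⁻¹ * h⁻¹) = nl g * nl h - nl h * nl g := by
  obtain ⟨p, hp⟩ : ∃ p, p = nl g := ⟨_, rfl⟩
  obtain ⟨q, hq⟩ : ∃ q, q = nl h := ⟨_, rfl⟩
  have hg' := mem_E.1 hg
  have hh' := mem_E.1 hh
  rw [← hp] at hg' ⊢
  rw [← hq] at hh' ⊢
  have ge : g = unitOf p hg'.1.1 := Units.ext (by simp [hp, nl])
  have he : h = unitOf q hh'.1.1 := Units.ext (by simp [hq, nl])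
  obtain ⟨h1, h2⟩ := uni_of_cls ha hb hk2 hk3 hu hg' hh'
  rw [nl, ge, he, Units.val_mul, Units.val_mul, Units.val_mul, unitOf_inv, unitOf_inv, unitOf_coe, unitOf_coe]
  have e : (1 + p) * (1 + q) * (1 - p) * (1 - q) =
      1 + (p * q - q * p) - (q * q) - (p * p) + (q * p * q) + (p * p * q) - (p * q * q) - (p * q * p) +
        (p * q * p) * q := by noncomm_ring
  rw [e, h1, h2, hh'.1.1, hg'.1.1, mul_assoc p q q, hh'.1.1]
  simp

theorem commutator_le_E (D : Data G a b c) : ⁅E G D.ha.1.1, E G D.hb.1.1⁆ ≤ E G D.min.1.1 := by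
  refine Subgroup.commutator_le.2 fun g hg h hh => ?_
  rw [commutatorElement_def, mem_E, nl_commutator D.hk2 D.hk3 D.ha D.hb D.hu hg hh]
  exact D.comm_mem (mem_E.1 hg) (mem_E.1 hh)

theorem E_le_closure (hG : QuadPairUnipotent.Reduced G) (D : Data G a b c) {e : LinearMap.GeneralLinearGroup k M}
    (he : e ∈ E G D.ha.1.1) (he1 : e ≠ 1) :
    E G D.min.1.1 ≤ Subgroup.closure ((fun f : LinearMap.GeneralLinearGroup k M => e * f * e⁻¹ * f⁻¹) ''
      (E G D.hb.1.1 : Set (LinearMap.GeneralLinearGroup k M))) := by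
  obtain ⟨p, hp⟩ : ∃ p, p = nl e := ⟨_, rfl⟩
  have he' := mem_E.1 he
  rw [← hp] at he'
  have hp0 : p ≠ 0 := fun h => he1 (nl_eq_zero.1 (hp ▸ h))
  obtain ⟨hpm, hpr, hpk⟩ := cls_spaces D.ha he' hp0
  have hu : Uni p b := uni_of_cls D.ha D.hb D.hk2 D.hk3 D.hu he' (self_mem_cls D.hb.1)
  have hne : p * b ≠ b * p := fun h => D.hc0 (by
    rw [D.hc, sub_eq_zero]
    exact all_commute D.hk2 D.hk3 hpm D.hb hu h ⟨D.ha.1, hpr.ge, hpk.le⟩ (self_mem_cls D.hb.1))
  have D' : Data G p b (p * b - b * p) := ⟨D.hk2, D.hk3, hpm, D.hb, hu, rfl, sub_ne_zero.2 hne⟩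
  rw [← E_eq_of_mem D.min (D.comm_mem he' (self_mem_cls D.hb.1)) D'.hc0]
  intro g hg
  obtain ⟨q, hq, hqe⟩ := QuadPairUnipotent.surjective hG D' (mem_E.1 hg)
  have hq' : unitOf q hq.1.1 ∈ E G D.hb.1.1 := unitOf_mem_E hq
  refine Subgroup.subset_closure ⟨unitOf q hq.1.1, hq', ?_⟩
  apply Units.ext
  have h := nl_commutator D.hk2 D.hk3 D.ha D.hb D.hu he hq'
  rw [← hp, nl_unitOf, hqe] at h
  exact sub_left_injective h

theorem E_le_closure' (hG : QuadPairUnipotent.Reduced G) (D : Data G a b c) {f : LinearMap.GeneralLinearGroup k M}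
    (hf : f ∈ E G D.hb.1.1) (hf1 : f ≠ 1) :
    E G D.min.1.1 ≤ Subgroup.closure ((fun e : LinearMap.GeneralLinearGroup k M => e * f * e⁻¹ * f⁻¹) ''
      (E G D.ha.1.1 : Set (LinearMap.GeneralLinearGroup k M))) := by
  have h := E_le_closure hG D.symm hf hf1
  rw [E_congr D.min.1.1 D.symm.min.1.1 (LinearMap.range_neg c).symm (LinearMap.ker_neg c).symm]
  refine h.trans ((Subgroup.closure_le _).2 ?_)
  rintro _ ⟨e, he, rfl⟩
  have : f * e * f⁻¹ * e⁻¹ = (e * f * e⁻¹ * f⁻¹)⁻¹ := by group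
  show f * e * f⁻¹ * e⁻¹ ∈ Subgroup.closure _
  rw [this]
  exact inv_mem (Subgroup.subset_closure ⟨e, he, rfl⟩)

theorem commutator_eq (hG : QuadPairUnipotent.Reduced G) (D : Data G a b c) :
    ⁅E G D.ha.1.1, E G D.hb.1.1⁆ = E G D.min.1.1 := by
  refine le_antisymm (commutator_le_E D) ((E_le_closure hG D (unitOf_mem_E (self_mem_cls D.ha.1)) ?_).trans ?_)
  · intro h
    exact D.ha.2.1 (by rw [← nl_unitOf a D.ha.1.1, nl_eq_zero.2 h])
  · refine (Subgroup.closure_le _).2 ?_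
    rintro _ ⟨f, hf, rfl⟩
    exact Subgroup.commutator_mem_commutator (unitOf_mem_E (self_mem_cls D.ha.1)) hf

theorem fixed_E {n : Module.End k M} (hn : n ∈ Lie G) : fixedSubmodule (E G hn.1) = LinearMap.ker n := by
  refine le_antisymm (fun m hm => ?_) (fun m hm => ?_)
  · have h := (Submodule.mem_iInf _).1 ((Submodule.mem_iInf _).1 hm (unitOf n hn.1))
      (unitOf_mem_E (self_mem_cls hn))
    change m ∈ LinearMap.ker (nl (unitOf n hn.1)) at h
    rwa [nl_unitOf] at h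
  · exact (Submodule.mem_iInf _).2 fun g => (Submodule.mem_iInf _).2 fun hg => (mem_E.1 hg).2.2 hm

theorem commutatorSubmodule_E {n : Module.End k M} (hn : n ∈ Lie G) :
    commutatorSubmodule (E G hn.1) = LinearMap.range n := by
  refine le_antisymm (iSup₂_le fun g hg => (mem_E.1 hg).2.1) (le_iSup₂_of_le (unitOf n hn.1)
    (unitOf_mem_E (self_mem_cls hn)) ?_)
  show LinearMap.range n ≤ LinearMap.range (nl (unitOf n hn.1))
  rw [nl_unitOf]

theorem E_le_flag (D : Data G a b c) :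
    E G D.ha.1.1 ≤ flag (LinearMap.ker c) (LinearMap.range c)
      (fun x hx => by obtain ⟨y, rfl⟩ := hx; exact LinearMap.congr_fun D.lie.1 y) := by
  intro g hg
  obtain ⟨-, h1, h2⟩ := mem_E.1 hg
  refine ⟨fun m => D.range_a_le_ker (h1 ⟨m, rfl⟩), fun m hm => ?_,
    fun m hm => LinearMap.mem_ker.1 (h2 (D.range_c_le_ker hm))⟩
  rw [D.ker_eq] at hm
  obtain ⟨s, hs, z, hz, rfl⟩ := Submodule.mem_sup.1 hm.2
  rw [map_add, LinearMap.mem_ker.1 (h2 hz), add_zero, D.spaces.2.2.2.2.1]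
  exact Submodule.mem_sup_left (map_le_pSp D.hk2 D.hk3 D.ha D.hb D.hu (mem_E.1 hg) hs)

theorem sup_le_flag_c (D : Data G a b c) :
    E G D.ha.1.1 ⊔ E G D.hb.1.1 ≤ flag (LinearMap.ker c) (LinearMap.range c)
      (fun x hx => by obtain ⟨y, rfl⟩ := hx; exact LinearMap.congr_fun D.lie.1 y) := by
  refine sup_le (E_le_flag D) ((E_le_flag D.symm).trans fun g hg => ?_)
  rw [mem_flag] at hg ⊢
  simpa only [LinearMap.ker_neg, LinearMap.range_neg] using hg

theorem centralizes (D : Data G a b c) :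
    ∀ g ∈ E G D.ha.1.1 ⊔ E G D.hb.1.1, ∀ z ∈ E G D.min.1.1, g * z = z * g := by
  intro g hg z hz
  obtain ⟨g1, g2, g3⟩ := sup_le_flag_c D hg
  obtain ⟨-, z1, z2⟩ := mem_E.1 hz
  apply comm_of_nl
  refine LinearMap.ext fun m => ?_
  rw [Module.End.mul_apply, Module.End.mul_apply, g3 _ (z1 ⟨m, rfl⟩), LinearMap.mem_ker.1 (z2 (g1 m))]

theorem class_two (hG : QuadPairUnipotent.Reduced G) (D : Data G a b c) :
    ⁅E G D.ha.1.1 ⊔ E G D.hb.1.1, E G D.ha.1.1 ⊔ E G D.hb.1.1⁆ ≠ ⊥ ∧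
      ⁅⁅E G D.ha.1.1 ⊔ E G D.hb.1.1, E G D.ha.1.1 ⊔ E G D.hb.1.1⁆, E G D.ha.1.1 ⊔ E G D.hb.1.1⁆ = ⊥ := by
  haveI := isMulCommutative_E (G := G) D.ha.1.1
  haveI := isMulCommutative_E (G := G) D.hb.1.1
  have hA : ⁅E G D.ha.1.1, E G D.ha.1.1⁆ = ⊥ := RankOne.commutator_eq_bot_of_comm fun g hg h hh =>
    congrArg Subtype.val (IsMulCommutative.is_comm.comm (⟨g, hg⟩ : E G D.ha.1.1) ⟨h, hh⟩)
  have hB : ⁅E G D.hb.1.1, E G D.hb.1.1⁆ = ⊥ := RankOne.commutator_eq_bot_of_comm fun g hg h hh =>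
    congrArg Subtype.val (IsMulCommutative.is_comm.comm (⟨g, hg⟩ : E G D.hb.1.1) ⟨h, hh⟩)
  have hle := commutator_sup_le (commutator_le_E D) (hA ▸ bot_le) (hB ▸ bot_le) (centralizes D)
  refine ⟨fun h => ?_, RankOne.commutator_eq_bot_of_comm fun z hz g hg => (centralizes D g hg z (hle hz)).symm⟩
  have h' : E G D.min.1.1 ≤ ⊥ := h ▸ (commutator_eq hG D ▸ Subgroup.commutator_mono le_sup_left le_sup_right)
  have := Subgroup.mem_bot.1 (h' (unitOf_mem_E (self_mem_cls D.lie)))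
  exact D.hc0 (by rw [← nl_unitOf c D.lie.1, nl_eq_zero.2 this])

theorem sup_le_core (D : Data G a b c) :
    ((E G D.ha.1.1 ⊔ E G D.hb.1.1 : Subgroup (LinearMap.GeneralLinearGroup k M)) :
      Set (LinearMap.GeneralLinearGroup k M)) ⊆ quadraticUnipotentCore G (E G D.min.1.1) := by
  intro g hg
  obtain ⟨g1, g2, g3⟩ := sup_le_flag_c D hg
  refine ⟨sup_le (E_le D.ha.1.1) (E_le D.hb.1.1) hg, ?_, ?_, ?_, ?_⟩
  · refine RankOne.conjBy_eq_self_iff.1 ?_
    ext z
    rw [RankOne.mem_conjBy]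
    constructor
    · intro hz
      have e := centralizes D g hg _ hz
      rw [show g * (g⁻¹ * z * g) = z * g by group] at e
      rwa [← mul_right_cancel e] at hz
    · intro hz
      rwa [mul_assoc, ← centralizes D g hg z hz, inv_mul_cancel_left]
  · intro m
    rw [fixed_E D.lie]; exact g1 m
  · intro m hm
    rw [fixed_E D.lie] at hm
    rw [commutatorSubmodule_E D.lie]; exact g2 m hm
  · intro m hm
    rw [commutatorSubmodule_E D.lie] at hm
    exact sub_eq_zero.1 (g3 m hm)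

/-- The conclusion for a unipotent pair of root groups. -/
theorem unipotent_pair (hk2 : (2 : k) ≠ 0) (hk3 : Nat.card k ≠ 3) (hG : QuadPairUnipotent.Reduced G)
    {A B : Subgroup (LinearMap.GeneralLinearGroup k M)} (hA : A ∈ quadraticRootSubgroups G)
    (hB : B ∈ quadraticRootSubgroups G) (hu : IsUnipotentOn (A ⊔ B)) :
    ⁅A, B⁆ = ⊥ ∨
    (⁅A, B⁆ ∈ quadraticRootSubgroups G ∧
      (∀ e ∈ A, e ≠ 1 → Subgroup.closure ((fun f : LinearMap.GeneralLinearGroup k M => e * f * e⁻¹ * f⁻¹) ''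
        (B : Set (LinearMap.GeneralLinearGroup k M))) = ⁅A, B⁆) ∧
      (∀ f ∈ B, f ≠ 1 → Subgroup.closure ((fun e : LinearMap.GeneralLinearGroup k M => e * f * e⁻¹ * f⁻¹) ''
        (A : Set (LinearMap.GeneralLinearGroup k M))) = ⁅A, B⁆) ∧
      ⁅A ⊔ B, A ⊔ B⁆ ≠ ⊥ ∧ ⁅⁅A ⊔ B, A ⊔ B⁆, A ⊔ B⁆ = ⊥ ∧
      ((A ⊔ B : Subgroup (LinearMap.GeneralLinearGroup k M)) : Set (LinearMap.GeneralLinearGroup k M)) ⊆
        quadraticUnipotentCore G ⁅A, B⁆) := by
  obtain ⟨a, ha, rfl⟩ := mem_roots.1 hA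
  obtain ⟨b, hb, rfl⟩ := mem_roots.1 hB
  have hU := uni_of_isUnipotentOn hk2 hk3 ha hb hu
  by_cases hab : a * b = b * a
  · exact Or.inl (commutator_eq_bot hk2 hk3 ha hb hU hab)
  right
  have D : Data G a b (a * b - b * a) := ⟨hk2, hk3, ha, hb, hU, rfl, sub_ne_zero.2 hab⟩
  rw [commutator_eq hG D]
  refine ⟨mem_roots.2 ⟨_, D.min, rfl⟩, fun e he he1 => ?_, fun f hf hf1 => ?_, (class_two hG D).1,
    (class_two hG D).2, sup_le_core D⟩
  · refine le_antisymm ((Subgroup.closure_le _).2 ?_) (E_le_closure hG D he he1)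
    rintro _ ⟨f, hf, rfl⟩
    exact commutator_le_E D (Subgroup.commutator_mem_commutator he hf)
  · refine le_antisymm ((Subgroup.closure_le _).2 ?_) (E_le_closure' hG D hf hf1)
    rintro _ ⟨e, he, rfl⟩
    exact commutator_le_E D (Subgroup.commutator_mem_commutator he hf)

/-- An opposite pair does not generate a group of class two. -/
theorem uni_of_class_two (hk2 : (2 : k) ≠ 0) (hk3 : Nat.card k ≠ 3) (ha : IsMin G a) (hb : IsMin G b)
    (h : ⁅⁅E G ha.1.1 ⊔ E G hb.1.1, E G ha.1.1 ⊔ E G hb.1.1⁆, E G ha.1.1 ⊔ E G hb.1.1⁆ = ⊥) : Uni a b := by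
  refine (uni_or_opp hk2 hk3 ha hb).resolve_right fun ho => ?_
  obtain ⟨b', hb', -, hd⟩ := exists_dual hk2 hk3 ha hb ho
  set u := unitOf a hd.sqa with hu
  set v := unitOf b' hd.sqb with hv
  have hum : u ∈ E G ha.1.1 ⊔ E G hb.1.1 := Subgroup.mem_sup_left (unitOf_mem_E (self_mem_cls ha.1))
  have hvm : v ∈ E G ha.1.1 ⊔ E G hb.1.1 := Subgroup.mem_sup_right (unitOf_mem_E hb')
  have hc := nl_comm (RankOne.comm_of_commutator_eq_bot h (Subgroup.commutator_mem_commutator hum hvm) hum)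
  have he : nl ⁅u, v⁆ = a * b' + a * b' - b' * a + b' - a := by
    rw [commutatorElement_def, nl, Units.val_mul, Units.val_mul, Units.val_mul, hu, hv, unitOf_inv,
      unitOf_inv, unitOf_coe, unitOf_coe]
    have e : (1 + a) * (1 + b') * (1 - a) * (1 - b') =
        1 + (a * b' - b' * a) - (b' * b') - (a * a) + (b' * a * b') + (a * a * b') - a * (b' * b') -
          (a * b' * a) + (a * b' * a) * b' := by noncomm_ring
    rw [e, hd.aba, hd.bab, hd.sqa, hd.sqb]
    simp only [zero_mul, mul_zero, sub_zero, add_zero]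
    abel
  rw [he, hu, nl_unitOf] at hc
  have h2 := congrArg (a * ·) hc
  simp only [mul_add, mul_sub, add_mul, sub_mul, ← mul_assoc, hd.sqa, hd.aba, zero_mul, zero_add, add_zero,
    sub_zero, zero_sub] at h2
  exact ha.2.1 (by simpa [hd.sqa] using h2)

end Cfsg.Agent.QuadPairCommute
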