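import Mathlib
import Cfsg.Prelude.Def_RootSubgroups
import Cfsg.Agent.Lib.RankOne
import Cfsg.Agent.Lib.QuadPairTheory
import Cfsg.Agent.Lib.QuadPairUnipotent
import Cfsg.Agent.S5061

/-!
An irreducible linear group has no unipotent normal subgroups, and this descends to normal subgroups.
-/

set_option autoImplicit false
set_option linter.unusedSectionVars false

namespace Cfsg.Agent.QuadPairNoUni

open Cfsg Cfsg.Agent.QuadPairTheory

variable {k : Type*} [Field k] {M : Type*} [AddCommGroup M] [Module k M]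

/-- No non-trivial unipotent normal subgroup. -/
abbrev NoUni (H : Subgroup (LinearMap.GeneralLinearGroup k M)) : Prop :=
  QuadPairUnipotent.Reduced H

theorem unipotent_conjBy {U : Subgroup (LinearMap.GeneralLinearGroup k M)} (hu : IsUnipotentOn U)
    (x : LinearMap.GeneralLinearGroup k M) : IsUnipotentOn (conjBy U x) := by
  obtain ⟨n, hn⟩ := S5061.unipotent_iff.1 hu
  refine S5061.unipotent_iff.2 ⟨n, fun l hl hlen => ?_⟩
  have h0 := hn (l.map fun g => x⁻¹ * g * x) (fun g hg => by
    obtain ⟨g', hg', rfl⟩ := List.mem_map.1 hg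
    exact RankOne.mem_conjBy.1 (hl g' hg')) (by simp [hlen])
  have key : ∀ l : List (LinearMap.GeneralLinearGroup k M),
      (l.map fun g : LinearMap.GeneralLinearGroup k M => (g : Module.End k M) - 1).prod =
        cj x ((l.map fun g => x⁻¹ * g * x).map
          fun g : LinearMap.GeneralLinearGroup k M => (g : Module.End k M) - 1).prod := by
    intro l
    induction l with
    | nil => simp [cj_one]
    | cons a l ih =>
      simp only [List.map_cons, List.prod_cons]
      rw [cj_mul, ← ih, cj_sub, cj_one, cj_coe]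
      congr 3
      group
  rw [key, h0, cj_zero]

variable [FiniteDimensional k M]

theorem of_irreducible {G : Subgroup (LinearMap.GeneralLinearGroup k M)} (hG : IsIrreducibleFor G) :
    NoUni G := by
  intro U _ hnorm hu
  obtain ⟨m₀, hm₀⟩ := hG.1
  obtain ⟨m₁, hm₁, hfix⟩ := QuadPairUnipotent.exists_fixed_ne_zero hu hm₀
  let W : Submodule k M :=
    { carrier := {m | ∀ g ∈ U, nl g m = 0}
      zero_mem' := fun g _ => map_zero _
      add_mem' := fun {x y} hx hy g hg => by rw [map_add, hx g hg, hy g hg, add_zero]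
      smul_mem' := fun c x hx g hg => by rw [map_smul, hx g hg, smul_zero] }
  have hinv : ∀ g ∈ G, ∀ m ∈ W, (g : M →ₗ[k] M) m ∈ W := by
    intro g hg m hm x hx
    have hx' : g⁻¹ * x * g ∈ U := by
      have h2 : g⁻¹ * x * g ∈ conjBy U g⁻¹ := by rw [RankOne.mem_conjBy]; simpa [mul_assoc] using hx
      rwa [hnorm _ (inv_mem hg)] at h2
    have h := hm _ hx'
    simp only [nl, Units.val_mul, LinearMap.sub_apply, Module.End.mul_apply, Module.End.one_apply,
      sub_eq_zero] at h ⊢
    have h' := congrArg (g : M →ₗ[k] M) h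
    rwa [← Module.End.mul_apply (g : Module.End k M), Units.mul_inv, Module.End.one_apply] at h'
  rcases hG.2 W hinv with h | h
  · exact absurd ((Submodule.mem_bot k).1 (h ▸ (show m₁ ∈ W from hfix))) hm₁
  · rw [Subgroup.eq_bot_iff_forall]
    exact fun g hg => nl_eq_zero.1 (LinearMap.ext fun m => (h ▸ Submodule.mem_top : m ∈ W) g hg)

theorem descend {H K : Subgroup (LinearMap.GeneralLinearGroup k M)} (hK : NoUni K) (hle : H ≤ K)
    (hn : ∀ x ∈ K, conjBy H x = H) : NoUni H := by
  intro U hUH hUn hu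
  set W : Set (Subgroup (LinearMap.GeneralLinearGroup k M)) := {A | ∃ x ∈ K, A = conjBy U x}
  have hWH : ∀ A ∈ W, A ≤ H ∧ (∀ h ∈ H, conjBy A h = A) ∧ IsUnipotentOn A := by
    rintro _ ⟨x, hx, rfl⟩
    refine ⟨(hn x hx) ▸ Subgroup.map_mono hUH, fun h hh => ?_, unipotent_conjBy hu x⟩
    have hmem : x⁻¹ * h * x ∈ H := by
      rw [← hn x hx, RankOne.mem_conjBy] at hh
      exact hh
    conv_rhs => rw [← hUn _ hmem]
    rw [RankOne.conjBy_mul, RankOne.conjBy_mul]
    congr 1
    group
  have hjoin : IsUnipotentOn (⨆ A ∈ W, A) := by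
    refine S5061.join_isUnipotent (G := K) (fun A hA => (hWH A hA).1.trans hle) (fun A hA B hB => ?_) ?_
    · refine S5061.isUnipotentOn_sup (hWH A hA).2.2 (hWH B hB).2.2 fun v hv h hh => ?_
      rw [← (hWH A hA).2.1 v ((hWH B hB).1 hv), RankOne.mem_conjBy]
      simpa [mul_assoc] using hh
    · rintro _ ⟨x, hx, rfl⟩ g hg
      exact ⟨g * x, mul_mem hg hx, RankOne.conjBy_mul _ _ _⟩
  have hbot := hK (⨆ A ∈ W, A) (iSup₂_le fun A hA => (hWH A hA).1.trans hle) (fun x hx => ?_) hjoin
  · rw [eq_bot_iff, ← hbot]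
    exact le_iSup₂_of_le U ⟨1, one_mem _, (RankOne.conjBy_one U).symm⟩ le_rfl
  · have himg : ∀ y ∈ K, conjBy (⨆ A ∈ W, A) y ≤ ⨆ A ∈ W, A := fun y hy => by
      rw [conjBy, Subgroup.map_iSup]
      refine iSup_le fun A => ?_
      rw [Subgroup.map_iSup]
      exact iSup_le fun ⟨z, hz, hA⟩ => le_iSup₂_of_le _
        ⟨y * z, mul_mem hy hz, by rw [hA, ← RankOne.conjBy_mul]⟩ le_rfl
    refine le_antisymm (himg x hx) ?_
    have := Subgroup.map_mono (f := (MulAut.conj x).toMonoidHom) (himg _ (inv_mem hx))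
    change conjBy (conjBy _ x⁻¹) x ≤ conjBy _ x at this
    rwa [RankOne.conjBy_conjBy_inv] at this

end Cfsg.Agent.QuadPairNoUni
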