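import Mathlib
import Cfsg.Prelude.Def_RootSubgroups
import Cfsg.Agent.Lib.RankOne
import Cfsg.Agent.Lib.QuadPairTheory
import Cfsg.Agent.Lib.QuadPairUnipotent
import Cfsg.Agent.Lib.QuadPairCommute
import Cfsg.Agent.Lib.QuadPairNoUni
import Cfsg.Agent.S5061

/-!
A square-zero `q` of a quadratic pair with `m q` nilpotent on the range of every minimal part `m`
commutes with all minimal parts.
-/

set_option autoImplicit false
set_option linter.unusedSectionVars false

namespace Cfsg.Agent.QuadPairCentral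

open Cfsg Cfsg.Agent.QuadPairTheory

variable {k : Type*} [Field k] {M : Type*} [AddCommGroup M] [Module k M] [FiniteDimensional k M]
  {G : Subgroup (LinearMap.GeneralLinearGroup k M)}

/-- `m q m = 0` for all minimal `m`. -/
def Perp (G : Subgroup (LinearMap.GeneralLinearGroup k M)) (q : Module.End k M) : Prop :=
  ∀ m, IsMin G m → m * q * m = 0

/-- `(a q)^n a = 0` for some `n`. -/
def Nil (a q : Module.End k M) : Prop := ∃ n : ℕ, (a * q) ^ n * a = 0

theorem cj_unitOf (x p : Module.End k M) (h : x * x = 0) :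
    cj (unitOf x h) p = p + (x * p - p * x) - x * p * x := by
  rw [cj, unitOf_inv, unitOf_coe]
  noncomm_ring

theorem cj_scaled {G : Subgroup (LinearMap.GeneralLinearGroup k M)} {q a : Module.End k M} (hq : q ∈ Lie G)
    (ha : IsMin G a) (t : k) : IsMin G (a + t • (q * a - a * q) - (t * t) • (q * a * q)) := by
  have h := ha.conj (Lie.mem (Lie.smul hq t))
  rw [cj_unitOf] at h
  simp only [smul_mul_assoc, mul_smul_comm, smul_smul, ← smul_sub] at h
  exact h

theorem Perp.conj {q : Module.End k M} (h : Perp G q) {g : LinearMap.GeneralLinearGroup k M} (hg : g ∈ G) :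
    Perp G (cj g q) := fun m hm => by
  have h0 := h _ (hm.conj (inv_mem hg))
  have := congrArg (cj g) h0
  rw [cj_mul, cj_mul, cj_comp, mul_inv_cancel, cj_zero] at this
  simpa [cj] using this

theorem odd_zero (hk2 : (2 : k) ≠ 0) (hk3 : Nat.card k ≠ 3) {A₀ A₁ A₂ A₃ A₄ : Module.End k M}
    (h : ∀ t : k, A₀ + t • A₁ + (t * t) • A₂ + (t * t * t) • A₃ + (t * t * t * t) • A₄ = 0) : A₁ = 0 := by
  obtain ⟨u, hu0, hu1⟩ := QuadPairCore.exists_unit_sq_ne_one hk2 hk3
  have e1 : (2 : k) • (A₁ + A₃) = 0 := by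
    linear_combination (norm := module) h 1 - h (-1)
  have e2 : (2 * u) • (A₁ + (u * u) • A₃) = 0 := by
    linear_combination (norm := module) h u - h (-u)
  have e1' := (smul_eq_zero.1 e1).resolve_left hk2
  have e2' := (smul_eq_zero.1 e2).resolve_left (mul_ne_zero hk2 hu0)
  have e3 : (u * u - 1) • A₃ = 0 := by linear_combination (norm := module) e2' - e1'
  have e3' := (smul_eq_zero.1 e3).resolve_left hu1
  rwa [e3', add_zero] at e1'

/-- The linearised identity. -/
theorem Perp.comm (hk2 : (2 : k) ≠ 0) (hk3 : Nat.card k ≠ 3) {w : Module.End k M} (hw : Perp G w)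
    {x a : Module.End k M} (hx : x ∈ Lie G) (ha : IsMin G a) :
    (x * a - a * x) * w * a + a * w * (x * a - a * x) = 0 := by
  obtain ⟨c, hc⟩ : ∃ c, c = x * a - a * x := ⟨_, rfl⟩
  obtain ⟨b, hb⟩ : ∃ b, b = x * a * x := ⟨_, rfl⟩
  rw [← hc]
  refine odd_zero hk2 hk3 (A₀ := a * w * a) (A₂ := c * w * c - a * w * b - b * w * a)
    (A₃ := -(c * w * b + b * w * c)) (A₄ := b * w * b) fun t => ?_
  have h := hw _ (cj_scaled hx ha t)
  rw [← hc, ← hb] at h
  rw [← h]
  simp only [add_mul, mul_add, sub_mul, mul_sub, smul_mul_assoc, mul_smul_comm, smul_smul, smul_add, smul_sub]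
  module

theorem Perp.bracket (hk2 : (2 : k) ≠ 0) (hk3 : Nat.card k ≠ 3) {q : Module.End k M} (hq : Perp G q)
    {x : Module.End k M} (hx : IsMin G x) : Perp G (q * x - x * q) := fun a ha => by
  have h := Perp.comm hk2 hk3 hq hx.1 ha
  have e : a * (q * x - x * q) * a =
      (x * a - a * x) * q * a + a * q * (x * a - a * x) - x * (a * q * a) + (a * q * a) * x := by noncomm_ring
  rw [e, h, hq a ha]
  simp

/-- `(a q)^n a = 0` forces `a q a = 0`. -/
theorem perp_of_nil (hk2 : (2 : k) ≠ 0) (hk3 : Nat.card k ≠ 3) {q : Module.End k M} (hq : q ∈ Lie G)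
    (h : ∀ a, IsMin G a → Nil a q) : Perp G q := by
  intro a ha
  obtain ⟨n, hn⟩ := h a ha
  have sqa : a * a = 0 := ha.1.1
  set v := q * a * q * a - a * q * a * q with hv
  set u := a * q * a with hu
  have hc : ∀ t : k, t * t = 1 → (2 * t) • u + v ∈ Lie G ∧ u * q * u = 0 := by
    intro t ht
    have hb := cj_scaled hq ha t
    set at' := a + t • (q * a - a * q) - (t * t) • (q * a * q) with hat
    have e1 : a * at' = t • u - a * q * a * q := by
      rw [hat, ht, one_smul, mul_sub, mul_add, mul_smul_comm, mul_sub, ← mul_assoc a q a, ← mul_assoc a a q,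
        sqa, zero_mul, zero_add, sub_zero, ← hu, ← mul_assoc a, ← mul_assoc a, ← hu]
    have e2 : at' * a = -(t • u) - q * a * q * a := by
      rw [hat, ht, one_smul, sub_mul, add_mul, smul_mul_assoc, sub_mul, mul_assoc q a a, sqa, mul_zero, zero_add,
        zero_sub, smul_neg, ← hu]
    have e3 : a * at' * a = -(u * q * a) := by
      rw [e1, sub_mul, smul_mul_assoc, hu, mul_assoc (a * q) a a, sqa, mul_zero, smul_zero, zero_sub]
    rcases uni_or_opp hk2 hk3 ha hb with huni | ho
    · refine ⟨?_, ?_⟩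
      · have := QuadPairUnipotent.lie_comm ha.1 hb.1 huni.1 huni.2
        rw [e1, e2] at this
        rw [show (2 * t) • u + v = t • u - a * q * a * q - (-(t • u) - q * a * q * a) by
          rw [mul_smul, two_smul, hv]; abel]
        exact this
      · have h1 := huni.1
        rw [e3, neg_eq_zero] at h1
        calc u * q * u = u * q * a * (q * a) := by rw [hu]; simp only [mul_assoc]
          _ = 0 := by rw [h1, zero_mul]
    · exfalso
      have hpow : ∀ j : ℕ, (a * at') ^ j * a = ((-1 : k) ^ j) • (a * (q * a) ^ (2 * j)) := by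
        intro j
        induction j with
        | zero => simp
        | succ j ih =>
          rw [pow_succ', mul_assoc, ih, mul_smul_comm, ← mul_assoc (a * at') a, e3,
            show 2 * (j + 1) = 2 * j + 1 + 1 by ring, pow_succ' (q * a) (2 * j + 1), pow_succ' (q * a) (2 * j),
            pow_succ (-1 : k), mul_neg_one, neg_smul, neg_mul, smul_neg, hu]
          simp only [mul_assoc]
      have hswap : ∀ i : ℕ, (a * q) ^ i * a = a * (q * a) ^ i := by
        intro i
        induction i with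
        | zero => simp
        | succ i ih' => rw [pow_succ', mul_assoc, ih', pow_succ' (q * a)]; simp only [mul_assoc]
      have hne : ∀ j : ℕ, (a * at') ^ j * a ≠ 0 := by
        intro j
        induction j with
        | zero => simpa using ha.2.1
        | succ j ih =>
          intro h0
          apply ih
          refine LinearMap.ext fun x => ?_
          have hy : ((a * at') ^ j * a) x ∈ LinearMap.range a := by
            cases j with
            | zero => exact ⟨x, by simp⟩
            | succ i => exact ⟨at' (((a * at') ^ i * a) x), by rw [pow_succ', mul_assoc (a * at')]; rfl⟩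
          have h0' : a (at' (((a * at') ^ j * a) x)) = 0 := by
            rw [pow_succ', mul_assoc] at h0
            exact LinearMap.congr_fun h0 x
          have h2 : at' (((a * at') ^ j * a) x) = 0 :=
            (Submodule.mem_bot k).1 (ho.2 ▸ ⟨⟨_, rfl⟩, LinearMap.mem_ker.2 h0'⟩)
          exact (Submodule.mem_bot k).1 (ho.1 ▸ ⟨hy, LinearMap.mem_ker.2 h2⟩)
      apply hne n
      rw [hpow, ← hswap, two_mul, pow_add, mul_assoc, hn, mul_zero, smul_zero]
  obtain ⟨h1, huu⟩ := hc 1 (one_mul 1)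
  obtain ⟨h2, -⟩ := hc (-1) (by ring)
  have uu : u * u = 0 := by
    rw [hu, ← mul_assoc, ← mul_assoc, mul_assoc (a * q) a a, sqa, mul_zero, zero_mul, zero_mul]
  have sqq : q * q = 0 := hq.1
  have huq : a * q * a * q * a * q * a = 0 := by
    rw [show a * q * a * q * a * q * a = u * q * u by rw [hu]; simp only [mul_assoc], huu]
  have huv : u * v = 0 := by
    rw [hv, hu, mul_sub]
    simp only [← mul_assoc]
    rw [huq, mul_assoc (a * q) a a, sqa]
    simp
  have hvu : v * u = 0 := by
    rw [hv, hu, sub_mul]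
    simp only [← mul_assoc]
    rw [huq, mul_assoc (q * a * q) a a, sqa]
    simp
  have hvv : v * v = 0 := by
    rw [hv, hu, sub_mul, mul_sub, mul_sub]
    simp only [← mul_assoc]
    rw [show q * a * q * a * q * a * q * a = q * (a * q * a * q * a * q * a) by simp only [mul_assoc],
      huq, mul_assoc (q * a * q) a a, sqa, mul_assoc (a * q * a) q q, sqq]
    simp
  have hz : ((2 * (1 : k)) • u + v) * ((2 * (-1 : k)) • u + v) = 0 ∧
      ((2 * (-1 : k)) • u + v) * ((2 * (1 : k)) • u + v) = 0 := by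
    constructor <;> simp [add_mul, mul_add, uu, huv, hvu, hvv]
  have h3 := Lie.smul (Lie.add h1 (Lie.neg h2) (by rw [mul_neg, hz.1, neg_zero])
    (by rw [neg_mul, hz.2, neg_zero])) ((4 : k)⁻¹)
  have h4ne : (4 : k) ≠ 0 := by
    rw [show (4 : k) = 2 * 2 by norm_num]; exact mul_ne_zero hk2 hk2
  have hul : u ∈ Lie G := by
    have e : (2 * (1 : k)) • u + v + -((2 * (-1 : k)) • u + v) = (4 : k) • u := by module
    rwa [e, smul_smul, inv_mul_cancel₀ h4ne, one_smul] at h3
  by_contra hne
  have hucls : u ∈ cls G ha.1.1 := ⟨hul,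
    by rw [hu, mul_assoc]; exact LinearMap.range_comp_le_range _ _, fun y hy => by
      show a (q (a y)) = 0
      rw [LinearMap.mem_ker.1 hy, map_zero, map_zero]⟩
  obtain ⟨-, hur, -⟩ := cls_spaces ha hucls hne
  refine hne (LinearMap.ext fun y => ?_)
  obtain ⟨y', hy'⟩ : a y ∈ LinearMap.range u := hur ▸ ⟨y, rfl⟩
  show a (q (a y)) = 0
  rw [← hy']
  obtain ⟨y'', hy''⟩ : a y' ∈ LinearMap.range u := hur ▸ ⟨y', rfl⟩
  show a (q (a (q (a y')))) = 0
  rw [← hy'']
  exact LinearMap.congr_fun huq y''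

theorem diff_lie (hk2 : (2 : k) ≠ 0) {q : Module.End k M} (hq : q ∈ Lie G) (hP : Perp G q) {x : Module.End k M}
    (hx : IsMin G x) :
    q * x - x * q ∈ Lie G ∧ q * x * q ∈ Lie G ∧
      ∃ m₁ m₂, IsMin G m₁ ∧ IsMin G m₂ ∧ q * x - x * q = (2⁻¹ : k) • (m₁ - m₂) := by
  have sqx : x * x = 0 := hx.1.1
  have sqq : q * q = 0 := hq.1
  have p : x * q * x = 0 := hP x hx
  obtain ⟨c, hc⟩ : ∃ c, c = q * x - x * q := ⟨_, rfl⟩
  obtain ⟨b, hb⟩ : ∃ b, b = q * x * q := ⟨_, rfl⟩
  rw [← hc, ← hb]
  have xc : x * c = 0 := by rw [hc, mul_sub, ← mul_assoc, p, ← mul_assoc, sqx]; simp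
  have cx : c * x = 0 := by rw [hc, sub_mul, p, mul_assoc q, sqx]; simp
  have xb : x * b = 0 := by rw [hb, ← mul_assoc, ← mul_assoc, p]; simp
  have bx : b * x = 0 := by
    rw [hb, show q * x * q * x = q * (x * q * x) by simp only [mul_assoc], p]; simp
  have cc : c * c = 0 := by
    rw [hc, show (q * x - x * q) * (q * x - x * q) =
      q * (x * q * x) + (x * q * x) * q - q * (x * x) * q - x * (q * q) * x by noncomm_ring, p, sqx, sqq]
    simp
  have cb : c * b = 0 := by
    rw [hc, hb, show (q * x - x * q) * (q * x * q) = q * (x * q * x) * q - x * (q * q) * x * q by noncomm_ring,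
      p, sqq]
    simp
  have bc : b * c = 0 := by
    rw [hc, hb, show q * x * q * (q * x - x * q) = q * x * (q * q) * x - q * (x * q * x) * q by noncomm_ring,
      p, sqq]
    simp
  have bb : b * b = 0 := by
    rw [hb, show q * x * q * (q * x * q) = q * x * (q * q) * x * q by noncomm_ring, sqq]; simp
  have m1 := cj_scaled hq hx (1 : k)
  have m2 := cj_scaled hq hx (-1 : k)
  rw [← hc, ← hb] at m1 m2
  simp only [one_mul, one_smul, neg_mul_neg, neg_smul] at m1 m2
  have h1 := Lie.smul (Lie.add m1.1 (Lie.neg m2.1)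
    (by simp [mul_add, add_mul, mul_sub, sub_mul, sqx, xc, cx, xb, bx, cc, cb, bc, bb])
    (by simp [mul_add, add_mul, mul_sub, sub_mul, sqx, xc, cx, xb, bx, cc, cb, bc, bb])) (2⁻¹ : k)
  have e1 : x + c - b + -(x + -c - b) = (2 : k) • c := by module
  rw [e1, smul_smul, inv_mul_cancel₀ hk2, one_smul] at h1
  refine ⟨h1, ?_, _, _, m1, m2, ?_⟩
  · have h2 := Lie.add (Lie.add (Lie.neg m1.1) h1
      (by simp [mul_add, add_mul, mul_sub, sub_mul, xc, cx, cc, cb, bc])
      (by simp [mul_add, add_mul, mul_sub, sub_mul, xc, cx, cc, cb, bc])) hx.1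
      (by simp [mul_add, add_mul, mul_sub, sub_mul, sqx, cx, bx])
      (by simp [mul_add, add_mul, mul_sub, sub_mul, sqx, xc, xb])
    rwa [show -(x + c - b) + c + x = b by abel] at h2
  · rw [show x + c - b - (x + -c - b) = (2 : k) • c by module, smul_smul, inv_mul_cancel₀ hk2, one_smul]

/-- `q x q = 0`. -/
theorem perp_right (hk2 : (2 : k) ≠ 0) (hk3 : Nat.card k ≠ 3) (hG : QuadPairUnipotent.Reduced G) {q : Module.End k M}
    (hq : q ∈ Lie G) (hP : Perp G q) {x : Module.End k M} (hx : IsMin G x) : q * x * q = 0 := by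
  by_contra hne
  obtain ⟨-, hy, -⟩ := diff_lie hk2 hq hP hx
  have hym : IsMin G (q * x * q) := by
    refine hx.of_rk_le hy hne ((Submodule.finrank_mono
      (show LinearMap.range (q * x * q) ≤ LinearMap.range (q * x) from LinearMap.range_comp_le_range q (q * x))).trans ?_)
    show Module.finrank k (LinearMap.range (q ∘ₗ x)) ≤ _
    rw [LinearMap.range_comp]
    exact Submodule.finrank_map_le q _
  have hPy : Perp G (q * x * q) := by
    intro a ha
    have h := Perp.comm hk2 hk3 (Perp.bracket hk2 hk3 hP hx) hq ha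
    have hqq : q * q = 0 := hq.1
    set w := q * x - x * q with hw
    have hwa : a * w * a = 0 := Perp.bracket hk2 hk3 hP hx a ha
    have e : (q * a - a * q) * w * a + a * w * (q * a - a * q) =
        q * (a * w * a) - (a * w * a) * q + a * (w * q - q * w) * a := by noncomm_ring
    rw [e, hwa, mul_zero, zero_mul, sub_zero, zero_add] at h
    have e2 : w * q - q * w = (2 : k) • (q * x * q) := by
      rw [hw, two_smul, show (q * x - x * q) * q - q * (q * x - x * q) =
        q * x * q + q * x * q - x * (q * q) - (q * q) * x by noncomm_ring, hqq]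
      simp
    rw [e2, mul_smul_comm, smul_mul_assoc] at h
    exact (smul_eq_zero.1 h).resolve_left hk2
  obtain ⟨b, hb, ho⟩ := QuadPairUnipotent.exists_opp hk2 hk3 hG hym
  obtain ⟨b', hb', hb0, hd⟩ := exists_dual hk2 hk3 hym hb ho
  have hbm := (cls_spaces hb hb' hb0).1
  exact hb0 (by rw [← hd.bab, hPy b' hbm])

/-- A pair of elements whose alternating products of length three vanish generates a unipotent group. -/
theorem unipotent_pair {c d : Module.End k M} (cc : c * c = 0) (dd : d * d = 0) (cdc : c * d * c = 0)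
    (dcd : d * c * d = 0) : IsUnipotentOn (Subgroup.closure (QuadPairSL2.fam c) ⊔ Subgroup.closure (QuadPairSL2.fam d)) := by
  set S : Set (Module.End k M) := {c, d, c * d, d * c}
  set N := Submodule.span k S
  have key : ∀ x ∈ S, ∀ y ∈ S, x * y ∈ N ∧ ∀ w ∈ S, x * y * w = 0 := by
    intro x hx y hy
    simp only [S, Set.mem_insert_iff, Set.mem_singleton_iff] at hx hy
    have m1 : c * d ∈ N := Submodule.subset_span (by simp [S])
    have m2 : d * c ∈ N := Submodule.subset_span (by simp [S])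
    have a1 : ∀ w, c * (c * w) = 0 := fun w => by rw [← mul_assoc, cc, zero_mul]
    have a2 : ∀ w, d * (d * w) = 0 := fun w => by rw [← mul_assoc, dd, zero_mul]
    have a3 : ∀ w, c * (d * (c * w)) = 0 := fun w => by rw [← mul_assoc, ← mul_assoc, cdc, zero_mul]
    have a4 : ∀ w, d * (c * (d * w)) = 0 := fun w => by rw [← mul_assoc, ← mul_assoc, dcd, zero_mul]
    rw [mul_assoc] at cdc dcd
    rcases hx with rfl | rfl | rfl | rfl <;> rcases hy with rfl | rfl | rfl | rfl <;>
      refine ⟨by simp [mul_assoc, cc, dd, cdc, dcd, a1, a2, a3, a4, m1, m2], fun w hw => ?_⟩ <;>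
      simp only [S, Set.mem_insert_iff, Set.mem_singleton_iff] at hw <;>
      rcases hw with rfl | rfl | rfl | rfl <;>
      simp [mul_assoc, cc, dd, cdc, dcd, a1, a2, a3, a4]
  have hN : S5061.IsNilAlg N := by
    refine ⟨?_, 2, ?_⟩
    · rw [Submodule.span_mul_span, Submodule.span_le]
      rintro _ ⟨x, hx, y, hy, rfl⟩
      exact (key x hx y hy).1
    · rw [pow_succ, pow_two, Submodule.span_mul_span, Submodule.span_mul_span, eq_bot_iff, Submodule.span_le]
      rintro _ ⟨_, ⟨x, hx, y, hy, rfl⟩, w, hw, rfl⟩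
      exact (key x hx y hy).2 w hw
  refine S5061.isUnipotentOn_of_le hN fun g hg => (sup_le ?_ ?_ : _ ≤ S5061.onePlus hN) hg <;>
    refine (Subgroup.closure_le _).2 ?_ <;>
    rintro x ⟨t, ht⟩ <;>
    refine (S5061.mem_onePlus hN).2 ?_ <;>
    rw [ht, add_sub_cancel_left] <;>
    exact Submodule.smul_mem _ t (Submodule.subset_span (by simp [S]))

theorem conjBy_closure_fam {c : Module.End k M} (g : LinearMap.GeneralLinearGroup k M) :
    conjBy (Subgroup.closure (QuadPairSL2.fam c)) g = Subgroup.closure (QuadPairSL2.fam (cj g c)) := by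
  rw [conjBy, MonoidHom.map_closure]
  congr 1
  ext y
  constructor
  · rintro ⟨x, ⟨t, ht⟩, rfl⟩
    refine ⟨t, ?_⟩
    show ((g * x * g⁻¹ : LinearMap.GeneralLinearGroup k M) : Module.End k M) = _
    rw [← cj_coe, ht, cj_add, cj_one, cj_smul]
  · rintro ⟨t, ht⟩
    refine ⟨g⁻¹ * y * g, ⟨t, ?_⟩, by simp [mul_assoc]⟩
    have : g⁻¹ * y * g = g⁻¹ * y * g⁻¹⁻¹ := by rw [inv_inv]
    rw [this, ← cj_coe, ht, cj_add, cj_one, cj_smul, cj_inv_cancel]

/-- **The centralising case.** -/
theorem commutes (hk2 : (2 : k) ≠ 0) (hk3 : Nat.card k ≠ 3) (hG : QuadPairUnipotent.Reduced G) {q : Module.End k M}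
    (hq : q ∈ Lie G) (h : ∀ a, IsMin G a → Nil a q) {a : Module.End k M} (ha : IsMin G a) :
    q * a = a * q := by
  have hP := perp_of_nil hk2 hk3 hq h
  obtain ⟨c, hc⟩ : ∃ c, c = q * a - a * q := ⟨_, rfl⟩
  obtain ⟨hcl, -, m₁, m₂, hm₁, hm₂, hce⟩ := diff_lie hk2 hq hP ha
  rw [← hc] at hcl hce
  have hcP : Perp G c := hc ▸ Perp.bracket hk2 hk3 hP ha
  have hmid : ∀ {g}, g ∈ G → ∀ {g'}, g' ∈ G → cj g c * cj g' c * cj g c = 0 := by
    intro g hg g' hg'
    conv_lhs => arg 1; arg 2; rw [hce, cj_smul, cj_sub]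
    rw [mul_smul_comm, smul_mul_assoc, mul_sub, sub_mul,
      perp_right hk2 hk3 hG (Lie.conj hcl hg) (hcP.conj hg) (hm₁.conj hg'),
      perp_right hk2 hk3 hG (Lie.conj hcl hg) (hcP.conj hg) (hm₂.conj hg'), sub_self, smul_zero]
  set W : Set (Subgroup (LinearMap.GeneralLinearGroup k M)) :=
    {A | ∃ g ∈ G, A = Subgroup.closure (QuadPairSL2.fam (cj g c))}
  have hWG : ∀ A ∈ W, A ≤ G := by
    rintro _ ⟨g, hg, rfl⟩
    refine (Subgroup.closure_le _).2 ?_
    rintro x ⟨t, ht⟩
    obtain ⟨y, hy, hye⟩ := (Lie.conj hcl hg).2 t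
    rw [show x = y from Units.ext (ht.trans hye.symm)]
    exact hy
  have hconj : ∀ A ∈ W, ∀ g ∈ G, conjBy A g ∈ W := by
    rintro _ ⟨g, hg, rfl⟩ x hx
    exact ⟨x * g, mul_mem hx hg, by rw [conjBy_closure_fam, cj_comp]⟩
  have hu : IsUnipotentOn (⨆ A ∈ W, A) := by
    refine S5061.join_isUnipotent hWG ?_ hconj
    rintro _ ⟨g, hg, rfl⟩ _ ⟨g', hg', rfl⟩
    exact unipotent_pair (Lie.conj hcl hg).1 (Lie.conj hcl hg').1 (hmid hg hg') (hmid hg' hg)
  have himg : ∀ y ∈ G, conjBy (⨆ A ∈ W, A) y ≤ ⨆ A ∈ W, A := fun y hy => by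
    rw [conjBy, Subgroup.map_iSup]
    refine iSup_le fun A => ?_
    rw [Subgroup.map_iSup]
    exact iSup_le fun hA => le_iSup₂_of_le _ (hconj A hA y hy) le_rfl
  have hbot := hG _ (iSup₂_le hWG) (fun x hx => le_antisymm (himg x hx) (by
    have := Subgroup.map_mono (f := (MulAut.conj x).toMonoidHom) (himg _ (inv_mem hx))
    change conjBy (conjBy _ x⁻¹) x ≤ conjBy _ x at this
    rwa [RankOne.conjBy_conjBy_inv] at this)) hu
  have hmem : unitOf c hcl.1 ∈ ⨆ A ∈ W, A :=
    Subgroup.mem_iSup_of_mem (Subgroup.closure (QuadPairSL2.fam (cj 1 c)))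
      (Subgroup.mem_iSup_of_mem ⟨1, one_mem _, rfl⟩ (Subgroup.subset_closure ⟨1, by
        rw [unitOf_coe, one_smul, cj, inv_one, Units.val_one, one_mul, mul_one]⟩))
  rw [hbot, Subgroup.mem_bot] at hmem
  have := nl_unitOf c hcl.1
  rw [hmem, nl_eq_zero.2 rfl] at this
  rw [← sub_eq_zero, ← hc]
  exact this.symm

end Cfsg.Agent.QuadPairCentral
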