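import Mathlib
import Cfsg.Agent.Lib.SymplecticBasic
import Cfsg.Agent.Lib.SymplecticOrder
import Cfsg.Agent.Lib.SymplecticSimple

/-!
Transvections of the symplectic group: characterisation, equality, centralisers, products.
-/

set_option autoImplicit false

open Matrix Cfsg.Agent.SymplecticBasic Cfsg.Agent.SymplecticSimple

namespace Cfsg.Agent.SymplecticTransv

variable {F : Type*} [Field F] {m : ℕ}

theorem transv_ne_one {v : Fin m ⊕ Fin m → F} (hv : v ≠ 0) {c : F} (hc : c ≠ 0) :
    transv v c ≠ 1 := by
  intro h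
  obtain ⟨z, hz⟩ := exists_form_eq_one hv
  have := congrArg (fun t : symplecticGroup (Fin m) F => t • z) h
  simp only [transv_smul, one_smul, add_eq_left, smul_eq_zero, mul_eq_zero] at this
  rcases this with (h1 | h1) | h1
  · exact hc h1
  · rw [form_swap v z, hz] at h1; norm_num at h1
  · exact hv h1

theorem rank_transv_sub_one {v : Fin m ⊕ Fin m → F} (hv : v ≠ 0) {c : F} (hc : c ≠ 0) :
    ((transv v c : Matrix (Fin m ⊕ Fin m) (Fin m ⊕ Fin m) F) - 1).rank = 1 := by
  rw [coe_transv, sympTransvection, add_sub_cancel_left, ← Matrix.smul_vecMulVec]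
  refine le_antisymm (Matrix.rank_vecMulVec_le _ _) (Nat.one_le_iff_ne_zero.mpr fun h => ?_)
  have h0 : Matrix.vecMulVec (c • v) (J (Fin m) F *ᵥ v) = 0 := by
    rw [Matrix.rank, Submodule.finrank_eq_zero, LinearMap.range_eq_bot] at h
    exact Matrix.mulVec_injective (funext fun x => by
      rw [Matrix.zero_mulVec, ← Matrix.mulVecLin_apply, h, LinearMap.zero_apply])
  rw [Matrix.vecMulVec_eq_zero] at h0
  revert h0; intro h
  rcases h with h | h
  · exact smul_ne_zero hc hv h
  · exact hv (form_nondeg fun x => by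
      rw [form_swap x v, sympForm, h, dotProduct_zero, neg_zero])

theorem exists_transv_of_rank {g : symplecticGroup (Fin m) F}
    (h : ((g : Matrix (Fin m ⊕ Fin m) (Fin m ⊕ Fin m) F) - 1).rank = 1) :
    ∃ v c, v ≠ 0 ∧ c ≠ 0 ∧ g = transv v c := by
  set M := (g : Matrix (Fin m ⊕ Fin m) (Fin m ⊕ Fin m) F) - 1 with hM
  rw [Matrix.rank] at h
  obtain ⟨⟨v, hv⟩, hv0, hall⟩ := finrank_eq_one_iff'.mp h
  have hv' : v ≠ 0 := fun e => hv0 (Subtype.ext e)
  have hx : ∀ x, ∃ a : F, g • x = x + a • v := by
    intro x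
    obtain ⟨a, ha⟩ := hall ⟨M *ᵥ x, ⟨x, rfl⟩⟩
    refine ⟨a, ?_⟩
    rw [show a • v = M *ᵥ x from congrArg Subtype.val ha, hM, Matrix.sub_mulVec, Matrix.one_mulVec,
      smul_def]
    abel
  choose a ha using hx
  obtain ⟨z, hz⟩ := exists_form_eq_one hv'
  have key : ∀ x y, a x * sympForm m F v y + a y * sympForm m F x v = 0 := by
    intro x y
    have := form_map g x y
    rw [ha, ha, form_add_left, form_add_right, form_add_right, form_smul_left, form_smul_left,
      form_smul_right, form_smul_right, form_self] at this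
    linear_combination this
  have heq : g = transv v (- a z) := by
    refine ext_smul fun x => ?_
    rw [ha, transv_smul]
    have := key x z
    rw [hz] at this
    congr 2
    linear_combination this
  refine ⟨v, - a z, hv', fun e => ?_, heq⟩
  rw [e, transv_zero] at heq
  have : M = 0 := by rw [hM, heq, Submonoid.coe_one, sub_self]
  rw [← Matrix.rank, this, Matrix.rank_zero] at h
  exact absurd h zero_ne_one

theorem transv_eq_transv {v w : Fin m ⊕ Fin m → F} (hv : v ≠ 0) {c : F} (hc : c ≠ 0)
    (h : transv w c = transv v c) : w = v ∨ w = -v := by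
  obtain ⟨z, hz⟩ := exists_form_eq_one hv
  have hzv : sympForm m F z v ≠ 0 := by rw [form_swap v z, hz]; norm_num
  have hx : ∀ x, (c * sympForm m F x w) • w = (c * sympForm m F x v) • v := fun x => by
    have := congrArg (fun t : symplecticGroup (Fin m) F => t • x) h
    simpa only [transv_smul, add_right_inj] using this
  have hzw : sympForm m F z w ≠ 0 := fun e => by
    have := hx z
    rw [e, mul_zero, zero_smul, eq_comm, smul_eq_zero] at this
    rcases this with h1 | h1
    · exact (mul_ne_zero hc hzv) h1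
    · exact hv h1
  obtain ⟨a, rfl⟩ : ∃ a : F, w = a • v :=
    ⟨(c * sympForm m F z w)⁻¹ * (c * sympForm m F z v), by
      rw [mul_smul, ← hx z, inv_smul_smul₀ (mul_ne_zero hc hzw)]⟩
  have h2 := hx z
  rw [form_smul_right, smul_smul] at h2
  have h3 := smul_left_injective F hv h2
  rcases sq_eq_one_iff.mp (show a ^ 2 = 1 from
    mul_left_cancel₀ (mul_ne_zero hc hzv) (by linear_combination h3)) with rfl | rfl
  · exact Or.inl (one_smul _ _)
  · exact Or.inr (by module)

theorem centralizer_transv [CharP F 2] {v : Fin m ⊕ Fin m → F} (hv : v ≠ 0) {c : F} (hc : c ≠ 0) :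
    Subgroup.centralizer ({transv v c} : Set (symplecticGroup (Fin m) F)) =
      MulAction.stabilizer (symplecticGroup (Fin m) F) v := by
  ext g
  rw [Subgroup.mem_centralizer_singleton_iff, MulAction.mem_stabilizer_iff]
  constructor
  · intro h
    have h1 : transv (g • v) c = transv v c := by
      rw [← transv_conj, h, mul_inv_cancel_right]
    rcases transv_eq_transv hv hc h1 with e | e
    · exact e
    · rw [e]; funext i; exact CharTwo.neg_eq _
  · intro h
    have := transv_conj g v c
    rw [h] at this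
    nth_rewrite 2 [← this]
    group

theorem card_stabilizer [Fintype F] {q : ℕ} (hF : Fintype.card F = q) (hm : 1 ≤ m)
    {v : Fin m ⊕ Fin m → F} (hv : v ≠ 0) :
    Nat.card (MulAction.stabilizer (symplecticGroup (Fin m) F) v) =
      q ^ (2 * m - 1) * (q ^ ((m - 1) ^ 2) * ∏ i : Fin (m - 1), (q ^ (2 * ((i : ℕ) + 1)) - 1)) := by
  classical
  have horb : MulAction.orbit (symplecticGroup (Fin m) F) v = {w | w ≠ 0} := by
    ext w
    constructor
    · rintro ⟨g, rfl⟩ h
      exact hv (MulAction.injective g (by rw [h]; simp [smul_def]))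
    · intro hw
      exact exists_smul_eq hv hw
  have hcard : Nat.card {w : Fin m ⊕ Fin m → F | w ≠ 0} = q ^ (2 * m) - 1 := by
    rw [show Nat.card {w : Fin m ⊕ Fin m → F | w ≠ 0} = Nat.card {w : Fin m ⊕ Fin m → F // w ≠ 0}
      from rfl, Nat.card_eq_fintype_card, Fintype.card_subtype_compl, Fintype.card_subtype_eq,
      Fintype.card_fun, hF]
    simp [two_mul]
  have h := Nat.card_congr (MulAction.orbitProdStabilizerEquivGroup (symplecticGroup (Fin m) F) v)
  rw [Nat.card_prod, SymplecticOrder.card_symplectic hF, horb, hcard] at h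
  obtain ⟨k, rfl⟩ : ∃ k, m = k + 1 := ⟨m - 1, by omega⟩
  have hq : 1 < q := hF ▸ Fintype.one_lt_card
  have hpos : 0 < q ^ (2 * (k + 1)) - 1 :=
    Nat.sub_pos_of_lt (Nat.one_lt_pow (by omega) hq)
  refine Nat.eq_of_mul_eq_mul_left hpos ?_
  rw [h, Finset.prod_range_succ, show k + 1 - 1 = k from rfl,
    Finset.prod_range (fun i => q ^ (2 * (i + 1)) - 1), show 2 * (k + 1) - 1 = 2 * k + 1 by omega]
  ring

theorem transv_mul_sq_of_perp {v w : Fin m ⊕ Fin m → F} (h2 : (2 : F) = 0)
    (h : sympForm m F v w = 0) : (transv v 1 * transv w 1) ^ 2 = 1 := by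
  refine ext_smul fun x => ?_
  simp only [pow_two, mul_smul, transv_smul, one_smul, one_mul, form_add_left, form_smul_left,
    form_self, h, (form_eq_zero_comm.mp h), mul_zero, add_zero]
  generalize sympForm m F x v = p, sympForm m F x w = r
  calc _ = x + (2 : F) • (p • v + r • w) := by module
    _ = x := by rw [h2, zero_smul, add_zero]

theorem transv_mul_cube {v w : Fin m ⊕ Fin m → F} (h2 : (2 : F) = 0)
    (h : sympForm m F v w = 1) : (transv v 1 * transv w 1) ^ 3 = 1 := by
  have hc : CharP F 2 := CharTwo.of_one_ne_zero_of_two_eq_zero one_ne_zero h2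
  have h' : sympForm m F w v = 1 := by rw [form_swap v w, h, CharTwo.neg_eq]
  have hw : transv w 1 • v = v + w := by
    rw [transv_smul, h]; simp
  have hvw : transv v 1 • w = v + w := by
    rw [transv_smul, h', one_mul, one_smul, add_comm]
  have hs : transv v (1 : F) * transv v 1 = 1 := by
    rw [transv_add, CharTwo.add_self_eq_zero, transv_zero]
  have hsw : transv w (1 : F) * transv w 1 = 1 := by
    rw [transv_add, CharTwo.add_self_eq_zero, transv_zero]
  have e1 := transv_conj (transv w 1) v (1 : F)
  have e2 := transv_conj (transv v 1) w (1 : F)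
  rw [hw, inv_eq_of_mul_eq_one_right hsw] at e1
  rw [hvw, inv_eq_of_mul_eq_one_right hs] at e2
  generalize transv v (1 : F) = a, transv w (1 : F) = b, transv (v + w) (1 : F) = d at *
  calc (a * b) ^ 3 = (a * b * a) * (b * a * b) := by simp [pow_three, mul_assoc]
    _ = d * d := by rw [e1, e2]
    _ = (a * b * a) * (a * b * a) := by rw [e2]
    _ = a * b * (a * a) * b * a := by group
    _ = a * (b * b) * a := by rw [hs]; group
    _ = 1 := by rw [hsw, mul_one, hs]

end Cfsg.Agent.SymplecticTransv
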