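import Mathlib
import Cfsg.Prelude.Def_RootSubgroups
import Cfsg.Agent.Lib.SymplecticBasic
import Cfsg.Agent.Lib.SymplecticSimple
import Cfsg.Agent.Lib.SymplecticTransv

/-!
The transvection groups of the symplectic group as abstract root subgroups.
-/

set_option autoImplicit false

open Matrix Cfsg.Agent.SymplecticBasic Cfsg.Agent.SymplecticSimple Cfsg.Agent.SymplecticTransv

namespace Cfsg.Agent.SymplecticRootGroups

variable {F : Type*} [Field F] {m : ℕ}

/-- The transvection group of a point. -/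
def tGroup (v : Fin m ⊕ Fin m → F) : Subgroup (symplecticGroup (Fin m) F) := (transvHom v).range

theorem mem_tGroup {v : Fin m ⊕ Fin m → F} {g : symplecticGroup (Fin m) F} :
    g ∈ tGroup v ↔ ∃ c, g = transv v c :=
  ⟨fun ⟨c, hc⟩ => ⟨c.toAdd, hc.symm⟩, fun ⟨c, hc⟩ => ⟨Multiplicative.ofAdd c, hc.symm⟩⟩

theorem closure_eq_tGroup (p : Fin m ⊕ Fin m → F) :
    Subgroup.closure {g : symplecticGroup (Fin m) F | ∃ c : F, ∀ v : Fin m ⊕ Fin m → F,
      (g : Matrix (Fin m ⊕ Fin m) (Fin m ⊕ Fin m) F) *ᵥ v =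
        v + (c * (v ⬝ᵥ (J (Fin m) F *ᵥ p))) • p} = tGroup p := by
  refine le_antisymm ((Subgroup.closure_le _).mpr fun g ⟨c, hc⟩ => ?_) fun g hg => ?_
  · refine mem_tGroup.mpr ⟨c, ext_smul fun x => ?_⟩
    rw [transv_smul, smul_def, hc]; rfl
  · obtain ⟨c, rfl⟩ := mem_tGroup.mp hg
    exact Subgroup.subset_closure ⟨c, fun x => transvection_mulVec p c x⟩

theorem conjBy_tGroup (g : symplecticGroup (Fin m) F) (v : Fin m ⊕ Fin m → F) :
    Cfsg.conjBy (tGroup v) g = tGroup (g • v) := by
  ext h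
  simp only [Subgroup.mem_map, mem_tGroup]
  constructor
  · rintro ⟨_, ⟨c, rfl⟩, rfl⟩
    exact ⟨c, transv_conj g v c⟩
  · rintro ⟨c, rfl⟩
    exact ⟨_, ⟨c, rfl⟩, transv_conj g v c⟩

theorem tGroup_scale {a : F} (ha : a ≠ 0) (v : Fin m ⊕ Fin m → F) :
    tGroup (a • v) = tGroup v := by
  ext g
  simp only [mem_tGroup, transv_scale]
  exact ⟨fun ⟨c, h⟩ => ⟨_, h⟩, fun ⟨c, h⟩ => ⟨c / a ^ 2, by
    rw [mul_div_cancel₀ _ (pow_ne_zero 2 ha)]; exact h⟩⟩

theorem tGroup_ne_bot {v : Fin m ⊕ Fin m → F} (hv : v ≠ 0) : tGroup v ≠ ⊥ := fun h =>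
  transv_ne_one hv one_ne_zero (Subgroup.mem_bot.mp (h ▸ mem_tGroup.mpr ⟨1, rfl⟩))

theorem tGroup_commutative (v : Fin m ⊕ Fin m → F) : IsMulCommutative (tGroup v) := by
  refine ⟨⟨fun a b => Subtype.ext ?_⟩⟩
  obtain ⟨c, hc⟩ := mem_tGroup.mp a.2
  obtain ⟨d, hd⟩ := mem_tGroup.mp b.2
  show a.1 * b.1 = b.1 * a.1
  rw [hc, hd, transv_add, transv_add, add_comm]

theorem transv_comm_of_perp {u w : Fin m ⊕ Fin m → F} (h : sympForm m F u w = 0) (c d : F) :
    transv u c * transv w d = transv w d * transv u c := by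
  refine ext_smul fun x => ?_
  simp only [mul_smul, transv_smul, form_add_left, form_smul_left, h, form_eq_zero_comm.mp h,
    mul_zero, add_zero]
  module

theorem perp_of_commute {p u : Fin m ⊕ Fin m → F} (hp : p ≠ 0) (hu : u ≠ 0)
    (h : transv p (1 : F) * transv u 1 = transv u 1 * transv p 1) : sympForm m F u p = 0 := by
  have h1 : transv (transv p (1 : F) • u) (1 : F) = transv u 1 := by
    rw [← transv_conj, h, mul_inv_cancel_right]
  rcases transv_eq_transv hu one_ne_zero h1 with e | e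
  · rw [transv_smul, one_mul, add_eq_left, smul_eq_zero] at e
    exact e.resolve_right hp
  · rw [transv_smul, one_mul] at e
    have h2 := congrArg (fun y => sympForm m F y p) e
    simp only [form_add_left, form_smul_left, form_self, mul_zero, add_zero] at h2
    rw [show -u = (-1 : F) • u by module, form_smul_left] at h2
    have h3 : (2 : F) * sympForm m F u p = 0 := by linear_combination h2
    rcases mul_eq_zero.mp h3 with h4 | h4
    · have h5 : sympForm m F u p • p = (0 : Fin m ⊕ Fin m → F) := by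
        have : -u = u := by
          calc -u = u - (2 : F) • u := by module
            _ = u := by rw [h4, zero_smul, sub_zero]
        rw [this, add_eq_left] at e
        exact e
      exact (smul_eq_zero.mp h5).resolve_right hp
    · exact h4

theorem tGroup_ne_of_nonperp {u w : Fin m ⊕ Fin m → F} (h : sympForm m F u w ≠ 0) :
    tGroup u ≠ tGroup w := by
  intro e
  obtain ⟨d, hd⟩ := mem_tGroup.mp (e ▸ mem_tGroup.mpr ⟨(1 : F), rfl⟩ : transv u 1 ∈ tGroup w)
  have := congrArg (fun t : symplecticGroup (Fin m) F => t • w) hd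
  simp only [transv_smul, one_mul, form_self, mul_zero, zero_smul, add_zero, add_eq_left,
    smul_eq_zero] at this
  rcases this with h1 | h1
  · exact h (form_eq_zero_comm.mp h1)
  · exact h (by rw [h1, form_zero_left])

theorem rankOne_cond {u w : Fin m ⊕ Fin m → F} (h : sympForm m F u w ≠ 0) :
    Cfsg.RankOneCondition (tGroup u) (tGroup w) := by
  intro a ha ha1
  obtain ⟨c, rfl⟩ := mem_tGroup.mp ha
  have hc : c ≠ 0 := fun e => ha1 (by rw [e, transv_zero])
  have hw : w ≠ 0 := fun e => h (by rw [e, form_zero_right])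
  set s := sympForm m F u w with hs
  refine ⟨transv w (-(c * s ^ 2)⁻¹), mem_tGroup.mpr ⟨_, rfl⟩,
    transv_ne_one hw (neg_ne_zero.mpr (inv_ne_zero (mul_ne_zero hc (pow_ne_zero 2 h)))), ?_⟩
  rw [conjBy_tGroup, conjBy_tGroup, transv_inv, transv_inv, transv_smul, transv_smul, form_swap u w,
    ← hs]
  rw [show u + ((- -(c * s ^ 2)⁻¹) * s) • w = (c * s)⁻¹ • (w + (-c * -s) • u) by
      rw [smul_add, smul_smul, show (c * s)⁻¹ * (-c * -s) = 1 by field_simp, one_smul,
        show (- -(c * s ^ 2)⁻¹) * s = (c * s)⁻¹ by field_simp]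
      module]
  exact tGroup_scale (inv_ne_zero (mul_ne_zero hc h)) _

theorem rankOnePair {u w : Fin m ⊕ Fin m → F} (h : sympForm m F u w ≠ 0) :
    Cfsg.IsRankOnePair (tGroup u) (tGroup w) where
  ne := tGroup_ne_of_nonperp h
  nilpotent_left := by
    have := tGroup_commutative u
    letI : CommGroup (tGroup u) :=
      { (inferInstance : Group (tGroup u)) with mul_comm := this.is_comm.comm }
    exact CommGroup.isNilpotent
  nilpotent_right := by
    have := tGroup_commutative w
    letI : CommGroup (tGroup w) :=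
      { (inferInstance : Group (tGroup w)) with mul_comm := this.is_comm.comm }
    exact CommGroup.isNilpotent
  cond_left := rankOne_cond h
  cond_right := rankOne_cond (fun e => h (form_eq_zero_comm.mp e))

/-- The matrix of an element of `SL₂` acting on a hyperbolic plane. -/
def planeMat (u w : Fin m ⊕ Fin m → F) (M : Matrix (Fin 2) (Fin 2) F) :
    Matrix (Fin m ⊕ Fin m) (Fin m ⊕ Fin m) F :=
  1 + Matrix.vecMulVec ((M 0 0 - 1) • u + M 1 0 • w) (J (Fin m) F *ᵥ w)
    + Matrix.vecMulVec (M 0 1 • u + (M 1 1 - 1) • w) (-(J (Fin m) F *ᵥ u))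

theorem planeMat_mulVec (u w : Fin m ⊕ Fin m → F) (M : Matrix (Fin 2) (Fin 2) F)
    (x : Fin m ⊕ Fin m → F) :
    planeMat u w M *ᵥ x = x + sympForm m F x w • ((M 0 0 - 1) • u + M 1 0 • w)
      + sympForm m F u x • (M 0 1 • u + (M 1 1 - 1) • w) := by
  funext i
  rw [form_swap x u]
  simp [planeMat, Matrix.add_mulVec, Matrix.neg_mulVec, Matrix.vecMulVec_mulVec, sympForm,
    dotProduct_comm x, Pi.smul_apply]
  ring

/-- `SL₂` acting on a hyperbolic plane. -/
def planeHom {u w : Fin m ⊕ Fin m → F} (h : sympForm m F u w = 1) :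
    Matrix.SpecialLinearGroup (Fin 2) F →* symplecticGroup (Fin m) F where
  toFun M := ⟨planeMat u w M.1, mem_sp_iff_form.mpr fun x y => by
    have hd := M.2
    rw [Matrix.det_fin_two] at hd
    simp only [planeMat_mulVec, form_add_left, form_add_right, form_smul_left, form_smul_right,
      form_self, h, form_swap u w, form_swap y w,
      form_swap u x]
    linear_combination ((sympForm m F u x) * (-(sympForm m F y w)) + (sympForm m F x w) * (sympForm m F u y)) * hd⟩
  map_one' := ext_smul fun x => by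
    show planeMat u w (1 : Matrix (Fin 2) (Fin 2) F) *ᵥ x = (1 : symplecticGroup (Fin m) F) • x
    simp [planeMat_mulVec]
  map_mul' M N := ext_smul fun x => by
    show planeMat u w (M.1 * N.1) *ᵥ x = (⟨planeMat u w M.1, _⟩ * ⟨planeMat u w N.1, _⟩ :
      symplecticGroup (Fin m) F) • x
    rw [mul_smul]
    show _ = planeMat u w M.1 *ᵥ (planeMat u w N.1 *ᵥ x)
    simp only [planeMat_mulVec, form_add_left, form_add_right, form_smul_left, form_smul_right,
      form_self, h, form_swap u w, Matrix.mul_apply, Fin.sum_univ_two]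
    module

theorem planeHom_smul {u w : Fin m ⊕ Fin m → F} (h : sympForm m F u w = 1)
    (M : Matrix.SpecialLinearGroup (Fin 2) F) (x : Fin m ⊕ Fin m → F) :
    planeHom h M • x = x + sympForm m F x w • ((M.1 0 0 - 1) • u + M.1 1 0 • w)
      + sympForm m F u x • (M.1 0 1 • u + (M.1 1 1 - 1) • w) :=
  planeMat_mulVec u w M.1 x

theorem planeHom_injective {u w : Fin m ⊕ Fin m → F} (h : sympForm m F u w = 1) :
    Function.Injective (planeHom h) := by
  rw [injective_iff_map_eq_one]
  intro M hM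
  have hu := congrArg (fun g : symplecticGroup (Fin m) F => g • u) hM
  have hw := congrArg (fun g : symplecticGroup (Fin m) F => g • w) hM
  simp only [planeHom_smul, one_smul, form_self, zero_smul, add_zero, h, add_eq_left] at hu hw
  have ha := congrArg (fun y => sympForm m F y w) hu
  have hc := congrArg (fun y => sympForm m F u y) hu
  have hb := congrArg (fun y => sympForm m F y w) hw
  have hd := congrArg (fun y => sympForm m F u y) hw
  simp only [form_add_left, form_add_right, form_smul_left, form_smul_right, form_self, h, mul_one,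
    mul_zero, add_zero, zero_add, form_zero_left, form_zero_right] at ha hc hb hd
  refine Subtype.ext (Matrix.ext fun i j => ?_)
  fin_cases i <;> fin_cases j
  · simpa [sub_eq_zero] using ha
  · simpa using hb
  · simpa using hc
  · simpa [sub_eq_zero] using hd

/-- An upper unitriangular element of `SL₂`. -/
def slUpper (t : F) : Matrix.SpecialLinearGroup (Fin 2) F := ⟨!![1, t; 0, 1], by simp [Matrix.det_fin_two]⟩

/-- A lower unitriangular element of `SL₂`. -/
def slLower (t : F) : Matrix.SpecialLinearGroup (Fin 2) F := ⟨!![1, 0; t, 1], by simp [Matrix.det_fin_two]⟩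

theorem coe_slUpper (t : F) : (slUpper t).1 = !![1, t; 0, 1] := rfl

theorem coe_slLower (t : F) : (slLower t).1 = !![1, 0; t, 1] := rfl

theorem sl2_generated : Cfsg.upperUnipotentSL2 F ⊔ Cfsg.lowerUnipotentSL2 F = ⊤ := by
  set H := Cfsg.upperUnipotentSL2 F ⊔ Cfsg.lowerUnipotentSL2 F
  have hU : ∀ t : F, slUpper t ∈ H := fun t => Subgroup.mem_sup_left
    (Subgroup.subset_closure ⟨by simp [slUpper], by simp [slUpper], by simp [slUpper]⟩)
  have hL : ∀ t : F, slLower t ∈ H := fun t => Subgroup.mem_sup_right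
    (Subgroup.subset_closure ⟨by simp [slLower], by simp [slLower], by simp [slLower]⟩)
  have step : ∀ M : Matrix.SpecialLinearGroup (Fin 2) F, M.1 1 0 ≠ 0 → M ∈ H := by
    intro M hc
    have hd := M.2
    rw [Matrix.det_fin_two] at hd
    have : M = slUpper ((M.1 0 0 - 1) / M.1 1 0) * slLower (M.1 1 0) *
        slUpper ((M.1 1 1 - 1) / M.1 1 0) := by
      refine Subtype.ext (Matrix.ext fun i j => ?_)
      show M.1 i j = ((slUpper ((M.1 0 0 - 1) / M.1 1 0)).1 * (slLower (M.1 1 0)).1 *
        (slUpper ((M.1 1 1 - 1) / M.1 1 0)).1) i j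
      rw [coe_slUpper, coe_slUpper, coe_slLower]
      fin_cases i <;> fin_cases j <;>
        simp [Matrix.mul_apply, Fin.sum_univ_two] <;> field_simp <;>
        first | linear_combination hd | linear_combination -hd | ring1
    rw [this]
    exact mul_mem (mul_mem (hU _) (hL _)) (hU _)
  refine eq_top_iff.mpr fun M _ => ?_
  by_cases hc : M.1 1 0 = 0
  · have ha : M.1 0 0 ≠ 0 := fun e => by
      have hd := M.2
      rw [Matrix.det_fin_two, e, hc] at hd
      simp at hd
    have := step (slLower 1 * M) (show ((slLower (1 : F)).1 * M.1) 1 0 ≠ 0 by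
      rw [coe_slLower]; simpa [Matrix.mul_apply, hc] using ha)
    simpa using mul_mem (inv_mem (hL 1)) this
  · exact step M hc

theorem psl2Pair {u w : Fin m ⊕ Fin m → F} (h : sympForm m F u w ≠ 0) :
    Cfsg.IsPSL2PairOver F (tGroup u) (tGroup w) := by
  set w' := (sympForm m F u w)⁻¹ • w with hw'
  have h1 : sympForm m F u w' = 1 := by rw [hw', form_smul_right, inv_mul_cancel₀ h]
  have hA : (Cfsg.upperUnipotentSL2 F).map (planeHom h1) = tGroup u := by
    refine le_antisymm ?_ fun g hg => ?_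
    · rw [Cfsg.upperUnipotentSL2, MonoidHom.map_closure, Subgroup.closure_le]
      rintro _ ⟨M, ⟨e1, e2, e3⟩, rfl⟩
      refine mem_tGroup.mpr ⟨-(M.1 0 1), ext_smul fun x => ?_⟩
      rw [planeHom_smul, transv_smul, e1, e2, e3, form_swap x u]
      module
    · obtain ⟨c, rfl⟩ := mem_tGroup.mp hg
      refine ⟨slUpper (-c), Subgroup.subset_closure ⟨by simp [slUpper], by simp [slUpper],
        by simp [slUpper]⟩, ext_smul fun x => ?_⟩
      rw [planeHom_smul, transv_smul, form_swap x u]
      simp [slUpper]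
      module
  have hB : (Cfsg.lowerUnipotentSL2 F).map (planeHom h1) = tGroup w' := by
    refine le_antisymm ?_ fun g hg => ?_
    · rw [Cfsg.lowerUnipotentSL2, MonoidHom.map_closure, Subgroup.closure_le]
      rintro _ ⟨M, ⟨e1, e2, e3⟩, rfl⟩
      refine mem_tGroup.mpr ⟨M.1 1 0, ext_smul fun x => ?_⟩
      rw [planeHom_smul, transv_smul, e1, e2, e3]
      module
    · obtain ⟨c, rfl⟩ := mem_tGroup.mp hg
      refine ⟨slLower c, Subgroup.subset_closure ⟨by simp [slLower], by simp [slLower],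
        by simp [slLower]⟩, ext_smul fun x => ?_⟩
      rw [planeHom_smul, transv_smul]
      simp [slLower]
      module
  have hB2 := hB.trans (tGroup_scale (inv_ne_zero h) w)
  refine ⟨planeHom h1, ?_, ?_, hA, hB2⟩
  · rw [MonoidHom.range_eq_map, ← sl2_generated, Subgroup.map_sup, hA, hB2]
  · rw [(MonoidHom.ker_eq_bot_iff _).mpr (planeHom_injective h1)]; exact bot_le

theorem commutator_bot_of_perp {u w : Fin m ⊕ Fin m → F} (h : sympForm m F u w = 0) :
    ⁅tGroup u, tGroup w⁆ = ⊥ := by
  rw [Subgroup.commutator_eq_bot_iff_le_centralizer]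
  intro g hg
  obtain ⟨c, rfl⟩ := mem_tGroup.mp hg
  refine Subgroup.mem_centralizer_iff.mpr fun k hk => ?_
  obtain ⟨d, rfl⟩ := mem_tGroup.mp hk
  exact (transv_comm_of_perp h c d).symm

/-- The set of all transvection groups. -/
def tSet (F : Type*) [Field F] (m : ℕ) : Set (Subgroup (symplecticGroup (Fin m) F)) :=
  {A | ∃ p, p ≠ 0 ∧ A = tGroup p}

theorem degenerate : Cfsg.IsDegenerateRootSet (tSet F m) := by
  rintro _ ⟨u, hu, rfl⟩ _ ⟨w, hw, rfl⟩ ⟨hmem, hcent, -, -⟩
  obtain ⟨p, hp, hpe⟩ := hmem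
  by_cases h : sympForm m F u w = 0
  · rw [commutator_bot_of_perp h] at hpe
    exact tGroup_ne_bot hp hpe.symm
  · have ht : transv p (1 : F) ∈ ⁅tGroup u, tGroup w⁆ := hpe ▸ mem_tGroup.mpr ⟨1, rfl⟩
    have hpu := perp_of_commute hp hu
      (hcent _ ht _ (Subgroup.mem_sup_left (mem_tGroup.mpr ⟨1, rfl⟩)))
    have hpw := perp_of_commute hp hw
      (hcent _ ht _ (Subgroup.mem_sup_right (mem_tGroup.mpr ⟨1, rfl⟩)))
    refine transv_ne_one hp one_ne_zero (ext_smul fun x => ?_)
    set a := sympForm m F x w / sympForm m F u w with ha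
    set b := sympForm m F u x / sympForm m F u w with hb
    have hfix : transv p (1 : F) • (x - a • u - b • w) = x - a • u - b • w := by
      have hle : ⁅tGroup u, tGroup w⁆ ≤ MulAction.stabilizer _ (x - a • u - b • w) := by
        refine (Subgroup.commutator_le.mpr fun g hg k hk => ?_)
        have h1 : ∀ y z : Fin m ⊕ Fin m → F, sympForm m F y z = 0 → ∀ g ∈ tGroup z,
            g ∈ MulAction.stabilizer (symplecticGroup (Fin m) F) y := by
          intro y z hyz g hg
          obtain ⟨c, rfl⟩ := mem_tGroup.mp hg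
          simp [MulAction.mem_stabilizer_iff, transv_smul, hyz]
        have g1 := h1 (x - a • u - b • w) u (by
          rw [form_sub_left, form_sub_left, form_smul_left, form_smul_left, form_self,
            form_swap u w, form_swap u x, hb]
          field_simp; ring) g hg
        have k1 := h1 (x - a • u - b • w) w (by
          rw [form_sub_left, form_sub_left, form_smul_left, form_smul_left, form_self, ha]
          field_simp; ring) k hk
        exact mul_mem (mul_mem (mul_mem g1 k1) (inv_mem g1)) (inv_mem k1)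
      exact MulAction.mem_stabilizer_iff.mp (hle ht)
    have e : x = (x - a • u - b • w) + a • u + b • w := by abel
    conv_lhs => rw [e]
    rw [one_smul, smul_add, smul_add, hfix, scalar_smul, scalar_smul, transv_smul, transv_smul,
      hpu, hpw, mul_zero, zero_smul, add_zero, add_zero]
    exact e.symm

theorem rootSubgroupSet (m : ℕ) : Cfsg.IsRootSubgroupSet (tSet F m) where
  commutative := by rintro _ ⟨p, -, rfl⟩; exact tGroup_commutative p
  ne_bot := by rintro _ ⟨p, hp, rfl⟩; exact tGroup_ne_bot hp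
  generates := eq_top_of_transv fun v c => by
    by_cases hv : v = 0
    · rw [hv, transv_vec_zero]; exact one_mem _
    · exact Subgroup.mem_iSup_of_mem (tGroup v)
        (Subgroup.mem_iSup_of_mem ⟨v, hv, rfl⟩ (mem_tGroup.mpr ⟨c, rfl⟩))
  conj_mem := by
    rintro _ ⟨p, hp, rfl⟩ g
    exact ⟨g • p, fun h => hp (MulAction.injective g (show g • p = g • (0 : Fin m ⊕ Fin m → F) by
      rw [h]; simp)), conjBy_tGroup g p⟩
  pair := by
    rintro _ ⟨u, -, rfl⟩ _ ⟨w, -, rfl⟩
    by_cases h : sympForm m F u w = 0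
    · exact Or.inl (commutator_bot_of_perp h)
    · exact Or.inr (Or.inl (rankOnePair h))

theorem rootClass (m : ℕ) (hm : 1 ≤ m) : Cfsg.IsRootSubgroupClass (tSet F m) := by
  refine ⟨rootSubgroupSet m, ⟨_, Pi.single (Sum.inl ⟨0, hm⟩) 1, by simp, rfl⟩, ?_⟩
  rintro _ ⟨u, hu, rfl⟩ _ ⟨w, hw, rfl⟩
  obtain ⟨g, hg⟩ := exists_smul_eq hu hw
  exact ⟨g, by rw [conjBy_tGroup, hg]⟩

theorem kRootSet (m : ℕ) : Cfsg.IsKRootSubgroupSet F (tSet F m) := by
  refine ⟨rootSubgroupSet m, ?_⟩
  rintro _ ⟨u, hu, rfl⟩ _ ⟨w, hw, rfl⟩ hp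
  refine psl2Pair fun h => ?_
  obtain ⟨b, hb, -, hb2⟩ := hp.cond_left (transv u 1) (mem_tGroup.mpr ⟨1, rfl⟩)
    (transv_ne_one hu one_ne_zero)
  obtain ⟨d, rfl⟩ := mem_tGroup.mp hb
  rw [conjBy_tGroup, conjBy_tGroup, transv_inv, transv_inv, transv_smul, transv_smul, h,
    form_eq_zero_comm.mp h, mul_zero, mul_zero, zero_smul, zero_smul, add_zero, add_zero] at hb2
  exact hp.ne hb2

theorem connected (m : ℕ) : Cfsg.IsConnectedFamily (Cfsg.FAdj (tSet F m)) (tSet F m) := by
  rintro _ ⟨u, hu, rfl⟩ _ ⟨w, hw, rfl⟩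
  obtain ⟨z, -, h1, h2⟩ := exists_both_ne_zero (nondegOn_top (F := F) (m := m))
    (Submodule.mem_top (x := u)) (Submodule.mem_top (x := w)) hu hw
  have hz : z ≠ 0 := fun e => h1 (by rw [e, form_zero_right])
  have e1 : Cfsg.FAdj (tSet F m) (tGroup u) (tGroup z) :=
    ⟨⟨u, hu, rfl⟩, ⟨z, hz, rfl⟩, rankOnePair h1⟩
  have e2 : Cfsg.FAdj (tSet F m) (tGroup z) (tGroup w) :=
    ⟨⟨z, hz, rfl⟩, ⟨w, hw, rfl⟩, rankOnePair fun e => h2 (form_eq_zero_comm.mp e)⟩
  exact (Relation.ReflTransGen.single e1).trans (Relation.ReflTransGen.single e2)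

end Cfsg.Agent.SymplecticRootGroups
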