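import Mathlib
import Cfsg.Prelude.Def_RootSubgroups
import Cfsg.Agent.Lib.QuadPairSL2
import Cfsg.Agent.Lib.QuadPairCore
import Cfsg.Agent.Lib.QuadPairTheory
import Cfsg.Agent.Lib.SymplecticRootGroups

/-!
The group `<1 + k a, 1 + k b>` of a pair with irreducible `z = ab + ba` is `SL(2, k[X]/(g))`.
-/

set_option autoImplicit false
set_option linter.unusedSectionVars false

open scoped MatrixGroups
open Matrix Polynomial

namespace Cfsg.Agent.QuadPairPSL

open Cfsg.Agent.QuadPairSL2 Cfsg.Agent.QuadPairCore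

variable {k : Type*} [Field k] {M : Type*} [AddCommGroup M] [Module k M]

/-- The data of a non-unipotent pair. -/
structure Setup (a b : Module.End k M) (g : k[X]) : Prop where
  ha : a * a = 0
  hb : b * b = 0
  hane : a ≠ 0
  hbne : b ≠ 0
  hirr : Irreducible g
  hX : ¬ X ∣ g
  hga : aeval (zz a b) g * a = 0
  hgb : aeval (zz a b) g * b = 0
  alla : ∀ p : k[X], InH a b (aeval (zz a b) p * a)
  allb : ∀ p : k[X], InH a b (aeval (zz a b) p * b)

variable {a b : Module.End k M} {g : k[X]}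

theorem dvd_of_kill (hirr : Irreducible g) {n : Module.End k M} (hn : n ≠ 0) {z : Module.End k M}
    (hg : aeval z g * n = 0) {p : k[X]} (hp : aeval z p * n = 0) : g ∣ p := by
  by_contra hd
  obtain ⟨u, v, huv⟩ := hirr.coprime_iff_not_dvd.2 hd
  apply hn
  have := congrArg (fun q => aeval z q * n) huv
  simp only [map_add, map_mul, map_one, one_mul, add_mul, mul_assoc, hg, hp, mul_zero, add_zero] at this
  exact this.symm

theorem kill_of_dvd {n z : Module.End k M} (hg : aeval z g * n = 0) {p : k[X]} (h : g ∣ p) :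
    aeval z p * n = 0 := by
  obtain ⟨u, rfl⟩ := h
  rw [mul_comm, map_mul, mul_assoc, hg, mul_zero]

/-- Reduction modulo `g`. -/
noncomputable def red (g : k[X]) : gam (k := k) →* SL(2, AdjoinRoot g) :=
  (Matrix.SpecialLinearGroup.map (n := Fin 2) (AdjoinRoot.mk g)).comp (gam (k := k)).subtype

theorem red_eq_one {x : gam (k := k)} :
    red g x = 1 ↔ g ∣ x.1.1 0 0 - 1 ∧ g ∣ x.1.1 0 1 ∧ g ∣ x.1.1 1 0 ∧ g ∣ x.1.1 1 1 - 1 := by
  rw [← AdjoinRoot.mk_eq_zero, ← AdjoinRoot.mk_eq_zero, ← AdjoinRoot.mk_eq_zero, ← AdjoinRoot.mk_eq_zero,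
    map_sub, map_sub, map_one, sub_eq_zero, sub_eq_zero]
  constructor
  · intro h
    exact ⟨congrArg (fun m : SL(2, AdjoinRoot g) => m.1 0 0) h, congrArg (fun m : SL(2, AdjoinRoot g) => m.1 0 1) h,
      congrArg (fun m : SL(2, AdjoinRoot g) => m.1 1 0) h, congrArg (fun m : SL(2, AdjoinRoot g) => m.1 1 1) h⟩
  · rintro ⟨h0, h1, h2, h3⟩
    exact sl_ext h0 h1 h2 h3

theorem ker_eq (S : Setup a b g) (x : gam (k := k)) : rep S.ha S.hb x = 1 ↔ red g x = 1 := by
  rw [red_eq_one, ← Units.val_eq_one, rep_apply]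
  obtain ⟨h10, h00, h11⟩ := x.2
  have hc := Polynomial.prime_X.irreducible.coprime_iff_not_dvd.2 S.hX
  constructor
  · intro h
    set z := zz a b with hz
    have za := zz_comm_left (b := b) S.ha
    have zb := zz_comm_right (a := a) S.hb
    obtain ⟨r, hr⟩ : ∃ r, x.1.1 1 0 = X * r := ⟨_, eq_X_mul_divX h10⟩
    obtain ⟨m, hm⟩ : ∃ m, x.1.1 0 0 - x.1.1 1 1 = X * m :=
      ⟨_, eq_X_mul_divX (by rw [coeff_sub, h00, h11, sub_self])⟩
    set s := x.1.1 1 1
    set q := x.1.1 0 1
    rw [val, hm, hr, divX_X_mul', divX_X_mul', ← hz] at h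
    have t : a * b * a = z * a := by
      rw [hz, zz, add_mul, mul_assoc b a a, S.ha, mul_zero, add_zero]
    have t' : b * a * b = z * b := by
      rw [hz, zz, add_mul, mul_assoc a b b, S.hb, mul_zero, zero_add]
    have cz : ∀ {u}, Commute z u → ∀ P : k[X], u * aeval z P = aeval z P * u := fun hu P =>
      ((aeval_commute hu P).eq).symm
    have hA := congrArg (· * a) h
    simp only [add_mul, one_mul, mul_assoc _ (a * b) a, t, mul_assoc _ a a, S.ha, mul_zero, add_zero] at hA
    have h2 : g ∣ x.1.1 1 0 := by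
      have e := congrArg (a * ·) hA
      simp only [mul_add, ← mul_assoc, cz za, mul_zero] at e
      simp only [mul_assoc, S.ha, cz za, mul_zero, add_zero, zero_add] at e
      rw [← mul_assoc a z, za.eq.symm, mul_assoc z a a, S.ha, mul_zero, mul_zero, zero_add, ← mul_assoc a b a,
        t] at e
      refine dvd_of_kill S.hirr S.hane S.hga ?_
      rw [hr, mul_comm, map_mul, aeval_X, mul_assoc, e]
    have hr' : g ∣ r := hc.symm.dvd_of_dvd_mul_left (hr ▸ h2)
    have h0 : g ∣ x.1.1 0 0 - 1 := by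
      rw [kill_of_dvd S.hgb hr', zero_mul, add_zero] at hA
      refine dvd_of_kill S.hirr S.hane S.hga ?_
      rw [show x.1.1 0 0 - 1 = (s - 1) + m * X by rw [mul_comm, ← hm]; ring, map_add, map_sub, map_one,
        map_mul, aeval_X, add_mul, sub_mul, one_mul, mul_assoc (aeval z m), sub_add_eq_add_sub, hA, sub_self]
    have hB := congrArg (· * b) h
    simp only [add_mul, one_mul, mul_assoc _ (a * b) b, mul_assoc a b b, mul_assoc _ b b, S.hb, mul_zero,
      add_zero, mul_assoc _ a b] at hB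
    have h1 : g ∣ q := by
      have e := congrArg (b * ·) hB
      simp only [mul_add, ← mul_assoc, cz zb] at e
      simp only [mul_assoc, S.hb, mul_zero, zero_add] at e
      rw [← mul_assoc b a b, t', ← mul_assoc] at e
      refine hc.symm.dvd_of_dvd_mul_left (dvd_of_kill S.hirr S.hbne S.hgb ?_)
      rw [mul_comm, map_mul, aeval_X, e]
    refine ⟨h0, h1, h2, dvd_of_kill S.hirr S.hbne S.hgb ?_⟩
    have e0 : aeval z q * (a * b) = 0 := by rw [← mul_assoc, kill_of_dvd S.hga h1, zero_mul]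
    rw [e0, add_zero] at hB
    rw [map_sub, map_one, sub_mul, one_mul, hB, sub_self]
  · rintro ⟨h0, h1, h2, h3⟩
    rw [← val_one a b]
    refine val_congr g S.hga S.hgb ?_ ?_ ?_ ?_
    · simpa using h1
    · simpa using hc.mul_dvd (X_dvd_iff.2 h10) h2
    · simpa using hc.mul_dvd (X_dvd_iff.2 (by simp [h00])) h0
    · simpa using hc.mul_dvd (X_dvd_iff.2 (by simp [h11])) h3

/-- The restriction to the group generated by the two families. -/
noncomputable def gamDick : Subgroup (gam (k := k)) := (dick k (X : k[X])).subgroupOf (gam (k := k))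

theorem mem_rep (S : Setup a b g) {x : LinearMap.GeneralLinearGroup k M} (hx : x ∈ grp a b) :
    x ∈ (gamDick (k := k)).map (rep S.ha S.hb) := by
  refine (Subgroup.closure_le _).2 ?_ hx
  rintro y (⟨c, hc⟩ | ⟨c, hc⟩)
  · refine ⟨⟨up (algebraMap k k[X] c), dick_le_gam (up_mem_dick k _ c)⟩, up_mem_dick k _ c, ?_⟩
    apply Units.ext
    rw [rep_apply, hc]
    show val a b (up (algebraMap k k[X] c)).1 = _
    rw [algebraMap_eq, val_up, aeval_C, Algebra.smul_def]
  · refine ⟨⟨lo (algebraMap k k[X] c * X), dick_le_gam (lo_mem_dick k _ c)⟩, lo_mem_dick k _ c, ?_⟩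
    apply Units.ext
    rw [rep_apply, hc]
    show val a b (lo (algebraMap k k[X] c * X)).1 = _
    rw [algebraMap_eq, val_lo_X]

theorem red_surjective (S : Setup a b g) [Fact (Irreducible g)] :
    ∀ y : SL(2, AdjoinRoot g), ∃ x ∈ gamDick (k := k), red g x = y := by
  have hkey : ∀ (x : gam (k := k)), ((rep S.ha S.hb x : LinearMap.GeneralLinearGroup k M)) ∈ grp a b →
      red g x ∈ (gamDick (k := k)).map (red g) := by
    intro x hx
    obtain ⟨y, hy, hye⟩ := mem_rep S hx
    refine ⟨y, hy, ?_⟩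
    rw [← mul_inv_eq_one, ← map_inv, ← map_mul, ← ker_eq S, map_mul, map_inv, hye, mul_inv_cancel]
  have hup : ∀ t : AdjoinRoot g, up t ∈ (gamDick (k := k)).map (red g) := by
    intro t
    obtain ⟨p, rfl⟩ := AdjoinRoot.mk_surjective t
    obtain ⟨u, hu, hue⟩ := S.alla p 1
    rw [← map_up]
    refine hkey ⟨up p, ⟨by simp, by simp, by simp⟩⟩ ?_
    rw [show rep S.ha S.hb _ = u from Units.ext (by rw [rep_apply, val_up, hue, one_smul])]
    exact hu
  have hlo : ∀ t : AdjoinRoot g, lo t ∈ (gamDick (k := k)).map (red g) := by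
    intro t
    have hne : AdjoinRoot.root g ≠ 0 := by
      rw [← AdjoinRoot.mk_X, Ne, AdjoinRoot.mk_eq_zero]
      exact fun h => S.hX ((S.hirr.associated_of_dvd Polynomial.prime_X.irreducible h).symm.dvd)
    obtain ⟨p, hp⟩ := AdjoinRoot.mk_surjective (t / AdjoinRoot.root g)
    have ht : t = AdjoinRoot.mk g (p * X) := by rw [map_mul, hp, AdjoinRoot.mk_X, div_mul_cancel₀ _ hne]
    rw [ht, ← map_lo]
    obtain ⟨u, hu, hue⟩ := S.allb p 1
    refine hkey ⟨lo (p * X), ⟨by simp, by simp, by simp⟩⟩ ?_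
    rw [show rep S.ha S.hb _ = u from Units.ext (by
      rw [rep_apply, hue, one_smul]
      simp [val, mul_comm p X, divX_X_mul'])]
    exact hu
  intro y
  have htop : (gamDick (k := k)).map (red g) = ⊤ := by
    rw [eq_top_iff, ← SymplecticRootGroups.sl2_generated (F := AdjoinRoot g)]
    refine sup_le ((Subgroup.closure_le _).2 ?_) ((Subgroup.closure_le _).2 ?_)
    · rintro x ⟨h10, h00, h11⟩
      have : x = up (x.1 0 1) := sl_ext (by simp [h00]) rfl (by simp [h10]) (by simp [h11])
      rw [this]; exact hup _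
    · rintro x ⟨h01, h00, h11⟩
      have : x = lo (x.1 1 0) := sl_ext (by simp [h00]) (by simp [h01]) rfl (by simp [h11])
      rw [this]; exact hlo _
  exact Subgroup.mem_map.1 (htop ▸ Subgroup.mem_top y)

/-- The isomorphism with the values on unitriangular elements. -/
theorem exists_hom (S : Setup a b g) [Fact (Irreducible g)] :
    ∃ φ : SL(2, AdjoinRoot g) →* LinearMap.GeneralLinearGroup k M, Function.Injective φ ∧
      φ.range = grp a b ∧
      (∀ p : k[X], (φ (up (AdjoinRoot.mk g p)) : Module.End k M) = 1 + aeval (zz a b) p * a) ∧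
      (∀ p : k[X], (φ (lo (AdjoinRoot.mk g (p * X))) : Module.End k M) = 1 + aeval (zz a b) p * b) := by
  have hs : Function.Surjective (red g) := fun y => let ⟨x, _, hx⟩ := red_surjective S y; ⟨x, hx⟩
  have hk : (red g).ker ≤ (rep S.ha S.hb).ker := fun x hx => (ker_eq S x).2 hx
  refine ⟨(red g).liftOfSurjective hs ⟨rep S.ha S.hb, hk⟩, ?_, ?_, ?_, ?_⟩
  · rw [injective_iff_map_eq_one]
    intro y hy
    obtain ⟨x, rfl⟩ := hs y
    rw [MonoidHom.liftOfRightInverse_comp_apply] at hy
    exact (ker_eq S x).1 hy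
  · apply le_antisymm
    · rintro _ ⟨y, rfl⟩
      obtain ⟨x, hx, rfl⟩ := red_surjective S y
      rw [MonoidHom.liftOfRightInverse_comp_apply]
      exact rep_mem_grp S.ha S.hb hx
    · intro u hu
      obtain ⟨x, -, rfl⟩ := mem_rep S hu
      exact ⟨red g x, MonoidHom.liftOfRightInverse_comp_apply _ _ _ _ x⟩
  · intro p
    have : up (AdjoinRoot.mk g p) = red g ⟨up p, ⟨by simp, by simp, by simp⟩⟩ := (map_up _ _).symm
    rw [this, MonoidHom.liftOfRightInverse_comp_apply]
    exact (rep_apply S.ha S.hb _).trans (val_up a b p)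
  · intro p
    have : lo (AdjoinRoot.mk g (p * X)) = red g ⟨lo (p * X), ⟨by simp, by simp, by simp⟩⟩ := (map_lo _ _).symm
    rw [this, MonoidHom.liftOfRightInverse_comp_apply]
    refine (rep_apply S.ha S.hb _).trans ?_
    simp [val, mul_comm p X, divX_X_mul']

end Cfsg.Agent.QuadPairPSL
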