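import Cfsg.Agent.Lib.RankOne

/-!
Basic theory of sets of abstract root subgroups.
-/

set_option autoImplicit false

namespace Cfsg.Agent.RootSub

open Cfsg RankOne

variable {G : Type*} [Group G] {S : Set (Subgroup G)} {A B C D E : Subgroup G}

theorem comm_of_mem (hS : IsRootSubgroupSet S) (hA : A ∈ S) {x y : G} (hx : x ∈ A) (hy : y ∈ A) :
    x * y = y * x := by
  have h := hS.commutative A hA
  exact congrArg Subtype.val (h.is_comm.comm ⟨x, hx⟩ ⟨y, hy⟩)

theorem exists_ne_one (hS : IsRootSubgroupSet S) (hA : A ∈ S) : ∃ a ∈ A, a ≠ 1 :=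
  (Subgroup.bot_or_exists_ne_one A).resolve_left (hS.ne_bot A hA)

theorem rc_ne_bot (hS : IsRootSubgroupSet S) (h : RootCommutatorCase S A B) : ⁅A, B⁆ ≠ ⊥ :=
  hS.ne_bot _ h.1

theorem rc_symm (h : RootCommutatorCase S A B) : RootCommutatorCase S B A := by
  obtain ⟨h1, h2, h3, h4⟩ := h
  have key : ∀ (P : Subgroup G) (f g : G → G), (∀ x, g x = (f x)⁻¹) →
      Subgroup.closure (g '' (P : Set G)) = Subgroup.closure (f '' (P : Set G)) := by
    intro P f g hfg
    rw [← Subgroup.closure_inv (f '' (P : Set G))]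
    congr 1
    ext z
    simp only [Set.mem_inv, Set.mem_image]
    constructor
    · rintro ⟨x, hx, rfl⟩; exact ⟨x, hx, by rw [hfg, inv_inv]⟩
    · rintro ⟨x, hx, he⟩; exact ⟨x, hx, by rw [hfg, he, inv_inv]⟩
  refine ⟨Subgroup.commutator_comm A B ▸ h1, ?_, ?_, ?_⟩
  · rw [Subgroup.commutator_comm B A, sup_comm]; exact h2
  · intro b hb hb1
    rw [Subgroup.commutator_comm B A, ← h4 b hb hb1]
    exact key A _ _ (fun x => by group)
  · intro a ha ha1
    rw [Subgroup.commutator_comm B A, ← h3 a ha ha1]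
    exact key B _ _ (fun x => by group)

theorem rc_conjBy (hS : IsRootSubgroupSet S) (h : RootCommutatorCase S A B) (g : G) :
    RootCommutatorCase S (conjBy A g) (conjBy B g) := by
  obtain ⟨h1, h2, h3, h4⟩ := h
  refine ⟨commutator_conjBy A B g ▸ hS.conj_mem _ h1 g, ?_, ?_, ?_⟩
  · rw [commutator_conjBy, ← conjBy_sup]
    intro c hc x hx
    rw [mem_conjBy] at hc hx
    have h5 := h2 _ hc _ hx
    calc c * x = g * ((g⁻¹ * c * g) * (g⁻¹ * x * g)) * g⁻¹ := by group
      _ = x * c := by rw [h5]; group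
  · intro a ha ha1
    rw [mem_conjBy] at ha
    rw [commutator_conjBy, ← h3 _ ha (fun hc => ha1 (by
      calc a = g * (g⁻¹ * a * g) * g⁻¹ := by group
        _ = 1 := by rw [hc]; group))]
    show _ = Subgroup.map _ _
    rw [MonoidHom.map_closure, ← Set.image_comp, Subgroup.coe_map, ← Set.image_comp]
    congr 1
    refine Set.image_congr fun b _ => ?_
    simp [mul_assoc]
  · intro b hb hb1
    rw [mem_conjBy] at hb
    rw [commutator_conjBy, ← h4 _ hb (fun hc => hb1 (by
      calc b = g * (g⁻¹ * b * g) * g⁻¹ := by group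
        _ = 1 := by rw [hc]; group))]
    show _ = Subgroup.map _ _
    rw [MonoidHom.map_closure, ← Set.image_comp, Subgroup.coe_map, ← Set.image_comp]
    congr 1
    refine Set.image_congr fun a _ => ?_
    simp [mul_assoc]

/-- In the commutator case the map `b ↦ [a,b]` is multiplicative. -/
theorem rc_mul (h : RootCommutatorCase S A B) {a b b' : G} (ha : a ∈ A) (hb : b ∈ B)
    (hb' : b' ∈ B) :
    a * (b * b') * a⁻¹ * (b * b')⁻¹ = (a * b * a⁻¹ * b⁻¹) * (a * b' * a⁻¹ * b'⁻¹) := by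
  have hc : a * b' * a⁻¹ * b'⁻¹ ∈ ⁅A, B⁆ := Subgroup.commutator_mem_commutator ha hb'
  have h1 := h.2.1 _ hc b (Subgroup.mem_sup_right hb)
  calc a * (b * b') * a⁻¹ * (b * b')⁻¹
      = (a * b * a⁻¹) * ((a * b' * a⁻¹ * b'⁻¹) * b⁻¹) := by group
    _ = (a * b * a⁻¹) * (b⁻¹ * (a * b' * a⁻¹ * b'⁻¹)) := by
        rw [h.2.1 _ hc b⁻¹ (Subgroup.mem_sup_right (inv_mem hb))]
    _ = _ := by group

theorem rc_mul_left (h : RootCommutatorCase S A B) {a a' b : G} (ha : a ∈ A) (ha' : a' ∈ A)
    (hb : b ∈ B) :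
    (a * a') * b * (a * a')⁻¹ * b⁻¹ = (a * b * a⁻¹ * b⁻¹) * (a' * b * a'⁻¹ * b⁻¹) := by
  have hc : a' * b * a'⁻¹ * b⁻¹ ∈ ⁅A, B⁆ := Subgroup.commutator_mem_commutator ha' hb
  have hd : a * b * a⁻¹ * b⁻¹ ∈ ⁅A, B⁆ := Subgroup.commutator_mem_commutator ha hb
  calc (a * a') * b * (a * a')⁻¹ * b⁻¹
      = (a * (a' * b * a'⁻¹ * b⁻¹)) * (b * a⁻¹ * b⁻¹) := by group
    _ = ((a' * b * a'⁻¹ * b⁻¹) * a) * (b * a⁻¹ * b⁻¹) := by
        rw [h.2.1 _ hc a (Subgroup.mem_sup_left ha)]
    _ = (a' * b * a'⁻¹ * b⁻¹) * (a * b * a⁻¹ * b⁻¹) := by group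
    _ = _ := h.2.1 _ hc _ (Subgroup.mem_sup_left (T := B) ha |> fun h0 =>
        mul_mem (mul_mem (mul_mem h0 (Subgroup.mem_sup_right hb)) (inv_mem h0))
          (inv_mem (Subgroup.mem_sup_right hb)))

/-- Every element of `[A,B]` is a commutator with a given non-identity `a`. -/
theorem rc_surj (h : RootCommutatorCase S A B) {a c : G} (ha : a ∈ A) (ha1 : a ≠ 1)
    (hc : c ∈ ⁅A, B⁆) : ∃ b ∈ B, a * b * a⁻¹ * b⁻¹ = c := by
  rw [← h.2.2.1 a ha ha1] at hc
  induction hc using Subgroup.closure_induction with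
  | mem x hx => exact hx
  | one => exact ⟨1, B.one_mem, by group⟩
  | mul x y _ _ hx hy =>
    obtain ⟨b, hb, rfl⟩ := hx
    obtain ⟨b', hb', rfl⟩ := hy
    exact ⟨b * b', B.mul_mem hb hb', rc_mul h ha hb hb'⟩
  | inv x _ hx =>
    obtain ⟨b, hb, rfl⟩ := hx
    refine ⟨b⁻¹, B.inv_mem hb, eq_inv_of_mul_eq_one_left ?_⟩
    rw [← rc_mul h ha (B.inv_mem hb) hb, inv_mul_cancel]; group

theorem rc_inj_left (hS : IsRootSubgroupSet S) (h : RootCommutatorCase S A B) {a : G} (ha : a ∈ A)
    (hc : ∀ b ∈ B, a * b = b * a) : a = 1 := by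
  by_contra ha1
  apply rc_ne_bot hS h
  rw [← h.2.2.1 a ha ha1, Subgroup.closure_eq_bot_iff]
  rintro z ⟨b, hb, rfl⟩
  simp [hc b hb]

/-- Membership test by a single non-identity element: if `a ∈ A#` centralizes `B` then `A` and
`B` commute. -/
theorem commute_of_elem (hS : IsRootSubgroupSet S) (hA : A ∈ S) (hB : B ∈ S) {a : G} (ha : a ∈ A)
    (ha1 : a ≠ 1) (hc : ∀ b ∈ B, a * b = b * a) : ⁅A, B⁆ = ⊥ := by
  rcases hS.pair A hA B hB with h | h | h
  · exact h
  · exact absurd (eq_one_of_centralizes h ha hc) ha1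
  · exact absurd (rc_inj_left hS h ha hc) ha1

theorem elem_comm (h : ⁅A, B⁆ = ⊥) {a b : G} (ha : a ∈ A) (hb : b ∈ B) : a * b = b * a :=
  comm_of_commutator_eq_bot h ha hb

theorem commutator_self (hS : IsRootSubgroupSet S) (hA : A ∈ S) : ⁅A, A⁆ = ⊥ :=
  commutator_eq_bot_of_comm fun _ hx _ hy => comm_of_mem hS hA hx hy

/-- In the commutator case the conjugates of `B` by elements of `A` commute with `B`. -/
theorem rc_conj_commute (hS : IsRootSubgroupSet S) (hB : B ∈ S) (h : RootCommutatorCase S A B)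
    {a : G} (ha : a ∈ A) : ⁅conjBy B a, B⁆ = ⊥ := by
  refine commutator_eq_bot_of_comm fun x hx b hb => ?_
  rw [mem_conjBy] at hx
  have hc : a * (a⁻¹ * x * a) * a⁻¹ * (a⁻¹ * x * a)⁻¹ ∈ ⁅A, B⁆ :=
    Subgroup.commutator_mem_commutator ha hx
  have he : x = (a * (a⁻¹ * x * a) * a⁻¹ * (a⁻¹ * x * a)⁻¹) * (a⁻¹ * x * a) := by group
  rw [he, mul_assoc, comm_of_mem hS hB hx hb, ← mul_assoc,
    h.2.1 _ hc b (Subgroup.mem_sup_right hb), mul_assoc]

theorem rc_not_rankOne (hS : IsRootSubgroupSet S) (hB : B ∈ S) (h : RootCommutatorCase S A B) :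
    ¬ IsRankOnePair A B := by
  intro hp
  obtain ⟨a, ha, ha1⟩ := (Subgroup.bot_or_exists_ne_one A).resolve_left (left_ne_bot hp)
  refine commutator_ne_bot (isRankOnePair_of_mem_unipotents hp
    (conjBy_mem_unipotents (right_mem_unipotents hp) (Subgroup.mem_sup_left ha))
    (right_mem_unipotents hp) fun hc => ha1 (eq_one_of_normalizes hp ha hc))
    (rc_conj_commute hS hB h ha)

theorem rc_left_ne (hS : IsRootSubgroupSet S) (h : RootCommutatorCase S A B) : ⁅A, B⁆ ≠ A := by
  intro he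
  apply rc_ne_bot hS h
  refine commutator_eq_bot_of_comm fun a ha b hb => ?_
  exact h.2.1 a (he.symm ▸ ha) b (Subgroup.mem_sup_right hb)

theorem rc_comm_left (h : RootCommutatorCase S A B) : ⁅⁅A, B⁆, A⁆ = ⊥ :=
  commutator_eq_bot_of_comm fun c hc a ha => h.2.1 c hc a (Subgroup.mem_sup_left ha)

theorem rc_comm_right (h : RootCommutatorCase S A B) : ⁅⁅A, B⁆, B⁆ = ⊥ :=
  commutator_eq_bot_of_comm fun c hc b hb => h.2.1 c hc b (Subgroup.mem_sup_right hb)

/-- A member of `S` inside a rank one group generated by members either centralizes it or is one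
of its unipotent subgroups. -/
theorem mem_unipotents_of_le (hS : IsRootSubgroupSet S) (hA : A ∈ S) (hC : C ∈ S) (hD : D ∈ S)
    (h : IsRankOnePair C D) (hle : A ≤ C ⊔ D) :
    A ∈ unipotentSubgroups C D ∨ ⁅A, C ⊔ D⁆ = ⊥ := by
  have hmemS : ∀ F ∈ unipotentSubgroups C D, F ∈ S := by
    rintro F ⟨x, -, rfl⟩
    exact hS.conj_mem C hC x
  obtain ⟨a, ha, ha1⟩ := exists_ne_one hS hA
  by_cases hex : ∃ F ∈ unipotentSubgroups C D, IsRankOnePair A F
  · obtain ⟨F, hF, hAF⟩ := hex
    obtain ⟨f, hf, -, he⟩ := hAF.cond_left a ha ha1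
    left
    have h1 : conjBy F a⁻¹ ∈ unipotentSubgroups C D := conjBy_mem_unipotents hF (inv_mem (hle ha))
    rw [← he] at h1
    have h2 := conjBy_mem_unipotents h1 (le_of_mem_unipotents hF hf)
    rwa [conjBy_conjBy_inv] at h2
  · right
    push Not at hex
    have hfix : ∀ F ∈ unipotentSubgroups C D, conjBy F a = F := by
      intro F hF
      rcases hS.pair A hA F (hmemS F hF) with hc | hc | hc
      · exact conjBy_eq_self_iff.2
          (Subgroup.centralizer_le_normalizer _ (le_centralizer_of_commutator_eq_bot hc ha))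
      · exact absurd hc (hex F hF)
      · by_contra hne
        exact commutator_ne_bot (isRankOnePair_of_mem_unipotents h
          (conjBy_mem_unipotents hF (hle ha)) hF hne) (rc_conj_commute hS (hmemS F hF) hc ha)
    -- an element of the rank one group fixing all unipotents is central
    have key : ∀ {P Q : Subgroup G}, IsRankOnePair P Q → P ∈ unipotentSubgroups C D →
        Q ∈ unipotentSubgroups C D → ∀ p ∈ P, a * p = p * a := by
      intro P Q hPQ hP hQ p hp
      have hfix' : ∀ F ∈ unipotentSubgroups C D, conjBy F a⁻¹ = F := fun F hF => by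
        conv_lhs => rw [← hfix F hF]
        rw [conjBy_inv_conjBy]
      have h1 : a * p * a⁻¹ * p⁻¹ ∈ P := by
        have : a * p * a⁻¹ ∈ conjBy P a := by rw [mem_conjBy]; simpa [mul_assoc] using hp
        rw [hfix P hP] at this
        exact mul_mem this (inv_mem hp)
      have h2 : conjBy Q (a * p * a⁻¹ * p⁻¹) = Q := by
        have hQ1 : conjBy Q p⁻¹ ∈ unipotentSubgroups C D :=
          conjBy_mem_unipotents hQ (inv_mem (le_of_mem_unipotents hP hp))
        rw [← conjBy_mul, ← conjBy_mul _ (a * p) a⁻¹, hfix' _ hQ1, ← conjBy_mul, conjBy_conjBy_inv,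
          hfix Q hQ]
      have h3 := eq_one_of_normalizes hPQ h1 h2
      rwa [mul_inv_eq_one, mul_inv_eq_iff_eq_mul] at h3
    have hCm := self_mem_unipotents (A := C) (B := D)
    have hDm := right_mem_unipotents h
    have hAC := commute_of_elem hS hA hC ha ha1 (key h hCm hDm)
    have hAD := commute_of_elem hS hA hD ha ha1 (key (RankOnePair_symm h) hDm hCm)
    rw [Subgroup.commutator_eq_bot_iff_le_centralizer]
    intro x hx
    refine Subgroup.mem_centralizer_iff.2 fun y hy => ?_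
    have : C ⊔ D ≤ Subgroup.centralizer ({x} : Set G) := sup_le
      (fun u hu => Subgroup.mem_centralizer_iff.2 fun z hz => by
        rw [Set.mem_singleton_iff.1 hz]; exact elem_comm hAC hx hu)
      (fun u hu => Subgroup.mem_centralizer_iff.2 fun z hz => by
        rw [Set.mem_singleton_iff.1 hz]; exact elem_comm hAD hx hu)
    exact (Subgroup.mem_centralizer_iff.1 (this hy) x rfl).symm

/-- If the commutator subgroup of two members is a member, they are in the commutator case. -/
theorem rc_of_commutator_mem (hS : IsRootSubgroupSet S) (hA : A ∈ S) (hB : B ∈ S)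
    (hC : ⁅A, B⁆ ∈ S) : RootCommutatorCase S A B := by
  rcases hS.pair A hA B hB with h | h | h
  · exact absurd h (hS.ne_bot _ hC)
  · exfalso
    have hle : ⁅A, B⁆ ≤ A ⊔ B := by
      rw [Subgroup.commutator_le]
      intro a ha b hb
      exact mul_mem (mul_mem (mul_mem (Subgroup.mem_sup_left ha) (Subgroup.mem_sup_right hb))
        (inv_mem (Subgroup.mem_sup_left ha))) (inv_mem (Subgroup.mem_sup_right hb))
    rcases mem_unipotents_of_le hS hC hA hB h hle with h1 | h1
    · have hnorm : A ⊔ B ≤ Subgroup.normalizer ((⁅A, B⁆ : Subgroup G) : Set G) := by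
        have key : ∀ {P Q : Subgroup G}, IsMulCommutative P → P ≤
            Subgroup.normalizer ((⁅P, Q⁆ : Subgroup G) : Set G) := by
          intro P Q hP x hx
          have hsub : ∀ x ∈ P, conjBy ⁅P, Q⁆ x ≤ ⁅P, Q⁆ := by
            intro x hx
            refine Subgroup.map_le_iff_le_comap.2 (Subgroup.commutator_le.2 fun p hp q hq => ?_)
            simp only [Subgroup.mem_comap, MulEquiv.coe_toMonoidHom, MulAut.conj_apply,
              commutatorElement_def]
            have e : x * (p * q * p⁻¹ * q⁻¹) * x⁻¹ =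
                ((x * p) * q * (x * p)⁻¹ * q⁻¹) * (x * q * x⁻¹ * q⁻¹)⁻¹ := by group
            rw [e]
            exact mul_mem (Subgroup.commutator_mem_commutator (mul_mem hx hp) hq)
              (inv_mem (Subgroup.commutator_mem_commutator hx hq))
          rw [← conjBy_eq_self_iff]
          refine le_antisymm (hsub x hx) ?_
          intro y hy
          have : y ∈ conjBy (conjBy ⁅P, Q⁆ x⁻¹) x := by
            rw [mem_conjBy, mem_conjBy]; simpa [mul_assoc] using hy
          exact Subgroup.map_mono (hsub x⁻¹ (inv_mem hx)) this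
        refine sup_le (key (hS.commutative A hA)) ?_
        have := key (Q := A) (hS.commutative B hB)
        rwa [Subgroup.commutator_comm] at this
      obtain ⟨x, hx, he⟩ := h1
      have h2 : conjBy ⁅A, B⁆ x⁻¹ = ⁅A, B⁆ := conjBy_eq_self_iff.2 (hnorm (inv_mem hx))
      rw [he, conjBy_inv_conjBy] at h2
      refine not_le_normalizer h ?_
      have h3 : ⁅A, B⁆ = A := by rw [he, ← h2]
      rwa [h3] at hnorm
    · obtain ⟨a, ha, ha1⟩ := exists_ne_one hS hA
      refine commutator_ne_bot (isRankOnePair_of_mem_unipotents h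
        (conjBy_mem_unipotents (right_mem_unipotents h) (Subgroup.mem_sup_left ha))
        (right_mem_unipotents h) fun hc => ha1 (eq_one_of_normalizes h ha hc)) ?_
      refine commutator_eq_bot_of_comm fun x hx b hb => ?_
      rw [mem_conjBy] at hx
      have hc : a * (a⁻¹ * x * a) * a⁻¹ * (a⁻¹ * x * a)⁻¹ ∈ ⁅A, B⁆ :=
        Subgroup.commutator_mem_commutator ha hx
      have he : x = (a * (a⁻¹ * x * a) * a⁻¹ * (a⁻¹ * x * a)⁻¹) * (a⁻¹ * x * a) := by group
      rw [he, mul_assoc, comm_of_mem hS hB hx hb, ← mul_assoc,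
        elem_comm h1 hc (Subgroup.mem_sup_right hb), mul_assoc]
  · exact h

theorem exists_partner (hnon : ¬ IsIsolatedIn (FAdj S) S A) (hA : A ∈ S) :
    ∃ D ∈ S, IsRankOnePair A D := by
  by_contra hc
  push Not at hc
  exact hnon ⟨hA, fun D => ⟨fun h => hc D h.2.1 h.2.2, fun h => hc D h.1 (RankOnePair_symm h.2.2)⟩⟩

theorem not_isolated_of_pair (hA : A ∈ S) (hD : D ∈ S) (h : IsRankOnePair A D) :
    ¬ IsIsolatedIn (FAdj S) S A := fun hi => (hi.2 D).1 ⟨hA, hD, h⟩

/-- The root elements `z a` with `z` centralizing a rank one group do not exist. -/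
theorem not_root_of_centralizes (hS : IsRootSubgroupSet S) (hA : A ∈ S) (hB : B ∈ S)
    (h : IsRankOnePair A B) {z : G} (hz : z ∈ Subgroup.centralizer ((A ⊔ B : Subgroup G) : Set G))
    (hz1 : z ≠ 1) {a : G} (ha : a ∈ A) (ha1 : a ≠ 1) (hE : E ∈ S) : z * a ∉ E := by
  intro he
  have hz' : ∀ y ∈ A ⊔ B, y * z = z * y := Subgroup.mem_centralizer_iff.1 hz
  have hzE1 : z * a ≠ 1 := by
    intro hc
    have : z = a⁻¹ := eq_inv_of_mul_eq_one_left hc
    exact hz1 (eq_one_of_centralizes h (this ▸ inv_mem ha)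
      fun b hb => (hz' b (Subgroup.mem_sup_right hb)).symm)
  have hEA : ⁅E, A⁆ = ⊥ := commute_of_elem hS hE hA he hzE1 fun x hx => by
    rw [mul_assoc, comm_of_mem hS hA ha hx, ← mul_assoc, ← hz' x (Subgroup.mem_sup_left hx),
      mul_assoc]
  have hconj : conjBy B (z * a) = conjBy B a := by
    rw [← conjBy_mul, conjBy_eq_self_iff]
    refine Subgroup.centralizer_le_normalizer _ (Subgroup.mem_centralizer_iff.2 fun y hy => ?_)
    rw [SetLike.mem_coe, mem_conjBy] at hy
    have hy' : a * (a⁻¹ * y * a) * a⁻¹ ∈ A ⊔ B := mul_mem (mul_mem (Subgroup.mem_sup_left ha)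
      (Subgroup.mem_sup_right hy)) (inv_mem (Subgroup.mem_sup_left ha))
    have : y ∈ A ⊔ B := by simpa [mul_assoc] using hy'
    exact hz' y this
  rcases hS.pair E hE B hB with hc | hc | hc
  · refine ha1 (eq_one_of_normalizes h ha ?_)
    rw [← hconj, conjBy_eq_self_iff]
    exact Subgroup.centralizer_le_normalizer _ (le_centralizer_of_commutator_eq_bot hc he)
  · obtain ⟨b, hb, -, hb'⟩ := hc.cond_left _ (inv_mem he) (inv_ne_one.2 hzE1)
    rw [inv_inv, hconj] at hb'
    have hEm : E ∈ unipotentSubgroups A B := by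
      have h1 : conjBy E b⁻¹ ∈ unipotentSubgroups A B :=
        hb' ▸ conjBy_mem_unipotents (right_mem_unipotents h) (Subgroup.mem_sup_left ha)
      have h2 := conjBy_mem_unipotents h1 (Subgroup.mem_sup_right hb)
      rwa [conjBy_conjBy_inv] at h2
    have hEq : E = A := by
      by_contra hne
      exact commutator_ne_bot (isRankOnePair_of_mem_unipotents h hEm self_mem_unipotents hne) hEA
    subst hEq
    refine hz1 (eq_one_of_centralizes h ?_ fun b hb => (hz' b (Subgroup.mem_sup_right hb)).symm)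
    simpa using mul_mem he (inv_mem ha)
  · refine commutator_ne_bot (isRankOnePair_of_mem_unipotents h
      (conjBy_mem_unipotents (right_mem_unipotents h) (Subgroup.mem_sup_left ha))
      (right_mem_unipotents h) fun hh => ha1 (eq_one_of_normalizes h ha hh)) ?_
    rw [← hconj]
    exact rc_conj_commute hS hB hc he

/-- A member with a rank one partner meets every other member trivially. -/
theorem inf_eq_bot_or_eq (hS : IsRootSubgroupSet S) (hA : A ∈ S) (hD : D ∈ S)
    (h : IsRankOnePair A D) (hB : B ∈ S) : A ⊓ B = ⊥ ∨ A = B := by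
  by_cases hz0 : A ⊓ B = ⊥
  · exact Or.inl hz0
  obtain ⟨z, ⟨hzA, hzB⟩, hz1⟩ := (Subgroup.bot_or_exists_ne_one _).resolve_left hz0
  right
  have hAB : ⁅A, B⁆ = ⊥ :=
    commute_of_elem hS hA hB hzA hz1 fun b hb => comm_of_mem hS hB hzB hb
  obtain ⟨d, hd, -, he⟩ := h.cond_left z hzA hz1
  rcases hS.pair B hB D hD with hc | hc | hc
  · exact absurd (eq_one_of_centralizes h hzA fun b hb => elem_comm hc hzB hb) hz1
  · obtain ⟨d', hd', -, he'⟩ := hc.cond_left z hzB hz1
    by_contra hne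
    refine commutator_ne_bot (isRankOnePair_of_mem_unipotents h self_mem_unipotents ?_ hne) hAB
    have h1 : conjBy B d'⁻¹ ∈ unipotentSubgroups A D := by
      rw [he', ← he]
      exact conjBy_mem_unipotents self_mem_unipotents (inv_mem (Subgroup.mem_sup_right hd))
    have h2 := conjBy_mem_unipotents h1 (Subgroup.mem_sup_right hd')
    rwa [conjBy_conjBy_inv] at h2
  · exact absurd (rc_conj_commute hS hD hc hzB) (commutator_ne_bot
      (isRankOnePair_of_mem_unipotents h
        (conjBy_mem_unipotents (right_mem_unipotents h) (Subgroup.mem_sup_left hzA))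
        (right_mem_unipotents h) fun hh => hz1 (eq_one_of_normalizes h hzA hh)))

/-- In the commutator case no non-identity elements commute when `A` has a rank one partner. -/
theorem rc_inj (hS : IsRootSubgroupSet S) (hA : A ∈ S) (hD : D ∈ S) (hp : IsRankOnePair A D)
    (h : RootCommutatorCase S A B) {a b : G} (ha : a ∈ A) (ha1 : a ≠ 1) (hb : b ∈ B)
    (hab : a * b = b * a) : b = 1 := by
  have ha' : a ∈ conjBy A b := by
    rw [mem_conjBy, mul_assoc, hab, inv_mul_cancel_left]; exact ha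
  have heq : A = conjBy A b := (inf_eq_bot_or_eq hS hA hD hp (hS.conj_mem A hA b)).resolve_left
    fun hc => ha1 (Subgroup.mem_bot.1 (hc ▸ Subgroup.mem_inf.2 ⟨ha, ha'⟩))
  have hAC := (inf_eq_bot_or_eq hS hA hD hp h.1).resolve_right fun hc => rc_left_ne hS h hc.symm
  refine rc_inj_left hS (rc_symm h) hb fun x hx => ?_
  have hm : b * x * b⁻¹ ∈ A := by rw [heq, mem_conjBy]; simpa [mul_assoc] using hx
  have hm2 : x * b * x⁻¹ * b⁻¹ ∈ A := by
    have e : x * b * x⁻¹ * b⁻¹ = x * (b * x * b⁻¹)⁻¹ := by group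
    rw [e]; exact mul_mem hx (inv_mem hm)
  have h1 : x * b * x⁻¹ * b⁻¹ = 1 := Subgroup.mem_bot.1
    (hAC ▸ Subgroup.mem_inf.2 ⟨hm2, Subgroup.commutator_mem_commutator hx hb⟩)
  rw [mul_inv_eq_one, mul_inv_eq_iff_eq_mul] at h1
  exact h1.symm

end Cfsg.Agent.RootSub
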