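import Mathlib
import Cfsg.Prelude.Def_RootSubgroups
import Cfsg.Agent.Lib.RankOne
import Cfsg.Agent.Lib.RootSub
import Cfsg.Agent.Lib.QuadPairTheory
import Cfsg.Agent.Lib.QuadPairUnipotent
import Cfsg.Agent.Lib.QuadPairCommute
import Cfsg.Agent.Lib.QuadPairPSL

/-!
The root groups of a quadratic pair as abstract root subgroups of the group they generate.
-/

set_option autoImplicit false
set_option linter.unusedSectionVars false

namespace Cfsg.Agent.QuadPairRootSet

open Cfsg Cfsg.Agent.QuadPairTheory Cfsg.Agent.QuadPairSL2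
open scoped commutatorElement

section Transfer

variable {P : Type*} [Group P] {H A B : Subgroup P}

theorem conjBy_subgroupOf (A : Subgroup P) (g : H) :
    conjBy (A.subgroupOf H) g = (conjBy A (g : P)).subgroupOf H := by
  ext x
  rw [RankOne.mem_conjBy, Subgroup.mem_subgroupOf, Subgroup.mem_subgroupOf, RankOne.mem_conjBy]
  rfl

theorem eq_of_subgroupOf_eq (hA : A ≤ H) (hB : B ≤ H) (h : A.subgroupOf H = B.subgroupOf H) : A = B := by
  rw [← Subgroup.map_subgroupOf_eq_of_le hA, h, Subgroup.map_subgroupOf_eq_of_le hB]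

theorem commutator_subgroupOf (hA : A ≤ H) (hB : B ≤ H) :
    ⁅A.subgroupOf H, B.subgroupOf H⁆ = ⁅A, B⁆.subgroupOf H := by
  apply Subgroup.map_injective H.subtype_injective
  rw [Subgroup.map_commutator, Subgroup.map_subgroupOf_eq_of_le hA, Subgroup.map_subgroupOf_eq_of_le hB,
    Subgroup.map_subgroupOf_eq_of_le]
  exact Subgroup.commutator_le.2 fun x hx y hy => by
    rw [commutatorElement_def]
    exact mul_mem (mul_mem (mul_mem (hA hx) (hB hy)) (inv_mem (hA hx))) (inv_mem (hB hy))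

theorem isRankOnePair_subgroupOf (hA : A ≤ H) (hB : B ≤ H) (h : IsRankOnePair A B) :
    IsRankOnePair (A.subgroupOf H) (B.subgroupOf H) := by
  have key : ∀ {X Y : Subgroup P}, X ≤ H → Y ≤ H → RankOneCondition X Y →
      RankOneCondition (X.subgroupOf H) (Y.subgroupOf H) := by
    intro X Y hX hY hc a ha ha1
    obtain ⟨b, hb, hb1, he⟩ := hc a (Subgroup.mem_subgroupOf.1 ha) fun e => ha1 (Subtype.ext e)
    exact ⟨⟨b, hY hb⟩, hb, fun e => hb1 (congrArg Subtype.val e), by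
      rw [conjBy_subgroupOf, conjBy_subgroupOf]
      exact congrArg (·.subgroupOf H) he⟩
  refine ⟨fun e => h.ne (eq_of_subgroupOf_eq hA hB e), ?_, ?_, key hA hB h.cond_left, key hB hA h.cond_right⟩
  · haveI := h.nilpotent_left
    exact Group.nilpotent_of_mulEquiv (Subgroup.subgroupOfEquivOfLe hA).symm
  · haveI := h.nilpotent_right
    exact Group.nilpotent_of_mulEquiv (Subgroup.subgroupOfEquivOfLe hB).symm

theorem closure_image_subgroupOf (hB : B ≤ H) (f : P → P → P) (a : H) (f' : H → H → H)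
    (hf : ∀ x, ((f' a x : H) : P) = f a x) :
    Subgroup.closure (f' a '' (B.subgroupOf H : Set H)) = (Subgroup.closure (f a '' (B : Set P))).subgroupOf H := by
  apply Subgroup.map_injective H.subtype_injective
  rw [MonoidHom.map_closure, Subgroup.map_subgroupOf_eq_of_le]
  · congr 1
    ext z
    constructor
    · rintro ⟨_, ⟨x, hx, rfl⟩, rfl⟩; exact ⟨x, hx, (hf x).symm⟩
    · rintro ⟨x, hx, rfl⟩; exact ⟨_, ⟨⟨x, hB hx⟩, hx, rfl⟩, hf ⟨x, hB hx⟩⟩
  · rw [Subgroup.closure_le]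
    rintro _ ⟨x, hx, rfl⟩
    rw [← hf ⟨x, hB hx⟩]
    exact SetLike.coe_mem _

theorem rootCommutatorCase_subgroupOf {S : Set (Subgroup P)} (hA : A ≤ H) (hB : B ≤ H)
    (h : RootCommutatorCase S A B) :
    RootCommutatorCase ((fun X => X.subgroupOf H) '' S) (A.subgroupOf H) (B.subgroupOf H) := by
  obtain ⟨h1, h2, h3, h4⟩ := h
  rw [RootCommutatorCase, commutator_subgroupOf hA hB]
  refine ⟨⟨_, h1, rfl⟩, fun c hc x hx => Subtype.ext (h2 _ hc _ ?_), fun a ha ha1 => ?_, fun b hb hb1 => ?_⟩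
  · rw [← Subgroup.subgroupOf_sup hA hB] at hx
    exact hx
  · rw [← h3 _ ha fun e => ha1 (Subtype.ext e)]
    exact closure_image_subgroupOf hB (fun a b => a * b * a⁻¹ * b⁻¹) a (fun a b => a * b * a⁻¹ * b⁻¹)
      fun _ => rfl
  · rw [← h4 _ hb fun e => hb1 (Subtype.ext e)]
    exact closure_image_subgroupOf hA (fun b a => a * b * a⁻¹ * b⁻¹) b (fun b a => a * b * a⁻¹ * b⁻¹)
      fun _ => rfl

theorem isRootSubgroupSet_subgroupOf {S : Set (Subgroup P)}
    (hcomm : ∀ A ∈ S, IsMulCommutative A) (hne : ∀ A ∈ S, A ≠ ⊥)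
    (hconj : ∀ A ∈ S, ∀ g ∈ ⨆ B ∈ S, B, conjBy A g ∈ S)
    (hpair : ∀ A ∈ S, ∀ B ∈ S, ⁅A, B⁆ = ⊥ ∨ IsRankOnePair A B ∨ RootCommutatorCase S A B) :
    IsRootSubgroupSet ((fun A : Subgroup P => A.subgroupOf (⨆ B ∈ S, B)) '' S) := by
  set H := ⨆ B ∈ S, B with hH
  have hle : ∀ A ∈ S, A ≤ H := fun A hA => le_iSup₂_of_le A hA le_rfl
  refine ⟨?_, ?_, ?_, ?_, ?_⟩
  · rintro _ ⟨A, hA, rfl⟩
    have := hcomm A hA
    refine ⟨⟨fun x y => ?_⟩⟩
    apply Subtype.ext
    apply Subtype.ext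
    have e := this.is_comm.comm (⟨x.1.1, x.2⟩ : A) ⟨y.1.1, y.2⟩
    have e' := congrArg (fun z : A => (z : P)) e
    simpa using e'
  · rintro _ ⟨A, hA, rfl⟩ e
    apply hne A hA
    rw [← Subgroup.map_subgroupOf_eq_of_le (hle A hA), show A.subgroupOf H = ⊥ from e, Subgroup.map_bot]
  · apply Subgroup.map_injective H.subtype_injective
    rw [← MonoidHom.range_eq_map, Subgroup.range_subtype, iSup_image]
    simp only [Subgroup.map_iSup]
    exact le_antisymm (iSup₂_le fun A hA => (Subgroup.map_subgroupOf_eq_of_le (hle A hA)).le.trans (hle A hA))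
      (iSup₂_le fun A hA => le_iSup₂_of_le A hA (Subgroup.map_subgroupOf_eq_of_le (hle A hA)).ge)
  · rintro _ ⟨A, hA, rfl⟩ g
    exact ⟨_, hconj A hA g g.2, (conjBy_subgroupOf A g).symm⟩
  · rintro _ ⟨A, hA, rfl⟩ _ ⟨B, hB, rfl⟩
    rcases hpair A hA B hB with h | h | h
    · left
      show ⁅A.subgroupOf H, B.subgroupOf H⁆ = ⊥
      rw [commutator_subgroupOf (hle A hA) (hle B hB), h, Subgroup.bot_subgroupOf]
    · exact Or.inr (Or.inl (isRankOnePair_subgroupOf (hle A hA) (hle B hB) h))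
    · exact Or.inr (Or.inr (rootCommutatorCase_subgroupOf (hle A hA) (hle B hB) h))

end Transfer

variable {k : Type*} [Field k] {M : Type*} [AddCommGroup M] [Module k M] [FiniteDimensional k M]
  {G : Subgroup (LinearMap.GeneralLinearGroup k M)} {a b : Module.End k M}

theorem pair_cases (hk2 : (2 : k) ≠ 0) (hk3 : Nat.card k ≠ 3) (hG : QuadPairUnipotent.Reduced G)
    {A B : Subgroup (LinearMap.GeneralLinearGroup k M)} (hA : A ∈ quadraticRootSubgroups G)
    (hB : B ∈ quadraticRootSubgroups G) :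
    ⁅A, B⁆ = ⊥ ∨ IsRankOnePair A B ∨ RootCommutatorCase (quadraticRootSubgroups G) A B := by
  obtain ⟨a, ha, rfl⟩ := mem_roots.1 hA
  obtain ⟨b, hb, rfl⟩ := mem_roots.1 hB
  rcases uni_or_opp hk2 hk3 ha hb with hu | ho
  · rcases QuadPairCommute.unipotent_pair hk2 hk3 hG hA hB
      (QuadPairUnipotent.isUnipotentOn_of_uni hk2 hk3 ha hb hu) with h | ⟨r1, r2, r3, -, r4, -⟩
    · exact Or.inl h
    · refine Or.inr (Or.inr ⟨r1, fun c hc x hx => ?_, r2, r3⟩)
      exact RankOne.comm_of_commutator_eq_bot r4 (Subgroup.commutator_mono le_sup_left le_sup_right hc) hx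
  · exact Or.inr (Or.inl (isRankOnePair ha hb hk2 hk3 ho))

/-- A rank one pair of root groups is opposite. -/
theorem opp_of_rankOne (hk2 : (2 : k) ≠ 0) (hk3 : Nat.card k ≠ 3) (ha : IsMin G a) (hb : IsMin G b)
    (h : IsRankOnePair (E G ha.1.1) (E G hb.1.1)) : Opp a b := by
  refine (uni_or_opp hk2 hk3 ha hb).resolve_left fun hu => ?_
  set u := unitOf a ha.1.1 with hudef
  have hu1 : u ≠ 1 := fun e => ha.2.1 (by rw [← nl_unitOf a ha.1.1, nl_eq_zero.2 e])
  have huE : u ∈ E G ha.1.1 := unitOf_mem_E (self_mem_cls ha.1)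
  obtain ⟨v, hv, -, he⟩ := h.cond_left u huE hu1
  -- `u z ∈ B` with `z` central
  have hz : u * (v⁻¹ * u * v * u⁻¹) ∈ E G hb.1.1 := by
    have hmem : v⁻¹ * u * v ∈ conjBy (E G ha.1.1) v⁻¹ := by
      rw [RankOne.mem_conjBy]; simpa [mul_assoc] using huE
    rw [he, RankOne.mem_conjBy] at hmem
    simpa [mul_assoc] using hmem
  have hw : unitOf b hb.1.1 ∈ E G hb.1.1 := unitOf_mem_E (self_mem_cls hb.1)
  have hBc := isMulCommutative_E (G := G) hb.1.1
  have h1 := congrArg Subtype.val (hBc.is_comm.comm (⟨_, hz⟩ : E G hb.1.1) ⟨_, hw⟩)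
  simp only [MulMemClass.mk_mul_mk] at h1
  have hzc : (v⁻¹ * u * v * u⁻¹) * unitOf b hb.1.1 = unitOf b hb.1.1 * (v⁻¹ * u * v * u⁻¹) := by
    by_cases hab : a * b = b * a
    · have := RankOne.comm_of_commutator_eq_bot (QuadPairCommute.commutator_eq_bot hk2 hk3 ha hb hu hab) huE hv
      rw [mul_assoc v⁻¹ u v, this]
      simp
    · have D : QuadPairUnipotent.Data G a b (a * b - b * a) := ⟨hk2, hk3, ha, hb, hu, rfl, sub_ne_zero.2 hab⟩
      refine (QuadPairCommute.centralizes D _ (Subgroup.mem_sup_right hw) _ ?_).symm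
      have := QuadPairCommute.commutator_le_E D
        (Subgroup.commutator_mem_commutator huE (inv_mem hv))
      have h' := inv_mem this
      rw [commutatorElement_def] at h'
      simpa [mul_assoc] using h'
  have h2 : u * unitOf b hb.1.1 = unitOf b hb.1.1 * u := by
    have e1 : u * unitOf b hb.1.1 * (v⁻¹ * u * v * u⁻¹) = unitOf b hb.1.1 * u * (v⁻¹ * u * v * u⁻¹) := by
      rw [mul_assoc u, ← hzc, ← mul_assoc, h1, ← mul_assoc (unitOf b hb.1.1) u]
    exact mul_right_cancel e1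
  have hab := QuadPairCommute.nl_comm h2
  rw [nl_unitOf, nl_unitOf] at hab
  have hAB := QuadPairCommute.commutator_eq_bot hk2 hk3 ha hb hu hab
  have hv1 : v⁻¹ * u * v * u⁻¹ = 1 := by
    rw [mul_assoc v⁻¹ u v, RankOne.comm_of_commutator_eq_bot hAB huE hv]; simp
  rw [hv1, mul_one, mem_E, nl_unitOf] at hz
  exact h.ne (E_eq_of_mem hb hz ha.2.1)

theorem exists_setup (hk2 : (2 : k) ≠ 0) (hk3 : Nat.card k ≠ 3) (ha : IsMin G a) (hb : IsMin G b)
    (hu : ¬ Uni a b) : ∃ g : Polynomial k, QuadPairPSL.Setup a b g := by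
  obtain ⟨g, h1, h2, h3, h4, h5, h6⟩ := (alternative hk2 hk3 ha hb).resolve_left hu
  exact ⟨g, ha.1.1, hb.1.1, ha.2.1, hb.2.1, h1, h2, h3, h4, h5, h6⟩

theorem grp_le (ha : a ∈ Lie G) (hb : b ∈ Lie G) : grp a b ≤ E G ha.1 ⊔ E G hb.1 := by
  refine (Subgroup.closure_le _).2 ?_
  rintro x (⟨t, ht⟩ | ⟨t, ht⟩)
  · refine Subgroup.mem_sup_left (mem_E.2 ?_)
    rw [show nl x = t • a by simp [nl, ht]]
    exact Submodule.smul_mem _ t (self_mem_cls ha)
  · refine Subgroup.mem_sup_right (mem_E.2 ?_)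
    rw [show nl x = t • b by simp [nl, ht]]
    exact Submodule.smul_mem _ t (self_mem_cls hb)

/-- Elements `1 + p(z) a` lie in the root group of `a`. -/
theorem poly_mem (ha : IsMin G a) (hb : IsMin G b) {p : Polynomial k}
    (hi : QuadPairCore.InH a b (Polynomial.aeval (zz a b) p * a))
    (hc : Commute (Polynomial.aeval (zz a b) p) a) {x : LinearMap.GeneralLinearGroup k M}
    (hx : (x : Module.End k M) = 1 + Polynomial.aeval (zz a b) p * a) : x ∈ E G ha.1.1 := by
  rw [mem_E, show nl x = Polynomial.aeval (zz a b) p * a by simp [nl, hx]]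
  refine ⟨⟨?_, fun t => ?_⟩, QuadPairCore.range_mul_le hc, fun m hm => ?_⟩
  · rw [mul_assoc, ← mul_assoc a, ← hc.eq, mul_assoc _ a a, ha.1.1, mul_zero, mul_zero]
  · obtain ⟨u, hu, hue⟩ := hi t
    exact ⟨u, sup_le (E_le _) (E_le _) (grp_le ha.1 hb.1 hu), hue⟩
  · rw [LinearMap.mem_ker, Module.End.mul_apply, LinearMap.mem_ker.1 hm, map_zero]

theorem three_lt_card (hk2 : (2 : k) ≠ 0) (hk3 : Nat.card k ≠ 3) (K : Type*) [Field K] [Algebra k K] :
    3 < ENat.card K := by
  rcases finite_or_infinite K with hfin | hinf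
  · haveI : Finite k := Finite.of_injective _ (algebraMap k K).injective
    have h1 : Nat.card k ≤ Nat.card K := Nat.card_le_card_of_injective _ (algebraMap k K).injective
    have h2 : 1 < Nat.card k := Finite.one_lt_card
    have h3 : Nat.card k ≠ 2 := fun h => by
      haveI := Fintype.ofFinite k
      apply hk2
      have h0 := Nat.cast_card_eq_zero k
      rw [← Nat.card_eq_fintype_card, h] at h0
      exact_mod_cast h0
    rw [ENat.card_eq_coe_natCard]
    exact_mod_cast (show 3 < Nat.card K by omega)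
  · rw [ENat.card_eq_top.2 hinf]; exact_mod_cast ENat.coe_lt_top 3

open scoped MatrixGroups in
/-- The subgroups generating an image of `SL(2)`. -/
theorem exists_psl_pair.{u} {k : Type u} [Field k] {M : Type u} [AddCommGroup M] [Module k M]
    [FiniteDimensional k M] {G : Subgroup (LinearMap.GeneralLinearGroup k M)} {a b : Module.End k M}
    (hk2 : (2 : k) ≠ 0) (hk3 : Nat.card k ≠ 3) (ha : IsMin G a) (hb : IsMin G b) (ho : Opp a b) :
    ∃ A₀ B₀ : Subgroup (LinearMap.GeneralLinearGroup k M), A₀ ≤ E G ha.1.1 ∧ B₀ ≤ E G hb.1.1 ∧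
      ∃ (k₁ : Type u) (_ : Field k₁), 3 < ENat.card k₁ ∧ IsPSL2PairOver k₁ A₀ B₀ := by
  obtain ⟨g, S⟩ := exists_setup hk2 hk3 ha hb fun hu => not_uni_of_opp ha hb ho hu
  haveI := Fact.mk S.hirr
  obtain ⟨φ, hinj, hrange, hup, hlo⟩ := QuadPairPSL.exists_hom S
  refine ⟨(upperUnipotentSL2 (AdjoinRoot g)).map φ, (lowerUnipotentSL2 (AdjoinRoot g)).map φ, ?_, ?_,
    AdjoinRoot g, inferInstance, three_lt_card hk2 hk3 (AdjoinRoot g), φ, ?_, ?_, rfl, rfl⟩
  · rw [upperUnipotentSL2, MonoidHom.map_closure, Subgroup.closure_le]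
    rintro _ ⟨x, ⟨h10, h00, h11⟩, rfl⟩
    obtain ⟨p, hp⟩ := AdjoinRoot.mk_surjective (x.1 0 1)
    have : x = up (AdjoinRoot.mk g p) := sl_ext (by simp [h00]) (by simp [hp]) (by simp [h10]) (by simp [h11])
    rw [this]
    exact poly_mem ha hb (S.alla p) (aeval_commute (zz_comm_left ha.1.1) p) (hup p)
  · rw [lowerUnipotentSL2, MonoidHom.map_closure, Subgroup.closure_le]
    rintro _ ⟨x, ⟨h01, h00, h11⟩, rfl⟩
    have hne : AdjoinRoot.root g ≠ 0 := by
      rw [← AdjoinRoot.mk_X, Ne, AdjoinRoot.mk_eq_zero]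
      exact fun h => S.hX ((S.hirr.associated_of_dvd Polynomial.prime_X.irreducible h).symm.dvd)
    obtain ⟨p, hp⟩ := AdjoinRoot.mk_surjective (x.1 1 0 / AdjoinRoot.root g)
    have : x = lo (AdjoinRoot.mk g (p * Polynomial.X)) := sl_ext (by simp [h00]) (by simp [h01])
      (by rw [lo_10, map_mul, hp, AdjoinRoot.mk_X, div_mul_cancel₀ _ hne]) (by simp [h11])
    rw [this]
    refine poly_mem hb ha (p := p) ?_ ?_ ?_
    · rw [zz_symm b a]; exact QuadPairCore.inH_symm (S.allb p)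
    · rw [zz_symm b a]; exact aeval_commute (zz_comm_right hb.1.1) p
    · rw [zz_symm b a]; exact hlo p
  · rw [← Subgroup.map_sup, SymplecticRootGroups.sl2_generated, MonoidHom.range_eq_map]
  · rw [(φ.ker_eq_bot_iff).2 hinj]; exact bot_le

end Cfsg.Agent.QuadPairRootSet
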