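import Cfsg.Agent.Lib.RankOneSpecial

/-!
A special rank one group with abelian unipotent subgroup of more than three elements satisfies
`A = ⁅A, H⁆`, in particular it is perfect.
-/

set_option autoImplicit false

namespace Cfsg.Agent.RankOnePerfect

open Cfsg RankOne RankOneSpecial

variable {G : Type*} [Group G] {A B : Subgroup G}

/-- The swapping element attached to a partner pair. -/
def swapElem (a b : G) : G := a * b⁻¹ * a

theorem swap_mem {a b : G} (hp : Partner A B a b) : swapElem a b ∈ A ⊔ B :=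
  mul_mem (mul_mem (Subgroup.mem_sup_left hp.mem_left)
    (inv_mem (Subgroup.mem_sup_right hp.mem_right))) (Subgroup.mem_sup_left hp.mem_left)

theorem swap_eq (h : IsSpecialRankOnePair A B) {a b : G} (hp : Partner A B a b) :
    swapElem a b = b⁻¹ * a * b⁻¹ := by
  calc a * b⁻¹ * a = (a * (b⁻¹ * a * b) * a⁻¹) * a * b⁻¹ := by group
    _ = b⁻¹ * a * b⁻¹ := by rw [special_conj h hp]

theorem swap_left {a b : G} (hp : Partner A B a b) : conjBy A (swapElem a b) = B := by
  rw [swapElem, ← conjBy_mul, conjBy_of_mem hp.mem_left, ← conjBy_mul, hp.eq, conjBy_conjBy_inv]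

theorem swap_right (h : IsSpecialRankOnePair A B) {a b : G} (hp : Partner A B a b) :
    conjBy B (swapElem a b) = A := by
  rw [swap_eq h hp, ← conjBy_mul, conjBy_of_mem (inv_mem hp.mem_right), ← conjBy_mul]
  have h2 := (partner_inv h hp).eq
  rw [inv_inv, inv_inv] at h2
  rw [← h2, conjBy_inv_conjBy]

theorem swap_conj (h : IsSpecialRankOnePair A B) {a b : G} (hp : Partner A B a b) :
    swapElem a b * b * (swapElem a b)⁻¹ = a⁻¹ := by
  calc swapElem a b * b * (swapElem a b)⁻¹ = (a * (b⁻¹ * a * b) * a⁻¹) * b * a⁻¹ := by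
        rw [swapElem]; group
    _ = a⁻¹ := by rw [special_conj h hp]; group

theorem mem_diag {g : G} (hg : g ∈ A ⊔ B) (h1 : conjBy A g = A) (h2 : conjBy B g = B) :
    g ∈ rankOneDiagonal A B :=
  ⟨⟨hg, conjBy_eq_self_iff.1 h1⟩, conjBy_eq_self_iff.1 h2⟩

/-- `A = ⁅A, H⁆` for a special rank one group with abelian `A` of more than three elements. -/
theorem le_commutator_diag (h : IsSpecialRankOnePair A B) (hA : IsMulCommutative A)
    (hcard : 3 < ENat.card A) : A ≤ ⁅A, rankOneDiagonal A B⁆ := by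
  classical
  set R := ⁅A, rankOneDiagonal A B⁆ with hR
  letI : CommGroup ↥A := { (inferInstance : Group ↥A) with mul_comm := hA.is_comm.comm }
  let φ : ↥A →* ↥A ⧸ R.subgroupOf A := QuotientGroup.mk' _
  -- H acts trivially on the quotient
  have hH : ∀ t ∈ rankOneDiagonal A B, ∀ (x : G) (hx : x ∈ A) (y : G) (hy : y ∈ A),
      t * x * t⁻¹ = y → φ ⟨y, hy⟩ = φ ⟨x, hx⟩ := by
    intro t ht x hx y hy hxy
    rw [eq_comm]
    refine (QuotientGroup.eq (s := R.subgroupOf A)).2 ?_
    rw [Subgroup.mem_subgroupOf]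
    show x⁻¹ * y ∈ R
    rw [← hxy]
    have := Subgroup.commutator_mem_commutator (inv_mem hx) ht
    rw [commutatorElement_def, inv_inv, ← hR] at this
    simpa [mul_assoc] using this
  obtain ⟨e, he, he1⟩ := (Subgroup.bot_or_exists_ne_one A).resolve_left (left_ne_bot h.1)
  obtain ⟨be, hpe⟩ := exists_partner' h.1 he he1
  set w := swapElem e be with hw
  have hwA : conjBy A w = B := swap_left hpe
  have hwB : conjBy B w = A := swap_right h hpe
  have hwmem : ∀ b ∈ B, w * b * w⁻¹ ∈ A := by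
    intro b hb
    rw [← hwB, mem_conjBy]; simpa [mul_assoc] using hb
  -- `w b w⁻¹ ≡ a⁻¹` for partners
  have hF : ∀ (a b : G) (hp : Partner A B a b),
      φ ⟨w * b * w⁻¹, hwmem b hp.mem_right⟩ = (φ ⟨a, hp.mem_left⟩)⁻¹ := by
    intro a b hp
    have ht : w * (swapElem a b)⁻¹ ∈ rankOneDiagonal A B := by
      refine mem_diag (mul_mem (swap_mem hpe) (inv_mem (swap_mem hp))) ?_ ?_
      · rw [← conjBy_mul, ← swap_right h hp, conjBy_inv_conjBy, hwB, swap_right h hp]
      · rw [← conjBy_mul, ← swap_left hp, conjBy_inv_conjBy, hwA, swap_left hp]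
    rw [hH _ ht a⁻¹ (inv_mem hp.mem_left) _ (hwmem b hp.mem_right) (by
      rw [← swap_conj h hp]; group), ← map_inv]
    rfl
  have hinjp : ∀ x ∈ A, ∀ y ∈ A, conjBy B x = conjBy B y → x = y := by
    intro x hx y hy hxy
    refine (inv_mul_eq_one.1 (eq_one_of_normalizes h.1 (mul_mem (inv_mem hx) hy) ?_))
    rw [← conjBy_mul, ← hxy, conjBy_inv_conjBy]
  have hp' : ∀ {x b : G}, Partner A B x b → conjBy A b = conjBy B x := by
    intro x b hp
    have := (partner_inv h hp).eq
    rwa [inv_inv, inv_inv] at this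
  -- the key congruence
  have key : ∀ (a : G) (ha : a ∈ A) (x bx : G) (hx : Partner A B x bx), a ≠ 1 →
      a * (w * bx * w⁻¹) ≠ 1 → φ ⟨a, ha⟩ = φ ⟨x, hx.mem_left⟩ * φ ⟨x, hx.mem_left⟩ := by
    intro a ha x bx hx ha1 hne
    obtain ⟨b, hp⟩ := exists_partner' h.1 ha ha1
    set i := w * bx * w⁻¹ with hi
    have hiA : i ∈ A := hwmem bx hx.mem_right
    set u := a * i with hu
    have huA : u ∈ A := mul_mem ha hiA
    obtain ⟨c, hc⟩ := exists_partner' h.1 huA hne
    have hbc : b⁻¹ * c ≠ 1 := by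
      intro h0
      rw [inv_mul_eq_one] at h0
      have h1 : a = u := hp.unique_left h.1 (h0 ▸ hc)
      rw [hu, eq_comm, mul_eq_left, hi, conj_eq_one_iff] at h1
      exact hx.right_ne h1
    obtain ⟨v, hv⟩ := exists_partner_right h.1 (mul_mem (inv_mem hp.mem_right) hc.mem_right) hbc
    set t := swapElem a b * w with ht
    have htH : t ∈ rankOneDiagonal A B := by
      refine mem_diag (mul_mem (swap_mem hp) (swap_mem hpe)) ?_ ?_
      · rw [ht, ← conjBy_mul, hwA, swap_right h hp]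
      · rw [ht, ← conjBy_mul, hwB, swap_left hp]
    have htA : t * x * t⁻¹ ∈ A := by
      have h1 : t * x * t⁻¹ ∈ conjBy A t := by rw [mem_conjBy]; simpa [mul_assoc] using hx.mem_left
      have h2 : conjBy A t = A := conjBy_eq_self_iff.2 htH.1.2
      rwa [h2] at h1
    have hid : t * x * t⁻¹ = a * v := by
      refine hinjp _ htA _ (mul_mem ha hv.mem_left) ?_
      have h2 : conjBy B t⁻¹ = B := conjBy_eq_self_iff.2 (inv_mem htH.2)
      calc conjBy B (t * x * t⁻¹) = conjBy (conjBy B x) t := by rw [← conjBy_mul, h2, conjBy_mul]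
        _ = conjBy (conjBy A (w * bx)) (swapElem a b) := by
            rw [← hp' hx, conjBy_mul, conjBy_mul, ht, mul_assoc]
        _ = conjBy (conjBy B i) (swapElem a b) := by
            congr 1
            rw [hi, ← hwA, conjBy_mul]; group
        _ = conjBy (conjBy B u) (a * b⁻¹) := by
            rw [conjBy_mul, conjBy_mul, hu, swapElem]; group
        _ = conjBy (conjBy A (b⁻¹ * c)) a := by
            rw [← hp' hc, conjBy_mul, conjBy_mul, mul_assoc]
        _ = conjBy B (a * v) := by rw [hp' hv, conjBy_mul]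
    have e1 : φ ⟨a * v, mul_mem ha hv.mem_left⟩ = φ ⟨x, hx.mem_left⟩ :=
      hH t htH x hx.mem_left _ _ hid
    have e2 := hF x bx hx
    have e3 := hF a b hp
    have e4 := hF u c hc
    have e5 := hF v _ hv
    have e6 : (⟨w * (b⁻¹ * c) * w⁻¹, hwmem _ hv.mem_right⟩ : ↥A)
        = ⟨w * b * w⁻¹, hwmem _ hp.mem_right⟩⁻¹ * ⟨w * c * w⁻¹, hwmem _ hc.mem_right⟩ := by
      apply Subtype.ext
      show w * (b⁻¹ * c) * w⁻¹ = (w * b * w⁻¹)⁻¹ * (w * c * w⁻¹)
      group
    rw [e6, map_mul, map_inv, e3, e4, inv_inv] at e5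
    have e7 : φ ⟨u, huA⟩ = φ ⟨a, ha⟩ * φ ⟨i, hiA⟩ := by rw [← map_mul]; rfl
    have e8 : φ ⟨a * v, mul_mem ha hv.mem_left⟩ = φ ⟨a, ha⟩ * φ ⟨v, hv.mem_left⟩ := by
      rw [← map_mul]; rfl
    rw [e7, show φ ⟨i, hiA⟩ = (φ ⟨x, hx.mem_left⟩)⁻¹ from e2, mul_inv_rev, inv_inv,
      mul_comm (φ ⟨a, ha⟩), mul_assoc, inv_mul_cancel, mul_one] at e5
    rw [e8, show φ ⟨v, hv.mem_left⟩ = (φ ⟨x, hx.mem_left⟩)⁻¹ by rw [e5, inv_inv],
      mul_inv_eq_iff_eq_mul] at e1
    exact e1
  -- three non-identity elements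
  obtain ⟨s, hs⟩ : ∃ s : Finset ↥A, s.card = 4 := by
    rcases finite_or_infinite ↥A with hfin | hinf
    · haveI := Fintype.ofFinite ↥A
      rw [ENat.card_eq_coe_fintype_card] at hcard
      have h4 : 4 ≤ Fintype.card ↥A := by exact_mod_cast hcard
      obtain ⟨s, -, hs⟩ := Finset.exists_subset_card_eq (s := (Finset.univ : Finset ↥A)) (n := 4)
        (by rwa [Finset.card_univ])
      exact ⟨s, hs⟩
    · exact Infinite.exists_subset_card_eq ↥A 4
  have h3 : 3 ≤ (s.erase 1).card := by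
    have := Finset.pred_card_le_card_erase (s := s) (a := (1 : ↥A))
    omega
  have hconst : ∀ p q : ↥A, p ≠ 1 → q ≠ 1 → φ p = φ q := by
    intro p q hp hq
    have hex : ∀ y : {y // y ∈ s.erase 1}, ∃ b, Partner A B (y.1 : G) b := fun y =>
      exists_partner' h.1 y.1.2 (fun h0 => (Finset.mem_erase.1 y.2).1 (Subtype.ext h0))
    choose bf hbf using hex
    let i : {y // y ∈ s.erase 1} → ↥A := fun y => ⟨w * bf y * w⁻¹, hwmem _ (hbf y).mem_right⟩
    have hinj : Function.Injective i := by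
      intro y y' hy
      have hb : bf y = bf y' := by
        have := congrArg Subtype.val hy
        exact mul_left_cancel (mul_right_cancel this)
      apply Subtype.ext
      apply Subtype.ext
      exact (hbf y).unique_left h.1 (hb ▸ hbf y')
    obtain ⟨y, hy1, hy2⟩ : ∃ y, p * i y ≠ 1 ∧ q * i y ≠ 1 := by
      by_contra hc
      push Not at hc
      have hle : ((s.erase 1).attach.image i).card ≤ ({p⁻¹, q⁻¹} : Finset ↥A).card := by
        refine Finset.card_le_card fun z hz => ?_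
        obtain ⟨y, -, rfl⟩ := Finset.mem_image.1 hz
        rw [Finset.mem_insert, Finset.mem_singleton]
        by_cases h1 : p * i y = 1
        · exact Or.inl (eq_inv_of_mul_eq_one_right h1)
        · exact Or.inr (eq_inv_of_mul_eq_one_right (hc y h1))
      rw [Finset.card_image_of_injective _ hinj, Finset.card_attach] at hle
      have := hle.trans Finset.card_le_two
      omega
    rw [key p p.2 y.1 (bf y) (hbf y) (fun h0 => hp (Subtype.ext h0))
        (fun h0 => hy1 (Subtype.ext h0)),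
      key q q.2 y.1 (bf y) (hbf y) (fun h0 => hq (Subtype.ext h0))
        (fun h0 => hy2 (Subtype.ext h0))]
  intro a ha
  rcases eq_or_ne a 1 with rfl | ha1
  · exact one_mem _
  set p : ↥A := ⟨a, ha⟩ with hp
  have hp1 : p ≠ 1 := fun h0 => ha1 (congrArg Subtype.val h0)
  obtain ⟨q, hq, hqp⟩ : ∃ q ∈ s.erase 1, q ≠ p⁻¹ := Finset.exists_mem_ne (by omega) _
  have hq1 := (Finset.mem_erase.1 hq).1
  have hpq : p * q ≠ 1 := fun h0 => hqp (eq_inv_of_mul_eq_one_right h0)
  have e : φ (p * q) = φ q := hconst _ _ hpq hq1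
  rw [map_mul, mul_eq_right] at e
  exact Subgroup.mem_subgroupOf.1 ((QuotientGroup.eq_one_iff (N := R.subgroupOf A) p).1 e)

/-- A special rank one group with abelian `A` of more than three elements is perfect. -/
theorem sup_le_commutator (h : IsSpecialRankOnePair A B) (hA : IsMulCommutative A)
    (hcard : 3 < ENat.card A) : A ⊔ B ≤ ⁅A ⊔ B, A ⊔ B⁆ := by
  have h1 : A ≤ ⁅A ⊔ B, A ⊔ B⁆ := (le_commutator_diag h hA hcard).trans
    (Subgroup.commutator_mono le_sup_left (inf_le_left.trans inf_le_left))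
  refine sup_le h1 ?_
  obtain ⟨x, hx, hBx⟩ := right_mem_unipotents h.1
  refine (le_of_eq hBx).trans ((Subgroup.map_mono h1).trans ?_)
  show conjBy ⁅A ⊔ B, A ⊔ B⁆ x ≤ ⁅A ⊔ B, A ⊔ B⁆
  rw [conjBy, Subgroup.map_commutator]
  show ⁅conjBy (A ⊔ B) x, conjBy (A ⊔ B) x⁆ ≤ _
  rw [conjBy_of_mem hx]

end Cfsg.Agent.RankOnePerfect
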