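import Cfsg.Agent.Lib.RootSubConn
import Cfsg.Agent.Lib.RankOnePerfect

/-!
Timmesfeld's quasisimplicity criterion for groups generated by abstract root subgroups.
-/

set_option autoImplicit false

namespace Cfsg.Agent.RootSubQuasi

open Cfsg RankOne RankOneSpecial RootSub RootSubLine RootSubConn RankOnePerfect

variable {G : Type*} [Group G] {S : Set (Subgroup G)} {A B D E N : Subgroup G}

theorem com_le [N.Normal] {P Q : Subgroup G} (h : ⁅P, Q⁆ = ⊥) : ⁅N ⊔ P, N ⊔ Q⁆ ≤ N := by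
  have hN : N.map (QuotientGroup.mk' N) = ⊥ := by
    rw [Subgroup.map_eq_bot_iff, QuotientGroup.ker_mk']
  conv_rhs => rw [← QuotientGroup.ker_mk' N]
  rw [← Subgroup.map_eq_bot_iff, Subgroup.map_commutator, Subgroup.map_sup, Subgroup.map_sup, hN,
    bot_sup_eq, bot_sup_eq, ← Subgroup.map_commutator, h, Subgroup.map_bot]

theorem pair_le [N.Normal] (h : IsSpecialRankOnePair A E) (hc : ⁅A, E⁆ ≤ N) : E ≤ N ⊔ A := by
  intro b hb
  rcases eq_or_ne b 1 with rfl | hb1
  · exact one_mem _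
  obtain ⟨a, hp⟩ := exists_partner_right h.1 hb hb1
  have hn : a⁻¹ * b⁻¹ * a * b ∈ N := by
    have := hc (Subgroup.commutator_mem_commutator (inv_mem hp.mem_left) (inv_mem hb))
    rwa [commutatorElement_def, inv_inv, inv_inv] at this
  have h2 : a⁻¹ * b⁻¹ * a * b = a⁻¹ * (a⁻¹ * b⁻¹ * a) := by
    conv_rhs => rw [← h.2 a hp.mem_left hp.left_ne b hb hb1 hp.eq]
    group
  rw [h2] at hn
  have hA : a ∈ N ⊔ A := Subgroup.mem_sup_right hp.mem_left
  have := inv_mem (mul_mem (mul_mem (mul_mem hA hA) (Subgroup.mem_sup_left hn)) (inv_mem hA))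
  convert this using 1
  group

variable (hS : IsRootSubgroupSet S) (h1 : IsConnectedFamily (FAdj S) S)

include hS

/-- No rank one pair commutes modulo `N`, when every member meets `N` trivially. -/
theorem pair_not_le (h1 : IsConnectedFamily (FAdj S) S) [N.Normal]
    (hdeg : IsDegenerateRootSet S → ∀ A ∈ S, 3 < ENat.card A)
    (hsp : ∀ A ∈ S, ∀ B ∈ rankOnePartners S A, IsSpecialRankOnePair A B)
    (hN : ∀ A ∈ S, A ⊓ N = ⊥) (hA : A ∈ S) (hE : E ∈ S) (hp : IsRankOnePair A E) :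
    ¬ ⁅A, E⁆ ≤ N := by
  intro hc
  have hs := hsp A hA E ⟨hE, hp⟩
  by_cases hd : IsDegenerateRootSet S
  · refine hS.ne_bot A hA ?_
    rw [← hN A hA, eq_comm, inf_eq_left]
    have hle : A ⊔ E ≤ N ⊔ A := sup_le le_sup_right (pair_le hs hc)
    exact (le_sup_left.trans (sup_le_commutator hs (hS.commutative A hA) (hdeg hd A hA))).trans
      ((Subgroup.commutator_mono hle hle).trans (com_le (commutator_self hS hA)))
  simp only [IsDegenerateRootSet, not_forall, not_not, exists_prop] at hd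
  obtain ⟨A₀, hA₀, B₀, hB₀, hrc₀⟩ := hd
  obtain ⟨g, rfl⟩ := path_conj (h1 A₀ hA₀ A hA)
  set B := conjBy B₀ g
  have hrc : RootCommutatorCase S (conjBy A₀ g) B := rc_conjBy hS hrc₀ g
  set A := conjBy A₀ g
  set C := ⁅A, B⁆ with hC
  have hCS : C ∈ S := hrc.1
  have hCN : C ⊓ N = ⊥ := hN C hCS
  have hCA : C ⊓ (N ⊔ A) = ⊥ := by
    rw [eq_bot_iff]
    rintro c ⟨hc', hcA⟩
    obtain ⟨n, hn, a, ha, rfl⟩ := Subgroup.mem_sup_of_normal_left.1 hcA
    have ha1 : a = 1 := by
      refine rc_inj_left hS hrc ha fun b hb => ?_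
      have h2 : a * b * a⁻¹ * b⁻¹ ∈ C ⊓ N := ⟨Subgroup.commutator_mem_commutator ha hb, by
        have haC : a ∈ N ⊔ C := by
          simpa using mul_mem (Subgroup.mem_sup_left (T := C) (inv_mem hn))
            (Subgroup.mem_sup_right hc')
        exact com_le (rc_comm_right hrc)
          (Subgroup.commutator_mem_commutator haC (Subgroup.mem_sup_right hb))⟩
      rw [hCN, Subgroup.mem_bot, mul_inv_eq_one, mul_inv_eq_iff_eq_mul] at h2
      exact h2
    subst ha1
    rw [mul_one] at hc' ⊢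
    have : n ∈ C ⊓ N := ⟨hc', hn⟩
    rwa [hCN] at this
  -- no member on the line `AC` other than `A` is a partner of `E`
  have hnp : ∀ M ∈ S, M ≤ A ⊔ C → IsRankOnePair M E → M ≤ N ⊔ A := by
    intro M hM hMle hME
    have hEA : E ≤ N ⊔ A := pair_le hs hc
    have hcA : ⁅M, A⁆ = ⊥ := commutator_eq_bot_of_comm fun x hx y hy =>
      commute_sup (rc_comm_left' hrc) (commutator_self hS hA) (commutator_self hS hCS) (hMle hx)
        (Subgroup.mem_sup_left hy)
    have hc2 : ⁅E, M⁆ ≤ N := by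
      rw [Subgroup.commutator_comm]
      exact (Subgroup.commutator_mono le_sup_right hEA).trans (com_le hcA)
    exact (pair_le (hsp E hE M ⟨hM, RankOnePair_symm hME⟩) hc2).trans (sup_le le_sup_left hEA)
  have hCne : ¬ C ≤ N ⊔ A := fun hle => hS.ne_bot C hCS (by rw [← hCA, inf_eq_left.2 hle])
  have hl := isLine_of_rc hS hA hrc
  obtain ⟨g', hg'⟩ := path_conj (h1 A hA C hCS)
  have hpC : IsRankOnePair C (conjBy E g') := by rw [hg']; exact isRankOnePair_conjBy hp g'
  obtain ⟨M, hM, hMle, hMA, hME⟩ := exists_nonpartner hS hE hp hl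
  obtain ⟨b, hb, hb1⟩ := exists_ne_one hS (hS.conj_mem B₀ hB₀ g)
  by_cases hMC : C = M
  · have hPle : conjBy A b ≤ A ⊔ C := conj_le_line hrc hb
    have hPC : conjBy A b ≠ M := fun h0 => by
      have := conj_inf_line hS hrc hb
      rw [← hC, h0, hMC, inf_idem] at this
      exact hS.ne_bot M hM this
    have hP := hnp _ (hS.conj_mem A hA b) hPle
      (nonpartner_unique hS hE hp hl (hS.conj_mem E hE g') hpC hM hMle hMA hME
        (hS.conj_mem A hA b) hPle hPC)
    obtain ⟨a, ha, ha1⟩ := exists_ne_one hS hA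
    have h2 : b * a * b⁻¹ * a⁻¹ ∈ C ⊓ (N ⊔ A) := by
      refine Subgroup.mem_inf.2 ⟨?_, mul_mem (hP ?_) (inv_mem (Subgroup.mem_sup_right ha))⟩
      · rw [hC, Subgroup.commutator_comm]; exact Subgroup.commutator_mem_commutator hb ha
      · rw [mem_conjBy]; simpa [mul_assoc] using ha
    rw [hCA, Subgroup.mem_bot, mul_inv_eq_one, mul_inv_eq_iff_eq_mul] at h2
    refine ha1 ?_
    by_contra ha1'
    exact hb1 (rc_inj_left hS (rc_symm hrc) hb (fun x hx => by
      have h3 : b * x * b⁻¹ * x⁻¹ ∈ C ⊓ (N ⊔ A) := by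
        refine Subgroup.mem_inf.2 ⟨?_, mul_mem (hP ?_) (inv_mem (Subgroup.mem_sup_right hx))⟩
        · rw [hC, Subgroup.commutator_comm]; exact Subgroup.commutator_mem_commutator hb hx
        · rw [mem_conjBy]; simpa [mul_assoc] using hx
      rw [hCA, Subgroup.mem_bot, mul_inv_eq_one, mul_inv_eq_iff_eq_mul] at h3
      exact h3))
  · exact hCne (hnp C hCS le_sup_right (nonpartner_unique hS hE hp hl (hS.conj_mem E hE g') hpC
      hM hMle hMA hME hCS le_sup_right hMC))

theorem exists_adj (h2 : ∃ A ∈ S, ∃ B ∈ S, A ≠ B) (h1 : IsConnectedFamily (FAdj S) S) (hA : A ∈ S) :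
    ∃ D ∈ S, IsRankOnePair A D := by
  obtain ⟨P, hP, Q, hQ, hPQ⟩ := h2
  rcases Relation.ReflTransGen.cases_head (h1 P hP Q hQ) with h | ⟨R, hR, -⟩
  · exact absurd h hPQ
  obtain ⟨g, rfl⟩ := path_conj (h1 P hP A hA)
  exact ⟨conjBy R g, hS.conj_mem R hR.2.1 g, isRankOnePair_conjBy hR.2.2 g⟩

/-- A group as in the criterion is perfect. -/
theorem perfect (h2 : ∃ A ∈ S, ∃ B ∈ S, A ≠ B) (h1 : IsConnectedFamily (FAdj S) S)
    (hdeg : IsDegenerateRootSet S → ∀ A ∈ S, 3 < ENat.card A)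
    (hsp : ∀ A ∈ S, ∀ B ∈ rankOnePartners S A, IsSpecialRankOnePair A B) :
    commutator G = ⊤ := by
  rw [eq_top_iff, ← hS.generates]
  refine iSup₂_le fun A hA => ?_
  by_cases hd : IsDegenerateRootSet S
  · obtain ⟨E, hE, hp⟩ := exists_adj hS h2 h1 hA
    exact (le_sup_left.trans (sup_le_commutator (hsp A hA E ⟨hE, hp⟩) (hS.commutative A hA)
      (hdeg hd A hA))).trans (by rw [commutator_def]; exact Subgroup.commutator_mono le_top le_top)
  simp only [IsDegenerateRootSet, not_forall, not_not, exists_prop] at hd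
  obtain ⟨P, hP, Q, hQ, hrc⟩ := hd
  obtain ⟨g, rfl⟩ := path_conj (h1 _ hrc.1 A hA)
  rw [← commutator_conjBy, commutator_def]
  exact Subgroup.commutator_mono le_top le_top

/-- A proper normal subgroup is central. -/
theorem normal_le_center (h2 : ∃ A ∈ S, ∃ B ∈ S, A ≠ B) (h1 : IsConnectedFamily (FAdj S) S)
    (h2' : ∀ A ∈ S, ∀ C ∈ S, A ≠ C → centralizingMembers S A ≠ centralizingMembers S C)
    (hdeg : IsDegenerateRootSet S → ∀ A ∈ S, 3 < ENat.card A)
    (hsp : ∀ A ∈ S, ∀ B ∈ rankOnePartners S A, IsSpecialRankOnePair A B)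
    (N : Subgroup G) [N.Normal] : N = ⊤ ∨ N ≤ Subgroup.center G := by
  by_cases hN : ∀ A ∈ S, A ⊓ N = ⊥
  swap
  · push Not at hN
    obtain ⟨A, hA, hAN⟩ := hN
    refine Or.inl ?_
    have hmeet : ∀ B ∈ S, B ⊓ N ≠ ⊥ := by
      intro B hB h0
      obtain ⟨g, rfl⟩ := path_conj (h1 A hA B hB)
      apply hAN
      have hNg : conjBy N g = N := conjBy_eq_self_iff.2 (by simp [Subgroup.normalizer_eq_top])
      rw [← hNg, ← conjBy_inf] at h0
      exact (Subgroup.map_eq_bot_iff_of_injective _ (MulAut.conj g).injective).1 h0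
    have hstep : ∀ P Q, FAdj S P Q → Q ≤ N ⊔ P := by
      rintro P Q ⟨hP, hQ, hp⟩
      obtain ⟨x, hx, hx1⟩ := (Subgroup.bot_or_exists_ne_one _).resolve_left (hmeet P hP)
      have hQN : Q ≤ N ⊔ P := by
        rcases normal_dichotomy hp (N := N ⊓ (P ⊔ Q)) (fun y hy => by
            rw [conjBy_inf, conjBy_of_mem hy,
              conjBy_eq_self_iff.2 (by simp [Subgroup.normalizer_eq_top])])
            inf_le_right with h | h
        · exact le_sup_right.trans (h.trans (sup_le_sup_right inf_le_left _))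
        · exact absurd (eq_one_of_centralizes hp hx.1 fun y hy =>
            h x ⟨hx.2, Subgroup.mem_sup_left hx.1⟩ y (Subgroup.mem_sup_right hy)) hx1
      exact hQN
    have htop : N ⊔ A = ⊤ := by
      rw [eq_top_iff, ← hS.generates]
      refine iSup₂_le fun B hB => ?_
      have hpath := h1 A hA B hB
      clear hB
      induction hpath with
      | refl => exact le_sup_right
      | tail _ h ih => exact (hstep _ _ h).trans (sup_le le_sup_left ih)
    rw [eq_top_iff, ← perfect hS h2 h1 hdeg hsp, commutator_def]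
    calc ⁅(⊤ : Subgroup G), (⊤ : Subgroup G)⁆ = ⁅N ⊔ A, N ⊔ A⁆ := by rw [htop]
      _ ≤ N := com_le (commutator_self hS hA)
  refine Or.inr ?_
  have hP : ∀ P ∈ S, ∀ Q ∈ S, ⁅P, Q⁆ ≤ N → ⁅P, Q⁆ = ⊥ := by
    intro P hP Q hQ hle
    rcases hS.pair P hP Q hQ with h | h | h
    · exact h
    · exact absurd hle (pair_not_le hS h1 hdeg hsp hN hP hQ h)
    · exact absurd (hN _ h.1) (by rw [inf_eq_left.2 hle]; exact hS.ne_bot _ h.1)
  have hfix : ∀ n ∈ N, ∀ A ∈ S, conjBy A n = A := by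
    have hsub : ∀ n ∈ N, ∀ A ∈ S, centralizingMembers S A ⊆ centralizingMembers S (conjBy A n) := by
      rintro n hn A hA D ⟨hD, hDA⟩
      refine ⟨hD, Subgroup.commutator_eq_bot_iff_le_centralizer.1
        (hP D hD _ (hS.conj_mem A hA n) ?_)⟩
      refine (Subgroup.commutator_mono (le_sup_right : D ≤ N ⊔ D) ?_).trans
        (com_le (Subgroup.commutator_eq_bot_iff_le_centralizer.2 hDA))
      intro y hy
      rw [mem_conjBy] at hy
      have hn' : n ∈ N ⊔ A := Subgroup.mem_sup_left hn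
      simpa [mul_assoc] using mul_mem (mul_mem hn' (Subgroup.mem_sup_right hy)) (inv_mem hn')
    intro n hn A hA
    by_contra hne
    refine h2' _ (hS.conj_mem A hA n) A hA hne ((hsub n hn A hA).antisymm ?_).symm
    have := hsub n⁻¹ (inv_mem hn) _ (hS.conj_mem A hA n)
    rwa [conjBy_inv_conjBy] at this
  intro n hn
  have hgen : (⊤ : Subgroup G) ≤ Subgroup.centralizer ({n} : Set G) := by
    rw [← hS.generates]
    refine iSup₂_le fun A hA a ha => Subgroup.mem_centralizer_iff.2 fun y hy => ?_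
    rw [Set.mem_singleton_iff.1 hy]
    have hmem : n * a * n⁻¹ * a⁻¹ ∈ A ⊓ N := by
      refine Subgroup.mem_inf.2 ⟨mul_mem ?_ (inv_mem ha), ?_⟩
      · rw [← hfix n hn A hA, mem_conjBy]; simpa [mul_assoc] using ha
      · have := mul_mem hn (Subgroup.Normal.conj_mem ‹N.Normal› _ (inv_mem hn) a)
        simpa [mul_assoc] using this
    rw [hN A hA, Subgroup.mem_bot, mul_inv_eq_one, mul_inv_eq_iff_eq_mul] at hmem
    exact hmem
  exact Subgroup.mem_center_iff.2 fun g =>
    (Subgroup.mem_centralizer_iff.1 (hgen (Subgroup.mem_top g)) n rfl).symm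

end Cfsg.Agent.RootSubQuasi
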