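import Cfsg.Agent.Lib.RootSubLine

/-!
Connectivity of the graph of rank one pairs and the structure of lines in a set of abstract root
subgroups.
-/

set_option autoImplicit false

namespace Cfsg.Agent.RootSubConn

open Cfsg RankOne RootSub RootSubLine

variable {G : Type*} [Group G] {S : Set (Subgroup G)} {A B C D E M P W : Subgroup G}

theorem conj_commute_of_not_rankOne (hS : IsRootSubgroupSet S) (hC : C ∈ S) (hD : D ∈ S)
    (h : ¬ IsRankOnePair C D) {c : G} (hc : c ∈ C) : ⁅conjBy D c, D⁆ = ⊥ := by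
  rcases hS.pair C hC D hD with h1 | h1 | h1
  · rw [conjBy_eq_self_iff.2
      (Subgroup.centralizer_le_normalizer _ (le_centralizer_of_commutator_eq_bot h1 hc))]
    exact commutator_self hS hD
  · exact absurd h1 h
  · exact rc_conj_commute hS hD h1 hc

theorem pair_conj_ne (h : IsRankOnePair A D) {a : G} (ha : a ∈ A) (ha1 : a ≠ 1) :
    IsRankOnePair (conjBy D a) D :=
  isRankOnePair_of_mem_unipotents h
    (conjBy_mem_unipotents (right_mem_unipotents h) (Subgroup.mem_sup_left ha))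
    (right_mem_unipotents h) fun hc => ha1 (eq_one_of_normalizes h ha hc)

/-- If `a` is a root element with partner `D`, and `c`, `a c` are root elements of members
not forming rank one pairs with `D`, we get a contradiction. -/
theorem key_false (hS : IsRootSubgroupSet S) (hD : D ∈ S) (hC : C ∈ S) (hE : E ∈ S)
    (hp : IsRankOnePair A D) {a c : G} (ha : a ∈ A) (ha1 : a ≠ 1) (hc : c ∈ C)
    (hac : a * c = c * a) (hce : a * c ∈ E) (hCD : ¬ IsRankOnePair C D)
    (hED : ¬ IsRankOnePair E D) : False := by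
  have hp' := pair_conj_ne hp ha ha1
  have h2 := commutator_conjBy_eq_bot (g := c⁻¹) (conj_commute_of_not_rankOne hS hE hD hED hce)
  rw [conjBy_mul, hac, inv_mul_cancel_left] at h2
  rcases hS.pair C hC D hD with h1 | h1 | h1
  · rw [conjBy_eq_self_iff.2 (Subgroup.centralizer_le_normalizer _
      (le_centralizer_of_commutator_eq_bot h1 (inv_mem hc)))] at h2
    exact commutator_ne_bot hp' h2
  · exact hCD h1
  · obtain ⟨d, hd, hd1⟩ := exists_ne_one hS hD
    have hzD : c⁻¹ * d * c ∈ conjBy D c⁻¹ := by rw [mem_conjBy]; simpa [mul_assoc] using hd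
    have hz1 : c⁻¹ * d * c ≠ 1 := fun h0 => hd1 (by
      calc d = c * (c⁻¹ * d * c) * c⁻¹ := by group
        _ = 1 := by rw [h0]; group)
    refine not_root_of_centralizes hS hD (hS.conj_mem D hD a) (RankOnePair_symm hp')
      (z := c⁻¹ * d * c) ?_ hz1 (inv_mem hd) (inv_ne_one.2 hd1) h1.1 ?_
    · have hle : D ⊔ conjBy D a ≤ Subgroup.centralizer ({c⁻¹ * d * c} : Set G) := by
        refine sup_le (fun y hy => ?_) (fun y hy => ?_) <;>
          refine Subgroup.mem_centralizer_iff.2 fun w hw => ?_ <;>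
          rw [Set.mem_singleton_iff.1 hw]
        · exact elem_comm (rc_conj_commute hS hD h1 (inv_mem hc)) hzD hy
        · exact (elem_comm h2 hy hzD).symm
      exact Subgroup.mem_centralizer_iff.2 fun y hy =>
        (Subgroup.mem_centralizer_iff.1 (hle hy) _ rfl).symm
    · simpa [commutatorElement_def, mul_assoc] using
        Subgroup.commutator_mem_commutator (inv_mem hc) hd

theorem rfl_trans_symm (S : Set (Subgroup G)) {A B : Subgroup G}
    (h : Relation.ReflTransGen (FAdj S) A B) : Relation.ReflTransGen (FAdj S) B A :=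
  haveI : Std.Symm (FAdj S) := ⟨fun _ _ h => ⟨h.2.1, h.1, RankOnePair_symm h.2.2⟩⟩
  symm h

theorem fAdj_conjBy (hS : IsRootSubgroupSet S) (h : FAdj S A B) (g : G) :
    FAdj S (conjBy A g) (conjBy B g) :=
  ⟨hS.conj_mem A h.1 g, hS.conj_mem B h.2.1 g, isRankOnePair_conjBy h.2.2 g⟩

theorem path_conjBy (hS : IsRootSubgroupSet S) (h : Relation.ReflTransGen (FAdj S) A B) (g : G) :
    Relation.ReflTransGen (FAdj S) (conjBy A g) (conjBy B g) :=
  h.lift (fun U => conjBy U g) fun _ _ h => fAdj_conjBy hS h g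

/-- A non-isolated member is connected with all of its conjugates. -/
theorem path_to_conj (hS : IsRootSubgroupSet S) (hA : A ∈ S) (hD : D ∈ S)
    (hp : IsRankOnePair A D) (g : G) :
    Relation.ReflTransGen (FAdj S) A (conjBy A g) := by
  have step : ∀ E ∈ S, ∀ e ∈ E, Relation.ReflTransGen (FAdj S) A (conjBy A e) := by
    intro E hE e he
    rcases hS.pair E hE A hA with h | h | h
    · rw [conjBy_eq_self_iff.2
        (Subgroup.centralizer_le_normalizer _ (le_centralizer_of_commutator_eq_bot h he))]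
    · rcases eq_or_ne (conjBy A e) A with hh | hh
      · rw [hh]
      · exact Relation.ReflTransGen.single ⟨hA, hS.conj_mem A hA e,
          isRankOnePair_of_mem_unipotents h (right_mem_unipotents h)
            (conjBy_mem_unipotents (right_mem_unipotents h) (Subgroup.mem_sup_left he)) (Ne.symm hh)⟩
    · have hCfix : conjBy ⁅E, A⁆ e = ⁅E, A⁆ := by
        have := fixed_line (rc_symm h) he
        rwa [Subgroup.commutator_comm] at this
      by_cases hCD : IsRankOnePair ⁅E, A⁆ D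
      · have h1 : Relation.ReflTransGen (FAdj S) A ⁅E, A⁆ :=
          (Relation.ReflTransGen.single ⟨hA, hD, hp⟩).tail ⟨hD, h.1, RankOnePair_symm hCD⟩
        have h2 := path_conjBy hS h1 e
        rw [hCfix] at h2
        exact h1.trans (rfl_trans_symm S h2)
      · by_cases hAD : IsRankOnePair (conjBy A e) D
        · exact (Relation.ReflTransGen.single ⟨hA, hD, hp⟩).tail
            ⟨hD, hS.conj_mem A hA e, RankOnePair_symm hAD⟩
        · exfalso
          obtain ⟨a, ha, ha1⟩ := exists_ne_one hS hA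
          have hc : e * a * e⁻¹ * a⁻¹ ∈ ⁅E, A⁆ := Subgroup.commutator_mem_commutator he ha
          have hac : a * (e * a * e⁻¹ * a⁻¹) = (e * a * e⁻¹ * a⁻¹) * a :=
            (h.2.1 _ hc a (Subgroup.mem_sup_right ha)).symm
          refine key_false hS hD h.1 (hS.conj_mem A hA e) hp ha ha1 hc hac ?_ hCD hAD
          rw [hac, inv_mul_cancel_right, mem_conjBy]
          simpa [mul_assoc] using ha
  have main : ∀ g ∈ (⨆ E ∈ S, E : Subgroup G), Relation.ReflTransGen (FAdj S) A (conjBy A g) := by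
    intro g hg
    rw [Subgroup.iSup_eq_closure] at hg
    induction hg using Subgroup.closure_induction with
    | mem x hx =>
      obtain ⟨E, hxE⟩ := Set.mem_iUnion.1 hx
      by_cases hE : E ∈ S
      · rw [iSup_pos hE] at hxE; exact step E hE x hxE
      · rw [iSup_neg hE] at hxE
        rw [(Subgroup.mem_bot.1 hxE : x = 1), conjBy_one]
    | one => rw [conjBy_one]
    | mul x y _ _ hx hy =>
      have := path_conjBy hS hy x
      rw [conjBy_mul] at this
      exact hx.trans this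
    | inv x _ hx =>
      have := path_conjBy hS hx x⁻¹
      rw [conjBy_inv_conjBy] at this
      exact rfl_trans_symm S this
  exact main g (hS.generates.symm ▸ Subgroup.mem_top g)

theorem adj_conj (h : FAdj S A B) : ∃ g : G, B = conjBy A g := by
  obtain ⟨x, -, hx⟩ := right_mem_unipotents h.2.2
  exact ⟨x, hx⟩

theorem path_conj (h : Relation.ReflTransGen (FAdj S) A B) : ∃ g : G, B = conjBy A g := by
  induction h with
  | refl => exact ⟨1, (conjBy_one A).symm⟩
  | tail _ h ih =>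
    obtain ⟨g, rfl⟩ := ih
    obtain ⟨g', rfl⟩ := adj_conj h
    exact ⟨g' * g, conjBy_mul _ _ _⟩

theorem class_partner (hS : IsRootSubgroupClass S) (hp : ∃ A ∈ S, ∃ B ∈ S, IsRankOnePair A B)
    (hA : A ∈ S) : ∃ D ∈ S, IsRankOnePair A D := by
  obtain ⟨A₀, h₀, B₀, hB₀, hp⟩ := hp
  obtain ⟨g, rfl⟩ := hS.2.2 A₀ h₀ A hA
  exact ⟨conjBy B₀ g, hS.1.conj_mem B₀ hB₀ g, isRankOnePair_conjBy hp g⟩

theorem class_connected (hS : IsRootSubgroupClass S) (hp : ∃ A ∈ S, ∃ B ∈ S, IsRankOnePair A B) :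
    IsConnectedFamily (FAdj S) S := by
  intro A hA B hB
  obtain ⟨g, rfl⟩ := hS.2.2 A hA B hB
  obtain ⟨D, hD, hpD⟩ := class_partner hS hp hA
  exact path_to_conj hS.1 hA hD hpD g

/-- `A` and `B` are distinct commuting members with every product of their non-identity elements
again a root element: the weak form of being a line. -/
structure IsLine (S : Set (Subgroup G)) (A B : Subgroup G) : Prop where
  left_mem : A ∈ S
  right_mem : B ∈ S
  ne : A ≠ B
  comm : ⁅A, B⁆ = ⊥
  cover : ∀ x ∈ A ⊔ B, x ≠ 1 → ∃ P ∈ S, P ≤ A ⊔ B ∧ x ∈ P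

theorem isLine_of_linePartners (hA : A ∈ S) (h : B ∈ linePartners S A) : IsLine S A B := by
  obtain ⟨⟨hB, hne, hc⟩, -, hcov, -⟩ := h
  exact ⟨hA, hB, hne.symm, hc, fun x hx hx1 => by
    obtain ⟨P, hP, hxP⟩ := hcov x hx hx1
    exact ⟨P, hP.1, hP.2, hxP⟩⟩

theorem IsLine.symm (h : IsLine S A B) : IsLine S B A :=
  ⟨h.right_mem, h.left_mem, h.ne.symm, by rw [Subgroup.commutator_comm]; exact h.comm,
    by rw [sup_comm]; exact h.cover⟩

theorem isLine_of_rc (hS : IsRootSubgroupSet S) (hA : A ∈ S) (h : RootCommutatorCase S A B) :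
    IsLine S A ⁅A, B⁆ :=
  ⟨hA, h.1, (rc_left_ne hS h).symm, rc_comm_left' h, fun x hx _ => by
    by_cases hxC : x ∈ ⁅A, B⁆
    · exact ⟨_, h.1, le_sup_right, hxC⟩
    · obtain ⟨b, hb, hxb⟩ := line_cover h hx hxC
      exact ⟨_, hS.conj_mem A hA b, conj_le_line h hb, hxb⟩⟩

theorem isLine_conjBy (hS : IsRootSubgroupSet S) (h : IsLine S A B) (g : G) :
    IsLine S (conjBy A g) (conjBy B g) := by
  refine ⟨hS.conj_mem A h.left_mem g, hS.conj_mem B h.right_mem g,
    fun hc => h.ne (conjBy_injective g hc), commutator_conjBy_eq_bot h.comm, fun x hx hx1 => ?_⟩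
  rw [← conjBy_sup, mem_conjBy] at hx
  obtain ⟨P, hP, hle, hxP⟩ := h.cover _ hx fun h0 => hx1 (by
    calc x = g * (g⁻¹ * x * g) * g⁻¹ := by group
      _ = 1 := by rw [h0]; group)
  refine ⟨conjBy P g, hS.conj_mem P hP g, ?_, mem_conjBy.2 hxP⟩
  rw [← conjBy_sup]
  exact Subgroup.map_mono hle

theorem commute_sup (h : ⁅A, B⁆ = ⊥) (hA : ⁅A, A⁆ = ⊥) (hB : ⁅B, B⁆ = ⊥) {x y : G}
    (hx : x ∈ A ⊔ B) (hy : y ∈ A ⊔ B) : x * y = y * x := by
  obtain ⟨a, ha, b, hb, rfl⟩ := mem_sup_of_commute h hx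
  obtain ⟨a', ha', b', hb', rfl⟩ := mem_sup_of_commute h hy
  have k1 : Commute a (a' * b') :=
    (show Commute a a' from elem_comm hA ha ha').mul_right (elem_comm h ha hb')
  have k2 : Commute b (a' * b') :=
    (show Commute b a' from (elem_comm h ha' hb).symm).mul_right (elem_comm hB hb hb')
  exact (k1.mul_left k2).eq

theorem members_commute (hS : IsRootSubgroupSet S) (h : IsLine S A B) {P Q : Subgroup G}
    (hP : P ≤ A ⊔ B) (hQ : Q ≤ A ⊔ B) : ⁅P, Q⁆ = ⊥ :=
  commutator_eq_bot_of_comm fun _ hx _ hy => commute_sup h.comm (commutator_self hS h.left_mem)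
    (commutator_self hS h.right_mem) (hP hx) (hQ hy)

theorem mem_line_eq (hS : IsRootSubgroupSet S) (hA : A ∈ S) (hD : D ∈ S)
    (hp : IsRankOnePair A D) (hB : B ∈ S) {x : G} (hxA : x ∈ A) (hxB : x ∈ B) (hx : x ≠ 1) :
    A = B :=
  (inf_eq_bot_or_eq hS hA hD hp hB).resolve_left fun h =>
    hx (Subgroup.mem_bot.1 (h ▸ Subgroup.mem_inf.2 ⟨hxA, hxB⟩))

/-- On a line through `A` some member fails to be a partner of a given partner `D` of `A`; it is
then in the commutator case with `D`. -/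
theorem exists_nonpartner (hS : IsRootSubgroupSet S) (hD : D ∈ S) (hp : IsRankOnePair A D)
    (hl : IsLine S A B) : ∃ M ∈ S, M ≤ A ⊔ B ∧ M ≠ A ∧ RootCommutatorCase S M D := by
  obtain ⟨a, ha, ha1⟩ := exists_ne_one hS hl.left_mem
  have hnon : ∃ M ∈ S, M ≤ A ⊔ B ∧ M ≠ A ∧ ¬ IsRankOnePair M D := by
    by_cases hBD : IsRankOnePair B D
    swap
    · exact ⟨B, hl.right_mem, le_sup_right, hl.ne.symm, hBD⟩
    obtain ⟨d, hd, hd1, he⟩ := hp.cond_left a ha ha1
    obtain ⟨b, hb, hb1, he'⟩ := hBD.cond_right d hd hd1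
    have hcomm : ⁅conjBy D a⁻¹, conjBy D b⁻¹⁆ = ⊥ := by
      rw [← he, he']
      exact commutator_conjBy_eq_bot hl.comm
    have hcomm2 := commutator_conjBy_eq_bot (g := b) hcomm
    rw [conjBy_mul, conjBy_conjBy_inv] at hcomm2
    have hne1 : b * a⁻¹ ≠ 1 := fun h0 => hl.ne (mem_line_eq hS hl.left_mem hD hp hl.right_mem ha
      ((mul_inv_eq_one.1 h0) ▸ hb) ha1)
    obtain ⟨P, hP, hPle, hxP⟩ := hl.cover _ (mul_mem (Subgroup.mem_sup_right hb)
      (Subgroup.mem_sup_left (inv_mem ha))) hne1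
    refine ⟨P, hP, hPle, ?_, fun hPD => commutator_ne_bot (pair_conj_ne hPD hxP hne1) hcomm2⟩
    intro hPA
    rw [hPA] at hxP
    refine hl.ne (mem_line_eq hS hl.left_mem hD hp hl.right_mem (x := b) ?_ hb hb1)
    simpa using mul_mem hxP ha
  obtain ⟨M, hM, hMle, hMA, hMD⟩ := hnon
  refine ⟨M, hM, hMle, hMA, ?_⟩
  rcases hS.pair M hM D hD with h | h | h
  · exfalso
    obtain ⟨m, hm, hm1⟩ := exists_ne_one hS hM
    have hma1 : m * a ≠ 1 := fun h0 => hMA ((mem_line_eq hS hl.left_mem hD hp hM ha (by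
      rw [eq_inv_of_mul_eq_one_right h0]; exact inv_mem hm) ha1).symm)
    obtain ⟨P, hP, -, hxP⟩ := hl.cover _ (mul_mem (hMle hm) (Subgroup.mem_sup_left ha)) hma1
    refine not_root_of_centralizes hS hl.left_mem hD hp (z := m) ?_ hm1 ha ha1 hP hxP
    have hle : A ⊔ D ≤ Subgroup.centralizer ({m} : Set G) := by
      refine sup_le (fun y hy => ?_) (fun y hy => ?_) <;>
        refine Subgroup.mem_centralizer_iff.2 fun w hw => ?_ <;>
        rw [Set.mem_singleton_iff.1 hw]
      · exact elem_comm (members_commute hS hl hMle le_sup_left) hm hy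
      · exact elem_comm h hm hy
    exact Subgroup.mem_centralizer_iff.2 fun y hy =>
      (Subgroup.mem_centralizer_iff.1 (hle hy) m rfl).symm
  · exact absurd h hMD
  · exact h

/-- The structure of a line through `A` relative to a partner `D`. -/
theorem line_structure (hS : IsRootSubgroupSet S) (hD : D ∈ S) (hp : IsRankOnePair A D)
    (hl : IsLine S A B) (hM : M ∈ S) (hMle : M ≤ A ⊔ B) (hMA : M ≠ A)
    (hMD : RootCommutatorCase S M D) :
    RootCommutatorCase S A ⁅M, D⁆ ∧ ⁅A, ⁅M, D⁆⁆ = M := by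
  have hA := hl.left_mem
  have hMA' : ⁅A, M⁆ = ⊥ := members_commute hS hl le_sup_left hMle
  have hMDn : ¬ IsRankOnePair M D := rc_not_rankOne hS hD hMD
  set F := ⁅M, D⁆ with hF
  have main : ∀ a ∈ A, a ≠ 1 → ∀ m ∈ M, m ≠ 1 → ∃ f ∈ F,
      conjBy A f ≠ A ∧ ⁅conjBy A f, A⁆ = ⊥ ∧ a * m ∈ conjBy A f := by
    intro a ha ha1 m hm hm1
    have hx1 : a * m ≠ 1 := fun h0 => hMA ((mem_line_eq hS hA hD hp hM ha (by
      rw [eq_inv_of_mul_eq_one_left h0]; exact inv_mem hm) ha1).symm)
    obtain ⟨P, hP, hPle, hxP⟩ := hl.cover _ (mul_mem (Subgroup.mem_sup_left ha) (hMle hm)) hx1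
    have hAP : ⁅A, P⁆ = ⊥ := members_commute hS hl le_sup_left hPle
    have hPA : P ≠ A := by
      intro h0
      rw [h0] at hxP
      exact hMA ((mem_line_eq hS hA hD hp hM (x := m)
        (by simpa using mul_mem (inv_mem ha) hxP) hm hm1).symm)
    have hPD : IsRankOnePair P D := by
      by_contra h0
      exact key_false hS hD hM hP hp ha ha1 hm (elem_comm hMA' ha hm) hxP hMDn h0
    obtain ⟨d, hd, -, he⟩ := hp.cond_left a ha ha1
    obtain ⟨d', hd', -, he'⟩ := hPD.cond_left _ hxP hx1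
    have hc : ⁅conjBy A d⁻¹, conjBy P d'⁻¹⁆ = ⊥ := by
      rw [he, he', mul_inv_rev, elem_comm (Subgroup.commutator_comm A M ▸ hMA')
        (inv_mem hm) (inv_mem ha), ← conjBy_mul]
      rw [Subgroup.commutator_comm]
      exact commutator_conjBy_eq_bot (conj_commute_of_not_rankOne hS hM hD hMDn (inv_mem hm))
    have hc2 := commutator_conjBy_eq_bot (g := d) hc
    rw [conjBy_conjBy_inv, conjBy_mul] at hc2
    have hdd : conjBy P (d * d'⁻¹) = P := by
      by_contra hne
      refine commutator_ne_bot hp (le_bot_iff.1 ?_)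
      have h3 := sup_eq_of_mem_unipotents hPD
        (conjBy_mem_unipotents self_mem_unipotents (Subgroup.mem_sup_right (mul_mem hd (inv_mem hd'))))
        self_mem_unipotents hne
      have h4 : ⁅A, conjBy P (d * d'⁻¹) ⊔ P⁆ = ⊥ := by
        rw [Subgroup.commutator_comm, Subgroup.commutator_eq_bot_iff_le_centralizer]
        rw [Subgroup.commutator_comm, Subgroup.commutator_eq_bot_iff_le_centralizer] at hc2 hAP
        exact sup_le hc2 hAP
      rw [h3] at h4
      rw [← h4]
      exact Subgroup.commutator_mono le_rfl le_sup_right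
    have hd' : d = d' := mul_inv_eq_one.1 (eq_one_of_normalizes (RankOnePair_symm hPD)
      (mul_mem hd (inv_mem hd')) hdd)
    subst hd'
    have hAm : conjBy A m⁻¹ = A := conjBy_eq_self_iff.2 (Subgroup.centralizer_le_normalizer _
      (le_centralizer_of_commutator_eq_bot (A := M) (B := A)
        (by rw [Subgroup.commutator_comm]; exact hMA') (inv_mem hm)))
    have hPeq : P = conjBy A (d * m⁻¹ * d⁻¹ * m⁻¹⁻¹) := by
      have h5 : conjBy P d⁻¹ = conjBy A (m⁻¹ * d⁻¹) := by
        rw [he', ← conjBy_mul, he, mul_inv_rev, conjBy_mul]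
      calc P = conjBy (conjBy P d⁻¹) d := (conjBy_conjBy_inv P d).symm
        _ = conjBy A (d * (m⁻¹ * d⁻¹)) := by rw [h5, conjBy_mul]
        _ = conjBy (conjBy A m⁻¹) (d * (m⁻¹ * d⁻¹) * m⁻¹⁻¹) := by rw [conjBy_mul]; group
        _ = conjBy A (d * m⁻¹ * d⁻¹ * m⁻¹⁻¹) := by rw [hAm]; congr 1; group
    refine ⟨_, ?_, hPeq ▸ hPA, ?_, hPeq ▸ hxP⟩
    · rw [hF, Subgroup.commutator_comm]
      exact Subgroup.commutator_mem_commutator hd (inv_mem hm)
    · rw [← hPeq, Subgroup.commutator_comm]; exact hAP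
  obtain ⟨a, ha, ha1⟩ := exists_ne_one hS hA
  obtain ⟨m, hm, hm1⟩ := exists_ne_one hS hM
  obtain ⟨f, hf, hfne, hfc, -⟩ := main a ha ha1 m hm hm1
  have hrc : RootCommutatorCase S A F := by
    rcases hS.pair A hA F hMD.1 with h | h | h
    · exact absurd (conjBy_eq_self_iff.2 (Subgroup.centralizer_le_normalizer _
        (le_centralizer_of_commutator_eq_bot (A := F) (B := A)
          (by rw [Subgroup.commutator_comm]; exact h) hf))) hfne
    · exact absurd hfc (commutator_ne_bot (isRankOnePair_of_mem_unipotents h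
        (conjBy_mem_unipotents self_mem_unipotents (Subgroup.mem_sup_right hf))
        self_mem_unipotents hfne))
    · exact h
  refine ⟨hrc, ?_⟩
  have hsub : M ≤ A ⊔ ⁅A, F⁆ := by
    intro y hy
    rcases eq_or_ne y 1 with rfl | hy1
    · exact one_mem _
    obtain ⟨f', hf', -, -, hmem⟩ := main a ha ha1 y hy hy1
    simpa using mul_mem (Subgroup.mem_sup_left (T := ⁅A, F⁆) (inv_mem ha)) (conj_le_line hrc hf' hmem)
  have hmm : M ∈ membersIn S (A ⊔ ⁅A, F⁆) := ⟨hM, hsub⟩
  rw [members_line hS hA hD hp hrc] at hmm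
  rcases hmm with ⟨f', hf', he⟩ | he
  · exfalso
    apply hMA
    have h7 : conjBy M f' = M := by
      refine conjBy_eq_self_iff.2 (Subgroup.centralizer_le_normalizer _ ?_)
      exact le_centralizer_of_commutator_eq_bot (rc_comm_left hMD) hf'
    apply conjBy_injective f'
    show conjBy M f' = conjBy A f'
    rw [h7]; exact he.symm
  · exact (Set.mem_singleton_iff.1 he).symm

/-- A line through a non-isolated `A` is `A[A,F]` with members the conjugates of `A` and `M`. -/
theorem line_eq (hS : IsRootSubgroupSet S) (hD : D ∈ S) (hp : IsRankOnePair A D)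
    (hl : IsLine S A B) {DB : Subgroup G} (hDB : DB ∈ S) (hpB : IsRankOnePair B DB) (hM : M ∈ S)
    (hMle : M ≤ A ⊔ B) (hMA : M ≠ A) (hMD : RootCommutatorCase S M D) : A ⊔ B = A ⊔ M := by
  obtain ⟨hrc, he⟩ := line_structure hS hD hp hl hM hMle hMA hMD
  refine le_antisymm (sup_le le_sup_left ?_) (sup_le le_sup_left hMle)
  obtain ⟨m, hm, hm1⟩ := exists_ne_one hS hM
  obtain ⟨a, ha, b, hb, hab⟩ := mem_sup_of_commute hl.comm (hMle hm)
  have hb1 : b ≠ 1 := by
    intro h0
    rw [h0, mul_one] at hab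
    exact hMA (mem_line_eq hS hl.left_mem hD hp hM ha (hab ▸ hm) (hab ▸ hm1)).symm
  have hbm : b ∈ A ⊔ ⁅A, ⁅M, D⁆⁆ := by
    rw [he]
    have := mul_mem (Subgroup.mem_sup_left (T := M) (inv_mem ha)) (Subgroup.mem_sup_right hm)
    rwa [← hab, inv_mul_cancel_left] at this
  obtain ⟨Q, hQ, hbQ⟩ := (partition_line hS hl.left_mem hD hp hrc).2.1 b hbm hb1
  rw [mem_line_eq hS hl.right_mem hDB hpB hQ.1 hb hbQ hb1]
  exact hQ.2.trans (by rw [he])

/-- Among the members on a line through `A`, only one is not a partner of `D`. -/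
theorem nonpartner_unique (hS : IsRootSubgroupSet S) (hD : D ∈ S) (hp : IsRankOnePair A D)
    (hl : IsLine S A B) {DB : Subgroup G} (hDB : DB ∈ S) (hpB : IsRankOnePair B DB) (hM : M ∈ S)
    (hMle : M ≤ A ⊔ B) (hMA : M ≠ A) (hMD : RootCommutatorCase S M D) (hP : P ∈ S)
    (hPle : P ≤ A ⊔ B) (hPM : P ≠ M) : IsRankOnePair P D := by
  obtain ⟨hrc, he⟩ := line_structure hS hD hp hl hM hMle hMA hMD
  have hmm : P ∈ membersIn S (A ⊔ ⁅A, ⁅M, D⁆⁆) :=
    ⟨hP, by rw [he, ← line_eq hS hD hp hl hDB hpB hM hMle hMA hMD]; exact hPle⟩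
  rw [members_line hS hl.left_mem hD hp hrc, he] at hmm
  rcases hmm with ⟨f, hf, rfl⟩ | h
  · have h8 : conjBy D f = D := conjBy_eq_self_iff.2 (Subgroup.centralizer_le_normalizer _
      (le_centralizer_of_commutator_eq_bot (rc_comm_right hMD) hf))
    have h9 := isRankOnePair_conjBy hp f
    rwa [h8] at h9
  · exact absurd (Set.mem_singleton_iff.1 h) hPM

/-- An element of `⁅M,D⁆` other than the identity moves `A`. -/
theorem conj_ne_self (hS : IsRootSubgroupSet S) (h : RootCommutatorCase S A B) {b : G} (hb : b ∈ B)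
    (hb1 : b ≠ 1) : conjBy A b ≠ A := by
  intro he
  refine hb1 (rc_inj_left hS (rc_symm h) hb fun a ha => ?_)
  have h0 : b * a * b⁻¹ * a⁻¹ = 1 := by
    refine Subgroup.mem_bot.1 (inf_line_eq_bot hS h ▸ Subgroup.mem_inf.2 ⟨?_, ?_⟩)
    · refine mul_mem ?_ (inv_mem ha)
      rw [← he, mem_conjBy]; simpa [mul_assoc] using ha
    · rw [Subgroup.commutator_comm]; exact Subgroup.commutator_mem_commutator hb ha
  rw [mul_inv_eq_one, mul_inv_eq_iff_eq_mul] at h0
  exact h0

end Cfsg.Agent.RootSubConn
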