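import Mathlib
import Cfsg.Prelude.Def_RootSubgroups
import Cfsg.Prelude.Def_CaseTheorems
import Cfsg.Agent.Lib.RootSubQuasi
import Cfsg.Agent.Lib.QuadPairRootSet
import Cfsg.Agent.Lib.QuadPairNoUni
import Cfsg.Agent.S5031

/-!
The components of the root groups of a quadratic pair: they commute pairwise, are finitely many,
and each generates a quasisimple group.
-/

set_option autoImplicit false
set_option linter.unusedSectionVars false

namespace Cfsg.Agent.QuadPairComponents

open Cfsg Cfsg.Agent.QuadPairTheory Cfsg.Agent.QuadPairRootSet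
open scoped commutatorElement

section Generic

variable {P : Type*} [Group P] {S : Set (Subgroup P)} {A B C : Subgroup P}

theorem comp_eq (h : Relation.ReflTransGen (FAdj S) A B) :
    componentOf (FAdj S) S A = componentOf (FAdj S) S B := by
  ext E
  exact ⟨fun hE => ⟨hE.1, (RootSubConn.rfl_trans_symm S h).trans hE.2⟩, fun hE => ⟨hE.1, h.trans hE.2⟩⟩

theorem rc_path (hS : IsRootSubgroupSet S) (hpart : ∀ A ∈ S, ∃ D ∈ S, IsRankOnePair A D)
    (hA : A ∈ S) (h : RootCommutatorCase S A B) :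
    Relation.ReflTransGen (FAdj S) A ⁅A, B⁆ := by
  by_contra hne
  obtain ⟨D, hD, hp⟩ := hpart A hA
  obtain ⟨D', hD', hp'⟩ := hpart _ h.1
  refine S5031.result hS h.1 hA (fun e => hne ?_)
    ⟨D', ⟨hD', .single ⟨h.1, hD', hp'⟩⟩, fun e => hp'.ne e.symm⟩
    ⟨D, ⟨hD, .single ⟨hA, hD, hp⟩⟩, fun e => hp.ne e.symm⟩
    (RootSubLine.mem_linePartners_line hS hA hD hp h)
  exact (e.symm ▸ (⟨h.1, .refl⟩ : ⁅A, B⁆ ∈ componentOf (FAdj S) S ⁅A, B⁆) :
    ⁅A, B⁆ ∈ componentOf (FAdj S) S A).2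

theorem commute_of_no_path (hS : IsRootSubgroupSet S) (hpart : ∀ A ∈ S, ∃ D ∈ S, IsRankOnePair A D)
    (hA : A ∈ S) (hB : B ∈ S) (hne : ¬ Relation.ReflTransGen (FAdj S) A B) : ⁅A, B⁆ = ⊥ := by
  rcases hS.pair A hA B hB with h | h | h
  · exact h
  · exact absurd (.single ⟨hA, hB, h⟩) hne
  · have h2 := rc_path hS hpart hB (RootSub.rc_symm h)
    rw [Subgroup.commutator_comm] at h2
    exact absurd ((rc_path hS hpart hA h).trans (RootSubConn.rfl_trans_symm S h2)) hne

end Generic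

section Lift

variable {P : Type*} [Group P] {H A B : Subgroup P}

theorem isRankOnePair_of_subgroupOf (hA : A ≤ H) (hB : B ≤ H)
    (h : IsRankOnePair (A.subgroupOf H) (B.subgroupOf H)) : IsRankOnePair A B := by
  have hconj : ∀ {X : Subgroup P}, X ≤ H → ∀ x : H, conjBy X (x : P) ≤ H := by
    rintro X hX x _ ⟨y, hy, rfl⟩
    exact mul_mem (mul_mem x.2 (hX hy)) (inv_mem x.2)
  have key : ∀ {X Y : Subgroup P}, X ≤ H → Y ≤ H →
      RankOneCondition (X.subgroupOf H) (Y.subgroupOf H) → RankOneCondition X Y := by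
    intro X Y hX hY hc a ha ha1
    obtain ⟨b, hb, hb1, he⟩ := hc ⟨a, hX ha⟩ ha fun e => ha1 (congrArg Subtype.val e)
    rw [conjBy_subgroupOf, conjBy_subgroupOf] at he
    exact ⟨b, hb, fun e => hb1 (Subtype.ext e), eq_of_subgroupOf_eq (hconj hX b⁻¹) (hconj hY (⟨a, hX ha⟩ : H)⁻¹) he⟩
  refine ⟨fun e => h.ne (congrArg (·.subgroupOf H) e), ?_, ?_, key hA hB h.cond_left, key hB hA h.cond_right⟩
  · haveI := h.nilpotent_left
    exact Group.nilpotent_of_mulEquiv (Subgroup.subgroupOfEquivOfLe hA)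
  · haveI := h.nilpotent_right
    exact Group.nilpotent_of_mulEquiv (Subgroup.subgroupOfEquivOfLe hB)

theorem path_up {S : Set (Subgroup P)} (hle : ∀ A ∈ S, A ≤ H) (hA : A ∈ S) {Y : Subgroup H}
    (h : Relation.ReflTransGen (FAdj ((fun X => X.subgroupOf H) '' S)) (A.subgroupOf H) Y) :
    ∃ X ∈ S, X.subgroupOf H = Y ∧ Relation.ReflTransGen (FAdj S) A X := by
  induction h with
  | refl => exact ⟨A, hA, rfl, .refl⟩
  | tail _ h ih =>
    obtain ⟨X, hX, rfl, hp⟩ := ih
    obtain ⟨-, ⟨X', hX', rfl⟩, hr⟩ := h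
    exact ⟨X', hX', rfl, hp.tail ⟨hX, hX', isRankOnePair_of_subgroupOf (hle X hX) (hle X' hX') hr⟩⟩

theorem path_down {S : Set (Subgroup P)} (hle : ∀ A ∈ S, A ≤ H)
    (h : Relation.ReflTransGen (FAdj S) A B) :
    Relation.ReflTransGen (FAdj ((fun X => X.subgroupOf H) '' S)) (A.subgroupOf H) (B.subgroupOf H) :=
  h.lift (fun X : Subgroup P => X.subgroupOf H) fun X Y h =>
    ⟨⟨X, h.1, rfl⟩, ⟨Y, h.2.1, rfl⟩, isRankOnePair_subgroupOf (hle X h.1) (hle Y h.2.1) h.2.2⟩

end Lift

variable {k : Type*} [Field k] {M : Type*} [AddCommGroup M] [Module k M] [FiniteDimensional k M]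
  {G : Subgroup (LinearMap.GeneralLinearGroup k M)}

/-- The hypotheses. -/
structure Hyp (G : Subgroup (LinearMap.GeneralLinearGroup k M)) : Prop where
  hk2 : (2 : k) ≠ 0
  hk3 : Nat.card k ≠ 3
  hG : QuadPairUnipotent.Reduced G

/-- The component of a root group. -/
abbrev comp (G A : Subgroup (LinearMap.GeneralLinearGroup k M)) :
    Set (Subgroup (LinearMap.GeneralLinearGroup k M)) :=
  componentOf (FAdj (quadraticRootSubgroups G)) (quadraticRootSubgroups G) A

/-- The group generated by all root groups. -/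
abbrev root0 (G : Subgroup (LinearMap.GeneralLinearGroup k M)) : Subgroup (LinearMap.GeneralLinearGroup k M) :=
  ⨆ A ∈ quadraticRootSubgroups G, A

theorem root0_le : root0 G ≤ G := iSup₂_le fun A hA => by
  obtain ⟨a, ha, rfl⟩ := mem_roots.1 hA
  exact E_le _

theorem conj_root {A : Subgroup (LinearMap.GeneralLinearGroup k M)} (hA : A ∈ quadraticRootSubgroups G)
    {g : LinearMap.GeneralLinearGroup k M} (hg : g ∈ G) : conjBy A g ∈ quadraticRootSubgroups G := by
  obtain ⟨a, ha, rfl⟩ := mem_roots.1 hA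
  exact mem_roots.2 ⟨_, ha.conj hg, conjBy_E _ hg (ha.conj hg).1.1⟩

theorem le_root0 {A : Subgroup (LinearMap.GeneralLinearGroup k M)} (hA : A ∈ quadraticRootSubgroups G) :
    A ≤ root0 G := le_iSup₂_of_le A hA le_rfl

theorem root_comm {A : Subgroup (LinearMap.GeneralLinearGroup k M)} (hA : A ∈ quadraticRootSubgroups G) :
    IsMulCommutative A := by
  obtain ⟨a, ha, rfl⟩ := mem_roots.1 hA
  exact isMulCommutative_E _

theorem root_ne_bot {A : Subgroup (LinearMap.GeneralLinearGroup k M)} (hA : A ∈ quadraticRootSubgroups G) :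
    A ≠ ⊥ := by
  obtain ⟨a, ha, rfl⟩ := mem_roots.1 hA
  intro e
  have := Subgroup.mem_bot.1 (e ▸ unitOf_mem_E (self_mem_cls ha.1))
  exact ha.2.1 (by rw [← nl_unitOf a ha.1.1, nl_eq_zero.2 this])

theorem root_partner (h : Hyp G) {A : Subgroup (LinearMap.GeneralLinearGroup k M)}
    (hA : A ∈ quadraticRootSubgroups G) : ∃ B ∈ quadraticRootSubgroups G, IsRankOnePair A B := by
  obtain ⟨a, ha, rfl⟩ := mem_roots.1 hA
  obtain ⟨b, hb, ho⟩ := QuadPairUnipotent.exists_opp h.hk2 h.hk3 h.hG ha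
  exact ⟨_, mem_roots.2 ⟨b, hb, rfl⟩, isRankOnePair ha hb h.hk2 h.hk3 ho⟩

theorem root_set (h : Hyp G) :
    IsRootSubgroupSet ((fun A : Subgroup (LinearMap.GeneralLinearGroup k M) => A.subgroupOf (root0 G)) ''
      quadraticRootSubgroups G) :=
  isRootSubgroupSet_subgroupOf (fun _ => root_comm) (fun _ => root_ne_bot)
    (fun _ hA _ hg => conj_root hA (root0_le hg)) (fun _ hA _ hB => pair_cases h.hk2 h.hk3 h.hG hA hB)

theorem root_set_partner (h : Hyp G) :
    ∀ A ∈ (fun A : Subgroup (LinearMap.GeneralLinearGroup k M) => A.subgroupOf (root0 G)) '' quadraticRootSubgroups G,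
      ∃ D ∈ (fun A : Subgroup (LinearMap.GeneralLinearGroup k M) => A.subgroupOf (root0 G)) '' quadraticRootSubgroups G,
        IsRankOnePair A D := by
  rintro _ ⟨A, hA, rfl⟩
  obtain ⟨B, hB, hp⟩ := root_partner h hA
  exact ⟨_, ⟨B, hB, rfl⟩, isRankOnePair_subgroupOf (le_root0 hA) (le_root0 hB) hp⟩

theorem conj_path (h : Hyp G) {A : Subgroup (LinearMap.GeneralLinearGroup k M)} (hA : A ∈ quadraticRootSubgroups G)
    {g : LinearMap.GeneralLinearGroup k M} (hg : g ∈ root0 G) :
    Relation.ReflTransGen (FAdj (quadraticRootSubgroups G)) A (conjBy A g) := by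
  obtain ⟨D, hD, hp⟩ := root_set_partner h _ ⟨A, hA, rfl⟩
  have hpath := RootSubConn.path_to_conj (root_set h) ⟨A, hA, rfl⟩ hD hp ⟨g, hg⟩
  obtain ⟨X, hX, he, hpX⟩ := path_up (fun _ => le_root0) hA hpath
  rw [conjBy_subgroupOf] at he
  have hX' : X = conjBy A g :=
    eq_of_subgroupOf_eq (le_root0 hX) (le_root0 (conj_root hA (root0_le hg))) he
  exact hX' ▸ hpX

theorem commute_of_no_path' (h : Hyp G) {A B : Subgroup (LinearMap.GeneralLinearGroup k M)}
    (hA : A ∈ quadraticRootSubgroups G) (hB : B ∈ quadraticRootSubgroups G)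
    (hne : ¬ Relation.ReflTransGen (FAdj (quadraticRootSubgroups G)) A B) : ⁅A, B⁆ = ⊥ := by
  have hc := commute_of_no_path (root_set h) (root_set_partner h) ⟨A, hA, rfl⟩ ⟨B, hB, rfl⟩ fun hpath => by
    obtain ⟨X, hX, he, hpX⟩ := path_up (fun _ => le_root0) hA hpath
    exact hne (eq_of_subgroupOf_eq (le_root0 hX) (le_root0 hB) he ▸ hpX)
  refine RankOne.commutator_eq_bot_of_comm fun a ha b hb => ?_
  have := RankOne.comm_of_commutator_eq_bot hc (a := ⟨a, le_root0 hA ha⟩) (b := ⟨b, le_root0 hB hb⟩) ha hb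
  exact congrArg Subtype.val this

theorem rc_mem_comp (h : Hyp G) {A B : Subgroup (LinearMap.GeneralLinearGroup k M)}
    (hA : A ∈ quadraticRootSubgroups G) (hB : B ∈ quadraticRootSubgroups G)
    (hc : RootCommutatorCase (quadraticRootSubgroups G) A B) : ⁅A, B⁆ ∈ comp G A := by
  have hrc := rootCommutatorCase_subgroupOf (le_root0 hA) (le_root0 hB) hc
  have hpath := rc_path (root_set h) (root_set_partner h) ⟨A, hA, rfl⟩ hrc
  obtain ⟨X, hX, he, hpX⟩ := path_up (fun _ => le_root0) hA hpath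
  rw [commutator_subgroupOf (le_root0 hA) (le_root0 hB)] at he
  have hX' := eq_of_subgroupOf_eq (le_root0 hX) (le_root0 hc.1) he
  exact ⟨hc.1, hX' ▸ hpX⟩

theorem conj_comp (h : Hyp G) {A B : Subgroup (LinearMap.GeneralLinearGroup k M)}
    (hB : B ∈ comp G A) {g : LinearMap.GeneralLinearGroup k M} (hg : g ∈ root0 G) : conjBy B g ∈ comp G A :=
  ⟨conj_root hB.1 (root0_le hg), hB.2.trans (conj_path h hB.1 hg)⟩

theorem mem_comp_self {A : Subgroup (LinearMap.GeneralLinearGroup k M)} (hA : A ∈ quadraticRootSubgroups G) :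
    A ∈ comp G A := ⟨hA, .refl⟩

/-- The group generated by a component. -/
abbrev compGrp (G A : Subgroup (LinearMap.GeneralLinearGroup k M)) : Subgroup (LinearMap.GeneralLinearGroup k M) :=
  ⨆ B ∈ comp G A, B

theorem compGrp_le (A : Subgroup (LinearMap.GeneralLinearGroup k M)) : compGrp G A ≤ root0 G :=
  iSup₂_le fun _ hB => le_root0 hB.1

theorem part_pairs (h : Hyp G) {A : Subgroup (LinearMap.GeneralLinearGroup k M)} :
    ∀ X ∈ comp G A, ∀ Y ∈ comp G A, ⁅X, Y⁆ = ⊥ ∨ IsRankOnePair X Y ∨ RootCommutatorCase (comp G A) X Y := by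
  intro X hX Y hY
  rcases pair_cases h.hk2 h.hk3 h.hG hX.1 hY.1 with hc | hc | hc
  · exact Or.inl hc
  · exact Or.inr (Or.inl hc)
  · exact Or.inr (Or.inr ⟨⟨hc.1, hX.2.trans (rc_mem_comp h hX.1 hY.1 hc).2⟩, hc.2.1, hc.2.2.1, hc.2.2.2⟩)

theorem part_set (h : Hyp G) (A : Subgroup (LinearMap.GeneralLinearGroup k M)) :
    IsRootSubgroupSet ((fun B : Subgroup (LinearMap.GeneralLinearGroup k M) => B.subgroupOf (compGrp G A)) ''
      comp G A) :=
  isRootSubgroupSet_subgroupOf (fun _ hB => root_comm hB.1) (fun _ hB => root_ne_bot hB.1)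
    (fun _ hB _ hg => conj_comp h hB (compGrp_le A hg)) (part_pairs h)

theorem part_connected (h : Hyp G) {A : Subgroup (LinearMap.GeneralLinearGroup k M)} :
    IsConnectedFamily
      (FAdj ((fun B : Subgroup (LinearMap.GeneralLinearGroup k M) => B.subgroupOf (compGrp G A)) '' comp G A))
      ((fun B : Subgroup (LinearMap.GeneralLinearGroup k M) => B.subgroupOf (compGrp G A)) '' comp G A) := by
  rintro _ ⟨X, hX, rfl⟩ _ ⟨Y, hY, rfl⟩
  refine path_down (fun B hB => le_iSup₂_of_le B hB le_rfl) ?_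
  have hXY := (RootSubConn.rfl_trans_symm _ hX.2).trans hY.2
  clear hY
  induction hXY with
  | refl => exact .refl
  | tail hp hadj ih =>
    exact ih.tail ⟨⟨hadj.1, hX.2.trans hp⟩, ⟨hadj.2.1, (hX.2.trans hp).tail hadj⟩, hadj.2.2⟩

theorem part_isClass (h : Hyp G) {A : Subgroup (LinearMap.GeneralLinearGroup k M)} (hA : A ∈ quadraticRootSubgroups G) :
    IsRootSubgroupClass ((fun B : Subgroup (LinearMap.GeneralLinearGroup k M) => B.subgroupOf (compGrp G A)) ''
      comp G A) :=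
  ⟨part_set h A, ⟨_, A, mem_comp_self hA, rfl⟩,
    fun X hX Y hY => RootSubConn.path_conj (part_connected h X hX Y hY)⟩

theorem conj_iSup_eq {W : Set (Subgroup (LinearMap.GeneralLinearGroup k M))}
    {K : Subgroup (LinearMap.GeneralLinearGroup k M)} (hW : ∀ A ∈ W, ∀ g ∈ K, conjBy A g ∈ W)
    {g : LinearMap.GeneralLinearGroup k M} (hg : g ∈ K) : conjBy (⨆ A ∈ W, A) g = ⨆ A ∈ W, A := by
  have hle : ∀ y ∈ K, conjBy (⨆ A ∈ W, A) y ≤ ⨆ A ∈ W, A := fun y hy => by
    rw [conjBy, Subgroup.map_iSup]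
    refine iSup_le fun A => ?_
    rw [Subgroup.map_iSup]
    exact iSup_le fun hA => le_iSup₂_of_le _ (hW A hA y hy) le_rfl
  refine le_antisymm (hle g hg) ?_
  have := Subgroup.map_mono (f := (MulAut.conj g).toMonoidHom) (hle _ (inv_mem hg))
  change conjBy (conjBy _ g⁻¹) g ≤ conjBy _ g at this
  rwa [RankOne.conjBy_conjBy_inv] at this

theorem noUni_compGrp (h : Hyp G) (A : Subgroup (LinearMap.GeneralLinearGroup k M)) :
    QuadPairNoUni.NoUni (compGrp G A) := by
  have h0 : QuadPairNoUni.NoUni (root0 G) :=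
    QuadPairNoUni.descend h.hG root0_le
      fun g hg => conj_iSup_eq (fun B hB x hx => conj_root hB hx) hg
  exact QuadPairNoUni.descend h0 (compGrp_le A) fun g hg =>
    conj_iSup_eq (fun B hB x hx => conj_comp h hB hx) hg

theorem unipotent_of_commute (h : Hyp G) {A B : Subgroup (LinearMap.GeneralLinearGroup k M)}
    (hA : A ∈ quadraticRootSubgroups G) (hB : B ∈ quadraticRootSubgroups G) (hc : ⁅A, B⁆ = ⊥) :
    IsUnipotentOn (A ⊔ B) := by
  obtain ⟨a, ha, rfl⟩ := mem_roots.1 hA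
  obtain ⟨b, hb, rfl⟩ := mem_roots.1 hB
  have hab := QuadPairCommute.nl_comm (RankOne.comm_of_commutator_eq_bot hc
    (unitOf_mem_E (self_mem_cls ha.1)) (unitOf_mem_E (self_mem_cls hb.1)))
  rw [nl_unitOf, nl_unitOf] at hab
  exact QuadPairUnipotent.isUnipotentOn_of_uni h.hk2 h.hk3 ha hb
    ⟨by rw [hab, mul_assoc, ha.1.1, mul_zero], by rw [← hab, mul_assoc, hb.1.1, mul_zero]⟩

theorem three_lt_root (h : Hyp G) {A : Subgroup (LinearMap.GeneralLinearGroup k M)}
    (hA : A ∈ quadraticRootSubgroups G) : 3 < ENat.card A := by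
  obtain ⟨a, ha, rfl⟩ := mem_roots.1 hA
  refine (three_lt_card h.hk2 h.hk3 k).trans_le (ENat.card_le_card_of_injective
    (f := fun t : k => (⟨unitOf (t • a) (Lie.smul ha.1 t).1,
      unitOf_mem_E (Submodule.smul_mem _ t (self_mem_cls ha.1))⟩ : E G ha.1.1)) ?_)
  intro s t hst
  have := congrArg (fun g : E G ha.1.1 => nl g.1) hst
  simp only [nl_unitOf] at this
  exact smul_left_injective k ha.2.1 this

theorem part_special (h : Hyp G) {A : Subgroup (LinearMap.GeneralLinearGroup k M)} :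
    ∀ X ∈ (fun B : Subgroup (LinearMap.GeneralLinearGroup k M) => B.subgroupOf (compGrp G A)) '' comp G A,
    ∀ Y ∈ rankOnePartners ((fun B : Subgroup (LinearMap.GeneralLinearGroup k M) => B.subgroupOf (compGrp G A)) '' comp G A) X,
      IsSpecialRankOnePair X Y := by
  rintro _ ⟨X, hX, rfl⟩ _ ⟨⟨Y, hY, rfl⟩, hp⟩
  have hXle : X ≤ compGrp G A := le_iSup₂_of_le X hX le_rfl
  have hYle : Y ≤ compGrp G A := le_iSup₂_of_le Y hY le_rfl
  have hp' := isRankOnePair_of_subgroupOf hXle hYle hp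
  obtain ⟨x, hx, rfl⟩ := mem_roots.1 hX.1
  obtain ⟨y, hy, rfl⟩ := mem_roots.1 hY.1
  have hs := QuadPairTheory.isSpecial hx hy h.hk2 h.hk3 (opp_of_rankOne h.hk2 h.hk3 hx hy hp')
  refine ⟨hp, fun a ha ha1 b hb hb1 he => Subtype.ext ?_⟩
  rw [conjBy_subgroupOf, conjBy_subgroupOf] at he
  refine hs.2 a ha (fun e => ha1 (Subtype.ext e)) b hb (fun e => hb1 (Subtype.ext e)) ?_
  have hconj : ∀ {Z : Subgroup (LinearMap.GeneralLinearGroup k M)}, Z ≤ compGrp G A →
      ∀ z : compGrp G A, conjBy Z (z : LinearMap.GeneralLinearGroup k M) ≤ compGrp G A := by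
    rintro Z hZ z _ ⟨w, hw, rfl⟩
    exact mul_mem (mul_mem z.2 (hZ hw)) (inv_mem z.2)
  exact eq_of_subgroupOf_eq (hconj hXle b⁻¹) (hconj hYle a⁻¹) he

theorem part_two (h : Hyp G) {A : Subgroup (LinearMap.GeneralLinearGroup k M)} (hA : A ∈ quadraticRootSubgroups G) :
    ∃ X ∈ (fun B : Subgroup (LinearMap.GeneralLinearGroup k M) => B.subgroupOf (compGrp G A)) '' comp G A,
    ∃ Y ∈ (fun B : Subgroup (LinearMap.GeneralLinearGroup k M) => B.subgroupOf (compGrp G A)) '' comp G A,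
      IsRankOnePair X Y := by
  obtain ⟨B, hB, hp⟩ := root_partner h hA
  have hBc : B ∈ comp G A := ⟨hB, .single ⟨hA, hB, hp⟩⟩
  exact ⟨_, ⟨A, mem_comp_self hA, rfl⟩, _, ⟨B, hBc, rfl⟩,
    isRankOnePair_subgroupOf (le_iSup₂_of_le A (mem_comp_self hA) le_rfl) (le_iSup₂_of_le B hBc le_rfl) hp⟩

section Quasi

open RankOne RootSub RootSubConn RootSubQuasi

variable {A : Subgroup (LinearMap.GeneralLinearGroup k M)}

/-- A normal subgroup meeting all members trivially is central. -/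
theorem central_of_trivial (h : Hyp G) (hA : A ∈ quadraticRootSubgroups G) (N : Subgroup (compGrp G A)) [N.Normal]
    (hN : ∀ X ∈ (fun B : Subgroup (LinearMap.GeneralLinearGroup k M) => B.subgroupOf (compGrp G A)) '' comp G A,
      X ⊓ N = ⊥) : N ≤ Subgroup.center (compGrp G A) := by
  set S := (fun B : Subgroup (LinearMap.GeneralLinearGroup k M) => B.subgroupOf (compGrp G A)) '' comp G A with hSdef
  have hS : IsRootSubgroupSet S := part_set h A
  have h1 : IsConnectedFamily (FAdj S) S := part_connected h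
  have hdeg : IsDegenerateRootSet S → ∀ X ∈ S, 3 < ENat.card X := by
    rintro - _ ⟨X, hX, rfl⟩
    rw [ENat.card_congr (Subgroup.subgroupOfEquivOfLe (le_iSup₂_of_le X hX le_rfl)).toEquiv]
    exact three_lt_root h hX.1
  have hsp := part_special h (A := A)
  have hP : ∀ P ∈ S, ∀ Q ∈ S, ⁅P, Q⁆ ≤ N → ⁅P, Q⁆ = ⊥ := by
    intro P hP Q hQ hle
    rcases hS.pair P hP Q hQ with h' | h' | h'
    · exact h'
    · exact absurd hle (pair_not_le hS h1 hdeg hsp hN hP hQ h')
    · exact absurd (hN _ h'.1) (by rw [inf_eq_left.2 hle]; exact hS.ne_bot _ h'.1)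
  have hsub : ∀ n ∈ N, ∀ X ∈ S, centralizingMembers S X ⊆ centralizingMembers S (conjBy X n) := by
    rintro n hn X hX D ⟨hD, hDX⟩
    refine ⟨hD, Subgroup.commutator_eq_bot_iff_le_centralizer.1
      (hP D hD _ (hS.conj_mem X hX n) ?_)⟩
    refine (Subgroup.commutator_mono (le_sup_right : D ≤ N ⊔ D) ?_).trans
      (com_le (Subgroup.commutator_eq_bot_iff_le_centralizer.2 hDX))
    intro y hy
    rw [mem_conjBy] at hy
    have hn' : n ∈ N ⊔ X := Subgroup.mem_sup_left hn
    simpa [mul_assoc] using mul_mem (mul_mem hn' (Subgroup.mem_sup_right hy)) (inv_mem hn')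
  have hcl : ∀ n ∈ N, ∀ X ∈ S, centralizingMembers S (conjBy X n) = centralizingMembers S X := by
    intro n hn X hX
    refine subset_antisymm ?_ (hsub n hn X hX)
    have := hsub n⁻¹ (inv_mem hn) _ (hS.conj_mem X hX n)
    rwa [conjBy_inv_conjBy] at this
  intro n hn
  have hgen : (⊤ : Subgroup (compGrp G A)) ≤ Subgroup.centralizer ({n} : Set (compGrp G A)) := by
    rw [← hS.generates]
    refine iSup₂_le fun X hX a ha => Subgroup.mem_centralizer_iff.2 fun y hy => ?_
    rw [Set.mem_singleton_iff.1 hy]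
    -- the class of `X`
    set T : Subgroup (compGrp G A) :=
      ⨆ C ∈ {C | C ∈ S ∧ centralizingMembers S C = centralizingMembers S X}, C with hT
    have hTnorm : ∀ m ∈ N, conjBy T m ≤ T := fun m hm => by
      rw [hT, conjBy, Subgroup.map_iSup]
      refine iSup_le fun C => ?_
      rw [Subgroup.map_iSup]
      exact iSup_le fun hC => le_iSup₂_of_le _ ⟨hS.conj_mem C hC.1 m, (hcl m hm C hC.1).trans hC.2⟩ le_rfl
    -- the image of `T`
    set WT : Set (Subgroup (LinearMap.GeneralLinearGroup k M)) :=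
      {C | C ∈ comp G A ∧ centralizingMembers S (C.subgroupOf (compGrp G A)) = centralizingMembers S X} with hWT
    have hTle : T.map (compGrp G A).subtype ≤ ⨆ C ∈ WT, C := by
      rw [hT, Subgroup.map_iSup]
      refine iSup_le fun C => ?_
      rw [Subgroup.map_iSup]
      refine iSup_le fun hC => ?_
      obtain ⟨⟨C', hC', rfl⟩, hC2⟩ := hC
      rw [Subgroup.map_subgroupOf_eq_of_le (le_iSup₂_of_le C' hC' le_rfl)]
      exact le_iSup₂_of_le C' ⟨hC', hC2⟩ le_rfl
    have hWcomm : ∀ C ∈ WT, ∀ D ∈ WT, ⁅C, D⁆ = ⊥ := by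
      intro C hC D hD
      have hCS : C.subgroupOf (compGrp G A) ∈ S := ⟨C, hC.1, rfl⟩
      have : C.subgroupOf (compGrp G A) ∈ centralizingMembers S (D.subgroupOf (compGrp G A)) := by
        rw [hD.2, ← hC.2]
        exact ⟨hCS, le_centralizer_of_commutator_eq_bot (commutator_self hS hCS)⟩
      have hc := Subgroup.commutator_eq_bot_iff_le_centralizer.2 this.2
      have hCle : C ≤ compGrp G A := le_iSup₂_of_le C hC.1 le_rfl
      have hDle : D ≤ compGrp G A := le_iSup₂_of_le D hD.1 le_rfl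
      exact commutator_eq_bot_of_comm fun x hx y hy => congrArg Subtype.val
        (comm_of_commutator_eq_bot hc (a := ⟨x, hCle hx⟩) (b := ⟨y, hDle hy⟩) hx hy)
    have hWu : IsUnipotentOn (⨆ C ∈ WT, C) := by
      refine S5061.join_isUnipotent (G := ⨆ C ∈ WT, C) (fun C hC => le_iSup₂_of_le C hC le_rfl)
        (fun C hC D hD => unipotent_of_commute h hC.1.1 hD.1.1 (hWcomm C hC D hD)) fun C hC g hg => ?_
      have hle : (⨆ D ∈ WT, D) ≤ Subgroup.normalizer (C : Set (LinearMap.GeneralLinearGroup k M)) :=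
        iSup₂_le fun D hD => (le_centralizer_of_commutator_eq_bot (hWcomm D hD C hC)).trans
          (Subgroup.centralizer_le_normalizer _)
      rw [conjBy_eq_self_iff.2 (hle hg)]; exact hC
    -- `N ⊓ T` is a unipotent normal subgroup of `N`
    have hNT : (N ⊓ T).map (compGrp G A).subtype = ⊥ := by
      have hNu : QuadPairNoUni.NoUni (N.map (compGrp G A).subtype) := by
        refine QuadPairNoUni.descend (noUni_compGrp h A) (Subgroup.map_subtype_le N) fun x hx => ?_
        ext y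
        rw [mem_conjBy]
        constructor
        · rintro ⟨z, hz, hze⟩
          refine ⟨⟨x, hx⟩ * z * ⟨x, hx⟩⁻¹, Subgroup.Normal.conj_mem ‹N.Normal› z hz _, ?_⟩
          simp only [Subgroup.coe_subtype, Subgroup.coe_mul, Subgroup.coe_inv] at hze ⊢
          rw [hze]; group
        · rintro ⟨z, hz, rfl⟩
          exact ⟨⟨x, hx⟩⁻¹ * z * ⟨x, hx⟩⁻¹⁻¹, Subgroup.Normal.conj_mem ‹N.Normal› z hz _, by simp⟩
      refine hNu _ (Subgroup.map_mono inf_le_left) ?_
        (QuadPairUnipotent.isUnipotentOn_mono ((Subgroup.map_mono inf_le_right).trans hTle) hWu)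
      rintro _ ⟨m, hm, rfl⟩
      have key : ∀ m ∈ N, conjBy (N ⊓ T) m ≤ N ⊓ T := fun m hm => by
        refine le_inf ((Subgroup.map_mono inf_le_left).trans ?_) ((Subgroup.map_mono inf_le_right).trans (hTnorm m hm))
        rintro _ ⟨z, hz, rfl⟩
        exact Subgroup.Normal.conj_mem ‹N.Normal› z hz m
      have heq : conjBy (N ⊓ T) m = N ⊓ T := by
        refine le_antisymm (key m hm) ?_
        have := Subgroup.map_mono (f := (MulAut.conj m).toMonoidHom) (key _ (inv_mem hm))
        change conjBy (conjBy _ m⁻¹) m ≤ conjBy _ m at this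
        rwa [conjBy_conjBy_inv] at this
      conv_rhs => rw [← heq]
      ext y
      rw [mem_conjBy]
      constructor
      · rintro ⟨z, hz, hze⟩
        refine ⟨m * z * m⁻¹, ?_, ?_⟩
        · rw [SetLike.mem_coe, mem_conjBy]; simpa [mul_assoc] using hz
        · simp only [Subgroup.coe_subtype, Subgroup.coe_mul, Subgroup.coe_inv] at hze ⊢
          rw [hze]; group
      · rintro ⟨z, hz, rfl⟩
        exact ⟨m⁻¹ * z * m, mem_conjBy.1 hz, by simp⟩
    have hXT : X ≤ T := le_iSup₂_of_le X ⟨hX, rfl⟩ le_rfl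
    have hmem : n * a * n⁻¹ * a⁻¹ ∈ N ⊓ T := by
      refine Subgroup.mem_inf.2 ⟨?_, mul_mem ?_ (inv_mem (hXT ha))⟩
      · have := mul_mem hn (Subgroup.Normal.conj_mem ‹N.Normal› _ (inv_mem hn) a)
        simpa [mul_assoc] using this
      · refine hTnorm n hn ?_
        rw [mem_conjBy]
        simpa [mul_assoc] using hXT ha
    rw [(Subgroup.map_eq_bot_iff_of_injective _ (compGrp G A).subtype_injective).1 hNT,
      Subgroup.mem_bot, mul_inv_eq_one, mul_inv_eq_iff_eq_mul] at hmem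
    exact hmem
  exact Subgroup.mem_center_iff.2 fun g =>
    (Subgroup.mem_centralizer_iff.1 (hgen (Subgroup.mem_top g)) n rfl).symm

theorem quasisimple (h : Hyp G) (hA : A ∈ quadraticRootSubgroups G) : IsQuasisimple (compGrp G A) := by
  set S := (fun B : Subgroup (LinearMap.GeneralLinearGroup k M) => B.subgroupOf (compGrp G A)) '' comp G A with hSdef
  have hS : IsRootSubgroupSet S := part_set h A
  have h1 : IsConnectedFamily (FAdj S) S := part_connected h
  obtain ⟨X₀, hX₀, Y₀, hY₀, hp₀⟩ := part_two h hA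
  have hdeg : IsDegenerateRootSet S → ∀ X ∈ S, 3 < ENat.card X := by
    rintro - _ ⟨X, hX, rfl⟩
    rw [ENat.card_congr (Subgroup.subgroupOfEquivOfLe (le_iSup₂_of_le X hX le_rfl)).toEquiv]
    exact three_lt_root h hX.1
  have hperf : commutator (compGrp G A) = ⊤ :=
    RootSubQuasi.perfect hS ⟨X₀, hX₀, Y₀, hY₀, hp₀.ne⟩ h1 hdeg (part_special h)
  have hnc : Subgroup.center (compGrp G A) ≠ ⊤ := fun e =>
    commutator_ne_bot hp₀ (commutator_eq_bot_of_comm fun x _ y _ =>
      (Subgroup.mem_center_iff.1 (e ▸ Subgroup.mem_top y : y ∈ Subgroup.center (compGrp G A)) x))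
  have hnormal : ∀ (N : Subgroup (compGrp G A)) [N.Normal], N = ⊤ ∨ N ≤ Subgroup.center (compGrp G A) := by
    intro N _
    by_cases hN : ∀ X ∈ S, X ⊓ N = ⊥
    · exact Or.inr (central_of_trivial h hA N hN)
    push Not at hN
    obtain ⟨X, hX, hXN⟩ := hN
    refine Or.inl ?_
    have hmeet : ∀ B ∈ S, B ⊓ N ≠ ⊥ := by
      intro B hB h0
      obtain ⟨g, rfl⟩ := path_conj (h1 X hX B hB)
      apply hXN
      have hNg : conjBy N g = N := conjBy_eq_self_iff.2 (by simp [Subgroup.normalizer_eq_top])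
      rw [← hNg, ← RootSubLine.conjBy_inf] at h0
      exact (Subgroup.map_eq_bot_iff_of_injective _ (MulAut.conj g).injective).1 h0
    have hstep : ∀ P Q, FAdj S P Q → Q ≤ N ⊔ P := by
      rintro P Q ⟨hP, hQ, hp⟩
      obtain ⟨x, hx, hx1⟩ := (Subgroup.bot_or_exists_ne_one _).resolve_left (hmeet P hP)
      rcases RankOne.normal_dichotomy hp (N := N ⊓ (P ⊔ Q)) (fun y hy => by
          rw [RootSubLine.conjBy_inf, conjBy_of_mem hy,
            conjBy_eq_self_iff.2 (by simp [Subgroup.normalizer_eq_top])])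
          inf_le_right with h' | h'
      · exact le_sup_right.trans (h'.trans (sup_le_sup_right inf_le_left _))
      · exact absurd (eq_one_of_centralizes hp hx.1 fun y hy =>
          h' x ⟨hx.2, Subgroup.mem_sup_left hx.1⟩ y (Subgroup.mem_sup_right hy)) hx1
    have htop : N ⊔ X = ⊤ := by
      rw [eq_top_iff, ← hS.generates]
      refine iSup₂_le fun B hB => ?_
      have hpath := h1 X hX B hB
      clear hB
      induction hpath with
      | refl => exact le_sup_right
      | tail _ h ih => exact (hstep _ _ h).trans (sup_le le_sup_left ih)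
    rw [eq_top_iff, ← hperf, commutator_def]
    calc ⁅(⊤ : Subgroup (compGrp G A)), (⊤ : Subgroup (compGrp G A))⁆ = ⁅N ⊔ X, N ⊔ X⁆ := by rw [htop]
      _ ≤ N := com_le (commutator_self hS hX)
  refine ⟨⟨hperf⟩, ?_⟩
  haveI : Nontrivial (compGrp G A ⧸ Subgroup.center (compGrp G A)) :=
    QuotientGroup.nontrivial_iff.2 hnc
  refine ⟨fun H hH => ?_⟩
  haveI := hH
  rcases hnormal (H.comap (QuotientGroup.mk' _)) with hc | hc
  · exact Or.inr (by rw [← Subgroup.map_comap_eq_self_of_surjective (QuotientGroup.mk'_surjective _) H, hc,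
      Subgroup.map_top_of_surjective _ (QuotientGroup.mk'_surjective _)])
  · exact Or.inl (by
      rw [← Subgroup.map_comap_eq_self_of_surjective (QuotientGroup.mk'_surjective _) H, Subgroup.map_eq_bot_iff,
        QuotientGroup.ker_mk']
      exact hc)

end Quasi

/-- Finitely many components. -/
theorem finite_components (h : Hyp G) : (comp G '' quadraticRootSubgroups G).Finite := by
  classical
  set Q := comp G '' quadraticRootSubgroups G
  have hrep : ∀ q : Q, ∃ a b : Module.End k M, ∃ (ha : IsMin G a) (hb : IsMin G b),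
      E G ha.1.1 ∈ (q : Set _) ∧ E G hb.1.1 ∈ (q : Set _) ∧ a * b ≠ b * a := by
    rintro ⟨_, A, hA, rfl⟩
    obtain ⟨a, ha, rfl⟩ := mem_roots.1 hA
    obtain ⟨b, hb, ho⟩ := QuadPairUnipotent.exists_opp h.hk2 h.hk3 h.hG ha
    refine ⟨a, b, ha, hb, mem_comp_self hA,
      ⟨mem_roots.2 ⟨b, hb, rfl⟩, .single ⟨hA, mem_roots.2 ⟨b, hb, rfl⟩, isRankOnePair ha hb h.hk2 h.hk3 ho⟩⟩, ?_⟩
    intro e
    exact not_uni_of_opp ha hb ho ⟨by rw [e, mul_assoc, ha.1.1, mul_zero], by rw [← e, mul_assoc, hb.1.1, mul_zero]⟩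
  choose a b ha hb hqa hqb hab using hrep
  have hcomm : ∀ p q : Q, p ≠ q → a p * b q = b q * a p := by
    intro p q hpq
    obtain ⟨A, hA, hp⟩ := p.2
    obtain ⟨B, hB, hq⟩ := q.2
    have h1 := hqa p
    have h2 := hqb q
    rw [← hp] at h1
    rw [← hq] at h2
    have hc := commute_of_no_path' h h1.1 h2.1 fun hpath => hpq (Subtype.ext (by
      rw [← hp, ← hq]
      exact comp_eq ((h1.2.trans hpath).trans (RootSubConn.rfl_trans_symm _ h2.2))))
    have := QuadPairCommute.nl_comm (RankOne.comm_of_commutator_eq_bot hc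
      (unitOf_mem_E (self_mem_cls (ha p).1)) (unitOf_mem_E (self_mem_cls (hb q).1)))
    rwa [nl_unitOf, nl_unitOf] at this
  have hli : LinearIndependent k a := by
    rw [linearIndependent_iff']
    intro s g hs i hi
    have hsum := congrArg (fun x => x * b i - b i * x) hs
    simp only [zero_mul, mul_zero, sub_zero, Finset.sum_mul, Finset.mul_sum, ← Finset.sum_sub_distrib,
      smul_mul_assoc, mul_smul_comm, ← smul_sub] at hsum
    rw [Finset.sum_eq_single i (fun j _ hji => by rw [hcomm j i hji, sub_self, smul_zero])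
      (fun hni => absurd hi hni)] at hsum
    exact (smul_eq_zero.1 hsum).resolve_right (sub_ne_zero.2 (hab i))
  haveI : Finite Q := hli.finite
  exact Set.toFinite Q

theorem decomposition.{u} {k : Type u} [Field k] {M : Type u} [AddCommGroup M] [Module k M] [FiniteDimensional k M]
    {G : Subgroup (LinearMap.GeneralLinearGroup k M)} (h : Hyp G) :
    ∃ (r : ℕ) (part : Fin r → Set (Subgroup (LinearMap.GeneralLinearGroup k M))),
      (⋃ i, part i) = quadraticRootSubgroups G ∧ (∀ i j, i ≠ j → Disjoint (part i) (part j)) ∧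
      (∀ i, (part i).Nonempty) ∧
      (∀ i j, i ≠ j → ⁅(⨆ A ∈ part i, A), (⨆ A ∈ part j, A)⁆ = ⊥) ∧
      (∀ i, IsQuasisimple ↥(⨆ A ∈ part i, A) ∧
        IsRootSubgroupClass ((fun A : Subgroup (LinearMap.GeneralLinearGroup k M) => A.subgroupOf (⨆ B ∈ part i, B)) '' (part i)) ∧
        ∀ A ∈ part i, ∀ B ∈ rankOnePartners (part i) A, ∃ A₀ B₀ : Subgroup (LinearMap.GeneralLinearGroup k M),
          A₀ ≤ A ∧ B₀ ≤ B ∧ ∃ (k₁ : Type u) (_ : Field k₁), 3 < ENat.card k₁ ∧ IsPSL2PairOver k₁ A₀ B₀) := by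
  obtain ⟨r, ⟨e⟩⟩ := @Finite.exists_equiv_fin _ (finite_components h).to_subtype
  have hrep : ∀ i, ∃ A ∈ quadraticRootSubgroups G, comp G A = (e.symm i : Set _) := fun i => (e.symm i).2
  choose A hA hAe using hrep
  have hdisj : ∀ i j, i ≠ j → ∀ X ∈ comp G (A i), ∀ Y ∈ comp G (A j),
      ¬ Relation.ReflTransGen (FAdj (quadraticRootSubgroups G)) X Y := by
    intro i j hij X hX Y hY hp
    apply hij
    apply e.symm.injective
    apply Subtype.ext
    rw [← hAe i, ← hAe j]
    exact comp_eq ((hX.2.trans hp).trans (RootSubConn.rfl_trans_symm _ hY.2))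
  refine ⟨r, fun i => comp G (A i), ?_, fun i j hij => ?_, fun i => ⟨A i, mem_comp_self (hA i)⟩, ?_, fun i =>
    ⟨quasisimple h (hA i), part_isClass h (hA i), fun X hX Y hY => ?_⟩⟩
  · ext X
    refine ⟨fun hX => ?_, fun hX => ?_⟩
    · obtain ⟨i, hi⟩ := Set.mem_iUnion.1 hX
      exact hi.1
    · refine Set.mem_iUnion.2 ⟨e ⟨_, X, hX, rfl⟩, ?_⟩
      rw [hAe, Equiv.symm_apply_apply]
      exact mem_comp_self hX
  · exact Set.disjoint_left.2 fun X hi hj => hdisj i j hij X hi X hj .refl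
  · intro i j hij
    rw [Subgroup.commutator_eq_bot_iff_le_centralizer]
    refine iSup₂_le fun X hX x hx => Subgroup.mem_centralizer_iff.2 fun y hy => ?_
    have hle : (⨆ Y ∈ comp G (A j), Y) ≤ Subgroup.centralizer ({x} : Set (LinearMap.GeneralLinearGroup k M)) :=
      iSup₂_le fun Y hY z hz => Subgroup.mem_centralizer_iff.2 fun w hw => by
        rw [Set.mem_singleton_iff.1 hw]
        exact RankOne.comm_of_commutator_eq_bot
          (commute_of_no_path' h hX.1 hY.1 (hdisj i j hij X hX Y hY)) hx hz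
    exact (Subgroup.mem_centralizer_iff.1 (hle hy) x rfl).symm
  · obtain ⟨x, hx, rfl⟩ := mem_roots.1 hX.1
    obtain ⟨y, hy, rfl⟩ := mem_roots.1 hY.1.1
    exact exists_psl_pair h.hk2 h.hk3 hx hy (opp_of_rankOne h.hk2 h.hk3 hx hy hY.2)

end Cfsg.Agent.QuadPairComponents
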