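import Mathlib
import Cfsg.Agent.Lib.QuadPairSL2
import Cfsg.Agent.Lib.QuadPairRed
import Cfsg.Agent.Lib.QuadPairWord
import Cfsg.Agent.Lib.QuadPairCore

/-!
Elements of `dick k X` close to `up ρ` modulo `X f`, `ρ` divisible by `X²` with prescribed residue
modulo `f`, for a polynomial `f` prime to `X`.
-/

set_option autoImplicit false
set_option linter.unusedSectionVars false

open scoped MatrixGroups
open Matrix Polynomial

namespace Cfsg.Agent.QuadPairLift

open Cfsg.Agent.QuadPairSL2 Cfsg.Agent.QuadPairRed Cfsg.Agent.QuadPairWord Cfsg.Agent.QuadPairCore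

variable {k : Type*} [Field k] {f : k[X]}

/-- The modulus. -/
noncomputable abbrev modN (f : k[X]) : k[X] := X ^ 2 * f

/-- Reduction to `X²`. -/
noncomputable def p0 (f : k[X]) : AdjoinRoot (modN f) →ₐ[k] AdjoinRoot ((X : k[X]) ^ 2) :=
  AdjoinRoot.algHomOfDvd k (modN f) _ (dvd_mul_right _ _)

/-- Reduction to `f`. -/
noncomputable def p1 (f : k[X]) : AdjoinRoot (modN f) →ₐ[k] AdjoinRoot f :=
  AdjoinRoot.algHomOfDvd k (modN f) _ (dvd_mul_left _ _)

theorem p0_mk (q : k[X]) : p0 f (AdjoinRoot.mk _ q) = AdjoinRoot.mk _ q := by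
  rw [p0, ← AdjoinRoot.aeval_eq, ← aeval_algHom_apply, AdjoinRoot.algHomOfDvd_root, AdjoinRoot.aeval_eq]

theorem p1_mk (q : k[X]) : p1 f (AdjoinRoot.mk _ q) = AdjoinRoot.mk f q := by
  rw [p1, ← AdjoinRoot.aeval_eq, ← aeval_algHom_apply, AdjoinRoot.algHomOfDvd_root, AdjoinRoot.aeval_eq]

theorem p1_surjective : Function.Surjective (p1 f) := fun y => by
  obtain ⟨q, rfl⟩ := AdjoinRoot.mk_surjective y
  exact ⟨_, p1_mk q⟩

theorem p1_root : p1 f (AdjoinRoot.root (modN f)) = AdjoinRoot.root f := AdjoinRoot.algHomOfDvd_root _ _ _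

theorem cop (hX : ¬ X ∣ f) : IsCoprime ((X : k[X]) ^ 2) f :=
  IsCoprime.pow_left (Polynomial.prime_X.irreducible.coprime_iff_not_dvd.2 hX)

theorem ext_pi (hX : ¬ X ∣ f) {s t : AdjoinRoot (modN f)} (h0 : p0 f s = p0 f t) (h1 : p1 f s = p1 f t) :
    s = t := by
  obtain ⟨s, rfl⟩ := AdjoinRoot.mk_surjective s
  obtain ⟨t, rfl⟩ := AdjoinRoot.mk_surjective t
  rw [p0_mk, p0_mk, AdjoinRoot.mk_eq_mk] at h0
  rw [p1_mk, p1_mk, AdjoinRoot.mk_eq_mk] at h1
  exact AdjoinRoot.mk_eq_mk.2 ((cop hX).mul_dvd h0 h1)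

theorem isNilpotent_root : IsNilpotent (p0 f (AdjoinRoot.root (modN f))) := ⟨2, by
  rw [p0, AdjoinRoot.algHomOfDvd_root, ← AdjoinRoot.mk_X, ← map_pow, AdjoinRoot.mk_self]⟩

theorem near_of_up {r : AdjoinRoot (modN f)} (hr : up r ∈ dick k (AdjoinRoot.root (modN f))) {ρ : k[X]}
    (he : AdjoinRoot.mk (modN f) ρ = r) : Near (X * f) ρ := by
  subst he
  obtain ⟨g, hg, h01, h10, h00, h11⟩ := lift_up hr
  have e : X * (X * f) = modN f := by rw [modN]; ring
  exact ⟨g, hg, (Dvd.intro_left X e).trans h01, e ▸ h10, e ▸ h00, e ▸ h11⟩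

theorem dick_le_uni0 {g : SL(2, AdjoinRoot (modN f))} (hg : g ∈ dick k (AdjoinRoot.root (modN f))) :
    Matrix.SpecialLinearGroup.map (n := Fin 2) (p0 f).toRingHom g ∈ uni (p0 f (AdjoinRoot.root (modN f))) :=
  dick_le_uni _ k (map_dick k (p0 f) _ ▸ Subgroup.mem_map_of_mem _ hg)

/-- From a torus and the upper elements modulo `f`. -/
theorem exists_near (hX : ¬ X ∣ f) {h : SL(2, AdjoinRoot f)} (hh : h ∈ dick k (AdjoinRoot.root f)) {v : k}
    (hv : v ≠ 1) (hconj : ∀ s, h * up s * h⁻¹ = up (algebraMap k (AdjoinRoot f) v * s))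
    (hup : ∀ r : AdjoinRoot f, up r ∈ dick k (AdjoinRoot.root f)) (r : k[X]) :
    ∃ (c : k) (ρ : k[X]), c ≠ 0 ∧ X ^ 2 ∣ ρ ∧ f ∣ ρ - C c * r ∧ Near (X * f) ρ := by
  set f0' := Matrix.SpecialLinearGroup.map (n := Fin 2) (p0 f).toRingHom
  set f1' := Matrix.SpecialLinearGroup.map (n := Fin 2) (p1 f).toRingHom
  have hr := hup (AdjoinRoot.mk f r)
  rw [← p1_root, ← map_dick] at hh hr
  obtain ⟨h', hh', hhe⟩ := hh
  obtain ⟨y, hy, hye⟩ := hr
  obtain ⟨m, hm⟩ := iter_eq_one _ (isNilpotent_root (f := f)) (dick_le_uni0 hh') (dick_le_uni0 hy)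
  set x := iter h' m y with hx
  have hx0 : f0' x = 1 := by rw [hx, map_iter]; exact hm m le_rfl
  have hx1 : f1' x = up (algebraMap k (AdjoinRoot f) ((v - 1) ^ m) * AdjoinRoot.mk f r) := by
    rw [hx, map_iter, hye, hhe, iter_up hconj, map_pow, map_sub, map_one]
  obtain ⟨α, β, hab⟩ := cop hX
  refine ⟨(v - 1) ^ m, C ((v - 1) ^ m) * r * (α * X ^ 2), pow_ne_zero _ (sub_ne_zero.2 hv),
    dvd_mul_of_dvd_right (dvd_mul_left _ _) _, ⟨-(C ((v - 1) ^ m) * r * β), ?_⟩,
    near_of_up (r := AdjoinRoot.mk _ (C ((v - 1) ^ m) * r * (α * X ^ 2))) ?_ rfl⟩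
  · linear_combination C ((v - 1) ^ m) * r * hab
  suffices x = up (AdjoinRoot.mk (modN f) (C ((v - 1) ^ m) * r * (α * X ^ 2))) from
    this ▸ iter_mem hh' hy m
  apply Subtype.ext
  ext i j
  refine ext_pi hX ?_ ?_
  · show (f0' x).1 i j = (f0' (up _)).1 i j
    rw [hx0, map_up, show (p0 f).toRingHom (AdjoinRoot.mk _ _) = _ from p0_mk _,
      (AdjoinRoot.mk_eq_zero).2 (dvd_mul_of_dvd_right (dvd_mul_left _ _) _), up_zero]
  · show (f1' x).1 i j = (f1' (up _)).1 i j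
    rw [hx1, map_up, show (p1 f).toRingHom (AdjoinRoot.mk _ _) = _ from p1_mk _]
    have : AdjoinRoot.mk f (α * X ^ 2) = 1 := by
      rw [← map_one (AdjoinRoot.mk f), AdjoinRoot.mk_eq_mk, ← hab]
      exact ⟨-β, by ring⟩
    rw [map_mul _ (C _ * r), this, mul_one, map_mul, AdjoinRoot.mk_C, ← AdjoinRoot.algebraMap_eq]

section Finite

variable [Finite k]

theorem finite_top (hk2 : (2 : k) ≠ 0) (hk3 : Nat.card k ≠ 3) (hf : f ≠ 0) (hu : ¬ IsUnit f) (hX : ¬ X ∣ f)
    (hkill : ∀ ρ σ : k[X], Near (X * f) ρ → f ∣ σ * ρ → f ∣ ρ ∨ f ∣ σ) :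
    dick k (AdjoinRoot.root f) = ⊤ := by
  classical
  obtain ⟨q, hchar⟩ := CharP.exists k
  haveI := hchar
  haveI : Fact q.Prime := ⟨CharP.char_is_prime k q⟩
  have hq2 : q ≠ 2 := by
    rintro rfl
    exact hk2 (CharP.cast_eq_zero k 2)
  haveI := finite_adjoinRoot (N := modN f) (mul_ne_zero (pow_ne_zero _ X_ne_zero) hf)
  haveI := finite_adjoinRoot (N := f) hf
  haveI : Nontrivial (AdjoinRoot f) :=
    AdjoinRoot.nontrivial f (fun h => hu (isUnit_iff_degree_eq_zero.2 h))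
  have hroot : IsUnit (AdjoinRoot.root f) := by
    obtain ⟨α, β, hab⟩ := Polynomial.prime_X.irreducible.coprime_iff_not_dvd.2 hX
    refine IsUnit.of_mul_eq_one (AdjoinRoot.mk f α) ?_
    rw [← AdjoinRoot.mk_X, ← map_mul, ← map_one (AdjoinRoot.mk f), AdjoinRoot.mk_eq_mk]
    exact ⟨-β, by linear_combination hab⟩
  set Γ := dick k (AdjoinRoot.root (modN f))
  set H := dick k (AdjoinRoot.root f)
  have hqS : (q : AdjoinRoot (modN f)) = 0 := by
    rw [← map_natCast (algebraMap k (AdjoinRoot (modN f))), CharP.cast_eq_zero, map_zero]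
  -- elements of `Γ` killed by `p0` have unit image
  have hunit : ∀ r, up r ∈ Γ → p0 f r = 0 → r ≠ 0 → IsUnit (p1 f r) := by
    intro r hr h0 hne
    obtain ⟨ρ, rfl⟩ := AdjoinRoot.mk_surjective r
    have hnear := near_of_up hr rfl
    have hρ : ¬ f ∣ ρ := fun hd => hne (ext_pi hX (by rw [h0, map_zero])
      (by rw [p1_mk, map_zero, AdjoinRoot.mk_eq_zero.2 hd]))
    rw [p1_mk]
    have hinj : Function.Injective (fun t => AdjoinRoot.mk f ρ * t) := by
      refine (injective_iff_map_eq_zero (AddMonoidHom.mulLeft (AdjoinRoot.mk f ρ))).2 fun t ht => ?_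
      obtain ⟨σ, rfl⟩ := AdjoinRoot.mk_surjective t
      change AdjoinRoot.mk f ρ * AdjoinRoot.mk f σ = 0 at ht
      rw [← map_mul, AdjoinRoot.mk_eq_zero, mul_comm] at ht
      exact AdjoinRoot.mk_eq_zero.2 ((hkill ρ σ hnear ht).resolve_left hρ)
    obtain ⟨t, ht⟩ := (Finite.injective_iff_surjective.1 hinj) 1
    exact IsUnit.of_mul_eq_one t ht
  have h1 : up (1 : AdjoinRoot (modN f)) ∈ Γ := by
    simpa using up_mem_dick k (AdjoinRoot.root (modN f)) (1 : k)
  let F1 := Matrix.SpecialLinearGroup.map (n := Fin 2) (p1 f).toRingHom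
  have hF1 : ∀ g ∈ Γ, F1 g ∈ H := fun g hg => by
    have := Subgroup.mem_map_of_mem F1 hg
    rwa [map_dick, p1_root] at this
  let ψ : Γ →* H := (F1.comp Γ.subtype).codRestrict H fun g => hF1 g g.2
  have hψ : Function.Surjective ψ := by
    rintro ⟨y, hy⟩
    change y ∈ dick k (AdjoinRoot.root f) at hy
    rw [← p1_root, ← map_dick] at hy
    obtain ⟨x, hx, rfl⟩ := hy
    exact ⟨⟨x, hx⟩, rfl⟩
  let L : Subgroup Γ := ((Matrix.SpecialLinearGroup.map (n := Fin 2) (p0 f).toRingHom).comp Γ.subtype).ker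
  -- at every maximal ideal, `L` has an element with unit lower entry
  have hlow : ∀ J : Ideal (AdjoinRoot f), J.IsMaximal → ∃ x ∈ L, (ψ x : SL(2, AdjoinRoot f)).1 1 0 ∉ J := by
    intro J hJ
    letI := Ideal.Quotient.field J
    let πJ : AdjoinRoot (modN f) →ₐ[k] AdjoinRoot f ⧸ J := (Ideal.Quotient.mkₐ k J).comp (p1 f)
    have hroot' : πJ (AdjoinRoot.root (modN f)) ≠ 0 := by
      show Ideal.Quotient.mkₐ k J (p1 f _) ≠ 0
      rw [p1_root]
      exact (hroot.map _).ne_zero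
    have hs : Function.Surjective πJ := (Ideal.Quotient.mkₐ_surjective k J).comp p1_surjective
    obtain ⟨r, hr0, hr1, hr⟩ :=
      exists_up_ker hk2 hk3 (p0 f) πJ (isNilpotent_root (f := f)) hroot' hs AdjoinRoot.adjoinRoot_eq_top
    obtain ⟨htop, -, -⟩ := residue hk2 hk3 hroot AdjoinRoot.adjoinRoot_eq_top q J
    obtain ⟨w', hw'⟩ := redHom_surjective htop anti
    obtain ⟨w, rfl⟩ := hψ w'
    refine ⟨w * ⟨up r, hr⟩ * w⁻¹, ?_, ?_⟩
    · refine (MonoidHom.normal_ker _).conj_mem _ ?_ w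
      show Matrix.SpecialLinearGroup.map (n := Fin 2) (p0 f).toRingHom (up r) = 1
      rw [map_up, show (p0 f).toRingHom r = 0 from hr1, up_zero]
    · intro hmem
      have hJ0 : redHom k (AdjoinRoot.root f) J (ψ ⟨up r, hr⟩) = up (Ideal.Quotient.mk J (p1 f r)) := by
        show Matrix.SpecialLinearGroup.map (n := Fin 2) (Ideal.Quotient.mkₐ k J).toRingHom (F1 (up r)) = _
        rw [map_up, map_up]
        rfl
      have h10 : (redHom k (AdjoinRoot.root f) J (ψ (w * ⟨up r, hr⟩ * w⁻¹))).1 1 0 = 0 :=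
        Ideal.Quotient.eq_zero_iff_mem.2 hmem
      rw [map_mul, map_mul, map_inv, map_mul, map_mul, map_inv, hw', hJ0,
        (conj_up_entries anti _).2.2.1, anti_10] at h10
      simp only [mul_neg, mul_one, neg_neg, one_mul, neg_eq_zero] at h10
      exact ((hunit r hr hr1 hr0).map (Ideal.Quotient.mk J)).ne_zero h10
  refine dick_eq_top_of_units hk2 hk3 hroot AdjoinRoot.adjoinRoot_eq_top fun r hr0 hr => ?_
  by_contra hnu
  obtain ⟨I, hI, hrI⟩ := exists_max_ideal_of_mem_nonunits (mem_nonunits_iff.2 hnu)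
  let φI : H →* SL(2, AdjoinRoot f ⧸ I) := redHom k (AdjoinRoot.root f) I
  let J₀ : Subgroup Γ := L ⊓ (φI.comp ψ).ker
  haveI : L.Normal := MonoidHom.normal_ker _
  haveI : J₀.Normal := Subgroup.normal_inf_normal _ _
  by_cases hd : q ∣ Nat.card J₀
  · obtain ⟨r', hr', hr'0, hr'J⟩ := exists_up_mem_normal hq2 hqS Γ h1 J₀ hd
    obtain ⟨hrL, hrK⟩ := Subgroup.mem_inf.1 hr'J
    have e0 : p0 f r' = 0 := by
      have h : Matrix.SpecialLinearGroup.map (n := Fin 2) (p0 f).toRingHom (up r') = 1 := hrL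
      rw [map_up, ← up_zero] at h
      exact up_injective h
    have h : Matrix.SpecialLinearGroup.map (n := Fin 2) (Ideal.Quotient.mkₐ k I).toRingHom (F1 (up r')) = 1 := hrK
    rw [map_up, map_up, ← up_zero] at h
    exact hI.ne_top (Ideal.eq_top_of_isUnit_mem _ (Ideal.Quotient.eq_zero_iff_mem.1 (up_injective h))
      (hunit r' hr' e0 hr'0))
  haveI : (J₀.map ψ).Normal := Subgroup.Normal.map inferInstance ψ hψ
  have hcent := kernel_central hk2 hk3 hroot AdjoinRoot.adjoinRoot_eq_top q hq2 (J₀.map ψ)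
    (fun h => hd (h.trans (Subgroup.card_map_dvd J₀ ψ)))
  obtain ⟨Y, hY⟩ := hψ ⟨up r, hr⟩
  have hYq : (⟨up r, hr⟩ : H) ^ q = 1 := by
    apply Subtype.ext
    rw [SubmonoidClass.coe_pow, up_pow, ← map_natCast (algebraMap k (AdjoinRoot f)), CharP.cast_eq_zero,
      map_zero, zero_mul, up_zero]
    rfl
  have hann : ∀ x ∈ L, r * (ψ x : SL(2, AdjoinRoot f)).1 1 0 = 0 := by
    intro x hx
    have hmem : x * Y * x⁻¹ * Y⁻¹ ∈ J₀ := by
      refine Subgroup.mem_inf.2 ⟨?_, ?_⟩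
      · rw [mul_assoc x, mul_assoc x]
        exact mul_mem hx (Subgroup.Normal.conj_mem inferInstance _ (inv_mem hx) Y)
      · have hYI : φI (ψ Y) = 1 := by
          rw [hY]
          show Matrix.SpecialLinearGroup.map (n := Fin 2) (Ideal.Quotient.mkₐ k I).toRingHom (up r) = 1
          rw [map_up, show (Ideal.Quotient.mkₐ k I).toRingHom r = 0 from Ideal.Quotient.eq_zero_iff_mem.2 hrI,
            up_zero]
        rw [MonoidHom.mem_ker, MonoidHom.comp_apply, map_mul ψ, map_mul φI, map_mul ψ, map_mul φI, map_mul ψ,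
          map_mul φI, map_inv ψ Y, map_inv φI, hYI, inv_one, mul_one, mul_one, map_inv, map_inv, mul_inv_cancel]
    set y : H := ⟨up r, hr⟩
    set c := ψ x * y * (ψ x)⁻¹ * y⁻¹ with hcdef
    have hcm : c ∈ J₀.map ψ := ⟨_, hmem, by rw [map_mul, map_mul, map_mul, map_inv, map_inv, hY]⟩
    have hcy : ψ x * y * (ψ x)⁻¹ = c * y := by rw [hcdef, inv_mul_cancel_right]
    have hcq : c ^ q = 1 := by
      have h := congrArg (· ^ q) hcy
      simp only [conj_pow, (Commute.mul_pow (hcent c hcm y : Commute c y)), hYq, mul_one, mul_inv_cancel] at h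
      exact h.symm
    have hc1 : c = 1 := by
      rw [← orderOf_eq_one_iff]
      refine Nat.eq_one_of_dvd_coprimes ?_ (orderOf_dvd_of_pow_eq_one hcq)
        (Subgroup.orderOf_mk c hcm ▸ orderOf_dvd_natCard _)
      exact (Fact.out : q.Prime).coprime_iff_not_dvd.2 fun h => hd (h.trans (Subgroup.card_map_dvd J₀ ψ))
    rw [hc1, one_mul, mul_inv_eq_iff_eq_mul] at hcy
    exact (of_commute_up (congrArg Subtype.val hcy)).1
  obtain ⟨J, hJ, hle⟩ := Ideal.exists_le_maximal (LinearMap.ker (LinearMap.mulLeft (AdjoinRoot f) r))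
    (fun h => hr0 (by simpa using (h.symm ▸ Submodule.mem_top : (1 : AdjoinRoot f) ∈ LinearMap.ker
      (LinearMap.mulLeft (AdjoinRoot f) r))))
  obtain ⟨x, hx, hxJ⟩ := hlow J hJ
  exact hxJ (hle (hann x hx))

end Finite

/-- Every residue is attained, up to a non-zero scalar. -/
theorem exists_near_all (hk2 : (2 : k) ≠ 0) (hk3 : Nat.card k ≠ 3) (hf : f ≠ 0) (hu : ¬ IsUnit f) (hX : ¬ X ∣ f)
    (hkill : ∀ ρ σ : k[X], Near (X * f) ρ → f ∣ σ * ρ → f ∣ ρ ∨ f ∣ σ) (r : k[X]) :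
    ∃ (c : k) (ρ : k[X]), c ≠ 0 ∧ X ^ 2 ∣ ρ ∧ f ∣ ρ - C c * r ∧ Near (X * f) ρ := by
  classical
  obtain ⟨u, hu0, hu1⟩ := exists_unit_sq_ne_one hk2 hk3
  set S := AdjoinRoot f
  set D := dg (Units.map (algebraMap k S : k →* S) (Units.mk0 u hu0)) with hD
  have hDc : ∀ s, D * up s * D⁻¹ = up (algebraMap k S (u * u) * s) := fun s => by
    rw [hD, dg_conj_up, map_mul]
    rfl
  rcases finite_or_infinite k with hfin | hinf
  · have htop := finite_top hk2 hk3 hf hu hX hkill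
    exact exists_near hX (htop ▸ Subgroup.mem_top D) (sub_ne_zero.1 hu1) hDc
      (fun s => htop ▸ Subgroup.mem_top _) r
  · have hc0 : f.coeff 0 ≠ 0 := fun h => hX (X_dvd_iff.2 h)
    have hdeg := natDegree_pos_of_not_isUnit hf hu
    have hmem : ∀ w : k[X], w.natDegree ≤ f.natDegree → ∃ P : k[X], ∀ P', P' = P ∨ P' = P + w →
        up (AdjoinRoot.mk f P') * D * up (-AdjoinRoot.mk f P') ∈ dick k (AdjoinRoot.root f) := by
      intro w hw
      obtain ⟨P, hP⟩ := exists_pair f hdeg hc0 w hw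
      refine ⟨P, fun P' hP' => ?_⟩
      obtain ⟨g, hg, δ, h10, h00⟩ := hP P' hP'
      have hgS : Matrix.SpecialLinearGroup.map (AdjoinRoot.mkₐ f).toRingHom g ∈ dick k (AdjoinRoot.root f) := by
        rw [← show (AdjoinRoot.mkₐ f) (X : k[X]) = AdjoinRoot.root f from AdjoinRoot.mk_X, ← map_dick]
        exact Subgroup.mem_map_of_mem _ hg
      refine conj_dg_mem k hgS δ ?_ ?_ _
      · show AdjoinRoot.mk f (g.1 1 0) = algebraMap k S δ
        rw [← sub_eq_zero, AdjoinRoot.algebraMap_eq, ← AdjoinRoot.mk_C, ← map_sub, AdjoinRoot.mk_eq_zero]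
        exact h10
      · show AdjoinRoot.mk f (g.1 0 0) = algebraMap k S δ * AdjoinRoot.mk f P'
        rw [h00, map_mul, AdjoinRoot.mk_C]
        rfl
    obtain ⟨P, hP⟩ := hmem 0 (by simp)
    have hT := hP P (Or.inl rfl)
    refine exists_near hX hT (sub_ne_zero.1 hu1) (fun s => ?_) (fun s => ?_) r
    · simp only [_root_.mul_inv_rev, up_inv, neg_neg]
      rw [show ∀ A : SL(2, S), A * D * up (-AdjoinRoot.mk f P) * up s *
          (up (AdjoinRoot.mk f P) * (D⁻¹ * up (-AdjoinRoot.mk f P))) =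
          A * (D * (up (-AdjoinRoot.mk f P) * up s * up (AdjoinRoot.mk f P)) * D⁻¹) *
            up (-AdjoinRoot.mk f P) from fun A => by group,
        up_mul, up_mul, hDc, up_mul, up_mul]
      congr 1
      ring
    · obtain ⟨ρ, rfl⟩ := AdjoinRoot.mk_surjective s
      set w := (C ((1 - u * u)⁻¹) * ρ) % f
      obtain ⟨Q, hQ⟩ := hmem w (natDegree_mod_lt _ hdeg.ne').le
      have h := mul_mem (hQ _ (Or.inr rfl)) (inv_mem (hQ _ (Or.inl rfl)))
      convert h using 1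
      simp only [_root_.mul_inv_rev, up_inv, neg_neg]
      rw [show ∀ A B C' E : SL(2, S), A * D * B * (C' * (D⁻¹ * E)) = A * (D * (B * C') * D⁻¹) * E from
        fun A B C' E => by group, up_mul, hDc, up_mul, up_mul]
      congr 1
      have hw : AdjoinRoot.mk f w = algebraMap k S ((1 - u * u)⁻¹) * AdjoinRoot.mk f ρ := by
        rw [show w = C ((1 - u * u)⁻¹) * ρ - f * ((C ((1 - u * u)⁻¹) * ρ) / f) from
          eq_sub_of_add_eq (by rw [add_comm]; exact EuclideanDomain.div_add_mod _ f), map_sub,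
          map_mul _ f, AdjoinRoot.mk_self, zero_mul, sub_zero, map_mul, AdjoinRoot.mk_C]
        rfl
      have h1 : algebraMap k S ((1 - u * u)⁻¹) * algebraMap k S (1 - u * u) = 1 := by
        rw [← map_mul, inv_mul_cancel₀ (fun h0 => hu1 (by linear_combination -h0)), map_one]
      simp only [map_add, hw, map_sub, map_mul, map_one] at h1 ⊢
      linear_combination -AdjoinRoot.mk f ρ * h1

end Cfsg.Agent.QuadPairLift
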