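import Mathlib
import Cfsg.Prelude.Def_RootSubgroups
import Cfsg.Agent.Lib.QuadPairTheory
import Cfsg.Agent.Lib.QuadPairCore
import Cfsg.Agent.Lib.QuadPairLift
import Cfsg.Agent.Lib.QuadPairCommute
import Cfsg.Agent.Lib.QuadPairCentral

/-!
Splitting a minimal part off a square-zero element of a quadratic pair, and the decomposition of
the group.
-/

set_option autoImplicit false
set_option linter.unusedSectionVars false

open Polynomial

namespace Cfsg.Agent.QuadPairSplit

open Cfsg Cfsg.Agent.QuadPairTheory Cfsg.Agent.QuadPairSL2 Cfsg.Agent.QuadPairCore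

variable {k : Type*} [Field k] {M : Type*} [AddCommGroup M] [Module k M] [FiniteDimensional k M]
  {G : Subgroup (LinearMap.GeneralLinearGroup k M)}

theorem grp_le_G {a q : Module.End k M} (ha : a ∈ Lie G) (hq : q ∈ Lie G) : grp a q ≤ G := by
  refine (Subgroup.closure_le _).2 ?_
  rintro x (⟨t, ht⟩ | ⟨t, ht⟩)
  · obtain ⟨y, hy, hye⟩ := ha.2 t
    rw [show x = y from Units.ext (ht.trans hye.symm)]; exact hy
  · obtain ⟨y, hy, hye⟩ := hq.2 t
    rw [show x = y from Units.ext (ht.trans hye.symm)]; exact hy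

theorem lie_of_inH {a q n : Module.End k M} (ha : a ∈ Lie G) (hq : q ∈ Lie G) (hn : n * n = 0)
    (hi : InH a q n) : n ∈ Lie G :=
  ⟨hn, fun t => let ⟨g, hg, he⟩ := hi t; ⟨g, grp_le_G ha hq hg, he⟩⟩

theorem sq_poly {a q : Module.End k M} (ha : a * a = 0) (ρ : k[X]) :
    aeval (zz a q) ρ * a * (aeval (zz a q) ρ * a) = 0 := by
  rw [mul_assoc, ← mul_assoc a, ← (aeval_commute (zz_comm_left (b := q) ha) ρ).eq, mul_assoc _ a a,
    ha, mul_zero, mul_zero]

/-- Splitting off a minimal part. -/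
theorem split (hk2 : (2 : k) ≠ 0) (hk3 : Nat.card k ≠ 3) {q a : Module.End k M} (hq : q ∈ Lie G)
    (ha : IsMin G a) (hnil : ¬ QuadPairCentral.Nil a q) :
    ∃ q₁ q₀, IsMin G q₁ ∧ q₀ ∈ Lie G ∧ q₁ * q₀ = 0 ∧ q₀ * q₁ = 0 ∧ q = q₁ + q₀ ∧ rk q₀ < rk q := by
  have hza : zz a q * a = a * q * a := by rw [zz, add_mul, mul_assoc q a a, ha.1.1, mul_zero, add_zero]
  have hzq : zz a q * q = q * a * q := by rw [zz, add_mul, mul_assoc a q q, hq.1, mul_zero, zero_add]
  have hpow : ∀ n : ℕ, aeval (zz a q) (X ^ n : k[X]) * a = (a * q) ^ n * a := by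
    intro n
    induction n with
    | zero => simp
    | succ n ih =>
      rw [pow_succ', map_mul, aeval_X, mul_assoc, ih, pow_succ', mul_assoc (a * q)]
      rcases n with - | i
      · simp [hza]
      · rw [pow_succ', mul_assoc (a * q) ((a * q) ^ i), mul_assoc a q, ← mul_assoc (zz a q), hza]
        simp only [mul_assoc]
  obtain ⟨f₀, hfne, hf⟩ := exists_annihilator (zz a q) a
  obtain ⟨f, hfe, hfX⟩ := exists_eq_pow_rootMultiplicity_mul_and_not_dvd f₀ hfne 0
  rw [C_0, sub_zero] at hfe hfX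
  set e := f₀.rootMultiplicity 0
  have hfne' : f ≠ 0 := fun h => hfne (by rw [hfe, h, mul_zero])
  have hu : ¬ IsUnit f := fun hu => hnil ⟨e, by
    rw [← hpow]
    exact (hf _).2 (hfe ▸ (Units.mul_right_dvd (u := hu.unit)).2 dvd_rfl)⟩
  have hpa0 : aeval (zz a q) f₀ * a = 0 := (hf f₀).2 dvd_rfl
  -- rigidity on the side of `a`
  have hkill : ∀ {ρ σ : k[X]}, InH a q (aeval (zz a q) ρ * a) → aeval (zz a q) (σ * ρ) * a = 0 →
      aeval (zz a q) ρ * a = 0 ∨ aeval (zz a q) σ * a = 0 := by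
    intro ρ σ hi h0
    refine or_iff_not_imp_left.2 fun hne => ?_
    have hle : LinearMap.range (aeval (zz a q) ρ * a) ≤ LinearMap.range a :=
      range_mul_le (aeval_commute (zz_comm_left (b := q) ha.1.1) ρ)
    have heq : LinearMap.range (aeval (zz a q) ρ * a) = LinearMap.range a :=
      Submodule.eq_of_le_of_finrank_le hle
        (ha.2.2 _ (lie_of_inH ha.1 hq (sq_poly ha.1.1 ρ) hi) hne)
    refine LinearMap.ext fun x => ?_
    obtain ⟨y, hy⟩ : a x ∈ LinearMap.range (aeval (zz a q) ρ * a) := heq ▸ LinearMap.mem_range_self a x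
    show aeval (zz a q) σ (a x) = 0
    rw [← hy, ← Module.End.mul_apply, ← mul_assoc, ← map_mul, h0]
    rfl
  rcases Nat.eq_zero_or_pos e with he | he
  swap
  · exfalso
    obtain ⟨ρ, hnear, hρe, hρn⟩ := mixed_near hk2 hk3 e hfne' hu hfX
    have hi := inH_of_near hk2 ha.1.1 hq.1 (p := X * (X ^ e * f))
      (by rw [← hfe]; exact (hf _).2 (dvd_mul_left f₀ X))
      (by rw [← hfe]; exact flip_kill hq.1 _ hpa0) hnear
    rcases hkill hi (σ := f) (by
      refine (hf _).2 ?_
      rw [hfe, mul_comm]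
      exact mul_dvd_mul_left _ hρe) with h | h
    · exact hρn ((dvd_mul_left f (X ^ e)).trans (hfe ▸ (hf ρ).1 h))
    · have h' : f₀ ∣ f := (hf f).1 h
      rw [hfe] at h'
      exact hfX ((dvd_pow_self X (by omega)).trans ((dvd_mul_right _ f).trans h'))
  rw [he, pow_zero, one_mul] at hfe
  subst hfe
  have hXa : aeval (zz a q) (X * f₀) * a = 0 := (hf _).2 (dvd_mul_left _ _)
  have hXq : aeval (zz a q) (X * f₀) * q = 0 := flip_kill hq.1 _ hpa0
  have hlift := QuadPairLift.exists_near_all hk2 hk3 hfne hu hfX fun ρ σ hnear hdvd => by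
    rcases hkill (inH_of_near hk2 ha.1.1 hq.1 hXa hXq hnear) ((hf _).2 hdvd) with h | h
    · exact Or.inl ((hf ρ).1 h)
    · exact Or.inr ((hf σ).1 h)
  obtain ⟨α, β, hab⟩ := QuadPairLift.cop hfX
  obtain ⟨c, ρ, hc, hρX, hρf, hnear⟩ := hlift 1
  rw [mul_one] at hρf
  set z := zz a q with hz
  have hd : X * f₀ ∣ ρ - C c * (α * X ^ 2) := by
    refine ((Polynomial.prime_X.irreducible.coprime_iff_not_dvd).2 hfX).mul_dvd ?_ ?_
    · exact dvd_sub ((dvd_pow_self X two_ne_zero).trans hρX)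
        (dvd_mul_of_dvd_right (dvd_mul_of_dvd_right (dvd_pow_self X two_ne_zero) _) _)
    · have e : ρ - C c * (α * X ^ 2) = (ρ - C c) + f₀ * (C c * β) := by linear_combination -C c * hab
      rw [e]; exact dvd_add hρf (dvd_mul_right _ _)
  have hi : InH a q (aeval z ρ * q) := by
    refine inH_symm ?_
    rw [hz, zz_symm a q]
    exact inH_of_near hk2 hq.1 ha.1.1 (by rw [zz_symm q a]; exact hXq) (by rw [zz_symm q a]; exact hXa) hnear
  have hzq2 : zz q a = z := zz_symm q a
  have hsqρ : aeval z ρ * q * (aeval z ρ * q) = 0 := hzq2 ▸ sq_poly hq.1 ρ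
  have hl := Lie.smul (lie_of_inH ha.1 hq hsqρ hi) c⁻¹
  obtain ⟨q₁, hq₁⟩ : ∃ q₁, q₁ = aeval z (α * X ^ 2) * q := ⟨_, rfl⟩
  have hρq : aeval z ρ * q = c • q₁ := by
    obtain ⟨w, hw⟩ := hd
    rw [show ρ = C c * (α * X ^ 2) + w * (X * f₀) by linear_combination hw, map_add, add_mul, map_mul _ w,
      mul_assoc, hXq, mul_zero, add_zero, map_mul, aeval_C, mul_assoc, ← Algebra.smul_def, hq₁]
  rw [hρq, smul_smul, inv_mul_cancel₀ hc, one_smul] at hl
  have hcz : ∀ p : k[X], Commute (aeval z p) q := fun p => aeval_commute (zz_comm_right (a := a) hq.1) p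
  have hqq₁ : q * q₁ = 0 := by
    rw [hq₁, ← mul_assoc, ← (hcz _).eq, mul_assoc, hq.1, mul_zero]
  have hq₁q : q₁ * q = 0 := by rw [hq₁, mul_assoc, hq.1, mul_zero]
  have hq0 := Lie.add hq (Lie.neg hl) (by rw [mul_neg, hqq₁, neg_zero]) (by rw [neg_mul, hq₁q, neg_zero])
  have hne : q₁ ≠ 0 := by
    intro h0
    have h1 : aeval z (α * X ^ 2 * X) * a = 0 := by
      rw [map_mul, aeval_X, mul_assoc, hza, ← mul_assoc, ← mul_assoc,
        (aeval_commute (zz_comm_left (b := q) ha.1.1) _).eq, mul_assoc a, ← hq₁, h0, mul_zero, zero_mul]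
    have h2 := (hf _).1 h1
    apply hu
    refine isUnit_of_dvd_one ?_
    have h3 : f₀ ∣ X := by
      rw [show (X : k[X]) = α * X ^ 2 * X + f₀ * (β * X) by linear_combination -(X : k[X]) * hab]
      exact dvd_add h2 (dvd_mul_right _ _)
    exact (Polynomial.prime_X.irreducible.coprime_iff_not_dvd.2 hfX).isUnit_of_dvd' h3 dvd_rfl |>.dvd
  have hq₁a : q₁ = q * a * (aeval z (α * X) * q) := by
    calc q₁ = aeval z (α * X) * (z * q) := by
          rw [hq₁, ← mul_assoc]
          congr 1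
          rw [show α * X ^ 2 = α * X * X by ring, map_mul _ (α * X), aeval_X]
      _ = aeval z (α * X) * q * a * q := by rw [hzq]; simp only [mul_assoc]
      _ = q * aeval z (α * X) * a * q := by rw [(hcz _).eq]
      _ = q * a * (aeval z (α * X) * q) := by
          rw [mul_assoc q, (aeval_commute (zz_comm_left (b := q) ha.1.1) _).eq]; simp only [mul_assoc]; rfl
  have hmin : IsMin G q₁ := by
    refine ha.of_rk_le hl hne ?_
    rw [hq₁a, rk]
    refine (Submodule.finrank_mono (LinearMap.range_comp_le_range (aeval z (α * X) * q) (q * a))).trans ?_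
    show Module.finrank k (LinearMap.range (q ∘ₗ a)) ≤ _
    rw [LinearMap.range_comp]
    exact Submodule.finrank_map_le q _
  have hq₁₁ : q₁ * q₁ = 0 := hl.1
  refine ⟨q₁, q + -q₁, hmin, hq0, by rw [mul_add, mul_neg, hq₁q, hq₁₁, neg_zero, add_zero],
    by rw [add_mul, neg_mul, hqq₁, hq₁₁, neg_zero, add_zero], by abel, ?_⟩
  have hzero : z * (q + -q₁) = 0 := by
    rw [hq₁, mul_add, mul_neg, ← sub_eq_add_neg, ← mul_assoc]
    have e : z * aeval z (α * X ^ 2) = aeval z (X * (α * X ^ 2)) := by rw [map_mul _ X, aeval_X]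
    rw [e, show X * (α * X ^ 2) = X - (X * f₀) * β by linear_combination (X : k[X]) * hab, map_sub, aeval_X,
      sub_mul, mul_comm (X * f₀), map_mul _ β, mul_assoc, hXq, mul_zero, sub_zero, sub_self]
  have hle : LinearMap.range (q + -q₁) ≤ LinearMap.range q := by
    rintro _ ⟨x, rfl⟩
    rw [LinearMap.add_apply, LinearMap.neg_apply]
    refine add_mem ⟨x, rfl⟩ (neg_mem ?_)
    rw [hq₁a]
    exact ⟨_, rfl⟩
  refine Submodule.finrank_lt_finrank_of_lt (lt_of_le_of_ne hle fun heq => hne ?_)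
  have hzq0 : z * q = 0 := LinearMap.ext fun x => by
    obtain ⟨y, hy⟩ := heq.ge ⟨x, rfl⟩
    show z (q x) = 0
    rw [← hy]
    exact LinearMap.congr_fun hzero y
  rw [hq₁, show α * X ^ 2 = α * X * X by ring, map_mul _ (α * X), aeval_X, mul_assoc, hzq0, mul_zero]

/-- Every square-zero part lies in the product of the root groups and their centralizer. -/
theorem mem_product (hk2 : (2 : k) ≠ 0) (hk3 : Nat.card k ≠ 3) (hG : QuadPairUnipotent.Reduced G) :
    ∀ (n : ℕ) (q : Module.End k M) (hq : q ∈ Lie G), rk q = n →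
      unitOf q hq.1 ∈ (⨆ A ∈ quadraticRootSubgroups G, A) ⊔
        (G ⊓ Subgroup.centralizer ((⨆ A ∈ quadraticRootSubgroups G, A : Subgroup (LinearMap.GeneralLinearGroup k M)) :
          Set (LinearMap.GeneralLinearGroup k M))) := by
  intro n
  induction n using Nat.strong_induction_on with
  | _ n ih =>
    intro q hq hn
    by_cases hall : ∀ a, IsMin G a → QuadPairCentral.Nil a q
    · refine Subgroup.mem_sup_right (Subgroup.mem_inf.2 ⟨Lie.mem hq, ?_⟩)
      have hle : (⨆ A ∈ quadraticRootSubgroups G, A : Subgroup (LinearMap.GeneralLinearGroup k M)) ≤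
          Subgroup.centralizer ({unitOf q hq.1} : Set (LinearMap.GeneralLinearGroup k M)) := by
        refine iSup₂_le fun A hA g hg => ?_
        obtain ⟨a, ha, rfl⟩ := mem_roots.1 hA
        rw [Subgroup.mem_centralizer_iff]
        intro y hy
        rw [Set.mem_singleton_iff.1 hy]
        refine QuadPairCommute.comm_of_nl ?_
        rw [nl_unitOf]
        rcases eq_or_ne (nl g) 0 with h0 | h0
        · rw [h0, mul_zero, zero_mul]
        · exact QuadPairCentral.commutes hk2 hk3 hG hq hall (cls_spaces ha (mem_E.1 hg) h0).1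
      rw [Subgroup.mem_centralizer_iff]
      exact fun g hg => (Subgroup.mem_centralizer_iff.1 (hle hg) _ rfl).symm
    · push Not at hall
      obtain ⟨a, ha, hna⟩ := hall
      obtain ⟨q₁, q₀, hq₁, hq₀, h10, h01, hsum, hlt⟩ := split hk2 hk3 hq ha hna
      have e : unitOf q hq.1 = unitOf q₁ hq₁.1.1 * unitOf q₀ hq₀.1 := by
        apply Units.ext
        rw [Units.val_mul, unitOf_coe, unitOf_coe, unitOf_coe, add_mul, one_mul, mul_add, mul_one, h10, hsum,
          add_zero]
        abel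
      rw [e]
      exact mul_mem (Subgroup.mem_sup_left (Subgroup.mem_iSup_of_mem (E G hq₁.1.1)
        (Subgroup.mem_iSup_of_mem (mem_roots.2 ⟨q₁, hq₁, rfl⟩) (unitOf_mem_E (self_mem_cls hq₁.1)))))
        (ih _ (hn ▸ hlt) q₀ hq₀ rfl)

end Cfsg.Agent.QuadPairSplit
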