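import Mathlib
import Cfsg.Prelude.Def_RootSubgroups
import Cfsg.Prelude.Def_CaseTheorems
import Cfsg.Agent.Lib.QuadPairTheory
import Cfsg.Agent.Lib.QuadPairNoUni
import Cfsg.Agent.Lib.QuadPairComponents
import Cfsg.Agent.Lib.QuadPairCentral
import Cfsg.Agent.Lib.QuadPairSplit

/-!
A quadratic pair is a central product of quasisimple groups, each quadratic element lying in one of
them.
-/

set_option autoImplicit false
set_option linter.unusedSectionVars false

namespace Cfsg.Agent.QuadPairProduct

open Cfsg Cfsg.Agent.QuadPairTheory Cfsg.Agent.QuadPairComponents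
open scoped commutatorElement

variable {k : Type*} [Field k] {M : Type*} [AddCommGroup M] [Module k M] [FiniteDimensional k M]
  {G : Subgroup (LinearMap.GeneralLinearGroup k M)}

/-- Successively split sums of square-zero parts, each part in a member of `C`. -/
inductive Parts (C : Set (Subgroup (LinearMap.GeneralLinearGroup k M))) : Module.End k M → Prop
  | zero : Parts C 0
  | cons {K : Subgroup (LinearMap.GeneralLinearGroup k M)} {g : LinearMap.GeneralLinearGroup k M}
      {q : Module.End k M} (hK : K ∈ C) (hg : g ∈ K) (hgs : nl g * nl g = 0) (hqs : q * q = 0)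
      (h1 : nl g * q = 0) (h2 : q * nl g = 0) (hq : Parts C q) : Parts C (nl g + q)

theorem Parts.mono {C D : Set (Subgroup (LinearMap.GeneralLinearGroup k M))} (h : C ⊆ D)
    {q : Module.End k M} (hq : Parts C q) : Parts D q := by
  induction hq with
  | zero => exact .zero
  | cons hK hg h0 h0' h1 h2 _ ih => exact .cons (h hK) hg h0 h0' h1 h2 ih

/-- The data to be constructed. -/
structure Dec (H : Subgroup (LinearMap.GeneralLinearGroup k M))
    (C : Set (Subgroup (LinearMap.GeneralLinearGroup k M))) : Prop where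
  finite : C.Finite
  le : ∀ K ∈ C, K ≤ H
  quasi : ∀ K ∈ C, IsQuasisimple K
  gen : ∀ K ∈ C, Subgroup.closure (quadraticElements H ∩ (K : Set (LinearMap.GeneralLinearGroup k M))) = K
  comm : ∀ K ∈ C, ∀ L ∈ C, K ≠ L → ⁅K, L⁆ = ⊥
  parts : ∀ q ∈ Lie H, Parts C q

theorem eq_unit {σ : LinearMap.GeneralLinearGroup k M} (h : nl σ * nl σ = 0) :
    σ = unitOf (nl σ) h :=
  Units.ext (by simp [nl])

/-- The subgroup generated by the quadratic elements centralizing the root groups. -/
def rest (G : Subgroup (LinearMap.GeneralLinearGroup k M)) : Subgroup (LinearMap.GeneralLinearGroup k M) :=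
  Subgroup.closure {σ | σ ∈ quadraticElements G ∧ ∀ a, IsMin G a → nl σ * a = a * nl σ}

theorem rest_le : rest G ≤ G := (Subgroup.closure_le _).2 fun _ h => h.1.1

theorem mem_rest {q : Module.End k M} (hq : q ∈ Lie G) (h : ∀ a, IsMin G a → q * a = a * q) :
    unitOf q hq.1 ∈ rest G := by
  rcases eq_or_ne q 0 with rfl | h0
  · rw [show unitOf (0 : Module.End k M) hq.1 = 1 from Units.ext (by simp)]
    exact one_mem _
  · exact Subgroup.subset_closure ⟨quadratic_of_lie hq h0, fun a ha => by rw [nl_unitOf]; exact h a ha⟩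

theorem rest_lie {q : Module.End k M} (hq : q ∈ Lie G) (h : ∀ a, IsMin G a → q * a = a * q) :
    q ∈ Lie (rest G) :=
  ⟨hq.1, fun c => ⟨_, mem_rest (Lie.smul hq c) fun a ha => by rw [smul_mul_assoc, h a ha, mul_smul_comm],
    rfl⟩⟩

theorem rest_mem_commute {g : LinearMap.GeneralLinearGroup k M} (hg : g ∈ rest G) {a : Module.End k M}
    (ha : IsMin G a) : (g : Module.End k M) * a = a * (g : Module.End k M) := by
  induction hg using Subgroup.closure_induction with
  | mem x hx =>
    have := hx.2 a ha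
    rwa [nl, sub_mul, mul_sub, one_mul, mul_one, sub_left_inj] at this
  | one => rw [Units.val_one, one_mul, mul_one]
  | mul x y _ _ h1 h2 => rw [Units.val_mul, mul_assoc, h2, ← mul_assoc, h1, mul_assoc]
  | inv x _ h => exact ((show Commute (x : Module.End k M) a from h).units_inv_left).eq

theorem lie_rest_commute {q : Module.End k M} (hq : q ∈ Lie (rest G)) {a : Module.End k M} (ha : IsMin G a) :
    q * a = a * q := by
  have := rest_mem_commute (Lie.mem hq) ha
  rwa [unitOf_coe, add_mul, mul_add, one_mul, mul_one, add_right_inj] at this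

theorem lie_mono {H K : Subgroup (LinearMap.GeneralLinearGroup k M)} (h : H ≤ K) : Lie H ⊆ Lie K :=
  fun _ hn => ⟨hn.1, fun c => let ⟨g, hg, he⟩ := hn.2 c; ⟨g, h hg, he⟩⟩

theorem quadratic_mono {H K : Subgroup (LinearMap.GeneralLinearGroup k M)} (h : H ≤ K) :
    quadraticElements H ⊆ quadraticElements K :=
  fun _ hσ => ⟨h hσ.1, hσ.2.1, hσ.2.2.trans h⟩

theorem rest_conj {x : LinearMap.GeneralLinearGroup k M} (hx : x ∈ G) : conjBy (rest G) x = rest G := by
  have key : ∀ y ∈ G, conjBy (rest G) y ≤ rest G := fun y hy => by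
    rw [rest, conjBy, MonoidHom.map_closure, Subgroup.closure_le]
    rintro _ ⟨σ, hσ, rfl⟩
    have hl := Lie.conj (lie_of_mem_quadratic hσ.1) hy
    have e : (MulAut.conj y).toMonoidHom σ = unitOf (cj y (nl σ)) hl.1 := by
      apply Units.ext
      show ((y * σ * y⁻¹ : LinearMap.GeneralLinearGroup k M) : Module.End k M) = _
      rw [unitOf_coe, ← cj_coe, nl, cj_sub, cj_one, add_sub_cancel]
    rw [SetLike.mem_coe, e]
    refine mem_rest hl fun a ha => ?_
    have h := congrArg (cj y) (hσ.2 _ (ha.conj (inv_mem hy)))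
    rw [cj_mul, cj_mul, cj_comp, mul_inv_cancel] at h
    simpa [cj] using h
  refine le_antisymm (key x hx) ?_
  have := Subgroup.map_mono (f := (MulAut.conj x).toMonoidHom) (key _ (inv_mem hx))
  change conjBy (conjBy _ x⁻¹) x ≤ conjBy _ x at this
  rwa [RankOne.conjBy_conjBy_inv] at this

theorem rest_gen : Subgroup.closure (quadraticElements (rest G)) = rest G := by
  refine le_antisymm ((Subgroup.closure_le _).2 fun _ h => h.1) ((Subgroup.closure_le _).2 fun σ hσ => ?_)
  have hl := rest_lie (lie_of_mem_quadratic hσ.1) hσ.2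
  rw [SetLike.mem_coe, eq_unit hl.1]
  exact Subgroup.subset_closure (quadratic_of_lie hl hσ.1.2.1.2)

theorem exists_min {q : Module.End k M} (hq : q ∈ Lie G) (h0 : q ≠ 0) : ∃ a, IsMin G a := by
  classical
  have hex : ∃ n, ∃ a, a ∈ Lie G ∧ a ≠ 0 ∧ rk a = n := ⟨_, q, hq, h0, rfl⟩
  obtain ⟨a, ha, ha0, he⟩ := Nat.find_spec hex
  exact ⟨a, ha, ha0, fun m hm hm0 => he ▸ Nat.find_le ⟨m, hm, hm0, rfl⟩⟩

theorem rest_span_lt (hk2 : (2 : k) ≠ 0) (hk3 : Nat.card k ≠ 3) (hG : QuadPairUnipotent.Reduced G)
    {a : Module.End k M} (ha : IsMin G a) :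
    Module.finrank k (Submodule.span k (Lie (rest G))) < Module.finrank k (Submodule.span k (Lie G)) := by
  refine Submodule.finrank_lt_finrank_of_lt
    (lt_of_le_of_ne (Submodule.span_mono (lie_mono rest_le)) fun e => ?_)
  obtain ⟨b, hb, ho⟩ := QuadPairUnipotent.exists_opp hk2 hk3 hG ha
  have hcomm : ∀ x ∈ Submodule.span k (Lie (rest G)), x * b = b * x := fun x hx => by
    induction hx using Submodule.span_induction with
    | mem y hy => exact lie_rest_commute hy hb
    | zero => simp
    | add y z _ _ h1 h2 => rw [add_mul, h1, h2, mul_add]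
    | smul t y _ h1 => rw [smul_mul_assoc, h1, mul_smul_comm]
  have e2 := hcomm a (e ▸ Submodule.subset_span ha.1)
  exact not_uni_of_opp ha hb ho
    ⟨by rw [e2, mul_assoc, ha.1.1, mul_zero], by rw [← e2, mul_assoc, hb.1.1, mul_zero]⟩

theorem parts_of (hk2 : (2 : k) ≠ 0) (hk3 : Nat.card k ≠ 3) (hG : QuadPairUnipotent.Reduced G)
    {C : Set (Subgroup (LinearMap.GeneralLinearGroup k M))}
    (hmin : ∀ a (ha : IsMin G a), ∃ K ∈ C, unitOf a ha.1.1 ∈ K)
    (hrest : ∀ q ∈ Lie (rest G), Parts C q) : ∀ (n : ℕ) (q : Module.End k M), q ∈ Lie G → rk q = n → Parts C q := by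
  intro n
  induction n using Nat.strong_induction_on with
  | _ n ih =>
    intro q hq hn
    by_cases hall : ∀ a, IsMin G a → QuadPairCentral.Nil a q
    · exact hrest q (rest_lie hq fun a ha => QuadPairCentral.commutes hk2 hk3 hG hq hall ha)
    · push Not at hall
      obtain ⟨a, ha, hna⟩ := hall
      obtain ⟨q₁, q₀, hq₁, hq₀, h10, h01, hsum, hlt⟩ := QuadPairSplit.split hk2 hk3 hq ha hna
      obtain ⟨K, hK, hg⟩ := hmin q₁ hq₁
      rw [hsum, ← nl_unitOf q₁ hq₁.1.1]
      exact .cons hK hg (by rw [nl_unitOf]; exact hq₁.1.1) hq₀.1 (by rw [nl_unitOf]; exact h10) (by rw [nl_unitOf]; exact h01)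
        (ih _ (hn ▸ hlt) q₀ hq₀ rfl)

theorem compGrp_commute (h : Hyp G) {A B : Subgroup (LinearMap.GeneralLinearGroup k M)}
    (hA : A ∈ quadraticRootSubgroups G) (hne : compGrp G A ≠ compGrp G B) :
    ⁅compGrp G A, compGrp G B⁆ = ⊥ := by
  rw [Subgroup.commutator_eq_bot_iff_le_centralizer]
  refine iSup₂_le fun X hX => ?_
  rw [Subgroup.le_centralizer_iff]
  refine iSup₂_le fun Y hY => ?_
  rw [← Subgroup.commutator_eq_bot_iff_le_centralizer]
  refine commute_of_no_path' h hY.1 hX.1 fun hp => hne ?_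
  have he : comp G A = comp G B :=
    comp_eq ((hX.2.trans (RootSubConn.rfl_trans_symm _ hp)).trans (RootSubConn.rfl_trans_symm _ hY.2))
  simp only [compGrp, he]

theorem compGrp_commute_rest {A : Subgroup (LinearMap.GeneralLinearGroup k M)}
    {K : Subgroup (LinearMap.GeneralLinearGroup k M)} (hK : K ≤ rest G) : ⁅compGrp G A, K⁆ = ⊥ := by
  rw [Subgroup.commutator_eq_bot_iff_le_centralizer]
  refine iSup₂_le fun X hX x hx => Subgroup.mem_centralizer_iff.2 fun g hg => ?_
  obtain ⟨a, ha, rfl⟩ := mem_roots.1 hX.1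
  rcases eq_or_ne (nl x) 0 with h0 | h0
  · rw [nl_eq_zero.1 h0, mul_one, one_mul]
  · have := rest_mem_commute (hK hg) (cls_spaces ha (mem_E.1 hx) h0).1
    apply Units.ext
    rw [Units.val_mul, Units.val_mul]
    rwa [nl, mul_sub, sub_mul, mul_one, one_mul, sub_left_inj] at this

theorem compGrp_gen {A : Subgroup (LinearMap.GeneralLinearGroup k M)} :
    Subgroup.closure (quadraticElements G ∩ (compGrp G A : Set (LinearMap.GeneralLinearGroup k M))) = compGrp G A := by
  refine le_antisymm ((Subgroup.closure_le _).2 fun _ h => h.2) (iSup₂_le fun X hX x hx => ?_)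
  obtain ⟨a, ha, rfl⟩ := mem_roots.1 hX.1
  rcases eq_or_ne (nl x) 0 with h0 | h0
  · rw [nl_eq_zero.1 h0]; exact one_mem _
  · refine Subgroup.subset_closure ⟨?_, Subgroup.mem_iSup_of_mem _ (Subgroup.mem_iSup_of_mem hX hx)⟩
    rw [eq_unitOf hx]
    exact quadratic_of_lie (mem_E.1 hx).1 h0

theorem exists_dec (hk2 : (2 : k) ≠ 0) (hk3 : Nat.card k ≠ 3) :
    ∀ (n : ℕ) (H : Subgroup (LinearMap.GeneralLinearGroup k M)), QuadPairUnipotent.Reduced H →
      Module.finrank k (Submodule.span k (Lie H)) = n → ∃ C, Dec H C := by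
  intro n
  induction n using Nat.strong_induction_on with
  | _ n ih =>
    intro H hH hn
    by_cases hz : ∀ q ∈ Lie H, q = 0
    · exact ⟨∅, Set.finite_empty, by simp, by simp, by simp, by simp, fun q hq => (hz q hq).symm ▸ .zero⟩
    push Not at hz
    obtain ⟨q, hq, hq0⟩ := hz
    obtain ⟨a, ha⟩ := exists_min hq hq0
    obtain ⟨C, hC⟩ := ih _ (hn ▸ rest_span_lt hk2 hk3 hH ha) (rest H)
      (QuadPairNoUni.descend hH rest_le fun x hx => rest_conj hx) rfl
    have h : Hyp H := ⟨hk2, hk3, hH⟩
    refine ⟨compGrp H '' quadraticRootSubgroups H ∪ C, ?_, ?_, ?_, ?_, ?_, ?_⟩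
    · refine Set.Finite.union ?_ hC.finite
      have e : compGrp H '' quadraticRootSubgroups H =
          (fun S : Set (Subgroup (LinearMap.GeneralLinearGroup k M)) => ⨆ B ∈ S, B) ''
            (comp H '' quadraticRootSubgroups H) := by rw [Set.image_image]
      rw [e]
      exact (finite_components h).image _
    · rintro K (⟨A, hA, rfl⟩ | hK)
      · exact (compGrp_le A).trans root0_le
      · exact (hC.le K hK).trans rest_le
    · rintro K (⟨A, hA, rfl⟩ | hK)
      · exact quasisimple h hA
      · exact hC.quasi K hK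
    · rintro K (⟨A, hA, rfl⟩ | hK)
      · exact compGrp_gen
      · refine le_antisymm ((Subgroup.closure_le _).2 fun _ hx => hx.2) ?_
        conv_lhs => rw [← hC.gen K hK]
        exact Subgroup.closure_mono (Set.inter_subset_inter_left _ (quadratic_mono rest_le))
    · rintro K (⟨A, hA, rfl⟩ | hK) L (⟨B, hB, rfl⟩ | hL) hne
      · exact compGrp_commute h hA hne
      · exact compGrp_commute_rest (hC.le L hL)
      · rw [Subgroup.commutator_comm]; exact compGrp_commute_rest (hC.le K hK)
      · exact hC.comm K hK L hL hne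
    · intro p hp
      refine parts_of hk2 hk3 hH (fun b hb => ?_) (fun r hr => (hC.parts r hr).mono Set.subset_union_right)
        _ p hp rfl
      have hr : E H hb.1.1 ∈ quadraticRootSubgroups H := mem_roots.2 ⟨b, hb, rfl⟩
      exact ⟨compGrp H (E H hb.1.1), Or.inl ⟨_, hr, rfl⟩, Subgroup.mem_iSup_of_mem (E H hb.1.1)
        (Subgroup.mem_iSup_of_mem (mem_comp_self hr) (unitOf_mem_E (self_mem_cls hb.1)))⟩

section Top

variable {C : Set (Subgroup (LinearMap.GeneralLinearGroup k M))}

theorem parts_mem {q : Module.End k M} (h : Parts C q) : ∃ g ∈ ⨆ K ∈ C, K, nl g = q := by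
  induction h with
  | zero => exact ⟨1, one_mem _, nl_eq_zero.2 rfl⟩
  | @cons K g q hK hg _ _ h1 _ _ ih =>
    obtain ⟨x, hx, rfl⟩ := ih
    refine ⟨g * x, mul_mem (Subgroup.mem_iSup_of_mem K (Subgroup.mem_iSup_of_mem hK hg)) hx, ?_⟩
    have e : nl (g * x) = nl g + nl x + nl g * nl x := by simp only [nl, Units.val_mul]; noncomm_ring
    rw [e, h1, add_zero]

theorem sup_eq (hG : IsQuadraticPair G) (hC : Dec G C) : (⨆ K ∈ C, K) = G := by
  refine le_antisymm (iSup₂_le hC.le) (hG.2.ge.trans ((Subgroup.closure_le _).2 fun σ hσ => ?_))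
  obtain ⟨g, hg, he⟩ := parts_mem (hC.parts _ (lie_of_mem_quadratic hσ))
  rwa [SetLike.mem_coe, show σ = g from Units.ext (by simpa [nl] using he.symm)]

theorem normal_member (hG : IsQuadraticPair G) (hC : Dec G C) {K : Subgroup (LinearMap.GeneralLinearGroup k M)}
    (hK : K ∈ C) {x : LinearMap.GeneralLinearGroup k M} (hx : x ∈ G) : conjBy K x = K := by
  refine RankOne.conjBy_eq_self_iff.2 ?_
  rw [← sup_eq hG hC] at hx
  refine (iSup₂_le fun L hL => ?_ : (⨆ L ∈ C, L) ≤ Subgroup.normalizer (K : Set (LinearMap.GeneralLinearGroup k M))) hx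
  rcases eq_or_ne L K with rfl | hne
  · exact Subgroup.le_normalizer
  · exact (Subgroup.commutator_eq_bot_iff_le_centralizer.1 (hC.comm L hL K hK hne)).trans
      (Subgroup.centralizer_le_normalizer _)

/-- The fixators of the range of `p`. -/
def fixer (p : Module.End k M) : Subgroup (LinearMap.GeneralLinearGroup k M) where
  carrier := {x | (x : Module.End k M) * p = p}
  one_mem' := by show (1 : Module.End k M) * p = p; rw [one_mul]
  mul_mem' := fun {x y} (hx : _ = p) (hy : _ = p) => by
    show ((x * y : LinearMap.GeneralLinearGroup k M) : Module.End k M) * p = p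
    rw [Units.val_mul, mul_assoc, hy, hx]
  inv_mem' := fun {x} (hx : (x : Module.End k M) * p = p) => by
    show ((x⁻¹ : LinearMap.GeneralLinearGroup k M) : Module.End k M) * p = p
    conv_lhs => arg 2; rw [← hx]
    rw [Units.inv_mul_cancel_left]

theorem member_eq (hG : IsQuadraticPair G) (hC : Dec G C) {K L : Subgroup (LinearMap.GeneralLinearGroup k M)}
    (hK : K ∈ C) (hL : L ∈ C) {g h : LinearMap.GeneralLinearGroup k M} (hg : g ∈ K) (hh : h ∈ L)
    (hgq : nl g * nl g = 0) (hgh : nl g * nl h = 0) (hg1 : g ≠ 1) (hh1 : h ≠ 1) : K = L := by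
  by_contra hne
  have hcomm : ∀ x ∈ K, (x : Module.End k M) * nl h = nl h * (x : Module.End k M) := fun x hx => by
    have := congrArg Units.val (RankOne.comm_of_commutator_eq_bot (hC.comm K hK L hL hne) hx hh)
    rw [Units.val_mul, Units.val_mul] at this
    rw [nl, mul_sub, sub_mul, this, mul_one, one_mul]
  haveI := (hC.quasi K hK).1
  haveI := (hC.quasi K hK).2
  set N := Subgroup.normalClosure ({⟨g, hg⟩} : Set K)
  have hN : N ≤ (fixer (nl h)).comap K.subtype := by
    refine (Subgroup.closure_le _).2 ?_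
    intro z hz
    obtain ⟨w, hw, hc⟩ := Group.mem_conjugatesOfSet_iff.1 hz
    rw [Set.mem_singleton_iff] at hw
    subst hw
    obtain ⟨y, rfl⟩ := isConj_iff.1 hc
    show ((y.1 * g * y.1⁻¹ : LinearMap.GeneralLinearGroup k M) : Module.End k M) * nl h = nl h
    have hg' : (g : Module.End k M) * nl h = nl h := by
      rw [← sub_eq_zero]
      conv_rhs => rw [← hgh, nl, sub_mul, one_mul]
    rw [Units.val_mul, Units.val_mul, mul_assoc, hcomm _ (inv_mem y.2), ← mul_assoc,
      mul_assoc (y.1 : Module.End k M), hg', hcomm _ y.2, mul_assoc, Units.mul_inv, mul_one]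
  have hcases : N = ⊤ ∨ N ≤ Subgroup.center K := by
    rcases (Subgroup.Normal.map Subgroup.normalClosure_normal (QuotientGroup.mk' (Subgroup.center K))
      (QuotientGroup.mk'_surjective _)).eq_bot_or_eq_top with hb | ht
    · exact Or.inr (by rwa [Subgroup.map_eq_bot_iff, QuotientGroup.ker_mk'] at hb)
    · refine Or.inl ?_
      have h2 : N ⊔ Subgroup.center K = ⊤ := by
        have := congrArg (Subgroup.comap (QuotientGroup.mk' (Subgroup.center K))) ht
        rwa [Subgroup.comap_map_eq, QuotientGroup.ker_mk', Subgroup.comap_top] at this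
      have hperf : commutator K = ⊤ := (hC.quasi K hK).1.1
      rw [eq_top_iff, ← hperf, commutator_def]
      conv_lhs => rw [← h2]
      refine RootSubQuasi.com_le ?_
      rw [Subgroup.commutator_eq_bot_iff_le_centralizer]
      exact fun z hz => Subgroup.mem_centralizer_iff.2 fun w _ => Subgroup.mem_center_iff.1 hz w
  rcases hcases with hNtop | hNc
  · -- the vectors fixed by `K` form an invariant subspace
    let W : Submodule k M :=
      { carrier := {m | ∀ x ∈ K, (x : Module.End k M) m = m}
        zero_mem' := fun x _ => map_zero _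
        add_mem' := fun {u v} hu hv x hx => by rw [map_add, hu x hx, hv x hx]
        smul_mem' := fun c u hu x hx => by rw [map_smul, hu x hx] }
    have hinv : ∀ y ∈ G, ∀ m ∈ W, (y : M →ₗ[k] M) m ∈ W := by
      intro y hy m hm x hx
      have hx' : y⁻¹ * x * y ∈ K := by
        rw [← normal_member hG hC hK hy, RankOne.mem_conjBy] at hx
        exact hx
      have := congrArg (y : Module.End k M) (hm _ hx')
      rwa [← Module.End.mul_apply (y : Module.End k M), ← Units.val_mul,
        show y * (y⁻¹ * x * y) = x * y by group, Units.val_mul, Module.End.mul_apply] at this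
    rcases hG.1.2 W hinv with hb | ht
    · apply hh1
      refine nl_eq_zero.1 (LinearMap.ext fun m => (Submodule.mem_bot k).1 (hb ▸ (show nl h m ∈ W from ?_)))
      intro x hx
      have hx' : (⟨x, hx⟩ : K) ∈ N := hNtop ▸ Subgroup.mem_top _
      exact LinearMap.congr_fun (hN hx') m
    · apply hg1
      exact Units.ext (LinearMap.ext fun m => (ht ▸ Submodule.mem_top : m ∈ W) g hg)
  · -- `g` is central in `G`
    have hcen : ∀ y ∈ G, y * g = g * y := by
      intro y hy
      rw [← sup_eq hG hC] at hy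
      have hle : (⨆ J ∈ C, J) ≤ Subgroup.centralizer ({g} : Set (LinearMap.GeneralLinearGroup k M)) := by
        refine iSup₂_le fun J hJ z hz => Subgroup.mem_centralizer_iff.2 fun w hw => ?_
        rw [Set.mem_singleton_iff.1 hw]
        rcases eq_or_ne J K with rfl | hJK
        · exact (congrArg Subtype.val (Subgroup.mem_center_iff.1
            (hNc (Subgroup.subset_normalClosure rfl)) ⟨z, hz⟩)).symm
        · exact (RankOne.comm_of_commutator_eq_bot (hC.comm J hJ K hK hJK) hz hg).symm
      exact (Subgroup.mem_centralizer_iff.1 (hle hy) g rfl).symm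
    have hp : nl g * nl g * nl g = 0 := by rw [hgq, zero_mul]
    have hu : IsUnipotentOn (Subgroup.zpowers g) := by
      refine QuadPairUnipotent.isUnipotentOn_mono ?_ (QuadPairCentral.unipotent_pair hgq hgq hp hp)
      refine (Subgroup.zpowers_le).2 (Subgroup.mem_sup_left (Subgroup.subset_closure ⟨1, ?_⟩))
      rw [one_smul, nl, add_sub_cancel]
    apply hg1
    have hbot := QuadPairNoUni.of_irreducible hG.1 _ (Subgroup.zpowers_le.2 (hC.le K hK hg))
      (fun y hy => by
        rw [conjBy, MonoidHom.map_zpowers]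
        show Subgroup.zpowers (y * g * y⁻¹) = _
        rw [hcen y hy, mul_inv_cancel_right]) hu
    exact Subgroup.mem_bot.1 (hbot ▸ Subgroup.mem_zpowers g)

theorem single (hG : IsQuadraticPair G) (hC : Dec G C) {q : Module.End k M} (h : Parts C q) :
    q = 0 ∨ ∃ K ∈ C, ∃ g ∈ K, nl g = q := by
  induction h with
  | zero => exact Or.inl rfl
  | @cons K g q hK hg hgs _ h1 _ _ ih =>
    rcases eq_or_ne g 1 with rfl | hg1
    · rwa [nl_eq_zero.2 rfl, zero_add]
    refine Or.inr ?_
    rcases ih with rfl | ⟨L, hL, x, hx, rfl⟩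
    · exact ⟨K, hK, g, hg, (add_zero _).symm⟩
    rcases eq_or_ne x 1 with rfl | hx1
    · exact ⟨K, hK, g, hg, by rw [nl_eq_zero.2 rfl, add_zero]⟩
    obtain rfl := member_eq hG hC hK hL hg hx hgs h1 hg1 hx1
    refine ⟨K, hK, g * x, mul_mem hg hx, ?_⟩
    have e : nl (g * x) = nl g + nl x + nl g * nl x := by simp only [nl, Units.val_mul]; noncomm_ring
    rw [e, h1, add_zero]

end Top

end Cfsg.Agent.QuadPairProduct
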