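import Mathlib
import Cfsg.Agent.Lib.QuadPairDualOrbit20
import Cfsg.Agent.Lib.QuadPairProduct
import Cfsg.Agent.Lib.JordanDivisionFiniteMain
import Cfsg.Agent.Lib.CoprimeAction

/-!
A group of odd order acting coprimely on a group generated by minimal square-zero parts fixes a
dual pair in a suitable class, and so centralizes an image of `SL(2, p)`.
-/

set_option autoImplicit false
set_option linter.unusedSectionVars false

namespace Cfsg.Agent.QuadPairCoprimeFixed20

open Cfsg Cfsg.Agent.QuadPairTheory Cfsg.Agent.QuadPairDualOrbit20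
open scoped MatrixGroups

variable {k : Type*} [Field k] {M : Type*} [AddCommGroup M] [Module k M] [FiniteDimensional k M]
  {G : Subgroup (LinearMap.GeneralLinearGroup k M)}

local notation "Aut" => LinearMap.GeneralLinearGroup k M

theorem lie_cj {x : Aut} (hx : x ∈ Subgroup.normalizer (G : Set Aut)) {n : Module.End k M}
    (h : n ∈ Lie G) : cj x n ∈ Lie G := by
  refine ⟨by rw [← cj_mul, h.1, cj_zero], fun c => ?_⟩
  obtain ⟨g, hg, he⟩ := h.2 c
  exact ⟨x * g * x⁻¹, (Subgroup.mem_normalizer_iff.1 hx g).1 hg,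
    by rw [← cj_coe, he, cj_add, cj_one, cj_smul]⟩

theorem isMin_cj {x : Aut} (hx : x ∈ Subgroup.normalizer (G : Set Aut)) {n : Module.End k M}
    (h : IsMin G n) : IsMin G (cj x n) :=
  h.of_rk_le (lie_cj hx h.1) (fun h0 => h.2.1 (by rw [← cj_inv_cancel x n, h0, cj_zero]))
    (rk_cj x n).le

theorem cls_cj {x : Aut} (hx : x ∈ Subgroup.normalizer (G : Set Aut)) {n m : Module.End k M}
    {hn : n * n = 0} {hn' : cj x n * cj x n = 0} (hm : m ∈ cls G hn) : cj x m ∈ cls G hn' := by
  refine ⟨lie_cj hx hm.1, ?_, ?_⟩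
  · rw [range_cj, range_cj]; exact Submodule.map_mono hm.2.1
  · rw [ker_cj, ker_cj]; exact Submodule.comap_mono hm.2.2

theorem conjBy_E' {x : Aut} (hx : x ∈ Subgroup.normalizer (G : Set Aut)) {n : Module.End k M}
    (hn : n * n = 0) (hn' : cj x n * cj x n = 0) : conjBy (E G hn) x = E G hn' := by
  have key : ∀ (y : Aut), y ∈ Subgroup.normalizer (G : Set Aut) → ∀ (q : Module.End k M)
      (hq : q * q = 0) (hq' : cj y q * cj y q = 0) (g : Aut), g ∈ E G hq →
      y * g * y⁻¹ ∈ E G hq' := by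
    intro y hy q hq hq' g hg
    have e : nl (y * g * y⁻¹) = cj y (nl g) := by rw [nl, ← cj_coe, nl, cj_sub, cj_one]
    rw [mem_E, e]
    exact cls_cj hy (mem_E.1 hg)
  apply le_antisymm
  · rintro _ ⟨g, hg, rfl⟩
    exact key x hx n hn hn' g hg
  · intro g hg
    have := key x⁻¹ (inv_mem hx) (cj x n) hn' (by rw [cj_inv_cancel]; exact hn) g hg
    rw [RankOne.mem_conjBy]
    simpa [cj_inv_cancel] using this

theorem cls_congr {n n' m : Module.End k M} (hn : IsMin G n) (h' : n' ∈ cls G hn.1.1) (h0 : n' ≠ 0) :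
    m ∈ cls G h'.1.1 ↔ m ∈ cls G hn.1.1 := by
  obtain ⟨-, hr, hk⟩ := cls_spaces hn h' h0
  show (_ ∧ _ ∧ _) ↔ (_ ∧ _ ∧ _)
  rw [hr, hk]

/-- Conjugation as an action on endomorphisms. -/
@[reducible] def cjAction : MulAction Aut (Module.End k M) where
  smul x n := cj x n
  one_smul n := by show cj 1 n = n; simp [cj]
  mul_smul x y n := (cj_comp x y n).symm

/-- Conjugation as an action on subgroups. -/
@[reducible] def conjAction : MulAction Aut (Subgroup Aut) where
  smul x H := conjBy H x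
  one_smul H := RankOne.conjBy_one H
  mul_smul x y H := (RankOne.conjBy_mul H x y).symm

section field

variable {a b : Module.End k M}

/-- `m ↦ b m` on the range of `b`. -/
def toRange (b : Module.End k M) : Module.End k M →+ Module.End k (LinearMap.range b) :=
  AddMonoidHom.mk' (fun m => b.rangeRestrict.comp (m.comp (LinearMap.range b).subtype)) fun m m' =>
    LinearMap.ext fun y => Subtype.ext (by simp)

theorem toRange_mul (b m m' : Module.End k M) :
    toRange b m * toRange b m' = toRange b (m * b * m') := rfl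

theorem dual_in_cls (hk2 : (2 : k) ≠ 0) (hk3 : Nat.card k ≠ 3) (h : Dual a b) (ha : IsMin G a)
    (hb : IsMin G b) {m : Module.End k M} (hm : m ∈ cls G ha.1.1) (h0 : m ≠ 0) :
    ∃ b' : Module.End k M, IsMin G m ∧ IsMin G b' ∧ Dual m b' ∧ b' ∈ cls G hb.1.1 ∧ b' ≠ 0 := by
  have hmm := (cls_spaces ha hm h0).1
  obtain ⟨b', hb', hb0, hd⟩ := exists_dual hk2 hk3 hmm hb
    (opp_of_cls ha hb h.opp hm h0 (self_mem_cls hb.1) hb.2.1)
  exact ⟨b', hmm, (cls_spaces hb hb' hb0).1, hd, hb', hb0⟩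

theorem sandwich_cls (hk2 : (2 : k) ≠ 0) (hk3 : Nat.card k ≠ 3) (h : Dual a b) (ha : IsMin G a)
    (hb : IsMin G b) {m n : Module.End k M} (hm : m ∈ cls G ha.1.1) (hn : n ∈ cls G hb.1.1) :
    m * n * m ∈ cls G ha.1.1 := by
  rcases eq_or_ne m 0 with rfl | h0
  · rw [zero_mul, zero_mul]; exact zero_mem _
  obtain ⟨b', hmm, hbm, hd, hb', hb0⟩ := dual_in_cls hk2 hk3 h ha hb hm h0
  exact (cls_congr ha hm h0).1 (sandwich_mem hd hmm hbm ((cls_congr hb hb' hb0).2 hn))

theorem toRange_inj (h : Dual a b) (ha : IsMin G a) (hb : IsMin G b) {m : Module.End k M}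
    (hm : m ∈ cls G ha.1.1) (h0 : m ≠ 0) : Function.Injective (toRange b m) := by
  obtain ⟨o1, o2⟩ := opp_of_cls ha hb h.opp hm h0 (self_mem_cls hb.1) hb.2.1
  rw [injective_iff_map_eq_zero]
  intro y hy
  have h1 : b (m (y : M)) = 0 := congrArg Subtype.val hy
  have h2 : m (y : M) = 0 := (Submodule.mem_bot k).1 (o1 ▸ ⟨⟨_, rfl⟩, LinearMap.mem_ker.2 h1⟩)
  exact Subtype.ext ((Submodule.mem_bot k).1 (o2 ▸ ⟨y.2, LinearMap.mem_ker.2 h2⟩))

/-- The sandwich map `m ↦ m b m` is at most two to one on a class. -/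
theorem sandwich_fibre [Finite M] (hk2 : (2 : k) ≠ 0) (hk3 : Nat.card k ≠ 3) (h : Dual a b)
    (ha : IsMin G a) (hb : IsMin G b) {m m' : Module.End k M} (hm : m ∈ cls G ha.1.1)
    (hm' : m' ∈ cls G ha.1.1) (he : m * b * m = m' * b * m') : m = m' ∨ m = -m' := by
  haveI : Finite (Module.End k (LinearMap.range b)) :=
    Finite.of_injective _ DFunLike.coe_injective
  set J : AddSubgroup (Module.End k (LinearMap.range b)) :=
    (cls G ha.1.1).toAddSubgroup.map (toRange b) with hJdef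
  have hJ : JordanDivisionFinite.JDiv J := by
    refine ⟨⟨a, self_mem_cls ha.1, LinearMap.ext fun y => Subtype.ext ?_⟩, ?_, ?_⟩
    · obtain ⟨z, hz⟩ := y.2
      show b (a (y : M)) = (y : M)
      rw [← hz]
      exact LinearMap.congr_fun h.bab z
    · rintro _ ⟨u, hu, rfl⟩ _ ⟨v, hv, rfl⟩
      refine ⟨u * b * v * b * u, ?_, ?_⟩
      · have hv' : b * v * b ∈ cls G hb.1.1 :=
          sandwich_cls hk2 hk3 h.symm hb ha (self_mem_cls hb.1) hv
        have := sandwich_cls hk2 hk3 h ha hb hu hv'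
        rwa [show u * (b * v * b) * u = u * b * v * b * u by noncomm_ring] at this
      · rw [toRange_mul, toRange_mul]
    · rintro _ ⟨u, hu, rfl⟩ hne
      have hu0 : u ≠ 0 := fun e => hne (by rw [e, map_zero])
      have hinj := toRange_inj h ha hb hu hu0
      exact (Module.End.isUnit_iff _).2 ⟨hinj, LinearMap.surjective_of_injective hinj⟩
  obtain ⟨-, -, hc⟩ := JordanDivisionFinite.JDiv.field hJ
  set T := toRange b m with hT
  set T' := toRange b m' with hT'
  have hTJ : T ∈ J := ⟨m, hm, rfl⟩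
  have hTJ' : T' ∈ J := ⟨m', hm', rfl⟩
  have hsq : T * T = T' * T' := by rw [toRange_mul, toRange_mul, he]
  have hz : (T - T') * (T + T') = 0 := by
    rw [sub_mul, mul_add, mul_add, hc T' hTJ' T hTJ, ← hsq]; abel
  have hzero : ∀ u ∈ cls G ha.1.1, toRange b u = 0 → u = 0 := by
    intro u hu h0
    by_contra hu0
    obtain ⟨y, hy⟩ : ∃ y : LinearMap.range b, y ≠ 0 := by
      obtain ⟨x, hx⟩ : ∃ x, b x ≠ 0 := by
        by_contra hall
        push Not at hall
        exact hb.2.1 (LinearMap.ext hall)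
      exact ⟨⟨b x, x, rfl⟩, fun e => hx (congrArg Subtype.val e)⟩
    exact hy (toRange_inj h ha hb hu hu0 (by rw [h0]; rfl))
  rcases eq_or_ne (m - m') 0 with h1 | h1
  · exact Or.inl (sub_eq_zero.1 h1)
  refine Or.inr (eq_neg_of_add_eq_zero_left (hzero _ (add_mem hm hm') ?_))
  have hu : IsUnit (T - T') := hJ.unit _ (sub_mem hTJ hTJ') fun e =>
    h1 (hzero _ (sub_mem hm hm') (by rw [map_sub]; exact e))
  rw [map_add]
  exact hu.mul_right_eq_zero.1 hz

end field

section fixed

variable [Finite M] {a b : Module.End k M}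

open Classical in
/-- Each orbit of the stabilizer of a root group covers at least half of it. -/
theorem half_le_orbit [Fintype (Module.End k M)] (hk2 : (2 : k) ≠ 0) (hk3 : Nat.card k ≠ 3)
    (h : Dual a b) (ha : IsMin G a) (hb : IsMin G b) :
    (Finset.univ.filter fun m => m ∈ cls G ha.1.1 ∧ m ≠ 0).card ≤
      2 * (Finset.univ.filter fun m => ∃ g ∈ G, g ∈ Subgroup.normalizer (E G ha.1.1 : Set Aut) ∧
        cj g a = m).card := by
  set s := Finset.univ.filter fun m => m ∈ cls G ha.1.1 ∧ m ≠ 0 with hs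
  refine le_trans (Finset.card_le_mul_card_image (f := fun m => m * b * m) s 2 fun z hz => ?_)
    (Nat.mul_le_mul_left 2 (Finset.card_le_card ?_))
  · obtain ⟨m, hm, rfl⟩ := Finset.mem_image.1 hz
    refine le_trans (Finset.card_le_card (t := {m, -m}) fun u hu => ?_) Finset.card_le_two
    rw [Finset.mem_filter] at hu
    have hum := (Finset.mem_filter.1 hu.1).2
    rcases sandwich_fibre hk2 hk3 h ha hb hum.1 (Finset.mem_filter.1 hm).2.1 hu.2 with e | e
    · exact Finset.mem_insert.2 (Or.inl e)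
    · exact Finset.mem_insert.2 (Or.inr (Finset.mem_singleton.2 e))
  · intro z hz
    obtain ⟨m, hm, rfl⟩ := Finset.mem_image.1 hz
    obtain ⟨hmc, hm0⟩ := (Finset.mem_filter.1 hm).2
    obtain ⟨b', hmm, hbm, hd, hb', hb0⟩ := dual_in_cls hk2 hk3 h ha hb hmc hm0
    have hbb' : b ∈ cls G hbm.1.1 := (cls_congr hb hb' hb0).2 (self_mem_cls hb.1)
    set g := weyl hd * weyl h.symm with hg
    have hgG : g ∈ G := mul_mem (weyl_mem hd hmm.1 hbm.1) (weyl_mem h.symm hb.1 ha.1)
    have hga : cj g a = m * b * m := by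
      have e1 : cj (weyl h.symm) a = -b := by
        rw [cj_weyl h.symm (self_mem_cls ha.1), h.bab]
      rw [hg, ← cj_comp, e1, cj_weyl hd (neg_mem hbb')]
      noncomm_ring
    refine Finset.mem_filter.2 ⟨Finset.mem_univ _, g, hgG, ?_, hga⟩
    rw [← RankOne.conjBy_eq_self_iff]
    have hc : m * b * m ∈ cls G ha.1.1 := sandwich_cls hk2 hk3 h ha hb hmc (self_mem_cls hb.1)
    have hne : m * b * m ≠ 0 := fun e => (ha.conj hgG).2.1 (hga.trans e)
    rw [conjBy_E ha.1.1 hgG (ha.conj hgG).1.1]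
    refine E_congr _ _ ?_ ?_
    · rw [hga]; exact (cls_spaces ha hc hne).2.1
    · rw [hga]; exact (cls_spaces ha hc hne).2.2

theorem pow_two_orbits {S : Type*} (R : S → S → Prop) (hR : Equivalence R) (f : S → S)
    (hf : ∀ x y, R (f x) (f y) → R x y) (hf' : ∀ x y, R x y → R (f x) (f y)) {a : S}
    (hcov : ∀ i, R a (f^[i] a) ∨ R (f a) (f^[i] a)) {n : ℕ} (hn : f^[2 * n + 1] a = a) :
    R a (f a) := by
  by_contra hne
  have key : ∀ i, R a (f^[2 * i] a) := by
    intro i
    induction i with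
    | zero => exact hR.refl a
    | succ i ih =>
      have h1 : R (f a) (f^[2 * i + 1] a) := by
        rw [Function.iterate_succ_apply']; exact hf' _ _ ih
      rcases hcov (2 * (i + 1)) with h2 | h2
      · exact h2
      · rw [show 2 * (i + 1) = 2 * i + 1 + 1 by ring, Function.iterate_succ_apply'] at h2
        exact absurd (hR.trans (hf _ _ h2) (hR.symm (h1))) (fun h => hne h)
  have := hf' _ _ (key n)
  rw [← Function.iterate_succ_apply' f, hn] at this
  exact hne (hR.symm this)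

/-- An odd group fixing a root group fixes one of its non-zero elements up to conjugation. -/
theorem exists_fixed_elem (hk2 : (2 : k) ≠ 0) (hk3 : Nat.card k ≠ 3) (ha : IsMin G a)
    (hex : ∀ m : Module.End k M, IsMin G m → ∃ c, IsMin G c ∧ Dual m c)
    {B : Subgroup Aut} (hBG : B ≤ Subgroup.normalizer (G : Set Aut))
    (hcop : (Nat.card B).Coprime (Nat.card G)) (hodd : ∀ x ∈ B, Odd (orderOf x))
    (hsolv : Group.IsSolvable B) (hfix : ∀ x ∈ B, conjBy (E G ha.1.1) x = E G ha.1.1) :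
    ∃ m ∈ cls G ha.1.1, m ≠ 0 ∧ ∀ x ∈ B, cj x m = m := by
  classical
  haveI : Finite (Module.End k M) := Finite.of_injective _ DFunLike.coe_injective
  haveI : Finite Aut := inferInstanceAs (Finite (Module.End k M)ˣ)
  letI : Fintype (Module.End k M) := Fintype.ofFinite _
  set N := G ⊓ Subgroup.normalizer (E G ha.1.1 : Set Aut) with hN
  have hNG : N ≤ G := inf_le_left
  have hBN : B ≤ Subgroup.normalizer (N : Set Aut) := by
    refine CoprimeAction.le_normalizer_inf hBG (le_trans (fun x hx => ?_) Subgroup.le_normalizer)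
    exact RankOne.conjBy_eq_self_iff.1 (hfix x hx)
  letI := cjAction (k := k) (M := M)
  -- membership of the class under `B` and `N`
  have hmemB : ∀ x ∈ B, ∀ m ∈ cls G ha.1.1, cj x m ∈ cls G ha.1.1 := by
    intro x hx m hm
    have h1 : unitOf m hm.1.1 ∈ E G ha.1.1 := unitOf_mem_E hm
    have h2 : x * unitOf m hm.1.1 * x⁻¹ ∈ E G ha.1.1 := by
      rw [← hfix x hx]; exact ⟨_, h1, rfl⟩
    have := mem_E.1 h2
    rwa [nl, ← cj_coe, unitOf_coe, cj_add, cj_one, add_sub_cancel_left] at this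
  have hmemN : ∀ x ∈ N, ∀ m ∈ cls G ha.1.1, cj x m ∈ cls G ha.1.1 := by
    intro x hx m hm
    have h2 : x * unitOf m hm.1.1 * x⁻¹ ∈ E G ha.1.1 := by
      rw [← RankOne.conjBy_eq_self_iff.2 hx.2]; exact ⟨_, unitOf_mem_E hm, rfl⟩
    have := mem_E.1 h2
    rwa [nl, ← cj_coe, unitOf_coe, cj_add, cj_one, add_sub_cancel_left] at this
  have hne0 : ∀ (x : Aut) {m : Module.End k M}, m ≠ 0 → cj x m ≠ 0 := fun x m hm e =>
    hm (by rw [← cj_inv_cancel x m, e, cj_zero])
  set Ω := Finset.univ.filter fun m => m ∈ cls G ha.1.1 ∧ m ≠ 0 with hΩ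
  let O : Module.End k M → Finset (Module.End k M) := fun m =>
    Finset.univ.filter fun z => ∃ g ∈ N, cj g m = z
  have hhalf : ∀ m ∈ Ω, Ω.card ≤ 2 * (O m).card := by
    intro m hm
    obtain ⟨hmc, hm0⟩ := (Finset.mem_filter.1 hm).2
    have hmm := (cls_spaces ha hmc hm0).1
    obtain ⟨c, hc, hd⟩ := hex m hmm
    have := half_le_orbit hk2 hk3 hd hmm hc
    convert this using 2
    · apply Finset.filter_congr
      intro z _
      rw [cls_congr ha hmc hm0]
    · congr 1
      apply Finset.filter_congr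
      intro z _
      simp only [hN, Subgroup.mem_inf, and_assoc, E_eq_of_mem ha hmc hm0]
  let R : Module.End k M → Module.End k M → Prop := fun u v => ∃ g ∈ N, cj g u = v
  have hR : Equivalence R := ⟨fun u => ⟨1, one_mem N, by simp [cj]⟩,
    fun {u v} ⟨g, hg, e⟩ => ⟨g⁻¹, inv_mem hg, by rw [← e, cj_inv_cancel]⟩,
    fun {u v w} ⟨g, hg, e⟩ ⟨g', hg', e'⟩ => ⟨g' * g, mul_mem hg' hg, by rw [← cj_comp, e, e']⟩⟩
  have haΩ : a ∈ Ω := Finset.mem_filter.2 ⟨Finset.mem_univ _, self_mem_cls ha.1, ha.2.1⟩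
  have hfix' : ∀ x ∈ B, ∃ g ∈ N, cj g a = cj x a := by
    intro x hx
    have hxΩ : ∀ m ∈ Ω, cj x m ∈ Ω := fun m hm => Finset.mem_filter.2 ⟨Finset.mem_univ _,
      hmemB x hx m (Finset.mem_filter.1 hm).2.1, hne0 x (Finset.mem_filter.1 hm).2.2⟩
    have hiter : ∀ i, (cj x)^[i] a ∈ Ω := by
      intro i
      induction i with
      | zero => exact haΩ
      | succ i ih => rw [Function.iterate_succ_apply']; exact hxΩ _ ih
    have hpow : ∀ i, (cj x)^[i] a = cj (x ^ i) a := by
      intro i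
      induction i with
      | zero => simp [cj]
      | succ i ih => rw [Function.iterate_succ_apply', ih, cj_comp, ← pow_succ']
    obtain ⟨n, hn⟩ := hodd x hx
    by_contra hno
    refine hno (pow_two_orbits R hR (cj x) ?_ ?_ (a := a) (n := n) (fun i => ?_) ?_)
    · rintro u v ⟨g, hg, e⟩
      refine ⟨x⁻¹ * g * x, ?_, ?_⟩
      · exact CoprimeAction.conj_mem' (hBN hx) hg
      · rw [← cj_comp, ← cj_comp, e, cj_inv_cancel]
    · rintro u v ⟨g, hg, e⟩
      refine ⟨x * g * x⁻¹, CoprimeAction.conj_mem (hBN hx) hg, ?_⟩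
      rw [← cj_comp, ← cj_comp, cj_inv_cancel, e]
    · -- the two orbits fill the class
      have hdis : Disjoint (O a) (O (cj x a)) := Finset.disjoint_left.2 fun z h1 h2 => hno
        (hR.trans (Finset.mem_filter.1 h1).2 (hR.symm (Finset.mem_filter.1 h2).2))
      have hsub : O a ∪ O (cj x a) ⊆ Ω := by
        intro z hz
        rw [Finset.mem_union] at hz
        rcases hz with hz | hz <;> obtain ⟨g, hg, rfl⟩ := (Finset.mem_filter.1 hz).2
        · exact Finset.mem_filter.2 ⟨Finset.mem_univ _, hmemN g hg a (self_mem_cls ha.1),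
            hne0 g ha.2.1⟩
        · exact Finset.mem_filter.2 ⟨Finset.mem_univ _,
            hmemN g hg _ (hmemB x hx a (self_mem_cls ha.1)), hne0 g (hne0 x ha.2.1)⟩
      have heq : O a ∪ O (cj x a) = Ω := Finset.eq_of_subset_of_card_le hsub (by
        rw [Finset.card_union_of_disjoint hdis]
        have := hhalf a haΩ
        have := hhalf _ (hxΩ a haΩ)
        omega)
      rcases Finset.mem_union.1 (heq ▸ hiter i) with h1 | h1
      · exact Or.inl (Finset.mem_filter.1 h1).2
      · exact Or.inr (Finset.mem_filter.1 h1).2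
    · rw [hpow, ← hn, pow_orderOf_eq_one]; simp [cj]
  obtain ⟨g, hg, hgfix⟩ := CoprimeAction.exists_fixed_point (Ω := Module.End k M) hBN
    (CoprimeAction.coprime_of_le_right hNG hcop) (Or.inl hsolv) a hfix'
  exact ⟨cj g a, hmemN g hg a (self_mem_cls ha.1), hne0 g ha.2.1, hgfix⟩

end fixed

/-- **The coprime fixed point theorem for quadratic elements, linear form.** -/
theorem exists_hom {p : ℕ} [Fact p.Prime] (hp : 5 ≤ p) {V : Type*} [AddCommGroup V]
    [Module (ZMod p) V] [Finite V]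
    (X A : Subgroup (LinearMap.GeneralLinearGroup (ZMod p) V))
    (hred : QuadPairUnipotent.Reduced X)
    (hAX : A ≤ Subgroup.normalizer (X : Set (LinearMap.GeneralLinearGroup (ZMod p) V)))
    (hcop : (Nat.card A).Coprime (Nat.card X)) (hodd : ∀ x ∈ A, Odd (orderOf x))
    (hsolv : Group.IsSolvable A) {x : LinearMap.GeneralLinearGroup (ZMod p) V} (hxX : x ∈ X)
    (hxq : nl x * nl x = 0) (hx1 : x ≠ 1) :
    ∃ ψ : SL(2, ZMod p) →* LinearMap.GeneralLinearGroup (ZMod p) V,
      (∀ g, ψ g ∈ X ⊓ Subgroup.centralizer (A : Set (LinearMap.GeneralLinearGroup (ZMod p) V))) ∧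
      ψ.ker ≤ Subgroup.center SL(2, ZMod p) := by
  classical
  haveI : Module.Finite (ZMod p) V := Module.Finite.of_finite
  haveI : Finite (Module.End (ZMod p) V) := Finite.of_injective _ DFunLike.coe_injective
  haveI : Finite (LinearMap.GeneralLinearGroup (ZMod p) V) :=
    inferInstanceAs (Finite (Module.End (ZMod p) V)ˣ)
  have hk2 : (2 : ZMod p) ≠ 0 := fun h => by
    have h' : ((2 : ℕ) : ZMod p) = 0 := by simpa using h
    rw [ZMod.natCast_eq_zero_iff] at h'
    have := Nat.le_of_dvd two_pos h'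
    omega
  have hk3 : Nat.card (ZMod p) ≠ 3 := by rw [Nat.card_zmod]; omega
  have hH : QuadPairComponents.Hyp X := ⟨hk2, hk3, hred⟩
  -- a minimal part
  have hlie : nl x ∈ Lie X := by
    refine ⟨hxq, fun c => ⟨x ^ c.val, pow_mem hxX _, ?_⟩⟩
    have hpow : ∀ i : ℕ, ((x ^ i : LinearMap.GeneralLinearGroup (ZMod p) V) :
        Module.End (ZMod p) V) = 1 + (i : ZMod p) • nl x := by
      intro i
      induction i with
      | zero => simp
      | succ i ih =>
        rw [pow_succ, Units.val_mul, ih, show (x : Module.End (ZMod p) V) = nl x + 1 by simp [nl],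
          Nat.cast_succ, add_smul, one_smul]
        simp only [add_mul, mul_add, one_mul, mul_one, smul_mul_assoc, add_sub_cancel_right, nl]
        rw [show ((x : Module.End (ZMod p) V) - 1) * ((x : Module.End (ZMod p) V) - 1) = 0 from hxq,
          smul_zero]
        abel
    rw [hpow, ZMod.natCast_zmod_val]
  obtain ⟨a₀, ha₀⟩ := QuadPairProduct.exists_min hlie (fun e => hx1 (nl_eq_zero.1 e))
  have hex : ∀ m : Module.End (ZMod p) V, IsMin X m → ∃ c, IsMin X c ∧ Dual m c := by
    intro m hm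
    obtain ⟨b₀, hb₀, ho⟩ := QuadPairUnipotent.exists_opp hk2 hk3 hred hm
    obtain ⟨c, hc, hc0, hd⟩ := exists_dual hk2 hk3 hm hb₀ ho
    exact ⟨c, (cls_spaces hb₀ hc hc0).1, hd⟩
  -- the stabilizer of the class of a root group
  let B : Subgroup (LinearMap.GeneralLinearGroup (ZMod p) V) :=
    { carrier := {α | α ∈ A ∧ ∃ y ∈ X, conjBy (E X ha₀.1.1) α = conjBy (E X ha₀.1.1) y}
      one_mem' := ⟨one_mem A, 1, one_mem X, rfl⟩
      mul_mem' := fun {α β} ⟨hα, y, hy, e⟩ ⟨hβ, y', hy', e'⟩ => ⟨mul_mem hα hβ, α * y' * α⁻¹ * y,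
        mul_mem ((Subgroup.mem_normalizer_iff.1 (hAX hα) y').1 hy') hy, by
          rw [← RankOne.conjBy_mul, e', RankOne.conjBy_mul, ← RankOne.conjBy_mul _ (α * y' * α⁻¹) y,
            ← e, RankOne.conjBy_mul, inv_mul_cancel_right]⟩
      inv_mem' := fun {α} ⟨hα, y, hy, e⟩ => ⟨inv_mem hα, α⁻¹ * y⁻¹ * α,
        CoprimeAction.conj_mem' (hAX hα) (inv_mem hy), by
          rw [← RankOne.conjBy_mul _ (α⁻¹ * y⁻¹) α, e, RankOne.conjBy_mul, inv_mul_cancel_right]⟩ }
  have hBA : B ≤ A := fun α h => h.1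
  have hBX : B ≤ Subgroup.normalizer (X : Set (LinearMap.GeneralLinearGroup (ZMod p) V)) :=
    hBA.trans hAX
  have hBcop : (Nat.card B).Coprime (Nat.card X) := CoprimeAction.coprime_of_le_left hBA hcop
  have hBodd : ∀ α ∈ B, Odd (orderOf α) := fun α h => hodd α (hBA h)
  haveI := hsolv
  have hBsolv : Group.IsSolvable B := CoprimeAction.isSolvable_of_le hBA
  obtain ⟨y₀, hy₀, hyfix⟩ : ∃ y ∈ X, ∀ α ∈ B,
      conjBy (conjBy (E X ha₀.1.1) y) α = conjBy (E X ha₀.1.1) y := by
    letI := conjAction (k := ZMod p) (M := V)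
    exact CoprimeAction.exists_fixed_point
      (Ω := Subgroup (LinearMap.GeneralLinearGroup (ZMod p) V)) hBX hBcop (Or.inl hBsolv)
      (E X ha₀.1.1) fun α ⟨_, y, hy, e⟩ => ⟨y, hy, e.symm⟩
  have ha₁ : IsMin X (cj y₀ a₀) := ha₀.conj hy₀
  rw [conjBy_E _ hy₀ ha₁.1.1] at hyfix
  obtain ⟨a, hac, ha0, hafix⟩ := exists_fixed_elem hk2 hk3 ha₁ hex hBX hBcop hBodd hBsolv hyfix
  have ha : IsMin X a := (cls_spaces ha₁ hac ha0).1
  have hEa : E X ha.1.1 = conjBy (E X ha₀.1.1) y₀ := by
    rw [conjBy_E _ hy₀ ha₁.1.1]; exact E_eq_of_mem ha₁ hac ha0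
  -- a fixed dual
  obtain ⟨b₁, hb₁, hd₁⟩ := hex a ha
  have hp3 : 3 ≤ p := by omega
  obtain ⟨b, hb, hd, hbfix⟩ : ∃ b, IsMin X b ∧ Dual a b ∧ ∀ α ∈ B, cj α b = b := by
    have hF : B ≤ Subgroup.normalizer
        (flagFix X a : Set (LinearMap.GeneralLinearGroup (ZMod p) V)) := by
      refine CoprimeAction.le_normalizer_of_conj_mem fun α hα g hg => ?_
      have e : nl (α * g * α⁻¹) = cj α (nl g) := by rw [nl, ← cj_coe, nl, cj_sub, cj_one]
      obtain ⟨g0, g1, g2, g3⟩ := hg
      refine ⟨(Subgroup.mem_normalizer_iff.1 (hBX hα) g).1 g0, ?_, ?_, fun v hv => ?_⟩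
      · rw [e, ← hafix α hα, ← cj_mul, g1, cj_zero]
      · rw [e, ← hafix α hα, ← cj_mul, g2, cj_zero]
      · rw [← hafix α hα] at hv ⊢
        rw [ker_cj] at hv
        rw [e, range_cj]
        exact ⟨_, g3 _ hv, rfl⟩
    letI := cjAction (k := ZMod p) (M := V)
    obtain ⟨g, hg, hfix⟩ := CoprimeAction.exists_fixed_point
      (Ω := Module.End (ZMod p) V) (A := B) (K := flagFix X a) hF
      (CoprimeAction.coprime_of_le_right flagFix_le hBcop)
      (Or.inl hBsolv) b₁ (fun α hα => dual_conj hp3 hk2 hk3 hd₁ (hafix α hα ▸ dual_cj hd₁ α) ha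
        hb₁ (isMin_cj (hBX hα) hb₁))
    exact ⟨cj g b₁, hb₁.conj (flagFix_le hg), flagFix_fix hg ▸ dual_cj hd₁ g, hfix⟩
  -- the class
  let cl : Set (Subgroup (LinearMap.GeneralLinearGroup (ZMod p) V)) :=
    {R | ∃ y ∈ X, R = conjBy (E X ha₀.1.1) y}
  have hclroot : ∀ R ∈ cl, R ∈ quadraticRootSubgroups X := by
    rintro _ ⟨y, hy, rfl⟩
    exact QuadPairComponents.conj_root (mem_roots.2 ⟨a₀, ha₀, rfl⟩) hy
  have hEb : E X hb.1.1 ∈ cl := by
    obtain ⟨y, hy, he⟩ := RankOne.right_mem_unipotents (isRankOnePair ha hb hk2 hk3 hd.opp)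
    refine ⟨y * y₀, mul_mem (sup_le (E_le _) (E_le _) hy) hy₀, ?_⟩
    rw [← RankOne.conjBy_mul, ← hEa]; exact he
  set H := E X ha.1.1 ⊔ E X hb.1.1 with hH'
  have hφH : ∀ g : SL(2, ZMod p), rep hd g ∈ H := fun g => by
    have hmemLie : ∀ {n : Module.End (ZMod p) V} (hn : IsMin X n), E X hn.1.1 ≤ H → n ∈ Lie H :=
      fun {n} hn hle => ⟨hn.1.1, fun c => ⟨_, hle (unitOf_mem_E
        (Submodule.smul_mem _ c (self_mem_cls hn.1))), rfl⟩⟩
    exact rep_mem hd (hmemLie ha le_sup_left) (hmemLie hb le_sup_right) g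
  -- conjugates of the class by different cosets commute
  have hcomm : ∀ α ∈ A, ∀ β ∈ A, α⁻¹ * β ∉ B → ∀ R ∈ cl, ∀ R' ∈ cl,
      ⁅conjBy R α, conjBy R' β⁆ = ⊥ := by
    rintro α hα β hβ hαβ _ ⟨y, hy, rfl⟩ _ ⟨y', hy', rfl⟩
    have hroot : ∀ (γ : LinearMap.GeneralLinearGroup (ZMod p) V), γ ∈ A → ∀ z ∈ X,
        conjBy (conjBy (E X ha₀.1.1) z) γ ∈ quadraticRootSubgroups X := by
      intro γ hγ z hz
      rw [conjBy_E _ hz (ha₀.conj hz).1.1,
        conjBy_E' (hAX hγ) _ (isMin_cj (hAX hγ) (ha₀.conj hz)).1.1]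
      exact mem_roots.2 ⟨_, isMin_cj (hAX hγ) (ha₀.conj hz), rfl⟩
    refine QuadPairComponents.commute_of_no_path' hH (hroot α hα y hy) (hroot β hβ y' hy')
      fun hpath => hαβ ?_
    have hconj : ∀ {P Q : Subgroup (LinearMap.GeneralLinearGroup (ZMod p) V)},
        Relation.ReflTransGen (FAdj (quadraticRootSubgroups X)) P Q → ∃ z ∈ X, Q = conjBy P z := by
      intro P Q hPQ
      induction hPQ with
      | refl => exact ⟨1, one_mem X, (RankOne.conjBy_one _).symm⟩
      | tail _ hadj ih =>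
        obtain ⟨z, hz, rfl⟩ := ih
        obtain ⟨z', hz', he⟩ := RankOne.right_mem_unipotents hadj.2.2
        have hle : ∀ {P : Subgroup (LinearMap.GeneralLinearGroup (ZMod p) V)},
            P ∈ quadraticRootSubgroups X → P ≤ X := by
          intro P hP
          obtain ⟨n, hn, rfl⟩ := mem_roots.1 hP
          exact E_le _
        exact ⟨z' * z, mul_mem (sup_le (hle hadj.1) (hle hadj.2.1) hz') hz,
          by rw [← RankOne.conjBy_mul]; exact he⟩
    obtain ⟨z, hz, he⟩ := hconj hpath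
    refine ⟨mul_mem (inv_mem hα) hβ, ((α⁻¹ * β) * y' * (α⁻¹ * β)⁻¹)⁻¹ * (α⁻¹ * z * α * y), ?_, ?_⟩
    · refine mul_mem (inv_mem ?_) (mul_mem (CoprimeAction.conj_mem' (hAX hα) hz) hy)
      exact CoprimeAction.conj_mem (hAX (mul_mem (inv_mem hα) hβ)) hy'
    · have h1 : conjBy (E X ha₀.1.1) (α⁻¹ * β * y') = conjBy (E X ha₀.1.1) (α⁻¹ * z * α * y) := by
        rw [RankOne.conjBy_mul, RankOne.conjBy_mul] at he
        have := congrArg (fun R => conjBy R α⁻¹) he
        simp only [RankOne.conjBy_mul] at this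
        simpa [mul_assoc] using this
      apply RankOne.conjBy_injective ((α⁻¹ * β) * y' * (α⁻¹ * β)⁻¹)
      show conjBy (conjBy _ (α⁻¹ * β)) _ = conjBy (conjBy _ _) _
      rw [RankOne.conjBy_mul, RankOne.conjBy_mul, inv_mul_cancel_right, h1]
      congr 1
      group
  -- the diagonal embedding over the cosets
  set B' := B.subgroupOf A with hB'
  let f : A ⧸ B' → SL(2, ZMod p) →* LinearMap.GeneralLinearGroup (ZMod p) V :=
    fun q => (MulAut.conj ((q.out : A) : LinearMap.GeneralLinearGroup (ZMod p) V)).toMonoidHom.comp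
      (rep hd)
  have hfc : Pairwise fun q q' => ∀ g g', Commute (f q g) (f q' g') := by
    intro q q' hqq g g'
    have hn : ((q.out : A) : LinearMap.GeneralLinearGroup (ZMod p) V)⁻¹ * (q'.out : A) ∉ B := by
      intro hmem
      apply hqq
      rw [← QuotientGroup.out_eq' q, ← QuotientGroup.out_eq' q', QuotientGroup.eq]
      exact hmem
    have hle : ∀ (u : A) (h : SL(2, ZMod p)),
        MulAut.conj ((u : A) : LinearMap.GeneralLinearGroup (ZMod p) V) (rep hd h) ∈
          conjBy (E X ha.1.1) u ⊔ conjBy (E X hb.1.1) u := fun u h => by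
      rw [← RankOne.conjBy_sup]; exact ⟨_, hφH h, rfl⟩
    refine (Subgroup.mem_centralizer_iff.1 ((sup_le ?_ ?_ :
      conjBy (E X ha.1.1) (q'.out : A) ⊔ conjBy (E X hb.1.1) (q'.out : A) ≤
        Subgroup.centralizer ((conjBy (E X ha.1.1) (q.out : A) ⊔ conjBy (E X hb.1.1) (q.out : A) :
          Subgroup _) : Set _)) (hle _ g')) _ (hle _ g))
    all_goals
      rw [Subgroup.le_centralizer_iff]
      refine sup_le ?_ ?_
    all_goals
      rw [← Subgroup.commutator_eq_bot_iff_le_centralizer]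
      refine hcomm _ (q.out).2 _ (q'.out).2 hn _ ?_ _ ?_
    all_goals
      first | exact hEb | exact ⟨y₀, hy₀, hEa⟩
  letI : Fintype (A ⧸ B') := Fintype.ofFinite _
  let Φ := MonoidHom.noncommPiCoprod f hfc
  let D : SL(2, ZMod p) →* (A ⧸ B' → SL(2, ZMod p)) := Pi.monoidHom fun _ => MonoidHom.id _
  refine ⟨Φ.comp D, fun g => ⟨?_, Subgroup.mem_centralizer_iff.2 fun α hα => ?_⟩, fun g hg => ?_⟩
  · suffices hr : Φ.range ≤ X from hr ⟨_, rfl⟩
    rw [MonoidHom.noncommPiCoprod_range]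
    refine iSup_le fun q => ?_
    rintro _ ⟨h, rfl⟩
    exact (Subgroup.mem_normalizer_iff.1 (hAX (q.out).2) _).1 (rep_mem hd ha.1 hb.1 h)
  · set σ : Equiv.Perm (A ⧸ B') := MulAction.toPerm (⟨α, hα⟩ : A) with hσ
    let P : (A ⧸ B' → SL(2, ZMod p)) →* (A ⧸ B' → SL(2, ZMod p)) :=
      Pi.monoidHom fun q => Pi.evalMonoidHom _ (σ.symm q)
    have hfixrep : ∀ β ∈ B, ∀ h : SL(2, ZMod p), β * rep hd h * β⁻¹ = rep hd h := by
      intro β hβ h
      apply Units.ext
      rw [← cj_coe, rep_coe]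
      simp only [mat, supp, cj_add, cj_sub, cj_smul, cj_mul, cj_one, hafix β hβ, hbfix β hβ]
    have key : (MulAut.conj α).toMonoidHom.comp Φ = Φ.comp P := by
      refine MonoidHom.pi_ext fun q h => ?_
      have hP : P (Pi.mulSingle q h) = Pi.mulSingle (σ q) h := by
        funext q'
        show (Pi.mulSingle q h : A ⧸ B' → SL(2, ZMod p)) (σ.symm q') =
          (Pi.mulSingle (σ q) h : A ⧸ B' → SL(2, ZMod p)) q'
        by_cases e : q' = σ q
        · subst e; simp
        · rw [Pi.mulSingle_eq_of_ne e, Pi.mulSingle_eq_of_ne]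
          exact fun e' => e (by rw [← e', Equiv.apply_symm_apply])
      show MulAut.conj α (Φ (Pi.mulSingle q h)) = Φ (P (Pi.mulSingle q h))
      rw [hP, MonoidHom.noncommPiCoprod_mulSingle, MonoidHom.noncommPiCoprod_mulSingle]
      set u : A := q.out with hu
      set u' : A := (σ q).out with hu'
      have hb' : (u' : LinearMap.GeneralLinearGroup (ZMod p) V)⁻¹ * (α * u) ∈ B := by
        have : ((u' : A) : A ⧸ B') = (((⟨α, hα⟩ : A) * u : A) : A ⧸ B') := by
          rw [hu', QuotientGroup.out_eq', hu, hσ]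
          show (⟨α, hα⟩ : A) • q = _
          conv_lhs => rw [← QuotientGroup.out_eq' q]
          rfl
        rw [QuotientGroup.eq] at this
        exact this
      show α * ((u : LinearMap.GeneralLinearGroup (ZMod p) V) * rep hd h *
        (u : LinearMap.GeneralLinearGroup (ZMod p) V)⁻¹) * α⁻¹ =
        (u' : LinearMap.GeneralLinearGroup (ZMod p) V) * rep hd h *
        (u' : LinearMap.GeneralLinearGroup (ZMod p) V)⁻¹
      conv_rhs => rw [← hfixrep _ hb' h]
      group
    have := DFunLike.congr_fun key (D g)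
    have hD : P (D g) = D g := rfl
    change α * Φ (D g) * α⁻¹ = Φ (P (D g)) at this
    rw [hD, mul_inv_eq_iff_eq_mul] at this
    exact this
  · have hΦ : Φ (D g) = 1 := hg
    set q₀ : A ⧸ B' := ((1 : A) : A ⧸ B')
    rw [Subgroup.mem_center_iff]
    intro h
    have hv : Commute (D g * (Pi.mulSingle q₀ g)⁻¹) (Pi.mulSingle q₀ h) := by
      funext q
      show (g * ((Pi.mulSingle q₀ g : A ⧸ B' → SL(2, ZMod p)) q)⁻¹) *
          (Pi.mulSingle q₀ h : A ⧸ B' → SL(2, ZMod p)) q =
        (Pi.mulSingle q₀ h : A ⧸ B' → SL(2, ZMod p)) q * (g * ((Pi.mulSingle q₀ g : A ⧸ B' → SL(2, ZMod p)) q)⁻¹)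
      by_cases e : q = q₀
      · subst e; simp
      · simp [Pi.mulSingle_eq_of_ne e]
    have h2 := hv.map Φ
    rw [map_mul, map_inv, hΦ, one_mul, MonoidHom.noncommPiCoprod_mulSingle,
      MonoidHom.noncommPiCoprod_mulSingle, Commute.inv_left_iff] at h2
    have h3 : rep hd g * rep hd h = rep hd h * rep hd g :=
      (MulAut.conj ((q₀.out : A) : LinearMap.GeneralLinearGroup (ZMod p) V)).injective
        (by rw [map_mul, map_mul]; exact h2.eq)
    have hinj : Function.Injective (rep hd) := by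
      rw [injective_iff_map_eq_one]
      intro u hu
      have e : mat a b u.1 = 1 := congrArg Units.val hu
      obtain ⟨s1, s2, s3, s4⟩ := supp_mul hd
      have a1 := hd.sqa
      have b1 := hd.sqb
      have aba : a * (b * a) = a := by rw [← mul_assoc]; exact hd.aba
      have bab : b * (a * b) = b := by rw [← mul_assoc]; exact hd.bab
      have hane : a ≠ 0 := ha.2.1
      have hbne : b ≠ 0 := hb.2.1
      have e10 := congrArg (fun t => a * t * a) e
      have e01 := congrArg (fun t => b * t * b) e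
      have e00 := congrArg (fun t => b * a * (b * t * a)) e
      have e11 := congrArg (fun t => a * b * (a * t * b)) e
      simp only [mat, mul_add, add_mul, mul_sub, sub_mul, mul_one, one_mul, mul_smul_comm,
        smul_mul_assoc, mul_assoc, s1, s2, s3, s4, a1, b1, aba, bab, mul_zero, zero_mul, smul_zero,
        sub_self, add_zero, zero_add] at e10 e01 e00 e11
      apply Subtype.ext
      have h10 : u.1 1 0 = 0 := (smul_eq_zero.1 e10).resolve_right hane
      have h01 : u.1 0 1 = 0 := (smul_eq_zero.1 e01).resolve_right hbne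
      have hba : b * a ≠ 0 := fun h0 => hane (by rw [← hd.aba, mul_assoc, h0, mul_zero])
      have hab : a * b ≠ 0 := fun h0 => hane (by rw [← hd.aba, h0, zero_mul])
      have h00 : u.1 0 0 = 1 := by
        have : (u.1 0 0 - 1) • (b * a) = 0 := by rw [sub_smul, one_smul, e00, sub_self]
        exact sub_eq_zero.1 ((smul_eq_zero.1 this).resolve_right hba)
      have h11 : u.1 1 1 = 1 := by
        have : (u.1 1 1 - 1) • (a * b) = 0 := by rw [sub_smul, one_smul, e11, sub_self]
        exact sub_eq_zero.1 ((smul_eq_zero.1 this).resolve_right hab)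
      ext i j
      fin_cases i <;> fin_cases j <;> simp [h00, h01, h10, h11]
    exact hinj (by rw [map_mul, map_mul, h3])

end Cfsg.Agent.QuadPairCoprimeFixed20
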