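import Mathlib
import Cfsg.Prelude.Def_LocalEven
import Cfsg.Agent.Lib.QuadPairCoprimeFixed20
import Cfsg.Agent.Lib.GlaubermanFree
import Cfsg.Agent.Lib.GlaubermanQuotient
import Cfsg.Agent.S0205

/-!
For `p ≥ 5`: a group with a coprime operator group whose fixed points have no `L₂(p)` section is
`p`-stable on the normal `p`-subgroups invariant under the operators, so the `ZJ` theorem holds.
-/

set_option autoImplicit false
set_option linter.unusedSectionVars false

namespace Cfsg.Agent.CoprimeSL2Stable20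

open Subgroup GlaubermanZJ GlaubermanStable QuadraticMain
open scoped MatrixGroups commutatorElement

universe u v

/-- The group `L₂(p)`. -/
abbrev L2 (p : ℕ) [Fact p.Prime] : Type := Matrix.ProjectiveSpecialLinearGroup (Fin 2) (ZMod p)

/-- A split coprime extension whose fixed point subgroup has no `L₂(p)` section. -/
def Adm (p : ℕ) [Fact p.Prime] (Y : Type u) [Group Y] : Prop :=
  ∃ N A : Subgroup Y, N.Normal ∧ N ⊔ A = ⊤ ∧ (Nat.card N).Coprime (Nat.card A) ∧
    ¬ p ∣ Nat.card A ∧ ¬ HasSection ↥(N ⊓ centralizer (A : Set Y)) (L2 p)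

theorem solvable_or {Y : Type u} [Group Y] [Finite Y] {N A : Subgroup Y}
    (h : (Nat.card N).Coprime (Nat.card A)) : Group.IsSolvable A ∨ Group.IsSolvable N := by
  rcases Nat.even_or_odd (Nat.card A) with he | ho
  · refine Or.inr (S0205.result ?_)
    rcases Nat.even_or_odd (Nat.card N) with he' | ho'
    · exact absurd (Nat.dvd_gcd he'.two_dvd he.two_dvd) (by rw [h]; norm_num)
    · exact ho'
  · exact Or.inl (S0205.result ho)

theorem hasSection_of_map {Y X Z : Type*} [Group Y] [Group X] [Group Z] (C : Subgroup Y)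
    (θ : Y →* X) (h : HasSection ↥(C.map θ) Z) : HasSection ↥C Z := by
  refine QuadraticQd.hasSection_lift (f := (θ.comp C.subtype).codRestrict (C.map θ)
    fun c => ⟨c, c.2, rfl⟩) ?_ h
  rintro ⟨_, c, hc, rfl⟩
  exact ⟨⟨c, hc⟩, rfl⟩

theorem adm_quotient {p : ℕ} [Fact p.Prime] {Y : Type u} [Group Y] [Finite Y] (M : Subgroup Y)
    [M.Normal] (h : Adm p Y) : Adm p (Y ⧸ M) := by
  obtain ⟨N, A, hN, hNA, hcop, hp, hfree⟩ := h
  set π := QuotientGroup.mk' M
  refine ⟨N.map π, A.map π, hN.map _ (QuotientGroup.mk'_surjective _), ?_, ?_, ?_, ?_⟩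
  · rw [← Subgroup.map_sup, hNA, Subgroup.map_top_of_surjective _ (QuotientGroup.mk'_surjective _)]
  · exact (hcop.coprime_dvd_left (card_map_dvd N π)).coprime_dvd_right (card_map_dvd A π)
  · exact fun hd => hp (hd.trans (card_map_dvd A π))
  · rw [← CoprimeAction.map_inf_centralizer_eq π
      (by rw [normalizer_eq_top_iff.mpr hN]; exact le_top) hcop.symm (solvable_or hcop)]
    exact fun hs => hfree (hasSection_of_map _ π hs)

/-- From minimal normal to arbitrary normal `p`-subgroups, for a class closed under quotients. -/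
theorem isPStableOn_of_minimal {p : ℕ} [hp : Fact p.Prime]
    (hV : ∀ (Y : Type u) [Group Y] [Finite Y], Adm p Y → ∀ (V : Subgroup Y) [V.Normal],
      Cfsg.IsElementaryAbelian p V → V ≠ ⊥ →
      (∀ W : Subgroup Y, W.Normal → W ≤ V → W = ⊥ ∨ W = V) → Cfsg.IsPStableOn p V) :
    ∀ (Y : Type u) [Group Y] [Finite Y], Adm p Y → ∀ (P : Subgroup Y) [P.Normal],
      IsPGroup p P → Cfsg.IsPStableOn p P := by
  suffices key : ∀ (k : ℕ) (Y : Type u) [Group Y] [Finite Y], Adm p Y → ∀ (P : Subgroup Y)
      [P.Normal], Nat.card P = k → IsPGroup p P → Cfsg.IsPStableOn p P from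
    fun Y _ _ hY P _ hP => key _ Y hY P rfl hP
  intro k
  induction k using Nat.strong_induction_on with
  | _ k ih =>
  intro Y _ _ hY P hPn hk hP a ha
  rcases eq_or_ne P ⊥ with rfl | hne
  · have h1 : a ∈ centralizer ((⊥ : Subgroup Y) : Set Y) := mem_centralizer_iff.mpr fun x hx => by
      rw [SetLike.mem_coe, mem_bot] at hx
      rw [hx, one_mul, mul_one]
    exact centralizer_le_actCore p _ h1
  set V₀ := Cfsg.omegaOne p (P ⊓ centralizer (P : Set Y)) with hV₀def
  haveI hV₀n : V₀.Normal := by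
    rw [← normalizer_eq_top_iff, ← top_le_iff, ← normalizer_eq_top_iff.mpr
      (inferInstance : (P ⊓ centralizer (P : Set Y)).Normal)]
    exact normalizer_le_omegaOne p _
  have hV₀ne : V₀ ≠ ⊥ := by
    refine omegaOne_ne_bot (hP.to_le inf_le_left) fun h => ?_
    haveI : Nontrivial P := (nontrivial_iff_ne_bot P).mpr hne
    haveI := hP.center_nontrivial
    obtain ⟨z, hz⟩ := exists_ne (1 : Subgroup.center P)
    have h1 : ((z : P) : Y) ∈ P ⊓ centralizer (P : Set Y) :=
      ⟨(z : P).2, mem_centralizer_iff.mpr fun y hy =>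
        congrArg Subtype.val (mem_center_iff.mp z.2 ⟨y, hy⟩)⟩
    rw [h, mem_bot] at h1
    exact hz (Subtype.ext (Subtype.ext h1))
  obtain ⟨V, ⟨hVn, hVne, hVV₀⟩, hVmin⟩ := Set.Finite.exists_minimal
    (Set.toFinite {W : Subgroup Y | W.Normal ∧ W ≠ ⊥ ∧ W ≤ V₀}) ⟨V₀, hV₀n, hV₀ne, le_rfl⟩
  haveI := hVn
  have hmin : ∀ W : Subgroup Y, W.Normal → W ≤ V → W = ⊥ ∨ W = V := fun W hW hWV =>
    (eq_or_ne W ⊥).imp id fun h0 => le_antisymm hWV (hVmin ⟨hW, h0, hWV.trans hVV₀⟩ hWV)
  have hVP : V ≤ P := hVV₀.trans ((closure_le _).mpr fun y hy => hy.1.1)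
  have hVea : Cfsg.IsElementaryAbelian p V := by
    have h0 := (Offenders.ea_iff V₀).1
      (Offenders.omegaOne_ea (K := P ⊓ centralizer (P : Set Y))
        fun x hx y hy => (hx.2 y hy.1).symm)
    exact (Offenders.ea_iff V).2
      ⟨fun x hx y hy => h0.1 x (hVV₀ hx) y (hVV₀ hy), fun x hx => h0.2 x (hVV₀ hx)⟩
  set π := QuotientGroup.mk' V with hπ
  haveI hPb : (P.map π).Normal := hPn.map _ (QuotientGroup.mk'_surjective V)
  have haV : a ∈ actCore p V := by
    refine hV Y hY V hVea hVne hmin a (le_bot_iff.mp ?_)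
    rw [← ha]
    exact commutator_mono (commutator_mono hVP le_rfl) le_rfl
  have hlt : Nat.card (P.map π) < k := by
    rw [← hk, ← HallCore.card_map_mk'_mul V P hVP]
    exact lt_mul_of_one_lt_right Nat.card_pos
      (Finite.one_lt_card_iff_nontrivial.mpr ((nontrivial_iff_ne_bot V).mpr hVne))
  have hab : π a ∈ actCore p (P.map π) := by
    refine ih _ hlt _ (adm_quotient V hY) (P.map π) rfl (hP.map π) (π a) ?_
    rw [← MonoidHom.map_zpowers, ← map_commutator, ← map_commutator, ha, Subgroup.map_bot]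
  haveI : ((actCore p (P.map π)).comap π).Normal := Normal.comap inferInstance _
  refine le_actCore (D := actCore p V ⊓ (actCore p (P.map π)).comap π) (fun g hg => ?_) ⟨haV, hab⟩
  obtain ⟨i, hi⟩ := exists_pow_mem_centralizer hg.1
  obtain ⟨j, hj⟩ := exists_pow_mem_centralizer (show π g ∈ actCore p (P.map π) from hg.2)
  obtain ⟨l, hl⟩ := exists_pow_coprime (p := p) g
  refine ⟨i + j + l, ?_⟩
  have hcop : (orderOf (g ^ p ^ (i + j + l))).Coprime p := by
    rw [show p ^ (i + j + l) = p ^ l * p ^ (i + j) by ring, pow_mul]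
    exact coprime_pow hl _
  have hcV : g ^ p ^ (i + j + l) ∈ centralizer (V : Set Y) := by
    rw [show p ^ (i + j + l) = p ^ i * p ^ (j + l) by ring, pow_mul]
    exact pow_mem hi _
  have hcP : π (g ^ p ^ (i + j + l)) ∈
      centralizer ((P.map π : Subgroup (Y ⧸ V)) : Set (Y ⧸ V)) := by
    rw [map_pow, show p ^ (i + j + l) = p ^ j * p ^ (i + l) by ring, pow_mul]
    exact pow_mem hj _
  set h := g ^ p ^ (i + j + l)
  refine mem_centralizer_iff.mpr fun x hx => ?_
  refine (OmegaCoprime.commute_of_fixed_comms hP (fun y hy => hPn.conj_mem y hy h) hcop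
    (fun y hy => ?_) x hx).eq.symm
  have h1 : y⁻¹ * (h * y * h⁻¹) ∈ V := by
    rw [← QuotientGroup.eq_one_iff]
    change π (y⁻¹ * (h * y * h⁻¹)) = 1
    rw [map_mul, map_mul, map_mul, map_inv, map_inv,
      ← mem_centralizer_iff.mp hcP (π y) (mem_map_of_mem π hy)]
    group
  exact (mem_centralizer_iff.mp hcV _ h1).symm

theorem isPGroup_of_unipotent {p : ℕ} [Fact p.Prime] {V : Type*} [AddCommGroup V]
    [Module (ZMod p) V] [Nontrivial V]
    {U : Subgroup (LinearMap.GeneralLinearGroup (ZMod p) V)} (hU : Cfsg.IsUnipotentOn U) :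
    IsPGroup p U := by
  obtain ⟨n, hn⟩ := hU
  rintro ⟨g, hg⟩
  refine ⟨n, Subtype.ext (Units.ext ?_)⟩
  rw [SubgroupClass.coe_pow, OneMemClass.coe_one, Units.val_pow_eq_pow_val, Units.val_one]
  haveI : CharP (Module.End (ZMod p) V) p :=
    charP_of_injective_algebraMap (algebraMap (ZMod p) (Module.End (ZMod p) V)).injective p
  have h0 : ((g : Module.End (ZMod p) V) - 1) ^ n = 0 := by
    have := hn (List.replicate n g) (fun x hx => (List.eq_of_mem_replicate hx) ▸ hg)
      List.length_replicate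
    simpa [List.flatMap_singleton', List.map_replicate, List.prod_replicate, List.flatMap_def] using this
  have hle : n ≤ p ^ n := (Nat.lt_pow_self (Fact.out : p.Prime).one_lt).le
  conv_lhs => rw [show (g : Module.End (ZMod p) V) = (g : Module.End (ZMod p) V) - 1 + 1 by abel]
  rw [add_pow_char_pow_of_commute (p := p) n (Commute.one_right _), pow_eq_zero_of_le hle h0, one_pow,
    zero_add]

theorem isPStableOn_minimal {p : ℕ} [hp : Fact p.Prime] (hp5 : 5 ≤ p) {Y : Type u} [Group Y]
    [Finite Y] (hY : Adm p Y) (V : Subgroup Y) [V.Normal] (hV : Cfsg.IsElementaryAbelian p V)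
    (hVne : V ≠ ⊥) (hmin : ∀ W : Subgroup Y, W.Normal → W ≤ V → W = ⊥ ∨ W = V) :
    Cfsg.IsPStableOn p V := by
  intro a ha
  by_contra hna
  obtain ⟨N, A, hN, hNA, hcop, hpA, hfree⟩ := hY
  obtain ⟨i1, i2, ρ, hρ, hadd, hρc, hq⟩ := exists_rep_conj (p := p) V hV
  letI := i1
  letI := i2
  haveI : Finite (Additive V) := inferInstanceAs (Finite V)
  haveI : Nontrivial V := (nontrivial_iff_ne_bot V).mpr hVne
  haveI : Nontrivial (Additive V) := inferInstanceAs (Nontrivial V)
  haveI : Finite (Module.End (ZMod p) (Additive V)) := Finite.of_injective _ DFunLike.coe_injective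
  haveI : Finite (LinearMap.GeneralLinearGroup (ZMod p) (Additive V)) :=
    inferInstanceAs (Finite (Module.End (ZMod p) (Additive V))ˣ)
  haveI : Module.Finite (ZMod p) (Additive V) := Module.Finite.of_finite
  let θ : Y →* LinearMap.GeneralLinearGroup (ZMod p) (Additive V) :=
    (ρ.comp (QuotientGroup.mk' (centralizer (V : Set Y)))).toHomUnits
  have hθ : ∀ (g : Y) (v : Additive V), ((θ g : Module.End (ZMod p) (Additive V)) v).toMul.1 =
      g * (v.toMul : Y) * g⁻¹ := fun g v => hρc g v
  have hθker : ∀ g, θ g = 1 → g ∈ centralizer (V : Set Y) := fun g hg => by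
    rw [← QuotientGroup.eq_one_iff]
    exact hρ ((congrArg Units.val hg).trans (map_one ρ).symm)
  have hnc : θ a ≠ 1 := fun h => hna (centralizer_le_actCore p V (hθker a h))
  have hsq : QuadPairTheory.nl (θ a) * QuadPairTheory.nl (θ a) = 0 := hq a ha
  set X := N.map θ with hX
  have hAN : A ≤ normalizer (N : Set Y) := by rw [normalizer_eq_top_iff.mpr hN]; exact le_top
  have hXn : A.map θ ≤ normalizer (X : Set (LinearMap.GeneralLinearGroup (ZMod p) (Additive V))) :=
    (Subgroup.map_mono hAN).trans (le_normalizer_map θ)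
  -- the quadratic element lies in the image of `N`
  have haX : θ a ∈ X := by
    have hpw : θ a ^ p = 1 := by
      haveI : CharP (Module.End (ZMod p) (Additive V)) p := charP_of_injective_algebraMap
        (algebraMap (ZMod p) (Module.End (ZMod p) (Additive V))).injective p
      apply Units.ext
      rw [Units.val_pow_eq_pow_val, Units.val_one,
        show (θ a : Module.End (ZMod p) (Additive V)) = QuadPairTheory.nl (θ a) + 1 by
          simp [QuadPairTheory.nl],
        add_pow_char_of_commute (p := p) (Commute.one_right _),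
        pow_eq_zero_of_le hp.out.two_le (by rw [pow_two]; exact hsq), one_pow, zero_add]
    haveI := hN
    have hm : N.index ∣ Nat.card A := by
      have h1 := Subgroup.card_mul_index N
      have hd : Disjoint N A := disjoint_of_coprime_natCard hcop
      have h2 : IsComplement' N A := by
        refine isComplement'_of_disjoint_and_mul_eq_univ hd ?_
        rw [← Subgroup.normal_mul, hNA, coe_top]
      have h3 := h2.card_mul
      rw [← h3] at h1
      rw [Nat.eq_of_mul_eq_mul_left Nat.card_pos h1]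
    have hco : (orderOf (θ a)).Coprime N.index := by
      refine Nat.Coprime.coprime_dvd_left (orderOf_dvd_of_pow_eq_one hpw) ?_
      exact (hp.out.coprime_iff_not_dvd.mpr fun h => hpA (h.trans hm))
    obtain ⟨k, hk⟩ := exists_pow_eq_self_of_coprime hco.symm
    rw [← hk]
    refine pow_mem ?_ k
    rw [← map_pow]
    exact mem_map_of_mem θ (pow_index_mem N a)
  -- no normal `p`-subgroup
  have hW : ∀ W : Subgroup (LinearMap.GeneralLinearGroup (ZMod p) (Additive V)), W ≤ θ.range →
      IsPGroup p W → (∀ g ∈ θ.range, ∀ w ∈ W, g * w * g⁻¹ ∈ W) → W = ⊥ := by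
    intro W hWr hWp hWn
    obtain ⟨v₀, hv₀, hvne⟩ : ∃ v : Additive V,
        (∀ w ∈ W, (w : Module.End (ZMod p) (Additive V)) v = v) ∧ (v.toMul : Y) ≠ 1 := by
      letI : MulAction W V :=
        { smul := fun w v => ((w.1 : Module.End (ZMod p) (Additive V)) (Additive.ofMul v)).toMul
          one_smul := fun v => rfl
          mul_smul := fun w w' v => rfl }
      have hdvd : p ∣ Nat.card V := by
        have hVp : IsPGroup p V := fun x => ⟨1, by
          rw [pow_one]
          exact Subtype.ext (by rw [SubgroupClass.coe_pow]; exact ((Offenders.ea_iff V).1 hV).2 _ x.2)⟩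
        exact hVp.card_eq_or_dvd.resolve_left fun h => hVne (card_eq_one.mp h)
      have hfix0 : (1 : V) ∈ MulAction.fixedPoints W V := fun w => by
        obtain ⟨g, hg⟩ := hWr w.2
        refine Subtype.ext ?_
        show (((w.1 : Module.End (ZMod p) (Additive V)) (Additive.ofMul 1)).toMul : Y) = _
        rw [← hg, hθ g (Additive.ofMul 1)]
        simp
      obtain ⟨b, hb, hb0⟩ :=
        hWp.exists_fixed_point_of_prime_dvd_card_of_fixed_point V hdvd hfix0
      exact ⟨Additive.ofMul b, fun w hw => Additive.toMul.injective (hb ⟨w, hw⟩),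
        fun h => hb0 (Subtype.ext h).symm⟩
    set W' := W.comap θ with hW'
    haveI hW'n : W'.Normal := ⟨fun w hw g => by
      rw [hW', mem_comap, map_mul, map_mul, map_inv]
      exact hWn _ ⟨g, rfl⟩ _ hw⟩
    have hFne : V ⊓ centralizer (W' : Set Y) ≠ ⊥ := by
      intro hF
      have hmem : (v₀.toMul : Y) ∈ V ⊓ centralizer (W' : Set Y) := by
        refine ⟨v₀.toMul.2, mem_centralizer_iff.mpr fun w hw => ?_⟩
        have := hθ w v₀
        rw [hv₀ (θ w) hw] at this
        exact (mul_inv_eq_iff_eq_mul.mp this.symm)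
      rw [hF, mem_bot] at hmem
      exact hvne hmem
    have hFV : V ⊓ centralizer (W' : Set Y) = V :=
      (hmin _ inferInstance inf_le_left).resolve_left hFne
    refine (eq_bot_iff_forall W).mpr fun w hw => ?_
    obtain ⟨g, rfl⟩ := hWr hw
    have hgc : g ∈ centralizer (V : Set Y) := mem_centralizer_iff.mpr fun x hx =>
      ((mem_centralizer_iff.mp ((le_of_eq hFV.symm) hx).2) g hw).symm
    apply Units.ext
    show ρ (QuotientGroup.mk' _ g) = 1
    rw [QuotientGroup.mk'_apply, (QuotientGroup.eq_one_iff g).mpr hgc, map_one]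
  have hred : QuadPairUnipotent.Reduced X := by
    intro U hUX hUn hUu
    have hUX' : (U.subgroupOf X).Normal := by
      refine ⟨fun u hu g => ?_⟩
      have := hUn g g.2
      rw [mem_subgroupOf, ← this]
      exact ⟨_, hu, rfl⟩
    have hUp : IsPGroup p (U.subgroupOf X) :=
      (isPGroup_of_unipotent hUu).comap_of_injective X.subtype X.subtype_injective
    set W := (Cfsg.pCore p X).map X.subtype with hWdef
    have hUW : U ≤ W := by
      intro u hu
      exact ⟨⟨u, hUX hu⟩, HallCore.le_pCore (hN := hUX') hUp hu, rfl⟩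
    refine le_bot_iff.mp (hUW.trans (le_of_eq (hW W ?_ ((HallCore.isPGroup_pCore p X).map _) ?_)))
    · rintro _ ⟨w, -, rfl⟩
      obtain ⟨n, -, hn⟩ := w.2
      exact ⟨n, hn⟩
    · rintro g hg _ ⟨w, hw, rfl⟩
      haveI : (N.map θ.rangeRestrict).Normal := hN.map _ θ.rangeRestrict_surjective
      obtain ⟨y, rfl⟩ := hg
      have hgn : θ y ∈ normalizer (X : Set _) := by
        refine le_normalizer_map θ ⟨y, ?_, rfl⟩
        rw [normalizer_eq_top_iff.mpr hN]; trivial
      let φ : X ≃* X :=
        { toFun := fun z => ⟨θ y * z * (θ y)⁻¹, (mem_normalizer_iff.mp hgn _).mp z.2⟩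
          invFun := fun z => ⟨(θ y)⁻¹ * z * θ y, by
            have := (mem_normalizer_iff.mp (inv_mem hgn) (z : _)).mp z.2
            rwa [inv_inv] at this⟩
          left_inv := fun z => Subtype.ext (by simp [mul_assoc])
          right_inv := fun z => Subtype.ext (by simp [mul_assoc])
          map_mul' := fun z z' => Subtype.ext (by simp [mul_assoc]) }
      haveI := HallCore.pCore_characteristic p X
      exact ⟨φ w, by
        have := (Subgroup.characteristic_iff_map_eq.mp inferInstance φ :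
          (Cfsg.pCore p X).map φ.toMonoidHom = _)
        rw [← this]; exact mem_map_of_mem _ hw, rfl⟩
  have hcX : (Nat.card (A.map θ)).Coprime (Nat.card X) :=
    (hcop.symm.coprime_dvd_left (card_map_dvd A θ)).coprime_dvd_right (card_map_dvd N θ)
  -- `X` has even order
  have heven : 2 ∣ Nat.card X := by
    have hk2 : (2 : ZMod p) ≠ 0 := fun h => by
      have h' : ((2 : ℕ) : ZMod p) = 0 := by simpa using h
      rw [ZMod.natCast_eq_zero_iff] at h'
      have := Nat.le_of_dvd two_pos h'
      omega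
    have hk3 : Nat.card (ZMod p) ≠ 3 := by rw [Nat.card_zmod]; omega
    have hlie : QuadPairTheory.nl (θ a) ∈ QuadPairTheory.Lie X := by
      refine ⟨hsq, fun c => ⟨θ a ^ c.val, pow_mem haX _, ?_⟩⟩
      have hpow : ∀ i : ℕ, ((θ a ^ i : LinearMap.GeneralLinearGroup (ZMod p) (Additive V)) :
          Module.End (ZMod p) (Additive V)) = 1 + (i : ZMod p) • QuadPairTheory.nl (θ a) := by
        intro i
        induction i with
        | zero => simp
        | succ i ih =>
          rw [pow_succ, Units.val_mul, ih,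
            show (θ a : Module.End (ZMod p) (Additive V)) = QuadPairTheory.nl (θ a) + 1 by
              simp [QuadPairTheory.nl], Nat.cast_succ, add_smul, one_smul]
          simp only [add_mul, mul_add, one_mul, mul_one, smul_mul_assoc, add_sub_cancel_right,
            QuadPairTheory.nl]
          rw [show ((θ a : Module.End (ZMod p) (Additive V)) - 1) *
            ((θ a : Module.End (ZMod p) (Additive V)) - 1) = 0 from hsq, smul_zero]
          abel
      rw [hpow, ZMod.natCast_zmod_val]
    obtain ⟨a₀, ha₀⟩ := QuadPairProduct.exists_min hlie (fun e => hnc (QuadPairTheory.nl_eq_zero.1 e))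
    obtain ⟨b₀, hb₀, ho⟩ := QuadPairUnipotent.exists_opp hk2 hk3 hred ha₀
    obtain ⟨c, hc, hc0, hd⟩ := QuadPairTheory.exists_dual hk2 hk3 ha₀ hb₀ ho
    set z : X := ⟨QuadPairDualOrbit20.rep hd (-1),
      QuadPairDualOrbit20.rep_mem hd ha₀.1 hc.1 _⟩ with hz
    have hz2 : z ^ 2 = 1 := Subtype.ext (by
      rw [hz, SubgroupClass.coe_pow, ← map_pow, neg_one_sq, map_one]; rfl)
    have hz1 : z ≠ 1 := by
      intro h
      have h1 := congrArg (fun t : X => a₀ * ((t : LinearMap.GeneralLinearGroup (ZMod p)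
        (Additive V)) : Module.End (ZMod p) (Additive V))) h
      obtain ⟨s1, s2, s3, s4⟩ := QuadPairDualOrbit20.supp_mul hd
      simp only [hz, OneMemClass.coe_one, Units.val_one, mul_one, QuadPairDualOrbit20.rep_coe,
        Matrix.SpecialLinearGroup.coe_neg, Matrix.SpecialLinearGroup.coe_one,
        QuadPairDualOrbit20.mat] at h1
      simp [mul_add, mul_sub, ← mul_assoc, s2, hd.sqa, hd.aba] at h1
      exact ha₀.2.1 ((smul_eq_zero.1 (show (2 : ZMod p) • a₀ = 0 by
        rw [two_smul]; linear_combination (norm := abel) -h1)).resolve_left hk2)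
    have := orderOf_dvd_natCard z
    rwa [orderOf_eq_prime hz2 hz1] at this
  have hAodd : Odd (Nat.card (A.map θ)) := by
    rw [← Nat.not_even_iff_odd]
    intro h
    exact absurd (Nat.dvd_gcd h.two_dvd heven) (by rw [hcX]; norm_num)
  obtain ⟨ψ, hψ, hψker⟩ := QuadPairCoprimeFixed20.exists_hom hp5 X (A.map θ) hred hXn hcX
    (fun x hx => hAodd.of_dvd_nat ((orderOf_mk x hx) ▸ orderOf_dvd_natCard (⟨x, hx⟩ : A.map θ)))
    (S0205.result hAodd) haX hsq hnc
  apply hfree
  refine hasSection_of_map _ θ ?_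
  rw [CoprimeAction.map_inf_centralizer_eq θ hAN hcop.symm (solvable_or hcop)]
  let ψ' : SL(2, ZMod p) →* ↥(X ⊓ centralizer
      (A.map θ : Set (LinearMap.GeneralLinearGroup (ZMod p) (Additive V)))) :=
    ψ.codRestrict _ hψ
  have hker' : ψ'.rangeRestrict.ker ≤ (QuotientGroup.mk' (center SL(2, ZMod p))).ker := by
    intro g hg
    rw [QuotientGroup.ker_mk']
    apply hψker
    rw [MonoidHom.ker_rangeRestrict] at hg
    exact congrArg Subtype.val hg
  refine ⟨ψ'.range, ψ'.rangeRestrict.liftOfSurjective ψ'.rangeRestrict_surjective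
    ⟨QuotientGroup.mk' (center SL(2, ZMod p)), hker'⟩, fun y => ?_⟩
  obtain ⟨g, rfl⟩ := QuotientGroup.mk'_surjective (center SL(2, ZMod p)) y
  exact ⟨ψ'.rangeRestrict g,
    MonoidHom.liftOfRightInverse_comp_apply _ _ _ ⟨QuotientGroup.mk' _, hker'⟩ g⟩

theorem isPStableOn {p : ℕ} [Fact p.Prime] (hp5 : 5 ≤ p) (Y : Type u) [Group Y] [Finite Y]
    (hY : Adm p Y) (P : Subgroup Y) [P.Normal] (hP : IsPGroup p P) : Cfsg.IsPStableOn p P :=
  isPStableOn_of_minimal (fun _ _ _ h V _ hV hne hmin => isPStableOn_minimal hp5 h V hV hne hmin)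
    Y hY P hP

/-- A coprime `p'` operator group acting faithfully does not enlarge `C(O_p)`. -/
theorem centralizer_pCore_le {p : ℕ} [hp : Fact p.Prime] {Y : Type u} [Group Y] [Finite Y]
    {N A : Subgroup Y} [hN : N.Normal] (hNA : N ⊔ A = ⊤)
    (hcop : (Nat.card N).Coprime (Nat.card A)) (hpA : ¬ p ∣ Nat.card A)
    (hfaith : A ⊓ centralizer (N : Set Y) = ⊥)
    (hc : centralizer (Cfsg.pCore p N : Set N) ≤ Cfsg.pCore p N) :
    centralizer (Cfsg.pCore p Y : Set Y) ≤ Cfsg.pCore p Y := by
  haveI := HallCore.pCore_characteristic p N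
  set Q := (Cfsg.pCore p N).map N.subtype with hQdef
  haveI hQn : Q.Normal := inferInstance
  have hQp : IsPGroup p Q := (HallCore.isPGroup_pCore p N).map _
  have hQY : Q ≤ Cfsg.pCore p Y := HallCore.le_pCore (hN := hQn) hQp
  set D := centralizer (Q : Set Y) with hD
  haveI hDn : D.Normal := inferInstance
  have hDN : ∀ z, z ∈ D → z ∈ N → z ∈ Q := by
    intro z hz hzN
    refine ⟨⟨z, hzN⟩, hc (mem_centralizer_iff.mpr fun q hq => Subtype.ext ?_), rfl⟩
    exact mem_centralizer_iff.mp hz q (mem_map_of_mem _ hq)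
  intro x hx
  have hxD : x ∈ D := mem_centralizer_iff.mpr fun q hq => mem_centralizer_iff.mp hx q (hQY hq)
  refine hQY (hDN x hxD ?_)
  obtain ⟨i, m, hm, hxm⟩ := Nat.exists_eq_pow_mul_and_not_dvd (orderOf_pos x).ne' p hp.out.ne_one
  obtain ⟨y, hy⟩ : ∃ y, y = x ^ p ^ i := ⟨_, rfl⟩
  have hord : (orderOf y).Coprime p := by
    rw [hy, orderOf_pow_of_dvd (pow_ne_zero _ hp.out.ne_zero) (hxm ▸ dvd_mul_right _ _), hxm,
      Nat.mul_div_cancel_left _ (pow_pos hp.out.pos i)]
    exact (hp.out.coprime_iff_not_dvd.mpr hm).symm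
  have hyD : y ∈ D := hy ▸ D.pow_mem hxD _
  have hcomm : ∀ z ∈ N, Commute y z := by
    intro z hz
    obtain ⟨c, hc'⟩ : ∃ c, c = z⁻¹ * (y * z * y⁻¹) := ⟨_, rfl⟩
    have hcQ : c ∈ Q := by
      refine hDN c ?_ (hc' ▸ mul_mem (inv_mem hz) (hN.conj_mem z hz y))
      rw [hc', show z⁻¹ * (y * z * y⁻¹) = z⁻¹ * y * z * y⁻¹ by group]
      refine mul_mem ?_ (inv_mem hyD)
      simpa using hDn.conj_mem y hyD z⁻¹
    have hyc : y * c = c * y := (mem_centralizer_iff.mp hyD c hcQ).symm
    have hk : ∀ j : ℕ, y ^ j * z * (y ^ j)⁻¹ = z * c ^ j := by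
      intro j
      induction j with
      | zero => simp
      | succ j ih =>
        have h2 : y * c ^ j * y⁻¹ = c ^ j := by
          rw [(Commute.pow_right hyc j).eq, mul_inv_cancel_right]
        calc y ^ (j + 1) * z * (y ^ (j + 1))⁻¹
            = y * (y ^ j * z * (y ^ j)⁻¹) * y⁻¹ := by rw [pow_succ']; group
          _ = y * z * y⁻¹ * (y * c ^ j * y⁻¹) := by rw [ih]; group
          _ = z * c * c ^ j := by rw [h2, hc']; group
          _ = z * c ^ (j + 1) := by rw [pow_succ', mul_assoc]
    have h1 : c ^ orderOf y = 1 := by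
      have := hk (orderOf y)
      rw [pow_orderOf_eq_one, one_mul, inv_one, mul_one] at this
      exact left_eq_mul.mp this
    obtain ⟨l, hl⟩ := hQp ⟨c, hcQ⟩
    have h2 : orderOf c ∣ Nat.gcd (orderOf y) (p ^ l) :=
      Nat.dvd_gcd (orderOf_dvd_of_pow_eq_one h1)
        (orderOf_dvd_of_pow_eq_one (congrArg Subtype.val hl))
    rw [(hord.pow_right l : (orderOf y).Coprime (p ^ l)), Nat.dvd_one, orderOf_eq_one_iff, hc',
      inv_mul_eq_one] at h2
    exact mul_inv_eq_iff_eq_mul.mp h2.symm
  obtain ⟨n, hn, a, ha, hna⟩ := Subgroup.mem_sup_of_normal_left.mp (hNA ▸ Subgroup.mem_top y : y ∈ N ⊔ A)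
  have han : Commute n a := by
    have h1 : n * a * n = n * (n * a) := by rw [hna]; exact (hcomm n hn).eq
    rw [mul_assoc] at h1
    exact (mul_left_cancel h1).symm
  have hyA : y ^ Nat.card A = n ^ Nat.card A := by
    rw [← hna, han.mul_pow,
      show a ^ Nat.card A = 1 from orderOf_dvd_iff_pow_eq_one.mp (Subgroup.orderOf_dvd_natCard A ha),
      mul_one]
  have hone : n = 1 := by
    have hmem : y ^ Nat.card A ∈ Q :=
      hDN _ (D.pow_mem hyD _) (hyA ▸ N.pow_mem hn _)
    obtain ⟨l, hl⟩ := hQp ⟨_, hmem⟩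
    have h1 : orderOf (y ^ Nat.card A) ∣ Nat.gcd (orderOf y) (p ^ l) :=
      Nat.dvd_gcd (orderOf_pow_dvd _) (orderOf_dvd_of_pow_eq_one (congrArg Subtype.val hl))
    rw [(hord.pow_right l : (orderOf y).Coprime (p ^ l)), Nat.dvd_one, orderOf_eq_one_iff, hyA] at h1
    have h2 : orderOf n ∣ Nat.gcd (Nat.card N) (Nat.card A) :=
      Nat.dvd_gcd (Subgroup.orderOf_dvd_natCard N hn) (orderOf_dvd_of_pow_eq_one h1)
    rw [hcop, Nat.dvd_one, orderOf_eq_one_iff] at h2
    exact h2
  rw [hone, one_mul] at hna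
  have hy1 : y = 1 := by
    have : a ∈ A ⊓ centralizer (N : Set Y) :=
      ⟨ha, mem_centralizer_iff.mpr fun z hz => by
        have := hcomm z hz; rw [← hna] at this; exact this.eq.symm⟩
    rw [hfaith, mem_bot] at this
    rw [← hna, this]
  rw [← QuotientGroup.eq_one_iff]
  have h1 : ((x : Y ⧸ N)) ^ p ^ i = 1 := by
    rw [← QuotientGroup.mk_pow, ← hy, hy1, QuotientGroup.mk_one]
  have h2 : Nat.card (Y ⧸ N) ∣ Nat.card A := by
    have hsurj : Function.Surjective ((QuotientGroup.mk' N).comp A.subtype) := fun q => by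
      obtain ⟨g, rfl⟩ := QuotientGroup.mk'_surjective N q
      obtain ⟨n, hn, a, ha, rfl⟩ :=
        Subgroup.mem_sup_of_normal_left.mp (hNA ▸ Subgroup.mem_top g : g ∈ N ⊔ A)
      refine ⟨⟨a, ha⟩, ?_⟩
      simp only [MonoidHom.comp_apply, Subgroup.coe_subtype, map_mul, QuotientGroup.mk'_apply,
        (QuotientGroup.eq_one_iff n).mpr hn, one_mul]
    exact card_dvd_of_surjective _ hsurj
  rw [← orderOf_eq_one_iff, ← Nat.dvd_one,
    ← ((hp.out.coprime_iff_not_dvd.mpr hpA).pow_left i : (p ^ i).Coprime (Nat.card A))]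
  exact Nat.dvd_gcd (orderOf_dvd_of_pow_eq_one h1) ((_root_.orderOf_dvd_natCard _).trans h2)

open scoped Classical in
/-- **`ZJ` factorization under a coprime operator group.** -/
theorem sup_normalizer_thomY {p n : ℕ} [hp : Fact p.Prime] (hp5 : 5 ≤ p) (hn : n = 0 ∨ n = p)
    {G : Type u} [Group G] [Finite G] (hG : Cfsg.IsPConstrained p G) (S : Sylow p G)
    (A : Subgroup (MulAut G)) (hA : (Nat.card A).Coprime (Nat.card G)) (hpG : p ∣ Nat.card G)
    (C : Subgroup G) (hC : ∀ g : G, g ∈ C ↔ ∀ a ∈ A, a g = g)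
    (hfix : ¬ HasSection ↥C (L2 p)) :
    Cfsg.pPrimeCore p G ⊔ normalizer (thomY n (S : Subgroup G) : Set G) = ⊤ := by
  set K := Cfsg.pPrimeCore p G with hKdef
  haveI : K.Characteristic := HallCore.pPrimeCore_characteristic p G
  -- the induced operators on the quotient
  have hAK : ∀ a ∈ A, K.map (a : G ≃* G).toMonoidHom = K := fun a _ =>
    characteristic_iff_map_eq.mp inferInstance a
  let η : A →* MulAut (G ⧸ K) :=
    { toFun := fun a => QuotientGroup.congr K K (a : MulAut G) (hAK a a.2)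
      map_one' := MulEquiv.ext fun x => by
        obtain ⟨g, rfl⟩ := QuotientGroup.mk_surjective x; rfl
      map_mul' := fun a b => MulEquiv.ext fun x => by
        obtain ⟨g, rfl⟩ := QuotientGroup.mk_surjective x; rfl }
  set B := η.range with hBdef
  let Γ := (G ⧸ K) ⋊[B.subtype] B
  haveI : Finite Γ := Finite.of_equiv _ SemidirectProduct.equivProd.symm
  haveI : Finite (MulAut G) := Finite.of_injective (fun e : MulAut G => (e : G → G))
    DFunLike.coe_injective
  haveI : Finite (MulAut (G ⧸ K)) := Finite.of_injective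
    (fun e : MulAut (G ⧸ K) => (e : (G ⧸ K) → (G ⧸ K))) DFunLike.coe_injective
  let ι : G ⧸ K →* Γ := SemidirectProduct.inl
  let N : Subgroup Γ := ι.range
  let B' : Subgroup Γ := (SemidirectProduct.inr : B →* Γ).range
  have hcardB : Nat.card B ∣ Nat.card A := by rw [hBdef]; exact card_range_dvd η
  have hcardN : Nat.card N = Nat.card (G ⧸ K) :=
    Nat.card_congr (MonoidHom.ofInjective (SemidirectProduct.inl_injective)).toEquiv.symm
  have hcardB' : Nat.card B' = Nat.card B :=
    Nat.card_congr (MonoidHom.ofInjective (SemidirectProduct.inr_injective)).toEquiv.symm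
  have hcopB : (Nat.card (G ⧸ K)).Coprime (Nat.card B) :=
    (hA.symm.coprime_dvd_right hcardB).coprime_dvd_left (card_quotient_dvd_card K)
  have hpB : ¬ p ∣ Nat.card B := fun h => hp.out.ne_one
    (Nat.eq_one_of_dvd_coprimes hA (h.trans hcardB) hpG)
  haveI hNn : N.Normal := by
    show (SemidirectProduct.inl : G ⧸ K →* Γ).range.Normal
    rw [SemidirectProduct.range_inl_eq_ker_rightHom]
    infer_instance
  have hNB : N ⊔ B' = ⊤ := eq_top_iff.mpr fun x _ => by
    rw [← SemidirectProduct.inl_left_mul_inr_right x]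
    exact mul_mem_sup ⟨_, rfl⟩ ⟨_, rfl⟩
  have hAdm : Adm p Γ := by
    refine ⟨N, B', hNn, hNB, by rw [hcardN, hcardB']; exact hcopB, by rwa [hcardB'], fun hs => hfix ?_⟩
    -- fixed points lift
    have hle : N ⊓ centralizer (B' : Set Γ) ≤
        C.map (ι.comp (QuotientGroup.mk' K)) := by
      rintro _ ⟨⟨x, rfl⟩, hx⟩
      obtain ⟨g, rfl⟩ := QuotientGroup.mk'_surjective K x
      have hgfix : ∀ a ∈ A, g⁻¹ * a g ∈ K := by
        intro a ha
        rw [← QuotientGroup.eq]
        have h1 := mem_centralizer_iff.mp hx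
          (SemidirectProduct.inr (⟨η ⟨a, ha⟩, ⟨_, rfl⟩⟩ : B)) ⟨_, rfl⟩
        rw [← mul_inv_eq_iff_eq_mul, ← map_inv, ← SemidirectProduct.inl_aut] at h1
        exact (SemidirectProduct.inl_injective h1).symm
      -- a fixed point in the coset, in the holomorph
      let Δ := G ⋊[A.subtype] A
      haveI : Finite Δ := Finite.of_equiv _ SemidirectProduct.equivProd.symm
      let jG : G →* Δ := SemidirectProduct.inl
      let jA : A →* Δ := SemidirectProduct.inr
      have hjG : Function.Injective jG := SemidirectProduct.inl_injective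
      have hjA : Function.Injective jA := SemidirectProduct.inr_injective
      have hconj : ∀ (a : A) (u : G), jA a * jG u * (jA a)⁻¹ = jG ((a : MulAut G) u) := fun a u => by
        rw [← map_inv, ← SemidirectProduct.inl_aut]
        rfl
      have hnorm : jA.range ≤ normalizer ((K.map jG : Subgroup Δ) : Set Δ) := by
        refine CoprimeAction.le_normalizer_of_conj_mem ?_
        rintro _ ⟨a, rfl⟩ _ ⟨u, hu, rfl⟩
        refine ⟨(a : MulAut G) u, ?_, (hconj a u).symm⟩
        exact (hAK a a.2).le ⟨u, hu, rfl⟩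
      have hcK : (Nat.card jA.range).Coprime (Nat.card (K.map jG)) := by
        refine (hA.coprime_dvd_left (card_range_dvd jA)).coprime_dvd_right ?_
        exact (card_map_dvd K jG).trans (card_subgroup_dvd_card K)
      have hgn : jG g ∈ normalizer ((K.map jG : Subgroup Δ) : Set Δ) :=
        le_normalizer_map jG ⟨g, by rw [normalizer_eq_top_iff.mpr inferInstance]; trivial, rfl⟩
      obtain ⟨c, hc, hkc⟩ := CoprimeAction.exists_fixed_mem_coset_of_normal hnorm hcK
        (solvable_or hcK.symm) hgn (by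
          rintro _ ⟨a, rfl⟩
          rw [hconj, ← map_inv, ← map_mul]
          refine mem_map_of_mem jG ?_
          have := (inferInstance : K.Normal).conj_mem _ (hgfix a a.2) g
          simpa [mul_assoc] using this)
      obtain ⟨k, hk, hkc⟩ := hkc
      have hc' : c = jG (g * k) := by rw [map_mul, hkc, mul_inv_cancel_left]
      refine ⟨g * k, (hC _).mpr fun a ha => hjG ?_, ?_⟩
      · rw [← hconj ⟨a, ha⟩, ← hc', mem_centralizer_iff.mp hc (jA ⟨a, ha⟩) ⟨_, rfl⟩,
          mul_inv_cancel_right]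
      · simp only [MonoidHom.comp_apply, map_mul, QuotientGroup.mk'_apply,
          (QuotientGroup.eq_one_iff k).mpr hk, map_one, mul_one]
    obtain ⟨H, ψ, hψ⟩ := hs
    refine hasSection_of_map C (ι.comp (QuotientGroup.mk' K))
      ⟨H.map (inclusion hle), ψ.comp
        (H.equivMapOfInjective _ (inclusion_injective hle)).symm.toMonoidHom, ?_⟩
    exact hψ.comp (H.equivMapOfInjective _ (inclusion_injective hle)).symm.surjective
  -- the `ZJ` theorem in the extension
  set π := QuotientGroup.mk' K with hπdef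
  have hπ : Function.Surjective π := QuotientGroup.mk'_surjective _
  set T := S.mapSurjective hπ with hTdef
  have hsyl : ∃ T' : Sylow p Γ, (T' : Subgroup Γ) = (T : Subgroup (G ⧸ K)).map ι := by
    refine ⟨Sylow.ofCard ((T : Subgroup (G ⧸ K)).map ι) ?_, rfl⟩
    rw [card_map_of_injective SemidirectProduct.inl_injective, T.card_eq_multiplicity,
      SemidirectProduct.card, Nat.factorization_mul Nat.card_pos.ne' Nat.card_pos.ne',
      Finsupp.add_apply, Nat.factorization_eq_zero_of_not_dvd hpB, add_zero]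
  obtain ⟨T', hT'⟩ := hsyl
  have hQbar := PConstrained.centralizer_pCore_quotient_le hG
  haveI hQn := HallCore.pCore_normal p (G ⧸ K)
  have hcΓ : centralizer (Cfsg.pCore p Γ : Set Γ) ≤ Cfsg.pCore p Γ := by
    haveI := hNn
    refine centralizer_pCore_le hNB (by rw [hcardN, hcardB']; exact hcopB) (by rwa [hcardB']) ?_ ?_
    · rw [eq_bot_iff]
      rintro _ ⟨⟨b, rfl⟩, hb⟩
      rw [mem_bot]
      have : b = 1 := Subtype.ext (MulEquiv.ext fun z => SemidirectProduct.inl_injective (φ := B.subtype) (by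
        have h1 := mem_centralizer_iff.mp hb (ι z) ⟨z, rfl⟩
        rw [show ((b : MulAut (G ⧸ K)) z) = B.subtype b z from rfl, SemidirectProduct.inl_aut, ← h1,
          map_inv, mul_inv_cancel_right]
        rfl))
      rw [this, map_one]
    · let e : (G ⧸ K) ≃* N := MonoidHom.ofInjective (SemidirectProduct.inl_injective)
      intro y hy
      obtain ⟨z, rfl⟩ := e.surjective y
      rw [← HallCore.map_equiv_pCore e] at hy ⊢
      refine mem_map_of_mem _ (hQbar (mem_centralizer_iff.mpr fun q hq => e.injective ?_))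
      rw [map_mul, map_mul]
      exact mem_centralizer_iff.mp hy (e q) (mem_map_of_mem _ hq)
  have hnorm := thomY_normal (n := n) (by omega) hn
    (fun B hBn hBp => @isPStableOn p _ hp5 Γ _ _ hAdm B hBn hBp) hcΓ T' (T' : Subgroup Γ)
    ⟨le_rfl, fun _ _ _ h => h⟩
  rw [hT', thomY_map SemidirectProduct.inl_injective] at hnorm
  have hnorm' : (thomY n (T : Subgroup (G ⧸ K))).Normal := by
    have := hnorm.comap ι
    rwa [comap_map_eq_self_of_injective SemidirectProduct.inl_injective] at this
  rw [hTdef, Sylow.coe_mapSurjective] at hnorm'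
  have hKp : (Nat.card π.ker).Coprime p := by
    rw [hπdef, QuotientGroup.ker_mk']
    exact HallCore.coprime_card_pPrimeCore p G
  rw [thomY_map_of_injOn _ (GlaubermanQuotient.injOn_of_coprime S.isPGroup' hKp)] at hnorm'
  have := GlaubermanQuotient.sup_normalizer_eq_top hKp
    (S.isPGroup'.to_le (thomY_le _)) hnorm'
  rwa [hπdef, QuotientGroup.ker_mk'] at this

end Cfsg.Agent.CoprimeSL2Stable20
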