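import Mathlib

/-! The core in a subgroup `M` of a subgroup `Y`, and iterated cores of a pair exchanged by an involution. -/

set_option autoImplicit false

namespace Cfsg.Agent.CoreLengthGroup40

variable {G : Type*} [Group G]

/-- the largest normal subgroup of `M` contained in `Y` -/
def core (M Y : Subgroup G) : Subgroup G := (Y.subgroupOf M).normalCore.map M.subtype

theorem mem_core {M Y : Subgroup G} {x : G} :
    x ∈ core M Y ↔ x ∈ M ∧ ∀ m ∈ M, m * x * m⁻¹ ∈ Y := by
  constructor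
  · rintro ⟨⟨a, ha⟩, h, rfl⟩
    exact ⟨ha, fun m hm => h ⟨m, hm⟩⟩
  · rintro ⟨hx, h⟩
    exact ⟨⟨x, hx⟩, fun m => h m m.2, rfl⟩

theorem core_le_left (M Y : Subgroup G) : core M Y ≤ M := fun _ h => (mem_core.1 h).1

theorem core_le_right (M Y : Subgroup G) : core M Y ≤ Y := fun x h => by
  simpa using (mem_core.1 h).2 1 (one_mem M)

theorem core_conj {M Y : Subgroup G} {x m : G} (hx : x ∈ core M Y) (hm : m ∈ M) :
    m * x * m⁻¹ ∈ core M Y := by
  obtain ⟨h1, h2⟩ := mem_core.1 hx
  refine mem_core.2 ⟨mul_mem (mul_mem hm h1) (inv_mem hm), fun n hn => ?_⟩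
  have := h2 (n * m) (mul_mem hn hm)
  simpa [mul_assoc] using this

theorem le_core {M Y X : Subgroup G} (h1 : X ≤ M) (h2 : X ≤ Y)
    (h3 : ∀ m ∈ M, ∀ x ∈ X, m * x * m⁻¹ ∈ X) : X ≤ core M Y :=
  fun x hx => mem_core.2 ⟨h1 hx, fun m hm => h2 (h3 m hm x hx)⟩

theorem core_map (e : G ≃* G) (M Y : Subgroup G) :
    (core M Y).map e.toMonoidHom = core (M.map e.toMonoidHom) (Y.map e.toMonoidHom) := by
  ext x
  simp only [Subgroup.mem_map_equiv, mem_core]
  refine and_congr_right fun _ => ⟨fun h m hm => ?_, fun h m hm => ?_⟩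
  · simpa using h (e.symm m) hm
  · simpa using h (e m) (by simpa using hm)

/-- iterated cores of `M` and its conjugate under `g` -/
def iter (M : Subgroup G) (g : G) : ℕ → Subgroup G
  | 0 => M
  | i + 1 => core M (iter M g i ⊓ (iter M g i).map (MulAut.conj g).toMonoidHom)

theorem iter_le (M : Subgroup G) (g : G) : ∀ i, iter M g i ≤ M
  | 0 => le_rfl
  | _ + 1 => core_le_left _ _

theorem iter_conj (M : Subgroup G) (g : G) {x m : G} :
    ∀ i, x ∈ iter M g i → m ∈ M → m * x * m⁻¹ ∈ iter M g i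
  | 0, hx, hm => mul_mem (mul_mem hm hx) (inv_mem hm)
  | _ + 1, hx, hm => core_conj hx hm

theorem iter_step (M : Subgroup G) {g : G} {x : G} {i : ℕ} (hx : x ∈ iter M g (i + 1)) :
    x ∈ iter M g i ∧ g⁻¹ * x * g ∈ iter M g i := by
  have h := core_le_right _ _ hx
  rw [Subgroup.mem_inf, Subgroup.mem_map_equiv, MulAut.conj_symm_apply] at h
  exact h

theorem map_conj_sq {g : G} (hg : g * g = 1) (Y : Subgroup G) :
    (Y.map (MulAut.conj g).toMonoidHom).map (MulAut.conj g).toMonoidHom = Y := by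
  ext x
  simp only [Subgroup.mem_map_equiv, MulAut.conj_symm_apply]
  rw [show g⁻¹ * (g⁻¹ * x * g) * g = (g * g)⁻¹ * x * (g * g) by group, hg]
  simp

theorem iter_conj_rec (M : Subgroup G) {g : G} (hg : g * g = 1) (i : ℕ) :
    (iter M g (i + 1)).map (MulAut.conj g).toMonoidHom =
      core (M.map (MulAut.conj g).toMonoidHom)
        (iter M g i ⊓ (iter M g i).map (MulAut.conj g).toMonoidHom) := by
  rw [iter, core_map]
  congr 1
  rw [Subgroup.map_inf _ _ _ (MulAut.conj g).injective, map_conj_sq hg, inf_comm]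

end Cfsg.Agent.CoreLengthGroup40
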