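import Cfsg.Agent.Lib.ChevalleyParabolicBN
import Cfsg.Agent.Lib.ChevRadicalCentralizer
import Cfsg.Agent.Lib.CoreLengthGroup40

/-! Root-set bounds for iterated cores of parabolic subgroups over the field with two elements. -/

set_option autoImplicit false
set_option linter.unusedSectionVars false

namespace Cfsg.Agent.CoreLengthChev40

open Cfsg.Lie Cfsg.Agent.ChevalleyEngine Cfsg.Agent.ChevalleyCert Cfsg.Agent.ChevalleyRoots
  Cfsg.Agent.ChevalleyCore Cfsg.Agent.ChevalleyUnipotent Cfsg.Agent.ChevBruhat

abbrev F2 := ZMod 2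

/-- the commutator of two root elements has a single term with odd coefficient -/
def oneTerm (D : ChevalleyDatum) (r s : ℕ) : Option ℕ :=
  match D.commTerms r s with
  | [(m, c, _, _)] => if c % 2 = 1 then some m else none
  | _ => none

/-- every chain in the table has length at most one -/
def shortChains (D : ChevalleyDatum) : Bool :=
  (List.range D.nroots).all fun r => (D.chain.getD r #[]).toList.all fun e => e.2.toList.length ≤ 1

/-- adding `r` keeps the root set `T` -/
def closedRow (D : ChevalleyDatum) (T r : ℕ) : Bool :=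
  (D.chain.getD r #[]).toList.all fun e => !T.testBit e.1 || e.2.toList.all fun q => T.testBit q.1

/-- the root set `T` is normal in the root set `P` -/
def normalCheck (D : ChevalleyDatum) (P T : ℕ) : Bool :=
  (List.range D.nroots).all fun r => !P.testBit r || T.testBit r ||
    (closedRow D T r && !T.testBit (D.neg r))

variable {D : ChevalleyDatum} (C : Cert D)

theorem two_cases (t : F2) : t = 0 ∨ t = 1 := by
  revert t; decide

theorem eta_one (i s : ℕ) : (C.eta i s : F2) = 1 :=
  (two_cases _).resolve_left (eta_cast_ne C i s)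

theorem xg_inv_self (r : ℕ) : (xg C r (1 : F2))⁻¹ = xg C r 1 := by
  rw [xg_inv]; rfl

theorem xg_sq (r : ℕ) : xg C r (1 : F2) * xg C r 1 = 1 := by
  conv_lhs => arg 1; rw [← xg_inv_self C r]
  exact inv_mul_cancel _

theorem xg_sq_mul (r : ℕ) (y : GL D.Idx F2) : xg C r (1 : F2) * (xg C r 1 * y) = y := by
  rw [← mul_assoc, xg_sq, one_mul]

theorem ng_sq (r : ℕ) : ng C r (1 : F2) * ng C r 1 = 1 := by
  have h : (ng C r (1 : F2))⁻¹ = ng C r 1 := by rw [ng_inv]; rfl
  conv_lhs => arg 1; rw [← h]
  exact inv_mul_cancel _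

include C in
theorem H_bot : D.diagonalSubgroup F2 = ⊥ := by
  rw [ChevalleyDatum.diagonalSubgroup, Subgroup.closure_eq_bot_iff]
  rintro g ⟨r, t, -, ht, hgm⟩
  rw [(two_cases t).resolve_left ht] at hgm
  rw [Set.mem_singleton_iff]
  have : g = hg C r 1 := Units.ext (hgm.trans (coe_hg C r 1).symm)
  rw [this, ChevalleyCore.hg]
  exact ng_sq C r

theorem refl_conj {i s u : ℕ} (hi : i < D.rank) (hs : s < D.nroots) (hu : D.reflectRoot i s = u) :
    ng C (D.simple i) (1 : F2) * xg C s 1 * (ng C (D.simple i) 1)⁻¹ = xg C u 1 := by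
  rw [ng_simple_conj C hi hs, eta_one, one_mul, hu]

/-- the commutator relation with one term -/
theorem comm_one {r s m : ℕ} (hr : r < D.nroots) (hs : s < D.nroots) (h1 : s ≠ r) (h2 : s ≠ D.neg r)
    (h : oneTerm D r s = some m) :
    xg C s (1 : F2) * xg C r 1 = xg C r 1 * xg C s 1 * xg C m 1 := by
  rw [comm_formula C hr hs h1 h2]
  congr 1
  rw [oneTerm] at h
  split at h
  · rename_i m' c a b he
    split at h
    · rename_i hc
      cases h
      have hc' : (c : F2) = 1 := by
        have e : c = c % 2 + 2 * (c / 2) := (Int.emod_add_mul_ediv c 2).symm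
        rw [e, hc]
        push_cast
        rw [show (2 : F2) = 0 from rfl, zero_mul, add_zero]
      simp [wg, ChevalleyDatum.commWord, he, hc']
    · cases h
  · cases h

/-- the subgroup generated by the root elements of a root set -/
def rootSpan (T : ℕ) : Subgroup (GL D.Idx F2) :=
  Subgroup.closure {g | ∃ r, r < D.nroots ∧ T.testBit r ∧ g = xg C r 1}

theorem mem_rootSpan {T r : ℕ} (hr : r < D.nroots) (h : T.testBit r) : xg C r (1 : F2) ∈ rootSpan C T :=
  Subgroup.subset_closure ⟨r, hr, h, rfl⟩

theorem rootSpan_le_group (T : ℕ) : rootSpan C T ≤ D.group F2 :=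
  (Subgroup.closure_le _).2 (by rintro g ⟨r, -, -, rfl⟩; exact xg_mem_group C r 1)

theorem parabolic_eq_span {J : Set ℕ} {P : ℕ}
    (hP : ∀ r < D.nroots, P.testBit r ↔ (D.IsPosRoot r ∨ D.InRootSub J r)) :
    D.parabolicSubgroup F2 J = rootSpan C P := by
  rw [ChevalleyParabolic.parabolic_eq C, H_bot C, bot_sup_eq]
  refine le_antisymm ((Subgroup.closure_le _).2 ?_) ((Subgroup.closure_le _).2 ?_)
  · rintro g ⟨r, t, h, hg⟩
    obtain rfl := (xg_eq_iff C).1 hg
    have hr : r < D.nroots := by rcases h with h | h <;> exact h.1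
    rcases two_cases t with rfl | rfl
    · rw [xg_zero]; exact one_mem _
    · exact mem_rootSpan C hr ((hP r hr).2 h)
  · rintro g ⟨r, hr, h, rfl⟩
    exact Subgroup.subset_closure ⟨r, 1, (hP r hr).1 h, coe_xg C r 1⟩

theorem chain_entry_mem {r s : ℕ} {q : ℕ × ℤ} (hq : q ∈ D.chainEntry r s) :
    ∃ e ∈ (D.chain.getD r #[]).toList, e.1 = s ∧ q ∈ e.2.toList := by
  rw [ChevalleyDatum.chainEntry] at hq
  split at hq
  · simp at hq
  · rename_i e he
    exact ⟨e, List.mem_of_find?_eq_some he, by simpa using List.find?_some he, hq⟩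

include C in
theorem short_none (hsh : shortChains D = true) {r : ℕ} (hr : r < D.nroots) (s k : ℕ) (hk : 2 ≤ k) :
    D.chainRoot r s k = none := by
  rw [ChevalleyDatum.chainRoot, Option.map_eq_none_iff, List.getElem?_eq_none]
  by_contra h
  rw [shortChains, List.all_eq_true] at hsh
  have h' := hsh r (List.mem_range.2 hr)
  rw [List.all_eq_true] at h'
  rw [ChevalleyDatum.chainEntry] at h
  split at h
  · simp at h
  · rename_i e he
    have := h' e (List.mem_of_find?_eq_some he)
    simp only [decide_eq_true_eq] at this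
    omega

theorem span_normal (hsh : shortChains D = true) {P T : ℕ} (hn : normalCheck D P T = true)
    {m x : GL D.Idx F2} (hm : m ∈ rootSpan C P) (hx : x ∈ rootSpan C T) :
    m * x * m⁻¹ ∈ rootSpan C T := by
  suffices rootSpan C P ≤ Subgroup.normalizer (rootSpan C T : Set (GL D.Idx F2)) from
    (Subgroup.mem_normalizer_iff.1 (this hm) x).1 hx
  refine (Subgroup.closure_le _).2 ?_
  rintro g ⟨r, hr, hP, rfl⟩
  have key : ∀ y ∈ rootSpan C T, xg C r (1 : F2) * y * (xg C r 1)⁻¹ ∈ rootSpan C T := by
    intro y hy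
    refine Sys.conj_closure_le _ ?_ hy
    rintro z ⟨s, hs, hT, rfl⟩
    rw [normalCheck, List.all_eq_true] at hn
    have h := hn r (List.mem_range.2 hr)
    simp only [hP, Bool.not_true, Bool.false_or, Bool.or_eq_true, Bool.and_eq_true,
      Bool.not_eq_true'] at h
    rcases h with h | ⟨h, hneg⟩
    · exact mul_mem (mul_mem (mem_rootSpan C hr h) (mem_rootSpan C hs hT)) (inv_mem (mem_rootSpan C hr h))
    by_cases h1 : s = r
    · subst h1
      simpa using mem_rootSpan C hs hT
    have h2 : s ≠ D.neg r := by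
      rintro rfl
      rw [hT] at hneg
      exact Bool.noConfusion hneg
    rw [xg_inv_self, mul_assoc, comm_formula C hr hs h1 h2, ← mul_assoc, ← mul_assoc, xg_sq, one_mul]
    refine mul_mem (mem_rootSpan C hs hT) (Subgroup.list_prod_mem _ ?_)
    intro w hw
    simp only [ChevalleyDatum.commWord, List.map_map, List.mem_map, Function.comp] at hw
    obtain ⟨c, hc, rfl⟩ := hw
    have hlt := (commTerms_mem C hr hs hc).1
    have hmem : T.testBit c.1 := by
      simp only [ChevalleyDatum.commTerms, List.mem_filterMap, List.mem_cons, List.not_mem_nil, or_false,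
        Option.map_eq_some_iff] at hc
      obtain ⟨d, hd, k, hk, rfl⟩ := hc
      rcases hd with rfl | rfl | rfl | rfl | rfl | rfl | rfl
      · obtain ⟨q, hq, rfl⟩ := Option.map_eq_some_iff.1 hk
        obtain ⟨e, he, hes, hqe⟩ := chain_entry_mem (List.mem_of_getElem? hq)
        rw [closedRow, List.all_eq_true] at h
        have h' := h e he
        rw [hes, hT] at h'
        simp only [Bool.not_true, Bool.false_or, List.all_eq_true] at h'
        exact h' q hqe
      all_goals simp [short_none C hsh hr, short_none C hsh hs] at hk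
    generalize ((c.2.1 : F2) * (-1) ^ c.2.2.1 * 1 ^ c.2.2.2) = t
    rcases two_cases t with rfl | rfl
    · rw [xg_zero]; exact one_mem _
    · exact mem_rootSpan C hlt hmem
  rw [SetLike.mem_coe, Subgroup.mem_normalizer_iff]
  refine fun y => ⟨key y, fun hy => ?_⟩
  have := key _ hy
  simpa [xg_inv_self, mul_assoc, xg_sq, xg_sq_mul] using this

/-- `U` normalises each term of the filtration -/
theorem uGe_normal {j k : ℕ} {v z : GL D.Idx F2} (hv : v ∈ uGe C (F := F2) k) (hz : z ∈ uGe C (F := F2) j) :
    v * z * v⁻¹ ∈ uGe C (F := F2) j := by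
  have gen : ∀ r, D.nroots / 2 ≤ r → r < D.nroots → ∀ t : F2, ∀ z ∈ uGe C (F := F2) j,
      xg C r t * z * (xg C r t)⁻¹ ∈ uGe C (F := F2) j := by
    intro r hr hr' t z hz
    refine Sys.conj_closure_le _ ?_ hz
    rintro y ⟨q, d, h1, h2, h3, rfl⟩
    by_cases he : q = r
    · subst he
      rw [xg_inv, xg_mul, xg_mul, add_neg_cancel_comm]
      exact xg_mem_uGe C h1 h2 h3 d
    obtain ⟨w, hw, e⟩ := comm_higher C hr hr' h2 h3 he (-t) d
    rw [xg_inv, mul_assoc, e, ← mul_assoc, ← mul_assoc, xg_mul, add_neg_cancel, xg_zero, one_mul]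
    exact mul_mem (xg_mem_uGe C h1 h2 h3 d) (uGe_mono C (by omega) hw)
  induction hv using Subgroup.closure_induction'' generalizing z with
  | mem x hx => obtain ⟨r, t, -, h2, h3, rfl⟩ := hx; exact gen r h2 h3 t z hz
  | inv_mem x hx => obtain ⟨r, t, -, h2, h3, rfl⟩ := hx; rw [xg_inv]; exact gen r h2 h3 (-t) z hz
  | one => simpa using hz
  | mul a b _ _ ha hb => simpa [mul_assoc] using ha (hb hz)

/-- conjugation by `x_a` moves the roots above `k` above `m = a + k` -/
theorem comm_uGe {a k m : ℕ} (ha : D.nroots / 2 ≤ a) (ha' : a < D.nroots) (hk' : k < D.nroots)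
    (hmn : m < D.nroots) (hm : key C m = key C a + key C k) {v : GL D.Idx F2} (hv : v ∈ uGe C (F := F2) (k + 1)) :
    xg C a 1 * v * xg C a 1 * v⁻¹ ∈ uGe C (F := F2) (m + 1) := by
  have one : ∀ s, k + 1 ≤ s → D.nroots / 2 ≤ s → s < D.nroots → ∀ t : F2,
      xg C a 1 * xg C s t * xg C a 1 * (xg C s t)⁻¹ ∈ uGe C (F := F2) (m + 1) := by
    intro s h1 h2 h3 t
    by_cases he : s = a
    · subst he
      rw [xg_mul, xg_mul, xg_inv, xg_mul, show (1 : F2) + t + 1 + -t = 0 by revert t; decide, xg_zero]
      exact one_mem _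
    have hne : s ≠ D.neg a := by have := C.neg_eq a ha'; have := C.even; omega
    rw [mul_assoc (xg C a 1), comm_formula C ha' h3 he hne, ← mul_assoc, ← mul_assoc, xg_sq, one_mul]
    refine uGe_normal C (xg_mem_uGe C le_rfl h2 h3 t) (Subgroup.list_prod_mem _ ?_)
    intro w hw
    simp only [ChevalleyDatum.commWord, List.map_map, List.mem_map, Function.comp] at hw
    obtain ⟨c, hc, rfl⟩ := hw
    obtain ⟨c1, c2, c3, -⟩ := commTerms_mem C ha' h3 hc
    have hkc := key_commTerm C ha' h3 hc
    have pa := (key_pos C ha').2 ha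
    have ps := (key_pos C h3).2 h2
    have hsk := key_lt C h3 (show k < s by omega)
    have i1 : (1 : ℤ) ≤ c.2.2.1 := by exact_mod_cast c2
    have j1 : (1 : ℤ) ≤ c.2.2.2 := by exact_mod_cast c3
    have g1 : key C m < key C c.1 := by rw [hkc, hm]; nlinarith
    have g2 : 0 < key C c.1 := by rw [hkc]; nlinarith
    have hmc : m < c.1 := by
      rcases Nat.lt_trichotomy m c.1 with h | h | h
      · exact h
      · rw [h] at g1; omega
      · have := key_lt C hmn h; omega
    exact xg_mem_uGe C hmc ((key_pos C c1).1 g2) c1 _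
  induction hv using Subgroup.closure_induction'' with
  | mem x hx => obtain ⟨r, t, h1, h2, h3, rfl⟩ := hx; exact one r h1 h2 h3 t
  | inv_mem x hx =>
    obtain ⟨r, t, h1, h2, h3, rfl⟩ := hx
    rw [xg_inv]
    exact one r h1 h2 h3 (-t)
  | one => simp [xg_sq]
  | mul u w hu _ ihu ihw =>
    have e : xg C a 1 * (u * w) * xg C a 1 * (u * w)⁻¹ =
        (xg C a 1 * u * xg C a 1 * u⁻¹) * (u * (xg C a 1 * w * xg C a 1 * w⁻¹) * u⁻¹) := by
      simp [mul_assoc, xg_sq_mul]
    rw [e]
    exact mul_mem ihu (uGe_normal C hu ihw)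

/-- every positive root below the highest one can be raised by a fundamental root in `P` -/
def raiseCheck (D : ChevalleyDatum) (P : ℕ) : Bool :=
  (List.range' (D.nroots / 2) (D.nroots - D.nroots / 2 - 1)).all fun k => (List.range D.rank).any fun j =>
    P.testBit (D.simple j) && ((D.chainEntry (D.simple j) k).head?.any fun q =>
      oneTerm D (D.simple j) k == some q.1)

/-- a nontrivial subgroup of `U` normalised by the root elements of `P` contains the top root element -/
theorem top_mem {P : ℕ} (hr : raiseCheck D P = true) {N : Subgroup (GL D.Idx F2)}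
    (hN : ∀ r, r < D.nroots → P.testBit r → ∀ z ∈ N, xg C r 1 * z * xg C r 1 ∈ N) :
    ∀ n k, k + n = D.nroots → D.nroots / 2 ≤ k → ∀ z ∈ N, z ∈ uGe C (F := F2) k → z ≠ 1 →
      xg C (D.nroots - 1) (1 : F2) ∈ N := by
  intro n
  induction n using Nat.strong_induction_on with
  | _ n ih =>
    intro k hn hk z hzN hz hne
    by_cases hk' : k < D.nroots
    swap
    · rw [uGe_top C (by omega), Subgroup.mem_bot] at hz
      exact absurd hz hne
    obtain ⟨t, v, hv, rfl⟩ := uGe_split C hk hk' hz
    rcases two_cases t with rfl | rfl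
    · rw [xg_zero, one_mul] at hzN hne
      exact ih (n - 1) (by omega) (k + 1) (by omega) (by omega) v hzN hv hne
    by_cases htop : k + 1 = D.nroots
    · rw [uGe_top C (by omega), Subgroup.mem_bot] at hv
      rw [hv, mul_one] at hzN
      rw [show D.nroots - 1 = k by omega]
      exact hzN
    rw [raiseCheck, List.all_eq_true] at hr
    have h := hr k (List.mem_range'_1.2 ⟨hk, by omega⟩)
    simp only [List.any_eq_true, List.mem_range, Bool.and_eq_true, Option.any_eq_true, beq_iff_eq] at h
    obtain ⟨j, hj, hjP, q, hq, hone⟩ := h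
    obtain ⟨ha, ha'⟩ := C.simple_mem j hj
    set a := D.simple j
    set m := q.1
    have hroot : D.chainRoot a k 1 = some m := by
      rw [ChevalleyDatum.chainRoot, show 1 - 1 = 0 from rfl, ← List.head?_eq_getElem?, hq]; rfl
    obtain ⟨hm', hcoef⟩ := chainRoot_coef C ha' le_rfl hroot
    have hkey : key C m = key C a + key C k := by
      have := key_lin C (r := a) (s := k) (k := m) 1 1 (fun l hl => by rw [hcoef l hl]; push_cast; ring)
      linarith
    have pa := (key_pos C ha').2 ha
    have hkm : k < m := by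
      rcases Nat.lt_trichotomy k m with h | h | h
      · exact h
      · rw [← h] at hkey; omega
      · have := key_lt C hk' h; omega
    have hka : k ≠ a := fun h => by
      rw [h] at hq
      rw [entry_self C ha'] at hq
      simp at hq
    have hkn : k ≠ D.neg a := by have := C.neg_eq a ha'; have := C.even; omega
    have hc := comm_one C ha' hk' hka hkn hone
    set e := xg C a (1 : F2) * v * xg C a 1 * v⁻¹ with he
    have heq : xg C a (1 : F2) * (xg C k 1 * v) * xg C a 1 * (xg C k 1 * v)⁻¹ =
        xg C k 1 * (xg C m 1 * e) * (xg C k 1)⁻¹ := by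
      have h1 : xg C k (1 : F2) * xg C m 1 = xg C a 1 * xg C k 1 * xg C a 1 := by
        rw [mul_assoc (xg C a 1), hc, ← mul_assoc, ← mul_assoc, xg_sq, one_mul]
      rw [← mul_assoc (xg C k 1) (xg C m 1), h1, he]
      simp [mul_assoc, xg_sq_mul]
    have heu : e ∈ uGe C (F := F2) (m + 1) := comm_uGe C ha ha' hk' hm' hkey hv
    refine ih (D.nroots - m) (by omega) m (by omega) (by omega) _
      (mul_mem (hN a ha' hjP _ hzN) (inv_mem hzN)) ?_ ?_
    · rw [heq]
      exact uGe_normal C (xg_mem_uGe C le_rfl hk hk' 1)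
        (mul_mem (xg_mem_uGe C le_rfl (by omega) hm' 1) (uGe_mono C (by omega) heu))
    · rw [heq]
      intro h1
      rw [conj_eq_one_iff] at h1
      have := coeff_unique C (show D.nroots / 2 ≤ m by omega) hm' heu (one_mem _) (t := (1 : F2)) (t' := 0)
        (by rw [h1, xg_zero, mul_one])
      exact one_ne_zero this.1

end Cfsg.Agent.CoreLengthChev40
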