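import Cfsg.Agent.Lib.CoreLengthChev40
import Cfsg.Prelude.Def_ChevE8

/-!
Root sets of the iterated cores for the parabolic subgroup of `E₈` at the branch node: the sets are
given as bit masks over the 240 root indices.
-/

set_option autoImplicit false

namespace Cfsg.Agent.CoreLengthE8Data40

open Cfsg.Lie Cfsg.Agent.CoreLengthChev40

/-- the roots of the `i`-th core -/
def mask : ℕ → ℕ
  | 0 => 1766847064778384329583297500742918515826206421983465633533425641607659520
  | 1 => 1766847064778384329559358098214447555203468015082582364461661480707686400
  | 2 => 1766847064778359221176355954019863172669791066209954548699828345154568192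
  | 3 => 1766847038450311412444000826263411594909875817151845107984328387714875392
  | 4 => 1763477071444990499608964123857041061993279253822801386561468250011467776
  | 5 => 1711633094004059819283819453844702312207875025098255865680306007502225408
  | _ => 0

theorem short : shortChains chevE8 = true := by decide +kernel

theorem raise : raiseCheck chevE8 (mask 0) = true := by decide +kernel

theorem normal : ∀ i < 5, normalCheck chevE8 (mask 0) (mask (i + 1)) = true := by decide +kernel

theorem step : ∀ i < 5, ∀ r < 240, (mask (i + 1)).testBit r = true →
    (mask i).testBit r = true ∧ (mask i).testBit (chevE8.reflectRoot 3 r) = true := by decide +kernel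

theorem parabolic_roots : ∀ r < 240, (mask 0).testBit r = true ↔
    (120 ≤ r ∨ (chevE8.coroot.getD r #[]).getD 3 0 = 0) := by decide +kernel

theorem top : (mask 5).testBit 239 = true := by decide +kernel

/-- an entry of the derivation: `x_s ∈ P` moves `x_r` to `x_u` -/
def commStep (r s u : ℕ) : Bool :=
  decide (r < 240) && decide (s < 240) && (mask 0).testBit s && decide (r ≠ s) &&
    decide (r ≠ chevE8.neg s) && (oneTerm chevE8 s r == some u)

end Cfsg.Agent.CoreLengthE8Data40
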