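import Mathlib
import Cfsg.Prelude.Def_Balance
import Cfsg.Agent.Lib.BalanceComponents
import Cfsg.Agent.Lib.SignalizerBasic
import Cfsg.Agent.Lib.CoprimeFixedGen56
import Cfsg.Agent.Lib.ComponentsP

/-! The signalizer functor of a core-separated pair of four-groups. -/

set_option autoImplicit false
set_option linter.style.haveILetI false
set_option linter.unusedSectionVars false

open Cfsg Subgroup
open scoped commutatorElement

namespace Cfsg.Agent.CoreSep67

open Cfsg.Agent.ComponentsBasic Cfsg.Agent.ComponentsCores Cfsg.Agent.LayerBalance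
open Cfsg.Agent.ComponentBalance Cfsg.Agent.BalanceComponents

section H

variable {H : Type*} [Group H] [Finite H]

theorem cppc_one (hO : pPrimeCore 2 H = ⊥) : centralizerPPrimeCore 2 (1 : H) = ⊥ := by
  haveI : (centralizerPPrimeCore 2 (1 : H)).Normal := by
    rw [← normalizer_eq_top_iff, eq_top_iff]
    intro g _
    refine centralizer_le_normalizer_cppc ?_
    rw [mem_centralizer_singleton_iff]; simp
  exact le_bot_iff.mp (hO ▸ le_pPrimeCore' coprime_card_cppc)

variable {a d f : H}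

theorem mem_normalizer_of_core (hO : pPrimeCore 2 H = ⊥) (ha : a ^ 2 = 1)
    (hd : d ∈ centralizerPPrimeCore 2 a) {L : Subgroup H} (hL : IsComponent L) :
    d ∈ normalizer (L : Set H) := by
  by_cases ha1 : a = 1
  · subst ha1; rw [cppc_one hO, mem_bot] at hd; exact hd ▸ one_mem _
  · exact cppc_le_normalizer (orderOf_eq_prime ha ha1) hO hL hd

theorem mem_centralizer_of_core (hO : pPrimeCore 2 H = ⊥) (ha : a ^ 2 = 1)
    (hd : d ∈ centralizerPPrimeCore 2 a) {L : Subgroup H} (hL : IsComponent L)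
    (haL : a ∈ centralizer (L : Set H)) : d ∈ centralizer (L : Set H) := by
  by_cases ha1 : a = 1
  · subst ha1; rw [cppc_one hO, mem_bot] at hd; exact hd ▸ one_mem _
  · refine component_centralized (orderOf_eq_prime ha ha1) hO hL ?_ hd
    have h0 : ⁅L, zpowers a⁆ = ⊥ := by
      rw [commutator_eq_bot_iff_le_centralizer]
      exact le_centralizer_iff.mp (zpowers_le.mpr haL)
    rw [h0]; exact (IsComponent.ne_bot hL).symm

theorem eq_one_of_core (hO : pPrimeCore 2 H = ⊥) (ha : a ^ 2 = 1)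
    (hd : d ∈ centralizerPPrimeCore 2 a)
    (h : ∀ L : Subgroup H, IsComponent L → d ∈ centralizer (L : Set H)) : d = 1 := by
  by_cases ha1 : a = 1
  · subst ha1; rw [cppc_one hO, mem_bot] at hd; exact hd
  · have h0 := eq_bot_of_centralizes_components hO (orderOf_eq_prime ha ha1)
      (D := zpowers d) (zpowers_le.mpr hd) (fun L hL => zpowers_le.mpr (h L hL))
    exact (mem_bot).mp (h0 ▸ mem_zpowers d)

theorem comm_mem_core (hd : d ∈ centralizerPPrimeCore 2 a) (hf : f * a = a * f) :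
    d * f * d⁻¹ * f⁻¹ ∈ centralizerPPrimeCore 2 a := by
  have hfn := centralizer_le_normalizer_cppc (p := 2) (mem_centralizer_singleton_iff.mpr hf)
  have : d * f * d⁻¹ * f⁻¹ = d * (f * d⁻¹ * f⁻¹) := by group
  rw [this]
  exact mul_mem hd ((mem_normalizer_iff.mp hfn _).mp (inv_mem hd))

theorem comm_mem_centralizer_of_centralizes {L : Subgroup H} (hdN : d ∈ normalizer (L : Set H))
    (hf : f ∈ centralizer (L : Set H)) : d * f * d⁻¹ * f⁻¹ ∈ centralizer (L : Set H) :=
  mul_mem ((mem_normalizer_iff.mp (normalizer_le_normalizer_centralizer L hdN) f).mp hf) (inv_mem hf)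

/-- `[d,f]` centralises a component centralised by `a`, for `f` commuting with `a`. -/
theorem comm_mem_centralizer_of_fixed (hO : pPrimeCore 2 H = ⊥) (ha : a ^ 2 = 1)
    (hd : d ∈ centralizerPPrimeCore 2 a) (hf : f * a = a * f) {L : Subgroup H}
    (hL : IsComponent L) (haL : a ∈ centralizer (L : Set H)) :
    d * f * d⁻¹ * f⁻¹ ∈ centralizer (L : Set H) := by
  have hd1 := mem_centralizer_of_core hO ha hd hL haL
  have hd2 : f * d⁻¹ * f⁻¹ ∈ centralizer (L : Set H) :=
    mem_centralizer_of_core hO ha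
      ((mem_normalizer_iff.mp (centralizer_le_normalizer_cppc
        (mem_centralizer_singleton_iff.mpr hf)) _).mp (inv_mem hd)) hL haL
  have : d * f * d⁻¹ * f⁻¹ = d * (f * d⁻¹ * f⁻¹) := by group
  rw [this]
  exact mul_mem hd1 hd2

/-- `[d, g h]` centralises a component centralised by `h` when `g` commutes with `d` and `h`. -/
theorem comm_mem_centralizer_of_twist (hO : pPrimeCore 2 H = ⊥) (ha : a ^ 2 = 1)
    (hd : d ∈ centralizerPPrimeCore 2 a) {g h : H} (hgd : g * d = d * g) (hgh : g * h = h * g)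
    {L : Subgroup H} (hL : IsComponent L) (hh : h ∈ centralizer (L : Set H)) :
    d * (g * h) * d⁻¹ * (g * h)⁻¹ ∈ centralizer (L : Set H) := by
  set L' := L.map (MulAut.conj g⁻¹).toMonoidHom with hL'def
  have hL' : IsComponent L' := isComponent_map_mulEquiv _ hL
  have hh' : h ∈ centralizer (L' : Set H) := by
    rw [mem_centralizer_iff]
    rintro _ ⟨m, hm, rfl⟩
    show g⁻¹ * m * g⁻¹⁻¹ * h = h * (g⁻¹ * m * g⁻¹⁻¹)
    have h1 : m * h = h * m := mem_centralizer_iff.mp hh m hm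
    have h2 : g⁻¹ * h = h * g⁻¹ := (Commute.inv_left (a := g) (b := h) hgh).eq
    rw [inv_inv]
    calc g⁻¹ * m * g * h = g⁻¹ * m * (g * h) := by group
      _ = g⁻¹ * (m * h) * g := by rw [hgh]; group
      _ = (g⁻¹ * h) * m * g := by rw [h1]; group
      _ = h * (g⁻¹ * m * g) := by rw [h2]; group
  have hc := comm_mem_centralizer_of_centralizes (mem_normalizer_of_core hO ha hd hL') hh'
  have hdg : d * g = g * d := hgd.symm
  have he : d * (g * h) * d⁻¹ * (g * h)⁻¹ = g * (d * h * d⁻¹ * h⁻¹) * g⁻¹ := by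
    calc d * (g * h) * d⁻¹ * (g * h)⁻¹ = (d * g) * h * d⁻¹ * h⁻¹ * g⁻¹ := by group
      _ = (g * d) * h * d⁻¹ * h⁻¹ * g⁻¹ := by rw [hdg]
      _ = _ := by group
  rw [he, mem_centralizer_iff]
  intro m hm
  set c := d * h * d⁻¹ * h⁻¹
  have hm' : g⁻¹ * m * g ∈ L' := ⟨m, hm, by simp⟩
  have h3 := mem_centralizer_iff.mp hc _ hm'
  calc m * (g * c * g⁻¹) = g * ((g⁻¹ * m * g) * c) * g⁻¹ := by group
    _ = g * (c * (g⁻¹ * m * g)) * g⁻¹ := by rw [h3]
    _ = _ := by group

/-- A subgroup of odd order which a component normalises acts trivially on it. -/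
theorem mem_centralizer_of_normalised (hO : pPrimeCore 2 H = ⊥) {L R : Subgroup H}
    (hL : IsComponent L) (hR : (Nat.card R).Coprime 2) (hLR : L ≤ normalizer (R : Set H))
    (hd : d ∈ R) (hdN : d ∈ normalizer (L : Set H)) : d ∈ centralizer (L : Set H) := by
  refine mem_centralizer_of_central_action (IsComponent.perfect hL) hdN fun m hm => ?_
  set z := d * m * d⁻¹ * m⁻¹
  have hzL : z ∈ L := mul_mem ((mem_normalizer_iff.mp hdN m).mp hm) (inv_mem hm)
  have hzR : z ∈ R := by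
    have : z = d * (m * d⁻¹ * m⁻¹) := by simp only [z]; group
    rw [this]
    exact mul_mem hd ((mem_normalizer_iff.mp (hLR hm) _).mp (inv_mem hd))
  haveI hn : (R.subgroupOf L).Normal :=
    ⟨fun s hs l => (mem_normalizer_iff.mp (hLR l.2) _).mp hs⟩
  rcases normal_le_center_or_eq_top hL.2 (R.subgroupOf L) with h | h
  · refine mem_centralizer_iff.mpr fun y hy => ?_
    exact congrArg Subtype.val (mem_center_iff.mp (h (x := (⟨z, hzL⟩ : L)) hzR) ⟨y, hy⟩)
  · exact absurd (hR.coprime_dvd_left (card_dvd_of_le (subgroupOf_eq_top.mp h)))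
      (component_dvd hO hL)

end H

variable {G : Type*} [Group G] [Finite G]

/-- The core of the centraliser of a subgroup. -/
def oc (B : Subgroup G) : Subgroup G :=
  (oddCore ↥(centralizer (B : Set G))).map (centralizer (B : Set G)).subtype

/-- The factor attached to `B`. -/
def fac (B : Subgroup G) (a : G) : Subgroup G :=
  ⁅centralizerPPrimeCore 2 a, B⁆ ⊔ (centralizerPPrimeCore 2 a ⊓ oc B)

theorem centralizer_le_normalizer_oc (B : Subgroup G) :
    centralizer (B : Set G) ≤ normalizer (oc B : Set G) := by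
  intro g hg
  have key : ∀ g ∈ centralizer (B : Set G), ∀ d ∈ oc B, g * d * g⁻¹ ∈ oc B := by
    rintro g hg _ ⟨d, hd, rfl⟩
    exact ⟨⟨g, hg⟩ * d * (⟨g, hg⟩ : centralizer (B : Set G))⁻¹,
      (HallCore.pPrimeCore_normal 2 _).conj_mem d hd _, rfl⟩
  rw [mem_normalizer_iff]
  refine fun d => ⟨key g hg d, fun hd => ?_⟩
  have := key g⁻¹ (inv_mem hg) _ hd
  simpa [mul_assoc] using this

theorem oc_coprime (B : Subgroup G) : (Nat.card (oc B)).Coprime 2 := by
  rw [oc, card_map_of_injective (subtype_injective _)]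
  exact HallCore.coprime_card_pPrimeCore 2 _

theorem cppc_inf_centralizer_le_oc {B : Subgroup G} {e : G} (he : e ∈ B) :
    centralizerPPrimeCore 2 e ⊓ centralizer (B : Set G) ≤ oc B := by
  set C := centralizer (B : Set G)
  set M := (centralizerPPrimeCore 2 e).subgroupOf C
  haveI : M.Normal := ⟨fun s hs w => by
    refine (mem_normalizer_iff.mp (centralizer_le_normalizer_cppc ?_) _).mp hs
    rw [mem_centralizer_singleton_iff]
    exact (mem_centralizer_iff.mp w.2 e he).symm⟩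
  have hle : M ≤ pPrimeCore 2 C := le_pPrimeCore' (by
    refine (coprime_card_cppc (p := 2) (x := e)).coprime_dvd_left ?_
    rw [← card_map_of_injective C.subtype_injective, subgroupOf_map_subtype]
    exact card_dvd_of_le inf_le_left)
  exact fun x hx => ⟨⟨x, hx.2⟩, hle hx.1, rfl⟩

variable (A₁ A₂ : Subgroup G)

theorem symm {A₁ A₂ : Subgroup G} (h : IsCoreSeparated A₁ A₂) : IsCoreSeparated A₂ A₁ :=
  ⟨h.2.1, h.1, h.2.2.2.1, h.2.2.1, h.2.2.2.2.1.symm, by rw [inf_comm]; exact h.2.2.2.2.2.1,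
    fun x hx y hy => (h.2.2.2.2.2.2.1 y hy x hx).symm,
    fun a ha ha1 E hE => (h.2.2.2.2.2.2.2 a (sup_comm A₁ A₂ ▸ ha) ha1 E hE).symm⟩

variable {A₁ A₂} (hcs : IsCoreSeparated A₁ A₂)
include hcs

theorem comm_of_mem {u v : G} (hu : u ∈ A₁ ⊔ A₂) (hv : v ∈ A₁ ⊔ A₂) : u * v = v * u := by
  have h1 : A₁ ⊔ A₂ ≤ centralizer ((A₁ ⊔ A₂ : Subgroup G) : Set G) := by
    have hA : ∀ x ∈ A₁, ∀ y ∈ A₁, x * y = y * x := fun x hx y hy => by
      haveI := hcs.1.1
      exact congrArg Subtype.val (mul_comm' (⟨x, hx⟩ : A₁) ⟨y, hy⟩)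
    have hB : ∀ x ∈ A₂, ∀ y ∈ A₂, x * y = y * x := fun x hx y hy => by
      haveI := hcs.2.1.1
      exact congrArg Subtype.val (mul_comm' (⟨x, hx⟩ : A₂) ⟨y, hy⟩)
    have hc := hcs.2.2.2.2.2.2.1
    refine sup_le ?_ ?_ <;> refine le_centralizer_iff.mp (sup_le ?_ ?_) <;>
      refine fun x hx => mem_centralizer_iff.mpr fun y hy => ?_
    · exact hA y hy x hx
    · exact hc y hy x hx
    · exact (hc x hx y hy).symm
    · exact hB y hy x hx
  exact (mem_centralizer_iff.mp (h1 hu) v hv).symm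

theorem exists_decomp {a : G} (ha : a ∈ A₁ ⊔ A₂) : ∃ u ∈ A₁, ∃ w ∈ A₂, a = u * w := by
  have hn : A₁ ≤ normalizer (A₂ : Set G) := fun x hx =>
    centralizer_le_normalizer _ (mem_centralizer_iff.mpr fun y hy =>
      comm_of_mem hcs (mem_sup_right hy) (mem_sup_left hx))
  rw [← SetLike.mem_coe, coe_mul_of_left_le_normalizer_right A₁ A₂ hn] at ha
  obtain ⟨u, hu, w, hw, h⟩ := Set.mem_mul.mp ha
  exact ⟨u, hu, w, hw, h.symm⟩

theorem sq_eq_one {a : G} (ha : a ∈ A₁ ⊔ A₂) : a ^ 2 = 1 := by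
  obtain ⟨u, hu, w, hw, rfl⟩ := exists_decomp hcs ha
  rw [(show Commute u w from hcs.2.2.2.2.2.2.1 u hu w hw).mul_pow, hcs.1.2 u hu, hcs.2.1.2 w hw,
    one_mul]

theorem mem_cent {a b : G} (ha : a ∈ A₁ ⊔ A₂) (hb : b ∈ A₁ ⊔ A₂) :
    a ∈ centralizer ({b} : Set G) := mem_centralizer_singleton_iff.mpr (comm_of_mem hcs ha hb)

theorem mem_normalizer_cppc {a f : G} (ha : a ∈ A₁ ⊔ A₂) (hf : f ∈ A₁ ⊔ A₂) :
    f ∈ normalizer (centralizerPPrimeCore 2 a : Set G) :=
  centralizer_le_normalizer_cppc (mem_cent hcs hf ha)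

theorem bar_centralizes {e : G} (he : e ∈ A₁ ⊔ A₂) (he1 : e ≠ 1)
    {L : Subgroup (↥(centralizer ({e} : Set G)) ⧸ pPrimeCore 2 ↥(centralizer ({e} : Set G)))}
    (hL : IsComponent L) :
    (∀ f : ↥(centralizer ({e} : Set G)), (f : G) ∈ A₁ →
        QuotientGroup.mk' (pPrimeCore 2 ↥(centralizer ({e} : Set G))) f ∈ centralizer (L : Set _)) ∨
    (∀ f : ↥(centralizer ({e} : Set G)), (f : G) ∈ A₂ →
        QuotientGroup.mk' (pPrimeCore 2 ↥(centralizer ({e} : Set G))) f ∈ centralizer (L : Set _)) := by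
  let C := centralizer ({e} : Set G)
  let q := QuotientGroup.mk' (pPrimeCore 2 ↥C)
  have hE := ComponentsP.isPComponent_pComponentOf hL
  have hmap := ComponentsP.map_pComponentOf hL
  have key : ∀ B : Subgroup G,
      ⁅(ComponentsP.pComponentOf 2 L).map C.subtype, B⁆ ≤ centralizerPPrimeCore 2 e →
      ∀ f : ↥C, (f : G) ∈ B → q f ∈ centralizer (L : Set _) := by
    intro B hB f hf
    rw [mem_centralizer_iff]
    intro l hl
    rw [← hmap] at hl
    obtain ⟨x, hx, rfl⟩ := hl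
    have h1 : (x : G) * f * (x : G)⁻¹ * (f : G)⁻¹ ∈ centralizerPPrimeCore 2 e :=
      hB (commutator_mem_commutator (mem_map_of_mem _ hx) hf)
    obtain ⟨z, hz, hze⟩ := h1
    have h2 : x * f * x⁻¹ * f⁻¹ ∈ pPrimeCore 2 ↥C := by
      have : z = x * f * x⁻¹ * f⁻¹ := Subtype.ext hze
      exact this ▸ hz
    have h3 : q (x * f * x⁻¹ * f⁻¹) = 1 := (QuotientGroup.eq_one_iff _).mpr h2
    simp only [map_mul, map_inv] at h3
    exact mul_inv_eq_iff_eq_mul.mp (mul_inv_eq_one.mp h3)
  rcases hcs.2.2.2.2.2.2.2 e he he1 _ hE with h | h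
  · exact Or.inl (key A₁ h)
  · exact Or.inr (key A₂ h)

theorem bar_core {a e d : G} (ha : a ∈ A₁ ⊔ A₂) (ha1 : a ≠ 1) (he : e ∈ A₁ ⊔ A₂)
    (hd : d ∈ centralizerPPrimeCore 2 a) (hde : d ∈ centralizer ({e} : Set G)) :
    QuotientGroup.mk' (pPrimeCore 2 ↥(centralizer ({e} : Set G))) ⟨d, hde⟩ ∈
      centralizerPPrimeCore 2 (QuotientGroup.mk' (pPrimeCore 2 ↥(centralizer ({e} : Set G)))
        ⟨a, mem_cent hcs ha he⟩) := by
  refine mem_cppc_quotient ?_ (mem_cppc_subgroup hd)
  rw [← orderOf_submonoid]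
  exact orderOf_eq_prime (sq_eq_one hcs ha) ha1

theorem comm_mem_cppc {e a d f : G} (he : e ∈ A₁) (he1 : e ≠ 1) (ha : a ∈ A₁ ⊔ A₂) (ha1 : a ≠ 1)
    (hd : d ∈ centralizerPPrimeCore 2 a) (hde : d ∈ centralizer ({e} : Set G)) (hf : f ∈ A₁) :
    d * f * d⁻¹ * f⁻¹ ∈ centralizerPPrimeCore 2 e := by
  obtain ⟨u, hu, w, hw, rfl⟩ := exists_decomp hcs ha
  let C := centralizer ({e} : Set G)
  let q := QuotientGroup.mk' (pPrimeCore 2 ↥C)
  have he' : e ∈ A₁ ⊔ A₂ := mem_sup_left he
  have hfC : f ∈ C := mem_cent hcs (mem_sup_left hf) he'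
  set D : ↥C := ⟨d, hde⟩
  set F : ↥C := ⟨f, hfC⟩
  set a' : ↥C := ⟨u * w, mem_cent hcs ha he'⟩
  set U : ↥C := ⟨u, mem_cent hcs (mem_sup_left hu) he'⟩
  set W : ↥C := ⟨w, mem_cent hcs (mem_sup_right hw) he'⟩
  have haUW : a' = U * W := Subtype.ext rfl
  have hO := HallCore.pPrimeCore_quotient_self 2 ↥C
  have hsq : q a' ^ 2 = 1 := by
    rw [← map_pow]
    convert map_one q
    exact Subtype.ext (sq_eq_one hcs ha)
  have hdb : q D ∈ centralizerPPrimeCore 2 (q a') := bar_core hcs ha ha1 he' hd hde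
  have hfa : q F * q a' = q a' * q F := by
    rw [← map_mul, ← map_mul]
    exact congrArg q (Subtype.ext (comm_of_mem hcs (mem_sup_left hf) ha))
  suffices h : q (D * F * D⁻¹ * F⁻¹) = 1 by
    exact ⟨D * F * D⁻¹ * F⁻¹, (QuotientGroup.eq_one_iff _).mp h, rfl⟩
  rw [map_mul, map_mul, map_mul, map_inv, map_inv]
  refine eq_one_of_core hO hsq (comm_mem_core hdb hfa) fun L hL => ?_
  rcases bar_centralizes hcs he' he1 hL with h | h
  · exact comm_mem_centralizer_of_centralizes (mem_normalizer_of_core hO hsq hdb hL) (h F hf)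
  · have hWL : q W ∈ centralizer (L : Set _) := h W hw
    have heL : ∀ x : ↥C, (x : G) = e → ∀ y : ↥C ⧸ pPrimeCore 2 ↥C, q x * y = y * q x := by
      intro x hx y
      obtain ⟨y', rfl⟩ := QuotientGroup.mk'_surjective _ y
      rw [← map_mul, ← map_mul]
      refine congrArg q (Subtype.ext ?_)
      show (x : G) * y' = y' * x
      rw [hx]
      exact (mem_centralizer_singleton_iff.mp y'.2).symm
    set E : ↥C := ⟨e, mem_cent hcs he' he'⟩
    by_cases hu1 : u = 1 ∨ u = e
    · refine comm_mem_centralizer_of_fixed hO hsq hdb hfa hL ?_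
      have hUL : q U ∈ centralizer (L : Set _) := by
        rw [mem_centralizer_iff]
        intro l _
        rcases hu1 with h1 | h1
        · rw [show U = 1 from Subtype.ext h1, map_one, one_mul, mul_one]
        · exact (heL U h1 l).symm
      rw [haUW, map_mul]
      exact mul_mem hUL hWL
    · obtain ⟨hu0, hue⟩ := not_or.mp hu1
      have hfour : f = 1 ∨ f = e ∨ f = u ∨ f = e * u := by
        have hsub : ({1, e, u, e * u} : Set G) ⊆ (A₁ : Set G) := by
          rintro x (rfl | rfl | rfl | rfl)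
          exacts [one_mem _, he, hu, mul_mem he hu]
        have hee : e⁻¹ = e := inv_eq_of_mul_eq_one_left (by rw [← pow_two]; exact hcs.1.2 e he)
        have h4 : ({1, e, u, e * u} : Set G).ncard = 4 := by
          have n1 : (1 : G) ∉ ({e, u, e * u} : Set G) := by
            rintro (h | h | h)
            · exact he1 h.symm
            · exact hu0 h.symm
            · exact hue (by rw [← hee]; exact eq_inv_of_mul_eq_one_right h.symm)
          have n2 : e ∉ ({u, e * u} : Set G) := by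
            rintro (h | h)
            · exact hue h.symm
            · exact hu0 (mul_left_cancel (a := e) (by rw [mul_one]; exact h.symm))
          have n3 : u ∉ ({e * u} : Set G) := by
            intro h
            exact he1 (mul_right_cancel (b := u) (by rw [one_mul]; exact (Set.mem_singleton_iff.mp h).symm))
          rw [Set.ncard_insert_of_notMem n1, Set.ncard_insert_of_notMem n2,
            Set.ncard_insert_of_notMem n3, Set.ncard_singleton]
        have hA4 : (A₁ : Set G).ncard = 4 := by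
          rw [← Nat.card_coe_set_eq]; exact hcs.2.2.1
        have := Set.eq_of_subset_of_ncard_le hsub (by rw [h4, hA4])
        have hf' : f ∈ ({1, e, u, e * u} : Set G) := this ▸ hf
        simpa using hf'
      have triv : (∀ y : ↥C ⧸ pPrimeCore 2 ↥C, q F * y = y * q F) →
          q D * q F * (q D)⁻¹ * (q F)⁻¹ ∈ centralizer (L : Set _) := fun hc => by
        rw [← hc (q D), mul_inv_cancel_right, mul_inv_cancel]
        exact one_mem _
      have twist : ∀ g h : ↥C, q g * q D = q D * q g → q g * q h = q h * q g →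
          q h ∈ centralizer (L : Set _) → F = g * h →
          q D * q F * (q D)⁻¹ * (q F)⁻¹ ∈ centralizer (L : Set _) := fun g h' h1 h2 h3 h4 => by
        rw [h4, map_mul]
        exact comm_mem_centralizer_of_twist hO hsq hdb h1 h2 hL h3
      have had : q a' * q D = q D * q a' := by
        rw [← map_mul, ← map_mul]
        refine congrArg q (Subtype.ext ?_)
        exact (mem_centralizer_singleton_iff.mp (SignalizerBasic.centralizerPPrimeCore_le 2 _ hd)).symm
      have haW : q a' * q W⁻¹ = q W⁻¹ * q a' := by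
        rw [← map_mul, ← map_mul]
        refine congrArg q (Subtype.ext ?_)
        show u * w * w⁻¹ = w⁻¹ * (u * w)
        rw [mul_inv_cancel_right, comm_of_mem hcs (mem_sup_left hu) (mem_sup_right hw),
          inv_mul_cancel_left]
      have hWi : q W⁻¹ ∈ centralizer (L : Set _) := by rw [map_inv]; exact inv_mem hWL
      rcases hfour with h1 | h1 | h1 | h1
      · exact triv fun y => by rw [show F = 1 from Subtype.ext h1, map_one, one_mul, mul_one]
      · exact triv (heL F h1)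
      · refine twist a' W⁻¹ had haW hWi (Subtype.ext ?_)
        show f = u * w * w⁻¹
        rw [mul_inv_cancel_right, h1]
      · refine twist (E * a') W⁻¹ ?_ ?_ hWi (Subtype.ext ?_)
        · rw [map_mul]; exact (Commute.mul_left (heL E rfl (q D)) had)
        · rw [map_mul]; exact (Commute.mul_left (heL E rfl (q W⁻¹)) haW)
        · show f = e * (u * w) * w⁻¹
          rw [h1, mul_assoc, mul_assoc, mul_inv_cancel, mul_one]

theorem commutator_le_cppc {e a : G} (he : e ∈ A₁) (he1 : e ≠ 1) (ha : a ∈ A₁ ⊔ A₂) (ha1 : a ≠ 1)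
    {Y : Subgroup G} (hY : Y ≤ centralizerPPrimeCore 2 a) (hYe : Y ≤ centralizer ({e} : Set G)) :
    ⁅Y, A₁⁆ ≤ centralizerPPrimeCore 2 e := by
  rw [commutator_le]
  exact fun d hd f hf => comm_mem_cppc hcs he he1 ha ha1 (hY hd) (hYe hd) hf

theorem fac_inf_le_oc (hFT : ∀ (X : Subgroup G), Odd (Nat.card X) → Group.IsSolvable X)
    {a : G} (ha : a ∈ A₁ ⊔ A₂) (ha1 : a ≠ 1) :
    fac A₁ a ⊓ centralizer (A₁ : Set G) ≤ oc A₁ := by
  set O := centralizerPPrimeCore 2 a with hOdef
  haveI : IsMulCommutative A₁ := hcs.1.1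
  have hA1 : A₁ ≤ normalizer (O : Set G) := fun f hf => mem_normalizer_cppc hcs ha (mem_sup_left hf)
  have hcop : (Nat.card A₁).Coprime (Nat.card O) := by
    rw [hcs.2.2.1, show (4 : ℕ) = 2 ^ 2 from rfl]
    exact Nat.Coprime.pow_left 2 coprime_card_cppc.symm
  set Y := ⁅O, A₁⁆
  have hYO : Y ≤ O := CoprimeAction.commutator_le_self_of_le_normalizer hA1
  have hodd : ∀ K : Subgroup G, K ≤ O → Group.IsSolvable K := fun K hK => hFT K
    (Nat.coprime_two_right.mp (coprime_card_cppc.coprime_dvd_left (card_dvd_of_le hK)))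
  have hkey : Y ⊓ centralizer (A₁ : Set G) ≤ oc A₁ := by
    rw [CoprimeFixedGen56.main A₁ A₁ Y hcs.1.1 le_rfl (hodd Y hYO)
      (CoprimeAction.coprime_of_le_right hYO hcop) (normalizer_commutator_ge_right O A₁)
      (CoprimeAction.commutator_commutator_eq hA1 hcop (Or.inr (hodd O le_rfl)))]
    refine iSup_le fun ⟨B₀, hB₀, hcyc⟩ => ?_
    have hne : B₀ ≠ ⊥ := by
      rintro rfl
      haveI : ((⊥ : Subgroup G).subgroupOf A₁).Normal := by rw [bot_subgroupOf]; infer_instance
      have hc : IsCyclic (↥A₁ ⧸ (⊥ : Subgroup G).subgroupOf A₁) := hcyc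
      haveI := hc
      have hc' : IsCyclic ↥A₁ := isCyclic_of_injective
        (QuotientGroup.mk' ((⊥ : Subgroup G).subgroupOf A₁))
        ((injective_iff_map_eq_one _).mpr fun x hx => by
          have := (QuotientGroup.eq_one_iff x).mp hx
          rw [bot_subgroupOf, mem_bot] at this
          exact this)
      haveI := hc'
      have h2 : Nat.card A₁ ∣ 2 := by
        rw [← IsCyclic.exponent_eq_card]
        exact Monoid.exponent_dvd_of_forall_pow_eq_one fun g => Subtype.ext (hcs.1.2 g g.2)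
      rw [hcs.2.2.1] at h2
      norm_num at h2
    obtain ⟨⟨e, heB⟩, hene⟩ := (nontrivial_iff_exists_ne (1 : B₀)).mp
      ((Subgroup.nontrivial_iff_ne_bot B₀).mpr hne)
    have he1 : e ≠ 1 := fun h => hene (Subtype.ext h)
    intro x hx
    refine cppc_inf_centralizer_le_oc (hB₀ heB) ⟨?_, hx.1.2⟩
    refine commutator_le_cppc hcs (hB₀ heB) he1 ha ha1 (inf_le_left.trans hYO) ?_ hx.2
    exact inf_le_right.trans (centralizer_le (Set.singleton_subset_iff.mpr heB))
  have hn : O ⊓ oc A₁ ≤ normalizer (Y : Set G) :=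
    inf_le_left.trans (normalizer_commutator_ge_left O A₁)
  rintro z ⟨hz, hzC⟩
  rw [fac, ← hOdef] at hz
  replace hz : z ∈ ((⁅O, A₁⁆ ⊔ O ⊓ oc A₁ : Subgroup G) : Set G) := hz
  rw [coe_mul_of_right_le_normalizer_left _ _ hn] at hz
  obtain ⟨u, hu, v, hv, rfl⟩ := Set.mem_mul.mp hz
  have hvC : v ∈ centralizer (A₁ : Set G) := map_subtype_le _ hv.2
  have huC : u ∈ centralizer (A₁ : Set G) := by
    have := (centralizer (A₁ : Set G)).mul_mem hzC ((centralizer (A₁ : Set G)).inv_mem hvC)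
    rwa [mul_inv_cancel_right] at this
  exact mul_mem (hkey ⟨hu, huC⟩) hv.2

theorem oc_centralizes {b d : G} (hb : b ∈ A₁ ⊔ A₂)
    (hd : d ∈ oc A₁) (hdb : d ∈ centralizer ({b} : Set G))
    {L : Subgroup (↥(centralizer ({b} : Set G)) ⧸ pPrimeCore 2 ↥(centralizer ({b} : Set G)))}
    (hL : IsComponent L)
    (hLA : ∀ f : ↥(centralizer ({b} : Set G)), (f : G) ∈ A₁ →
        QuotientGroup.mk' (pPrimeCore 2 ↥(centralizer ({b} : Set G))) f ∈ centralizer (L : Set _))
    (hN : QuotientGroup.mk' (pPrimeCore 2 ↥(centralizer ({b} : Set G))) ⟨d, hdb⟩ ∈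
      normalizer (L : Set _)) :
    QuotientGroup.mk' (pPrimeCore 2 ↥(centralizer ({b} : Set G))) ⟨d, hdb⟩ ∈
      centralizer (L : Set _) := by
  let C := centralizer ({b} : Set G)
  let q := QuotientGroup.mk' (pPrimeCore 2 ↥C)
  set R := ((oc A₁).subgroupOf C).map q with hR
  have hRc : (Nat.card R).Coprime 2 := by
    refine (oc_coprime A₁).coprime_dvd_left ((card_map_dvd ((oc A₁).subgroupOf C) q).trans ?_)
    rw [← card_map_of_injective C.subtype_injective, subgroupOf_map_subtype]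
    exact card_dvd_of_le inf_le_left
  set A' := A₁.subgroupOf C
  have hA' : A₁ ≤ C := fun f hf => mem_cent hcs (mem_sup_left hf) hb
  haveI : IsMulCommutative A' := ⟨⟨fun x y => Subtype.ext (Subtype.ext
    (comm_of_mem hcs (mem_sup_left x.2) (mem_sup_left y.2)))⟩⟩
  have hcard : Nat.card A' = 4 := by
    rw [Nat.card_congr (subgroupOfEquivOfLe hA').toEquiv, hcs.2.2.1]
  have hLR : L ≤ normalizer (R : Set _) := by
    intro l hl
    obtain ⟨k, rfl⟩ := QuotientGroup.mk'_surjective (pPrimeCore 2 ↥C) l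
    obtain ⟨c, hc, hkc⟩ := CoprimeAction.exists_fixed_mem_coset (A := A') (D := pPrimeCore 2 ↥C)
      (by rw [normalizer_eq_top_iff.2 inferInstance]; exact le_top)
      (by rw [hcard, show (4 : ℕ) = 2 ^ 2 from rfl]
          exact Nat.Coprime.pow_left 2 (HallCore.coprime_card_pPrimeCore 2 ↥C).symm)
      (Or.inl (Group.isSolvable_of_comm fun x y => mul_comm' x y)) k (fun f hf => by
        rw [← QuotientGroup.eq_one_iff]
        show q (k⁻¹ * f * k * f⁻¹) = 1
        have h1 : q k * q f = q f * q k := mem_centralizer_iff.mp (hLA f hf) _ hl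
        calc q (k⁻¹ * f * k * f⁻¹) = (q k)⁻¹ * (q f * q k) * (q f)⁻¹ := by simp [mul_assoc]
          _ = 1 := by rw [← h1]; group)
    have hqc : QuotientGroup.mk' (pPrimeCore 2 ↥C) k = q c := QuotientGroup.eq.mpr hkc
    rw [hqc]
    have hcG : (c : G) ∈ centralizer (A₁ : Set G) := mem_centralizer_iff.mpr fun f hf =>
      congrArg Subtype.val (mem_centralizer_iff.mp hc ⟨f, hA' hf⟩ hf)
    refine le_normalizer_map q ⟨c, ?_, rfl⟩
    rw [SetLike.mem_coe, mem_normalizer_iff]
    intro x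
    exact mem_normalizer_iff.mp (centralizer_le_normalizer_oc A₁ hcG) (x : G)
  exact mem_centralizer_of_normalised (HallCore.pPrimeCore_quotient_self 2 ↥C) hL hRc hLR
    (d := q ⟨d, hdb⟩) ⟨⟨d, hdb⟩, hd, rfl⟩ hN

theorem centralizes_component (hFT : ∀ (X : Subgroup G), Odd (Nat.card X) → Group.IsSolvable X)
    {a b x : G} (ha : a ∈ A₁ ⊔ A₂) (ha1 : a ≠ 1) (hb : b ∈ A₁ ⊔ A₂)
    (hx : x ∈ fac A₁ a) (hxb : x ∈ centralizer ({b} : Set G))
    {L : Subgroup (↥(centralizer ({b} : Set G)) ⧸ pPrimeCore 2 ↥(centralizer ({b} : Set G)))}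
    (hL : IsComponent L)
    (hLA : ∀ f : ↥(centralizer ({b} : Set G)), (f : G) ∈ A₁ →
        QuotientGroup.mk' (pPrimeCore 2 ↥(centralizer ({b} : Set G))) f ∈ centralizer (L : Set _)) :
    QuotientGroup.mk' (pPrimeCore 2 ↥(centralizer ({b} : Set G))) ⟨x, hxb⟩ ∈
      centralizer (L : Set _) := by
  let C := centralizer ({b} : Set G)
  let q := QuotientGroup.mk' (pPrimeCore 2 ↥C)
  haveI : IsMulCommutative A₁ := hcs.1.1
  set O := centralizerPPrimeCore 2 a
  have hfO : fac A₁ a ≤ O := sup_le (CoprimeAction.commutator_le_self_of_le_normalizer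
    (fun f hf => mem_normalizer_cppc hcs ha (mem_sup_left hf))) inf_le_left
  set X := fac A₁ a ⊓ C
  have hXN : A₁ ≤ normalizer (X : Set G) := by
    intro f hf
    rw [← cj_eq_iff]
    have e1 : cj f O = O := cj_eq_iff.mpr (mem_normalizer_cppc hcs ha (mem_sup_left hf))
    have e2 : cj f A₁ = A₁ := cj_eq_iff.mpr (le_normalizer hf)
    have e3 : cj f (oc A₁) = oc A₁ := cj_eq_iff.mpr (centralizer_le_normalizer_oc A₁
      (mem_centralizer_iff.mpr fun y hy => comm_of_mem hcs (mem_sup_left hy) (mem_sup_left hf)))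
    have e4 : cj f C = C := cj_eq_iff.mpr (le_normalizer (mem_cent hcs (mem_sup_left hf) hb))
    simp only [cj] at e1 e2 e3 e4 ⊢
    rw [map_inf _ _ _ (MulAut.conj f).injective, fac, Subgroup.map_sup, map_commutator,
      map_inf _ _ _ (MulAut.conj f).injective, e1, e2, e3, e4]
    rfl
  have hsq : q ⟨a, mem_cent hcs ha hb⟩ ^ 2 = 1 := by
    rw [← map_pow]
    convert map_one q
    exact Subtype.ext (sq_eq_one hcs ha)
  have hO := HallCore.pPrimeCore_quotient_self 2 ↥C
  have hn : ∀ y, ∀ hy : y ∈ X, q ⟨y, hy.2⟩ ∈ normalizer (L : Set _) := fun y hy =>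
    mem_normalizer_of_core hO hsq (bar_core hcs ha ha1 hb (hfO hy.1) hy.2) hL
  have hcop : (Nat.card A₁).Coprime (Nat.card X) := by
    rw [hcs.2.2.1, show (4 : ℕ) = 2 ^ 2 from rfl]
    exact Nat.Coprime.pow_left 2 (coprime_card_cppc.coprime_dvd_left
      (card_dvd_of_le (inf_le_left.trans hfO))).symm
  obtain ⟨y, hy, c, hc, hxy⟩ := CoprimeAction.exists_mul_fixed hXN hcop (Or.inl (Group.isSolvable_of_comm fun x y => mul_comm' x y))
    (show x ∈ X from ⟨hx, hxb⟩)
  have hyC : y ∈ C := ((CoprimeAction.commutator_le_self_of_le_normalizer hXN) hy).2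
  have h1 : q ⟨y, hyC⟩ ∈ centralizer (L : Set _) := by
    have hle : ⁅X, A₁⁆ ≤ ((centralizer (L : Set _)).comap q).map C.subtype := by
      rw [commutator_le]
      intro z hz f hf
      have hfC : f ∈ C := mem_cent hcs (mem_sup_left hf) hb
      refine ⟨⟨z, hz.2⟩ * ⟨f, hfC⟩ * (⟨z, hz.2⟩ : ↥C)⁻¹ * (⟨f, hfC⟩ : ↥C)⁻¹, ?_, rfl⟩
      show q _ ∈ centralizer (L : Set _)
      rw [map_mul, map_mul, map_mul, map_inv, map_inv]
      exact comm_mem_centralizer_of_centralizes (hn z hz) (hLA _ hf)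
    obtain ⟨z, hz, hzy⟩ := hle hy
    rw [show (⟨y, hyC⟩ : ↥C) = z from Subtype.ext hzy.symm]
    exact hz
  have h2 : q ⟨c, hc.1.2⟩ ∈ centralizer (L : Set _) :=
    oc_centralizes hcs hb (fac_inf_le_oc hcs hFT ha ha1 ⟨hc.1.1, hc.2⟩) hc.1.2 hL hLA (hn c hc.1)
  have h3 : (⟨x, hxb⟩ : ↥C) = ⟨y, hyC⟩ * ⟨c, hc.1.2⟩ := Subtype.ext hxy
  rw [h3, map_mul]
  exact mul_mem h1 h2

theorem mem_cppc_of_fac (hFT : ∀ (X : Subgroup G), Odd (Nat.card X) → Group.IsSolvable X)
    {a b x : G} (ha : a ∈ A₁ ⊔ A₂) (ha1 : a ≠ 1) (hb : b ∈ A₁ ⊔ A₂) (hb1 : b ≠ 1)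
    (hx : x ∈ fac A₁ a) (hx' : x ∈ fac A₂ a) (hxb : x ∈ centralizer ({b} : Set G)) :
    x ∈ centralizerPPrimeCore 2 b := by
  let C := centralizer ({b} : Set G)
  let q := QuotientGroup.mk' (pPrimeCore 2 ↥C)
  have hcs' := symm hcs
  have ha' : a ∈ A₂ ⊔ A₁ := sup_comm A₁ A₂ ▸ ha
  have hb' : b ∈ A₂ ⊔ A₁ := sup_comm A₁ A₂ ▸ hb
  have hxO : x ∈ centralizerPPrimeCore 2 a :=
    (sup_le (CoprimeAction.commutator_le_self_of_le_normalizer
      (fun f hf => mem_normalizer_cppc hcs ha (mem_sup_left hf))) inf_le_left : fac A₁ a ≤ _) hx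
  have hsq : q ⟨a, mem_cent hcs ha hb⟩ ^ 2 = 1 := by
    rw [← map_pow]
    convert map_one q
    exact Subtype.ext (sq_eq_one hcs ha)
  refine ⟨⟨x, hxb⟩, (QuotientGroup.eq_one_iff _).mp
    (eq_one_of_core (HallCore.pPrimeCore_quotient_self 2 ↥C) hsq
      (bar_core hcs ha ha1 hb hxO hxb) fun L hL => ?_), rfl⟩
  rcases bar_centralizes hcs hb hb1 hL with h | h
  · exact centralizes_component hcs hFT ha ha1 hb hx hxb hL h
  · exact centralizes_component hcs' hFT ha' ha1 hb' hx' hxb hL h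

theorem fac_inf_le_fac (hFT : ∀ (X : Subgroup G), Odd (Nat.card X) → Group.IsSolvable X)
    {a b : G} (ha : a ∈ A₁ ⊔ A₂) (ha1 : a ≠ 1) {X : Subgroup G} (hX : X ≤ fac A₁ a)
    (hXb : X ≤ centralizerPPrimeCore 2 b) (hXA : A₁ ≤ normalizer (X : Set G)) :
    X ≤ fac A₁ b := by
  haveI : IsMulCommutative A₁ := hcs.1.1
  have hcop : (Nat.card A₁).Coprime (Nat.card X) := by
    rw [hcs.2.2.1, show (4 : ℕ) = 2 ^ 2 from rfl]
    exact Nat.Coprime.pow_left 2 (coprime_card_cppc.coprime_dvd_left (card_dvd_of_le hXb)).symm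
  conv_lhs => rw [← CoprimeAction.commutator_sup_centralizer_eq hXA hcop (Or.inl (Group.isSolvable_of_comm fun x y => mul_comm' x y))]
  refine sup_le ((commutator_mono hXb le_rfl).trans le_sup_left) fun c hc => ?_
  exact mem_sup_right ⟨hXb hc.1, fac_inf_le_oc hcs hFT ha ha1 ⟨hX hc.1, hc.2⟩⟩

theorem main (hFT : ∀ (X : Subgroup G), Odd (Nat.card X) → Group.IsSolvable X) :
    IsSignalizerFunctor 2 (A₁ ⊔ A₂) (fun a => fac A₁ a ⊓ fac A₂ a) := by
  have hcs' := symm hcs
  have hfO : ∀ a ∈ A₁ ⊔ A₂, fac A₁ a ≤ centralizerPPrimeCore 2 a := fun a ha =>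
    sup_le (CoprimeAction.commutator_le_self_of_le_normalizer
      (fun f hf => mem_normalizer_cppc hcs ha (mem_sup_left hf))) inf_le_left
  have hinv : ∀ a ∈ A₁ ⊔ A₂, A₁ ⊔ A₂ ≤ normalizer ((fac A₁ a ⊓ fac A₂ a : Subgroup G) : Set G) := by
    intro a ha f hf
    rw [← cj_eq_iff]
    have e1 : cj f (centralizerPPrimeCore 2 a) = centralizerPPrimeCore 2 a :=
      cj_eq_iff.mpr (mem_normalizer_cppc hcs ha hf)
    have hcent : ∀ B : Subgroup G, B ≤ A₁ ⊔ A₂ → f ∈ centralizer (B : Set G) := fun B hB =>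
      mem_centralizer_iff.mpr fun y hy => comm_of_mem hcs (hB hy) hf
    have e2 : ∀ B : Subgroup G, B ≤ A₁ ⊔ A₂ → cj f (fac B a) = fac B a := by
      intro B hB
      have e3 := cj_eq_iff.mpr (centralizer_le_normalizer_oc B (hcent B hB))
      have e4 : cj f B = B := cj_eq_iff.mpr (centralizer_le_normalizer _ (hcent B hB))
      simp only [cj] at e1 e3 e4 ⊢
      rw [fac, Subgroup.map_sup, map_commutator, map_inf _ _ _ (MulAut.conj f).injective, e1, e3, e4]
    have h1 := e2 A₁ le_sup_left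
    have h2 := e2 A₂ le_sup_right
    simp only [cj] at h1 h2 ⊢
    rw [map_inf _ _ _ (MulAut.conj f).injective, h1, h2]
  refine ⟨?_, ?_, ?_, ?_⟩
  · exact fun a ha _ => inf_le_left.trans ((hfO a ha).trans
      (SignalizerBasic.centralizerPPrimeCore_le 2 a))
  · intro a ha _ h
    exact SignalizerBasic.not_dvd_card_centralizerPPrimeCore 2 a
      (h.trans (card_dvd_of_le (inf_le_left.trans (hfO a ha))))
  · exact fun a ha _ b hb x hx => (mem_normalizer_iff.mp (hinv a ha hb) x).mp hx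
  · intro a ha ha1 b hb hb1
    set X := (fac A₁ a ⊓ fac A₂ a) ⊓ centralizer ({b} : Set G) with hX
    have hXb : X ≤ centralizerPPrimeCore 2 b := fun x hx =>
      mem_cppc_of_fac hcs hFT ha ha1 hb hb1 hx.1.1 hx.1.2 hx.2
    have hXA : A₁ ⊔ A₂ ≤ normalizer (X : Set G) :=
      CoprimeAction.le_normalizer_inf (hinv a ha)
        (fun f hf => le_normalizer (mem_cent hcs hf hb))
    have hXf : X ≤ fac A₁ a ⊓ fac A₂ a := inf_le_left
    exact le_inf (fac_inf_le_fac hcs hFT ha ha1 (hXf.trans inf_le_left) hXb (le_sup_left.trans hXA))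
      (fac_inf_le_fac hcs' hFT (sup_comm A₁ A₂ ▸ ha) ha1 (hXf.trans inf_le_right) hXb
        (le_sup_right.trans hXA))

end Cfsg.Agent.CoreSep67
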