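import Cfsg.Agent.Lib.CosetCertFi22OData

/-! Part of the checks of a coset enumeration in the presented group Fi22. -/

set_option autoImplicit false
set_option maxRecDepth 100000
set_option Elab.async false

namespace Cfsg.Agent.CosetCertFi22OP0

open Cfsg.Agent.CosetCertCore Cfsg.Agent.CosetCertTable Cfsg.Agent.CosetCertPres Cfsg.Agent.CosetCertFi22OData

theorem points1c : allFrom (pointOk cert 74716 table) 64 0 = true := by decide +kernel

theorem points2c : allFrom (pointOk cert 74716 table) 64 64 = true := by decide +kernel

theorem points3c : allFrom (pointOk cert 74716 table) 64 128 = true := by decide +kernel

theorem points4c : allFrom (pointOk cert 74716 table) 64 192 = true := by decide +kernel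

theorem points5c : allFrom (pointOk cert 74716 table) 64 256 = true := by decide +kernel

theorem points6c : allFrom (pointOk cert 74716 table) 64 320 = true := by decide +kernel

theorem points7c : allFrom (pointOk cert 74716 table) 64 384 = true := by decide +kernel

theorem points8c : allFrom (pointOk cert 74716 table) 64 448 = true := by decide +kernel

theorem points9c : allFrom (pointOk cert 74716 table) 64 512 = true := by decide +kernel

theorem points10c : allFrom (pointOk cert 74716 table) 64 576 = true := by decide +kernel

theorem points11c : allFrom (pointOk cert 74716 table) 64 640 = true := by decide +kernel

theorem points12c : allFrom (pointOk cert 74716 table) 64 704 = true := by decide +kernel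

theorem points13c : allFrom (pointOk cert 74716 table) 64 768 = true := by decide +kernel

theorem points14c : allFrom (pointOk cert 74716 table) 64 832 = true := by decide +kernel

theorem points15c : allFrom (pointOk cert 74716 table) 64 896 = true := by decide +kernel

theorem points16c : allFrom (pointOk cert 74716 table) 64 960 = true := by decide +kernel

theorem points17c : allFrom (pointOk cert 74716 table) 64 1024 = true := by decide +kernel

theorem points18c : allFrom (pointOk cert 74716 table) 64 1088 = true := by decide +kernel

theorem points19c : allFrom (pointOk cert 74716 table) 64 1152 = true := by decide +kernel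

theorem points20c : allFrom (pointOk cert 74716 table) 64 1216 = true := by decide +kernel

theorem points21c : allFrom (pointOk cert 74716 table) 64 1280 = true := by decide +kernel

theorem points22c : allFrom (pointOk cert 74716 table) 64 1344 = true := by decide +kernel

theorem points23c : allFrom (pointOk cert 74716 table) 64 1408 = true := by decide +kernel

theorem points24c : allFrom (pointOk cert 74716 table) 64 1472 = true := by decide +kernel

theorem points25c : allFrom (pointOk cert 74716 table) 64 1536 = true := by decide +kernel

theorem points26c : allFrom (pointOk cert 74716 table) 64 1600 = true := by decide +kernel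

theorem points27c : allFrom (pointOk cert 74716 table) 64 1664 = true := by decide +kernel

theorem points28c : allFrom (pointOk cert 74716 table) 64 1728 = true := by decide +kernel

theorem points29c : allFrom (pointOk cert 74716 table) 64 1792 = true := by decide +kernel

theorem points30c : allFrom (pointOk cert 74716 table) 64 1856 = true := by decide +kernel

theorem points31c : allFrom (pointOk cert 74716 table) 64 1920 = true := by decide +kernel

theorem rels1c : allFrom (relsOk cert.rels table) 64 0 = true := by decide +kernel

theorem rels2c : allFrom (relsOk cert.rels table) 64 64 = true := by decide +kernel

theorem rels3c : allFrom (relsOk cert.rels table) 64 128 = true := by decide +kernel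

theorem rels4c : allFrom (relsOk cert.rels table) 64 192 = true := by decide +kernel

theorem rels5c : allFrom (relsOk cert.rels table) 64 256 = true := by decide +kernel

theorem rels6c : allFrom (relsOk cert.rels table) 64 320 = true := by decide +kernel

theorem rels7c : allFrom (relsOk cert.rels table) 64 384 = true := by decide +kernel

theorem rels8c : allFrom (relsOk cert.rels table) 64 448 = true := by decide +kernel

theorem rels9c : allFrom (relsOk cert.rels table) 64 512 = true := by decide +kernel

theorem rels10c : allFrom (relsOk cert.rels table) 64 576 = true := by decide +kernel

theorem rels11c : allFrom (relsOk cert.rels table) 64 640 = true := by decide +kernel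

theorem rels12c : allFrom (relsOk cert.rels table) 64 704 = true := by decide +kernel

theorem rels13c : allFrom (relsOk cert.rels table) 64 768 = true := by decide +kernel

theorem rels14c : allFrom (relsOk cert.rels table) 64 832 = true := by decide +kernel

theorem rels15c : allFrom (relsOk cert.rels table) 64 896 = true := by decide +kernel

theorem rels16c : allFrom (relsOk cert.rels table) 64 960 = true := by decide +kernel

theorem rels17c : allFrom (relsOk cert.rels table) 64 1024 = true := by decide +kernel

theorem rels18c : allFrom (relsOk cert.rels table) 64 1088 = true := by decide +kernel

theorem rels19c : allFrom (relsOk cert.rels table) 64 1152 = true := by decide +kernel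

theorem rels20c : allFrom (relsOk cert.rels table) 64 1216 = true := by decide +kernel

theorem rels21c : allFrom (relsOk cert.rels table) 64 1280 = true := by decide +kernel

theorem rels22c : allFrom (relsOk cert.rels table) 64 1344 = true := by decide +kernel

theorem rels23c : allFrom (relsOk cert.rels table) 64 1408 = true := by decide +kernel

theorem rels24c : allFrom (relsOk cert.rels table) 64 1472 = true := by decide +kernel

theorem rels25c : allFrom (relsOk cert.rels table) 64 1536 = true := by decide +kernel

theorem rels26c : allFrom (relsOk cert.rels table) 64 1600 = true := by decide +kernel

theorem rels27c : allFrom (relsOk cert.rels table) 64 1664 = true := by decide +kernel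

theorem rels28c : allFrom (relsOk cert.rels table) 64 1728 = true := by decide +kernel

theorem rels29c : allFrom (relsOk cert.rels table) 64 1792 = true := by decide +kernel

theorem rels30c : allFrom (relsOk cert.rels table) 64 1856 = true := by decide +kernel

theorem rels31c : allFrom (relsOk cert.rels table) 64 1920 = true := by decide +kernel

theorem orb1c : allFrom (orbOk orbTbl roots cert.sgens table) 64 0 = true := by decide +kernel

theorem orb2c : allFrom (orbOk orbTbl roots cert.sgens table) 64 64 = true := by decide +kernel

theorem orb3c : allFrom (orbOk orbTbl roots cert.sgens table) 64 128 = true := by decide +kernel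

theorem orb4c : allFrom (orbOk orbTbl roots cert.sgens table) 64 192 = true := by decide +kernel

theorem orb5c : allFrom (orbOk orbTbl roots cert.sgens table) 64 256 = true := by decide +kernel

theorem orb6c : allFrom (orbOk orbTbl roots cert.sgens table) 64 320 = true := by decide +kernel

theorem orb7c : allFrom (orbOk orbTbl roots cert.sgens table) 64 384 = true := by decide +kernel

theorem orb8c : allFrom (orbOk orbTbl roots cert.sgens table) 64 448 = true := by decide +kernel

theorem orb9c : allFrom (orbOk orbTbl roots cert.sgens table) 64 512 = true := by decide +kernel

theorem orb10c : allFrom (orbOk orbTbl roots cert.sgens table) 64 576 = true := by decide +kernel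

theorem orb11c : allFrom (orbOk orbTbl roots cert.sgens table) 64 640 = true := by decide +kernel

theorem orb12c : allFrom (orbOk orbTbl roots cert.sgens table) 64 704 = true := by decide +kernel

theorem orb13c : allFrom (orbOk orbTbl roots cert.sgens table) 64 768 = true := by decide +kernel

theorem orb14c : allFrom (orbOk orbTbl roots cert.sgens table) 64 832 = true := by decide +kernel

theorem orb15c : allFrom (orbOk orbTbl roots cert.sgens table) 64 896 = true := by decide +kernel

theorem orb16c : allFrom (orbOk orbTbl roots cert.sgens table) 64 960 = true := by decide +kernel

theorem orb17c : allFrom (orbOk orbTbl roots cert.sgens table) 64 1024 = true := by decide +kernel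

theorem orb18c : allFrom (orbOk orbTbl roots cert.sgens table) 64 1088 = true := by decide +kernel

theorem orb19c : allFrom (orbOk orbTbl roots cert.sgens table) 64 1152 = true := by decide +kernel

theorem orb20c : allFrom (orbOk orbTbl roots cert.sgens table) 64 1216 = true := by decide +kernel

theorem orb21c : allFrom (orbOk orbTbl roots cert.sgens table) 64 1280 = true := by decide +kernel

theorem orb22c : allFrom (orbOk orbTbl roots cert.sgens table) 64 1344 = true := by decide +kernel

theorem orb23c : allFrom (orbOk orbTbl roots cert.sgens table) 64 1408 = true := by decide +kernel

theorem orb24c : allFrom (orbOk orbTbl roots cert.sgens table) 64 1472 = true := by decide +kernel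

theorem orb25c : allFrom (orbOk orbTbl roots cert.sgens table) 64 1536 = true := by decide +kernel

theorem orb26c : allFrom (orbOk orbTbl roots cert.sgens table) 64 1600 = true := by decide +kernel

theorem orb27c : allFrom (orbOk orbTbl roots cert.sgens table) 64 1664 = true := by decide +kernel

theorem orb28c : allFrom (orbOk orbTbl roots cert.sgens table) 64 1728 = true := by decide +kernel

theorem orb29c : allFrom (orbOk orbTbl roots cert.sgens table) 64 1792 = true := by decide +kernel

theorem orb30c : allFrom (orbOk orbTbl roots cert.sgens table) 64 1856 = true := by decide +kernel

theorem orb31c : allFrom (orbOk orbTbl roots cert.sgens table) 64 1920 = true := by decide +kernel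

end Cfsg.Agent.CosetCertFi22OP0
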