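import Cfsg.Agent.Lib.CosetCertFi22OData

/-! Part of the checks of a coset enumeration in the presented group Fi22. -/

set_option autoImplicit false
set_option maxRecDepth 100000
set_option Elab.async false

namespace Cfsg.Agent.CosetCertFi22OP5

open Cfsg.Agent.CosetCertCore Cfsg.Agent.CosetCertTable Cfsg.Agent.CosetCertPres Cfsg.Agent.CosetCertFi22OData

theorem points156c : allFrom (pointOk cert 74716 table) 64 9920 = true := by decide +kernel

theorem points157c : allFrom (pointOk cert 74716 table) 64 9984 = true := by decide +kernel

theorem points158c : allFrom (pointOk cert 74716 table) 64 10048 = true := by decide +kernel

theorem points159c : allFrom (pointOk cert 74716 table) 64 10112 = true := by decide +kernel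

theorem points160c : allFrom (pointOk cert 74716 table) 64 10176 = true := by decide +kernel

theorem points161c : allFrom (pointOk cert 74716 table) 64 10240 = true := by decide +kernel

theorem points162c : allFrom (pointOk cert 74716 table) 64 10304 = true := by decide +kernel

theorem points163c : allFrom (pointOk cert 74716 table) 64 10368 = true := by decide +kernel

theorem points164c : allFrom (pointOk cert 74716 table) 64 10432 = true := by decide +kernel

theorem points165c : allFrom (pointOk cert 74716 table) 64 10496 = true := by decide +kernel

theorem points166c : allFrom (pointOk cert 74716 table) 64 10560 = true := by decide +kernel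

theorem points167c : allFrom (pointOk cert 74716 table) 64 10624 = true := by decide +kernel

theorem points168c : allFrom (pointOk cert 74716 table) 64 10688 = true := by decide +kernel

theorem points169c : allFrom (pointOk cert 74716 table) 64 10752 = true := by decide +kernel

theorem points170c : allFrom (pointOk cert 74716 table) 64 10816 = true := by decide +kernel

theorem points171c : allFrom (pointOk cert 74716 table) 64 10880 = true := by decide +kernel

theorem points172c : allFrom (pointOk cert 74716 table) 64 10944 = true := by decide +kernel

theorem points173c : allFrom (pointOk cert 74716 table) 64 11008 = true := by decide +kernel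

theorem points174c : allFrom (pointOk cert 74716 table) 64 11072 = true := by decide +kernel

theorem points175c : allFrom (pointOk cert 74716 table) 64 11136 = true := by decide +kernel

theorem points176c : allFrom (pointOk cert 74716 table) 64 11200 = true := by decide +kernel

theorem points177c : allFrom (pointOk cert 74716 table) 64 11264 = true := by decide +kernel

theorem points178c : allFrom (pointOk cert 74716 table) 64 11328 = true := by decide +kernel

theorem points179c : allFrom (pointOk cert 74716 table) 64 11392 = true := by decide +kernel

theorem points180c : allFrom (pointOk cert 74716 table) 64 11456 = true := by decide +kernel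

theorem points181c : allFrom (pointOk cert 74716 table) 64 11520 = true := by decide +kernel

theorem points182c : allFrom (pointOk cert 74716 table) 64 11584 = true := by decide +kernel

theorem points183c : allFrom (pointOk cert 74716 table) 64 11648 = true := by decide +kernel

theorem points184c : allFrom (pointOk cert 74716 table) 64 11712 = true := by decide +kernel

theorem points185c : allFrom (pointOk cert 74716 table) 64 11776 = true := by decide +kernel

theorem points186c : allFrom (pointOk cert 74716 table) 64 11840 = true := by decide +kernel

theorem rels156c : allFrom (relsOk cert.rels table) 64 9920 = true := by decide +kernel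

theorem rels157c : allFrom (relsOk cert.rels table) 64 9984 = true := by decide +kernel

theorem rels158c : allFrom (relsOk cert.rels table) 64 10048 = true := by decide +kernel

theorem rels159c : allFrom (relsOk cert.rels table) 64 10112 = true := by decide +kernel

theorem rels160c : allFrom (relsOk cert.rels table) 64 10176 = true := by decide +kernel

theorem rels161c : allFrom (relsOk cert.rels table) 64 10240 = true := by decide +kernel

theorem rels162c : allFrom (relsOk cert.rels table) 64 10304 = true := by decide +kernel

theorem rels163c : allFrom (relsOk cert.rels table) 64 10368 = true := by decide +kernel

theorem rels164c : allFrom (relsOk cert.rels table) 64 10432 = true := by decide +kernel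

theorem rels165c : allFrom (relsOk cert.rels table) 64 10496 = true := by decide +kernel

theorem rels166c : allFrom (relsOk cert.rels table) 64 10560 = true := by decide +kernel

theorem rels167c : allFrom (relsOk cert.rels table) 64 10624 = true := by decide +kernel

theorem rels168c : allFrom (relsOk cert.rels table) 64 10688 = true := by decide +kernel

theorem rels169c : allFrom (relsOk cert.rels table) 64 10752 = true := by decide +kernel

theorem rels170c : allFrom (relsOk cert.rels table) 64 10816 = true := by decide +kernel

theorem rels171c : allFrom (relsOk cert.rels table) 64 10880 = true := by decide +kernel

theorem rels172c : allFrom (relsOk cert.rels table) 64 10944 = true := by decide +kernel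

theorem rels173c : allFrom (relsOk cert.rels table) 64 11008 = true := by decide +kernel

theorem rels174c : allFrom (relsOk cert.rels table) 64 11072 = true := by decide +kernel

theorem rels175c : allFrom (relsOk cert.rels table) 64 11136 = true := by decide +kernel

theorem rels176c : allFrom (relsOk cert.rels table) 64 11200 = true := by decide +kernel

theorem rels177c : allFrom (relsOk cert.rels table) 64 11264 = true := by decide +kernel

theorem rels178c : allFrom (relsOk cert.rels table) 64 11328 = true := by decide +kernel

theorem rels179c : allFrom (relsOk cert.rels table) 64 11392 = true := by decide +kernel

theorem rels180c : allFrom (relsOk cert.rels table) 64 11456 = true := by decide +kernel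

theorem rels181c : allFrom (relsOk cert.rels table) 64 11520 = true := by decide +kernel

theorem rels182c : allFrom (relsOk cert.rels table) 64 11584 = true := by decide +kernel

theorem rels183c : allFrom (relsOk cert.rels table) 64 11648 = true := by decide +kernel

theorem rels184c : allFrom (relsOk cert.rels table) 64 11712 = true := by decide +kernel

theorem rels185c : allFrom (relsOk cert.rels table) 64 11776 = true := by decide +kernel

theorem rels186c : allFrom (relsOk cert.rels table) 64 11840 = true := by decide +kernel

theorem orb156c : allFrom (orbOk orbTbl roots cert.sgens table) 64 9920 = true := by decide +kernel

theorem orb157c : allFrom (orbOk orbTbl roots cert.sgens table) 64 9984 = true := by decide +kernel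

theorem orb158c : allFrom (orbOk orbTbl roots cert.sgens table) 64 10048 = true := by decide +kernel

theorem orb159c : allFrom (orbOk orbTbl roots cert.sgens table) 64 10112 = true := by decide +kernel

theorem orb160c : allFrom (orbOk orbTbl roots cert.sgens table) 64 10176 = true := by decide +kernel

theorem orb161c : allFrom (orbOk orbTbl roots cert.sgens table) 64 10240 = true := by decide +kernel

theorem orb162c : allFrom (orbOk orbTbl roots cert.sgens table) 64 10304 = true := by decide +kernel

theorem orb163c : allFrom (orbOk orbTbl roots cert.sgens table) 64 10368 = true := by decide +kernel

theorem orb164c : allFrom (orbOk orbTbl roots cert.sgens table) 64 10432 = true := by decide +kernel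

theorem orb165c : allFrom (orbOk orbTbl roots cert.sgens table) 64 10496 = true := by decide +kernel

theorem orb166c : allFrom (orbOk orbTbl roots cert.sgens table) 64 10560 = true := by decide +kernel

theorem orb167c : allFrom (orbOk orbTbl roots cert.sgens table) 64 10624 = true := by decide +kernel

theorem orb168c : allFrom (orbOk orbTbl roots cert.sgens table) 64 10688 = true := by decide +kernel

theorem orb169c : allFrom (orbOk orbTbl roots cert.sgens table) 64 10752 = true := by decide +kernel

theorem orb170c : allFrom (orbOk orbTbl roots cert.sgens table) 64 10816 = true := by decide +kernel

theorem orb171c : allFrom (orbOk orbTbl roots cert.sgens table) 64 10880 = true := by decide +kernel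

theorem orb172c : allFrom (orbOk orbTbl roots cert.sgens table) 64 10944 = true := by decide +kernel

theorem orb173c : allFrom (orbOk orbTbl roots cert.sgens table) 64 11008 = true := by decide +kernel

theorem orb174c : allFrom (orbOk orbTbl roots cert.sgens table) 64 11072 = true := by decide +kernel

theorem orb175c : allFrom (orbOk orbTbl roots cert.sgens table) 64 11136 = true := by decide +kernel

theorem orb176c : allFrom (orbOk orbTbl roots cert.sgens table) 64 11200 = true := by decide +kernel

theorem orb177c : allFrom (orbOk orbTbl roots cert.sgens table) 64 11264 = true := by decide +kernel

theorem orb178c : allFrom (orbOk orbTbl roots cert.sgens table) 64 11328 = true := by decide +kernel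

theorem orb179c : allFrom (orbOk orbTbl roots cert.sgens table) 64 11392 = true := by decide +kernel

theorem orb180c : allFrom (orbOk orbTbl roots cert.sgens table) 64 11456 = true := by decide +kernel

theorem orb181c : allFrom (orbOk orbTbl roots cert.sgens table) 64 11520 = true := by decide +kernel

theorem orb182c : allFrom (orbOk orbTbl roots cert.sgens table) 64 11584 = true := by decide +kernel

theorem orb183c : allFrom (orbOk orbTbl roots cert.sgens table) 64 11648 = true := by decide +kernel

theorem orb184c : allFrom (orbOk orbTbl roots cert.sgens table) 64 11712 = true := by decide +kernel

theorem orb185c : allFrom (orbOk orbTbl roots cert.sgens table) 64 11776 = true := by decide +kernel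

theorem orb186c : allFrom (orbOk orbTbl roots cert.sgens table) 64 11840 = true := by decide +kernel

end Cfsg.Agent.CosetCertFi22OP5
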