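import Cfsg.Agent.Lib.CosetCertFi22OData

/-! Part of the checks of a coset enumeration in the presented group Fi22. -/

set_option autoImplicit false
set_option maxRecDepth 100000
set_option Elab.async false

namespace Cfsg.Agent.CosetCertFi22OP6

open Cfsg.Agent.CosetCertCore Cfsg.Agent.CosetCertTable Cfsg.Agent.CosetCertPres Cfsg.Agent.CosetCertFi22OData

theorem points187c : allFrom (pointOk cert 74716 table) 64 11904 = true := by decide +kernel

theorem points188c : allFrom (pointOk cert 74716 table) 64 11968 = true := by decide +kernel

theorem points189c : allFrom (pointOk cert 74716 table) 64 12032 = true := by decide +kernel

theorem points190c : allFrom (pointOk cert 74716 table) 64 12096 = true := by decide +kernel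

theorem points191c : allFrom (pointOk cert 74716 table) 64 12160 = true := by decide +kernel

theorem points192c : allFrom (pointOk cert 74716 table) 64 12224 = true := by decide +kernel

theorem points193c : allFrom (pointOk cert 74716 table) 64 12288 = true := by decide +kernel

theorem points194c : allFrom (pointOk cert 74716 table) 64 12352 = true := by decide +kernel

theorem points195c : allFrom (pointOk cert 74716 table) 64 12416 = true := by decide +kernel

theorem points196c : allFrom (pointOk cert 74716 table) 64 12480 = true := by decide +kernel

theorem points197c : allFrom (pointOk cert 74716 table) 64 12544 = true := by decide +kernel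

theorem points198c : allFrom (pointOk cert 74716 table) 64 12608 = true := by decide +kernel

theorem points199c : allFrom (pointOk cert 74716 table) 64 12672 = true := by decide +kernel

theorem points200c : allFrom (pointOk cert 74716 table) 64 12736 = true := by decide +kernel

theorem points201c : allFrom (pointOk cert 74716 table) 64 12800 = true := by decide +kernel

theorem points202c : allFrom (pointOk cert 74716 table) 64 12864 = true := by decide +kernel

theorem points203c : allFrom (pointOk cert 74716 table) 64 12928 = true := by decide +kernel

theorem points204c : allFrom (pointOk cert 74716 table) 64 12992 = true := by decide +kernel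

theorem points205c : allFrom (pointOk cert 74716 table) 64 13056 = true := by decide +kernel

theorem points206c : allFrom (pointOk cert 74716 table) 64 13120 = true := by decide +kernel

theorem points207c : allFrom (pointOk cert 74716 table) 64 13184 = true := by decide +kernel

theorem points208c : allFrom (pointOk cert 74716 table) 64 13248 = true := by decide +kernel

theorem points209c : allFrom (pointOk cert 74716 table) 64 13312 = true := by decide +kernel

theorem points210c : allFrom (pointOk cert 74716 table) 64 13376 = true := by decide +kernel

theorem points211c : allFrom (pointOk cert 74716 table) 64 13440 = true := by decide +kernel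

theorem points212c : allFrom (pointOk cert 74716 table) 64 13504 = true := by decide +kernel

theorem points213c : allFrom (pointOk cert 74716 table) 64 13568 = true := by decide +kernel

theorem points214c : allFrom (pointOk cert 74716 table) 64 13632 = true := by decide +kernel

theorem points215c : allFrom (pointOk cert 74716 table) 64 13696 = true := by decide +kernel

theorem points216c : allFrom (pointOk cert 74716 table) 64 13760 = true := by decide +kernel

theorem points217c : allFrom (pointOk cert 74716 table) 64 13824 = true := by decide +kernel

theorem rels187c : allFrom (relsOk cert.rels table) 64 11904 = true := by decide +kernel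

theorem rels188c : allFrom (relsOk cert.rels table) 64 11968 = true := by decide +kernel

theorem rels189c : allFrom (relsOk cert.rels table) 64 12032 = true := by decide +kernel

theorem rels190c : allFrom (relsOk cert.rels table) 64 12096 = true := by decide +kernel

theorem rels191c : allFrom (relsOk cert.rels table) 64 12160 = true := by decide +kernel

theorem rels192c : allFrom (relsOk cert.rels table) 64 12224 = true := by decide +kernel

theorem rels193c : allFrom (relsOk cert.rels table) 64 12288 = true := by decide +kernel

theorem rels194c : allFrom (relsOk cert.rels table) 64 12352 = true := by decide +kernel

theorem rels195c : allFrom (relsOk cert.rels table) 64 12416 = true := by decide +kernel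

theorem rels196c : allFrom (relsOk cert.rels table) 64 12480 = true := by decide +kernel

theorem rels197c : allFrom (relsOk cert.rels table) 64 12544 = true := by decide +kernel

theorem rels198c : allFrom (relsOk cert.rels table) 64 12608 = true := by decide +kernel

theorem rels199c : allFrom (relsOk cert.rels table) 64 12672 = true := by decide +kernel

theorem rels200c : allFrom (relsOk cert.rels table) 64 12736 = true := by decide +kernel

theorem rels201c : allFrom (relsOk cert.rels table) 64 12800 = true := by decide +kernel

theorem rels202c : allFrom (relsOk cert.rels table) 64 12864 = true := by decide +kernel

theorem rels203c : allFrom (relsOk cert.rels table) 64 12928 = true := by decide +kernel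

theorem rels204c : allFrom (relsOk cert.rels table) 64 12992 = true := by decide +kernel

theorem rels205c : allFrom (relsOk cert.rels table) 64 13056 = true := by decide +kernel

theorem rels206c : allFrom (relsOk cert.rels table) 64 13120 = true := by decide +kernel

theorem rels207c : allFrom (relsOk cert.rels table) 64 13184 = true := by decide +kernel

theorem rels208c : allFrom (relsOk cert.rels table) 64 13248 = true := by decide +kernel

theorem rels209c : allFrom (relsOk cert.rels table) 64 13312 = true := by decide +kernel

theorem rels210c : allFrom (relsOk cert.rels table) 64 13376 = true := by decide +kernel

theorem rels211c : allFrom (relsOk cert.rels table) 64 13440 = true := by decide +kernel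

theorem rels212c : allFrom (relsOk cert.rels table) 64 13504 = true := by decide +kernel

theorem rels213c : allFrom (relsOk cert.rels table) 64 13568 = true := by decide +kernel

theorem rels214c : allFrom (relsOk cert.rels table) 64 13632 = true := by decide +kernel

theorem rels215c : allFrom (relsOk cert.rels table) 64 13696 = true := by decide +kernel

theorem rels216c : allFrom (relsOk cert.rels table) 64 13760 = true := by decide +kernel

theorem rels217c : allFrom (relsOk cert.rels table) 64 13824 = true := by decide +kernel

theorem orb187c : allFrom (orbOk orbTbl roots cert.sgens table) 64 11904 = true := by decide +kernel

theorem orb188c : allFrom (orbOk orbTbl roots cert.sgens table) 64 11968 = true := by decide +kernel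

theorem orb189c : allFrom (orbOk orbTbl roots cert.sgens table) 64 12032 = true := by decide +kernel

theorem orb190c : allFrom (orbOk orbTbl roots cert.sgens table) 64 12096 = true := by decide +kernel

theorem orb191c : allFrom (orbOk orbTbl roots cert.sgens table) 64 12160 = true := by decide +kernel

theorem orb192c : allFrom (orbOk orbTbl roots cert.sgens table) 64 12224 = true := by decide +kernel

theorem orb193c : allFrom (orbOk orbTbl roots cert.sgens table) 64 12288 = true := by decide +kernel

theorem orb194c : allFrom (orbOk orbTbl roots cert.sgens table) 64 12352 = true := by decide +kernel

theorem orb195c : allFrom (orbOk orbTbl roots cert.sgens table) 64 12416 = true := by decide +kernel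

theorem orb196c : allFrom (orbOk orbTbl roots cert.sgens table) 64 12480 = true := by decide +kernel

theorem orb197c : allFrom (orbOk orbTbl roots cert.sgens table) 64 12544 = true := by decide +kernel

theorem orb198c : allFrom (orbOk orbTbl roots cert.sgens table) 64 12608 = true := by decide +kernel

theorem orb199c : allFrom (orbOk orbTbl roots cert.sgens table) 64 12672 = true := by decide +kernel

theorem orb200c : allFrom (orbOk orbTbl roots cert.sgens table) 64 12736 = true := by decide +kernel

theorem orb201c : allFrom (orbOk orbTbl roots cert.sgens table) 64 12800 = true := by decide +kernel

theorem orb202c : allFrom (orbOk orbTbl roots cert.sgens table) 64 12864 = true := by decide +kernel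

theorem orb203c : allFrom (orbOk orbTbl roots cert.sgens table) 64 12928 = true := by decide +kernel

theorem orb204c : allFrom (orbOk orbTbl roots cert.sgens table) 64 12992 = true := by decide +kernel

theorem orb205c : allFrom (orbOk orbTbl roots cert.sgens table) 64 13056 = true := by decide +kernel

theorem orb206c : allFrom (orbOk orbTbl roots cert.sgens table) 64 13120 = true := by decide +kernel

theorem orb207c : allFrom (orbOk orbTbl roots cert.sgens table) 64 13184 = true := by decide +kernel

theorem orb208c : allFrom (orbOk orbTbl roots cert.sgens table) 64 13248 = true := by decide +kernel

theorem orb209c : allFrom (orbOk orbTbl roots cert.sgens table) 64 13312 = true := by decide +kernel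

theorem orb210c : allFrom (orbOk orbTbl roots cert.sgens table) 64 13376 = true := by decide +kernel

theorem orb211c : allFrom (orbOk orbTbl roots cert.sgens table) 64 13440 = true := by decide +kernel

theorem orb212c : allFrom (orbOk orbTbl roots cert.sgens table) 64 13504 = true := by decide +kernel

theorem orb213c : allFrom (orbOk orbTbl roots cert.sgens table) 64 13568 = true := by decide +kernel

theorem orb214c : allFrom (orbOk orbTbl roots cert.sgens table) 64 13632 = true := by decide +kernel

theorem orb215c : allFrom (orbOk orbTbl roots cert.sgens table) 64 13696 = true := by decide +kernel

theorem orb216c : allFrom (orbOk orbTbl roots cert.sgens table) 64 13760 = true := by decide +kernel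

theorem orb217c : allFrom (orbOk orbTbl roots cert.sgens table) 64 13824 = true := by decide +kernel

end Cfsg.Agent.CosetCertFi22OP6
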