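import Cfsg.Agent.Lib.CosetCertFi22OData

/-! Part of the checks of a coset enumeration in the presented group Fi22. -/

set_option autoImplicit false
set_option maxRecDepth 100000
set_option Elab.async false

namespace Cfsg.Agent.CosetCertFi22OP7

open Cfsg.Agent.CosetCertCore Cfsg.Agent.CosetCertTable Cfsg.Agent.CosetCertPres Cfsg.Agent.CosetCertFi22OData

theorem points218c : allFrom (pointOk cert 74716 table) 64 13888 = true := by decide +kernel

theorem points219c : allFrom (pointOk cert 74716 table) 64 13952 = true := by decide +kernel

theorem points220c : allFrom (pointOk cert 74716 table) 64 14016 = true := by decide +kernel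

theorem rels218c : allFrom (relsOk cert.rels table) 64 13888 = true := by decide +kernel

theorem rels219c : allFrom (relsOk cert.rels table) 64 13952 = true := by decide +kernel

theorem rels220c : allFrom (relsOk cert.rels table) 64 14016 = true := by decide +kernel

theorem orb218c : allFrom (orbOk orbTbl roots cert.sgens table) 64 13888 = true := by decide +kernel

theorem orb219c : allFrom (orbOk orbTbl roots cert.sgens table) 64 13952 = true := by decide +kernel

theorem orb220c : allFrom (orbOk orbTbl roots cert.sgens table) 64 14016 = true := by decide +kernel

end Cfsg.Agent.CosetCertFi22OP7
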