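import Cfsg.Agent.Lib.CosetCertFi22OC0
import Cfsg.Agent.Lib.CosetCertFi22OC1
import Cfsg.Agent.Lib.CosetCertFi22OC2
import Cfsg.Agent.Lib.CosetCertFi22OC3
import Cfsg.Agent.Lib.CosetCertFi22OP0
import Cfsg.Agent.Lib.CosetCertFi22OP1
import Cfsg.Agent.Lib.CosetCertFi22OP2
import Cfsg.Agent.Lib.CosetCertFi22OP3
import Cfsg.Agent.Lib.CosetCertFi22OP4
import Cfsg.Agent.Lib.CosetCertFi22OP5
import Cfsg.Agent.Lib.CosetCertFi22OP6
import Cfsg.Agent.Lib.CosetCertFi22OP7


/-! Checks of a coset enumeration in the presented group Fi22. -/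

set_option autoImplicit false
set_option maxRecDepth 100000

namespace Cfsg.Agent.CosetCertFi22O

open Cfsg.Agent.CosetCertCore Cfsg.Agent.CosetCertTable Cfsg.Agent.CosetCertPres Cfsg.Agent.CosetCertFi22OData

/-- The facts hold up to `n`. -/
def Valid (n : Nat) : Prop :=
  ∀ {G X : Type} [Group G] [MulAction G X] (g : Nat → G) (base : X),
    Ctx g base cert → AllValid g (nodeVal g base cert) cert n

theorem Valid.step {lo n : Nat} (h : Valid lo) (L : List Nat)
    (hn : (Nat.beq (lo + L.length) n && checkList cert L lo) = true) : Valid n := by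
  rw [Bool.and_eq_true, Nat.beq_eq] at hn
  intro G X _ _ g base hC
  exact hn.1 ▸ checkList_sound g base hC L lo (h g base hC) hn.2

theorem valid0 : Valid 0 := fun _ _ _ _ h => absurd h (Nat.not_lt_zero _)

theorem valid1 : Valid 256 := valid0.step Cfsg.Agent.CosetCertFi22OC0.just0 Cfsg.Agent.CosetCertFi22OC0.check0

theorem valid2 : Valid 512 := valid1.step Cfsg.Agent.CosetCertFi22OC0.just1 Cfsg.Agent.CosetCertFi22OC0.check1

theorem valid3 : Valid 768 := valid2.step Cfsg.Agent.CosetCertFi22OC0.just2 Cfsg.Agent.CosetCertFi22OC0.check2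

theorem valid4 : Valid 1024 := valid3.step Cfsg.Agent.CosetCertFi22OC0.just3 Cfsg.Agent.CosetCertFi22OC0.check3

theorem valid5 : Valid 1280 := valid4.step Cfsg.Agent.CosetCertFi22OC0.just4 Cfsg.Agent.CosetCertFi22OC0.check4

theorem valid6 : Valid 1536 := valid5.step Cfsg.Agent.CosetCertFi22OC0.just5 Cfsg.Agent.CosetCertFi22OC0.check5

theorem valid7 : Valid 1792 := valid6.step Cfsg.Agent.CosetCertFi22OC0.just6 Cfsg.Agent.CosetCertFi22OC0.check6

theorem valid8 : Valid 2048 := valid7.step Cfsg.Agent.CosetCertFi22OC0.just7 Cfsg.Agent.CosetCertFi22OC0.check7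

theorem valid9 : Valid 2304 := valid8.step Cfsg.Agent.CosetCertFi22OC0.just8 Cfsg.Agent.CosetCertFi22OC0.check8

theorem valid10 : Valid 2560 := valid9.step Cfsg.Agent.CosetCertFi22OC0.just9 Cfsg.Agent.CosetCertFi22OC0.check9

theorem valid11 : Valid 2816 := valid10.step Cfsg.Agent.CosetCertFi22OC0.just10 Cfsg.Agent.CosetCertFi22OC0.check10

theorem valid12 : Valid 3072 := valid11.step Cfsg.Agent.CosetCertFi22OC0.just11 Cfsg.Agent.CosetCertFi22OC0.check11

theorem valid13 : Valid 3328 := valid12.step Cfsg.Agent.CosetCertFi22OC0.just12 Cfsg.Agent.CosetCertFi22OC0.check12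

theorem valid14 : Valid 3584 := valid13.step Cfsg.Agent.CosetCertFi22OC0.just13 Cfsg.Agent.CosetCertFi22OC0.check13

theorem valid15 : Valid 3840 := valid14.step Cfsg.Agent.CosetCertFi22OC0.just14 Cfsg.Agent.CosetCertFi22OC0.check14

theorem valid16 : Valid 4096 := valid15.step Cfsg.Agent.CosetCertFi22OC0.just15 Cfsg.Agent.CosetCertFi22OC0.check15

theorem valid17 : Valid 4352 := valid16.step Cfsg.Agent.CosetCertFi22OC0.just16 Cfsg.Agent.CosetCertFi22OC0.check16

theorem valid18 : Valid 4608 := valid17.step Cfsg.Agent.CosetCertFi22OC0.just17 Cfsg.Agent.CosetCertFi22OC0.check17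

theorem valid19 : Valid 4864 := valid18.step Cfsg.Agent.CosetCertFi22OC0.just18 Cfsg.Agent.CosetCertFi22OC0.check18

theorem valid20 : Valid 5120 := valid19.step Cfsg.Agent.CosetCertFi22OC0.just19 Cfsg.Agent.CosetCertFi22OC0.check19

theorem valid21 : Valid 5376 := valid20.step Cfsg.Agent.CosetCertFi22OC0.just20 Cfsg.Agent.CosetCertFi22OC0.check20

theorem valid22 : Valid 5632 := valid21.step Cfsg.Agent.CosetCertFi22OC0.just21 Cfsg.Agent.CosetCertFi22OC0.check21

theorem valid23 : Valid 5888 := valid22.step Cfsg.Agent.CosetCertFi22OC0.just22 Cfsg.Agent.CosetCertFi22OC0.check22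

theorem valid24 : Valid 6144 := valid23.step Cfsg.Agent.CosetCertFi22OC0.just23 Cfsg.Agent.CosetCertFi22OC0.check23

theorem valid25 : Valid 6400 := valid24.step Cfsg.Agent.CosetCertFi22OC0.just24 Cfsg.Agent.CosetCertFi22OC0.check24

theorem valid26 : Valid 6656 := valid25.step Cfsg.Agent.CosetCertFi22OC0.just25 Cfsg.Agent.CosetCertFi22OC0.check25

theorem valid27 : Valid 6912 := valid26.step Cfsg.Agent.CosetCertFi22OC0.just26 Cfsg.Agent.CosetCertFi22OC0.check26

theorem valid28 : Valid 7168 := valid27.step Cfsg.Agent.CosetCertFi22OC0.just27 Cfsg.Agent.CosetCertFi22OC0.check27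

theorem valid29 : Valid 7424 := valid28.step Cfsg.Agent.CosetCertFi22OC0.just28 Cfsg.Agent.CosetCertFi22OC0.check28

theorem valid30 : Valid 7680 := valid29.step Cfsg.Agent.CosetCertFi22OC0.just29 Cfsg.Agent.CosetCertFi22OC0.check29

theorem valid31 : Valid 7936 := valid30.step Cfsg.Agent.CosetCertFi22OC0.just30 Cfsg.Agent.CosetCertFi22OC0.check30

theorem valid32 : Valid 8192 := valid31.step Cfsg.Agent.CosetCertFi22OC0.just31 Cfsg.Agent.CosetCertFi22OC0.check31

theorem valid33 : Valid 8448 := valid32.step Cfsg.Agent.CosetCertFi22OC0.just32 Cfsg.Agent.CosetCertFi22OC0.check32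

theorem valid34 : Valid 8704 := valid33.step Cfsg.Agent.CosetCertFi22OC0.just33 Cfsg.Agent.CosetCertFi22OC0.check33

theorem valid35 : Valid 8960 := valid34.step Cfsg.Agent.CosetCertFi22OC0.just34 Cfsg.Agent.CosetCertFi22OC0.check34

theorem valid36 : Valid 9216 := valid35.step Cfsg.Agent.CosetCertFi22OC0.just35 Cfsg.Agent.CosetCertFi22OC0.check35

theorem valid37 : Valid 9472 := valid36.step Cfsg.Agent.CosetCertFi22OC0.just36 Cfsg.Agent.CosetCertFi22OC0.check36

theorem valid38 : Valid 9728 := valid37.step Cfsg.Agent.CosetCertFi22OC0.just37 Cfsg.Agent.CosetCertFi22OC0.check37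

theorem valid39 : Valid 9984 := valid38.step Cfsg.Agent.CosetCertFi22OC0.just38 Cfsg.Agent.CosetCertFi22OC0.check38

theorem valid40 : Valid 10240 := valid39.step Cfsg.Agent.CosetCertFi22OC0.just39 Cfsg.Agent.CosetCertFi22OC0.check39

theorem valid41 : Valid 10496 := valid40.step Cfsg.Agent.CosetCertFi22OC0.just40 Cfsg.Agent.CosetCertFi22OC0.check40

theorem valid42 : Valid 10752 := valid41.step Cfsg.Agent.CosetCertFi22OC0.just41 Cfsg.Agent.CosetCertFi22OC0.check41

theorem valid43 : Valid 11008 := valid42.step Cfsg.Agent.CosetCertFi22OC0.just42 Cfsg.Agent.CosetCertFi22OC0.check42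

theorem valid44 : Valid 11264 := valid43.step Cfsg.Agent.CosetCertFi22OC0.just43 Cfsg.Agent.CosetCertFi22OC0.check43

theorem valid45 : Valid 11520 := valid44.step Cfsg.Agent.CosetCertFi22OC0.just44 Cfsg.Agent.CosetCertFi22OC0.check44

theorem valid46 : Valid 11776 := valid45.step Cfsg.Agent.CosetCertFi22OC0.just45 Cfsg.Agent.CosetCertFi22OC0.check45

theorem valid47 : Valid 12032 := valid46.step Cfsg.Agent.CosetCertFi22OC0.just46 Cfsg.Agent.CosetCertFi22OC0.check46

theorem valid48 : Valid 12288 := valid47.step Cfsg.Agent.CosetCertFi22OC0.just47 Cfsg.Agent.CosetCertFi22OC0.check47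

theorem valid49 : Valid 12544 := valid48.step Cfsg.Agent.CosetCertFi22OC0.just48 Cfsg.Agent.CosetCertFi22OC0.check48

theorem valid50 : Valid 12800 := valid49.step Cfsg.Agent.CosetCertFi22OC0.just49 Cfsg.Agent.CosetCertFi22OC0.check49

theorem valid51 : Valid 13056 := valid50.step Cfsg.Agent.CosetCertFi22OC0.just50 Cfsg.Agent.CosetCertFi22OC0.check50

theorem valid52 : Valid 13312 := valid51.step Cfsg.Agent.CosetCertFi22OC0.just51 Cfsg.Agent.CosetCertFi22OC0.check51

theorem valid53 : Valid 13568 := valid52.step Cfsg.Agent.CosetCertFi22OC0.just52 Cfsg.Agent.CosetCertFi22OC0.check52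

theorem valid54 : Valid 13824 := valid53.step Cfsg.Agent.CosetCertFi22OC0.just53 Cfsg.Agent.CosetCertFi22OC0.check53

theorem valid55 : Valid 14080 := valid54.step Cfsg.Agent.CosetCertFi22OC0.just54 Cfsg.Agent.CosetCertFi22OC0.check54

theorem valid56 : Valid 14336 := valid55.step Cfsg.Agent.CosetCertFi22OC0.just55 Cfsg.Agent.CosetCertFi22OC0.check55

theorem valid57 : Valid 14592 := valid56.step Cfsg.Agent.CosetCertFi22OC0.just56 Cfsg.Agent.CosetCertFi22OC0.check56

theorem valid58 : Valid 14848 := valid57.step Cfsg.Agent.CosetCertFi22OC0.just57 Cfsg.Agent.CosetCertFi22OC0.check57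

theorem valid59 : Valid 15104 := valid58.step Cfsg.Agent.CosetCertFi22OC0.just58 Cfsg.Agent.CosetCertFi22OC0.check58

theorem valid60 : Valid 15360 := valid59.step Cfsg.Agent.CosetCertFi22OC0.just59 Cfsg.Agent.CosetCertFi22OC0.check59

theorem valid61 : Valid 15616 := valid60.step Cfsg.Agent.CosetCertFi22OC0.just60 Cfsg.Agent.CosetCertFi22OC0.check60

theorem valid62 : Valid 15872 := valid61.step Cfsg.Agent.CosetCertFi22OC0.just61 Cfsg.Agent.CosetCertFi22OC0.check61

theorem valid63 : Valid 16128 := valid62.step Cfsg.Agent.CosetCertFi22OC0.just62 Cfsg.Agent.CosetCertFi22OC0.check62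

theorem valid64 : Valid 16384 := valid63.step Cfsg.Agent.CosetCertFi22OC0.just63 Cfsg.Agent.CosetCertFi22OC0.check63

theorem valid65 : Valid 16640 := valid64.step Cfsg.Agent.CosetCertFi22OC0.just64 Cfsg.Agent.CosetCertFi22OC0.check64

theorem valid66 : Valid 16896 := valid65.step Cfsg.Agent.CosetCertFi22OC0.just65 Cfsg.Agent.CosetCertFi22OC0.check65

theorem valid67 : Valid 17152 := valid66.step Cfsg.Agent.CosetCertFi22OC0.just66 Cfsg.Agent.CosetCertFi22OC0.check66

theorem valid68 : Valid 17408 := valid67.step Cfsg.Agent.CosetCertFi22OC0.just67 Cfsg.Agent.CosetCertFi22OC0.check67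

theorem valid69 : Valid 17664 := valid68.step Cfsg.Agent.CosetCertFi22OC0.just68 Cfsg.Agent.CosetCertFi22OC0.check68

theorem valid70 : Valid 17920 := valid69.step Cfsg.Agent.CosetCertFi22OC0.just69 Cfsg.Agent.CosetCertFi22OC0.check69

theorem valid71 : Valid 18176 := valid70.step Cfsg.Agent.CosetCertFi22OC0.just70 Cfsg.Agent.CosetCertFi22OC0.check70

theorem valid72 : Valid 18432 := valid71.step Cfsg.Agent.CosetCertFi22OC0.just71 Cfsg.Agent.CosetCertFi22OC0.check71

theorem valid73 : Valid 18688 := valid72.step Cfsg.Agent.CosetCertFi22OC0.just72 Cfsg.Agent.CosetCertFi22OC0.check72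

theorem valid74 : Valid 18944 := valid73.step Cfsg.Agent.CosetCertFi22OC0.just73 Cfsg.Agent.CosetCertFi22OC0.check73

theorem valid75 : Valid 19200 := valid74.step Cfsg.Agent.CosetCertFi22OC0.just74 Cfsg.Agent.CosetCertFi22OC0.check74

theorem valid76 : Valid 19456 := valid75.step Cfsg.Agent.CosetCertFi22OC0.just75 Cfsg.Agent.CosetCertFi22OC0.check75

theorem valid77 : Valid 19712 := valid76.step Cfsg.Agent.CosetCertFi22OC0.just76 Cfsg.Agent.CosetCertFi22OC0.check76

theorem valid78 : Valid 19968 := valid77.step Cfsg.Agent.CosetCertFi22OC0.just77 Cfsg.Agent.CosetCertFi22OC0.check77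

theorem valid79 : Valid 20224 := valid78.step Cfsg.Agent.CosetCertFi22OC1.just78 Cfsg.Agent.CosetCertFi22OC1.check78

theorem valid80 : Valid 20480 := valid79.step Cfsg.Agent.CosetCertFi22OC1.just79 Cfsg.Agent.CosetCertFi22OC1.check79

theorem valid81 : Valid 20736 := valid80.step Cfsg.Agent.CosetCertFi22OC1.just80 Cfsg.Agent.CosetCertFi22OC1.check80

theorem valid82 : Valid 20992 := valid81.step Cfsg.Agent.CosetCertFi22OC1.just81 Cfsg.Agent.CosetCertFi22OC1.check81

theorem valid83 : Valid 21248 := valid82.step Cfsg.Agent.CosetCertFi22OC1.just82 Cfsg.Agent.CosetCertFi22OC1.check82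

theorem valid84 : Valid 21504 := valid83.step Cfsg.Agent.CosetCertFi22OC1.just83 Cfsg.Agent.CosetCertFi22OC1.check83

theorem valid85 : Valid 21760 := valid84.step Cfsg.Agent.CosetCertFi22OC1.just84 Cfsg.Agent.CosetCertFi22OC1.check84

theorem valid86 : Valid 22016 := valid85.step Cfsg.Agent.CosetCertFi22OC1.just85 Cfsg.Agent.CosetCertFi22OC1.check85

theorem valid87 : Valid 22272 := valid86.step Cfsg.Agent.CosetCertFi22OC1.just86 Cfsg.Agent.CosetCertFi22OC1.check86

theorem valid88 : Valid 22528 := valid87.step Cfsg.Agent.CosetCertFi22OC1.just87 Cfsg.Agent.CosetCertFi22OC1.check87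

theorem valid89 : Valid 22784 := valid88.step Cfsg.Agent.CosetCertFi22OC1.just88 Cfsg.Agent.CosetCertFi22OC1.check88

theorem valid90 : Valid 23040 := valid89.step Cfsg.Agent.CosetCertFi22OC1.just89 Cfsg.Agent.CosetCertFi22OC1.check89

theorem valid91 : Valid 23296 := valid90.step Cfsg.Agent.CosetCertFi22OC1.just90 Cfsg.Agent.CosetCertFi22OC1.check90

theorem valid92 : Valid 23552 := valid91.step Cfsg.Agent.CosetCertFi22OC1.just91 Cfsg.Agent.CosetCertFi22OC1.check91

theorem valid93 : Valid 23808 := valid92.step Cfsg.Agent.CosetCertFi22OC1.just92 Cfsg.Agent.CosetCertFi22OC1.check92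

theorem valid94 : Valid 24064 := valid93.step Cfsg.Agent.CosetCertFi22OC1.just93 Cfsg.Agent.CosetCertFi22OC1.check93

theorem valid95 : Valid 24320 := valid94.step Cfsg.Agent.CosetCertFi22OC1.just94 Cfsg.Agent.CosetCertFi22OC1.check94

theorem valid96 : Valid 24576 := valid95.step Cfsg.Agent.CosetCertFi22OC1.just95 Cfsg.Agent.CosetCertFi22OC1.check95

theorem valid97 : Valid 24832 := valid96.step Cfsg.Agent.CosetCertFi22OC1.just96 Cfsg.Agent.CosetCertFi22OC1.check96

theorem valid98 : Valid 25088 := valid97.step Cfsg.Agent.CosetCertFi22OC1.just97 Cfsg.Agent.CosetCertFi22OC1.check97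

theorem valid99 : Valid 25344 := valid98.step Cfsg.Agent.CosetCertFi22OC1.just98 Cfsg.Agent.CosetCertFi22OC1.check98

theorem valid100 : Valid 25600 := valid99.step Cfsg.Agent.CosetCertFi22OC1.just99 Cfsg.Agent.CosetCertFi22OC1.check99

theorem valid101 : Valid 25856 := valid100.step Cfsg.Agent.CosetCertFi22OC1.just100 Cfsg.Agent.CosetCertFi22OC1.check100

theorem valid102 : Valid 26112 := valid101.step Cfsg.Agent.CosetCertFi22OC1.just101 Cfsg.Agent.CosetCertFi22OC1.check101

theorem valid103 : Valid 26368 := valid102.step Cfsg.Agent.CosetCertFi22OC1.just102 Cfsg.Agent.CosetCertFi22OC1.check102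

theorem valid104 : Valid 26624 := valid103.step Cfsg.Agent.CosetCertFi22OC1.just103 Cfsg.Agent.CosetCertFi22OC1.check103

theorem valid105 : Valid 26880 := valid104.step Cfsg.Agent.CosetCertFi22OC1.just104 Cfsg.Agent.CosetCertFi22OC1.check104

theorem valid106 : Valid 27136 := valid105.step Cfsg.Agent.CosetCertFi22OC1.just105 Cfsg.Agent.CosetCertFi22OC1.check105

theorem valid107 : Valid 27392 := valid106.step Cfsg.Agent.CosetCertFi22OC1.just106 Cfsg.Agent.CosetCertFi22OC1.check106

theorem valid108 : Valid 27648 := valid107.step Cfsg.Agent.CosetCertFi22OC1.just107 Cfsg.Agent.CosetCertFi22OC1.check107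

theorem valid109 : Valid 27904 := valid108.step Cfsg.Agent.CosetCertFi22OC1.just108 Cfsg.Agent.CosetCertFi22OC1.check108

theorem valid110 : Valid 28160 := valid109.step Cfsg.Agent.CosetCertFi22OC1.just109 Cfsg.Agent.CosetCertFi22OC1.check109

theorem valid111 : Valid 28416 := valid110.step Cfsg.Agent.CosetCertFi22OC1.just110 Cfsg.Agent.CosetCertFi22OC1.check110

theorem valid112 : Valid 28672 := valid111.step Cfsg.Agent.CosetCertFi22OC1.just111 Cfsg.Agent.CosetCertFi22OC1.check111

theorem valid113 : Valid 28928 := valid112.step Cfsg.Agent.CosetCertFi22OC1.just112 Cfsg.Agent.CosetCertFi22OC1.check112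

theorem valid114 : Valid 29184 := valid113.step Cfsg.Agent.CosetCertFi22OC1.just113 Cfsg.Agent.CosetCertFi22OC1.check113

theorem valid115 : Valid 29440 := valid114.step Cfsg.Agent.CosetCertFi22OC1.just114 Cfsg.Agent.CosetCertFi22OC1.check114

theorem valid116 : Valid 29696 := valid115.step Cfsg.Agent.CosetCertFi22OC1.just115 Cfsg.Agent.CosetCertFi22OC1.check115

theorem valid117 : Valid 29952 := valid116.step Cfsg.Agent.CosetCertFi22OC1.just116 Cfsg.Agent.CosetCertFi22OC1.check116

theorem valid118 : Valid 30208 := valid117.step Cfsg.Agent.CosetCertFi22OC1.just117 Cfsg.Agent.CosetCertFi22OC1.check117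

theorem valid119 : Valid 30464 := valid118.step Cfsg.Agent.CosetCertFi22OC1.just118 Cfsg.Agent.CosetCertFi22OC1.check118

theorem valid120 : Valid 30720 := valid119.step Cfsg.Agent.CosetCertFi22OC1.just119 Cfsg.Agent.CosetCertFi22OC1.check119

theorem valid121 : Valid 30976 := valid120.step Cfsg.Agent.CosetCertFi22OC1.just120 Cfsg.Agent.CosetCertFi22OC1.check120

theorem valid122 : Valid 31232 := valid121.step Cfsg.Agent.CosetCertFi22OC1.just121 Cfsg.Agent.CosetCertFi22OC1.check121

theorem valid123 : Valid 31488 := valid122.step Cfsg.Agent.CosetCertFi22OC1.just122 Cfsg.Agent.CosetCertFi22OC1.check122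

theorem valid124 : Valid 31744 := valid123.step Cfsg.Agent.CosetCertFi22OC1.just123 Cfsg.Agent.CosetCertFi22OC1.check123

theorem valid125 : Valid 32000 := valid124.step Cfsg.Agent.CosetCertFi22OC1.just124 Cfsg.Agent.CosetCertFi22OC1.check124

theorem valid126 : Valid 32256 := valid125.step Cfsg.Agent.CosetCertFi22OC1.just125 Cfsg.Agent.CosetCertFi22OC1.check125

theorem valid127 : Valid 32512 := valid126.step Cfsg.Agent.CosetCertFi22OC1.just126 Cfsg.Agent.CosetCertFi22OC1.check126

theorem valid128 : Valid 32768 := valid127.step Cfsg.Agent.CosetCertFi22OC1.just127 Cfsg.Agent.CosetCertFi22OC1.check127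

theorem valid129 : Valid 33024 := valid128.step Cfsg.Agent.CosetCertFi22OC1.just128 Cfsg.Agent.CosetCertFi22OC1.check128

theorem valid130 : Valid 33280 := valid129.step Cfsg.Agent.CosetCertFi22OC1.just129 Cfsg.Agent.CosetCertFi22OC1.check129

theorem valid131 : Valid 33536 := valid130.step Cfsg.Agent.CosetCertFi22OC1.just130 Cfsg.Agent.CosetCertFi22OC1.check130

theorem valid132 : Valid 33792 := valid131.step Cfsg.Agent.CosetCertFi22OC1.just131 Cfsg.Agent.CosetCertFi22OC1.check131

theorem valid133 : Valid 34048 := valid132.step Cfsg.Agent.CosetCertFi22OC1.just132 Cfsg.Agent.CosetCertFi22OC1.check132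

theorem valid134 : Valid 34304 := valid133.step Cfsg.Agent.CosetCertFi22OC1.just133 Cfsg.Agent.CosetCertFi22OC1.check133

theorem valid135 : Valid 34560 := valid134.step Cfsg.Agent.CosetCertFi22OC1.just134 Cfsg.Agent.CosetCertFi22OC1.check134

theorem valid136 : Valid 34816 := valid135.step Cfsg.Agent.CosetCertFi22OC1.just135 Cfsg.Agent.CosetCertFi22OC1.check135

theorem valid137 : Valid 35072 := valid136.step Cfsg.Agent.CosetCertFi22OC1.just136 Cfsg.Agent.CosetCertFi22OC1.check136

theorem valid138 : Valid 35328 := valid137.step Cfsg.Agent.CosetCertFi22OC1.just137 Cfsg.Agent.CosetCertFi22OC1.check137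

theorem valid139 : Valid 35584 := valid138.step Cfsg.Agent.CosetCertFi22OC1.just138 Cfsg.Agent.CosetCertFi22OC1.check138

theorem valid140 : Valid 35840 := valid139.step Cfsg.Agent.CosetCertFi22OC1.just139 Cfsg.Agent.CosetCertFi22OC1.check139

theorem valid141 : Valid 36096 := valid140.step Cfsg.Agent.CosetCertFi22OC1.just140 Cfsg.Agent.CosetCertFi22OC1.check140

theorem valid142 : Valid 36352 := valid141.step Cfsg.Agent.CosetCertFi22OC1.just141 Cfsg.Agent.CosetCertFi22OC1.check141

theorem valid143 : Valid 36608 := valid142.step Cfsg.Agent.CosetCertFi22OC1.just142 Cfsg.Agent.CosetCertFi22OC1.check142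

theorem valid144 : Valid 36864 := valid143.step Cfsg.Agent.CosetCertFi22OC1.just143 Cfsg.Agent.CosetCertFi22OC1.check143

theorem valid145 : Valid 37120 := valid144.step Cfsg.Agent.CosetCertFi22OC1.just144 Cfsg.Agent.CosetCertFi22OC1.check144

theorem valid146 : Valid 37376 := valid145.step Cfsg.Agent.CosetCertFi22OC1.just145 Cfsg.Agent.CosetCertFi22OC1.check145

theorem valid147 : Valid 37632 := valid146.step Cfsg.Agent.CosetCertFi22OC1.just146 Cfsg.Agent.CosetCertFi22OC1.check146

theorem valid148 : Valid 37888 := valid147.step Cfsg.Agent.CosetCertFi22OC1.just147 Cfsg.Agent.CosetCertFi22OC1.check147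

theorem valid149 : Valid 38144 := valid148.step Cfsg.Agent.CosetCertFi22OC1.just148 Cfsg.Agent.CosetCertFi22OC1.check148

theorem valid150 : Valid 38400 := valid149.step Cfsg.Agent.CosetCertFi22OC1.just149 Cfsg.Agent.CosetCertFi22OC1.check149

theorem valid151 : Valid 38656 := valid150.step Cfsg.Agent.CosetCertFi22OC1.just150 Cfsg.Agent.CosetCertFi22OC1.check150

theorem valid152 : Valid 38912 := valid151.step Cfsg.Agent.CosetCertFi22OC1.just151 Cfsg.Agent.CosetCertFi22OC1.check151

theorem valid153 : Valid 39168 := valid152.step Cfsg.Agent.CosetCertFi22OC1.just152 Cfsg.Agent.CosetCertFi22OC1.check152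

theorem valid154 : Valid 39424 := valid153.step Cfsg.Agent.CosetCertFi22OC1.just153 Cfsg.Agent.CosetCertFi22OC1.check153

theorem valid155 : Valid 39680 := valid154.step Cfsg.Agent.CosetCertFi22OC1.just154 Cfsg.Agent.CosetCertFi22OC1.check154

theorem valid156 : Valid 39936 := valid155.step Cfsg.Agent.CosetCertFi22OC1.just155 Cfsg.Agent.CosetCertFi22OC1.check155

theorem valid157 : Valid 40192 := valid156.step Cfsg.Agent.CosetCertFi22OC2.just156 Cfsg.Agent.CosetCertFi22OC2.check156

theorem valid158 : Valid 40448 := valid157.step Cfsg.Agent.CosetCertFi22OC2.just157 Cfsg.Agent.CosetCertFi22OC2.check157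

theorem valid159 : Valid 40704 := valid158.step Cfsg.Agent.CosetCertFi22OC2.just158 Cfsg.Agent.CosetCertFi22OC2.check158

theorem valid160 : Valid 40960 := valid159.step Cfsg.Agent.CosetCertFi22OC2.just159 Cfsg.Agent.CosetCertFi22OC2.check159

theorem valid161 : Valid 41216 := valid160.step Cfsg.Agent.CosetCertFi22OC2.just160 Cfsg.Agent.CosetCertFi22OC2.check160

theorem valid162 : Valid 41472 := valid161.step Cfsg.Agent.CosetCertFi22OC2.just161 Cfsg.Agent.CosetCertFi22OC2.check161

theorem valid163 : Valid 41728 := valid162.step Cfsg.Agent.CosetCertFi22OC2.just162 Cfsg.Agent.CosetCertFi22OC2.check162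

theorem valid164 : Valid 41984 := valid163.step Cfsg.Agent.CosetCertFi22OC2.just163 Cfsg.Agent.CosetCertFi22OC2.check163

theorem valid165 : Valid 42240 := valid164.step Cfsg.Agent.CosetCertFi22OC2.just164 Cfsg.Agent.CosetCertFi22OC2.check164

theorem valid166 : Valid 42496 := valid165.step Cfsg.Agent.CosetCertFi22OC2.just165 Cfsg.Agent.CosetCertFi22OC2.check165

theorem valid167 : Valid 42752 := valid166.step Cfsg.Agent.CosetCertFi22OC2.just166 Cfsg.Agent.CosetCertFi22OC2.check166

theorem valid168 : Valid 43008 := valid167.step Cfsg.Agent.CosetCertFi22OC2.just167 Cfsg.Agent.CosetCertFi22OC2.check167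

theorem valid169 : Valid 43264 := valid168.step Cfsg.Agent.CosetCertFi22OC2.just168 Cfsg.Agent.CosetCertFi22OC2.check168

theorem valid170 : Valid 43520 := valid169.step Cfsg.Agent.CosetCertFi22OC2.just169 Cfsg.Agent.CosetCertFi22OC2.check169

theorem valid171 : Valid 43776 := valid170.step Cfsg.Agent.CosetCertFi22OC2.just170 Cfsg.Agent.CosetCertFi22OC2.check170

theorem valid172 : Valid 44032 := valid171.step Cfsg.Agent.CosetCertFi22OC2.just171 Cfsg.Agent.CosetCertFi22OC2.check171

theorem valid173 : Valid 44288 := valid172.step Cfsg.Agent.CosetCertFi22OC2.just172 Cfsg.Agent.CosetCertFi22OC2.check172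

theorem valid174 : Valid 44544 := valid173.step Cfsg.Agent.CosetCertFi22OC2.just173 Cfsg.Agent.CosetCertFi22OC2.check173

theorem valid175 : Valid 44800 := valid174.step Cfsg.Agent.CosetCertFi22OC2.just174 Cfsg.Agent.CosetCertFi22OC2.check174

theorem valid176 : Valid 45056 := valid175.step Cfsg.Agent.CosetCertFi22OC2.just175 Cfsg.Agent.CosetCertFi22OC2.check175

theorem valid177 : Valid 45312 := valid176.step Cfsg.Agent.CosetCertFi22OC2.just176 Cfsg.Agent.CosetCertFi22OC2.check176

theorem valid178 : Valid 45568 := valid177.step Cfsg.Agent.CosetCertFi22OC2.just177 Cfsg.Agent.CosetCertFi22OC2.check177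

theorem valid179 : Valid 45824 := valid178.step Cfsg.Agent.CosetCertFi22OC2.just178 Cfsg.Agent.CosetCertFi22OC2.check178

theorem valid180 : Valid 46080 := valid179.step Cfsg.Agent.CosetCertFi22OC2.just179 Cfsg.Agent.CosetCertFi22OC2.check179

theorem valid181 : Valid 46336 := valid180.step Cfsg.Agent.CosetCertFi22OC2.just180 Cfsg.Agent.CosetCertFi22OC2.check180

theorem valid182 : Valid 46592 := valid181.step Cfsg.Agent.CosetCertFi22OC2.just181 Cfsg.Agent.CosetCertFi22OC2.check181

theorem valid183 : Valid 46848 := valid182.step Cfsg.Agent.CosetCertFi22OC2.just182 Cfsg.Agent.CosetCertFi22OC2.check182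

theorem valid184 : Valid 47104 := valid183.step Cfsg.Agent.CosetCertFi22OC2.just183 Cfsg.Agent.CosetCertFi22OC2.check183

theorem valid185 : Valid 47360 := valid184.step Cfsg.Agent.CosetCertFi22OC2.just184 Cfsg.Agent.CosetCertFi22OC2.check184

theorem valid186 : Valid 47616 := valid185.step Cfsg.Agent.CosetCertFi22OC2.just185 Cfsg.Agent.CosetCertFi22OC2.check185

theorem valid187 : Valid 47872 := valid186.step Cfsg.Agent.CosetCertFi22OC2.just186 Cfsg.Agent.CosetCertFi22OC2.check186

theorem valid188 : Valid 48128 := valid187.step Cfsg.Agent.CosetCertFi22OC2.just187 Cfsg.Agent.CosetCertFi22OC2.check187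

theorem valid189 : Valid 48384 := valid188.step Cfsg.Agent.CosetCertFi22OC2.just188 Cfsg.Agent.CosetCertFi22OC2.check188

theorem valid190 : Valid 48640 := valid189.step Cfsg.Agent.CosetCertFi22OC2.just189 Cfsg.Agent.CosetCertFi22OC2.check189

theorem valid191 : Valid 48896 := valid190.step Cfsg.Agent.CosetCertFi22OC2.just190 Cfsg.Agent.CosetCertFi22OC2.check190

theorem valid192 : Valid 49152 := valid191.step Cfsg.Agent.CosetCertFi22OC2.just191 Cfsg.Agent.CosetCertFi22OC2.check191

theorem valid193 : Valid 49408 := valid192.step Cfsg.Agent.CosetCertFi22OC2.just192 Cfsg.Agent.CosetCertFi22OC2.check192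

theorem valid194 : Valid 49664 := valid193.step Cfsg.Agent.CosetCertFi22OC2.just193 Cfsg.Agent.CosetCertFi22OC2.check193

theorem valid195 : Valid 49920 := valid194.step Cfsg.Agent.CosetCertFi22OC2.just194 Cfsg.Agent.CosetCertFi22OC2.check194

theorem valid196 : Valid 50176 := valid195.step Cfsg.Agent.CosetCertFi22OC2.just195 Cfsg.Agent.CosetCertFi22OC2.check195

theorem valid197 : Valid 50432 := valid196.step Cfsg.Agent.CosetCertFi22OC2.just196 Cfsg.Agent.CosetCertFi22OC2.check196

theorem valid198 : Valid 50688 := valid197.step Cfsg.Agent.CosetCertFi22OC2.just197 Cfsg.Agent.CosetCertFi22OC2.check197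

theorem valid199 : Valid 50944 := valid198.step Cfsg.Agent.CosetCertFi22OC2.just198 Cfsg.Agent.CosetCertFi22OC2.check198

theorem valid200 : Valid 51200 := valid199.step Cfsg.Agent.CosetCertFi22OC2.just199 Cfsg.Agent.CosetCertFi22OC2.check199

theorem valid201 : Valid 51456 := valid200.step Cfsg.Agent.CosetCertFi22OC2.just200 Cfsg.Agent.CosetCertFi22OC2.check200

theorem valid202 : Valid 51712 := valid201.step Cfsg.Agent.CosetCertFi22OC2.just201 Cfsg.Agent.CosetCertFi22OC2.check201

theorem valid203 : Valid 51968 := valid202.step Cfsg.Agent.CosetCertFi22OC2.just202 Cfsg.Agent.CosetCertFi22OC2.check202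

theorem valid204 : Valid 52224 := valid203.step Cfsg.Agent.CosetCertFi22OC2.just203 Cfsg.Agent.CosetCertFi22OC2.check203

theorem valid205 : Valid 52480 := valid204.step Cfsg.Agent.CosetCertFi22OC2.just204 Cfsg.Agent.CosetCertFi22OC2.check204

theorem valid206 : Valid 52736 := valid205.step Cfsg.Agent.CosetCertFi22OC2.just205 Cfsg.Agent.CosetCertFi22OC2.check205

theorem valid207 : Valid 52992 := valid206.step Cfsg.Agent.CosetCertFi22OC2.just206 Cfsg.Agent.CosetCertFi22OC2.check206

theorem valid208 : Valid 53248 := valid207.step Cfsg.Agent.CosetCertFi22OC2.just207 Cfsg.Agent.CosetCertFi22OC2.check207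

theorem valid209 : Valid 53504 := valid208.step Cfsg.Agent.CosetCertFi22OC2.just208 Cfsg.Agent.CosetCertFi22OC2.check208

theorem valid210 : Valid 53760 := valid209.step Cfsg.Agent.CosetCertFi22OC2.just209 Cfsg.Agent.CosetCertFi22OC2.check209

theorem valid211 : Valid 54016 := valid210.step Cfsg.Agent.CosetCertFi22OC2.just210 Cfsg.Agent.CosetCertFi22OC2.check210

theorem valid212 : Valid 54272 := valid211.step Cfsg.Agent.CosetCertFi22OC2.just211 Cfsg.Agent.CosetCertFi22OC2.check211

theorem valid213 : Valid 54528 := valid212.step Cfsg.Agent.CosetCertFi22OC2.just212 Cfsg.Agent.CosetCertFi22OC2.check212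

theorem valid214 : Valid 54784 := valid213.step Cfsg.Agent.CosetCertFi22OC2.just213 Cfsg.Agent.CosetCertFi22OC2.check213

theorem valid215 : Valid 55040 := valid214.step Cfsg.Agent.CosetCertFi22OC2.just214 Cfsg.Agent.CosetCertFi22OC2.check214

theorem valid216 : Valid 55296 := valid215.step Cfsg.Agent.CosetCertFi22OC2.just215 Cfsg.Agent.CosetCertFi22OC2.check215

theorem valid217 : Valid 55552 := valid216.step Cfsg.Agent.CosetCertFi22OC2.just216 Cfsg.Agent.CosetCertFi22OC2.check216

theorem valid218 : Valid 55808 := valid217.step Cfsg.Agent.CosetCertFi22OC2.just217 Cfsg.Agent.CosetCertFi22OC2.check217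

theorem valid219 : Valid 56064 := valid218.step Cfsg.Agent.CosetCertFi22OC2.just218 Cfsg.Agent.CosetCertFi22OC2.check218

theorem valid220 : Valid 56320 := valid219.step Cfsg.Agent.CosetCertFi22OC2.just219 Cfsg.Agent.CosetCertFi22OC2.check219

theorem valid221 : Valid 56576 := valid220.step Cfsg.Agent.CosetCertFi22OC2.just220 Cfsg.Agent.CosetCertFi22OC2.check220

theorem valid222 : Valid 56832 := valid221.step Cfsg.Agent.CosetCertFi22OC2.just221 Cfsg.Agent.CosetCertFi22OC2.check221

theorem valid223 : Valid 57088 := valid222.step Cfsg.Agent.CosetCertFi22OC2.just222 Cfsg.Agent.CosetCertFi22OC2.check222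

theorem valid224 : Valid 57344 := valid223.step Cfsg.Agent.CosetCertFi22OC2.just223 Cfsg.Agent.CosetCertFi22OC2.check223

theorem valid225 : Valid 57600 := valid224.step Cfsg.Agent.CosetCertFi22OC2.just224 Cfsg.Agent.CosetCertFi22OC2.check224

theorem valid226 : Valid 57856 := valid225.step Cfsg.Agent.CosetCertFi22OC2.just225 Cfsg.Agent.CosetCertFi22OC2.check225

theorem valid227 : Valid 58112 := valid226.step Cfsg.Agent.CosetCertFi22OC2.just226 Cfsg.Agent.CosetCertFi22OC2.check226

theorem valid228 : Valid 58368 := valid227.step Cfsg.Agent.CosetCertFi22OC2.just227 Cfsg.Agent.CosetCertFi22OC2.check227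

theorem valid229 : Valid 58624 := valid228.step Cfsg.Agent.CosetCertFi22OC2.just228 Cfsg.Agent.CosetCertFi22OC2.check228

theorem valid230 : Valid 58880 := valid229.step Cfsg.Agent.CosetCertFi22OC2.just229 Cfsg.Agent.CosetCertFi22OC2.check229

theorem valid231 : Valid 59136 := valid230.step Cfsg.Agent.CosetCertFi22OC2.just230 Cfsg.Agent.CosetCertFi22OC2.check230

theorem valid232 : Valid 59392 := valid231.step Cfsg.Agent.CosetCertFi22OC2.just231 Cfsg.Agent.CosetCertFi22OC2.check231

theorem valid233 : Valid 59648 := valid232.step Cfsg.Agent.CosetCertFi22OC2.just232 Cfsg.Agent.CosetCertFi22OC2.check232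

theorem valid234 : Valid 59904 := valid233.step Cfsg.Agent.CosetCertFi22OC2.just233 Cfsg.Agent.CosetCertFi22OC2.check233

theorem valid235 : Valid 60160 := valid234.step Cfsg.Agent.CosetCertFi22OC3.just234 Cfsg.Agent.CosetCertFi22OC3.check234

theorem valid236 : Valid 60416 := valid235.step Cfsg.Agent.CosetCertFi22OC3.just235 Cfsg.Agent.CosetCertFi22OC3.check235

theorem valid237 : Valid 60672 := valid236.step Cfsg.Agent.CosetCertFi22OC3.just236 Cfsg.Agent.CosetCertFi22OC3.check236

theorem valid238 : Valid 60928 := valid237.step Cfsg.Agent.CosetCertFi22OC3.just237 Cfsg.Agent.CosetCertFi22OC3.check237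

theorem valid239 : Valid 61184 := valid238.step Cfsg.Agent.CosetCertFi22OC3.just238 Cfsg.Agent.CosetCertFi22OC3.check238

theorem valid240 : Valid 61440 := valid239.step Cfsg.Agent.CosetCertFi22OC3.just239 Cfsg.Agent.CosetCertFi22OC3.check239

theorem valid241 : Valid 61696 := valid240.step Cfsg.Agent.CosetCertFi22OC3.just240 Cfsg.Agent.CosetCertFi22OC3.check240

theorem valid242 : Valid 61952 := valid241.step Cfsg.Agent.CosetCertFi22OC3.just241 Cfsg.Agent.CosetCertFi22OC3.check241

theorem valid243 : Valid 62208 := valid242.step Cfsg.Agent.CosetCertFi22OC3.just242 Cfsg.Agent.CosetCertFi22OC3.check242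

theorem valid244 : Valid 62464 := valid243.step Cfsg.Agent.CosetCertFi22OC3.just243 Cfsg.Agent.CosetCertFi22OC3.check243

theorem valid245 : Valid 62720 := valid244.step Cfsg.Agent.CosetCertFi22OC3.just244 Cfsg.Agent.CosetCertFi22OC3.check244

theorem valid246 : Valid 62976 := valid245.step Cfsg.Agent.CosetCertFi22OC3.just245 Cfsg.Agent.CosetCertFi22OC3.check245

theorem valid247 : Valid 63232 := valid246.step Cfsg.Agent.CosetCertFi22OC3.just246 Cfsg.Agent.CosetCertFi22OC3.check246

theorem valid248 : Valid 63488 := valid247.step Cfsg.Agent.CosetCertFi22OC3.just247 Cfsg.Agent.CosetCertFi22OC3.check247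

theorem valid249 : Valid 63744 := valid248.step Cfsg.Agent.CosetCertFi22OC3.just248 Cfsg.Agent.CosetCertFi22OC3.check248

theorem valid250 : Valid 64000 := valid249.step Cfsg.Agent.CosetCertFi22OC3.just249 Cfsg.Agent.CosetCertFi22OC3.check249

theorem valid251 : Valid 64256 := valid250.step Cfsg.Agent.CosetCertFi22OC3.just250 Cfsg.Agent.CosetCertFi22OC3.check250

theorem valid252 : Valid 64512 := valid251.step Cfsg.Agent.CosetCertFi22OC3.just251 Cfsg.Agent.CosetCertFi22OC3.check251

theorem valid253 : Valid 64768 := valid252.step Cfsg.Agent.CosetCertFi22OC3.just252 Cfsg.Agent.CosetCertFi22OC3.check252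

theorem valid254 : Valid 65024 := valid253.step Cfsg.Agent.CosetCertFi22OC3.just253 Cfsg.Agent.CosetCertFi22OC3.check253

theorem valid255 : Valid 65280 := valid254.step Cfsg.Agent.CosetCertFi22OC3.just254 Cfsg.Agent.CosetCertFi22OC3.check254

theorem valid256 : Valid 65536 := valid255.step Cfsg.Agent.CosetCertFi22OC3.just255 Cfsg.Agent.CosetCertFi22OC3.check255

theorem valid257 : Valid 65792 := valid256.step Cfsg.Agent.CosetCertFi22OC3.just256 Cfsg.Agent.CosetCertFi22OC3.check256

theorem valid258 : Valid 66048 := valid257.step Cfsg.Agent.CosetCertFi22OC3.just257 Cfsg.Agent.CosetCertFi22OC3.check257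

theorem valid259 : Valid 66304 := valid258.step Cfsg.Agent.CosetCertFi22OC3.just258 Cfsg.Agent.CosetCertFi22OC3.check258

theorem valid260 : Valid 66560 := valid259.step Cfsg.Agent.CosetCertFi22OC3.just259 Cfsg.Agent.CosetCertFi22OC3.check259

theorem valid261 : Valid 66816 := valid260.step Cfsg.Agent.CosetCertFi22OC3.just260 Cfsg.Agent.CosetCertFi22OC3.check260

theorem valid262 : Valid 67072 := valid261.step Cfsg.Agent.CosetCertFi22OC3.just261 Cfsg.Agent.CosetCertFi22OC3.check261

theorem valid263 : Valid 67328 := valid262.step Cfsg.Agent.CosetCertFi22OC3.just262 Cfsg.Agent.CosetCertFi22OC3.check262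

theorem valid264 : Valid 67584 := valid263.step Cfsg.Agent.CosetCertFi22OC3.just263 Cfsg.Agent.CosetCertFi22OC3.check263

theorem valid265 : Valid 67840 := valid264.step Cfsg.Agent.CosetCertFi22OC3.just264 Cfsg.Agent.CosetCertFi22OC3.check264

theorem valid266 : Valid 68096 := valid265.step Cfsg.Agent.CosetCertFi22OC3.just265 Cfsg.Agent.CosetCertFi22OC3.check265

theorem valid267 : Valid 68352 := valid266.step Cfsg.Agent.CosetCertFi22OC3.just266 Cfsg.Agent.CosetCertFi22OC3.check266

theorem valid268 : Valid 68608 := valid267.step Cfsg.Agent.CosetCertFi22OC3.just267 Cfsg.Agent.CosetCertFi22OC3.check267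

theorem valid269 : Valid 68864 := valid268.step Cfsg.Agent.CosetCertFi22OC3.just268 Cfsg.Agent.CosetCertFi22OC3.check268

theorem valid270 : Valid 69120 := valid269.step Cfsg.Agent.CosetCertFi22OC3.just269 Cfsg.Agent.CosetCertFi22OC3.check269

theorem valid271 : Valid 69376 := valid270.step Cfsg.Agent.CosetCertFi22OC3.just270 Cfsg.Agent.CosetCertFi22OC3.check270

theorem valid272 : Valid 69632 := valid271.step Cfsg.Agent.CosetCertFi22OC3.just271 Cfsg.Agent.CosetCertFi22OC3.check271

theorem valid273 : Valid 69888 := valid272.step Cfsg.Agent.CosetCertFi22OC3.just272 Cfsg.Agent.CosetCertFi22OC3.check272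

theorem valid274 : Valid 70144 := valid273.step Cfsg.Agent.CosetCertFi22OC3.just273 Cfsg.Agent.CosetCertFi22OC3.check273

theorem valid275 : Valid 70400 := valid274.step Cfsg.Agent.CosetCertFi22OC3.just274 Cfsg.Agent.CosetCertFi22OC3.check274

theorem valid276 : Valid 70656 := valid275.step Cfsg.Agent.CosetCertFi22OC3.just275 Cfsg.Agent.CosetCertFi22OC3.check275

theorem valid277 : Valid 70912 := valid276.step Cfsg.Agent.CosetCertFi22OC3.just276 Cfsg.Agent.CosetCertFi22OC3.check276

theorem valid278 : Valid 71168 := valid277.step Cfsg.Agent.CosetCertFi22OC3.just277 Cfsg.Agent.CosetCertFi22OC3.check277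

theorem valid279 : Valid 71424 := valid278.step Cfsg.Agent.CosetCertFi22OC3.just278 Cfsg.Agent.CosetCertFi22OC3.check278

theorem valid280 : Valid 71680 := valid279.step Cfsg.Agent.CosetCertFi22OC3.just279 Cfsg.Agent.CosetCertFi22OC3.check279

theorem valid281 : Valid 71936 := valid280.step Cfsg.Agent.CosetCertFi22OC3.just280 Cfsg.Agent.CosetCertFi22OC3.check280

theorem valid282 : Valid 72192 := valid281.step Cfsg.Agent.CosetCertFi22OC3.just281 Cfsg.Agent.CosetCertFi22OC3.check281

theorem valid283 : Valid 72448 := valid282.step Cfsg.Agent.CosetCertFi22OC3.just282 Cfsg.Agent.CosetCertFi22OC3.check282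

theorem valid284 : Valid 72704 := valid283.step Cfsg.Agent.CosetCertFi22OC3.just283 Cfsg.Agent.CosetCertFi22OC3.check283

theorem valid285 : Valid 72960 := valid284.step Cfsg.Agent.CosetCertFi22OC3.just284 Cfsg.Agent.CosetCertFi22OC3.check284

theorem valid286 : Valid 73216 := valid285.step Cfsg.Agent.CosetCertFi22OC3.just285 Cfsg.Agent.CosetCertFi22OC3.check285

theorem valid287 : Valid 73472 := valid286.step Cfsg.Agent.CosetCertFi22OC3.just286 Cfsg.Agent.CosetCertFi22OC3.check286

theorem valid288 : Valid 73728 := valid287.step Cfsg.Agent.CosetCertFi22OC3.just287 Cfsg.Agent.CosetCertFi22OC3.check287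

theorem valid289 : Valid 73984 := valid288.step Cfsg.Agent.CosetCertFi22OC3.just288 Cfsg.Agent.CosetCertFi22OC3.check288

theorem valid290 : Valid 74240 := valid289.step Cfsg.Agent.CosetCertFi22OC3.just289 Cfsg.Agent.CosetCertFi22OC3.check289

theorem valid291 : Valid 74496 := valid290.step Cfsg.Agent.CosetCertFi22OC3.just290 Cfsg.Agent.CosetCertFi22OC3.check290

theorem valid292 : Valid 74716 := valid291.step Cfsg.Agent.CosetCertFi22OC3.just291 Cfsg.Agent.CosetCertFi22OC3.check291

theorem points0 : AllBelow (pointOk cert 74716 table) 0 := AllBelow.zero _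

theorem points1 : AllBelow (pointOk cert 74716 table) 64 := AllBelow.step points0 64 Cfsg.Agent.CosetCertFi22OP0.points1c

theorem points2 : AllBelow (pointOk cert 74716 table) 128 := AllBelow.step points1 64 Cfsg.Agent.CosetCertFi22OP0.points2c

theorem points3 : AllBelow (pointOk cert 74716 table) 192 := AllBelow.step points2 64 Cfsg.Agent.CosetCertFi22OP0.points3c

theorem points4 : AllBelow (pointOk cert 74716 table) 256 := AllBelow.step points3 64 Cfsg.Agent.CosetCertFi22OP0.points4c

theorem points5 : AllBelow (pointOk cert 74716 table) 320 := AllBelow.step points4 64 Cfsg.Agent.CosetCertFi22OP0.points5c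

theorem points6 : AllBelow (pointOk cert 74716 table) 384 := AllBelow.step points5 64 Cfsg.Agent.CosetCertFi22OP0.points6c

theorem points7 : AllBelow (pointOk cert 74716 table) 448 := AllBelow.step points6 64 Cfsg.Agent.CosetCertFi22OP0.points7c

theorem points8 : AllBelow (pointOk cert 74716 table) 512 := AllBelow.step points7 64 Cfsg.Agent.CosetCertFi22OP0.points8c

theorem points9 : AllBelow (pointOk cert 74716 table) 576 := AllBelow.step points8 64 Cfsg.Agent.CosetCertFi22OP0.points9c

theorem points10 : AllBelow (pointOk cert 74716 table) 640 := AllBelow.step points9 64 Cfsg.Agent.CosetCertFi22OP0.points10c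

theorem points11 : AllBelow (pointOk cert 74716 table) 704 := AllBelow.step points10 64 Cfsg.Agent.CosetCertFi22OP0.points11c

theorem points12 : AllBelow (pointOk cert 74716 table) 768 := AllBelow.step points11 64 Cfsg.Agent.CosetCertFi22OP0.points12c

theorem points13 : AllBelow (pointOk cert 74716 table) 832 := AllBelow.step points12 64 Cfsg.Agent.CosetCertFi22OP0.points13c

theorem points14 : AllBelow (pointOk cert 74716 table) 896 := AllBelow.step points13 64 Cfsg.Agent.CosetCertFi22OP0.points14c

theorem points15 : AllBelow (pointOk cert 74716 table) 960 := AllBelow.step points14 64 Cfsg.Agent.CosetCertFi22OP0.points15c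

theorem points16 : AllBelow (pointOk cert 74716 table) 1024 := AllBelow.step points15 64 Cfsg.Agent.CosetCertFi22OP0.points16c

theorem points17 : AllBelow (pointOk cert 74716 table) 1088 := AllBelow.step points16 64 Cfsg.Agent.CosetCertFi22OP0.points17c

theorem points18 : AllBelow (pointOk cert 74716 table) 1152 := AllBelow.step points17 64 Cfsg.Agent.CosetCertFi22OP0.points18c

theorem points19 : AllBelow (pointOk cert 74716 table) 1216 := AllBelow.step points18 64 Cfsg.Agent.CosetCertFi22OP0.points19c

theorem points20 : AllBelow (pointOk cert 74716 table) 1280 := AllBelow.step points19 64 Cfsg.Agent.CosetCertFi22OP0.points20c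

theorem points21 : AllBelow (pointOk cert 74716 table) 1344 := AllBelow.step points20 64 Cfsg.Agent.CosetCertFi22OP0.points21c

theorem points22 : AllBelow (pointOk cert 74716 table) 1408 := AllBelow.step points21 64 Cfsg.Agent.CosetCertFi22OP0.points22c

theorem points23 : AllBelow (pointOk cert 74716 table) 1472 := AllBelow.step points22 64 Cfsg.Agent.CosetCertFi22OP0.points23c

theorem points24 : AllBelow (pointOk cert 74716 table) 1536 := AllBelow.step points23 64 Cfsg.Agent.CosetCertFi22OP0.points24c

theorem points25 : AllBelow (pointOk cert 74716 table) 1600 := AllBelow.step points24 64 Cfsg.Agent.CosetCertFi22OP0.points25c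

theorem points26 : AllBelow (pointOk cert 74716 table) 1664 := AllBelow.step points25 64 Cfsg.Agent.CosetCertFi22OP0.points26c

theorem points27 : AllBelow (pointOk cert 74716 table) 1728 := AllBelow.step points26 64 Cfsg.Agent.CosetCertFi22OP0.points27c

theorem points28 : AllBelow (pointOk cert 74716 table) 1792 := AllBelow.step points27 64 Cfsg.Agent.CosetCertFi22OP0.points28c

theorem points29 : AllBelow (pointOk cert 74716 table) 1856 := AllBelow.step points28 64 Cfsg.Agent.CosetCertFi22OP0.points29c

theorem points30 : AllBelow (pointOk cert 74716 table) 1920 := AllBelow.step points29 64 Cfsg.Agent.CosetCertFi22OP0.points30c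

theorem points31 : AllBelow (pointOk cert 74716 table) 1984 := AllBelow.step points30 64 Cfsg.Agent.CosetCertFi22OP0.points31c

theorem points32 : AllBelow (pointOk cert 74716 table) 2048 := AllBelow.step points31 64 Cfsg.Agent.CosetCertFi22OP1.points32c

theorem points33 : AllBelow (pointOk cert 74716 table) 2112 := AllBelow.step points32 64 Cfsg.Agent.CosetCertFi22OP1.points33c

theorem points34 : AllBelow (pointOk cert 74716 table) 2176 := AllBelow.step points33 64 Cfsg.Agent.CosetCertFi22OP1.points34c

theorem points35 : AllBelow (pointOk cert 74716 table) 2240 := AllBelow.step points34 64 Cfsg.Agent.CosetCertFi22OP1.points35c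

theorem points36 : AllBelow (pointOk cert 74716 table) 2304 := AllBelow.step points35 64 Cfsg.Agent.CosetCertFi22OP1.points36c

theorem points37 : AllBelow (pointOk cert 74716 table) 2368 := AllBelow.step points36 64 Cfsg.Agent.CosetCertFi22OP1.points37c

theorem points38 : AllBelow (pointOk cert 74716 table) 2432 := AllBelow.step points37 64 Cfsg.Agent.CosetCertFi22OP1.points38c

theorem points39 : AllBelow (pointOk cert 74716 table) 2496 := AllBelow.step points38 64 Cfsg.Agent.CosetCertFi22OP1.points39c

theorem points40 : AllBelow (pointOk cert 74716 table) 2560 := AllBelow.step points39 64 Cfsg.Agent.CosetCertFi22OP1.points40c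

theorem points41 : AllBelow (pointOk cert 74716 table) 2624 := AllBelow.step points40 64 Cfsg.Agent.CosetCertFi22OP1.points41c

theorem points42 : AllBelow (pointOk cert 74716 table) 2688 := AllBelow.step points41 64 Cfsg.Agent.CosetCertFi22OP1.points42c

theorem points43 : AllBelow (pointOk cert 74716 table) 2752 := AllBelow.step points42 64 Cfsg.Agent.CosetCertFi22OP1.points43c

theorem points44 : AllBelow (pointOk cert 74716 table) 2816 := AllBelow.step points43 64 Cfsg.Agent.CosetCertFi22OP1.points44c

theorem points45 : AllBelow (pointOk cert 74716 table) 2880 := AllBelow.step points44 64 Cfsg.Agent.CosetCertFi22OP1.points45c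

theorem points46 : AllBelow (pointOk cert 74716 table) 2944 := AllBelow.step points45 64 Cfsg.Agent.CosetCertFi22OP1.points46c

theorem points47 : AllBelow (pointOk cert 74716 table) 3008 := AllBelow.step points46 64 Cfsg.Agent.CosetCertFi22OP1.points47c

theorem points48 : AllBelow (pointOk cert 74716 table) 3072 := AllBelow.step points47 64 Cfsg.Agent.CosetCertFi22OP1.points48c

theorem points49 : AllBelow (pointOk cert 74716 table) 3136 := AllBelow.step points48 64 Cfsg.Agent.CosetCertFi22OP1.points49c

theorem points50 : AllBelow (pointOk cert 74716 table) 3200 := AllBelow.step points49 64 Cfsg.Agent.CosetCertFi22OP1.points50c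

theorem points51 : AllBelow (pointOk cert 74716 table) 3264 := AllBelow.step points50 64 Cfsg.Agent.CosetCertFi22OP1.points51c

theorem points52 : AllBelow (pointOk cert 74716 table) 3328 := AllBelow.step points51 64 Cfsg.Agent.CosetCertFi22OP1.points52c

theorem points53 : AllBelow (pointOk cert 74716 table) 3392 := AllBelow.step points52 64 Cfsg.Agent.CosetCertFi22OP1.points53c

theorem points54 : AllBelow (pointOk cert 74716 table) 3456 := AllBelow.step points53 64 Cfsg.Agent.CosetCertFi22OP1.points54c

theorem points55 : AllBelow (pointOk cert 74716 table) 3520 := AllBelow.step points54 64 Cfsg.Agent.CosetCertFi22OP1.points55c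

theorem points56 : AllBelow (pointOk cert 74716 table) 3584 := AllBelow.step points55 64 Cfsg.Agent.CosetCertFi22OP1.points56c

theorem points57 : AllBelow (pointOk cert 74716 table) 3648 := AllBelow.step points56 64 Cfsg.Agent.CosetCertFi22OP1.points57c

theorem points58 : AllBelow (pointOk cert 74716 table) 3712 := AllBelow.step points57 64 Cfsg.Agent.CosetCertFi22OP1.points58c

theorem points59 : AllBelow (pointOk cert 74716 table) 3776 := AllBelow.step points58 64 Cfsg.Agent.CosetCertFi22OP1.points59c

theorem points60 : AllBelow (pointOk cert 74716 table) 3840 := AllBelow.step points59 64 Cfsg.Agent.CosetCertFi22OP1.points60c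

theorem points61 : AllBelow (pointOk cert 74716 table) 3904 := AllBelow.step points60 64 Cfsg.Agent.CosetCertFi22OP1.points61c

theorem points62 : AllBelow (pointOk cert 74716 table) 3968 := AllBelow.step points61 64 Cfsg.Agent.CosetCertFi22OP1.points62c

theorem points63 : AllBelow (pointOk cert 74716 table) 4032 := AllBelow.step points62 64 Cfsg.Agent.CosetCertFi22OP2.points63c

theorem points64 : AllBelow (pointOk cert 74716 table) 4096 := AllBelow.step points63 64 Cfsg.Agent.CosetCertFi22OP2.points64c

theorem points65 : AllBelow (pointOk cert 74716 table) 4160 := AllBelow.step points64 64 Cfsg.Agent.CosetCertFi22OP2.points65c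

theorem points66 : AllBelow (pointOk cert 74716 table) 4224 := AllBelow.step points65 64 Cfsg.Agent.CosetCertFi22OP2.points66c

theorem points67 : AllBelow (pointOk cert 74716 table) 4288 := AllBelow.step points66 64 Cfsg.Agent.CosetCertFi22OP2.points67c

theorem points68 : AllBelow (pointOk cert 74716 table) 4352 := AllBelow.step points67 64 Cfsg.Agent.CosetCertFi22OP2.points68c

theorem points69 : AllBelow (pointOk cert 74716 table) 4416 := AllBelow.step points68 64 Cfsg.Agent.CosetCertFi22OP2.points69c

theorem points70 : AllBelow (pointOk cert 74716 table) 4480 := AllBelow.step points69 64 Cfsg.Agent.CosetCertFi22OP2.points70c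

theorem points71 : AllBelow (pointOk cert 74716 table) 4544 := AllBelow.step points70 64 Cfsg.Agent.CosetCertFi22OP2.points71c

theorem points72 : AllBelow (pointOk cert 74716 table) 4608 := AllBelow.step points71 64 Cfsg.Agent.CosetCertFi22OP2.points72c

theorem points73 : AllBelow (pointOk cert 74716 table) 4672 := AllBelow.step points72 64 Cfsg.Agent.CosetCertFi22OP2.points73c

theorem points74 : AllBelow (pointOk cert 74716 table) 4736 := AllBelow.step points73 64 Cfsg.Agent.CosetCertFi22OP2.points74c

theorem points75 : AllBelow (pointOk cert 74716 table) 4800 := AllBelow.step points74 64 Cfsg.Agent.CosetCertFi22OP2.points75c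

theorem points76 : AllBelow (pointOk cert 74716 table) 4864 := AllBelow.step points75 64 Cfsg.Agent.CosetCertFi22OP2.points76c

theorem points77 : AllBelow (pointOk cert 74716 table) 4928 := AllBelow.step points76 64 Cfsg.Agent.CosetCertFi22OP2.points77c

theorem points78 : AllBelow (pointOk cert 74716 table) 4992 := AllBelow.step points77 64 Cfsg.Agent.CosetCertFi22OP2.points78c

theorem points79 : AllBelow (pointOk cert 74716 table) 5056 := AllBelow.step points78 64 Cfsg.Agent.CosetCertFi22OP2.points79c

theorem points80 : AllBelow (pointOk cert 74716 table) 5120 := AllBelow.step points79 64 Cfsg.Agent.CosetCertFi22OP2.points80c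

theorem points81 : AllBelow (pointOk cert 74716 table) 5184 := AllBelow.step points80 64 Cfsg.Agent.CosetCertFi22OP2.points81c

theorem points82 : AllBelow (pointOk cert 74716 table) 5248 := AllBelow.step points81 64 Cfsg.Agent.CosetCertFi22OP2.points82c

theorem points83 : AllBelow (pointOk cert 74716 table) 5312 := AllBelow.step points82 64 Cfsg.Agent.CosetCertFi22OP2.points83c

theorem points84 : AllBelow (pointOk cert 74716 table) 5376 := AllBelow.step points83 64 Cfsg.Agent.CosetCertFi22OP2.points84c

theorem points85 : AllBelow (pointOk cert 74716 table) 5440 := AllBelow.step points84 64 Cfsg.Agent.CosetCertFi22OP2.points85c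

theorem points86 : AllBelow (pointOk cert 74716 table) 5504 := AllBelow.step points85 64 Cfsg.Agent.CosetCertFi22OP2.points86c

theorem points87 : AllBelow (pointOk cert 74716 table) 5568 := AllBelow.step points86 64 Cfsg.Agent.CosetCertFi22OP2.points87c

theorem points88 : AllBelow (pointOk cert 74716 table) 5632 := AllBelow.step points87 64 Cfsg.Agent.CosetCertFi22OP2.points88c

theorem points89 : AllBelow (pointOk cert 74716 table) 5696 := AllBelow.step points88 64 Cfsg.Agent.CosetCertFi22OP2.points89c

theorem points90 : AllBelow (pointOk cert 74716 table) 5760 := AllBelow.step points89 64 Cfsg.Agent.CosetCertFi22OP2.points90c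

theorem points91 : AllBelow (pointOk cert 74716 table) 5824 := AllBelow.step points90 64 Cfsg.Agent.CosetCertFi22OP2.points91c

theorem points92 : AllBelow (pointOk cert 74716 table) 5888 := AllBelow.step points91 64 Cfsg.Agent.CosetCertFi22OP2.points92c

theorem points93 : AllBelow (pointOk cert 74716 table) 5952 := AllBelow.step points92 64 Cfsg.Agent.CosetCertFi22OP2.points93c

theorem points94 : AllBelow (pointOk cert 74716 table) 6016 := AllBelow.step points93 64 Cfsg.Agent.CosetCertFi22OP3.points94c

theorem points95 : AllBelow (pointOk cert 74716 table) 6080 := AllBelow.step points94 64 Cfsg.Agent.CosetCertFi22OP3.points95c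

theorem points96 : AllBelow (pointOk cert 74716 table) 6144 := AllBelow.step points95 64 Cfsg.Agent.CosetCertFi22OP3.points96c

theorem points97 : AllBelow (pointOk cert 74716 table) 6208 := AllBelow.step points96 64 Cfsg.Agent.CosetCertFi22OP3.points97c

theorem points98 : AllBelow (pointOk cert 74716 table) 6272 := AllBelow.step points97 64 Cfsg.Agent.CosetCertFi22OP3.points98c

theorem points99 : AllBelow (pointOk cert 74716 table) 6336 := AllBelow.step points98 64 Cfsg.Agent.CosetCertFi22OP3.points99c

theorem points100 : AllBelow (pointOk cert 74716 table) 6400 := AllBelow.step points99 64 Cfsg.Agent.CosetCertFi22OP3.points100c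

theorem points101 : AllBelow (pointOk cert 74716 table) 6464 := AllBelow.step points100 64 Cfsg.Agent.CosetCertFi22OP3.points101c

theorem points102 : AllBelow (pointOk cert 74716 table) 6528 := AllBelow.step points101 64 Cfsg.Agent.CosetCertFi22OP3.points102c

theorem points103 : AllBelow (pointOk cert 74716 table) 6592 := AllBelow.step points102 64 Cfsg.Agent.CosetCertFi22OP3.points103c

theorem points104 : AllBelow (pointOk cert 74716 table) 6656 := AllBelow.step points103 64 Cfsg.Agent.CosetCertFi22OP3.points104c

theorem points105 : AllBelow (pointOk cert 74716 table) 6720 := AllBelow.step points104 64 Cfsg.Agent.CosetCertFi22OP3.points105c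

theorem points106 : AllBelow (pointOk cert 74716 table) 6784 := AllBelow.step points105 64 Cfsg.Agent.CosetCertFi22OP3.points106c

theorem points107 : AllBelow (pointOk cert 74716 table) 6848 := AllBelow.step points106 64 Cfsg.Agent.CosetCertFi22OP3.points107c

theorem points108 : AllBelow (pointOk cert 74716 table) 6912 := AllBelow.step points107 64 Cfsg.Agent.CosetCertFi22OP3.points108c

theorem points109 : AllBelow (pointOk cert 74716 table) 6976 := AllBelow.step points108 64 Cfsg.Agent.CosetCertFi22OP3.points109c

theorem points110 : AllBelow (pointOk cert 74716 table) 7040 := AllBelow.step points109 64 Cfsg.Agent.CosetCertFi22OP3.points110c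

theorem points111 : AllBelow (pointOk cert 74716 table) 7104 := AllBelow.step points110 64 Cfsg.Agent.CosetCertFi22OP3.points111c

theorem points112 : AllBelow (pointOk cert 74716 table) 7168 := AllBelow.step points111 64 Cfsg.Agent.CosetCertFi22OP3.points112c

theorem points113 : AllBelow (pointOk cert 74716 table) 7232 := AllBelow.step points112 64 Cfsg.Agent.CosetCertFi22OP3.points113c

theorem points114 : AllBelow (pointOk cert 74716 table) 7296 := AllBelow.step points113 64 Cfsg.Agent.CosetCertFi22OP3.points114c

theorem points115 : AllBelow (pointOk cert 74716 table) 7360 := AllBelow.step points114 64 Cfsg.Agent.CosetCertFi22OP3.points115c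

theorem points116 : AllBelow (pointOk cert 74716 table) 7424 := AllBelow.step points115 64 Cfsg.Agent.CosetCertFi22OP3.points116c

theorem points117 : AllBelow (pointOk cert 74716 table) 7488 := AllBelow.step points116 64 Cfsg.Agent.CosetCertFi22OP3.points117c

theorem points118 : AllBelow (pointOk cert 74716 table) 7552 := AllBelow.step points117 64 Cfsg.Agent.CosetCertFi22OP3.points118c

theorem points119 : AllBelow (pointOk cert 74716 table) 7616 := AllBelow.step points118 64 Cfsg.Agent.CosetCertFi22OP3.points119c

theorem points120 : AllBelow (pointOk cert 74716 table) 7680 := AllBelow.step points119 64 Cfsg.Agent.CosetCertFi22OP3.points120c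

theorem points121 : AllBelow (pointOk cert 74716 table) 7744 := AllBelow.step points120 64 Cfsg.Agent.CosetCertFi22OP3.points121c

theorem points122 : AllBelow (pointOk cert 74716 table) 7808 := AllBelow.step points121 64 Cfsg.Agent.CosetCertFi22OP3.points122c

theorem points123 : AllBelow (pointOk cert 74716 table) 7872 := AllBelow.step points122 64 Cfsg.Agent.CosetCertFi22OP3.points123c

theorem points124 : AllBelow (pointOk cert 74716 table) 7936 := AllBelow.step points123 64 Cfsg.Agent.CosetCertFi22OP3.points124c

theorem points125 : AllBelow (pointOk cert 74716 table) 8000 := AllBelow.step points124 64 Cfsg.Agent.CosetCertFi22OP4.points125c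

theorem points126 : AllBelow (pointOk cert 74716 table) 8064 := AllBelow.step points125 64 Cfsg.Agent.CosetCertFi22OP4.points126c

theorem points127 : AllBelow (pointOk cert 74716 table) 8128 := AllBelow.step points126 64 Cfsg.Agent.CosetCertFi22OP4.points127c

theorem points128 : AllBelow (pointOk cert 74716 table) 8192 := AllBelow.step points127 64 Cfsg.Agent.CosetCertFi22OP4.points128c

theorem points129 : AllBelow (pointOk cert 74716 table) 8256 := AllBelow.step points128 64 Cfsg.Agent.CosetCertFi22OP4.points129c

theorem points130 : AllBelow (pointOk cert 74716 table) 8320 := AllBelow.step points129 64 Cfsg.Agent.CosetCertFi22OP4.points130c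

theorem points131 : AllBelow (pointOk cert 74716 table) 8384 := AllBelow.step points130 64 Cfsg.Agent.CosetCertFi22OP4.points131c

theorem points132 : AllBelow (pointOk cert 74716 table) 8448 := AllBelow.step points131 64 Cfsg.Agent.CosetCertFi22OP4.points132c

theorem points133 : AllBelow (pointOk cert 74716 table) 8512 := AllBelow.step points132 64 Cfsg.Agent.CosetCertFi22OP4.points133c

theorem points134 : AllBelow (pointOk cert 74716 table) 8576 := AllBelow.step points133 64 Cfsg.Agent.CosetCertFi22OP4.points134c

theorem points135 : AllBelow (pointOk cert 74716 table) 8640 := AllBelow.step points134 64 Cfsg.Agent.CosetCertFi22OP4.points135c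

theorem points136 : AllBelow (pointOk cert 74716 table) 8704 := AllBelow.step points135 64 Cfsg.Agent.CosetCertFi22OP4.points136c

theorem points137 : AllBelow (pointOk cert 74716 table) 8768 := AllBelow.step points136 64 Cfsg.Agent.CosetCertFi22OP4.points137c

theorem points138 : AllBelow (pointOk cert 74716 table) 8832 := AllBelow.step points137 64 Cfsg.Agent.CosetCertFi22OP4.points138c

theorem points139 : AllBelow (pointOk cert 74716 table) 8896 := AllBelow.step points138 64 Cfsg.Agent.CosetCertFi22OP4.points139c

theorem points140 : AllBelow (pointOk cert 74716 table) 8960 := AllBelow.step points139 64 Cfsg.Agent.CosetCertFi22OP4.points140c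

theorem points141 : AllBelow (pointOk cert 74716 table) 9024 := AllBelow.step points140 64 Cfsg.Agent.CosetCertFi22OP4.points141c

theorem points142 : AllBelow (pointOk cert 74716 table) 9088 := AllBelow.step points141 64 Cfsg.Agent.CosetCertFi22OP4.points142c

theorem points143 : AllBelow (pointOk cert 74716 table) 9152 := AllBelow.step points142 64 Cfsg.Agent.CosetCertFi22OP4.points143c

theorem points144 : AllBelow (pointOk cert 74716 table) 9216 := AllBelow.step points143 64 Cfsg.Agent.CosetCertFi22OP4.points144c

theorem points145 : AllBelow (pointOk cert 74716 table) 9280 := AllBelow.step points144 64 Cfsg.Agent.CosetCertFi22OP4.points145c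

theorem points146 : AllBelow (pointOk cert 74716 table) 9344 := AllBelow.step points145 64 Cfsg.Agent.CosetCertFi22OP4.points146c

theorem points147 : AllBelow (pointOk cert 74716 table) 9408 := AllBelow.step points146 64 Cfsg.Agent.CosetCertFi22OP4.points147c

theorem points148 : AllBelow (pointOk cert 74716 table) 9472 := AllBelow.step points147 64 Cfsg.Agent.CosetCertFi22OP4.points148c

theorem points149 : AllBelow (pointOk cert 74716 table) 9536 := AllBelow.step points148 64 Cfsg.Agent.CosetCertFi22OP4.points149c

theorem points150 : AllBelow (pointOk cert 74716 table) 9600 := AllBelow.step points149 64 Cfsg.Agent.CosetCertFi22OP4.points150c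

theorem points151 : AllBelow (pointOk cert 74716 table) 9664 := AllBelow.step points150 64 Cfsg.Agent.CosetCertFi22OP4.points151c

theorem points152 : AllBelow (pointOk cert 74716 table) 9728 := AllBelow.step points151 64 Cfsg.Agent.CosetCertFi22OP4.points152c

theorem points153 : AllBelow (pointOk cert 74716 table) 9792 := AllBelow.step points152 64 Cfsg.Agent.CosetCertFi22OP4.points153c

theorem points154 : AllBelow (pointOk cert 74716 table) 9856 := AllBelow.step points153 64 Cfsg.Agent.CosetCertFi22OP4.points154c

theorem points155 : AllBelow (pointOk cert 74716 table) 9920 := AllBelow.step points154 64 Cfsg.Agent.CosetCertFi22OP4.points155c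

theorem points156 : AllBelow (pointOk cert 74716 table) 9984 := AllBelow.step points155 64 Cfsg.Agent.CosetCertFi22OP5.points156c

theorem points157 : AllBelow (pointOk cert 74716 table) 10048 := AllBelow.step points156 64 Cfsg.Agent.CosetCertFi22OP5.points157c

theorem points158 : AllBelow (pointOk cert 74716 table) 10112 := AllBelow.step points157 64 Cfsg.Agent.CosetCertFi22OP5.points158c

theorem points159 : AllBelow (pointOk cert 74716 table) 10176 := AllBelow.step points158 64 Cfsg.Agent.CosetCertFi22OP5.points159c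

theorem points160 : AllBelow (pointOk cert 74716 table) 10240 := AllBelow.step points159 64 Cfsg.Agent.CosetCertFi22OP5.points160c

theorem points161 : AllBelow (pointOk cert 74716 table) 10304 := AllBelow.step points160 64 Cfsg.Agent.CosetCertFi22OP5.points161c

theorem points162 : AllBelow (pointOk cert 74716 table) 10368 := AllBelow.step points161 64 Cfsg.Agent.CosetCertFi22OP5.points162c

theorem points163 : AllBelow (pointOk cert 74716 table) 10432 := AllBelow.step points162 64 Cfsg.Agent.CosetCertFi22OP5.points163c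

theorem points164 : AllBelow (pointOk cert 74716 table) 10496 := AllBelow.step points163 64 Cfsg.Agent.CosetCertFi22OP5.points164c

theorem points165 : AllBelow (pointOk cert 74716 table) 10560 := AllBelow.step points164 64 Cfsg.Agent.CosetCertFi22OP5.points165c

theorem points166 : AllBelow (pointOk cert 74716 table) 10624 := AllBelow.step points165 64 Cfsg.Agent.CosetCertFi22OP5.points166c

theorem points167 : AllBelow (pointOk cert 74716 table) 10688 := AllBelow.step points166 64 Cfsg.Agent.CosetCertFi22OP5.points167c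

theorem points168 : AllBelow (pointOk cert 74716 table) 10752 := AllBelow.step points167 64 Cfsg.Agent.CosetCertFi22OP5.points168c

theorem points169 : AllBelow (pointOk cert 74716 table) 10816 := AllBelow.step points168 64 Cfsg.Agent.CosetCertFi22OP5.points169c

theorem points170 : AllBelow (pointOk cert 74716 table) 10880 := AllBelow.step points169 64 Cfsg.Agent.CosetCertFi22OP5.points170c

theorem points171 : AllBelow (pointOk cert 74716 table) 10944 := AllBelow.step points170 64 Cfsg.Agent.CosetCertFi22OP5.points171c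

theorem points172 : AllBelow (pointOk cert 74716 table) 11008 := AllBelow.step points171 64 Cfsg.Agent.CosetCertFi22OP5.points172c

theorem points173 : AllBelow (pointOk cert 74716 table) 11072 := AllBelow.step points172 64 Cfsg.Agent.CosetCertFi22OP5.points173c

theorem points174 : AllBelow (pointOk cert 74716 table) 11136 := AllBelow.step points173 64 Cfsg.Agent.CosetCertFi22OP5.points174c

theorem points175 : AllBelow (pointOk cert 74716 table) 11200 := AllBelow.step points174 64 Cfsg.Agent.CosetCertFi22OP5.points175c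

theorem points176 : AllBelow (pointOk cert 74716 table) 11264 := AllBelow.step points175 64 Cfsg.Agent.CosetCertFi22OP5.points176c

theorem points177 : AllBelow (pointOk cert 74716 table) 11328 := AllBelow.step points176 64 Cfsg.Agent.CosetCertFi22OP5.points177c

theorem points178 : AllBelow (pointOk cert 74716 table) 11392 := AllBelow.step points177 64 Cfsg.Agent.CosetCertFi22OP5.points178c

theorem points179 : AllBelow (pointOk cert 74716 table) 11456 := AllBelow.step points178 64 Cfsg.Agent.CosetCertFi22OP5.points179c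

theorem points180 : AllBelow (pointOk cert 74716 table) 11520 := AllBelow.step points179 64 Cfsg.Agent.CosetCertFi22OP5.points180c

theorem points181 : AllBelow (pointOk cert 74716 table) 11584 := AllBelow.step points180 64 Cfsg.Agent.CosetCertFi22OP5.points181c

theorem points182 : AllBelow (pointOk cert 74716 table) 11648 := AllBelow.step points181 64 Cfsg.Agent.CosetCertFi22OP5.points182c

theorem points183 : AllBelow (pointOk cert 74716 table) 11712 := AllBelow.step points182 64 Cfsg.Agent.CosetCertFi22OP5.points183c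

theorem points184 : AllBelow (pointOk cert 74716 table) 11776 := AllBelow.step points183 64 Cfsg.Agent.CosetCertFi22OP5.points184c

theorem points185 : AllBelow (pointOk cert 74716 table) 11840 := AllBelow.step points184 64 Cfsg.Agent.CosetCertFi22OP5.points185c

theorem points186 : AllBelow (pointOk cert 74716 table) 11904 := AllBelow.step points185 64 Cfsg.Agent.CosetCertFi22OP5.points186c

theorem points187 : AllBelow (pointOk cert 74716 table) 11968 := AllBelow.step points186 64 Cfsg.Agent.CosetCertFi22OP6.points187c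

theorem points188 : AllBelow (pointOk cert 74716 table) 12032 := AllBelow.step points187 64 Cfsg.Agent.CosetCertFi22OP6.points188c

theorem points189 : AllBelow (pointOk cert 74716 table) 12096 := AllBelow.step points188 64 Cfsg.Agent.CosetCertFi22OP6.points189c

theorem points190 : AllBelow (pointOk cert 74716 table) 12160 := AllBelow.step points189 64 Cfsg.Agent.CosetCertFi22OP6.points190c

theorem points191 : AllBelow (pointOk cert 74716 table) 12224 := AllBelow.step points190 64 Cfsg.Agent.CosetCertFi22OP6.points191c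

theorem points192 : AllBelow (pointOk cert 74716 table) 12288 := AllBelow.step points191 64 Cfsg.Agent.CosetCertFi22OP6.points192c

theorem points193 : AllBelow (pointOk cert 74716 table) 12352 := AllBelow.step points192 64 Cfsg.Agent.CosetCertFi22OP6.points193c

theorem points194 : AllBelow (pointOk cert 74716 table) 12416 := AllBelow.step points193 64 Cfsg.Agent.CosetCertFi22OP6.points194c

theorem points195 : AllBelow (pointOk cert 74716 table) 12480 := AllBelow.step points194 64 Cfsg.Agent.CosetCertFi22OP6.points195c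

theorem points196 : AllBelow (pointOk cert 74716 table) 12544 := AllBelow.step points195 64 Cfsg.Agent.CosetCertFi22OP6.points196c

theorem points197 : AllBelow (pointOk cert 74716 table) 12608 := AllBelow.step points196 64 Cfsg.Agent.CosetCertFi22OP6.points197c

theorem points198 : AllBelow (pointOk cert 74716 table) 12672 := AllBelow.step points197 64 Cfsg.Agent.CosetCertFi22OP6.points198c

theorem points199 : AllBelow (pointOk cert 74716 table) 12736 := AllBelow.step points198 64 Cfsg.Agent.CosetCertFi22OP6.points199c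

theorem points200 : AllBelow (pointOk cert 74716 table) 12800 := AllBelow.step points199 64 Cfsg.Agent.CosetCertFi22OP6.points200c

theorem points201 : AllBelow (pointOk cert 74716 table) 12864 := AllBelow.step points200 64 Cfsg.Agent.CosetCertFi22OP6.points201c

theorem points202 : AllBelow (pointOk cert 74716 table) 12928 := AllBelow.step points201 64 Cfsg.Agent.CosetCertFi22OP6.points202c

theorem points203 : AllBelow (pointOk cert 74716 table) 12992 := AllBelow.step points202 64 Cfsg.Agent.CosetCertFi22OP6.points203c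

theorem points204 : AllBelow (pointOk cert 74716 table) 13056 := AllBelow.step points203 64 Cfsg.Agent.CosetCertFi22OP6.points204c

theorem points205 : AllBelow (pointOk cert 74716 table) 13120 := AllBelow.step points204 64 Cfsg.Agent.CosetCertFi22OP6.points205c

theorem points206 : AllBelow (pointOk cert 74716 table) 13184 := AllBelow.step points205 64 Cfsg.Agent.CosetCertFi22OP6.points206c

theorem points207 : AllBelow (pointOk cert 74716 table) 13248 := AllBelow.step points206 64 Cfsg.Agent.CosetCertFi22OP6.points207c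

theorem points208 : AllBelow (pointOk cert 74716 table) 13312 := AllBelow.step points207 64 Cfsg.Agent.CosetCertFi22OP6.points208c

theorem points209 : AllBelow (pointOk cert 74716 table) 13376 := AllBelow.step points208 64 Cfsg.Agent.CosetCertFi22OP6.points209c

theorem points210 : AllBelow (pointOk cert 74716 table) 13440 := AllBelow.step points209 64 Cfsg.Agent.CosetCertFi22OP6.points210c

theorem points211 : AllBelow (pointOk cert 74716 table) 13504 := AllBelow.step points210 64 Cfsg.Agent.CosetCertFi22OP6.points211c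

theorem points212 : AllBelow (pointOk cert 74716 table) 13568 := AllBelow.step points211 64 Cfsg.Agent.CosetCertFi22OP6.points212c

theorem points213 : AllBelow (pointOk cert 74716 table) 13632 := AllBelow.step points212 64 Cfsg.Agent.CosetCertFi22OP6.points213c

theorem points214 : AllBelow (pointOk cert 74716 table) 13696 := AllBelow.step points213 64 Cfsg.Agent.CosetCertFi22OP6.points214c

theorem points215 : AllBelow (pointOk cert 74716 table) 13760 := AllBelow.step points214 64 Cfsg.Agent.CosetCertFi22OP6.points215c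

theorem points216 : AllBelow (pointOk cert 74716 table) 13824 := AllBelow.step points215 64 Cfsg.Agent.CosetCertFi22OP6.points216c

theorem points217 : AllBelow (pointOk cert 74716 table) 13888 := AllBelow.step points216 64 Cfsg.Agent.CosetCertFi22OP6.points217c

theorem points218 : AllBelow (pointOk cert 74716 table) 13952 := AllBelow.step points217 64 Cfsg.Agent.CosetCertFi22OP7.points218c

theorem points219 : AllBelow (pointOk cert 74716 table) 14016 := AllBelow.step points218 64 Cfsg.Agent.CosetCertFi22OP7.points219c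

theorem points220 : AllBelow (pointOk cert 74716 table) 14080 := AllBelow.step points219 64 Cfsg.Agent.CosetCertFi22OP7.points220c

theorem rels0 : AllBelow (relsOk cert.rels table) 0 := AllBelow.zero _

theorem rels1 : AllBelow (relsOk cert.rels table) 64 := AllBelow.step rels0 64 Cfsg.Agent.CosetCertFi22OP0.rels1c

theorem rels2 : AllBelow (relsOk cert.rels table) 128 := AllBelow.step rels1 64 Cfsg.Agent.CosetCertFi22OP0.rels2c

theorem rels3 : AllBelow (relsOk cert.rels table) 192 := AllBelow.step rels2 64 Cfsg.Agent.CosetCertFi22OP0.rels3c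

theorem rels4 : AllBelow (relsOk cert.rels table) 256 := AllBelow.step rels3 64 Cfsg.Agent.CosetCertFi22OP0.rels4c

theorem rels5 : AllBelow (relsOk cert.rels table) 320 := AllBelow.step rels4 64 Cfsg.Agent.CosetCertFi22OP0.rels5c

theorem rels6 : AllBelow (relsOk cert.rels table) 384 := AllBelow.step rels5 64 Cfsg.Agent.CosetCertFi22OP0.rels6c

theorem rels7 : AllBelow (relsOk cert.rels table) 448 := AllBelow.step rels6 64 Cfsg.Agent.CosetCertFi22OP0.rels7c

theorem rels8 : AllBelow (relsOk cert.rels table) 512 := AllBelow.step rels7 64 Cfsg.Agent.CosetCertFi22OP0.rels8c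

theorem rels9 : AllBelow (relsOk cert.rels table) 576 := AllBelow.step rels8 64 Cfsg.Agent.CosetCertFi22OP0.rels9c

theorem rels10 : AllBelow (relsOk cert.rels table) 640 := AllBelow.step rels9 64 Cfsg.Agent.CosetCertFi22OP0.rels10c

theorem rels11 : AllBelow (relsOk cert.rels table) 704 := AllBelow.step rels10 64 Cfsg.Agent.CosetCertFi22OP0.rels11c

theorem rels12 : AllBelow (relsOk cert.rels table) 768 := AllBelow.step rels11 64 Cfsg.Agent.CosetCertFi22OP0.rels12c

theorem rels13 : AllBelow (relsOk cert.rels table) 832 := AllBelow.step rels12 64 Cfsg.Agent.CosetCertFi22OP0.rels13c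

theorem rels14 : AllBelow (relsOk cert.rels table) 896 := AllBelow.step rels13 64 Cfsg.Agent.CosetCertFi22OP0.rels14c

theorem rels15 : AllBelow (relsOk cert.rels table) 960 := AllBelow.step rels14 64 Cfsg.Agent.CosetCertFi22OP0.rels15c

theorem rels16 : AllBelow (relsOk cert.rels table) 1024 := AllBelow.step rels15 64 Cfsg.Agent.CosetCertFi22OP0.rels16c

theorem rels17 : AllBelow (relsOk cert.rels table) 1088 := AllBelow.step rels16 64 Cfsg.Agent.CosetCertFi22OP0.rels17c

theorem rels18 : AllBelow (relsOk cert.rels table) 1152 := AllBelow.step rels17 64 Cfsg.Agent.CosetCertFi22OP0.rels18c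

theorem rels19 : AllBelow (relsOk cert.rels table) 1216 := AllBelow.step rels18 64 Cfsg.Agent.CosetCertFi22OP0.rels19c

theorem rels20 : AllBelow (relsOk cert.rels table) 1280 := AllBelow.step rels19 64 Cfsg.Agent.CosetCertFi22OP0.rels20c

theorem rels21 : AllBelow (relsOk cert.rels table) 1344 := AllBelow.step rels20 64 Cfsg.Agent.CosetCertFi22OP0.rels21c

theorem rels22 : AllBelow (relsOk cert.rels table) 1408 := AllBelow.step rels21 64 Cfsg.Agent.CosetCertFi22OP0.rels22c

theorem rels23 : AllBelow (relsOk cert.rels table) 1472 := AllBelow.step rels22 64 Cfsg.Agent.CosetCertFi22OP0.rels23c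

theorem rels24 : AllBelow (relsOk cert.rels table) 1536 := AllBelow.step rels23 64 Cfsg.Agent.CosetCertFi22OP0.rels24c

theorem rels25 : AllBelow (relsOk cert.rels table) 1600 := AllBelow.step rels24 64 Cfsg.Agent.CosetCertFi22OP0.rels25c

theorem rels26 : AllBelow (relsOk cert.rels table) 1664 := AllBelow.step rels25 64 Cfsg.Agent.CosetCertFi22OP0.rels26c

theorem rels27 : AllBelow (relsOk cert.rels table) 1728 := AllBelow.step rels26 64 Cfsg.Agent.CosetCertFi22OP0.rels27c

theorem rels28 : AllBelow (relsOk cert.rels table) 1792 := AllBelow.step rels27 64 Cfsg.Agent.CosetCertFi22OP0.rels28c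

theorem rels29 : AllBelow (relsOk cert.rels table) 1856 := AllBelow.step rels28 64 Cfsg.Agent.CosetCertFi22OP0.rels29c

theorem rels30 : AllBelow (relsOk cert.rels table) 1920 := AllBelow.step rels29 64 Cfsg.Agent.CosetCertFi22OP0.rels30c

theorem rels31 : AllBelow (relsOk cert.rels table) 1984 := AllBelow.step rels30 64 Cfsg.Agent.CosetCertFi22OP0.rels31c

theorem rels32 : AllBelow (relsOk cert.rels table) 2048 := AllBelow.step rels31 64 Cfsg.Agent.CosetCertFi22OP1.rels32c

theorem rels33 : AllBelow (relsOk cert.rels table) 2112 := AllBelow.step rels32 64 Cfsg.Agent.CosetCertFi22OP1.rels33c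

theorem rels34 : AllBelow (relsOk cert.rels table) 2176 := AllBelow.step rels33 64 Cfsg.Agent.CosetCertFi22OP1.rels34c

theorem rels35 : AllBelow (relsOk cert.rels table) 2240 := AllBelow.step rels34 64 Cfsg.Agent.CosetCertFi22OP1.rels35c

theorem rels36 : AllBelow (relsOk cert.rels table) 2304 := AllBelow.step rels35 64 Cfsg.Agent.CosetCertFi22OP1.rels36c

theorem rels37 : AllBelow (relsOk cert.rels table) 2368 := AllBelow.step rels36 64 Cfsg.Agent.CosetCertFi22OP1.rels37c

theorem rels38 : AllBelow (relsOk cert.rels table) 2432 := AllBelow.step rels37 64 Cfsg.Agent.CosetCertFi22OP1.rels38c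

theorem rels39 : AllBelow (relsOk cert.rels table) 2496 := AllBelow.step rels38 64 Cfsg.Agent.CosetCertFi22OP1.rels39c

theorem rels40 : AllBelow (relsOk cert.rels table) 2560 := AllBelow.step rels39 64 Cfsg.Agent.CosetCertFi22OP1.rels40c

theorem rels41 : AllBelow (relsOk cert.rels table) 2624 := AllBelow.step rels40 64 Cfsg.Agent.CosetCertFi22OP1.rels41c

theorem rels42 : AllBelow (relsOk cert.rels table) 2688 := AllBelow.step rels41 64 Cfsg.Agent.CosetCertFi22OP1.rels42c

theorem rels43 : AllBelow (relsOk cert.rels table) 2752 := AllBelow.step rels42 64 Cfsg.Agent.CosetCertFi22OP1.rels43c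

theorem rels44 : AllBelow (relsOk cert.rels table) 2816 := AllBelow.step rels43 64 Cfsg.Agent.CosetCertFi22OP1.rels44c

theorem rels45 : AllBelow (relsOk cert.rels table) 2880 := AllBelow.step rels44 64 Cfsg.Agent.CosetCertFi22OP1.rels45c

theorem rels46 : AllBelow (relsOk cert.rels table) 2944 := AllBelow.step rels45 64 Cfsg.Agent.CosetCertFi22OP1.rels46c

theorem rels47 : AllBelow (relsOk cert.rels table) 3008 := AllBelow.step rels46 64 Cfsg.Agent.CosetCertFi22OP1.rels47c

theorem rels48 : AllBelow (relsOk cert.rels table) 3072 := AllBelow.step rels47 64 Cfsg.Agent.CosetCertFi22OP1.rels48c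

theorem rels49 : AllBelow (relsOk cert.rels table) 3136 := AllBelow.step rels48 64 Cfsg.Agent.CosetCertFi22OP1.rels49c

theorem rels50 : AllBelow (relsOk cert.rels table) 3200 := AllBelow.step rels49 64 Cfsg.Agent.CosetCertFi22OP1.rels50c

theorem rels51 : AllBelow (relsOk cert.rels table) 3264 := AllBelow.step rels50 64 Cfsg.Agent.CosetCertFi22OP1.rels51c

theorem rels52 : AllBelow (relsOk cert.rels table) 3328 := AllBelow.step rels51 64 Cfsg.Agent.CosetCertFi22OP1.rels52c

theorem rels53 : AllBelow (relsOk cert.rels table) 3392 := AllBelow.step rels52 64 Cfsg.Agent.CosetCertFi22OP1.rels53c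

theorem rels54 : AllBelow (relsOk cert.rels table) 3456 := AllBelow.step rels53 64 Cfsg.Agent.CosetCertFi22OP1.rels54c

theorem rels55 : AllBelow (relsOk cert.rels table) 3520 := AllBelow.step rels54 64 Cfsg.Agent.CosetCertFi22OP1.rels55c

theorem rels56 : AllBelow (relsOk cert.rels table) 3584 := AllBelow.step rels55 64 Cfsg.Agent.CosetCertFi22OP1.rels56c

theorem rels57 : AllBelow (relsOk cert.rels table) 3648 := AllBelow.step rels56 64 Cfsg.Agent.CosetCertFi22OP1.rels57c

theorem rels58 : AllBelow (relsOk cert.rels table) 3712 := AllBelow.step rels57 64 Cfsg.Agent.CosetCertFi22OP1.rels58c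

theorem rels59 : AllBelow (relsOk cert.rels table) 3776 := AllBelow.step rels58 64 Cfsg.Agent.CosetCertFi22OP1.rels59c

theorem rels60 : AllBelow (relsOk cert.rels table) 3840 := AllBelow.step rels59 64 Cfsg.Agent.CosetCertFi22OP1.rels60c

theorem rels61 : AllBelow (relsOk cert.rels table) 3904 := AllBelow.step rels60 64 Cfsg.Agent.CosetCertFi22OP1.rels61c

theorem rels62 : AllBelow (relsOk cert.rels table) 3968 := AllBelow.step rels61 64 Cfsg.Agent.CosetCertFi22OP1.rels62c

theorem rels63 : AllBelow (relsOk cert.rels table) 4032 := AllBelow.step rels62 64 Cfsg.Agent.CosetCertFi22OP2.rels63c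

theorem rels64 : AllBelow (relsOk cert.rels table) 4096 := AllBelow.step rels63 64 Cfsg.Agent.CosetCertFi22OP2.rels64c

theorem rels65 : AllBelow (relsOk cert.rels table) 4160 := AllBelow.step rels64 64 Cfsg.Agent.CosetCertFi22OP2.rels65c

theorem rels66 : AllBelow (relsOk cert.rels table) 4224 := AllBelow.step rels65 64 Cfsg.Agent.CosetCertFi22OP2.rels66c

theorem rels67 : AllBelow (relsOk cert.rels table) 4288 := AllBelow.step rels66 64 Cfsg.Agent.CosetCertFi22OP2.rels67c

theorem rels68 : AllBelow (relsOk cert.rels table) 4352 := AllBelow.step rels67 64 Cfsg.Agent.CosetCertFi22OP2.rels68c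

theorem rels69 : AllBelow (relsOk cert.rels table) 4416 := AllBelow.step rels68 64 Cfsg.Agent.CosetCertFi22OP2.rels69c

theorem rels70 : AllBelow (relsOk cert.rels table) 4480 := AllBelow.step rels69 64 Cfsg.Agent.CosetCertFi22OP2.rels70c

theorem rels71 : AllBelow (relsOk cert.rels table) 4544 := AllBelow.step rels70 64 Cfsg.Agent.CosetCertFi22OP2.rels71c

theorem rels72 : AllBelow (relsOk cert.rels table) 4608 := AllBelow.step rels71 64 Cfsg.Agent.CosetCertFi22OP2.rels72c

theorem rels73 : AllBelow (relsOk cert.rels table) 4672 := AllBelow.step rels72 64 Cfsg.Agent.CosetCertFi22OP2.rels73c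

theorem rels74 : AllBelow (relsOk cert.rels table) 4736 := AllBelow.step rels73 64 Cfsg.Agent.CosetCertFi22OP2.rels74c

theorem rels75 : AllBelow (relsOk cert.rels table) 4800 := AllBelow.step rels74 64 Cfsg.Agent.CosetCertFi22OP2.rels75c

theorem rels76 : AllBelow (relsOk cert.rels table) 4864 := AllBelow.step rels75 64 Cfsg.Agent.CosetCertFi22OP2.rels76c

theorem rels77 : AllBelow (relsOk cert.rels table) 4928 := AllBelow.step rels76 64 Cfsg.Agent.CosetCertFi22OP2.rels77c

theorem rels78 : AllBelow (relsOk cert.rels table) 4992 := AllBelow.step rels77 64 Cfsg.Agent.CosetCertFi22OP2.rels78c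

theorem rels79 : AllBelow (relsOk cert.rels table) 5056 := AllBelow.step rels78 64 Cfsg.Agent.CosetCertFi22OP2.rels79c

theorem rels80 : AllBelow (relsOk cert.rels table) 5120 := AllBelow.step rels79 64 Cfsg.Agent.CosetCertFi22OP2.rels80c

theorem rels81 : AllBelow (relsOk cert.rels table) 5184 := AllBelow.step rels80 64 Cfsg.Agent.CosetCertFi22OP2.rels81c

theorem rels82 : AllBelow (relsOk cert.rels table) 5248 := AllBelow.step rels81 64 Cfsg.Agent.CosetCertFi22OP2.rels82c

theorem rels83 : AllBelow (relsOk cert.rels table) 5312 := AllBelow.step rels82 64 Cfsg.Agent.CosetCertFi22OP2.rels83c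

theorem rels84 : AllBelow (relsOk cert.rels table) 5376 := AllBelow.step rels83 64 Cfsg.Agent.CosetCertFi22OP2.rels84c

theorem rels85 : AllBelow (relsOk cert.rels table) 5440 := AllBelow.step rels84 64 Cfsg.Agent.CosetCertFi22OP2.rels85c

theorem rels86 : AllBelow (relsOk cert.rels table) 5504 := AllBelow.step rels85 64 Cfsg.Agent.CosetCertFi22OP2.rels86c

theorem rels87 : AllBelow (relsOk cert.rels table) 5568 := AllBelow.step rels86 64 Cfsg.Agent.CosetCertFi22OP2.rels87c

theorem rels88 : AllBelow (relsOk cert.rels table) 5632 := AllBelow.step rels87 64 Cfsg.Agent.CosetCertFi22OP2.rels88c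

theorem rels89 : AllBelow (relsOk cert.rels table) 5696 := AllBelow.step rels88 64 Cfsg.Agent.CosetCertFi22OP2.rels89c

theorem rels90 : AllBelow (relsOk cert.rels table) 5760 := AllBelow.step rels89 64 Cfsg.Agent.CosetCertFi22OP2.rels90c

theorem rels91 : AllBelow (relsOk cert.rels table) 5824 := AllBelow.step rels90 64 Cfsg.Agent.CosetCertFi22OP2.rels91c

theorem rels92 : AllBelow (relsOk cert.rels table) 5888 := AllBelow.step rels91 64 Cfsg.Agent.CosetCertFi22OP2.rels92c

theorem rels93 : AllBelow (relsOk cert.rels table) 5952 := AllBelow.step rels92 64 Cfsg.Agent.CosetCertFi22OP2.rels93c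

theorem rels94 : AllBelow (relsOk cert.rels table) 6016 := AllBelow.step rels93 64 Cfsg.Agent.CosetCertFi22OP3.rels94c

theorem rels95 : AllBelow (relsOk cert.rels table) 6080 := AllBelow.step rels94 64 Cfsg.Agent.CosetCertFi22OP3.rels95c

theorem rels96 : AllBelow (relsOk cert.rels table) 6144 := AllBelow.step rels95 64 Cfsg.Agent.CosetCertFi22OP3.rels96c

theorem rels97 : AllBelow (relsOk cert.rels table) 6208 := AllBelow.step rels96 64 Cfsg.Agent.CosetCertFi22OP3.rels97c

theorem rels98 : AllBelow (relsOk cert.rels table) 6272 := AllBelow.step rels97 64 Cfsg.Agent.CosetCertFi22OP3.rels98c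

theorem rels99 : AllBelow (relsOk cert.rels table) 6336 := AllBelow.step rels98 64 Cfsg.Agent.CosetCertFi22OP3.rels99c

theorem rels100 : AllBelow (relsOk cert.rels table) 6400 := AllBelow.step rels99 64 Cfsg.Agent.CosetCertFi22OP3.rels100c

theorem rels101 : AllBelow (relsOk cert.rels table) 6464 := AllBelow.step rels100 64 Cfsg.Agent.CosetCertFi22OP3.rels101c

theorem rels102 : AllBelow (relsOk cert.rels table) 6528 := AllBelow.step rels101 64 Cfsg.Agent.CosetCertFi22OP3.rels102c

theorem rels103 : AllBelow (relsOk cert.rels table) 6592 := AllBelow.step rels102 64 Cfsg.Agent.CosetCertFi22OP3.rels103c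

theorem rels104 : AllBelow (relsOk cert.rels table) 6656 := AllBelow.step rels103 64 Cfsg.Agent.CosetCertFi22OP3.rels104c

theorem rels105 : AllBelow (relsOk cert.rels table) 6720 := AllBelow.step rels104 64 Cfsg.Agent.CosetCertFi22OP3.rels105c

theorem rels106 : AllBelow (relsOk cert.rels table) 6784 := AllBelow.step rels105 64 Cfsg.Agent.CosetCertFi22OP3.rels106c

theorem rels107 : AllBelow (relsOk cert.rels table) 6848 := AllBelow.step rels106 64 Cfsg.Agent.CosetCertFi22OP3.rels107c

theorem rels108 : AllBelow (relsOk cert.rels table) 6912 := AllBelow.step rels107 64 Cfsg.Agent.CosetCertFi22OP3.rels108c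

theorem rels109 : AllBelow (relsOk cert.rels table) 6976 := AllBelow.step rels108 64 Cfsg.Agent.CosetCertFi22OP3.rels109c

theorem rels110 : AllBelow (relsOk cert.rels table) 7040 := AllBelow.step rels109 64 Cfsg.Agent.CosetCertFi22OP3.rels110c

theorem rels111 : AllBelow (relsOk cert.rels table) 7104 := AllBelow.step rels110 64 Cfsg.Agent.CosetCertFi22OP3.rels111c

theorem rels112 : AllBelow (relsOk cert.rels table) 7168 := AllBelow.step rels111 64 Cfsg.Agent.CosetCertFi22OP3.rels112c

theorem rels113 : AllBelow (relsOk cert.rels table) 7232 := AllBelow.step rels112 64 Cfsg.Agent.CosetCertFi22OP3.rels113c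

theorem rels114 : AllBelow (relsOk cert.rels table) 7296 := AllBelow.step rels113 64 Cfsg.Agent.CosetCertFi22OP3.rels114c

theorem rels115 : AllBelow (relsOk cert.rels table) 7360 := AllBelow.step rels114 64 Cfsg.Agent.CosetCertFi22OP3.rels115c

theorem rels116 : AllBelow (relsOk cert.rels table) 7424 := AllBelow.step rels115 64 Cfsg.Agent.CosetCertFi22OP3.rels116c

theorem rels117 : AllBelow (relsOk cert.rels table) 7488 := AllBelow.step rels116 64 Cfsg.Agent.CosetCertFi22OP3.rels117c

theorem rels118 : AllBelow (relsOk cert.rels table) 7552 := AllBelow.step rels117 64 Cfsg.Agent.CosetCertFi22OP3.rels118c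

theorem rels119 : AllBelow (relsOk cert.rels table) 7616 := AllBelow.step rels118 64 Cfsg.Agent.CosetCertFi22OP3.rels119c

theorem rels120 : AllBelow (relsOk cert.rels table) 7680 := AllBelow.step rels119 64 Cfsg.Agent.CosetCertFi22OP3.rels120c

theorem rels121 : AllBelow (relsOk cert.rels table) 7744 := AllBelow.step rels120 64 Cfsg.Agent.CosetCertFi22OP3.rels121c

theorem rels122 : AllBelow (relsOk cert.rels table) 7808 := AllBelow.step rels121 64 Cfsg.Agent.CosetCertFi22OP3.rels122c

theorem rels123 : AllBelow (relsOk cert.rels table) 7872 := AllBelow.step rels122 64 Cfsg.Agent.CosetCertFi22OP3.rels123c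

theorem rels124 : AllBelow (relsOk cert.rels table) 7936 := AllBelow.step rels123 64 Cfsg.Agent.CosetCertFi22OP3.rels124c

theorem rels125 : AllBelow (relsOk cert.rels table) 8000 := AllBelow.step rels124 64 Cfsg.Agent.CosetCertFi22OP4.rels125c

theorem rels126 : AllBelow (relsOk cert.rels table) 8064 := AllBelow.step rels125 64 Cfsg.Agent.CosetCertFi22OP4.rels126c

theorem rels127 : AllBelow (relsOk cert.rels table) 8128 := AllBelow.step rels126 64 Cfsg.Agent.CosetCertFi22OP4.rels127c

theorem rels128 : AllBelow (relsOk cert.rels table) 8192 := AllBelow.step rels127 64 Cfsg.Agent.CosetCertFi22OP4.rels128c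

theorem rels129 : AllBelow (relsOk cert.rels table) 8256 := AllBelow.step rels128 64 Cfsg.Agent.CosetCertFi22OP4.rels129c

theorem rels130 : AllBelow (relsOk cert.rels table) 8320 := AllBelow.step rels129 64 Cfsg.Agent.CosetCertFi22OP4.rels130c

theorem rels131 : AllBelow (relsOk cert.rels table) 8384 := AllBelow.step rels130 64 Cfsg.Agent.CosetCertFi22OP4.rels131c

theorem rels132 : AllBelow (relsOk cert.rels table) 8448 := AllBelow.step rels131 64 Cfsg.Agent.CosetCertFi22OP4.rels132c

theorem rels133 : AllBelow (relsOk cert.rels table) 8512 := AllBelow.step rels132 64 Cfsg.Agent.CosetCertFi22OP4.rels133c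

theorem rels134 : AllBelow (relsOk cert.rels table) 8576 := AllBelow.step rels133 64 Cfsg.Agent.CosetCertFi22OP4.rels134c

theorem rels135 : AllBelow (relsOk cert.rels table) 8640 := AllBelow.step rels134 64 Cfsg.Agent.CosetCertFi22OP4.rels135c

theorem rels136 : AllBelow (relsOk cert.rels table) 8704 := AllBelow.step rels135 64 Cfsg.Agent.CosetCertFi22OP4.rels136c

theorem rels137 : AllBelow (relsOk cert.rels table) 8768 := AllBelow.step rels136 64 Cfsg.Agent.CosetCertFi22OP4.rels137c

theorem rels138 : AllBelow (relsOk cert.rels table) 8832 := AllBelow.step rels137 64 Cfsg.Agent.CosetCertFi22OP4.rels138c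

theorem rels139 : AllBelow (relsOk cert.rels table) 8896 := AllBelow.step rels138 64 Cfsg.Agent.CosetCertFi22OP4.rels139c

theorem rels140 : AllBelow (relsOk cert.rels table) 8960 := AllBelow.step rels139 64 Cfsg.Agent.CosetCertFi22OP4.rels140c

theorem rels141 : AllBelow (relsOk cert.rels table) 9024 := AllBelow.step rels140 64 Cfsg.Agent.CosetCertFi22OP4.rels141c

theorem rels142 : AllBelow (relsOk cert.rels table) 9088 := AllBelow.step rels141 64 Cfsg.Agent.CosetCertFi22OP4.rels142c

theorem rels143 : AllBelow (relsOk cert.rels table) 9152 := AllBelow.step rels142 64 Cfsg.Agent.CosetCertFi22OP4.rels143c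

theorem rels144 : AllBelow (relsOk cert.rels table) 9216 := AllBelow.step rels143 64 Cfsg.Agent.CosetCertFi22OP4.rels144c

theorem rels145 : AllBelow (relsOk cert.rels table) 9280 := AllBelow.step rels144 64 Cfsg.Agent.CosetCertFi22OP4.rels145c

theorem rels146 : AllBelow (relsOk cert.rels table) 9344 := AllBelow.step rels145 64 Cfsg.Agent.CosetCertFi22OP4.rels146c

theorem rels147 : AllBelow (relsOk cert.rels table) 9408 := AllBelow.step rels146 64 Cfsg.Agent.CosetCertFi22OP4.rels147c

theorem rels148 : AllBelow (relsOk cert.rels table) 9472 := AllBelow.step rels147 64 Cfsg.Agent.CosetCertFi22OP4.rels148c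

theorem rels149 : AllBelow (relsOk cert.rels table) 9536 := AllBelow.step rels148 64 Cfsg.Agent.CosetCertFi22OP4.rels149c

theorem rels150 : AllBelow (relsOk cert.rels table) 9600 := AllBelow.step rels149 64 Cfsg.Agent.CosetCertFi22OP4.rels150c

theorem rels151 : AllBelow (relsOk cert.rels table) 9664 := AllBelow.step rels150 64 Cfsg.Agent.CosetCertFi22OP4.rels151c

theorem rels152 : AllBelow (relsOk cert.rels table) 9728 := AllBelow.step rels151 64 Cfsg.Agent.CosetCertFi22OP4.rels152c

theorem rels153 : AllBelow (relsOk cert.rels table) 9792 := AllBelow.step rels152 64 Cfsg.Agent.CosetCertFi22OP4.rels153c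

theorem rels154 : AllBelow (relsOk cert.rels table) 9856 := AllBelow.step rels153 64 Cfsg.Agent.CosetCertFi22OP4.rels154c

theorem rels155 : AllBelow (relsOk cert.rels table) 9920 := AllBelow.step rels154 64 Cfsg.Agent.CosetCertFi22OP4.rels155c

theorem rels156 : AllBelow (relsOk cert.rels table) 9984 := AllBelow.step rels155 64 Cfsg.Agent.CosetCertFi22OP5.rels156c

theorem rels157 : AllBelow (relsOk cert.rels table) 10048 := AllBelow.step rels156 64 Cfsg.Agent.CosetCertFi22OP5.rels157c

theorem rels158 : AllBelow (relsOk cert.rels table) 10112 := AllBelow.step rels157 64 Cfsg.Agent.CosetCertFi22OP5.rels158c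

theorem rels159 : AllBelow (relsOk cert.rels table) 10176 := AllBelow.step rels158 64 Cfsg.Agent.CosetCertFi22OP5.rels159c

theorem rels160 : AllBelow (relsOk cert.rels table) 10240 := AllBelow.step rels159 64 Cfsg.Agent.CosetCertFi22OP5.rels160c

theorem rels161 : AllBelow (relsOk cert.rels table) 10304 := AllBelow.step rels160 64 Cfsg.Agent.CosetCertFi22OP5.rels161c

theorem rels162 : AllBelow (relsOk cert.rels table) 10368 := AllBelow.step rels161 64 Cfsg.Agent.CosetCertFi22OP5.rels162c

theorem rels163 : AllBelow (relsOk cert.rels table) 10432 := AllBelow.step rels162 64 Cfsg.Agent.CosetCertFi22OP5.rels163c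

theorem rels164 : AllBelow (relsOk cert.rels table) 10496 := AllBelow.step rels163 64 Cfsg.Agent.CosetCertFi22OP5.rels164c

theorem rels165 : AllBelow (relsOk cert.rels table) 10560 := AllBelow.step rels164 64 Cfsg.Agent.CosetCertFi22OP5.rels165c

theorem rels166 : AllBelow (relsOk cert.rels table) 10624 := AllBelow.step rels165 64 Cfsg.Agent.CosetCertFi22OP5.rels166c

theorem rels167 : AllBelow (relsOk cert.rels table) 10688 := AllBelow.step rels166 64 Cfsg.Agent.CosetCertFi22OP5.rels167c

theorem rels168 : AllBelow (relsOk cert.rels table) 10752 := AllBelow.step rels167 64 Cfsg.Agent.CosetCertFi22OP5.rels168c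

theorem rels169 : AllBelow (relsOk cert.rels table) 10816 := AllBelow.step rels168 64 Cfsg.Agent.CosetCertFi22OP5.rels169c

theorem rels170 : AllBelow (relsOk cert.rels table) 10880 := AllBelow.step rels169 64 Cfsg.Agent.CosetCertFi22OP5.rels170c

theorem rels171 : AllBelow (relsOk cert.rels table) 10944 := AllBelow.step rels170 64 Cfsg.Agent.CosetCertFi22OP5.rels171c

theorem rels172 : AllBelow (relsOk cert.rels table) 11008 := AllBelow.step rels171 64 Cfsg.Agent.CosetCertFi22OP5.rels172c

theorem rels173 : AllBelow (relsOk cert.rels table) 11072 := AllBelow.step rels172 64 Cfsg.Agent.CosetCertFi22OP5.rels173c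

theorem rels174 : AllBelow (relsOk cert.rels table) 11136 := AllBelow.step rels173 64 Cfsg.Agent.CosetCertFi22OP5.rels174c

theorem rels175 : AllBelow (relsOk cert.rels table) 11200 := AllBelow.step rels174 64 Cfsg.Agent.CosetCertFi22OP5.rels175c

theorem rels176 : AllBelow (relsOk cert.rels table) 11264 := AllBelow.step rels175 64 Cfsg.Agent.CosetCertFi22OP5.rels176c

theorem rels177 : AllBelow (relsOk cert.rels table) 11328 := AllBelow.step rels176 64 Cfsg.Agent.CosetCertFi22OP5.rels177c

theorem rels178 : AllBelow (relsOk cert.rels table) 11392 := AllBelow.step rels177 64 Cfsg.Agent.CosetCertFi22OP5.rels178c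

theorem rels179 : AllBelow (relsOk cert.rels table) 11456 := AllBelow.step rels178 64 Cfsg.Agent.CosetCertFi22OP5.rels179c

theorem rels180 : AllBelow (relsOk cert.rels table) 11520 := AllBelow.step rels179 64 Cfsg.Agent.CosetCertFi22OP5.rels180c

theorem rels181 : AllBelow (relsOk cert.rels table) 11584 := AllBelow.step rels180 64 Cfsg.Agent.CosetCertFi22OP5.rels181c

theorem rels182 : AllBelow (relsOk cert.rels table) 11648 := AllBelow.step rels181 64 Cfsg.Agent.CosetCertFi22OP5.rels182c

theorem rels183 : AllBelow (relsOk cert.rels table) 11712 := AllBelow.step rels182 64 Cfsg.Agent.CosetCertFi22OP5.rels183c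

theorem rels184 : AllBelow (relsOk cert.rels table) 11776 := AllBelow.step rels183 64 Cfsg.Agent.CosetCertFi22OP5.rels184c

theorem rels185 : AllBelow (relsOk cert.rels table) 11840 := AllBelow.step rels184 64 Cfsg.Agent.CosetCertFi22OP5.rels185c

theorem rels186 : AllBelow (relsOk cert.rels table) 11904 := AllBelow.step rels185 64 Cfsg.Agent.CosetCertFi22OP5.rels186c

theorem rels187 : AllBelow (relsOk cert.rels table) 11968 := AllBelow.step rels186 64 Cfsg.Agent.CosetCertFi22OP6.rels187c

theorem rels188 : AllBelow (relsOk cert.rels table) 12032 := AllBelow.step rels187 64 Cfsg.Agent.CosetCertFi22OP6.rels188c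

theorem rels189 : AllBelow (relsOk cert.rels table) 12096 := AllBelow.step rels188 64 Cfsg.Agent.CosetCertFi22OP6.rels189c

theorem rels190 : AllBelow (relsOk cert.rels table) 12160 := AllBelow.step rels189 64 Cfsg.Agent.CosetCertFi22OP6.rels190c

theorem rels191 : AllBelow (relsOk cert.rels table) 12224 := AllBelow.step rels190 64 Cfsg.Agent.CosetCertFi22OP6.rels191c

theorem rels192 : AllBelow (relsOk cert.rels table) 12288 := AllBelow.step rels191 64 Cfsg.Agent.CosetCertFi22OP6.rels192c

theorem rels193 : AllBelow (relsOk cert.rels table) 12352 := AllBelow.step rels192 64 Cfsg.Agent.CosetCertFi22OP6.rels193c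

theorem rels194 : AllBelow (relsOk cert.rels table) 12416 := AllBelow.step rels193 64 Cfsg.Agent.CosetCertFi22OP6.rels194c

theorem rels195 : AllBelow (relsOk cert.rels table) 12480 := AllBelow.step rels194 64 Cfsg.Agent.CosetCertFi22OP6.rels195c

theorem rels196 : AllBelow (relsOk cert.rels table) 12544 := AllBelow.step rels195 64 Cfsg.Agent.CosetCertFi22OP6.rels196c

theorem rels197 : AllBelow (relsOk cert.rels table) 12608 := AllBelow.step rels196 64 Cfsg.Agent.CosetCertFi22OP6.rels197c

theorem rels198 : AllBelow (relsOk cert.rels table) 12672 := AllBelow.step rels197 64 Cfsg.Agent.CosetCertFi22OP6.rels198c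

theorem rels199 : AllBelow (relsOk cert.rels table) 12736 := AllBelow.step rels198 64 Cfsg.Agent.CosetCertFi22OP6.rels199c

theorem rels200 : AllBelow (relsOk cert.rels table) 12800 := AllBelow.step rels199 64 Cfsg.Agent.CosetCertFi22OP6.rels200c

theorem rels201 : AllBelow (relsOk cert.rels table) 12864 := AllBelow.step rels200 64 Cfsg.Agent.CosetCertFi22OP6.rels201c

theorem rels202 : AllBelow (relsOk cert.rels table) 12928 := AllBelow.step rels201 64 Cfsg.Agent.CosetCertFi22OP6.rels202c

theorem rels203 : AllBelow (relsOk cert.rels table) 12992 := AllBelow.step rels202 64 Cfsg.Agent.CosetCertFi22OP6.rels203c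

theorem rels204 : AllBelow (relsOk cert.rels table) 13056 := AllBelow.step rels203 64 Cfsg.Agent.CosetCertFi22OP6.rels204c

theorem rels205 : AllBelow (relsOk cert.rels table) 13120 := AllBelow.step rels204 64 Cfsg.Agent.CosetCertFi22OP6.rels205c

theorem rels206 : AllBelow (relsOk cert.rels table) 13184 := AllBelow.step rels205 64 Cfsg.Agent.CosetCertFi22OP6.rels206c

theorem rels207 : AllBelow (relsOk cert.rels table) 13248 := AllBelow.step rels206 64 Cfsg.Agent.CosetCertFi22OP6.rels207c

theorem rels208 : AllBelow (relsOk cert.rels table) 13312 := AllBelow.step rels207 64 Cfsg.Agent.CosetCertFi22OP6.rels208c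

theorem rels209 : AllBelow (relsOk cert.rels table) 13376 := AllBelow.step rels208 64 Cfsg.Agent.CosetCertFi22OP6.rels209c

theorem rels210 : AllBelow (relsOk cert.rels table) 13440 := AllBelow.step rels209 64 Cfsg.Agent.CosetCertFi22OP6.rels210c

theorem rels211 : AllBelow (relsOk cert.rels table) 13504 := AllBelow.step rels210 64 Cfsg.Agent.CosetCertFi22OP6.rels211c

theorem rels212 : AllBelow (relsOk cert.rels table) 13568 := AllBelow.step rels211 64 Cfsg.Agent.CosetCertFi22OP6.rels212c

theorem rels213 : AllBelow (relsOk cert.rels table) 13632 := AllBelow.step rels212 64 Cfsg.Agent.CosetCertFi22OP6.rels213c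

theorem rels214 : AllBelow (relsOk cert.rels table) 13696 := AllBelow.step rels213 64 Cfsg.Agent.CosetCertFi22OP6.rels214c

theorem rels215 : AllBelow (relsOk cert.rels table) 13760 := AllBelow.step rels214 64 Cfsg.Agent.CosetCertFi22OP6.rels215c

theorem rels216 : AllBelow (relsOk cert.rels table) 13824 := AllBelow.step rels215 64 Cfsg.Agent.CosetCertFi22OP6.rels216c

theorem rels217 : AllBelow (relsOk cert.rels table) 13888 := AllBelow.step rels216 64 Cfsg.Agent.CosetCertFi22OP6.rels217c

theorem rels218 : AllBelow (relsOk cert.rels table) 13952 := AllBelow.step rels217 64 Cfsg.Agent.CosetCertFi22OP7.rels218c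

theorem rels219 : AllBelow (relsOk cert.rels table) 14016 := AllBelow.step rels218 64 Cfsg.Agent.CosetCertFi22OP7.rels219c

theorem rels220 : AllBelow (relsOk cert.rels table) 14080 := AllBelow.step rels219 64 Cfsg.Agent.CosetCertFi22OP7.rels220c

theorem orb0 : AllBelow (orbOk orbTbl roots cert.sgens table) 0 := AllBelow.zero _

theorem orb1 : AllBelow (orbOk orbTbl roots cert.sgens table) 64 := AllBelow.step orb0 64 Cfsg.Agent.CosetCertFi22OP0.orb1c

theorem orb2 : AllBelow (orbOk orbTbl roots cert.sgens table) 128 := AllBelow.step orb1 64 Cfsg.Agent.CosetCertFi22OP0.orb2c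

theorem orb3 : AllBelow (orbOk orbTbl roots cert.sgens table) 192 := AllBelow.step orb2 64 Cfsg.Agent.CosetCertFi22OP0.orb3c

theorem orb4 : AllBelow (orbOk orbTbl roots cert.sgens table) 256 := AllBelow.step orb3 64 Cfsg.Agent.CosetCertFi22OP0.orb4c

theorem orb5 : AllBelow (orbOk orbTbl roots cert.sgens table) 320 := AllBelow.step orb4 64 Cfsg.Agent.CosetCertFi22OP0.orb5c

theorem orb6 : AllBelow (orbOk orbTbl roots cert.sgens table) 384 := AllBelow.step orb5 64 Cfsg.Agent.CosetCertFi22OP0.orb6c

theorem orb7 : AllBelow (orbOk orbTbl roots cert.sgens table) 448 := AllBelow.step orb6 64 Cfsg.Agent.CosetCertFi22OP0.orb7c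

theorem orb8 : AllBelow (orbOk orbTbl roots cert.sgens table) 512 := AllBelow.step orb7 64 Cfsg.Agent.CosetCertFi22OP0.orb8c

theorem orb9 : AllBelow (orbOk orbTbl roots cert.sgens table) 576 := AllBelow.step orb8 64 Cfsg.Agent.CosetCertFi22OP0.orb9c

theorem orb10 : AllBelow (orbOk orbTbl roots cert.sgens table) 640 := AllBelow.step orb9 64 Cfsg.Agent.CosetCertFi22OP0.orb10c

theorem orb11 : AllBelow (orbOk orbTbl roots cert.sgens table) 704 := AllBelow.step orb10 64 Cfsg.Agent.CosetCertFi22OP0.orb11c

theorem orb12 : AllBelow (orbOk orbTbl roots cert.sgens table) 768 := AllBelow.step orb11 64 Cfsg.Agent.CosetCertFi22OP0.orb12c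

theorem orb13 : AllBelow (orbOk orbTbl roots cert.sgens table) 832 := AllBelow.step orb12 64 Cfsg.Agent.CosetCertFi22OP0.orb13c

theorem orb14 : AllBelow (orbOk orbTbl roots cert.sgens table) 896 := AllBelow.step orb13 64 Cfsg.Agent.CosetCertFi22OP0.orb14c

theorem orb15 : AllBelow (orbOk orbTbl roots cert.sgens table) 960 := AllBelow.step orb14 64 Cfsg.Agent.CosetCertFi22OP0.orb15c

theorem orb16 : AllBelow (orbOk orbTbl roots cert.sgens table) 1024 := AllBelow.step orb15 64 Cfsg.Agent.CosetCertFi22OP0.orb16c

theorem orb17 : AllBelow (orbOk orbTbl roots cert.sgens table) 1088 := AllBelow.step orb16 64 Cfsg.Agent.CosetCertFi22OP0.orb17c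

theorem orb18 : AllBelow (orbOk orbTbl roots cert.sgens table) 1152 := AllBelow.step orb17 64 Cfsg.Agent.CosetCertFi22OP0.orb18c

theorem orb19 : AllBelow (orbOk orbTbl roots cert.sgens table) 1216 := AllBelow.step orb18 64 Cfsg.Agent.CosetCertFi22OP0.orb19c

theorem orb20 : AllBelow (orbOk orbTbl roots cert.sgens table) 1280 := AllBelow.step orb19 64 Cfsg.Agent.CosetCertFi22OP0.orb20c

theorem orb21 : AllBelow (orbOk orbTbl roots cert.sgens table) 1344 := AllBelow.step orb20 64 Cfsg.Agent.CosetCertFi22OP0.orb21c

theorem orb22 : AllBelow (orbOk orbTbl roots cert.sgens table) 1408 := AllBelow.step orb21 64 Cfsg.Agent.CosetCertFi22OP0.orb22c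

theorem orb23 : AllBelow (orbOk orbTbl roots cert.sgens table) 1472 := AllBelow.step orb22 64 Cfsg.Agent.CosetCertFi22OP0.orb23c

theorem orb24 : AllBelow (orbOk orbTbl roots cert.sgens table) 1536 := AllBelow.step orb23 64 Cfsg.Agent.CosetCertFi22OP0.orb24c

theorem orb25 : AllBelow (orbOk orbTbl roots cert.sgens table) 1600 := AllBelow.step orb24 64 Cfsg.Agent.CosetCertFi22OP0.orb25c

theorem orb26 : AllBelow (orbOk orbTbl roots cert.sgens table) 1664 := AllBelow.step orb25 64 Cfsg.Agent.CosetCertFi22OP0.orb26c

theorem orb27 : AllBelow (orbOk orbTbl roots cert.sgens table) 1728 := AllBelow.step orb26 64 Cfsg.Agent.CosetCertFi22OP0.orb27c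

theorem orb28 : AllBelow (orbOk orbTbl roots cert.sgens table) 1792 := AllBelow.step orb27 64 Cfsg.Agent.CosetCertFi22OP0.orb28c

theorem orb29 : AllBelow (orbOk orbTbl roots cert.sgens table) 1856 := AllBelow.step orb28 64 Cfsg.Agent.CosetCertFi22OP0.orb29c

theorem orb30 : AllBelow (orbOk orbTbl roots cert.sgens table) 1920 := AllBelow.step orb29 64 Cfsg.Agent.CosetCertFi22OP0.orb30c

theorem orb31 : AllBelow (orbOk orbTbl roots cert.sgens table) 1984 := AllBelow.step orb30 64 Cfsg.Agent.CosetCertFi22OP0.orb31c

theorem orb32 : AllBelow (orbOk orbTbl roots cert.sgens table) 2048 := AllBelow.step orb31 64 Cfsg.Agent.CosetCertFi22OP1.orb32c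

theorem orb33 : AllBelow (orbOk orbTbl roots cert.sgens table) 2112 := AllBelow.step orb32 64 Cfsg.Agent.CosetCertFi22OP1.orb33c

theorem orb34 : AllBelow (orbOk orbTbl roots cert.sgens table) 2176 := AllBelow.step orb33 64 Cfsg.Agent.CosetCertFi22OP1.orb34c

theorem orb35 : AllBelow (orbOk orbTbl roots cert.sgens table) 2240 := AllBelow.step orb34 64 Cfsg.Agent.CosetCertFi22OP1.orb35c

theorem orb36 : AllBelow (orbOk orbTbl roots cert.sgens table) 2304 := AllBelow.step orb35 64 Cfsg.Agent.CosetCertFi22OP1.orb36c

theorem orb37 : AllBelow (orbOk orbTbl roots cert.sgens table) 2368 := AllBelow.step orb36 64 Cfsg.Agent.CosetCertFi22OP1.orb37c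

theorem orb38 : AllBelow (orbOk orbTbl roots cert.sgens table) 2432 := AllBelow.step orb37 64 Cfsg.Agent.CosetCertFi22OP1.orb38c

theorem orb39 : AllBelow (orbOk orbTbl roots cert.sgens table) 2496 := AllBelow.step orb38 64 Cfsg.Agent.CosetCertFi22OP1.orb39c

theorem orb40 : AllBelow (orbOk orbTbl roots cert.sgens table) 2560 := AllBelow.step orb39 64 Cfsg.Agent.CosetCertFi22OP1.orb40c

theorem orb41 : AllBelow (orbOk orbTbl roots cert.sgens table) 2624 := AllBelow.step orb40 64 Cfsg.Agent.CosetCertFi22OP1.orb41c

theorem orb42 : AllBelow (orbOk orbTbl roots cert.sgens table) 2688 := AllBelow.step orb41 64 Cfsg.Agent.CosetCertFi22OP1.orb42c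

theorem orb43 : AllBelow (orbOk orbTbl roots cert.sgens table) 2752 := AllBelow.step orb42 64 Cfsg.Agent.CosetCertFi22OP1.orb43c

theorem orb44 : AllBelow (orbOk orbTbl roots cert.sgens table) 2816 := AllBelow.step orb43 64 Cfsg.Agent.CosetCertFi22OP1.orb44c

theorem orb45 : AllBelow (orbOk orbTbl roots cert.sgens table) 2880 := AllBelow.step orb44 64 Cfsg.Agent.CosetCertFi22OP1.orb45c

theorem orb46 : AllBelow (orbOk orbTbl roots cert.sgens table) 2944 := AllBelow.step orb45 64 Cfsg.Agent.CosetCertFi22OP1.orb46c

theorem orb47 : AllBelow (orbOk orbTbl roots cert.sgens table) 3008 := AllBelow.step orb46 64 Cfsg.Agent.CosetCertFi22OP1.orb47c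

theorem orb48 : AllBelow (orbOk orbTbl roots cert.sgens table) 3072 := AllBelow.step orb47 64 Cfsg.Agent.CosetCertFi22OP1.orb48c

theorem orb49 : AllBelow (orbOk orbTbl roots cert.sgens table) 3136 := AllBelow.step orb48 64 Cfsg.Agent.CosetCertFi22OP1.orb49c

theorem orb50 : AllBelow (orbOk orbTbl roots cert.sgens table) 3200 := AllBelow.step orb49 64 Cfsg.Agent.CosetCertFi22OP1.orb50c

theorem orb51 : AllBelow (orbOk orbTbl roots cert.sgens table) 3264 := AllBelow.step orb50 64 Cfsg.Agent.CosetCertFi22OP1.orb51c

theorem orb52 : AllBelow (orbOk orbTbl roots cert.sgens table) 3328 := AllBelow.step orb51 64 Cfsg.Agent.CosetCertFi22OP1.orb52c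

theorem orb53 : AllBelow (orbOk orbTbl roots cert.sgens table) 3392 := AllBelow.step orb52 64 Cfsg.Agent.CosetCertFi22OP1.orb53c

theorem orb54 : AllBelow (orbOk orbTbl roots cert.sgens table) 3456 := AllBelow.step orb53 64 Cfsg.Agent.CosetCertFi22OP1.orb54c

theorem orb55 : AllBelow (orbOk orbTbl roots cert.sgens table) 3520 := AllBelow.step orb54 64 Cfsg.Agent.CosetCertFi22OP1.orb55c

theorem orb56 : AllBelow (orbOk orbTbl roots cert.sgens table) 3584 := AllBelow.step orb55 64 Cfsg.Agent.CosetCertFi22OP1.orb56c

theorem orb57 : AllBelow (orbOk orbTbl roots cert.sgens table) 3648 := AllBelow.step orb56 64 Cfsg.Agent.CosetCertFi22OP1.orb57c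

theorem orb58 : AllBelow (orbOk orbTbl roots cert.sgens table) 3712 := AllBelow.step orb57 64 Cfsg.Agent.CosetCertFi22OP1.orb58c

theorem orb59 : AllBelow (orbOk orbTbl roots cert.sgens table) 3776 := AllBelow.step orb58 64 Cfsg.Agent.CosetCertFi22OP1.orb59c

theorem orb60 : AllBelow (orbOk orbTbl roots cert.sgens table) 3840 := AllBelow.step orb59 64 Cfsg.Agent.CosetCertFi22OP1.orb60c

theorem orb61 : AllBelow (orbOk orbTbl roots cert.sgens table) 3904 := AllBelow.step orb60 64 Cfsg.Agent.CosetCertFi22OP1.orb61c

theorem orb62 : AllBelow (orbOk orbTbl roots cert.sgens table) 3968 := AllBelow.step orb61 64 Cfsg.Agent.CosetCertFi22OP1.orb62c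

theorem orb63 : AllBelow (orbOk orbTbl roots cert.sgens table) 4032 := AllBelow.step orb62 64 Cfsg.Agent.CosetCertFi22OP2.orb63c

theorem orb64 : AllBelow (orbOk orbTbl roots cert.sgens table) 4096 := AllBelow.step orb63 64 Cfsg.Agent.CosetCertFi22OP2.orb64c

theorem orb65 : AllBelow (orbOk orbTbl roots cert.sgens table) 4160 := AllBelow.step orb64 64 Cfsg.Agent.CosetCertFi22OP2.orb65c

theorem orb66 : AllBelow (orbOk orbTbl roots cert.sgens table) 4224 := AllBelow.step orb65 64 Cfsg.Agent.CosetCertFi22OP2.orb66c

theorem orb67 : AllBelow (orbOk orbTbl roots cert.sgens table) 4288 := AllBelow.step orb66 64 Cfsg.Agent.CosetCertFi22OP2.orb67c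

theorem orb68 : AllBelow (orbOk orbTbl roots cert.sgens table) 4352 := AllBelow.step orb67 64 Cfsg.Agent.CosetCertFi22OP2.orb68c

theorem orb69 : AllBelow (orbOk orbTbl roots cert.sgens table) 4416 := AllBelow.step orb68 64 Cfsg.Agent.CosetCertFi22OP2.orb69c

theorem orb70 : AllBelow (orbOk orbTbl roots cert.sgens table) 4480 := AllBelow.step orb69 64 Cfsg.Agent.CosetCertFi22OP2.orb70c

theorem orb71 : AllBelow (orbOk orbTbl roots cert.sgens table) 4544 := AllBelow.step orb70 64 Cfsg.Agent.CosetCertFi22OP2.orb71c

theorem orb72 : AllBelow (orbOk orbTbl roots cert.sgens table) 4608 := AllBelow.step orb71 64 Cfsg.Agent.CosetCertFi22OP2.orb72c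

theorem orb73 : AllBelow (orbOk orbTbl roots cert.sgens table) 4672 := AllBelow.step orb72 64 Cfsg.Agent.CosetCertFi22OP2.orb73c

theorem orb74 : AllBelow (orbOk orbTbl roots cert.sgens table) 4736 := AllBelow.step orb73 64 Cfsg.Agent.CosetCertFi22OP2.orb74c

theorem orb75 : AllBelow (orbOk orbTbl roots cert.sgens table) 4800 := AllBelow.step orb74 64 Cfsg.Agent.CosetCertFi22OP2.orb75c

theorem orb76 : AllBelow (orbOk orbTbl roots cert.sgens table) 4864 := AllBelow.step orb75 64 Cfsg.Agent.CosetCertFi22OP2.orb76c

theorem orb77 : AllBelow (orbOk orbTbl roots cert.sgens table) 4928 := AllBelow.step orb76 64 Cfsg.Agent.CosetCertFi22OP2.orb77c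

theorem orb78 : AllBelow (orbOk orbTbl roots cert.sgens table) 4992 := AllBelow.step orb77 64 Cfsg.Agent.CosetCertFi22OP2.orb78c

theorem orb79 : AllBelow (orbOk orbTbl roots cert.sgens table) 5056 := AllBelow.step orb78 64 Cfsg.Agent.CosetCertFi22OP2.orb79c

theorem orb80 : AllBelow (orbOk orbTbl roots cert.sgens table) 5120 := AllBelow.step orb79 64 Cfsg.Agent.CosetCertFi22OP2.orb80c

theorem orb81 : AllBelow (orbOk orbTbl roots cert.sgens table) 5184 := AllBelow.step orb80 64 Cfsg.Agent.CosetCertFi22OP2.orb81c

theorem orb82 : AllBelow (orbOk orbTbl roots cert.sgens table) 5248 := AllBelow.step orb81 64 Cfsg.Agent.CosetCertFi22OP2.orb82c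

theorem orb83 : AllBelow (orbOk orbTbl roots cert.sgens table) 5312 := AllBelow.step orb82 64 Cfsg.Agent.CosetCertFi22OP2.orb83c

theorem orb84 : AllBelow (orbOk orbTbl roots cert.sgens table) 5376 := AllBelow.step orb83 64 Cfsg.Agent.CosetCertFi22OP2.orb84c

theorem orb85 : AllBelow (orbOk orbTbl roots cert.sgens table) 5440 := AllBelow.step orb84 64 Cfsg.Agent.CosetCertFi22OP2.orb85c

theorem orb86 : AllBelow (orbOk orbTbl roots cert.sgens table) 5504 := AllBelow.step orb85 64 Cfsg.Agent.CosetCertFi22OP2.orb86c

theorem orb87 : AllBelow (orbOk orbTbl roots cert.sgens table) 5568 := AllBelow.step orb86 64 Cfsg.Agent.CosetCertFi22OP2.orb87c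

theorem orb88 : AllBelow (orbOk orbTbl roots cert.sgens table) 5632 := AllBelow.step orb87 64 Cfsg.Agent.CosetCertFi22OP2.orb88c

theorem orb89 : AllBelow (orbOk orbTbl roots cert.sgens table) 5696 := AllBelow.step orb88 64 Cfsg.Agent.CosetCertFi22OP2.orb89c

theorem orb90 : AllBelow (orbOk orbTbl roots cert.sgens table) 5760 := AllBelow.step orb89 64 Cfsg.Agent.CosetCertFi22OP2.orb90c

theorem orb91 : AllBelow (orbOk orbTbl roots cert.sgens table) 5824 := AllBelow.step orb90 64 Cfsg.Agent.CosetCertFi22OP2.orb91c

theorem orb92 : AllBelow (orbOk orbTbl roots cert.sgens table) 5888 := AllBelow.step orb91 64 Cfsg.Agent.CosetCertFi22OP2.orb92c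

theorem orb93 : AllBelow (orbOk orbTbl roots cert.sgens table) 5952 := AllBelow.step orb92 64 Cfsg.Agent.CosetCertFi22OP2.orb93c

theorem orb94 : AllBelow (orbOk orbTbl roots cert.sgens table) 6016 := AllBelow.step orb93 64 Cfsg.Agent.CosetCertFi22OP3.orb94c

theorem orb95 : AllBelow (orbOk orbTbl roots cert.sgens table) 6080 := AllBelow.step orb94 64 Cfsg.Agent.CosetCertFi22OP3.orb95c

theorem orb96 : AllBelow (orbOk orbTbl roots cert.sgens table) 6144 := AllBelow.step orb95 64 Cfsg.Agent.CosetCertFi22OP3.orb96c

theorem orb97 : AllBelow (orbOk orbTbl roots cert.sgens table) 6208 := AllBelow.step orb96 64 Cfsg.Agent.CosetCertFi22OP3.orb97c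

theorem orb98 : AllBelow (orbOk orbTbl roots cert.sgens table) 6272 := AllBelow.step orb97 64 Cfsg.Agent.CosetCertFi22OP3.orb98c

theorem orb99 : AllBelow (orbOk orbTbl roots cert.sgens table) 6336 := AllBelow.step orb98 64 Cfsg.Agent.CosetCertFi22OP3.orb99c

theorem orb100 : AllBelow (orbOk orbTbl roots cert.sgens table) 6400 := AllBelow.step orb99 64 Cfsg.Agent.CosetCertFi22OP3.orb100c

theorem orb101 : AllBelow (orbOk orbTbl roots cert.sgens table) 6464 := AllBelow.step orb100 64 Cfsg.Agent.CosetCertFi22OP3.orb101c

theorem orb102 : AllBelow (orbOk orbTbl roots cert.sgens table) 6528 := AllBelow.step orb101 64 Cfsg.Agent.CosetCertFi22OP3.orb102c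

theorem orb103 : AllBelow (orbOk orbTbl roots cert.sgens table) 6592 := AllBelow.step orb102 64 Cfsg.Agent.CosetCertFi22OP3.orb103c

theorem orb104 : AllBelow (orbOk orbTbl roots cert.sgens table) 6656 := AllBelow.step orb103 64 Cfsg.Agent.CosetCertFi22OP3.orb104c

theorem orb105 : AllBelow (orbOk orbTbl roots cert.sgens table) 6720 := AllBelow.step orb104 64 Cfsg.Agent.CosetCertFi22OP3.orb105c

theorem orb106 : AllBelow (orbOk orbTbl roots cert.sgens table) 6784 := AllBelow.step orb105 64 Cfsg.Agent.CosetCertFi22OP3.orb106c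

theorem orb107 : AllBelow (orbOk orbTbl roots cert.sgens table) 6848 := AllBelow.step orb106 64 Cfsg.Agent.CosetCertFi22OP3.orb107c

theorem orb108 : AllBelow (orbOk orbTbl roots cert.sgens table) 6912 := AllBelow.step orb107 64 Cfsg.Agent.CosetCertFi22OP3.orb108c

theorem orb109 : AllBelow (orbOk orbTbl roots cert.sgens table) 6976 := AllBelow.step orb108 64 Cfsg.Agent.CosetCertFi22OP3.orb109c

theorem orb110 : AllBelow (orbOk orbTbl roots cert.sgens table) 7040 := AllBelow.step orb109 64 Cfsg.Agent.CosetCertFi22OP3.orb110c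

theorem orb111 : AllBelow (orbOk orbTbl roots cert.sgens table) 7104 := AllBelow.step orb110 64 Cfsg.Agent.CosetCertFi22OP3.orb111c

theorem orb112 : AllBelow (orbOk orbTbl roots cert.sgens table) 7168 := AllBelow.step orb111 64 Cfsg.Agent.CosetCertFi22OP3.orb112c

theorem orb113 : AllBelow (orbOk orbTbl roots cert.sgens table) 7232 := AllBelow.step orb112 64 Cfsg.Agent.CosetCertFi22OP3.orb113c

theorem orb114 : AllBelow (orbOk orbTbl roots cert.sgens table) 7296 := AllBelow.step orb113 64 Cfsg.Agent.CosetCertFi22OP3.orb114c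

theorem orb115 : AllBelow (orbOk orbTbl roots cert.sgens table) 7360 := AllBelow.step orb114 64 Cfsg.Agent.CosetCertFi22OP3.orb115c

theorem orb116 : AllBelow (orbOk orbTbl roots cert.sgens table) 7424 := AllBelow.step orb115 64 Cfsg.Agent.CosetCertFi22OP3.orb116c

theorem orb117 : AllBelow (orbOk orbTbl roots cert.sgens table) 7488 := AllBelow.step orb116 64 Cfsg.Agent.CosetCertFi22OP3.orb117c

theorem orb118 : AllBelow (orbOk orbTbl roots cert.sgens table) 7552 := AllBelow.step orb117 64 Cfsg.Agent.CosetCertFi22OP3.orb118c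

theorem orb119 : AllBelow (orbOk orbTbl roots cert.sgens table) 7616 := AllBelow.step orb118 64 Cfsg.Agent.CosetCertFi22OP3.orb119c

theorem orb120 : AllBelow (orbOk orbTbl roots cert.sgens table) 7680 := AllBelow.step orb119 64 Cfsg.Agent.CosetCertFi22OP3.orb120c

theorem orb121 : AllBelow (orbOk orbTbl roots cert.sgens table) 7744 := AllBelow.step orb120 64 Cfsg.Agent.CosetCertFi22OP3.orb121c

theorem orb122 : AllBelow (orbOk orbTbl roots cert.sgens table) 7808 := AllBelow.step orb121 64 Cfsg.Agent.CosetCertFi22OP3.orb122c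

theorem orb123 : AllBelow (orbOk orbTbl roots cert.sgens table) 7872 := AllBelow.step orb122 64 Cfsg.Agent.CosetCertFi22OP3.orb123c

theorem orb124 : AllBelow (orbOk orbTbl roots cert.sgens table) 7936 := AllBelow.step orb123 64 Cfsg.Agent.CosetCertFi22OP3.orb124c

theorem orb125 : AllBelow (orbOk orbTbl roots cert.sgens table) 8000 := AllBelow.step orb124 64 Cfsg.Agent.CosetCertFi22OP4.orb125c

theorem orb126 : AllBelow (orbOk orbTbl roots cert.sgens table) 8064 := AllBelow.step orb125 64 Cfsg.Agent.CosetCertFi22OP4.orb126c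

theorem orb127 : AllBelow (orbOk orbTbl roots cert.sgens table) 8128 := AllBelow.step orb126 64 Cfsg.Agent.CosetCertFi22OP4.orb127c

theorem orb128 : AllBelow (orbOk orbTbl roots cert.sgens table) 8192 := AllBelow.step orb127 64 Cfsg.Agent.CosetCertFi22OP4.orb128c

theorem orb129 : AllBelow (orbOk orbTbl roots cert.sgens table) 8256 := AllBelow.step orb128 64 Cfsg.Agent.CosetCertFi22OP4.orb129c

theorem orb130 : AllBelow (orbOk orbTbl roots cert.sgens table) 8320 := AllBelow.step orb129 64 Cfsg.Agent.CosetCertFi22OP4.orb130c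

theorem orb131 : AllBelow (orbOk orbTbl roots cert.sgens table) 8384 := AllBelow.step orb130 64 Cfsg.Agent.CosetCertFi22OP4.orb131c

theorem orb132 : AllBelow (orbOk orbTbl roots cert.sgens table) 8448 := AllBelow.step orb131 64 Cfsg.Agent.CosetCertFi22OP4.orb132c

theorem orb133 : AllBelow (orbOk orbTbl roots cert.sgens table) 8512 := AllBelow.step orb132 64 Cfsg.Agent.CosetCertFi22OP4.orb133c

theorem orb134 : AllBelow (orbOk orbTbl roots cert.sgens table) 8576 := AllBelow.step orb133 64 Cfsg.Agent.CosetCertFi22OP4.orb134c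

theorem orb135 : AllBelow (orbOk orbTbl roots cert.sgens table) 8640 := AllBelow.step orb134 64 Cfsg.Agent.CosetCertFi22OP4.orb135c

theorem orb136 : AllBelow (orbOk orbTbl roots cert.sgens table) 8704 := AllBelow.step orb135 64 Cfsg.Agent.CosetCertFi22OP4.orb136c

theorem orb137 : AllBelow (orbOk orbTbl roots cert.sgens table) 8768 := AllBelow.step orb136 64 Cfsg.Agent.CosetCertFi22OP4.orb137c

theorem orb138 : AllBelow (orbOk orbTbl roots cert.sgens table) 8832 := AllBelow.step orb137 64 Cfsg.Agent.CosetCertFi22OP4.orb138c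

theorem orb139 : AllBelow (orbOk orbTbl roots cert.sgens table) 8896 := AllBelow.step orb138 64 Cfsg.Agent.CosetCertFi22OP4.orb139c

theorem orb140 : AllBelow (orbOk orbTbl roots cert.sgens table) 8960 := AllBelow.step orb139 64 Cfsg.Agent.CosetCertFi22OP4.orb140c

theorem orb141 : AllBelow (orbOk orbTbl roots cert.sgens table) 9024 := AllBelow.step orb140 64 Cfsg.Agent.CosetCertFi22OP4.orb141c

theorem orb142 : AllBelow (orbOk orbTbl roots cert.sgens table) 9088 := AllBelow.step orb141 64 Cfsg.Agent.CosetCertFi22OP4.orb142c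

theorem orb143 : AllBelow (orbOk orbTbl roots cert.sgens table) 9152 := AllBelow.step orb142 64 Cfsg.Agent.CosetCertFi22OP4.orb143c

theorem orb144 : AllBelow (orbOk orbTbl roots cert.sgens table) 9216 := AllBelow.step orb143 64 Cfsg.Agent.CosetCertFi22OP4.orb144c

theorem orb145 : AllBelow (orbOk orbTbl roots cert.sgens table) 9280 := AllBelow.step orb144 64 Cfsg.Agent.CosetCertFi22OP4.orb145c

theorem orb146 : AllBelow (orbOk orbTbl roots cert.sgens table) 9344 := AllBelow.step orb145 64 Cfsg.Agent.CosetCertFi22OP4.orb146c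

theorem orb147 : AllBelow (orbOk orbTbl roots cert.sgens table) 9408 := AllBelow.step orb146 64 Cfsg.Agent.CosetCertFi22OP4.orb147c

theorem orb148 : AllBelow (orbOk orbTbl roots cert.sgens table) 9472 := AllBelow.step orb147 64 Cfsg.Agent.CosetCertFi22OP4.orb148c

theorem orb149 : AllBelow (orbOk orbTbl roots cert.sgens table) 9536 := AllBelow.step orb148 64 Cfsg.Agent.CosetCertFi22OP4.orb149c

theorem orb150 : AllBelow (orbOk orbTbl roots cert.sgens table) 9600 := AllBelow.step orb149 64 Cfsg.Agent.CosetCertFi22OP4.orb150c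

theorem orb151 : AllBelow (orbOk orbTbl roots cert.sgens table) 9664 := AllBelow.step orb150 64 Cfsg.Agent.CosetCertFi22OP4.orb151c

theorem orb152 : AllBelow (orbOk orbTbl roots cert.sgens table) 9728 := AllBelow.step orb151 64 Cfsg.Agent.CosetCertFi22OP4.orb152c

theorem orb153 : AllBelow (orbOk orbTbl roots cert.sgens table) 9792 := AllBelow.step orb152 64 Cfsg.Agent.CosetCertFi22OP4.orb153c

theorem orb154 : AllBelow (orbOk orbTbl roots cert.sgens table) 9856 := AllBelow.step orb153 64 Cfsg.Agent.CosetCertFi22OP4.orb154c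

theorem orb155 : AllBelow (orbOk orbTbl roots cert.sgens table) 9920 := AllBelow.step orb154 64 Cfsg.Agent.CosetCertFi22OP4.orb155c

theorem orb156 : AllBelow (orbOk orbTbl roots cert.sgens table) 9984 := AllBelow.step orb155 64 Cfsg.Agent.CosetCertFi22OP5.orb156c

theorem orb157 : AllBelow (orbOk orbTbl roots cert.sgens table) 10048 := AllBelow.step orb156 64 Cfsg.Agent.CosetCertFi22OP5.orb157c

theorem orb158 : AllBelow (orbOk orbTbl roots cert.sgens table) 10112 := AllBelow.step orb157 64 Cfsg.Agent.CosetCertFi22OP5.orb158c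

theorem orb159 : AllBelow (orbOk orbTbl roots cert.sgens table) 10176 := AllBelow.step orb158 64 Cfsg.Agent.CosetCertFi22OP5.orb159c

theorem orb160 : AllBelow (orbOk orbTbl roots cert.sgens table) 10240 := AllBelow.step orb159 64 Cfsg.Agent.CosetCertFi22OP5.orb160c

theorem orb161 : AllBelow (orbOk orbTbl roots cert.sgens table) 10304 := AllBelow.step orb160 64 Cfsg.Agent.CosetCertFi22OP5.orb161c

theorem orb162 : AllBelow (orbOk orbTbl roots cert.sgens table) 10368 := AllBelow.step orb161 64 Cfsg.Agent.CosetCertFi22OP5.orb162c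

theorem orb163 : AllBelow (orbOk orbTbl roots cert.sgens table) 10432 := AllBelow.step orb162 64 Cfsg.Agent.CosetCertFi22OP5.orb163c

theorem orb164 : AllBelow (orbOk orbTbl roots cert.sgens table) 10496 := AllBelow.step orb163 64 Cfsg.Agent.CosetCertFi22OP5.orb164c

theorem orb165 : AllBelow (orbOk orbTbl roots cert.sgens table) 10560 := AllBelow.step orb164 64 Cfsg.Agent.CosetCertFi22OP5.orb165c

theorem orb166 : AllBelow (orbOk orbTbl roots cert.sgens table) 10624 := AllBelow.step orb165 64 Cfsg.Agent.CosetCertFi22OP5.orb166c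

theorem orb167 : AllBelow (orbOk orbTbl roots cert.sgens table) 10688 := AllBelow.step orb166 64 Cfsg.Agent.CosetCertFi22OP5.orb167c

theorem orb168 : AllBelow (orbOk orbTbl roots cert.sgens table) 10752 := AllBelow.step orb167 64 Cfsg.Agent.CosetCertFi22OP5.orb168c

theorem orb169 : AllBelow (orbOk orbTbl roots cert.sgens table) 10816 := AllBelow.step orb168 64 Cfsg.Agent.CosetCertFi22OP5.orb169c

theorem orb170 : AllBelow (orbOk orbTbl roots cert.sgens table) 10880 := AllBelow.step orb169 64 Cfsg.Agent.CosetCertFi22OP5.orb170c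

theorem orb171 : AllBelow (orbOk orbTbl roots cert.sgens table) 10944 := AllBelow.step orb170 64 Cfsg.Agent.CosetCertFi22OP5.orb171c

theorem orb172 : AllBelow (orbOk orbTbl roots cert.sgens table) 11008 := AllBelow.step orb171 64 Cfsg.Agent.CosetCertFi22OP5.orb172c

theorem orb173 : AllBelow (orbOk orbTbl roots cert.sgens table) 11072 := AllBelow.step orb172 64 Cfsg.Agent.CosetCertFi22OP5.orb173c

theorem orb174 : AllBelow (orbOk orbTbl roots cert.sgens table) 11136 := AllBelow.step orb173 64 Cfsg.Agent.CosetCertFi22OP5.orb174c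

theorem orb175 : AllBelow (orbOk orbTbl roots cert.sgens table) 11200 := AllBelow.step orb174 64 Cfsg.Agent.CosetCertFi22OP5.orb175c

theorem orb176 : AllBelow (orbOk orbTbl roots cert.sgens table) 11264 := AllBelow.step orb175 64 Cfsg.Agent.CosetCertFi22OP5.orb176c

theorem orb177 : AllBelow (orbOk orbTbl roots cert.sgens table) 11328 := AllBelow.step orb176 64 Cfsg.Agent.CosetCertFi22OP5.orb177c

theorem orb178 : AllBelow (orbOk orbTbl roots cert.sgens table) 11392 := AllBelow.step orb177 64 Cfsg.Agent.CosetCertFi22OP5.orb178c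

theorem orb179 : AllBelow (orbOk orbTbl roots cert.sgens table) 11456 := AllBelow.step orb178 64 Cfsg.Agent.CosetCertFi22OP5.orb179c

theorem orb180 : AllBelow (orbOk orbTbl roots cert.sgens table) 11520 := AllBelow.step orb179 64 Cfsg.Agent.CosetCertFi22OP5.orb180c

theorem orb181 : AllBelow (orbOk orbTbl roots cert.sgens table) 11584 := AllBelow.step orb180 64 Cfsg.Agent.CosetCertFi22OP5.orb181c

theorem orb182 : AllBelow (orbOk orbTbl roots cert.sgens table) 11648 := AllBelow.step orb181 64 Cfsg.Agent.CosetCertFi22OP5.orb182c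

theorem orb183 : AllBelow (orbOk orbTbl roots cert.sgens table) 11712 := AllBelow.step orb182 64 Cfsg.Agent.CosetCertFi22OP5.orb183c

theorem orb184 : AllBelow (orbOk orbTbl roots cert.sgens table) 11776 := AllBelow.step orb183 64 Cfsg.Agent.CosetCertFi22OP5.orb184c

theorem orb185 : AllBelow (orbOk orbTbl roots cert.sgens table) 11840 := AllBelow.step orb184 64 Cfsg.Agent.CosetCertFi22OP5.orb185c

theorem orb186 : AllBelow (orbOk orbTbl roots cert.sgens table) 11904 := AllBelow.step orb185 64 Cfsg.Agent.CosetCertFi22OP5.orb186c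

theorem orb187 : AllBelow (orbOk orbTbl roots cert.sgens table) 11968 := AllBelow.step orb186 64 Cfsg.Agent.CosetCertFi22OP6.orb187c

theorem orb188 : AllBelow (orbOk orbTbl roots cert.sgens table) 12032 := AllBelow.step orb187 64 Cfsg.Agent.CosetCertFi22OP6.orb188c

theorem orb189 : AllBelow (orbOk orbTbl roots cert.sgens table) 12096 := AllBelow.step orb188 64 Cfsg.Agent.CosetCertFi22OP6.orb189c

theorem orb190 : AllBelow (orbOk orbTbl roots cert.sgens table) 12160 := AllBelow.step orb189 64 Cfsg.Agent.CosetCertFi22OP6.orb190c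

theorem orb191 : AllBelow (orbOk orbTbl roots cert.sgens table) 12224 := AllBelow.step orb190 64 Cfsg.Agent.CosetCertFi22OP6.orb191c

theorem orb192 : AllBelow (orbOk orbTbl roots cert.sgens table) 12288 := AllBelow.step orb191 64 Cfsg.Agent.CosetCertFi22OP6.orb192c

theorem orb193 : AllBelow (orbOk orbTbl roots cert.sgens table) 12352 := AllBelow.step orb192 64 Cfsg.Agent.CosetCertFi22OP6.orb193c

theorem orb194 : AllBelow (orbOk orbTbl roots cert.sgens table) 12416 := AllBelow.step orb193 64 Cfsg.Agent.CosetCertFi22OP6.orb194c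

theorem orb195 : AllBelow (orbOk orbTbl roots cert.sgens table) 12480 := AllBelow.step orb194 64 Cfsg.Agent.CosetCertFi22OP6.orb195c

theorem orb196 : AllBelow (orbOk orbTbl roots cert.sgens table) 12544 := AllBelow.step orb195 64 Cfsg.Agent.CosetCertFi22OP6.orb196c

theorem orb197 : AllBelow (orbOk orbTbl roots cert.sgens table) 12608 := AllBelow.step orb196 64 Cfsg.Agent.CosetCertFi22OP6.orb197c

theorem orb198 : AllBelow (orbOk orbTbl roots cert.sgens table) 12672 := AllBelow.step orb197 64 Cfsg.Agent.CosetCertFi22OP6.orb198c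

theorem orb199 : AllBelow (orbOk orbTbl roots cert.sgens table) 12736 := AllBelow.step orb198 64 Cfsg.Agent.CosetCertFi22OP6.orb199c

theorem orb200 : AllBelow (orbOk orbTbl roots cert.sgens table) 12800 := AllBelow.step orb199 64 Cfsg.Agent.CosetCertFi22OP6.orb200c

theorem orb201 : AllBelow (orbOk orbTbl roots cert.sgens table) 12864 := AllBelow.step orb200 64 Cfsg.Agent.CosetCertFi22OP6.orb201c

theorem orb202 : AllBelow (orbOk orbTbl roots cert.sgens table) 12928 := AllBelow.step orb201 64 Cfsg.Agent.CosetCertFi22OP6.orb202c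

theorem orb203 : AllBelow (orbOk orbTbl roots cert.sgens table) 12992 := AllBelow.step orb202 64 Cfsg.Agent.CosetCertFi22OP6.orb203c

theorem orb204 : AllBelow (orbOk orbTbl roots cert.sgens table) 13056 := AllBelow.step orb203 64 Cfsg.Agent.CosetCertFi22OP6.orb204c

theorem orb205 : AllBelow (orbOk orbTbl roots cert.sgens table) 13120 := AllBelow.step orb204 64 Cfsg.Agent.CosetCertFi22OP6.orb205c

theorem orb206 : AllBelow (orbOk orbTbl roots cert.sgens table) 13184 := AllBelow.step orb205 64 Cfsg.Agent.CosetCertFi22OP6.orb206c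

theorem orb207 : AllBelow (orbOk orbTbl roots cert.sgens table) 13248 := AllBelow.step orb206 64 Cfsg.Agent.CosetCertFi22OP6.orb207c

theorem orb208 : AllBelow (orbOk orbTbl roots cert.sgens table) 13312 := AllBelow.step orb207 64 Cfsg.Agent.CosetCertFi22OP6.orb208c

theorem orb209 : AllBelow (orbOk orbTbl roots cert.sgens table) 13376 := AllBelow.step orb208 64 Cfsg.Agent.CosetCertFi22OP6.orb209c

theorem orb210 : AllBelow (orbOk orbTbl roots cert.sgens table) 13440 := AllBelow.step orb209 64 Cfsg.Agent.CosetCertFi22OP6.orb210c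

theorem orb211 : AllBelow (orbOk orbTbl roots cert.sgens table) 13504 := AllBelow.step orb210 64 Cfsg.Agent.CosetCertFi22OP6.orb211c

theorem orb212 : AllBelow (orbOk orbTbl roots cert.sgens table) 13568 := AllBelow.step orb211 64 Cfsg.Agent.CosetCertFi22OP6.orb212c

theorem orb213 : AllBelow (orbOk orbTbl roots cert.sgens table) 13632 := AllBelow.step orb212 64 Cfsg.Agent.CosetCertFi22OP6.orb213c

theorem orb214 : AllBelow (orbOk orbTbl roots cert.sgens table) 13696 := AllBelow.step orb213 64 Cfsg.Agent.CosetCertFi22OP6.orb214c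

theorem orb215 : AllBelow (orbOk orbTbl roots cert.sgens table) 13760 := AllBelow.step orb214 64 Cfsg.Agent.CosetCertFi22OP6.orb215c

theorem orb216 : AllBelow (orbOk orbTbl roots cert.sgens table) 13824 := AllBelow.step orb215 64 Cfsg.Agent.CosetCertFi22OP6.orb216c

theorem orb217 : AllBelow (orbOk orbTbl roots cert.sgens table) 13888 := AllBelow.step orb216 64 Cfsg.Agent.CosetCertFi22OP6.orb217c

theorem orb218 : AllBelow (orbOk orbTbl roots cert.sgens table) 13952 := AllBelow.step orb217 64 Cfsg.Agent.CosetCertFi22OP7.orb218c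

theorem orb219 : AllBelow (orbOk orbTbl roots cert.sgens table) 14016 := AllBelow.step orb218 64 Cfsg.Agent.CosetCertFi22OP7.orb219c

theorem orb220 : AllBelow (orbOk orbTbl roots cert.sgens table) 14080 := AllBelow.step orb219 64 Cfsg.Agent.CosetCertFi22OP7.orb220c

theorem good : pres.Good where
  complete := fun a => by cases a <;> decide
  nodes := fun a => by cases a <;> decide
  symm := fun a b => by cases a <;> cases b <;> decide

theorem table_checked : Checked cert 74716 table where
  npos := by decide +kernel
  gpos := by decide +kernel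
  node0 := by decide +kernel
  points := points220
  rels := rels220
  sgens := by decide +kernel
  letters := by decide +kernel

/-- The enumeration. -/
theorem enumerated : Enumerated pres subgens cert 74716 table where
  good := good
  rels := by decide +kernel
  sgens := by decide +kernel
  ng := rfl
  table := table_checked
  facts := fun g base h => valid292 g base h

theorem orbits : AllBelow (orbOk orbTbl roots cert.sgens table) table.N := orb220

theorem count0 : countLabel orbTbl 0 14080 = 1 := by decide +kernel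

theorem count1 : countLabel orbTbl 1 14080 = 3159 := by decide +kernel

theorem count2 : countLabel orbTbl 2 14080 = 10920 := by decide +kernel

end Cfsg.Agent.CosetCertFi22O
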