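import Cfsg.Agent.Lib.CosetCertFi22QC0
import Cfsg.Agent.Lib.CosetCertFi22QP0

/-! Fi22 modulo one element collapses. -/

set_option autoImplicit false
set_option maxRecDepth 100000

namespace Cfsg.Agent.CosetCertFi22Q

open Cfsg.Agent.CosetCertCore Cfsg.Agent.CosetCertTable Cfsg.Agent.CosetCertOrder Cfsg.Agent.CosetCertFi22QData

/-- The facts hold up to `n`. -/
def Valid (n : Nat) : Prop :=
  ∀ {G X : Type} [Group G] [MulAction G X] (g : Nat → G) (base : X),
    Ctx g base cert → AllValid g (nodeVal g base cert) cert n

theorem Valid.step {lo n : Nat} (h : Valid lo) (L : List Nat)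
    (hn : (Nat.beq (lo + L.length) n && checkList cert L lo) = true) : Valid n := by
  rw [Bool.and_eq_true, Nat.beq_eq] at hn
  intro G X _ _ g base hC
  exact hn.1 ▸ checkList_sound g base hC L lo (h g base hC) hn.2

theorem valid0 : Valid 0 := fun _ _ _ _ h => absurd h (Nat.not_lt_zero _)

theorem valid1 : Valid 256 := valid0.step CosetCertFi22QC0.just0 CosetCertFi22QC0.check0

theorem valid2 : Valid 512 := valid1.step CosetCertFi22QC0.just1 CosetCertFi22QC0.check1

theorem valid3 : Valid 579 := valid2.step CosetCertFi22QC0.just2 CosetCertFi22QC0.check2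

theorem points0 : AllBelow (pointOk cert 579 table) 0 := AllBelow.zero _

theorem points1 : AllBelow (pointOk cert 579 table) 1 := AllBelow.step points0 1 CosetCertFi22QP0.points1c

/-- The table is closed. -/
theorem closed : Closed cert 579 table where
  npos := by decide +kernel
  node0 := by decide +kernel
  points := points1
  facts := fun g base h => valid3 g base h

end Cfsg.Agent.CosetCertFi22Q
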