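import Cfsg.Agent.Lib.CosetCertFi22S4C0
import Cfsg.Agent.Lib.CosetCertFi22S4P0

/-! Enumeration of 1 in defgh inside Fi22. -/

set_option autoImplicit false
set_option maxRecDepth 100000

namespace Cfsg.Agent.CosetCertFi22S4

open Cfsg.Agent.CosetCertCore Cfsg.Agent.CosetCertTable Cfsg.Agent.CosetCertOrder Cfsg.Agent.CosetCertFi22S4Data

/-- The facts hold up to `n`. -/
def Valid (n : Nat) : Prop :=
  ∀ {G X : Type} [Group G] [MulAction G X] (g : Nat → G) (base : X),
    Ctx g base cert → AllValid g (nodeVal g base cert) cert n

theorem Valid.step {lo n : Nat} (h : Valid lo) (L : List Nat)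
    (hn : (Nat.beq (lo + L.length) n && checkList cert L lo) = true) : Valid n := by
  rw [Bool.and_eq_true, Nat.beq_eq] at hn
  intro G X _ _ g base hC
  exact hn.1 ▸ checkList_sound g base hC L lo (h g base hC) hn.2

theorem valid0 : Valid 0 := fun _ _ _ _ h => absurd h (Nat.not_lt_zero _)

theorem valid1 : Valid 256 := valid0.step CosetCertFi22S4C0.just0 CosetCertFi22S4C0.check0

theorem valid2 : Valid 512 := valid1.step CosetCertFi22S4C0.just1 CosetCertFi22S4C0.check1

theorem valid3 : Valid 768 := valid2.step CosetCertFi22S4C0.just2 CosetCertFi22S4C0.check2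

theorem valid4 : Valid 1024 := valid3.step CosetCertFi22S4C0.just3 CosetCertFi22S4C0.check3

theorem valid5 : Valid 1280 := valid4.step CosetCertFi22S4C0.just4 CosetCertFi22S4C0.check4

theorem valid6 : Valid 1536 := valid5.step CosetCertFi22S4C0.just5 CosetCertFi22S4C0.check5

theorem valid7 : Valid 1792 := valid6.step CosetCertFi22S4C0.just6 CosetCertFi22S4C0.check6

theorem valid8 : Valid 1800 := valid7.step CosetCertFi22S4C0.just7 CosetCertFi22S4C0.check7

theorem points0 : AllBelow (pointOk cert 1800 table) 0 := AllBelow.zero _

theorem points1 : AllBelow (pointOk cert 1800 table) 128 := AllBelow.step points0 128 CosetCertFi22S4P0.points1c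

theorem points2 : AllBelow (pointOk cert 1800 table) 256 := AllBelow.step points1 128 CosetCertFi22S4P0.points2c

theorem points3 : AllBelow (pointOk cert 1800 table) 384 := AllBelow.step points2 128 CosetCertFi22S4P0.points3c

theorem points4 : AllBelow (pointOk cert 1800 table) 512 := AllBelow.step points3 128 CosetCertFi22S4P0.points4c

theorem points5 : AllBelow (pointOk cert 1800 table) 640 := AllBelow.step points4 128 CosetCertFi22S4P0.points5c

theorem points6 : AllBelow (pointOk cert 1800 table) 720 := AllBelow.step points5 80 CosetCertFi22S4P0.points6c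

/-- The table is closed. -/
theorem closed : Closed cert 1800 table where
  npos := by decide +kernel
  node0 := by decide +kernel
  points := points6
  facts := fun g base h => valid8 g base h

end Cfsg.Agent.CosetCertFi22S4
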