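import Cfsg.Agent.Lib.CosetCertFi22SgsData

/-! Checks of the strong generators of Fi22. -/

set_option autoImplicit false
set_option maxRecDepth 100000
set_option Elab.async false

namespace Cfsg.Agent.CosetCertFi22Sgs

open Cfsg.Agent.CosetCertCore Cfsg.Agent.CosetCertTable Cfsg.Agent.CosetCertPres Cfsg.Agent.CosetCertOrder
open Cfsg.Agent.CosetCertFi22UData Cfsg.Agent.CosetCertFi22SgsData

theorem words_ok : wordsOk elts table = true := by decide +kernel

theorem elt0_0 : AllBelow (eltOk elts table 0) 0 := AllBelow.zero _

theorem elt0_1 : AllBelow (eltOk elts table 0) 256 :=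
  AllBelow.step elt0_0 256 (by decide +kernel)

theorem elt0_2 : AllBelow (eltOk elts table 0) 512 :=
  AllBelow.step elt0_1 256 (by decide +kernel)

theorem elt0_3 : AllBelow (eltOk elts table 0) 768 :=
  AllBelow.step elt0_2 256 (by decide +kernel)

theorem elt0_4 : AllBelow (eltOk elts table 0) 1024 :=
  AllBelow.step elt0_3 256 (by decide +kernel)

theorem elt0_5 : AllBelow (eltOk elts table 0) 1280 :=
  AllBelow.step elt0_4 256 (by decide +kernel)

theorem elt0_6 : AllBelow (eltOk elts table 0) 1536 :=
  AllBelow.step elt0_5 256 (by decide +kernel)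

theorem elt0_7 : AllBelow (eltOk elts table 0) 1792 :=
  AllBelow.step elt0_6 256 (by decide +kernel)

theorem elt0_8 : AllBelow (eltOk elts table 0) 2048 :=
  AllBelow.step elt0_7 256 (by decide +kernel)

theorem elt0_9 : AllBelow (eltOk elts table 0) 2304 :=
  AllBelow.step elt0_8 256 (by decide +kernel)

theorem elt0_10 : AllBelow (eltOk elts table 0) 2560 :=
  AllBelow.step elt0_9 256 (by decide +kernel)

theorem elt0_11 : AllBelow (eltOk elts table 0) 2816 :=
  AllBelow.step elt0_10 256 (by decide +kernel)

theorem elt0_12 : AllBelow (eltOk elts table 0) 3072 :=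
  AllBelow.step elt0_11 256 (by decide +kernel)

theorem elt0_13 : AllBelow (eltOk elts table 0) 3328 :=
  AllBelow.step elt0_12 256 (by decide +kernel)

theorem elt0_14 : AllBelow (eltOk elts table 0) 3510 :=
  AllBelow.step elt0_13 182 (by decide +kernel)

theorem elt1_0 : AllBelow (eltOk elts table 1) 0 := AllBelow.zero _

theorem elt1_1 : AllBelow (eltOk elts table 1) 256 :=
  AllBelow.step elt1_0 256 (by decide +kernel)

theorem elt1_2 : AllBelow (eltOk elts table 1) 512 :=
  AllBelow.step elt1_1 256 (by decide +kernel)

theorem elt1_3 : AllBelow (eltOk elts table 1) 768 :=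
  AllBelow.step elt1_2 256 (by decide +kernel)

theorem elt1_4 : AllBelow (eltOk elts table 1) 1024 :=
  AllBelow.step elt1_3 256 (by decide +kernel)

theorem elt1_5 : AllBelow (eltOk elts table 1) 1280 :=
  AllBelow.step elt1_4 256 (by decide +kernel)

theorem elt1_6 : AllBelow (eltOk elts table 1) 1536 :=
  AllBelow.step elt1_5 256 (by decide +kernel)

theorem elt1_7 : AllBelow (eltOk elts table 1) 1792 :=
  AllBelow.step elt1_6 256 (by decide +kernel)

theorem elt1_8 : AllBelow (eltOk elts table 1) 2048 :=
  AllBelow.step elt1_7 256 (by decide +kernel)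

theorem elt1_9 : AllBelow (eltOk elts table 1) 2304 :=
  AllBelow.step elt1_8 256 (by decide +kernel)

theorem elt1_10 : AllBelow (eltOk elts table 1) 2560 :=
  AllBelow.step elt1_9 256 (by decide +kernel)

theorem elt1_11 : AllBelow (eltOk elts table 1) 2816 :=
  AllBelow.step elt1_10 256 (by decide +kernel)

theorem elt1_12 : AllBelow (eltOk elts table 1) 3072 :=
  AllBelow.step elt1_11 256 (by decide +kernel)

theorem elt1_13 : AllBelow (eltOk elts table 1) 3328 :=
  AllBelow.step elt1_12 256 (by decide +kernel)

theorem elt1_14 : AllBelow (eltOk elts table 1) 3510 :=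
  AllBelow.step elt1_13 182 (by decide +kernel)

theorem elt2_0 : AllBelow (eltOk elts table 2) 0 := AllBelow.zero _

theorem elt2_1 : AllBelow (eltOk elts table 2) 256 :=
  AllBelow.step elt2_0 256 (by decide +kernel)

theorem elt2_2 : AllBelow (eltOk elts table 2) 512 :=
  AllBelow.step elt2_1 256 (by decide +kernel)

theorem elt2_3 : AllBelow (eltOk elts table 2) 768 :=
  AllBelow.step elt2_2 256 (by decide +kernel)

theorem elt2_4 : AllBelow (eltOk elts table 2) 1024 :=
  AllBelow.step elt2_3 256 (by decide +kernel)

theorem elt2_5 : AllBelow (eltOk elts table 2) 1280 :=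
  AllBelow.step elt2_4 256 (by decide +kernel)

theorem elt2_6 : AllBelow (eltOk elts table 2) 1536 :=
  AllBelow.step elt2_5 256 (by decide +kernel)

theorem elt2_7 : AllBelow (eltOk elts table 2) 1792 :=
  AllBelow.step elt2_6 256 (by decide +kernel)

theorem elt2_8 : AllBelow (eltOk elts table 2) 2048 :=
  AllBelow.step elt2_7 256 (by decide +kernel)

theorem elt2_9 : AllBelow (eltOk elts table 2) 2304 :=
  AllBelow.step elt2_8 256 (by decide +kernel)

theorem elt2_10 : AllBelow (eltOk elts table 2) 2560 :=
  AllBelow.step elt2_9 256 (by decide +kernel)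

theorem elt2_11 : AllBelow (eltOk elts table 2) 2816 :=
  AllBelow.step elt2_10 256 (by decide +kernel)

theorem elt2_12 : AllBelow (eltOk elts table 2) 3072 :=
  AllBelow.step elt2_11 256 (by decide +kernel)

theorem elt2_13 : AllBelow (eltOk elts table 2) 3328 :=
  AllBelow.step elt2_12 256 (by decide +kernel)

theorem elt2_14 : AllBelow (eltOk elts table 2) 3510 :=
  AllBelow.step elt2_13 182 (by decide +kernel)

theorem elt3_0 : AllBelow (eltOk elts table 3) 0 := AllBelow.zero _

theorem elt3_1 : AllBelow (eltOk elts table 3) 256 :=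
  AllBelow.step elt3_0 256 (by decide +kernel)

theorem elt3_2 : AllBelow (eltOk elts table 3) 512 :=
  AllBelow.step elt3_1 256 (by decide +kernel)

theorem elt3_3 : AllBelow (eltOk elts table 3) 768 :=
  AllBelow.step elt3_2 256 (by decide +kernel)

theorem elt3_4 : AllBelow (eltOk elts table 3) 1024 :=
  AllBelow.step elt3_3 256 (by decide +kernel)

theorem elt3_5 : AllBelow (eltOk elts table 3) 1280 :=
  AllBelow.step elt3_4 256 (by decide +kernel)

theorem elt3_6 : AllBelow (eltOk elts table 3) 1536 :=
  AllBelow.step elt3_5 256 (by decide +kernel)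

theorem elt3_7 : AllBelow (eltOk elts table 3) 1792 :=
  AllBelow.step elt3_6 256 (by decide +kernel)

theorem elt3_8 : AllBelow (eltOk elts table 3) 2048 :=
  AllBelow.step elt3_7 256 (by decide +kernel)

theorem elt3_9 : AllBelow (eltOk elts table 3) 2304 :=
  AllBelow.step elt3_8 256 (by decide +kernel)

theorem elt3_10 : AllBelow (eltOk elts table 3) 2560 :=
  AllBelow.step elt3_9 256 (by decide +kernel)

theorem elt3_11 : AllBelow (eltOk elts table 3) 2816 :=
  AllBelow.step elt3_10 256 (by decide +kernel)

theorem elt3_12 : AllBelow (eltOk elts table 3) 3072 :=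
  AllBelow.step elt3_11 256 (by decide +kernel)

theorem elt3_13 : AllBelow (eltOk elts table 3) 3328 :=
  AllBelow.step elt3_12 256 (by decide +kernel)

theorem elt3_14 : AllBelow (eltOk elts table 3) 3510 :=
  AllBelow.step elt3_13 182 (by decide +kernel)

theorem elt4_0 : AllBelow (eltOk elts table 4) 0 := AllBelow.zero _

theorem elt4_1 : AllBelow (eltOk elts table 4) 256 :=
  AllBelow.step elt4_0 256 (by decide +kernel)

theorem elt4_2 : AllBelow (eltOk elts table 4) 512 :=
  AllBelow.step elt4_1 256 (by decide +kernel)

theorem elt4_3 : AllBelow (eltOk elts table 4) 768 :=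
  AllBelow.step elt4_2 256 (by decide +kernel)

theorem elt4_4 : AllBelow (eltOk elts table 4) 1024 :=
  AllBelow.step elt4_3 256 (by decide +kernel)

theorem elt4_5 : AllBelow (eltOk elts table 4) 1280 :=
  AllBelow.step elt4_4 256 (by decide +kernel)

theorem elt4_6 : AllBelow (eltOk elts table 4) 1536 :=
  AllBelow.step elt4_5 256 (by decide +kernel)

theorem elt4_7 : AllBelow (eltOk elts table 4) 1792 :=
  AllBelow.step elt4_6 256 (by decide +kernel)

theorem elt4_8 : AllBelow (eltOk elts table 4) 2048 :=
  AllBelow.step elt4_7 256 (by decide +kernel)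

theorem elt4_9 : AllBelow (eltOk elts table 4) 2304 :=
  AllBelow.step elt4_8 256 (by decide +kernel)

theorem elt4_10 : AllBelow (eltOk elts table 4) 2560 :=
  AllBelow.step elt4_9 256 (by decide +kernel)

theorem elt4_11 : AllBelow (eltOk elts table 4) 2816 :=
  AllBelow.step elt4_10 256 (by decide +kernel)

theorem elt4_12 : AllBelow (eltOk elts table 4) 3072 :=
  AllBelow.step elt4_11 256 (by decide +kernel)

theorem elt4_13 : AllBelow (eltOk elts table 4) 3328 :=
  AllBelow.step elt4_12 256 (by decide +kernel)

theorem elt4_14 : AllBelow (eltOk elts table 4) 3510 :=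
  AllBelow.step elt4_13 182 (by decide +kernel)

theorem elt5_0 : AllBelow (eltOk elts table 5) 0 := AllBelow.zero _

theorem elt5_1 : AllBelow (eltOk elts table 5) 256 :=
  AllBelow.step elt5_0 256 (by decide +kernel)

theorem elt5_2 : AllBelow (eltOk elts table 5) 512 :=
  AllBelow.step elt5_1 256 (by decide +kernel)

theorem elt5_3 : AllBelow (eltOk elts table 5) 768 :=
  AllBelow.step elt5_2 256 (by decide +kernel)

theorem elt5_4 : AllBelow (eltOk elts table 5) 1024 :=
  AllBelow.step elt5_3 256 (by decide +kernel)

theorem elt5_5 : AllBelow (eltOk elts table 5) 1280 :=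
  AllBelow.step elt5_4 256 (by decide +kernel)

theorem elt5_6 : AllBelow (eltOk elts table 5) 1536 :=
  AllBelow.step elt5_5 256 (by decide +kernel)

theorem elt5_7 : AllBelow (eltOk elts table 5) 1792 :=
  AllBelow.step elt5_6 256 (by decide +kernel)

theorem elt5_8 : AllBelow (eltOk elts table 5) 2048 :=
  AllBelow.step elt5_7 256 (by decide +kernel)

theorem elt5_9 : AllBelow (eltOk elts table 5) 2304 :=
  AllBelow.step elt5_8 256 (by decide +kernel)

theorem elt5_10 : AllBelow (eltOk elts table 5) 2560 :=
  AllBelow.step elt5_9 256 (by decide +kernel)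

theorem elt5_11 : AllBelow (eltOk elts table 5) 2816 :=
  AllBelow.step elt5_10 256 (by decide +kernel)

theorem elt5_12 : AllBelow (eltOk elts table 5) 3072 :=
  AllBelow.step elt5_11 256 (by decide +kernel)

theorem elt5_13 : AllBelow (eltOk elts table 5) 3328 :=
  AllBelow.step elt5_12 256 (by decide +kernel)

theorem elt5_14 : AllBelow (eltOk elts table 5) 3510 :=
  AllBelow.step elt5_13 182 (by decide +kernel)

theorem elt6_0 : AllBelow (eltOk elts table 6) 0 := AllBelow.zero _

theorem elt6_1 : AllBelow (eltOk elts table 6) 256 :=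
  AllBelow.step elt6_0 256 (by decide +kernel)

theorem elt6_2 : AllBelow (eltOk elts table 6) 512 :=
  AllBelow.step elt6_1 256 (by decide +kernel)

theorem elt6_3 : AllBelow (eltOk elts table 6) 768 :=
  AllBelow.step elt6_2 256 (by decide +kernel)

theorem elt6_4 : AllBelow (eltOk elts table 6) 1024 :=
  AllBelow.step elt6_3 256 (by decide +kernel)

theorem elt6_5 : AllBelow (eltOk elts table 6) 1280 :=
  AllBelow.step elt6_4 256 (by decide +kernel)

theorem elt6_6 : AllBelow (eltOk elts table 6) 1536 :=
  AllBelow.step elt6_5 256 (by decide +kernel)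

theorem elt6_7 : AllBelow (eltOk elts table 6) 1792 :=
  AllBelow.step elt6_6 256 (by decide +kernel)

theorem elt6_8 : AllBelow (eltOk elts table 6) 2048 :=
  AllBelow.step elt6_7 256 (by decide +kernel)

theorem elt6_9 : AllBelow (eltOk elts table 6) 2304 :=
  AllBelow.step elt6_8 256 (by decide +kernel)

theorem elt6_10 : AllBelow (eltOk elts table 6) 2560 :=
  AllBelow.step elt6_9 256 (by decide +kernel)

theorem elt6_11 : AllBelow (eltOk elts table 6) 2816 :=
  AllBelow.step elt6_10 256 (by decide +kernel)

theorem elt6_12 : AllBelow (eltOk elts table 6) 3072 :=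
  AllBelow.step elt6_11 256 (by decide +kernel)

theorem elt6_13 : AllBelow (eltOk elts table 6) 3328 :=
  AllBelow.step elt6_12 256 (by decide +kernel)

theorem elt6_14 : AllBelow (eltOk elts table 6) 3510 :=
  AllBelow.step elt6_13 182 (by decide +kernel)

theorem elt7_0 : AllBelow (eltOk elts table 7) 0 := AllBelow.zero _

theorem elt7_1 : AllBelow (eltOk elts table 7) 256 :=
  AllBelow.step elt7_0 256 (by decide +kernel)

theorem elt7_2 : AllBelow (eltOk elts table 7) 512 :=
  AllBelow.step elt7_1 256 (by decide +kernel)

theorem elt7_3 : AllBelow (eltOk elts table 7) 768 :=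
  AllBelow.step elt7_2 256 (by decide +kernel)

theorem elt7_4 : AllBelow (eltOk elts table 7) 1024 :=
  AllBelow.step elt7_3 256 (by decide +kernel)

theorem elt7_5 : AllBelow (eltOk elts table 7) 1280 :=
  AllBelow.step elt7_4 256 (by decide +kernel)

theorem elt7_6 : AllBelow (eltOk elts table 7) 1536 :=
  AllBelow.step elt7_5 256 (by decide +kernel)

theorem elt7_7 : AllBelow (eltOk elts table 7) 1792 :=
  AllBelow.step elt7_6 256 (by decide +kernel)

theorem elt7_8 : AllBelow (eltOk elts table 7) 2048 :=
  AllBelow.step elt7_7 256 (by decide +kernel)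

theorem elt7_9 : AllBelow (eltOk elts table 7) 2304 :=
  AllBelow.step elt7_8 256 (by decide +kernel)

theorem elt7_10 : AllBelow (eltOk elts table 7) 2560 :=
  AllBelow.step elt7_9 256 (by decide +kernel)

theorem elt7_11 : AllBelow (eltOk elts table 7) 2816 :=
  AllBelow.step elt7_10 256 (by decide +kernel)

theorem elt7_12 : AllBelow (eltOk elts table 7) 3072 :=
  AllBelow.step elt7_11 256 (by decide +kernel)

theorem elt7_13 : AllBelow (eltOk elts table 7) 3328 :=
  AllBelow.step elt7_12 256 (by decide +kernel)

theorem elt7_14 : AllBelow (eltOk elts table 7) 3510 :=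
  AllBelow.step elt7_13 182 (by decide +kernel)

theorem elt8_0 : AllBelow (eltOk elts table 8) 0 := AllBelow.zero _

theorem elt8_1 : AllBelow (eltOk elts table 8) 256 :=
  AllBelow.step elt8_0 256 (by decide +kernel)

theorem elt8_2 : AllBelow (eltOk elts table 8) 512 :=
  AllBelow.step elt8_1 256 (by decide +kernel)

theorem elt8_3 : AllBelow (eltOk elts table 8) 768 :=
  AllBelow.step elt8_2 256 (by decide +kernel)

theorem elt8_4 : AllBelow (eltOk elts table 8) 1024 :=
  AllBelow.step elt8_3 256 (by decide +kernel)

theorem elt8_5 : AllBelow (eltOk elts table 8) 1280 :=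
  AllBelow.step elt8_4 256 (by decide +kernel)

theorem elt8_6 : AllBelow (eltOk elts table 8) 1536 :=
  AllBelow.step elt8_5 256 (by decide +kernel)

theorem elt8_7 : AllBelow (eltOk elts table 8) 1792 :=
  AllBelow.step elt8_6 256 (by decide +kernel)

theorem elt8_8 : AllBelow (eltOk elts table 8) 2048 :=
  AllBelow.step elt8_7 256 (by decide +kernel)

theorem elt8_9 : AllBelow (eltOk elts table 8) 2304 :=
  AllBelow.step elt8_8 256 (by decide +kernel)

theorem elt8_10 : AllBelow (eltOk elts table 8) 2560 :=
  AllBelow.step elt8_9 256 (by decide +kernel)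

theorem elt8_11 : AllBelow (eltOk elts table 8) 2816 :=
  AllBelow.step elt8_10 256 (by decide +kernel)

theorem elt8_12 : AllBelow (eltOk elts table 8) 3072 :=
  AllBelow.step elt8_11 256 (by decide +kernel)

theorem elt8_13 : AllBelow (eltOk elts table 8) 3328 :=
  AllBelow.step elt8_12 256 (by decide +kernel)

theorem elt8_14 : AllBelow (eltOk elts table 8) 3510 :=
  AllBelow.step elt8_13 182 (by decide +kernel)

theorem elt9_0 : AllBelow (eltOk elts table 9) 0 := AllBelow.zero _

theorem elt9_1 : AllBelow (eltOk elts table 9) 256 :=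
  AllBelow.step elt9_0 256 (by decide +kernel)

theorem elt9_2 : AllBelow (eltOk elts table 9) 512 :=
  AllBelow.step elt9_1 256 (by decide +kernel)

theorem elt9_3 : AllBelow (eltOk elts table 9) 768 :=
  AllBelow.step elt9_2 256 (by decide +kernel)

theorem elt9_4 : AllBelow (eltOk elts table 9) 1024 :=
  AllBelow.step elt9_3 256 (by decide +kernel)

theorem elt9_5 : AllBelow (eltOk elts table 9) 1280 :=
  AllBelow.step elt9_4 256 (by decide +kernel)

theorem elt9_6 : AllBelow (eltOk elts table 9) 1536 :=
  AllBelow.step elt9_5 256 (by decide +kernel)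

theorem elt9_7 : AllBelow (eltOk elts table 9) 1792 :=
  AllBelow.step elt9_6 256 (by decide +kernel)

theorem elt9_8 : AllBelow (eltOk elts table 9) 2048 :=
  AllBelow.step elt9_7 256 (by decide +kernel)

theorem elt9_9 : AllBelow (eltOk elts table 9) 2304 :=
  AllBelow.step elt9_8 256 (by decide +kernel)

theorem elt9_10 : AllBelow (eltOk elts table 9) 2560 :=
  AllBelow.step elt9_9 256 (by decide +kernel)

theorem elt9_11 : AllBelow (eltOk elts table 9) 2816 :=
  AllBelow.step elt9_10 256 (by decide +kernel)

theorem elt9_12 : AllBelow (eltOk elts table 9) 3072 :=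
  AllBelow.step elt9_11 256 (by decide +kernel)

theorem elt9_13 : AllBelow (eltOk elts table 9) 3328 :=
  AllBelow.step elt9_12 256 (by decide +kernel)

theorem elt9_14 : AllBelow (eltOk elts table 9) 3510 :=
  AllBelow.step elt9_13 182 (by decide +kernel)

theorem elt10_0 : AllBelow (eltOk elts table 10) 0 := AllBelow.zero _

theorem elt10_1 : AllBelow (eltOk elts table 10) 256 :=
  AllBelow.step elt10_0 256 (by decide +kernel)

theorem elt10_2 : AllBelow (eltOk elts table 10) 512 :=
  AllBelow.step elt10_1 256 (by decide +kernel)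

theorem elt10_3 : AllBelow (eltOk elts table 10) 768 :=
  AllBelow.step elt10_2 256 (by decide +kernel)

theorem elt10_4 : AllBelow (eltOk elts table 10) 1024 :=
  AllBelow.step elt10_3 256 (by decide +kernel)

theorem elt10_5 : AllBelow (eltOk elts table 10) 1280 :=
  AllBelow.step elt10_4 256 (by decide +kernel)

theorem elt10_6 : AllBelow (eltOk elts table 10) 1536 :=
  AllBelow.step elt10_5 256 (by decide +kernel)

theorem elt10_7 : AllBelow (eltOk elts table 10) 1792 :=
  AllBelow.step elt10_6 256 (by decide +kernel)

theorem elt10_8 : AllBelow (eltOk elts table 10) 2048 :=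
  AllBelow.step elt10_7 256 (by decide +kernel)

theorem elt10_9 : AllBelow (eltOk elts table 10) 2304 :=
  AllBelow.step elt10_8 256 (by decide +kernel)

theorem elt10_10 : AllBelow (eltOk elts table 10) 2560 :=
  AllBelow.step elt10_9 256 (by decide +kernel)

theorem elt10_11 : AllBelow (eltOk elts table 10) 2816 :=
  AllBelow.step elt10_10 256 (by decide +kernel)

theorem elt10_12 : AllBelow (eltOk elts table 10) 3072 :=
  AllBelow.step elt10_11 256 (by decide +kernel)

theorem elt10_13 : AllBelow (eltOk elts table 10) 3328 :=
  AllBelow.step elt10_12 256 (by decide +kernel)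

theorem elt10_14 : AllBelow (eltOk elts table 10) 3510 :=
  AllBelow.step elt10_13 182 (by decide +kernel)

theorem elt11_0 : AllBelow (eltOk elts table 11) 0 := AllBelow.zero _

theorem elt11_1 : AllBelow (eltOk elts table 11) 256 :=
  AllBelow.step elt11_0 256 (by decide +kernel)

theorem elt11_2 : AllBelow (eltOk elts table 11) 512 :=
  AllBelow.step elt11_1 256 (by decide +kernel)

theorem elt11_3 : AllBelow (eltOk elts table 11) 768 :=
  AllBelow.step elt11_2 256 (by decide +kernel)

theorem elt11_4 : AllBelow (eltOk elts table 11) 1024 :=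
  AllBelow.step elt11_3 256 (by decide +kernel)

theorem elt11_5 : AllBelow (eltOk elts table 11) 1280 :=
  AllBelow.step elt11_4 256 (by decide +kernel)

theorem elt11_6 : AllBelow (eltOk elts table 11) 1536 :=
  AllBelow.step elt11_5 256 (by decide +kernel)

theorem elt11_7 : AllBelow (eltOk elts table 11) 1792 :=
  AllBelow.step elt11_6 256 (by decide +kernel)

theorem elt11_8 : AllBelow (eltOk elts table 11) 2048 :=
  AllBelow.step elt11_7 256 (by decide +kernel)

theorem elt11_9 : AllBelow (eltOk elts table 11) 2304 :=
  AllBelow.step elt11_8 256 (by decide +kernel)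

theorem elt11_10 : AllBelow (eltOk elts table 11) 2560 :=
  AllBelow.step elt11_9 256 (by decide +kernel)

theorem elt11_11 : AllBelow (eltOk elts table 11) 2816 :=
  AllBelow.step elt11_10 256 (by decide +kernel)

theorem elt11_12 : AllBelow (eltOk elts table 11) 3072 :=
  AllBelow.step elt11_11 256 (by decide +kernel)

theorem elt11_13 : AllBelow (eltOk elts table 11) 3328 :=
  AllBelow.step elt11_12 256 (by decide +kernel)

theorem elt11_14 : AllBelow (eltOk elts table 11) 3510 :=
  AllBelow.step elt11_13 182 (by decide +kernel)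

theorem elt12_0 : AllBelow (eltOk elts table 12) 0 := AllBelow.zero _

theorem elt12_1 : AllBelow (eltOk elts table 12) 256 :=
  AllBelow.step elt12_0 256 (by decide +kernel)

theorem elt12_2 : AllBelow (eltOk elts table 12) 512 :=
  AllBelow.step elt12_1 256 (by decide +kernel)

theorem elt12_3 : AllBelow (eltOk elts table 12) 768 :=
  AllBelow.step elt12_2 256 (by decide +kernel)

theorem elt12_4 : AllBelow (eltOk elts table 12) 1024 :=
  AllBelow.step elt12_3 256 (by decide +kernel)

theorem elt12_5 : AllBelow (eltOk elts table 12) 1280 :=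
  AllBelow.step elt12_4 256 (by decide +kernel)

theorem elt12_6 : AllBelow (eltOk elts table 12) 1536 :=
  AllBelow.step elt12_5 256 (by decide +kernel)

theorem elt12_7 : AllBelow (eltOk elts table 12) 1792 :=
  AllBelow.step elt12_6 256 (by decide +kernel)

theorem elt12_8 : AllBelow (eltOk elts table 12) 2048 :=
  AllBelow.step elt12_7 256 (by decide +kernel)

theorem elt12_9 : AllBelow (eltOk elts table 12) 2304 :=
  AllBelow.step elt12_8 256 (by decide +kernel)

theorem elt12_10 : AllBelow (eltOk elts table 12) 2560 :=
  AllBelow.step elt12_9 256 (by decide +kernel)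

theorem elt12_11 : AllBelow (eltOk elts table 12) 2816 :=
  AllBelow.step elt12_10 256 (by decide +kernel)

theorem elt12_12 : AllBelow (eltOk elts table 12) 3072 :=
  AllBelow.step elt12_11 256 (by decide +kernel)

theorem elt12_13 : AllBelow (eltOk elts table 12) 3328 :=
  AllBelow.step elt12_12 256 (by decide +kernel)

theorem elt12_14 : AllBelow (eltOk elts table 12) 3510 :=
  AllBelow.step elt12_13 182 (by decide +kernel)

theorem elt13_0 : AllBelow (eltOk elts table 13) 0 := AllBelow.zero _

theorem elt13_1 : AllBelow (eltOk elts table 13) 256 :=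
  AllBelow.step elt13_0 256 (by decide +kernel)

theorem elt13_2 : AllBelow (eltOk elts table 13) 512 :=
  AllBelow.step elt13_1 256 (by decide +kernel)

theorem elt13_3 : AllBelow (eltOk elts table 13) 768 :=
  AllBelow.step elt13_2 256 (by decide +kernel)

theorem elt13_4 : AllBelow (eltOk elts table 13) 1024 :=
  AllBelow.step elt13_3 256 (by decide +kernel)

theorem elt13_5 : AllBelow (eltOk elts table 13) 1280 :=
  AllBelow.step elt13_4 256 (by decide +kernel)

theorem elt13_6 : AllBelow (eltOk elts table 13) 1536 :=
  AllBelow.step elt13_5 256 (by decide +kernel)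

theorem elt13_7 : AllBelow (eltOk elts table 13) 1792 :=
  AllBelow.step elt13_6 256 (by decide +kernel)

theorem elt13_8 : AllBelow (eltOk elts table 13) 2048 :=
  AllBelow.step elt13_7 256 (by decide +kernel)

theorem elt13_9 : AllBelow (eltOk elts table 13) 2304 :=
  AllBelow.step elt13_8 256 (by decide +kernel)

theorem elt13_10 : AllBelow (eltOk elts table 13) 2560 :=
  AllBelow.step elt13_9 256 (by decide +kernel)

theorem elt13_11 : AllBelow (eltOk elts table 13) 2816 :=
  AllBelow.step elt13_10 256 (by decide +kernel)

theorem elt13_12 : AllBelow (eltOk elts table 13) 3072 :=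
  AllBelow.step elt13_11 256 (by decide +kernel)

theorem elt13_13 : AllBelow (eltOk elts table 13) 3328 :=
  AllBelow.step elt13_12 256 (by decide +kernel)

theorem elt13_14 : AllBelow (eltOk elts table 13) 3510 :=
  AllBelow.step elt13_13 182 (by decide +kernel)

theorem elt14_0 : AllBelow (eltOk elts table 14) 0 := AllBelow.zero _

theorem elt14_1 : AllBelow (eltOk elts table 14) 256 :=
  AllBelow.step elt14_0 256 (by decide +kernel)

theorem elt14_2 : AllBelow (eltOk elts table 14) 512 :=
  AllBelow.step elt14_1 256 (by decide +kernel)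

theorem elt14_3 : AllBelow (eltOk elts table 14) 768 :=
  AllBelow.step elt14_2 256 (by decide +kernel)

theorem elt14_4 : AllBelow (eltOk elts table 14) 1024 :=
  AllBelow.step elt14_3 256 (by decide +kernel)

theorem elt14_5 : AllBelow (eltOk elts table 14) 1280 :=
  AllBelow.step elt14_4 256 (by decide +kernel)

theorem elt14_6 : AllBelow (eltOk elts table 14) 1536 :=
  AllBelow.step elt14_5 256 (by decide +kernel)

theorem elt14_7 : AllBelow (eltOk elts table 14) 1792 :=
  AllBelow.step elt14_6 256 (by decide +kernel)

theorem elt14_8 : AllBelow (eltOk elts table 14) 2048 :=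
  AllBelow.step elt14_7 256 (by decide +kernel)

theorem elt14_9 : AllBelow (eltOk elts table 14) 2304 :=
  AllBelow.step elt14_8 256 (by decide +kernel)

theorem elt14_10 : AllBelow (eltOk elts table 14) 2560 :=
  AllBelow.step elt14_9 256 (by decide +kernel)

theorem elt14_11 : AllBelow (eltOk elts table 14) 2816 :=
  AllBelow.step elt14_10 256 (by decide +kernel)

theorem elt14_12 : AllBelow (eltOk elts table 14) 3072 :=
  AllBelow.step elt14_11 256 (by decide +kernel)

theorem elt14_13 : AllBelow (eltOk elts table 14) 3328 :=
  AllBelow.step elt14_12 256 (by decide +kernel)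

theorem elt14_14 : AllBelow (eltOk elts table 14) 3510 :=
  AllBelow.step elt14_13 182 (by decide +kernel)

theorem elt15_0 : AllBelow (eltOk elts table 15) 0 := AllBelow.zero _

theorem elt15_1 : AllBelow (eltOk elts table 15) 256 :=
  AllBelow.step elt15_0 256 (by decide +kernel)

theorem elt15_2 : AllBelow (eltOk elts table 15) 512 :=
  AllBelow.step elt15_1 256 (by decide +kernel)

theorem elt15_3 : AllBelow (eltOk elts table 15) 768 :=
  AllBelow.step elt15_2 256 (by decide +kernel)

theorem elt15_4 : AllBelow (eltOk elts table 15) 1024 :=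
  AllBelow.step elt15_3 256 (by decide +kernel)

theorem elt15_5 : AllBelow (eltOk elts table 15) 1280 :=
  AllBelow.step elt15_4 256 (by decide +kernel)

theorem elt15_6 : AllBelow (eltOk elts table 15) 1536 :=
  AllBelow.step elt15_5 256 (by decide +kernel)

theorem elt15_7 : AllBelow (eltOk elts table 15) 1792 :=
  AllBelow.step elt15_6 256 (by decide +kernel)

theorem elt15_8 : AllBelow (eltOk elts table 15) 2048 :=
  AllBelow.step elt15_7 256 (by decide +kernel)

theorem elt15_9 : AllBelow (eltOk elts table 15) 2304 :=
  AllBelow.step elt15_8 256 (by decide +kernel)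

theorem elt15_10 : AllBelow (eltOk elts table 15) 2560 :=
  AllBelow.step elt15_9 256 (by decide +kernel)

theorem elt15_11 : AllBelow (eltOk elts table 15) 2816 :=
  AllBelow.step elt15_10 256 (by decide +kernel)

theorem elt15_12 : AllBelow (eltOk elts table 15) 3072 :=
  AllBelow.step elt15_11 256 (by decide +kernel)

theorem elt15_13 : AllBelow (eltOk elts table 15) 3328 :=
  AllBelow.step elt15_12 256 (by decide +kernel)

theorem elt15_14 : AllBelow (eltOk elts table 15) 3510 :=
  AllBelow.step elt15_13 182 (by decide +kernel)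

theorem elt16_0 : AllBelow (eltOk elts table 16) 0 := AllBelow.zero _

theorem elt16_1 : AllBelow (eltOk elts table 16) 256 :=
  AllBelow.step elt16_0 256 (by decide +kernel)

theorem elt16_2 : AllBelow (eltOk elts table 16) 512 :=
  AllBelow.step elt16_1 256 (by decide +kernel)

theorem elt16_3 : AllBelow (eltOk elts table 16) 768 :=
  AllBelow.step elt16_2 256 (by decide +kernel)

theorem elt16_4 : AllBelow (eltOk elts table 16) 1024 :=
  AllBelow.step elt16_3 256 (by decide +kernel)

theorem elt16_5 : AllBelow (eltOk elts table 16) 1280 :=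
  AllBelow.step elt16_4 256 (by decide +kernel)

theorem elt16_6 : AllBelow (eltOk elts table 16) 1536 :=
  AllBelow.step elt16_5 256 (by decide +kernel)

theorem elt16_7 : AllBelow (eltOk elts table 16) 1792 :=
  AllBelow.step elt16_6 256 (by decide +kernel)

theorem elt16_8 : AllBelow (eltOk elts table 16) 2048 :=
  AllBelow.step elt16_7 256 (by decide +kernel)

theorem elt16_9 : AllBelow (eltOk elts table 16) 2304 :=
  AllBelow.step elt16_8 256 (by decide +kernel)

theorem elt16_10 : AllBelow (eltOk elts table 16) 2560 :=
  AllBelow.step elt16_9 256 (by decide +kernel)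

theorem elt16_11 : AllBelow (eltOk elts table 16) 2816 :=
  AllBelow.step elt16_10 256 (by decide +kernel)

theorem elt16_12 : AllBelow (eltOk elts table 16) 3072 :=
  AllBelow.step elt16_11 256 (by decide +kernel)

theorem elt16_13 : AllBelow (eltOk elts table 16) 3328 :=
  AllBelow.step elt16_12 256 (by decide +kernel)

theorem elt16_14 : AllBelow (eltOk elts table 16) 3510 :=
  AllBelow.step elt16_13 182 (by decide +kernel)

theorem elt17_0 : AllBelow (eltOk elts table 17) 0 := AllBelow.zero _

theorem elt17_1 : AllBelow (eltOk elts table 17) 256 :=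
  AllBelow.step elt17_0 256 (by decide +kernel)

theorem elt17_2 : AllBelow (eltOk elts table 17) 512 :=
  AllBelow.step elt17_1 256 (by decide +kernel)

theorem elt17_3 : AllBelow (eltOk elts table 17) 768 :=
  AllBelow.step elt17_2 256 (by decide +kernel)

theorem elt17_4 : AllBelow (eltOk elts table 17) 1024 :=
  AllBelow.step elt17_3 256 (by decide +kernel)

theorem elt17_5 : AllBelow (eltOk elts table 17) 1280 :=
  AllBelow.step elt17_4 256 (by decide +kernel)

theorem elt17_6 : AllBelow (eltOk elts table 17) 1536 :=
  AllBelow.step elt17_5 256 (by decide +kernel)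

theorem elt17_7 : AllBelow (eltOk elts table 17) 1792 :=
  AllBelow.step elt17_6 256 (by decide +kernel)

theorem elt17_8 : AllBelow (eltOk elts table 17) 2048 :=
  AllBelow.step elt17_7 256 (by decide +kernel)

theorem elt17_9 : AllBelow (eltOk elts table 17) 2304 :=
  AllBelow.step elt17_8 256 (by decide +kernel)

theorem elt17_10 : AllBelow (eltOk elts table 17) 2560 :=
  AllBelow.step elt17_9 256 (by decide +kernel)

theorem elt17_11 : AllBelow (eltOk elts table 17) 2816 :=
  AllBelow.step elt17_10 256 (by decide +kernel)

theorem elt17_12 : AllBelow (eltOk elts table 17) 3072 :=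
  AllBelow.step elt17_11 256 (by decide +kernel)

theorem elt17_13 : AllBelow (eltOk elts table 17) 3328 :=
  AllBelow.step elt17_12 256 (by decide +kernel)

theorem elt17_14 : AllBelow (eltOk elts table 17) 3510 :=
  AllBelow.step elt17_13 182 (by decide +kernel)

theorem elt18_0 : AllBelow (eltOk elts table 18) 0 := AllBelow.zero _

theorem elt18_1 : AllBelow (eltOk elts table 18) 256 :=
  AllBelow.step elt18_0 256 (by decide +kernel)

theorem elt18_2 : AllBelow (eltOk elts table 18) 512 :=
  AllBelow.step elt18_1 256 (by decide +kernel)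

theorem elt18_3 : AllBelow (eltOk elts table 18) 768 :=
  AllBelow.step elt18_2 256 (by decide +kernel)

theorem elt18_4 : AllBelow (eltOk elts table 18) 1024 :=
  AllBelow.step elt18_3 256 (by decide +kernel)

theorem elt18_5 : AllBelow (eltOk elts table 18) 1280 :=
  AllBelow.step elt18_4 256 (by decide +kernel)

theorem elt18_6 : AllBelow (eltOk elts table 18) 1536 :=
  AllBelow.step elt18_5 256 (by decide +kernel)

theorem elt18_7 : AllBelow (eltOk elts table 18) 1792 :=
  AllBelow.step elt18_6 256 (by decide +kernel)

theorem elt18_8 : AllBelow (eltOk elts table 18) 2048 :=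
  AllBelow.step elt18_7 256 (by decide +kernel)

theorem elt18_9 : AllBelow (eltOk elts table 18) 2304 :=
  AllBelow.step elt18_8 256 (by decide +kernel)

theorem elt18_10 : AllBelow (eltOk elts table 18) 2560 :=
  AllBelow.step elt18_9 256 (by decide +kernel)

theorem elt18_11 : AllBelow (eltOk elts table 18) 2816 :=
  AllBelow.step elt18_10 256 (by decide +kernel)

theorem elt18_12 : AllBelow (eltOk elts table 18) 3072 :=
  AllBelow.step elt18_11 256 (by decide +kernel)

theorem elt18_13 : AllBelow (eltOk elts table 18) 3328 :=
  AllBelow.step elt18_12 256 (by decide +kernel)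

theorem elt18_14 : AllBelow (eltOk elts table 18) 3510 :=
  AllBelow.step elt18_13 182 (by decide +kernel)

theorem elt19_0 : AllBelow (eltOk elts table 19) 0 := AllBelow.zero _

theorem elt19_1 : AllBelow (eltOk elts table 19) 256 :=
  AllBelow.step elt19_0 256 (by decide +kernel)

theorem elt19_2 : AllBelow (eltOk elts table 19) 512 :=
  AllBelow.step elt19_1 256 (by decide +kernel)

theorem elt19_3 : AllBelow (eltOk elts table 19) 768 :=
  AllBelow.step elt19_2 256 (by decide +kernel)

theorem elt19_4 : AllBelow (eltOk elts table 19) 1024 :=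
  AllBelow.step elt19_3 256 (by decide +kernel)

theorem elt19_5 : AllBelow (eltOk elts table 19) 1280 :=
  AllBelow.step elt19_4 256 (by decide +kernel)

theorem elt19_6 : AllBelow (eltOk elts table 19) 1536 :=
  AllBelow.step elt19_5 256 (by decide +kernel)

theorem elt19_7 : AllBelow (eltOk elts table 19) 1792 :=
  AllBelow.step elt19_6 256 (by decide +kernel)

theorem elt19_8 : AllBelow (eltOk elts table 19) 2048 :=
  AllBelow.step elt19_7 256 (by decide +kernel)

theorem elt19_9 : AllBelow (eltOk elts table 19) 2304 :=
  AllBelow.step elt19_8 256 (by decide +kernel)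

theorem elt19_10 : AllBelow (eltOk elts table 19) 2560 :=
  AllBelow.step elt19_9 256 (by decide +kernel)

theorem elt19_11 : AllBelow (eltOk elts table 19) 2816 :=
  AllBelow.step elt19_10 256 (by decide +kernel)

theorem elt19_12 : AllBelow (eltOk elts table 19) 3072 :=
  AllBelow.step elt19_11 256 (by decide +kernel)

theorem elt19_13 : AllBelow (eltOk elts table 19) 3328 :=
  AllBelow.step elt19_12 256 (by decide +kernel)

theorem elt19_14 : AllBelow (eltOk elts table 19) 3510 :=
  AllBelow.step elt19_13 182 (by decide +kernel)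

theorem elt20_0 : AllBelow (eltOk elts table 20) 0 := AllBelow.zero _

theorem elt20_1 : AllBelow (eltOk elts table 20) 256 :=
  AllBelow.step elt20_0 256 (by decide +kernel)

theorem elt20_2 : AllBelow (eltOk elts table 20) 512 :=
  AllBelow.step elt20_1 256 (by decide +kernel)

theorem elt20_3 : AllBelow (eltOk elts table 20) 768 :=
  AllBelow.step elt20_2 256 (by decide +kernel)

theorem elt20_4 : AllBelow (eltOk elts table 20) 1024 :=
  AllBelow.step elt20_3 256 (by decide +kernel)

theorem elt20_5 : AllBelow (eltOk elts table 20) 1280 :=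
  AllBelow.step elt20_4 256 (by decide +kernel)

theorem elt20_6 : AllBelow (eltOk elts table 20) 1536 :=
  AllBelow.step elt20_5 256 (by decide +kernel)

theorem elt20_7 : AllBelow (eltOk elts table 20) 1792 :=
  AllBelow.step elt20_6 256 (by decide +kernel)

theorem elt20_8 : AllBelow (eltOk elts table 20) 2048 :=
  AllBelow.step elt20_7 256 (by decide +kernel)

theorem elt20_9 : AllBelow (eltOk elts table 20) 2304 :=
  AllBelow.step elt20_8 256 (by decide +kernel)

theorem elt20_10 : AllBelow (eltOk elts table 20) 2560 :=
  AllBelow.step elt20_9 256 (by decide +kernel)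

theorem elt20_11 : AllBelow (eltOk elts table 20) 2816 :=
  AllBelow.step elt20_10 256 (by decide +kernel)

theorem elt20_12 : AllBelow (eltOk elts table 20) 3072 :=
  AllBelow.step elt20_11 256 (by decide +kernel)

theorem elt20_13 : AllBelow (eltOk elts table 20) 3328 :=
  AllBelow.step elt20_12 256 (by decide +kernel)

theorem elt20_14 : AllBelow (eltOk elts table 20) 3510 :=
  AllBelow.step elt20_13 182 (by decide +kernel)

theorem elt21_0 : AllBelow (eltOk elts table 21) 0 := AllBelow.zero _

theorem elt21_1 : AllBelow (eltOk elts table 21) 256 :=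
  AllBelow.step elt21_0 256 (by decide +kernel)

theorem elt21_2 : AllBelow (eltOk elts table 21) 512 :=
  AllBelow.step elt21_1 256 (by decide +kernel)

theorem elt21_3 : AllBelow (eltOk elts table 21) 768 :=
  AllBelow.step elt21_2 256 (by decide +kernel)

theorem elt21_4 : AllBelow (eltOk elts table 21) 1024 :=
  AllBelow.step elt21_3 256 (by decide +kernel)

theorem elt21_5 : AllBelow (eltOk elts table 21) 1280 :=
  AllBelow.step elt21_4 256 (by decide +kernel)

theorem elt21_6 : AllBelow (eltOk elts table 21) 1536 :=
  AllBelow.step elt21_5 256 (by decide +kernel)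

theorem elt21_7 : AllBelow (eltOk elts table 21) 1792 :=
  AllBelow.step elt21_6 256 (by decide +kernel)

theorem elt21_8 : AllBelow (eltOk elts table 21) 2048 :=
  AllBelow.step elt21_7 256 (by decide +kernel)

theorem elt21_9 : AllBelow (eltOk elts table 21) 2304 :=
  AllBelow.step elt21_8 256 (by decide +kernel)

theorem elt21_10 : AllBelow (eltOk elts table 21) 2560 :=
  AllBelow.step elt21_9 256 (by decide +kernel)

theorem elt21_11 : AllBelow (eltOk elts table 21) 2816 :=
  AllBelow.step elt21_10 256 (by decide +kernel)

theorem elt21_12 : AllBelow (eltOk elts table 21) 3072 :=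
  AllBelow.step elt21_11 256 (by decide +kernel)

theorem elt21_13 : AllBelow (eltOk elts table 21) 3328 :=
  AllBelow.step elt21_12 256 (by decide +kernel)

theorem elt21_14 : AllBelow (eltOk elts table 21) 3510 :=
  AllBelow.step elt21_13 182 (by decide +kernel)

theorem elt22_0 : AllBelow (eltOk elts table 22) 0 := AllBelow.zero _

theorem elt22_1 : AllBelow (eltOk elts table 22) 256 :=
  AllBelow.step elt22_0 256 (by decide +kernel)

theorem elt22_2 : AllBelow (eltOk elts table 22) 512 :=
  AllBelow.step elt22_1 256 (by decide +kernel)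

theorem elt22_3 : AllBelow (eltOk elts table 22) 768 :=
  AllBelow.step elt22_2 256 (by decide +kernel)

theorem elt22_4 : AllBelow (eltOk elts table 22) 1024 :=
  AllBelow.step elt22_3 256 (by decide +kernel)

theorem elt22_5 : AllBelow (eltOk elts table 22) 1280 :=
  AllBelow.step elt22_4 256 (by decide +kernel)

theorem elt22_6 : AllBelow (eltOk elts table 22) 1536 :=
  AllBelow.step elt22_5 256 (by decide +kernel)

theorem elt22_7 : AllBelow (eltOk elts table 22) 1792 :=
  AllBelow.step elt22_6 256 (by decide +kernel)

theorem elt22_8 : AllBelow (eltOk elts table 22) 2048 :=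
  AllBelow.step elt22_7 256 (by decide +kernel)

theorem elt22_9 : AllBelow (eltOk elts table 22) 2304 :=
  AllBelow.step elt22_8 256 (by decide +kernel)

theorem elt22_10 : AllBelow (eltOk elts table 22) 2560 :=
  AllBelow.step elt22_9 256 (by decide +kernel)

theorem elt22_11 : AllBelow (eltOk elts table 22) 2816 :=
  AllBelow.step elt22_10 256 (by decide +kernel)

theorem elt22_12 : AllBelow (eltOk elts table 22) 3072 :=
  AllBelow.step elt22_11 256 (by decide +kernel)

theorem elt22_13 : AllBelow (eltOk elts table 22) 3328 :=
  AllBelow.step elt22_12 256 (by decide +kernel)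

theorem elt22_14 : AllBelow (eltOk elts table 22) 3510 :=
  AllBelow.step elt22_13 182 (by decide +kernel)

theorem elt23_0 : AllBelow (eltOk elts table 23) 0 := AllBelow.zero _

theorem elt23_1 : AllBelow (eltOk elts table 23) 256 :=
  AllBelow.step elt23_0 256 (by decide +kernel)

theorem elt23_2 : AllBelow (eltOk elts table 23) 512 :=
  AllBelow.step elt23_1 256 (by decide +kernel)

theorem elt23_3 : AllBelow (eltOk elts table 23) 768 :=
  AllBelow.step elt23_2 256 (by decide +kernel)

theorem elt23_4 : AllBelow (eltOk elts table 23) 1024 :=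
  AllBelow.step elt23_3 256 (by decide +kernel)

theorem elt23_5 : AllBelow (eltOk elts table 23) 1280 :=
  AllBelow.step elt23_4 256 (by decide +kernel)

theorem elt23_6 : AllBelow (eltOk elts table 23) 1536 :=
  AllBelow.step elt23_5 256 (by decide +kernel)

theorem elt23_7 : AllBelow (eltOk elts table 23) 1792 :=
  AllBelow.step elt23_6 256 (by decide +kernel)

theorem elt23_8 : AllBelow (eltOk elts table 23) 2048 :=
  AllBelow.step elt23_7 256 (by decide +kernel)

theorem elt23_9 : AllBelow (eltOk elts table 23) 2304 :=
  AllBelow.step elt23_8 256 (by decide +kernel)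

theorem elt23_10 : AllBelow (eltOk elts table 23) 2560 :=
  AllBelow.step elt23_9 256 (by decide +kernel)

theorem elt23_11 : AllBelow (eltOk elts table 23) 2816 :=
  AllBelow.step elt23_10 256 (by decide +kernel)

theorem elt23_12 : AllBelow (eltOk elts table 23) 3072 :=
  AllBelow.step elt23_11 256 (by decide +kernel)

theorem elt23_13 : AllBelow (eltOk elts table 23) 3328 :=
  AllBelow.step elt23_12 256 (by decide +kernel)

theorem elt23_14 : AllBelow (eltOk elts table 23) 3510 :=
  AllBelow.step elt23_13 182 (by decide +kernel)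

theorem elt24_0 : AllBelow (eltOk elts table 24) 0 := AllBelow.zero _

theorem elt24_1 : AllBelow (eltOk elts table 24) 256 :=
  AllBelow.step elt24_0 256 (by decide +kernel)

theorem elt24_2 : AllBelow (eltOk elts table 24) 512 :=
  AllBelow.step elt24_1 256 (by decide +kernel)

theorem elt24_3 : AllBelow (eltOk elts table 24) 768 :=
  AllBelow.step elt24_2 256 (by decide +kernel)

theorem elt24_4 : AllBelow (eltOk elts table 24) 1024 :=
  AllBelow.step elt24_3 256 (by decide +kernel)

theorem elt24_5 : AllBelow (eltOk elts table 24) 1280 :=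
  AllBelow.step elt24_4 256 (by decide +kernel)

theorem elt24_6 : AllBelow (eltOk elts table 24) 1536 :=
  AllBelow.step elt24_5 256 (by decide +kernel)

theorem elt24_7 : AllBelow (eltOk elts table 24) 1792 :=
  AllBelow.step elt24_6 256 (by decide +kernel)

theorem elt24_8 : AllBelow (eltOk elts table 24) 2048 :=
  AllBelow.step elt24_7 256 (by decide +kernel)

theorem elt24_9 : AllBelow (eltOk elts table 24) 2304 :=
  AllBelow.step elt24_8 256 (by decide +kernel)

theorem elt24_10 : AllBelow (eltOk elts table 24) 2560 :=
  AllBelow.step elt24_9 256 (by decide +kernel)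

theorem elt24_11 : AllBelow (eltOk elts table 24) 2816 :=
  AllBelow.step elt24_10 256 (by decide +kernel)

theorem elt24_12 : AllBelow (eltOk elts table 24) 3072 :=
  AllBelow.step elt24_11 256 (by decide +kernel)

theorem elt24_13 : AllBelow (eltOk elts table 24) 3328 :=
  AllBelow.step elt24_12 256 (by decide +kernel)

theorem elt24_14 : AllBelow (eltOk elts table 24) 3510 :=
  AllBelow.step elt24_13 182 (by decide +kernel)

theorem elts_ok : ∀ k, k < elts.words.length → AllBelow (eltOk elts table k) table.N := by
  intro k hk
  have hk' : k < 25 := hk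
  match k, hk' with
  | 0, _ => exact elt0_14
  | 1, _ => exact elt1_14
  | 2, _ => exact elt2_14
  | 3, _ => exact elt3_14
  | 4, _ => exact elt4_14
  | 5, _ => exact elt5_14
  | 6, _ => exact elt6_14
  | 7, _ => exact elt7_14
  | 8, _ => exact elt8_14
  | 9, _ => exact elt9_14
  | 10, _ => exact elt10_14
  | 11, _ => exact elt11_14
  | 12, _ => exact elt12_14
  | 13, _ => exact elt13_14
  | 14, _ => exact elt14_14
  | 15, _ => exact elt15_14
  | 16, _ => exact elt16_14
  | 17, _ => exact elt17_14
  | 18, _ => exact elt18_14
  | 19, _ => exact elt19_14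
  | 20, _ => exact elt20_14
  | 21, _ => exact elt21_14
  | 22, _ => exact elt22_14
  | 23, _ => exact elt23_14
  | 24, _ => exact elt24_14
  | n + 25, h => omega

theorem fix0 : fixOk elts table [0, 1, 2, 3, 4, 5, 6, 7, 8] [] = true := by decide +kernel

theorem stage0_ok : AllBelow (stageOk elts table stage0 [0, 1, 2, 3, 4, 5, 6, 7, 8] 0) table.N := by
  intro i hi
  exact (allFrom_iff _ table.N 0).mp (by decide +kernel) i (Nat.zero_le i) (by omega)

theorem stage0_count : countLabel stage0 1 table.N = 3510 := by decide +kernel

theorem fix1 : fixOk elts table [9, 11, 12, 15, 16, 17, 20, 22, 25, 27, 29, 31, 33] [0] = true := by decide +kernel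

theorem stage1_ok : AllBelow (stageOk elts table stage1 [9, 11, 12, 15, 16, 17, 20, 22, 25, 27, 29, 31, 33] 1) table.N := by
  intro i hi
  exact (allFrom_iff _ table.N 0).mp (by decide +kernel) i (Nat.zero_le i) (by omega)

theorem stage1_count : countLabel stage1 1 table.N = 2816 := by decide +kernel

theorem fix2 : fixOk elts table [11, 12, 15, 16, 17, 20, 22, 27, 29, 31, 33] [1, 0] = true := by decide +kernel

theorem stage2_ok : AllBelow (stageOk elts table stage2 [11, 12, 15, 16, 17, 20, 22, 27, 29, 31, 33] 3) table.N := by
  intro i hi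
  exact (allFrom_iff _ table.N 0).mp (by decide +kernel) i (Nat.zero_le i) (by omega)

theorem stage2_count : countLabel stage2 1 table.N = 567 := by decide +kernel

theorem fix3 : fixOk elts table [15, 16, 17, 20, 22, 29, 31, 33] [3, 1, 0] = true := by decide +kernel

theorem stage3_ok : AllBelow (stageOk elts table stage3 [15, 16, 17, 20, 22, 29, 31, 33] 5) table.N := by
  intro i hi
  exact (allFrom_iff _ table.N 0).mp (by decide +kernel) i (Nat.zero_le i) (by omega)

theorem stage3_count : countLabel stage3 1 table.N = 96 := by decide +kernel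

theorem fix4 : fixOk elts table [17, 20, 22, 31, 33] [5, 3, 1, 0] = true := by decide +kernel

theorem stage4_ok : AllBelow (stageOk elts table stage4 [17, 20, 22, 31, 33] 9) table.N := by
  intro i hi
  exact (allFrom_iff _ table.N 0).mp (by decide +kernel) i (Nat.zero_le i) (by omega)

theorem stage4_count : countLabel stage4 1 table.N = 5 := by decide +kernel

theorem fix5 : fixOk elts table [20, 22, 31, 33] [9, 5, 3, 1, 0] = true := by decide +kernel

theorem stage5_ok : AllBelow (stageOk elts table stage5 [20, 22, 31, 33] 8) table.N := by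
  intro i hi
  exact (allFrom_iff _ table.N 0).mp (by decide +kernel) i (Nat.zero_le i) (by omega)

theorem stage5_count : countLabel stage5 1 table.N = 6 := by decide +kernel

theorem fix6 : fixOk elts table [22, 33] [8, 9, 5, 3, 1, 0] = true := by decide +kernel

theorem stage6_ok : AllBelow (stageOk elts table stage6 [22, 33] 13) table.N := by
  intro i hi
  exact (allFrom_iff _ table.N 0).mp (by decide +kernel) i (Nat.zero_le i) (by omega)

theorem stage6_count : countLabel stage6 1 table.N = 4 := by decide +kernel

end Cfsg.Agent.CosetCertFi22Sgs
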