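import Cfsg.Agent.Lib.CosetCertFi23FData

/-! Part of the checks of a coset enumeration in the presented group Fi23. -/

set_option autoImplicit false
set_option maxRecDepth 100000
set_option Elab.async false

namespace Cfsg.Agent.CosetCertFi23FP1

open Cfsg.Agent.CosetCertCore Cfsg.Agent.CosetCertTable Cfsg.Agent.CosetCertPres Cfsg.Agent.CosetCertFi23FData

theorem points32c : allFrom (pointOk cert 212551 table) 64 1984 = true := by decide +kernel

theorem points33c : allFrom (pointOk cert 212551 table) 64 2048 = true := by decide +kernel

theorem points34c : allFrom (pointOk cert 212551 table) 64 2112 = true := by decide +kernel

theorem points35c : allFrom (pointOk cert 212551 table) 64 2176 = true := by decide +kernel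

theorem points36c : allFrom (pointOk cert 212551 table) 64 2240 = true := by decide +kernel

theorem points37c : allFrom (pointOk cert 212551 table) 64 2304 = true := by decide +kernel

theorem points38c : allFrom (pointOk cert 212551 table) 64 2368 = true := by decide +kernel

theorem points39c : allFrom (pointOk cert 212551 table) 64 2432 = true := by decide +kernel

theorem points40c : allFrom (pointOk cert 212551 table) 64 2496 = true := by decide +kernel

theorem points41c : allFrom (pointOk cert 212551 table) 64 2560 = true := by decide +kernel

theorem points42c : allFrom (pointOk cert 212551 table) 64 2624 = true := by decide +kernel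

theorem points43c : allFrom (pointOk cert 212551 table) 64 2688 = true := by decide +kernel

theorem points44c : allFrom (pointOk cert 212551 table) 64 2752 = true := by decide +kernel

theorem points45c : allFrom (pointOk cert 212551 table) 64 2816 = true := by decide +kernel

theorem points46c : allFrom (pointOk cert 212551 table) 64 2880 = true := by decide +kernel

theorem points47c : allFrom (pointOk cert 212551 table) 64 2944 = true := by decide +kernel

theorem points48c : allFrom (pointOk cert 212551 table) 64 3008 = true := by decide +kernel

theorem points49c : allFrom (pointOk cert 212551 table) 64 3072 = true := by decide +kernel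

theorem points50c : allFrom (pointOk cert 212551 table) 64 3136 = true := by decide +kernel

theorem points51c : allFrom (pointOk cert 212551 table) 64 3200 = true := by decide +kernel

theorem points52c : allFrom (pointOk cert 212551 table) 64 3264 = true := by decide +kernel

theorem points53c : allFrom (pointOk cert 212551 table) 64 3328 = true := by decide +kernel

theorem points54c : allFrom (pointOk cert 212551 table) 64 3392 = true := by decide +kernel

theorem points55c : allFrom (pointOk cert 212551 table) 64 3456 = true := by decide +kernel

theorem points56c : allFrom (pointOk cert 212551 table) 64 3520 = true := by decide +kernel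

theorem points57c : allFrom (pointOk cert 212551 table) 64 3584 = true := by decide +kernel

theorem points58c : allFrom (pointOk cert 212551 table) 64 3648 = true := by decide +kernel

theorem points59c : allFrom (pointOk cert 212551 table) 64 3712 = true := by decide +kernel

theorem points60c : allFrom (pointOk cert 212551 table) 64 3776 = true := by decide +kernel

theorem points61c : allFrom (pointOk cert 212551 table) 64 3840 = true := by decide +kernel

theorem points62c : allFrom (pointOk cert 212551 table) 64 3904 = true := by decide +kernel

theorem rels32c : allFrom (relsOk cert.rels table) 64 1984 = true := by decide +kernel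

theorem rels33c : allFrom (relsOk cert.rels table) 64 2048 = true := by decide +kernel

theorem rels34c : allFrom (relsOk cert.rels table) 64 2112 = true := by decide +kernel

theorem rels35c : allFrom (relsOk cert.rels table) 64 2176 = true := by decide +kernel

theorem rels36c : allFrom (relsOk cert.rels table) 64 2240 = true := by decide +kernel

theorem rels37c : allFrom (relsOk cert.rels table) 64 2304 = true := by decide +kernel

theorem rels38c : allFrom (relsOk cert.rels table) 64 2368 = true := by decide +kernel

theorem rels39c : allFrom (relsOk cert.rels table) 64 2432 = true := by decide +kernel

theorem rels40c : allFrom (relsOk cert.rels table) 64 2496 = true := by decide +kernel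

theorem rels41c : allFrom (relsOk cert.rels table) 64 2560 = true := by decide +kernel

theorem rels42c : allFrom (relsOk cert.rels table) 64 2624 = true := by decide +kernel

theorem rels43c : allFrom (relsOk cert.rels table) 64 2688 = true := by decide +kernel

theorem rels44c : allFrom (relsOk cert.rels table) 64 2752 = true := by decide +kernel

theorem rels45c : allFrom (relsOk cert.rels table) 64 2816 = true := by decide +kernel

theorem rels46c : allFrom (relsOk cert.rels table) 64 2880 = true := by decide +kernel

theorem rels47c : allFrom (relsOk cert.rels table) 64 2944 = true := by decide +kernel

theorem rels48c : allFrom (relsOk cert.rels table) 64 3008 = true := by decide +kernel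

theorem rels49c : allFrom (relsOk cert.rels table) 64 3072 = true := by decide +kernel

theorem rels50c : allFrom (relsOk cert.rels table) 64 3136 = true := by decide +kernel

theorem rels51c : allFrom (relsOk cert.rels table) 64 3200 = true := by decide +kernel

theorem rels52c : allFrom (relsOk cert.rels table) 64 3264 = true := by decide +kernel

theorem rels53c : allFrom (relsOk cert.rels table) 64 3328 = true := by decide +kernel

theorem rels54c : allFrom (relsOk cert.rels table) 64 3392 = true := by decide +kernel

theorem rels55c : allFrom (relsOk cert.rels table) 64 3456 = true := by decide +kernel

theorem rels56c : allFrom (relsOk cert.rels table) 64 3520 = true := by decide +kernel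

theorem rels57c : allFrom (relsOk cert.rels table) 64 3584 = true := by decide +kernel

theorem rels58c : allFrom (relsOk cert.rels table) 64 3648 = true := by decide +kernel

theorem rels59c : allFrom (relsOk cert.rels table) 64 3712 = true := by decide +kernel

theorem rels60c : allFrom (relsOk cert.rels table) 64 3776 = true := by decide +kernel

theorem rels61c : allFrom (relsOk cert.rels table) 64 3840 = true := by decide +kernel

theorem rels62c : allFrom (relsOk cert.rels table) 64 3904 = true := by decide +kernel

theorem orb32c : allFrom (orbOk orbTbl roots cert.sgens table) 64 1984 = true := by decide +kernel

theorem orb33c : allFrom (orbOk orbTbl roots cert.sgens table) 64 2048 = true := by decide +kernel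

theorem orb34c : allFrom (orbOk orbTbl roots cert.sgens table) 64 2112 = true := by decide +kernel

theorem orb35c : allFrom (orbOk orbTbl roots cert.sgens table) 64 2176 = true := by decide +kernel

theorem orb36c : allFrom (orbOk orbTbl roots cert.sgens table) 64 2240 = true := by decide +kernel

theorem orb37c : allFrom (orbOk orbTbl roots cert.sgens table) 64 2304 = true := by decide +kernel

theorem orb38c : allFrom (orbOk orbTbl roots cert.sgens table) 64 2368 = true := by decide +kernel

theorem orb39c : allFrom (orbOk orbTbl roots cert.sgens table) 64 2432 = true := by decide +kernel

theorem orb40c : allFrom (orbOk orbTbl roots cert.sgens table) 64 2496 = true := by decide +kernel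

theorem orb41c : allFrom (orbOk orbTbl roots cert.sgens table) 64 2560 = true := by decide +kernel

theorem orb42c : allFrom (orbOk orbTbl roots cert.sgens table) 64 2624 = true := by decide +kernel

theorem orb43c : allFrom (orbOk orbTbl roots cert.sgens table) 64 2688 = true := by decide +kernel

theorem orb44c : allFrom (orbOk orbTbl roots cert.sgens table) 64 2752 = true := by decide +kernel

theorem orb45c : allFrom (orbOk orbTbl roots cert.sgens table) 64 2816 = true := by decide +kernel

theorem orb46c : allFrom (orbOk orbTbl roots cert.sgens table) 64 2880 = true := by decide +kernel

theorem orb47c : allFrom (orbOk orbTbl roots cert.sgens table) 64 2944 = true := by decide +kernel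

theorem orb48c : allFrom (orbOk orbTbl roots cert.sgens table) 64 3008 = true := by decide +kernel

theorem orb49c : allFrom (orbOk orbTbl roots cert.sgens table) 64 3072 = true := by decide +kernel

theorem orb50c : allFrom (orbOk orbTbl roots cert.sgens table) 64 3136 = true := by decide +kernel

theorem orb51c : allFrom (orbOk orbTbl roots cert.sgens table) 64 3200 = true := by decide +kernel

theorem orb52c : allFrom (orbOk orbTbl roots cert.sgens table) 64 3264 = true := by decide +kernel

theorem orb53c : allFrom (orbOk orbTbl roots cert.sgens table) 64 3328 = true := by decide +kernel

theorem orb54c : allFrom (orbOk orbTbl roots cert.sgens table) 64 3392 = true := by decide +kernel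

theorem orb55c : allFrom (orbOk orbTbl roots cert.sgens table) 64 3456 = true := by decide +kernel

theorem orb56c : allFrom (orbOk orbTbl roots cert.sgens table) 64 3520 = true := by decide +kernel

theorem orb57c : allFrom (orbOk orbTbl roots cert.sgens table) 64 3584 = true := by decide +kernel

theorem orb58c : allFrom (orbOk orbTbl roots cert.sgens table) 64 3648 = true := by decide +kernel

theorem orb59c : allFrom (orbOk orbTbl roots cert.sgens table) 64 3712 = true := by decide +kernel

theorem orb60c : allFrom (orbOk orbTbl roots cert.sgens table) 64 3776 = true := by decide +kernel

theorem orb61c : allFrom (orbOk orbTbl roots cert.sgens table) 64 3840 = true := by decide +kernel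

theorem orb62c : allFrom (orbOk orbTbl roots cert.sgens table) 64 3904 = true := by decide +kernel

end Cfsg.Agent.CosetCertFi23FP1
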