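import Cfsg.Agent.Lib.CosetCertFi23FData

/-! Part of the checks of a coset enumeration in the presented group Fi23. -/

set_option autoImplicit false
set_option maxRecDepth 100000
set_option Elab.async false

namespace Cfsg.Agent.CosetCertFi23FP12

open Cfsg.Agent.CosetCertCore Cfsg.Agent.CosetCertTable Cfsg.Agent.CosetCertPres Cfsg.Agent.CosetCertFi23FData

theorem points373c : allFrom (pointOk cert 212551 table) 64 23808 = true := by decide +kernel

theorem points374c : allFrom (pointOk cert 212551 table) 64 23872 = true := by decide +kernel

theorem points375c : allFrom (pointOk cert 212551 table) 64 23936 = true := by decide +kernel

theorem points376c : allFrom (pointOk cert 212551 table) 64 24000 = true := by decide +kernel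

theorem points377c : allFrom (pointOk cert 212551 table) 64 24064 = true := by decide +kernel

theorem points378c : allFrom (pointOk cert 212551 table) 64 24128 = true := by decide +kernel

theorem points379c : allFrom (pointOk cert 212551 table) 64 24192 = true := by decide +kernel

theorem points380c : allFrom (pointOk cert 212551 table) 64 24256 = true := by decide +kernel

theorem points381c : allFrom (pointOk cert 212551 table) 64 24320 = true := by decide +kernel

theorem points382c : allFrom (pointOk cert 212551 table) 64 24384 = true := by decide +kernel

theorem points383c : allFrom (pointOk cert 212551 table) 64 24448 = true := by decide +kernel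

theorem points384c : allFrom (pointOk cert 212551 table) 64 24512 = true := by decide +kernel

theorem points385c : allFrom (pointOk cert 212551 table) 64 24576 = true := by decide +kernel

theorem points386c : allFrom (pointOk cert 212551 table) 64 24640 = true := by decide +kernel

theorem points387c : allFrom (pointOk cert 212551 table) 64 24704 = true := by decide +kernel

theorem points388c : allFrom (pointOk cert 212551 table) 64 24768 = true := by decide +kernel

theorem points389c : allFrom (pointOk cert 212551 table) 64 24832 = true := by decide +kernel

theorem points390c : allFrom (pointOk cert 212551 table) 64 24896 = true := by decide +kernel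

theorem points391c : allFrom (pointOk cert 212551 table) 64 24960 = true := by decide +kernel

theorem points392c : allFrom (pointOk cert 212551 table) 64 25024 = true := by decide +kernel

theorem points393c : allFrom (pointOk cert 212551 table) 64 25088 = true := by decide +kernel

theorem points394c : allFrom (pointOk cert 212551 table) 64 25152 = true := by decide +kernel

theorem points395c : allFrom (pointOk cert 212551 table) 64 25216 = true := by decide +kernel

theorem points396c : allFrom (pointOk cert 212551 table) 64 25280 = true := by decide +kernel

theorem points397c : allFrom (pointOk cert 212551 table) 64 25344 = true := by decide +kernel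

theorem points398c : allFrom (pointOk cert 212551 table) 64 25408 = true := by decide +kernel

theorem points399c : allFrom (pointOk cert 212551 table) 64 25472 = true := by decide +kernel

theorem points400c : allFrom (pointOk cert 212551 table) 64 25536 = true := by decide +kernel

theorem points401c : allFrom (pointOk cert 212551 table) 64 25600 = true := by decide +kernel

theorem points402c : allFrom (pointOk cert 212551 table) 64 25664 = true := by decide +kernel

theorem points403c : allFrom (pointOk cert 212551 table) 64 25728 = true := by decide +kernel

theorem rels373c : allFrom (relsOk cert.rels table) 64 23808 = true := by decide +kernel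

theorem rels374c : allFrom (relsOk cert.rels table) 64 23872 = true := by decide +kernel

theorem rels375c : allFrom (relsOk cert.rels table) 64 23936 = true := by decide +kernel

theorem rels376c : allFrom (relsOk cert.rels table) 64 24000 = true := by decide +kernel

theorem rels377c : allFrom (relsOk cert.rels table) 64 24064 = true := by decide +kernel

theorem rels378c : allFrom (relsOk cert.rels table) 64 24128 = true := by decide +kernel

theorem rels379c : allFrom (relsOk cert.rels table) 64 24192 = true := by decide +kernel

theorem rels380c : allFrom (relsOk cert.rels table) 64 24256 = true := by decide +kernel

theorem rels381c : allFrom (relsOk cert.rels table) 64 24320 = true := by decide +kernel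

theorem rels382c : allFrom (relsOk cert.rels table) 64 24384 = true := by decide +kernel

theorem rels383c : allFrom (relsOk cert.rels table) 64 24448 = true := by decide +kernel

theorem rels384c : allFrom (relsOk cert.rels table) 64 24512 = true := by decide +kernel

theorem rels385c : allFrom (relsOk cert.rels table) 64 24576 = true := by decide +kernel

theorem rels386c : allFrom (relsOk cert.rels table) 64 24640 = true := by decide +kernel

theorem rels387c : allFrom (relsOk cert.rels table) 64 24704 = true := by decide +kernel

theorem rels388c : allFrom (relsOk cert.rels table) 64 24768 = true := by decide +kernel

theorem rels389c : allFrom (relsOk cert.rels table) 64 24832 = true := by decide +kernel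

theorem rels390c : allFrom (relsOk cert.rels table) 64 24896 = true := by decide +kernel

theorem rels391c : allFrom (relsOk cert.rels table) 64 24960 = true := by decide +kernel

theorem rels392c : allFrom (relsOk cert.rels table) 64 25024 = true := by decide +kernel

theorem rels393c : allFrom (relsOk cert.rels table) 64 25088 = true := by decide +kernel

theorem rels394c : allFrom (relsOk cert.rels table) 64 25152 = true := by decide +kernel

theorem rels395c : allFrom (relsOk cert.rels table) 64 25216 = true := by decide +kernel

theorem rels396c : allFrom (relsOk cert.rels table) 64 25280 = true := by decide +kernel

theorem rels397c : allFrom (relsOk cert.rels table) 64 25344 = true := by decide +kernel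

theorem rels398c : allFrom (relsOk cert.rels table) 64 25408 = true := by decide +kernel

theorem rels399c : allFrom (relsOk cert.rels table) 64 25472 = true := by decide +kernel

theorem rels400c : allFrom (relsOk cert.rels table) 64 25536 = true := by decide +kernel

theorem rels401c : allFrom (relsOk cert.rels table) 64 25600 = true := by decide +kernel

theorem rels402c : allFrom (relsOk cert.rels table) 64 25664 = true := by decide +kernel

theorem rels403c : allFrom (relsOk cert.rels table) 64 25728 = true := by decide +kernel

theorem orb373c : allFrom (orbOk orbTbl roots cert.sgens table) 64 23808 = true := by decide +kernel

theorem orb374c : allFrom (orbOk orbTbl roots cert.sgens table) 64 23872 = true := by decide +kernel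

theorem orb375c : allFrom (orbOk orbTbl roots cert.sgens table) 64 23936 = true := by decide +kernel

theorem orb376c : allFrom (orbOk orbTbl roots cert.sgens table) 64 24000 = true := by decide +kernel

theorem orb377c : allFrom (orbOk orbTbl roots cert.sgens table) 64 24064 = true := by decide +kernel

theorem orb378c : allFrom (orbOk orbTbl roots cert.sgens table) 64 24128 = true := by decide +kernel

theorem orb379c : allFrom (orbOk orbTbl roots cert.sgens table) 64 24192 = true := by decide +kernel

theorem orb380c : allFrom (orbOk orbTbl roots cert.sgens table) 64 24256 = true := by decide +kernel

theorem orb381c : allFrom (orbOk orbTbl roots cert.sgens table) 64 24320 = true := by decide +kernel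

theorem orb382c : allFrom (orbOk orbTbl roots cert.sgens table) 64 24384 = true := by decide +kernel

theorem orb383c : allFrom (orbOk orbTbl roots cert.sgens table) 64 24448 = true := by decide +kernel

theorem orb384c : allFrom (orbOk orbTbl roots cert.sgens table) 64 24512 = true := by decide +kernel

theorem orb385c : allFrom (orbOk orbTbl roots cert.sgens table) 64 24576 = true := by decide +kernel

theorem orb386c : allFrom (orbOk orbTbl roots cert.sgens table) 64 24640 = true := by decide +kernel

theorem orb387c : allFrom (orbOk orbTbl roots cert.sgens table) 64 24704 = true := by decide +kernel

theorem orb388c : allFrom (orbOk orbTbl roots cert.sgens table) 64 24768 = true := by decide +kernel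

theorem orb389c : allFrom (orbOk orbTbl roots cert.sgens table) 64 24832 = true := by decide +kernel

theorem orb390c : allFrom (orbOk orbTbl roots cert.sgens table) 64 24896 = true := by decide +kernel

theorem orb391c : allFrom (orbOk orbTbl roots cert.sgens table) 64 24960 = true := by decide +kernel

theorem orb392c : allFrom (orbOk orbTbl roots cert.sgens table) 64 25024 = true := by decide +kernel

theorem orb393c : allFrom (orbOk orbTbl roots cert.sgens table) 64 25088 = true := by decide +kernel

theorem orb394c : allFrom (orbOk orbTbl roots cert.sgens table) 64 25152 = true := by decide +kernel

theorem orb395c : allFrom (orbOk orbTbl roots cert.sgens table) 64 25216 = true := by decide +kernel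

theorem orb396c : allFrom (orbOk orbTbl roots cert.sgens table) 64 25280 = true := by decide +kernel

theorem orb397c : allFrom (orbOk orbTbl roots cert.sgens table) 64 25344 = true := by decide +kernel

theorem orb398c : allFrom (orbOk orbTbl roots cert.sgens table) 64 25408 = true := by decide +kernel

theorem orb399c : allFrom (orbOk orbTbl roots cert.sgens table) 64 25472 = true := by decide +kernel

theorem orb400c : allFrom (orbOk orbTbl roots cert.sgens table) 64 25536 = true := by decide +kernel

theorem orb401c : allFrom (orbOk orbTbl roots cert.sgens table) 64 25600 = true := by decide +kernel

theorem orb402c : allFrom (orbOk orbTbl roots cert.sgens table) 64 25664 = true := by decide +kernel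

theorem orb403c : allFrom (orbOk orbTbl roots cert.sgens table) 64 25728 = true := by decide +kernel

end Cfsg.Agent.CosetCertFi23FP12
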