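import Cfsg.Agent.Lib.CosetCertFi23FData

/-! Part of the checks of a coset enumeration in the presented group Fi23. -/

set_option autoImplicit false
set_option maxRecDepth 100000
set_option Elab.async false

namespace Cfsg.Agent.CosetCertFi23FP13

open Cfsg.Agent.CosetCertCore Cfsg.Agent.CosetCertTable Cfsg.Agent.CosetCertPres Cfsg.Agent.CosetCertFi23FData

theorem points404c : allFrom (pointOk cert 212551 table) 64 25792 = true := by decide +kernel

theorem points405c : allFrom (pointOk cert 212551 table) 64 25856 = true := by decide +kernel

theorem points406c : allFrom (pointOk cert 212551 table) 64 25920 = true := by decide +kernel

theorem points407c : allFrom (pointOk cert 212551 table) 64 25984 = true := by decide +kernel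

theorem points408c : allFrom (pointOk cert 212551 table) 64 26048 = true := by decide +kernel

theorem points409c : allFrom (pointOk cert 212551 table) 64 26112 = true := by decide +kernel

theorem points410c : allFrom (pointOk cert 212551 table) 64 26176 = true := by decide +kernel

theorem points411c : allFrom (pointOk cert 212551 table) 64 26240 = true := by decide +kernel

theorem points412c : allFrom (pointOk cert 212551 table) 64 26304 = true := by decide +kernel

theorem points413c : allFrom (pointOk cert 212551 table) 64 26368 = true := by decide +kernel

theorem points414c : allFrom (pointOk cert 212551 table) 64 26432 = true := by decide +kernel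

theorem points415c : allFrom (pointOk cert 212551 table) 64 26496 = true := by decide +kernel

theorem points416c : allFrom (pointOk cert 212551 table) 64 26560 = true := by decide +kernel

theorem points417c : allFrom (pointOk cert 212551 table) 64 26624 = true := by decide +kernel

theorem points418c : allFrom (pointOk cert 212551 table) 64 26688 = true := by decide +kernel

theorem points419c : allFrom (pointOk cert 212551 table) 64 26752 = true := by decide +kernel

theorem points420c : allFrom (pointOk cert 212551 table) 64 26816 = true := by decide +kernel

theorem points421c : allFrom (pointOk cert 212551 table) 64 26880 = true := by decide +kernel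

theorem points422c : allFrom (pointOk cert 212551 table) 64 26944 = true := by decide +kernel

theorem points423c : allFrom (pointOk cert 212551 table) 64 27008 = true := by decide +kernel

theorem points424c : allFrom (pointOk cert 212551 table) 64 27072 = true := by decide +kernel

theorem points425c : allFrom (pointOk cert 212551 table) 64 27136 = true := by decide +kernel

theorem points426c : allFrom (pointOk cert 212551 table) 64 27200 = true := by decide +kernel

theorem points427c : allFrom (pointOk cert 212551 table) 64 27264 = true := by decide +kernel

theorem points428c : allFrom (pointOk cert 212551 table) 64 27328 = true := by decide +kernel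

theorem points429c : allFrom (pointOk cert 212551 table) 64 27392 = true := by decide +kernel

theorem points430c : allFrom (pointOk cert 212551 table) 64 27456 = true := by decide +kernel

theorem points431c : allFrom (pointOk cert 212551 table) 64 27520 = true := by decide +kernel

theorem points432c : allFrom (pointOk cert 212551 table) 64 27584 = true := by decide +kernel

theorem points433c : allFrom (pointOk cert 212551 table) 64 27648 = true := by decide +kernel

theorem points434c : allFrom (pointOk cert 212551 table) 64 27712 = true := by decide +kernel

theorem rels404c : allFrom (relsOk cert.rels table) 64 25792 = true := by decide +kernel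

theorem rels405c : allFrom (relsOk cert.rels table) 64 25856 = true := by decide +kernel

theorem rels406c : allFrom (relsOk cert.rels table) 64 25920 = true := by decide +kernel

theorem rels407c : allFrom (relsOk cert.rels table) 64 25984 = true := by decide +kernel

theorem rels408c : allFrom (relsOk cert.rels table) 64 26048 = true := by decide +kernel

theorem rels409c : allFrom (relsOk cert.rels table) 64 26112 = true := by decide +kernel

theorem rels410c : allFrom (relsOk cert.rels table) 64 26176 = true := by decide +kernel

theorem rels411c : allFrom (relsOk cert.rels table) 64 26240 = true := by decide +kernel

theorem rels412c : allFrom (relsOk cert.rels table) 64 26304 = true := by decide +kernel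

theorem rels413c : allFrom (relsOk cert.rels table) 64 26368 = true := by decide +kernel

theorem rels414c : allFrom (relsOk cert.rels table) 64 26432 = true := by decide +kernel

theorem rels415c : allFrom (relsOk cert.rels table) 64 26496 = true := by decide +kernel

theorem rels416c : allFrom (relsOk cert.rels table) 64 26560 = true := by decide +kernel

theorem rels417c : allFrom (relsOk cert.rels table) 64 26624 = true := by decide +kernel

theorem rels418c : allFrom (relsOk cert.rels table) 64 26688 = true := by decide +kernel

theorem rels419c : allFrom (relsOk cert.rels table) 64 26752 = true := by decide +kernel

theorem rels420c : allFrom (relsOk cert.rels table) 64 26816 = true := by decide +kernel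

theorem rels421c : allFrom (relsOk cert.rels table) 64 26880 = true := by decide +kernel

theorem rels422c : allFrom (relsOk cert.rels table) 64 26944 = true := by decide +kernel

theorem rels423c : allFrom (relsOk cert.rels table) 64 27008 = true := by decide +kernel

theorem rels424c : allFrom (relsOk cert.rels table) 64 27072 = true := by decide +kernel

theorem rels425c : allFrom (relsOk cert.rels table) 64 27136 = true := by decide +kernel

theorem rels426c : allFrom (relsOk cert.rels table) 64 27200 = true := by decide +kernel

theorem rels427c : allFrom (relsOk cert.rels table) 64 27264 = true := by decide +kernel

theorem rels428c : allFrom (relsOk cert.rels table) 64 27328 = true := by decide +kernel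

theorem rels429c : allFrom (relsOk cert.rels table) 64 27392 = true := by decide +kernel

theorem rels430c : allFrom (relsOk cert.rels table) 64 27456 = true := by decide +kernel

theorem rels431c : allFrom (relsOk cert.rels table) 64 27520 = true := by decide +kernel

theorem rels432c : allFrom (relsOk cert.rels table) 64 27584 = true := by decide +kernel

theorem rels433c : allFrom (relsOk cert.rels table) 64 27648 = true := by decide +kernel

theorem rels434c : allFrom (relsOk cert.rels table) 64 27712 = true := by decide +kernel

theorem orb404c : allFrom (orbOk orbTbl roots cert.sgens table) 64 25792 = true := by decide +kernel

theorem orb405c : allFrom (orbOk orbTbl roots cert.sgens table) 64 25856 = true := by decide +kernel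

theorem orb406c : allFrom (orbOk orbTbl roots cert.sgens table) 64 25920 = true := by decide +kernel

theorem orb407c : allFrom (orbOk orbTbl roots cert.sgens table) 64 25984 = true := by decide +kernel

theorem orb408c : allFrom (orbOk orbTbl roots cert.sgens table) 64 26048 = true := by decide +kernel

theorem orb409c : allFrom (orbOk orbTbl roots cert.sgens table) 64 26112 = true := by decide +kernel

theorem orb410c : allFrom (orbOk orbTbl roots cert.sgens table) 64 26176 = true := by decide +kernel

theorem orb411c : allFrom (orbOk orbTbl roots cert.sgens table) 64 26240 = true := by decide +kernel

theorem orb412c : allFrom (orbOk orbTbl roots cert.sgens table) 64 26304 = true := by decide +kernel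

theorem orb413c : allFrom (orbOk orbTbl roots cert.sgens table) 64 26368 = true := by decide +kernel

theorem orb414c : allFrom (orbOk orbTbl roots cert.sgens table) 64 26432 = true := by decide +kernel

theorem orb415c : allFrom (orbOk orbTbl roots cert.sgens table) 64 26496 = true := by decide +kernel

theorem orb416c : allFrom (orbOk orbTbl roots cert.sgens table) 64 26560 = true := by decide +kernel

theorem orb417c : allFrom (orbOk orbTbl roots cert.sgens table) 64 26624 = true := by decide +kernel

theorem orb418c : allFrom (orbOk orbTbl roots cert.sgens table) 64 26688 = true := by decide +kernel

theorem orb419c : allFrom (orbOk orbTbl roots cert.sgens table) 64 26752 = true := by decide +kernel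

theorem orb420c : allFrom (orbOk orbTbl roots cert.sgens table) 64 26816 = true := by decide +kernel

theorem orb421c : allFrom (orbOk orbTbl roots cert.sgens table) 64 26880 = true := by decide +kernel

theorem orb422c : allFrom (orbOk orbTbl roots cert.sgens table) 64 26944 = true := by decide +kernel

theorem orb423c : allFrom (orbOk orbTbl roots cert.sgens table) 64 27008 = true := by decide +kernel

theorem orb424c : allFrom (orbOk orbTbl roots cert.sgens table) 64 27072 = true := by decide +kernel

theorem orb425c : allFrom (orbOk orbTbl roots cert.sgens table) 64 27136 = true := by decide +kernel

theorem orb426c : allFrom (orbOk orbTbl roots cert.sgens table) 64 27200 = true := by decide +kernel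

theorem orb427c : allFrom (orbOk orbTbl roots cert.sgens table) 64 27264 = true := by decide +kernel

theorem orb428c : allFrom (orbOk orbTbl roots cert.sgens table) 64 27328 = true := by decide +kernel

theorem orb429c : allFrom (orbOk orbTbl roots cert.sgens table) 64 27392 = true := by decide +kernel

theorem orb430c : allFrom (orbOk orbTbl roots cert.sgens table) 64 27456 = true := by decide +kernel

theorem orb431c : allFrom (orbOk orbTbl roots cert.sgens table) 64 27520 = true := by decide +kernel

theorem orb432c : allFrom (orbOk orbTbl roots cert.sgens table) 64 27584 = true := by decide +kernel

theorem orb433c : allFrom (orbOk orbTbl roots cert.sgens table) 64 27648 = true := by decide +kernel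

theorem orb434c : allFrom (orbOk orbTbl roots cert.sgens table) 64 27712 = true := by decide +kernel

end Cfsg.Agent.CosetCertFi23FP13
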