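import Cfsg.Agent.Lib.CosetCertFi23FData

/-! Part of the checks of a coset enumeration in the presented group Fi23. -/

set_option autoImplicit false
set_option maxRecDepth 100000
set_option Elab.async false

namespace Cfsg.Agent.CosetCertFi23FP14

open Cfsg.Agent.CosetCertCore Cfsg.Agent.CosetCertTable Cfsg.Agent.CosetCertPres Cfsg.Agent.CosetCertFi23FData

theorem points435c : allFrom (pointOk cert 212551 table) 64 27776 = true := by decide +kernel

theorem points436c : allFrom (pointOk cert 212551 table) 64 27840 = true := by decide +kernel

theorem points437c : allFrom (pointOk cert 212551 table) 64 27904 = true := by decide +kernel

theorem points438c : allFrom (pointOk cert 212551 table) 64 27968 = true := by decide +kernel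

theorem points439c : allFrom (pointOk cert 212551 table) 64 28032 = true := by decide +kernel

theorem points440c : allFrom (pointOk cert 212551 table) 64 28096 = true := by decide +kernel

theorem points441c : allFrom (pointOk cert 212551 table) 64 28160 = true := by decide +kernel

theorem points442c : allFrom (pointOk cert 212551 table) 64 28224 = true := by decide +kernel

theorem points443c : allFrom (pointOk cert 212551 table) 64 28288 = true := by decide +kernel

theorem points444c : allFrom (pointOk cert 212551 table) 64 28352 = true := by decide +kernel

theorem points445c : allFrom (pointOk cert 212551 table) 64 28416 = true := by decide +kernel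

theorem points446c : allFrom (pointOk cert 212551 table) 64 28480 = true := by decide +kernel

theorem points447c : allFrom (pointOk cert 212551 table) 64 28544 = true := by decide +kernel

theorem points448c : allFrom (pointOk cert 212551 table) 64 28608 = true := by decide +kernel

theorem points449c : allFrom (pointOk cert 212551 table) 64 28672 = true := by decide +kernel

theorem points450c : allFrom (pointOk cert 212551 table) 64 28736 = true := by decide +kernel

theorem points451c : allFrom (pointOk cert 212551 table) 64 28800 = true := by decide +kernel

theorem points452c : allFrom (pointOk cert 212551 table) 64 28864 = true := by decide +kernel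

theorem points453c : allFrom (pointOk cert 212551 table) 64 28928 = true := by decide +kernel

theorem points454c : allFrom (pointOk cert 212551 table) 64 28992 = true := by decide +kernel

theorem points455c : allFrom (pointOk cert 212551 table) 64 29056 = true := by decide +kernel

theorem points456c : allFrom (pointOk cert 212551 table) 64 29120 = true := by decide +kernel

theorem points457c : allFrom (pointOk cert 212551 table) 64 29184 = true := by decide +kernel

theorem points458c : allFrom (pointOk cert 212551 table) 64 29248 = true := by decide +kernel

theorem points459c : allFrom (pointOk cert 212551 table) 64 29312 = true := by decide +kernel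

theorem points460c : allFrom (pointOk cert 212551 table) 64 29376 = true := by decide +kernel

theorem points461c : allFrom (pointOk cert 212551 table) 64 29440 = true := by decide +kernel

theorem points462c : allFrom (pointOk cert 212551 table) 64 29504 = true := by decide +kernel

theorem points463c : allFrom (pointOk cert 212551 table) 64 29568 = true := by decide +kernel

theorem points464c : allFrom (pointOk cert 212551 table) 64 29632 = true := by decide +kernel

theorem points465c : allFrom (pointOk cert 212551 table) 64 29696 = true := by decide +kernel

theorem rels435c : allFrom (relsOk cert.rels table) 64 27776 = true := by decide +kernel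

theorem rels436c : allFrom (relsOk cert.rels table) 64 27840 = true := by decide +kernel

theorem rels437c : allFrom (relsOk cert.rels table) 64 27904 = true := by decide +kernel

theorem rels438c : allFrom (relsOk cert.rels table) 64 27968 = true := by decide +kernel

theorem rels439c : allFrom (relsOk cert.rels table) 64 28032 = true := by decide +kernel

theorem rels440c : allFrom (relsOk cert.rels table) 64 28096 = true := by decide +kernel

theorem rels441c : allFrom (relsOk cert.rels table) 64 28160 = true := by decide +kernel

theorem rels442c : allFrom (relsOk cert.rels table) 64 28224 = true := by decide +kernel

theorem rels443c : allFrom (relsOk cert.rels table) 64 28288 = true := by decide +kernel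

theorem rels444c : allFrom (relsOk cert.rels table) 64 28352 = true := by decide +kernel

theorem rels445c : allFrom (relsOk cert.rels table) 64 28416 = true := by decide +kernel

theorem rels446c : allFrom (relsOk cert.rels table) 64 28480 = true := by decide +kernel

theorem rels447c : allFrom (relsOk cert.rels table) 64 28544 = true := by decide +kernel

theorem rels448c : allFrom (relsOk cert.rels table) 64 28608 = true := by decide +kernel

theorem rels449c : allFrom (relsOk cert.rels table) 64 28672 = true := by decide +kernel

theorem rels450c : allFrom (relsOk cert.rels table) 64 28736 = true := by decide +kernel

theorem rels451c : allFrom (relsOk cert.rels table) 64 28800 = true := by decide +kernel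

theorem rels452c : allFrom (relsOk cert.rels table) 64 28864 = true := by decide +kernel

theorem rels453c : allFrom (relsOk cert.rels table) 64 28928 = true := by decide +kernel

theorem rels454c : allFrom (relsOk cert.rels table) 64 28992 = true := by decide +kernel

theorem rels455c : allFrom (relsOk cert.rels table) 64 29056 = true := by decide +kernel

theorem rels456c : allFrom (relsOk cert.rels table) 64 29120 = true := by decide +kernel

theorem rels457c : allFrom (relsOk cert.rels table) 64 29184 = true := by decide +kernel

theorem rels458c : allFrom (relsOk cert.rels table) 64 29248 = true := by decide +kernel

theorem rels459c : allFrom (relsOk cert.rels table) 64 29312 = true := by decide +kernel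

theorem rels460c : allFrom (relsOk cert.rels table) 64 29376 = true := by decide +kernel

theorem rels461c : allFrom (relsOk cert.rels table) 64 29440 = true := by decide +kernel

theorem rels462c : allFrom (relsOk cert.rels table) 64 29504 = true := by decide +kernel

theorem rels463c : allFrom (relsOk cert.rels table) 64 29568 = true := by decide +kernel

theorem rels464c : allFrom (relsOk cert.rels table) 64 29632 = true := by decide +kernel

theorem rels465c : allFrom (relsOk cert.rels table) 64 29696 = true := by decide +kernel

theorem orb435c : allFrom (orbOk orbTbl roots cert.sgens table) 64 27776 = true := by decide +kernel

theorem orb436c : allFrom (orbOk orbTbl roots cert.sgens table) 64 27840 = true := by decide +kernel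

theorem orb437c : allFrom (orbOk orbTbl roots cert.sgens table) 64 27904 = true := by decide +kernel

theorem orb438c : allFrom (orbOk orbTbl roots cert.sgens table) 64 27968 = true := by decide +kernel

theorem orb439c : allFrom (orbOk orbTbl roots cert.sgens table) 64 28032 = true := by decide +kernel

theorem orb440c : allFrom (orbOk orbTbl roots cert.sgens table) 64 28096 = true := by decide +kernel

theorem orb441c : allFrom (orbOk orbTbl roots cert.sgens table) 64 28160 = true := by decide +kernel

theorem orb442c : allFrom (orbOk orbTbl roots cert.sgens table) 64 28224 = true := by decide +kernel

theorem orb443c : allFrom (orbOk orbTbl roots cert.sgens table) 64 28288 = true := by decide +kernel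

theorem orb444c : allFrom (orbOk orbTbl roots cert.sgens table) 64 28352 = true := by decide +kernel

theorem orb445c : allFrom (orbOk orbTbl roots cert.sgens table) 64 28416 = true := by decide +kernel

theorem orb446c : allFrom (orbOk orbTbl roots cert.sgens table) 64 28480 = true := by decide +kernel

theorem orb447c : allFrom (orbOk orbTbl roots cert.sgens table) 64 28544 = true := by decide +kernel

theorem orb448c : allFrom (orbOk orbTbl roots cert.sgens table) 64 28608 = true := by decide +kernel

theorem orb449c : allFrom (orbOk orbTbl roots cert.sgens table) 64 28672 = true := by decide +kernel

theorem orb450c : allFrom (orbOk orbTbl roots cert.sgens table) 64 28736 = true := by decide +kernel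

theorem orb451c : allFrom (orbOk orbTbl roots cert.sgens table) 64 28800 = true := by decide +kernel

theorem orb452c : allFrom (orbOk orbTbl roots cert.sgens table) 64 28864 = true := by decide +kernel

theorem orb453c : allFrom (orbOk orbTbl roots cert.sgens table) 64 28928 = true := by decide +kernel

theorem orb454c : allFrom (orbOk orbTbl roots cert.sgens table) 64 28992 = true := by decide +kernel

theorem orb455c : allFrom (orbOk orbTbl roots cert.sgens table) 64 29056 = true := by decide +kernel

theorem orb456c : allFrom (orbOk orbTbl roots cert.sgens table) 64 29120 = true := by decide +kernel

theorem orb457c : allFrom (orbOk orbTbl roots cert.sgens table) 64 29184 = true := by decide +kernel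

theorem orb458c : allFrom (orbOk orbTbl roots cert.sgens table) 64 29248 = true := by decide +kernel

theorem orb459c : allFrom (orbOk orbTbl roots cert.sgens table) 64 29312 = true := by decide +kernel

theorem orb460c : allFrom (orbOk orbTbl roots cert.sgens table) 64 29376 = true := by decide +kernel

theorem orb461c : allFrom (orbOk orbTbl roots cert.sgens table) 64 29440 = true := by decide +kernel

theorem orb462c : allFrom (orbOk orbTbl roots cert.sgens table) 64 29504 = true := by decide +kernel

theorem orb463c : allFrom (orbOk orbTbl roots cert.sgens table) 64 29568 = true := by decide +kernel

theorem orb464c : allFrom (orbOk orbTbl roots cert.sgens table) 64 29632 = true := by decide +kernel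

theorem orb465c : allFrom (orbOk orbTbl roots cert.sgens table) 64 29696 = true := by decide +kernel

end Cfsg.Agent.CosetCertFi23FP14
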