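import Cfsg.Agent.Lib.CosetCertFi23FData

/-! Part of the checks of a coset enumeration in the presented group Fi23. -/

set_option autoImplicit false
set_option maxRecDepth 100000
set_option Elab.async false

namespace Cfsg.Agent.CosetCertFi23FP15

open Cfsg.Agent.CosetCertCore Cfsg.Agent.CosetCertTable Cfsg.Agent.CosetCertPres Cfsg.Agent.CosetCertFi23FData

theorem points466c : allFrom (pointOk cert 212551 table) 64 29760 = true := by decide +kernel

theorem points467c : allFrom (pointOk cert 212551 table) 64 29824 = true := by decide +kernel

theorem points468c : allFrom (pointOk cert 212551 table) 64 29888 = true := by decide +kernel

theorem points469c : allFrom (pointOk cert 212551 table) 64 29952 = true := by decide +kernel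

theorem points470c : allFrom (pointOk cert 212551 table) 64 30016 = true := by decide +kernel

theorem points471c : allFrom (pointOk cert 212551 table) 64 30080 = true := by decide +kernel

theorem points472c : allFrom (pointOk cert 212551 table) 64 30144 = true := by decide +kernel

theorem points473c : allFrom (pointOk cert 212551 table) 64 30208 = true := by decide +kernel

theorem points474c : allFrom (pointOk cert 212551 table) 64 30272 = true := by decide +kernel

theorem points475c : allFrom (pointOk cert 212551 table) 64 30336 = true := by decide +kernel

theorem points476c : allFrom (pointOk cert 212551 table) 64 30400 = true := by decide +kernel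

theorem points477c : allFrom (pointOk cert 212551 table) 64 30464 = true := by decide +kernel

theorem points478c : allFrom (pointOk cert 212551 table) 64 30528 = true := by decide +kernel

theorem points479c : allFrom (pointOk cert 212551 table) 64 30592 = true := by decide +kernel

theorem points480c : allFrom (pointOk cert 212551 table) 64 30656 = true := by decide +kernel

theorem points481c : allFrom (pointOk cert 212551 table) 64 30720 = true := by decide +kernel

theorem points482c : allFrom (pointOk cert 212551 table) 64 30784 = true := by decide +kernel

theorem points483c : allFrom (pointOk cert 212551 table) 64 30848 = true := by decide +kernel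

theorem points484c : allFrom (pointOk cert 212551 table) 64 30912 = true := by decide +kernel

theorem points485c : allFrom (pointOk cert 212551 table) 64 30976 = true := by decide +kernel

theorem points486c : allFrom (pointOk cert 212551 table) 64 31040 = true := by decide +kernel

theorem points487c : allFrom (pointOk cert 212551 table) 64 31104 = true := by decide +kernel

theorem points488c : allFrom (pointOk cert 212551 table) 64 31168 = true := by decide +kernel

theorem points489c : allFrom (pointOk cert 212551 table) 64 31232 = true := by decide +kernel

theorem points490c : allFrom (pointOk cert 212551 table) 64 31296 = true := by decide +kernel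

theorem points491c : allFrom (pointOk cert 212551 table) 64 31360 = true := by decide +kernel

theorem points492c : allFrom (pointOk cert 212551 table) 64 31424 = true := by decide +kernel

theorem points493c : allFrom (pointOk cert 212551 table) 64 31488 = true := by decide +kernel

theorem points494c : allFrom (pointOk cert 212551 table) 64 31552 = true := by decide +kernel

theorem points495c : allFrom (pointOk cert 212551 table) 55 31616 = true := by decide +kernel

theorem rels466c : allFrom (relsOk cert.rels table) 64 29760 = true := by decide +kernel

theorem rels467c : allFrom (relsOk cert.rels table) 64 29824 = true := by decide +kernel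

theorem rels468c : allFrom (relsOk cert.rels table) 64 29888 = true := by decide +kernel

theorem rels469c : allFrom (relsOk cert.rels table) 64 29952 = true := by decide +kernel

theorem rels470c : allFrom (relsOk cert.rels table) 64 30016 = true := by decide +kernel

theorem rels471c : allFrom (relsOk cert.rels table) 64 30080 = true := by decide +kernel

theorem rels472c : allFrom (relsOk cert.rels table) 64 30144 = true := by decide +kernel

theorem rels473c : allFrom (relsOk cert.rels table) 64 30208 = true := by decide +kernel

theorem rels474c : allFrom (relsOk cert.rels table) 64 30272 = true := by decide +kernel

theorem rels475c : allFrom (relsOk cert.rels table) 64 30336 = true := by decide +kernel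

theorem rels476c : allFrom (relsOk cert.rels table) 64 30400 = true := by decide +kernel

theorem rels477c : allFrom (relsOk cert.rels table) 64 30464 = true := by decide +kernel

theorem rels478c : allFrom (relsOk cert.rels table) 64 30528 = true := by decide +kernel

theorem rels479c : allFrom (relsOk cert.rels table) 64 30592 = true := by decide +kernel

theorem rels480c : allFrom (relsOk cert.rels table) 64 30656 = true := by decide +kernel

theorem rels481c : allFrom (relsOk cert.rels table) 64 30720 = true := by decide +kernel

theorem rels482c : allFrom (relsOk cert.rels table) 64 30784 = true := by decide +kernel

theorem rels483c : allFrom (relsOk cert.rels table) 64 30848 = true := by decide +kernel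

theorem rels484c : allFrom (relsOk cert.rels table) 64 30912 = true := by decide +kernel

theorem rels485c : allFrom (relsOk cert.rels table) 64 30976 = true := by decide +kernel

theorem rels486c : allFrom (relsOk cert.rels table) 64 31040 = true := by decide +kernel

theorem rels487c : allFrom (relsOk cert.rels table) 64 31104 = true := by decide +kernel

theorem rels488c : allFrom (relsOk cert.rels table) 64 31168 = true := by decide +kernel

theorem rels489c : allFrom (relsOk cert.rels table) 64 31232 = true := by decide +kernel

theorem rels490c : allFrom (relsOk cert.rels table) 64 31296 = true := by decide +kernel

theorem rels491c : allFrom (relsOk cert.rels table) 64 31360 = true := by decide +kernel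

theorem rels492c : allFrom (relsOk cert.rels table) 64 31424 = true := by decide +kernel

theorem rels493c : allFrom (relsOk cert.rels table) 64 31488 = true := by decide +kernel

theorem rels494c : allFrom (relsOk cert.rels table) 64 31552 = true := by decide +kernel

theorem rels495c : allFrom (relsOk cert.rels table) 55 31616 = true := by decide +kernel

theorem orb466c : allFrom (orbOk orbTbl roots cert.sgens table) 64 29760 = true := by decide +kernel

theorem orb467c : allFrom (orbOk orbTbl roots cert.sgens table) 64 29824 = true := by decide +kernel

theorem orb468c : allFrom (orbOk orbTbl roots cert.sgens table) 64 29888 = true := by decide +kernel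

theorem orb469c : allFrom (orbOk orbTbl roots cert.sgens table) 64 29952 = true := by decide +kernel

theorem orb470c : allFrom (orbOk orbTbl roots cert.sgens table) 64 30016 = true := by decide +kernel

theorem orb471c : allFrom (orbOk orbTbl roots cert.sgens table) 64 30080 = true := by decide +kernel

theorem orb472c : allFrom (orbOk orbTbl roots cert.sgens table) 64 30144 = true := by decide +kernel

theorem orb473c : allFrom (orbOk orbTbl roots cert.sgens table) 64 30208 = true := by decide +kernel

theorem orb474c : allFrom (orbOk orbTbl roots cert.sgens table) 64 30272 = true := by decide +kernel

theorem orb475c : allFrom (orbOk orbTbl roots cert.sgens table) 64 30336 = true := by decide +kernel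

theorem orb476c : allFrom (orbOk orbTbl roots cert.sgens table) 64 30400 = true := by decide +kernel

theorem orb477c : allFrom (orbOk orbTbl roots cert.sgens table) 64 30464 = true := by decide +kernel

theorem orb478c : allFrom (orbOk orbTbl roots cert.sgens table) 64 30528 = true := by decide +kernel

theorem orb479c : allFrom (orbOk orbTbl roots cert.sgens table) 64 30592 = true := by decide +kernel

theorem orb480c : allFrom (orbOk orbTbl roots cert.sgens table) 64 30656 = true := by decide +kernel

theorem orb481c : allFrom (orbOk orbTbl roots cert.sgens table) 64 30720 = true := by decide +kernel

theorem orb482c : allFrom (orbOk orbTbl roots cert.sgens table) 64 30784 = true := by decide +kernel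

theorem orb483c : allFrom (orbOk orbTbl roots cert.sgens table) 64 30848 = true := by decide +kernel

theorem orb484c : allFrom (orbOk orbTbl roots cert.sgens table) 64 30912 = true := by decide +kernel

theorem orb485c : allFrom (orbOk orbTbl roots cert.sgens table) 64 30976 = true := by decide +kernel

theorem orb486c : allFrom (orbOk orbTbl roots cert.sgens table) 64 31040 = true := by decide +kernel

theorem orb487c : allFrom (orbOk orbTbl roots cert.sgens table) 64 31104 = true := by decide +kernel

theorem orb488c : allFrom (orbOk orbTbl roots cert.sgens table) 64 31168 = true := by decide +kernel

theorem orb489c : allFrom (orbOk orbTbl roots cert.sgens table) 64 31232 = true := by decide +kernel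

theorem orb490c : allFrom (orbOk orbTbl roots cert.sgens table) 64 31296 = true := by decide +kernel

theorem orb491c : allFrom (orbOk orbTbl roots cert.sgens table) 64 31360 = true := by decide +kernel

theorem orb492c : allFrom (orbOk orbTbl roots cert.sgens table) 64 31424 = true := by decide +kernel

theorem orb493c : allFrom (orbOk orbTbl roots cert.sgens table) 64 31488 = true := by decide +kernel

theorem orb494c : allFrom (orbOk orbTbl roots cert.sgens table) 64 31552 = true := by decide +kernel

theorem orb495c : allFrom (orbOk orbTbl roots cert.sgens table) 55 31616 = true := by decide +kernel

end Cfsg.Agent.CosetCertFi23FP15
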