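import Cfsg.Agent.Lib.CosetCertFi23FData

/-! Part of the checks of a coset enumeration in the presented group Fi23. -/

set_option autoImplicit false
set_option maxRecDepth 100000
set_option Elab.async false

namespace Cfsg.Agent.CosetCertFi23FP4

open Cfsg.Agent.CosetCertCore Cfsg.Agent.CosetCertTable Cfsg.Agent.CosetCertPres Cfsg.Agent.CosetCertFi23FData

theorem points125c : allFrom (pointOk cert 212551 table) 64 7936 = true := by decide +kernel

theorem points126c : allFrom (pointOk cert 212551 table) 64 8000 = true := by decide +kernel

theorem points127c : allFrom (pointOk cert 212551 table) 64 8064 = true := by decide +kernel

theorem points128c : allFrom (pointOk cert 212551 table) 64 8128 = true := by decide +kernel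

theorem points129c : allFrom (pointOk cert 212551 table) 64 8192 = true := by decide +kernel

theorem points130c : allFrom (pointOk cert 212551 table) 64 8256 = true := by decide +kernel

theorem points131c : allFrom (pointOk cert 212551 table) 64 8320 = true := by decide +kernel

theorem points132c : allFrom (pointOk cert 212551 table) 64 8384 = true := by decide +kernel

theorem points133c : allFrom (pointOk cert 212551 table) 64 8448 = true := by decide +kernel

theorem points134c : allFrom (pointOk cert 212551 table) 64 8512 = true := by decide +kernel

theorem points135c : allFrom (pointOk cert 212551 table) 64 8576 = true := by decide +kernel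

theorem points136c : allFrom (pointOk cert 212551 table) 64 8640 = true := by decide +kernel

theorem points137c : allFrom (pointOk cert 212551 table) 64 8704 = true := by decide +kernel

theorem points138c : allFrom (pointOk cert 212551 table) 64 8768 = true := by decide +kernel

theorem points139c : allFrom (pointOk cert 212551 table) 64 8832 = true := by decide +kernel

theorem points140c : allFrom (pointOk cert 212551 table) 64 8896 = true := by decide +kernel

theorem points141c : allFrom (pointOk cert 212551 table) 64 8960 = true := by decide +kernel

theorem points142c : allFrom (pointOk cert 212551 table) 64 9024 = true := by decide +kernel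

theorem points143c : allFrom (pointOk cert 212551 table) 64 9088 = true := by decide +kernel

theorem points144c : allFrom (pointOk cert 212551 table) 64 9152 = true := by decide +kernel

theorem points145c : allFrom (pointOk cert 212551 table) 64 9216 = true := by decide +kernel

theorem points146c : allFrom (pointOk cert 212551 table) 64 9280 = true := by decide +kernel

theorem points147c : allFrom (pointOk cert 212551 table) 64 9344 = true := by decide +kernel

theorem points148c : allFrom (pointOk cert 212551 table) 64 9408 = true := by decide +kernel

theorem points149c : allFrom (pointOk cert 212551 table) 64 9472 = true := by decide +kernel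

theorem points150c : allFrom (pointOk cert 212551 table) 64 9536 = true := by decide +kernel

theorem points151c : allFrom (pointOk cert 212551 table) 64 9600 = true := by decide +kernel

theorem points152c : allFrom (pointOk cert 212551 table) 64 9664 = true := by decide +kernel

theorem points153c : allFrom (pointOk cert 212551 table) 64 9728 = true := by decide +kernel

theorem points154c : allFrom (pointOk cert 212551 table) 64 9792 = true := by decide +kernel

theorem points155c : allFrom (pointOk cert 212551 table) 64 9856 = true := by decide +kernel

theorem rels125c : allFrom (relsOk cert.rels table) 64 7936 = true := by decide +kernel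

theorem rels126c : allFrom (relsOk cert.rels table) 64 8000 = true := by decide +kernel

theorem rels127c : allFrom (relsOk cert.rels table) 64 8064 = true := by decide +kernel

theorem rels128c : allFrom (relsOk cert.rels table) 64 8128 = true := by decide +kernel

theorem rels129c : allFrom (relsOk cert.rels table) 64 8192 = true := by decide +kernel

theorem rels130c : allFrom (relsOk cert.rels table) 64 8256 = true := by decide +kernel

theorem rels131c : allFrom (relsOk cert.rels table) 64 8320 = true := by decide +kernel

theorem rels132c : allFrom (relsOk cert.rels table) 64 8384 = true := by decide +kernel

theorem rels133c : allFrom (relsOk cert.rels table) 64 8448 = true := by decide +kernel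

theorem rels134c : allFrom (relsOk cert.rels table) 64 8512 = true := by decide +kernel

theorem rels135c : allFrom (relsOk cert.rels table) 64 8576 = true := by decide +kernel

theorem rels136c : allFrom (relsOk cert.rels table) 64 8640 = true := by decide +kernel

theorem rels137c : allFrom (relsOk cert.rels table) 64 8704 = true := by decide +kernel

theorem rels138c : allFrom (relsOk cert.rels table) 64 8768 = true := by decide +kernel

theorem rels139c : allFrom (relsOk cert.rels table) 64 8832 = true := by decide +kernel

theorem rels140c : allFrom (relsOk cert.rels table) 64 8896 = true := by decide +kernel

theorem rels141c : allFrom (relsOk cert.rels table) 64 8960 = true := by decide +kernel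

theorem rels142c : allFrom (relsOk cert.rels table) 64 9024 = true := by decide +kernel

theorem rels143c : allFrom (relsOk cert.rels table) 64 9088 = true := by decide +kernel

theorem rels144c : allFrom (relsOk cert.rels table) 64 9152 = true := by decide +kernel

theorem rels145c : allFrom (relsOk cert.rels table) 64 9216 = true := by decide +kernel

theorem rels146c : allFrom (relsOk cert.rels table) 64 9280 = true := by decide +kernel

theorem rels147c : allFrom (relsOk cert.rels table) 64 9344 = true := by decide +kernel

theorem rels148c : allFrom (relsOk cert.rels table) 64 9408 = true := by decide +kernel

theorem rels149c : allFrom (relsOk cert.rels table) 64 9472 = true := by decide +kernel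

theorem rels150c : allFrom (relsOk cert.rels table) 64 9536 = true := by decide +kernel

theorem rels151c : allFrom (relsOk cert.rels table) 64 9600 = true := by decide +kernel

theorem rels152c : allFrom (relsOk cert.rels table) 64 9664 = true := by decide +kernel

theorem rels153c : allFrom (relsOk cert.rels table) 64 9728 = true := by decide +kernel

theorem rels154c : allFrom (relsOk cert.rels table) 64 9792 = true := by decide +kernel

theorem rels155c : allFrom (relsOk cert.rels table) 64 9856 = true := by decide +kernel

theorem orb125c : allFrom (orbOk orbTbl roots cert.sgens table) 64 7936 = true := by decide +kernel

theorem orb126c : allFrom (orbOk orbTbl roots cert.sgens table) 64 8000 = true := by decide +kernel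

theorem orb127c : allFrom (orbOk orbTbl roots cert.sgens table) 64 8064 = true := by decide +kernel

theorem orb128c : allFrom (orbOk orbTbl roots cert.sgens table) 64 8128 = true := by decide +kernel

theorem orb129c : allFrom (orbOk orbTbl roots cert.sgens table) 64 8192 = true := by decide +kernel

theorem orb130c : allFrom (orbOk orbTbl roots cert.sgens table) 64 8256 = true := by decide +kernel

theorem orb131c : allFrom (orbOk orbTbl roots cert.sgens table) 64 8320 = true := by decide +kernel

theorem orb132c : allFrom (orbOk orbTbl roots cert.sgens table) 64 8384 = true := by decide +kernel

theorem orb133c : allFrom (orbOk orbTbl roots cert.sgens table) 64 8448 = true := by decide +kernel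

theorem orb134c : allFrom (orbOk orbTbl roots cert.sgens table) 64 8512 = true := by decide +kernel

theorem orb135c : allFrom (orbOk orbTbl roots cert.sgens table) 64 8576 = true := by decide +kernel

theorem orb136c : allFrom (orbOk orbTbl roots cert.sgens table) 64 8640 = true := by decide +kernel

theorem orb137c : allFrom (orbOk orbTbl roots cert.sgens table) 64 8704 = true := by decide +kernel

theorem orb138c : allFrom (orbOk orbTbl roots cert.sgens table) 64 8768 = true := by decide +kernel

theorem orb139c : allFrom (orbOk orbTbl roots cert.sgens table) 64 8832 = true := by decide +kernel

theorem orb140c : allFrom (orbOk orbTbl roots cert.sgens table) 64 8896 = true := by decide +kernel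

theorem orb141c : allFrom (orbOk orbTbl roots cert.sgens table) 64 8960 = true := by decide +kernel

theorem orb142c : allFrom (orbOk orbTbl roots cert.sgens table) 64 9024 = true := by decide +kernel

theorem orb143c : allFrom (orbOk orbTbl roots cert.sgens table) 64 9088 = true := by decide +kernel

theorem orb144c : allFrom (orbOk orbTbl roots cert.sgens table) 64 9152 = true := by decide +kernel

theorem orb145c : allFrom (orbOk orbTbl roots cert.sgens table) 64 9216 = true := by decide +kernel

theorem orb146c : allFrom (orbOk orbTbl roots cert.sgens table) 64 9280 = true := by decide +kernel

theorem orb147c : allFrom (orbOk orbTbl roots cert.sgens table) 64 9344 = true := by decide +kernel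

theorem orb148c : allFrom (orbOk orbTbl roots cert.sgens table) 64 9408 = true := by decide +kernel

theorem orb149c : allFrom (orbOk orbTbl roots cert.sgens table) 64 9472 = true := by decide +kernel

theorem orb150c : allFrom (orbOk orbTbl roots cert.sgens table) 64 9536 = true := by decide +kernel

theorem orb151c : allFrom (orbOk orbTbl roots cert.sgens table) 64 9600 = true := by decide +kernel

theorem orb152c : allFrom (orbOk orbTbl roots cert.sgens table) 64 9664 = true := by decide +kernel

theorem orb153c : allFrom (orbOk orbTbl roots cert.sgens table) 64 9728 = true := by decide +kernel

theorem orb154c : allFrom (orbOk orbTbl roots cert.sgens table) 64 9792 = true := by decide +kernel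

theorem orb155c : allFrom (orbOk orbTbl roots cert.sgens table) 64 9856 = true := by decide +kernel

end Cfsg.Agent.CosetCertFi23FP4
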