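import Cfsg.Agent.Lib.CosetCertFi23FData

/-! Part of the checks of a coset enumeration in the presented group Fi23. -/

set_option autoImplicit false
set_option maxRecDepth 100000
set_option Elab.async false

namespace Cfsg.Agent.CosetCertFi23FP8

open Cfsg.Agent.CosetCertCore Cfsg.Agent.CosetCertTable Cfsg.Agent.CosetCertPres Cfsg.Agent.CosetCertFi23FData

theorem points249c : allFrom (pointOk cert 212551 table) 64 15872 = true := by decide +kernel

theorem points250c : allFrom (pointOk cert 212551 table) 64 15936 = true := by decide +kernel

theorem points251c : allFrom (pointOk cert 212551 table) 64 16000 = true := by decide +kernel

theorem points252c : allFrom (pointOk cert 212551 table) 64 16064 = true := by decide +kernel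

theorem points253c : allFrom (pointOk cert 212551 table) 64 16128 = true := by decide +kernel

theorem points254c : allFrom (pointOk cert 212551 table) 64 16192 = true := by decide +kernel

theorem points255c : allFrom (pointOk cert 212551 table) 64 16256 = true := by decide +kernel

theorem points256c : allFrom (pointOk cert 212551 table) 64 16320 = true := by decide +kernel

theorem points257c : allFrom (pointOk cert 212551 table) 64 16384 = true := by decide +kernel

theorem points258c : allFrom (pointOk cert 212551 table) 64 16448 = true := by decide +kernel

theorem points259c : allFrom (pointOk cert 212551 table) 64 16512 = true := by decide +kernel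

theorem points260c : allFrom (pointOk cert 212551 table) 64 16576 = true := by decide +kernel

theorem points261c : allFrom (pointOk cert 212551 table) 64 16640 = true := by decide +kernel

theorem points262c : allFrom (pointOk cert 212551 table) 64 16704 = true := by decide +kernel

theorem points263c : allFrom (pointOk cert 212551 table) 64 16768 = true := by decide +kernel

theorem points264c : allFrom (pointOk cert 212551 table) 64 16832 = true := by decide +kernel

theorem points265c : allFrom (pointOk cert 212551 table) 64 16896 = true := by decide +kernel

theorem points266c : allFrom (pointOk cert 212551 table) 64 16960 = true := by decide +kernel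

theorem points267c : allFrom (pointOk cert 212551 table) 64 17024 = true := by decide +kernel

theorem points268c : allFrom (pointOk cert 212551 table) 64 17088 = true := by decide +kernel

theorem points269c : allFrom (pointOk cert 212551 table) 64 17152 = true := by decide +kernel

theorem points270c : allFrom (pointOk cert 212551 table) 64 17216 = true := by decide +kernel

theorem points271c : allFrom (pointOk cert 212551 table) 64 17280 = true := by decide +kernel

theorem points272c : allFrom (pointOk cert 212551 table) 64 17344 = true := by decide +kernel

theorem points273c : allFrom (pointOk cert 212551 table) 64 17408 = true := by decide +kernel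

theorem points274c : allFrom (pointOk cert 212551 table) 64 17472 = true := by decide +kernel

theorem points275c : allFrom (pointOk cert 212551 table) 64 17536 = true := by decide +kernel

theorem points276c : allFrom (pointOk cert 212551 table) 64 17600 = true := by decide +kernel

theorem points277c : allFrom (pointOk cert 212551 table) 64 17664 = true := by decide +kernel

theorem points278c : allFrom (pointOk cert 212551 table) 64 17728 = true := by decide +kernel

theorem points279c : allFrom (pointOk cert 212551 table) 64 17792 = true := by decide +kernel

theorem rels249c : allFrom (relsOk cert.rels table) 64 15872 = true := by decide +kernel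

theorem rels250c : allFrom (relsOk cert.rels table) 64 15936 = true := by decide +kernel

theorem rels251c : allFrom (relsOk cert.rels table) 64 16000 = true := by decide +kernel

theorem rels252c : allFrom (relsOk cert.rels table) 64 16064 = true := by decide +kernel

theorem rels253c : allFrom (relsOk cert.rels table) 64 16128 = true := by decide +kernel

theorem rels254c : allFrom (relsOk cert.rels table) 64 16192 = true := by decide +kernel

theorem rels255c : allFrom (relsOk cert.rels table) 64 16256 = true := by decide +kernel

theorem rels256c : allFrom (relsOk cert.rels table) 64 16320 = true := by decide +kernel

theorem rels257c : allFrom (relsOk cert.rels table) 64 16384 = true := by decide +kernel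

theorem rels258c : allFrom (relsOk cert.rels table) 64 16448 = true := by decide +kernel

theorem rels259c : allFrom (relsOk cert.rels table) 64 16512 = true := by decide +kernel

theorem rels260c : allFrom (relsOk cert.rels table) 64 16576 = true := by decide +kernel

theorem rels261c : allFrom (relsOk cert.rels table) 64 16640 = true := by decide +kernel

theorem rels262c : allFrom (relsOk cert.rels table) 64 16704 = true := by decide +kernel

theorem rels263c : allFrom (relsOk cert.rels table) 64 16768 = true := by decide +kernel

theorem rels264c : allFrom (relsOk cert.rels table) 64 16832 = true := by decide +kernel

theorem rels265c : allFrom (relsOk cert.rels table) 64 16896 = true := by decide +kernel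

theorem rels266c : allFrom (relsOk cert.rels table) 64 16960 = true := by decide +kernel

theorem rels267c : allFrom (relsOk cert.rels table) 64 17024 = true := by decide +kernel

theorem rels268c : allFrom (relsOk cert.rels table) 64 17088 = true := by decide +kernel

theorem rels269c : allFrom (relsOk cert.rels table) 64 17152 = true := by decide +kernel

theorem rels270c : allFrom (relsOk cert.rels table) 64 17216 = true := by decide +kernel

theorem rels271c : allFrom (relsOk cert.rels table) 64 17280 = true := by decide +kernel

theorem rels272c : allFrom (relsOk cert.rels table) 64 17344 = true := by decide +kernel

theorem rels273c : allFrom (relsOk cert.rels table) 64 17408 = true := by decide +kernel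

theorem rels274c : allFrom (relsOk cert.rels table) 64 17472 = true := by decide +kernel

theorem rels275c : allFrom (relsOk cert.rels table) 64 17536 = true := by decide +kernel

theorem rels276c : allFrom (relsOk cert.rels table) 64 17600 = true := by decide +kernel

theorem rels277c : allFrom (relsOk cert.rels table) 64 17664 = true := by decide +kernel

theorem rels278c : allFrom (relsOk cert.rels table) 64 17728 = true := by decide +kernel

theorem rels279c : allFrom (relsOk cert.rels table) 64 17792 = true := by decide +kernel

theorem orb249c : allFrom (orbOk orbTbl roots cert.sgens table) 64 15872 = true := by decide +kernel

theorem orb250c : allFrom (orbOk orbTbl roots cert.sgens table) 64 15936 = true := by decide +kernel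

theorem orb251c : allFrom (orbOk orbTbl roots cert.sgens table) 64 16000 = true := by decide +kernel

theorem orb252c : allFrom (orbOk orbTbl roots cert.sgens table) 64 16064 = true := by decide +kernel

theorem orb253c : allFrom (orbOk orbTbl roots cert.sgens table) 64 16128 = true := by decide +kernel

theorem orb254c : allFrom (orbOk orbTbl roots cert.sgens table) 64 16192 = true := by decide +kernel

theorem orb255c : allFrom (orbOk orbTbl roots cert.sgens table) 64 16256 = true := by decide +kernel

theorem orb256c : allFrom (orbOk orbTbl roots cert.sgens table) 64 16320 = true := by decide +kernel

theorem orb257c : allFrom (orbOk orbTbl roots cert.sgens table) 64 16384 = true := by decide +kernel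

theorem orb258c : allFrom (orbOk orbTbl roots cert.sgens table) 64 16448 = true := by decide +kernel

theorem orb259c : allFrom (orbOk orbTbl roots cert.sgens table) 64 16512 = true := by decide +kernel

theorem orb260c : allFrom (orbOk orbTbl roots cert.sgens table) 64 16576 = true := by decide +kernel

theorem orb261c : allFrom (orbOk orbTbl roots cert.sgens table) 64 16640 = true := by decide +kernel

theorem orb262c : allFrom (orbOk orbTbl roots cert.sgens table) 64 16704 = true := by decide +kernel

theorem orb263c : allFrom (orbOk orbTbl roots cert.sgens table) 64 16768 = true := by decide +kernel

theorem orb264c : allFrom (orbOk orbTbl roots cert.sgens table) 64 16832 = true := by decide +kernel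

theorem orb265c : allFrom (orbOk orbTbl roots cert.sgens table) 64 16896 = true := by decide +kernel

theorem orb266c : allFrom (orbOk orbTbl roots cert.sgens table) 64 16960 = true := by decide +kernel

theorem orb267c : allFrom (orbOk orbTbl roots cert.sgens table) 64 17024 = true := by decide +kernel

theorem orb268c : allFrom (orbOk orbTbl roots cert.sgens table) 64 17088 = true := by decide +kernel

theorem orb269c : allFrom (orbOk orbTbl roots cert.sgens table) 64 17152 = true := by decide +kernel

theorem orb270c : allFrom (orbOk orbTbl roots cert.sgens table) 64 17216 = true := by decide +kernel

theorem orb271c : allFrom (orbOk orbTbl roots cert.sgens table) 64 17280 = true := by decide +kernel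

theorem orb272c : allFrom (orbOk orbTbl roots cert.sgens table) 64 17344 = true := by decide +kernel

theorem orb273c : allFrom (orbOk orbTbl roots cert.sgens table) 64 17408 = true := by decide +kernel

theorem orb274c : allFrom (orbOk orbTbl roots cert.sgens table) 64 17472 = true := by decide +kernel

theorem orb275c : allFrom (orbOk orbTbl roots cert.sgens table) 64 17536 = true := by decide +kernel

theorem orb276c : allFrom (orbOk orbTbl roots cert.sgens table) 64 17600 = true := by decide +kernel

theorem orb277c : allFrom (orbOk orbTbl roots cert.sgens table) 64 17664 = true := by decide +kernel

theorem orb278c : allFrom (orbOk orbTbl roots cert.sgens table) 64 17728 = true := by decide +kernel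

theorem orb279c : allFrom (orbOk orbTbl roots cert.sgens table) 64 17792 = true := by decide +kernel

end Cfsg.Agent.CosetCertFi23FP8
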