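import Cfsg.Agent.Lib.CosetCertFi23FData

/-! Part of the checks of a coset enumeration in the presented group Fi23. -/

set_option autoImplicit false
set_option maxRecDepth 100000
set_option Elab.async false

namespace Cfsg.Agent.CosetCertFi23FP9

open Cfsg.Agent.CosetCertCore Cfsg.Agent.CosetCertTable Cfsg.Agent.CosetCertPres Cfsg.Agent.CosetCertFi23FData

theorem points280c : allFrom (pointOk cert 212551 table) 64 17856 = true := by decide +kernel

theorem points281c : allFrom (pointOk cert 212551 table) 64 17920 = true := by decide +kernel

theorem points282c : allFrom (pointOk cert 212551 table) 64 17984 = true := by decide +kernel

theorem points283c : allFrom (pointOk cert 212551 table) 64 18048 = true := by decide +kernel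

theorem points284c : allFrom (pointOk cert 212551 table) 64 18112 = true := by decide +kernel

theorem points285c : allFrom (pointOk cert 212551 table) 64 18176 = true := by decide +kernel

theorem points286c : allFrom (pointOk cert 212551 table) 64 18240 = true := by decide +kernel

theorem points287c : allFrom (pointOk cert 212551 table) 64 18304 = true := by decide +kernel

theorem points288c : allFrom (pointOk cert 212551 table) 64 18368 = true := by decide +kernel

theorem points289c : allFrom (pointOk cert 212551 table) 64 18432 = true := by decide +kernel

theorem points290c : allFrom (pointOk cert 212551 table) 64 18496 = true := by decide +kernel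

theorem points291c : allFrom (pointOk cert 212551 table) 64 18560 = true := by decide +kernel

theorem points292c : allFrom (pointOk cert 212551 table) 64 18624 = true := by decide +kernel

theorem points293c : allFrom (pointOk cert 212551 table) 64 18688 = true := by decide +kernel

theorem points294c : allFrom (pointOk cert 212551 table) 64 18752 = true := by decide +kernel

theorem points295c : allFrom (pointOk cert 212551 table) 64 18816 = true := by decide +kernel

theorem points296c : allFrom (pointOk cert 212551 table) 64 18880 = true := by decide +kernel

theorem points297c : allFrom (pointOk cert 212551 table) 64 18944 = true := by decide +kernel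

theorem points298c : allFrom (pointOk cert 212551 table) 64 19008 = true := by decide +kernel

theorem points299c : allFrom (pointOk cert 212551 table) 64 19072 = true := by decide +kernel

theorem points300c : allFrom (pointOk cert 212551 table) 64 19136 = true := by decide +kernel

theorem points301c : allFrom (pointOk cert 212551 table) 64 19200 = true := by decide +kernel

theorem points302c : allFrom (pointOk cert 212551 table) 64 19264 = true := by decide +kernel

theorem points303c : allFrom (pointOk cert 212551 table) 64 19328 = true := by decide +kernel

theorem points304c : allFrom (pointOk cert 212551 table) 64 19392 = true := by decide +kernel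

theorem points305c : allFrom (pointOk cert 212551 table) 64 19456 = true := by decide +kernel

theorem points306c : allFrom (pointOk cert 212551 table) 64 19520 = true := by decide +kernel

theorem points307c : allFrom (pointOk cert 212551 table) 64 19584 = true := by decide +kernel

theorem points308c : allFrom (pointOk cert 212551 table) 64 19648 = true := by decide +kernel

theorem points309c : allFrom (pointOk cert 212551 table) 64 19712 = true := by decide +kernel

theorem points310c : allFrom (pointOk cert 212551 table) 64 19776 = true := by decide +kernel

theorem rels280c : allFrom (relsOk cert.rels table) 64 17856 = true := by decide +kernel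

theorem rels281c : allFrom (relsOk cert.rels table) 64 17920 = true := by decide +kernel

theorem rels282c : allFrom (relsOk cert.rels table) 64 17984 = true := by decide +kernel

theorem rels283c : allFrom (relsOk cert.rels table) 64 18048 = true := by decide +kernel

theorem rels284c : allFrom (relsOk cert.rels table) 64 18112 = true := by decide +kernel

theorem rels285c : allFrom (relsOk cert.rels table) 64 18176 = true := by decide +kernel

theorem rels286c : allFrom (relsOk cert.rels table) 64 18240 = true := by decide +kernel

theorem rels287c : allFrom (relsOk cert.rels table) 64 18304 = true := by decide +kernel

theorem rels288c : allFrom (relsOk cert.rels table) 64 18368 = true := by decide +kernel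

theorem rels289c : allFrom (relsOk cert.rels table) 64 18432 = true := by decide +kernel

theorem rels290c : allFrom (relsOk cert.rels table) 64 18496 = true := by decide +kernel

theorem rels291c : allFrom (relsOk cert.rels table) 64 18560 = true := by decide +kernel

theorem rels292c : allFrom (relsOk cert.rels table) 64 18624 = true := by decide +kernel

theorem rels293c : allFrom (relsOk cert.rels table) 64 18688 = true := by decide +kernel

theorem rels294c : allFrom (relsOk cert.rels table) 64 18752 = true := by decide +kernel

theorem rels295c : allFrom (relsOk cert.rels table) 64 18816 = true := by decide +kernel

theorem rels296c : allFrom (relsOk cert.rels table) 64 18880 = true := by decide +kernel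

theorem rels297c : allFrom (relsOk cert.rels table) 64 18944 = true := by decide +kernel

theorem rels298c : allFrom (relsOk cert.rels table) 64 19008 = true := by decide +kernel

theorem rels299c : allFrom (relsOk cert.rels table) 64 19072 = true := by decide +kernel

theorem rels300c : allFrom (relsOk cert.rels table) 64 19136 = true := by decide +kernel

theorem rels301c : allFrom (relsOk cert.rels table) 64 19200 = true := by decide +kernel

theorem rels302c : allFrom (relsOk cert.rels table) 64 19264 = true := by decide +kernel

theorem rels303c : allFrom (relsOk cert.rels table) 64 19328 = true := by decide +kernel

theorem rels304c : allFrom (relsOk cert.rels table) 64 19392 = true := by decide +kernel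

theorem rels305c : allFrom (relsOk cert.rels table) 64 19456 = true := by decide +kernel

theorem rels306c : allFrom (relsOk cert.rels table) 64 19520 = true := by decide +kernel

theorem rels307c : allFrom (relsOk cert.rels table) 64 19584 = true := by decide +kernel

theorem rels308c : allFrom (relsOk cert.rels table) 64 19648 = true := by decide +kernel

theorem rels309c : allFrom (relsOk cert.rels table) 64 19712 = true := by decide +kernel

theorem rels310c : allFrom (relsOk cert.rels table) 64 19776 = true := by decide +kernel

theorem orb280c : allFrom (orbOk orbTbl roots cert.sgens table) 64 17856 = true := by decide +kernel

theorem orb281c : allFrom (orbOk orbTbl roots cert.sgens table) 64 17920 = true := by decide +kernel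

theorem orb282c : allFrom (orbOk orbTbl roots cert.sgens table) 64 17984 = true := by decide +kernel

theorem orb283c : allFrom (orbOk orbTbl roots cert.sgens table) 64 18048 = true := by decide +kernel

theorem orb284c : allFrom (orbOk orbTbl roots cert.sgens table) 64 18112 = true := by decide +kernel

theorem orb285c : allFrom (orbOk orbTbl roots cert.sgens table) 64 18176 = true := by decide +kernel

theorem orb286c : allFrom (orbOk orbTbl roots cert.sgens table) 64 18240 = true := by decide +kernel

theorem orb287c : allFrom (orbOk orbTbl roots cert.sgens table) 64 18304 = true := by decide +kernel

theorem orb288c : allFrom (orbOk orbTbl roots cert.sgens table) 64 18368 = true := by decide +kernel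

theorem orb289c : allFrom (orbOk orbTbl roots cert.sgens table) 64 18432 = true := by decide +kernel

theorem orb290c : allFrom (orbOk orbTbl roots cert.sgens table) 64 18496 = true := by decide +kernel

theorem orb291c : allFrom (orbOk orbTbl roots cert.sgens table) 64 18560 = true := by decide +kernel

theorem orb292c : allFrom (orbOk orbTbl roots cert.sgens table) 64 18624 = true := by decide +kernel

theorem orb293c : allFrom (orbOk orbTbl roots cert.sgens table) 64 18688 = true := by decide +kernel

theorem orb294c : allFrom (orbOk orbTbl roots cert.sgens table) 64 18752 = true := by decide +kernel

theorem orb295c : allFrom (orbOk orbTbl roots cert.sgens table) 64 18816 = true := by decide +kernel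

theorem orb296c : allFrom (orbOk orbTbl roots cert.sgens table) 64 18880 = true := by decide +kernel

theorem orb297c : allFrom (orbOk orbTbl roots cert.sgens table) 64 18944 = true := by decide +kernel

theorem orb298c : allFrom (orbOk orbTbl roots cert.sgens table) 64 19008 = true := by decide +kernel

theorem orb299c : allFrom (orbOk orbTbl roots cert.sgens table) 64 19072 = true := by decide +kernel

theorem orb300c : allFrom (orbOk orbTbl roots cert.sgens table) 64 19136 = true := by decide +kernel

theorem orb301c : allFrom (orbOk orbTbl roots cert.sgens table) 64 19200 = true := by decide +kernel

theorem orb302c : allFrom (orbOk orbTbl roots cert.sgens table) 64 19264 = true := by decide +kernel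

theorem orb303c : allFrom (orbOk orbTbl roots cert.sgens table) 64 19328 = true := by decide +kernel

theorem orb304c : allFrom (orbOk orbTbl roots cert.sgens table) 64 19392 = true := by decide +kernel

theorem orb305c : allFrom (orbOk orbTbl roots cert.sgens table) 64 19456 = true := by decide +kernel

theorem orb306c : allFrom (orbOk orbTbl roots cert.sgens table) 64 19520 = true := by decide +kernel

theorem orb307c : allFrom (orbOk orbTbl roots cert.sgens table) 64 19584 = true := by decide +kernel

theorem orb308c : allFrom (orbOk orbTbl roots cert.sgens table) 64 19648 = true := by decide +kernel

theorem orb309c : allFrom (orbOk orbTbl roots cert.sgens table) 64 19712 = true := by decide +kernel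

theorem orb310c : allFrom (orbOk orbTbl roots cert.sgens table) 64 19776 = true := by decide +kernel

end Cfsg.Agent.CosetCertFi23FP9
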