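import Cfsg.Agent.Lib.CosetCertFi23FC0
import Cfsg.Agent.Lib.CosetCertFi23FC1
import Cfsg.Agent.Lib.CosetCertFi23FC2
import Cfsg.Agent.Lib.CosetCertFi23FC3
import Cfsg.Agent.Lib.CosetCertFi23FC4
import Cfsg.Agent.Lib.CosetCertFi23FC5
import Cfsg.Agent.Lib.CosetCertFi23FC6
import Cfsg.Agent.Lib.CosetCertFi23FC7
import Cfsg.Agent.Lib.CosetCertFi23FC8
import Cfsg.Agent.Lib.CosetCertFi23FC9
import Cfsg.Agent.Lib.CosetCertFi23FC10
import Cfsg.Agent.Lib.CosetCertFi23FP0
import Cfsg.Agent.Lib.CosetCertFi23FP1
import Cfsg.Agent.Lib.CosetCertFi23FP2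
import Cfsg.Agent.Lib.CosetCertFi23FP3
import Cfsg.Agent.Lib.CosetCertFi23FP4
import Cfsg.Agent.Lib.CosetCertFi23FP5
import Cfsg.Agent.Lib.CosetCertFi23FP6
import Cfsg.Agent.Lib.CosetCertFi23FP7
import Cfsg.Agent.Lib.CosetCertFi23FP8
import Cfsg.Agent.Lib.CosetCertFi23FP9
import Cfsg.Agent.Lib.CosetCertFi23FP10
import Cfsg.Agent.Lib.CosetCertFi23FP11
import Cfsg.Agent.Lib.CosetCertFi23FP12
import Cfsg.Agent.Lib.CosetCertFi23FP13
import Cfsg.Agent.Lib.CosetCertFi23FP14
import Cfsg.Agent.Lib.CosetCertFi23FP15


/-! Checks of a coset enumeration in the presented group Fi23. -/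

set_option autoImplicit false
set_option maxRecDepth 100000

namespace Cfsg.Agent.CosetCertFi23F

open Cfsg.Agent.CosetCertCore Cfsg.Agent.CosetCertTable Cfsg.Agent.CosetCertPres Cfsg.Agent.CosetCertFi23FData

/-- The facts hold up to `n`. -/
def Valid (n : Nat) : Prop :=
  ∀ {G X : Type} [Group G] [MulAction G X] (g : Nat → G) (base : X),
    Ctx g base cert → AllValid g (nodeVal g base cert) cert n

theorem Valid.step {lo n : Nat} (h : Valid lo) (L : List Nat)
    (hn : (Nat.beq (lo + L.length) n && checkList cert L lo) = true) : Valid n := by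
  rw [Bool.and_eq_true, Nat.beq_eq] at hn
  intro G X _ _ g base hC
  exact hn.1 ▸ checkList_sound g base hC L lo (h g base hC) hn.2

theorem valid0 : Valid 0 := fun _ _ _ _ h => absurd h (Nat.not_lt_zero _)

theorem valid1 : Valid 256 := valid0.step Cfsg.Agent.CosetCertFi23FC0.just0 Cfsg.Agent.CosetCertFi23FC0.check0

theorem valid2 : Valid 512 := valid1.step Cfsg.Agent.CosetCertFi23FC0.just1 Cfsg.Agent.CosetCertFi23FC0.check1

theorem valid3 : Valid 768 := valid2.step Cfsg.Agent.CosetCertFi23FC0.just2 Cfsg.Agent.CosetCertFi23FC0.check2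

theorem valid4 : Valid 1024 := valid3.step Cfsg.Agent.CosetCertFi23FC0.just3 Cfsg.Agent.CosetCertFi23FC0.check3

theorem valid5 : Valid 1280 := valid4.step Cfsg.Agent.CosetCertFi23FC0.just4 Cfsg.Agent.CosetCertFi23FC0.check4

theorem valid6 : Valid 1536 := valid5.step Cfsg.Agent.CosetCertFi23FC0.just5 Cfsg.Agent.CosetCertFi23FC0.check5

theorem valid7 : Valid 1792 := valid6.step Cfsg.Agent.CosetCertFi23FC0.just6 Cfsg.Agent.CosetCertFi23FC0.check6

theorem valid8 : Valid 2048 := valid7.step Cfsg.Agent.CosetCertFi23FC0.just7 Cfsg.Agent.CosetCertFi23FC0.check7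

theorem valid9 : Valid 2304 := valid8.step Cfsg.Agent.CosetCertFi23FC0.just8 Cfsg.Agent.CosetCertFi23FC0.check8

theorem valid10 : Valid 2560 := valid9.step Cfsg.Agent.CosetCertFi23FC0.just9 Cfsg.Agent.CosetCertFi23FC0.check9

theorem valid11 : Valid 2816 := valid10.step Cfsg.Agent.CosetCertFi23FC0.just10 Cfsg.Agent.CosetCertFi23FC0.check10

theorem valid12 : Valid 3072 := valid11.step Cfsg.Agent.CosetCertFi23FC0.just11 Cfsg.Agent.CosetCertFi23FC0.check11

theorem valid13 : Valid 3328 := valid12.step Cfsg.Agent.CosetCertFi23FC0.just12 Cfsg.Agent.CosetCertFi23FC0.check12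

theorem valid14 : Valid 3584 := valid13.step Cfsg.Agent.CosetCertFi23FC0.just13 Cfsg.Agent.CosetCertFi23FC0.check13

theorem valid15 : Valid 3840 := valid14.step Cfsg.Agent.CosetCertFi23FC0.just14 Cfsg.Agent.CosetCertFi23FC0.check14

theorem valid16 : Valid 4096 := valid15.step Cfsg.Agent.CosetCertFi23FC0.just15 Cfsg.Agent.CosetCertFi23FC0.check15

theorem valid17 : Valid 4352 := valid16.step Cfsg.Agent.CosetCertFi23FC0.just16 Cfsg.Agent.CosetCertFi23FC0.check16

theorem valid18 : Valid 4608 := valid17.step Cfsg.Agent.CosetCertFi23FC0.just17 Cfsg.Agent.CosetCertFi23FC0.check17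

theorem valid19 : Valid 4864 := valid18.step Cfsg.Agent.CosetCertFi23FC0.just18 Cfsg.Agent.CosetCertFi23FC0.check18

theorem valid20 : Valid 5120 := valid19.step Cfsg.Agent.CosetCertFi23FC0.just19 Cfsg.Agent.CosetCertFi23FC0.check19

theorem valid21 : Valid 5376 := valid20.step Cfsg.Agent.CosetCertFi23FC0.just20 Cfsg.Agent.CosetCertFi23FC0.check20

theorem valid22 : Valid 5632 := valid21.step Cfsg.Agent.CosetCertFi23FC0.just21 Cfsg.Agent.CosetCertFi23FC0.check21

theorem valid23 : Valid 5888 := valid22.step Cfsg.Agent.CosetCertFi23FC0.just22 Cfsg.Agent.CosetCertFi23FC0.check22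

theorem valid24 : Valid 6144 := valid23.step Cfsg.Agent.CosetCertFi23FC0.just23 Cfsg.Agent.CosetCertFi23FC0.check23

theorem valid25 : Valid 6400 := valid24.step Cfsg.Agent.CosetCertFi23FC0.just24 Cfsg.Agent.CosetCertFi23FC0.check24

theorem valid26 : Valid 6656 := valid25.step Cfsg.Agent.CosetCertFi23FC0.just25 Cfsg.Agent.CosetCertFi23FC0.check25

theorem valid27 : Valid 6912 := valid26.step Cfsg.Agent.CosetCertFi23FC0.just26 Cfsg.Agent.CosetCertFi23FC0.check26

theorem valid28 : Valid 7168 := valid27.step Cfsg.Agent.CosetCertFi23FC0.just27 Cfsg.Agent.CosetCertFi23FC0.check27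

theorem valid29 : Valid 7424 := valid28.step Cfsg.Agent.CosetCertFi23FC0.just28 Cfsg.Agent.CosetCertFi23FC0.check28

theorem valid30 : Valid 7680 := valid29.step Cfsg.Agent.CosetCertFi23FC0.just29 Cfsg.Agent.CosetCertFi23FC0.check29

theorem valid31 : Valid 7936 := valid30.step Cfsg.Agent.CosetCertFi23FC0.just30 Cfsg.Agent.CosetCertFi23FC0.check30

theorem valid32 : Valid 8192 := valid31.step Cfsg.Agent.CosetCertFi23FC0.just31 Cfsg.Agent.CosetCertFi23FC0.check31

theorem valid33 : Valid 8448 := valid32.step Cfsg.Agent.CosetCertFi23FC0.just32 Cfsg.Agent.CosetCertFi23FC0.check32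

theorem valid34 : Valid 8704 := valid33.step Cfsg.Agent.CosetCertFi23FC0.just33 Cfsg.Agent.CosetCertFi23FC0.check33

theorem valid35 : Valid 8960 := valid34.step Cfsg.Agent.CosetCertFi23FC0.just34 Cfsg.Agent.CosetCertFi23FC0.check34

theorem valid36 : Valid 9216 := valid35.step Cfsg.Agent.CosetCertFi23FC0.just35 Cfsg.Agent.CosetCertFi23FC0.check35

theorem valid37 : Valid 9472 := valid36.step Cfsg.Agent.CosetCertFi23FC0.just36 Cfsg.Agent.CosetCertFi23FC0.check36

theorem valid38 : Valid 9728 := valid37.step Cfsg.Agent.CosetCertFi23FC0.just37 Cfsg.Agent.CosetCertFi23FC0.check37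

theorem valid39 : Valid 9984 := valid38.step Cfsg.Agent.CosetCertFi23FC0.just38 Cfsg.Agent.CosetCertFi23FC0.check38

theorem valid40 : Valid 10240 := valid39.step Cfsg.Agent.CosetCertFi23FC0.just39 Cfsg.Agent.CosetCertFi23FC0.check39

theorem valid41 : Valid 10496 := valid40.step Cfsg.Agent.CosetCertFi23FC0.just40 Cfsg.Agent.CosetCertFi23FC0.check40

theorem valid42 : Valid 10752 := valid41.step Cfsg.Agent.CosetCertFi23FC0.just41 Cfsg.Agent.CosetCertFi23FC0.check41

theorem valid43 : Valid 11008 := valid42.step Cfsg.Agent.CosetCertFi23FC0.just42 Cfsg.Agent.CosetCertFi23FC0.check42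

theorem valid44 : Valid 11264 := valid43.step Cfsg.Agent.CosetCertFi23FC0.just43 Cfsg.Agent.CosetCertFi23FC0.check43

theorem valid45 : Valid 11520 := valid44.step Cfsg.Agent.CosetCertFi23FC0.just44 Cfsg.Agent.CosetCertFi23FC0.check44

theorem valid46 : Valid 11776 := valid45.step Cfsg.Agent.CosetCertFi23FC0.just45 Cfsg.Agent.CosetCertFi23FC0.check45

theorem valid47 : Valid 12032 := valid46.step Cfsg.Agent.CosetCertFi23FC0.just46 Cfsg.Agent.CosetCertFi23FC0.check46

theorem valid48 : Valid 12288 := valid47.step Cfsg.Agent.CosetCertFi23FC0.just47 Cfsg.Agent.CosetCertFi23FC0.check47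

theorem valid49 : Valid 12544 := valid48.step Cfsg.Agent.CosetCertFi23FC0.just48 Cfsg.Agent.CosetCertFi23FC0.check48

theorem valid50 : Valid 12800 := valid49.step Cfsg.Agent.CosetCertFi23FC0.just49 Cfsg.Agent.CosetCertFi23FC0.check49

theorem valid51 : Valid 13056 := valid50.step Cfsg.Agent.CosetCertFi23FC0.just50 Cfsg.Agent.CosetCertFi23FC0.check50

theorem valid52 : Valid 13312 := valid51.step Cfsg.Agent.CosetCertFi23FC0.just51 Cfsg.Agent.CosetCertFi23FC0.check51

theorem valid53 : Valid 13568 := valid52.step Cfsg.Agent.CosetCertFi23FC0.just52 Cfsg.Agent.CosetCertFi23FC0.check52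

theorem valid54 : Valid 13824 := valid53.step Cfsg.Agent.CosetCertFi23FC0.just53 Cfsg.Agent.CosetCertFi23FC0.check53

theorem valid55 : Valid 14080 := valid54.step Cfsg.Agent.CosetCertFi23FC0.just54 Cfsg.Agent.CosetCertFi23FC0.check54

theorem valid56 : Valid 14336 := valid55.step Cfsg.Agent.CosetCertFi23FC0.just55 Cfsg.Agent.CosetCertFi23FC0.check55

theorem valid57 : Valid 14592 := valid56.step Cfsg.Agent.CosetCertFi23FC0.just56 Cfsg.Agent.CosetCertFi23FC0.check56

theorem valid58 : Valid 14848 := valid57.step Cfsg.Agent.CosetCertFi23FC0.just57 Cfsg.Agent.CosetCertFi23FC0.check57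

theorem valid59 : Valid 15104 := valid58.step Cfsg.Agent.CosetCertFi23FC0.just58 Cfsg.Agent.CosetCertFi23FC0.check58

theorem valid60 : Valid 15360 := valid59.step Cfsg.Agent.CosetCertFi23FC0.just59 Cfsg.Agent.CosetCertFi23FC0.check59

theorem valid61 : Valid 15616 := valid60.step Cfsg.Agent.CosetCertFi23FC0.just60 Cfsg.Agent.CosetCertFi23FC0.check60

theorem valid62 : Valid 15872 := valid61.step Cfsg.Agent.CosetCertFi23FC0.just61 Cfsg.Agent.CosetCertFi23FC0.check61

theorem valid63 : Valid 16128 := valid62.step Cfsg.Agent.CosetCertFi23FC0.just62 Cfsg.Agent.CosetCertFi23FC0.check62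

theorem valid64 : Valid 16384 := valid63.step Cfsg.Agent.CosetCertFi23FC0.just63 Cfsg.Agent.CosetCertFi23FC0.check63

theorem valid65 : Valid 16640 := valid64.step Cfsg.Agent.CosetCertFi23FC0.just64 Cfsg.Agent.CosetCertFi23FC0.check64

theorem valid66 : Valid 16896 := valid65.step Cfsg.Agent.CosetCertFi23FC0.just65 Cfsg.Agent.CosetCertFi23FC0.check65

theorem valid67 : Valid 17152 := valid66.step Cfsg.Agent.CosetCertFi23FC0.just66 Cfsg.Agent.CosetCertFi23FC0.check66

theorem valid68 : Valid 17408 := valid67.step Cfsg.Agent.CosetCertFi23FC0.just67 Cfsg.Agent.CosetCertFi23FC0.check67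

theorem valid69 : Valid 17664 := valid68.step Cfsg.Agent.CosetCertFi23FC0.just68 Cfsg.Agent.CosetCertFi23FC0.check68

theorem valid70 : Valid 17920 := valid69.step Cfsg.Agent.CosetCertFi23FC0.just69 Cfsg.Agent.CosetCertFi23FC0.check69

theorem valid71 : Valid 18176 := valid70.step Cfsg.Agent.CosetCertFi23FC0.just70 Cfsg.Agent.CosetCertFi23FC0.check70

theorem valid72 : Valid 18432 := valid71.step Cfsg.Agent.CosetCertFi23FC0.just71 Cfsg.Agent.CosetCertFi23FC0.check71

theorem valid73 : Valid 18688 := valid72.step Cfsg.Agent.CosetCertFi23FC0.just72 Cfsg.Agent.CosetCertFi23FC0.check72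

theorem valid74 : Valid 18944 := valid73.step Cfsg.Agent.CosetCertFi23FC0.just73 Cfsg.Agent.CosetCertFi23FC0.check73

theorem valid75 : Valid 19200 := valid74.step Cfsg.Agent.CosetCertFi23FC0.just74 Cfsg.Agent.CosetCertFi23FC0.check74

theorem valid76 : Valid 19456 := valid75.step Cfsg.Agent.CosetCertFi23FC0.just75 Cfsg.Agent.CosetCertFi23FC0.check75

theorem valid77 : Valid 19712 := valid76.step Cfsg.Agent.CosetCertFi23FC0.just76 Cfsg.Agent.CosetCertFi23FC0.check76

theorem valid78 : Valid 19968 := valid77.step Cfsg.Agent.CosetCertFi23FC0.just77 Cfsg.Agent.CosetCertFi23FC0.check77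

theorem valid79 : Valid 20224 := valid78.step Cfsg.Agent.CosetCertFi23FC1.just78 Cfsg.Agent.CosetCertFi23FC1.check78

theorem valid80 : Valid 20480 := valid79.step Cfsg.Agent.CosetCertFi23FC1.just79 Cfsg.Agent.CosetCertFi23FC1.check79

theorem valid81 : Valid 20736 := valid80.step Cfsg.Agent.CosetCertFi23FC1.just80 Cfsg.Agent.CosetCertFi23FC1.check80

theorem valid82 : Valid 20992 := valid81.step Cfsg.Agent.CosetCertFi23FC1.just81 Cfsg.Agent.CosetCertFi23FC1.check81

theorem valid83 : Valid 21248 := valid82.step Cfsg.Agent.CosetCertFi23FC1.just82 Cfsg.Agent.CosetCertFi23FC1.check82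

theorem valid84 : Valid 21504 := valid83.step Cfsg.Agent.CosetCertFi23FC1.just83 Cfsg.Agent.CosetCertFi23FC1.check83

theorem valid85 : Valid 21760 := valid84.step Cfsg.Agent.CosetCertFi23FC1.just84 Cfsg.Agent.CosetCertFi23FC1.check84

theorem valid86 : Valid 22016 := valid85.step Cfsg.Agent.CosetCertFi23FC1.just85 Cfsg.Agent.CosetCertFi23FC1.check85

theorem valid87 : Valid 22272 := valid86.step Cfsg.Agent.CosetCertFi23FC1.just86 Cfsg.Agent.CosetCertFi23FC1.check86

theorem valid88 : Valid 22528 := valid87.step Cfsg.Agent.CosetCertFi23FC1.just87 Cfsg.Agent.CosetCertFi23FC1.check87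

theorem valid89 : Valid 22784 := valid88.step Cfsg.Agent.CosetCertFi23FC1.just88 Cfsg.Agent.CosetCertFi23FC1.check88

theorem valid90 : Valid 23040 := valid89.step Cfsg.Agent.CosetCertFi23FC1.just89 Cfsg.Agent.CosetCertFi23FC1.check89

theorem valid91 : Valid 23296 := valid90.step Cfsg.Agent.CosetCertFi23FC1.just90 Cfsg.Agent.CosetCertFi23FC1.check90

theorem valid92 : Valid 23552 := valid91.step Cfsg.Agent.CosetCertFi23FC1.just91 Cfsg.Agent.CosetCertFi23FC1.check91

theorem valid93 : Valid 23808 := valid92.step Cfsg.Agent.CosetCertFi23FC1.just92 Cfsg.Agent.CosetCertFi23FC1.check92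

theorem valid94 : Valid 24064 := valid93.step Cfsg.Agent.CosetCertFi23FC1.just93 Cfsg.Agent.CosetCertFi23FC1.check93

theorem valid95 : Valid 24320 := valid94.step Cfsg.Agent.CosetCertFi23FC1.just94 Cfsg.Agent.CosetCertFi23FC1.check94

theorem valid96 : Valid 24576 := valid95.step Cfsg.Agent.CosetCertFi23FC1.just95 Cfsg.Agent.CosetCertFi23FC1.check95

theorem valid97 : Valid 24832 := valid96.step Cfsg.Agent.CosetCertFi23FC1.just96 Cfsg.Agent.CosetCertFi23FC1.check96

theorem valid98 : Valid 25088 := valid97.step Cfsg.Agent.CosetCertFi23FC1.just97 Cfsg.Agent.CosetCertFi23FC1.check97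

theorem valid99 : Valid 25344 := valid98.step Cfsg.Agent.CosetCertFi23FC1.just98 Cfsg.Agent.CosetCertFi23FC1.check98

theorem valid100 : Valid 25600 := valid99.step Cfsg.Agent.CosetCertFi23FC1.just99 Cfsg.Agent.CosetCertFi23FC1.check99

theorem valid101 : Valid 25856 := valid100.step Cfsg.Agent.CosetCertFi23FC1.just100 Cfsg.Agent.CosetCertFi23FC1.check100

theorem valid102 : Valid 26112 := valid101.step Cfsg.Agent.CosetCertFi23FC1.just101 Cfsg.Agent.CosetCertFi23FC1.check101

theorem valid103 : Valid 26368 := valid102.step Cfsg.Agent.CosetCertFi23FC1.just102 Cfsg.Agent.CosetCertFi23FC1.check102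

theorem valid104 : Valid 26624 := valid103.step Cfsg.Agent.CosetCertFi23FC1.just103 Cfsg.Agent.CosetCertFi23FC1.check103

theorem valid105 : Valid 26880 := valid104.step Cfsg.Agent.CosetCertFi23FC1.just104 Cfsg.Agent.CosetCertFi23FC1.check104

theorem valid106 : Valid 27136 := valid105.step Cfsg.Agent.CosetCertFi23FC1.just105 Cfsg.Agent.CosetCertFi23FC1.check105

theorem valid107 : Valid 27392 := valid106.step Cfsg.Agent.CosetCertFi23FC1.just106 Cfsg.Agent.CosetCertFi23FC1.check106

theorem valid108 : Valid 27648 := valid107.step Cfsg.Agent.CosetCertFi23FC1.just107 Cfsg.Agent.CosetCertFi23FC1.check107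

theorem valid109 : Valid 27904 := valid108.step Cfsg.Agent.CosetCertFi23FC1.just108 Cfsg.Agent.CosetCertFi23FC1.check108

theorem valid110 : Valid 28160 := valid109.step Cfsg.Agent.CosetCertFi23FC1.just109 Cfsg.Agent.CosetCertFi23FC1.check109

theorem valid111 : Valid 28416 := valid110.step Cfsg.Agent.CosetCertFi23FC1.just110 Cfsg.Agent.CosetCertFi23FC1.check110

theorem valid112 : Valid 28672 := valid111.step Cfsg.Agent.CosetCertFi23FC1.just111 Cfsg.Agent.CosetCertFi23FC1.check111

theorem valid113 : Valid 28928 := valid112.step Cfsg.Agent.CosetCertFi23FC1.just112 Cfsg.Agent.CosetCertFi23FC1.check112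

theorem valid114 : Valid 29184 := valid113.step Cfsg.Agent.CosetCertFi23FC1.just113 Cfsg.Agent.CosetCertFi23FC1.check113

theorem valid115 : Valid 29440 := valid114.step Cfsg.Agent.CosetCertFi23FC1.just114 Cfsg.Agent.CosetCertFi23FC1.check114

theorem valid116 : Valid 29696 := valid115.step Cfsg.Agent.CosetCertFi23FC1.just115 Cfsg.Agent.CosetCertFi23FC1.check115

theorem valid117 : Valid 29952 := valid116.step Cfsg.Agent.CosetCertFi23FC1.just116 Cfsg.Agent.CosetCertFi23FC1.check116

theorem valid118 : Valid 30208 := valid117.step Cfsg.Agent.CosetCertFi23FC1.just117 Cfsg.Agent.CosetCertFi23FC1.check117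

theorem valid119 : Valid 30464 := valid118.step Cfsg.Agent.CosetCertFi23FC1.just118 Cfsg.Agent.CosetCertFi23FC1.check118

theorem valid120 : Valid 30720 := valid119.step Cfsg.Agent.CosetCertFi23FC1.just119 Cfsg.Agent.CosetCertFi23FC1.check119

theorem valid121 : Valid 30976 := valid120.step Cfsg.Agent.CosetCertFi23FC1.just120 Cfsg.Agent.CosetCertFi23FC1.check120

theorem valid122 : Valid 31232 := valid121.step Cfsg.Agent.CosetCertFi23FC1.just121 Cfsg.Agent.CosetCertFi23FC1.check121

theorem valid123 : Valid 31488 := valid122.step Cfsg.Agent.CosetCertFi23FC1.just122 Cfsg.Agent.CosetCertFi23FC1.check122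

theorem valid124 : Valid 31744 := valid123.step Cfsg.Agent.CosetCertFi23FC1.just123 Cfsg.Agent.CosetCertFi23FC1.check123

theorem valid125 : Valid 32000 := valid124.step Cfsg.Agent.CosetCertFi23FC1.just124 Cfsg.Agent.CosetCertFi23FC1.check124

theorem valid126 : Valid 32256 := valid125.step Cfsg.Agent.CosetCertFi23FC1.just125 Cfsg.Agent.CosetCertFi23FC1.check125

theorem valid127 : Valid 32512 := valid126.step Cfsg.Agent.CosetCertFi23FC1.just126 Cfsg.Agent.CosetCertFi23FC1.check126

theorem valid128 : Valid 32768 := valid127.step Cfsg.Agent.CosetCertFi23FC1.just127 Cfsg.Agent.CosetCertFi23FC1.check127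

theorem valid129 : Valid 33024 := valid128.step Cfsg.Agent.CosetCertFi23FC1.just128 Cfsg.Agent.CosetCertFi23FC1.check128

theorem valid130 : Valid 33280 := valid129.step Cfsg.Agent.CosetCertFi23FC1.just129 Cfsg.Agent.CosetCertFi23FC1.check129

theorem valid131 : Valid 33536 := valid130.step Cfsg.Agent.CosetCertFi23FC1.just130 Cfsg.Agent.CosetCertFi23FC1.check130

theorem valid132 : Valid 33792 := valid131.step Cfsg.Agent.CosetCertFi23FC1.just131 Cfsg.Agent.CosetCertFi23FC1.check131

theorem valid133 : Valid 34048 := valid132.step Cfsg.Agent.CosetCertFi23FC1.just132 Cfsg.Agent.CosetCertFi23FC1.check132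

theorem valid134 : Valid 34304 := valid133.step Cfsg.Agent.CosetCertFi23FC1.just133 Cfsg.Agent.CosetCertFi23FC1.check133

theorem valid135 : Valid 34560 := valid134.step Cfsg.Agent.CosetCertFi23FC1.just134 Cfsg.Agent.CosetCertFi23FC1.check134

theorem valid136 : Valid 34816 := valid135.step Cfsg.Agent.CosetCertFi23FC1.just135 Cfsg.Agent.CosetCertFi23FC1.check135

theorem valid137 : Valid 35072 := valid136.step Cfsg.Agent.CosetCertFi23FC1.just136 Cfsg.Agent.CosetCertFi23FC1.check136

theorem valid138 : Valid 35328 := valid137.step Cfsg.Agent.CosetCertFi23FC1.just137 Cfsg.Agent.CosetCertFi23FC1.check137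

theorem valid139 : Valid 35584 := valid138.step Cfsg.Agent.CosetCertFi23FC1.just138 Cfsg.Agent.CosetCertFi23FC1.check138

theorem valid140 : Valid 35840 := valid139.step Cfsg.Agent.CosetCertFi23FC1.just139 Cfsg.Agent.CosetCertFi23FC1.check139

theorem valid141 : Valid 36096 := valid140.step Cfsg.Agent.CosetCertFi23FC1.just140 Cfsg.Agent.CosetCertFi23FC1.check140

theorem valid142 : Valid 36352 := valid141.step Cfsg.Agent.CosetCertFi23FC1.just141 Cfsg.Agent.CosetCertFi23FC1.check141

theorem valid143 : Valid 36608 := valid142.step Cfsg.Agent.CosetCertFi23FC1.just142 Cfsg.Agent.CosetCertFi23FC1.check142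

theorem valid144 : Valid 36864 := valid143.step Cfsg.Agent.CosetCertFi23FC1.just143 Cfsg.Agent.CosetCertFi23FC1.check143

theorem valid145 : Valid 37120 := valid144.step Cfsg.Agent.CosetCertFi23FC1.just144 Cfsg.Agent.CosetCertFi23FC1.check144

theorem valid146 : Valid 37376 := valid145.step Cfsg.Agent.CosetCertFi23FC1.just145 Cfsg.Agent.CosetCertFi23FC1.check145

theorem valid147 : Valid 37632 := valid146.step Cfsg.Agent.CosetCertFi23FC1.just146 Cfsg.Agent.CosetCertFi23FC1.check146

theorem valid148 : Valid 37888 := valid147.step Cfsg.Agent.CosetCertFi23FC1.just147 Cfsg.Agent.CosetCertFi23FC1.check147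

theorem valid149 : Valid 38144 := valid148.step Cfsg.Agent.CosetCertFi23FC1.just148 Cfsg.Agent.CosetCertFi23FC1.check148

theorem valid150 : Valid 38400 := valid149.step Cfsg.Agent.CosetCertFi23FC1.just149 Cfsg.Agent.CosetCertFi23FC1.check149

theorem valid151 : Valid 38656 := valid150.step Cfsg.Agent.CosetCertFi23FC1.just150 Cfsg.Agent.CosetCertFi23FC1.check150

theorem valid152 : Valid 38912 := valid151.step Cfsg.Agent.CosetCertFi23FC1.just151 Cfsg.Agent.CosetCertFi23FC1.check151

theorem valid153 : Valid 39168 := valid152.step Cfsg.Agent.CosetCertFi23FC1.just152 Cfsg.Agent.CosetCertFi23FC1.check152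

theorem valid154 : Valid 39424 := valid153.step Cfsg.Agent.CosetCertFi23FC1.just153 Cfsg.Agent.CosetCertFi23FC1.check153

theorem valid155 : Valid 39680 := valid154.step Cfsg.Agent.CosetCertFi23FC1.just154 Cfsg.Agent.CosetCertFi23FC1.check154

theorem valid156 : Valid 39936 := valid155.step Cfsg.Agent.CosetCertFi23FC1.just155 Cfsg.Agent.CosetCertFi23FC1.check155

theorem valid157 : Valid 40192 := valid156.step Cfsg.Agent.CosetCertFi23FC2.just156 Cfsg.Agent.CosetCertFi23FC2.check156

theorem valid158 : Valid 40448 := valid157.step Cfsg.Agent.CosetCertFi23FC2.just157 Cfsg.Agent.CosetCertFi23FC2.check157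

theorem valid159 : Valid 40704 := valid158.step Cfsg.Agent.CosetCertFi23FC2.just158 Cfsg.Agent.CosetCertFi23FC2.check158

theorem valid160 : Valid 40960 := valid159.step Cfsg.Agent.CosetCertFi23FC2.just159 Cfsg.Agent.CosetCertFi23FC2.check159

theorem valid161 : Valid 41216 := valid160.step Cfsg.Agent.CosetCertFi23FC2.just160 Cfsg.Agent.CosetCertFi23FC2.check160

theorem valid162 : Valid 41472 := valid161.step Cfsg.Agent.CosetCertFi23FC2.just161 Cfsg.Agent.CosetCertFi23FC2.check161

theorem valid163 : Valid 41728 := valid162.step Cfsg.Agent.CosetCertFi23FC2.just162 Cfsg.Agent.CosetCertFi23FC2.check162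

theorem valid164 : Valid 41984 := valid163.step Cfsg.Agent.CosetCertFi23FC2.just163 Cfsg.Agent.CosetCertFi23FC2.check163

theorem valid165 : Valid 42240 := valid164.step Cfsg.Agent.CosetCertFi23FC2.just164 Cfsg.Agent.CosetCertFi23FC2.check164

theorem valid166 : Valid 42496 := valid165.step Cfsg.Agent.CosetCertFi23FC2.just165 Cfsg.Agent.CosetCertFi23FC2.check165

theorem valid167 : Valid 42752 := valid166.step Cfsg.Agent.CosetCertFi23FC2.just166 Cfsg.Agent.CosetCertFi23FC2.check166

theorem valid168 : Valid 43008 := valid167.step Cfsg.Agent.CosetCertFi23FC2.just167 Cfsg.Agent.CosetCertFi23FC2.check167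

theorem valid169 : Valid 43264 := valid168.step Cfsg.Agent.CosetCertFi23FC2.just168 Cfsg.Agent.CosetCertFi23FC2.check168

theorem valid170 : Valid 43520 := valid169.step Cfsg.Agent.CosetCertFi23FC2.just169 Cfsg.Agent.CosetCertFi23FC2.check169

theorem valid171 : Valid 43776 := valid170.step Cfsg.Agent.CosetCertFi23FC2.just170 Cfsg.Agent.CosetCertFi23FC2.check170

theorem valid172 : Valid 44032 := valid171.step Cfsg.Agent.CosetCertFi23FC2.just171 Cfsg.Agent.CosetCertFi23FC2.check171

theorem valid173 : Valid 44288 := valid172.step Cfsg.Agent.CosetCertFi23FC2.just172 Cfsg.Agent.CosetCertFi23FC2.check172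

theorem valid174 : Valid 44544 := valid173.step Cfsg.Agent.CosetCertFi23FC2.just173 Cfsg.Agent.CosetCertFi23FC2.check173

theorem valid175 : Valid 44800 := valid174.step Cfsg.Agent.CosetCertFi23FC2.just174 Cfsg.Agent.CosetCertFi23FC2.check174

theorem valid176 : Valid 45056 := valid175.step Cfsg.Agent.CosetCertFi23FC2.just175 Cfsg.Agent.CosetCertFi23FC2.check175

theorem valid177 : Valid 45312 := valid176.step Cfsg.Agent.CosetCertFi23FC2.just176 Cfsg.Agent.CosetCertFi23FC2.check176

theorem valid178 : Valid 45568 := valid177.step Cfsg.Agent.CosetCertFi23FC2.just177 Cfsg.Agent.CosetCertFi23FC2.check177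

theorem valid179 : Valid 45824 := valid178.step Cfsg.Agent.CosetCertFi23FC2.just178 Cfsg.Agent.CosetCertFi23FC2.check178

theorem valid180 : Valid 46080 := valid179.step Cfsg.Agent.CosetCertFi23FC2.just179 Cfsg.Agent.CosetCertFi23FC2.check179

theorem valid181 : Valid 46336 := valid180.step Cfsg.Agent.CosetCertFi23FC2.just180 Cfsg.Agent.CosetCertFi23FC2.check180

theorem valid182 : Valid 46592 := valid181.step Cfsg.Agent.CosetCertFi23FC2.just181 Cfsg.Agent.CosetCertFi23FC2.check181

theorem valid183 : Valid 46848 := valid182.step Cfsg.Agent.CosetCertFi23FC2.just182 Cfsg.Agent.CosetCertFi23FC2.check182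

theorem valid184 : Valid 47104 := valid183.step Cfsg.Agent.CosetCertFi23FC2.just183 Cfsg.Agent.CosetCertFi23FC2.check183

theorem valid185 : Valid 47360 := valid184.step Cfsg.Agent.CosetCertFi23FC2.just184 Cfsg.Agent.CosetCertFi23FC2.check184

theorem valid186 : Valid 47616 := valid185.step Cfsg.Agent.CosetCertFi23FC2.just185 Cfsg.Agent.CosetCertFi23FC2.check185

theorem valid187 : Valid 47872 := valid186.step Cfsg.Agent.CosetCertFi23FC2.just186 Cfsg.Agent.CosetCertFi23FC2.check186

theorem valid188 : Valid 48128 := valid187.step Cfsg.Agent.CosetCertFi23FC2.just187 Cfsg.Agent.CosetCertFi23FC2.check187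

theorem valid189 : Valid 48384 := valid188.step Cfsg.Agent.CosetCertFi23FC2.just188 Cfsg.Agent.CosetCertFi23FC2.check188

theorem valid190 : Valid 48640 := valid189.step Cfsg.Agent.CosetCertFi23FC2.just189 Cfsg.Agent.CosetCertFi23FC2.check189

theorem valid191 : Valid 48896 := valid190.step Cfsg.Agent.CosetCertFi23FC2.just190 Cfsg.Agent.CosetCertFi23FC2.check190

theorem valid192 : Valid 49152 := valid191.step Cfsg.Agent.CosetCertFi23FC2.just191 Cfsg.Agent.CosetCertFi23FC2.check191

theorem valid193 : Valid 49408 := valid192.step Cfsg.Agent.CosetCertFi23FC2.just192 Cfsg.Agent.CosetCertFi23FC2.check192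

theorem valid194 : Valid 49664 := valid193.step Cfsg.Agent.CosetCertFi23FC2.just193 Cfsg.Agent.CosetCertFi23FC2.check193

theorem valid195 : Valid 49920 := valid194.step Cfsg.Agent.CosetCertFi23FC2.just194 Cfsg.Agent.CosetCertFi23FC2.check194

theorem valid196 : Valid 50176 := valid195.step Cfsg.Agent.CosetCertFi23FC2.just195 Cfsg.Agent.CosetCertFi23FC2.check195

theorem valid197 : Valid 50432 := valid196.step Cfsg.Agent.CosetCertFi23FC2.just196 Cfsg.Agent.CosetCertFi23FC2.check196

theorem valid198 : Valid 50688 := valid197.step Cfsg.Agent.CosetCertFi23FC2.just197 Cfsg.Agent.CosetCertFi23FC2.check197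

theorem valid199 : Valid 50944 := valid198.step Cfsg.Agent.CosetCertFi23FC2.just198 Cfsg.Agent.CosetCertFi23FC2.check198

theorem valid200 : Valid 51200 := valid199.step Cfsg.Agent.CosetCertFi23FC2.just199 Cfsg.Agent.CosetCertFi23FC2.check199

theorem valid201 : Valid 51456 := valid200.step Cfsg.Agent.CosetCertFi23FC2.just200 Cfsg.Agent.CosetCertFi23FC2.check200

theorem valid202 : Valid 51712 := valid201.step Cfsg.Agent.CosetCertFi23FC2.just201 Cfsg.Agent.CosetCertFi23FC2.check201

theorem valid203 : Valid 51968 := valid202.step Cfsg.Agent.CosetCertFi23FC2.just202 Cfsg.Agent.CosetCertFi23FC2.check202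

theorem valid204 : Valid 52224 := valid203.step Cfsg.Agent.CosetCertFi23FC2.just203 Cfsg.Agent.CosetCertFi23FC2.check203

theorem valid205 : Valid 52480 := valid204.step Cfsg.Agent.CosetCertFi23FC2.just204 Cfsg.Agent.CosetCertFi23FC2.check204

theorem valid206 : Valid 52736 := valid205.step Cfsg.Agent.CosetCertFi23FC2.just205 Cfsg.Agent.CosetCertFi23FC2.check205

theorem valid207 : Valid 52992 := valid206.step Cfsg.Agent.CosetCertFi23FC2.just206 Cfsg.Agent.CosetCertFi23FC2.check206

theorem valid208 : Valid 53248 := valid207.step Cfsg.Agent.CosetCertFi23FC2.just207 Cfsg.Agent.CosetCertFi23FC2.check207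

theorem valid209 : Valid 53504 := valid208.step Cfsg.Agent.CosetCertFi23FC2.just208 Cfsg.Agent.CosetCertFi23FC2.check208

theorem valid210 : Valid 53760 := valid209.step Cfsg.Agent.CosetCertFi23FC2.just209 Cfsg.Agent.CosetCertFi23FC2.check209

theorem valid211 : Valid 54016 := valid210.step Cfsg.Agent.CosetCertFi23FC2.just210 Cfsg.Agent.CosetCertFi23FC2.check210

theorem valid212 : Valid 54272 := valid211.step Cfsg.Agent.CosetCertFi23FC2.just211 Cfsg.Agent.CosetCertFi23FC2.check211

theorem valid213 : Valid 54528 := valid212.step Cfsg.Agent.CosetCertFi23FC2.just212 Cfsg.Agent.CosetCertFi23FC2.check212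

theorem valid214 : Valid 54784 := valid213.step Cfsg.Agent.CosetCertFi23FC2.just213 Cfsg.Agent.CosetCertFi23FC2.check213

theorem valid215 : Valid 55040 := valid214.step Cfsg.Agent.CosetCertFi23FC2.just214 Cfsg.Agent.CosetCertFi23FC2.check214

theorem valid216 : Valid 55296 := valid215.step Cfsg.Agent.CosetCertFi23FC2.just215 Cfsg.Agent.CosetCertFi23FC2.check215

theorem valid217 : Valid 55552 := valid216.step Cfsg.Agent.CosetCertFi23FC2.just216 Cfsg.Agent.CosetCertFi23FC2.check216

theorem valid218 : Valid 55808 := valid217.step Cfsg.Agent.CosetCertFi23FC2.just217 Cfsg.Agent.CosetCertFi23FC2.check217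

theorem valid219 : Valid 56064 := valid218.step Cfsg.Agent.CosetCertFi23FC2.just218 Cfsg.Agent.CosetCertFi23FC2.check218

theorem valid220 : Valid 56320 := valid219.step Cfsg.Agent.CosetCertFi23FC2.just219 Cfsg.Agent.CosetCertFi23FC2.check219

theorem valid221 : Valid 56576 := valid220.step Cfsg.Agent.CosetCertFi23FC2.just220 Cfsg.Agent.CosetCertFi23FC2.check220

theorem valid222 : Valid 56832 := valid221.step Cfsg.Agent.CosetCertFi23FC2.just221 Cfsg.Agent.CosetCertFi23FC2.check221

theorem valid223 : Valid 57088 := valid222.step Cfsg.Agent.CosetCertFi23FC2.just222 Cfsg.Agent.CosetCertFi23FC2.check222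

theorem valid224 : Valid 57344 := valid223.step Cfsg.Agent.CosetCertFi23FC2.just223 Cfsg.Agent.CosetCertFi23FC2.check223

theorem valid225 : Valid 57600 := valid224.step Cfsg.Agent.CosetCertFi23FC2.just224 Cfsg.Agent.CosetCertFi23FC2.check224

theorem valid226 : Valid 57856 := valid225.step Cfsg.Agent.CosetCertFi23FC2.just225 Cfsg.Agent.CosetCertFi23FC2.check225

theorem valid227 : Valid 58112 := valid226.step Cfsg.Agent.CosetCertFi23FC2.just226 Cfsg.Agent.CosetCertFi23FC2.check226

theorem valid228 : Valid 58368 := valid227.step Cfsg.Agent.CosetCertFi23FC2.just227 Cfsg.Agent.CosetCertFi23FC2.check227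

theorem valid229 : Valid 58624 := valid228.step Cfsg.Agent.CosetCertFi23FC2.just228 Cfsg.Agent.CosetCertFi23FC2.check228

theorem valid230 : Valid 58880 := valid229.step Cfsg.Agent.CosetCertFi23FC2.just229 Cfsg.Agent.CosetCertFi23FC2.check229

theorem valid231 : Valid 59136 := valid230.step Cfsg.Agent.CosetCertFi23FC2.just230 Cfsg.Agent.CosetCertFi23FC2.check230

theorem valid232 : Valid 59392 := valid231.step Cfsg.Agent.CosetCertFi23FC2.just231 Cfsg.Agent.CosetCertFi23FC2.check231

theorem valid233 : Valid 59648 := valid232.step Cfsg.Agent.CosetCertFi23FC2.just232 Cfsg.Agent.CosetCertFi23FC2.check232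

theorem valid234 : Valid 59904 := valid233.step Cfsg.Agent.CosetCertFi23FC2.just233 Cfsg.Agent.CosetCertFi23FC2.check233

theorem valid235 : Valid 60160 := valid234.step Cfsg.Agent.CosetCertFi23FC3.just234 Cfsg.Agent.CosetCertFi23FC3.check234

theorem valid236 : Valid 60416 := valid235.step Cfsg.Agent.CosetCertFi23FC3.just235 Cfsg.Agent.CosetCertFi23FC3.check235

theorem valid237 : Valid 60672 := valid236.step Cfsg.Agent.CosetCertFi23FC3.just236 Cfsg.Agent.CosetCertFi23FC3.check236

theorem valid238 : Valid 60928 := valid237.step Cfsg.Agent.CosetCertFi23FC3.just237 Cfsg.Agent.CosetCertFi23FC3.check237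

theorem valid239 : Valid 61184 := valid238.step Cfsg.Agent.CosetCertFi23FC3.just238 Cfsg.Agent.CosetCertFi23FC3.check238

theorem valid240 : Valid 61440 := valid239.step Cfsg.Agent.CosetCertFi23FC3.just239 Cfsg.Agent.CosetCertFi23FC3.check239

theorem valid241 : Valid 61696 := valid240.step Cfsg.Agent.CosetCertFi23FC3.just240 Cfsg.Agent.CosetCertFi23FC3.check240

theorem valid242 : Valid 61952 := valid241.step Cfsg.Agent.CosetCertFi23FC3.just241 Cfsg.Agent.CosetCertFi23FC3.check241

theorem valid243 : Valid 62208 := valid242.step Cfsg.Agent.CosetCertFi23FC3.just242 Cfsg.Agent.CosetCertFi23FC3.check242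

theorem valid244 : Valid 62464 := valid243.step Cfsg.Agent.CosetCertFi23FC3.just243 Cfsg.Agent.CosetCertFi23FC3.check243

theorem valid245 : Valid 62720 := valid244.step Cfsg.Agent.CosetCertFi23FC3.just244 Cfsg.Agent.CosetCertFi23FC3.check244

theorem valid246 : Valid 62976 := valid245.step Cfsg.Agent.CosetCertFi23FC3.just245 Cfsg.Agent.CosetCertFi23FC3.check245

theorem valid247 : Valid 63232 := valid246.step Cfsg.Agent.CosetCertFi23FC3.just246 Cfsg.Agent.CosetCertFi23FC3.check246

theorem valid248 : Valid 63488 := valid247.step Cfsg.Agent.CosetCertFi23FC3.just247 Cfsg.Agent.CosetCertFi23FC3.check247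

theorem valid249 : Valid 63744 := valid248.step Cfsg.Agent.CosetCertFi23FC3.just248 Cfsg.Agent.CosetCertFi23FC3.check248

theorem valid250 : Valid 64000 := valid249.step Cfsg.Agent.CosetCertFi23FC3.just249 Cfsg.Agent.CosetCertFi23FC3.check249

theorem valid251 : Valid 64256 := valid250.step Cfsg.Agent.CosetCertFi23FC3.just250 Cfsg.Agent.CosetCertFi23FC3.check250

theorem valid252 : Valid 64512 := valid251.step Cfsg.Agent.CosetCertFi23FC3.just251 Cfsg.Agent.CosetCertFi23FC3.check251

theorem valid253 : Valid 64768 := valid252.step Cfsg.Agent.CosetCertFi23FC3.just252 Cfsg.Agent.CosetCertFi23FC3.check252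

theorem valid254 : Valid 65024 := valid253.step Cfsg.Agent.CosetCertFi23FC3.just253 Cfsg.Agent.CosetCertFi23FC3.check253

theorem valid255 : Valid 65280 := valid254.step Cfsg.Agent.CosetCertFi23FC3.just254 Cfsg.Agent.CosetCertFi23FC3.check254

theorem valid256 : Valid 65536 := valid255.step Cfsg.Agent.CosetCertFi23FC3.just255 Cfsg.Agent.CosetCertFi23FC3.check255

theorem valid257 : Valid 65792 := valid256.step Cfsg.Agent.CosetCertFi23FC3.just256 Cfsg.Agent.CosetCertFi23FC3.check256

theorem valid258 : Valid 66048 := valid257.step Cfsg.Agent.CosetCertFi23FC3.just257 Cfsg.Agent.CosetCertFi23FC3.check257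

theorem valid259 : Valid 66304 := valid258.step Cfsg.Agent.CosetCertFi23FC3.just258 Cfsg.Agent.CosetCertFi23FC3.check258

theorem valid260 : Valid 66560 := valid259.step Cfsg.Agent.CosetCertFi23FC3.just259 Cfsg.Agent.CosetCertFi23FC3.check259

theorem valid261 : Valid 66816 := valid260.step Cfsg.Agent.CosetCertFi23FC3.just260 Cfsg.Agent.CosetCertFi23FC3.check260

theorem valid262 : Valid 67072 := valid261.step Cfsg.Agent.CosetCertFi23FC3.just261 Cfsg.Agent.CosetCertFi23FC3.check261

theorem valid263 : Valid 67328 := valid262.step Cfsg.Agent.CosetCertFi23FC3.just262 Cfsg.Agent.CosetCertFi23FC3.check262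

theorem valid264 : Valid 67584 := valid263.step Cfsg.Agent.CosetCertFi23FC3.just263 Cfsg.Agent.CosetCertFi23FC3.check263

theorem valid265 : Valid 67840 := valid264.step Cfsg.Agent.CosetCertFi23FC3.just264 Cfsg.Agent.CosetCertFi23FC3.check264

theorem valid266 : Valid 68096 := valid265.step Cfsg.Agent.CosetCertFi23FC3.just265 Cfsg.Agent.CosetCertFi23FC3.check265

theorem valid267 : Valid 68352 := valid266.step Cfsg.Agent.CosetCertFi23FC3.just266 Cfsg.Agent.CosetCertFi23FC3.check266

theorem valid268 : Valid 68608 := valid267.step Cfsg.Agent.CosetCertFi23FC3.just267 Cfsg.Agent.CosetCertFi23FC3.check267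

theorem valid269 : Valid 68864 := valid268.step Cfsg.Agent.CosetCertFi23FC3.just268 Cfsg.Agent.CosetCertFi23FC3.check268

theorem valid270 : Valid 69120 := valid269.step Cfsg.Agent.CosetCertFi23FC3.just269 Cfsg.Agent.CosetCertFi23FC3.check269

theorem valid271 : Valid 69376 := valid270.step Cfsg.Agent.CosetCertFi23FC3.just270 Cfsg.Agent.CosetCertFi23FC3.check270

theorem valid272 : Valid 69632 := valid271.step Cfsg.Agent.CosetCertFi23FC3.just271 Cfsg.Agent.CosetCertFi23FC3.check271

theorem valid273 : Valid 69888 := valid272.step Cfsg.Agent.CosetCertFi23FC3.just272 Cfsg.Agent.CosetCertFi23FC3.check272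

theorem valid274 : Valid 70144 := valid273.step Cfsg.Agent.CosetCertFi23FC3.just273 Cfsg.Agent.CosetCertFi23FC3.check273

theorem valid275 : Valid 70400 := valid274.step Cfsg.Agent.CosetCertFi23FC3.just274 Cfsg.Agent.CosetCertFi23FC3.check274

theorem valid276 : Valid 70656 := valid275.step Cfsg.Agent.CosetCertFi23FC3.just275 Cfsg.Agent.CosetCertFi23FC3.check275

theorem valid277 : Valid 70912 := valid276.step Cfsg.Agent.CosetCertFi23FC3.just276 Cfsg.Agent.CosetCertFi23FC3.check276

theorem valid278 : Valid 71168 := valid277.step Cfsg.Agent.CosetCertFi23FC3.just277 Cfsg.Agent.CosetCertFi23FC3.check277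

theorem valid279 : Valid 71424 := valid278.step Cfsg.Agent.CosetCertFi23FC3.just278 Cfsg.Agent.CosetCertFi23FC3.check278

theorem valid280 : Valid 71680 := valid279.step Cfsg.Agent.CosetCertFi23FC3.just279 Cfsg.Agent.CosetCertFi23FC3.check279

theorem valid281 : Valid 71936 := valid280.step Cfsg.Agent.CosetCertFi23FC3.just280 Cfsg.Agent.CosetCertFi23FC3.check280

theorem valid282 : Valid 72192 := valid281.step Cfsg.Agent.CosetCertFi23FC3.just281 Cfsg.Agent.CosetCertFi23FC3.check281

theorem valid283 : Valid 72448 := valid282.step Cfsg.Agent.CosetCertFi23FC3.just282 Cfsg.Agent.CosetCertFi23FC3.check282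

theorem valid284 : Valid 72704 := valid283.step Cfsg.Agent.CosetCertFi23FC3.just283 Cfsg.Agent.CosetCertFi23FC3.check283

theorem valid285 : Valid 72960 := valid284.step Cfsg.Agent.CosetCertFi23FC3.just284 Cfsg.Agent.CosetCertFi23FC3.check284

theorem valid286 : Valid 73216 := valid285.step Cfsg.Agent.CosetCertFi23FC3.just285 Cfsg.Agent.CosetCertFi23FC3.check285

theorem valid287 : Valid 73472 := valid286.step Cfsg.Agent.CosetCertFi23FC3.just286 Cfsg.Agent.CosetCertFi23FC3.check286

theorem valid288 : Valid 73728 := valid287.step Cfsg.Agent.CosetCertFi23FC3.just287 Cfsg.Agent.CosetCertFi23FC3.check287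

theorem valid289 : Valid 73984 := valid288.step Cfsg.Agent.CosetCertFi23FC3.just288 Cfsg.Agent.CosetCertFi23FC3.check288

theorem valid290 : Valid 74240 := valid289.step Cfsg.Agent.CosetCertFi23FC3.just289 Cfsg.Agent.CosetCertFi23FC3.check289

theorem valid291 : Valid 74496 := valid290.step Cfsg.Agent.CosetCertFi23FC3.just290 Cfsg.Agent.CosetCertFi23FC3.check290

theorem valid292 : Valid 74752 := valid291.step Cfsg.Agent.CosetCertFi23FC3.just291 Cfsg.Agent.CosetCertFi23FC3.check291

theorem valid293 : Valid 75008 := valid292.step Cfsg.Agent.CosetCertFi23FC3.just292 Cfsg.Agent.CosetCertFi23FC3.check292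

theorem valid294 : Valid 75264 := valid293.step Cfsg.Agent.CosetCertFi23FC3.just293 Cfsg.Agent.CosetCertFi23FC3.check293

theorem valid295 : Valid 75520 := valid294.step Cfsg.Agent.CosetCertFi23FC3.just294 Cfsg.Agent.CosetCertFi23FC3.check294

theorem valid296 : Valid 75776 := valid295.step Cfsg.Agent.CosetCertFi23FC3.just295 Cfsg.Agent.CosetCertFi23FC3.check295

theorem valid297 : Valid 76032 := valid296.step Cfsg.Agent.CosetCertFi23FC3.just296 Cfsg.Agent.CosetCertFi23FC3.check296

theorem valid298 : Valid 76288 := valid297.step Cfsg.Agent.CosetCertFi23FC3.just297 Cfsg.Agent.CosetCertFi23FC3.check297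

theorem valid299 : Valid 76544 := valid298.step Cfsg.Agent.CosetCertFi23FC3.just298 Cfsg.Agent.CosetCertFi23FC3.check298

theorem valid300 : Valid 76800 := valid299.step Cfsg.Agent.CosetCertFi23FC3.just299 Cfsg.Agent.CosetCertFi23FC3.check299

theorem valid301 : Valid 77056 := valid300.step Cfsg.Agent.CosetCertFi23FC3.just300 Cfsg.Agent.CosetCertFi23FC3.check300

theorem valid302 : Valid 77312 := valid301.step Cfsg.Agent.CosetCertFi23FC3.just301 Cfsg.Agent.CosetCertFi23FC3.check301

theorem valid303 : Valid 77568 := valid302.step Cfsg.Agent.CosetCertFi23FC3.just302 Cfsg.Agent.CosetCertFi23FC3.check302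

theorem valid304 : Valid 77824 := valid303.step Cfsg.Agent.CosetCertFi23FC3.just303 Cfsg.Agent.CosetCertFi23FC3.check303

theorem valid305 : Valid 78080 := valid304.step Cfsg.Agent.CosetCertFi23FC3.just304 Cfsg.Agent.CosetCertFi23FC3.check304

theorem valid306 : Valid 78336 := valid305.step Cfsg.Agent.CosetCertFi23FC3.just305 Cfsg.Agent.CosetCertFi23FC3.check305

theorem valid307 : Valid 78592 := valid306.step Cfsg.Agent.CosetCertFi23FC3.just306 Cfsg.Agent.CosetCertFi23FC3.check306

theorem valid308 : Valid 78848 := valid307.step Cfsg.Agent.CosetCertFi23FC3.just307 Cfsg.Agent.CosetCertFi23FC3.check307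

theorem valid309 : Valid 79104 := valid308.step Cfsg.Agent.CosetCertFi23FC3.just308 Cfsg.Agent.CosetCertFi23FC3.check308

theorem valid310 : Valid 79360 := valid309.step Cfsg.Agent.CosetCertFi23FC3.just309 Cfsg.Agent.CosetCertFi23FC3.check309

theorem valid311 : Valid 79616 := valid310.step Cfsg.Agent.CosetCertFi23FC3.just310 Cfsg.Agent.CosetCertFi23FC3.check310

theorem valid312 : Valid 79872 := valid311.step Cfsg.Agent.CosetCertFi23FC3.just311 Cfsg.Agent.CosetCertFi23FC3.check311

theorem valid313 : Valid 80128 := valid312.step Cfsg.Agent.CosetCertFi23FC4.just312 Cfsg.Agent.CosetCertFi23FC4.check312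

theorem valid314 : Valid 80384 := valid313.step Cfsg.Agent.CosetCertFi23FC4.just313 Cfsg.Agent.CosetCertFi23FC4.check313

theorem valid315 : Valid 80640 := valid314.step Cfsg.Agent.CosetCertFi23FC4.just314 Cfsg.Agent.CosetCertFi23FC4.check314

theorem valid316 : Valid 80896 := valid315.step Cfsg.Agent.CosetCertFi23FC4.just315 Cfsg.Agent.CosetCertFi23FC4.check315

theorem valid317 : Valid 81152 := valid316.step Cfsg.Agent.CosetCertFi23FC4.just316 Cfsg.Agent.CosetCertFi23FC4.check316

theorem valid318 : Valid 81408 := valid317.step Cfsg.Agent.CosetCertFi23FC4.just317 Cfsg.Agent.CosetCertFi23FC4.check317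

theorem valid319 : Valid 81664 := valid318.step Cfsg.Agent.CosetCertFi23FC4.just318 Cfsg.Agent.CosetCertFi23FC4.check318

theorem valid320 : Valid 81920 := valid319.step Cfsg.Agent.CosetCertFi23FC4.just319 Cfsg.Agent.CosetCertFi23FC4.check319

theorem valid321 : Valid 82176 := valid320.step Cfsg.Agent.CosetCertFi23FC4.just320 Cfsg.Agent.CosetCertFi23FC4.check320

theorem valid322 : Valid 82432 := valid321.step Cfsg.Agent.CosetCertFi23FC4.just321 Cfsg.Agent.CosetCertFi23FC4.check321

theorem valid323 : Valid 82688 := valid322.step Cfsg.Agent.CosetCertFi23FC4.just322 Cfsg.Agent.CosetCertFi23FC4.check322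

theorem valid324 : Valid 82944 := valid323.step Cfsg.Agent.CosetCertFi23FC4.just323 Cfsg.Agent.CosetCertFi23FC4.check323

theorem valid325 : Valid 83200 := valid324.step Cfsg.Agent.CosetCertFi23FC4.just324 Cfsg.Agent.CosetCertFi23FC4.check324

theorem valid326 : Valid 83456 := valid325.step Cfsg.Agent.CosetCertFi23FC4.just325 Cfsg.Agent.CosetCertFi23FC4.check325

theorem valid327 : Valid 83712 := valid326.step Cfsg.Agent.CosetCertFi23FC4.just326 Cfsg.Agent.CosetCertFi23FC4.check326

theorem valid328 : Valid 83968 := valid327.step Cfsg.Agent.CosetCertFi23FC4.just327 Cfsg.Agent.CosetCertFi23FC4.check327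

theorem valid329 : Valid 84224 := valid328.step Cfsg.Agent.CosetCertFi23FC4.just328 Cfsg.Agent.CosetCertFi23FC4.check328

theorem valid330 : Valid 84480 := valid329.step Cfsg.Agent.CosetCertFi23FC4.just329 Cfsg.Agent.CosetCertFi23FC4.check329

theorem valid331 : Valid 84736 := valid330.step Cfsg.Agent.CosetCertFi23FC4.just330 Cfsg.Agent.CosetCertFi23FC4.check330

theorem valid332 : Valid 84992 := valid331.step Cfsg.Agent.CosetCertFi23FC4.just331 Cfsg.Agent.CosetCertFi23FC4.check331

theorem valid333 : Valid 85248 := valid332.step Cfsg.Agent.CosetCertFi23FC4.just332 Cfsg.Agent.CosetCertFi23FC4.check332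

theorem valid334 : Valid 85504 := valid333.step Cfsg.Agent.CosetCertFi23FC4.just333 Cfsg.Agent.CosetCertFi23FC4.check333

theorem valid335 : Valid 85760 := valid334.step Cfsg.Agent.CosetCertFi23FC4.just334 Cfsg.Agent.CosetCertFi23FC4.check334

theorem valid336 : Valid 86016 := valid335.step Cfsg.Agent.CosetCertFi23FC4.just335 Cfsg.Agent.CosetCertFi23FC4.check335

theorem valid337 : Valid 86272 := valid336.step Cfsg.Agent.CosetCertFi23FC4.just336 Cfsg.Agent.CosetCertFi23FC4.check336

theorem valid338 : Valid 86528 := valid337.step Cfsg.Agent.CosetCertFi23FC4.just337 Cfsg.Agent.CosetCertFi23FC4.check337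

theorem valid339 : Valid 86784 := valid338.step Cfsg.Agent.CosetCertFi23FC4.just338 Cfsg.Agent.CosetCertFi23FC4.check338

theorem valid340 : Valid 87040 := valid339.step Cfsg.Agent.CosetCertFi23FC4.just339 Cfsg.Agent.CosetCertFi23FC4.check339

theorem valid341 : Valid 87296 := valid340.step Cfsg.Agent.CosetCertFi23FC4.just340 Cfsg.Agent.CosetCertFi23FC4.check340

theorem valid342 : Valid 87552 := valid341.step Cfsg.Agent.CosetCertFi23FC4.just341 Cfsg.Agent.CosetCertFi23FC4.check341

theorem valid343 : Valid 87808 := valid342.step Cfsg.Agent.CosetCertFi23FC4.just342 Cfsg.Agent.CosetCertFi23FC4.check342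

theorem valid344 : Valid 88064 := valid343.step Cfsg.Agent.CosetCertFi23FC4.just343 Cfsg.Agent.CosetCertFi23FC4.check343

theorem valid345 : Valid 88320 := valid344.step Cfsg.Agent.CosetCertFi23FC4.just344 Cfsg.Agent.CosetCertFi23FC4.check344

theorem valid346 : Valid 88576 := valid345.step Cfsg.Agent.CosetCertFi23FC4.just345 Cfsg.Agent.CosetCertFi23FC4.check345

theorem valid347 : Valid 88832 := valid346.step Cfsg.Agent.CosetCertFi23FC4.just346 Cfsg.Agent.CosetCertFi23FC4.check346

theorem valid348 : Valid 89088 := valid347.step Cfsg.Agent.CosetCertFi23FC4.just347 Cfsg.Agent.CosetCertFi23FC4.check347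

theorem valid349 : Valid 89344 := valid348.step Cfsg.Agent.CosetCertFi23FC4.just348 Cfsg.Agent.CosetCertFi23FC4.check348

theorem valid350 : Valid 89600 := valid349.step Cfsg.Agent.CosetCertFi23FC4.just349 Cfsg.Agent.CosetCertFi23FC4.check349

theorem valid351 : Valid 89856 := valid350.step Cfsg.Agent.CosetCertFi23FC4.just350 Cfsg.Agent.CosetCertFi23FC4.check350

theorem valid352 : Valid 90112 := valid351.step Cfsg.Agent.CosetCertFi23FC4.just351 Cfsg.Agent.CosetCertFi23FC4.check351

theorem valid353 : Valid 90368 := valid352.step Cfsg.Agent.CosetCertFi23FC4.just352 Cfsg.Agent.CosetCertFi23FC4.check352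

theorem valid354 : Valid 90624 := valid353.step Cfsg.Agent.CosetCertFi23FC4.just353 Cfsg.Agent.CosetCertFi23FC4.check353

theorem valid355 : Valid 90880 := valid354.step Cfsg.Agent.CosetCertFi23FC4.just354 Cfsg.Agent.CosetCertFi23FC4.check354

theorem valid356 : Valid 91136 := valid355.step Cfsg.Agent.CosetCertFi23FC4.just355 Cfsg.Agent.CosetCertFi23FC4.check355

theorem valid357 : Valid 91392 := valid356.step Cfsg.Agent.CosetCertFi23FC4.just356 Cfsg.Agent.CosetCertFi23FC4.check356

theorem valid358 : Valid 91648 := valid357.step Cfsg.Agent.CosetCertFi23FC4.just357 Cfsg.Agent.CosetCertFi23FC4.check357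

theorem valid359 : Valid 91904 := valid358.step Cfsg.Agent.CosetCertFi23FC4.just358 Cfsg.Agent.CosetCertFi23FC4.check358

theorem valid360 : Valid 92160 := valid359.step Cfsg.Agent.CosetCertFi23FC4.just359 Cfsg.Agent.CosetCertFi23FC4.check359

theorem valid361 : Valid 92416 := valid360.step Cfsg.Agent.CosetCertFi23FC4.just360 Cfsg.Agent.CosetCertFi23FC4.check360

theorem valid362 : Valid 92672 := valid361.step Cfsg.Agent.CosetCertFi23FC4.just361 Cfsg.Agent.CosetCertFi23FC4.check361

theorem valid363 : Valid 92928 := valid362.step Cfsg.Agent.CosetCertFi23FC4.just362 Cfsg.Agent.CosetCertFi23FC4.check362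

theorem valid364 : Valid 93184 := valid363.step Cfsg.Agent.CosetCertFi23FC4.just363 Cfsg.Agent.CosetCertFi23FC4.check363

theorem valid365 : Valid 93440 := valid364.step Cfsg.Agent.CosetCertFi23FC4.just364 Cfsg.Agent.CosetCertFi23FC4.check364

theorem valid366 : Valid 93696 := valid365.step Cfsg.Agent.CosetCertFi23FC4.just365 Cfsg.Agent.CosetCertFi23FC4.check365

theorem valid367 : Valid 93952 := valid366.step Cfsg.Agent.CosetCertFi23FC4.just366 Cfsg.Agent.CosetCertFi23FC4.check366

theorem valid368 : Valid 94208 := valid367.step Cfsg.Agent.CosetCertFi23FC4.just367 Cfsg.Agent.CosetCertFi23FC4.check367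

theorem valid369 : Valid 94464 := valid368.step Cfsg.Agent.CosetCertFi23FC4.just368 Cfsg.Agent.CosetCertFi23FC4.check368

theorem valid370 : Valid 94720 := valid369.step Cfsg.Agent.CosetCertFi23FC4.just369 Cfsg.Agent.CosetCertFi23FC4.check369

theorem valid371 : Valid 94976 := valid370.step Cfsg.Agent.CosetCertFi23FC4.just370 Cfsg.Agent.CosetCertFi23FC4.check370

theorem valid372 : Valid 95232 := valid371.step Cfsg.Agent.CosetCertFi23FC4.just371 Cfsg.Agent.CosetCertFi23FC4.check371

theorem valid373 : Valid 95488 := valid372.step Cfsg.Agent.CosetCertFi23FC4.just372 Cfsg.Agent.CosetCertFi23FC4.check372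

theorem valid374 : Valid 95744 := valid373.step Cfsg.Agent.CosetCertFi23FC4.just373 Cfsg.Agent.CosetCertFi23FC4.check373

theorem valid375 : Valid 96000 := valid374.step Cfsg.Agent.CosetCertFi23FC4.just374 Cfsg.Agent.CosetCertFi23FC4.check374

theorem valid376 : Valid 96256 := valid375.step Cfsg.Agent.CosetCertFi23FC4.just375 Cfsg.Agent.CosetCertFi23FC4.check375

theorem valid377 : Valid 96512 := valid376.step Cfsg.Agent.CosetCertFi23FC4.just376 Cfsg.Agent.CosetCertFi23FC4.check376

theorem valid378 : Valid 96768 := valid377.step Cfsg.Agent.CosetCertFi23FC4.just377 Cfsg.Agent.CosetCertFi23FC4.check377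

theorem valid379 : Valid 97024 := valid378.step Cfsg.Agent.CosetCertFi23FC4.just378 Cfsg.Agent.CosetCertFi23FC4.check378

theorem valid380 : Valid 97280 := valid379.step Cfsg.Agent.CosetCertFi23FC4.just379 Cfsg.Agent.CosetCertFi23FC4.check379

theorem valid381 : Valid 97536 := valid380.step Cfsg.Agent.CosetCertFi23FC4.just380 Cfsg.Agent.CosetCertFi23FC4.check380

theorem valid382 : Valid 97792 := valid381.step Cfsg.Agent.CosetCertFi23FC4.just381 Cfsg.Agent.CosetCertFi23FC4.check381

theorem valid383 : Valid 98048 := valid382.step Cfsg.Agent.CosetCertFi23FC4.just382 Cfsg.Agent.CosetCertFi23FC4.check382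

theorem valid384 : Valid 98304 := valid383.step Cfsg.Agent.CosetCertFi23FC4.just383 Cfsg.Agent.CosetCertFi23FC4.check383

theorem valid385 : Valid 98560 := valid384.step Cfsg.Agent.CosetCertFi23FC4.just384 Cfsg.Agent.CosetCertFi23FC4.check384

theorem valid386 : Valid 98816 := valid385.step Cfsg.Agent.CosetCertFi23FC4.just385 Cfsg.Agent.CosetCertFi23FC4.check385

theorem valid387 : Valid 99072 := valid386.step Cfsg.Agent.CosetCertFi23FC4.just386 Cfsg.Agent.CosetCertFi23FC4.check386

theorem valid388 : Valid 99328 := valid387.step Cfsg.Agent.CosetCertFi23FC4.just387 Cfsg.Agent.CosetCertFi23FC4.check387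

theorem valid389 : Valid 99584 := valid388.step Cfsg.Agent.CosetCertFi23FC4.just388 Cfsg.Agent.CosetCertFi23FC4.check388

theorem valid390 : Valid 99840 := valid389.step Cfsg.Agent.CosetCertFi23FC4.just389 Cfsg.Agent.CosetCertFi23FC4.check389

theorem valid391 : Valid 100096 := valid390.step Cfsg.Agent.CosetCertFi23FC5.just390 Cfsg.Agent.CosetCertFi23FC5.check390

theorem valid392 : Valid 100352 := valid391.step Cfsg.Agent.CosetCertFi23FC5.just391 Cfsg.Agent.CosetCertFi23FC5.check391

theorem valid393 : Valid 100608 := valid392.step Cfsg.Agent.CosetCertFi23FC5.just392 Cfsg.Agent.CosetCertFi23FC5.check392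

theorem valid394 : Valid 100864 := valid393.step Cfsg.Agent.CosetCertFi23FC5.just393 Cfsg.Agent.CosetCertFi23FC5.check393

theorem valid395 : Valid 101120 := valid394.step Cfsg.Agent.CosetCertFi23FC5.just394 Cfsg.Agent.CosetCertFi23FC5.check394

theorem valid396 : Valid 101376 := valid395.step Cfsg.Agent.CosetCertFi23FC5.just395 Cfsg.Agent.CosetCertFi23FC5.check395

theorem valid397 : Valid 101632 := valid396.step Cfsg.Agent.CosetCertFi23FC5.just396 Cfsg.Agent.CosetCertFi23FC5.check396

theorem valid398 : Valid 101888 := valid397.step Cfsg.Agent.CosetCertFi23FC5.just397 Cfsg.Agent.CosetCertFi23FC5.check397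

theorem valid399 : Valid 102144 := valid398.step Cfsg.Agent.CosetCertFi23FC5.just398 Cfsg.Agent.CosetCertFi23FC5.check398

theorem valid400 : Valid 102400 := valid399.step Cfsg.Agent.CosetCertFi23FC5.just399 Cfsg.Agent.CosetCertFi23FC5.check399

theorem valid401 : Valid 102656 := valid400.step Cfsg.Agent.CosetCertFi23FC5.just400 Cfsg.Agent.CosetCertFi23FC5.check400

theorem valid402 : Valid 102912 := valid401.step Cfsg.Agent.CosetCertFi23FC5.just401 Cfsg.Agent.CosetCertFi23FC5.check401

theorem valid403 : Valid 103168 := valid402.step Cfsg.Agent.CosetCertFi23FC5.just402 Cfsg.Agent.CosetCertFi23FC5.check402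

theorem valid404 : Valid 103424 := valid403.step Cfsg.Agent.CosetCertFi23FC5.just403 Cfsg.Agent.CosetCertFi23FC5.check403

theorem valid405 : Valid 103680 := valid404.step Cfsg.Agent.CosetCertFi23FC5.just404 Cfsg.Agent.CosetCertFi23FC5.check404

theorem valid406 : Valid 103936 := valid405.step Cfsg.Agent.CosetCertFi23FC5.just405 Cfsg.Agent.CosetCertFi23FC5.check405

theorem valid407 : Valid 104192 := valid406.step Cfsg.Agent.CosetCertFi23FC5.just406 Cfsg.Agent.CosetCertFi23FC5.check406

theorem valid408 : Valid 104448 := valid407.step Cfsg.Agent.CosetCertFi23FC5.just407 Cfsg.Agent.CosetCertFi23FC5.check407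

theorem valid409 : Valid 104704 := valid408.step Cfsg.Agent.CosetCertFi23FC5.just408 Cfsg.Agent.CosetCertFi23FC5.check408

theorem valid410 : Valid 104960 := valid409.step Cfsg.Agent.CosetCertFi23FC5.just409 Cfsg.Agent.CosetCertFi23FC5.check409

theorem valid411 : Valid 105216 := valid410.step Cfsg.Agent.CosetCertFi23FC5.just410 Cfsg.Agent.CosetCertFi23FC5.check410

theorem valid412 : Valid 105472 := valid411.step Cfsg.Agent.CosetCertFi23FC5.just411 Cfsg.Agent.CosetCertFi23FC5.check411

theorem valid413 : Valid 105728 := valid412.step Cfsg.Agent.CosetCertFi23FC5.just412 Cfsg.Agent.CosetCertFi23FC5.check412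

theorem valid414 : Valid 105984 := valid413.step Cfsg.Agent.CosetCertFi23FC5.just413 Cfsg.Agent.CosetCertFi23FC5.check413

theorem valid415 : Valid 106240 := valid414.step Cfsg.Agent.CosetCertFi23FC5.just414 Cfsg.Agent.CosetCertFi23FC5.check414

theorem valid416 : Valid 106496 := valid415.step Cfsg.Agent.CosetCertFi23FC5.just415 Cfsg.Agent.CosetCertFi23FC5.check415

theorem valid417 : Valid 106752 := valid416.step Cfsg.Agent.CosetCertFi23FC5.just416 Cfsg.Agent.CosetCertFi23FC5.check416

theorem valid418 : Valid 107008 := valid417.step Cfsg.Agent.CosetCertFi23FC5.just417 Cfsg.Agent.CosetCertFi23FC5.check417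

theorem valid419 : Valid 107264 := valid418.step Cfsg.Agent.CosetCertFi23FC5.just418 Cfsg.Agent.CosetCertFi23FC5.check418

theorem valid420 : Valid 107520 := valid419.step Cfsg.Agent.CosetCertFi23FC5.just419 Cfsg.Agent.CosetCertFi23FC5.check419

theorem valid421 : Valid 107776 := valid420.step Cfsg.Agent.CosetCertFi23FC5.just420 Cfsg.Agent.CosetCertFi23FC5.check420

theorem valid422 : Valid 108032 := valid421.step Cfsg.Agent.CosetCertFi23FC5.just421 Cfsg.Agent.CosetCertFi23FC5.check421

theorem valid423 : Valid 108288 := valid422.step Cfsg.Agent.CosetCertFi23FC5.just422 Cfsg.Agent.CosetCertFi23FC5.check422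

theorem valid424 : Valid 108544 := valid423.step Cfsg.Agent.CosetCertFi23FC5.just423 Cfsg.Agent.CosetCertFi23FC5.check423

theorem valid425 : Valid 108800 := valid424.step Cfsg.Agent.CosetCertFi23FC5.just424 Cfsg.Agent.CosetCertFi23FC5.check424

theorem valid426 : Valid 109056 := valid425.step Cfsg.Agent.CosetCertFi23FC5.just425 Cfsg.Agent.CosetCertFi23FC5.check425

theorem valid427 : Valid 109312 := valid426.step Cfsg.Agent.CosetCertFi23FC5.just426 Cfsg.Agent.CosetCertFi23FC5.check426

theorem valid428 : Valid 109568 := valid427.step Cfsg.Agent.CosetCertFi23FC5.just427 Cfsg.Agent.CosetCertFi23FC5.check427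

theorem valid429 : Valid 109824 := valid428.step Cfsg.Agent.CosetCertFi23FC5.just428 Cfsg.Agent.CosetCertFi23FC5.check428

theorem valid430 : Valid 110080 := valid429.step Cfsg.Agent.CosetCertFi23FC5.just429 Cfsg.Agent.CosetCertFi23FC5.check429

theorem valid431 : Valid 110336 := valid430.step Cfsg.Agent.CosetCertFi23FC5.just430 Cfsg.Agent.CosetCertFi23FC5.check430

theorem valid432 : Valid 110592 := valid431.step Cfsg.Agent.CosetCertFi23FC5.just431 Cfsg.Agent.CosetCertFi23FC5.check431

theorem valid433 : Valid 110848 := valid432.step Cfsg.Agent.CosetCertFi23FC5.just432 Cfsg.Agent.CosetCertFi23FC5.check432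

theorem valid434 : Valid 111104 := valid433.step Cfsg.Agent.CosetCertFi23FC5.just433 Cfsg.Agent.CosetCertFi23FC5.check433

theorem valid435 : Valid 111360 := valid434.step Cfsg.Agent.CosetCertFi23FC5.just434 Cfsg.Agent.CosetCertFi23FC5.check434

theorem valid436 : Valid 111616 := valid435.step Cfsg.Agent.CosetCertFi23FC5.just435 Cfsg.Agent.CosetCertFi23FC5.check435

theorem valid437 : Valid 111872 := valid436.step Cfsg.Agent.CosetCertFi23FC5.just436 Cfsg.Agent.CosetCertFi23FC5.check436

theorem valid438 : Valid 112128 := valid437.step Cfsg.Agent.CosetCertFi23FC5.just437 Cfsg.Agent.CosetCertFi23FC5.check437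

theorem valid439 : Valid 112384 := valid438.step Cfsg.Agent.CosetCertFi23FC5.just438 Cfsg.Agent.CosetCertFi23FC5.check438

theorem valid440 : Valid 112640 := valid439.step Cfsg.Agent.CosetCertFi23FC5.just439 Cfsg.Agent.CosetCertFi23FC5.check439

theorem valid441 : Valid 112896 := valid440.step Cfsg.Agent.CosetCertFi23FC5.just440 Cfsg.Agent.CosetCertFi23FC5.check440

theorem valid442 : Valid 113152 := valid441.step Cfsg.Agent.CosetCertFi23FC5.just441 Cfsg.Agent.CosetCertFi23FC5.check441

theorem valid443 : Valid 113408 := valid442.step Cfsg.Agent.CosetCertFi23FC5.just442 Cfsg.Agent.CosetCertFi23FC5.check442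

theorem valid444 : Valid 113664 := valid443.step Cfsg.Agent.CosetCertFi23FC5.just443 Cfsg.Agent.CosetCertFi23FC5.check443

theorem valid445 : Valid 113920 := valid444.step Cfsg.Agent.CosetCertFi23FC5.just444 Cfsg.Agent.CosetCertFi23FC5.check444

theorem valid446 : Valid 114176 := valid445.step Cfsg.Agent.CosetCertFi23FC5.just445 Cfsg.Agent.CosetCertFi23FC5.check445

theorem valid447 : Valid 114432 := valid446.step Cfsg.Agent.CosetCertFi23FC5.just446 Cfsg.Agent.CosetCertFi23FC5.check446

theorem valid448 : Valid 114688 := valid447.step Cfsg.Agent.CosetCertFi23FC5.just447 Cfsg.Agent.CosetCertFi23FC5.check447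

theorem valid449 : Valid 114944 := valid448.step Cfsg.Agent.CosetCertFi23FC5.just448 Cfsg.Agent.CosetCertFi23FC5.check448

theorem valid450 : Valid 115200 := valid449.step Cfsg.Agent.CosetCertFi23FC5.just449 Cfsg.Agent.CosetCertFi23FC5.check449

theorem valid451 : Valid 115456 := valid450.step Cfsg.Agent.CosetCertFi23FC5.just450 Cfsg.Agent.CosetCertFi23FC5.check450

theorem valid452 : Valid 115712 := valid451.step Cfsg.Agent.CosetCertFi23FC5.just451 Cfsg.Agent.CosetCertFi23FC5.check451

theorem valid453 : Valid 115968 := valid452.step Cfsg.Agent.CosetCertFi23FC5.just452 Cfsg.Agent.CosetCertFi23FC5.check452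

theorem valid454 : Valid 116224 := valid453.step Cfsg.Agent.CosetCertFi23FC5.just453 Cfsg.Agent.CosetCertFi23FC5.check453

theorem valid455 : Valid 116480 := valid454.step Cfsg.Agent.CosetCertFi23FC5.just454 Cfsg.Agent.CosetCertFi23FC5.check454

theorem valid456 : Valid 116736 := valid455.step Cfsg.Agent.CosetCertFi23FC5.just455 Cfsg.Agent.CosetCertFi23FC5.check455

theorem valid457 : Valid 116992 := valid456.step Cfsg.Agent.CosetCertFi23FC5.just456 Cfsg.Agent.CosetCertFi23FC5.check456

theorem valid458 : Valid 117248 := valid457.step Cfsg.Agent.CosetCertFi23FC5.just457 Cfsg.Agent.CosetCertFi23FC5.check457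

theorem valid459 : Valid 117504 := valid458.step Cfsg.Agent.CosetCertFi23FC5.just458 Cfsg.Agent.CosetCertFi23FC5.check458

theorem valid460 : Valid 117760 := valid459.step Cfsg.Agent.CosetCertFi23FC5.just459 Cfsg.Agent.CosetCertFi23FC5.check459

theorem valid461 : Valid 118016 := valid460.step Cfsg.Agent.CosetCertFi23FC5.just460 Cfsg.Agent.CosetCertFi23FC5.check460

theorem valid462 : Valid 118272 := valid461.step Cfsg.Agent.CosetCertFi23FC5.just461 Cfsg.Agent.CosetCertFi23FC5.check461

theorem valid463 : Valid 118528 := valid462.step Cfsg.Agent.CosetCertFi23FC5.just462 Cfsg.Agent.CosetCertFi23FC5.check462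

theorem valid464 : Valid 118784 := valid463.step Cfsg.Agent.CosetCertFi23FC5.just463 Cfsg.Agent.CosetCertFi23FC5.check463

theorem valid465 : Valid 119040 := valid464.step Cfsg.Agent.CosetCertFi23FC5.just464 Cfsg.Agent.CosetCertFi23FC5.check464

theorem valid466 : Valid 119296 := valid465.step Cfsg.Agent.CosetCertFi23FC5.just465 Cfsg.Agent.CosetCertFi23FC5.check465

theorem valid467 : Valid 119552 := valid466.step Cfsg.Agent.CosetCertFi23FC5.just466 Cfsg.Agent.CosetCertFi23FC5.check466

theorem valid468 : Valid 119808 := valid467.step Cfsg.Agent.CosetCertFi23FC5.just467 Cfsg.Agent.CosetCertFi23FC5.check467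

theorem valid469 : Valid 120064 := valid468.step Cfsg.Agent.CosetCertFi23FC6.just468 Cfsg.Agent.CosetCertFi23FC6.check468

theorem valid470 : Valid 120320 := valid469.step Cfsg.Agent.CosetCertFi23FC6.just469 Cfsg.Agent.CosetCertFi23FC6.check469

theorem valid471 : Valid 120576 := valid470.step Cfsg.Agent.CosetCertFi23FC6.just470 Cfsg.Agent.CosetCertFi23FC6.check470

theorem valid472 : Valid 120832 := valid471.step Cfsg.Agent.CosetCertFi23FC6.just471 Cfsg.Agent.CosetCertFi23FC6.check471

theorem valid473 : Valid 121088 := valid472.step Cfsg.Agent.CosetCertFi23FC6.just472 Cfsg.Agent.CosetCertFi23FC6.check472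

theorem valid474 : Valid 121344 := valid473.step Cfsg.Agent.CosetCertFi23FC6.just473 Cfsg.Agent.CosetCertFi23FC6.check473

theorem valid475 : Valid 121600 := valid474.step Cfsg.Agent.CosetCertFi23FC6.just474 Cfsg.Agent.CosetCertFi23FC6.check474

theorem valid476 : Valid 121856 := valid475.step Cfsg.Agent.CosetCertFi23FC6.just475 Cfsg.Agent.CosetCertFi23FC6.check475

theorem valid477 : Valid 122112 := valid476.step Cfsg.Agent.CosetCertFi23FC6.just476 Cfsg.Agent.CosetCertFi23FC6.check476

theorem valid478 : Valid 122368 := valid477.step Cfsg.Agent.CosetCertFi23FC6.just477 Cfsg.Agent.CosetCertFi23FC6.check477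

theorem valid479 : Valid 122624 := valid478.step Cfsg.Agent.CosetCertFi23FC6.just478 Cfsg.Agent.CosetCertFi23FC6.check478

theorem valid480 : Valid 122880 := valid479.step Cfsg.Agent.CosetCertFi23FC6.just479 Cfsg.Agent.CosetCertFi23FC6.check479

theorem valid481 : Valid 123136 := valid480.step Cfsg.Agent.CosetCertFi23FC6.just480 Cfsg.Agent.CosetCertFi23FC6.check480

theorem valid482 : Valid 123392 := valid481.step Cfsg.Agent.CosetCertFi23FC6.just481 Cfsg.Agent.CosetCertFi23FC6.check481

theorem valid483 : Valid 123648 := valid482.step Cfsg.Agent.CosetCertFi23FC6.just482 Cfsg.Agent.CosetCertFi23FC6.check482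

theorem valid484 : Valid 123904 := valid483.step Cfsg.Agent.CosetCertFi23FC6.just483 Cfsg.Agent.CosetCertFi23FC6.check483

theorem valid485 : Valid 124160 := valid484.step Cfsg.Agent.CosetCertFi23FC6.just484 Cfsg.Agent.CosetCertFi23FC6.check484

theorem valid486 : Valid 124416 := valid485.step Cfsg.Agent.CosetCertFi23FC6.just485 Cfsg.Agent.CosetCertFi23FC6.check485

theorem valid487 : Valid 124672 := valid486.step Cfsg.Agent.CosetCertFi23FC6.just486 Cfsg.Agent.CosetCertFi23FC6.check486

theorem valid488 : Valid 124928 := valid487.step Cfsg.Agent.CosetCertFi23FC6.just487 Cfsg.Agent.CosetCertFi23FC6.check487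

theorem valid489 : Valid 125184 := valid488.step Cfsg.Agent.CosetCertFi23FC6.just488 Cfsg.Agent.CosetCertFi23FC6.check488

theorem valid490 : Valid 125440 := valid489.step Cfsg.Agent.CosetCertFi23FC6.just489 Cfsg.Agent.CosetCertFi23FC6.check489

theorem valid491 : Valid 125696 := valid490.step Cfsg.Agent.CosetCertFi23FC6.just490 Cfsg.Agent.CosetCertFi23FC6.check490

theorem valid492 : Valid 125952 := valid491.step Cfsg.Agent.CosetCertFi23FC6.just491 Cfsg.Agent.CosetCertFi23FC6.check491

theorem valid493 : Valid 126208 := valid492.step Cfsg.Agent.CosetCertFi23FC6.just492 Cfsg.Agent.CosetCertFi23FC6.check492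

theorem valid494 : Valid 126464 := valid493.step Cfsg.Agent.CosetCertFi23FC6.just493 Cfsg.Agent.CosetCertFi23FC6.check493

theorem valid495 : Valid 126720 := valid494.step Cfsg.Agent.CosetCertFi23FC6.just494 Cfsg.Agent.CosetCertFi23FC6.check494

theorem valid496 : Valid 126976 := valid495.step Cfsg.Agent.CosetCertFi23FC6.just495 Cfsg.Agent.CosetCertFi23FC6.check495

theorem valid497 : Valid 127232 := valid496.step Cfsg.Agent.CosetCertFi23FC6.just496 Cfsg.Agent.CosetCertFi23FC6.check496

theorem valid498 : Valid 127488 := valid497.step Cfsg.Agent.CosetCertFi23FC6.just497 Cfsg.Agent.CosetCertFi23FC6.check497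

theorem valid499 : Valid 127744 := valid498.step Cfsg.Agent.CosetCertFi23FC6.just498 Cfsg.Agent.CosetCertFi23FC6.check498

theorem valid500 : Valid 128000 := valid499.step Cfsg.Agent.CosetCertFi23FC6.just499 Cfsg.Agent.CosetCertFi23FC6.check499

theorem valid501 : Valid 128256 := valid500.step Cfsg.Agent.CosetCertFi23FC6.just500 Cfsg.Agent.CosetCertFi23FC6.check500

theorem valid502 : Valid 128512 := valid501.step Cfsg.Agent.CosetCertFi23FC6.just501 Cfsg.Agent.CosetCertFi23FC6.check501

theorem valid503 : Valid 128768 := valid502.step Cfsg.Agent.CosetCertFi23FC6.just502 Cfsg.Agent.CosetCertFi23FC6.check502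

theorem valid504 : Valid 129024 := valid503.step Cfsg.Agent.CosetCertFi23FC6.just503 Cfsg.Agent.CosetCertFi23FC6.check503

theorem valid505 : Valid 129280 := valid504.step Cfsg.Agent.CosetCertFi23FC6.just504 Cfsg.Agent.CosetCertFi23FC6.check504

theorem valid506 : Valid 129536 := valid505.step Cfsg.Agent.CosetCertFi23FC6.just505 Cfsg.Agent.CosetCertFi23FC6.check505

theorem valid507 : Valid 129792 := valid506.step Cfsg.Agent.CosetCertFi23FC6.just506 Cfsg.Agent.CosetCertFi23FC6.check506

theorem valid508 : Valid 130048 := valid507.step Cfsg.Agent.CosetCertFi23FC6.just507 Cfsg.Agent.CosetCertFi23FC6.check507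

theorem valid509 : Valid 130304 := valid508.step Cfsg.Agent.CosetCertFi23FC6.just508 Cfsg.Agent.CosetCertFi23FC6.check508

theorem valid510 : Valid 130560 := valid509.step Cfsg.Agent.CosetCertFi23FC6.just509 Cfsg.Agent.CosetCertFi23FC6.check509

theorem valid511 : Valid 130816 := valid510.step Cfsg.Agent.CosetCertFi23FC6.just510 Cfsg.Agent.CosetCertFi23FC6.check510

theorem valid512 : Valid 131072 := valid511.step Cfsg.Agent.CosetCertFi23FC6.just511 Cfsg.Agent.CosetCertFi23FC6.check511

theorem valid513 : Valid 131328 := valid512.step Cfsg.Agent.CosetCertFi23FC6.just512 Cfsg.Agent.CosetCertFi23FC6.check512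

theorem valid514 : Valid 131584 := valid513.step Cfsg.Agent.CosetCertFi23FC6.just513 Cfsg.Agent.CosetCertFi23FC6.check513

theorem valid515 : Valid 131840 := valid514.step Cfsg.Agent.CosetCertFi23FC6.just514 Cfsg.Agent.CosetCertFi23FC6.check514

theorem valid516 : Valid 132096 := valid515.step Cfsg.Agent.CosetCertFi23FC6.just515 Cfsg.Agent.CosetCertFi23FC6.check515

theorem valid517 : Valid 132352 := valid516.step Cfsg.Agent.CosetCertFi23FC6.just516 Cfsg.Agent.CosetCertFi23FC6.check516

theorem valid518 : Valid 132608 := valid517.step Cfsg.Agent.CosetCertFi23FC6.just517 Cfsg.Agent.CosetCertFi23FC6.check517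

theorem valid519 : Valid 132864 := valid518.step Cfsg.Agent.CosetCertFi23FC6.just518 Cfsg.Agent.CosetCertFi23FC6.check518

theorem valid520 : Valid 133120 := valid519.step Cfsg.Agent.CosetCertFi23FC6.just519 Cfsg.Agent.CosetCertFi23FC6.check519

theorem valid521 : Valid 133376 := valid520.step Cfsg.Agent.CosetCertFi23FC6.just520 Cfsg.Agent.CosetCertFi23FC6.check520

theorem valid522 : Valid 133632 := valid521.step Cfsg.Agent.CosetCertFi23FC6.just521 Cfsg.Agent.CosetCertFi23FC6.check521

theorem valid523 : Valid 133888 := valid522.step Cfsg.Agent.CosetCertFi23FC6.just522 Cfsg.Agent.CosetCertFi23FC6.check522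

theorem valid524 : Valid 134144 := valid523.step Cfsg.Agent.CosetCertFi23FC6.just523 Cfsg.Agent.CosetCertFi23FC6.check523

theorem valid525 : Valid 134400 := valid524.step Cfsg.Agent.CosetCertFi23FC6.just524 Cfsg.Agent.CosetCertFi23FC6.check524

theorem valid526 : Valid 134656 := valid525.step Cfsg.Agent.CosetCertFi23FC6.just525 Cfsg.Agent.CosetCertFi23FC6.check525

theorem valid527 : Valid 134912 := valid526.step Cfsg.Agent.CosetCertFi23FC6.just526 Cfsg.Agent.CosetCertFi23FC6.check526

theorem valid528 : Valid 135168 := valid527.step Cfsg.Agent.CosetCertFi23FC6.just527 Cfsg.Agent.CosetCertFi23FC6.check527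

theorem valid529 : Valid 135424 := valid528.step Cfsg.Agent.CosetCertFi23FC6.just528 Cfsg.Agent.CosetCertFi23FC6.check528

theorem valid530 : Valid 135680 := valid529.step Cfsg.Agent.CosetCertFi23FC6.just529 Cfsg.Agent.CosetCertFi23FC6.check529

theorem valid531 : Valid 135936 := valid530.step Cfsg.Agent.CosetCertFi23FC6.just530 Cfsg.Agent.CosetCertFi23FC6.check530

theorem valid532 : Valid 136192 := valid531.step Cfsg.Agent.CosetCertFi23FC6.just531 Cfsg.Agent.CosetCertFi23FC6.check531

theorem valid533 : Valid 136448 := valid532.step Cfsg.Agent.CosetCertFi23FC6.just532 Cfsg.Agent.CosetCertFi23FC6.check532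

theorem valid534 : Valid 136704 := valid533.step Cfsg.Agent.CosetCertFi23FC6.just533 Cfsg.Agent.CosetCertFi23FC6.check533

theorem valid535 : Valid 136960 := valid534.step Cfsg.Agent.CosetCertFi23FC6.just534 Cfsg.Agent.CosetCertFi23FC6.check534

theorem valid536 : Valid 137216 := valid535.step Cfsg.Agent.CosetCertFi23FC6.just535 Cfsg.Agent.CosetCertFi23FC6.check535

theorem valid537 : Valid 137472 := valid536.step Cfsg.Agent.CosetCertFi23FC6.just536 Cfsg.Agent.CosetCertFi23FC6.check536

theorem valid538 : Valid 137728 := valid537.step Cfsg.Agent.CosetCertFi23FC6.just537 Cfsg.Agent.CosetCertFi23FC6.check537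

theorem valid539 : Valid 137984 := valid538.step Cfsg.Agent.CosetCertFi23FC6.just538 Cfsg.Agent.CosetCertFi23FC6.check538

theorem valid540 : Valid 138240 := valid539.step Cfsg.Agent.CosetCertFi23FC6.just539 Cfsg.Agent.CosetCertFi23FC6.check539

theorem valid541 : Valid 138496 := valid540.step Cfsg.Agent.CosetCertFi23FC6.just540 Cfsg.Agent.CosetCertFi23FC6.check540

theorem valid542 : Valid 138752 := valid541.step Cfsg.Agent.CosetCertFi23FC6.just541 Cfsg.Agent.CosetCertFi23FC6.check541

theorem valid543 : Valid 139008 := valid542.step Cfsg.Agent.CosetCertFi23FC6.just542 Cfsg.Agent.CosetCertFi23FC6.check542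

theorem valid544 : Valid 139264 := valid543.step Cfsg.Agent.CosetCertFi23FC6.just543 Cfsg.Agent.CosetCertFi23FC6.check543

theorem valid545 : Valid 139520 := valid544.step Cfsg.Agent.CosetCertFi23FC6.just544 Cfsg.Agent.CosetCertFi23FC6.check544

theorem valid546 : Valid 139776 := valid545.step Cfsg.Agent.CosetCertFi23FC6.just545 Cfsg.Agent.CosetCertFi23FC6.check545

theorem valid547 : Valid 140032 := valid546.step Cfsg.Agent.CosetCertFi23FC7.just546 Cfsg.Agent.CosetCertFi23FC7.check546

theorem valid548 : Valid 140288 := valid547.step Cfsg.Agent.CosetCertFi23FC7.just547 Cfsg.Agent.CosetCertFi23FC7.check547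

theorem valid549 : Valid 140544 := valid548.step Cfsg.Agent.CosetCertFi23FC7.just548 Cfsg.Agent.CosetCertFi23FC7.check548

theorem valid550 : Valid 140800 := valid549.step Cfsg.Agent.CosetCertFi23FC7.just549 Cfsg.Agent.CosetCertFi23FC7.check549

theorem valid551 : Valid 141056 := valid550.step Cfsg.Agent.CosetCertFi23FC7.just550 Cfsg.Agent.CosetCertFi23FC7.check550

theorem valid552 : Valid 141312 := valid551.step Cfsg.Agent.CosetCertFi23FC7.just551 Cfsg.Agent.CosetCertFi23FC7.check551

theorem valid553 : Valid 141568 := valid552.step Cfsg.Agent.CosetCertFi23FC7.just552 Cfsg.Agent.CosetCertFi23FC7.check552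

theorem valid554 : Valid 141824 := valid553.step Cfsg.Agent.CosetCertFi23FC7.just553 Cfsg.Agent.CosetCertFi23FC7.check553

theorem valid555 : Valid 142080 := valid554.step Cfsg.Agent.CosetCertFi23FC7.just554 Cfsg.Agent.CosetCertFi23FC7.check554

theorem valid556 : Valid 142336 := valid555.step Cfsg.Agent.CosetCertFi23FC7.just555 Cfsg.Agent.CosetCertFi23FC7.check555

theorem valid557 : Valid 142592 := valid556.step Cfsg.Agent.CosetCertFi23FC7.just556 Cfsg.Agent.CosetCertFi23FC7.check556

theorem valid558 : Valid 142848 := valid557.step Cfsg.Agent.CosetCertFi23FC7.just557 Cfsg.Agent.CosetCertFi23FC7.check557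

theorem valid559 : Valid 143104 := valid558.step Cfsg.Agent.CosetCertFi23FC7.just558 Cfsg.Agent.CosetCertFi23FC7.check558

theorem valid560 : Valid 143360 := valid559.step Cfsg.Agent.CosetCertFi23FC7.just559 Cfsg.Agent.CosetCertFi23FC7.check559

theorem valid561 : Valid 143616 := valid560.step Cfsg.Agent.CosetCertFi23FC7.just560 Cfsg.Agent.CosetCertFi23FC7.check560

theorem valid562 : Valid 143872 := valid561.step Cfsg.Agent.CosetCertFi23FC7.just561 Cfsg.Agent.CosetCertFi23FC7.check561

theorem valid563 : Valid 144128 := valid562.step Cfsg.Agent.CosetCertFi23FC7.just562 Cfsg.Agent.CosetCertFi23FC7.check562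

theorem valid564 : Valid 144384 := valid563.step Cfsg.Agent.CosetCertFi23FC7.just563 Cfsg.Agent.CosetCertFi23FC7.check563

theorem valid565 : Valid 144640 := valid564.step Cfsg.Agent.CosetCertFi23FC7.just564 Cfsg.Agent.CosetCertFi23FC7.check564

theorem valid566 : Valid 144896 := valid565.step Cfsg.Agent.CosetCertFi23FC7.just565 Cfsg.Agent.CosetCertFi23FC7.check565

theorem valid567 : Valid 145152 := valid566.step Cfsg.Agent.CosetCertFi23FC7.just566 Cfsg.Agent.CosetCertFi23FC7.check566

theorem valid568 : Valid 145408 := valid567.step Cfsg.Agent.CosetCertFi23FC7.just567 Cfsg.Agent.CosetCertFi23FC7.check567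

theorem valid569 : Valid 145664 := valid568.step Cfsg.Agent.CosetCertFi23FC7.just568 Cfsg.Agent.CosetCertFi23FC7.check568

theorem valid570 : Valid 145920 := valid569.step Cfsg.Agent.CosetCertFi23FC7.just569 Cfsg.Agent.CosetCertFi23FC7.check569

theorem valid571 : Valid 146176 := valid570.step Cfsg.Agent.CosetCertFi23FC7.just570 Cfsg.Agent.CosetCertFi23FC7.check570

theorem valid572 : Valid 146432 := valid571.step Cfsg.Agent.CosetCertFi23FC7.just571 Cfsg.Agent.CosetCertFi23FC7.check571

theorem valid573 : Valid 146688 := valid572.step Cfsg.Agent.CosetCertFi23FC7.just572 Cfsg.Agent.CosetCertFi23FC7.check572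

theorem valid574 : Valid 146944 := valid573.step Cfsg.Agent.CosetCertFi23FC7.just573 Cfsg.Agent.CosetCertFi23FC7.check573

theorem valid575 : Valid 147200 := valid574.step Cfsg.Agent.CosetCertFi23FC7.just574 Cfsg.Agent.CosetCertFi23FC7.check574

theorem valid576 : Valid 147456 := valid575.step Cfsg.Agent.CosetCertFi23FC7.just575 Cfsg.Agent.CosetCertFi23FC7.check575

theorem valid577 : Valid 147712 := valid576.step Cfsg.Agent.CosetCertFi23FC7.just576 Cfsg.Agent.CosetCertFi23FC7.check576

theorem valid578 : Valid 147968 := valid577.step Cfsg.Agent.CosetCertFi23FC7.just577 Cfsg.Agent.CosetCertFi23FC7.check577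

theorem valid579 : Valid 148224 := valid578.step Cfsg.Agent.CosetCertFi23FC7.just578 Cfsg.Agent.CosetCertFi23FC7.check578

theorem valid580 : Valid 148480 := valid579.step Cfsg.Agent.CosetCertFi23FC7.just579 Cfsg.Agent.CosetCertFi23FC7.check579

theorem valid581 : Valid 148736 := valid580.step Cfsg.Agent.CosetCertFi23FC7.just580 Cfsg.Agent.CosetCertFi23FC7.check580

theorem valid582 : Valid 148992 := valid581.step Cfsg.Agent.CosetCertFi23FC7.just581 Cfsg.Agent.CosetCertFi23FC7.check581

theorem valid583 : Valid 149248 := valid582.step Cfsg.Agent.CosetCertFi23FC7.just582 Cfsg.Agent.CosetCertFi23FC7.check582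

theorem valid584 : Valid 149504 := valid583.step Cfsg.Agent.CosetCertFi23FC7.just583 Cfsg.Agent.CosetCertFi23FC7.check583

theorem valid585 : Valid 149760 := valid584.step Cfsg.Agent.CosetCertFi23FC7.just584 Cfsg.Agent.CosetCertFi23FC7.check584

theorem valid586 : Valid 150016 := valid585.step Cfsg.Agent.CosetCertFi23FC7.just585 Cfsg.Agent.CosetCertFi23FC7.check585

theorem valid587 : Valid 150272 := valid586.step Cfsg.Agent.CosetCertFi23FC7.just586 Cfsg.Agent.CosetCertFi23FC7.check586

theorem valid588 : Valid 150528 := valid587.step Cfsg.Agent.CosetCertFi23FC7.just587 Cfsg.Agent.CosetCertFi23FC7.check587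

theorem valid589 : Valid 150784 := valid588.step Cfsg.Agent.CosetCertFi23FC7.just588 Cfsg.Agent.CosetCertFi23FC7.check588

theorem valid590 : Valid 151040 := valid589.step Cfsg.Agent.CosetCertFi23FC7.just589 Cfsg.Agent.CosetCertFi23FC7.check589

theorem valid591 : Valid 151296 := valid590.step Cfsg.Agent.CosetCertFi23FC7.just590 Cfsg.Agent.CosetCertFi23FC7.check590

theorem valid592 : Valid 151552 := valid591.step Cfsg.Agent.CosetCertFi23FC7.just591 Cfsg.Agent.CosetCertFi23FC7.check591

theorem valid593 : Valid 151808 := valid592.step Cfsg.Agent.CosetCertFi23FC7.just592 Cfsg.Agent.CosetCertFi23FC7.check592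

theorem valid594 : Valid 152064 := valid593.step Cfsg.Agent.CosetCertFi23FC7.just593 Cfsg.Agent.CosetCertFi23FC7.check593

theorem valid595 : Valid 152320 := valid594.step Cfsg.Agent.CosetCertFi23FC7.just594 Cfsg.Agent.CosetCertFi23FC7.check594

theorem valid596 : Valid 152576 := valid595.step Cfsg.Agent.CosetCertFi23FC7.just595 Cfsg.Agent.CosetCertFi23FC7.check595

theorem valid597 : Valid 152832 := valid596.step Cfsg.Agent.CosetCertFi23FC7.just596 Cfsg.Agent.CosetCertFi23FC7.check596

theorem valid598 : Valid 153088 := valid597.step Cfsg.Agent.CosetCertFi23FC7.just597 Cfsg.Agent.CosetCertFi23FC7.check597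

theorem valid599 : Valid 153344 := valid598.step Cfsg.Agent.CosetCertFi23FC7.just598 Cfsg.Agent.CosetCertFi23FC7.check598

theorem valid600 : Valid 153600 := valid599.step Cfsg.Agent.CosetCertFi23FC7.just599 Cfsg.Agent.CosetCertFi23FC7.check599

theorem valid601 : Valid 153856 := valid600.step Cfsg.Agent.CosetCertFi23FC7.just600 Cfsg.Agent.CosetCertFi23FC7.check600

theorem valid602 : Valid 154112 := valid601.step Cfsg.Agent.CosetCertFi23FC7.just601 Cfsg.Agent.CosetCertFi23FC7.check601

theorem valid603 : Valid 154368 := valid602.step Cfsg.Agent.CosetCertFi23FC7.just602 Cfsg.Agent.CosetCertFi23FC7.check602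

theorem valid604 : Valid 154624 := valid603.step Cfsg.Agent.CosetCertFi23FC7.just603 Cfsg.Agent.CosetCertFi23FC7.check603

theorem valid605 : Valid 154880 := valid604.step Cfsg.Agent.CosetCertFi23FC7.just604 Cfsg.Agent.CosetCertFi23FC7.check604

theorem valid606 : Valid 155136 := valid605.step Cfsg.Agent.CosetCertFi23FC7.just605 Cfsg.Agent.CosetCertFi23FC7.check605

theorem valid607 : Valid 155392 := valid606.step Cfsg.Agent.CosetCertFi23FC7.just606 Cfsg.Agent.CosetCertFi23FC7.check606

theorem valid608 : Valid 155648 := valid607.step Cfsg.Agent.CosetCertFi23FC7.just607 Cfsg.Agent.CosetCertFi23FC7.check607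

theorem valid609 : Valid 155904 := valid608.step Cfsg.Agent.CosetCertFi23FC7.just608 Cfsg.Agent.CosetCertFi23FC7.check608

theorem valid610 : Valid 156160 := valid609.step Cfsg.Agent.CosetCertFi23FC7.just609 Cfsg.Agent.CosetCertFi23FC7.check609

theorem valid611 : Valid 156416 := valid610.step Cfsg.Agent.CosetCertFi23FC7.just610 Cfsg.Agent.CosetCertFi23FC7.check610

theorem valid612 : Valid 156672 := valid611.step Cfsg.Agent.CosetCertFi23FC7.just611 Cfsg.Agent.CosetCertFi23FC7.check611

theorem valid613 : Valid 156928 := valid612.step Cfsg.Agent.CosetCertFi23FC7.just612 Cfsg.Agent.CosetCertFi23FC7.check612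

theorem valid614 : Valid 157184 := valid613.step Cfsg.Agent.CosetCertFi23FC7.just613 Cfsg.Agent.CosetCertFi23FC7.check613

theorem valid615 : Valid 157440 := valid614.step Cfsg.Agent.CosetCertFi23FC7.just614 Cfsg.Agent.CosetCertFi23FC7.check614

theorem valid616 : Valid 157696 := valid615.step Cfsg.Agent.CosetCertFi23FC7.just615 Cfsg.Agent.CosetCertFi23FC7.check615

theorem valid617 : Valid 157952 := valid616.step Cfsg.Agent.CosetCertFi23FC7.just616 Cfsg.Agent.CosetCertFi23FC7.check616

theorem valid618 : Valid 158208 := valid617.step Cfsg.Agent.CosetCertFi23FC7.just617 Cfsg.Agent.CosetCertFi23FC7.check617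

theorem valid619 : Valid 158464 := valid618.step Cfsg.Agent.CosetCertFi23FC7.just618 Cfsg.Agent.CosetCertFi23FC7.check618

theorem valid620 : Valid 158720 := valid619.step Cfsg.Agent.CosetCertFi23FC7.just619 Cfsg.Agent.CosetCertFi23FC7.check619

theorem valid621 : Valid 158976 := valid620.step Cfsg.Agent.CosetCertFi23FC7.just620 Cfsg.Agent.CosetCertFi23FC7.check620

theorem valid622 : Valid 159232 := valid621.step Cfsg.Agent.CosetCertFi23FC7.just621 Cfsg.Agent.CosetCertFi23FC7.check621

theorem valid623 : Valid 159488 := valid622.step Cfsg.Agent.CosetCertFi23FC7.just622 Cfsg.Agent.CosetCertFi23FC7.check622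

theorem valid624 : Valid 159744 := valid623.step Cfsg.Agent.CosetCertFi23FC7.just623 Cfsg.Agent.CosetCertFi23FC7.check623

theorem valid625 : Valid 160000 := valid624.step Cfsg.Agent.CosetCertFi23FC8.just624 Cfsg.Agent.CosetCertFi23FC8.check624

theorem valid626 : Valid 160256 := valid625.step Cfsg.Agent.CosetCertFi23FC8.just625 Cfsg.Agent.CosetCertFi23FC8.check625

theorem valid627 : Valid 160512 := valid626.step Cfsg.Agent.CosetCertFi23FC8.just626 Cfsg.Agent.CosetCertFi23FC8.check626

theorem valid628 : Valid 160768 := valid627.step Cfsg.Agent.CosetCertFi23FC8.just627 Cfsg.Agent.CosetCertFi23FC8.check627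

theorem valid629 : Valid 161024 := valid628.step Cfsg.Agent.CosetCertFi23FC8.just628 Cfsg.Agent.CosetCertFi23FC8.check628

theorem valid630 : Valid 161280 := valid629.step Cfsg.Agent.CosetCertFi23FC8.just629 Cfsg.Agent.CosetCertFi23FC8.check629

theorem valid631 : Valid 161536 := valid630.step Cfsg.Agent.CosetCertFi23FC8.just630 Cfsg.Agent.CosetCertFi23FC8.check630

theorem valid632 : Valid 161792 := valid631.step Cfsg.Agent.CosetCertFi23FC8.just631 Cfsg.Agent.CosetCertFi23FC8.check631

theorem valid633 : Valid 162048 := valid632.step Cfsg.Agent.CosetCertFi23FC8.just632 Cfsg.Agent.CosetCertFi23FC8.check632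

theorem valid634 : Valid 162304 := valid633.step Cfsg.Agent.CosetCertFi23FC8.just633 Cfsg.Agent.CosetCertFi23FC8.check633

theorem valid635 : Valid 162560 := valid634.step Cfsg.Agent.CosetCertFi23FC8.just634 Cfsg.Agent.CosetCertFi23FC8.check634

theorem valid636 : Valid 162816 := valid635.step Cfsg.Agent.CosetCertFi23FC8.just635 Cfsg.Agent.CosetCertFi23FC8.check635

theorem valid637 : Valid 163072 := valid636.step Cfsg.Agent.CosetCertFi23FC8.just636 Cfsg.Agent.CosetCertFi23FC8.check636

theorem valid638 : Valid 163328 := valid637.step Cfsg.Agent.CosetCertFi23FC8.just637 Cfsg.Agent.CosetCertFi23FC8.check637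

theorem valid639 : Valid 163584 := valid638.step Cfsg.Agent.CosetCertFi23FC8.just638 Cfsg.Agent.CosetCertFi23FC8.check638

theorem valid640 : Valid 163840 := valid639.step Cfsg.Agent.CosetCertFi23FC8.just639 Cfsg.Agent.CosetCertFi23FC8.check639

theorem valid641 : Valid 164096 := valid640.step Cfsg.Agent.CosetCertFi23FC8.just640 Cfsg.Agent.CosetCertFi23FC8.check640

theorem valid642 : Valid 164352 := valid641.step Cfsg.Agent.CosetCertFi23FC8.just641 Cfsg.Agent.CosetCertFi23FC8.check641

theorem valid643 : Valid 164608 := valid642.step Cfsg.Agent.CosetCertFi23FC8.just642 Cfsg.Agent.CosetCertFi23FC8.check642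

theorem valid644 : Valid 164864 := valid643.step Cfsg.Agent.CosetCertFi23FC8.just643 Cfsg.Agent.CosetCertFi23FC8.check643

theorem valid645 : Valid 165120 := valid644.step Cfsg.Agent.CosetCertFi23FC8.just644 Cfsg.Agent.CosetCertFi23FC8.check644

theorem valid646 : Valid 165376 := valid645.step Cfsg.Agent.CosetCertFi23FC8.just645 Cfsg.Agent.CosetCertFi23FC8.check645

theorem valid647 : Valid 165632 := valid646.step Cfsg.Agent.CosetCertFi23FC8.just646 Cfsg.Agent.CosetCertFi23FC8.check646

theorem valid648 : Valid 165888 := valid647.step Cfsg.Agent.CosetCertFi23FC8.just647 Cfsg.Agent.CosetCertFi23FC8.check647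

theorem valid649 : Valid 166144 := valid648.step Cfsg.Agent.CosetCertFi23FC8.just648 Cfsg.Agent.CosetCertFi23FC8.check648

theorem valid650 : Valid 166400 := valid649.step Cfsg.Agent.CosetCertFi23FC8.just649 Cfsg.Agent.CosetCertFi23FC8.check649

theorem valid651 : Valid 166656 := valid650.step Cfsg.Agent.CosetCertFi23FC8.just650 Cfsg.Agent.CosetCertFi23FC8.check650

theorem valid652 : Valid 166912 := valid651.step Cfsg.Agent.CosetCertFi23FC8.just651 Cfsg.Agent.CosetCertFi23FC8.check651

theorem valid653 : Valid 167168 := valid652.step Cfsg.Agent.CosetCertFi23FC8.just652 Cfsg.Agent.CosetCertFi23FC8.check652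

theorem valid654 : Valid 167424 := valid653.step Cfsg.Agent.CosetCertFi23FC8.just653 Cfsg.Agent.CosetCertFi23FC8.check653

theorem valid655 : Valid 167680 := valid654.step Cfsg.Agent.CosetCertFi23FC8.just654 Cfsg.Agent.CosetCertFi23FC8.check654

theorem valid656 : Valid 167936 := valid655.step Cfsg.Agent.CosetCertFi23FC8.just655 Cfsg.Agent.CosetCertFi23FC8.check655

theorem valid657 : Valid 168192 := valid656.step Cfsg.Agent.CosetCertFi23FC8.just656 Cfsg.Agent.CosetCertFi23FC8.check656

theorem valid658 : Valid 168448 := valid657.step Cfsg.Agent.CosetCertFi23FC8.just657 Cfsg.Agent.CosetCertFi23FC8.check657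

theorem valid659 : Valid 168704 := valid658.step Cfsg.Agent.CosetCertFi23FC8.just658 Cfsg.Agent.CosetCertFi23FC8.check658

theorem valid660 : Valid 168960 := valid659.step Cfsg.Agent.CosetCertFi23FC8.just659 Cfsg.Agent.CosetCertFi23FC8.check659

theorem valid661 : Valid 169216 := valid660.step Cfsg.Agent.CosetCertFi23FC8.just660 Cfsg.Agent.CosetCertFi23FC8.check660

theorem valid662 : Valid 169472 := valid661.step Cfsg.Agent.CosetCertFi23FC8.just661 Cfsg.Agent.CosetCertFi23FC8.check661

theorem valid663 : Valid 169728 := valid662.step Cfsg.Agent.CosetCertFi23FC8.just662 Cfsg.Agent.CosetCertFi23FC8.check662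

theorem valid664 : Valid 169984 := valid663.step Cfsg.Agent.CosetCertFi23FC8.just663 Cfsg.Agent.CosetCertFi23FC8.check663

theorem valid665 : Valid 170240 := valid664.step Cfsg.Agent.CosetCertFi23FC8.just664 Cfsg.Agent.CosetCertFi23FC8.check664

theorem valid666 : Valid 170496 := valid665.step Cfsg.Agent.CosetCertFi23FC8.just665 Cfsg.Agent.CosetCertFi23FC8.check665

theorem valid667 : Valid 170752 := valid666.step Cfsg.Agent.CosetCertFi23FC8.just666 Cfsg.Agent.CosetCertFi23FC8.check666

theorem valid668 : Valid 171008 := valid667.step Cfsg.Agent.CosetCertFi23FC8.just667 Cfsg.Agent.CosetCertFi23FC8.check667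

theorem valid669 : Valid 171264 := valid668.step Cfsg.Agent.CosetCertFi23FC8.just668 Cfsg.Agent.CosetCertFi23FC8.check668

theorem valid670 : Valid 171520 := valid669.step Cfsg.Agent.CosetCertFi23FC8.just669 Cfsg.Agent.CosetCertFi23FC8.check669

theorem valid671 : Valid 171776 := valid670.step Cfsg.Agent.CosetCertFi23FC8.just670 Cfsg.Agent.CosetCertFi23FC8.check670

theorem valid672 : Valid 172032 := valid671.step Cfsg.Agent.CosetCertFi23FC8.just671 Cfsg.Agent.CosetCertFi23FC8.check671

theorem valid673 : Valid 172288 := valid672.step Cfsg.Agent.CosetCertFi23FC8.just672 Cfsg.Agent.CosetCertFi23FC8.check672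

theorem valid674 : Valid 172544 := valid673.step Cfsg.Agent.CosetCertFi23FC8.just673 Cfsg.Agent.CosetCertFi23FC8.check673

theorem valid675 : Valid 172800 := valid674.step Cfsg.Agent.CosetCertFi23FC8.just674 Cfsg.Agent.CosetCertFi23FC8.check674

theorem valid676 : Valid 173056 := valid675.step Cfsg.Agent.CosetCertFi23FC8.just675 Cfsg.Agent.CosetCertFi23FC8.check675

theorem valid677 : Valid 173312 := valid676.step Cfsg.Agent.CosetCertFi23FC8.just676 Cfsg.Agent.CosetCertFi23FC8.check676

theorem valid678 : Valid 173568 := valid677.step Cfsg.Agent.CosetCertFi23FC8.just677 Cfsg.Agent.CosetCertFi23FC8.check677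

theorem valid679 : Valid 173824 := valid678.step Cfsg.Agent.CosetCertFi23FC8.just678 Cfsg.Agent.CosetCertFi23FC8.check678

theorem valid680 : Valid 174080 := valid679.step Cfsg.Agent.CosetCertFi23FC8.just679 Cfsg.Agent.CosetCertFi23FC8.check679

theorem valid681 : Valid 174336 := valid680.step Cfsg.Agent.CosetCertFi23FC8.just680 Cfsg.Agent.CosetCertFi23FC8.check680

theorem valid682 : Valid 174592 := valid681.step Cfsg.Agent.CosetCertFi23FC8.just681 Cfsg.Agent.CosetCertFi23FC8.check681

theorem valid683 : Valid 174848 := valid682.step Cfsg.Agent.CosetCertFi23FC8.just682 Cfsg.Agent.CosetCertFi23FC8.check682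

theorem valid684 : Valid 175104 := valid683.step Cfsg.Agent.CosetCertFi23FC8.just683 Cfsg.Agent.CosetCertFi23FC8.check683

theorem valid685 : Valid 175360 := valid684.step Cfsg.Agent.CosetCertFi23FC8.just684 Cfsg.Agent.CosetCertFi23FC8.check684

theorem valid686 : Valid 175616 := valid685.step Cfsg.Agent.CosetCertFi23FC8.just685 Cfsg.Agent.CosetCertFi23FC8.check685

theorem valid687 : Valid 175872 := valid686.step Cfsg.Agent.CosetCertFi23FC8.just686 Cfsg.Agent.CosetCertFi23FC8.check686

theorem valid688 : Valid 176128 := valid687.step Cfsg.Agent.CosetCertFi23FC8.just687 Cfsg.Agent.CosetCertFi23FC8.check687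

theorem valid689 : Valid 176384 := valid688.step Cfsg.Agent.CosetCertFi23FC8.just688 Cfsg.Agent.CosetCertFi23FC8.check688

theorem valid690 : Valid 176640 := valid689.step Cfsg.Agent.CosetCertFi23FC8.just689 Cfsg.Agent.CosetCertFi23FC8.check689

theorem valid691 : Valid 176896 := valid690.step Cfsg.Agent.CosetCertFi23FC8.just690 Cfsg.Agent.CosetCertFi23FC8.check690

theorem valid692 : Valid 177152 := valid691.step Cfsg.Agent.CosetCertFi23FC8.just691 Cfsg.Agent.CosetCertFi23FC8.check691

theorem valid693 : Valid 177408 := valid692.step Cfsg.Agent.CosetCertFi23FC8.just692 Cfsg.Agent.CosetCertFi23FC8.check692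

theorem valid694 : Valid 177664 := valid693.step Cfsg.Agent.CosetCertFi23FC8.just693 Cfsg.Agent.CosetCertFi23FC8.check693

theorem valid695 : Valid 177920 := valid694.step Cfsg.Agent.CosetCertFi23FC8.just694 Cfsg.Agent.CosetCertFi23FC8.check694

theorem valid696 : Valid 178176 := valid695.step Cfsg.Agent.CosetCertFi23FC8.just695 Cfsg.Agent.CosetCertFi23FC8.check695

theorem valid697 : Valid 178432 := valid696.step Cfsg.Agent.CosetCertFi23FC8.just696 Cfsg.Agent.CosetCertFi23FC8.check696

theorem valid698 : Valid 178688 := valid697.step Cfsg.Agent.CosetCertFi23FC8.just697 Cfsg.Agent.CosetCertFi23FC8.check697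

theorem valid699 : Valid 178944 := valid698.step Cfsg.Agent.CosetCertFi23FC8.just698 Cfsg.Agent.CosetCertFi23FC8.check698

theorem valid700 : Valid 179200 := valid699.step Cfsg.Agent.CosetCertFi23FC8.just699 Cfsg.Agent.CosetCertFi23FC8.check699

theorem valid701 : Valid 179456 := valid700.step Cfsg.Agent.CosetCertFi23FC8.just700 Cfsg.Agent.CosetCertFi23FC8.check700

theorem valid702 : Valid 179712 := valid701.step Cfsg.Agent.CosetCertFi23FC8.just701 Cfsg.Agent.CosetCertFi23FC8.check701

theorem valid703 : Valid 179968 := valid702.step Cfsg.Agent.CosetCertFi23FC9.just702 Cfsg.Agent.CosetCertFi23FC9.check702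

theorem valid704 : Valid 180224 := valid703.step Cfsg.Agent.CosetCertFi23FC9.just703 Cfsg.Agent.CosetCertFi23FC9.check703

theorem valid705 : Valid 180480 := valid704.step Cfsg.Agent.CosetCertFi23FC9.just704 Cfsg.Agent.CosetCertFi23FC9.check704

theorem valid706 : Valid 180736 := valid705.step Cfsg.Agent.CosetCertFi23FC9.just705 Cfsg.Agent.CosetCertFi23FC9.check705

theorem valid707 : Valid 180992 := valid706.step Cfsg.Agent.CosetCertFi23FC9.just706 Cfsg.Agent.CosetCertFi23FC9.check706

theorem valid708 : Valid 181248 := valid707.step Cfsg.Agent.CosetCertFi23FC9.just707 Cfsg.Agent.CosetCertFi23FC9.check707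

theorem valid709 : Valid 181504 := valid708.step Cfsg.Agent.CosetCertFi23FC9.just708 Cfsg.Agent.CosetCertFi23FC9.check708

theorem valid710 : Valid 181760 := valid709.step Cfsg.Agent.CosetCertFi23FC9.just709 Cfsg.Agent.CosetCertFi23FC9.check709

theorem valid711 : Valid 182016 := valid710.step Cfsg.Agent.CosetCertFi23FC9.just710 Cfsg.Agent.CosetCertFi23FC9.check710

theorem valid712 : Valid 182272 := valid711.step Cfsg.Agent.CosetCertFi23FC9.just711 Cfsg.Agent.CosetCertFi23FC9.check711

theorem valid713 : Valid 182528 := valid712.step Cfsg.Agent.CosetCertFi23FC9.just712 Cfsg.Agent.CosetCertFi23FC9.check712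

theorem valid714 : Valid 182784 := valid713.step Cfsg.Agent.CosetCertFi23FC9.just713 Cfsg.Agent.CosetCertFi23FC9.check713

theorem valid715 : Valid 183040 := valid714.step Cfsg.Agent.CosetCertFi23FC9.just714 Cfsg.Agent.CosetCertFi23FC9.check714

theorem valid716 : Valid 183296 := valid715.step Cfsg.Agent.CosetCertFi23FC9.just715 Cfsg.Agent.CosetCertFi23FC9.check715

theorem valid717 : Valid 183552 := valid716.step Cfsg.Agent.CosetCertFi23FC9.just716 Cfsg.Agent.CosetCertFi23FC9.check716

theorem valid718 : Valid 183808 := valid717.step Cfsg.Agent.CosetCertFi23FC9.just717 Cfsg.Agent.CosetCertFi23FC9.check717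

theorem valid719 : Valid 184064 := valid718.step Cfsg.Agent.CosetCertFi23FC9.just718 Cfsg.Agent.CosetCertFi23FC9.check718

theorem valid720 : Valid 184320 := valid719.step Cfsg.Agent.CosetCertFi23FC9.just719 Cfsg.Agent.CosetCertFi23FC9.check719

theorem valid721 : Valid 184576 := valid720.step Cfsg.Agent.CosetCertFi23FC9.just720 Cfsg.Agent.CosetCertFi23FC9.check720

theorem valid722 : Valid 184832 := valid721.step Cfsg.Agent.CosetCertFi23FC9.just721 Cfsg.Agent.CosetCertFi23FC9.check721

theorem valid723 : Valid 185088 := valid722.step Cfsg.Agent.CosetCertFi23FC9.just722 Cfsg.Agent.CosetCertFi23FC9.check722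

theorem valid724 : Valid 185344 := valid723.step Cfsg.Agent.CosetCertFi23FC9.just723 Cfsg.Agent.CosetCertFi23FC9.check723

theorem valid725 : Valid 185600 := valid724.step Cfsg.Agent.CosetCertFi23FC9.just724 Cfsg.Agent.CosetCertFi23FC9.check724

theorem valid726 : Valid 185856 := valid725.step Cfsg.Agent.CosetCertFi23FC9.just725 Cfsg.Agent.CosetCertFi23FC9.check725

theorem valid727 : Valid 186112 := valid726.step Cfsg.Agent.CosetCertFi23FC9.just726 Cfsg.Agent.CosetCertFi23FC9.check726

theorem valid728 : Valid 186368 := valid727.step Cfsg.Agent.CosetCertFi23FC9.just727 Cfsg.Agent.CosetCertFi23FC9.check727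

theorem valid729 : Valid 186624 := valid728.step Cfsg.Agent.CosetCertFi23FC9.just728 Cfsg.Agent.CosetCertFi23FC9.check728

theorem valid730 : Valid 186880 := valid729.step Cfsg.Agent.CosetCertFi23FC9.just729 Cfsg.Agent.CosetCertFi23FC9.check729

theorem valid731 : Valid 187136 := valid730.step Cfsg.Agent.CosetCertFi23FC9.just730 Cfsg.Agent.CosetCertFi23FC9.check730

theorem valid732 : Valid 187392 := valid731.step Cfsg.Agent.CosetCertFi23FC9.just731 Cfsg.Agent.CosetCertFi23FC9.check731

theorem valid733 : Valid 187648 := valid732.step Cfsg.Agent.CosetCertFi23FC9.just732 Cfsg.Agent.CosetCertFi23FC9.check732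

theorem valid734 : Valid 187904 := valid733.step Cfsg.Agent.CosetCertFi23FC9.just733 Cfsg.Agent.CosetCertFi23FC9.check733

theorem valid735 : Valid 188160 := valid734.step Cfsg.Agent.CosetCertFi23FC9.just734 Cfsg.Agent.CosetCertFi23FC9.check734

theorem valid736 : Valid 188416 := valid735.step Cfsg.Agent.CosetCertFi23FC9.just735 Cfsg.Agent.CosetCertFi23FC9.check735

theorem valid737 : Valid 188672 := valid736.step Cfsg.Agent.CosetCertFi23FC9.just736 Cfsg.Agent.CosetCertFi23FC9.check736

theorem valid738 : Valid 188928 := valid737.step Cfsg.Agent.CosetCertFi23FC9.just737 Cfsg.Agent.CosetCertFi23FC9.check737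

theorem valid739 : Valid 189184 := valid738.step Cfsg.Agent.CosetCertFi23FC9.just738 Cfsg.Agent.CosetCertFi23FC9.check738

theorem valid740 : Valid 189440 := valid739.step Cfsg.Agent.CosetCertFi23FC9.just739 Cfsg.Agent.CosetCertFi23FC9.check739

theorem valid741 : Valid 189696 := valid740.step Cfsg.Agent.CosetCertFi23FC9.just740 Cfsg.Agent.CosetCertFi23FC9.check740

theorem valid742 : Valid 189952 := valid741.step Cfsg.Agent.CosetCertFi23FC9.just741 Cfsg.Agent.CosetCertFi23FC9.check741

theorem valid743 : Valid 190208 := valid742.step Cfsg.Agent.CosetCertFi23FC9.just742 Cfsg.Agent.CosetCertFi23FC9.check742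

theorem valid744 : Valid 190464 := valid743.step Cfsg.Agent.CosetCertFi23FC9.just743 Cfsg.Agent.CosetCertFi23FC9.check743

theorem valid745 : Valid 190720 := valid744.step Cfsg.Agent.CosetCertFi23FC9.just744 Cfsg.Agent.CosetCertFi23FC9.check744

theorem valid746 : Valid 190976 := valid745.step Cfsg.Agent.CosetCertFi23FC9.just745 Cfsg.Agent.CosetCertFi23FC9.check745

theorem valid747 : Valid 191232 := valid746.step Cfsg.Agent.CosetCertFi23FC9.just746 Cfsg.Agent.CosetCertFi23FC9.check746

theorem valid748 : Valid 191488 := valid747.step Cfsg.Agent.CosetCertFi23FC9.just747 Cfsg.Agent.CosetCertFi23FC9.check747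

theorem valid749 : Valid 191744 := valid748.step Cfsg.Agent.CosetCertFi23FC9.just748 Cfsg.Agent.CosetCertFi23FC9.check748

theorem valid750 : Valid 192000 := valid749.step Cfsg.Agent.CosetCertFi23FC9.just749 Cfsg.Agent.CosetCertFi23FC9.check749

theorem valid751 : Valid 192256 := valid750.step Cfsg.Agent.CosetCertFi23FC9.just750 Cfsg.Agent.CosetCertFi23FC9.check750

theorem valid752 : Valid 192512 := valid751.step Cfsg.Agent.CosetCertFi23FC9.just751 Cfsg.Agent.CosetCertFi23FC9.check751

theorem valid753 : Valid 192768 := valid752.step Cfsg.Agent.CosetCertFi23FC9.just752 Cfsg.Agent.CosetCertFi23FC9.check752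

theorem valid754 : Valid 193024 := valid753.step Cfsg.Agent.CosetCertFi23FC9.just753 Cfsg.Agent.CosetCertFi23FC9.check753

theorem valid755 : Valid 193280 := valid754.step Cfsg.Agent.CosetCertFi23FC9.just754 Cfsg.Agent.CosetCertFi23FC9.check754

theorem valid756 : Valid 193536 := valid755.step Cfsg.Agent.CosetCertFi23FC9.just755 Cfsg.Agent.CosetCertFi23FC9.check755

theorem valid757 : Valid 193792 := valid756.step Cfsg.Agent.CosetCertFi23FC9.just756 Cfsg.Agent.CosetCertFi23FC9.check756

theorem valid758 : Valid 194048 := valid757.step Cfsg.Agent.CosetCertFi23FC9.just757 Cfsg.Agent.CosetCertFi23FC9.check757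

theorem valid759 : Valid 194304 := valid758.step Cfsg.Agent.CosetCertFi23FC9.just758 Cfsg.Agent.CosetCertFi23FC9.check758

theorem valid760 : Valid 194560 := valid759.step Cfsg.Agent.CosetCertFi23FC9.just759 Cfsg.Agent.CosetCertFi23FC9.check759

theorem valid761 : Valid 194816 := valid760.step Cfsg.Agent.CosetCertFi23FC9.just760 Cfsg.Agent.CosetCertFi23FC9.check760

theorem valid762 : Valid 195072 := valid761.step Cfsg.Agent.CosetCertFi23FC9.just761 Cfsg.Agent.CosetCertFi23FC9.check761

theorem valid763 : Valid 195328 := valid762.step Cfsg.Agent.CosetCertFi23FC9.just762 Cfsg.Agent.CosetCertFi23FC9.check762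

theorem valid764 : Valid 195584 := valid763.step Cfsg.Agent.CosetCertFi23FC9.just763 Cfsg.Agent.CosetCertFi23FC9.check763

theorem valid765 : Valid 195840 := valid764.step Cfsg.Agent.CosetCertFi23FC9.just764 Cfsg.Agent.CosetCertFi23FC9.check764

theorem valid766 : Valid 196096 := valid765.step Cfsg.Agent.CosetCertFi23FC9.just765 Cfsg.Agent.CosetCertFi23FC9.check765

theorem valid767 : Valid 196352 := valid766.step Cfsg.Agent.CosetCertFi23FC9.just766 Cfsg.Agent.CosetCertFi23FC9.check766

theorem valid768 : Valid 196608 := valid767.step Cfsg.Agent.CosetCertFi23FC9.just767 Cfsg.Agent.CosetCertFi23FC9.check767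

theorem valid769 : Valid 196864 := valid768.step Cfsg.Agent.CosetCertFi23FC9.just768 Cfsg.Agent.CosetCertFi23FC9.check768

theorem valid770 : Valid 197120 := valid769.step Cfsg.Agent.CosetCertFi23FC9.just769 Cfsg.Agent.CosetCertFi23FC9.check769

theorem valid771 : Valid 197376 := valid770.step Cfsg.Agent.CosetCertFi23FC9.just770 Cfsg.Agent.CosetCertFi23FC9.check770

theorem valid772 : Valid 197632 := valid771.step Cfsg.Agent.CosetCertFi23FC9.just771 Cfsg.Agent.CosetCertFi23FC9.check771

theorem valid773 : Valid 197888 := valid772.step Cfsg.Agent.CosetCertFi23FC9.just772 Cfsg.Agent.CosetCertFi23FC9.check772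

theorem valid774 : Valid 198144 := valid773.step Cfsg.Agent.CosetCertFi23FC9.just773 Cfsg.Agent.CosetCertFi23FC9.check773

theorem valid775 : Valid 198400 := valid774.step Cfsg.Agent.CosetCertFi23FC9.just774 Cfsg.Agent.CosetCertFi23FC9.check774

theorem valid776 : Valid 198656 := valid775.step Cfsg.Agent.CosetCertFi23FC9.just775 Cfsg.Agent.CosetCertFi23FC9.check775

theorem valid777 : Valid 198912 := valid776.step Cfsg.Agent.CosetCertFi23FC9.just776 Cfsg.Agent.CosetCertFi23FC9.check776

theorem valid778 : Valid 199168 := valid777.step Cfsg.Agent.CosetCertFi23FC9.just777 Cfsg.Agent.CosetCertFi23FC9.check777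

theorem valid779 : Valid 199424 := valid778.step Cfsg.Agent.CosetCertFi23FC9.just778 Cfsg.Agent.CosetCertFi23FC9.check778

theorem valid780 : Valid 199680 := valid779.step Cfsg.Agent.CosetCertFi23FC9.just779 Cfsg.Agent.CosetCertFi23FC9.check779

theorem valid781 : Valid 199936 := valid780.step Cfsg.Agent.CosetCertFi23FC10.just780 Cfsg.Agent.CosetCertFi23FC10.check780

theorem valid782 : Valid 200192 := valid781.step Cfsg.Agent.CosetCertFi23FC10.just781 Cfsg.Agent.CosetCertFi23FC10.check781

theorem valid783 : Valid 200448 := valid782.step Cfsg.Agent.CosetCertFi23FC10.just782 Cfsg.Agent.CosetCertFi23FC10.check782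

theorem valid784 : Valid 200704 := valid783.step Cfsg.Agent.CosetCertFi23FC10.just783 Cfsg.Agent.CosetCertFi23FC10.check783

theorem valid785 : Valid 200960 := valid784.step Cfsg.Agent.CosetCertFi23FC10.just784 Cfsg.Agent.CosetCertFi23FC10.check784

theorem valid786 : Valid 201216 := valid785.step Cfsg.Agent.CosetCertFi23FC10.just785 Cfsg.Agent.CosetCertFi23FC10.check785

theorem valid787 : Valid 201472 := valid786.step Cfsg.Agent.CosetCertFi23FC10.just786 Cfsg.Agent.CosetCertFi23FC10.check786

theorem valid788 : Valid 201728 := valid787.step Cfsg.Agent.CosetCertFi23FC10.just787 Cfsg.Agent.CosetCertFi23FC10.check787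

theorem valid789 : Valid 201984 := valid788.step Cfsg.Agent.CosetCertFi23FC10.just788 Cfsg.Agent.CosetCertFi23FC10.check788

theorem valid790 : Valid 202240 := valid789.step Cfsg.Agent.CosetCertFi23FC10.just789 Cfsg.Agent.CosetCertFi23FC10.check789

theorem valid791 : Valid 202496 := valid790.step Cfsg.Agent.CosetCertFi23FC10.just790 Cfsg.Agent.CosetCertFi23FC10.check790

theorem valid792 : Valid 202752 := valid791.step Cfsg.Agent.CosetCertFi23FC10.just791 Cfsg.Agent.CosetCertFi23FC10.check791

theorem valid793 : Valid 203008 := valid792.step Cfsg.Agent.CosetCertFi23FC10.just792 Cfsg.Agent.CosetCertFi23FC10.check792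

theorem valid794 : Valid 203264 := valid793.step Cfsg.Agent.CosetCertFi23FC10.just793 Cfsg.Agent.CosetCertFi23FC10.check793

theorem valid795 : Valid 203520 := valid794.step Cfsg.Agent.CosetCertFi23FC10.just794 Cfsg.Agent.CosetCertFi23FC10.check794

theorem valid796 : Valid 203776 := valid795.step Cfsg.Agent.CosetCertFi23FC10.just795 Cfsg.Agent.CosetCertFi23FC10.check795

theorem valid797 : Valid 204032 := valid796.step Cfsg.Agent.CosetCertFi23FC10.just796 Cfsg.Agent.CosetCertFi23FC10.check796

theorem valid798 : Valid 204288 := valid797.step Cfsg.Agent.CosetCertFi23FC10.just797 Cfsg.Agent.CosetCertFi23FC10.check797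

theorem valid799 : Valid 204544 := valid798.step Cfsg.Agent.CosetCertFi23FC10.just798 Cfsg.Agent.CosetCertFi23FC10.check798

theorem valid800 : Valid 204800 := valid799.step Cfsg.Agent.CosetCertFi23FC10.just799 Cfsg.Agent.CosetCertFi23FC10.check799

theorem valid801 : Valid 205056 := valid800.step Cfsg.Agent.CosetCertFi23FC10.just800 Cfsg.Agent.CosetCertFi23FC10.check800

theorem valid802 : Valid 205312 := valid801.step Cfsg.Agent.CosetCertFi23FC10.just801 Cfsg.Agent.CosetCertFi23FC10.check801

theorem valid803 : Valid 205568 := valid802.step Cfsg.Agent.CosetCertFi23FC10.just802 Cfsg.Agent.CosetCertFi23FC10.check802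

theorem valid804 : Valid 205824 := valid803.step Cfsg.Agent.CosetCertFi23FC10.just803 Cfsg.Agent.CosetCertFi23FC10.check803

theorem valid805 : Valid 206080 := valid804.step Cfsg.Agent.CosetCertFi23FC10.just804 Cfsg.Agent.CosetCertFi23FC10.check804

theorem valid806 : Valid 206336 := valid805.step Cfsg.Agent.CosetCertFi23FC10.just805 Cfsg.Agent.CosetCertFi23FC10.check805

theorem valid807 : Valid 206592 := valid806.step Cfsg.Agent.CosetCertFi23FC10.just806 Cfsg.Agent.CosetCertFi23FC10.check806

theorem valid808 : Valid 206848 := valid807.step Cfsg.Agent.CosetCertFi23FC10.just807 Cfsg.Agent.CosetCertFi23FC10.check807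

theorem valid809 : Valid 207104 := valid808.step Cfsg.Agent.CosetCertFi23FC10.just808 Cfsg.Agent.CosetCertFi23FC10.check808

theorem valid810 : Valid 207360 := valid809.step Cfsg.Agent.CosetCertFi23FC10.just809 Cfsg.Agent.CosetCertFi23FC10.check809

theorem valid811 : Valid 207616 := valid810.step Cfsg.Agent.CosetCertFi23FC10.just810 Cfsg.Agent.CosetCertFi23FC10.check810

theorem valid812 : Valid 207872 := valid811.step Cfsg.Agent.CosetCertFi23FC10.just811 Cfsg.Agent.CosetCertFi23FC10.check811

theorem valid813 : Valid 208128 := valid812.step Cfsg.Agent.CosetCertFi23FC10.just812 Cfsg.Agent.CosetCertFi23FC10.check812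

theorem valid814 : Valid 208384 := valid813.step Cfsg.Agent.CosetCertFi23FC10.just813 Cfsg.Agent.CosetCertFi23FC10.check813

theorem valid815 : Valid 208640 := valid814.step Cfsg.Agent.CosetCertFi23FC10.just814 Cfsg.Agent.CosetCertFi23FC10.check814

theorem valid816 : Valid 208896 := valid815.step Cfsg.Agent.CosetCertFi23FC10.just815 Cfsg.Agent.CosetCertFi23FC10.check815

theorem valid817 : Valid 209152 := valid816.step Cfsg.Agent.CosetCertFi23FC10.just816 Cfsg.Agent.CosetCertFi23FC10.check816

theorem valid818 : Valid 209408 := valid817.step Cfsg.Agent.CosetCertFi23FC10.just817 Cfsg.Agent.CosetCertFi23FC10.check817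

theorem valid819 : Valid 209664 := valid818.step Cfsg.Agent.CosetCertFi23FC10.just818 Cfsg.Agent.CosetCertFi23FC10.check818

theorem valid820 : Valid 209920 := valid819.step Cfsg.Agent.CosetCertFi23FC10.just819 Cfsg.Agent.CosetCertFi23FC10.check819

theorem valid821 : Valid 210176 := valid820.step Cfsg.Agent.CosetCertFi23FC10.just820 Cfsg.Agent.CosetCertFi23FC10.check820

theorem valid822 : Valid 210432 := valid821.step Cfsg.Agent.CosetCertFi23FC10.just821 Cfsg.Agent.CosetCertFi23FC10.check821

theorem valid823 : Valid 210688 := valid822.step Cfsg.Agent.CosetCertFi23FC10.just822 Cfsg.Agent.CosetCertFi23FC10.check822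

theorem valid824 : Valid 210944 := valid823.step Cfsg.Agent.CosetCertFi23FC10.just823 Cfsg.Agent.CosetCertFi23FC10.check823

theorem valid825 : Valid 211200 := valid824.step Cfsg.Agent.CosetCertFi23FC10.just824 Cfsg.Agent.CosetCertFi23FC10.check824

theorem valid826 : Valid 211456 := valid825.step Cfsg.Agent.CosetCertFi23FC10.just825 Cfsg.Agent.CosetCertFi23FC10.check825

theorem valid827 : Valid 211712 := valid826.step Cfsg.Agent.CosetCertFi23FC10.just826 Cfsg.Agent.CosetCertFi23FC10.check826

theorem valid828 : Valid 211968 := valid827.step Cfsg.Agent.CosetCertFi23FC10.just827 Cfsg.Agent.CosetCertFi23FC10.check827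

theorem valid829 : Valid 212224 := valid828.step Cfsg.Agent.CosetCertFi23FC10.just828 Cfsg.Agent.CosetCertFi23FC10.check828

theorem valid830 : Valid 212480 := valid829.step Cfsg.Agent.CosetCertFi23FC10.just829 Cfsg.Agent.CosetCertFi23FC10.check829

theorem valid831 : Valid 212551 := valid830.step Cfsg.Agent.CosetCertFi23FC10.just830 Cfsg.Agent.CosetCertFi23FC10.check830

theorem points0 : AllBelow (pointOk cert 212551 table) 0 := AllBelow.zero _

theorem points1 : AllBelow (pointOk cert 212551 table) 64 := AllBelow.step points0 64 Cfsg.Agent.CosetCertFi23FP0.points1c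

theorem points2 : AllBelow (pointOk cert 212551 table) 128 := AllBelow.step points1 64 Cfsg.Agent.CosetCertFi23FP0.points2c

theorem points3 : AllBelow (pointOk cert 212551 table) 192 := AllBelow.step points2 64 Cfsg.Agent.CosetCertFi23FP0.points3c

theorem points4 : AllBelow (pointOk cert 212551 table) 256 := AllBelow.step points3 64 Cfsg.Agent.CosetCertFi23FP0.points4c

theorem points5 : AllBelow (pointOk cert 212551 table) 320 := AllBelow.step points4 64 Cfsg.Agent.CosetCertFi23FP0.points5c

theorem points6 : AllBelow (pointOk cert 212551 table) 384 := AllBelow.step points5 64 Cfsg.Agent.CosetCertFi23FP0.points6c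

theorem points7 : AllBelow (pointOk cert 212551 table) 448 := AllBelow.step points6 64 Cfsg.Agent.CosetCertFi23FP0.points7c

theorem points8 : AllBelow (pointOk cert 212551 table) 512 := AllBelow.step points7 64 Cfsg.Agent.CosetCertFi23FP0.points8c

theorem points9 : AllBelow (pointOk cert 212551 table) 576 := AllBelow.step points8 64 Cfsg.Agent.CosetCertFi23FP0.points9c

theorem points10 : AllBelow (pointOk cert 212551 table) 640 := AllBelow.step points9 64 Cfsg.Agent.CosetCertFi23FP0.points10c

theorem points11 : AllBelow (pointOk cert 212551 table) 704 := AllBelow.step points10 64 Cfsg.Agent.CosetCertFi23FP0.points11c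

theorem points12 : AllBelow (pointOk cert 212551 table) 768 := AllBelow.step points11 64 Cfsg.Agent.CosetCertFi23FP0.points12c

theorem points13 : AllBelow (pointOk cert 212551 table) 832 := AllBelow.step points12 64 Cfsg.Agent.CosetCertFi23FP0.points13c

theorem points14 : AllBelow (pointOk cert 212551 table) 896 := AllBelow.step points13 64 Cfsg.Agent.CosetCertFi23FP0.points14c

theorem points15 : AllBelow (pointOk cert 212551 table) 960 := AllBelow.step points14 64 Cfsg.Agent.CosetCertFi23FP0.points15c

theorem points16 : AllBelow (pointOk cert 212551 table) 1024 := AllBelow.step points15 64 Cfsg.Agent.CosetCertFi23FP0.points16c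

theorem points17 : AllBelow (pointOk cert 212551 table) 1088 := AllBelow.step points16 64 Cfsg.Agent.CosetCertFi23FP0.points17c

theorem points18 : AllBelow (pointOk cert 212551 table) 1152 := AllBelow.step points17 64 Cfsg.Agent.CosetCertFi23FP0.points18c

theorem points19 : AllBelow (pointOk cert 212551 table) 1216 := AllBelow.step points18 64 Cfsg.Agent.CosetCertFi23FP0.points19c

theorem points20 : AllBelow (pointOk cert 212551 table) 1280 := AllBelow.step points19 64 Cfsg.Agent.CosetCertFi23FP0.points20c

theorem points21 : AllBelow (pointOk cert 212551 table) 1344 := AllBelow.step points20 64 Cfsg.Agent.CosetCertFi23FP0.points21c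

theorem points22 : AllBelow (pointOk cert 212551 table) 1408 := AllBelow.step points21 64 Cfsg.Agent.CosetCertFi23FP0.points22c

theorem points23 : AllBelow (pointOk cert 212551 table) 1472 := AllBelow.step points22 64 Cfsg.Agent.CosetCertFi23FP0.points23c

theorem points24 : AllBelow (pointOk cert 212551 table) 1536 := AllBelow.step points23 64 Cfsg.Agent.CosetCertFi23FP0.points24c

theorem points25 : AllBelow (pointOk cert 212551 table) 1600 := AllBelow.step points24 64 Cfsg.Agent.CosetCertFi23FP0.points25c

theorem points26 : AllBelow (pointOk cert 212551 table) 1664 := AllBelow.step points25 64 Cfsg.Agent.CosetCertFi23FP0.points26c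

theorem points27 : AllBelow (pointOk cert 212551 table) 1728 := AllBelow.step points26 64 Cfsg.Agent.CosetCertFi23FP0.points27c

theorem points28 : AllBelow (pointOk cert 212551 table) 1792 := AllBelow.step points27 64 Cfsg.Agent.CosetCertFi23FP0.points28c

theorem points29 : AllBelow (pointOk cert 212551 table) 1856 := AllBelow.step points28 64 Cfsg.Agent.CosetCertFi23FP0.points29c

theorem points30 : AllBelow (pointOk cert 212551 table) 1920 := AllBelow.step points29 64 Cfsg.Agent.CosetCertFi23FP0.points30c

theorem points31 : AllBelow (pointOk cert 212551 table) 1984 := AllBelow.step points30 64 Cfsg.Agent.CosetCertFi23FP0.points31c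

theorem points32 : AllBelow (pointOk cert 212551 table) 2048 := AllBelow.step points31 64 Cfsg.Agent.CosetCertFi23FP1.points32c

theorem points33 : AllBelow (pointOk cert 212551 table) 2112 := AllBelow.step points32 64 Cfsg.Agent.CosetCertFi23FP1.points33c

theorem points34 : AllBelow (pointOk cert 212551 table) 2176 := AllBelow.step points33 64 Cfsg.Agent.CosetCertFi23FP1.points34c

theorem points35 : AllBelow (pointOk cert 212551 table) 2240 := AllBelow.step points34 64 Cfsg.Agent.CosetCertFi23FP1.points35c

theorem points36 : AllBelow (pointOk cert 212551 table) 2304 := AllBelow.step points35 64 Cfsg.Agent.CosetCertFi23FP1.points36c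

theorem points37 : AllBelow (pointOk cert 212551 table) 2368 := AllBelow.step points36 64 Cfsg.Agent.CosetCertFi23FP1.points37c

theorem points38 : AllBelow (pointOk cert 212551 table) 2432 := AllBelow.step points37 64 Cfsg.Agent.CosetCertFi23FP1.points38c

theorem points39 : AllBelow (pointOk cert 212551 table) 2496 := AllBelow.step points38 64 Cfsg.Agent.CosetCertFi23FP1.points39c

theorem points40 : AllBelow (pointOk cert 212551 table) 2560 := AllBelow.step points39 64 Cfsg.Agent.CosetCertFi23FP1.points40c

theorem points41 : AllBelow (pointOk cert 212551 table) 2624 := AllBelow.step points40 64 Cfsg.Agent.CosetCertFi23FP1.points41c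

theorem points42 : AllBelow (pointOk cert 212551 table) 2688 := AllBelow.step points41 64 Cfsg.Agent.CosetCertFi23FP1.points42c

theorem points43 : AllBelow (pointOk cert 212551 table) 2752 := AllBelow.step points42 64 Cfsg.Agent.CosetCertFi23FP1.points43c

theorem points44 : AllBelow (pointOk cert 212551 table) 2816 := AllBelow.step points43 64 Cfsg.Agent.CosetCertFi23FP1.points44c

theorem points45 : AllBelow (pointOk cert 212551 table) 2880 := AllBelow.step points44 64 Cfsg.Agent.CosetCertFi23FP1.points45c

theorem points46 : AllBelow (pointOk cert 212551 table) 2944 := AllBelow.step points45 64 Cfsg.Agent.CosetCertFi23FP1.points46c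

theorem points47 : AllBelow (pointOk cert 212551 table) 3008 := AllBelow.step points46 64 Cfsg.Agent.CosetCertFi23FP1.points47c

theorem points48 : AllBelow (pointOk cert 212551 table) 3072 := AllBelow.step points47 64 Cfsg.Agent.CosetCertFi23FP1.points48c

theorem points49 : AllBelow (pointOk cert 212551 table) 3136 := AllBelow.step points48 64 Cfsg.Agent.CosetCertFi23FP1.points49c

theorem points50 : AllBelow (pointOk cert 212551 table) 3200 := AllBelow.step points49 64 Cfsg.Agent.CosetCertFi23FP1.points50c

theorem points51 : AllBelow (pointOk cert 212551 table) 3264 := AllBelow.step points50 64 Cfsg.Agent.CosetCertFi23FP1.points51c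

theorem points52 : AllBelow (pointOk cert 212551 table) 3328 := AllBelow.step points51 64 Cfsg.Agent.CosetCertFi23FP1.points52c

theorem points53 : AllBelow (pointOk cert 212551 table) 3392 := AllBelow.step points52 64 Cfsg.Agent.CosetCertFi23FP1.points53c

theorem points54 : AllBelow (pointOk cert 212551 table) 3456 := AllBelow.step points53 64 Cfsg.Agent.CosetCertFi23FP1.points54c

theorem points55 : AllBelow (pointOk cert 212551 table) 3520 := AllBelow.step points54 64 Cfsg.Agent.CosetCertFi23FP1.points55c

theorem points56 : AllBelow (pointOk cert 212551 table) 3584 := AllBelow.step points55 64 Cfsg.Agent.CosetCertFi23FP1.points56c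

theorem points57 : AllBelow (pointOk cert 212551 table) 3648 := AllBelow.step points56 64 Cfsg.Agent.CosetCertFi23FP1.points57c

theorem points58 : AllBelow (pointOk cert 212551 table) 3712 := AllBelow.step points57 64 Cfsg.Agent.CosetCertFi23FP1.points58c

theorem points59 : AllBelow (pointOk cert 212551 table) 3776 := AllBelow.step points58 64 Cfsg.Agent.CosetCertFi23FP1.points59c

theorem points60 : AllBelow (pointOk cert 212551 table) 3840 := AllBelow.step points59 64 Cfsg.Agent.CosetCertFi23FP1.points60c

theorem points61 : AllBelow (pointOk cert 212551 table) 3904 := AllBelow.step points60 64 Cfsg.Agent.CosetCertFi23FP1.points61c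

theorem points62 : AllBelow (pointOk cert 212551 table) 3968 := AllBelow.step points61 64 Cfsg.Agent.CosetCertFi23FP1.points62c

theorem points63 : AllBelow (pointOk cert 212551 table) 4032 := AllBelow.step points62 64 Cfsg.Agent.CosetCertFi23FP2.points63c

theorem points64 : AllBelow (pointOk cert 212551 table) 4096 := AllBelow.step points63 64 Cfsg.Agent.CosetCertFi23FP2.points64c

theorem points65 : AllBelow (pointOk cert 212551 table) 4160 := AllBelow.step points64 64 Cfsg.Agent.CosetCertFi23FP2.points65c

theorem points66 : AllBelow (pointOk cert 212551 table) 4224 := AllBelow.step points65 64 Cfsg.Agent.CosetCertFi23FP2.points66c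

theorem points67 : AllBelow (pointOk cert 212551 table) 4288 := AllBelow.step points66 64 Cfsg.Agent.CosetCertFi23FP2.points67c

theorem points68 : AllBelow (pointOk cert 212551 table) 4352 := AllBelow.step points67 64 Cfsg.Agent.CosetCertFi23FP2.points68c

theorem points69 : AllBelow (pointOk cert 212551 table) 4416 := AllBelow.step points68 64 Cfsg.Agent.CosetCertFi23FP2.points69c

theorem points70 : AllBelow (pointOk cert 212551 table) 4480 := AllBelow.step points69 64 Cfsg.Agent.CosetCertFi23FP2.points70c

theorem points71 : AllBelow (pointOk cert 212551 table) 4544 := AllBelow.step points70 64 Cfsg.Agent.CosetCertFi23FP2.points71c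

theorem points72 : AllBelow (pointOk cert 212551 table) 4608 := AllBelow.step points71 64 Cfsg.Agent.CosetCertFi23FP2.points72c

theorem points73 : AllBelow (pointOk cert 212551 table) 4672 := AllBelow.step points72 64 Cfsg.Agent.CosetCertFi23FP2.points73c

theorem points74 : AllBelow (pointOk cert 212551 table) 4736 := AllBelow.step points73 64 Cfsg.Agent.CosetCertFi23FP2.points74c

theorem points75 : AllBelow (pointOk cert 212551 table) 4800 := AllBelow.step points74 64 Cfsg.Agent.CosetCertFi23FP2.points75c

theorem points76 : AllBelow (pointOk cert 212551 table) 4864 := AllBelow.step points75 64 Cfsg.Agent.CosetCertFi23FP2.points76c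

theorem points77 : AllBelow (pointOk cert 212551 table) 4928 := AllBelow.step points76 64 Cfsg.Agent.CosetCertFi23FP2.points77c

theorem points78 : AllBelow (pointOk cert 212551 table) 4992 := AllBelow.step points77 64 Cfsg.Agent.CosetCertFi23FP2.points78c

theorem points79 : AllBelow (pointOk cert 212551 table) 5056 := AllBelow.step points78 64 Cfsg.Agent.CosetCertFi23FP2.points79c

theorem points80 : AllBelow (pointOk cert 212551 table) 5120 := AllBelow.step points79 64 Cfsg.Agent.CosetCertFi23FP2.points80c

theorem points81 : AllBelow (pointOk cert 212551 table) 5184 := AllBelow.step points80 64 Cfsg.Agent.CosetCertFi23FP2.points81c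

theorem points82 : AllBelow (pointOk cert 212551 table) 5248 := AllBelow.step points81 64 Cfsg.Agent.CosetCertFi23FP2.points82c

theorem points83 : AllBelow (pointOk cert 212551 table) 5312 := AllBelow.step points82 64 Cfsg.Agent.CosetCertFi23FP2.points83c

theorem points84 : AllBelow (pointOk cert 212551 table) 5376 := AllBelow.step points83 64 Cfsg.Agent.CosetCertFi23FP2.points84c

theorem points85 : AllBelow (pointOk cert 212551 table) 5440 := AllBelow.step points84 64 Cfsg.Agent.CosetCertFi23FP2.points85c

theorem points86 : AllBelow (pointOk cert 212551 table) 5504 := AllBelow.step points85 64 Cfsg.Agent.CosetCertFi23FP2.points86c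

theorem points87 : AllBelow (pointOk cert 212551 table) 5568 := AllBelow.step points86 64 Cfsg.Agent.CosetCertFi23FP2.points87c

theorem points88 : AllBelow (pointOk cert 212551 table) 5632 := AllBelow.step points87 64 Cfsg.Agent.CosetCertFi23FP2.points88c

theorem points89 : AllBelow (pointOk cert 212551 table) 5696 := AllBelow.step points88 64 Cfsg.Agent.CosetCertFi23FP2.points89c

theorem points90 : AllBelow (pointOk cert 212551 table) 5760 := AllBelow.step points89 64 Cfsg.Agent.CosetCertFi23FP2.points90c

theorem points91 : AllBelow (pointOk cert 212551 table) 5824 := AllBelow.step points90 64 Cfsg.Agent.CosetCertFi23FP2.points91c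

theorem points92 : AllBelow (pointOk cert 212551 table) 5888 := AllBelow.step points91 64 Cfsg.Agent.CosetCertFi23FP2.points92c

theorem points93 : AllBelow (pointOk cert 212551 table) 5952 := AllBelow.step points92 64 Cfsg.Agent.CosetCertFi23FP2.points93c

theorem points94 : AllBelow (pointOk cert 212551 table) 6016 := AllBelow.step points93 64 Cfsg.Agent.CosetCertFi23FP3.points94c

theorem points95 : AllBelow (pointOk cert 212551 table) 6080 := AllBelow.step points94 64 Cfsg.Agent.CosetCertFi23FP3.points95c

theorem points96 : AllBelow (pointOk cert 212551 table) 6144 := AllBelow.step points95 64 Cfsg.Agent.CosetCertFi23FP3.points96c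

theorem points97 : AllBelow (pointOk cert 212551 table) 6208 := AllBelow.step points96 64 Cfsg.Agent.CosetCertFi23FP3.points97c

theorem points98 : AllBelow (pointOk cert 212551 table) 6272 := AllBelow.step points97 64 Cfsg.Agent.CosetCertFi23FP3.points98c

theorem points99 : AllBelow (pointOk cert 212551 table) 6336 := AllBelow.step points98 64 Cfsg.Agent.CosetCertFi23FP3.points99c

theorem points100 : AllBelow (pointOk cert 212551 table) 6400 := AllBelow.step points99 64 Cfsg.Agent.CosetCertFi23FP3.points100c

theorem points101 : AllBelow (pointOk cert 212551 table) 6464 := AllBelow.step points100 64 Cfsg.Agent.CosetCertFi23FP3.points101c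

theorem points102 : AllBelow (pointOk cert 212551 table) 6528 := AllBelow.step points101 64 Cfsg.Agent.CosetCertFi23FP3.points102c

theorem points103 : AllBelow (pointOk cert 212551 table) 6592 := AllBelow.step points102 64 Cfsg.Agent.CosetCertFi23FP3.points103c

theorem points104 : AllBelow (pointOk cert 212551 table) 6656 := AllBelow.step points103 64 Cfsg.Agent.CosetCertFi23FP3.points104c

theorem points105 : AllBelow (pointOk cert 212551 table) 6720 := AllBelow.step points104 64 Cfsg.Agent.CosetCertFi23FP3.points105c

theorem points106 : AllBelow (pointOk cert 212551 table) 6784 := AllBelow.step points105 64 Cfsg.Agent.CosetCertFi23FP3.points106c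

theorem points107 : AllBelow (pointOk cert 212551 table) 6848 := AllBelow.step points106 64 Cfsg.Agent.CosetCertFi23FP3.points107c

theorem points108 : AllBelow (pointOk cert 212551 table) 6912 := AllBelow.step points107 64 Cfsg.Agent.CosetCertFi23FP3.points108c

theorem points109 : AllBelow (pointOk cert 212551 table) 6976 := AllBelow.step points108 64 Cfsg.Agent.CosetCertFi23FP3.points109c

theorem points110 : AllBelow (pointOk cert 212551 table) 7040 := AllBelow.step points109 64 Cfsg.Agent.CosetCertFi23FP3.points110c

theorem points111 : AllBelow (pointOk cert 212551 table) 7104 := AllBelow.step points110 64 Cfsg.Agent.CosetCertFi23FP3.points111c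

theorem points112 : AllBelow (pointOk cert 212551 table) 7168 := AllBelow.step points111 64 Cfsg.Agent.CosetCertFi23FP3.points112c

theorem points113 : AllBelow (pointOk cert 212551 table) 7232 := AllBelow.step points112 64 Cfsg.Agent.CosetCertFi23FP3.points113c

theorem points114 : AllBelow (pointOk cert 212551 table) 7296 := AllBelow.step points113 64 Cfsg.Agent.CosetCertFi23FP3.points114c

theorem points115 : AllBelow (pointOk cert 212551 table) 7360 := AllBelow.step points114 64 Cfsg.Agent.CosetCertFi23FP3.points115c

theorem points116 : AllBelow (pointOk cert 212551 table) 7424 := AllBelow.step points115 64 Cfsg.Agent.CosetCertFi23FP3.points116c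

theorem points117 : AllBelow (pointOk cert 212551 table) 7488 := AllBelow.step points116 64 Cfsg.Agent.CosetCertFi23FP3.points117c

theorem points118 : AllBelow (pointOk cert 212551 table) 7552 := AllBelow.step points117 64 Cfsg.Agent.CosetCertFi23FP3.points118c

theorem points119 : AllBelow (pointOk cert 212551 table) 7616 := AllBelow.step points118 64 Cfsg.Agent.CosetCertFi23FP3.points119c

theorem points120 : AllBelow (pointOk cert 212551 table) 7680 := AllBelow.step points119 64 Cfsg.Agent.CosetCertFi23FP3.points120c

theorem points121 : AllBelow (pointOk cert 212551 table) 7744 := AllBelow.step points120 64 Cfsg.Agent.CosetCertFi23FP3.points121c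

theorem points122 : AllBelow (pointOk cert 212551 table) 7808 := AllBelow.step points121 64 Cfsg.Agent.CosetCertFi23FP3.points122c

theorem points123 : AllBelow (pointOk cert 212551 table) 7872 := AllBelow.step points122 64 Cfsg.Agent.CosetCertFi23FP3.points123c

theorem points124 : AllBelow (pointOk cert 212551 table) 7936 := AllBelow.step points123 64 Cfsg.Agent.CosetCertFi23FP3.points124c

theorem points125 : AllBelow (pointOk cert 212551 table) 8000 := AllBelow.step points124 64 Cfsg.Agent.CosetCertFi23FP4.points125c

theorem points126 : AllBelow (pointOk cert 212551 table) 8064 := AllBelow.step points125 64 Cfsg.Agent.CosetCertFi23FP4.points126c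

theorem points127 : AllBelow (pointOk cert 212551 table) 8128 := AllBelow.step points126 64 Cfsg.Agent.CosetCertFi23FP4.points127c

theorem points128 : AllBelow (pointOk cert 212551 table) 8192 := AllBelow.step points127 64 Cfsg.Agent.CosetCertFi23FP4.points128c

theorem points129 : AllBelow (pointOk cert 212551 table) 8256 := AllBelow.step points128 64 Cfsg.Agent.CosetCertFi23FP4.points129c

theorem points130 : AllBelow (pointOk cert 212551 table) 8320 := AllBelow.step points129 64 Cfsg.Agent.CosetCertFi23FP4.points130c

theorem points131 : AllBelow (pointOk cert 212551 table) 8384 := AllBelow.step points130 64 Cfsg.Agent.CosetCertFi23FP4.points131c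

theorem points132 : AllBelow (pointOk cert 212551 table) 8448 := AllBelow.step points131 64 Cfsg.Agent.CosetCertFi23FP4.points132c

theorem points133 : AllBelow (pointOk cert 212551 table) 8512 := AllBelow.step points132 64 Cfsg.Agent.CosetCertFi23FP4.points133c

theorem points134 : AllBelow (pointOk cert 212551 table) 8576 := AllBelow.step points133 64 Cfsg.Agent.CosetCertFi23FP4.points134c

theorem points135 : AllBelow (pointOk cert 212551 table) 8640 := AllBelow.step points134 64 Cfsg.Agent.CosetCertFi23FP4.points135c

theorem points136 : AllBelow (pointOk cert 212551 table) 8704 := AllBelow.step points135 64 Cfsg.Agent.CosetCertFi23FP4.points136c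

theorem points137 : AllBelow (pointOk cert 212551 table) 8768 := AllBelow.step points136 64 Cfsg.Agent.CosetCertFi23FP4.points137c

theorem points138 : AllBelow (pointOk cert 212551 table) 8832 := AllBelow.step points137 64 Cfsg.Agent.CosetCertFi23FP4.points138c

theorem points139 : AllBelow (pointOk cert 212551 table) 8896 := AllBelow.step points138 64 Cfsg.Agent.CosetCertFi23FP4.points139c

theorem points140 : AllBelow (pointOk cert 212551 table) 8960 := AllBelow.step points139 64 Cfsg.Agent.CosetCertFi23FP4.points140c

theorem points141 : AllBelow (pointOk cert 212551 table) 9024 := AllBelow.step points140 64 Cfsg.Agent.CosetCertFi23FP4.points141c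

theorem points142 : AllBelow (pointOk cert 212551 table) 9088 := AllBelow.step points141 64 Cfsg.Agent.CosetCertFi23FP4.points142c

theorem points143 : AllBelow (pointOk cert 212551 table) 9152 := AllBelow.step points142 64 Cfsg.Agent.CosetCertFi23FP4.points143c

theorem points144 : AllBelow (pointOk cert 212551 table) 9216 := AllBelow.step points143 64 Cfsg.Agent.CosetCertFi23FP4.points144c

theorem points145 : AllBelow (pointOk cert 212551 table) 9280 := AllBelow.step points144 64 Cfsg.Agent.CosetCertFi23FP4.points145c

theorem points146 : AllBelow (pointOk cert 212551 table) 9344 := AllBelow.step points145 64 Cfsg.Agent.CosetCertFi23FP4.points146c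

theorem points147 : AllBelow (pointOk cert 212551 table) 9408 := AllBelow.step points146 64 Cfsg.Agent.CosetCertFi23FP4.points147c

theorem points148 : AllBelow (pointOk cert 212551 table) 9472 := AllBelow.step points147 64 Cfsg.Agent.CosetCertFi23FP4.points148c

theorem points149 : AllBelow (pointOk cert 212551 table) 9536 := AllBelow.step points148 64 Cfsg.Agent.CosetCertFi23FP4.points149c

theorem points150 : AllBelow (pointOk cert 212551 table) 9600 := AllBelow.step points149 64 Cfsg.Agent.CosetCertFi23FP4.points150c

theorem points151 : AllBelow (pointOk cert 212551 table) 9664 := AllBelow.step points150 64 Cfsg.Agent.CosetCertFi23FP4.points151c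

theorem points152 : AllBelow (pointOk cert 212551 table) 9728 := AllBelow.step points151 64 Cfsg.Agent.CosetCertFi23FP4.points152c

theorem points153 : AllBelow (pointOk cert 212551 table) 9792 := AllBelow.step points152 64 Cfsg.Agent.CosetCertFi23FP4.points153c

theorem points154 : AllBelow (pointOk cert 212551 table) 9856 := AllBelow.step points153 64 Cfsg.Agent.CosetCertFi23FP4.points154c

theorem points155 : AllBelow (pointOk cert 212551 table) 9920 := AllBelow.step points154 64 Cfsg.Agent.CosetCertFi23FP4.points155c

theorem points156 : AllBelow (pointOk cert 212551 table) 9984 := AllBelow.step points155 64 Cfsg.Agent.CosetCertFi23FP5.points156c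

theorem points157 : AllBelow (pointOk cert 212551 table) 10048 := AllBelow.step points156 64 Cfsg.Agent.CosetCertFi23FP5.points157c

theorem points158 : AllBelow (pointOk cert 212551 table) 10112 := AllBelow.step points157 64 Cfsg.Agent.CosetCertFi23FP5.points158c

theorem points159 : AllBelow (pointOk cert 212551 table) 10176 := AllBelow.step points158 64 Cfsg.Agent.CosetCertFi23FP5.points159c

theorem points160 : AllBelow (pointOk cert 212551 table) 10240 := AllBelow.step points159 64 Cfsg.Agent.CosetCertFi23FP5.points160c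

theorem points161 : AllBelow (pointOk cert 212551 table) 10304 := AllBelow.step points160 64 Cfsg.Agent.CosetCertFi23FP5.points161c

theorem points162 : AllBelow (pointOk cert 212551 table) 10368 := AllBelow.step points161 64 Cfsg.Agent.CosetCertFi23FP5.points162c

theorem points163 : AllBelow (pointOk cert 212551 table) 10432 := AllBelow.step points162 64 Cfsg.Agent.CosetCertFi23FP5.points163c

theorem points164 : AllBelow (pointOk cert 212551 table) 10496 := AllBelow.step points163 64 Cfsg.Agent.CosetCertFi23FP5.points164c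

theorem points165 : AllBelow (pointOk cert 212551 table) 10560 := AllBelow.step points164 64 Cfsg.Agent.CosetCertFi23FP5.points165c

theorem points166 : AllBelow (pointOk cert 212551 table) 10624 := AllBelow.step points165 64 Cfsg.Agent.CosetCertFi23FP5.points166c

theorem points167 : AllBelow (pointOk cert 212551 table) 10688 := AllBelow.step points166 64 Cfsg.Agent.CosetCertFi23FP5.points167c

theorem points168 : AllBelow (pointOk cert 212551 table) 10752 := AllBelow.step points167 64 Cfsg.Agent.CosetCertFi23FP5.points168c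

theorem points169 : AllBelow (pointOk cert 212551 table) 10816 := AllBelow.step points168 64 Cfsg.Agent.CosetCertFi23FP5.points169c

theorem points170 : AllBelow (pointOk cert 212551 table) 10880 := AllBelow.step points169 64 Cfsg.Agent.CosetCertFi23FP5.points170c

theorem points171 : AllBelow (pointOk cert 212551 table) 10944 := AllBelow.step points170 64 Cfsg.Agent.CosetCertFi23FP5.points171c

theorem points172 : AllBelow (pointOk cert 212551 table) 11008 := AllBelow.step points171 64 Cfsg.Agent.CosetCertFi23FP5.points172c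

theorem points173 : AllBelow (pointOk cert 212551 table) 11072 := AllBelow.step points172 64 Cfsg.Agent.CosetCertFi23FP5.points173c

theorem points174 : AllBelow (pointOk cert 212551 table) 11136 := AllBelow.step points173 64 Cfsg.Agent.CosetCertFi23FP5.points174c

theorem points175 : AllBelow (pointOk cert 212551 table) 11200 := AllBelow.step points174 64 Cfsg.Agent.CosetCertFi23FP5.points175c

theorem points176 : AllBelow (pointOk cert 212551 table) 11264 := AllBelow.step points175 64 Cfsg.Agent.CosetCertFi23FP5.points176c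

theorem points177 : AllBelow (pointOk cert 212551 table) 11328 := AllBelow.step points176 64 Cfsg.Agent.CosetCertFi23FP5.points177c

theorem points178 : AllBelow (pointOk cert 212551 table) 11392 := AllBelow.step points177 64 Cfsg.Agent.CosetCertFi23FP5.points178c

theorem points179 : AllBelow (pointOk cert 212551 table) 11456 := AllBelow.step points178 64 Cfsg.Agent.CosetCertFi23FP5.points179c

theorem points180 : AllBelow (pointOk cert 212551 table) 11520 := AllBelow.step points179 64 Cfsg.Agent.CosetCertFi23FP5.points180c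

theorem points181 : AllBelow (pointOk cert 212551 table) 11584 := AllBelow.step points180 64 Cfsg.Agent.CosetCertFi23FP5.points181c

theorem points182 : AllBelow (pointOk cert 212551 table) 11648 := AllBelow.step points181 64 Cfsg.Agent.CosetCertFi23FP5.points182c

theorem points183 : AllBelow (pointOk cert 212551 table) 11712 := AllBelow.step points182 64 Cfsg.Agent.CosetCertFi23FP5.points183c

theorem points184 : AllBelow (pointOk cert 212551 table) 11776 := AllBelow.step points183 64 Cfsg.Agent.CosetCertFi23FP5.points184c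

theorem points185 : AllBelow (pointOk cert 212551 table) 11840 := AllBelow.step points184 64 Cfsg.Agent.CosetCertFi23FP5.points185c

theorem points186 : AllBelow (pointOk cert 212551 table) 11904 := AllBelow.step points185 64 Cfsg.Agent.CosetCertFi23FP5.points186c

theorem points187 : AllBelow (pointOk cert 212551 table) 11968 := AllBelow.step points186 64 Cfsg.Agent.CosetCertFi23FP6.points187c

theorem points188 : AllBelow (pointOk cert 212551 table) 12032 := AllBelow.step points187 64 Cfsg.Agent.CosetCertFi23FP6.points188c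

theorem points189 : AllBelow (pointOk cert 212551 table) 12096 := AllBelow.step points188 64 Cfsg.Agent.CosetCertFi23FP6.points189c

theorem points190 : AllBelow (pointOk cert 212551 table) 12160 := AllBelow.step points189 64 Cfsg.Agent.CosetCertFi23FP6.points190c

theorem points191 : AllBelow (pointOk cert 212551 table) 12224 := AllBelow.step points190 64 Cfsg.Agent.CosetCertFi23FP6.points191c

theorem points192 : AllBelow (pointOk cert 212551 table) 12288 := AllBelow.step points191 64 Cfsg.Agent.CosetCertFi23FP6.points192c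

theorem points193 : AllBelow (pointOk cert 212551 table) 12352 := AllBelow.step points192 64 Cfsg.Agent.CosetCertFi23FP6.points193c

theorem points194 : AllBelow (pointOk cert 212551 table) 12416 := AllBelow.step points193 64 Cfsg.Agent.CosetCertFi23FP6.points194c

theorem points195 : AllBelow (pointOk cert 212551 table) 12480 := AllBelow.step points194 64 Cfsg.Agent.CosetCertFi23FP6.points195c

theorem points196 : AllBelow (pointOk cert 212551 table) 12544 := AllBelow.step points195 64 Cfsg.Agent.CosetCertFi23FP6.points196c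

theorem points197 : AllBelow (pointOk cert 212551 table) 12608 := AllBelow.step points196 64 Cfsg.Agent.CosetCertFi23FP6.points197c

theorem points198 : AllBelow (pointOk cert 212551 table) 12672 := AllBelow.step points197 64 Cfsg.Agent.CosetCertFi23FP6.points198c

theorem points199 : AllBelow (pointOk cert 212551 table) 12736 := AllBelow.step points198 64 Cfsg.Agent.CosetCertFi23FP6.points199c

theorem points200 : AllBelow (pointOk cert 212551 table) 12800 := AllBelow.step points199 64 Cfsg.Agent.CosetCertFi23FP6.points200c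

theorem points201 : AllBelow (pointOk cert 212551 table) 12864 := AllBelow.step points200 64 Cfsg.Agent.CosetCertFi23FP6.points201c

theorem points202 : AllBelow (pointOk cert 212551 table) 12928 := AllBelow.step points201 64 Cfsg.Agent.CosetCertFi23FP6.points202c

theorem points203 : AllBelow (pointOk cert 212551 table) 12992 := AllBelow.step points202 64 Cfsg.Agent.CosetCertFi23FP6.points203c

theorem points204 : AllBelow (pointOk cert 212551 table) 13056 := AllBelow.step points203 64 Cfsg.Agent.CosetCertFi23FP6.points204c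

theorem points205 : AllBelow (pointOk cert 212551 table) 13120 := AllBelow.step points204 64 Cfsg.Agent.CosetCertFi23FP6.points205c

theorem points206 : AllBelow (pointOk cert 212551 table) 13184 := AllBelow.step points205 64 Cfsg.Agent.CosetCertFi23FP6.points206c

theorem points207 : AllBelow (pointOk cert 212551 table) 13248 := AllBelow.step points206 64 Cfsg.Agent.CosetCertFi23FP6.points207c

theorem points208 : AllBelow (pointOk cert 212551 table) 13312 := AllBelow.step points207 64 Cfsg.Agent.CosetCertFi23FP6.points208c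

theorem points209 : AllBelow (pointOk cert 212551 table) 13376 := AllBelow.step points208 64 Cfsg.Agent.CosetCertFi23FP6.points209c

theorem points210 : AllBelow (pointOk cert 212551 table) 13440 := AllBelow.step points209 64 Cfsg.Agent.CosetCertFi23FP6.points210c

theorem points211 : AllBelow (pointOk cert 212551 table) 13504 := AllBelow.step points210 64 Cfsg.Agent.CosetCertFi23FP6.points211c

theorem points212 : AllBelow (pointOk cert 212551 table) 13568 := AllBelow.step points211 64 Cfsg.Agent.CosetCertFi23FP6.points212c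

theorem points213 : AllBelow (pointOk cert 212551 table) 13632 := AllBelow.step points212 64 Cfsg.Agent.CosetCertFi23FP6.points213c

theorem points214 : AllBelow (pointOk cert 212551 table) 13696 := AllBelow.step points213 64 Cfsg.Agent.CosetCertFi23FP6.points214c

theorem points215 : AllBelow (pointOk cert 212551 table) 13760 := AllBelow.step points214 64 Cfsg.Agent.CosetCertFi23FP6.points215c

theorem points216 : AllBelow (pointOk cert 212551 table) 13824 := AllBelow.step points215 64 Cfsg.Agent.CosetCertFi23FP6.points216c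

theorem points217 : AllBelow (pointOk cert 212551 table) 13888 := AllBelow.step points216 64 Cfsg.Agent.CosetCertFi23FP6.points217c

theorem points218 : AllBelow (pointOk cert 212551 table) 13952 := AllBelow.step points217 64 Cfsg.Agent.CosetCertFi23FP7.points218c

theorem points219 : AllBelow (pointOk cert 212551 table) 14016 := AllBelow.step points218 64 Cfsg.Agent.CosetCertFi23FP7.points219c

theorem points220 : AllBelow (pointOk cert 212551 table) 14080 := AllBelow.step points219 64 Cfsg.Agent.CosetCertFi23FP7.points220c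

theorem points221 : AllBelow (pointOk cert 212551 table) 14144 := AllBelow.step points220 64 Cfsg.Agent.CosetCertFi23FP7.points221c

theorem points222 : AllBelow (pointOk cert 212551 table) 14208 := AllBelow.step points221 64 Cfsg.Agent.CosetCertFi23FP7.points222c

theorem points223 : AllBelow (pointOk cert 212551 table) 14272 := AllBelow.step points222 64 Cfsg.Agent.CosetCertFi23FP7.points223c

theorem points224 : AllBelow (pointOk cert 212551 table) 14336 := AllBelow.step points223 64 Cfsg.Agent.CosetCertFi23FP7.points224c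

theorem points225 : AllBelow (pointOk cert 212551 table) 14400 := AllBelow.step points224 64 Cfsg.Agent.CosetCertFi23FP7.points225c

theorem points226 : AllBelow (pointOk cert 212551 table) 14464 := AllBelow.step points225 64 Cfsg.Agent.CosetCertFi23FP7.points226c

theorem points227 : AllBelow (pointOk cert 212551 table) 14528 := AllBelow.step points226 64 Cfsg.Agent.CosetCertFi23FP7.points227c

theorem points228 : AllBelow (pointOk cert 212551 table) 14592 := AllBelow.step points227 64 Cfsg.Agent.CosetCertFi23FP7.points228c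

theorem points229 : AllBelow (pointOk cert 212551 table) 14656 := AllBelow.step points228 64 Cfsg.Agent.CosetCertFi23FP7.points229c

theorem points230 : AllBelow (pointOk cert 212551 table) 14720 := AllBelow.step points229 64 Cfsg.Agent.CosetCertFi23FP7.points230c

theorem points231 : AllBelow (pointOk cert 212551 table) 14784 := AllBelow.step points230 64 Cfsg.Agent.CosetCertFi23FP7.points231c

theorem points232 : AllBelow (pointOk cert 212551 table) 14848 := AllBelow.step points231 64 Cfsg.Agent.CosetCertFi23FP7.points232c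

theorem points233 : AllBelow (pointOk cert 212551 table) 14912 := AllBelow.step points232 64 Cfsg.Agent.CosetCertFi23FP7.points233c

theorem points234 : AllBelow (pointOk cert 212551 table) 14976 := AllBelow.step points233 64 Cfsg.Agent.CosetCertFi23FP7.points234c

theorem points235 : AllBelow (pointOk cert 212551 table) 15040 := AllBelow.step points234 64 Cfsg.Agent.CosetCertFi23FP7.points235c

theorem points236 : AllBelow (pointOk cert 212551 table) 15104 := AllBelow.step points235 64 Cfsg.Agent.CosetCertFi23FP7.points236c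

theorem points237 : AllBelow (pointOk cert 212551 table) 15168 := AllBelow.step points236 64 Cfsg.Agent.CosetCertFi23FP7.points237c

theorem points238 : AllBelow (pointOk cert 212551 table) 15232 := AllBelow.step points237 64 Cfsg.Agent.CosetCertFi23FP7.points238c

theorem points239 : AllBelow (pointOk cert 212551 table) 15296 := AllBelow.step points238 64 Cfsg.Agent.CosetCertFi23FP7.points239c

theorem points240 : AllBelow (pointOk cert 212551 table) 15360 := AllBelow.step points239 64 Cfsg.Agent.CosetCertFi23FP7.points240c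

theorem points241 : AllBelow (pointOk cert 212551 table) 15424 := AllBelow.step points240 64 Cfsg.Agent.CosetCertFi23FP7.points241c

theorem points242 : AllBelow (pointOk cert 212551 table) 15488 := AllBelow.step points241 64 Cfsg.Agent.CosetCertFi23FP7.points242c

theorem points243 : AllBelow (pointOk cert 212551 table) 15552 := AllBelow.step points242 64 Cfsg.Agent.CosetCertFi23FP7.points243c

theorem points244 : AllBelow (pointOk cert 212551 table) 15616 := AllBelow.step points243 64 Cfsg.Agent.CosetCertFi23FP7.points244c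

theorem points245 : AllBelow (pointOk cert 212551 table) 15680 := AllBelow.step points244 64 Cfsg.Agent.CosetCertFi23FP7.points245c

theorem points246 : AllBelow (pointOk cert 212551 table) 15744 := AllBelow.step points245 64 Cfsg.Agent.CosetCertFi23FP7.points246c

theorem points247 : AllBelow (pointOk cert 212551 table) 15808 := AllBelow.step points246 64 Cfsg.Agent.CosetCertFi23FP7.points247c

theorem points248 : AllBelow (pointOk cert 212551 table) 15872 := AllBelow.step points247 64 Cfsg.Agent.CosetCertFi23FP7.points248c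

theorem points249 : AllBelow (pointOk cert 212551 table) 15936 := AllBelow.step points248 64 Cfsg.Agent.CosetCertFi23FP8.points249c

theorem points250 : AllBelow (pointOk cert 212551 table) 16000 := AllBelow.step points249 64 Cfsg.Agent.CosetCertFi23FP8.points250c

theorem points251 : AllBelow (pointOk cert 212551 table) 16064 := AllBelow.step points250 64 Cfsg.Agent.CosetCertFi23FP8.points251c

theorem points252 : AllBelow (pointOk cert 212551 table) 16128 := AllBelow.step points251 64 Cfsg.Agent.CosetCertFi23FP8.points252c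

theorem points253 : AllBelow (pointOk cert 212551 table) 16192 := AllBelow.step points252 64 Cfsg.Agent.CosetCertFi23FP8.points253c

theorem points254 : AllBelow (pointOk cert 212551 table) 16256 := AllBelow.step points253 64 Cfsg.Agent.CosetCertFi23FP8.points254c

theorem points255 : AllBelow (pointOk cert 212551 table) 16320 := AllBelow.step points254 64 Cfsg.Agent.CosetCertFi23FP8.points255c

theorem points256 : AllBelow (pointOk cert 212551 table) 16384 := AllBelow.step points255 64 Cfsg.Agent.CosetCertFi23FP8.points256c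

theorem points257 : AllBelow (pointOk cert 212551 table) 16448 := AllBelow.step points256 64 Cfsg.Agent.CosetCertFi23FP8.points257c

theorem points258 : AllBelow (pointOk cert 212551 table) 16512 := AllBelow.step points257 64 Cfsg.Agent.CosetCertFi23FP8.points258c

theorem points259 : AllBelow (pointOk cert 212551 table) 16576 := AllBelow.step points258 64 Cfsg.Agent.CosetCertFi23FP8.points259c

theorem points260 : AllBelow (pointOk cert 212551 table) 16640 := AllBelow.step points259 64 Cfsg.Agent.CosetCertFi23FP8.points260c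

theorem points261 : AllBelow (pointOk cert 212551 table) 16704 := AllBelow.step points260 64 Cfsg.Agent.CosetCertFi23FP8.points261c

theorem points262 : AllBelow (pointOk cert 212551 table) 16768 := AllBelow.step points261 64 Cfsg.Agent.CosetCertFi23FP8.points262c

theorem points263 : AllBelow (pointOk cert 212551 table) 16832 := AllBelow.step points262 64 Cfsg.Agent.CosetCertFi23FP8.points263c

theorem points264 : AllBelow (pointOk cert 212551 table) 16896 := AllBelow.step points263 64 Cfsg.Agent.CosetCertFi23FP8.points264c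

theorem points265 : AllBelow (pointOk cert 212551 table) 16960 := AllBelow.step points264 64 Cfsg.Agent.CosetCertFi23FP8.points265c

theorem points266 : AllBelow (pointOk cert 212551 table) 17024 := AllBelow.step points265 64 Cfsg.Agent.CosetCertFi23FP8.points266c

theorem points267 : AllBelow (pointOk cert 212551 table) 17088 := AllBelow.step points266 64 Cfsg.Agent.CosetCertFi23FP8.points267c

theorem points268 : AllBelow (pointOk cert 212551 table) 17152 := AllBelow.step points267 64 Cfsg.Agent.CosetCertFi23FP8.points268c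

theorem points269 : AllBelow (pointOk cert 212551 table) 17216 := AllBelow.step points268 64 Cfsg.Agent.CosetCertFi23FP8.points269c

theorem points270 : AllBelow (pointOk cert 212551 table) 17280 := AllBelow.step points269 64 Cfsg.Agent.CosetCertFi23FP8.points270c

theorem points271 : AllBelow (pointOk cert 212551 table) 17344 := AllBelow.step points270 64 Cfsg.Agent.CosetCertFi23FP8.points271c

theorem points272 : AllBelow (pointOk cert 212551 table) 17408 := AllBelow.step points271 64 Cfsg.Agent.CosetCertFi23FP8.points272c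

theorem points273 : AllBelow (pointOk cert 212551 table) 17472 := AllBelow.step points272 64 Cfsg.Agent.CosetCertFi23FP8.points273c

theorem points274 : AllBelow (pointOk cert 212551 table) 17536 := AllBelow.step points273 64 Cfsg.Agent.CosetCertFi23FP8.points274c

theorem points275 : AllBelow (pointOk cert 212551 table) 17600 := AllBelow.step points274 64 Cfsg.Agent.CosetCertFi23FP8.points275c

theorem points276 : AllBelow (pointOk cert 212551 table) 17664 := AllBelow.step points275 64 Cfsg.Agent.CosetCertFi23FP8.points276c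

theorem points277 : AllBelow (pointOk cert 212551 table) 17728 := AllBelow.step points276 64 Cfsg.Agent.CosetCertFi23FP8.points277c

theorem points278 : AllBelow (pointOk cert 212551 table) 17792 := AllBelow.step points277 64 Cfsg.Agent.CosetCertFi23FP8.points278c

theorem points279 : AllBelow (pointOk cert 212551 table) 17856 := AllBelow.step points278 64 Cfsg.Agent.CosetCertFi23FP8.points279c

theorem points280 : AllBelow (pointOk cert 212551 table) 17920 := AllBelow.step points279 64 Cfsg.Agent.CosetCertFi23FP9.points280c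

theorem points281 : AllBelow (pointOk cert 212551 table) 17984 := AllBelow.step points280 64 Cfsg.Agent.CosetCertFi23FP9.points281c

theorem points282 : AllBelow (pointOk cert 212551 table) 18048 := AllBelow.step points281 64 Cfsg.Agent.CosetCertFi23FP9.points282c

theorem points283 : AllBelow (pointOk cert 212551 table) 18112 := AllBelow.step points282 64 Cfsg.Agent.CosetCertFi23FP9.points283c

theorem points284 : AllBelow (pointOk cert 212551 table) 18176 := AllBelow.step points283 64 Cfsg.Agent.CosetCertFi23FP9.points284c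

theorem points285 : AllBelow (pointOk cert 212551 table) 18240 := AllBelow.step points284 64 Cfsg.Agent.CosetCertFi23FP9.points285c

theorem points286 : AllBelow (pointOk cert 212551 table) 18304 := AllBelow.step points285 64 Cfsg.Agent.CosetCertFi23FP9.points286c

theorem points287 : AllBelow (pointOk cert 212551 table) 18368 := AllBelow.step points286 64 Cfsg.Agent.CosetCertFi23FP9.points287c

theorem points288 : AllBelow (pointOk cert 212551 table) 18432 := AllBelow.step points287 64 Cfsg.Agent.CosetCertFi23FP9.points288c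

theorem points289 : AllBelow (pointOk cert 212551 table) 18496 := AllBelow.step points288 64 Cfsg.Agent.CosetCertFi23FP9.points289c

theorem points290 : AllBelow (pointOk cert 212551 table) 18560 := AllBelow.step points289 64 Cfsg.Agent.CosetCertFi23FP9.points290c

theorem points291 : AllBelow (pointOk cert 212551 table) 18624 := AllBelow.step points290 64 Cfsg.Agent.CosetCertFi23FP9.points291c

theorem points292 : AllBelow (pointOk cert 212551 table) 18688 := AllBelow.step points291 64 Cfsg.Agent.CosetCertFi23FP9.points292c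

theorem points293 : AllBelow (pointOk cert 212551 table) 18752 := AllBelow.step points292 64 Cfsg.Agent.CosetCertFi23FP9.points293c

theorem points294 : AllBelow (pointOk cert 212551 table) 18816 := AllBelow.step points293 64 Cfsg.Agent.CosetCertFi23FP9.points294c

theorem points295 : AllBelow (pointOk cert 212551 table) 18880 := AllBelow.step points294 64 Cfsg.Agent.CosetCertFi23FP9.points295c

theorem points296 : AllBelow (pointOk cert 212551 table) 18944 := AllBelow.step points295 64 Cfsg.Agent.CosetCertFi23FP9.points296c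

theorem points297 : AllBelow (pointOk cert 212551 table) 19008 := AllBelow.step points296 64 Cfsg.Agent.CosetCertFi23FP9.points297c

theorem points298 : AllBelow (pointOk cert 212551 table) 19072 := AllBelow.step points297 64 Cfsg.Agent.CosetCertFi23FP9.points298c

theorem points299 : AllBelow (pointOk cert 212551 table) 19136 := AllBelow.step points298 64 Cfsg.Agent.CosetCertFi23FP9.points299c

theorem points300 : AllBelow (pointOk cert 212551 table) 19200 := AllBelow.step points299 64 Cfsg.Agent.CosetCertFi23FP9.points300c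

theorem points301 : AllBelow (pointOk cert 212551 table) 19264 := AllBelow.step points300 64 Cfsg.Agent.CosetCertFi23FP9.points301c

theorem points302 : AllBelow (pointOk cert 212551 table) 19328 := AllBelow.step points301 64 Cfsg.Agent.CosetCertFi23FP9.points302c

theorem points303 : AllBelow (pointOk cert 212551 table) 19392 := AllBelow.step points302 64 Cfsg.Agent.CosetCertFi23FP9.points303c

theorem points304 : AllBelow (pointOk cert 212551 table) 19456 := AllBelow.step points303 64 Cfsg.Agent.CosetCertFi23FP9.points304c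

theorem points305 : AllBelow (pointOk cert 212551 table) 19520 := AllBelow.step points304 64 Cfsg.Agent.CosetCertFi23FP9.points305c

theorem points306 : AllBelow (pointOk cert 212551 table) 19584 := AllBelow.step points305 64 Cfsg.Agent.CosetCertFi23FP9.points306c

theorem points307 : AllBelow (pointOk cert 212551 table) 19648 := AllBelow.step points306 64 Cfsg.Agent.CosetCertFi23FP9.points307c

theorem points308 : AllBelow (pointOk cert 212551 table) 19712 := AllBelow.step points307 64 Cfsg.Agent.CosetCertFi23FP9.points308c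

theorem points309 : AllBelow (pointOk cert 212551 table) 19776 := AllBelow.step points308 64 Cfsg.Agent.CosetCertFi23FP9.points309c

theorem points310 : AllBelow (pointOk cert 212551 table) 19840 := AllBelow.step points309 64 Cfsg.Agent.CosetCertFi23FP9.points310c

theorem points311 : AllBelow (pointOk cert 212551 table) 19904 := AllBelow.step points310 64 Cfsg.Agent.CosetCertFi23FP10.points311c

theorem points312 : AllBelow (pointOk cert 212551 table) 19968 := AllBelow.step points311 64 Cfsg.Agent.CosetCertFi23FP10.points312c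

theorem points313 : AllBelow (pointOk cert 212551 table) 20032 := AllBelow.step points312 64 Cfsg.Agent.CosetCertFi23FP10.points313c

theorem points314 : AllBelow (pointOk cert 212551 table) 20096 := AllBelow.step points313 64 Cfsg.Agent.CosetCertFi23FP10.points314c

theorem points315 : AllBelow (pointOk cert 212551 table) 20160 := AllBelow.step points314 64 Cfsg.Agent.CosetCertFi23FP10.points315c

theorem points316 : AllBelow (pointOk cert 212551 table) 20224 := AllBelow.step points315 64 Cfsg.Agent.CosetCertFi23FP10.points316c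

theorem points317 : AllBelow (pointOk cert 212551 table) 20288 := AllBelow.step points316 64 Cfsg.Agent.CosetCertFi23FP10.points317c

theorem points318 : AllBelow (pointOk cert 212551 table) 20352 := AllBelow.step points317 64 Cfsg.Agent.CosetCertFi23FP10.points318c

theorem points319 : AllBelow (pointOk cert 212551 table) 20416 := AllBelow.step points318 64 Cfsg.Agent.CosetCertFi23FP10.points319c

theorem points320 : AllBelow (pointOk cert 212551 table) 20480 := AllBelow.step points319 64 Cfsg.Agent.CosetCertFi23FP10.points320c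

theorem points321 : AllBelow (pointOk cert 212551 table) 20544 := AllBelow.step points320 64 Cfsg.Agent.CosetCertFi23FP10.points321c

theorem points322 : AllBelow (pointOk cert 212551 table) 20608 := AllBelow.step points321 64 Cfsg.Agent.CosetCertFi23FP10.points322c

theorem points323 : AllBelow (pointOk cert 212551 table) 20672 := AllBelow.step points322 64 Cfsg.Agent.CosetCertFi23FP10.points323c

theorem points324 : AllBelow (pointOk cert 212551 table) 20736 := AllBelow.step points323 64 Cfsg.Agent.CosetCertFi23FP10.points324c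

theorem points325 : AllBelow (pointOk cert 212551 table) 20800 := AllBelow.step points324 64 Cfsg.Agent.CosetCertFi23FP10.points325c

theorem points326 : AllBelow (pointOk cert 212551 table) 20864 := AllBelow.step points325 64 Cfsg.Agent.CosetCertFi23FP10.points326c

theorem points327 : AllBelow (pointOk cert 212551 table) 20928 := AllBelow.step points326 64 Cfsg.Agent.CosetCertFi23FP10.points327c

theorem points328 : AllBelow (pointOk cert 212551 table) 20992 := AllBelow.step points327 64 Cfsg.Agent.CosetCertFi23FP10.points328c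

theorem points329 : AllBelow (pointOk cert 212551 table) 21056 := AllBelow.step points328 64 Cfsg.Agent.CosetCertFi23FP10.points329c

theorem points330 : AllBelow (pointOk cert 212551 table) 21120 := AllBelow.step points329 64 Cfsg.Agent.CosetCertFi23FP10.points330c

theorem points331 : AllBelow (pointOk cert 212551 table) 21184 := AllBelow.step points330 64 Cfsg.Agent.CosetCertFi23FP10.points331c

theorem points332 : AllBelow (pointOk cert 212551 table) 21248 := AllBelow.step points331 64 Cfsg.Agent.CosetCertFi23FP10.points332c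

theorem points333 : AllBelow (pointOk cert 212551 table) 21312 := AllBelow.step points332 64 Cfsg.Agent.CosetCertFi23FP10.points333c

theorem points334 : AllBelow (pointOk cert 212551 table) 21376 := AllBelow.step points333 64 Cfsg.Agent.CosetCertFi23FP10.points334c

theorem points335 : AllBelow (pointOk cert 212551 table) 21440 := AllBelow.step points334 64 Cfsg.Agent.CosetCertFi23FP10.points335c

theorem points336 : AllBelow (pointOk cert 212551 table) 21504 := AllBelow.step points335 64 Cfsg.Agent.CosetCertFi23FP10.points336c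

theorem points337 : AllBelow (pointOk cert 212551 table) 21568 := AllBelow.step points336 64 Cfsg.Agent.CosetCertFi23FP10.points337c

theorem points338 : AllBelow (pointOk cert 212551 table) 21632 := AllBelow.step points337 64 Cfsg.Agent.CosetCertFi23FP10.points338c

theorem points339 : AllBelow (pointOk cert 212551 table) 21696 := AllBelow.step points338 64 Cfsg.Agent.CosetCertFi23FP10.points339c

theorem points340 : AllBelow (pointOk cert 212551 table) 21760 := AllBelow.step points339 64 Cfsg.Agent.CosetCertFi23FP10.points340c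

theorem points341 : AllBelow (pointOk cert 212551 table) 21824 := AllBelow.step points340 64 Cfsg.Agent.CosetCertFi23FP10.points341c

theorem points342 : AllBelow (pointOk cert 212551 table) 21888 := AllBelow.step points341 64 Cfsg.Agent.CosetCertFi23FP11.points342c

theorem points343 : AllBelow (pointOk cert 212551 table) 21952 := AllBelow.step points342 64 Cfsg.Agent.CosetCertFi23FP11.points343c

theorem points344 : AllBelow (pointOk cert 212551 table) 22016 := AllBelow.step points343 64 Cfsg.Agent.CosetCertFi23FP11.points344c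

theorem points345 : AllBelow (pointOk cert 212551 table) 22080 := AllBelow.step points344 64 Cfsg.Agent.CosetCertFi23FP11.points345c

theorem points346 : AllBelow (pointOk cert 212551 table) 22144 := AllBelow.step points345 64 Cfsg.Agent.CosetCertFi23FP11.points346c

theorem points347 : AllBelow (pointOk cert 212551 table) 22208 := AllBelow.step points346 64 Cfsg.Agent.CosetCertFi23FP11.points347c

theorem points348 : AllBelow (pointOk cert 212551 table) 22272 := AllBelow.step points347 64 Cfsg.Agent.CosetCertFi23FP11.points348c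

theorem points349 : AllBelow (pointOk cert 212551 table) 22336 := AllBelow.step points348 64 Cfsg.Agent.CosetCertFi23FP11.points349c

theorem points350 : AllBelow (pointOk cert 212551 table) 22400 := AllBelow.step points349 64 Cfsg.Agent.CosetCertFi23FP11.points350c

theorem points351 : AllBelow (pointOk cert 212551 table) 22464 := AllBelow.step points350 64 Cfsg.Agent.CosetCertFi23FP11.points351c

theorem points352 : AllBelow (pointOk cert 212551 table) 22528 := AllBelow.step points351 64 Cfsg.Agent.CosetCertFi23FP11.points352c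

theorem points353 : AllBelow (pointOk cert 212551 table) 22592 := AllBelow.step points352 64 Cfsg.Agent.CosetCertFi23FP11.points353c

theorem points354 : AllBelow (pointOk cert 212551 table) 22656 := AllBelow.step points353 64 Cfsg.Agent.CosetCertFi23FP11.points354c

theorem points355 : AllBelow (pointOk cert 212551 table) 22720 := AllBelow.step points354 64 Cfsg.Agent.CosetCertFi23FP11.points355c

theorem points356 : AllBelow (pointOk cert 212551 table) 22784 := AllBelow.step points355 64 Cfsg.Agent.CosetCertFi23FP11.points356c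

theorem points357 : AllBelow (pointOk cert 212551 table) 22848 := AllBelow.step points356 64 Cfsg.Agent.CosetCertFi23FP11.points357c

theorem points358 : AllBelow (pointOk cert 212551 table) 22912 := AllBelow.step points357 64 Cfsg.Agent.CosetCertFi23FP11.points358c

theorem points359 : AllBelow (pointOk cert 212551 table) 22976 := AllBelow.step points358 64 Cfsg.Agent.CosetCertFi23FP11.points359c

theorem points360 : AllBelow (pointOk cert 212551 table) 23040 := AllBelow.step points359 64 Cfsg.Agent.CosetCertFi23FP11.points360c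

theorem points361 : AllBelow (pointOk cert 212551 table) 23104 := AllBelow.step points360 64 Cfsg.Agent.CosetCertFi23FP11.points361c

theorem points362 : AllBelow (pointOk cert 212551 table) 23168 := AllBelow.step points361 64 Cfsg.Agent.CosetCertFi23FP11.points362c

theorem points363 : AllBelow (pointOk cert 212551 table) 23232 := AllBelow.step points362 64 Cfsg.Agent.CosetCertFi23FP11.points363c

theorem points364 : AllBelow (pointOk cert 212551 table) 23296 := AllBelow.step points363 64 Cfsg.Agent.CosetCertFi23FP11.points364c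

theorem points365 : AllBelow (pointOk cert 212551 table) 23360 := AllBelow.step points364 64 Cfsg.Agent.CosetCertFi23FP11.points365c

theorem points366 : AllBelow (pointOk cert 212551 table) 23424 := AllBelow.step points365 64 Cfsg.Agent.CosetCertFi23FP11.points366c

theorem points367 : AllBelow (pointOk cert 212551 table) 23488 := AllBelow.step points366 64 Cfsg.Agent.CosetCertFi23FP11.points367c

theorem points368 : AllBelow (pointOk cert 212551 table) 23552 := AllBelow.step points367 64 Cfsg.Agent.CosetCertFi23FP11.points368c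

theorem points369 : AllBelow (pointOk cert 212551 table) 23616 := AllBelow.step points368 64 Cfsg.Agent.CosetCertFi23FP11.points369c

theorem points370 : AllBelow (pointOk cert 212551 table) 23680 := AllBelow.step points369 64 Cfsg.Agent.CosetCertFi23FP11.points370c

theorem points371 : AllBelow (pointOk cert 212551 table) 23744 := AllBelow.step points370 64 Cfsg.Agent.CosetCertFi23FP11.points371c

theorem points372 : AllBelow (pointOk cert 212551 table) 23808 := AllBelow.step points371 64 Cfsg.Agent.CosetCertFi23FP11.points372c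

theorem points373 : AllBelow (pointOk cert 212551 table) 23872 := AllBelow.step points372 64 Cfsg.Agent.CosetCertFi23FP12.points373c

theorem points374 : AllBelow (pointOk cert 212551 table) 23936 := AllBelow.step points373 64 Cfsg.Agent.CosetCertFi23FP12.points374c

theorem points375 : AllBelow (pointOk cert 212551 table) 24000 := AllBelow.step points374 64 Cfsg.Agent.CosetCertFi23FP12.points375c

theorem points376 : AllBelow (pointOk cert 212551 table) 24064 := AllBelow.step points375 64 Cfsg.Agent.CosetCertFi23FP12.points376c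

theorem points377 : AllBelow (pointOk cert 212551 table) 24128 := AllBelow.step points376 64 Cfsg.Agent.CosetCertFi23FP12.points377c

theorem points378 : AllBelow (pointOk cert 212551 table) 24192 := AllBelow.step points377 64 Cfsg.Agent.CosetCertFi23FP12.points378c

theorem points379 : AllBelow (pointOk cert 212551 table) 24256 := AllBelow.step points378 64 Cfsg.Agent.CosetCertFi23FP12.points379c

theorem points380 : AllBelow (pointOk cert 212551 table) 24320 := AllBelow.step points379 64 Cfsg.Agent.CosetCertFi23FP12.points380c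

theorem points381 : AllBelow (pointOk cert 212551 table) 24384 := AllBelow.step points380 64 Cfsg.Agent.CosetCertFi23FP12.points381c

theorem points382 : AllBelow (pointOk cert 212551 table) 24448 := AllBelow.step points381 64 Cfsg.Agent.CosetCertFi23FP12.points382c

theorem points383 : AllBelow (pointOk cert 212551 table) 24512 := AllBelow.step points382 64 Cfsg.Agent.CosetCertFi23FP12.points383c

theorem points384 : AllBelow (pointOk cert 212551 table) 24576 := AllBelow.step points383 64 Cfsg.Agent.CosetCertFi23FP12.points384c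

theorem points385 : AllBelow (pointOk cert 212551 table) 24640 := AllBelow.step points384 64 Cfsg.Agent.CosetCertFi23FP12.points385c

theorem points386 : AllBelow (pointOk cert 212551 table) 24704 := AllBelow.step points385 64 Cfsg.Agent.CosetCertFi23FP12.points386c

theorem points387 : AllBelow (pointOk cert 212551 table) 24768 := AllBelow.step points386 64 Cfsg.Agent.CosetCertFi23FP12.points387c

theorem points388 : AllBelow (pointOk cert 212551 table) 24832 := AllBelow.step points387 64 Cfsg.Agent.CosetCertFi23FP12.points388c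

theorem points389 : AllBelow (pointOk cert 212551 table) 24896 := AllBelow.step points388 64 Cfsg.Agent.CosetCertFi23FP12.points389c

theorem points390 : AllBelow (pointOk cert 212551 table) 24960 := AllBelow.step points389 64 Cfsg.Agent.CosetCertFi23FP12.points390c

theorem points391 : AllBelow (pointOk cert 212551 table) 25024 := AllBelow.step points390 64 Cfsg.Agent.CosetCertFi23FP12.points391c

theorem points392 : AllBelow (pointOk cert 212551 table) 25088 := AllBelow.step points391 64 Cfsg.Agent.CosetCertFi23FP12.points392c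

theorem points393 : AllBelow (pointOk cert 212551 table) 25152 := AllBelow.step points392 64 Cfsg.Agent.CosetCertFi23FP12.points393c

theorem points394 : AllBelow (pointOk cert 212551 table) 25216 := AllBelow.step points393 64 Cfsg.Agent.CosetCertFi23FP12.points394c

theorem points395 : AllBelow (pointOk cert 212551 table) 25280 := AllBelow.step points394 64 Cfsg.Agent.CosetCertFi23FP12.points395c

theorem points396 : AllBelow (pointOk cert 212551 table) 25344 := AllBelow.step points395 64 Cfsg.Agent.CosetCertFi23FP12.points396c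

theorem points397 : AllBelow (pointOk cert 212551 table) 25408 := AllBelow.step points396 64 Cfsg.Agent.CosetCertFi23FP12.points397c

theorem points398 : AllBelow (pointOk cert 212551 table) 25472 := AllBelow.step points397 64 Cfsg.Agent.CosetCertFi23FP12.points398c

theorem points399 : AllBelow (pointOk cert 212551 table) 25536 := AllBelow.step points398 64 Cfsg.Agent.CosetCertFi23FP12.points399c

theorem points400 : AllBelow (pointOk cert 212551 table) 25600 := AllBelow.step points399 64 Cfsg.Agent.CosetCertFi23FP12.points400c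

theorem points401 : AllBelow (pointOk cert 212551 table) 25664 := AllBelow.step points400 64 Cfsg.Agent.CosetCertFi23FP12.points401c

theorem points402 : AllBelow (pointOk cert 212551 table) 25728 := AllBelow.step points401 64 Cfsg.Agent.CosetCertFi23FP12.points402c

theorem points403 : AllBelow (pointOk cert 212551 table) 25792 := AllBelow.step points402 64 Cfsg.Agent.CosetCertFi23FP12.points403c

theorem points404 : AllBelow (pointOk cert 212551 table) 25856 := AllBelow.step points403 64 Cfsg.Agent.CosetCertFi23FP13.points404c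

theorem points405 : AllBelow (pointOk cert 212551 table) 25920 := AllBelow.step points404 64 Cfsg.Agent.CosetCertFi23FP13.points405c

theorem points406 : AllBelow (pointOk cert 212551 table) 25984 := AllBelow.step points405 64 Cfsg.Agent.CosetCertFi23FP13.points406c

theorem points407 : AllBelow (pointOk cert 212551 table) 26048 := AllBelow.step points406 64 Cfsg.Agent.CosetCertFi23FP13.points407c

theorem points408 : AllBelow (pointOk cert 212551 table) 26112 := AllBelow.step points407 64 Cfsg.Agent.CosetCertFi23FP13.points408c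

theorem points409 : AllBelow (pointOk cert 212551 table) 26176 := AllBelow.step points408 64 Cfsg.Agent.CosetCertFi23FP13.points409c

theorem points410 : AllBelow (pointOk cert 212551 table) 26240 := AllBelow.step points409 64 Cfsg.Agent.CosetCertFi23FP13.points410c

theorem points411 : AllBelow (pointOk cert 212551 table) 26304 := AllBelow.step points410 64 Cfsg.Agent.CosetCertFi23FP13.points411c

theorem points412 : AllBelow (pointOk cert 212551 table) 26368 := AllBelow.step points411 64 Cfsg.Agent.CosetCertFi23FP13.points412c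

theorem points413 : AllBelow (pointOk cert 212551 table) 26432 := AllBelow.step points412 64 Cfsg.Agent.CosetCertFi23FP13.points413c

theorem points414 : AllBelow (pointOk cert 212551 table) 26496 := AllBelow.step points413 64 Cfsg.Agent.CosetCertFi23FP13.points414c

theorem points415 : AllBelow (pointOk cert 212551 table) 26560 := AllBelow.step points414 64 Cfsg.Agent.CosetCertFi23FP13.points415c

theorem points416 : AllBelow (pointOk cert 212551 table) 26624 := AllBelow.step points415 64 Cfsg.Agent.CosetCertFi23FP13.points416c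

theorem points417 : AllBelow (pointOk cert 212551 table) 26688 := AllBelow.step points416 64 Cfsg.Agent.CosetCertFi23FP13.points417c

theorem points418 : AllBelow (pointOk cert 212551 table) 26752 := AllBelow.step points417 64 Cfsg.Agent.CosetCertFi23FP13.points418c

theorem points419 : AllBelow (pointOk cert 212551 table) 26816 := AllBelow.step points418 64 Cfsg.Agent.CosetCertFi23FP13.points419c

theorem points420 : AllBelow (pointOk cert 212551 table) 26880 := AllBelow.step points419 64 Cfsg.Agent.CosetCertFi23FP13.points420c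

theorem points421 : AllBelow (pointOk cert 212551 table) 26944 := AllBelow.step points420 64 Cfsg.Agent.CosetCertFi23FP13.points421c

theorem points422 : AllBelow (pointOk cert 212551 table) 27008 := AllBelow.step points421 64 Cfsg.Agent.CosetCertFi23FP13.points422c

theorem points423 : AllBelow (pointOk cert 212551 table) 27072 := AllBelow.step points422 64 Cfsg.Agent.CosetCertFi23FP13.points423c

theorem points424 : AllBelow (pointOk cert 212551 table) 27136 := AllBelow.step points423 64 Cfsg.Agent.CosetCertFi23FP13.points424c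

theorem points425 : AllBelow (pointOk cert 212551 table) 27200 := AllBelow.step points424 64 Cfsg.Agent.CosetCertFi23FP13.points425c

theorem points426 : AllBelow (pointOk cert 212551 table) 27264 := AllBelow.step points425 64 Cfsg.Agent.CosetCertFi23FP13.points426c

theorem points427 : AllBelow (pointOk cert 212551 table) 27328 := AllBelow.step points426 64 Cfsg.Agent.CosetCertFi23FP13.points427c

theorem points428 : AllBelow (pointOk cert 212551 table) 27392 := AllBelow.step points427 64 Cfsg.Agent.CosetCertFi23FP13.points428c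

theorem points429 : AllBelow (pointOk cert 212551 table) 27456 := AllBelow.step points428 64 Cfsg.Agent.CosetCertFi23FP13.points429c

theorem points430 : AllBelow (pointOk cert 212551 table) 27520 := AllBelow.step points429 64 Cfsg.Agent.CosetCertFi23FP13.points430c

theorem points431 : AllBelow (pointOk cert 212551 table) 27584 := AllBelow.step points430 64 Cfsg.Agent.CosetCertFi23FP13.points431c

theorem points432 : AllBelow (pointOk cert 212551 table) 27648 := AllBelow.step points431 64 Cfsg.Agent.CosetCertFi23FP13.points432c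

theorem points433 : AllBelow (pointOk cert 212551 table) 27712 := AllBelow.step points432 64 Cfsg.Agent.CosetCertFi23FP13.points433c

theorem points434 : AllBelow (pointOk cert 212551 table) 27776 := AllBelow.step points433 64 Cfsg.Agent.CosetCertFi23FP13.points434c

theorem points435 : AllBelow (pointOk cert 212551 table) 27840 := AllBelow.step points434 64 Cfsg.Agent.CosetCertFi23FP14.points435c

theorem points436 : AllBelow (pointOk cert 212551 table) 27904 := AllBelow.step points435 64 Cfsg.Agent.CosetCertFi23FP14.points436c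

theorem points437 : AllBelow (pointOk cert 212551 table) 27968 := AllBelow.step points436 64 Cfsg.Agent.CosetCertFi23FP14.points437c

theorem points438 : AllBelow (pointOk cert 212551 table) 28032 := AllBelow.step points437 64 Cfsg.Agent.CosetCertFi23FP14.points438c

theorem points439 : AllBelow (pointOk cert 212551 table) 28096 := AllBelow.step points438 64 Cfsg.Agent.CosetCertFi23FP14.points439c

theorem points440 : AllBelow (pointOk cert 212551 table) 28160 := AllBelow.step points439 64 Cfsg.Agent.CosetCertFi23FP14.points440c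

theorem points441 : AllBelow (pointOk cert 212551 table) 28224 := AllBelow.step points440 64 Cfsg.Agent.CosetCertFi23FP14.points441c

theorem points442 : AllBelow (pointOk cert 212551 table) 28288 := AllBelow.step points441 64 Cfsg.Agent.CosetCertFi23FP14.points442c

theorem points443 : AllBelow (pointOk cert 212551 table) 28352 := AllBelow.step points442 64 Cfsg.Agent.CosetCertFi23FP14.points443c

theorem points444 : AllBelow (pointOk cert 212551 table) 28416 := AllBelow.step points443 64 Cfsg.Agent.CosetCertFi23FP14.points444c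

theorem points445 : AllBelow (pointOk cert 212551 table) 28480 := AllBelow.step points444 64 Cfsg.Agent.CosetCertFi23FP14.points445c

theorem points446 : AllBelow (pointOk cert 212551 table) 28544 := AllBelow.step points445 64 Cfsg.Agent.CosetCertFi23FP14.points446c

theorem points447 : AllBelow (pointOk cert 212551 table) 28608 := AllBelow.step points446 64 Cfsg.Agent.CosetCertFi23FP14.points447c

theorem points448 : AllBelow (pointOk cert 212551 table) 28672 := AllBelow.step points447 64 Cfsg.Agent.CosetCertFi23FP14.points448c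

theorem points449 : AllBelow (pointOk cert 212551 table) 28736 := AllBelow.step points448 64 Cfsg.Agent.CosetCertFi23FP14.points449c

theorem points450 : AllBelow (pointOk cert 212551 table) 28800 := AllBelow.step points449 64 Cfsg.Agent.CosetCertFi23FP14.points450c

theorem points451 : AllBelow (pointOk cert 212551 table) 28864 := AllBelow.step points450 64 Cfsg.Agent.CosetCertFi23FP14.points451c

theorem points452 : AllBelow (pointOk cert 212551 table) 28928 := AllBelow.step points451 64 Cfsg.Agent.CosetCertFi23FP14.points452c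

theorem points453 : AllBelow (pointOk cert 212551 table) 28992 := AllBelow.step points452 64 Cfsg.Agent.CosetCertFi23FP14.points453c

theorem points454 : AllBelow (pointOk cert 212551 table) 29056 := AllBelow.step points453 64 Cfsg.Agent.CosetCertFi23FP14.points454c

theorem points455 : AllBelow (pointOk cert 212551 table) 29120 := AllBelow.step points454 64 Cfsg.Agent.CosetCertFi23FP14.points455c

theorem points456 : AllBelow (pointOk cert 212551 table) 29184 := AllBelow.step points455 64 Cfsg.Agent.CosetCertFi23FP14.points456c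

theorem points457 : AllBelow (pointOk cert 212551 table) 29248 := AllBelow.step points456 64 Cfsg.Agent.CosetCertFi23FP14.points457c

theorem points458 : AllBelow (pointOk cert 212551 table) 29312 := AllBelow.step points457 64 Cfsg.Agent.CosetCertFi23FP14.points458c

theorem points459 : AllBelow (pointOk cert 212551 table) 29376 := AllBelow.step points458 64 Cfsg.Agent.CosetCertFi23FP14.points459c

theorem points460 : AllBelow (pointOk cert 212551 table) 29440 := AllBelow.step points459 64 Cfsg.Agent.CosetCertFi23FP14.points460c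

theorem points461 : AllBelow (pointOk cert 212551 table) 29504 := AllBelow.step points460 64 Cfsg.Agent.CosetCertFi23FP14.points461c

theorem points462 : AllBelow (pointOk cert 212551 table) 29568 := AllBelow.step points461 64 Cfsg.Agent.CosetCertFi23FP14.points462c

theorem points463 : AllBelow (pointOk cert 212551 table) 29632 := AllBelow.step points462 64 Cfsg.Agent.CosetCertFi23FP14.points463c

theorem points464 : AllBelow (pointOk cert 212551 table) 29696 := AllBelow.step points463 64 Cfsg.Agent.CosetCertFi23FP14.points464c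

theorem points465 : AllBelow (pointOk cert 212551 table) 29760 := AllBelow.step points464 64 Cfsg.Agent.CosetCertFi23FP14.points465c

theorem points466 : AllBelow (pointOk cert 212551 table) 29824 := AllBelow.step points465 64 Cfsg.Agent.CosetCertFi23FP15.points466c

theorem points467 : AllBelow (pointOk cert 212551 table) 29888 := AllBelow.step points466 64 Cfsg.Agent.CosetCertFi23FP15.points467c

theorem points468 : AllBelow (pointOk cert 212551 table) 29952 := AllBelow.step points467 64 Cfsg.Agent.CosetCertFi23FP15.points468c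

theorem points469 : AllBelow (pointOk cert 212551 table) 30016 := AllBelow.step points468 64 Cfsg.Agent.CosetCertFi23FP15.points469c

theorem points470 : AllBelow (pointOk cert 212551 table) 30080 := AllBelow.step points469 64 Cfsg.Agent.CosetCertFi23FP15.points470c

theorem points471 : AllBelow (pointOk cert 212551 table) 30144 := AllBelow.step points470 64 Cfsg.Agent.CosetCertFi23FP15.points471c

theorem points472 : AllBelow (pointOk cert 212551 table) 30208 := AllBelow.step points471 64 Cfsg.Agent.CosetCertFi23FP15.points472c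

theorem points473 : AllBelow (pointOk cert 212551 table) 30272 := AllBelow.step points472 64 Cfsg.Agent.CosetCertFi23FP15.points473c

theorem points474 : AllBelow (pointOk cert 212551 table) 30336 := AllBelow.step points473 64 Cfsg.Agent.CosetCertFi23FP15.points474c

theorem points475 : AllBelow (pointOk cert 212551 table) 30400 := AllBelow.step points474 64 Cfsg.Agent.CosetCertFi23FP15.points475c

theorem points476 : AllBelow (pointOk cert 212551 table) 30464 := AllBelow.step points475 64 Cfsg.Agent.CosetCertFi23FP15.points476c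

theorem points477 : AllBelow (pointOk cert 212551 table) 30528 := AllBelow.step points476 64 Cfsg.Agent.CosetCertFi23FP15.points477c

theorem points478 : AllBelow (pointOk cert 212551 table) 30592 := AllBelow.step points477 64 Cfsg.Agent.CosetCertFi23FP15.points478c

theorem points479 : AllBelow (pointOk cert 212551 table) 30656 := AllBelow.step points478 64 Cfsg.Agent.CosetCertFi23FP15.points479c

theorem points480 : AllBelow (pointOk cert 212551 table) 30720 := AllBelow.step points479 64 Cfsg.Agent.CosetCertFi23FP15.points480c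

theorem points481 : AllBelow (pointOk cert 212551 table) 30784 := AllBelow.step points480 64 Cfsg.Agent.CosetCertFi23FP15.points481c

theorem points482 : AllBelow (pointOk cert 212551 table) 30848 := AllBelow.step points481 64 Cfsg.Agent.CosetCertFi23FP15.points482c

theorem points483 : AllBelow (pointOk cert 212551 table) 30912 := AllBelow.step points482 64 Cfsg.Agent.CosetCertFi23FP15.points483c

theorem points484 : AllBelow (pointOk cert 212551 table) 30976 := AllBelow.step points483 64 Cfsg.Agent.CosetCertFi23FP15.points484c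

theorem points485 : AllBelow (pointOk cert 212551 table) 31040 := AllBelow.step points484 64 Cfsg.Agent.CosetCertFi23FP15.points485c

theorem points486 : AllBelow (pointOk cert 212551 table) 31104 := AllBelow.step points485 64 Cfsg.Agent.CosetCertFi23FP15.points486c

theorem points487 : AllBelow (pointOk cert 212551 table) 31168 := AllBelow.step points486 64 Cfsg.Agent.CosetCertFi23FP15.points487c

theorem points488 : AllBelow (pointOk cert 212551 table) 31232 := AllBelow.step points487 64 Cfsg.Agent.CosetCertFi23FP15.points488c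

theorem points489 : AllBelow (pointOk cert 212551 table) 31296 := AllBelow.step points488 64 Cfsg.Agent.CosetCertFi23FP15.points489c

theorem points490 : AllBelow (pointOk cert 212551 table) 31360 := AllBelow.step points489 64 Cfsg.Agent.CosetCertFi23FP15.points490c

theorem points491 : AllBelow (pointOk cert 212551 table) 31424 := AllBelow.step points490 64 Cfsg.Agent.CosetCertFi23FP15.points491c

theorem points492 : AllBelow (pointOk cert 212551 table) 31488 := AllBelow.step points491 64 Cfsg.Agent.CosetCertFi23FP15.points492c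

theorem points493 : AllBelow (pointOk cert 212551 table) 31552 := AllBelow.step points492 64 Cfsg.Agent.CosetCertFi23FP15.points493c

theorem points494 : AllBelow (pointOk cert 212551 table) 31616 := AllBelow.step points493 64 Cfsg.Agent.CosetCertFi23FP15.points494c

theorem points495 : AllBelow (pointOk cert 212551 table) 31671 := AllBelow.step points494 55 Cfsg.Agent.CosetCertFi23FP15.points495c

theorem rels0 : AllBelow (relsOk cert.rels table) 0 := AllBelow.zero _

theorem rels1 : AllBelow (relsOk cert.rels table) 64 := AllBelow.step rels0 64 Cfsg.Agent.CosetCertFi23FP0.rels1c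

theorem rels2 : AllBelow (relsOk cert.rels table) 128 := AllBelow.step rels1 64 Cfsg.Agent.CosetCertFi23FP0.rels2c

theorem rels3 : AllBelow (relsOk cert.rels table) 192 := AllBelow.step rels2 64 Cfsg.Agent.CosetCertFi23FP0.rels3c

theorem rels4 : AllBelow (relsOk cert.rels table) 256 := AllBelow.step rels3 64 Cfsg.Agent.CosetCertFi23FP0.rels4c

theorem rels5 : AllBelow (relsOk cert.rels table) 320 := AllBelow.step rels4 64 Cfsg.Agent.CosetCertFi23FP0.rels5c

theorem rels6 : AllBelow (relsOk cert.rels table) 384 := AllBelow.step rels5 64 Cfsg.Agent.CosetCertFi23FP0.rels6c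

theorem rels7 : AllBelow (relsOk cert.rels table) 448 := AllBelow.step rels6 64 Cfsg.Agent.CosetCertFi23FP0.rels7c

theorem rels8 : AllBelow (relsOk cert.rels table) 512 := AllBelow.step rels7 64 Cfsg.Agent.CosetCertFi23FP0.rels8c

theorem rels9 : AllBelow (relsOk cert.rels table) 576 := AllBelow.step rels8 64 Cfsg.Agent.CosetCertFi23FP0.rels9c

theorem rels10 : AllBelow (relsOk cert.rels table) 640 := AllBelow.step rels9 64 Cfsg.Agent.CosetCertFi23FP0.rels10c

theorem rels11 : AllBelow (relsOk cert.rels table) 704 := AllBelow.step rels10 64 Cfsg.Agent.CosetCertFi23FP0.rels11c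

theorem rels12 : AllBelow (relsOk cert.rels table) 768 := AllBelow.step rels11 64 Cfsg.Agent.CosetCertFi23FP0.rels12c

theorem rels13 : AllBelow (relsOk cert.rels table) 832 := AllBelow.step rels12 64 Cfsg.Agent.CosetCertFi23FP0.rels13c

theorem rels14 : AllBelow (relsOk cert.rels table) 896 := AllBelow.step rels13 64 Cfsg.Agent.CosetCertFi23FP0.rels14c

theorem rels15 : AllBelow (relsOk cert.rels table) 960 := AllBelow.step rels14 64 Cfsg.Agent.CosetCertFi23FP0.rels15c

theorem rels16 : AllBelow (relsOk cert.rels table) 1024 := AllBelow.step rels15 64 Cfsg.Agent.CosetCertFi23FP0.rels16c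

theorem rels17 : AllBelow (relsOk cert.rels table) 1088 := AllBelow.step rels16 64 Cfsg.Agent.CosetCertFi23FP0.rels17c

theorem rels18 : AllBelow (relsOk cert.rels table) 1152 := AllBelow.step rels17 64 Cfsg.Agent.CosetCertFi23FP0.rels18c

theorem rels19 : AllBelow (relsOk cert.rels table) 1216 := AllBelow.step rels18 64 Cfsg.Agent.CosetCertFi23FP0.rels19c

theorem rels20 : AllBelow (relsOk cert.rels table) 1280 := AllBelow.step rels19 64 Cfsg.Agent.CosetCertFi23FP0.rels20c

theorem rels21 : AllBelow (relsOk cert.rels table) 1344 := AllBelow.step rels20 64 Cfsg.Agent.CosetCertFi23FP0.rels21c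

theorem rels22 : AllBelow (relsOk cert.rels table) 1408 := AllBelow.step rels21 64 Cfsg.Agent.CosetCertFi23FP0.rels22c

theorem rels23 : AllBelow (relsOk cert.rels table) 1472 := AllBelow.step rels22 64 Cfsg.Agent.CosetCertFi23FP0.rels23c

theorem rels24 : AllBelow (relsOk cert.rels table) 1536 := AllBelow.step rels23 64 Cfsg.Agent.CosetCertFi23FP0.rels24c

theorem rels25 : AllBelow (relsOk cert.rels table) 1600 := AllBelow.step rels24 64 Cfsg.Agent.CosetCertFi23FP0.rels25c

theorem rels26 : AllBelow (relsOk cert.rels table) 1664 := AllBelow.step rels25 64 Cfsg.Agent.CosetCertFi23FP0.rels26c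

theorem rels27 : AllBelow (relsOk cert.rels table) 1728 := AllBelow.step rels26 64 Cfsg.Agent.CosetCertFi23FP0.rels27c

theorem rels28 : AllBelow (relsOk cert.rels table) 1792 := AllBelow.step rels27 64 Cfsg.Agent.CosetCertFi23FP0.rels28c

theorem rels29 : AllBelow (relsOk cert.rels table) 1856 := AllBelow.step rels28 64 Cfsg.Agent.CosetCertFi23FP0.rels29c

theorem rels30 : AllBelow (relsOk cert.rels table) 1920 := AllBelow.step rels29 64 Cfsg.Agent.CosetCertFi23FP0.rels30c

theorem rels31 : AllBelow (relsOk cert.rels table) 1984 := AllBelow.step rels30 64 Cfsg.Agent.CosetCertFi23FP0.rels31c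

theorem rels32 : AllBelow (relsOk cert.rels table) 2048 := AllBelow.step rels31 64 Cfsg.Agent.CosetCertFi23FP1.rels32c

theorem rels33 : AllBelow (relsOk cert.rels table) 2112 := AllBelow.step rels32 64 Cfsg.Agent.CosetCertFi23FP1.rels33c

theorem rels34 : AllBelow (relsOk cert.rels table) 2176 := AllBelow.step rels33 64 Cfsg.Agent.CosetCertFi23FP1.rels34c

theorem rels35 : AllBelow (relsOk cert.rels table) 2240 := AllBelow.step rels34 64 Cfsg.Agent.CosetCertFi23FP1.rels35c

theorem rels36 : AllBelow (relsOk cert.rels table) 2304 := AllBelow.step rels35 64 Cfsg.Agent.CosetCertFi23FP1.rels36c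

theorem rels37 : AllBelow (relsOk cert.rels table) 2368 := AllBelow.step rels36 64 Cfsg.Agent.CosetCertFi23FP1.rels37c

theorem rels38 : AllBelow (relsOk cert.rels table) 2432 := AllBelow.step rels37 64 Cfsg.Agent.CosetCertFi23FP1.rels38c

theorem rels39 : AllBelow (relsOk cert.rels table) 2496 := AllBelow.step rels38 64 Cfsg.Agent.CosetCertFi23FP1.rels39c

theorem rels40 : AllBelow (relsOk cert.rels table) 2560 := AllBelow.step rels39 64 Cfsg.Agent.CosetCertFi23FP1.rels40c

theorem rels41 : AllBelow (relsOk cert.rels table) 2624 := AllBelow.step rels40 64 Cfsg.Agent.CosetCertFi23FP1.rels41c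

theorem rels42 : AllBelow (relsOk cert.rels table) 2688 := AllBelow.step rels41 64 Cfsg.Agent.CosetCertFi23FP1.rels42c

theorem rels43 : AllBelow (relsOk cert.rels table) 2752 := AllBelow.step rels42 64 Cfsg.Agent.CosetCertFi23FP1.rels43c

theorem rels44 : AllBelow (relsOk cert.rels table) 2816 := AllBelow.step rels43 64 Cfsg.Agent.CosetCertFi23FP1.rels44c

theorem rels45 : AllBelow (relsOk cert.rels table) 2880 := AllBelow.step rels44 64 Cfsg.Agent.CosetCertFi23FP1.rels45c

theorem rels46 : AllBelow (relsOk cert.rels table) 2944 := AllBelow.step rels45 64 Cfsg.Agent.CosetCertFi23FP1.rels46c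

theorem rels47 : AllBelow (relsOk cert.rels table) 3008 := AllBelow.step rels46 64 Cfsg.Agent.CosetCertFi23FP1.rels47c

theorem rels48 : AllBelow (relsOk cert.rels table) 3072 := AllBelow.step rels47 64 Cfsg.Agent.CosetCertFi23FP1.rels48c

theorem rels49 : AllBelow (relsOk cert.rels table) 3136 := AllBelow.step rels48 64 Cfsg.Agent.CosetCertFi23FP1.rels49c

theorem rels50 : AllBelow (relsOk cert.rels table) 3200 := AllBelow.step rels49 64 Cfsg.Agent.CosetCertFi23FP1.rels50c

theorem rels51 : AllBelow (relsOk cert.rels table) 3264 := AllBelow.step rels50 64 Cfsg.Agent.CosetCertFi23FP1.rels51c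

theorem rels52 : AllBelow (relsOk cert.rels table) 3328 := AllBelow.step rels51 64 Cfsg.Agent.CosetCertFi23FP1.rels52c

theorem rels53 : AllBelow (relsOk cert.rels table) 3392 := AllBelow.step rels52 64 Cfsg.Agent.CosetCertFi23FP1.rels53c

theorem rels54 : AllBelow (relsOk cert.rels table) 3456 := AllBelow.step rels53 64 Cfsg.Agent.CosetCertFi23FP1.rels54c

theorem rels55 : AllBelow (relsOk cert.rels table) 3520 := AllBelow.step rels54 64 Cfsg.Agent.CosetCertFi23FP1.rels55c

theorem rels56 : AllBelow (relsOk cert.rels table) 3584 := AllBelow.step rels55 64 Cfsg.Agent.CosetCertFi23FP1.rels56c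

theorem rels57 : AllBelow (relsOk cert.rels table) 3648 := AllBelow.step rels56 64 Cfsg.Agent.CosetCertFi23FP1.rels57c

theorem rels58 : AllBelow (relsOk cert.rels table) 3712 := AllBelow.step rels57 64 Cfsg.Agent.CosetCertFi23FP1.rels58c

theorem rels59 : AllBelow (relsOk cert.rels table) 3776 := AllBelow.step rels58 64 Cfsg.Agent.CosetCertFi23FP1.rels59c

theorem rels60 : AllBelow (relsOk cert.rels table) 3840 := AllBelow.step rels59 64 Cfsg.Agent.CosetCertFi23FP1.rels60c

theorem rels61 : AllBelow (relsOk cert.rels table) 3904 := AllBelow.step rels60 64 Cfsg.Agent.CosetCertFi23FP1.rels61c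

theorem rels62 : AllBelow (relsOk cert.rels table) 3968 := AllBelow.step rels61 64 Cfsg.Agent.CosetCertFi23FP1.rels62c

theorem rels63 : AllBelow (relsOk cert.rels table) 4032 := AllBelow.step rels62 64 Cfsg.Agent.CosetCertFi23FP2.rels63c

theorem rels64 : AllBelow (relsOk cert.rels table) 4096 := AllBelow.step rels63 64 Cfsg.Agent.CosetCertFi23FP2.rels64c

theorem rels65 : AllBelow (relsOk cert.rels table) 4160 := AllBelow.step rels64 64 Cfsg.Agent.CosetCertFi23FP2.rels65c

theorem rels66 : AllBelow (relsOk cert.rels table) 4224 := AllBelow.step rels65 64 Cfsg.Agent.CosetCertFi23FP2.rels66c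

theorem rels67 : AllBelow (relsOk cert.rels table) 4288 := AllBelow.step rels66 64 Cfsg.Agent.CosetCertFi23FP2.rels67c

theorem rels68 : AllBelow (relsOk cert.rels table) 4352 := AllBelow.step rels67 64 Cfsg.Agent.CosetCertFi23FP2.rels68c

theorem rels69 : AllBelow (relsOk cert.rels table) 4416 := AllBelow.step rels68 64 Cfsg.Agent.CosetCertFi23FP2.rels69c

theorem rels70 : AllBelow (relsOk cert.rels table) 4480 := AllBelow.step rels69 64 Cfsg.Agent.CosetCertFi23FP2.rels70c

theorem rels71 : AllBelow (relsOk cert.rels table) 4544 := AllBelow.step rels70 64 Cfsg.Agent.CosetCertFi23FP2.rels71c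

theorem rels72 : AllBelow (relsOk cert.rels table) 4608 := AllBelow.step rels71 64 Cfsg.Agent.CosetCertFi23FP2.rels72c

theorem rels73 : AllBelow (relsOk cert.rels table) 4672 := AllBelow.step rels72 64 Cfsg.Agent.CosetCertFi23FP2.rels73c

theorem rels74 : AllBelow (relsOk cert.rels table) 4736 := AllBelow.step rels73 64 Cfsg.Agent.CosetCertFi23FP2.rels74c

theorem rels75 : AllBelow (relsOk cert.rels table) 4800 := AllBelow.step rels74 64 Cfsg.Agent.CosetCertFi23FP2.rels75c

theorem rels76 : AllBelow (relsOk cert.rels table) 4864 := AllBelow.step rels75 64 Cfsg.Agent.CosetCertFi23FP2.rels76c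

theorem rels77 : AllBelow (relsOk cert.rels table) 4928 := AllBelow.step rels76 64 Cfsg.Agent.CosetCertFi23FP2.rels77c

theorem rels78 : AllBelow (relsOk cert.rels table) 4992 := AllBelow.step rels77 64 Cfsg.Agent.CosetCertFi23FP2.rels78c

theorem rels79 : AllBelow (relsOk cert.rels table) 5056 := AllBelow.step rels78 64 Cfsg.Agent.CosetCertFi23FP2.rels79c

theorem rels80 : AllBelow (relsOk cert.rels table) 5120 := AllBelow.step rels79 64 Cfsg.Agent.CosetCertFi23FP2.rels80c

theorem rels81 : AllBelow (relsOk cert.rels table) 5184 := AllBelow.step rels80 64 Cfsg.Agent.CosetCertFi23FP2.rels81c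

theorem rels82 : AllBelow (relsOk cert.rels table) 5248 := AllBelow.step rels81 64 Cfsg.Agent.CosetCertFi23FP2.rels82c

theorem rels83 : AllBelow (relsOk cert.rels table) 5312 := AllBelow.step rels82 64 Cfsg.Agent.CosetCertFi23FP2.rels83c

theorem rels84 : AllBelow (relsOk cert.rels table) 5376 := AllBelow.step rels83 64 Cfsg.Agent.CosetCertFi23FP2.rels84c

theorem rels85 : AllBelow (relsOk cert.rels table) 5440 := AllBelow.step rels84 64 Cfsg.Agent.CosetCertFi23FP2.rels85c

theorem rels86 : AllBelow (relsOk cert.rels table) 5504 := AllBelow.step rels85 64 Cfsg.Agent.CosetCertFi23FP2.rels86c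

theorem rels87 : AllBelow (relsOk cert.rels table) 5568 := AllBelow.step rels86 64 Cfsg.Agent.CosetCertFi23FP2.rels87c

theorem rels88 : AllBelow (relsOk cert.rels table) 5632 := AllBelow.step rels87 64 Cfsg.Agent.CosetCertFi23FP2.rels88c

theorem rels89 : AllBelow (relsOk cert.rels table) 5696 := AllBelow.step rels88 64 Cfsg.Agent.CosetCertFi23FP2.rels89c

theorem rels90 : AllBelow (relsOk cert.rels table) 5760 := AllBelow.step rels89 64 Cfsg.Agent.CosetCertFi23FP2.rels90c

theorem rels91 : AllBelow (relsOk cert.rels table) 5824 := AllBelow.step rels90 64 Cfsg.Agent.CosetCertFi23FP2.rels91c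

theorem rels92 : AllBelow (relsOk cert.rels table) 5888 := AllBelow.step rels91 64 Cfsg.Agent.CosetCertFi23FP2.rels92c

theorem rels93 : AllBelow (relsOk cert.rels table) 5952 := AllBelow.step rels92 64 Cfsg.Agent.CosetCertFi23FP2.rels93c

theorem rels94 : AllBelow (relsOk cert.rels table) 6016 := AllBelow.step rels93 64 Cfsg.Agent.CosetCertFi23FP3.rels94c

theorem rels95 : AllBelow (relsOk cert.rels table) 6080 := AllBelow.step rels94 64 Cfsg.Agent.CosetCertFi23FP3.rels95c

theorem rels96 : AllBelow (relsOk cert.rels table) 6144 := AllBelow.step rels95 64 Cfsg.Agent.CosetCertFi23FP3.rels96c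

theorem rels97 : AllBelow (relsOk cert.rels table) 6208 := AllBelow.step rels96 64 Cfsg.Agent.CosetCertFi23FP3.rels97c

theorem rels98 : AllBelow (relsOk cert.rels table) 6272 := AllBelow.step rels97 64 Cfsg.Agent.CosetCertFi23FP3.rels98c

theorem rels99 : AllBelow (relsOk cert.rels table) 6336 := AllBelow.step rels98 64 Cfsg.Agent.CosetCertFi23FP3.rels99c

theorem rels100 : AllBelow (relsOk cert.rels table) 6400 := AllBelow.step rels99 64 Cfsg.Agent.CosetCertFi23FP3.rels100c

theorem rels101 : AllBelow (relsOk cert.rels table) 6464 := AllBelow.step rels100 64 Cfsg.Agent.CosetCertFi23FP3.rels101c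

theorem rels102 : AllBelow (relsOk cert.rels table) 6528 := AllBelow.step rels101 64 Cfsg.Agent.CosetCertFi23FP3.rels102c

theorem rels103 : AllBelow (relsOk cert.rels table) 6592 := AllBelow.step rels102 64 Cfsg.Agent.CosetCertFi23FP3.rels103c

theorem rels104 : AllBelow (relsOk cert.rels table) 6656 := AllBelow.step rels103 64 Cfsg.Agent.CosetCertFi23FP3.rels104c

theorem rels105 : AllBelow (relsOk cert.rels table) 6720 := AllBelow.step rels104 64 Cfsg.Agent.CosetCertFi23FP3.rels105c

theorem rels106 : AllBelow (relsOk cert.rels table) 6784 := AllBelow.step rels105 64 Cfsg.Agent.CosetCertFi23FP3.rels106c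

theorem rels107 : AllBelow (relsOk cert.rels table) 6848 := AllBelow.step rels106 64 Cfsg.Agent.CosetCertFi23FP3.rels107c

theorem rels108 : AllBelow (relsOk cert.rels table) 6912 := AllBelow.step rels107 64 Cfsg.Agent.CosetCertFi23FP3.rels108c

theorem rels109 : AllBelow (relsOk cert.rels table) 6976 := AllBelow.step rels108 64 Cfsg.Agent.CosetCertFi23FP3.rels109c

theorem rels110 : AllBelow (relsOk cert.rels table) 7040 := AllBelow.step rels109 64 Cfsg.Agent.CosetCertFi23FP3.rels110c

theorem rels111 : AllBelow (relsOk cert.rels table) 7104 := AllBelow.step rels110 64 Cfsg.Agent.CosetCertFi23FP3.rels111c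

theorem rels112 : AllBelow (relsOk cert.rels table) 7168 := AllBelow.step rels111 64 Cfsg.Agent.CosetCertFi23FP3.rels112c

theorem rels113 : AllBelow (relsOk cert.rels table) 7232 := AllBelow.step rels112 64 Cfsg.Agent.CosetCertFi23FP3.rels113c

theorem rels114 : AllBelow (relsOk cert.rels table) 7296 := AllBelow.step rels113 64 Cfsg.Agent.CosetCertFi23FP3.rels114c

theorem rels115 : AllBelow (relsOk cert.rels table) 7360 := AllBelow.step rels114 64 Cfsg.Agent.CosetCertFi23FP3.rels115c

theorem rels116 : AllBelow (relsOk cert.rels table) 7424 := AllBelow.step rels115 64 Cfsg.Agent.CosetCertFi23FP3.rels116c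

theorem rels117 : AllBelow (relsOk cert.rels table) 7488 := AllBelow.step rels116 64 Cfsg.Agent.CosetCertFi23FP3.rels117c

theorem rels118 : AllBelow (relsOk cert.rels table) 7552 := AllBelow.step rels117 64 Cfsg.Agent.CosetCertFi23FP3.rels118c

theorem rels119 : AllBelow (relsOk cert.rels table) 7616 := AllBelow.step rels118 64 Cfsg.Agent.CosetCertFi23FP3.rels119c

theorem rels120 : AllBelow (relsOk cert.rels table) 7680 := AllBelow.step rels119 64 Cfsg.Agent.CosetCertFi23FP3.rels120c

theorem rels121 : AllBelow (relsOk cert.rels table) 7744 := AllBelow.step rels120 64 Cfsg.Agent.CosetCertFi23FP3.rels121c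

theorem rels122 : AllBelow (relsOk cert.rels table) 7808 := AllBelow.step rels121 64 Cfsg.Agent.CosetCertFi23FP3.rels122c

theorem rels123 : AllBelow (relsOk cert.rels table) 7872 := AllBelow.step rels122 64 Cfsg.Agent.CosetCertFi23FP3.rels123c

theorem rels124 : AllBelow (relsOk cert.rels table) 7936 := AllBelow.step rels123 64 Cfsg.Agent.CosetCertFi23FP3.rels124c

theorem rels125 : AllBelow (relsOk cert.rels table) 8000 := AllBelow.step rels124 64 Cfsg.Agent.CosetCertFi23FP4.rels125c

theorem rels126 : AllBelow (relsOk cert.rels table) 8064 := AllBelow.step rels125 64 Cfsg.Agent.CosetCertFi23FP4.rels126c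

theorem rels127 : AllBelow (relsOk cert.rels table) 8128 := AllBelow.step rels126 64 Cfsg.Agent.CosetCertFi23FP4.rels127c

theorem rels128 : AllBelow (relsOk cert.rels table) 8192 := AllBelow.step rels127 64 Cfsg.Agent.CosetCertFi23FP4.rels128c

theorem rels129 : AllBelow (relsOk cert.rels table) 8256 := AllBelow.step rels128 64 Cfsg.Agent.CosetCertFi23FP4.rels129c

theorem rels130 : AllBelow (relsOk cert.rels table) 8320 := AllBelow.step rels129 64 Cfsg.Agent.CosetCertFi23FP4.rels130c

theorem rels131 : AllBelow (relsOk cert.rels table) 8384 := AllBelow.step rels130 64 Cfsg.Agent.CosetCertFi23FP4.rels131c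

theorem rels132 : AllBelow (relsOk cert.rels table) 8448 := AllBelow.step rels131 64 Cfsg.Agent.CosetCertFi23FP4.rels132c

theorem rels133 : AllBelow (relsOk cert.rels table) 8512 := AllBelow.step rels132 64 Cfsg.Agent.CosetCertFi23FP4.rels133c

theorem rels134 : AllBelow (relsOk cert.rels table) 8576 := AllBelow.step rels133 64 Cfsg.Agent.CosetCertFi23FP4.rels134c

theorem rels135 : AllBelow (relsOk cert.rels table) 8640 := AllBelow.step rels134 64 Cfsg.Agent.CosetCertFi23FP4.rels135c

theorem rels136 : AllBelow (relsOk cert.rels table) 8704 := AllBelow.step rels135 64 Cfsg.Agent.CosetCertFi23FP4.rels136c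

theorem rels137 : AllBelow (relsOk cert.rels table) 8768 := AllBelow.step rels136 64 Cfsg.Agent.CosetCertFi23FP4.rels137c

theorem rels138 : AllBelow (relsOk cert.rels table) 8832 := AllBelow.step rels137 64 Cfsg.Agent.CosetCertFi23FP4.rels138c

theorem rels139 : AllBelow (relsOk cert.rels table) 8896 := AllBelow.step rels138 64 Cfsg.Agent.CosetCertFi23FP4.rels139c

theorem rels140 : AllBelow (relsOk cert.rels table) 8960 := AllBelow.step rels139 64 Cfsg.Agent.CosetCertFi23FP4.rels140c

theorem rels141 : AllBelow (relsOk cert.rels table) 9024 := AllBelow.step rels140 64 Cfsg.Agent.CosetCertFi23FP4.rels141c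

theorem rels142 : AllBelow (relsOk cert.rels table) 9088 := AllBelow.step rels141 64 Cfsg.Agent.CosetCertFi23FP4.rels142c

theorem rels143 : AllBelow (relsOk cert.rels table) 9152 := AllBelow.step rels142 64 Cfsg.Agent.CosetCertFi23FP4.rels143c

theorem rels144 : AllBelow (relsOk cert.rels table) 9216 := AllBelow.step rels143 64 Cfsg.Agent.CosetCertFi23FP4.rels144c

theorem rels145 : AllBelow (relsOk cert.rels table) 9280 := AllBelow.step rels144 64 Cfsg.Agent.CosetCertFi23FP4.rels145c

theorem rels146 : AllBelow (relsOk cert.rels table) 9344 := AllBelow.step rels145 64 Cfsg.Agent.CosetCertFi23FP4.rels146c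

theorem rels147 : AllBelow (relsOk cert.rels table) 9408 := AllBelow.step rels146 64 Cfsg.Agent.CosetCertFi23FP4.rels147c

theorem rels148 : AllBelow (relsOk cert.rels table) 9472 := AllBelow.step rels147 64 Cfsg.Agent.CosetCertFi23FP4.rels148c

theorem rels149 : AllBelow (relsOk cert.rels table) 9536 := AllBelow.step rels148 64 Cfsg.Agent.CosetCertFi23FP4.rels149c

theorem rels150 : AllBelow (relsOk cert.rels table) 9600 := AllBelow.step rels149 64 Cfsg.Agent.CosetCertFi23FP4.rels150c

theorem rels151 : AllBelow (relsOk cert.rels table) 9664 := AllBelow.step rels150 64 Cfsg.Agent.CosetCertFi23FP4.rels151c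

theorem rels152 : AllBelow (relsOk cert.rels table) 9728 := AllBelow.step rels151 64 Cfsg.Agent.CosetCertFi23FP4.rels152c

theorem rels153 : AllBelow (relsOk cert.rels table) 9792 := AllBelow.step rels152 64 Cfsg.Agent.CosetCertFi23FP4.rels153c

theorem rels154 : AllBelow (relsOk cert.rels table) 9856 := AllBelow.step rels153 64 Cfsg.Agent.CosetCertFi23FP4.rels154c

theorem rels155 : AllBelow (relsOk cert.rels table) 9920 := AllBelow.step rels154 64 Cfsg.Agent.CosetCertFi23FP4.rels155c

theorem rels156 : AllBelow (relsOk cert.rels table) 9984 := AllBelow.step rels155 64 Cfsg.Agent.CosetCertFi23FP5.rels156c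

theorem rels157 : AllBelow (relsOk cert.rels table) 10048 := AllBelow.step rels156 64 Cfsg.Agent.CosetCertFi23FP5.rels157c

theorem rels158 : AllBelow (relsOk cert.rels table) 10112 := AllBelow.step rels157 64 Cfsg.Agent.CosetCertFi23FP5.rels158c

theorem rels159 : AllBelow (relsOk cert.rels table) 10176 := AllBelow.step rels158 64 Cfsg.Agent.CosetCertFi23FP5.rels159c

theorem rels160 : AllBelow (relsOk cert.rels table) 10240 := AllBelow.step rels159 64 Cfsg.Agent.CosetCertFi23FP5.rels160c

theorem rels161 : AllBelow (relsOk cert.rels table) 10304 := AllBelow.step rels160 64 Cfsg.Agent.CosetCertFi23FP5.rels161c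

theorem rels162 : AllBelow (relsOk cert.rels table) 10368 := AllBelow.step rels161 64 Cfsg.Agent.CosetCertFi23FP5.rels162c

theorem rels163 : AllBelow (relsOk cert.rels table) 10432 := AllBelow.step rels162 64 Cfsg.Agent.CosetCertFi23FP5.rels163c

theorem rels164 : AllBelow (relsOk cert.rels table) 10496 := AllBelow.step rels163 64 Cfsg.Agent.CosetCertFi23FP5.rels164c

theorem rels165 : AllBelow (relsOk cert.rels table) 10560 := AllBelow.step rels164 64 Cfsg.Agent.CosetCertFi23FP5.rels165c

theorem rels166 : AllBelow (relsOk cert.rels table) 10624 := AllBelow.step rels165 64 Cfsg.Agent.CosetCertFi23FP5.rels166c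

theorem rels167 : AllBelow (relsOk cert.rels table) 10688 := AllBelow.step rels166 64 Cfsg.Agent.CosetCertFi23FP5.rels167c

theorem rels168 : AllBelow (relsOk cert.rels table) 10752 := AllBelow.step rels167 64 Cfsg.Agent.CosetCertFi23FP5.rels168c

theorem rels169 : AllBelow (relsOk cert.rels table) 10816 := AllBelow.step rels168 64 Cfsg.Agent.CosetCertFi23FP5.rels169c

theorem rels170 : AllBelow (relsOk cert.rels table) 10880 := AllBelow.step rels169 64 Cfsg.Agent.CosetCertFi23FP5.rels170c

theorem rels171 : AllBelow (relsOk cert.rels table) 10944 := AllBelow.step rels170 64 Cfsg.Agent.CosetCertFi23FP5.rels171c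

theorem rels172 : AllBelow (relsOk cert.rels table) 11008 := AllBelow.step rels171 64 Cfsg.Agent.CosetCertFi23FP5.rels172c

theorem rels173 : AllBelow (relsOk cert.rels table) 11072 := AllBelow.step rels172 64 Cfsg.Agent.CosetCertFi23FP5.rels173c

theorem rels174 : AllBelow (relsOk cert.rels table) 11136 := AllBelow.step rels173 64 Cfsg.Agent.CosetCertFi23FP5.rels174c

theorem rels175 : AllBelow (relsOk cert.rels table) 11200 := AllBelow.step rels174 64 Cfsg.Agent.CosetCertFi23FP5.rels175c

theorem rels176 : AllBelow (relsOk cert.rels table) 11264 := AllBelow.step rels175 64 Cfsg.Agent.CosetCertFi23FP5.rels176c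

theorem rels177 : AllBelow (relsOk cert.rels table) 11328 := AllBelow.step rels176 64 Cfsg.Agent.CosetCertFi23FP5.rels177c

theorem rels178 : AllBelow (relsOk cert.rels table) 11392 := AllBelow.step rels177 64 Cfsg.Agent.CosetCertFi23FP5.rels178c

theorem rels179 : AllBelow (relsOk cert.rels table) 11456 := AllBelow.step rels178 64 Cfsg.Agent.CosetCertFi23FP5.rels179c

theorem rels180 : AllBelow (relsOk cert.rels table) 11520 := AllBelow.step rels179 64 Cfsg.Agent.CosetCertFi23FP5.rels180c

theorem rels181 : AllBelow (relsOk cert.rels table) 11584 := AllBelow.step rels180 64 Cfsg.Agent.CosetCertFi23FP5.rels181c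

theorem rels182 : AllBelow (relsOk cert.rels table) 11648 := AllBelow.step rels181 64 Cfsg.Agent.CosetCertFi23FP5.rels182c

theorem rels183 : AllBelow (relsOk cert.rels table) 11712 := AllBelow.step rels182 64 Cfsg.Agent.CosetCertFi23FP5.rels183c

theorem rels184 : AllBelow (relsOk cert.rels table) 11776 := AllBelow.step rels183 64 Cfsg.Agent.CosetCertFi23FP5.rels184c

theorem rels185 : AllBelow (relsOk cert.rels table) 11840 := AllBelow.step rels184 64 Cfsg.Agent.CosetCertFi23FP5.rels185c

theorem rels186 : AllBelow (relsOk cert.rels table) 11904 := AllBelow.step rels185 64 Cfsg.Agent.CosetCertFi23FP5.rels186c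

theorem rels187 : AllBelow (relsOk cert.rels table) 11968 := AllBelow.step rels186 64 Cfsg.Agent.CosetCertFi23FP6.rels187c

theorem rels188 : AllBelow (relsOk cert.rels table) 12032 := AllBelow.step rels187 64 Cfsg.Agent.CosetCertFi23FP6.rels188c

theorem rels189 : AllBelow (relsOk cert.rels table) 12096 := AllBelow.step rels188 64 Cfsg.Agent.CosetCertFi23FP6.rels189c

theorem rels190 : AllBelow (relsOk cert.rels table) 12160 := AllBelow.step rels189 64 Cfsg.Agent.CosetCertFi23FP6.rels190c

theorem rels191 : AllBelow (relsOk cert.rels table) 12224 := AllBelow.step rels190 64 Cfsg.Agent.CosetCertFi23FP6.rels191c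

theorem rels192 : AllBelow (relsOk cert.rels table) 12288 := AllBelow.step rels191 64 Cfsg.Agent.CosetCertFi23FP6.rels192c

theorem rels193 : AllBelow (relsOk cert.rels table) 12352 := AllBelow.step rels192 64 Cfsg.Agent.CosetCertFi23FP6.rels193c

theorem rels194 : AllBelow (relsOk cert.rels table) 12416 := AllBelow.step rels193 64 Cfsg.Agent.CosetCertFi23FP6.rels194c

theorem rels195 : AllBelow (relsOk cert.rels table) 12480 := AllBelow.step rels194 64 Cfsg.Agent.CosetCertFi23FP6.rels195c

theorem rels196 : AllBelow (relsOk cert.rels table) 12544 := AllBelow.step rels195 64 Cfsg.Agent.CosetCertFi23FP6.rels196c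

theorem rels197 : AllBelow (relsOk cert.rels table) 12608 := AllBelow.step rels196 64 Cfsg.Agent.CosetCertFi23FP6.rels197c

theorem rels198 : AllBelow (relsOk cert.rels table) 12672 := AllBelow.step rels197 64 Cfsg.Agent.CosetCertFi23FP6.rels198c

theorem rels199 : AllBelow (relsOk cert.rels table) 12736 := AllBelow.step rels198 64 Cfsg.Agent.CosetCertFi23FP6.rels199c

theorem rels200 : AllBelow (relsOk cert.rels table) 12800 := AllBelow.step rels199 64 Cfsg.Agent.CosetCertFi23FP6.rels200c

theorem rels201 : AllBelow (relsOk cert.rels table) 12864 := AllBelow.step rels200 64 Cfsg.Agent.CosetCertFi23FP6.rels201c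

theorem rels202 : AllBelow (relsOk cert.rels table) 12928 := AllBelow.step rels201 64 Cfsg.Agent.CosetCertFi23FP6.rels202c

theorem rels203 : AllBelow (relsOk cert.rels table) 12992 := AllBelow.step rels202 64 Cfsg.Agent.CosetCertFi23FP6.rels203c

theorem rels204 : AllBelow (relsOk cert.rels table) 13056 := AllBelow.step rels203 64 Cfsg.Agent.CosetCertFi23FP6.rels204c

theorem rels205 : AllBelow (relsOk cert.rels table) 13120 := AllBelow.step rels204 64 Cfsg.Agent.CosetCertFi23FP6.rels205c

theorem rels206 : AllBelow (relsOk cert.rels table) 13184 := AllBelow.step rels205 64 Cfsg.Agent.CosetCertFi23FP6.rels206c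

theorem rels207 : AllBelow (relsOk cert.rels table) 13248 := AllBelow.step rels206 64 Cfsg.Agent.CosetCertFi23FP6.rels207c

theorem rels208 : AllBelow (relsOk cert.rels table) 13312 := AllBelow.step rels207 64 Cfsg.Agent.CosetCertFi23FP6.rels208c

theorem rels209 : AllBelow (relsOk cert.rels table) 13376 := AllBelow.step rels208 64 Cfsg.Agent.CosetCertFi23FP6.rels209c

theorem rels210 : AllBelow (relsOk cert.rels table) 13440 := AllBelow.step rels209 64 Cfsg.Agent.CosetCertFi23FP6.rels210c

theorem rels211 : AllBelow (relsOk cert.rels table) 13504 := AllBelow.step rels210 64 Cfsg.Agent.CosetCertFi23FP6.rels211c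

theorem rels212 : AllBelow (relsOk cert.rels table) 13568 := AllBelow.step rels211 64 Cfsg.Agent.CosetCertFi23FP6.rels212c

theorem rels213 : AllBelow (relsOk cert.rels table) 13632 := AllBelow.step rels212 64 Cfsg.Agent.CosetCertFi23FP6.rels213c

theorem rels214 : AllBelow (relsOk cert.rels table) 13696 := AllBelow.step rels213 64 Cfsg.Agent.CosetCertFi23FP6.rels214c

theorem rels215 : AllBelow (relsOk cert.rels table) 13760 := AllBelow.step rels214 64 Cfsg.Agent.CosetCertFi23FP6.rels215c

theorem rels216 : AllBelow (relsOk cert.rels table) 13824 := AllBelow.step rels215 64 Cfsg.Agent.CosetCertFi23FP6.rels216c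

theorem rels217 : AllBelow (relsOk cert.rels table) 13888 := AllBelow.step rels216 64 Cfsg.Agent.CosetCertFi23FP6.rels217c

theorem rels218 : AllBelow (relsOk cert.rels table) 13952 := AllBelow.step rels217 64 Cfsg.Agent.CosetCertFi23FP7.rels218c

theorem rels219 : AllBelow (relsOk cert.rels table) 14016 := AllBelow.step rels218 64 Cfsg.Agent.CosetCertFi23FP7.rels219c

theorem rels220 : AllBelow (relsOk cert.rels table) 14080 := AllBelow.step rels219 64 Cfsg.Agent.CosetCertFi23FP7.rels220c

theorem rels221 : AllBelow (relsOk cert.rels table) 14144 := AllBelow.step rels220 64 Cfsg.Agent.CosetCertFi23FP7.rels221c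

theorem rels222 : AllBelow (relsOk cert.rels table) 14208 := AllBelow.step rels221 64 Cfsg.Agent.CosetCertFi23FP7.rels222c

theorem rels223 : AllBelow (relsOk cert.rels table) 14272 := AllBelow.step rels222 64 Cfsg.Agent.CosetCertFi23FP7.rels223c

theorem rels224 : AllBelow (relsOk cert.rels table) 14336 := AllBelow.step rels223 64 Cfsg.Agent.CosetCertFi23FP7.rels224c

theorem rels225 : AllBelow (relsOk cert.rels table) 14400 := AllBelow.step rels224 64 Cfsg.Agent.CosetCertFi23FP7.rels225c

theorem rels226 : AllBelow (relsOk cert.rels table) 14464 := AllBelow.step rels225 64 Cfsg.Agent.CosetCertFi23FP7.rels226c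

theorem rels227 : AllBelow (relsOk cert.rels table) 14528 := AllBelow.step rels226 64 Cfsg.Agent.CosetCertFi23FP7.rels227c

theorem rels228 : AllBelow (relsOk cert.rels table) 14592 := AllBelow.step rels227 64 Cfsg.Agent.CosetCertFi23FP7.rels228c

theorem rels229 : AllBelow (relsOk cert.rels table) 14656 := AllBelow.step rels228 64 Cfsg.Agent.CosetCertFi23FP7.rels229c

theorem rels230 : AllBelow (relsOk cert.rels table) 14720 := AllBelow.step rels229 64 Cfsg.Agent.CosetCertFi23FP7.rels230c

theorem rels231 : AllBelow (relsOk cert.rels table) 14784 := AllBelow.step rels230 64 Cfsg.Agent.CosetCertFi23FP7.rels231c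

theorem rels232 : AllBelow (relsOk cert.rels table) 14848 := AllBelow.step rels231 64 Cfsg.Agent.CosetCertFi23FP7.rels232c

theorem rels233 : AllBelow (relsOk cert.rels table) 14912 := AllBelow.step rels232 64 Cfsg.Agent.CosetCertFi23FP7.rels233c

theorem rels234 : AllBelow (relsOk cert.rels table) 14976 := AllBelow.step rels233 64 Cfsg.Agent.CosetCertFi23FP7.rels234c

theorem rels235 : AllBelow (relsOk cert.rels table) 15040 := AllBelow.step rels234 64 Cfsg.Agent.CosetCertFi23FP7.rels235c

theorem rels236 : AllBelow (relsOk cert.rels table) 15104 := AllBelow.step rels235 64 Cfsg.Agent.CosetCertFi23FP7.rels236c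

theorem rels237 : AllBelow (relsOk cert.rels table) 15168 := AllBelow.step rels236 64 Cfsg.Agent.CosetCertFi23FP7.rels237c

theorem rels238 : AllBelow (relsOk cert.rels table) 15232 := AllBelow.step rels237 64 Cfsg.Agent.CosetCertFi23FP7.rels238c

theorem rels239 : AllBelow (relsOk cert.rels table) 15296 := AllBelow.step rels238 64 Cfsg.Agent.CosetCertFi23FP7.rels239c

theorem rels240 : AllBelow (relsOk cert.rels table) 15360 := AllBelow.step rels239 64 Cfsg.Agent.CosetCertFi23FP7.rels240c

theorem rels241 : AllBelow (relsOk cert.rels table) 15424 := AllBelow.step rels240 64 Cfsg.Agent.CosetCertFi23FP7.rels241c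

theorem rels242 : AllBelow (relsOk cert.rels table) 15488 := AllBelow.step rels241 64 Cfsg.Agent.CosetCertFi23FP7.rels242c

theorem rels243 : AllBelow (relsOk cert.rels table) 15552 := AllBelow.step rels242 64 Cfsg.Agent.CosetCertFi23FP7.rels243c

theorem rels244 : AllBelow (relsOk cert.rels table) 15616 := AllBelow.step rels243 64 Cfsg.Agent.CosetCertFi23FP7.rels244c

theorem rels245 : AllBelow (relsOk cert.rels table) 15680 := AllBelow.step rels244 64 Cfsg.Agent.CosetCertFi23FP7.rels245c

theorem rels246 : AllBelow (relsOk cert.rels table) 15744 := AllBelow.step rels245 64 Cfsg.Agent.CosetCertFi23FP7.rels246c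

theorem rels247 : AllBelow (relsOk cert.rels table) 15808 := AllBelow.step rels246 64 Cfsg.Agent.CosetCertFi23FP7.rels247c

theorem rels248 : AllBelow (relsOk cert.rels table) 15872 := AllBelow.step rels247 64 Cfsg.Agent.CosetCertFi23FP7.rels248c

theorem rels249 : AllBelow (relsOk cert.rels table) 15936 := AllBelow.step rels248 64 Cfsg.Agent.CosetCertFi23FP8.rels249c

theorem rels250 : AllBelow (relsOk cert.rels table) 16000 := AllBelow.step rels249 64 Cfsg.Agent.CosetCertFi23FP8.rels250c

theorem rels251 : AllBelow (relsOk cert.rels table) 16064 := AllBelow.step rels250 64 Cfsg.Agent.CosetCertFi23FP8.rels251c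

theorem rels252 : AllBelow (relsOk cert.rels table) 16128 := AllBelow.step rels251 64 Cfsg.Agent.CosetCertFi23FP8.rels252c

theorem rels253 : AllBelow (relsOk cert.rels table) 16192 := AllBelow.step rels252 64 Cfsg.Agent.CosetCertFi23FP8.rels253c

theorem rels254 : AllBelow (relsOk cert.rels table) 16256 := AllBelow.step rels253 64 Cfsg.Agent.CosetCertFi23FP8.rels254c

theorem rels255 : AllBelow (relsOk cert.rels table) 16320 := AllBelow.step rels254 64 Cfsg.Agent.CosetCertFi23FP8.rels255c

theorem rels256 : AllBelow (relsOk cert.rels table) 16384 := AllBelow.step rels255 64 Cfsg.Agent.CosetCertFi23FP8.rels256c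

theorem rels257 : AllBelow (relsOk cert.rels table) 16448 := AllBelow.step rels256 64 Cfsg.Agent.CosetCertFi23FP8.rels257c

theorem rels258 : AllBelow (relsOk cert.rels table) 16512 := AllBelow.step rels257 64 Cfsg.Agent.CosetCertFi23FP8.rels258c

theorem rels259 : AllBelow (relsOk cert.rels table) 16576 := AllBelow.step rels258 64 Cfsg.Agent.CosetCertFi23FP8.rels259c

theorem rels260 : AllBelow (relsOk cert.rels table) 16640 := AllBelow.step rels259 64 Cfsg.Agent.CosetCertFi23FP8.rels260c

theorem rels261 : AllBelow (relsOk cert.rels table) 16704 := AllBelow.step rels260 64 Cfsg.Agent.CosetCertFi23FP8.rels261c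

theorem rels262 : AllBelow (relsOk cert.rels table) 16768 := AllBelow.step rels261 64 Cfsg.Agent.CosetCertFi23FP8.rels262c

theorem rels263 : AllBelow (relsOk cert.rels table) 16832 := AllBelow.step rels262 64 Cfsg.Agent.CosetCertFi23FP8.rels263c

theorem rels264 : AllBelow (relsOk cert.rels table) 16896 := AllBelow.step rels263 64 Cfsg.Agent.CosetCertFi23FP8.rels264c

theorem rels265 : AllBelow (relsOk cert.rels table) 16960 := AllBelow.step rels264 64 Cfsg.Agent.CosetCertFi23FP8.rels265c

theorem rels266 : AllBelow (relsOk cert.rels table) 17024 := AllBelow.step rels265 64 Cfsg.Agent.CosetCertFi23FP8.rels266c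

theorem rels267 : AllBelow (relsOk cert.rels table) 17088 := AllBelow.step rels266 64 Cfsg.Agent.CosetCertFi23FP8.rels267c

theorem rels268 : AllBelow (relsOk cert.rels table) 17152 := AllBelow.step rels267 64 Cfsg.Agent.CosetCertFi23FP8.rels268c

theorem rels269 : AllBelow (relsOk cert.rels table) 17216 := AllBelow.step rels268 64 Cfsg.Agent.CosetCertFi23FP8.rels269c

theorem rels270 : AllBelow (relsOk cert.rels table) 17280 := AllBelow.step rels269 64 Cfsg.Agent.CosetCertFi23FP8.rels270c

theorem rels271 : AllBelow (relsOk cert.rels table) 17344 := AllBelow.step rels270 64 Cfsg.Agent.CosetCertFi23FP8.rels271c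

theorem rels272 : AllBelow (relsOk cert.rels table) 17408 := AllBelow.step rels271 64 Cfsg.Agent.CosetCertFi23FP8.rels272c

theorem rels273 : AllBelow (relsOk cert.rels table) 17472 := AllBelow.step rels272 64 Cfsg.Agent.CosetCertFi23FP8.rels273c

theorem rels274 : AllBelow (relsOk cert.rels table) 17536 := AllBelow.step rels273 64 Cfsg.Agent.CosetCertFi23FP8.rels274c

theorem rels275 : AllBelow (relsOk cert.rels table) 17600 := AllBelow.step rels274 64 Cfsg.Agent.CosetCertFi23FP8.rels275c

theorem rels276 : AllBelow (relsOk cert.rels table) 17664 := AllBelow.step rels275 64 Cfsg.Agent.CosetCertFi23FP8.rels276c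

theorem rels277 : AllBelow (relsOk cert.rels table) 17728 := AllBelow.step rels276 64 Cfsg.Agent.CosetCertFi23FP8.rels277c

theorem rels278 : AllBelow (relsOk cert.rels table) 17792 := AllBelow.step rels277 64 Cfsg.Agent.CosetCertFi23FP8.rels278c

theorem rels279 : AllBelow (relsOk cert.rels table) 17856 := AllBelow.step rels278 64 Cfsg.Agent.CosetCertFi23FP8.rels279c

theorem rels280 : AllBelow (relsOk cert.rels table) 17920 := AllBelow.step rels279 64 Cfsg.Agent.CosetCertFi23FP9.rels280c

theorem rels281 : AllBelow (relsOk cert.rels table) 17984 := AllBelow.step rels280 64 Cfsg.Agent.CosetCertFi23FP9.rels281c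

theorem rels282 : AllBelow (relsOk cert.rels table) 18048 := AllBelow.step rels281 64 Cfsg.Agent.CosetCertFi23FP9.rels282c

theorem rels283 : AllBelow (relsOk cert.rels table) 18112 := AllBelow.step rels282 64 Cfsg.Agent.CosetCertFi23FP9.rels283c

theorem rels284 : AllBelow (relsOk cert.rels table) 18176 := AllBelow.step rels283 64 Cfsg.Agent.CosetCertFi23FP9.rels284c

theorem rels285 : AllBelow (relsOk cert.rels table) 18240 := AllBelow.step rels284 64 Cfsg.Agent.CosetCertFi23FP9.rels285c

theorem rels286 : AllBelow (relsOk cert.rels table) 18304 := AllBelow.step rels285 64 Cfsg.Agent.CosetCertFi23FP9.rels286c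

theorem rels287 : AllBelow (relsOk cert.rels table) 18368 := AllBelow.step rels286 64 Cfsg.Agent.CosetCertFi23FP9.rels287c

theorem rels288 : AllBelow (relsOk cert.rels table) 18432 := AllBelow.step rels287 64 Cfsg.Agent.CosetCertFi23FP9.rels288c

theorem rels289 : AllBelow (relsOk cert.rels table) 18496 := AllBelow.step rels288 64 Cfsg.Agent.CosetCertFi23FP9.rels289c

theorem rels290 : AllBelow (relsOk cert.rels table) 18560 := AllBelow.step rels289 64 Cfsg.Agent.CosetCertFi23FP9.rels290c

theorem rels291 : AllBelow (relsOk cert.rels table) 18624 := AllBelow.step rels290 64 Cfsg.Agent.CosetCertFi23FP9.rels291c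

theorem rels292 : AllBelow (relsOk cert.rels table) 18688 := AllBelow.step rels291 64 Cfsg.Agent.CosetCertFi23FP9.rels292c

theorem rels293 : AllBelow (relsOk cert.rels table) 18752 := AllBelow.step rels292 64 Cfsg.Agent.CosetCertFi23FP9.rels293c

theorem rels294 : AllBelow (relsOk cert.rels table) 18816 := AllBelow.step rels293 64 Cfsg.Agent.CosetCertFi23FP9.rels294c

theorem rels295 : AllBelow (relsOk cert.rels table) 18880 := AllBelow.step rels294 64 Cfsg.Agent.CosetCertFi23FP9.rels295c

theorem rels296 : AllBelow (relsOk cert.rels table) 18944 := AllBelow.step rels295 64 Cfsg.Agent.CosetCertFi23FP9.rels296c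

theorem rels297 : AllBelow (relsOk cert.rels table) 19008 := AllBelow.step rels296 64 Cfsg.Agent.CosetCertFi23FP9.rels297c

theorem rels298 : AllBelow (relsOk cert.rels table) 19072 := AllBelow.step rels297 64 Cfsg.Agent.CosetCertFi23FP9.rels298c

theorem rels299 : AllBelow (relsOk cert.rels table) 19136 := AllBelow.step rels298 64 Cfsg.Agent.CosetCertFi23FP9.rels299c

theorem rels300 : AllBelow (relsOk cert.rels table) 19200 := AllBelow.step rels299 64 Cfsg.Agent.CosetCertFi23FP9.rels300c

theorem rels301 : AllBelow (relsOk cert.rels table) 19264 := AllBelow.step rels300 64 Cfsg.Agent.CosetCertFi23FP9.rels301c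

theorem rels302 : AllBelow (relsOk cert.rels table) 19328 := AllBelow.step rels301 64 Cfsg.Agent.CosetCertFi23FP9.rels302c

theorem rels303 : AllBelow (relsOk cert.rels table) 19392 := AllBelow.step rels302 64 Cfsg.Agent.CosetCertFi23FP9.rels303c

theorem rels304 : AllBelow (relsOk cert.rels table) 19456 := AllBelow.step rels303 64 Cfsg.Agent.CosetCertFi23FP9.rels304c

theorem rels305 : AllBelow (relsOk cert.rels table) 19520 := AllBelow.step rels304 64 Cfsg.Agent.CosetCertFi23FP9.rels305c

theorem rels306 : AllBelow (relsOk cert.rels table) 19584 := AllBelow.step rels305 64 Cfsg.Agent.CosetCertFi23FP9.rels306c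

theorem rels307 : AllBelow (relsOk cert.rels table) 19648 := AllBelow.step rels306 64 Cfsg.Agent.CosetCertFi23FP9.rels307c

theorem rels308 : AllBelow (relsOk cert.rels table) 19712 := AllBelow.step rels307 64 Cfsg.Agent.CosetCertFi23FP9.rels308c

theorem rels309 : AllBelow (relsOk cert.rels table) 19776 := AllBelow.step rels308 64 Cfsg.Agent.CosetCertFi23FP9.rels309c

theorem rels310 : AllBelow (relsOk cert.rels table) 19840 := AllBelow.step rels309 64 Cfsg.Agent.CosetCertFi23FP9.rels310c

theorem rels311 : AllBelow (relsOk cert.rels table) 19904 := AllBelow.step rels310 64 Cfsg.Agent.CosetCertFi23FP10.rels311c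

theorem rels312 : AllBelow (relsOk cert.rels table) 19968 := AllBelow.step rels311 64 Cfsg.Agent.CosetCertFi23FP10.rels312c

theorem rels313 : AllBelow (relsOk cert.rels table) 20032 := AllBelow.step rels312 64 Cfsg.Agent.CosetCertFi23FP10.rels313c

theorem rels314 : AllBelow (relsOk cert.rels table) 20096 := AllBelow.step rels313 64 Cfsg.Agent.CosetCertFi23FP10.rels314c

theorem rels315 : AllBelow (relsOk cert.rels table) 20160 := AllBelow.step rels314 64 Cfsg.Agent.CosetCertFi23FP10.rels315c

theorem rels316 : AllBelow (relsOk cert.rels table) 20224 := AllBelow.step rels315 64 Cfsg.Agent.CosetCertFi23FP10.rels316c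

theorem rels317 : AllBelow (relsOk cert.rels table) 20288 := AllBelow.step rels316 64 Cfsg.Agent.CosetCertFi23FP10.rels317c

theorem rels318 : AllBelow (relsOk cert.rels table) 20352 := AllBelow.step rels317 64 Cfsg.Agent.CosetCertFi23FP10.rels318c

theorem rels319 : AllBelow (relsOk cert.rels table) 20416 := AllBelow.step rels318 64 Cfsg.Agent.CosetCertFi23FP10.rels319c

theorem rels320 : AllBelow (relsOk cert.rels table) 20480 := AllBelow.step rels319 64 Cfsg.Agent.CosetCertFi23FP10.rels320c

theorem rels321 : AllBelow (relsOk cert.rels table) 20544 := AllBelow.step rels320 64 Cfsg.Agent.CosetCertFi23FP10.rels321c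

theorem rels322 : AllBelow (relsOk cert.rels table) 20608 := AllBelow.step rels321 64 Cfsg.Agent.CosetCertFi23FP10.rels322c

theorem rels323 : AllBelow (relsOk cert.rels table) 20672 := AllBelow.step rels322 64 Cfsg.Agent.CosetCertFi23FP10.rels323c

theorem rels324 : AllBelow (relsOk cert.rels table) 20736 := AllBelow.step rels323 64 Cfsg.Agent.CosetCertFi23FP10.rels324c

theorem rels325 : AllBelow (relsOk cert.rels table) 20800 := AllBelow.step rels324 64 Cfsg.Agent.CosetCertFi23FP10.rels325c

theorem rels326 : AllBelow (relsOk cert.rels table) 20864 := AllBelow.step rels325 64 Cfsg.Agent.CosetCertFi23FP10.rels326c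

theorem rels327 : AllBelow (relsOk cert.rels table) 20928 := AllBelow.step rels326 64 Cfsg.Agent.CosetCertFi23FP10.rels327c

theorem rels328 : AllBelow (relsOk cert.rels table) 20992 := AllBelow.step rels327 64 Cfsg.Agent.CosetCertFi23FP10.rels328c

theorem rels329 : AllBelow (relsOk cert.rels table) 21056 := AllBelow.step rels328 64 Cfsg.Agent.CosetCertFi23FP10.rels329c

theorem rels330 : AllBelow (relsOk cert.rels table) 21120 := AllBelow.step rels329 64 Cfsg.Agent.CosetCertFi23FP10.rels330c

theorem rels331 : AllBelow (relsOk cert.rels table) 21184 := AllBelow.step rels330 64 Cfsg.Agent.CosetCertFi23FP10.rels331c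

theorem rels332 : AllBelow (relsOk cert.rels table) 21248 := AllBelow.step rels331 64 Cfsg.Agent.CosetCertFi23FP10.rels332c

theorem rels333 : AllBelow (relsOk cert.rels table) 21312 := AllBelow.step rels332 64 Cfsg.Agent.CosetCertFi23FP10.rels333c

theorem rels334 : AllBelow (relsOk cert.rels table) 21376 := AllBelow.step rels333 64 Cfsg.Agent.CosetCertFi23FP10.rels334c

theorem rels335 : AllBelow (relsOk cert.rels table) 21440 := AllBelow.step rels334 64 Cfsg.Agent.CosetCertFi23FP10.rels335c

theorem rels336 : AllBelow (relsOk cert.rels table) 21504 := AllBelow.step rels335 64 Cfsg.Agent.CosetCertFi23FP10.rels336c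

theorem rels337 : AllBelow (relsOk cert.rels table) 21568 := AllBelow.step rels336 64 Cfsg.Agent.CosetCertFi23FP10.rels337c

theorem rels338 : AllBelow (relsOk cert.rels table) 21632 := AllBelow.step rels337 64 Cfsg.Agent.CosetCertFi23FP10.rels338c

theorem rels339 : AllBelow (relsOk cert.rels table) 21696 := AllBelow.step rels338 64 Cfsg.Agent.CosetCertFi23FP10.rels339c

theorem rels340 : AllBelow (relsOk cert.rels table) 21760 := AllBelow.step rels339 64 Cfsg.Agent.CosetCertFi23FP10.rels340c

theorem rels341 : AllBelow (relsOk cert.rels table) 21824 := AllBelow.step rels340 64 Cfsg.Agent.CosetCertFi23FP10.rels341c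

theorem rels342 : AllBelow (relsOk cert.rels table) 21888 := AllBelow.step rels341 64 Cfsg.Agent.CosetCertFi23FP11.rels342c

theorem rels343 : AllBelow (relsOk cert.rels table) 21952 := AllBelow.step rels342 64 Cfsg.Agent.CosetCertFi23FP11.rels343c

theorem rels344 : AllBelow (relsOk cert.rels table) 22016 := AllBelow.step rels343 64 Cfsg.Agent.CosetCertFi23FP11.rels344c

theorem rels345 : AllBelow (relsOk cert.rels table) 22080 := AllBelow.step rels344 64 Cfsg.Agent.CosetCertFi23FP11.rels345c

theorem rels346 : AllBelow (relsOk cert.rels table) 22144 := AllBelow.step rels345 64 Cfsg.Agent.CosetCertFi23FP11.rels346c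

theorem rels347 : AllBelow (relsOk cert.rels table) 22208 := AllBelow.step rels346 64 Cfsg.Agent.CosetCertFi23FP11.rels347c

theorem rels348 : AllBelow (relsOk cert.rels table) 22272 := AllBelow.step rels347 64 Cfsg.Agent.CosetCertFi23FP11.rels348c

theorem rels349 : AllBelow (relsOk cert.rels table) 22336 := AllBelow.step rels348 64 Cfsg.Agent.CosetCertFi23FP11.rels349c

theorem rels350 : AllBelow (relsOk cert.rels table) 22400 := AllBelow.step rels349 64 Cfsg.Agent.CosetCertFi23FP11.rels350c

theorem rels351 : AllBelow (relsOk cert.rels table) 22464 := AllBelow.step rels350 64 Cfsg.Agent.CosetCertFi23FP11.rels351c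

theorem rels352 : AllBelow (relsOk cert.rels table) 22528 := AllBelow.step rels351 64 Cfsg.Agent.CosetCertFi23FP11.rels352c

theorem rels353 : AllBelow (relsOk cert.rels table) 22592 := AllBelow.step rels352 64 Cfsg.Agent.CosetCertFi23FP11.rels353c

theorem rels354 : AllBelow (relsOk cert.rels table) 22656 := AllBelow.step rels353 64 Cfsg.Agent.CosetCertFi23FP11.rels354c

theorem rels355 : AllBelow (relsOk cert.rels table) 22720 := AllBelow.step rels354 64 Cfsg.Agent.CosetCertFi23FP11.rels355c

theorem rels356 : AllBelow (relsOk cert.rels table) 22784 := AllBelow.step rels355 64 Cfsg.Agent.CosetCertFi23FP11.rels356c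

theorem rels357 : AllBelow (relsOk cert.rels table) 22848 := AllBelow.step rels356 64 Cfsg.Agent.CosetCertFi23FP11.rels357c

theorem rels358 : AllBelow (relsOk cert.rels table) 22912 := AllBelow.step rels357 64 Cfsg.Agent.CosetCertFi23FP11.rels358c

theorem rels359 : AllBelow (relsOk cert.rels table) 22976 := AllBelow.step rels358 64 Cfsg.Agent.CosetCertFi23FP11.rels359c

theorem rels360 : AllBelow (relsOk cert.rels table) 23040 := AllBelow.step rels359 64 Cfsg.Agent.CosetCertFi23FP11.rels360c

theorem rels361 : AllBelow (relsOk cert.rels table) 23104 := AllBelow.step rels360 64 Cfsg.Agent.CosetCertFi23FP11.rels361c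

theorem rels362 : AllBelow (relsOk cert.rels table) 23168 := AllBelow.step rels361 64 Cfsg.Agent.CosetCertFi23FP11.rels362c

theorem rels363 : AllBelow (relsOk cert.rels table) 23232 := AllBelow.step rels362 64 Cfsg.Agent.CosetCertFi23FP11.rels363c

theorem rels364 : AllBelow (relsOk cert.rels table) 23296 := AllBelow.step rels363 64 Cfsg.Agent.CosetCertFi23FP11.rels364c

theorem rels365 : AllBelow (relsOk cert.rels table) 23360 := AllBelow.step rels364 64 Cfsg.Agent.CosetCertFi23FP11.rels365c

theorem rels366 : AllBelow (relsOk cert.rels table) 23424 := AllBelow.step rels365 64 Cfsg.Agent.CosetCertFi23FP11.rels366c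

theorem rels367 : AllBelow (relsOk cert.rels table) 23488 := AllBelow.step rels366 64 Cfsg.Agent.CosetCertFi23FP11.rels367c

theorem rels368 : AllBelow (relsOk cert.rels table) 23552 := AllBelow.step rels367 64 Cfsg.Agent.CosetCertFi23FP11.rels368c

theorem rels369 : AllBelow (relsOk cert.rels table) 23616 := AllBelow.step rels368 64 Cfsg.Agent.CosetCertFi23FP11.rels369c

theorem rels370 : AllBelow (relsOk cert.rels table) 23680 := AllBelow.step rels369 64 Cfsg.Agent.CosetCertFi23FP11.rels370c

theorem rels371 : AllBelow (relsOk cert.rels table) 23744 := AllBelow.step rels370 64 Cfsg.Agent.CosetCertFi23FP11.rels371c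

theorem rels372 : AllBelow (relsOk cert.rels table) 23808 := AllBelow.step rels371 64 Cfsg.Agent.CosetCertFi23FP11.rels372c

theorem rels373 : AllBelow (relsOk cert.rels table) 23872 := AllBelow.step rels372 64 Cfsg.Agent.CosetCertFi23FP12.rels373c

theorem rels374 : AllBelow (relsOk cert.rels table) 23936 := AllBelow.step rels373 64 Cfsg.Agent.CosetCertFi23FP12.rels374c

theorem rels375 : AllBelow (relsOk cert.rels table) 24000 := AllBelow.step rels374 64 Cfsg.Agent.CosetCertFi23FP12.rels375c

theorem rels376 : AllBelow (relsOk cert.rels table) 24064 := AllBelow.step rels375 64 Cfsg.Agent.CosetCertFi23FP12.rels376c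

theorem rels377 : AllBelow (relsOk cert.rels table) 24128 := AllBelow.step rels376 64 Cfsg.Agent.CosetCertFi23FP12.rels377c

theorem rels378 : AllBelow (relsOk cert.rels table) 24192 := AllBelow.step rels377 64 Cfsg.Agent.CosetCertFi23FP12.rels378c

theorem rels379 : AllBelow (relsOk cert.rels table) 24256 := AllBelow.step rels378 64 Cfsg.Agent.CosetCertFi23FP12.rels379c

theorem rels380 : AllBelow (relsOk cert.rels table) 24320 := AllBelow.step rels379 64 Cfsg.Agent.CosetCertFi23FP12.rels380c

theorem rels381 : AllBelow (relsOk cert.rels table) 24384 := AllBelow.step rels380 64 Cfsg.Agent.CosetCertFi23FP12.rels381c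

theorem rels382 : AllBelow (relsOk cert.rels table) 24448 := AllBelow.step rels381 64 Cfsg.Agent.CosetCertFi23FP12.rels382c

theorem rels383 : AllBelow (relsOk cert.rels table) 24512 := AllBelow.step rels382 64 Cfsg.Agent.CosetCertFi23FP12.rels383c

theorem rels384 : AllBelow (relsOk cert.rels table) 24576 := AllBelow.step rels383 64 Cfsg.Agent.CosetCertFi23FP12.rels384c

theorem rels385 : AllBelow (relsOk cert.rels table) 24640 := AllBelow.step rels384 64 Cfsg.Agent.CosetCertFi23FP12.rels385c

theorem rels386 : AllBelow (relsOk cert.rels table) 24704 := AllBelow.step rels385 64 Cfsg.Agent.CosetCertFi23FP12.rels386c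

theorem rels387 : AllBelow (relsOk cert.rels table) 24768 := AllBelow.step rels386 64 Cfsg.Agent.CosetCertFi23FP12.rels387c

theorem rels388 : AllBelow (relsOk cert.rels table) 24832 := AllBelow.step rels387 64 Cfsg.Agent.CosetCertFi23FP12.rels388c

theorem rels389 : AllBelow (relsOk cert.rels table) 24896 := AllBelow.step rels388 64 Cfsg.Agent.CosetCertFi23FP12.rels389c

theorem rels390 : AllBelow (relsOk cert.rels table) 24960 := AllBelow.step rels389 64 Cfsg.Agent.CosetCertFi23FP12.rels390c

theorem rels391 : AllBelow (relsOk cert.rels table) 25024 := AllBelow.step rels390 64 Cfsg.Agent.CosetCertFi23FP12.rels391c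

theorem rels392 : AllBelow (relsOk cert.rels table) 25088 := AllBelow.step rels391 64 Cfsg.Agent.CosetCertFi23FP12.rels392c

theorem rels393 : AllBelow (relsOk cert.rels table) 25152 := AllBelow.step rels392 64 Cfsg.Agent.CosetCertFi23FP12.rels393c

theorem rels394 : AllBelow (relsOk cert.rels table) 25216 := AllBelow.step rels393 64 Cfsg.Agent.CosetCertFi23FP12.rels394c

theorem rels395 : AllBelow (relsOk cert.rels table) 25280 := AllBelow.step rels394 64 Cfsg.Agent.CosetCertFi23FP12.rels395c

theorem rels396 : AllBelow (relsOk cert.rels table) 25344 := AllBelow.step rels395 64 Cfsg.Agent.CosetCertFi23FP12.rels396c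

theorem rels397 : AllBelow (relsOk cert.rels table) 25408 := AllBelow.step rels396 64 Cfsg.Agent.CosetCertFi23FP12.rels397c

theorem rels398 : AllBelow (relsOk cert.rels table) 25472 := AllBelow.step rels397 64 Cfsg.Agent.CosetCertFi23FP12.rels398c

theorem rels399 : AllBelow (relsOk cert.rels table) 25536 := AllBelow.step rels398 64 Cfsg.Agent.CosetCertFi23FP12.rels399c

theorem rels400 : AllBelow (relsOk cert.rels table) 25600 := AllBelow.step rels399 64 Cfsg.Agent.CosetCertFi23FP12.rels400c

theorem rels401 : AllBelow (relsOk cert.rels table) 25664 := AllBelow.step rels400 64 Cfsg.Agent.CosetCertFi23FP12.rels401c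

theorem rels402 : AllBelow (relsOk cert.rels table) 25728 := AllBelow.step rels401 64 Cfsg.Agent.CosetCertFi23FP12.rels402c

theorem rels403 : AllBelow (relsOk cert.rels table) 25792 := AllBelow.step rels402 64 Cfsg.Agent.CosetCertFi23FP12.rels403c

theorem rels404 : AllBelow (relsOk cert.rels table) 25856 := AllBelow.step rels403 64 Cfsg.Agent.CosetCertFi23FP13.rels404c

theorem rels405 : AllBelow (relsOk cert.rels table) 25920 := AllBelow.step rels404 64 Cfsg.Agent.CosetCertFi23FP13.rels405c

theorem rels406 : AllBelow (relsOk cert.rels table) 25984 := AllBelow.step rels405 64 Cfsg.Agent.CosetCertFi23FP13.rels406c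

theorem rels407 : AllBelow (relsOk cert.rels table) 26048 := AllBelow.step rels406 64 Cfsg.Agent.CosetCertFi23FP13.rels407c

theorem rels408 : AllBelow (relsOk cert.rels table) 26112 := AllBelow.step rels407 64 Cfsg.Agent.CosetCertFi23FP13.rels408c

theorem rels409 : AllBelow (relsOk cert.rels table) 26176 := AllBelow.step rels408 64 Cfsg.Agent.CosetCertFi23FP13.rels409c

theorem rels410 : AllBelow (relsOk cert.rels table) 26240 := AllBelow.step rels409 64 Cfsg.Agent.CosetCertFi23FP13.rels410c

theorem rels411 : AllBelow (relsOk cert.rels table) 26304 := AllBelow.step rels410 64 Cfsg.Agent.CosetCertFi23FP13.rels411c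

theorem rels412 : AllBelow (relsOk cert.rels table) 26368 := AllBelow.step rels411 64 Cfsg.Agent.CosetCertFi23FP13.rels412c

theorem rels413 : AllBelow (relsOk cert.rels table) 26432 := AllBelow.step rels412 64 Cfsg.Agent.CosetCertFi23FP13.rels413c

theorem rels414 : AllBelow (relsOk cert.rels table) 26496 := AllBelow.step rels413 64 Cfsg.Agent.CosetCertFi23FP13.rels414c

theorem rels415 : AllBelow (relsOk cert.rels table) 26560 := AllBelow.step rels414 64 Cfsg.Agent.CosetCertFi23FP13.rels415c

theorem rels416 : AllBelow (relsOk cert.rels table) 26624 := AllBelow.step rels415 64 Cfsg.Agent.CosetCertFi23FP13.rels416c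

theorem rels417 : AllBelow (relsOk cert.rels table) 26688 := AllBelow.step rels416 64 Cfsg.Agent.CosetCertFi23FP13.rels417c

theorem rels418 : AllBelow (relsOk cert.rels table) 26752 := AllBelow.step rels417 64 Cfsg.Agent.CosetCertFi23FP13.rels418c

theorem rels419 : AllBelow (relsOk cert.rels table) 26816 := AllBelow.step rels418 64 Cfsg.Agent.CosetCertFi23FP13.rels419c

theorem rels420 : AllBelow (relsOk cert.rels table) 26880 := AllBelow.step rels419 64 Cfsg.Agent.CosetCertFi23FP13.rels420c

theorem rels421 : AllBelow (relsOk cert.rels table) 26944 := AllBelow.step rels420 64 Cfsg.Agent.CosetCertFi23FP13.rels421c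

theorem rels422 : AllBelow (relsOk cert.rels table) 27008 := AllBelow.step rels421 64 Cfsg.Agent.CosetCertFi23FP13.rels422c

theorem rels423 : AllBelow (relsOk cert.rels table) 27072 := AllBelow.step rels422 64 Cfsg.Agent.CosetCertFi23FP13.rels423c

theorem rels424 : AllBelow (relsOk cert.rels table) 27136 := AllBelow.step rels423 64 Cfsg.Agent.CosetCertFi23FP13.rels424c

theorem rels425 : AllBelow (relsOk cert.rels table) 27200 := AllBelow.step rels424 64 Cfsg.Agent.CosetCertFi23FP13.rels425c

theorem rels426 : AllBelow (relsOk cert.rels table) 27264 := AllBelow.step rels425 64 Cfsg.Agent.CosetCertFi23FP13.rels426c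

theorem rels427 : AllBelow (relsOk cert.rels table) 27328 := AllBelow.step rels426 64 Cfsg.Agent.CosetCertFi23FP13.rels427c

theorem rels428 : AllBelow (relsOk cert.rels table) 27392 := AllBelow.step rels427 64 Cfsg.Agent.CosetCertFi23FP13.rels428c

theorem rels429 : AllBelow (relsOk cert.rels table) 27456 := AllBelow.step rels428 64 Cfsg.Agent.CosetCertFi23FP13.rels429c

theorem rels430 : AllBelow (relsOk cert.rels table) 27520 := AllBelow.step rels429 64 Cfsg.Agent.CosetCertFi23FP13.rels430c

theorem rels431 : AllBelow (relsOk cert.rels table) 27584 := AllBelow.step rels430 64 Cfsg.Agent.CosetCertFi23FP13.rels431c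

theorem rels432 : AllBelow (relsOk cert.rels table) 27648 := AllBelow.step rels431 64 Cfsg.Agent.CosetCertFi23FP13.rels432c

theorem rels433 : AllBelow (relsOk cert.rels table) 27712 := AllBelow.step rels432 64 Cfsg.Agent.CosetCertFi23FP13.rels433c

theorem rels434 : AllBelow (relsOk cert.rels table) 27776 := AllBelow.step rels433 64 Cfsg.Agent.CosetCertFi23FP13.rels434c

theorem rels435 : AllBelow (relsOk cert.rels table) 27840 := AllBelow.step rels434 64 Cfsg.Agent.CosetCertFi23FP14.rels435c

theorem rels436 : AllBelow (relsOk cert.rels table) 27904 := AllBelow.step rels435 64 Cfsg.Agent.CosetCertFi23FP14.rels436c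

theorem rels437 : AllBelow (relsOk cert.rels table) 27968 := AllBelow.step rels436 64 Cfsg.Agent.CosetCertFi23FP14.rels437c

theorem rels438 : AllBelow (relsOk cert.rels table) 28032 := AllBelow.step rels437 64 Cfsg.Agent.CosetCertFi23FP14.rels438c

theorem rels439 : AllBelow (relsOk cert.rels table) 28096 := AllBelow.step rels438 64 Cfsg.Agent.CosetCertFi23FP14.rels439c

theorem rels440 : AllBelow (relsOk cert.rels table) 28160 := AllBelow.step rels439 64 Cfsg.Agent.CosetCertFi23FP14.rels440c

theorem rels441 : AllBelow (relsOk cert.rels table) 28224 := AllBelow.step rels440 64 Cfsg.Agent.CosetCertFi23FP14.rels441c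

theorem rels442 : AllBelow (relsOk cert.rels table) 28288 := AllBelow.step rels441 64 Cfsg.Agent.CosetCertFi23FP14.rels442c

theorem rels443 : AllBelow (relsOk cert.rels table) 28352 := AllBelow.step rels442 64 Cfsg.Agent.CosetCertFi23FP14.rels443c

theorem rels444 : AllBelow (relsOk cert.rels table) 28416 := AllBelow.step rels443 64 Cfsg.Agent.CosetCertFi23FP14.rels444c

theorem rels445 : AllBelow (relsOk cert.rels table) 28480 := AllBelow.step rels444 64 Cfsg.Agent.CosetCertFi23FP14.rels445c

theorem rels446 : AllBelow (relsOk cert.rels table) 28544 := AllBelow.step rels445 64 Cfsg.Agent.CosetCertFi23FP14.rels446c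

theorem rels447 : AllBelow (relsOk cert.rels table) 28608 := AllBelow.step rels446 64 Cfsg.Agent.CosetCertFi23FP14.rels447c

theorem rels448 : AllBelow (relsOk cert.rels table) 28672 := AllBelow.step rels447 64 Cfsg.Agent.CosetCertFi23FP14.rels448c

theorem rels449 : AllBelow (relsOk cert.rels table) 28736 := AllBelow.step rels448 64 Cfsg.Agent.CosetCertFi23FP14.rels449c

theorem rels450 : AllBelow (relsOk cert.rels table) 28800 := AllBelow.step rels449 64 Cfsg.Agent.CosetCertFi23FP14.rels450c

theorem rels451 : AllBelow (relsOk cert.rels table) 28864 := AllBelow.step rels450 64 Cfsg.Agent.CosetCertFi23FP14.rels451c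

theorem rels452 : AllBelow (relsOk cert.rels table) 28928 := AllBelow.step rels451 64 Cfsg.Agent.CosetCertFi23FP14.rels452c

theorem rels453 : AllBelow (relsOk cert.rels table) 28992 := AllBelow.step rels452 64 Cfsg.Agent.CosetCertFi23FP14.rels453c

theorem rels454 : AllBelow (relsOk cert.rels table) 29056 := AllBelow.step rels453 64 Cfsg.Agent.CosetCertFi23FP14.rels454c

theorem rels455 : AllBelow (relsOk cert.rels table) 29120 := AllBelow.step rels454 64 Cfsg.Agent.CosetCertFi23FP14.rels455c

theorem rels456 : AllBelow (relsOk cert.rels table) 29184 := AllBelow.step rels455 64 Cfsg.Agent.CosetCertFi23FP14.rels456c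

theorem rels457 : AllBelow (relsOk cert.rels table) 29248 := AllBelow.step rels456 64 Cfsg.Agent.CosetCertFi23FP14.rels457c

theorem rels458 : AllBelow (relsOk cert.rels table) 29312 := AllBelow.step rels457 64 Cfsg.Agent.CosetCertFi23FP14.rels458c

theorem rels459 : AllBelow (relsOk cert.rels table) 29376 := AllBelow.step rels458 64 Cfsg.Agent.CosetCertFi23FP14.rels459c

theorem rels460 : AllBelow (relsOk cert.rels table) 29440 := AllBelow.step rels459 64 Cfsg.Agent.CosetCertFi23FP14.rels460c

theorem rels461 : AllBelow (relsOk cert.rels table) 29504 := AllBelow.step rels460 64 Cfsg.Agent.CosetCertFi23FP14.rels461c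

theorem rels462 : AllBelow (relsOk cert.rels table) 29568 := AllBelow.step rels461 64 Cfsg.Agent.CosetCertFi23FP14.rels462c

theorem rels463 : AllBelow (relsOk cert.rels table) 29632 := AllBelow.step rels462 64 Cfsg.Agent.CosetCertFi23FP14.rels463c

theorem rels464 : AllBelow (relsOk cert.rels table) 29696 := AllBelow.step rels463 64 Cfsg.Agent.CosetCertFi23FP14.rels464c

theorem rels465 : AllBelow (relsOk cert.rels table) 29760 := AllBelow.step rels464 64 Cfsg.Agent.CosetCertFi23FP14.rels465c

theorem rels466 : AllBelow (relsOk cert.rels table) 29824 := AllBelow.step rels465 64 Cfsg.Agent.CosetCertFi23FP15.rels466c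

theorem rels467 : AllBelow (relsOk cert.rels table) 29888 := AllBelow.step rels466 64 Cfsg.Agent.CosetCertFi23FP15.rels467c

theorem rels468 : AllBelow (relsOk cert.rels table) 29952 := AllBelow.step rels467 64 Cfsg.Agent.CosetCertFi23FP15.rels468c

theorem rels469 : AllBelow (relsOk cert.rels table) 30016 := AllBelow.step rels468 64 Cfsg.Agent.CosetCertFi23FP15.rels469c

theorem rels470 : AllBelow (relsOk cert.rels table) 30080 := AllBelow.step rels469 64 Cfsg.Agent.CosetCertFi23FP15.rels470c

theorem rels471 : AllBelow (relsOk cert.rels table) 30144 := AllBelow.step rels470 64 Cfsg.Agent.CosetCertFi23FP15.rels471c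

theorem rels472 : AllBelow (relsOk cert.rels table) 30208 := AllBelow.step rels471 64 Cfsg.Agent.CosetCertFi23FP15.rels472c

theorem rels473 : AllBelow (relsOk cert.rels table) 30272 := AllBelow.step rels472 64 Cfsg.Agent.CosetCertFi23FP15.rels473c

theorem rels474 : AllBelow (relsOk cert.rels table) 30336 := AllBelow.step rels473 64 Cfsg.Agent.CosetCertFi23FP15.rels474c

theorem rels475 : AllBelow (relsOk cert.rels table) 30400 := AllBelow.step rels474 64 Cfsg.Agent.CosetCertFi23FP15.rels475c

theorem rels476 : AllBelow (relsOk cert.rels table) 30464 := AllBelow.step rels475 64 Cfsg.Agent.CosetCertFi23FP15.rels476c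

theorem rels477 : AllBelow (relsOk cert.rels table) 30528 := AllBelow.step rels476 64 Cfsg.Agent.CosetCertFi23FP15.rels477c

theorem rels478 : AllBelow (relsOk cert.rels table) 30592 := AllBelow.step rels477 64 Cfsg.Agent.CosetCertFi23FP15.rels478c

theorem rels479 : AllBelow (relsOk cert.rels table) 30656 := AllBelow.step rels478 64 Cfsg.Agent.CosetCertFi23FP15.rels479c

theorem rels480 : AllBelow (relsOk cert.rels table) 30720 := AllBelow.step rels479 64 Cfsg.Agent.CosetCertFi23FP15.rels480c

theorem rels481 : AllBelow (relsOk cert.rels table) 30784 := AllBelow.step rels480 64 Cfsg.Agent.CosetCertFi23FP15.rels481c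

theorem rels482 : AllBelow (relsOk cert.rels table) 30848 := AllBelow.step rels481 64 Cfsg.Agent.CosetCertFi23FP15.rels482c

theorem rels483 : AllBelow (relsOk cert.rels table) 30912 := AllBelow.step rels482 64 Cfsg.Agent.CosetCertFi23FP15.rels483c

theorem rels484 : AllBelow (relsOk cert.rels table) 30976 := AllBelow.step rels483 64 Cfsg.Agent.CosetCertFi23FP15.rels484c

theorem rels485 : AllBelow (relsOk cert.rels table) 31040 := AllBelow.step rels484 64 Cfsg.Agent.CosetCertFi23FP15.rels485c

theorem rels486 : AllBelow (relsOk cert.rels table) 31104 := AllBelow.step rels485 64 Cfsg.Agent.CosetCertFi23FP15.rels486c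

theorem rels487 : AllBelow (relsOk cert.rels table) 31168 := AllBelow.step rels486 64 Cfsg.Agent.CosetCertFi23FP15.rels487c

theorem rels488 : AllBelow (relsOk cert.rels table) 31232 := AllBelow.step rels487 64 Cfsg.Agent.CosetCertFi23FP15.rels488c

theorem rels489 : AllBelow (relsOk cert.rels table) 31296 := AllBelow.step rels488 64 Cfsg.Agent.CosetCertFi23FP15.rels489c

theorem rels490 : AllBelow (relsOk cert.rels table) 31360 := AllBelow.step rels489 64 Cfsg.Agent.CosetCertFi23FP15.rels490c

theorem rels491 : AllBelow (relsOk cert.rels table) 31424 := AllBelow.step rels490 64 Cfsg.Agent.CosetCertFi23FP15.rels491c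

theorem rels492 : AllBelow (relsOk cert.rels table) 31488 := AllBelow.step rels491 64 Cfsg.Agent.CosetCertFi23FP15.rels492c

theorem rels493 : AllBelow (relsOk cert.rels table) 31552 := AllBelow.step rels492 64 Cfsg.Agent.CosetCertFi23FP15.rels493c

theorem rels494 : AllBelow (relsOk cert.rels table) 31616 := AllBelow.step rels493 64 Cfsg.Agent.CosetCertFi23FP15.rels494c

theorem rels495 : AllBelow (relsOk cert.rels table) 31671 := AllBelow.step rels494 55 Cfsg.Agent.CosetCertFi23FP15.rels495c

theorem orb0 : AllBelow (orbOk orbTbl roots cert.sgens table) 0 := AllBelow.zero _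

theorem orb1 : AllBelow (orbOk orbTbl roots cert.sgens table) 64 := AllBelow.step orb0 64 Cfsg.Agent.CosetCertFi23FP0.orb1c

theorem orb2 : AllBelow (orbOk orbTbl roots cert.sgens table) 128 := AllBelow.step orb1 64 Cfsg.Agent.CosetCertFi23FP0.orb2c

theorem orb3 : AllBelow (orbOk orbTbl roots cert.sgens table) 192 := AllBelow.step orb2 64 Cfsg.Agent.CosetCertFi23FP0.orb3c

theorem orb4 : AllBelow (orbOk orbTbl roots cert.sgens table) 256 := AllBelow.step orb3 64 Cfsg.Agent.CosetCertFi23FP0.orb4c

theorem orb5 : AllBelow (orbOk orbTbl roots cert.sgens table) 320 := AllBelow.step orb4 64 Cfsg.Agent.CosetCertFi23FP0.orb5c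

theorem orb6 : AllBelow (orbOk orbTbl roots cert.sgens table) 384 := AllBelow.step orb5 64 Cfsg.Agent.CosetCertFi23FP0.orb6c

theorem orb7 : AllBelow (orbOk orbTbl roots cert.sgens table) 448 := AllBelow.step orb6 64 Cfsg.Agent.CosetCertFi23FP0.orb7c

theorem orb8 : AllBelow (orbOk orbTbl roots cert.sgens table) 512 := AllBelow.step orb7 64 Cfsg.Agent.CosetCertFi23FP0.orb8c

theorem orb9 : AllBelow (orbOk orbTbl roots cert.sgens table) 576 := AllBelow.step orb8 64 Cfsg.Agent.CosetCertFi23FP0.orb9c

theorem orb10 : AllBelow (orbOk orbTbl roots cert.sgens table) 640 := AllBelow.step orb9 64 Cfsg.Agent.CosetCertFi23FP0.orb10c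

theorem orb11 : AllBelow (orbOk orbTbl roots cert.sgens table) 704 := AllBelow.step orb10 64 Cfsg.Agent.CosetCertFi23FP0.orb11c

theorem orb12 : AllBelow (orbOk orbTbl roots cert.sgens table) 768 := AllBelow.step orb11 64 Cfsg.Agent.CosetCertFi23FP0.orb12c

theorem orb13 : AllBelow (orbOk orbTbl roots cert.sgens table) 832 := AllBelow.step orb12 64 Cfsg.Agent.CosetCertFi23FP0.orb13c

theorem orb14 : AllBelow (orbOk orbTbl roots cert.sgens table) 896 := AllBelow.step orb13 64 Cfsg.Agent.CosetCertFi23FP0.orb14c

theorem orb15 : AllBelow (orbOk orbTbl roots cert.sgens table) 960 := AllBelow.step orb14 64 Cfsg.Agent.CosetCertFi23FP0.orb15c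

theorem orb16 : AllBelow (orbOk orbTbl roots cert.sgens table) 1024 := AllBelow.step orb15 64 Cfsg.Agent.CosetCertFi23FP0.orb16c

theorem orb17 : AllBelow (orbOk orbTbl roots cert.sgens table) 1088 := AllBelow.step orb16 64 Cfsg.Agent.CosetCertFi23FP0.orb17c

theorem orb18 : AllBelow (orbOk orbTbl roots cert.sgens table) 1152 := AllBelow.step orb17 64 Cfsg.Agent.CosetCertFi23FP0.orb18c

theorem orb19 : AllBelow (orbOk orbTbl roots cert.sgens table) 1216 := AllBelow.step orb18 64 Cfsg.Agent.CosetCertFi23FP0.orb19c

theorem orb20 : AllBelow (orbOk orbTbl roots cert.sgens table) 1280 := AllBelow.step orb19 64 Cfsg.Agent.CosetCertFi23FP0.orb20c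

theorem orb21 : AllBelow (orbOk orbTbl roots cert.sgens table) 1344 := AllBelow.step orb20 64 Cfsg.Agent.CosetCertFi23FP0.orb21c

theorem orb22 : AllBelow (orbOk orbTbl roots cert.sgens table) 1408 := AllBelow.step orb21 64 Cfsg.Agent.CosetCertFi23FP0.orb22c

theorem orb23 : AllBelow (orbOk orbTbl roots cert.sgens table) 1472 := AllBelow.step orb22 64 Cfsg.Agent.CosetCertFi23FP0.orb23c

theorem orb24 : AllBelow (orbOk orbTbl roots cert.sgens table) 1536 := AllBelow.step orb23 64 Cfsg.Agent.CosetCertFi23FP0.orb24c

theorem orb25 : AllBelow (orbOk orbTbl roots cert.sgens table) 1600 := AllBelow.step orb24 64 Cfsg.Agent.CosetCertFi23FP0.orb25c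

theorem orb26 : AllBelow (orbOk orbTbl roots cert.sgens table) 1664 := AllBelow.step orb25 64 Cfsg.Agent.CosetCertFi23FP0.orb26c

theorem orb27 : AllBelow (orbOk orbTbl roots cert.sgens table) 1728 := AllBelow.step orb26 64 Cfsg.Agent.CosetCertFi23FP0.orb27c

theorem orb28 : AllBelow (orbOk orbTbl roots cert.sgens table) 1792 := AllBelow.step orb27 64 Cfsg.Agent.CosetCertFi23FP0.orb28c

theorem orb29 : AllBelow (orbOk orbTbl roots cert.sgens table) 1856 := AllBelow.step orb28 64 Cfsg.Agent.CosetCertFi23FP0.orb29c

theorem orb30 : AllBelow (orbOk orbTbl roots cert.sgens table) 1920 := AllBelow.step orb29 64 Cfsg.Agent.CosetCertFi23FP0.orb30c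

theorem orb31 : AllBelow (orbOk orbTbl roots cert.sgens table) 1984 := AllBelow.step orb30 64 Cfsg.Agent.CosetCertFi23FP0.orb31c

theorem orb32 : AllBelow (orbOk orbTbl roots cert.sgens table) 2048 := AllBelow.step orb31 64 Cfsg.Agent.CosetCertFi23FP1.orb32c

theorem orb33 : AllBelow (orbOk orbTbl roots cert.sgens table) 2112 := AllBelow.step orb32 64 Cfsg.Agent.CosetCertFi23FP1.orb33c

theorem orb34 : AllBelow (orbOk orbTbl roots cert.sgens table) 2176 := AllBelow.step orb33 64 Cfsg.Agent.CosetCertFi23FP1.orb34c

theorem orb35 : AllBelow (orbOk orbTbl roots cert.sgens table) 2240 := AllBelow.step orb34 64 Cfsg.Agent.CosetCertFi23FP1.orb35c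

theorem orb36 : AllBelow (orbOk orbTbl roots cert.sgens table) 2304 := AllBelow.step orb35 64 Cfsg.Agent.CosetCertFi23FP1.orb36c

theorem orb37 : AllBelow (orbOk orbTbl roots cert.sgens table) 2368 := AllBelow.step orb36 64 Cfsg.Agent.CosetCertFi23FP1.orb37c

theorem orb38 : AllBelow (orbOk orbTbl roots cert.sgens table) 2432 := AllBelow.step orb37 64 Cfsg.Agent.CosetCertFi23FP1.orb38c

theorem orb39 : AllBelow (orbOk orbTbl roots cert.sgens table) 2496 := AllBelow.step orb38 64 Cfsg.Agent.CosetCertFi23FP1.orb39c

theorem orb40 : AllBelow (orbOk orbTbl roots cert.sgens table) 2560 := AllBelow.step orb39 64 Cfsg.Agent.CosetCertFi23FP1.orb40c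

theorem orb41 : AllBelow (orbOk orbTbl roots cert.sgens table) 2624 := AllBelow.step orb40 64 Cfsg.Agent.CosetCertFi23FP1.orb41c

theorem orb42 : AllBelow (orbOk orbTbl roots cert.sgens table) 2688 := AllBelow.step orb41 64 Cfsg.Agent.CosetCertFi23FP1.orb42c

theorem orb43 : AllBelow (orbOk orbTbl roots cert.sgens table) 2752 := AllBelow.step orb42 64 Cfsg.Agent.CosetCertFi23FP1.orb43c

theorem orb44 : AllBelow (orbOk orbTbl roots cert.sgens table) 2816 := AllBelow.step orb43 64 Cfsg.Agent.CosetCertFi23FP1.orb44c

theorem orb45 : AllBelow (orbOk orbTbl roots cert.sgens table) 2880 := AllBelow.step orb44 64 Cfsg.Agent.CosetCertFi23FP1.orb45c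

theorem orb46 : AllBelow (orbOk orbTbl roots cert.sgens table) 2944 := AllBelow.step orb45 64 Cfsg.Agent.CosetCertFi23FP1.orb46c

theorem orb47 : AllBelow (orbOk orbTbl roots cert.sgens table) 3008 := AllBelow.step orb46 64 Cfsg.Agent.CosetCertFi23FP1.orb47c

theorem orb48 : AllBelow (orbOk orbTbl roots cert.sgens table) 3072 := AllBelow.step orb47 64 Cfsg.Agent.CosetCertFi23FP1.orb48c

theorem orb49 : AllBelow (orbOk orbTbl roots cert.sgens table) 3136 := AllBelow.step orb48 64 Cfsg.Agent.CosetCertFi23FP1.orb49c

theorem orb50 : AllBelow (orbOk orbTbl roots cert.sgens table) 3200 := AllBelow.step orb49 64 Cfsg.Agent.CosetCertFi23FP1.orb50c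

theorem orb51 : AllBelow (orbOk orbTbl roots cert.sgens table) 3264 := AllBelow.step orb50 64 Cfsg.Agent.CosetCertFi23FP1.orb51c

theorem orb52 : AllBelow (orbOk orbTbl roots cert.sgens table) 3328 := AllBelow.step orb51 64 Cfsg.Agent.CosetCertFi23FP1.orb52c

theorem orb53 : AllBelow (orbOk orbTbl roots cert.sgens table) 3392 := AllBelow.step orb52 64 Cfsg.Agent.CosetCertFi23FP1.orb53c

theorem orb54 : AllBelow (orbOk orbTbl roots cert.sgens table) 3456 := AllBelow.step orb53 64 Cfsg.Agent.CosetCertFi23FP1.orb54c

theorem orb55 : AllBelow (orbOk orbTbl roots cert.sgens table) 3520 := AllBelow.step orb54 64 Cfsg.Agent.CosetCertFi23FP1.orb55c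

theorem orb56 : AllBelow (orbOk orbTbl roots cert.sgens table) 3584 := AllBelow.step orb55 64 Cfsg.Agent.CosetCertFi23FP1.orb56c

theorem orb57 : AllBelow (orbOk orbTbl roots cert.sgens table) 3648 := AllBelow.step orb56 64 Cfsg.Agent.CosetCertFi23FP1.orb57c

theorem orb58 : AllBelow (orbOk orbTbl roots cert.sgens table) 3712 := AllBelow.step orb57 64 Cfsg.Agent.CosetCertFi23FP1.orb58c

theorem orb59 : AllBelow (orbOk orbTbl roots cert.sgens table) 3776 := AllBelow.step orb58 64 Cfsg.Agent.CosetCertFi23FP1.orb59c

theorem orb60 : AllBelow (orbOk orbTbl roots cert.sgens table) 3840 := AllBelow.step orb59 64 Cfsg.Agent.CosetCertFi23FP1.orb60c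

theorem orb61 : AllBelow (orbOk orbTbl roots cert.sgens table) 3904 := AllBelow.step orb60 64 Cfsg.Agent.CosetCertFi23FP1.orb61c

theorem orb62 : AllBelow (orbOk orbTbl roots cert.sgens table) 3968 := AllBelow.step orb61 64 Cfsg.Agent.CosetCertFi23FP1.orb62c

theorem orb63 : AllBelow (orbOk orbTbl roots cert.sgens table) 4032 := AllBelow.step orb62 64 Cfsg.Agent.CosetCertFi23FP2.orb63c

theorem orb64 : AllBelow (orbOk orbTbl roots cert.sgens table) 4096 := AllBelow.step orb63 64 Cfsg.Agent.CosetCertFi23FP2.orb64c

theorem orb65 : AllBelow (orbOk orbTbl roots cert.sgens table) 4160 := AllBelow.step orb64 64 Cfsg.Agent.CosetCertFi23FP2.orb65c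

theorem orb66 : AllBelow (orbOk orbTbl roots cert.sgens table) 4224 := AllBelow.step orb65 64 Cfsg.Agent.CosetCertFi23FP2.orb66c

theorem orb67 : AllBelow (orbOk orbTbl roots cert.sgens table) 4288 := AllBelow.step orb66 64 Cfsg.Agent.CosetCertFi23FP2.orb67c

theorem orb68 : AllBelow (orbOk orbTbl roots cert.sgens table) 4352 := AllBelow.step orb67 64 Cfsg.Agent.CosetCertFi23FP2.orb68c

theorem orb69 : AllBelow (orbOk orbTbl roots cert.sgens table) 4416 := AllBelow.step orb68 64 Cfsg.Agent.CosetCertFi23FP2.orb69c

theorem orb70 : AllBelow (orbOk orbTbl roots cert.sgens table) 4480 := AllBelow.step orb69 64 Cfsg.Agent.CosetCertFi23FP2.orb70c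

theorem orb71 : AllBelow (orbOk orbTbl roots cert.sgens table) 4544 := AllBelow.step orb70 64 Cfsg.Agent.CosetCertFi23FP2.orb71c

theorem orb72 : AllBelow (orbOk orbTbl roots cert.sgens table) 4608 := AllBelow.step orb71 64 Cfsg.Agent.CosetCertFi23FP2.orb72c

theorem orb73 : AllBelow (orbOk orbTbl roots cert.sgens table) 4672 := AllBelow.step orb72 64 Cfsg.Agent.CosetCertFi23FP2.orb73c

theorem orb74 : AllBelow (orbOk orbTbl roots cert.sgens table) 4736 := AllBelow.step orb73 64 Cfsg.Agent.CosetCertFi23FP2.orb74c

theorem orb75 : AllBelow (orbOk orbTbl roots cert.sgens table) 4800 := AllBelow.step orb74 64 Cfsg.Agent.CosetCertFi23FP2.orb75c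

theorem orb76 : AllBelow (orbOk orbTbl roots cert.sgens table) 4864 := AllBelow.step orb75 64 Cfsg.Agent.CosetCertFi23FP2.orb76c

theorem orb77 : AllBelow (orbOk orbTbl roots cert.sgens table) 4928 := AllBelow.step orb76 64 Cfsg.Agent.CosetCertFi23FP2.orb77c

theorem orb78 : AllBelow (orbOk orbTbl roots cert.sgens table) 4992 := AllBelow.step orb77 64 Cfsg.Agent.CosetCertFi23FP2.orb78c

theorem orb79 : AllBelow (orbOk orbTbl roots cert.sgens table) 5056 := AllBelow.step orb78 64 Cfsg.Agent.CosetCertFi23FP2.orb79c

theorem orb80 : AllBelow (orbOk orbTbl roots cert.sgens table) 5120 := AllBelow.step orb79 64 Cfsg.Agent.CosetCertFi23FP2.orb80c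

theorem orb81 : AllBelow (orbOk orbTbl roots cert.sgens table) 5184 := AllBelow.step orb80 64 Cfsg.Agent.CosetCertFi23FP2.orb81c

theorem orb82 : AllBelow (orbOk orbTbl roots cert.sgens table) 5248 := AllBelow.step orb81 64 Cfsg.Agent.CosetCertFi23FP2.orb82c

theorem orb83 : AllBelow (orbOk orbTbl roots cert.sgens table) 5312 := AllBelow.step orb82 64 Cfsg.Agent.CosetCertFi23FP2.orb83c

theorem orb84 : AllBelow (orbOk orbTbl roots cert.sgens table) 5376 := AllBelow.step orb83 64 Cfsg.Agent.CosetCertFi23FP2.orb84c

theorem orb85 : AllBelow (orbOk orbTbl roots cert.sgens table) 5440 := AllBelow.step orb84 64 Cfsg.Agent.CosetCertFi23FP2.orb85c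

theorem orb86 : AllBelow (orbOk orbTbl roots cert.sgens table) 5504 := AllBelow.step orb85 64 Cfsg.Agent.CosetCertFi23FP2.orb86c

theorem orb87 : AllBelow (orbOk orbTbl roots cert.sgens table) 5568 := AllBelow.step orb86 64 Cfsg.Agent.CosetCertFi23FP2.orb87c

theorem orb88 : AllBelow (orbOk orbTbl roots cert.sgens table) 5632 := AllBelow.step orb87 64 Cfsg.Agent.CosetCertFi23FP2.orb88c

theorem orb89 : AllBelow (orbOk orbTbl roots cert.sgens table) 5696 := AllBelow.step orb88 64 Cfsg.Agent.CosetCertFi23FP2.orb89c

theorem orb90 : AllBelow (orbOk orbTbl roots cert.sgens table) 5760 := AllBelow.step orb89 64 Cfsg.Agent.CosetCertFi23FP2.orb90c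

theorem orb91 : AllBelow (orbOk orbTbl roots cert.sgens table) 5824 := AllBelow.step orb90 64 Cfsg.Agent.CosetCertFi23FP2.orb91c

theorem orb92 : AllBelow (orbOk orbTbl roots cert.sgens table) 5888 := AllBelow.step orb91 64 Cfsg.Agent.CosetCertFi23FP2.orb92c

theorem orb93 : AllBelow (orbOk orbTbl roots cert.sgens table) 5952 := AllBelow.step orb92 64 Cfsg.Agent.CosetCertFi23FP2.orb93c

theorem orb94 : AllBelow (orbOk orbTbl roots cert.sgens table) 6016 := AllBelow.step orb93 64 Cfsg.Agent.CosetCertFi23FP3.orb94c

theorem orb95 : AllBelow (orbOk orbTbl roots cert.sgens table) 6080 := AllBelow.step orb94 64 Cfsg.Agent.CosetCertFi23FP3.orb95c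

theorem orb96 : AllBelow (orbOk orbTbl roots cert.sgens table) 6144 := AllBelow.step orb95 64 Cfsg.Agent.CosetCertFi23FP3.orb96c

theorem orb97 : AllBelow (orbOk orbTbl roots cert.sgens table) 6208 := AllBelow.step orb96 64 Cfsg.Agent.CosetCertFi23FP3.orb97c

theorem orb98 : AllBelow (orbOk orbTbl roots cert.sgens table) 6272 := AllBelow.step orb97 64 Cfsg.Agent.CosetCertFi23FP3.orb98c

theorem orb99 : AllBelow (orbOk orbTbl roots cert.sgens table) 6336 := AllBelow.step orb98 64 Cfsg.Agent.CosetCertFi23FP3.orb99c

theorem orb100 : AllBelow (orbOk orbTbl roots cert.sgens table) 6400 := AllBelow.step orb99 64 Cfsg.Agent.CosetCertFi23FP3.orb100c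

theorem orb101 : AllBelow (orbOk orbTbl roots cert.sgens table) 6464 := AllBelow.step orb100 64 Cfsg.Agent.CosetCertFi23FP3.orb101c

theorem orb102 : AllBelow (orbOk orbTbl roots cert.sgens table) 6528 := AllBelow.step orb101 64 Cfsg.Agent.CosetCertFi23FP3.orb102c

theorem orb103 : AllBelow (orbOk orbTbl roots cert.sgens table) 6592 := AllBelow.step orb102 64 Cfsg.Agent.CosetCertFi23FP3.orb103c

theorem orb104 : AllBelow (orbOk orbTbl roots cert.sgens table) 6656 := AllBelow.step orb103 64 Cfsg.Agent.CosetCertFi23FP3.orb104c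

theorem orb105 : AllBelow (orbOk orbTbl roots cert.sgens table) 6720 := AllBelow.step orb104 64 Cfsg.Agent.CosetCertFi23FP3.orb105c

theorem orb106 : AllBelow (orbOk orbTbl roots cert.sgens table) 6784 := AllBelow.step orb105 64 Cfsg.Agent.CosetCertFi23FP3.orb106c

theorem orb107 : AllBelow (orbOk orbTbl roots cert.sgens table) 6848 := AllBelow.step orb106 64 Cfsg.Agent.CosetCertFi23FP3.orb107c

theorem orb108 : AllBelow (orbOk orbTbl roots cert.sgens table) 6912 := AllBelow.step orb107 64 Cfsg.Agent.CosetCertFi23FP3.orb108c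

theorem orb109 : AllBelow (orbOk orbTbl roots cert.sgens table) 6976 := AllBelow.step orb108 64 Cfsg.Agent.CosetCertFi23FP3.orb109c

theorem orb110 : AllBelow (orbOk orbTbl roots cert.sgens table) 7040 := AllBelow.step orb109 64 Cfsg.Agent.CosetCertFi23FP3.orb110c

theorem orb111 : AllBelow (orbOk orbTbl roots cert.sgens table) 7104 := AllBelow.step orb110 64 Cfsg.Agent.CosetCertFi23FP3.orb111c

theorem orb112 : AllBelow (orbOk orbTbl roots cert.sgens table) 7168 := AllBelow.step orb111 64 Cfsg.Agent.CosetCertFi23FP3.orb112c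

theorem orb113 : AllBelow (orbOk orbTbl roots cert.sgens table) 7232 := AllBelow.step orb112 64 Cfsg.Agent.CosetCertFi23FP3.orb113c

theorem orb114 : AllBelow (orbOk orbTbl roots cert.sgens table) 7296 := AllBelow.step orb113 64 Cfsg.Agent.CosetCertFi23FP3.orb114c

theorem orb115 : AllBelow (orbOk orbTbl roots cert.sgens table) 7360 := AllBelow.step orb114 64 Cfsg.Agent.CosetCertFi23FP3.orb115c

theorem orb116 : AllBelow (orbOk orbTbl roots cert.sgens table) 7424 := AllBelow.step orb115 64 Cfsg.Agent.CosetCertFi23FP3.orb116c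

theorem orb117 : AllBelow (orbOk orbTbl roots cert.sgens table) 7488 := AllBelow.step orb116 64 Cfsg.Agent.CosetCertFi23FP3.orb117c

theorem orb118 : AllBelow (orbOk orbTbl roots cert.sgens table) 7552 := AllBelow.step orb117 64 Cfsg.Agent.CosetCertFi23FP3.orb118c

theorem orb119 : AllBelow (orbOk orbTbl roots cert.sgens table) 7616 := AllBelow.step orb118 64 Cfsg.Agent.CosetCertFi23FP3.orb119c

theorem orb120 : AllBelow (orbOk orbTbl roots cert.sgens table) 7680 := AllBelow.step orb119 64 Cfsg.Agent.CosetCertFi23FP3.orb120c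

theorem orb121 : AllBelow (orbOk orbTbl roots cert.sgens table) 7744 := AllBelow.step orb120 64 Cfsg.Agent.CosetCertFi23FP3.orb121c

theorem orb122 : AllBelow (orbOk orbTbl roots cert.sgens table) 7808 := AllBelow.step orb121 64 Cfsg.Agent.CosetCertFi23FP3.orb122c

theorem orb123 : AllBelow (orbOk orbTbl roots cert.sgens table) 7872 := AllBelow.step orb122 64 Cfsg.Agent.CosetCertFi23FP3.orb123c

theorem orb124 : AllBelow (orbOk orbTbl roots cert.sgens table) 7936 := AllBelow.step orb123 64 Cfsg.Agent.CosetCertFi23FP3.orb124c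

theorem orb125 : AllBelow (orbOk orbTbl roots cert.sgens table) 8000 := AllBelow.step orb124 64 Cfsg.Agent.CosetCertFi23FP4.orb125c

theorem orb126 : AllBelow (orbOk orbTbl roots cert.sgens table) 8064 := AllBelow.step orb125 64 Cfsg.Agent.CosetCertFi23FP4.orb126c

theorem orb127 : AllBelow (orbOk orbTbl roots cert.sgens table) 8128 := AllBelow.step orb126 64 Cfsg.Agent.CosetCertFi23FP4.orb127c

theorem orb128 : AllBelow (orbOk orbTbl roots cert.sgens table) 8192 := AllBelow.step orb127 64 Cfsg.Agent.CosetCertFi23FP4.orb128c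

theorem orb129 : AllBelow (orbOk orbTbl roots cert.sgens table) 8256 := AllBelow.step orb128 64 Cfsg.Agent.CosetCertFi23FP4.orb129c

theorem orb130 : AllBelow (orbOk orbTbl roots cert.sgens table) 8320 := AllBelow.step orb129 64 Cfsg.Agent.CosetCertFi23FP4.orb130c

theorem orb131 : AllBelow (orbOk orbTbl roots cert.sgens table) 8384 := AllBelow.step orb130 64 Cfsg.Agent.CosetCertFi23FP4.orb131c

theorem orb132 : AllBelow (orbOk orbTbl roots cert.sgens table) 8448 := AllBelow.step orb131 64 Cfsg.Agent.CosetCertFi23FP4.orb132c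

theorem orb133 : AllBelow (orbOk orbTbl roots cert.sgens table) 8512 := AllBelow.step orb132 64 Cfsg.Agent.CosetCertFi23FP4.orb133c

theorem orb134 : AllBelow (orbOk orbTbl roots cert.sgens table) 8576 := AllBelow.step orb133 64 Cfsg.Agent.CosetCertFi23FP4.orb134c

theorem orb135 : AllBelow (orbOk orbTbl roots cert.sgens table) 8640 := AllBelow.step orb134 64 Cfsg.Agent.CosetCertFi23FP4.orb135c

theorem orb136 : AllBelow (orbOk orbTbl roots cert.sgens table) 8704 := AllBelow.step orb135 64 Cfsg.Agent.CosetCertFi23FP4.orb136c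

theorem orb137 : AllBelow (orbOk orbTbl roots cert.sgens table) 8768 := AllBelow.step orb136 64 Cfsg.Agent.CosetCertFi23FP4.orb137c

theorem orb138 : AllBelow (orbOk orbTbl roots cert.sgens table) 8832 := AllBelow.step orb137 64 Cfsg.Agent.CosetCertFi23FP4.orb138c

theorem orb139 : AllBelow (orbOk orbTbl roots cert.sgens table) 8896 := AllBelow.step orb138 64 Cfsg.Agent.CosetCertFi23FP4.orb139c

theorem orb140 : AllBelow (orbOk orbTbl roots cert.sgens table) 8960 := AllBelow.step orb139 64 Cfsg.Agent.CosetCertFi23FP4.orb140c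

theorem orb141 : AllBelow (orbOk orbTbl roots cert.sgens table) 9024 := AllBelow.step orb140 64 Cfsg.Agent.CosetCertFi23FP4.orb141c

theorem orb142 : AllBelow (orbOk orbTbl roots cert.sgens table) 9088 := AllBelow.step orb141 64 Cfsg.Agent.CosetCertFi23FP4.orb142c

theorem orb143 : AllBelow (orbOk orbTbl roots cert.sgens table) 9152 := AllBelow.step orb142 64 Cfsg.Agent.CosetCertFi23FP4.orb143c

theorem orb144 : AllBelow (orbOk orbTbl roots cert.sgens table) 9216 := AllBelow.step orb143 64 Cfsg.Agent.CosetCertFi23FP4.orb144c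

theorem orb145 : AllBelow (orbOk orbTbl roots cert.sgens table) 9280 := AllBelow.step orb144 64 Cfsg.Agent.CosetCertFi23FP4.orb145c

theorem orb146 : AllBelow (orbOk orbTbl roots cert.sgens table) 9344 := AllBelow.step orb145 64 Cfsg.Agent.CosetCertFi23FP4.orb146c

theorem orb147 : AllBelow (orbOk orbTbl roots cert.sgens table) 9408 := AllBelow.step orb146 64 Cfsg.Agent.CosetCertFi23FP4.orb147c

theorem orb148 : AllBelow (orbOk orbTbl roots cert.sgens table) 9472 := AllBelow.step orb147 64 Cfsg.Agent.CosetCertFi23FP4.orb148c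

theorem orb149 : AllBelow (orbOk orbTbl roots cert.sgens table) 9536 := AllBelow.step orb148 64 Cfsg.Agent.CosetCertFi23FP4.orb149c

theorem orb150 : AllBelow (orbOk orbTbl roots cert.sgens table) 9600 := AllBelow.step orb149 64 Cfsg.Agent.CosetCertFi23FP4.orb150c

theorem orb151 : AllBelow (orbOk orbTbl roots cert.sgens table) 9664 := AllBelow.step orb150 64 Cfsg.Agent.CosetCertFi23FP4.orb151c

theorem orb152 : AllBelow (orbOk orbTbl roots cert.sgens table) 9728 := AllBelow.step orb151 64 Cfsg.Agent.CosetCertFi23FP4.orb152c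

theorem orb153 : AllBelow (orbOk orbTbl roots cert.sgens table) 9792 := AllBelow.step orb152 64 Cfsg.Agent.CosetCertFi23FP4.orb153c

theorem orb154 : AllBelow (orbOk orbTbl roots cert.sgens table) 9856 := AllBelow.step orb153 64 Cfsg.Agent.CosetCertFi23FP4.orb154c

theorem orb155 : AllBelow (orbOk orbTbl roots cert.sgens table) 9920 := AllBelow.step orb154 64 Cfsg.Agent.CosetCertFi23FP4.orb155c

theorem orb156 : AllBelow (orbOk orbTbl roots cert.sgens table) 9984 := AllBelow.step orb155 64 Cfsg.Agent.CosetCertFi23FP5.orb156c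

theorem orb157 : AllBelow (orbOk orbTbl roots cert.sgens table) 10048 := AllBelow.step orb156 64 Cfsg.Agent.CosetCertFi23FP5.orb157c

theorem orb158 : AllBelow (orbOk orbTbl roots cert.sgens table) 10112 := AllBelow.step orb157 64 Cfsg.Agent.CosetCertFi23FP5.orb158c

theorem orb159 : AllBelow (orbOk orbTbl roots cert.sgens table) 10176 := AllBelow.step orb158 64 Cfsg.Agent.CosetCertFi23FP5.orb159c

theorem orb160 : AllBelow (orbOk orbTbl roots cert.sgens table) 10240 := AllBelow.step orb159 64 Cfsg.Agent.CosetCertFi23FP5.orb160c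

theorem orb161 : AllBelow (orbOk orbTbl roots cert.sgens table) 10304 := AllBelow.step orb160 64 Cfsg.Agent.CosetCertFi23FP5.orb161c

theorem orb162 : AllBelow (orbOk orbTbl roots cert.sgens table) 10368 := AllBelow.step orb161 64 Cfsg.Agent.CosetCertFi23FP5.orb162c

theorem orb163 : AllBelow (orbOk orbTbl roots cert.sgens table) 10432 := AllBelow.step orb162 64 Cfsg.Agent.CosetCertFi23FP5.orb163c

theorem orb164 : AllBelow (orbOk orbTbl roots cert.sgens table) 10496 := AllBelow.step orb163 64 Cfsg.Agent.CosetCertFi23FP5.orb164c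

theorem orb165 : AllBelow (orbOk orbTbl roots cert.sgens table) 10560 := AllBelow.step orb164 64 Cfsg.Agent.CosetCertFi23FP5.orb165c

theorem orb166 : AllBelow (orbOk orbTbl roots cert.sgens table) 10624 := AllBelow.step orb165 64 Cfsg.Agent.CosetCertFi23FP5.orb166c

theorem orb167 : AllBelow (orbOk orbTbl roots cert.sgens table) 10688 := AllBelow.step orb166 64 Cfsg.Agent.CosetCertFi23FP5.orb167c

theorem orb168 : AllBelow (orbOk orbTbl roots cert.sgens table) 10752 := AllBelow.step orb167 64 Cfsg.Agent.CosetCertFi23FP5.orb168c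

theorem orb169 : AllBelow (orbOk orbTbl roots cert.sgens table) 10816 := AllBelow.step orb168 64 Cfsg.Agent.CosetCertFi23FP5.orb169c

theorem orb170 : AllBelow (orbOk orbTbl roots cert.sgens table) 10880 := AllBelow.step orb169 64 Cfsg.Agent.CosetCertFi23FP5.orb170c

theorem orb171 : AllBelow (orbOk orbTbl roots cert.sgens table) 10944 := AllBelow.step orb170 64 Cfsg.Agent.CosetCertFi23FP5.orb171c

theorem orb172 : AllBelow (orbOk orbTbl roots cert.sgens table) 11008 := AllBelow.step orb171 64 Cfsg.Agent.CosetCertFi23FP5.orb172c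

theorem orb173 : AllBelow (orbOk orbTbl roots cert.sgens table) 11072 := AllBelow.step orb172 64 Cfsg.Agent.CosetCertFi23FP5.orb173c

theorem orb174 : AllBelow (orbOk orbTbl roots cert.sgens table) 11136 := AllBelow.step orb173 64 Cfsg.Agent.CosetCertFi23FP5.orb174c

theorem orb175 : AllBelow (orbOk orbTbl roots cert.sgens table) 11200 := AllBelow.step orb174 64 Cfsg.Agent.CosetCertFi23FP5.orb175c

theorem orb176 : AllBelow (orbOk orbTbl roots cert.sgens table) 11264 := AllBelow.step orb175 64 Cfsg.Agent.CosetCertFi23FP5.orb176c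

theorem orb177 : AllBelow (orbOk orbTbl roots cert.sgens table) 11328 := AllBelow.step orb176 64 Cfsg.Agent.CosetCertFi23FP5.orb177c

theorem orb178 : AllBelow (orbOk orbTbl roots cert.sgens table) 11392 := AllBelow.step orb177 64 Cfsg.Agent.CosetCertFi23FP5.orb178c

theorem orb179 : AllBelow (orbOk orbTbl roots cert.sgens table) 11456 := AllBelow.step orb178 64 Cfsg.Agent.CosetCertFi23FP5.orb179c

theorem orb180 : AllBelow (orbOk orbTbl roots cert.sgens table) 11520 := AllBelow.step orb179 64 Cfsg.Agent.CosetCertFi23FP5.orb180c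

theorem orb181 : AllBelow (orbOk orbTbl roots cert.sgens table) 11584 := AllBelow.step orb180 64 Cfsg.Agent.CosetCertFi23FP5.orb181c

theorem orb182 : AllBelow (orbOk orbTbl roots cert.sgens table) 11648 := AllBelow.step orb181 64 Cfsg.Agent.CosetCertFi23FP5.orb182c

theorem orb183 : AllBelow (orbOk orbTbl roots cert.sgens table) 11712 := AllBelow.step orb182 64 Cfsg.Agent.CosetCertFi23FP5.orb183c

theorem orb184 : AllBelow (orbOk orbTbl roots cert.sgens table) 11776 := AllBelow.step orb183 64 Cfsg.Agent.CosetCertFi23FP5.orb184c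

theorem orb185 : AllBelow (orbOk orbTbl roots cert.sgens table) 11840 := AllBelow.step orb184 64 Cfsg.Agent.CosetCertFi23FP5.orb185c

theorem orb186 : AllBelow (orbOk orbTbl roots cert.sgens table) 11904 := AllBelow.step orb185 64 Cfsg.Agent.CosetCertFi23FP5.orb186c

theorem orb187 : AllBelow (orbOk orbTbl roots cert.sgens table) 11968 := AllBelow.step orb186 64 Cfsg.Agent.CosetCertFi23FP6.orb187c

theorem orb188 : AllBelow (orbOk orbTbl roots cert.sgens table) 12032 := AllBelow.step orb187 64 Cfsg.Agent.CosetCertFi23FP6.orb188c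

theorem orb189 : AllBelow (orbOk orbTbl roots cert.sgens table) 12096 := AllBelow.step orb188 64 Cfsg.Agent.CosetCertFi23FP6.orb189c

theorem orb190 : AllBelow (orbOk orbTbl roots cert.sgens table) 12160 := AllBelow.step orb189 64 Cfsg.Agent.CosetCertFi23FP6.orb190c

theorem orb191 : AllBelow (orbOk orbTbl roots cert.sgens table) 12224 := AllBelow.step orb190 64 Cfsg.Agent.CosetCertFi23FP6.orb191c

theorem orb192 : AllBelow (orbOk orbTbl roots cert.sgens table) 12288 := AllBelow.step orb191 64 Cfsg.Agent.CosetCertFi23FP6.orb192c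

theorem orb193 : AllBelow (orbOk orbTbl roots cert.sgens table) 12352 := AllBelow.step orb192 64 Cfsg.Agent.CosetCertFi23FP6.orb193c

theorem orb194 : AllBelow (orbOk orbTbl roots cert.sgens table) 12416 := AllBelow.step orb193 64 Cfsg.Agent.CosetCertFi23FP6.orb194c

theorem orb195 : AllBelow (orbOk orbTbl roots cert.sgens table) 12480 := AllBelow.step orb194 64 Cfsg.Agent.CosetCertFi23FP6.orb195c

theorem orb196 : AllBelow (orbOk orbTbl roots cert.sgens table) 12544 := AllBelow.step orb195 64 Cfsg.Agent.CosetCertFi23FP6.orb196c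

theorem orb197 : AllBelow (orbOk orbTbl roots cert.sgens table) 12608 := AllBelow.step orb196 64 Cfsg.Agent.CosetCertFi23FP6.orb197c

theorem orb198 : AllBelow (orbOk orbTbl roots cert.sgens table) 12672 := AllBelow.step orb197 64 Cfsg.Agent.CosetCertFi23FP6.orb198c

theorem orb199 : AllBelow (orbOk orbTbl roots cert.sgens table) 12736 := AllBelow.step orb198 64 Cfsg.Agent.CosetCertFi23FP6.orb199c

theorem orb200 : AllBelow (orbOk orbTbl roots cert.sgens table) 12800 := AllBelow.step orb199 64 Cfsg.Agent.CosetCertFi23FP6.orb200c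

theorem orb201 : AllBelow (orbOk orbTbl roots cert.sgens table) 12864 := AllBelow.step orb200 64 Cfsg.Agent.CosetCertFi23FP6.orb201c

theorem orb202 : AllBelow (orbOk orbTbl roots cert.sgens table) 12928 := AllBelow.step orb201 64 Cfsg.Agent.CosetCertFi23FP6.orb202c

theorem orb203 : AllBelow (orbOk orbTbl roots cert.sgens table) 12992 := AllBelow.step orb202 64 Cfsg.Agent.CosetCertFi23FP6.orb203c

theorem orb204 : AllBelow (orbOk orbTbl roots cert.sgens table) 13056 := AllBelow.step orb203 64 Cfsg.Agent.CosetCertFi23FP6.orb204c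

theorem orb205 : AllBelow (orbOk orbTbl roots cert.sgens table) 13120 := AllBelow.step orb204 64 Cfsg.Agent.CosetCertFi23FP6.orb205c

theorem orb206 : AllBelow (orbOk orbTbl roots cert.sgens table) 13184 := AllBelow.step orb205 64 Cfsg.Agent.CosetCertFi23FP6.orb206c

theorem orb207 : AllBelow (orbOk orbTbl roots cert.sgens table) 13248 := AllBelow.step orb206 64 Cfsg.Agent.CosetCertFi23FP6.orb207c

theorem orb208 : AllBelow (orbOk orbTbl roots cert.sgens table) 13312 := AllBelow.step orb207 64 Cfsg.Agent.CosetCertFi23FP6.orb208c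

theorem orb209 : AllBelow (orbOk orbTbl roots cert.sgens table) 13376 := AllBelow.step orb208 64 Cfsg.Agent.CosetCertFi23FP6.orb209c

theorem orb210 : AllBelow (orbOk orbTbl roots cert.sgens table) 13440 := AllBelow.step orb209 64 Cfsg.Agent.CosetCertFi23FP6.orb210c

theorem orb211 : AllBelow (orbOk orbTbl roots cert.sgens table) 13504 := AllBelow.step orb210 64 Cfsg.Agent.CosetCertFi23FP6.orb211c

theorem orb212 : AllBelow (orbOk orbTbl roots cert.sgens table) 13568 := AllBelow.step orb211 64 Cfsg.Agent.CosetCertFi23FP6.orb212c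

theorem orb213 : AllBelow (orbOk orbTbl roots cert.sgens table) 13632 := AllBelow.step orb212 64 Cfsg.Agent.CosetCertFi23FP6.orb213c

theorem orb214 : AllBelow (orbOk orbTbl roots cert.sgens table) 13696 := AllBelow.step orb213 64 Cfsg.Agent.CosetCertFi23FP6.orb214c

theorem orb215 : AllBelow (orbOk orbTbl roots cert.sgens table) 13760 := AllBelow.step orb214 64 Cfsg.Agent.CosetCertFi23FP6.orb215c

theorem orb216 : AllBelow (orbOk orbTbl roots cert.sgens table) 13824 := AllBelow.step orb215 64 Cfsg.Agent.CosetCertFi23FP6.orb216c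

theorem orb217 : AllBelow (orbOk orbTbl roots cert.sgens table) 13888 := AllBelow.step orb216 64 Cfsg.Agent.CosetCertFi23FP6.orb217c

theorem orb218 : AllBelow (orbOk orbTbl roots cert.sgens table) 13952 := AllBelow.step orb217 64 Cfsg.Agent.CosetCertFi23FP7.orb218c

theorem orb219 : AllBelow (orbOk orbTbl roots cert.sgens table) 14016 := AllBelow.step orb218 64 Cfsg.Agent.CosetCertFi23FP7.orb219c

theorem orb220 : AllBelow (orbOk orbTbl roots cert.sgens table) 14080 := AllBelow.step orb219 64 Cfsg.Agent.CosetCertFi23FP7.orb220c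

theorem orb221 : AllBelow (orbOk orbTbl roots cert.sgens table) 14144 := AllBelow.step orb220 64 Cfsg.Agent.CosetCertFi23FP7.orb221c

theorem orb222 : AllBelow (orbOk orbTbl roots cert.sgens table) 14208 := AllBelow.step orb221 64 Cfsg.Agent.CosetCertFi23FP7.orb222c

theorem orb223 : AllBelow (orbOk orbTbl roots cert.sgens table) 14272 := AllBelow.step orb222 64 Cfsg.Agent.CosetCertFi23FP7.orb223c

theorem orb224 : AllBelow (orbOk orbTbl roots cert.sgens table) 14336 := AllBelow.step orb223 64 Cfsg.Agent.CosetCertFi23FP7.orb224c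

theorem orb225 : AllBelow (orbOk orbTbl roots cert.sgens table) 14400 := AllBelow.step orb224 64 Cfsg.Agent.CosetCertFi23FP7.orb225c

theorem orb226 : AllBelow (orbOk orbTbl roots cert.sgens table) 14464 := AllBelow.step orb225 64 Cfsg.Agent.CosetCertFi23FP7.orb226c

theorem orb227 : AllBelow (orbOk orbTbl roots cert.sgens table) 14528 := AllBelow.step orb226 64 Cfsg.Agent.CosetCertFi23FP7.orb227c

theorem orb228 : AllBelow (orbOk orbTbl roots cert.sgens table) 14592 := AllBelow.step orb227 64 Cfsg.Agent.CosetCertFi23FP7.orb228c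

theorem orb229 : AllBelow (orbOk orbTbl roots cert.sgens table) 14656 := AllBelow.step orb228 64 Cfsg.Agent.CosetCertFi23FP7.orb229c

theorem orb230 : AllBelow (orbOk orbTbl roots cert.sgens table) 14720 := AllBelow.step orb229 64 Cfsg.Agent.CosetCertFi23FP7.orb230c

theorem orb231 : AllBelow (orbOk orbTbl roots cert.sgens table) 14784 := AllBelow.step orb230 64 Cfsg.Agent.CosetCertFi23FP7.orb231c

theorem orb232 : AllBelow (orbOk orbTbl roots cert.sgens table) 14848 := AllBelow.step orb231 64 Cfsg.Agent.CosetCertFi23FP7.orb232c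

theorem orb233 : AllBelow (orbOk orbTbl roots cert.sgens table) 14912 := AllBelow.step orb232 64 Cfsg.Agent.CosetCertFi23FP7.orb233c

theorem orb234 : AllBelow (orbOk orbTbl roots cert.sgens table) 14976 := AllBelow.step orb233 64 Cfsg.Agent.CosetCertFi23FP7.orb234c

theorem orb235 : AllBelow (orbOk orbTbl roots cert.sgens table) 15040 := AllBelow.step orb234 64 Cfsg.Agent.CosetCertFi23FP7.orb235c

theorem orb236 : AllBelow (orbOk orbTbl roots cert.sgens table) 15104 := AllBelow.step orb235 64 Cfsg.Agent.CosetCertFi23FP7.orb236c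

theorem orb237 : AllBelow (orbOk orbTbl roots cert.sgens table) 15168 := AllBelow.step orb236 64 Cfsg.Agent.CosetCertFi23FP7.orb237c

theorem orb238 : AllBelow (orbOk orbTbl roots cert.sgens table) 15232 := AllBelow.step orb237 64 Cfsg.Agent.CosetCertFi23FP7.orb238c

theorem orb239 : AllBelow (orbOk orbTbl roots cert.sgens table) 15296 := AllBelow.step orb238 64 Cfsg.Agent.CosetCertFi23FP7.orb239c

theorem orb240 : AllBelow (orbOk orbTbl roots cert.sgens table) 15360 := AllBelow.step orb239 64 Cfsg.Agent.CosetCertFi23FP7.orb240c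

theorem orb241 : AllBelow (orbOk orbTbl roots cert.sgens table) 15424 := AllBelow.step orb240 64 Cfsg.Agent.CosetCertFi23FP7.orb241c

theorem orb242 : AllBelow (orbOk orbTbl roots cert.sgens table) 15488 := AllBelow.step orb241 64 Cfsg.Agent.CosetCertFi23FP7.orb242c

theorem orb243 : AllBelow (orbOk orbTbl roots cert.sgens table) 15552 := AllBelow.step orb242 64 Cfsg.Agent.CosetCertFi23FP7.orb243c

theorem orb244 : AllBelow (orbOk orbTbl roots cert.sgens table) 15616 := AllBelow.step orb243 64 Cfsg.Agent.CosetCertFi23FP7.orb244c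

theorem orb245 : AllBelow (orbOk orbTbl roots cert.sgens table) 15680 := AllBelow.step orb244 64 Cfsg.Agent.CosetCertFi23FP7.orb245c

theorem orb246 : AllBelow (orbOk orbTbl roots cert.sgens table) 15744 := AllBelow.step orb245 64 Cfsg.Agent.CosetCertFi23FP7.orb246c

theorem orb247 : AllBelow (orbOk orbTbl roots cert.sgens table) 15808 := AllBelow.step orb246 64 Cfsg.Agent.CosetCertFi23FP7.orb247c

theorem orb248 : AllBelow (orbOk orbTbl roots cert.sgens table) 15872 := AllBelow.step orb247 64 Cfsg.Agent.CosetCertFi23FP7.orb248c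

theorem orb249 : AllBelow (orbOk orbTbl roots cert.sgens table) 15936 := AllBelow.step orb248 64 Cfsg.Agent.CosetCertFi23FP8.orb249c

theorem orb250 : AllBelow (orbOk orbTbl roots cert.sgens table) 16000 := AllBelow.step orb249 64 Cfsg.Agent.CosetCertFi23FP8.orb250c

theorem orb251 : AllBelow (orbOk orbTbl roots cert.sgens table) 16064 := AllBelow.step orb250 64 Cfsg.Agent.CosetCertFi23FP8.orb251c

theorem orb252 : AllBelow (orbOk orbTbl roots cert.sgens table) 16128 := AllBelow.step orb251 64 Cfsg.Agent.CosetCertFi23FP8.orb252c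

theorem orb253 : AllBelow (orbOk orbTbl roots cert.sgens table) 16192 := AllBelow.step orb252 64 Cfsg.Agent.CosetCertFi23FP8.orb253c

theorem orb254 : AllBelow (orbOk orbTbl roots cert.sgens table) 16256 := AllBelow.step orb253 64 Cfsg.Agent.CosetCertFi23FP8.orb254c

theorem orb255 : AllBelow (orbOk orbTbl roots cert.sgens table) 16320 := AllBelow.step orb254 64 Cfsg.Agent.CosetCertFi23FP8.orb255c

theorem orb256 : AllBelow (orbOk orbTbl roots cert.sgens table) 16384 := AllBelow.step orb255 64 Cfsg.Agent.CosetCertFi23FP8.orb256c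

theorem orb257 : AllBelow (orbOk orbTbl roots cert.sgens table) 16448 := AllBelow.step orb256 64 Cfsg.Agent.CosetCertFi23FP8.orb257c

theorem orb258 : AllBelow (orbOk orbTbl roots cert.sgens table) 16512 := AllBelow.step orb257 64 Cfsg.Agent.CosetCertFi23FP8.orb258c

theorem orb259 : AllBelow (orbOk orbTbl roots cert.sgens table) 16576 := AllBelow.step orb258 64 Cfsg.Agent.CosetCertFi23FP8.orb259c

theorem orb260 : AllBelow (orbOk orbTbl roots cert.sgens table) 16640 := AllBelow.step orb259 64 Cfsg.Agent.CosetCertFi23FP8.orb260c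

theorem orb261 : AllBelow (orbOk orbTbl roots cert.sgens table) 16704 := AllBelow.step orb260 64 Cfsg.Agent.CosetCertFi23FP8.orb261c

theorem orb262 : AllBelow (orbOk orbTbl roots cert.sgens table) 16768 := AllBelow.step orb261 64 Cfsg.Agent.CosetCertFi23FP8.orb262c

theorem orb263 : AllBelow (orbOk orbTbl roots cert.sgens table) 16832 := AllBelow.step orb262 64 Cfsg.Agent.CosetCertFi23FP8.orb263c

theorem orb264 : AllBelow (orbOk orbTbl roots cert.sgens table) 16896 := AllBelow.step orb263 64 Cfsg.Agent.CosetCertFi23FP8.orb264c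

theorem orb265 : AllBelow (orbOk orbTbl roots cert.sgens table) 16960 := AllBelow.step orb264 64 Cfsg.Agent.CosetCertFi23FP8.orb265c

theorem orb266 : AllBelow (orbOk orbTbl roots cert.sgens table) 17024 := AllBelow.step orb265 64 Cfsg.Agent.CosetCertFi23FP8.orb266c

theorem orb267 : AllBelow (orbOk orbTbl roots cert.sgens table) 17088 := AllBelow.step orb266 64 Cfsg.Agent.CosetCertFi23FP8.orb267c

theorem orb268 : AllBelow (orbOk orbTbl roots cert.sgens table) 17152 := AllBelow.step orb267 64 Cfsg.Agent.CosetCertFi23FP8.orb268c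

theorem orb269 : AllBelow (orbOk orbTbl roots cert.sgens table) 17216 := AllBelow.step orb268 64 Cfsg.Agent.CosetCertFi23FP8.orb269c

theorem orb270 : AllBelow (orbOk orbTbl roots cert.sgens table) 17280 := AllBelow.step orb269 64 Cfsg.Agent.CosetCertFi23FP8.orb270c

theorem orb271 : AllBelow (orbOk orbTbl roots cert.sgens table) 17344 := AllBelow.step orb270 64 Cfsg.Agent.CosetCertFi23FP8.orb271c

theorem orb272 : AllBelow (orbOk orbTbl roots cert.sgens table) 17408 := AllBelow.step orb271 64 Cfsg.Agent.CosetCertFi23FP8.orb272c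

theorem orb273 : AllBelow (orbOk orbTbl roots cert.sgens table) 17472 := AllBelow.step orb272 64 Cfsg.Agent.CosetCertFi23FP8.orb273c

theorem orb274 : AllBelow (orbOk orbTbl roots cert.sgens table) 17536 := AllBelow.step orb273 64 Cfsg.Agent.CosetCertFi23FP8.orb274c

theorem orb275 : AllBelow (orbOk orbTbl roots cert.sgens table) 17600 := AllBelow.step orb274 64 Cfsg.Agent.CosetCertFi23FP8.orb275c

theorem orb276 : AllBelow (orbOk orbTbl roots cert.sgens table) 17664 := AllBelow.step orb275 64 Cfsg.Agent.CosetCertFi23FP8.orb276c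

theorem orb277 : AllBelow (orbOk orbTbl roots cert.sgens table) 17728 := AllBelow.step orb276 64 Cfsg.Agent.CosetCertFi23FP8.orb277c

theorem orb278 : AllBelow (orbOk orbTbl roots cert.sgens table) 17792 := AllBelow.step orb277 64 Cfsg.Agent.CosetCertFi23FP8.orb278c

theorem orb279 : AllBelow (orbOk orbTbl roots cert.sgens table) 17856 := AllBelow.step orb278 64 Cfsg.Agent.CosetCertFi23FP8.orb279c

theorem orb280 : AllBelow (orbOk orbTbl roots cert.sgens table) 17920 := AllBelow.step orb279 64 Cfsg.Agent.CosetCertFi23FP9.orb280c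

theorem orb281 : AllBelow (orbOk orbTbl roots cert.sgens table) 17984 := AllBelow.step orb280 64 Cfsg.Agent.CosetCertFi23FP9.orb281c

theorem orb282 : AllBelow (orbOk orbTbl roots cert.sgens table) 18048 := AllBelow.step orb281 64 Cfsg.Agent.CosetCertFi23FP9.orb282c

theorem orb283 : AllBelow (orbOk orbTbl roots cert.sgens table) 18112 := AllBelow.step orb282 64 Cfsg.Agent.CosetCertFi23FP9.orb283c

theorem orb284 : AllBelow (orbOk orbTbl roots cert.sgens table) 18176 := AllBelow.step orb283 64 Cfsg.Agent.CosetCertFi23FP9.orb284c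

theorem orb285 : AllBelow (orbOk orbTbl roots cert.sgens table) 18240 := AllBelow.step orb284 64 Cfsg.Agent.CosetCertFi23FP9.orb285c

theorem orb286 : AllBelow (orbOk orbTbl roots cert.sgens table) 18304 := AllBelow.step orb285 64 Cfsg.Agent.CosetCertFi23FP9.orb286c

theorem orb287 : AllBelow (orbOk orbTbl roots cert.sgens table) 18368 := AllBelow.step orb286 64 Cfsg.Agent.CosetCertFi23FP9.orb287c

theorem orb288 : AllBelow (orbOk orbTbl roots cert.sgens table) 18432 := AllBelow.step orb287 64 Cfsg.Agent.CosetCertFi23FP9.orb288c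

theorem orb289 : AllBelow (orbOk orbTbl roots cert.sgens table) 18496 := AllBelow.step orb288 64 Cfsg.Agent.CosetCertFi23FP9.orb289c

theorem orb290 : AllBelow (orbOk orbTbl roots cert.sgens table) 18560 := AllBelow.step orb289 64 Cfsg.Agent.CosetCertFi23FP9.orb290c

theorem orb291 : AllBelow (orbOk orbTbl roots cert.sgens table) 18624 := AllBelow.step orb290 64 Cfsg.Agent.CosetCertFi23FP9.orb291c

theorem orb292 : AllBelow (orbOk orbTbl roots cert.sgens table) 18688 := AllBelow.step orb291 64 Cfsg.Agent.CosetCertFi23FP9.orb292c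

theorem orb293 : AllBelow (orbOk orbTbl roots cert.sgens table) 18752 := AllBelow.step orb292 64 Cfsg.Agent.CosetCertFi23FP9.orb293c

theorem orb294 : AllBelow (orbOk orbTbl roots cert.sgens table) 18816 := AllBelow.step orb293 64 Cfsg.Agent.CosetCertFi23FP9.orb294c

theorem orb295 : AllBelow (orbOk orbTbl roots cert.sgens table) 18880 := AllBelow.step orb294 64 Cfsg.Agent.CosetCertFi23FP9.orb295c

theorem orb296 : AllBelow (orbOk orbTbl roots cert.sgens table) 18944 := AllBelow.step orb295 64 Cfsg.Agent.CosetCertFi23FP9.orb296c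

theorem orb297 : AllBelow (orbOk orbTbl roots cert.sgens table) 19008 := AllBelow.step orb296 64 Cfsg.Agent.CosetCertFi23FP9.orb297c

theorem orb298 : AllBelow (orbOk orbTbl roots cert.sgens table) 19072 := AllBelow.step orb297 64 Cfsg.Agent.CosetCertFi23FP9.orb298c

theorem orb299 : AllBelow (orbOk orbTbl roots cert.sgens table) 19136 := AllBelow.step orb298 64 Cfsg.Agent.CosetCertFi23FP9.orb299c

theorem orb300 : AllBelow (orbOk orbTbl roots cert.sgens table) 19200 := AllBelow.step orb299 64 Cfsg.Agent.CosetCertFi23FP9.orb300c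

theorem orb301 : AllBelow (orbOk orbTbl roots cert.sgens table) 19264 := AllBelow.step orb300 64 Cfsg.Agent.CosetCertFi23FP9.orb301c

theorem orb302 : AllBelow (orbOk orbTbl roots cert.sgens table) 19328 := AllBelow.step orb301 64 Cfsg.Agent.CosetCertFi23FP9.orb302c

theorem orb303 : AllBelow (orbOk orbTbl roots cert.sgens table) 19392 := AllBelow.step orb302 64 Cfsg.Agent.CosetCertFi23FP9.orb303c

theorem orb304 : AllBelow (orbOk orbTbl roots cert.sgens table) 19456 := AllBelow.step orb303 64 Cfsg.Agent.CosetCertFi23FP9.orb304c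

theorem orb305 : AllBelow (orbOk orbTbl roots cert.sgens table) 19520 := AllBelow.step orb304 64 Cfsg.Agent.CosetCertFi23FP9.orb305c

theorem orb306 : AllBelow (orbOk orbTbl roots cert.sgens table) 19584 := AllBelow.step orb305 64 Cfsg.Agent.CosetCertFi23FP9.orb306c

theorem orb307 : AllBelow (orbOk orbTbl roots cert.sgens table) 19648 := AllBelow.step orb306 64 Cfsg.Agent.CosetCertFi23FP9.orb307c

theorem orb308 : AllBelow (orbOk orbTbl roots cert.sgens table) 19712 := AllBelow.step orb307 64 Cfsg.Agent.CosetCertFi23FP9.orb308c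

theorem orb309 : AllBelow (orbOk orbTbl roots cert.sgens table) 19776 := AllBelow.step orb308 64 Cfsg.Agent.CosetCertFi23FP9.orb309c

theorem orb310 : AllBelow (orbOk orbTbl roots cert.sgens table) 19840 := AllBelow.step orb309 64 Cfsg.Agent.CosetCertFi23FP9.orb310c

theorem orb311 : AllBelow (orbOk orbTbl roots cert.sgens table) 19904 := AllBelow.step orb310 64 Cfsg.Agent.CosetCertFi23FP10.orb311c

theorem orb312 : AllBelow (orbOk orbTbl roots cert.sgens table) 19968 := AllBelow.step orb311 64 Cfsg.Agent.CosetCertFi23FP10.orb312c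

theorem orb313 : AllBelow (orbOk orbTbl roots cert.sgens table) 20032 := AllBelow.step orb312 64 Cfsg.Agent.CosetCertFi23FP10.orb313c

theorem orb314 : AllBelow (orbOk orbTbl roots cert.sgens table) 20096 := AllBelow.step orb313 64 Cfsg.Agent.CosetCertFi23FP10.orb314c

theorem orb315 : AllBelow (orbOk orbTbl roots cert.sgens table) 20160 := AllBelow.step orb314 64 Cfsg.Agent.CosetCertFi23FP10.orb315c

theorem orb316 : AllBelow (orbOk orbTbl roots cert.sgens table) 20224 := AllBelow.step orb315 64 Cfsg.Agent.CosetCertFi23FP10.orb316c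

theorem orb317 : AllBelow (orbOk orbTbl roots cert.sgens table) 20288 := AllBelow.step orb316 64 Cfsg.Agent.CosetCertFi23FP10.orb317c

theorem orb318 : AllBelow (orbOk orbTbl roots cert.sgens table) 20352 := AllBelow.step orb317 64 Cfsg.Agent.CosetCertFi23FP10.orb318c

theorem orb319 : AllBelow (orbOk orbTbl roots cert.sgens table) 20416 := AllBelow.step orb318 64 Cfsg.Agent.CosetCertFi23FP10.orb319c

theorem orb320 : AllBelow (orbOk orbTbl roots cert.sgens table) 20480 := AllBelow.step orb319 64 Cfsg.Agent.CosetCertFi23FP10.orb320c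

theorem orb321 : AllBelow (orbOk orbTbl roots cert.sgens table) 20544 := AllBelow.step orb320 64 Cfsg.Agent.CosetCertFi23FP10.orb321c

theorem orb322 : AllBelow (orbOk orbTbl roots cert.sgens table) 20608 := AllBelow.step orb321 64 Cfsg.Agent.CosetCertFi23FP10.orb322c

theorem orb323 : AllBelow (orbOk orbTbl roots cert.sgens table) 20672 := AllBelow.step orb322 64 Cfsg.Agent.CosetCertFi23FP10.orb323c

theorem orb324 : AllBelow (orbOk orbTbl roots cert.sgens table) 20736 := AllBelow.step orb323 64 Cfsg.Agent.CosetCertFi23FP10.orb324c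

theorem orb325 : AllBelow (orbOk orbTbl roots cert.sgens table) 20800 := AllBelow.step orb324 64 Cfsg.Agent.CosetCertFi23FP10.orb325c

theorem orb326 : AllBelow (orbOk orbTbl roots cert.sgens table) 20864 := AllBelow.step orb325 64 Cfsg.Agent.CosetCertFi23FP10.orb326c

theorem orb327 : AllBelow (orbOk orbTbl roots cert.sgens table) 20928 := AllBelow.step orb326 64 Cfsg.Agent.CosetCertFi23FP10.orb327c

theorem orb328 : AllBelow (orbOk orbTbl roots cert.sgens table) 20992 := AllBelow.step orb327 64 Cfsg.Agent.CosetCertFi23FP10.orb328c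

theorem orb329 : AllBelow (orbOk orbTbl roots cert.sgens table) 21056 := AllBelow.step orb328 64 Cfsg.Agent.CosetCertFi23FP10.orb329c

theorem orb330 : AllBelow (orbOk orbTbl roots cert.sgens table) 21120 := AllBelow.step orb329 64 Cfsg.Agent.CosetCertFi23FP10.orb330c

theorem orb331 : AllBelow (orbOk orbTbl roots cert.sgens table) 21184 := AllBelow.step orb330 64 Cfsg.Agent.CosetCertFi23FP10.orb331c

theorem orb332 : AllBelow (orbOk orbTbl roots cert.sgens table) 21248 := AllBelow.step orb331 64 Cfsg.Agent.CosetCertFi23FP10.orb332c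

theorem orb333 : AllBelow (orbOk orbTbl roots cert.sgens table) 21312 := AllBelow.step orb332 64 Cfsg.Agent.CosetCertFi23FP10.orb333c

theorem orb334 : AllBelow (orbOk orbTbl roots cert.sgens table) 21376 := AllBelow.step orb333 64 Cfsg.Agent.CosetCertFi23FP10.orb334c

theorem orb335 : AllBelow (orbOk orbTbl roots cert.sgens table) 21440 := AllBelow.step orb334 64 Cfsg.Agent.CosetCertFi23FP10.orb335c

theorem orb336 : AllBelow (orbOk orbTbl roots cert.sgens table) 21504 := AllBelow.step orb335 64 Cfsg.Agent.CosetCertFi23FP10.orb336c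

theorem orb337 : AllBelow (orbOk orbTbl roots cert.sgens table) 21568 := AllBelow.step orb336 64 Cfsg.Agent.CosetCertFi23FP10.orb337c

theorem orb338 : AllBelow (orbOk orbTbl roots cert.sgens table) 21632 := AllBelow.step orb337 64 Cfsg.Agent.CosetCertFi23FP10.orb338c

theorem orb339 : AllBelow (orbOk orbTbl roots cert.sgens table) 21696 := AllBelow.step orb338 64 Cfsg.Agent.CosetCertFi23FP10.orb339c

theorem orb340 : AllBelow (orbOk orbTbl roots cert.sgens table) 21760 := AllBelow.step orb339 64 Cfsg.Agent.CosetCertFi23FP10.orb340c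

theorem orb341 : AllBelow (orbOk orbTbl roots cert.sgens table) 21824 := AllBelow.step orb340 64 Cfsg.Agent.CosetCertFi23FP10.orb341c

theorem orb342 : AllBelow (orbOk orbTbl roots cert.sgens table) 21888 := AllBelow.step orb341 64 Cfsg.Agent.CosetCertFi23FP11.orb342c

theorem orb343 : AllBelow (orbOk orbTbl roots cert.sgens table) 21952 := AllBelow.step orb342 64 Cfsg.Agent.CosetCertFi23FP11.orb343c

theorem orb344 : AllBelow (orbOk orbTbl roots cert.sgens table) 22016 := AllBelow.step orb343 64 Cfsg.Agent.CosetCertFi23FP11.orb344c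

theorem orb345 : AllBelow (orbOk orbTbl roots cert.sgens table) 22080 := AllBelow.step orb344 64 Cfsg.Agent.CosetCertFi23FP11.orb345c

theorem orb346 : AllBelow (orbOk orbTbl roots cert.sgens table) 22144 := AllBelow.step orb345 64 Cfsg.Agent.CosetCertFi23FP11.orb346c

theorem orb347 : AllBelow (orbOk orbTbl roots cert.sgens table) 22208 := AllBelow.step orb346 64 Cfsg.Agent.CosetCertFi23FP11.orb347c

theorem orb348 : AllBelow (orbOk orbTbl roots cert.sgens table) 22272 := AllBelow.step orb347 64 Cfsg.Agent.CosetCertFi23FP11.orb348c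

theorem orb349 : AllBelow (orbOk orbTbl roots cert.sgens table) 22336 := AllBelow.step orb348 64 Cfsg.Agent.CosetCertFi23FP11.orb349c

theorem orb350 : AllBelow (orbOk orbTbl roots cert.sgens table) 22400 := AllBelow.step orb349 64 Cfsg.Agent.CosetCertFi23FP11.orb350c

theorem orb351 : AllBelow (orbOk orbTbl roots cert.sgens table) 22464 := AllBelow.step orb350 64 Cfsg.Agent.CosetCertFi23FP11.orb351c

theorem orb352 : AllBelow (orbOk orbTbl roots cert.sgens table) 22528 := AllBelow.step orb351 64 Cfsg.Agent.CosetCertFi23FP11.orb352c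

theorem orb353 : AllBelow (orbOk orbTbl roots cert.sgens table) 22592 := AllBelow.step orb352 64 Cfsg.Agent.CosetCertFi23FP11.orb353c

theorem orb354 : AllBelow (orbOk orbTbl roots cert.sgens table) 22656 := AllBelow.step orb353 64 Cfsg.Agent.CosetCertFi23FP11.orb354c

theorem orb355 : AllBelow (orbOk orbTbl roots cert.sgens table) 22720 := AllBelow.step orb354 64 Cfsg.Agent.CosetCertFi23FP11.orb355c

theorem orb356 : AllBelow (orbOk orbTbl roots cert.sgens table) 22784 := AllBelow.step orb355 64 Cfsg.Agent.CosetCertFi23FP11.orb356c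

theorem orb357 : AllBelow (orbOk orbTbl roots cert.sgens table) 22848 := AllBelow.step orb356 64 Cfsg.Agent.CosetCertFi23FP11.orb357c

theorem orb358 : AllBelow (orbOk orbTbl roots cert.sgens table) 22912 := AllBelow.step orb357 64 Cfsg.Agent.CosetCertFi23FP11.orb358c

theorem orb359 : AllBelow (orbOk orbTbl roots cert.sgens table) 22976 := AllBelow.step orb358 64 Cfsg.Agent.CosetCertFi23FP11.orb359c

theorem orb360 : AllBelow (orbOk orbTbl roots cert.sgens table) 23040 := AllBelow.step orb359 64 Cfsg.Agent.CosetCertFi23FP11.orb360c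

theorem orb361 : AllBelow (orbOk orbTbl roots cert.sgens table) 23104 := AllBelow.step orb360 64 Cfsg.Agent.CosetCertFi23FP11.orb361c

theorem orb362 : AllBelow (orbOk orbTbl roots cert.sgens table) 23168 := AllBelow.step orb361 64 Cfsg.Agent.CosetCertFi23FP11.orb362c

theorem orb363 : AllBelow (orbOk orbTbl roots cert.sgens table) 23232 := AllBelow.step orb362 64 Cfsg.Agent.CosetCertFi23FP11.orb363c

theorem orb364 : AllBelow (orbOk orbTbl roots cert.sgens table) 23296 := AllBelow.step orb363 64 Cfsg.Agent.CosetCertFi23FP11.orb364c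

theorem orb365 : AllBelow (orbOk orbTbl roots cert.sgens table) 23360 := AllBelow.step orb364 64 Cfsg.Agent.CosetCertFi23FP11.orb365c

theorem orb366 : AllBelow (orbOk orbTbl roots cert.sgens table) 23424 := AllBelow.step orb365 64 Cfsg.Agent.CosetCertFi23FP11.orb366c

theorem orb367 : AllBelow (orbOk orbTbl roots cert.sgens table) 23488 := AllBelow.step orb366 64 Cfsg.Agent.CosetCertFi23FP11.orb367c

theorem orb368 : AllBelow (orbOk orbTbl roots cert.sgens table) 23552 := AllBelow.step orb367 64 Cfsg.Agent.CosetCertFi23FP11.orb368c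

theorem orb369 : AllBelow (orbOk orbTbl roots cert.sgens table) 23616 := AllBelow.step orb368 64 Cfsg.Agent.CosetCertFi23FP11.orb369c

theorem orb370 : AllBelow (orbOk orbTbl roots cert.sgens table) 23680 := AllBelow.step orb369 64 Cfsg.Agent.CosetCertFi23FP11.orb370c

theorem orb371 : AllBelow (orbOk orbTbl roots cert.sgens table) 23744 := AllBelow.step orb370 64 Cfsg.Agent.CosetCertFi23FP11.orb371c

theorem orb372 : AllBelow (orbOk orbTbl roots cert.sgens table) 23808 := AllBelow.step orb371 64 Cfsg.Agent.CosetCertFi23FP11.orb372c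

theorem orb373 : AllBelow (orbOk orbTbl roots cert.sgens table) 23872 := AllBelow.step orb372 64 Cfsg.Agent.CosetCertFi23FP12.orb373c

theorem orb374 : AllBelow (orbOk orbTbl roots cert.sgens table) 23936 := AllBelow.step orb373 64 Cfsg.Agent.CosetCertFi23FP12.orb374c

theorem orb375 : AllBelow (orbOk orbTbl roots cert.sgens table) 24000 := AllBelow.step orb374 64 Cfsg.Agent.CosetCertFi23FP12.orb375c

theorem orb376 : AllBelow (orbOk orbTbl roots cert.sgens table) 24064 := AllBelow.step orb375 64 Cfsg.Agent.CosetCertFi23FP12.orb376c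

theorem orb377 : AllBelow (orbOk orbTbl roots cert.sgens table) 24128 := AllBelow.step orb376 64 Cfsg.Agent.CosetCertFi23FP12.orb377c

theorem orb378 : AllBelow (orbOk orbTbl roots cert.sgens table) 24192 := AllBelow.step orb377 64 Cfsg.Agent.CosetCertFi23FP12.orb378c

theorem orb379 : AllBelow (orbOk orbTbl roots cert.sgens table) 24256 := AllBelow.step orb378 64 Cfsg.Agent.CosetCertFi23FP12.orb379c

theorem orb380 : AllBelow (orbOk orbTbl roots cert.sgens table) 24320 := AllBelow.step orb379 64 Cfsg.Agent.CosetCertFi23FP12.orb380c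

theorem orb381 : AllBelow (orbOk orbTbl roots cert.sgens table) 24384 := AllBelow.step orb380 64 Cfsg.Agent.CosetCertFi23FP12.orb381c

theorem orb382 : AllBelow (orbOk orbTbl roots cert.sgens table) 24448 := AllBelow.step orb381 64 Cfsg.Agent.CosetCertFi23FP12.orb382c

theorem orb383 : AllBelow (orbOk orbTbl roots cert.sgens table) 24512 := AllBelow.step orb382 64 Cfsg.Agent.CosetCertFi23FP12.orb383c

theorem orb384 : AllBelow (orbOk orbTbl roots cert.sgens table) 24576 := AllBelow.step orb383 64 Cfsg.Agent.CosetCertFi23FP12.orb384c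

theorem orb385 : AllBelow (orbOk orbTbl roots cert.sgens table) 24640 := AllBelow.step orb384 64 Cfsg.Agent.CosetCertFi23FP12.orb385c

theorem orb386 : AllBelow (orbOk orbTbl roots cert.sgens table) 24704 := AllBelow.step orb385 64 Cfsg.Agent.CosetCertFi23FP12.orb386c

theorem orb387 : AllBelow (orbOk orbTbl roots cert.sgens table) 24768 := AllBelow.step orb386 64 Cfsg.Agent.CosetCertFi23FP12.orb387c

theorem orb388 : AllBelow (orbOk orbTbl roots cert.sgens table) 24832 := AllBelow.step orb387 64 Cfsg.Agent.CosetCertFi23FP12.orb388c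

theorem orb389 : AllBelow (orbOk orbTbl roots cert.sgens table) 24896 := AllBelow.step orb388 64 Cfsg.Agent.CosetCertFi23FP12.orb389c

theorem orb390 : AllBelow (orbOk orbTbl roots cert.sgens table) 24960 := AllBelow.step orb389 64 Cfsg.Agent.CosetCertFi23FP12.orb390c

theorem orb391 : AllBelow (orbOk orbTbl roots cert.sgens table) 25024 := AllBelow.step orb390 64 Cfsg.Agent.CosetCertFi23FP12.orb391c

theorem orb392 : AllBelow (orbOk orbTbl roots cert.sgens table) 25088 := AllBelow.step orb391 64 Cfsg.Agent.CosetCertFi23FP12.orb392c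

theorem orb393 : AllBelow (orbOk orbTbl roots cert.sgens table) 25152 := AllBelow.step orb392 64 Cfsg.Agent.CosetCertFi23FP12.orb393c

theorem orb394 : AllBelow (orbOk orbTbl roots cert.sgens table) 25216 := AllBelow.step orb393 64 Cfsg.Agent.CosetCertFi23FP12.orb394c

theorem orb395 : AllBelow (orbOk orbTbl roots cert.sgens table) 25280 := AllBelow.step orb394 64 Cfsg.Agent.CosetCertFi23FP12.orb395c

theorem orb396 : AllBelow (orbOk orbTbl roots cert.sgens table) 25344 := AllBelow.step orb395 64 Cfsg.Agent.CosetCertFi23FP12.orb396c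

theorem orb397 : AllBelow (orbOk orbTbl roots cert.sgens table) 25408 := AllBelow.step orb396 64 Cfsg.Agent.CosetCertFi23FP12.orb397c

theorem orb398 : AllBelow (orbOk orbTbl roots cert.sgens table) 25472 := AllBelow.step orb397 64 Cfsg.Agent.CosetCertFi23FP12.orb398c

theorem orb399 : AllBelow (orbOk orbTbl roots cert.sgens table) 25536 := AllBelow.step orb398 64 Cfsg.Agent.CosetCertFi23FP12.orb399c

theorem orb400 : AllBelow (orbOk orbTbl roots cert.sgens table) 25600 := AllBelow.step orb399 64 Cfsg.Agent.CosetCertFi23FP12.orb400c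

theorem orb401 : AllBelow (orbOk orbTbl roots cert.sgens table) 25664 := AllBelow.step orb400 64 Cfsg.Agent.CosetCertFi23FP12.orb401c

theorem orb402 : AllBelow (orbOk orbTbl roots cert.sgens table) 25728 := AllBelow.step orb401 64 Cfsg.Agent.CosetCertFi23FP12.orb402c

theorem orb403 : AllBelow (orbOk orbTbl roots cert.sgens table) 25792 := AllBelow.step orb402 64 Cfsg.Agent.CosetCertFi23FP12.orb403c

theorem orb404 : AllBelow (orbOk orbTbl roots cert.sgens table) 25856 := AllBelow.step orb403 64 Cfsg.Agent.CosetCertFi23FP13.orb404c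

theorem orb405 : AllBelow (orbOk orbTbl roots cert.sgens table) 25920 := AllBelow.step orb404 64 Cfsg.Agent.CosetCertFi23FP13.orb405c

theorem orb406 : AllBelow (orbOk orbTbl roots cert.sgens table) 25984 := AllBelow.step orb405 64 Cfsg.Agent.CosetCertFi23FP13.orb406c

theorem orb407 : AllBelow (orbOk orbTbl roots cert.sgens table) 26048 := AllBelow.step orb406 64 Cfsg.Agent.CosetCertFi23FP13.orb407c

theorem orb408 : AllBelow (orbOk orbTbl roots cert.sgens table) 26112 := AllBelow.step orb407 64 Cfsg.Agent.CosetCertFi23FP13.orb408c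

theorem orb409 : AllBelow (orbOk orbTbl roots cert.sgens table) 26176 := AllBelow.step orb408 64 Cfsg.Agent.CosetCertFi23FP13.orb409c

theorem orb410 : AllBelow (orbOk orbTbl roots cert.sgens table) 26240 := AllBelow.step orb409 64 Cfsg.Agent.CosetCertFi23FP13.orb410c

theorem orb411 : AllBelow (orbOk orbTbl roots cert.sgens table) 26304 := AllBelow.step orb410 64 Cfsg.Agent.CosetCertFi23FP13.orb411c

theorem orb412 : AllBelow (orbOk orbTbl roots cert.sgens table) 26368 := AllBelow.step orb411 64 Cfsg.Agent.CosetCertFi23FP13.orb412c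

theorem orb413 : AllBelow (orbOk orbTbl roots cert.sgens table) 26432 := AllBelow.step orb412 64 Cfsg.Agent.CosetCertFi23FP13.orb413c

theorem orb414 : AllBelow (orbOk orbTbl roots cert.sgens table) 26496 := AllBelow.step orb413 64 Cfsg.Agent.CosetCertFi23FP13.orb414c

theorem orb415 : AllBelow (orbOk orbTbl roots cert.sgens table) 26560 := AllBelow.step orb414 64 Cfsg.Agent.CosetCertFi23FP13.orb415c

theorem orb416 : AllBelow (orbOk orbTbl roots cert.sgens table) 26624 := AllBelow.step orb415 64 Cfsg.Agent.CosetCertFi23FP13.orb416c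

theorem orb417 : AllBelow (orbOk orbTbl roots cert.sgens table) 26688 := AllBelow.step orb416 64 Cfsg.Agent.CosetCertFi23FP13.orb417c

theorem orb418 : AllBelow (orbOk orbTbl roots cert.sgens table) 26752 := AllBelow.step orb417 64 Cfsg.Agent.CosetCertFi23FP13.orb418c

theorem orb419 : AllBelow (orbOk orbTbl roots cert.sgens table) 26816 := AllBelow.step orb418 64 Cfsg.Agent.CosetCertFi23FP13.orb419c

theorem orb420 : AllBelow (orbOk orbTbl roots cert.sgens table) 26880 := AllBelow.step orb419 64 Cfsg.Agent.CosetCertFi23FP13.orb420c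

theorem orb421 : AllBelow (orbOk orbTbl roots cert.sgens table) 26944 := AllBelow.step orb420 64 Cfsg.Agent.CosetCertFi23FP13.orb421c

theorem orb422 : AllBelow (orbOk orbTbl roots cert.sgens table) 27008 := AllBelow.step orb421 64 Cfsg.Agent.CosetCertFi23FP13.orb422c

theorem orb423 : AllBelow (orbOk orbTbl roots cert.sgens table) 27072 := AllBelow.step orb422 64 Cfsg.Agent.CosetCertFi23FP13.orb423c

theorem orb424 : AllBelow (orbOk orbTbl roots cert.sgens table) 27136 := AllBelow.step orb423 64 Cfsg.Agent.CosetCertFi23FP13.orb424c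

theorem orb425 : AllBelow (orbOk orbTbl roots cert.sgens table) 27200 := AllBelow.step orb424 64 Cfsg.Agent.CosetCertFi23FP13.orb425c

theorem orb426 : AllBelow (orbOk orbTbl roots cert.sgens table) 27264 := AllBelow.step orb425 64 Cfsg.Agent.CosetCertFi23FP13.orb426c

theorem orb427 : AllBelow (orbOk orbTbl roots cert.sgens table) 27328 := AllBelow.step orb426 64 Cfsg.Agent.CosetCertFi23FP13.orb427c

theorem orb428 : AllBelow (orbOk orbTbl roots cert.sgens table) 27392 := AllBelow.step orb427 64 Cfsg.Agent.CosetCertFi23FP13.orb428c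

theorem orb429 : AllBelow (orbOk orbTbl roots cert.sgens table) 27456 := AllBelow.step orb428 64 Cfsg.Agent.CosetCertFi23FP13.orb429c

theorem orb430 : AllBelow (orbOk orbTbl roots cert.sgens table) 27520 := AllBelow.step orb429 64 Cfsg.Agent.CosetCertFi23FP13.orb430c

theorem orb431 : AllBelow (orbOk orbTbl roots cert.sgens table) 27584 := AllBelow.step orb430 64 Cfsg.Agent.CosetCertFi23FP13.orb431c

theorem orb432 : AllBelow (orbOk orbTbl roots cert.sgens table) 27648 := AllBelow.step orb431 64 Cfsg.Agent.CosetCertFi23FP13.orb432c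

theorem orb433 : AllBelow (orbOk orbTbl roots cert.sgens table) 27712 := AllBelow.step orb432 64 Cfsg.Agent.CosetCertFi23FP13.orb433c

theorem orb434 : AllBelow (orbOk orbTbl roots cert.sgens table) 27776 := AllBelow.step orb433 64 Cfsg.Agent.CosetCertFi23FP13.orb434c

theorem orb435 : AllBelow (orbOk orbTbl roots cert.sgens table) 27840 := AllBelow.step orb434 64 Cfsg.Agent.CosetCertFi23FP14.orb435c

theorem orb436 : AllBelow (orbOk orbTbl roots cert.sgens table) 27904 := AllBelow.step orb435 64 Cfsg.Agent.CosetCertFi23FP14.orb436c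

theorem orb437 : AllBelow (orbOk orbTbl roots cert.sgens table) 27968 := AllBelow.step orb436 64 Cfsg.Agent.CosetCertFi23FP14.orb437c

theorem orb438 : AllBelow (orbOk orbTbl roots cert.sgens table) 28032 := AllBelow.step orb437 64 Cfsg.Agent.CosetCertFi23FP14.orb438c

theorem orb439 : AllBelow (orbOk orbTbl roots cert.sgens table) 28096 := AllBelow.step orb438 64 Cfsg.Agent.CosetCertFi23FP14.orb439c

theorem orb440 : AllBelow (orbOk orbTbl roots cert.sgens table) 28160 := AllBelow.step orb439 64 Cfsg.Agent.CosetCertFi23FP14.orb440c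

theorem orb441 : AllBelow (orbOk orbTbl roots cert.sgens table) 28224 := AllBelow.step orb440 64 Cfsg.Agent.CosetCertFi23FP14.orb441c

theorem orb442 : AllBelow (orbOk orbTbl roots cert.sgens table) 28288 := AllBelow.step orb441 64 Cfsg.Agent.CosetCertFi23FP14.orb442c

theorem orb443 : AllBelow (orbOk orbTbl roots cert.sgens table) 28352 := AllBelow.step orb442 64 Cfsg.Agent.CosetCertFi23FP14.orb443c

theorem orb444 : AllBelow (orbOk orbTbl roots cert.sgens table) 28416 := AllBelow.step orb443 64 Cfsg.Agent.CosetCertFi23FP14.orb444c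

theorem orb445 : AllBelow (orbOk orbTbl roots cert.sgens table) 28480 := AllBelow.step orb444 64 Cfsg.Agent.CosetCertFi23FP14.orb445c

theorem orb446 : AllBelow (orbOk orbTbl roots cert.sgens table) 28544 := AllBelow.step orb445 64 Cfsg.Agent.CosetCertFi23FP14.orb446c

theorem orb447 : AllBelow (orbOk orbTbl roots cert.sgens table) 28608 := AllBelow.step orb446 64 Cfsg.Agent.CosetCertFi23FP14.orb447c

theorem orb448 : AllBelow (orbOk orbTbl roots cert.sgens table) 28672 := AllBelow.step orb447 64 Cfsg.Agent.CosetCertFi23FP14.orb448c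

theorem orb449 : AllBelow (orbOk orbTbl roots cert.sgens table) 28736 := AllBelow.step orb448 64 Cfsg.Agent.CosetCertFi23FP14.orb449c

theorem orb450 : AllBelow (orbOk orbTbl roots cert.sgens table) 28800 := AllBelow.step orb449 64 Cfsg.Agent.CosetCertFi23FP14.orb450c

theorem orb451 : AllBelow (orbOk orbTbl roots cert.sgens table) 28864 := AllBelow.step orb450 64 Cfsg.Agent.CosetCertFi23FP14.orb451c

theorem orb452 : AllBelow (orbOk orbTbl roots cert.sgens table) 28928 := AllBelow.step orb451 64 Cfsg.Agent.CosetCertFi23FP14.orb452c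

theorem orb453 : AllBelow (orbOk orbTbl roots cert.sgens table) 28992 := AllBelow.step orb452 64 Cfsg.Agent.CosetCertFi23FP14.orb453c

theorem orb454 : AllBelow (orbOk orbTbl roots cert.sgens table) 29056 := AllBelow.step orb453 64 Cfsg.Agent.CosetCertFi23FP14.orb454c

theorem orb455 : AllBelow (orbOk orbTbl roots cert.sgens table) 29120 := AllBelow.step orb454 64 Cfsg.Agent.CosetCertFi23FP14.orb455c

theorem orb456 : AllBelow (orbOk orbTbl roots cert.sgens table) 29184 := AllBelow.step orb455 64 Cfsg.Agent.CosetCertFi23FP14.orb456c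

theorem orb457 : AllBelow (orbOk orbTbl roots cert.sgens table) 29248 := AllBelow.step orb456 64 Cfsg.Agent.CosetCertFi23FP14.orb457c

theorem orb458 : AllBelow (orbOk orbTbl roots cert.sgens table) 29312 := AllBelow.step orb457 64 Cfsg.Agent.CosetCertFi23FP14.orb458c

theorem orb459 : AllBelow (orbOk orbTbl roots cert.sgens table) 29376 := AllBelow.step orb458 64 Cfsg.Agent.CosetCertFi23FP14.orb459c

theorem orb460 : AllBelow (orbOk orbTbl roots cert.sgens table) 29440 := AllBelow.step orb459 64 Cfsg.Agent.CosetCertFi23FP14.orb460c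

theorem orb461 : AllBelow (orbOk orbTbl roots cert.sgens table) 29504 := AllBelow.step orb460 64 Cfsg.Agent.CosetCertFi23FP14.orb461c

theorem orb462 : AllBelow (orbOk orbTbl roots cert.sgens table) 29568 := AllBelow.step orb461 64 Cfsg.Agent.CosetCertFi23FP14.orb462c

theorem orb463 : AllBelow (orbOk orbTbl roots cert.sgens table) 29632 := AllBelow.step orb462 64 Cfsg.Agent.CosetCertFi23FP14.orb463c

theorem orb464 : AllBelow (orbOk orbTbl roots cert.sgens table) 29696 := AllBelow.step orb463 64 Cfsg.Agent.CosetCertFi23FP14.orb464c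

theorem orb465 : AllBelow (orbOk orbTbl roots cert.sgens table) 29760 := AllBelow.step orb464 64 Cfsg.Agent.CosetCertFi23FP14.orb465c

theorem orb466 : AllBelow (orbOk orbTbl roots cert.sgens table) 29824 := AllBelow.step orb465 64 Cfsg.Agent.CosetCertFi23FP15.orb466c

theorem orb467 : AllBelow (orbOk orbTbl roots cert.sgens table) 29888 := AllBelow.step orb466 64 Cfsg.Agent.CosetCertFi23FP15.orb467c

theorem orb468 : AllBelow (orbOk orbTbl roots cert.sgens table) 29952 := AllBelow.step orb467 64 Cfsg.Agent.CosetCertFi23FP15.orb468c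

theorem orb469 : AllBelow (orbOk orbTbl roots cert.sgens table) 30016 := AllBelow.step orb468 64 Cfsg.Agent.CosetCertFi23FP15.orb469c

theorem orb470 : AllBelow (orbOk orbTbl roots cert.sgens table) 30080 := AllBelow.step orb469 64 Cfsg.Agent.CosetCertFi23FP15.orb470c

theorem orb471 : AllBelow (orbOk orbTbl roots cert.sgens table) 30144 := AllBelow.step orb470 64 Cfsg.Agent.CosetCertFi23FP15.orb471c

theorem orb472 : AllBelow (orbOk orbTbl roots cert.sgens table) 30208 := AllBelow.step orb471 64 Cfsg.Agent.CosetCertFi23FP15.orb472c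

theorem orb473 : AllBelow (orbOk orbTbl roots cert.sgens table) 30272 := AllBelow.step orb472 64 Cfsg.Agent.CosetCertFi23FP15.orb473c

theorem orb474 : AllBelow (orbOk orbTbl roots cert.sgens table) 30336 := AllBelow.step orb473 64 Cfsg.Agent.CosetCertFi23FP15.orb474c

theorem orb475 : AllBelow (orbOk orbTbl roots cert.sgens table) 30400 := AllBelow.step orb474 64 Cfsg.Agent.CosetCertFi23FP15.orb475c

theorem orb476 : AllBelow (orbOk orbTbl roots cert.sgens table) 30464 := AllBelow.step orb475 64 Cfsg.Agent.CosetCertFi23FP15.orb476c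

theorem orb477 : AllBelow (orbOk orbTbl roots cert.sgens table) 30528 := AllBelow.step orb476 64 Cfsg.Agent.CosetCertFi23FP15.orb477c

theorem orb478 : AllBelow (orbOk orbTbl roots cert.sgens table) 30592 := AllBelow.step orb477 64 Cfsg.Agent.CosetCertFi23FP15.orb478c

theorem orb479 : AllBelow (orbOk orbTbl roots cert.sgens table) 30656 := AllBelow.step orb478 64 Cfsg.Agent.CosetCertFi23FP15.orb479c

theorem orb480 : AllBelow (orbOk orbTbl roots cert.sgens table) 30720 := AllBelow.step orb479 64 Cfsg.Agent.CosetCertFi23FP15.orb480c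

theorem orb481 : AllBelow (orbOk orbTbl roots cert.sgens table) 30784 := AllBelow.step orb480 64 Cfsg.Agent.CosetCertFi23FP15.orb481c

theorem orb482 : AllBelow (orbOk orbTbl roots cert.sgens table) 30848 := AllBelow.step orb481 64 Cfsg.Agent.CosetCertFi23FP15.orb482c

theorem orb483 : AllBelow (orbOk orbTbl roots cert.sgens table) 30912 := AllBelow.step orb482 64 Cfsg.Agent.CosetCertFi23FP15.orb483c

theorem orb484 : AllBelow (orbOk orbTbl roots cert.sgens table) 30976 := AllBelow.step orb483 64 Cfsg.Agent.CosetCertFi23FP15.orb484c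

theorem orb485 : AllBelow (orbOk orbTbl roots cert.sgens table) 31040 := AllBelow.step orb484 64 Cfsg.Agent.CosetCertFi23FP15.orb485c

theorem orb486 : AllBelow (orbOk orbTbl roots cert.sgens table) 31104 := AllBelow.step orb485 64 Cfsg.Agent.CosetCertFi23FP15.orb486c

theorem orb487 : AllBelow (orbOk orbTbl roots cert.sgens table) 31168 := AllBelow.step orb486 64 Cfsg.Agent.CosetCertFi23FP15.orb487c

theorem orb488 : AllBelow (orbOk orbTbl roots cert.sgens table) 31232 := AllBelow.step orb487 64 Cfsg.Agent.CosetCertFi23FP15.orb488c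

theorem orb489 : AllBelow (orbOk orbTbl roots cert.sgens table) 31296 := AllBelow.step orb488 64 Cfsg.Agent.CosetCertFi23FP15.orb489c

theorem orb490 : AllBelow (orbOk orbTbl roots cert.sgens table) 31360 := AllBelow.step orb489 64 Cfsg.Agent.CosetCertFi23FP15.orb490c

theorem orb491 : AllBelow (orbOk orbTbl roots cert.sgens table) 31424 := AllBelow.step orb490 64 Cfsg.Agent.CosetCertFi23FP15.orb491c

theorem orb492 : AllBelow (orbOk orbTbl roots cert.sgens table) 31488 := AllBelow.step orb491 64 Cfsg.Agent.CosetCertFi23FP15.orb492c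

theorem orb493 : AllBelow (orbOk orbTbl roots cert.sgens table) 31552 := AllBelow.step orb492 64 Cfsg.Agent.CosetCertFi23FP15.orb493c

theorem orb494 : AllBelow (orbOk orbTbl roots cert.sgens table) 31616 := AllBelow.step orb493 64 Cfsg.Agent.CosetCertFi23FP15.orb494c

theorem orb495 : AllBelow (orbOk orbTbl roots cert.sgens table) 31671 := AllBelow.step orb494 55 Cfsg.Agent.CosetCertFi23FP15.orb495c

theorem good : pres.Good where
  complete := fun a => by cases a <;> decide
  nodes := fun a => by cases a <;> decide
  symm := fun a b => by cases a <;> cases b <;> decide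

theorem table_checked : Checked cert 212551 table where
  npos := by decide +kernel
  gpos := by decide +kernel
  node0 := by decide +kernel
  points := points495
  rels := rels495
  sgens := by decide +kernel
  letters := by decide +kernel

/-- The enumeration. -/
theorem enumerated : Enumerated pres subgens cert 212551 table where
  good := good
  rels := by decide +kernel
  sgens := by decide +kernel
  ng := rfl
  table := table_checked
  facts := fun g base h => valid831 g base h

theorem orbits : AllBelow (orbOk orbTbl roots cert.sgens table) table.N := orb495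

theorem count0 : countLabel orbTbl 0 31671 = 1 := by decide +kernel

theorem count1 : countLabel orbTbl 1 31671 = 28160 := by decide +kernel

theorem count2 : countLabel orbTbl 2 31671 = 3510 := by decide +kernel

end Cfsg.Agent.CosetCertFi23F
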