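import Cfsg.Agent.Lib.CosetCertFi23M2C0
import Cfsg.Agent.Lib.CosetCertFi23M2P0

/-! Cosets of bcdeh in the Coxeter group on bcdefh. -/

set_option autoImplicit false
set_option maxRecDepth 100000

namespace Cfsg.Agent.CosetCertFi23M2

open Cfsg.Agent.CosetCertCore Cfsg.Agent.CosetCertTable Cfsg.Agent.CosetCertOrder Cfsg.Agent.CosetCertFi23M2Data

/-- The facts hold up to `n`. -/
def Valid (n : Nat) : Prop :=
  ∀ {G X : Type} [Group G] [MulAction G X] (g : Nat → G) (base : X),
    Ctx g base cert → AllValid g (nodeVal g base cert) cert n

theorem Valid.step {lo n : Nat} (h : Valid lo) (L : List Nat)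
    (hn : (Nat.beq (lo + L.length) n && checkList cert L lo) = true) : Valid n := by
  rw [Bool.and_eq_true, Nat.beq_eq] at hn
  intro G X _ _ g base hC
  exact hn.1 ▸ checkList_sound g base hC L lo (h g base hC) hn.2

theorem valid0 : Valid 0 := fun _ _ _ _ h => absurd h (Nat.not_lt_zero _)

theorem valid1 : Valid 126 := valid0.step CosetCertFi23M2C0.just0 CosetCertFi23M2C0.check0

theorem points0 : AllBelow (pointOk cert 126 table) 0 := AllBelow.zero _

theorem points1 : AllBelow (pointOk cert 126 table) 27 := AllBelow.step points0 27 CosetCertFi23M2P0.points1c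

/-- The table is closed. -/
theorem closed : Closed cert 126 table where
  npos := by decide +kernel
  node0 := by decide +kernel
  points := points1
  facts := fun g base h => valid1 g base h

end Cfsg.Agent.CosetCertFi23M2
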