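import Cfsg.Agent.Lib.CosetCertFi23M2Data

/-! Cosets of bcdeh in the Coxeter group on bcdefh. -/

set_option autoImplicit false
set_option maxRecDepth 100000
set_option Elab.async false

namespace Cfsg.Agent.CosetCertFi23M2C0

open Cfsg.Agent.CosetCertCore Cfsg.Agent.CosetCertTable Cfsg.Agent.CosetCertOrder
open Cfsg.Agent.CosetCertFi23M2Data

/-- Justifications from fact 0. -/
noncomputable def just0 : List Nat :=
  [0x118,
   0x119,
   0x11a,
   0x11b,
   0x11c,
   0x0,
   0x5000000000500300100307,
   0x500001000050030010030c,
   0x5000020000500300100310,
   0x5000040000500300200216,
   0x0,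
   0xa000060000a00300100306,
   0xa000070000a0030010030b,
   0xa0000500003000050000a00500400213,
   0xa000090000a00300200214,
   0x0,
   0xf0000b0000f00300100305,
   0xf0000a000080000a0000f0050040020f,
   0xf0000d0000f00300200210,
   0x0,
   0x130000f0000c0000f000130050040020a,
   0x1300011000130030020020b,
   0x1300012000130030020020c,
   0x0,
   0x17000100001700300100308,
   0x170000f0000e0000f0001700500300311,
   0x17000110001700300100314,
   0x17000120001700300100316,
   0x0,
   0x1c0001300010000130001c00500400204,
   0x1c000140001c00300200205,
   0x1c000150001c00300200206,
   0x1c000160001c00300200207,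
   0x0,
   0x2100013000170030010030d,
   0x21000150002100300100314,
   0x21000160002100300100316,
   0x0,
   0x250001c0002100300100308,
   0x250001d000250030010030d,
   0x250001f0002500300100314,
   0x25000200002500300100316,
   0x0,
   0x2a0002200019000220002a0050030030a,
   0x2a000240002a00300200210,
   0x2a0002100014000210002a00500400211,
   0x0,
   0x2e000260002a00300100305,
   0x2e000290002e00300200210,
   0x2e000250001e000250002e00500400211,
   0x0,
   0x320002b000320030010030b,
   0x320002a000230002a000320050030030f,
   0x320002d0003200300200214,
   0x0,
   0x360002f0002b0002f0003600500300304,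
   0x360002e000270002e000360050040020a,
   0x3600030000360030020020c,
   0x3600031000360030020020d,
   0x0,
   0x3b0002f0003200300100306,
   0x3b0002e000280002e0003b0050030030f,
   0x3b000310003b00300200214,
   0x0,
   0x3f000330003f0030010030c,
   0x3f000340003f00300100310,
   0x3f000320002c000320003f00500300313,
   0x3f000350003f00300200216,
   0x0,
   0x44000370004400300100306,
   0x44000360003b0030010030b,
   0x440003a0004400300200214,
   0x0,
   0x480003c0003f00300100307,
   0x480003d0004800300100310,
   0x480003b000300003b0004800500300313,
   0x480003e0004800300200216,
   0x0,
   0x4d000450004d00300100305,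
   0x4d000460003d000460004d0050030030a,
   0x4d0004400038000440004d0050040020f,
   0x0,
   0x51000450005100300100307,
   0x5100046000480030010030c,
   0x510004400039000440005100500300313,
   0x51000470005100300200216,
   0x0,
   0x560004e0005600300100307,
   0x560004f000560030010030c,
   0x560004d0005100300100310,
   0x0,
   0x5a0004e0005a00300100308,
   0x5a0004f0005a0030010030d,
   0x5a0004d000470004d0005a00500300311,
   0x5a000500005a00300100314,
   0x0,
   0x5f000570005f00300100306,
   0x5f000580005f0030010030b,
   0x5f0005900054000590005f0050030030f,
   0x5f0005600050000560005f00500400213,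
   0x0,
   0x64000570006400300100308,
   0x6400058000640030010030d,
   0x640005900055000590006400500300311,
   0x64000560005a00300100316,
   0x0,
   0x69000600006900300100308,
   0x6900061000690030010030d,
   0x690005f0006400300100314,
   0x69000630006900300100316,
   0x0,
   0x6e0006a0006e00300100305,
   0x6e0006c000670006c0006e0050040020f,
   0x6e0006d0006e00300200210,
   0x6e0006900062000690006e00500400211,
   0x0,
   0x730006e0006b0006e000730050040020a,
   0x7300070000730030020020b,
   0x7300071000730030020020c,
   0x7300072000730030020020d,
   0x0,
   0x78000730006f000730007800500400204,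
   0x78000740007800300200205,
   0x78000750007800300200206,
   0x78000760007800300200207,
   0x78000770007800300200208]

theorem check0 : (Nat.beq (0 + just0.length) 126 && checkList cert just0 0) = true := by
  decide +kernel

end Cfsg.Agent.CosetCertFi23M2C0
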