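import Cfsg.Agent.Lib.CosetCertFi23M3Data

/-! Cosets of bcde in the Coxeter group on bcdeh. -/

set_option autoImplicit false
set_option maxRecDepth 100000
set_option Elab.async false

namespace Cfsg.Agent.CosetCertFi23M3C0

open Cfsg.Agent.CosetCertCore Cfsg.Agent.CosetCertTable Cfsg.Agent.CosetCertOrder
open Cfsg.Agent.CosetCertFi23M3Data

/-- Justifications from fact 0. -/
noncomputable def just0 : List Nat :=
  [0x112,
   0x113,
   0x114,
   0x115,
   0x0,
   0x4000000000400300100307,
   0x400001000040030010030b,
   0x4000030000400300100310,
   0x0,
   0x8000050000800300100305,
   0x8000040000200004000080050040020e,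
   0x0,
   0xb0000800006000080000b00500400209,
   0xb0000a0000b0030020020b,
   0x0,
   0xe000090000e00300100306,
   0xe0000800007000080000e0050030030d,
   0xe0000a0000e00300200210,
   0x0,
   0x120000b000090000b0001200500400204,
   0x120000c0001200300200205,
   0x120000d0001200300200207,
   0x0,
   0x160000b0000e0030010030a,
   0x160000d0001600300200210,
   0x0,
   0x19000120001600300100306,
   0x1900013000190030010030a,
   0x19000150001900300200210,
   0x0,
   0x1d0001700010000170001d00500300309,
   0x1d000160000c000160001d0050040020d,
   0x0,
   0x200001a0001d00300100305,
   0x20000190001400019000200050040020d,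
   0x0,
   0x230001e000230030010030b,
   0x230001d000180001d000230050030030e,
   0x230001f0002300300100310,
   0x0,
   0x27000210001e000210002700500300304,
   0x27000200001b000200002700500400209,
   0x2700022000270030020020a,
   0x0,
   0x2b000210002300300100307,
   0x2b000200001c000200002b0050030030e,
   0x2b000220002b00300100310,
   0x0,
   0x2f000280002f00300100307,
   0x2f000270002b0030010030b,
   0x2f0002a0002f00300100310,
   0x0,
   0x33000300003300300100305,
   0x33000310002d000310003300500300309,
   0x330002f000290002f000330050040020e,
   0x0,
   0x37000340003700300100306,
   0x3700035000370030010030a,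
   0x37000330003200033000370050030030d,
   0x37000360003700300200210]

theorem check0 : (Nat.beq (0 + just0.length) 60 && checkList cert just0 0) = true := by
  decide +kernel

end Cfsg.Agent.CosetCertFi23M3C0
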