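import Cfsg.Agent.Lib.CosetCertOrder

/-! Cosets of bcde in the Coxeter group on bcdeh. -/

set_option autoImplicit false
set_option maxRecDepth 100000
set_option Elab.async false

namespace Cfsg.Agent.CosetCertFi23M3Data

open Cfsg.Agent.CosetCertCore Cfsg.Agent.CosetCertTable Cfsg.Agent.CosetCertOrder

/-- The certificate. -/
noncomputable def cert : Cert where
  F := (.leaf 0xf00000f500000000f00000f300000000f00000f200000000f00000f100000000f00000e400000000e00000e500000000e00000e200000000e00000e100000000e00000d300000000d00000d400000000d00000c200000000d00000d100000000d00000b500000000c00000c400000000c00000c300000000c00000a100000000c000009500000000b00000b400000000b00000b300000000b00000b100000000b000009200000000a00000a400000000a00000a300000000a00000a200000000a000008500000000900000940000000090000081000000009000007300000000800000840000000080000082000000008000006300000000700000750000000070000072000000007000006100000000700000540000000060000065000000006000004200000000600000340000000050000055000000005000005300000000500000520000000050000031000000004000004500000000400000430000000040000041000000004000002400000000300000350000000030000033000000003000002200000000200000250000000020000021000000002000001300000000100000140000000010000012000000001000001100000000100000050000000000000004000000000000000300000000000000020000000000000001)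
  D := (.leaf 0x37000000330000002f0000002b0000002700000023000000200000001d0000001900000016000000120000000e0000000b000000080000000400000000)
  rels := [[0, 0], [0, 1, 0, 1, 0, 1], [0, 2, 0, 2], [0, 3, 0, 3], [0, 4, 0, 4], [1, 1], [1, 2, 1, 2, 1, 2], [1, 3, 1, 3], [1, 4, 1, 4], [2, 2], [2, 3, 2, 3, 2, 3], [2, 4, 2, 4, 2, 4], [3, 3], [3, 4, 3, 4], [4, 4]]
  sgens := [[0], [1], [2], [3]]

/-- The final table. -/
noncomputable def table : Table where
  T := (.leaf 0xf0000e0000f0000f0000f0000e0000f0000d0000e0000e0000b0000d0000e0000c0000d000090000c0000c0000d0000a0000d0000b0000b000090000b000080000a0000a0000a0000c0000c00009000070000b000080000a0000800006000080000900007000050000900007000060000600003000080000400007000050000700005000050000300004000020000400006000040000300006000030000200005000020000400001000030000200000000010000200001000010000100000000000000000000)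
  E := (.leaf 0x3b000370003a000390003800036000370003300035000340002f000320003300031000300002b0002e0002d000310002c0002f0002a000290002700028000230002600025000240002c0002b00022000200002700021000230001f0001d0001e000210001c00019000200001b0001a00018000160001d000170001a0001500019000140001300012000110000e00010000170000f0000d000160000c0000b000120000a0000e000080000b0000900004000070000800006000050000400003000020000100000)
  Fn := (.leaf 0xf00000e00000d00000c00000b00000a000009000008000007000006000005000004000003000002000001000000)
  Par := (.leaf 0xe30000d20000b4000094000091000084000072000062000053000033000030000023000021000012000004000000)
  N := 16
  NG := 5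

end Cfsg.Agent.CosetCertFi23M3Data
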