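import Cfsg.Agent.Lib.CosetCertFi23QData

/-! Fi23 modulo one element collapses. -/

set_option autoImplicit false
set_option maxRecDepth 100000
set_option Elab.async false

namespace Cfsg.Agent.CosetCertFi23QC1

open Cfsg.Agent.CosetCertCore Cfsg.Agent.CosetCertTable Cfsg.Agent.CosetCertOrder
open Cfsg.Agent.CosetCertFi23QData

/-- Justifications from fact 19968. -/
noncomputable def just78 : List Nat :=
  [0x704df9028f000300000702,
   0x4d5904e0000200000001,
   0x4e0104a8200200000001,
   0x1b04e020369104a9500400000002,
   0x4d7b04e0300200000001,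
   0x4dff04dfe00200000001,
   0x4df704df500200000001,
   0x1004e0503c3004e0600400000002,
   0x4de404e0700200000001,
   0xb5804d150368c04a9700400000002,
   0x4ce704e0900200000001,
   0x4e0404a9500200000001,
   0x404e0b0369000300000402,
   0x4e0804e0600200000001,
   0x404e0d03c3204dfa00400000402,
   0x4e0a04a9700200000001,
   0x4e0e04e0c00200000001,
   0x7e304e0f0368d04e1000400000902,
   0x4dfd04df300200000001,
   0x4e1204e1100200000001,
   0x4e1304dc800200000001,
   0x4e1304dcd00200000001,
   0x4e1304dfd00200000001,
   0x4e1304dc300200000001,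
   0x4e1304dd100200000001,
   0x4e1304dda00200000001,
   0x4de004a9800200000001,
   0x304e1a0275700300000302,
   0x4e1704e1b00200000001,
   0x4cfc04a9b00200000001,
   0x50a04e1d0279300300000802,
   0x2aa304a9d03c3c00300000802,
   0xadf04df80276b04e1e00400000402,
   0xad504df80334b04e1f00400000702,
   0x28e704a9f036a100300000802,
   0x4de604c8d00200000001,
   0x4e2304aa000200000001,
   0x2e904e240202604dad00400000002,
   0x453604e2402c2604e2200400000202,
   0x4df004d9200200000001,
   0x4e2704c8300200000001,
   0x104e2802c5904cd700400000102,
   0x4e1304e2900200000001,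
   0x404e280339c00300000402,
   0x4e0e04e2b00200000001,
   0x4c8704aa400200000001,
   0x4e2a04dac00200000001,
   0x4e2604e2200200000001,
   0x1c3b04e2d0367e04e2f00400000402,
   0x4de604c8e00200000001,
   0x2e904e310339d04e2c00400000002,
   0x4dea04aa800200000001,
   0x4e2104e1f00200000001,
   0x104e330368004e3400400000102,
   0x4e1304e3500200000001,
   0x4dbf04d7d00200000001,
   0x4e3604adc00200000001,
   0x4e3804adb00200000001,
   0x141b04ad102a6604e3900400000702,
   0x4e2004e3a00200000001,
   0x604d510451100300000602,
   0x4e1404e3c00200000001,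
   0x4e3204e2500200000001,
   0x4e3b04e3000200000001,
   0x18bc04c81030c204db700400000502,
   0x4e4004db700200000001,
   0x4e2e04daa00200000001,
   0x4e3e04db600200000001,
   0xde04d5c00200000001,
   0x4e3704d5d00200000001,
   0x4e4404e450462104e3d00400000702,
   0x804d96024c300300000802,
   0x4e1904e4700200000001,
   0x4e1c04da800200000001,
   0x2bef04e4900200000001,
   0x2dc804da90336600300000802,
   0xf04e42033b204e4b00400000402,
   0x4de404e4c00200000001,
   0x4e4d04e4b00200000001,
   0x4e4a04e430281104e4e00400000202,
   0x4e4804e4100200000001,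
   0x4e4a04e5003a0500300000202,
   0x4e4f04e5100200000001,
   0x1c3a04db803a0404e5200400000902,
   0x4e3f04e5300200000001,
   0x4e5404e1300200000001,
   0x4e5404e1600200000001,
   0x4e5404e0e00200000001,
   0x4e5404e1800200000001,
   0x4e5404e1400200000001,
   0x4e5404e1900200000001,
   0x4e5404e1500200000001,
   0x4e5404e1700200000001,
   0x4e5404e4600200000001,
   0x604e5900200000001,
   0x304e5c00200000001,
   0x904e5b00200000001,
   0x504e5800200000001,
   0x804e5a00200000001,
   0x204e5600200000001,
   0x404e5700200000001,
   0x104e5500200000001,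
   0x4e4404e5d00200000001,
   0x4e5400200000001]

theorem check78 : (Nat.beq (19968 + just78.length) 20072 && checkList cert just78 19968) = true := by
  decide +kernel

end Cfsg.Agent.CosetCertFi23QC1
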