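import Cfsg.Agent.Lib.CosetCertFi23QC0
import Cfsg.Agent.Lib.CosetCertFi23QC1
import Cfsg.Agent.Lib.CosetCertFi23QP0

/-! Fi23 modulo one element collapses. -/

set_option autoImplicit false
set_option maxRecDepth 100000

namespace Cfsg.Agent.CosetCertFi23Q

open Cfsg.Agent.CosetCertCore Cfsg.Agent.CosetCertTable Cfsg.Agent.CosetCertOrder Cfsg.Agent.CosetCertFi23QData

/-- The facts hold up to `n`. -/
def Valid (n : Nat) : Prop :=
  ∀ {G X : Type} [Group G] [MulAction G X] (g : Nat → G) (base : X),
    Ctx g base cert → AllValid g (nodeVal g base cert) cert n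

theorem Valid.step {lo n : Nat} (h : Valid lo) (L : List Nat)
    (hn : (Nat.beq (lo + L.length) n && checkList cert L lo) = true) : Valid n := by
  rw [Bool.and_eq_true, Nat.beq_eq] at hn
  intro G X _ _ g base hC
  exact hn.1 ▸ checkList_sound g base hC L lo (h g base hC) hn.2

theorem valid0 : Valid 0 := fun _ _ _ _ h => absurd h (Nat.not_lt_zero _)

theorem valid1 : Valid 256 := valid0.step CosetCertFi23QC0.just0 CosetCertFi23QC0.check0

theorem valid2 : Valid 512 := valid1.step CosetCertFi23QC0.just1 CosetCertFi23QC0.check1

theorem valid3 : Valid 768 := valid2.step CosetCertFi23QC0.just2 CosetCertFi23QC0.check2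

theorem valid4 : Valid 1024 := valid3.step CosetCertFi23QC0.just3 CosetCertFi23QC0.check3

theorem valid5 : Valid 1280 := valid4.step CosetCertFi23QC0.just4 CosetCertFi23QC0.check4

theorem valid6 : Valid 1536 := valid5.step CosetCertFi23QC0.just5 CosetCertFi23QC0.check5

theorem valid7 : Valid 1792 := valid6.step CosetCertFi23QC0.just6 CosetCertFi23QC0.check6

theorem valid8 : Valid 2048 := valid7.step CosetCertFi23QC0.just7 CosetCertFi23QC0.check7

theorem valid9 : Valid 2304 := valid8.step CosetCertFi23QC0.just8 CosetCertFi23QC0.check8

theorem valid10 : Valid 2560 := valid9.step CosetCertFi23QC0.just9 CosetCertFi23QC0.check9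

theorem valid11 : Valid 2816 := valid10.step CosetCertFi23QC0.just10 CosetCertFi23QC0.check10

theorem valid12 : Valid 3072 := valid11.step CosetCertFi23QC0.just11 CosetCertFi23QC0.check11

theorem valid13 : Valid 3328 := valid12.step CosetCertFi23QC0.just12 CosetCertFi23QC0.check12

theorem valid14 : Valid 3584 := valid13.step CosetCertFi23QC0.just13 CosetCertFi23QC0.check13

theorem valid15 : Valid 3840 := valid14.step CosetCertFi23QC0.just14 CosetCertFi23QC0.check14

theorem valid16 : Valid 4096 := valid15.step CosetCertFi23QC0.just15 CosetCertFi23QC0.check15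

theorem valid17 : Valid 4352 := valid16.step CosetCertFi23QC0.just16 CosetCertFi23QC0.check16

theorem valid18 : Valid 4608 := valid17.step CosetCertFi23QC0.just17 CosetCertFi23QC0.check17

theorem valid19 : Valid 4864 := valid18.step CosetCertFi23QC0.just18 CosetCertFi23QC0.check18

theorem valid20 : Valid 5120 := valid19.step CosetCertFi23QC0.just19 CosetCertFi23QC0.check19

theorem valid21 : Valid 5376 := valid20.step CosetCertFi23QC0.just20 CosetCertFi23QC0.check20

theorem valid22 : Valid 5632 := valid21.step CosetCertFi23QC0.just21 CosetCertFi23QC0.check21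

theorem valid23 : Valid 5888 := valid22.step CosetCertFi23QC0.just22 CosetCertFi23QC0.check22

theorem valid24 : Valid 6144 := valid23.step CosetCertFi23QC0.just23 CosetCertFi23QC0.check23

theorem valid25 : Valid 6400 := valid24.step CosetCertFi23QC0.just24 CosetCertFi23QC0.check24

theorem valid26 : Valid 6656 := valid25.step CosetCertFi23QC0.just25 CosetCertFi23QC0.check25

theorem valid27 : Valid 6912 := valid26.step CosetCertFi23QC0.just26 CosetCertFi23QC0.check26

theorem valid28 : Valid 7168 := valid27.step CosetCertFi23QC0.just27 CosetCertFi23QC0.check27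

theorem valid29 : Valid 7424 := valid28.step CosetCertFi23QC0.just28 CosetCertFi23QC0.check28

theorem valid30 : Valid 7680 := valid29.step CosetCertFi23QC0.just29 CosetCertFi23QC0.check29

theorem valid31 : Valid 7936 := valid30.step CosetCertFi23QC0.just30 CosetCertFi23QC0.check30

theorem valid32 : Valid 8192 := valid31.step CosetCertFi23QC0.just31 CosetCertFi23QC0.check31

theorem valid33 : Valid 8448 := valid32.step CosetCertFi23QC0.just32 CosetCertFi23QC0.check32

theorem valid34 : Valid 8704 := valid33.step CosetCertFi23QC0.just33 CosetCertFi23QC0.check33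

theorem valid35 : Valid 8960 := valid34.step CosetCertFi23QC0.just34 CosetCertFi23QC0.check34

theorem valid36 : Valid 9216 := valid35.step CosetCertFi23QC0.just35 CosetCertFi23QC0.check35

theorem valid37 : Valid 9472 := valid36.step CosetCertFi23QC0.just36 CosetCertFi23QC0.check36

theorem valid38 : Valid 9728 := valid37.step CosetCertFi23QC0.just37 CosetCertFi23QC0.check37

theorem valid39 : Valid 9984 := valid38.step CosetCertFi23QC0.just38 CosetCertFi23QC0.check38

theorem valid40 : Valid 10240 := valid39.step CosetCertFi23QC0.just39 CosetCertFi23QC0.check39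

theorem valid41 : Valid 10496 := valid40.step CosetCertFi23QC0.just40 CosetCertFi23QC0.check40

theorem valid42 : Valid 10752 := valid41.step CosetCertFi23QC0.just41 CosetCertFi23QC0.check41

theorem valid43 : Valid 11008 := valid42.step CosetCertFi23QC0.just42 CosetCertFi23QC0.check42

theorem valid44 : Valid 11264 := valid43.step CosetCertFi23QC0.just43 CosetCertFi23QC0.check43

theorem valid45 : Valid 11520 := valid44.step CosetCertFi23QC0.just44 CosetCertFi23QC0.check44

theorem valid46 : Valid 11776 := valid45.step CosetCertFi23QC0.just45 CosetCertFi23QC0.check45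

theorem valid47 : Valid 12032 := valid46.step CosetCertFi23QC0.just46 CosetCertFi23QC0.check46

theorem valid48 : Valid 12288 := valid47.step CosetCertFi23QC0.just47 CosetCertFi23QC0.check47

theorem valid49 : Valid 12544 := valid48.step CosetCertFi23QC0.just48 CosetCertFi23QC0.check48

theorem valid50 : Valid 12800 := valid49.step CosetCertFi23QC0.just49 CosetCertFi23QC0.check49

theorem valid51 : Valid 13056 := valid50.step CosetCertFi23QC0.just50 CosetCertFi23QC0.check50

theorem valid52 : Valid 13312 := valid51.step CosetCertFi23QC0.just51 CosetCertFi23QC0.check51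

theorem valid53 : Valid 13568 := valid52.step CosetCertFi23QC0.just52 CosetCertFi23QC0.check52

theorem valid54 : Valid 13824 := valid53.step CosetCertFi23QC0.just53 CosetCertFi23QC0.check53

theorem valid55 : Valid 14080 := valid54.step CosetCertFi23QC0.just54 CosetCertFi23QC0.check54

theorem valid56 : Valid 14336 := valid55.step CosetCertFi23QC0.just55 CosetCertFi23QC0.check55

theorem valid57 : Valid 14592 := valid56.step CosetCertFi23QC0.just56 CosetCertFi23QC0.check56

theorem valid58 : Valid 14848 := valid57.step CosetCertFi23QC0.just57 CosetCertFi23QC0.check57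

theorem valid59 : Valid 15104 := valid58.step CosetCertFi23QC0.just58 CosetCertFi23QC0.check58

theorem valid60 : Valid 15360 := valid59.step CosetCertFi23QC0.just59 CosetCertFi23QC0.check59

theorem valid61 : Valid 15616 := valid60.step CosetCertFi23QC0.just60 CosetCertFi23QC0.check60

theorem valid62 : Valid 15872 := valid61.step CosetCertFi23QC0.just61 CosetCertFi23QC0.check61

theorem valid63 : Valid 16128 := valid62.step CosetCertFi23QC0.just62 CosetCertFi23QC0.check62

theorem valid64 : Valid 16384 := valid63.step CosetCertFi23QC0.just63 CosetCertFi23QC0.check63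

theorem valid65 : Valid 16640 := valid64.step CosetCertFi23QC0.just64 CosetCertFi23QC0.check64

theorem valid66 : Valid 16896 := valid65.step CosetCertFi23QC0.just65 CosetCertFi23QC0.check65

theorem valid67 : Valid 17152 := valid66.step CosetCertFi23QC0.just66 CosetCertFi23QC0.check66

theorem valid68 : Valid 17408 := valid67.step CosetCertFi23QC0.just67 CosetCertFi23QC0.check67

theorem valid69 : Valid 17664 := valid68.step CosetCertFi23QC0.just68 CosetCertFi23QC0.check68

theorem valid70 : Valid 17920 := valid69.step CosetCertFi23QC0.just69 CosetCertFi23QC0.check69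

theorem valid71 : Valid 18176 := valid70.step CosetCertFi23QC0.just70 CosetCertFi23QC0.check70

theorem valid72 : Valid 18432 := valid71.step CosetCertFi23QC0.just71 CosetCertFi23QC0.check71

theorem valid73 : Valid 18688 := valid72.step CosetCertFi23QC0.just72 CosetCertFi23QC0.check72

theorem valid74 : Valid 18944 := valid73.step CosetCertFi23QC0.just73 CosetCertFi23QC0.check73

theorem valid75 : Valid 19200 := valid74.step CosetCertFi23QC0.just74 CosetCertFi23QC0.check74

theorem valid76 : Valid 19456 := valid75.step CosetCertFi23QC0.just75 CosetCertFi23QC0.check75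

theorem valid77 : Valid 19712 := valid76.step CosetCertFi23QC0.just76 CosetCertFi23QC0.check76

theorem valid78 : Valid 19968 := valid77.step CosetCertFi23QC0.just77 CosetCertFi23QC0.check77

theorem valid79 : Valid 20072 := valid78.step CosetCertFi23QC1.just78 CosetCertFi23QC1.check78

theorem points0 : AllBelow (pointOk cert 20072 table) 0 := AllBelow.zero _

theorem points1 : AllBelow (pointOk cert 20072 table) 1 := AllBelow.step points0 1 CosetCertFi23QP0.points1c

/-- The table is closed. -/
theorem closed : Closed cert 20072 table where
  npos := by decide +kernel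
  node0 := by decide +kernel
  points := points1
  facts := fun g base h => valid79 g base h

end Cfsg.Agent.CosetCertFi23Q
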