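import Cfsg.Agent.Lib.CosetCertFi23S1Data

/-! Enumeration of bcdefghi in abcdefghi inside Fi23. -/

set_option autoImplicit false
set_option maxRecDepth 100000
set_option Elab.async false

namespace Cfsg.Agent.CosetCertFi23S1P1

open Cfsg.Agent.CosetCertCore Cfsg.Agent.CosetCertTable Cfsg.Agent.CosetCertOrder
open Cfsg.Agent.CosetCertFi23S1Data

theorem points63c : allFrom (pointOk cert 75348 table) 128 7936 = true := by decide +kernel

theorem points64c : allFrom (pointOk cert 75348 table) 128 8064 = true := by decide +kernel

theorem points65c : allFrom (pointOk cert 75348 table) 128 8192 = true := by decide +kernel

theorem points66c : allFrom (pointOk cert 75348 table) 128 8320 = true := by decide +kernel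

theorem points67c : allFrom (pointOk cert 75348 table) 128 8448 = true := by decide +kernel

theorem points68c : allFrom (pointOk cert 75348 table) 128 8576 = true := by decide +kernel

theorem points69c : allFrom (pointOk cert 75348 table) 128 8704 = true := by decide +kernel

theorem points70c : allFrom (pointOk cert 75348 table) 128 8832 = true := by decide +kernel

theorem points71c : allFrom (pointOk cert 75348 table) 128 8960 = true := by decide +kernel

theorem points72c : allFrom (pointOk cert 75348 table) 128 9088 = true := by decide +kernel

theorem points73c : allFrom (pointOk cert 75348 table) 128 9216 = true := by decide +kernel

theorem points74c : allFrom (pointOk cert 75348 table) 128 9344 = true := by decide +kernel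

theorem points75c : allFrom (pointOk cert 75348 table) 128 9472 = true := by decide +kernel

theorem points76c : allFrom (pointOk cert 75348 table) 128 9600 = true := by decide +kernel

theorem points77c : allFrom (pointOk cert 75348 table) 128 9728 = true := by decide +kernel

theorem points78c : allFrom (pointOk cert 75348 table) 128 9856 = true := by decide +kernel

theorem points79c : allFrom (pointOk cert 75348 table) 128 9984 = true := by decide +kernel

theorem points80c : allFrom (pointOk cert 75348 table) 128 10112 = true := by decide +kernel

theorem points81c : allFrom (pointOk cert 75348 table) 128 10240 = true := by decide +kernel

theorem points82c : allFrom (pointOk cert 75348 table) 128 10368 = true := by decide +kernel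

theorem points83c : allFrom (pointOk cert 75348 table) 128 10496 = true := by decide +kernel

theorem points84c : allFrom (pointOk cert 75348 table) 128 10624 = true := by decide +kernel

theorem points85c : allFrom (pointOk cert 75348 table) 128 10752 = true := by decide +kernel

theorem points86c : allFrom (pointOk cert 75348 table) 128 10880 = true := by decide +kernel

theorem points87c : allFrom (pointOk cert 75348 table) 128 11008 = true := by decide +kernel

theorem points88c : allFrom (pointOk cert 75348 table) 128 11136 = true := by decide +kernel

theorem points89c : allFrom (pointOk cert 75348 table) 128 11264 = true := by decide +kernel

theorem points90c : allFrom (pointOk cert 75348 table) 128 11392 = true := by decide +kernel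

theorem points91c : allFrom (pointOk cert 75348 table) 128 11520 = true := by decide +kernel

theorem points92c : allFrom (pointOk cert 75348 table) 128 11648 = true := by decide +kernel

theorem points93c : allFrom (pointOk cert 75348 table) 128 11776 = true := by decide +kernel

theorem points94c : allFrom (pointOk cert 75348 table) 128 11904 = true := by decide +kernel

theorem points95c : allFrom (pointOk cert 75348 table) 128 12032 = true := by decide +kernel

theorem points96c : allFrom (pointOk cert 75348 table) 128 12160 = true := by decide +kernel

theorem points97c : allFrom (pointOk cert 75348 table) 128 12288 = true := by decide +kernel

theorem points98c : allFrom (pointOk cert 75348 table) 128 12416 = true := by decide +kernel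

theorem points99c : allFrom (pointOk cert 75348 table) 128 12544 = true := by decide +kernel

theorem points100c : allFrom (pointOk cert 75348 table) 128 12672 = true := by decide +kernel

theorem points101c : allFrom (pointOk cert 75348 table) 128 12800 = true := by decide +kernel

theorem points102c : allFrom (pointOk cert 75348 table) 128 12928 = true := by decide +kernel

theorem points103c : allFrom (pointOk cert 75348 table) 128 13056 = true := by decide +kernel

theorem points104c : allFrom (pointOk cert 75348 table) 128 13184 = true := by decide +kernel

theorem points105c : allFrom (pointOk cert 75348 table) 128 13312 = true := by decide +kernel

theorem points106c : allFrom (pointOk cert 75348 table) 128 13440 = true := by decide +kernel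

theorem points107c : allFrom (pointOk cert 75348 table) 128 13568 = true := by decide +kernel

theorem points108c : allFrom (pointOk cert 75348 table) 128 13696 = true := by decide +kernel

theorem points109c : allFrom (pointOk cert 75348 table) 128 13824 = true := by decide +kernel

theorem points110c : allFrom (pointOk cert 75348 table) 128 13952 = true := by decide +kernel

end Cfsg.Agent.CosetCertFi23S1P1
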