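import Cfsg.Agent.Lib.CosetCertFi23S1C0
import Cfsg.Agent.Lib.CosetCertFi23S1C1
import Cfsg.Agent.Lib.CosetCertFi23S1C2
import Cfsg.Agent.Lib.CosetCertFi23S1C3
import Cfsg.Agent.Lib.CosetCertFi23S1P0
import Cfsg.Agent.Lib.CosetCertFi23S1P1

/-! Enumeration of bcdefghi in abcdefghi inside Fi23. -/

set_option autoImplicit false
set_option maxRecDepth 100000

namespace Cfsg.Agent.CosetCertFi23S1

open Cfsg.Agent.CosetCertCore Cfsg.Agent.CosetCertTable Cfsg.Agent.CosetCertOrder Cfsg.Agent.CosetCertFi23S1Data

/-- The facts hold up to `n`. -/
def Valid (n : Nat) : Prop :=
  ∀ {G X : Type} [Group G] [MulAction G X] (g : Nat → G) (base : X),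
    Ctx g base cert → AllValid g (nodeVal g base cert) cert n

theorem Valid.step {lo n : Nat} (h : Valid lo) (L : List Nat)
    (hn : (Nat.beq (lo + L.length) n && checkList cert L lo) = true) : Valid n := by
  rw [Bool.and_eq_true, Nat.beq_eq] at hn
  intro G X _ _ g base hC
  exact hn.1 ▸ checkList_sound g base hC L lo (h g base hC) hn.2

theorem valid0 : Valid 0 := fun _ _ _ _ h => absurd h (Nat.not_lt_zero _)

theorem valid1 : Valid 256 := valid0.step CosetCertFi23S1C0.just0 CosetCertFi23S1C0.check0

theorem valid2 : Valid 512 := valid1.step CosetCertFi23S1C0.just1 CosetCertFi23S1C0.check1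

theorem valid3 : Valid 768 := valid2.step CosetCertFi23S1C0.just2 CosetCertFi23S1C0.check2

theorem valid4 : Valid 1024 := valid3.step CosetCertFi23S1C0.just3 CosetCertFi23S1C0.check3

theorem valid5 : Valid 1280 := valid4.step CosetCertFi23S1C0.just4 CosetCertFi23S1C0.check4

theorem valid6 : Valid 1536 := valid5.step CosetCertFi23S1C0.just5 CosetCertFi23S1C0.check5

theorem valid7 : Valid 1792 := valid6.step CosetCertFi23S1C0.just6 CosetCertFi23S1C0.check6

theorem valid8 : Valid 2048 := valid7.step CosetCertFi23S1C0.just7 CosetCertFi23S1C0.check7

theorem valid9 : Valid 2304 := valid8.step CosetCertFi23S1C0.just8 CosetCertFi23S1C0.check8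

theorem valid10 : Valid 2560 := valid9.step CosetCertFi23S1C0.just9 CosetCertFi23S1C0.check9

theorem valid11 : Valid 2816 := valid10.step CosetCertFi23S1C0.just10 CosetCertFi23S1C0.check10

theorem valid12 : Valid 3072 := valid11.step CosetCertFi23S1C0.just11 CosetCertFi23S1C0.check11

theorem valid13 : Valid 3328 := valid12.step CosetCertFi23S1C0.just12 CosetCertFi23S1C0.check12

theorem valid14 : Valid 3584 := valid13.step CosetCertFi23S1C0.just13 CosetCertFi23S1C0.check13

theorem valid15 : Valid 3840 := valid14.step CosetCertFi23S1C0.just14 CosetCertFi23S1C0.check14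

theorem valid16 : Valid 4096 := valid15.step CosetCertFi23S1C0.just15 CosetCertFi23S1C0.check15

theorem valid17 : Valid 4352 := valid16.step CosetCertFi23S1C0.just16 CosetCertFi23S1C0.check16

theorem valid18 : Valid 4608 := valid17.step CosetCertFi23S1C0.just17 CosetCertFi23S1C0.check17

theorem valid19 : Valid 4864 := valid18.step CosetCertFi23S1C0.just18 CosetCertFi23S1C0.check18

theorem valid20 : Valid 5120 := valid19.step CosetCertFi23S1C0.just19 CosetCertFi23S1C0.check19

theorem valid21 : Valid 5376 := valid20.step CosetCertFi23S1C0.just20 CosetCertFi23S1C0.check20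

theorem valid22 : Valid 5632 := valid21.step CosetCertFi23S1C0.just21 CosetCertFi23S1C0.check21

theorem valid23 : Valid 5888 := valid22.step CosetCertFi23S1C0.just22 CosetCertFi23S1C0.check22

theorem valid24 : Valid 6144 := valid23.step CosetCertFi23S1C0.just23 CosetCertFi23S1C0.check23

theorem valid25 : Valid 6400 := valid24.step CosetCertFi23S1C0.just24 CosetCertFi23S1C0.check24

theorem valid26 : Valid 6656 := valid25.step CosetCertFi23S1C0.just25 CosetCertFi23S1C0.check25

theorem valid27 : Valid 6912 := valid26.step CosetCertFi23S1C0.just26 CosetCertFi23S1C0.check26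

theorem valid28 : Valid 7168 := valid27.step CosetCertFi23S1C0.just27 CosetCertFi23S1C0.check27

theorem valid29 : Valid 7424 := valid28.step CosetCertFi23S1C0.just28 CosetCertFi23S1C0.check28

theorem valid30 : Valid 7680 := valid29.step CosetCertFi23S1C0.just29 CosetCertFi23S1C0.check29

theorem valid31 : Valid 7936 := valid30.step CosetCertFi23S1C0.just30 CosetCertFi23S1C0.check30

theorem valid32 : Valid 8192 := valid31.step CosetCertFi23S1C0.just31 CosetCertFi23S1C0.check31

theorem valid33 : Valid 8448 := valid32.step CosetCertFi23S1C0.just32 CosetCertFi23S1C0.check32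

theorem valid34 : Valid 8704 := valid33.step CosetCertFi23S1C0.just33 CosetCertFi23S1C0.check33

theorem valid35 : Valid 8960 := valid34.step CosetCertFi23S1C0.just34 CosetCertFi23S1C0.check34

theorem valid36 : Valid 9216 := valid35.step CosetCertFi23S1C0.just35 CosetCertFi23S1C0.check35

theorem valid37 : Valid 9472 := valid36.step CosetCertFi23S1C0.just36 CosetCertFi23S1C0.check36

theorem valid38 : Valid 9728 := valid37.step CosetCertFi23S1C0.just37 CosetCertFi23S1C0.check37

theorem valid39 : Valid 9984 := valid38.step CosetCertFi23S1C0.just38 CosetCertFi23S1C0.check38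

theorem valid40 : Valid 10240 := valid39.step CosetCertFi23S1C0.just39 CosetCertFi23S1C0.check39

theorem valid41 : Valid 10496 := valid40.step CosetCertFi23S1C0.just40 CosetCertFi23S1C0.check40

theorem valid42 : Valid 10752 := valid41.step CosetCertFi23S1C0.just41 CosetCertFi23S1C0.check41

theorem valid43 : Valid 11008 := valid42.step CosetCertFi23S1C0.just42 CosetCertFi23S1C0.check42

theorem valid44 : Valid 11264 := valid43.step CosetCertFi23S1C0.just43 CosetCertFi23S1C0.check43

theorem valid45 : Valid 11520 := valid44.step CosetCertFi23S1C0.just44 CosetCertFi23S1C0.check44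

theorem valid46 : Valid 11776 := valid45.step CosetCertFi23S1C0.just45 CosetCertFi23S1C0.check45

theorem valid47 : Valid 12032 := valid46.step CosetCertFi23S1C0.just46 CosetCertFi23S1C0.check46

theorem valid48 : Valid 12288 := valid47.step CosetCertFi23S1C0.just47 CosetCertFi23S1C0.check47

theorem valid49 : Valid 12544 := valid48.step CosetCertFi23S1C0.just48 CosetCertFi23S1C0.check48

theorem valid50 : Valid 12800 := valid49.step CosetCertFi23S1C0.just49 CosetCertFi23S1C0.check49

theorem valid51 : Valid 13056 := valid50.step CosetCertFi23S1C0.just50 CosetCertFi23S1C0.check50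

theorem valid52 : Valid 13312 := valid51.step CosetCertFi23S1C0.just51 CosetCertFi23S1C0.check51

theorem valid53 : Valid 13568 := valid52.step CosetCertFi23S1C0.just52 CosetCertFi23S1C0.check52

theorem valid54 : Valid 13824 := valid53.step CosetCertFi23S1C0.just53 CosetCertFi23S1C0.check53

theorem valid55 : Valid 14080 := valid54.step CosetCertFi23S1C0.just54 CosetCertFi23S1C0.check54

theorem valid56 : Valid 14336 := valid55.step CosetCertFi23S1C0.just55 CosetCertFi23S1C0.check55

theorem valid57 : Valid 14592 := valid56.step CosetCertFi23S1C0.just56 CosetCertFi23S1C0.check56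

theorem valid58 : Valid 14848 := valid57.step CosetCertFi23S1C0.just57 CosetCertFi23S1C0.check57

theorem valid59 : Valid 15104 := valid58.step CosetCertFi23S1C0.just58 CosetCertFi23S1C0.check58

theorem valid60 : Valid 15360 := valid59.step CosetCertFi23S1C0.just59 CosetCertFi23S1C0.check59

theorem valid61 : Valid 15616 := valid60.step CosetCertFi23S1C0.just60 CosetCertFi23S1C0.check60

theorem valid62 : Valid 15872 := valid61.step CosetCertFi23S1C0.just61 CosetCertFi23S1C0.check61

theorem valid63 : Valid 16128 := valid62.step CosetCertFi23S1C0.just62 CosetCertFi23S1C0.check62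

theorem valid64 : Valid 16384 := valid63.step CosetCertFi23S1C0.just63 CosetCertFi23S1C0.check63

theorem valid65 : Valid 16640 := valid64.step CosetCertFi23S1C0.just64 CosetCertFi23S1C0.check64

theorem valid66 : Valid 16896 := valid65.step CosetCertFi23S1C0.just65 CosetCertFi23S1C0.check65

theorem valid67 : Valid 17152 := valid66.step CosetCertFi23S1C0.just66 CosetCertFi23S1C0.check66

theorem valid68 : Valid 17408 := valid67.step CosetCertFi23S1C0.just67 CosetCertFi23S1C0.check67

theorem valid69 : Valid 17664 := valid68.step CosetCertFi23S1C0.just68 CosetCertFi23S1C0.check68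

theorem valid70 : Valid 17920 := valid69.step CosetCertFi23S1C0.just69 CosetCertFi23S1C0.check69

theorem valid71 : Valid 18176 := valid70.step CosetCertFi23S1C0.just70 CosetCertFi23S1C0.check70

theorem valid72 : Valid 18432 := valid71.step CosetCertFi23S1C0.just71 CosetCertFi23S1C0.check71

theorem valid73 : Valid 18688 := valid72.step CosetCertFi23S1C0.just72 CosetCertFi23S1C0.check72

theorem valid74 : Valid 18944 := valid73.step CosetCertFi23S1C0.just73 CosetCertFi23S1C0.check73

theorem valid75 : Valid 19200 := valid74.step CosetCertFi23S1C0.just74 CosetCertFi23S1C0.check74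

theorem valid76 : Valid 19456 := valid75.step CosetCertFi23S1C0.just75 CosetCertFi23S1C0.check75

theorem valid77 : Valid 19712 := valid76.step CosetCertFi23S1C0.just76 CosetCertFi23S1C0.check76

theorem valid78 : Valid 19968 := valid77.step CosetCertFi23S1C0.just77 CosetCertFi23S1C0.check77

theorem valid79 : Valid 20224 := valid78.step CosetCertFi23S1C1.just78 CosetCertFi23S1C1.check78

theorem valid80 : Valid 20480 := valid79.step CosetCertFi23S1C1.just79 CosetCertFi23S1C1.check79

theorem valid81 : Valid 20736 := valid80.step CosetCertFi23S1C1.just80 CosetCertFi23S1C1.check80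

theorem valid82 : Valid 20992 := valid81.step CosetCertFi23S1C1.just81 CosetCertFi23S1C1.check81

theorem valid83 : Valid 21248 := valid82.step CosetCertFi23S1C1.just82 CosetCertFi23S1C1.check82

theorem valid84 : Valid 21504 := valid83.step CosetCertFi23S1C1.just83 CosetCertFi23S1C1.check83

theorem valid85 : Valid 21760 := valid84.step CosetCertFi23S1C1.just84 CosetCertFi23S1C1.check84

theorem valid86 : Valid 22016 := valid85.step CosetCertFi23S1C1.just85 CosetCertFi23S1C1.check85

theorem valid87 : Valid 22272 := valid86.step CosetCertFi23S1C1.just86 CosetCertFi23S1C1.check86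

theorem valid88 : Valid 22528 := valid87.step CosetCertFi23S1C1.just87 CosetCertFi23S1C1.check87

theorem valid89 : Valid 22784 := valid88.step CosetCertFi23S1C1.just88 CosetCertFi23S1C1.check88

theorem valid90 : Valid 23040 := valid89.step CosetCertFi23S1C1.just89 CosetCertFi23S1C1.check89

theorem valid91 : Valid 23296 := valid90.step CosetCertFi23S1C1.just90 CosetCertFi23S1C1.check90

theorem valid92 : Valid 23552 := valid91.step CosetCertFi23S1C1.just91 CosetCertFi23S1C1.check91

theorem valid93 : Valid 23808 := valid92.step CosetCertFi23S1C1.just92 CosetCertFi23S1C1.check92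

theorem valid94 : Valid 24064 := valid93.step CosetCertFi23S1C1.just93 CosetCertFi23S1C1.check93

theorem valid95 : Valid 24320 := valid94.step CosetCertFi23S1C1.just94 CosetCertFi23S1C1.check94

theorem valid96 : Valid 24576 := valid95.step CosetCertFi23S1C1.just95 CosetCertFi23S1C1.check95

theorem valid97 : Valid 24832 := valid96.step CosetCertFi23S1C1.just96 CosetCertFi23S1C1.check96

theorem valid98 : Valid 25088 := valid97.step CosetCertFi23S1C1.just97 CosetCertFi23S1C1.check97

theorem valid99 : Valid 25344 := valid98.step CosetCertFi23S1C1.just98 CosetCertFi23S1C1.check98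

theorem valid100 : Valid 25600 := valid99.step CosetCertFi23S1C1.just99 CosetCertFi23S1C1.check99

theorem valid101 : Valid 25856 := valid100.step CosetCertFi23S1C1.just100 CosetCertFi23S1C1.check100

theorem valid102 : Valid 26112 := valid101.step CosetCertFi23S1C1.just101 CosetCertFi23S1C1.check101

theorem valid103 : Valid 26368 := valid102.step CosetCertFi23S1C1.just102 CosetCertFi23S1C1.check102

theorem valid104 : Valid 26624 := valid103.step CosetCertFi23S1C1.just103 CosetCertFi23S1C1.check103

theorem valid105 : Valid 26880 := valid104.step CosetCertFi23S1C1.just104 CosetCertFi23S1C1.check104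

theorem valid106 : Valid 27136 := valid105.step CosetCertFi23S1C1.just105 CosetCertFi23S1C1.check105

theorem valid107 : Valid 27392 := valid106.step CosetCertFi23S1C1.just106 CosetCertFi23S1C1.check106

theorem valid108 : Valid 27648 := valid107.step CosetCertFi23S1C1.just107 CosetCertFi23S1C1.check107

theorem valid109 : Valid 27904 := valid108.step CosetCertFi23S1C1.just108 CosetCertFi23S1C1.check108

theorem valid110 : Valid 28160 := valid109.step CosetCertFi23S1C1.just109 CosetCertFi23S1C1.check109

theorem valid111 : Valid 28416 := valid110.step CosetCertFi23S1C1.just110 CosetCertFi23S1C1.check110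

theorem valid112 : Valid 28672 := valid111.step CosetCertFi23S1C1.just111 CosetCertFi23S1C1.check111

theorem valid113 : Valid 28928 := valid112.step CosetCertFi23S1C1.just112 CosetCertFi23S1C1.check112

theorem valid114 : Valid 29184 := valid113.step CosetCertFi23S1C1.just113 CosetCertFi23S1C1.check113

theorem valid115 : Valid 29440 := valid114.step CosetCertFi23S1C1.just114 CosetCertFi23S1C1.check114

theorem valid116 : Valid 29696 := valid115.step CosetCertFi23S1C1.just115 CosetCertFi23S1C1.check115

theorem valid117 : Valid 29952 := valid116.step CosetCertFi23S1C1.just116 CosetCertFi23S1C1.check116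

theorem valid118 : Valid 30208 := valid117.step CosetCertFi23S1C1.just117 CosetCertFi23S1C1.check117

theorem valid119 : Valid 30464 := valid118.step CosetCertFi23S1C1.just118 CosetCertFi23S1C1.check118

theorem valid120 : Valid 30720 := valid119.step CosetCertFi23S1C1.just119 CosetCertFi23S1C1.check119

theorem valid121 : Valid 30976 := valid120.step CosetCertFi23S1C1.just120 CosetCertFi23S1C1.check120

theorem valid122 : Valid 31232 := valid121.step CosetCertFi23S1C1.just121 CosetCertFi23S1C1.check121

theorem valid123 : Valid 31488 := valid122.step CosetCertFi23S1C1.just122 CosetCertFi23S1C1.check122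

theorem valid124 : Valid 31744 := valid123.step CosetCertFi23S1C1.just123 CosetCertFi23S1C1.check123

theorem valid125 : Valid 32000 := valid124.step CosetCertFi23S1C1.just124 CosetCertFi23S1C1.check124

theorem valid126 : Valid 32256 := valid125.step CosetCertFi23S1C1.just125 CosetCertFi23S1C1.check125

theorem valid127 : Valid 32512 := valid126.step CosetCertFi23S1C1.just126 CosetCertFi23S1C1.check126

theorem valid128 : Valid 32768 := valid127.step CosetCertFi23S1C1.just127 CosetCertFi23S1C1.check127

theorem valid129 : Valid 33024 := valid128.step CosetCertFi23S1C1.just128 CosetCertFi23S1C1.check128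

theorem valid130 : Valid 33280 := valid129.step CosetCertFi23S1C1.just129 CosetCertFi23S1C1.check129

theorem valid131 : Valid 33536 := valid130.step CosetCertFi23S1C1.just130 CosetCertFi23S1C1.check130

theorem valid132 : Valid 33792 := valid131.step CosetCertFi23S1C1.just131 CosetCertFi23S1C1.check131

theorem valid133 : Valid 34048 := valid132.step CosetCertFi23S1C1.just132 CosetCertFi23S1C1.check132

theorem valid134 : Valid 34304 := valid133.step CosetCertFi23S1C1.just133 CosetCertFi23S1C1.check133

theorem valid135 : Valid 34560 := valid134.step CosetCertFi23S1C1.just134 CosetCertFi23S1C1.check134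

theorem valid136 : Valid 34816 := valid135.step CosetCertFi23S1C1.just135 CosetCertFi23S1C1.check135

theorem valid137 : Valid 35072 := valid136.step CosetCertFi23S1C1.just136 CosetCertFi23S1C1.check136

theorem valid138 : Valid 35328 := valid137.step CosetCertFi23S1C1.just137 CosetCertFi23S1C1.check137

theorem valid139 : Valid 35584 := valid138.step CosetCertFi23S1C1.just138 CosetCertFi23S1C1.check138

theorem valid140 : Valid 35840 := valid139.step CosetCertFi23S1C1.just139 CosetCertFi23S1C1.check139

theorem valid141 : Valid 36096 := valid140.step CosetCertFi23S1C1.just140 CosetCertFi23S1C1.check140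

theorem valid142 : Valid 36352 := valid141.step CosetCertFi23S1C1.just141 CosetCertFi23S1C1.check141

theorem valid143 : Valid 36608 := valid142.step CosetCertFi23S1C1.just142 CosetCertFi23S1C1.check142

theorem valid144 : Valid 36864 := valid143.step CosetCertFi23S1C1.just143 CosetCertFi23S1C1.check143

theorem valid145 : Valid 37120 := valid144.step CosetCertFi23S1C1.just144 CosetCertFi23S1C1.check144

theorem valid146 : Valid 37376 := valid145.step CosetCertFi23S1C1.just145 CosetCertFi23S1C1.check145

theorem valid147 : Valid 37632 := valid146.step CosetCertFi23S1C1.just146 CosetCertFi23S1C1.check146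

theorem valid148 : Valid 37888 := valid147.step CosetCertFi23S1C1.just147 CosetCertFi23S1C1.check147

theorem valid149 : Valid 38144 := valid148.step CosetCertFi23S1C1.just148 CosetCertFi23S1C1.check148

theorem valid150 : Valid 38400 := valid149.step CosetCertFi23S1C1.just149 CosetCertFi23S1C1.check149

theorem valid151 : Valid 38656 := valid150.step CosetCertFi23S1C1.just150 CosetCertFi23S1C1.check150

theorem valid152 : Valid 38912 := valid151.step CosetCertFi23S1C1.just151 CosetCertFi23S1C1.check151

theorem valid153 : Valid 39168 := valid152.step CosetCertFi23S1C1.just152 CosetCertFi23S1C1.check152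

theorem valid154 : Valid 39424 := valid153.step CosetCertFi23S1C1.just153 CosetCertFi23S1C1.check153

theorem valid155 : Valid 39680 := valid154.step CosetCertFi23S1C1.just154 CosetCertFi23S1C1.check154

theorem valid156 : Valid 39936 := valid155.step CosetCertFi23S1C1.just155 CosetCertFi23S1C1.check155

theorem valid157 : Valid 40192 := valid156.step CosetCertFi23S1C2.just156 CosetCertFi23S1C2.check156

theorem valid158 : Valid 40448 := valid157.step CosetCertFi23S1C2.just157 CosetCertFi23S1C2.check157

theorem valid159 : Valid 40704 := valid158.step CosetCertFi23S1C2.just158 CosetCertFi23S1C2.check158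

theorem valid160 : Valid 40960 := valid159.step CosetCertFi23S1C2.just159 CosetCertFi23S1C2.check159

theorem valid161 : Valid 41216 := valid160.step CosetCertFi23S1C2.just160 CosetCertFi23S1C2.check160

theorem valid162 : Valid 41472 := valid161.step CosetCertFi23S1C2.just161 CosetCertFi23S1C2.check161

theorem valid163 : Valid 41728 := valid162.step CosetCertFi23S1C2.just162 CosetCertFi23S1C2.check162

theorem valid164 : Valid 41984 := valid163.step CosetCertFi23S1C2.just163 CosetCertFi23S1C2.check163

theorem valid165 : Valid 42240 := valid164.step CosetCertFi23S1C2.just164 CosetCertFi23S1C2.check164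

theorem valid166 : Valid 42496 := valid165.step CosetCertFi23S1C2.just165 CosetCertFi23S1C2.check165

theorem valid167 : Valid 42752 := valid166.step CosetCertFi23S1C2.just166 CosetCertFi23S1C2.check166

theorem valid168 : Valid 43008 := valid167.step CosetCertFi23S1C2.just167 CosetCertFi23S1C2.check167

theorem valid169 : Valid 43264 := valid168.step CosetCertFi23S1C2.just168 CosetCertFi23S1C2.check168

theorem valid170 : Valid 43520 := valid169.step CosetCertFi23S1C2.just169 CosetCertFi23S1C2.check169

theorem valid171 : Valid 43776 := valid170.step CosetCertFi23S1C2.just170 CosetCertFi23S1C2.check170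

theorem valid172 : Valid 44032 := valid171.step CosetCertFi23S1C2.just171 CosetCertFi23S1C2.check171

theorem valid173 : Valid 44288 := valid172.step CosetCertFi23S1C2.just172 CosetCertFi23S1C2.check172

theorem valid174 : Valid 44544 := valid173.step CosetCertFi23S1C2.just173 CosetCertFi23S1C2.check173

theorem valid175 : Valid 44800 := valid174.step CosetCertFi23S1C2.just174 CosetCertFi23S1C2.check174

theorem valid176 : Valid 45056 := valid175.step CosetCertFi23S1C2.just175 CosetCertFi23S1C2.check175

theorem valid177 : Valid 45312 := valid176.step CosetCertFi23S1C2.just176 CosetCertFi23S1C2.check176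

theorem valid178 : Valid 45568 := valid177.step CosetCertFi23S1C2.just177 CosetCertFi23S1C2.check177

theorem valid179 : Valid 45824 := valid178.step CosetCertFi23S1C2.just178 CosetCertFi23S1C2.check178

theorem valid180 : Valid 46080 := valid179.step CosetCertFi23S1C2.just179 CosetCertFi23S1C2.check179

theorem valid181 : Valid 46336 := valid180.step CosetCertFi23S1C2.just180 CosetCertFi23S1C2.check180

theorem valid182 : Valid 46592 := valid181.step CosetCertFi23S1C2.just181 CosetCertFi23S1C2.check181

theorem valid183 : Valid 46848 := valid182.step CosetCertFi23S1C2.just182 CosetCertFi23S1C2.check182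

theorem valid184 : Valid 47104 := valid183.step CosetCertFi23S1C2.just183 CosetCertFi23S1C2.check183

theorem valid185 : Valid 47360 := valid184.step CosetCertFi23S1C2.just184 CosetCertFi23S1C2.check184

theorem valid186 : Valid 47616 := valid185.step CosetCertFi23S1C2.just185 CosetCertFi23S1C2.check185

theorem valid187 : Valid 47872 := valid186.step CosetCertFi23S1C2.just186 CosetCertFi23S1C2.check186

theorem valid188 : Valid 48128 := valid187.step CosetCertFi23S1C2.just187 CosetCertFi23S1C2.check187

theorem valid189 : Valid 48384 := valid188.step CosetCertFi23S1C2.just188 CosetCertFi23S1C2.check188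

theorem valid190 : Valid 48640 := valid189.step CosetCertFi23S1C2.just189 CosetCertFi23S1C2.check189

theorem valid191 : Valid 48896 := valid190.step CosetCertFi23S1C2.just190 CosetCertFi23S1C2.check190

theorem valid192 : Valid 49152 := valid191.step CosetCertFi23S1C2.just191 CosetCertFi23S1C2.check191

theorem valid193 : Valid 49408 := valid192.step CosetCertFi23S1C2.just192 CosetCertFi23S1C2.check192

theorem valid194 : Valid 49664 := valid193.step CosetCertFi23S1C2.just193 CosetCertFi23S1C2.check193

theorem valid195 : Valid 49920 := valid194.step CosetCertFi23S1C2.just194 CosetCertFi23S1C2.check194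

theorem valid196 : Valid 50176 := valid195.step CosetCertFi23S1C2.just195 CosetCertFi23S1C2.check195

theorem valid197 : Valid 50432 := valid196.step CosetCertFi23S1C2.just196 CosetCertFi23S1C2.check196

theorem valid198 : Valid 50688 := valid197.step CosetCertFi23S1C2.just197 CosetCertFi23S1C2.check197

theorem valid199 : Valid 50944 := valid198.step CosetCertFi23S1C2.just198 CosetCertFi23S1C2.check198

theorem valid200 : Valid 51200 := valid199.step CosetCertFi23S1C2.just199 CosetCertFi23S1C2.check199

theorem valid201 : Valid 51456 := valid200.step CosetCertFi23S1C2.just200 CosetCertFi23S1C2.check200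

theorem valid202 : Valid 51712 := valid201.step CosetCertFi23S1C2.just201 CosetCertFi23S1C2.check201

theorem valid203 : Valid 51968 := valid202.step CosetCertFi23S1C2.just202 CosetCertFi23S1C2.check202

theorem valid204 : Valid 52224 := valid203.step CosetCertFi23S1C2.just203 CosetCertFi23S1C2.check203

theorem valid205 : Valid 52480 := valid204.step CosetCertFi23S1C2.just204 CosetCertFi23S1C2.check204

theorem valid206 : Valid 52736 := valid205.step CosetCertFi23S1C2.just205 CosetCertFi23S1C2.check205

theorem valid207 : Valid 52992 := valid206.step CosetCertFi23S1C2.just206 CosetCertFi23S1C2.check206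

theorem valid208 : Valid 53248 := valid207.step CosetCertFi23S1C2.just207 CosetCertFi23S1C2.check207

theorem valid209 : Valid 53504 := valid208.step CosetCertFi23S1C2.just208 CosetCertFi23S1C2.check208

theorem valid210 : Valid 53760 := valid209.step CosetCertFi23S1C2.just209 CosetCertFi23S1C2.check209

theorem valid211 : Valid 54016 := valid210.step CosetCertFi23S1C2.just210 CosetCertFi23S1C2.check210

theorem valid212 : Valid 54272 := valid211.step CosetCertFi23S1C2.just211 CosetCertFi23S1C2.check211

theorem valid213 : Valid 54528 := valid212.step CosetCertFi23S1C2.just212 CosetCertFi23S1C2.check212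

theorem valid214 : Valid 54784 := valid213.step CosetCertFi23S1C2.just213 CosetCertFi23S1C2.check213

theorem valid215 : Valid 55040 := valid214.step CosetCertFi23S1C2.just214 CosetCertFi23S1C2.check214

theorem valid216 : Valid 55296 := valid215.step CosetCertFi23S1C2.just215 CosetCertFi23S1C2.check215

theorem valid217 : Valid 55552 := valid216.step CosetCertFi23S1C2.just216 CosetCertFi23S1C2.check216

theorem valid218 : Valid 55808 := valid217.step CosetCertFi23S1C2.just217 CosetCertFi23S1C2.check217

theorem valid219 : Valid 56064 := valid218.step CosetCertFi23S1C2.just218 CosetCertFi23S1C2.check218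

theorem valid220 : Valid 56320 := valid219.step CosetCertFi23S1C2.just219 CosetCertFi23S1C2.check219

theorem valid221 : Valid 56576 := valid220.step CosetCertFi23S1C2.just220 CosetCertFi23S1C2.check220

theorem valid222 : Valid 56832 := valid221.step CosetCertFi23S1C2.just221 CosetCertFi23S1C2.check221

theorem valid223 : Valid 57088 := valid222.step CosetCertFi23S1C2.just222 CosetCertFi23S1C2.check222

theorem valid224 : Valid 57344 := valid223.step CosetCertFi23S1C2.just223 CosetCertFi23S1C2.check223

theorem valid225 : Valid 57600 := valid224.step CosetCertFi23S1C2.just224 CosetCertFi23S1C2.check224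

theorem valid226 : Valid 57856 := valid225.step CosetCertFi23S1C2.just225 CosetCertFi23S1C2.check225

theorem valid227 : Valid 58112 := valid226.step CosetCertFi23S1C2.just226 CosetCertFi23S1C2.check226

theorem valid228 : Valid 58368 := valid227.step CosetCertFi23S1C2.just227 CosetCertFi23S1C2.check227

theorem valid229 : Valid 58624 := valid228.step CosetCertFi23S1C2.just228 CosetCertFi23S1C2.check228

theorem valid230 : Valid 58880 := valid229.step CosetCertFi23S1C2.just229 CosetCertFi23S1C2.check229

theorem valid231 : Valid 59136 := valid230.step CosetCertFi23S1C2.just230 CosetCertFi23S1C2.check230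

theorem valid232 : Valid 59392 := valid231.step CosetCertFi23S1C2.just231 CosetCertFi23S1C2.check231

theorem valid233 : Valid 59648 := valid232.step CosetCertFi23S1C2.just232 CosetCertFi23S1C2.check232

theorem valid234 : Valid 59904 := valid233.step CosetCertFi23S1C2.just233 CosetCertFi23S1C2.check233

theorem valid235 : Valid 60160 := valid234.step CosetCertFi23S1C3.just234 CosetCertFi23S1C3.check234

theorem valid236 : Valid 60416 := valid235.step CosetCertFi23S1C3.just235 CosetCertFi23S1C3.check235

theorem valid237 : Valid 60672 := valid236.step CosetCertFi23S1C3.just236 CosetCertFi23S1C3.check236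

theorem valid238 : Valid 60928 := valid237.step CosetCertFi23S1C3.just237 CosetCertFi23S1C3.check237

theorem valid239 : Valid 61184 := valid238.step CosetCertFi23S1C3.just238 CosetCertFi23S1C3.check238

theorem valid240 : Valid 61440 := valid239.step CosetCertFi23S1C3.just239 CosetCertFi23S1C3.check239

theorem valid241 : Valid 61696 := valid240.step CosetCertFi23S1C3.just240 CosetCertFi23S1C3.check240

theorem valid242 : Valid 61952 := valid241.step CosetCertFi23S1C3.just241 CosetCertFi23S1C3.check241

theorem valid243 : Valid 62208 := valid242.step CosetCertFi23S1C3.just242 CosetCertFi23S1C3.check242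

theorem valid244 : Valid 62464 := valid243.step CosetCertFi23S1C3.just243 CosetCertFi23S1C3.check243

theorem valid245 : Valid 62720 := valid244.step CosetCertFi23S1C3.just244 CosetCertFi23S1C3.check244

theorem valid246 : Valid 62976 := valid245.step CosetCertFi23S1C3.just245 CosetCertFi23S1C3.check245

theorem valid247 : Valid 63232 := valid246.step CosetCertFi23S1C3.just246 CosetCertFi23S1C3.check246

theorem valid248 : Valid 63488 := valid247.step CosetCertFi23S1C3.just247 CosetCertFi23S1C3.check247

theorem valid249 : Valid 63744 := valid248.step CosetCertFi23S1C3.just248 CosetCertFi23S1C3.check248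

theorem valid250 : Valid 64000 := valid249.step CosetCertFi23S1C3.just249 CosetCertFi23S1C3.check249

theorem valid251 : Valid 64256 := valid250.step CosetCertFi23S1C3.just250 CosetCertFi23S1C3.check250

theorem valid252 : Valid 64512 := valid251.step CosetCertFi23S1C3.just251 CosetCertFi23S1C3.check251

theorem valid253 : Valid 64768 := valid252.step CosetCertFi23S1C3.just252 CosetCertFi23S1C3.check252

theorem valid254 : Valid 65024 := valid253.step CosetCertFi23S1C3.just253 CosetCertFi23S1C3.check253

theorem valid255 : Valid 65280 := valid254.step CosetCertFi23S1C3.just254 CosetCertFi23S1C3.check254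

theorem valid256 : Valid 65536 := valid255.step CosetCertFi23S1C3.just255 CosetCertFi23S1C3.check255

theorem valid257 : Valid 65792 := valid256.step CosetCertFi23S1C3.just256 CosetCertFi23S1C3.check256

theorem valid258 : Valid 66048 := valid257.step CosetCertFi23S1C3.just257 CosetCertFi23S1C3.check257

theorem valid259 : Valid 66304 := valid258.step CosetCertFi23S1C3.just258 CosetCertFi23S1C3.check258

theorem valid260 : Valid 66560 := valid259.step CosetCertFi23S1C3.just259 CosetCertFi23S1C3.check259

theorem valid261 : Valid 66816 := valid260.step CosetCertFi23S1C3.just260 CosetCertFi23S1C3.check260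

theorem valid262 : Valid 67072 := valid261.step CosetCertFi23S1C3.just261 CosetCertFi23S1C3.check261

theorem valid263 : Valid 67328 := valid262.step CosetCertFi23S1C3.just262 CosetCertFi23S1C3.check262

theorem valid264 : Valid 67584 := valid263.step CosetCertFi23S1C3.just263 CosetCertFi23S1C3.check263

theorem valid265 : Valid 67840 := valid264.step CosetCertFi23S1C3.just264 CosetCertFi23S1C3.check264

theorem valid266 : Valid 68096 := valid265.step CosetCertFi23S1C3.just265 CosetCertFi23S1C3.check265

theorem valid267 : Valid 68352 := valid266.step CosetCertFi23S1C3.just266 CosetCertFi23S1C3.check266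

theorem valid268 : Valid 68608 := valid267.step CosetCertFi23S1C3.just267 CosetCertFi23S1C3.check267

theorem valid269 : Valid 68864 := valid268.step CosetCertFi23S1C3.just268 CosetCertFi23S1C3.check268

theorem valid270 : Valid 69120 := valid269.step CosetCertFi23S1C3.just269 CosetCertFi23S1C3.check269

theorem valid271 : Valid 69376 := valid270.step CosetCertFi23S1C3.just270 CosetCertFi23S1C3.check270

theorem valid272 : Valid 69632 := valid271.step CosetCertFi23S1C3.just271 CosetCertFi23S1C3.check271

theorem valid273 : Valid 69888 := valid272.step CosetCertFi23S1C3.just272 CosetCertFi23S1C3.check272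

theorem valid274 : Valid 70144 := valid273.step CosetCertFi23S1C3.just273 CosetCertFi23S1C3.check273

theorem valid275 : Valid 70400 := valid274.step CosetCertFi23S1C3.just274 CosetCertFi23S1C3.check274

theorem valid276 : Valid 70656 := valid275.step CosetCertFi23S1C3.just275 CosetCertFi23S1C3.check275

theorem valid277 : Valid 70912 := valid276.step CosetCertFi23S1C3.just276 CosetCertFi23S1C3.check276

theorem valid278 : Valid 71168 := valid277.step CosetCertFi23S1C3.just277 CosetCertFi23S1C3.check277

theorem valid279 : Valid 71424 := valid278.step CosetCertFi23S1C3.just278 CosetCertFi23S1C3.check278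

theorem valid280 : Valid 71680 := valid279.step CosetCertFi23S1C3.just279 CosetCertFi23S1C3.check279

theorem valid281 : Valid 71936 := valid280.step CosetCertFi23S1C3.just280 CosetCertFi23S1C3.check280

theorem valid282 : Valid 72192 := valid281.step CosetCertFi23S1C3.just281 CosetCertFi23S1C3.check281

theorem valid283 : Valid 72448 := valid282.step CosetCertFi23S1C3.just282 CosetCertFi23S1C3.check282

theorem valid284 : Valid 72704 := valid283.step CosetCertFi23S1C3.just283 CosetCertFi23S1C3.check283

theorem valid285 : Valid 72960 := valid284.step CosetCertFi23S1C3.just284 CosetCertFi23S1C3.check284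

theorem valid286 : Valid 73216 := valid285.step CosetCertFi23S1C3.just285 CosetCertFi23S1C3.check285

theorem valid287 : Valid 73472 := valid286.step CosetCertFi23S1C3.just286 CosetCertFi23S1C3.check286

theorem valid288 : Valid 73728 := valid287.step CosetCertFi23S1C3.just287 CosetCertFi23S1C3.check287

theorem valid289 : Valid 73984 := valid288.step CosetCertFi23S1C3.just288 CosetCertFi23S1C3.check288

theorem valid290 : Valid 74240 := valid289.step CosetCertFi23S1C3.just289 CosetCertFi23S1C3.check289

theorem valid291 : Valid 74496 := valid290.step CosetCertFi23S1C3.just290 CosetCertFi23S1C3.check290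

theorem valid292 : Valid 74752 := valid291.step CosetCertFi23S1C3.just291 CosetCertFi23S1C3.check291

theorem valid293 : Valid 75008 := valid292.step CosetCertFi23S1C3.just292 CosetCertFi23S1C3.check292

theorem valid294 : Valid 75264 := valid293.step CosetCertFi23S1C3.just293 CosetCertFi23S1C3.check293

theorem valid295 : Valid 75348 := valid294.step CosetCertFi23S1C3.just294 CosetCertFi23S1C3.check294

theorem points0 : AllBelow (pointOk cert 75348 table) 0 := AllBelow.zero _

theorem points1 : AllBelow (pointOk cert 75348 table) 128 := AllBelow.step points0 128 CosetCertFi23S1P0.points1c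

theorem points2 : AllBelow (pointOk cert 75348 table) 256 := AllBelow.step points1 128 CosetCertFi23S1P0.points2c

theorem points3 : AllBelow (pointOk cert 75348 table) 384 := AllBelow.step points2 128 CosetCertFi23S1P0.points3c

theorem points4 : AllBelow (pointOk cert 75348 table) 512 := AllBelow.step points3 128 CosetCertFi23S1P0.points4c

theorem points5 : AllBelow (pointOk cert 75348 table) 640 := AllBelow.step points4 128 CosetCertFi23S1P0.points5c

theorem points6 : AllBelow (pointOk cert 75348 table) 768 := AllBelow.step points5 128 CosetCertFi23S1P0.points6c

theorem points7 : AllBelow (pointOk cert 75348 table) 896 := AllBelow.step points6 128 CosetCertFi23S1P0.points7c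

theorem points8 : AllBelow (pointOk cert 75348 table) 1024 := AllBelow.step points7 128 CosetCertFi23S1P0.points8c

theorem points9 : AllBelow (pointOk cert 75348 table) 1152 := AllBelow.step points8 128 CosetCertFi23S1P0.points9c

theorem points10 : AllBelow (pointOk cert 75348 table) 1280 := AllBelow.step points9 128 CosetCertFi23S1P0.points10c

theorem points11 : AllBelow (pointOk cert 75348 table) 1408 := AllBelow.step points10 128 CosetCertFi23S1P0.points11c

theorem points12 : AllBelow (pointOk cert 75348 table) 1536 := AllBelow.step points11 128 CosetCertFi23S1P0.points12c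

theorem points13 : AllBelow (pointOk cert 75348 table) 1664 := AllBelow.step points12 128 CosetCertFi23S1P0.points13c

theorem points14 : AllBelow (pointOk cert 75348 table) 1792 := AllBelow.step points13 128 CosetCertFi23S1P0.points14c

theorem points15 : AllBelow (pointOk cert 75348 table) 1920 := AllBelow.step points14 128 CosetCertFi23S1P0.points15c

theorem points16 : AllBelow (pointOk cert 75348 table) 2048 := AllBelow.step points15 128 CosetCertFi23S1P0.points16c

theorem points17 : AllBelow (pointOk cert 75348 table) 2176 := AllBelow.step points16 128 CosetCertFi23S1P0.points17c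

theorem points18 : AllBelow (pointOk cert 75348 table) 2304 := AllBelow.step points17 128 CosetCertFi23S1P0.points18c

theorem points19 : AllBelow (pointOk cert 75348 table) 2432 := AllBelow.step points18 128 CosetCertFi23S1P0.points19c

theorem points20 : AllBelow (pointOk cert 75348 table) 2560 := AllBelow.step points19 128 CosetCertFi23S1P0.points20c

theorem points21 : AllBelow (pointOk cert 75348 table) 2688 := AllBelow.step points20 128 CosetCertFi23S1P0.points21c

theorem points22 : AllBelow (pointOk cert 75348 table) 2816 := AllBelow.step points21 128 CosetCertFi23S1P0.points22c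

theorem points23 : AllBelow (pointOk cert 75348 table) 2944 := AllBelow.step points22 128 CosetCertFi23S1P0.points23c

theorem points24 : AllBelow (pointOk cert 75348 table) 3072 := AllBelow.step points23 128 CosetCertFi23S1P0.points24c

theorem points25 : AllBelow (pointOk cert 75348 table) 3200 := AllBelow.step points24 128 CosetCertFi23S1P0.points25c

theorem points26 : AllBelow (pointOk cert 75348 table) 3328 := AllBelow.step points25 128 CosetCertFi23S1P0.points26c

theorem points27 : AllBelow (pointOk cert 75348 table) 3456 := AllBelow.step points26 128 CosetCertFi23S1P0.points27c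

theorem points28 : AllBelow (pointOk cert 75348 table) 3584 := AllBelow.step points27 128 CosetCertFi23S1P0.points28c

theorem points29 : AllBelow (pointOk cert 75348 table) 3712 := AllBelow.step points28 128 CosetCertFi23S1P0.points29c

theorem points30 : AllBelow (pointOk cert 75348 table) 3840 := AllBelow.step points29 128 CosetCertFi23S1P0.points30c

theorem points31 : AllBelow (pointOk cert 75348 table) 3968 := AllBelow.step points30 128 CosetCertFi23S1P0.points31c

theorem points32 : AllBelow (pointOk cert 75348 table) 4096 := AllBelow.step points31 128 CosetCertFi23S1P0.points32c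

theorem points33 : AllBelow (pointOk cert 75348 table) 4224 := AllBelow.step points32 128 CosetCertFi23S1P0.points33c

theorem points34 : AllBelow (pointOk cert 75348 table) 4352 := AllBelow.step points33 128 CosetCertFi23S1P0.points34c

theorem points35 : AllBelow (pointOk cert 75348 table) 4480 := AllBelow.step points34 128 CosetCertFi23S1P0.points35c

theorem points36 : AllBelow (pointOk cert 75348 table) 4608 := AllBelow.step points35 128 CosetCertFi23S1P0.points36c

theorem points37 : AllBelow (pointOk cert 75348 table) 4736 := AllBelow.step points36 128 CosetCertFi23S1P0.points37c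

theorem points38 : AllBelow (pointOk cert 75348 table) 4864 := AllBelow.step points37 128 CosetCertFi23S1P0.points38c

theorem points39 : AllBelow (pointOk cert 75348 table) 4992 := AllBelow.step points38 128 CosetCertFi23S1P0.points39c

theorem points40 : AllBelow (pointOk cert 75348 table) 5120 := AllBelow.step points39 128 CosetCertFi23S1P0.points40c

theorem points41 : AllBelow (pointOk cert 75348 table) 5248 := AllBelow.step points40 128 CosetCertFi23S1P0.points41c

theorem points42 : AllBelow (pointOk cert 75348 table) 5376 := AllBelow.step points41 128 CosetCertFi23S1P0.points42c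

theorem points43 : AllBelow (pointOk cert 75348 table) 5504 := AllBelow.step points42 128 CosetCertFi23S1P0.points43c

theorem points44 : AllBelow (pointOk cert 75348 table) 5632 := AllBelow.step points43 128 CosetCertFi23S1P0.points44c

theorem points45 : AllBelow (pointOk cert 75348 table) 5760 := AllBelow.step points44 128 CosetCertFi23S1P0.points45c

theorem points46 : AllBelow (pointOk cert 75348 table) 5888 := AllBelow.step points45 128 CosetCertFi23S1P0.points46c

theorem points47 : AllBelow (pointOk cert 75348 table) 6016 := AllBelow.step points46 128 CosetCertFi23S1P0.points47c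

theorem points48 : AllBelow (pointOk cert 75348 table) 6144 := AllBelow.step points47 128 CosetCertFi23S1P0.points48c

theorem points49 : AllBelow (pointOk cert 75348 table) 6272 := AllBelow.step points48 128 CosetCertFi23S1P0.points49c

theorem points50 : AllBelow (pointOk cert 75348 table) 6400 := AllBelow.step points49 128 CosetCertFi23S1P0.points50c

theorem points51 : AllBelow (pointOk cert 75348 table) 6528 := AllBelow.step points50 128 CosetCertFi23S1P0.points51c

theorem points52 : AllBelow (pointOk cert 75348 table) 6656 := AllBelow.step points51 128 CosetCertFi23S1P0.points52c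

theorem points53 : AllBelow (pointOk cert 75348 table) 6784 := AllBelow.step points52 128 CosetCertFi23S1P0.points53c

theorem points54 : AllBelow (pointOk cert 75348 table) 6912 := AllBelow.step points53 128 CosetCertFi23S1P0.points54c

theorem points55 : AllBelow (pointOk cert 75348 table) 7040 := AllBelow.step points54 128 CosetCertFi23S1P0.points55c

theorem points56 : AllBelow (pointOk cert 75348 table) 7168 := AllBelow.step points55 128 CosetCertFi23S1P0.points56c

theorem points57 : AllBelow (pointOk cert 75348 table) 7296 := AllBelow.step points56 128 CosetCertFi23S1P0.points57c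

theorem points58 : AllBelow (pointOk cert 75348 table) 7424 := AllBelow.step points57 128 CosetCertFi23S1P0.points58c

theorem points59 : AllBelow (pointOk cert 75348 table) 7552 := AllBelow.step points58 128 CosetCertFi23S1P0.points59c

theorem points60 : AllBelow (pointOk cert 75348 table) 7680 := AllBelow.step points59 128 CosetCertFi23S1P0.points60c

theorem points61 : AllBelow (pointOk cert 75348 table) 7808 := AllBelow.step points60 128 CosetCertFi23S1P0.points61c

theorem points62 : AllBelow (pointOk cert 75348 table) 7936 := AllBelow.step points61 128 CosetCertFi23S1P0.points62c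

theorem points63 : AllBelow (pointOk cert 75348 table) 8064 := AllBelow.step points62 128 CosetCertFi23S1P1.points63c

theorem points64 : AllBelow (pointOk cert 75348 table) 8192 := AllBelow.step points63 128 CosetCertFi23S1P1.points64c

theorem points65 : AllBelow (pointOk cert 75348 table) 8320 := AllBelow.step points64 128 CosetCertFi23S1P1.points65c

theorem points66 : AllBelow (pointOk cert 75348 table) 8448 := AllBelow.step points65 128 CosetCertFi23S1P1.points66c

theorem points67 : AllBelow (pointOk cert 75348 table) 8576 := AllBelow.step points66 128 CosetCertFi23S1P1.points67c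

theorem points68 : AllBelow (pointOk cert 75348 table) 8704 := AllBelow.step points67 128 CosetCertFi23S1P1.points68c

theorem points69 : AllBelow (pointOk cert 75348 table) 8832 := AllBelow.step points68 128 CosetCertFi23S1P1.points69c

theorem points70 : AllBelow (pointOk cert 75348 table) 8960 := AllBelow.step points69 128 CosetCertFi23S1P1.points70c

theorem points71 : AllBelow (pointOk cert 75348 table) 9088 := AllBelow.step points70 128 CosetCertFi23S1P1.points71c

theorem points72 : AllBelow (pointOk cert 75348 table) 9216 := AllBelow.step points71 128 CosetCertFi23S1P1.points72c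

theorem points73 : AllBelow (pointOk cert 75348 table) 9344 := AllBelow.step points72 128 CosetCertFi23S1P1.points73c

theorem points74 : AllBelow (pointOk cert 75348 table) 9472 := AllBelow.step points73 128 CosetCertFi23S1P1.points74c

theorem points75 : AllBelow (pointOk cert 75348 table) 9600 := AllBelow.step points74 128 CosetCertFi23S1P1.points75c

theorem points76 : AllBelow (pointOk cert 75348 table) 9728 := AllBelow.step points75 128 CosetCertFi23S1P1.points76c

theorem points77 : AllBelow (pointOk cert 75348 table) 9856 := AllBelow.step points76 128 CosetCertFi23S1P1.points77c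

theorem points78 : AllBelow (pointOk cert 75348 table) 9984 := AllBelow.step points77 128 CosetCertFi23S1P1.points78c

theorem points79 : AllBelow (pointOk cert 75348 table) 10112 := AllBelow.step points78 128 CosetCertFi23S1P1.points79c

theorem points80 : AllBelow (pointOk cert 75348 table) 10240 := AllBelow.step points79 128 CosetCertFi23S1P1.points80c

theorem points81 : AllBelow (pointOk cert 75348 table) 10368 := AllBelow.step points80 128 CosetCertFi23S1P1.points81c

theorem points82 : AllBelow (pointOk cert 75348 table) 10496 := AllBelow.step points81 128 CosetCertFi23S1P1.points82c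

theorem points83 : AllBelow (pointOk cert 75348 table) 10624 := AllBelow.step points82 128 CosetCertFi23S1P1.points83c

theorem points84 : AllBelow (pointOk cert 75348 table) 10752 := AllBelow.step points83 128 CosetCertFi23S1P1.points84c

theorem points85 : AllBelow (pointOk cert 75348 table) 10880 := AllBelow.step points84 128 CosetCertFi23S1P1.points85c

theorem points86 : AllBelow (pointOk cert 75348 table) 11008 := AllBelow.step points85 128 CosetCertFi23S1P1.points86c

theorem points87 : AllBelow (pointOk cert 75348 table) 11136 := AllBelow.step points86 128 CosetCertFi23S1P1.points87c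

theorem points88 : AllBelow (pointOk cert 75348 table) 11264 := AllBelow.step points87 128 CosetCertFi23S1P1.points88c

theorem points89 : AllBelow (pointOk cert 75348 table) 11392 := AllBelow.step points88 128 CosetCertFi23S1P1.points89c

theorem points90 : AllBelow (pointOk cert 75348 table) 11520 := AllBelow.step points89 128 CosetCertFi23S1P1.points90c

theorem points91 : AllBelow (pointOk cert 75348 table) 11648 := AllBelow.step points90 128 CosetCertFi23S1P1.points91c

theorem points92 : AllBelow (pointOk cert 75348 table) 11776 := AllBelow.step points91 128 CosetCertFi23S1P1.points92c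

theorem points93 : AllBelow (pointOk cert 75348 table) 11904 := AllBelow.step points92 128 CosetCertFi23S1P1.points93c

theorem points94 : AllBelow (pointOk cert 75348 table) 12032 := AllBelow.step points93 128 CosetCertFi23S1P1.points94c

theorem points95 : AllBelow (pointOk cert 75348 table) 12160 := AllBelow.step points94 128 CosetCertFi23S1P1.points95c

theorem points96 : AllBelow (pointOk cert 75348 table) 12288 := AllBelow.step points95 128 CosetCertFi23S1P1.points96c

theorem points97 : AllBelow (pointOk cert 75348 table) 12416 := AllBelow.step points96 128 CosetCertFi23S1P1.points97c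

theorem points98 : AllBelow (pointOk cert 75348 table) 12544 := AllBelow.step points97 128 CosetCertFi23S1P1.points98c

theorem points99 : AllBelow (pointOk cert 75348 table) 12672 := AllBelow.step points98 128 CosetCertFi23S1P1.points99c

theorem points100 : AllBelow (pointOk cert 75348 table) 12800 := AllBelow.step points99 128 CosetCertFi23S1P1.points100c

theorem points101 : AllBelow (pointOk cert 75348 table) 12928 := AllBelow.step points100 128 CosetCertFi23S1P1.points101c

theorem points102 : AllBelow (pointOk cert 75348 table) 13056 := AllBelow.step points101 128 CosetCertFi23S1P1.points102c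

theorem points103 : AllBelow (pointOk cert 75348 table) 13184 := AllBelow.step points102 128 CosetCertFi23S1P1.points103c

theorem points104 : AllBelow (pointOk cert 75348 table) 13312 := AllBelow.step points103 128 CosetCertFi23S1P1.points104c

theorem points105 : AllBelow (pointOk cert 75348 table) 13440 := AllBelow.step points104 128 CosetCertFi23S1P1.points105c

theorem points106 : AllBelow (pointOk cert 75348 table) 13568 := AllBelow.step points105 128 CosetCertFi23S1P1.points106c

theorem points107 : AllBelow (pointOk cert 75348 table) 13696 := AllBelow.step points106 128 CosetCertFi23S1P1.points107c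

theorem points108 : AllBelow (pointOk cert 75348 table) 13824 := AllBelow.step points107 128 CosetCertFi23S1P1.points108c

theorem points109 : AllBelow (pointOk cert 75348 table) 13952 := AllBelow.step points108 128 CosetCertFi23S1P1.points109c

theorem points110 : AllBelow (pointOk cert 75348 table) 14080 := AllBelow.step points109 128 CosetCertFi23S1P1.points110c

/-- The table is closed. -/
theorem closed : Closed cert 75348 table where
  npos := by decide +kernel
  node0 := by decide +kernel
  points := points110
  facts := fun g base h => valid295 g base h

end Cfsg.Agent.CosetCertFi23S1
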