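import Cfsg.Agent.Lib.CosetCertFi23S2Data

/-! Enumeration of bcdefgh in bcdefghi inside Fi23. -/

set_option autoImplicit false
set_option maxRecDepth 100000
set_option Elab.async false

namespace Cfsg.Agent.CosetCertFi23S2P0

open Cfsg.Agent.CosetCertCore Cfsg.Agent.CosetCertTable Cfsg.Agent.CosetCertOrder
open Cfsg.Agent.CosetCertFi23S2Data

theorem points1c : allFrom (pointOk cert 30229 table) 128 0 = true := by decide +kernel

theorem points2c : allFrom (pointOk cert 30229 table) 128 128 = true := by decide +kernel

theorem points3c : allFrom (pointOk cert 30229 table) 128 256 = true := by decide +kernel

theorem points4c : allFrom (pointOk cert 30229 table) 128 384 = true := by decide +kernel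

theorem points5c : allFrom (pointOk cert 30229 table) 128 512 = true := by decide +kernel

theorem points6c : allFrom (pointOk cert 30229 table) 128 640 = true := by decide +kernel

theorem points7c : allFrom (pointOk cert 30229 table) 128 768 = true := by decide +kernel

theorem points8c : allFrom (pointOk cert 30229 table) 128 896 = true := by decide +kernel

theorem points9c : allFrom (pointOk cert 30229 table) 128 1024 = true := by decide +kernel

theorem points10c : allFrom (pointOk cert 30229 table) 128 1152 = true := by decide +kernel

theorem points11c : allFrom (pointOk cert 30229 table) 128 1280 = true := by decide +kernel

theorem points12c : allFrom (pointOk cert 30229 table) 128 1408 = true := by decide +kernel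

theorem points13c : allFrom (pointOk cert 30229 table) 128 1536 = true := by decide +kernel

theorem points14c : allFrom (pointOk cert 30229 table) 128 1664 = true := by decide +kernel

theorem points15c : allFrom (pointOk cert 30229 table) 128 1792 = true := by decide +kernel

theorem points16c : allFrom (pointOk cert 30229 table) 128 1920 = true := by decide +kernel

theorem points17c : allFrom (pointOk cert 30229 table) 128 2048 = true := by decide +kernel

theorem points18c : allFrom (pointOk cert 30229 table) 128 2176 = true := by decide +kernel

theorem points19c : allFrom (pointOk cert 30229 table) 128 2304 = true := by decide +kernel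

theorem points20c : allFrom (pointOk cert 30229 table) 128 2432 = true := by decide +kernel

theorem points21c : allFrom (pointOk cert 30229 table) 128 2560 = true := by decide +kernel

theorem points22c : allFrom (pointOk cert 30229 table) 128 2688 = true := by decide +kernel

theorem points23c : allFrom (pointOk cert 30229 table) 128 2816 = true := by decide +kernel

theorem points24c : allFrom (pointOk cert 30229 table) 128 2944 = true := by decide +kernel

theorem points25c : allFrom (pointOk cert 30229 table) 87 3072 = true := by decide +kernel

end Cfsg.Agent.CosetCertFi23S2P0
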