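import Cfsg.Agent.Lib.CosetCertFi23S2C0
import Cfsg.Agent.Lib.CosetCertFi23S2C1
import Cfsg.Agent.Lib.CosetCertFi23S2P0

/-! Enumeration of bcdefgh in bcdefghi inside Fi23. -/

set_option autoImplicit false
set_option maxRecDepth 100000

namespace Cfsg.Agent.CosetCertFi23S2

open Cfsg.Agent.CosetCertCore Cfsg.Agent.CosetCertTable Cfsg.Agent.CosetCertOrder Cfsg.Agent.CosetCertFi23S2Data

/-- The facts hold up to `n`. -/
def Valid (n : Nat) : Prop :=
  ∀ {G X : Type} [Group G] [MulAction G X] (g : Nat → G) (base : X),
    Ctx g base cert → AllValid g (nodeVal g base cert) cert n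

theorem Valid.step {lo n : Nat} (h : Valid lo) (L : List Nat)
    (hn : (Nat.beq (lo + L.length) n && checkList cert L lo) = true) : Valid n := by
  rw [Bool.and_eq_true, Nat.beq_eq] at hn
  intro G X _ _ g base hC
  exact hn.1 ▸ checkList_sound g base hC L lo (h g base hC) hn.2

theorem valid0 : Valid 0 := fun _ _ _ _ h => absurd h (Nat.not_lt_zero _)

theorem valid1 : Valid 256 := valid0.step CosetCertFi23S2C0.just0 CosetCertFi23S2C0.check0

theorem valid2 : Valid 512 := valid1.step CosetCertFi23S2C0.just1 CosetCertFi23S2C0.check1

theorem valid3 : Valid 768 := valid2.step CosetCertFi23S2C0.just2 CosetCertFi23S2C0.check2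

theorem valid4 : Valid 1024 := valid3.step CosetCertFi23S2C0.just3 CosetCertFi23S2C0.check3

theorem valid5 : Valid 1280 := valid4.step CosetCertFi23S2C0.just4 CosetCertFi23S2C0.check4

theorem valid6 : Valid 1536 := valid5.step CosetCertFi23S2C0.just5 CosetCertFi23S2C0.check5

theorem valid7 : Valid 1792 := valid6.step CosetCertFi23S2C0.just6 CosetCertFi23S2C0.check6

theorem valid8 : Valid 2048 := valid7.step CosetCertFi23S2C0.just7 CosetCertFi23S2C0.check7

theorem valid9 : Valid 2304 := valid8.step CosetCertFi23S2C0.just8 CosetCertFi23S2C0.check8

theorem valid10 : Valid 2560 := valid9.step CosetCertFi23S2C0.just9 CosetCertFi23S2C0.check9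

theorem valid11 : Valid 2816 := valid10.step CosetCertFi23S2C0.just10 CosetCertFi23S2C0.check10

theorem valid12 : Valid 3072 := valid11.step CosetCertFi23S2C0.just11 CosetCertFi23S2C0.check11

theorem valid13 : Valid 3328 := valid12.step CosetCertFi23S2C0.just12 CosetCertFi23S2C0.check12

theorem valid14 : Valid 3584 := valid13.step CosetCertFi23S2C0.just13 CosetCertFi23S2C0.check13

theorem valid15 : Valid 3840 := valid14.step CosetCertFi23S2C0.just14 CosetCertFi23S2C0.check14

theorem valid16 : Valid 4096 := valid15.step CosetCertFi23S2C0.just15 CosetCertFi23S2C0.check15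

theorem valid17 : Valid 4352 := valid16.step CosetCertFi23S2C0.just16 CosetCertFi23S2C0.check16

theorem valid18 : Valid 4608 := valid17.step CosetCertFi23S2C0.just17 CosetCertFi23S2C0.check17

theorem valid19 : Valid 4864 := valid18.step CosetCertFi23S2C0.just18 CosetCertFi23S2C0.check18

theorem valid20 : Valid 5120 := valid19.step CosetCertFi23S2C0.just19 CosetCertFi23S2C0.check19

theorem valid21 : Valid 5376 := valid20.step CosetCertFi23S2C0.just20 CosetCertFi23S2C0.check20

theorem valid22 : Valid 5632 := valid21.step CosetCertFi23S2C0.just21 CosetCertFi23S2C0.check21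

theorem valid23 : Valid 5888 := valid22.step CosetCertFi23S2C0.just22 CosetCertFi23S2C0.check22

theorem valid24 : Valid 6144 := valid23.step CosetCertFi23S2C0.just23 CosetCertFi23S2C0.check23

theorem valid25 : Valid 6400 := valid24.step CosetCertFi23S2C0.just24 CosetCertFi23S2C0.check24

theorem valid26 : Valid 6656 := valid25.step CosetCertFi23S2C0.just25 CosetCertFi23S2C0.check25

theorem valid27 : Valid 6912 := valid26.step CosetCertFi23S2C0.just26 CosetCertFi23S2C0.check26

theorem valid28 : Valid 7168 := valid27.step CosetCertFi23S2C0.just27 CosetCertFi23S2C0.check27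

theorem valid29 : Valid 7424 := valid28.step CosetCertFi23S2C0.just28 CosetCertFi23S2C0.check28

theorem valid30 : Valid 7680 := valid29.step CosetCertFi23S2C0.just29 CosetCertFi23S2C0.check29

theorem valid31 : Valid 7936 := valid30.step CosetCertFi23S2C0.just30 CosetCertFi23S2C0.check30

theorem valid32 : Valid 8192 := valid31.step CosetCertFi23S2C0.just31 CosetCertFi23S2C0.check31

theorem valid33 : Valid 8448 := valid32.step CosetCertFi23S2C0.just32 CosetCertFi23S2C0.check32

theorem valid34 : Valid 8704 := valid33.step CosetCertFi23S2C0.just33 CosetCertFi23S2C0.check33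

theorem valid35 : Valid 8960 := valid34.step CosetCertFi23S2C0.just34 CosetCertFi23S2C0.check34

theorem valid36 : Valid 9216 := valid35.step CosetCertFi23S2C0.just35 CosetCertFi23S2C0.check35

theorem valid37 : Valid 9472 := valid36.step CosetCertFi23S2C0.just36 CosetCertFi23S2C0.check36

theorem valid38 : Valid 9728 := valid37.step CosetCertFi23S2C0.just37 CosetCertFi23S2C0.check37

theorem valid39 : Valid 9984 := valid38.step CosetCertFi23S2C0.just38 CosetCertFi23S2C0.check38

theorem valid40 : Valid 10240 := valid39.step CosetCertFi23S2C0.just39 CosetCertFi23S2C0.check39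

theorem valid41 : Valid 10496 := valid40.step CosetCertFi23S2C0.just40 CosetCertFi23S2C0.check40

theorem valid42 : Valid 10752 := valid41.step CosetCertFi23S2C0.just41 CosetCertFi23S2C0.check41

theorem valid43 : Valid 11008 := valid42.step CosetCertFi23S2C0.just42 CosetCertFi23S2C0.check42

theorem valid44 : Valid 11264 := valid43.step CosetCertFi23S2C0.just43 CosetCertFi23S2C0.check43

theorem valid45 : Valid 11520 := valid44.step CosetCertFi23S2C0.just44 CosetCertFi23S2C0.check44

theorem valid46 : Valid 11776 := valid45.step CosetCertFi23S2C0.just45 CosetCertFi23S2C0.check45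

theorem valid47 : Valid 12032 := valid46.step CosetCertFi23S2C0.just46 CosetCertFi23S2C0.check46

theorem valid48 : Valid 12288 := valid47.step CosetCertFi23S2C0.just47 CosetCertFi23S2C0.check47

theorem valid49 : Valid 12544 := valid48.step CosetCertFi23S2C0.just48 CosetCertFi23S2C0.check48

theorem valid50 : Valid 12800 := valid49.step CosetCertFi23S2C0.just49 CosetCertFi23S2C0.check49

theorem valid51 : Valid 13056 := valid50.step CosetCertFi23S2C0.just50 CosetCertFi23S2C0.check50

theorem valid52 : Valid 13312 := valid51.step CosetCertFi23S2C0.just51 CosetCertFi23S2C0.check51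

theorem valid53 : Valid 13568 := valid52.step CosetCertFi23S2C0.just52 CosetCertFi23S2C0.check52

theorem valid54 : Valid 13824 := valid53.step CosetCertFi23S2C0.just53 CosetCertFi23S2C0.check53

theorem valid55 : Valid 14080 := valid54.step CosetCertFi23S2C0.just54 CosetCertFi23S2C0.check54

theorem valid56 : Valid 14336 := valid55.step CosetCertFi23S2C0.just55 CosetCertFi23S2C0.check55

theorem valid57 : Valid 14592 := valid56.step CosetCertFi23S2C0.just56 CosetCertFi23S2C0.check56

theorem valid58 : Valid 14848 := valid57.step CosetCertFi23S2C0.just57 CosetCertFi23S2C0.check57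

theorem valid59 : Valid 15104 := valid58.step CosetCertFi23S2C0.just58 CosetCertFi23S2C0.check58

theorem valid60 : Valid 15360 := valid59.step CosetCertFi23S2C0.just59 CosetCertFi23S2C0.check59

theorem valid61 : Valid 15616 := valid60.step CosetCertFi23S2C0.just60 CosetCertFi23S2C0.check60

theorem valid62 : Valid 15872 := valid61.step CosetCertFi23S2C0.just61 CosetCertFi23S2C0.check61

theorem valid63 : Valid 16128 := valid62.step CosetCertFi23S2C0.just62 CosetCertFi23S2C0.check62

theorem valid64 : Valid 16384 := valid63.step CosetCertFi23S2C0.just63 CosetCertFi23S2C0.check63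

theorem valid65 : Valid 16640 := valid64.step CosetCertFi23S2C0.just64 CosetCertFi23S2C0.check64

theorem valid66 : Valid 16896 := valid65.step CosetCertFi23S2C0.just65 CosetCertFi23S2C0.check65

theorem valid67 : Valid 17152 := valid66.step CosetCertFi23S2C0.just66 CosetCertFi23S2C0.check66

theorem valid68 : Valid 17408 := valid67.step CosetCertFi23S2C0.just67 CosetCertFi23S2C0.check67

theorem valid69 : Valid 17664 := valid68.step CosetCertFi23S2C0.just68 CosetCertFi23S2C0.check68

theorem valid70 : Valid 17920 := valid69.step CosetCertFi23S2C0.just69 CosetCertFi23S2C0.check69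

theorem valid71 : Valid 18176 := valid70.step CosetCertFi23S2C0.just70 CosetCertFi23S2C0.check70

theorem valid72 : Valid 18432 := valid71.step CosetCertFi23S2C0.just71 CosetCertFi23S2C0.check71

theorem valid73 : Valid 18688 := valid72.step CosetCertFi23S2C0.just72 CosetCertFi23S2C0.check72

theorem valid74 : Valid 18944 := valid73.step CosetCertFi23S2C0.just73 CosetCertFi23S2C0.check73

theorem valid75 : Valid 19200 := valid74.step CosetCertFi23S2C0.just74 CosetCertFi23S2C0.check74

theorem valid76 : Valid 19456 := valid75.step CosetCertFi23S2C0.just75 CosetCertFi23S2C0.check75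

theorem valid77 : Valid 19712 := valid76.step CosetCertFi23S2C0.just76 CosetCertFi23S2C0.check76

theorem valid78 : Valid 19968 := valid77.step CosetCertFi23S2C0.just77 CosetCertFi23S2C0.check77

theorem valid79 : Valid 20224 := valid78.step CosetCertFi23S2C1.just78 CosetCertFi23S2C1.check78

theorem valid80 : Valid 20480 := valid79.step CosetCertFi23S2C1.just79 CosetCertFi23S2C1.check79

theorem valid81 : Valid 20736 := valid80.step CosetCertFi23S2C1.just80 CosetCertFi23S2C1.check80

theorem valid82 : Valid 20992 := valid81.step CosetCertFi23S2C1.just81 CosetCertFi23S2C1.check81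

theorem valid83 : Valid 21248 := valid82.step CosetCertFi23S2C1.just82 CosetCertFi23S2C1.check82

theorem valid84 : Valid 21504 := valid83.step CosetCertFi23S2C1.just83 CosetCertFi23S2C1.check83

theorem valid85 : Valid 21760 := valid84.step CosetCertFi23S2C1.just84 CosetCertFi23S2C1.check84

theorem valid86 : Valid 22016 := valid85.step CosetCertFi23S2C1.just85 CosetCertFi23S2C1.check85

theorem valid87 : Valid 22272 := valid86.step CosetCertFi23S2C1.just86 CosetCertFi23S2C1.check86

theorem valid88 : Valid 22528 := valid87.step CosetCertFi23S2C1.just87 CosetCertFi23S2C1.check87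

theorem valid89 : Valid 22784 := valid88.step CosetCertFi23S2C1.just88 CosetCertFi23S2C1.check88

theorem valid90 : Valid 23040 := valid89.step CosetCertFi23S2C1.just89 CosetCertFi23S2C1.check89

theorem valid91 : Valid 23296 := valid90.step CosetCertFi23S2C1.just90 CosetCertFi23S2C1.check90

theorem valid92 : Valid 23552 := valid91.step CosetCertFi23S2C1.just91 CosetCertFi23S2C1.check91

theorem valid93 : Valid 23808 := valid92.step CosetCertFi23S2C1.just92 CosetCertFi23S2C1.check92

theorem valid94 : Valid 24064 := valid93.step CosetCertFi23S2C1.just93 CosetCertFi23S2C1.check93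

theorem valid95 : Valid 24320 := valid94.step CosetCertFi23S2C1.just94 CosetCertFi23S2C1.check94

theorem valid96 : Valid 24576 := valid95.step CosetCertFi23S2C1.just95 CosetCertFi23S2C1.check95

theorem valid97 : Valid 24832 := valid96.step CosetCertFi23S2C1.just96 CosetCertFi23S2C1.check96

theorem valid98 : Valid 25088 := valid97.step CosetCertFi23S2C1.just97 CosetCertFi23S2C1.check97

theorem valid99 : Valid 25344 := valid98.step CosetCertFi23S2C1.just98 CosetCertFi23S2C1.check98

theorem valid100 : Valid 25600 := valid99.step CosetCertFi23S2C1.just99 CosetCertFi23S2C1.check99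

theorem valid101 : Valid 25856 := valid100.step CosetCertFi23S2C1.just100 CosetCertFi23S2C1.check100

theorem valid102 : Valid 26112 := valid101.step CosetCertFi23S2C1.just101 CosetCertFi23S2C1.check101

theorem valid103 : Valid 26368 := valid102.step CosetCertFi23S2C1.just102 CosetCertFi23S2C1.check102

theorem valid104 : Valid 26624 := valid103.step CosetCertFi23S2C1.just103 CosetCertFi23S2C1.check103

theorem valid105 : Valid 26880 := valid104.step CosetCertFi23S2C1.just104 CosetCertFi23S2C1.check104

theorem valid106 : Valid 27136 := valid105.step CosetCertFi23S2C1.just105 CosetCertFi23S2C1.check105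

theorem valid107 : Valid 27392 := valid106.step CosetCertFi23S2C1.just106 CosetCertFi23S2C1.check106

theorem valid108 : Valid 27648 := valid107.step CosetCertFi23S2C1.just107 CosetCertFi23S2C1.check107

theorem valid109 : Valid 27904 := valid108.step CosetCertFi23S2C1.just108 CosetCertFi23S2C1.check108

theorem valid110 : Valid 28160 := valid109.step CosetCertFi23S2C1.just109 CosetCertFi23S2C1.check109

theorem valid111 : Valid 28416 := valid110.step CosetCertFi23S2C1.just110 CosetCertFi23S2C1.check110

theorem valid112 : Valid 28672 := valid111.step CosetCertFi23S2C1.just111 CosetCertFi23S2C1.check111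

theorem valid113 : Valid 28928 := valid112.step CosetCertFi23S2C1.just112 CosetCertFi23S2C1.check112

theorem valid114 : Valid 29184 := valid113.step CosetCertFi23S2C1.just113 CosetCertFi23S2C1.check113

theorem valid115 : Valid 29440 := valid114.step CosetCertFi23S2C1.just114 CosetCertFi23S2C1.check114

theorem valid116 : Valid 29696 := valid115.step CosetCertFi23S2C1.just115 CosetCertFi23S2C1.check115

theorem valid117 : Valid 29952 := valid116.step CosetCertFi23S2C1.just116 CosetCertFi23S2C1.check116

theorem valid118 : Valid 30208 := valid117.step CosetCertFi23S2C1.just117 CosetCertFi23S2C1.check117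

theorem valid119 : Valid 30229 := valid118.step CosetCertFi23S2C1.just118 CosetCertFi23S2C1.check118

theorem points0 : AllBelow (pointOk cert 30229 table) 0 := AllBelow.zero _

theorem points1 : AllBelow (pointOk cert 30229 table) 128 := AllBelow.step points0 128 CosetCertFi23S2P0.points1c

theorem points2 : AllBelow (pointOk cert 30229 table) 256 := AllBelow.step points1 128 CosetCertFi23S2P0.points2c

theorem points3 : AllBelow (pointOk cert 30229 table) 384 := AllBelow.step points2 128 CosetCertFi23S2P0.points3c

theorem points4 : AllBelow (pointOk cert 30229 table) 512 := AllBelow.step points3 128 CosetCertFi23S2P0.points4c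

theorem points5 : AllBelow (pointOk cert 30229 table) 640 := AllBelow.step points4 128 CosetCertFi23S2P0.points5c

theorem points6 : AllBelow (pointOk cert 30229 table) 768 := AllBelow.step points5 128 CosetCertFi23S2P0.points6c

theorem points7 : AllBelow (pointOk cert 30229 table) 896 := AllBelow.step points6 128 CosetCertFi23S2P0.points7c

theorem points8 : AllBelow (pointOk cert 30229 table) 1024 := AllBelow.step points7 128 CosetCertFi23S2P0.points8c

theorem points9 : AllBelow (pointOk cert 30229 table) 1152 := AllBelow.step points8 128 CosetCertFi23S2P0.points9c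

theorem points10 : AllBelow (pointOk cert 30229 table) 1280 := AllBelow.step points9 128 CosetCertFi23S2P0.points10c

theorem points11 : AllBelow (pointOk cert 30229 table) 1408 := AllBelow.step points10 128 CosetCertFi23S2P0.points11c

theorem points12 : AllBelow (pointOk cert 30229 table) 1536 := AllBelow.step points11 128 CosetCertFi23S2P0.points12c

theorem points13 : AllBelow (pointOk cert 30229 table) 1664 := AllBelow.step points12 128 CosetCertFi23S2P0.points13c

theorem points14 : AllBelow (pointOk cert 30229 table) 1792 := AllBelow.step points13 128 CosetCertFi23S2P0.points14c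

theorem points15 : AllBelow (pointOk cert 30229 table) 1920 := AllBelow.step points14 128 CosetCertFi23S2P0.points15c

theorem points16 : AllBelow (pointOk cert 30229 table) 2048 := AllBelow.step points15 128 CosetCertFi23S2P0.points16c

theorem points17 : AllBelow (pointOk cert 30229 table) 2176 := AllBelow.step points16 128 CosetCertFi23S2P0.points17c

theorem points18 : AllBelow (pointOk cert 30229 table) 2304 := AllBelow.step points17 128 CosetCertFi23S2P0.points18c

theorem points19 : AllBelow (pointOk cert 30229 table) 2432 := AllBelow.step points18 128 CosetCertFi23S2P0.points19c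

theorem points20 : AllBelow (pointOk cert 30229 table) 2560 := AllBelow.step points19 128 CosetCertFi23S2P0.points20c

theorem points21 : AllBelow (pointOk cert 30229 table) 2688 := AllBelow.step points20 128 CosetCertFi23S2P0.points21c

theorem points22 : AllBelow (pointOk cert 30229 table) 2816 := AllBelow.step points21 128 CosetCertFi23S2P0.points22c

theorem points23 : AllBelow (pointOk cert 30229 table) 2944 := AllBelow.step points22 128 CosetCertFi23S2P0.points23c

theorem points24 : AllBelow (pointOk cert 30229 table) 3072 := AllBelow.step points23 128 CosetCertFi23S2P0.points24c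

theorem points25 : AllBelow (pointOk cert 30229 table) 3159 := AllBelow.step points24 87 CosetCertFi23S2P0.points25c

/-- The table is closed. -/
theorem closed : Closed cert 30229 table where
  npos := by decide +kernel
  node0 := by decide +kernel
  points := points25
  facts := fun g base h => valid119 g base h

end Cfsg.Agent.CosetCertFi23S2
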