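import Cfsg.Agent.Lib.CosetCertRestrict
import Cfsg.Agent.Lib.CosetCertFi23F
import Cfsg.Agent.Lib.CosetCertFi22Simple
import Cfsg.Agent.Lib.CosetCertFi23W
import Cfsg.Agent.Lib.CosetCertFi23S1
import Cfsg.Agent.Lib.CosetCertFi23S2
import Cfsg.Agent.Lib.CosetCertFi23S3
import Cfsg.Agent.Lib.CosetCertFi23S4
import Cfsg.Agent.Lib.CosetCertFi23S5
import Cfsg.Agent.Lib.CosetCertFi23Q

/-! Order and simplicity of the presented group Fi23, and its subgroup 2.Fi22. -/

set_option autoImplicit false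
set_option maxRecDepth 100000
set_option Elab.async false

namespace Cfsg.Agent.CosetCertFi23Simple

open Cfsg.Agent.CosetCertCore Cfsg.Agent.CosetCertTable Cfsg.Agent.CosetCertPres Cfsg.Agent.CosetCertOrder
open Cfsg.Agent.CosetCertRestrict

/-- The presentation of Fi23. -/
abbrev P23 : Pres := CosetCertFi23FData.pres
/-- The presentation of Fi22. -/
abbrev Q22 : Pres := CosetCertFi22UData.pres
/-- The generators a, ..., i. -/
abbrev SIG : List Nat := [0, 1, 2, 3, 4, 5, 6, 8, 9]
/-- The relator of Fi22 that is not one of Fi23. -/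
abbrev ZW : List Nat := (List.replicate 9 [1, 2, 3, 4, 5, 6, 7]).flatten

theorem good : P23.Good := CosetCertFi23F.good

theorem invol : ∀ x, P23.gg x * P23.gg x = 1 := gg_sq good

theorem rels_of {C : Cert} {σ : List Nat}
    (h : (C.rels.all fun w => decide (w.map (ren σ) ∈ P23.relWords)) = true) :
    ∀ w ∈ C.rels, val P23.gg (w.map (ren σ)) = 1 := by
  intro w hw
  simp only [List.all_eq_true, decide_eq_true_eq] at h
  exact val_relWords good (h w hw)

theorem sgens_of {C : Cert} {σ τ : List Nat}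
    (h : C.sgens.map (List.map (ren σ)) = τ.map fun i => [i]) :
    ∀ w ∈ C.sgens, val P23.gg (w.map (ren σ)) ∈ span P23.gg τ := by
  intro w hw
  have h1 : w.map (ren σ) ∈ τ.map fun i => [i] := h ▸ List.mem_map_of_mem hw
  obtain ⟨i, hi, hiw⟩ := List.mem_map.mp h1
  rw [← hiw, val_cons, val_nil, mul_one]
  exact Subgroup.subset_closure ⟨i, hi, rfl⟩

theorem boundS5 : Finite (span P23.gg [3, 4, 5, 6, 8]) ∧ Nat.card (span P23.gg [3, 4, 5, 6, 8]) ≤ 720 := by
  have h := span_card_le P23.gg invol CosetCertFi23S5.closed (σ := [3, 4, 5, 6, 8]) (by decide +kernel) (by simp)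
    (rels_of (by decide +kernel)) (τ := []) (by decide +kernel) (sgens_of (by decide +kernel))
    (span_nil_card _)
  exact ⟨h.1, h.2.trans_eq (by decide +kernel)⟩

theorem boundS4 : Finite (span P23.gg [2, 3, 4, 5, 6, 8]) ∧ Nat.card (span P23.gg [2, 3, 4, 5, 6, 8]) ≤ 23040 := by
  have h := span_card_le P23.gg invol CosetCertFi23S4.closed (σ := [2, 3, 4, 5, 6, 8]) (by decide +kernel) (by simp)
    (rels_of (by decide +kernel)) (τ := [3, 4, 5, 6, 8]) (by decide +kernel) (sgens_of (by decide +kernel))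
    boundS5
  exact ⟨h.1, h.2.trans_eq (by decide +kernel)⟩

theorem boundS3 : Finite (span P23.gg [1, 2, 3, 4, 5, 6, 8]) ∧ Nat.card (span P23.gg [1, 2, 3, 4, 5, 6, 8]) ≤ 2903040 := by
  have h := span_card_le P23.gg invol CosetCertFi23S3.closed (σ := [1, 2, 3, 4, 5, 6, 8]) (by decide +kernel) (by simp)
    (rels_of (by decide +kernel)) (τ := [2, 3, 4, 5, 6, 8]) (by decide +kernel) (sgens_of (by decide +kernel))
    boundS4
  exact ⟨h.1, h.2.trans_eq (by decide +kernel)⟩

theorem boundS2 : Finite (span P23.gg [1, 2, 3, 4, 5, 6, 8, 9]) ∧ Nat.card (span P23.gg [1, 2, 3, 4, 5, 6, 8, 9]) ≤ 9170703360 := by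
  have h := span_card_le P23.gg invol CosetCertFi23S2.closed (σ := [1, 2, 3, 4, 5, 6, 8, 9]) (by decide +kernel) (by simp)
    (rels_of (by decide +kernel)) (τ := [1, 2, 3, 4, 5, 6, 8]) (by decide +kernel) (sgens_of (by decide +kernel))
    boundS3
  exact ⟨h.1, h.2.trans_eq (by decide +kernel)⟩

theorem boundS1 : Finite (span P23.gg [0, 1, 2, 3, 4, 5, 6, 8, 9]) ∧ Nat.card (span P23.gg [0, 1, 2, 3, 4, 5, 6, 8, 9]) ≤ 129123503308800 := by
  have h := span_card_le P23.gg invol CosetCertFi23S1.closed (σ := [0, 1, 2, 3, 4, 5, 6, 8, 9]) (by decide +kernel) (by simp)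
    (rels_of (by decide +kernel)) (τ := [1, 2, 3, 4, 5, 6, 8, 9]) (by decide +kernel) (sgens_of (by decide +kernel))
    boundS2
  exact ⟨h.1, h.2.trans_eq (by decide +kernel)⟩

theorem sub_eq_span : P23.sub CosetCertFi23FData.subgens = span (Pres.gg P23) SIG := by
  rw [sub_eq CosetCertFi23F.enumerated, span]
  congr 1
  ext k
  simp only [Set.mem_ofPred_eq]
  simp [CosetCertFi23FData.subgens, Wx.letters, val]

theorem upper : Finite (Pres.Grp P23) ∧ Nat.card (Pres.Grp P23) ≤ 4089470473293004800 := by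
  obtain ⟨hf, hc⟩ := boundS1
  rw [← sub_eq_span] at hf hc
  have h2 : (P23.sub CosetCertFi23FData.subgens).index = 31671 :=
    (index_sub CosetCertFi23F.enumerated).trans rfl
  haveI : (P23.sub CosetCertFi23FData.subgens).FiniteIndex := ⟨by rw [h2]; decide⟩
  haveI := hf
  have hfin : Finite (Pres.Grp P23) := Finite.of_equiv _
    (Subgroup.groupEquivQuotientProdSubgroup (s := P23.sub CosetCertFi23FData.subgens)).symm
  refine ⟨hfin, ?_⟩
  rw [← Subgroup.index_mul_card (P23.sub CosetCertFi23FData.subgens), h2]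
  exact (Nat.mul_le_mul_left _ hc).trans_eq (by decide +kernel)

theorem card_q : Nat.card (Pres.Grp Q22) = 64561751654400 := CosetCertFi22Simple.card_and_faithful.1

noncomputable def relOk (i : Nat) : Bool :=
  cond (Nat.beq (oLabel (entry CosetCertFi23FData.orbTbl 48 i)) 2)
    (relsOk (ZW.map (ren SIG) :: (Pres.relWords Q22).map (List.map (ren SIG))) CosetCertFi23FData.table i) true

theorem relOk0 : AllBelow relOk 0 := AllBelow.zero _

theorem relOk1 : AllBelow relOk 4096 := AllBelow.step relOk0 4096 (by decide +kernel)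

theorem relOk2 : AllBelow relOk 8192 := AllBelow.step relOk1 4096 (by decide +kernel)

theorem relOk3 : AllBelow relOk 12288 := AllBelow.step relOk2 4096 (by decide +kernel)

theorem relOk4 : AllBelow relOk 16384 := AllBelow.step relOk3 4096 (by decide +kernel)

theorem relOk5 : AllBelow relOk 20480 := AllBelow.step relOk4 4096 (by decide +kernel)

theorem relOk6 : AllBelow relOk 24576 := AllBelow.step relOk5 4096 (by decide +kernel)

theorem relOk7 : AllBelow relOk 28672 := AllBelow.step relOk6 4096 (by decide +kernel)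

theorem relOk8 : AllBelow relOk 31671 := AllBelow.step relOk7 2999 (by decide +kernel)

/-- The action of 2.Fi22 on the suborbit of 3510 points. -/
theorem cover : ∃ (ψ : span (Pres.gg P23) SIG →*
      Equiv.Perm {i : Fin CosetCertFi23FData.table.N // oLabel (entry CosetCertFi23FData.orbTbl 48 i) = 2}),
      Nonempty (Pres.Grp Q22 ≃* ψ.range) ∧ val (spanGen (Pres.gg P23) SIG (by simp)) ZW ∈ ψ.ker ∧
      rho CosetCertFi23F.enumerated (val (spanGen (Pres.gg P23) SIG (by simp)) ZW : span (Pres.gg P23) SIG) ≠ 1 ∧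
      (∀ k, ψ k = 1 ↔ ∀ i : Fin CosetCertFi23FData.table.N,
        oLabel (entry CosetCertFi23FData.orbTbl 48 i) = 2 →
          rho CosetCertFi23F.enumerated (k : Pres.Grp P23) i = i) := by
  refine exists_cover CosetCertFi23F.enumerated CosetCertFi23F.orbits _ (by decide +kernel) (by decide +kernel)
    (Q := Q22) CosetCertFi22U.good (by decide +kernel) (by decide +kernel) (by decide +kernel)
    CosetCertFi22Simple.simple 2 ?_ (x₀ := 0) (i₀ := 72) (by decide +kernel) (by decide +kernel)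
    (by decide +kernel) (by decide +kernel) ZW ?_ (j₀ := 1) (by decide +kernel) (by decide +kernel)
  · intro w hw i hi hl
    have h := relOk8 i hi
    rw [relOk, Nat.beq_eq.mpr hl, cond_true] at h
    exact (relsOk_iff _ _ _).mp h _ (List.mem_cons_of_mem _ (List.mem_map_of_mem hw))
  · intro i hi hl
    have h := relOk8 i hi
    rw [relOk, Nat.beq_eq.mpr hl, cond_true] at h
    exact (relsOk_iff _ _ _).mp h _ (List.mem_cons_self ..)

theorem card_span : Nat.card (span (Pres.gg P23) SIG) = 129123503308800 ∧ Finite (span (Pres.gg P23) SIG) := by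
  obtain ⟨hf, hc⟩ := boundS1
  haveI := hf
  obtain ⟨ψ, ⟨e⟩, hz, hz1, -⟩ := cover
  refine ⟨le_antisymm hc ?_, hf⟩
  refine le_of_eq_of_le ?_ (two_mul_card_le ψ e hz fun he => hz1 (by rw [he]; exact map_one _))
  rw [card_q]

theorem card_p : Nat.card (Pres.Grp P23) = 4089470473293004800 := by
  rw [← Subgroup.index_mul_card (P23.sub CosetCertFi23FData.subgens),
    index_sub CosetCertFi23F.enumerated, sub_eq_span, card_span.1]
  decide +kernel

theorem ker_cases : ∀ ψ : span (Pres.gg P23) SIG →*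
      Equiv.Perm {i : Fin CosetCertFi23FData.table.N // oLabel (entry CosetCertFi23FData.orbTbl 48 i) = 2},
    Nonempty (Pres.Grp Q22 ≃* ψ.range) → Nat.card ψ.ker = 2 := by
  rintro ψ ⟨e⟩
  haveI := card_span.2
  have h := Subgroup.card_mul_index ψ.ker
  rw [Subgroup.index_ker, ← Nat.card_congr e.toEquiv, card_q, card_span.1] at h
  omega

theorem faithful : Function.Injective (rho CosetCertFi23F.enumerated) := by
  rw [injective_iff_map_eq_one]
  intro k hk
  obtain ⟨φ, hφ0, hφ⟩ := exists_coset_equiv CosetCertFi23F.enumerated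
  have hk0 := hφ k ⟨0, CosetCertFi23F.enumerated.table.npos⟩
  rw [hk, Equiv.Perm.one_apply, hφ0] at hk0
  have hk1 : ((k * 1 : Pres.Grp P23) : Pres.Grp P23 ⧸ P23.sub CosetCertFi23FData.subgens) =
      ((1 : Pres.Grp P23) : Pres.Grp P23 ⧸ P23.sub CosetCertFi23FData.subgens) := hk0.symm
  rw [mul_one, QuotientGroup.eq, mul_one, inv_mem_iff, sub_eq_span] at hk1
  obtain ⟨ψ, he, hz, hz1, hψ⟩ := cover
  obtain ⟨y, -, hy⟩ := (Nat.card_eq_two_iff' (1 : ψ.ker)).mp (ker_cases ψ he)
  have hkψ : (⟨k, hk1⟩ : span (Pres.gg P23) SIG) ∈ ψ.ker := (hψ _).mpr fun i _ => by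
    show rho _ k i = i
    rw [hk, Equiv.Perm.one_apply]
  by_contra hne
  have h1 := hy ⟨_, hkψ⟩ fun he => hne (congrArg (fun u : ψ.ker => ((u : span (Pres.gg P23) SIG) : Pres.Grp P23)) he)
  have h2 := hy ⟨_, hz⟩ fun he => hz1 (by
    rw [show (val (spanGen (Pres.gg P23) SIG (by simp)) ZW : span (Pres.gg P23) SIG) = 1 from congrArg Subtype.val he]
    exact map_one _)
  apply hz1
  have h3 : (val (spanGen (Pres.gg P23) SIG (by simp)) ZW : span (Pres.gg P23) SIG) = ⟨k, hk1⟩ :=
    congrArg Subtype.val (h2.trans h1.symm)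
  rw [h3]
  exact hk

theorem maximal (U : Subgroup (Pres.Grp P23)) (hU : P23.sub CosetCertFi23FData.subgens ≤ U) :
    U = P23.sub CosetCertFi23FData.subgens ∨ U = ⊤ :=
  block_cases CosetCertFi23F.enumerated CosetCertFi23F.orbits (by decide +kernel) (by decide +kernel)
    (by decide +kernel) (by unfold GoodBlocks; decide +kernel) U hU

theorem run_w : ∀ i < CosetCertFi23FData.table.N,
    CosetCertFi23FData.table.run (List.replicate 23 ([6, 4, 8, 3, 5, 0, 6, 4, 6, 8, 3, 6, 2, 5, 7, 8, 0, 6, 0, 7, 9, 6, 3, 1, 3, 8, 3, 7, 4, 6, 9, 8, 9, 4, 9, 2, 6, 7, 3] : List Nat)).flatten i = i :=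
  CosetCertFi23W.run_pow

theorem simple : IsSimpleGroup (Pres.Grp P23) :=
  isSimpleGroup CosetCertFi23F.enumerated faithful maximal card_p (p := 23)
    (by norm_num) (by decide +kernel) (by decide +kernel) (by decide +kernel) [6, 4, 8, 3, 5, 0, 6, 4, 6, 8, 3, 6, 2, 5, 7, 8, 0, 6, 0, 7, 9, 6, 3, 1, 3, 8, 3, 7, 4, 6, 9, 8, 9, 4, 9, 2, 6, 7, 3] run_w (by decide +kernel)
    CosetCertFi23Q.closed (by decide +kernel) (by decide +kernel)
    (fun r hr => List.mem_cons.mp ((by decide +kernel :
      ∀ r ∈ CosetCertFi23QData.cert.rels, r ∈ [6, 4, 8, 3, 5, 0, 6, 4, 6, 8, 3, 6, 2, 5, 7, 8, 0, 6, 0, 7, 9, 6, 3, 1, 3, 8, 3, 7, 4, 6, 9, 8, 9, 4, 9, 2, 6, 7, 3] :: Pres.relWords P23) r hr) |>.symm)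
    (by decide +kernel)

theorem span_perfect : commutator (span (Pres.gg P23) SIG) = ⊤ := by
  let f : Nat → Abelianization (span (Pres.gg P23) SIG) :=
    fun x => Abelianization.of (spanGen (Pres.gg P23) SIG (by simp) x)
  have hf : ∀ x, f x * f x = 1 := fun x => by
    show Abelianization.of _ * Abelianization.of _ = 1
    rw [← map_mul, show spanGen (Pres.gg P23) SIG (by simp) x * spanGen (Pres.gg P23) SIG (by simp) x = 1
      from Subtype.ext (invol _), map_one]
  have hw : ∀ w : List Nat, w.map (ren SIG) ∈ Pres.relWords P23 → val f w = 1 := by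
    intro w hw
    have h1 : val (spanGen (Pres.gg P23) SIG (by simp)) w = 1 :=
      Subtype.ext (by rw [spanGen_val, val_relWords good hw]; rfl)
    have h2 : val f w = Abelianization.of (val (spanGen (Pres.gg P23) SIG (by simp)) w) := by
      unfold val
      rw [map_list_prod, List.map_map]
      rfl
    rw [h2, h1, map_one]
  have edge : ∀ x y : Nat, [x, y, x, y, x, y].map (ren SIG) ∈ Pres.relWords P23 → f x = f y := by
    intro x y hxy
    have h := hw _ hxy
    simp only [val_cons, val_nil, mul_one] at h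
    have h' : (f x * f y) ^ 3 = 1 := by
      rw [← h]
      simp only [pow_succ, pow_zero, one_mul, mul_assoc]
    have h2 : (f x * f y) ^ 2 = 1 := by rw [pow_two, mul_mul_mul_comm, hf, hf, one_mul]
    rw [pow_succ, h2, one_mul] at h'
    calc f x = f x * (f y * f y) := by rw [hf, mul_one]
      _ = f x * f y * f y := (mul_assoc _ _ _).symm
      _ = f y := by rw [h', one_mul]
  have h01 := edge 0 1 (by decide +kernel)
  have h12 := edge 1 2 (by decide +kernel)
  have h23 := edge 2 3 (by decide +kernel)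
  have h34 := edge 3 4 (by decide +kernel)
  have h37 := edge 3 7 (by decide +kernel)
  have h45 := edge 4 5 (by decide +kernel)
  have h56 := edge 5 6 (by decide +kernel)
  have h78 := edge 7 8 (by decide +kernel)
  have hodd := hw (List.replicate 9 [0, 1, 2, 3, 4, 5, 7]).flatten (by decide +kernel)
  rw [val_replicate] at hodd
  simp only [val_cons, val_nil, mul_one, h01, h12, h23, ← h34, ← h45, ← h56, ← h37] at hodd
  have h3 : f 3 = 1 := by
    have e : ∀ n : Nat, (f 3) ^ (2 * n + 1) = f 3 := fun n => by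
      rw [pow_succ, pow_mul, pow_two, hf, one_pow, one_mul]
    rw [show f 3 * (f 3 * (f 3 * (f 3 * (f 3 * (f 3 * f 3))))) = f 3 ^ (2 * 3 + 1) by
      simp [pow_succ, mul_assoc], e, show (9 : Nat) = 2 * 4 + 1 from rfl, e] at hodd
    exact hodd
  rw [eq_top_iff, ← spanGen_closure (Pres.gg P23) SIG (by simp), Subgroup.closure_le]
  rintro _ ⟨x, hx, rfl⟩
  show spanGen (Pres.gg P23) SIG (by simp) x ∈ commutator _
  rw [← Abelianization.ker_of, MonoidHom.mem_ker]
  show f x = 1
  have hx' : x < 9 := hx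
  interval_cases x
  · rw [h01, h12, h23, h3]
  · rw [h12, h23, h3]
  · rw [h23, h3]
  · exact h3
  · rw [← h34, h3]
  · rw [← h45, ← h34, h3]
  · rw [← h56, ← h45, ← h34, h3]
  · rw [← h37, h3]
  · rw [← h78, ← h37, h3]

theorem center_q : Subgroup.center (Pres.Grp Q22) = ⊥ := by
  haveI := CosetCertFi22Simple.simple
  refine (Subgroup.Normal.eq_bot_or_eq_top inferInstance).resolve_right fun h => ?_
  have hcomm : ∀ a b : Pres.Grp Q22, a * b = b * a := fun a b =>
    (Subgroup.mem_center_iff.mp (h ▸ Subgroup.mem_top b) a)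
  haveI : Finite (Pres.Grp Q22) := Nat.finite_of_card_ne_zero (by rw [card_q]; decide)
  letI : CommGroup (Pres.Grp Q22) := { (inferInstance : Group (Pres.Grp Q22)) with mul_comm := hcomm }
  have hp := IsSimpleGroup.prime_card (α := Pres.Grp Q22)
  rw [card_q] at hp
  exact absurd (hp.eq_one_or_self_of_dvd 2 (by norm_num)) (by norm_num)

theorem double_cover : Nat.card (Subgroup.center (span (Pres.gg P23) SIG)) = 2 ∧
    Nonempty (span (Pres.gg P23) SIG ⧸ Subgroup.center (span (Pres.gg P23) SIG) ≃* Pres.Grp Q22) ∧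
      ∀ L : Subgroup (span (Pres.gg P23) SIG),
        ¬ (Subgroup.center (span (Pres.gg P23) SIG)).IsComplement' L := by
  obtain ⟨ψ, ⟨e⟩, -, -, -⟩ := cover
  haveI := card_span.2
  exact nonsplit_double_cover ψ e center_q (ker_cases ψ ⟨e⟩) span_perfect

end Cfsg.Agent.CosetCertFi23Simple
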