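import Cfsg.Agent.Lib.CosetCertFi23W6Data

/-! Part of the checks of a coset enumeration in the presented group W6. -/

set_option autoImplicit false
set_option maxRecDepth 100000
set_option Elab.async false

namespace Cfsg.Agent.CosetCertFi23W6P0

open Cfsg.Agent.CosetCertCore Cfsg.Agent.CosetCertTable Cfsg.Agent.CosetCertPres Cfsg.Agent.CosetCertFi23W6Data

theorem points1c : allFrom (pointOk cert 126 table) 27 0 = true := by decide +kernel

theorem rels1c : allFrom (relsOk cert.rels table) 27 0 = true := by decide +kernel

theorem orb1c : allFrom (orbOk orbTbl roots cert.sgens table) 27 0 = true := by decide +kernel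

end Cfsg.Agent.CosetCertFi23W6P0
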