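import Mathlib

/-! The 27 points of Fi23 moved as the points of the Coxeter group on bcdefh. -/

set_option autoImplicit false

namespace Cfsg.Agent.CosetCertFi23W6Emb

/-- The points. -/
def emb : List Nat := [2, 3, 4, 5, 6, 7, 8, 9, 12, 13, 16, 18, 22, 23, 25, 31, 33, 45, 46, 65, 66, 95, 97, 139, 205, 301, 442]

end Cfsg.Agent.CosetCertFi23W6Emb
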