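import Cfsg.Agent.Lib.CosetCertFi23W6SgsData

/-! Checks of the strong generators of Fi23W6. -/

set_option autoImplicit false
set_option maxRecDepth 100000
set_option Elab.async false

namespace Cfsg.Agent.CosetCertFi23W6Sgs

open Cfsg.Agent.CosetCertCore Cfsg.Agent.CosetCertTable Cfsg.Agent.CosetCertPres Cfsg.Agent.CosetCertOrder
open Cfsg.Agent.CosetCertFi23W6Data Cfsg.Agent.CosetCertFi23W6SgsData

theorem words_ok : wordsOk elts table = true := by decide +kernel

theorem elt0_0 : AllBelow (eltOk elts table 0) 0 := AllBelow.zero _

theorem elt0_1 : AllBelow (eltOk elts table 0) 27 :=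
  AllBelow.step elt0_0 27 (by decide +kernel)

theorem elt1_0 : AllBelow (eltOk elts table 1) 0 := AllBelow.zero _

theorem elt1_1 : AllBelow (eltOk elts table 1) 27 :=
  AllBelow.step elt1_0 27 (by decide +kernel)

theorem elt2_0 : AllBelow (eltOk elts table 2) 0 := AllBelow.zero _

theorem elt2_1 : AllBelow (eltOk elts table 2) 27 :=
  AllBelow.step elt2_0 27 (by decide +kernel)

theorem elt3_0 : AllBelow (eltOk elts table 3) 0 := AllBelow.zero _

theorem elt3_1 : AllBelow (eltOk elts table 3) 27 :=
  AllBelow.step elt3_0 27 (by decide +kernel)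

theorem elt4_0 : AllBelow (eltOk elts table 4) 0 := AllBelow.zero _

theorem elt4_1 : AllBelow (eltOk elts table 4) 27 :=
  AllBelow.step elt4_0 27 (by decide +kernel)

theorem elt5_0 : AllBelow (eltOk elts table 5) 0 := AllBelow.zero _

theorem elt5_1 : AllBelow (eltOk elts table 5) 27 :=
  AllBelow.step elt5_0 27 (by decide +kernel)

theorem elt6_0 : AllBelow (eltOk elts table 6) 0 := AllBelow.zero _

theorem elt6_1 : AllBelow (eltOk elts table 6) 27 :=
  AllBelow.step elt6_0 27 (by decide +kernel)

theorem elt7_0 : AllBelow (eltOk elts table 7) 0 := AllBelow.zero _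

theorem elt7_1 : AllBelow (eltOk elts table 7) 27 :=
  AllBelow.step elt7_0 27 (by decide +kernel)

theorem elt8_0 : AllBelow (eltOk elts table 8) 0 := AllBelow.zero _

theorem elt8_1 : AllBelow (eltOk elts table 8) 27 :=
  AllBelow.step elt8_0 27 (by decide +kernel)

theorem elt9_0 : AllBelow (eltOk elts table 9) 0 := AllBelow.zero _

theorem elt9_1 : AllBelow (eltOk elts table 9) 27 :=
  AllBelow.step elt9_0 27 (by decide +kernel)

theorem elts_ok : ∀ k, k < elts.words.length → AllBelow (eltOk elts table k) table.N := by
  intro k hk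
  have hk' : k < 10 := hk
  match k, hk' with
  | 0, _ => exact elt0_1
  | 1, _ => exact elt1_1
  | 2, _ => exact elt2_1
  | 3, _ => exact elt3_1
  | 4, _ => exact elt4_1
  | 5, _ => exact elt5_1
  | 6, _ => exact elt6_1
  | 7, _ => exact elt7_1
  | 8, _ => exact elt8_1
  | 9, _ => exact elt9_1
  | n + 10, h => omega

theorem fix0 : fixOk elts table [0, 1, 2, 3, 4, 5] [] = true := by decide +kernel

theorem stage0_ok : AllBelow (stageOk elts table stage0 [0, 1, 2, 3, 4, 5] 0) table.N := by
  intro i hi
  exact (allFrom_iff _ table.N 0).mp (by decide +kernel) i (Nat.zero_le i) (by omega)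

theorem stage0_count : countLabel stage0 1 table.N = 27 := by decide +kernel

theorem fix1 : fixOk elts table [6, 7, 8, 11, 14, 15] [0] = true := by decide +kernel

theorem stage1_ok : AllBelow (stageOk elts table stage1 [6, 7, 8, 11, 14, 15] 1) table.N := by
  intro i hi
  exact (allFrom_iff _ table.N 0).mp (by decide +kernel) i (Nat.zero_le i) (by omega)

theorem stage1_count : countLabel stage1 1 table.N = 16 := by decide +kernel

theorem fix2 : fixOk elts table [7, 11, 14, 15] [1, 0] = true := by decide +kernel

theorem stage2_ok : AllBelow (stageOk elts table stage2 [7, 11, 14, 15] 2) table.N := by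
  intro i hi
  exact (allFrom_iff _ table.N 0).mp (by decide +kernel) i (Nat.zero_le i) (by omega)

theorem stage2_count : countLabel stage2 1 table.N = 10 := by decide +kernel

theorem fix3 : fixOk elts table [14, 15] [2, 1, 0] = true := by decide +kernel

theorem stage3_ok : AllBelow (stageOk elts table stage3 [14, 15] 3) table.N := by
  intro i hi
  exact (allFrom_iff _ table.N 0).mp (by decide +kernel) i (Nat.zero_le i) (by omega)

theorem stage3_count : countLabel stage3 1 table.N = 6 := by decide +kernel

theorem fix4 : fixOk elts table [15] [3, 2, 1, 0] = true := by decide +kernel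

theorem stage4_ok : AllBelow (stageOk elts table stage4 [15] 4) table.N := by
  intro i hi
  exact (allFrom_iff _ table.N 0).mp (by decide +kernel) i (Nat.zero_le i) (by omega)

theorem stage4_count : countLabel stage4 1 table.N = 2 := by decide +kernel

end Cfsg.Agent.CosetCertFi23W6Sgs
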