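import Cfsg.Agent.Lib.CosetCertOrder
import Cfsg.Agent.Lib.CosetCertFi23W6Data

/-! Strong generators of the action of Fi23W6 on 27 points. -/

set_option autoImplicit false
set_option maxRecDepth 100000

namespace Cfsg.Agent.CosetCertFi23W6SgsData

open Cfsg.Agent.CosetCertCore Cfsg.Agent.CosetCertOrder

/-- Element tables and their words. -/
noncomputable def elts : Elts where
  tabs := [
   (.leaf 0x1800013000150001a0001900010000110000e0001600003000170000a000120000d00009000060000b00004000140000c000050000f0000100002000080000700000),
   (.leaf 0x1500019000170001a00012000180000f0000e000130000b0001000011000160000d00004000140000200007000060000c000030000800009000050000a0000100000),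
   (.leaf 0x180001600017000190001a0000e000140001000013000050001500009000120000b0000a000070000d00008000110000c000030000f0000100002000040000600000),
   (.leaf 0x17000160001a00010000120001800008000190000e000140001500005000130000d000070000a0000f0000c00002000010000b000060000900011000030000400000),
   (.leaf 0x16000170001a00018000190001000014000120000e000080001300005000150000a000070000d0000c0000f000090000b00001000110000200006000030000400000),
   (.leaf 0x190001a000150001800013000170001100012000160000f0000e00014000100000b0000c0000d0000400006000090000a00007000030000800002000050000100000),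
   (.leaf 0x190001a000170001500012000180000f0001600013000140000e00011000100000b0000c0000d0000700008000040000600009000020000a00005000030000100000),
   (.leaf 0x170001900015000180000e0001a0000b00012000160000f0001000014000130000d00007000110000200004000050000900008000030000c000060000a0000100000),
   (.leaf 0x1a000180001900015000130001700011000160001000014000120000d0000e0000f0000a0000b0000c00009000060000300008000040000500007000020000100000),
   (.leaf 0x190001a00018000170001600015000140001300012000110000e0000f000100000b0000c0000d000090000a000070000800004000050000600003000020000100000)]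
  words := [(true, [1, 4, 0, 2, 0, 3, 3, 3, 5, 3, 1, 0, 3, 0, 3, 3, 4, 0, 5, 3, 2, 5, 1, 4]),
    (true, [0, 2, 0, 0, 0, 5, 4, 0, 3, 5, 1, 3, 5, 0, 4, 1, 3, 3, 4, 1, 2, 1, 5, 1, 4]),
    (true, [3, 2, 0, 3, 4, 5, 0, 1, 5, 5, 2, 0, 5, 2, 5, 5, 4, 3, 4, 5, 1, 2, 2, 4]),
    (false, [6]),
    (false, [8]),
    (true, [3, 4, 3, 4, 0, 3, 1, 5, 3, 3, 5, 1, 2, 4, 5, 5, 5, 2, 0, 3, 5, 4, 0, 1, 4, 9, 10, 10]),
    (false, [11]),
    (false, [7]),
    (true, [3, 4, 2, 4, 2, 3, 2, 5, 4, 4, 5, 0, 3, 5, 4, 1, 4, 4, 1, 3, 0, 3, 2, 4, 4, 4, 10, 10, 13, 12]),
    (true, [1, 4, 3, 3, 2, 3, 2, 0, 4, 4, 4, 4, 2, 3, 4, 0, 1, 5, 1, 4, 4, 1, 0, 4, 2, 4, 13])]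

/-- Orbit of stage 0. -/
noncomputable def stage0 : Tbl :=
  (.leaf 0x1000019010000f00018110000e00017210000d00015510000c00013510000c00013310000b00011510000b00011410000a0000f410000a0000f21000090000d41000090000c31000080000b41000080000a31000080000a11000070000931000070000821000060000721000060000651000050000451000050000401000040000351000040000311000030000221000020000131000010000041000000000001)

/-- Orbit of stage 1. -/
noncomputable def stage1 : Tbl :=
  (.leaf 0x30000801000000000000000000000000000030000821000000000000000030000501000000000000000030000a21000020000701000030000a01000020000731000030000c01000020000751000010000101000010000121000020000601000020000651000020000741000030000a11000000000001000000000000)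

/-- Orbit of stage 2. -/
noncomputable def stage2 : Tbl :=
  (.leaf 0x20000a21000000000000000010000201000020000a31000020000501000030000901000030000431000010000211000020000a11000020000511000000000001000000000000000000000000)

/-- Orbit of stage 3. -/
noncomputable def stage3 : Tbl :=
  (.leaf 0x20000711000010000301000030000801000050000401000040000611000000000001000000000000000000000000000000000000)

/-- Orbit of stage 4. -/
noncomputable def stage4 : Tbl :=
  (.leaf 0x10000401000000000000000000000001000000000000000000000000000000000000000000000000)

end Cfsg.Agent.CosetCertFi23W6SgsData
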