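import Mathlib

/-! The 120 points of Fi23 moved as the points of the Coxeter group on bcdefgjh. -/

set_option autoImplicit false

namespace Cfsg.Agent.CosetCertFi23W8Emb

/-- The points. -/
def emb : List Nat := [0, 1, 2, 3, 4, 5, 6, 7, 8, 9, 12, 13, 16, 18, 22, 23, 25, 31, 33, 36, 45, 46, 49, 52, 65, 66, 68, 72, 95, 96, 97, 101, 138, 139, 141, 142, 201, 202, 203, 205, 208, 293, 294, 296, 298, 301, 429, 430, 432, 435, 438, 442, 620, 622, 625, 626, 630, 634, 883, 886, 887, 891, 892, 899, 1237, 1238, 1242, 1243, 1250, 1251, 1712, 1713, 1715, 1721, 1722, 1731, 1732, 2341, 2342, 2343, 2353, 2354, 2364, 2365, 3152, 3153, 3154, 3155, 3167, 3168, 3180, 4131, 4132, 4133, 4134, 4135, 4143, 4150, 5256, 5257, 5258, 5259, 5260, 5265, 5268, 6522, 6523, 6524, 6525, 6526, 6529, 6531, 7999, 8000, 8001, 8002, 8003, 8004, 8005, 8006]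

end Cfsg.Agent.CosetCertFi23W8Emb
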