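import Cfsg.Agent.Lib.CosetCertFi23W8SgsData

/-! Checks of the strong generators of Fi23W8. -/

set_option autoImplicit false
set_option maxRecDepth 100000
set_option Elab.async false

namespace Cfsg.Agent.CosetCertFi23W8Sgs

open Cfsg.Agent.CosetCertCore Cfsg.Agent.CosetCertTable Cfsg.Agent.CosetCertPres Cfsg.Agent.CosetCertOrder
open Cfsg.Agent.CosetCertFi23W8Data Cfsg.Agent.CosetCertFi23W8SgsData

theorem words_ok : wordsOk elts table = true := by decide +kernel

theorem elt0_0 : AllBelow (eltOk elts table 0) 0 := AllBelow.zero _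

theorem elt0_1 : AllBelow (eltOk elts table 0) 120 :=
  AllBelow.step elt0_0 120 (by decide +kernel)

theorem elt1_0 : AllBelow (eltOk elts table 1) 0 := AllBelow.zero _

theorem elt1_1 : AllBelow (eltOk elts table 1) 120 :=
  AllBelow.step elt1_0 120 (by decide +kernel)

theorem elt2_0 : AllBelow (eltOk elts table 2) 0 := AllBelow.zero _

theorem elt2_1 : AllBelow (eltOk elts table 2) 120 :=
  AllBelow.step elt2_0 120 (by decide +kernel)

theorem elt3_0 : AllBelow (eltOk elts table 3) 0 := AllBelow.zero _

theorem elt3_1 : AllBelow (eltOk elts table 3) 120 :=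
  AllBelow.step elt3_0 120 (by decide +kernel)

theorem elt4_0 : AllBelow (eltOk elts table 4) 0 := AllBelow.zero _

theorem elt4_1 : AllBelow (eltOk elts table 4) 120 :=
  AllBelow.step elt4_0 120 (by decide +kernel)

theorem elt5_0 : AllBelow (eltOk elts table 5) 0 := AllBelow.zero _

theorem elt5_1 : AllBelow (eltOk elts table 5) 120 :=
  AllBelow.step elt5_0 120 (by decide +kernel)

theorem elt6_0 : AllBelow (eltOk elts table 6) 0 := AllBelow.zero _

theorem elt6_1 : AllBelow (eltOk elts table 6) 120 :=
  AllBelow.step elt6_0 120 (by decide +kernel)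

theorem elt7_0 : AllBelow (eltOk elts table 7) 0 := AllBelow.zero _

theorem elt7_1 : AllBelow (eltOk elts table 7) 120 :=
  AllBelow.step elt7_0 120 (by decide +kernel)

theorem elt8_0 : AllBelow (eltOk elts table 8) 0 := AllBelow.zero _

theorem elt8_1 : AllBelow (eltOk elts table 8) 120 :=
  AllBelow.step elt8_0 120 (by decide +kernel)

theorem elt9_0 : AllBelow (eltOk elts table 9) 0 := AllBelow.zero _

theorem elt9_1 : AllBelow (eltOk elts table 9) 120 :=
  AllBelow.step elt9_0 120 (by decide +kernel)

theorem elt10_0 : AllBelow (eltOk elts table 10) 0 := AllBelow.zero _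

theorem elt10_1 : AllBelow (eltOk elts table 10) 120 :=
  AllBelow.step elt10_0 120 (by decide +kernel)

theorem elt11_0 : AllBelow (eltOk elts table 11) 0 := AllBelow.zero _

theorem elt11_1 : AllBelow (eltOk elts table 11) 120 :=
  AllBelow.step elt11_0 120 (by decide +kernel)

theorem elt12_0 : AllBelow (eltOk elts table 12) 0 := AllBelow.zero _

theorem elt12_1 : AllBelow (eltOk elts table 12) 120 :=
  AllBelow.step elt12_0 120 (by decide +kernel)

theorem elt13_0 : AllBelow (eltOk elts table 13) 0 := AllBelow.zero _

theorem elt13_1 : AllBelow (eltOk elts table 13) 120 :=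
  AllBelow.step elt13_0 120 (by decide +kernel)

theorem elt14_0 : AllBelow (eltOk elts table 14) 0 := AllBelow.zero _

theorem elt14_1 : AllBelow (eltOk elts table 14) 120 :=
  AllBelow.step elt14_0 120 (by decide +kernel)

theorem elt15_0 : AllBelow (eltOk elts table 15) 0 := AllBelow.zero _

theorem elt15_1 : AllBelow (eltOk elts table 15) 120 :=
  AllBelow.step elt15_0 120 (by decide +kernel)

theorem elt16_0 : AllBelow (eltOk elts table 16) 0 := AllBelow.zero _

theorem elt16_1 : AllBelow (eltOk elts table 16) 120 :=
  AllBelow.step elt16_0 120 (by decide +kernel)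

theorem elt17_0 : AllBelow (eltOk elts table 17) 0 := AllBelow.zero _

theorem elt17_1 : AllBelow (eltOk elts table 17) 120 :=
  AllBelow.step elt17_0 120 (by decide +kernel)

theorem elt18_0 : AllBelow (eltOk elts table 18) 0 := AllBelow.zero _

theorem elt18_1 : AllBelow (eltOk elts table 18) 120 :=
  AllBelow.step elt18_0 120 (by decide +kernel)

theorem elt19_0 : AllBelow (eltOk elts table 19) 0 := AllBelow.zero _

theorem elt19_1 : AllBelow (eltOk elts table 19) 120 :=
  AllBelow.step elt19_0 120 (by decide +kernel)

theorem elt20_0 : AllBelow (eltOk elts table 20) 0 := AllBelow.zero _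

theorem elt20_1 : AllBelow (eltOk elts table 20) 120 :=
  AllBelow.step elt20_0 120 (by decide +kernel)

theorem elt21_0 : AllBelow (eltOk elts table 21) 0 := AllBelow.zero _

theorem elt21_1 : AllBelow (eltOk elts table 21) 120 :=
  AllBelow.step elt21_0 120 (by decide +kernel)

theorem elts_ok : ∀ k, k < elts.words.length → AllBelow (eltOk elts table k) table.N := by
  intro k hk
  have hk' : k < 22 := hk
  match k, hk' with
  | 0, _ => exact elt0_1
  | 1, _ => exact elt1_1
  | 2, _ => exact elt2_1
  | 3, _ => exact elt3_1
  | 4, _ => exact elt4_1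
  | 5, _ => exact elt5_1
  | 6, _ => exact elt6_1
  | 7, _ => exact elt7_1
  | 8, _ => exact elt8_1
  | 9, _ => exact elt9_1
  | 10, _ => exact elt10_1
  | 11, _ => exact elt11_1
  | 12, _ => exact elt12_1
  | 13, _ => exact elt13_1
  | 14, _ => exact elt14_1
  | 15, _ => exact elt15_1
  | 16, _ => exact elt16_1
  | 17, _ => exact elt17_1
  | 18, _ => exact elt18_1
  | 19, _ => exact elt19_1
  | 20, _ => exact elt20_1
  | 21, _ => exact elt21_1
  | n + 22, h => omega

theorem fix0 : fixOk elts table [0, 1, 2, 3, 4, 5, 6, 7] [] = true := by decide +kernel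

theorem stage0_ok : AllBelow (stageOk elts table stage0 [0, 1, 2, 3, 4, 5, 6, 7] 0) table.N := by
  intro i hi
  exact (allFrom_iff _ table.N 0).mp (by decide +kernel) i (Nat.zero_le i) (by omega)

theorem stage0_count : countLabel stage0 1 table.N = 120 := by decide +kernel

theorem fix1 : fixOk elts table [8, 9, 10, 12, 13, 17, 19, 22, 24, 26, 27, 29] [0] = true := by decide +kernel

theorem stage1_ok : AllBelow (stageOk elts table stage1 [8, 9, 10, 12, 13, 17, 19, 22, 24, 26, 27, 29] 2) table.N := by
  intro i hi
  exact (allFrom_iff _ table.N 0).mp (by decide +kernel) i (Nat.zero_le i) (by omega)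

theorem stage1_count : countLabel stage1 1 table.N = 56 := by decide +kernel

theorem fix2 : fixOk elts table [9, 12, 13, 17, 19, 22, 24, 26, 27, 29] [2, 0] = true := by decide +kernel

theorem stage2_ok : AllBelow (stageOk elts table stage2 [9, 12, 13, 17, 19, 22, 24, 26, 27, 29] 3) table.N := by
  intro i hi
  exact (allFrom_iff _ table.N 0).mp (by decide +kernel) i (Nat.zero_le i) (by omega)

theorem stage2_count : countLabel stage2 1 table.N = 27 := by decide +kernel

theorem fix3 : fixOk elts table [17, 19, 22, 24, 26, 27, 29] [3, 2, 0] = true := by decide +kernel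

theorem stage3_ok : AllBelow (stageOk elts table stage3 [17, 19, 22, 24, 26, 27, 29] 1) table.N := by
  intro i hi
  exact (allFrom_iff _ table.N 0).mp (by decide +kernel) i (Nat.zero_le i) (by omega)

theorem stage3_count : countLabel stage3 1 table.N = 16 := by decide +kernel

theorem fix4 : fixOk elts table [19, 22, 24, 26, 27, 29] [1, 3, 2, 0] = true := by decide +kernel

theorem stage4_ok : AllBelow (stageOk elts table stage4 [19, 22, 24, 26, 27, 29] 4) table.N := by
  intro i hi
  exact (allFrom_iff _ table.N 0).mp (by decide +kernel) i (Nat.zero_le i) (by omega)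

theorem stage4_count : countLabel stage4 1 table.N = 10 := by decide +kernel

theorem fix5 : fixOk elts table [24, 26, 27, 29] [4, 1, 3, 2, 0] = true := by decide +kernel

theorem stage5_ok : AllBelow (stageOk elts table stage5 [24, 26, 27, 29] 5) table.N := by
  intro i hi
  exact (allFrom_iff _ table.N 0).mp (by decide +kernel) i (Nat.zero_le i) (by omega)

theorem stage5_count : countLabel stage5 1 table.N = 6 := by decide +kernel

theorem fix6 : fixOk elts table [29] [5, 4, 1, 3, 2, 0] = true := by decide +kernel

theorem stage6_ok : AllBelow (stageOk elts table stage6 [29] 6) table.N := by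
  intro i hi
  exact (allFrom_iff _ table.N 0).mp (by decide +kernel) i (Nat.zero_le i) (by omega)

theorem stage6_count : countLabel stage6 1 table.N = 2 := by decide +kernel

end Cfsg.Agent.CosetCertFi23W8Sgs
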