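import Cfsg.Agent.Lib.CosetCertTable

/-!
Coset enumeration certificates where the letters `2` and `3` are inverse to each other and every
other letter is an involution. Facts, packings and justification codes are those of `CosetCertCore`.
-/

set_option autoImplicit false

namespace Cfsg.Agent.CosetCertFlip66

open Cfsg.Agent.CosetCertCore Cfsg.Agent.CosetCertTable

/-- The inverse letter. -/
noncomputable def flp (x : Nat) : Nat := cond (Nat.beq x 2) 3 (cond (Nat.beq x 3) 2 x)

theorem flp_flp (x : Nat) : flp (flp x) = x := by
  unfold flp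
  by_cases h6 : x = 2
  · subst h6; rfl
  by_cases h7 : x = 3
  · subst h7; rfl
  have a : Nat.beq x 2 = false := by rw [← Bool.not_eq_true, Nat.beq_eq]; exact h6
  have b : Nat.beq x 3 = false := by rw [← Bool.not_eq_true, Nat.beq_eq]; exact h7
  simp only [a, b, cond_false]

/-- One step along fact `e` from `cur` with letter `y`. -/
noncomputable def stepLetter (e cur y : Nat) (k : Nat → Option Nat) : Option Nat :=
  cond (Nat.beq cur (fp e) && Nat.beq (y + 1) (fc e)) (k (fq e))
    (cond (Nat.beq cur (fq e) && Nat.beq (flp y + 1) (fc e)) (k (fp e)) none)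

/-- One step along an equality fact. -/
noncomputable def stepEq (e cur : Nat) (k : Nat → Option Nat) : Option Nat :=
  cond (Nat.beq cur (fp e)) (k (fq e)) (cond (Nat.beq cur (fq e)) (k (fp e)) none)

/-- Follow `fuel` facts with indices packed in `pk` starting from `cur`, spelling exactly `W`. -/
noncomputable def walk (F : Nat → Nat) (bound : Nat) :
    Nat → Nat → Nat → List Nat → Option Nat := fun fuel =>
  Nat.rec (motive := fun _ => Nat → Nat → List Nat → Option Nat)
    (fun _ cur W => List.rec (motive := fun _ => Option Nat) (some cur) (fun _ _ _ => none) W)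
    (fun _ ih pk cur W =>
      force (Nat.land pk 1048575) fun f =>
      force (F f) fun e =>
      force (Nat.shiftRight pk 20) fun pk' =>
      cond (Nat.blt f bound)
        (cond (Nat.beq (fc e) 0) (stepEq e cur fun nx => force nx fun n => ih pk' n W)
          (List.rec (motive := fun _ => Option Nat) none
            (fun y r _ => stepLetter e cur y fun nx => force nx fun n => ih pk' n r) W))
        none) fuel

/-- Check a path `p → mid → q` through the word `B` and then `A`. -/
noncomputable def splitCheck (C : Cert) (i e split len pk : Nat) (B A : List Nat) (k : Nat → Bool) : Bool :=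
  optAll (walk C.fact i split pk (fp e) B) fun mid =>
    force mid fun m =>
    k m && optAll (walk C.fact i (len - split) (Nat.shiftRight pk (20 * split)) m A) fun r =>
      Nat.beq r (fq e)

/-- Check a word justification. -/
noncomputable def wordCheck (C : Cert) (i e rot split len pk : Nat) (w : List Nat) (k : Nat → Bool) : Bool :=
  cond (Nat.beq (fc e) 0) (splitCheck C i e split len pk (w.drop rot) (w.take rot) k)
    (Nat.blt 0 rot && Nat.ble rot w.length && Nat.beq (flp (w.getD (rot - 1) 0) + 1) (fc e) &&
      splitCheck C i e split len pk (w.drop rot) (w.take (rot - 1)) k)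

/-- Check a justification `j` of fact `i` whose packed value is `e`. -/
noncomputable def justOk (C : Cert) (i e j : Nat) : Bool :=
  force (Nat.land j 255) fun code =>
  force (Nat.land (Nat.shiftRight j 8) 4095) fun rot =>
  force (Nat.land (Nat.shiftRight j 20) 4095) fun split =>
  force (Nat.land (Nat.shiftRight j 32) 4095) fun len =>
  force (Nat.shiftRight j 44) fun pk =>
  cond (Nat.beq code 0)
    (Nat.blt 0 (fc e) && Nat.blt (fp e) (fq e) && Nat.beq (entry C.D 32 (fq e)) i)
    (cond (Nat.beq code 1)
      (optAll (walk C.fact i len pk (fp e) (cond (Nat.beq (fc e) 0) [] [fc e - 1]))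
        fun r => Nat.beq r (fq e))
      (cond (Nat.beq code 2)
        (Nat.beq (fc e) 0 && optAll (walk C.fact i len pk (fp e) [rot, flp rot]) fun r => Nat.beq r (fq e))
        (cond (Nat.blt (code - 3) C.rels.length)
          (wordCheck C i e rot split len pk (C.rels.getD (code - 3) []) fun _ => true)
          (Nat.blt (code - 3 - C.rels.length) C.sgens.length &&
            wordCheck C i e rot split len pk (C.sgens.getD (code - 3 - C.rels.length) [])
              fun m => Nat.beq m 0))))

/-- Check the justifications `L` of the facts numbered from `lo` on. -/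
noncomputable def checkList (C : Cert) (L : List Nat) : Nat → Bool :=
  List.rec (motive := fun _ => Nat → Bool) (fun _ => true)
    (fun j _ ih i => force (C.fact i) (fun e => justOk C i e j) && force (i + 1) ih) L

theorem checkList_cons (C : Cert) (j : Nat) (t : List Nat) (i : Nat) :
    checkList C (j :: t) i = (justOk C i (C.fact i) j && checkList C t (i + 1)) := by
  simp only [checkList, force_eq]

theorem walk_zero (F : Nat → Nat) (bound pk cur : Nat) (W : List Nat) :
    walk F bound 0 pk cur W = if W = [] then some cur else none := by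
  cases W <;> rfl

theorem walk_succ_nil (F : Nat → Nat) (bound n pk cur : Nat) :
    walk F bound (n + 1) pk cur [] =
      cond (Nat.blt (Nat.land pk 1048575) bound)
        (cond (Nat.beq (fc (F (Nat.land pk 1048575))) 0)
          (stepEq (F (Nat.land pk 1048575)) cur fun nx => walk F bound n (Nat.shiftRight pk 20) nx [])
          none)
        none := by
  simp only [walk, force_eq]

theorem walk_succ_cons (F : Nat → Nat) (bound n pk cur y : Nat) (t : List Nat) :
    walk F bound (n + 1) pk cur (y :: t) =
      cond (Nat.blt (Nat.land pk 1048575) bound)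
        (cond (Nat.beq (fc (F (Nat.land pk 1048575))) 0)
          (stepEq (F (Nat.land pk 1048575)) cur fun nx =>
            walk F bound n (Nat.shiftRight pk 20) nx (y :: t))
          (stepLetter (F (Nat.land pk 1048575)) cur y fun nx =>
            walk F bound n (Nat.shiftRight pk 20) nx t))
        none := by
  simp only [walk, force_eq]

section Semantics

variable {G X : Type*} [Group G] [MulAction G X] (g : Nat → G)

/-- Inverse letters act inversely. -/
def Inv : Prop := ∀ x, g (flp x) = (g x)⁻¹

theorem act_eq (w : List Nat) (a : X) : act g w a = (w.reverse.map g).prod • a := by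
  induction w generalizing a with
  | nil => simp [act]
  | cons x w ih =>
    rw [act_cons, ih, smul_smul, List.reverse_cons, List.map_append, List.prod_append]
    simp

theorem act_inj (w : List Nat) {a b : X} (h : act g w a = act g w b) : a = b := by
  rw [act_eq, act_eq] at h
  exact MulAction.injective _ h

variable (v : Nat → X) (hg : Inv g)
include hg

omit hg in
theorem stepEq_sound {e cur : Nat} {k : Nat → Option Nat} {r : Nat}
    (hs : Sem g v e) (h0 : fc e = 0) (h : stepEq e cur k = some r) :
    ∃ nx, k nx = some r ∧ v nx = v cur := by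
  unfold Sem at hs
  rw [if_pos h0] at hs
  unfold stepEq at h
  simp only [Bool.cond_eq_ite, Nat.beq_eq] at h
  split at h
  · rename_i hc
    exact ⟨_, h, by rw [hc]; exact hs.symm⟩
  · split at h
    · rename_i hc
      exact ⟨_, h, by rw [hc]; exact hs⟩
    · simp at h

theorem stepLetter_sound {e cur y : Nat} {k : Nat → Option Nat} {r : Nat}
    (hs : Sem g v e) (h : stepLetter e cur y k = some r) :
    ∃ nx, k nx = some r ∧ v nx = g y • v cur := by
  unfold Sem at hs
  unfold stepLetter at h
  simp only [Bool.cond_eq_ite, Bool.and_eq_true, Nat.beq_eq] at h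
  split at h
  · rename_i hc
    rw [if_neg (by omega), show fc e - 1 = y by omega] at hs
    exact ⟨_, h, by rw [hc.1]; exact hs.symm⟩
  · split at h
    · rename_i hc
      rw [if_neg (by omega), show fc e - 1 = flp y by omega, hg, inv_smul_eq_iff] at hs
      exact ⟨_, h, by rw [hc.1]; exact hs⟩
    · simp at h

theorem walk_sound (F : Nat → Nat) (bound : Nat) (hF : ∀ i < bound, Sem g v (F i)) :
    ∀ (fuel pk cur : Nat) (W : List Nat) (r : Nat),
      walk F bound fuel pk cur W = some r → act g W (v cur) = v r := by
  intro fuel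
  induction fuel with
  | zero =>
    intro pk cur W r h
    rw [walk_zero] at h
    split at h
    · rename_i hW
      subst hW
      simp only [Option.some.injEq] at h
      rw [h, act_nil]
    · simp at h
  | succ n ih =>
    intro pk cur W r h
    cases W with
    | nil =>
      rw [walk_succ_nil] at h
      simp only [Bool.cond_eq_ite, Nat.blt_eq, Nat.beq_eq] at h
      split at h
      · rename_i hb
        split at h
        · rename_i h0
          obtain ⟨nx, hk, hv⟩ := stepEq_sound g v (hF _ hb) h0 h
          rw [← ih _ _ _ _ hk, hv]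
        · simp at h
      · simp at h
    | cons y t =>
      rw [walk_succ_cons] at h
      simp only [Bool.cond_eq_ite, Nat.blt_eq, Nat.beq_eq] at h
      split at h
      · rename_i hb
        split at h
        · rename_i h0
          obtain ⟨nx, hk, hv⟩ := stepEq_sound g v (hF _ hb) h0 h
          rw [← ih _ _ _ _ hk, hv]
        · obtain ⟨nx, hk, hv⟩ := stepLetter_sound g v hg (hF _ hb) h
          rw [act_cons, ← ih _ _ _ _ hk, hv]
      · simp at h

theorem splitCheck_sound (C : Cert) {i : Nat} (hv : AllValid g v C i)
    {e split len pk : Nat} {B A : List Nat} {k : Nat → Bool}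
    (h : splitCheck C i e split len pk B A k = true) :
    ∃ mid, k mid = true ∧ act g B (v (fp e)) = v mid ∧ act g A (v mid) = v (fq e) := by
  obtain ⟨mid, hm, h⟩ := optAll_eq_true h
  rw [force_eq, Bool.and_eq_true] at h
  obtain ⟨r, hr, h2⟩ := optAll_eq_true h.2
  refine ⟨mid, h.1, walk_sound g v hg C.fact i hv _ _ _ _ _ hm, ?_⟩
  rw [walk_sound g v hg C.fact i hv _ _ _ _ _ hr, Nat.beq_eq.mp h2]

theorem wordCheck_sound (C : Cert) {i : Nat} (hv : AllValid g v C i)
    {e rot split len pk : Nat} {w : List Nat} {k : Nat → Bool}
    (hk : ∀ m, k m = true → act g w (v m) = v m)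
    (h : wordCheck C i e rot split len pk w k = true) : Sem g v e := by
  unfold wordCheck at h
  unfold Sem
  by_cases h0 : fc e = 0
  · rw [h0] at h
    simp only [Nat.beq_refl, cond_true] at h
    obtain ⟨mid, hm, hB, hA⟩ := splitCheck_sound g v hg C hv h
    rw [if_pos h0]
    have hw := hk mid hm
    rw [← List.take_append_drop rot w, act_append, hA] at hw
    exact act_inj g (w.drop rot) (hB.trans hw.symm)
  · have hb : Nat.beq (fc e) 0 = false := by
      rw [← Bool.not_eq_true, Nat.beq_eq]; exact h0
    rw [hb] at h
    simp only [cond_false, Bool.and_eq_true, Nat.blt_eq, Nat.ble_eq, Nat.beq_eq] at h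
    obtain ⟨⟨⟨h1, h2⟩, h3⟩, h4⟩ := h
    obtain ⟨mid, hm, hB, hA⟩ := splitCheck_sound g v hg C hv h4
    rw [if_neg h0]
    have hw := hk mid hm
    rw [← List.take_append_drop rot w, act_append, take_succ_getD w h1 h2, act_append, hA] at hw
    have : act g [w.getD (rot - 1) 0] (v (fq e)) = v (fp e) :=
      act_inj g (w.drop rot) (hw.trans hB.symm)
    rw [act_cons, act_nil] at this
    rw [show fc e - 1 = flp (w.getD (rot - 1) 0) by omega, hg, inv_smul_eq_iff]
    exact this.symm

variable (base : X)

omit hg in
/-- The hypotheses under which a certificate is sound. -/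
structure Ctx (C : Cert) : Prop where
  inv : Inv g
  rels : ∀ w ∈ C.rels, ∀ a : X, act g w a = a
  sgens : ∀ w ∈ C.sgens, act g w base = base

omit hg in
theorem justOk_sound {C : Cert} (hC : Ctx g base C) {i j : Nat}
    (hv : AllValid g (nodeVal g base C) C i) (h : justOk C i (C.fact i) j = true) :
    Sem g (nodeVal g base C) (C.fact i) := by
  simp only [justOk, force_eq] at h
  generalize hcode : Nat.land j 255 = code at h
  generalize hrot : Nat.land (Nat.shiftRight j 8) 4095 = rot at h
  generalize hsplit : Nat.land (Nat.shiftRight j 20) 4095 = split at h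
  generalize hlen : Nat.land (Nat.shiftRight j 32) 4095 = len at h
  generalize hpk : Nat.shiftRight j 44 = pk at h
  cases hc0 : Nat.beq code 0 with
  | true =>
    rw [hc0] at h
    simp only [cond_true, Bool.and_eq_true, Nat.blt_eq, Nat.beq_eq] at h
    obtain ⟨⟨h1, h2⟩, h3⟩ := h
    unfold Sem
    rw [if_neg (by omega), nodeVal_eq g base C (fq (C.fact i)), h3, if_pos h2]
  | false =>
    rw [hc0] at h
    cases hc1 : Nat.beq code 1 with
    | true =>
      rw [hc1] at h
      obtain ⟨r, hr, hq⟩ := optAll_eq_true (by simpa only [cond_true, cond_false] using h)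
      have hw := walk_sound g _ hC.inv C.fact i hv _ _ _ _ _ hr
      rw [Nat.beq_eq.mp hq] at hw
      unfold Sem
      by_cases h0 : fc (C.fact i) = 0
      · rw [if_pos h0]; simpa [h0, act] using hw
      · have hb : Nat.beq (fc (C.fact i)) 0 = false := by
          rw [← Bool.not_eq_true, Nat.beq_eq]; exact h0
        rw [if_neg h0]; simpa [hb, act] using hw
    | false =>
      rw [hc1] at h
      cases hc2 : Nat.beq code 2 with
      | true =>
        rw [hc2] at h
        simp only [cond_true, cond_false, Bool.and_eq_true, Nat.beq_eq] at h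
        obtain ⟨r, hr, hq⟩ := optAll_eq_true h.2
        have hw := walk_sound g _ hC.inv C.fact i hv _ _ _ _ _ hr
        rw [Nat.beq_eq.mp hq] at hw
        unfold Sem
        rw [if_pos h.1, ← hw, act_cons, act_cons, act_nil, hC.inv, inv_smul_smul]
      | false =>
        rw [hc2] at h
        simp only [cond_false] at h
        cases hr : Nat.blt (code - 3) C.rels.length with
        | true =>
          rw [hr] at h
          simp only [cond_true] at h
          refine wordCheck_sound g _ hC.inv C hv (fun m _ => ?_) h
          apply hC.rels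
          rw [Nat.blt_eq] at hr
          rw [List.getD_eq_getElem _ _ hr]
          exact List.getElem_mem hr
        | false =>
          rw [hr] at h
          simp only [cond_false, Bool.and_eq_true, Nat.blt_eq] at h
          refine wordCheck_sound g _ hC.inv C hv (fun m hm => ?_) h.2
          rw [Nat.beq_eq.mp hm, nodeVal_zero]
          apply hC.sgens
          rw [List.getD_eq_getElem _ _ h.1]
          exact List.getElem_mem h.1

omit hg in
theorem checkList_sound {C : Cert} (hC : Ctx g base C) :
    ∀ (L : List Nat) (lo : Nat), AllValid g (nodeVal g base C) C lo → checkList C L lo = true →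
      AllValid g (nodeVal g base C) C (lo + L.length) := by
  intro L
  induction L with
  | nil => intro lo h _; simpa using h
  | cons j t ih =>
    intro lo hv h
    rw [checkList_cons, Bool.and_eq_true] at h
    have hs := justOk_sound g base hC hv h.1
    have hv' : AllValid g (nodeVal g base C) C (lo + 1) := by
      intro k hk
      rcases Nat.lt_succ_iff_lt_or_eq.mp hk with hk | hk
      · exact hv k hk
      · rw [hk]; exact hs
    have := ih (lo + 1) hv' h.2
    rw [List.length_cons, show lo + (t.length + 1) = lo + 1 + t.length by omega]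
    exact this

end Semantics

/-- Edge `(i, x)` of the final table is witnessed by a fact. -/
noncomputable def edgeOk (C : Cert) (M : Nat) (D : Table) (i x : Nat) : Bool :=
  force (D.img x i) fun j =>
  force (Nat.land (Nat.shiftRight (entry D.E (20 * D.NG) i) (20 * x)) 1048575) fun f =>
  force (C.fact f) fun e =>
  force (D.node i) fun ni =>
  force (D.node j) fun nj =>
  Nat.blt j D.N && Nat.blt f M &&
    ((Nat.beq (fc e) (x + 1) && Nat.beq (fp e) ni && Nat.beq (fq e) nj) ||
      (Nat.beq (fc e) (flp x + 1) && Nat.beq (fp e) nj && Nat.beq (fq e) ni))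

/-- All edges at point `i`. -/
noncomputable def edgesOk (C : Cert) (M : Nat) (D : Table) (i : Nat) : Bool :=
  allFrom (edgeOk C M D i) D.NG 0

theorem node_edge {C : Cert} {M : Nat} {D : Table} {G X : Type*} [Group G] [MulAction G X]
    (g : Nat → G) (hg : Inv g) (v : Nat → X) (hM : AllValid g v C M)
    (hD : AllBelow (edgesOk C M D) D.N) {i x : Nat} (hi : i < D.N) (hx : x < D.NG) :
    D.img x i < D.N ∧ v (D.node (D.img x i)) = g x • v (D.node i) := by
  have he := (allFrom_iff _ _ _).mp (hD i hi) x (Nat.zero_le x) (by omega)
  simp only [edgeOk, force_eq, Bool.and_eq_true, Bool.or_eq_true, Nat.blt_eq, Nat.beq_eq] at he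
  obtain ⟨⟨h1, h2⟩, h3⟩ := he
  refine ⟨h1, ?_⟩
  have hs := hM _ h2
  unfold Sem at hs
  rcases h3 with ⟨⟨c, p⟩, q⟩ | ⟨⟨c, p⟩, q⟩
  · rw [if_neg (by omega), p, q,
      show fc (C.fact _) - 1 = x by omega] at hs
    exact hs.symm
  · rw [if_neg (by omega), p, q,
      show fc (C.fact _) - 1 = flp x by omega, hg, inv_smul_eq_iff] at hs
    exact hs

/-- The value of a word whose first letter acts first. -/
def vr {G : Type*} [Group G] (g : Nat → G) (w : List Nat) : G := (w.reverse.map g).prod

theorem vr_append {G : Type*} [Group G] (g : Nat → G) (v w : List Nat) :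
    vr g (v ++ w) = vr g w * vr g v := by
  simp [vr]

theorem vr_cons {G : Type*} [Group G] (g : Nat → G) (x : Nat) (w : List Nat) :
    vr g (x :: w) = vr g w * g x := by
  simp [vr]

/-- A checked certificate with a closed table. -/
structure Closed (C : Cert) (M : Nat) (D : Table) : Prop where
  npos : 0 < D.N
  node0 : D.node 0 = 0
  flipClosed : ∀ x < D.NG, flp x < D.NG
  edges : AllBelow (edgesOk C M D) D.N
  facts : ∀ {G X : Type} [Group G] [MulAction G X] (g : Nat → G) (base : X),
    Ctx g base C → AllValid g (nodeVal g base C) C M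

section Closed

variable {C : Cert} {M : Nat} {D : Table} (hD : Closed C M D)
  {G : Type} [Group G] (g : Nat → G) (H : Subgroup G)
  (hinv : Inv g) (hrels : ∀ w ∈ C.rels, vr g w = 1) (hs : ∀ w ∈ C.sgens, vr g w ∈ H)

include hinv hrels hs in
theorem ctx_of : Ctx g ((1 : G) : G ⧸ H) C := by
  refine ⟨hinv, fun w hw a => ?_, fun w hw => ?_⟩
  · rw [act_eq, ← vr, hrels w hw, one_smul]
  · rw [act_eq, ← vr]
    show ((vr g w * 1 : G) : G ⧸ H) = _
    rw [mul_one, QuotientGroup.eq, mul_one, inv_mem_iff]
    exact hs w hw

/-- The coset of a point. -/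
noncomputable def pt (g : Nat → G) (H : Subgroup G) (C : Cert) (D : Table) (i : Nat) : G ⧸ H :=
  nodeVal g ((1 : G) : G ⧸ H) C (D.node i)

include hD in
theorem pt_zero : pt g H C D 0 = ((1 : G) : G ⧸ H) := by
  rw [pt, hD.node0, nodeVal_zero]

include hD hinv hrels hs

theorem pt_run (w : List Nat) (hw : ∀ x ∈ w, x < D.NG) {i : Nat} (hi : i < D.N) :
    D.run w i < D.N ∧ vr g w • pt g H C D i = pt g H C D (D.run w i) := by
  have hctx := ctx_of g H hinv hrels hs
  have hM := hD.facts g _ hctx
  induction w generalizing i with
  | nil => exact ⟨hi, by simp [vr, Table.run_nil]⟩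
  | cons x w ih =>
    obtain ⟨h1, h2⟩ := node_edge g hinv _ hM hD.edges hi (hw x (List.mem_cons_self ..))
    obtain ⟨h3, h4⟩ := ih (fun y hy => hw y (List.mem_cons_of_mem _ hy)) h1
    rw [Table.run_cons]
    refine ⟨h3, ?_⟩
    rw [← h4, vr_cons, mul_smul]
    exact congrArg (vr g w • ·) h2.symm

theorem mem_of_run {w : List Nat} (hw : ∀ x ∈ w, x < D.NG) (h0 : D.run w 0 = 0) : vr g w ∈ H := by
  have h := (pt_run hD g H hinv hrels hs w hw hD.npos).2
  rw [h0, pt_zero hD g H] at h
  change ((vr g w * 1 : G) : G ⧸ H) = _ at h
  rwa [mul_one, QuotientGroup.eq, mul_one, inv_mem_iff] at h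

theorem pt_surjective (hgen : Subgroup.closure {y | ∃ x, x < D.NG ∧ y = g x} = ⊤) (q : G ⧸ H) :
    ∃ i < D.N, pt g H C D i = q := by
  have hstep : ∀ x, x < D.NG → ∀ i, i < D.N → ∃ j < D.N, g x • pt g H C D i = pt g H C D j := by
    intro x hx i hi
    obtain ⟨h1, h2⟩ := pt_run hD g H hinv hrels hs [x] (by simpa using hx) hi
    exact ⟨_, h1, by simpa [vr] using h2⟩
  have hcl : ∀ k : G, ∀ i, i < D.N → ∃ j < D.N, k • pt g H C D i = pt g H C D j := by
    intro k
    have hk : k ∈ Subgroup.closure {y | ∃ x, x < D.NG ∧ y = g x} := hgen ▸ Subgroup.mem_top k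
    induction hk using Subgroup.closure_induction'' with
    | mem y hy =>
      obtain ⟨x, hx, rfl⟩ := hy
      exact hstep x hx
    | inv_mem y hy =>
      obtain ⟨x, hx, rfl⟩ := hy
      rw [← hinv x]
      exact hstep _ (hD.flipClosed x hx)
    | one => intro i hi; exact ⟨i, hi, one_smul _ _⟩
    | mul a b _ _ ha hb =>
      intro i hi
      obtain ⟨j, hj, hj'⟩ := hb i hi
      obtain ⟨l, hl, hl'⟩ := ha j hj
      exact ⟨l, hl, by rw [mul_smul, hj', hl']⟩
  induction q using QuotientGroup.induction_on with
  | H k =>
    obtain ⟨j, hj, hj'⟩ := hcl k 0 hD.npos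
    refine ⟨j, hj, hj'.symm.trans ?_⟩
    rw [pt_zero hD g H]
    show ((k * 1 : G) : G ⧸ H) = _
    rw [mul_one]

theorem cosets_le (hgen : Subgroup.closure {y | ∃ x, x < D.NG ∧ y = g x} = ⊤) :
    Finite (G ⧸ H) ∧ Nat.card (G ⧸ H) ≤ D.N := by
  have hsurj : Function.Surjective (fun i : Fin D.N => pt g H C D i) := fun q =>
    let ⟨i, hi, h⟩ := pt_surjective hD g H hinv hrels hs hgen q
    ⟨⟨i, hi⟩, h⟩
  exact ⟨Finite.of_surjective _ hsurj,
    (Nat.card_le_card_of_surjective _ hsurj).trans_eq (Nat.card_fin _)⟩

end Closed

end Cfsg.Agent.CosetCertFlip66
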