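import Cfsg.Agent.Lib.CosetCertOrder

/-!
Restricting the action of a point stabiliser to one suborbit: a presented group `Q` acting there
gives a lower bound for the stabiliser and identifies it as a double cover.
-/

set_option autoImplicit false
set_option linter.style.haveILetI false

namespace Cfsg.Agent.CosetCertRestrict

open Cfsg.Agent.CosetCertCore Cfsg.Agent.CosetCertTable Cfsg.Agent.CosetCertPres
open Cfsg.Agent.CosetCertOrder

/-- A homomorphism out of a Coxeter presented group, from values on the numbered generators. -/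
theorem lift_rels {Q : Pres} (hQ : Q.Good) (hnd : Q.gens.Nodup) {K : Type*} [Group K] (f : Nat → K)
    (hinv : ∀ x, f x * f x = 1) (hw : ∀ w ∈ Q.relWords, val f w = 1)
    (hl : ∀ e ∈ Q.extra, ∀ x ∈ e.letters, x < Q.gens.length) :
    ∀ r ∈ Cfsg.Spor.coxRelators Q.edges ∪ {r | r ∈ Q.extraRels},
      FreeGroup.lift (fun a => f (Q.gens.idxOf a)) r = 1 := by
  rintro r (⟨a, -, b, -, rfl⟩ | hr)
  · rw [map_pow, map_mul, FreeGroup.lift_apply_of, FreeGroup.lift_apply_of]
    have main : ∀ a b : Q.α, Q.gens.idxOf a ≤ Q.gens.idxOf b → Q.gens.idxOf b < Q.gens.length →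
        (f (Q.gens.idxOf a) * f (Q.gens.idxOf b)) ^ Cfsg.Spor.coxLabel Q.edges a b = 1 := by
      intro a b hab hb
      have hm := hw _ (pairWord_mem hab hb)
      unfold Pres.pairWord at hm
      split at hm
      · rename_i he
        rw [he, hinv, one_pow]
      · rw [val_replicate] at hm
        simp only [val_cons, val_nil, mul_one, gen_idxOf hQ] at hm
        exact hm
    rcases le_total (Q.gens.idxOf a) (Q.gens.idxOf b) with hab | hab
    · exact main a b hab (List.idxOf_lt_length_of_mem (hQ.complete b))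
    · have := main b a hab (List.idxOf_lt_length_of_mem (hQ.complete a))
      rw [hQ.symm b a] at this
      rw [← inv_eq_one, ← inv_pow, mul_inv_rev, inv_of_sq _ hinv, inv_of_sq _ hinv]
      exact this
  · obtain ⟨e, he, rfl⟩ := List.mem_map.mp hr
    rw [map_eval, ← val_letters _ (fun x => by simp only [FreeGroup.lift_apply_of]; exact hinv _)]
    simp only [FreeGroup.lift_apply_of]
    rw [← hw e.letters (List.mem_append_right _ (List.mem_map.mpr ⟨e, he, rfl⟩))]
    apply val_congr
    intro x hx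
    have hx' := hl e he x hx
    unfold Pres.gen
    rw [List.getD_eq_getElem _ _ hx']
    simp [hnd]

section

variable {P : Pres} {S : List Wx} {C : Cert} {M : Nat} {D : Table}
  (h : Enumerated P S C M D) {O : Tbl} {roots : List Nat}
  (hO : AllBelow (orbOk O roots C.sgens D) D.N)
  {σ : List Nat} (hne : σ ≠ []) (hσ : ∀ x ∈ σ, x < D.NG) (hsg : ∀ x ∈ σ, [x] ∈ C.sgens)
include h hO hσ hsg

theorem label_gen (x : Nat) (hx : x ∈ σ) (i : Fin D.N) :
    oLabel (entry O 48 (rho h (P.gg x) i)) = oLabel (entry O 48 i) := by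
  have := (orb_facts h hO i i.2).1 [x] (hsg x hx)
  rw [Table.run_cons, Table.run_nil] at this
  rw [rho_gg h x (hσ x hx), perm_apply h.table (hσ x hx)]
  exact this

theorem label_span {k : P.Grp} (hk : k ∈ span P.gg σ) (i : Fin D.N) :
    oLabel (entry O 48 (rho h k i)) = oLabel (entry O 48 i) := by
  induction hk using Subgroup.closure_induction generalizing i with
  | mem k hk => obtain ⟨x, hx, rfl⟩ := hk; exact label_gen h hO hσ hsg x hx i
  | one => simp
  | mul a b _ _ ha hb => rw [map_mul, Equiv.Perm.mul_apply, ha, hb]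
  | inv a _ ha =>
    have := ha (rho h a⁻¹ i)
    rw [← Equiv.Perm.mul_apply, ← map_mul, mul_inv_cancel, map_one, Equiv.Perm.one_apply] at this
    exact this.symm

/-- The action of the span on one suborbit. -/
noncomputable def restrict (l : Nat) :
    span P.gg σ →* Equiv.Perm {i : Fin D.N // oLabel (entry O 48 i) = l} where
  toFun k := (rho h (k : P.Grp)).subtypePerm fun i => by rw [label_span h hO hσ hsg k.2 i]
  map_one' := by ext i; simp
  map_mul' a b := by
    refine Equiv.ext fun i => Subtype.ext ?_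
    show rho h ((a * b : span P.gg σ) : P.Grp) i = rho h (a : P.Grp) (rho h (b : P.Grp) i)
    rw [Subgroup.coe_mul, map_mul, Equiv.Perm.mul_apply]

theorem restrict_apply (l : Nat) (k : span P.gg σ) (i : {i : Fin D.N // oLabel (entry O 48 i) = l}) :
    ((restrict h hO hσ hsg l k i : {i : Fin D.N // oLabel (entry O 48 i) = l}) : Fin D.N) =
      rho h (k : P.Grp) i := rfl

omit hσ hsg hO in
theorem rho_val_apply {w : List Nat} (hw : ∀ x ∈ w, x < D.NG) (i : Fin D.N) :
    (((rho h (val P.gg w))⁻¹ i : Fin D.N) : Nat) = D.run w i := by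
  rw [rho_val h hw, ← Equiv.Perm.smul_def, ← act_eq _ (perm_sq h.table), act_perm h.table w hw]

theorem restrict_word (l : Nat) (w : List Nat)
    (hfix : ∀ i < D.N, oLabel (entry O 48 i) = l → D.run (w.map (ren σ)) i = i) :
    restrict h hO hσ hsg l (val (spanGen P.gg σ hne) w) = 1 := by
  have hl : ∀ x ∈ w.map (ren σ), x < D.NG := by
    intro x hx
    obtain ⟨y, -, rfl⟩ := List.mem_map.mp hx
    exact hσ _ (ren_mem hne y)
  refine Equiv.ext fun i => Subtype.ext ?_
  rw [restrict_apply, spanGen_val, Equiv.Perm.one_apply]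
  have hi : ((rho h (val P.gg (w.map (ren σ))))⁻¹ (i : Fin D.N)) = (i : Fin D.N) :=
    Fin.ext (by rw [rho_val_apply h hl]; exact hfix i.1 i.1.2 i.2)
  rw [Equiv.Perm.inv_eq_iff_eq] at hi
  exact hi.symm

/-- What a presented group acting on a suborbit says about the stabiliser. -/
theorem exists_cover {Q : Pres} (hQ : Q.Good) (hnd : Q.gens.Nodup)
    (hQl : ∀ e ∈ Q.extra, ∀ x ∈ e.letters, x < Q.gens.length) (hlen : Q.gens.length = σ.length)
    (hsimple : IsSimpleGroup Q.Grp) (l : Nat)
    (hrel : ∀ w ∈ Q.relWords, ∀ i < D.N, oLabel (entry O 48 i) = l → D.run (w.map (ren σ)) i = i)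
    {x₀ i₀ : Nat} (hx₀ : x₀ < σ.length) (hi₀ : i₀ < D.N) (hl₀ : oLabel (entry O 48 i₀) = l)
    (hmove : D.img (ren σ x₀) i₀ ≠ i₀)
    (z : List Nat)
    (hz : ∀ i < D.N, oLabel (entry O 48 i) = l → D.run (z.map (ren σ)) i = i)
    {j₀ : Nat} (hj₀ : j₀ < D.N) (hzmove : D.run (z.map (ren σ)) j₀ ≠ j₀) :
    ∃ (ψ : span P.gg σ →* Equiv.Perm {i : Fin D.N // oLabel (entry O 48 i) = l}),
      Nonempty (Q.Grp ≃* ψ.range) ∧ val (spanGen P.gg σ hne) z ∈ ψ.ker ∧
      rho h (val (spanGen P.gg σ hne) z : span P.gg σ) ≠ 1 ∧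
      (∀ k, ψ k = 1 ↔ ∀ i : Fin D.N, oLabel (entry O 48 i) = l → rho h (k : P.Grp) i = i) := by
  classical
  set ψ := restrict h hO hσ hsg l with hψ
  let f : Nat → Equiv.Perm {i : Fin D.N // oLabel (entry O 48 i) = l} :=
    fun x => ψ (spanGen P.gg σ hne x)
  have hinv := gg_sq h.good
  have hf : ∀ x, f x * f x = 1 := fun x => by
    show ψ _ * ψ _ = 1
    rw [← map_mul, show spanGen P.gg σ hne x * spanGen P.gg σ hne x = 1 from Subtype.ext (hinv _),
      map_one]
  have hval : ∀ w, val f w = ψ (val (spanGen P.gg σ hne) w) := fun w => by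
    unfold val; rw [map_list_prod, List.map_map]; rfl
  let Φ : Q.Grp →* Equiv.Perm {i : Fin D.N // oLabel (entry O 48 i) = l} :=
    PresentedGroup.toGroup (lift_rels hQ hnd f hf
      (fun w hw => by rw [hval]; exact restrict_word h hO hne hσ hsg l w (hrel w hw)) hQl)
  have hΦ : ∀ x < Q.gens.length, Φ (Q.gg x) = f x := fun x hx => by
    show Φ (PresentedGroup.of (Q.gen x)) = _
    rw [PresentedGroup.toGroup.of]
    unfold Pres.gen
    rw [List.getD_eq_getElem _ _ hx]
    simp [hnd]
  have hmove' : f x₀ ≠ 1 := by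
    intro he
    apply hmove
    have := congrArg (fun p => ((p ⟨⟨i₀, hi₀⟩, hl₀⟩ :
      {i : Fin D.N // oLabel (entry O 48 i) = l}) : Fin D.N).1) he
    simp only [f, hψ, restrict_apply, Equiv.Perm.one_apply] at this
    rw [show ((spanGen P.gg σ hne x₀ : span P.gg σ) : P.Grp) = P.gg (ren σ x₀) from rfl,
      rho_gg h _ (hσ _ (ren_mem hne _)), perm_apply h.table (hσ _ (ren_mem hne _))] at this
    exact this
  have hinj : Function.Injective Φ := by
    haveI := hsimple
    rw [← MonoidHom.ker_eq_bot_iff]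
    refine (Subgroup.Normal.eq_bot_or_eq_top inferInstance).resolve_right fun htop => hmove' ?_
    rw [← hΦ x₀ (hlen ▸ hx₀), ← MonoidHom.mem_ker, htop]
    exact Subgroup.mem_top _
  have hrange : Φ.range = ψ.range := by
    rw [MonoidHom.range_eq_map Φ, MonoidHom.range_eq_map ψ, ← closure_gg hQ,
      ← spanGen_closure P.gg σ hne, MonoidHom.map_closure, MonoidHom.map_closure]
    congr 1
    ext p
    constructor
    · rintro ⟨_, ⟨x, hx, rfl⟩, rfl⟩
      exact ⟨_, ⟨x, hlen ▸ hx, rfl⟩, (hΦ x hx).symm⟩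
    · rintro ⟨_, ⟨x, hx, rfl⟩, rfl⟩
      exact ⟨_, ⟨x, hlen ▸ hx, rfl⟩, hΦ x (hlen ▸ hx)⟩
  refine ⟨ψ, ⟨(MonoidHom.ofInjective hinj).trans (MulEquiv.subgroupCongr hrange)⟩,
    restrict_word h hO hne hσ hsg l z hz, ?_, fun k => ⟨?_, ?_⟩⟩
  · intro he
    apply hzmove
    rw [spanGen_val] at he
    have hl : ∀ x ∈ z.map (ren σ), x < D.NG := by
      intro x hx
      obtain ⟨y, -, rfl⟩ := List.mem_map.mp hx
      exact hσ _ (ren_mem hne y)
    have := rho_val_apply h hl (⟨j₀, hj₀⟩ : Fin D.N)
    rw [he, inv_one, Equiv.Perm.one_apply] at this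
    exact this.symm
  · intro he i hi
    have := congrArg (fun p => ((p ⟨i, hi⟩ : {i : Fin D.N // oLabel (entry O 48 i) = l}) : Fin D.N)) he
    simp only [hψ, restrict_apply, Equiv.Perm.one_apply] at this
    exact this
  · intro he
    exact Equiv.ext fun i => Subtype.ext (he i.1 i.2)

end

/-- A group with a homomorphism of nontrivial kernel onto a copy of `Q` has at least twice the order. -/
theorem two_mul_card_le {K L Q : Type*} [Group K] [Group L] [Group Q] [Finite K]
    (ψ : K →* L) (e : Q ≃* ψ.range) {z : K} (hz : z ∈ ψ.ker) (hz1 : z ≠ 1) :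
    2 * Nat.card Q ≤ Nat.card K := by
  rw [← Subgroup.card_mul_index ψ.ker, Subgroup.index_ker, Nat.card_congr e.toEquiv]
  refine Nat.mul_le_mul_right _ ?_
  haveI : Nontrivial ψ.ker := ⟨⟨⟨z, hz⟩, 1, fun he => hz1 (congrArg Subtype.val he)⟩⟩
  exact Finite.one_lt_card

/-- A perfect group over a centreless `Q` with kernel of order two is a non-split double cover. -/
theorem nonsplit_double_cover {K L Q : Type*} [Group K] [Group L] [Group Q] [Finite K]
    (ψ : K →* L) (e : Q ≃* ψ.range) (hQ : Subgroup.center Q = ⊥) (hker : Nat.card ψ.ker = 2)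
    (hperf : commutator K = ⊤) :
    Nat.card (Subgroup.center K) = 2 ∧ Nonempty (K ⧸ Subgroup.center K ≃* Q) ∧
      ∀ L : Subgroup K, ¬ (Subgroup.center K).IsComplement' L := by
  have hcentre : Subgroup.center K = ψ.ker := by
    apply le_antisymm
    · intro z hz
      have : (⟨ψ z, z, rfl⟩ : ψ.range) ∈ Subgroup.center ψ.range := by
        rw [Subgroup.mem_center_iff]
        rintro ⟨_, k, rfl⟩
        apply Subtype.ext
        show ψ k * ψ z = ψ z * ψ k
        rw [← map_mul, ← map_mul, Subgroup.mem_center_iff.mp hz k]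
      have h2 : e.symm ⟨ψ z, z, rfl⟩ ∈ Subgroup.center Q := by
        rw [Subgroup.mem_center_iff] at this ⊢
        intro q
        apply e.injective
        rw [map_mul, map_mul, e.apply_symm_apply]
        exact this (e q)
      rw [hQ, Subgroup.mem_bot] at h2
      have h3 := congrArg e h2
      rw [e.apply_symm_apply, map_one] at h3
      exact congrArg Subtype.val h3
    · intro z hz
      rw [Subgroup.mem_center_iff]
      intro k
      have hconj : k * z * k⁻¹ ∈ ψ.ker := Subgroup.Normal.conj_mem inferInstance z hz k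
      by_cases h1 : z = 1
      · rw [h1, mul_one, one_mul]
      · have hne : (⟨k * z * k⁻¹, hconj⟩ : ψ.ker) ≠ 1 := fun he => h1 (by
          have := congrArg Subtype.val he
          rwa [Subgroup.coe_one, conj_eq_one_iff] at this)
        have hne' : (⟨z, hz⟩ : ψ.ker) ≠ 1 := fun he => h1 (congrArg Subtype.val he)
        obtain ⟨y, -, hy⟩ := (Nat.card_eq_two_iff' (1 : ψ.ker)).mp hker
        have := congrArg Subtype.val ((hy _ hne).trans (hy _ hne').symm)
        exact mul_inv_eq_iff_eq_mul.mp this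
  refine ⟨hcentre ▸ hker, ⟨?_⟩, fun M hM => ?_⟩
  · exact (QuotientGroup.quotientMulEquivOfEq hcentre).trans
      ((QuotientGroup.quotientKerEquivRange ψ).trans e.symm)
  · have hidx : M.index = 2 := by
      rw [← hker, ← hcentre]; exact hM.index_eq_card
    haveI := Subgroup.normal_of_index_eq_two hidx
    have hab : commutator K ≤ M := by
      rw [commutator_def, Subgroup.commutator_le]
      intro a _ b _
      haveI : Fact (Nat.Prime 2) := ⟨Nat.prime_two⟩
      have hc : IsCyclic (K ⧸ M) := isCyclic_of_prime_card (p := 2) (by rw [← Subgroup.index_eq_card, hidx])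
      rw [← QuotientGroup.eq_one_iff]
      simp only [commutatorElement_def, QuotientGroup.mk_mul, QuotientGroup.mk_inv]
      obtain ⟨g, hg⟩ := hc.exists_generator
      obtain ⟨i, hi⟩ := hg (a : K ⧸ M)
      obtain ⟨j, hj⟩ := hg (b : K ⧸ M)
      rw [← hi, ← hj]
      simp only [← zpow_neg, ← zpow_add]
      rw [show i + j + -i + -j = 0 by ring, zpow_zero]
    rw [hperf, top_le_iff] at hab
    rw [hab, Subgroup.index_top] at hidx
    exact one_ne_zero (by omega : (1:Nat) = 0)

end Cfsg.Agent.CosetCertRestrict
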