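import Cfsg.Agent.Lib.FieldFour15
import Cfsg.Agent.Lib.ChevalleyCore
import Cfsg.Agent.Lib.ChevalleyAll
import Cfsg.Prelude.Def_ChevG2

/-!
The natural six-dimensional module of the Chevalley group of type G2 over the field with four
elements. The adjoint module is realised inside the space of six by six matrices, on which the
six-dimensional root elements act by conjugation; this gives a faithful six-dimensional symplectic
representation of the adjoint group.
-/

set_option autoImplicit false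
set_option maxRecDepth 20000
set_option synthInstance.maxSize 2000

namespace Cfsg.Agent.G2FourModule

open Cfsg.Lie Cfsg.Agent.FieldFour15
open scoped Matrix

/-- The coordinate indices of the adjoint module. -/
abbrev Ix : Type := chevG2.Idx

/-- Six by six matrices over the field with four elements. -/
abbrev M6 : Type := Matrix (Fin 6) (Fin 6) K4

/-- Supports of the images of the fourteen basis vectors. -/
def supp : Fin 14 → List (Fin 6 × Fin 6) := ![[(0, 0), (1, 1), (4, 4), (5, 5)],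
  [(1, 1), (2, 2), (3, 3), (4, 4)], [(4, 0), (5, 1)], [(3, 0), (5, 2)], [(3, 1), (4, 2)],
  [(2, 0), (5, 3)], [(1, 0), (5, 4)], [(2, 1), (4, 3)], [(1, 2), (3, 4)], [(0, 1), (4, 5)],
  [(0, 2), (3, 5)], [(1, 3), (2, 4)], [(0, 3), (2, 5)], [(0, 4), (1, 5)]]

/-- Position of a coordinate index among `0, …, 13`. -/
def pos : Ix → Fin 14
  | .inl i => ⟨i.1, by have : i.1 < 2 := i.2; omega⟩
  | .inr r => ⟨r.1 + 2, by have : r.1 < 12 := r.2; omega⟩

/-- The matrix of a basis vector of the adjoint module. -/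
def E (c : Ix) : M6 := Matrix.of fun i j => if (i, j) ∈ supp (pos c) then 1 else 0

/-- The position of the quadratic term of a root element. -/
def sqPos (r : Fin 12) : Option (Fin 6 × Fin 6) :=
  match r.1 with
  | 9 => some (0, 5)
  | 8 => some (1, 4)
  | 7 => some (2, 3)
  | 4 => some (3, 2)
  | 3 => some (4, 1)
  | 2 => some (5, 0)
  | _ => none

/-- The six-dimensional root element. -/
def X (r : Fin 12) (t : K4) : M6 := Matrix.of fun i j =>
  (if i = j then 1 else 0) + (if (i, j) ∈ supp (pos (.inr r)) then t else 0) +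
    (if sqPos r = some (i, j) then t * t else 0)

/-- The alternating form. -/
def J : M6 := Matrix.of fun i j => if i.1 + j.1 = 5 then 1 else 0

/-- Product of six by six matrices, unfolded. -/
def mul6 (A B : M6) : M6 := Matrix.of fun i j =>
  A i 0 * B 0 j + A i 1 * B 1 j + A i 2 * B 2 j + A i 3 * B 3 j + A i 4 * B 4 j + A i 5 * B 5 j

theorem mul6_eq (A B : M6) : mul6 A B = A * B := by
  ext i j
  simp [mul6, Matrix.mul_apply, Fin.sum_univ_six]

/-- All coordinate indices. -/
def ixList : List Ix :=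
  [.inl ⟨0, by decide⟩, .inl ⟨1, by decide⟩] ++ (List.finRange 12).map fun r => .inr r

theorem sum_ix {M : Type*} [AddCommMonoid M] (f : Ix → M) : ∑ q, f q = (ixList.map f).sum := by
  rw [← List.sum_toFinset _ (by decide : ixList.Nodup),
    (by decide : ixList.toFinset = Finset.univ)]

/-- All positions of a six by six matrix. -/
def ent6 : List (Fin 6 × Fin 6) :=
  (List.finRange 6).flatMap fun i => (List.finRange 6).map fun j => (i, j)

theorem eq_of_ent6 {A B : M6} (h : ∀ e ∈ ent6, A e.1 e.2 = B e.1 e.2) : A = B :=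
  Matrix.ext fun i j => h (i, j) (by simp [ent6])

theorem X_sq : ∀ (r : Fin 12) (t : K4), ∀ e ∈ ent6,
    mul6 (X r t) (X r t) e.1 e.2 = (1 : M6) e.1 e.2 := by
  decide +kernel

theorem X_form : ∀ (r : Fin 12) (t : K4), ∀ e ∈ ent6,
    mul6 (mul6 (X r t)ᵀ J) (X r t) e.1 e.2 = J e.1 e.2 := by
  decide +kernel

theorem mem_ixList (c : Ix) : c ∈ ixList := by
  rcases c with i | r
  · fin_cases i <;> simp [ixList]
  · refine List.mem_append_right _ (List.mem_map.2 ⟨r, List.mem_finRange _, rfl⟩)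

theorem X_conj : ∀ (r : Fin 12) (t : K4), ∀ c ∈ ixList, ∀ e ∈ ent6,
    mul6 (X r t) (mul6 (E c) (X r t)) e.1 e.2 =
      (ixList.map fun q => E q e.1 e.2 * chevG2.xMat K4 r t q c).sum := by
  decide +kernel

/-- A root element as an invertible matrix. -/
def gX (r : Fin 12) (t : K4) : GL (Fin 6) K4 :=
  ⟨X r t, X r t, by rw [← mul6_eq]; exact eq_of_ent6 (X_sq r t),
    by rw [← mul6_eq]; exact eq_of_ent6 (X_sq r t)⟩

theorem xMat_conj (r : Fin 12) (t : K4) (c : Ix) :
    X r t * E c = (∑ q, chevG2.xMat K4 r t q c • E q) * X r t := by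
  have h : ∑ q, chevG2.xMat K4 r t q c • E q = X r t * (E c * X r t) := by
    ext i j
    rw [← mul6_eq, ← mul6_eq, X_conj r t c (mem_ixList c) (i, j) (by simp [ent6]),
      Matrix.sum_apply, sum_ix]
    simp [Matrix.smul_apply, mul_comm]
  have h2 : X r t * X r t = 1 := (gX r t).val_inv
  rw [h, mul_assoc, mul_assoc, h2, mul_one]

/-- Pairs of a symplectic six by six matrix and an adjoint matrix with the same action on the
matrices `E c`. -/
def interMonoid : Submonoid (GL (Fin 6) K4 × GL Ix K4) where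
  carrier := {p | (p.1 : M6)ᵀ * J * (p.1 : M6) = J ∧
    ∀ c, (p.1 : M6) * E c = (∑ q, (p.2 : Matrix Ix Ix K4) q c • E q) * (p.1 : M6)}
  one_mem' := by
    refine ⟨by simp, fun c => ?_⟩
    simp [Matrix.one_apply, ite_smul]
  mul_mem' := by
    rintro ⟨g, A⟩ ⟨h, B⟩ ⟨hg, hA⟩ ⟨hh, hB⟩
    refine ⟨?_, fun c => ?_⟩
    · simp only [Prod.mk_mul_mk, Units.val_mul, Matrix.transpose_mul]
      calc _ = (h : M6)ᵀ * ((g : M6)ᵀ * J * (g : M6)) * (h : M6) := by simp only [mul_assoc]
        _ = J := by rw [hg, hh]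
    · simp only [Prod.mk_mul_mk, Units.val_mul]
      calc (g : M6) * (h : M6) * E c
          = (g : M6) * ((∑ q, (B : Matrix Ix Ix K4) q c • E q) * (h : M6)) := by
            rw [mul_assoc, hB c]
        _ = (∑ q, (B : Matrix Ix Ix K4) q c • ((g : M6) * E q)) * (h : M6) := by
            rw [← mul_assoc, Finset.mul_sum]
            simp only [mul_smul_comm]
        _ = (∑ q, (B : Matrix Ix Ix K4) q c • ∑ s, (A : Matrix Ix Ix K4) s q • E s) *
              ((g : M6) * (h : M6)) := by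
            rw [← mul_assoc]
            congr 1
            rw [Finset.sum_mul]
            refine Finset.sum_congr rfl fun q _ => ?_
            rw [hA q, smul_mul_assoc]
        _ = (∑ s, ((A : Matrix Ix Ix K4) * (B : Matrix Ix Ix K4)) s c • E s) *
              ((g : M6) * (h : M6)) := by
            congr 1
            simp only [Finset.smul_sum, smul_smul, Matrix.mul_apply, Finset.sum_smul]
            rw [Finset.sum_comm]
            simp only [mul_comm]

/-- The graph of the representation. -/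
def P : Subgroup (GL (Fin 6) K4 × GL Ix K4) :=
  Subgroup.closure {p | ∃ r t, p.1 = gX r t ∧ (p.2 : Matrix Ix Ix K4) = chevG2.xMat K4 r t}

theorem P_le {p : GL (Fin 6) K4 × GL Ix K4} (hp : p ∈ P) : p ∈ interMonoid := by
  have h : P.toSubmonoid ≤ interMonoid := by
    rw [P, Subgroup.closure_toSubmonoid_of_finite, Submonoid.closure_le]
    rintro ⟨g, A⟩ ⟨r, t, rfl, hA⟩
    refine ⟨?_, fun c => ?_⟩
    · show (X r t)ᵀ * J * X r t = J
      rw [← mul6_eq, ← mul6_eq]
      exact eq_of_ent6 (X_form r t)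
    · show X r t * E c = (∑ q, (A : Matrix Ix Ix K4) q c • E q) * X r t
      rw [xMat_conj, hA]
  exact h hp

/-- An entry separating the matrix of a basis vector from the others. -/
def sep (q : Ix) : Fin 6 × Fin 6 :=
  ![(0, 0), (2, 2), (4, 0), (3, 0), (3, 1), (2, 0), (1, 0), (2, 1), (1, 2), (0, 1), (0, 2),
    (1, 3), (0, 3), (0, 4)] (pos q)

theorem E_sep : ∀ q s : Ix, E q (sep s).1 (sep s).2 = if q = s then 1 else 0 := by
  decide +kernel

theorem coeff_eq {u v : Ix → K4} (h : ∑ q, u q • E q = ∑ q, v q • E q) : u = v := by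
  funext s
  have := congrArg (fun M : M6 => M (sep s).1 (sep s).2) h
  simpa [Matrix.sum_apply, E_sep] using this

theorem snd_eq_one {A : GL Ix K4} (hA : (1, A) ∈ P) : A = 1 := by
  refine Units.ext (Matrix.ext fun q c => ?_)
  have h := (P_le hA).2 c
  simp only [Units.val_one, one_mul, mul_one] at h
  have h1 : ∑ q, (1 : Matrix Ix Ix K4) q c • E q = E c := by
    simp [Matrix.one_apply, ite_smul]
  exact congrFun (coeff_eq (h.symm.trans h1.symm)) q

/-- Equations `[g, E c] (i, j) = 0`, each with the entries of `g` occurring in it. -/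
def killer : List (List (Fin 6 × Fin 6) × Fin 14 × Fin 6 × Fin 6) :=
  [([(0, 2)], 0, 0, 2), ([(0, 3)], 0, 0, 3), ([(1, 2)], 0, 1, 2), ([(1, 3)], 0, 1, 3),
    ([(2, 0)], 0, 2, 0), ([(2, 1)], 0, 2, 1), ([(2, 4)], 0, 2, 4), ([(2, 5)], 0, 2, 5),
    ([(3, 0)], 0, 3, 0), ([(3, 1)], 0, 3, 1), ([(3, 4)], 0, 3, 4), ([(3, 5)], 0, 3, 5),
    ([(4, 2)], 0, 4, 2), ([(4, 3)], 0, 4, 3), ([(5, 2)], 0, 5, 2), ([(5, 3)], 0, 5, 3),
    ([(0, 1)], 1, 0, 1), ([(0, 4)], 1, 0, 4), ([(1, 0)], 1, 1, 0), ([(1, 5)], 1, 1, 5),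
    ([(4, 0)], 1, 4, 0), ([(4, 5)], 1, 4, 5), ([(5, 1)], 1, 5, 1), ([(5, 4)], 1, 5, 4),
    ([(0, 5)], 2, 0, 1), ([(1, 4)], 2, 1, 0), ([(2, 3)], 3, 2, 0), ([(3, 2)], 5, 3, 0),
    ([(4, 1)], 6, 4, 0), ([(5, 0)], 9, 4, 0), ([(0, 0), (4, 4)], 2, 4, 0),
    ([(0, 0), (3, 3)], 3, 3, 0), ([(0, 0), (2, 2)], 5, 2, 0), ([(0, 0), (1, 1)], 6, 1, 0),
    ([(1, 1), (5, 5)], 2, 5, 1)]

/-- The coefficient of `g u v` in the `(i, j)` entry of `g * E c + E c * g`. -/
def coef (c : Ix) (i j u v : Fin 6) : K4 :=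
  (if u = i then E c v j else 0) + (if v = j then E c i u else 0)

theorem killer_spec : ∀ e ∈ killer, ∀ c : Ix, pos c = e.2.1 → ∀ u v : Fin 6,
    coef c e.2.2.1 e.2.2.2 u v = if (u, v) ∈ e.1 then 1 else 0 := by
  decide +kernel

theorem pos_surj : ∀ k : Fin 14, ∃ c : Ix, pos c = k := by
  decide +kernel

theorem scalar_of_commute (g : M6) (hg : ∀ c, g * E c = E c * g) :
    g = Matrix.scalar (Fin 6) (g 0 0) := by
  have z : ∀ e ∈ killer, ∑ u, ∑ v, (if (u, v) ∈ e.1 then g u v else 0) = 0 := by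
    intro e he
    obtain ⟨c, hc⟩ := pos_surj e.2.1
    have h0 : (g * E c) e.2.2.1 e.2.2.2 + (E c * g) e.2.2.1 e.2.2.2 = 0 := by
      rw [hg]; exact CharTwo.add_self_eq_zero _
    calc _ = ∑ u, ∑ v, g u v * coef c e.2.2.1 e.2.2.2 u v := by
          refine Finset.sum_congr rfl fun u _ => Finset.sum_congr rfl fun v _ => ?_
          rw [killer_spec e he c hc u v]
          simp
      _ = (g * E c) e.2.2.1 e.2.2.2 + (E c * g) e.2.2.1 e.2.2.2 := by
          simp [coef, mul_add, Finset.sum_add_distrib, Matrix.mul_apply, mul_comm]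
      _ = 0 := h0
  have e2 : ∀ x y : K4, x + y = 0 → y = x := by decide
  simp only [killer, List.forall_mem_cons, Fin.sum_univ_six] at z
  simp at z
  obtain ⟨z0, z1, z2, z3, z4, z5, z6, z7, z8, z9, z10, z11, z12, z13, z14, z15, z16, z17, z18, z19, z20, z21, z22, z23, z24, z25, z26, z27, z28, z29, z30, z31, z32, z33, z34⟩ := z
  ext i j
  fin_cases i <;> fin_cases j <;> simp [Matrix.scalar_apply] <;>
    first | assumption | exact e2 _ _ (by assumption) | exact (e2 _ _ (by assumption)).trans (e2 _ _ (by assumption))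

theorem fst_eq_one {g : GL (Fin 6) K4} (hg : (g, 1) ∈ P) : g = 1 := by
  obtain ⟨hJ, hE⟩ := P_le hg
  have h : ∀ c, (g : M6) * E c = E c * (g : M6) := fun c => by
    rw [hE c]
    congr 1
    simp [Matrix.one_apply, ite_smul]
  have hs := scalar_of_commute _ h
  apply Units.ext
  have h5 := congrArg (fun M : M6 => M 0 5) hJ
  rw [hs] at h5
  simp [Matrix.mul_apply, Fin.sum_univ_six, J, Matrix.scalar_apply] at h5
  have hc : ∀ c : K4, c * c = 1 → c = 1 := by decide
  rw [hs, hc _ h5]
  simp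

/-- The projection of the graph to the adjoint matrices. -/
def toAdj : ↥P →* GL Ix K4 := (MonoidHom.snd _ _).comp P.subtype

/-- The projection of the graph to the six by six matrices. -/
def toNat6 : ↥P →* GL (Fin 6) K4 := (MonoidHom.fst _ _).comp P.subtype

theorem toAdj_injective : Function.Injective toAdj := by
  rw [injective_iff_map_eq_one]
  rintro ⟨⟨g, A⟩, hp⟩ (rfl : A = 1)
  obtain rfl := fst_eq_one hp
  rfl

theorem toNat6_injective : Function.Injective toNat6 := by
  rw [injective_iff_map_eq_one]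
  rintro ⟨⟨g, A⟩, hp⟩ (rfl : g = 1)
  obtain rfl := snd_eq_one hp
  rfl

theorem range_toAdj : toAdj.range = chevG2.group K4 := by
  rw [toAdj, MonoidHom.range_comp, Subgroup.range_subtype, P, MonoidHom.map_closure]
  refine congrArg Subgroup.closure (Set.ext fun A => ⟨?_, ?_⟩)
  · rintro ⟨⟨g, B⟩, ⟨r, t, -, hB⟩, rfl⟩
    exact ⟨r, t, hB⟩
  · rintro ⟨r, t, hA⟩
    exact ⟨(gX r t, A), ⟨r, t, rfl, hA⟩, rfl⟩

/-- The six-dimensional matrix group. -/
def M : Subgroup (GL (Fin 6) K4) := toNat6.range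

/-- The matrix group is isomorphic to the adjoint group. -/
noncomputable def equivM : ↥M ≃* ↥(chevG2.group K4) :=
  (MonoidHom.ofInjective toNat6_injective).symm.trans
    ((MonoidHom.ofInjective toAdj_injective).trans (MulEquiv.subgroupCongr range_toAdj))

theorem form_of_mem {g : GL (Fin 6) K4} (hg : g ∈ M) : (g : M6)ᵀ * J * (g : M6) = J := by
  obtain ⟨⟨⟨g, A⟩, hp⟩, rfl⟩ := hg
  exact (P_le hp).1

theorem gX_mem (r : Fin 12) (t : K4) : gX r t ∈ M := by
  obtain ⟨C⟩ := Cfsg.Agent.ChevalleyAll.cert_nonempty chevG2 (by simp)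
  have hA : ((ChevalleyCore.xg C r.1 t : GL Ix K4) : Matrix Ix Ix K4) = chevG2.xMat K4 r t := by
    rw [ChevalleyCore.coe_xg, ChevalleyDatum.x]
    exact dif_pos (show r.1 < chevG2.nroots from r.2)
  exact ⟨⟨(gX r t, ChevalleyCore.xg C r.1 t), Subgroup.subset_closure ⟨r, t, rfl, hA⟩⟩, rfl⟩

end Cfsg.Agent.G2FourModule
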