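import Cfsg.Agent.Lib.CosetCertG24Data
import Cfsg.Agent.Lib.CosetCertFour
import Cfsg.Agent.Lib.CosetCertSuzSimple
import Cfsg.Agent.Lib.CosetCertRestrict
import Cfsg.Agent.Lib.G2FourModule
import Cfsg.Agent.S1059

/-!
The subgroup of the presented group Suz generated by six of the generators is the adjoint group
of type G2 over the field with four elements: the generators permute the lines of the hexagon as
the root elements do.
-/

set_option autoImplicit false
set_option maxRecDepth 100000
set_option synthInstance.maxSize 2000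

namespace Cfsg.Agent.CosetCertG24

open Cfsg.Lie Cfsg.Agent.FieldFour15 Cfsg.Agent.G2FourModule Cfsg.Agent.CosetCertCore
  Cfsg.Agent.CosetCertTable Cfsg.Agent.CosetCertPres Cfsg.Agent.CosetCertOrder
open Cfsg.Agent.CosetCertFour (dig dig_lt dig_eq mulF mulF_lt xor_lt)
open Cfsg.Agent.CosetCertG24Data (seeds seedWords steps tauTbl idxTbl)
open scoped Matrix

/-! ### Vectors as codes -/

/-- The field element of a two-bit code. -/
def k4 : Nat → K4
  | 1 => .l
  | 2 => .a
  | 3 => .b
  | _ => .o

theorem k4_ops : ∀ a < 4, ∀ b < 4, k4 (a ^^^ b) = k4 a + k4 b ∧ k4 (mulF a b) = k4 a * k4 b ∧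
    (k4 a = k4 b → a = b) := by
  decide +kernel

theorem k4_surj : ∀ x : K4, ∃ a < 4, k4 a = x := by decide +kernel

/-- The vector of a code. -/
def vec (c : Nat) : Fin 6 → K4 := fun d => k4 (dig c d.1)

/-- The code with given digits. -/
def pack (f : Nat → Nat) : Nat :=
  f 0 + 4 * f 1 + 16 * f 2 + 64 * f 3 + 256 * f 4 + 1024 * f 5

theorem pack_lt (f : Nat → Nat) (hf : ∀ d, f d < 4) : pack f < 4096 := by
  have := hf 0; have := hf 1; have := hf 2; have := hf 3; have := hf 4; have := hf 5
  unfold pack; omega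

theorem dig_pack (f : Nat → Nat) (hf : ∀ d, f d < 4) (d : Fin 6) : dig (pack f) d.1 = f d.1 := by
  have := hf 0; have := hf 1; have := hf 2; have := hf 3; have := hf 4; have := hf 5
  rw [dig_eq]
  unfold pack
  fin_cases d <;> simp only [Nat.reduceMul, Nat.reducePow] <;> omega

theorem code_ext {c c' : Nat} (hc : c < 4096) (hc' : c' < 4096) (h : vec c = vec c') : c = c' := by
  have e : ∀ d : Fin 6, dig c d.1 = dig c' d.1 := fun d =>
    (k4_ops _ (dig_lt _ _) _ (dig_lt _ _)).2.2 (congrFun h d)
  have e0 := e 0; have e1 := e 1; have e2 := e 2; have e3 := e 3; have e4 := e 4; have e5 := e 5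
  simp [dig_eq] at e0 e1 e2 e3 e4 e5
  omega

theorem vec_surj (u : Fin 6 → K4) : ∃ c < 4096, vec c = u := by
  choose f hf hfu using fun d : Fin 6 => k4_surj (u d)
  refine ⟨pack fun d => if h : d < 6 then f ⟨d, h⟩ else 0, ?_, funext fun d => ?_⟩
  · refine pack_lt _ fun d => ?_
    split
    · exact hf _
    · norm_num
  · show k4 _ = _
    rw [dig_pack _ (fun d => by split <;> [exact hf _; norm_num]) d, dif_pos d.2, ← hfu d]

/-- Scalar multiple of a code. -/
def scl (l c : Nat) : Nat := pack fun d => mulF l (dig c d)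

theorem vec_scl {l : Nat} (hl : l < 4) (c : Nat) : vec (scl l c) = k4 l • vec c := by
  funext d
  show k4 _ = k4 l * k4 _
  rw [scl, dig_pack _ (fun _ => mulF_lt _ _) d, (k4_ops l hl _ (dig_lt _ _)).2.1]

/-! ### The root elements on codes -/

/-- The entries of the root elements off the diagonal, at most one in each row. -/
def rowTbl : Nat :=
  11533293383850585715744229848705655813894821203927103893061381841038259358007332140586832804673945852912613325263349129941033742546471627516224084763388314321060370965453068722409508072788966550272762653170519376612094752097545440181356261355766414452151262221691806903545825270834648396535058102502658894916955695742976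

/-- Column of the entry in row `d`. -/
def col (i d : Nat) : Nat := Nat.land (Nat.shiftRight rowTbl (30 * i + 5 * d)) 7

/-- Value of the entry in row `d`. -/
def cof (i d : Nat) : Nat := Nat.land (Nat.shiftRight rowTbl (30 * i + 5 * d + 3)) 3

/-- Image of a code under the root element `i`. -/
def apply (i c : Nat) : Nat :=
  pack fun d => dig c d ^^^ mulF (cof i d) (dig c (col i d))

/-- The root element with index `i`. -/
def el (i : Nat) : GL (Fin 6) K4 := gX ⟨i / 3 % 12, Nat.mod_lt _ (by norm_num)⟩ (k4 (i % 3 + 1))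

theorem el_entries' : ∀ i < 36, ∀ e ∈ ent6,
    X ⟨i / 3 % 12, Nat.mod_lt _ (by norm_num)⟩ (k4 (i % 3 + 1)) e.1 e.2 =
      (if e.1 = e.2 then 1 else 0) + (if e.2.1 = col i e.1.1 then k4 (cof i e.1.1) else 0) ∧
        col i e.1.1 < 6 := by
  decide +kernel

theorem el_entries (i : Nat) (hi : i < 36) (d j : Fin 6) : (el i : M6) d j =
    (if d = j then 1 else 0) + (if j.1 = col i d.1 then k4 (cof i d.1) else 0) ∧ col i d.1 < 6 :=
  el_entries' i hi (d, j) (by simp [ent6])

theorem cof_lt (i d : Nat) : cof i d < 4 := Nat.lt_succ_of_le Nat.and_le_right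

theorem vec_apply {i : Nat} (hi : i < 36) (c : Nat) : vec (apply i c) = (el i : M6) *ᵥ vec c := by
  funext d
  have hcol := (el_entries i hi d d).2
  show k4 (dig (apply i c) d.1) = _
  rw [apply, dig_pack _ (fun _ => xor_lt (dig_lt _ _) (mulF_lt _ _)) d]
  refine ((k4_ops _ (dig_lt _ _) _ (mulF_lt _ _)).1).trans ?_
  rw [(k4_ops _ (cof_lt _ _) _ (dig_lt _ _)).2.1]
  simp only [Matrix.mulVec, dotProduct, (el_entries i hi d _).1, add_mul, ite_mul, one_mul, zero_mul, Finset.sum_add_distrib,
    Finset.sum_ite_eq, Finset.mem_univ, if_true]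
  congr 1
  rw [Finset.sum_eq_single (⟨col i d.1, hcol⟩ : Fin 6)]
  · simp [vec]
  · intro j _ hj
    rw [if_neg fun h => hj (Fin.ext h)]
  · exact fun h => absurd (Finset.mem_univ _) h

/-! ### The lines -/

/-- Number of points on the line at point `i`. -/
noncomputable def mlen (i : Nat) : Nat := Nat.land (entry tauTbl 64 i) 7

/-- Points of the line at point `i`. -/
noncomputable def mem (i k : Nat) : Nat :=
  Nat.land (Nat.shiftRight (entry tauTbl 64 i) (3 + 12 * k)) 4095

theorem mem_lt (i k : Nat) : mem i k < 4096 := Nat.lt_succ_of_le Nat.and_le_right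

/-- Whether a code is among the points of the line at `j`. -/
noncomputable def among (j y : Nat) : Bool :=
  !allFrom (fun k => !Nat.beq y (mem j k)) (mlen j) 0

theorem among_sound {j y : Nat} (h : among j y = true) : ∃ k < mlen j, y = mem j k := by
  simp only [among, Bool.not_eq_true'] at h
  by_contra hc
  push Not at hc
  refine Bool.noConfusion (h.symm.trans ((allFrom_iff _ _ _).mpr fun k _ hk => ?_))
  simp only [Bool.not_eq_true']
  exact Bool.eq_false_iff.mpr fun he => hc k (by omega) (Nat.beq_eq.mp he)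

/-- Whether a code is proportional to a point of the line at `j`. -/
noncomputable def onLine (j y : Nat) : Bool :=
  among j (scl 1 y) || among j (scl 2 y) || among j (scl 3 y)

theorem onLine_sound {j y : Nat} (h : onLine j y = true) :
    ∃ k < mlen j, ∃ l : K4, l ≠ 0 ∧ vec y = l • vec (mem j k) := by
  have key : ∀ n, n < 4 → k4 n ≠ 0 → among j (scl n y) = true →
      ∃ k < mlen j, ∃ l : K4, l ≠ 0 ∧ vec y = l • vec (mem j k) := by
    intro n hn hn0 h
    obtain ⟨k, hk, hy⟩ := among_sound h
    refine ⟨k, hk, (k4 n)⁻¹, inv_ne_zero hn0, ?_⟩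
    rw [← hy, vec_scl hn, smul_smul, inv_mul_cancel₀ hn0, one_smul]
  simp only [onLine, Bool.or_eq_true] at h
  rcases h with (h | h) | h
  exacts [key 1 (by norm_num) (by decide) h, key 2 (by norm_num) (by decide) h,
    key 3 (by norm_num) (by decide) h]

/-- The table of the action. -/
noncomputable abbrev tbl : Table := CosetCertSuzGData.table

/-- A vector lies on the line at a point. -/
def Mark (i : Fin tbl.N) (u : Fin 6 → K4) : Prop :=
  ∃ k < mlen i.1, ∃ l : K4, l ≠ 0 ∧ u = l • vec (mem i.1 k)

/-- The action of the presented group on the points. -/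
noncomputable def act6 : CosetCertSuzGData.pres.Grp →* Equiv.Perm (Fin tbl.N) :=
  rho CosetCertSuzG.enumerated

/-- Pairs moving the lines alike. -/
def Rm : Submonoid (CosetCertSuzGData.pres.Grp × GL (Fin 6) K4) where
  carrier := {p | ∀ i u, Mark i u → Mark (act6 p.1 i) ((p.2 : M6) *ᵥ u)}
  one_mem' := by
    intro i u h
    simpa using h
  mul_mem' := by
    intro p q hp hq i u h
    have := hp _ _ (hq i u h)
    simpa [Matrix.mulVec_mulVec] using this

/-- The seeds with their words. -/
def seedData : List (Nat × List Nat) := seeds.zip seedWords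

theorem seed_facts : ∀ s ∈ seedData, s.1 < 36 ∧ ∀ x ∈ s.2, x < 6 := by decide +kernel

/-- The pair of a seed. -/
def seedPair (s : Nat × List Nat) : CosetCertSuzGData.pres.Grp × GL (Fin 6) K4 :=
  ((val CosetCertSuzGData.pres.gg s.2)⁻¹, el s.1)

/-- Check of a seed at a point. -/
noncomputable def seedOk (idx : Nat) (w : List Nat) (i : Nat) : Bool :=
  force (tbl.run w i) fun j =>
    allFrom (fun k => force (apply idx (mem i k)) fun y => onLine j y) (mlen i) 0

theorem seed_check : (seedData.all fun s => allFrom (seedOk s.1 s.2) tbl.N 0) = true := by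
  decide +kernel

theorem seedPair_mem {s : Nat × List Nat} (hs : s ∈ seedData) : seedPair s ∈ Rm := by
  rintro i u ⟨k, hk, l, hl, rfl⟩
  have h := (allFrom_iff _ _ _).mp (List.all_eq_true.mp seed_check s hs) i.1 (Nat.zero_le _)
    (by have := i.2; omega)
  simp only [seedOk, force_eq] at h
  have h' := (allFrom_iff _ _ _).mp h k (Nat.zero_le _) (by omega)
  obtain ⟨k', hk', m, hm, hy⟩ := onLine_sound h'
  have hw : ∀ x ∈ s.2, x < tbl.NG := fun x hx => lt_of_lt_of_le ((seed_facts s hs).2 x hx) (by decide +kernel)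
  have hj : (act6 (seedPair s).1 i).1 = tbl.run s.2 i.1 := by
    rw [act6, seedPair, map_inv]
    exact CosetCertRestrict.rho_val_apply CosetCertSuzG.enumerated hw i
  refine ⟨k', hj ▸ hk', l * m, mul_ne_zero hl hm, ?_⟩
  rw [hj, Matrix.mulVec_smul, seedPair, ← vec_apply (seed_facts s hs).1, hy, smul_smul]

/-- The graph of the isomorphism. -/
def R : Subgroup (CosetCertSuzGData.pres.Grp × GL (Fin 6) K4) :=
  Subgroup.closure (seedPair '' {s | s ∈ seedData})

theorem R_le {p : CosetCertSuzGData.pres.Grp × GL (Fin 6) K4} (hp : p ∈ R) : p ∈ Rm := by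
  have := CosetCertSuzSimple.upper.1
  have h : R.toSubmonoid ≤ Rm := by
    rw [R, Subgroup.closure_toSubmonoid_of_finite, Submonoid.closure_le]
    rintro _ ⟨s, hs, rfl⟩
    exact seedPair_mem hs
  exact h hp

/-- The six generators span the subgroup. -/
abbrev H : Subgroup CosetCertSuzGData.pres.Grp := span CosetCertSuzGData.pres.gg [0, 1, 2, 3, 4, 5]

theorem fst_mem {p : CosetCertSuzGData.pres.Grp × GL (Fin 6) K4} (hp : p ∈ R) : p.1 ∈ H := by
  have h : R ≤ H.comap (MonoidHom.fst _ _) := by
    rw [R, Subgroup.closure_le]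
    rintro _ ⟨s, hs, rfl⟩
    show (val CosetCertSuzGData.pres.gg s.2)⁻¹ ∈ H
    refine inv_mem (Subgroup.list_prod_mem H fun y hy => ?_)
    obtain ⟨x, hx, rfl⟩ := List.mem_map.mp hy
    exact Subgroup.subset_closure ⟨x, by have := (seed_facts s hs).2 x hx; interval_cases x <;> simp, rfl⟩
  exact h hp

theorem snd_mem {p : CosetCertSuzGData.pres.Grp × GL (Fin 6) K4} (hp : p ∈ R) : p.2 ∈ M := by
  have h : R ≤ M.comap (MonoidHom.snd _ _) := by
    rw [R, Subgroup.closure_le]
    rintro _ ⟨s, hs, rfl⟩
    exact gX_mem _ _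
  exact h hp

/-! ### All root elements -/

/-- Effect of a product of root elements on a code. -/
def applyList (l : List Nat) (c : Nat) : Nat := l.foldr apply c

theorem vec_applyList : ∀ (l : List Nat), (∀ i ∈ l, i < 36) → ∀ c : Nat,
    vec (applyList l c) = ((l.map el).prod : M6) *ᵥ vec c
  | [], _, c => by simp [applyList]
  | i :: l, h, c => by
    rw [List.map_cons, List.prod_cons, Units.val_mul, ← Matrix.mulVec_mulVec, ← vec_applyList l
      (fun x hx => h x (List.mem_cons_of_mem _ hx)) c, ← vec_apply (h i (List.mem_cons_self ..))]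
    rfl

/-- Indices shown to lie in the image. -/
noncomputable def grow (known : List Nat) : List (Nat × List Nat) → List Nat
  | [] => known
  | (i, l) :: r =>
    if (l.all fun x => known.contains x && Nat.blt x 36) && Nat.blt i 36 &&
        allFrom (fun j => Nat.beq (applyList l (1 <<< (2 * j))) (apply i (1 <<< (2 * j)))) 6 0
      then grow (i :: known) r
    else grow known r

theorem vec_unit : ∀ j : Fin 6, vec (1 <<< (2 * j.1)) = Pi.single j 1 := by decide +kernel

theorem grow_mem (U : Subgroup (GL (Fin 6) K4)) : ∀ (r : List (Nat × List Nat)) (known : List Nat),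
    (∀ x ∈ known, el x ∈ U) → ∀ x ∈ grow known r, el x ∈ U
  | [], known, h, x, hx => h x hx
  | (i, l) :: r, known, h, x, hx => by
    rw [grow] at hx
    split at hx
    · rename_i hc
      simp only [Bool.and_eq_true, List.all_eq_true, List.contains_eq_mem, decide_eq_true_eq,
        Nat.blt_eq] at hc
      obtain ⟨⟨hl, hi⟩, he'⟩ := hc
      have he : ∀ j < 6, applyList l (1 <<< (2 * j)) = apply i (1 <<< (2 * j)) := fun j hj =>
        Nat.beq_eq.mp ((allFrom_iff _ _ _).mp he' j (Nat.zero_le _) (by omega))
      refine grow_mem U r _ (fun y hy => ?_) x hx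
      rcases List.mem_cons.mp hy with rfl | hy
      · have hp : (l.map el).prod ∈ U := Subgroup.list_prod_mem _ fun z hz => by
          obtain ⟨w, hw, rfl⟩ := List.mem_map.mp hz
          exact h w (hl w hw).1
        have e : el y = (l.map el).prod := by
          refine Units.ext (Matrix.ext fun a b => ?_)
          have := congrArg vec (he b.1 b.2)
          rw [vec_applyList l (fun z hz => (hl z hz).2), vec_apply hi, vec_unit b] at this
          have hab := congrFun this a
          simp only [Matrix.mulVec_single, MulOpposite.op_one, one_smul, Matrix.col_apply] at hab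
          exact hab.symm
        exact e ▸ hp
      · exact h y hy
    · exact grow_mem U r known h x hx

theorem grow_all : ∀ i < 36, i ∈ grow seeds steps := by decide +kernel

theorem seeds_zip : ∀ x ∈ seeds, ∃ s ∈ seedData, s.1 = x := by decide +kernel

theorem root_cover : ∀ r : Fin 12, ∀ t : K4, t ≠ 0 → ∃ i < 36, el i = gX r t := by
  have h : ∀ r : Fin 12, ∀ t : K4, t ≠ 0 →
      ∃ i < 36, (⟨i / 3 % 12, Nat.mod_lt _ (by norm_num)⟩ : Fin 12) = r ∧ k4 (i % 3 + 1) = t := by
    decide +kernel
  intro r t ht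
  obtain ⟨i, hi, rfl, rfl⟩ := h r t ht
  exact ⟨i, hi, rfl⟩

theorem X_zero : ∀ r : Fin 12, ∀ e ∈ ent6, X r 0 e.1 e.2 = (1 : M6) e.1 e.2 := by decide +kernel

theorem M_le : M ≤ R.map (MonoidHom.snd _ _) := by
  rw [M, toNat6, MonoidHom.range_comp, Subgroup.range_subtype, P, MonoidHom.map_closure,
    Subgroup.closure_le]
  rintro _ ⟨p, ⟨r, t, hp, -⟩, rfl⟩
  show p.1 ∈ R.map (MonoidHom.snd _ _)
  rw [hp]
  by_cases ht : t = 0
  · rw [ht, show gX r 0 = 1 from Units.ext (eq_of_ent6 (X_zero r))]
    exact one_mem _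
  · obtain ⟨i, hi, hir⟩ := root_cover r t ht
    refine hir ▸ grow_mem _ steps seeds (fun x hx => ?_) i (grow_all i hi)
    obtain ⟨s, hs, rfl⟩ := seeds_zip x hx
    exact ⟨seedPair s, Subgroup.subset_closure ⟨s, hs, rfl⟩, rfl⟩

/-! ### Faithfulness -/

/-- Check that two lines through a vector meet only in it. -/
noncomputable def meetOk (c : Nat) : Bool :=
  Nat.beq c 0 ||
  (force (entry idxTbl 24 c) fun e =>
  force (Nat.land e 2047) fun i =>
  force (Nat.shiftRight e 11) fun j =>
  Nat.blt i tbl.N && Nat.blt j tbl.N && onLine i c && onLine j c &&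
    allFrom (fun k => allFrom (fun k' => force (mem i k) fun a => force (mem j k') fun b =>
      (!(Nat.beq (scl 1 a) b || Nat.beq (scl 2 a) b || Nat.beq (scl 3 a) b)) ||
        (Nat.beq (scl 1 c) a || Nat.beq (scl 2 c) a || Nat.beq (scl 3 c) a)) (mlen j) 0) (mlen i) 0)

theorem meet_check : allFrom meetOk 4096 0 = true := by decide +kernel

theorem proportional {a b : Nat} (hb : b < 4096) {l : K4} (hl : l ≠ 0)
    (h : vec b = l • vec a) : (Nat.beq (scl 1 a) b || Nat.beq (scl 2 a) b || Nat.beq (scl 3 a) b) = true := by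
  obtain ⟨n, hn, rfl⟩ := k4_surj l
  have e : scl n a = b := code_ext (pack_lt _ fun _ => mulF_lt _ _) hb (by rw [vec_scl hn, h])
  subst e
  interval_cases n
  · exact absurd rfl hl
  all_goals simp

theorem eigen {g : GL (Fin 6) K4} (hg : ((1 : CosetCertSuzGData.pres.Grp), g) ∈ R)
    (u : Fin 6 → K4) : ∃ l : K4, (g : M6) *ᵥ u = l • u := by
  obtain ⟨c, hc, rfl⟩ := vec_surj u
  by_cases h0 : c = 0
  · subst h0
    exact ⟨0, by rw [show vec 0 = 0 by decide +kernel, Matrix.mulVec_zero, smul_zero]⟩
  have h := (allFrom_iff _ _ _).mp meet_check c (Nat.zero_le _) (by omega)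
  simp only [meetOk, force_eq, Bool.or_eq_true, Bool.and_eq_true, Nat.blt_eq, Nat.beq_eq] at h
  rcases h with h | ⟨⟨⟨⟨hi, hj⟩, hci⟩, hcj⟩, hall⟩
  · exact absurd h h0
  obtain ⟨k, hk, m, hm, hck⟩ := R_le hg ⟨_, hi⟩ (vec c) (onLine_sound hci)
  obtain ⟨k', hk', m', hm', hck'⟩ := R_le hg ⟨_, hj⟩ (vec c) (onLine_sound hcj)
  simp only [map_one, Equiv.Perm.coe_one, id_eq] at hk hk' hck hck'
  have hk1 := (allFrom_iff _ _ _).mp hall k (Nat.zero_le _) (by omega)
  have hk2 := (allFrom_iff _ _ _).mp hk1 k' (Nat.zero_le _) (by omega)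
  simp only [Bool.or_eq_true, Bool.not_eq_true'] at hk2
  rcases hk2 with h2 | h2
  · have : vec (mem (Nat.shiftRight (entry idxTbl 24 c) 11) k') =
        (m'⁻¹ * m) • vec (mem (Nat.land (entry idxTbl 24 c) 2047) k) := by
      rw [mul_smul, ← hck, hck', smul_smul, inv_mul_cancel₀ hm', one_smul]
    exact absurd (proportional (mem_lt _ _) (mul_ne_zero (inv_ne_zero hm') hm) this)
      (by rw [h2]; exact Bool.false_ne_true)
  · have key : ∀ n, n < 4 → Nat.beq (scl n c) (mem (Nat.land (entry idxTbl 24 c) 2047) k) = true →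
        ∃ l : K4, (g : M6) *ᵥ vec c = l • vec c := by
      intro n hn he
      refine ⟨m * k4 n, ?_⟩
      rw [hck, ← Nat.eq_of_beq_eq_true he, vec_scl hn, smul_smul]
    simp only [Nat.beq_eq] at h2
    rcases h2 with (h2 | h2) | h2
    exacts [key 1 (by norm_num) (by simp [h2]), key 2 (by norm_num) (by simp [h2]),
      key 3 (by norm_num) (by simp [h2])]

theorem eq_one_of_fst {g : GL (Fin 6) K4} (hg : ((1 : CosetCertSuzGData.pres.Grp), g) ∈ R) :
    g = 1 := by
  choose a ha using fun j : Fin 6 => eigen hg (Pi.single j 1)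
  have ent : ∀ i j, (g : M6) i j = a j * (Pi.single j (1 : K4) : Fin 6 → K4) i := fun i j => by
    have := congrFun (ha j) i
    simpa [Matrix.mulVec_single] using this
  have hdiag : ∀ j, (g : M6) j j = a 0 := by
    intro j
    by_cases h : j = 0
    · subst h; simp [ent]
    obtain ⟨b, hb⟩ := eigen hg (Pi.single 0 1 + Pi.single j 1)
    rw [Matrix.mulVec_add, ha, ha] at hb
    have h0 := congrFun hb 0
    have hj := congrFun hb j
    simp [h, Ne.symm h] at h0 hj
    simp [ent, hj, h0]
  have hs : (g : M6) = Matrix.scalar (Fin 6) (a 0) := by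
    ext i j
    by_cases h : i = j
    · subst h; simp [hdiag]
    · simp [ent, Matrix.scalar_apply, h]
  apply Units.ext
  have h5 := congrArg (fun A : M6 => A 0 5) (form_of_mem (snd_mem hg))
  rw [hs] at h5
  simp [Matrix.mul_apply, Fin.sum_univ_six, J, Matrix.scalar_apply] at h5
  have hc : ∀ c : K4, c * c = 1 → c = 1 := by decide
  rw [hs, hc _ h5]
  simp

theorem card_M : Nat.card M = 251596800 := by
  rw [Nat.card_congr equivM.toEquiv, Cfsg.Agent.S1059.result (q := 4) rfl]
  norm_num

/-- First projection. -/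
noncomputable def toH : R →* H :=
  ((MonoidHom.fst _ _).comp R.subtype).codRestrict H fun p => fst_mem p.2

/-- Second projection. -/
noncomputable def toM : R →* M :=
  ((MonoidHom.snd _ _).comp R.subtype).codRestrict M fun p => snd_mem p.2

theorem toH_injective : Function.Injective toH := by
  rw [injective_iff_map_eq_one]
  rintro ⟨⟨k, g⟩, hp⟩ h
  obtain rfl : k = 1 := congrArg Subtype.val h
  obtain rfl := eq_one_of_fst hp
  rfl

theorem toM_surjective : Function.Surjective toM := by
  rintro ⟨g, hg⟩
  obtain ⟨p, hp, hpg⟩ := M_le hg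
  exact ⟨⟨p, hp⟩, Subtype.ext hpg⟩

/-- The subgroup is the group of type G2 over the field with four elements. -/
theorem iso : Nonempty (H ≃* chevG2.group K4) := by
  obtain ⟨hfin, hle⟩ := CosetCertSuzSimple.boundS1
  have := hfin
  have : Finite R := Finite.of_injective _ toH_injective
  have h1 : Nat.card R ≤ Nat.card H := Nat.card_le_card_of_injective _ toH_injective
  have h2 : Nat.card M ≤ Nat.card R := Nat.card_le_card_of_surjective _ toM_surjective
  rw [card_M] at h2
  have eH : Function.Bijective toH :=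
    toH_injective.bijective_of_nat_card_le (hle.trans h2)
  have eM : Function.Bijective toM :=
    toM_surjective.bijective_of_nat_card_le (h1.trans (hle.trans_eq card_M.symm))
  exact ⟨((MulEquiv.ofBijective _ eH).symm.trans (MulEquiv.ofBijective _ eM)).trans equivM⟩

end Cfsg.Agent.CosetCertG24
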