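import Cfsg.Agent.Lib.CosetCertRestrict

/-!
Elements given as words in strong generators, and the invariants of the suborbit labels of pairs
of points in a transitive action.
-/

set_option autoImplicit false

namespace Cfsg.Agent.CosetCertGraph41

open Cfsg.Agent.CosetCertCore Cfsg.Agent.CosetCertTable Cfsg.Agent.CosetCertPres
open Cfsg.Agent.CosetCertOrder Cfsg.Agent.CosetCertRestrict

/-- Agreement of two words of elements on some points. -/
noncomputable def agree (E : Elts) (D : Table) (B : List Nat) (U V : List Nat) : Bool :=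
  B.all fun b => Nat.beq (E.run D U b) (E.run D V b)

/-- All letters are element numbers. -/
def letOk (E : Elts) (D : Table) (U : List Nat) : Bool :=
  U.all fun k => Nat.blt k (D.NG + E.words.length)

/-- Path from a point to the root along an orbit table whose generators are the letters. -/
noncomputable def upath (O : Tbl) : Nat → Nat → List Nat := fun fuel =>
  Nat.rec (motive := fun _ => Nat → List Nat) (fun _ => [])
    (fun _ ih p => force (entry O 48 p) fun e =>
      cond (Nat.beq (oDepth e) 0) [] (oWord e :: ih (oPar e))) fuel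

/-- The path of a point. -/
noncomputable def upath0 (OT : Tbl) (p : Nat) : List Nat := upath OT 24 p

/-- Paths reach the root and use letters only. -/
noncomputable def pathsOk (OT : Tbl) (D : Table) : Bool :=
  allFrom (fun p => force p fun q => (upath0 OT q).all (fun x => Nat.blt x D.NG) &&
    Nat.beq (D.run (upath0 OT q) q) 0) D.N 0

/-- Suborbit label of a pair of points. -/
noncomputable def A (O OT : Tbl) (D : Table) (p q : Nat) : Nat :=
  oLabel (entry O 48 (D.run (upath0 OT p) q))

/-- Pairs of images of pairs under some words. -/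
noncomputable def expand (E : Elts) (D : Table) (PW : List (List Nat)) (roots : List (Nat × Nat)) :
    List (Nat × Nat) :=
  roots.flatMap fun t => PW.map fun w => (E.run D w t.1, E.run D w t.2)

/-- What an image `p` of `b` must satisfy. -/
noncomputable def candOk (O OT : Tbl) (E : Elts) (D : Table) (PW : List (List Nat))
    (Sig : List (Nat × Nat)) (b p : Nat) : Bool :=
  (Sig.all fun t => Nat.beq (A O OT D t.2 p) (A O OT D t.1 b)) &&
    PW.all fun w => Nat.beq (A O OT D p (E.run D w p)) (A O OT D b (E.run D w b))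

/-- Only the allowed points can be images. -/
noncomputable def scanOk (O OT : Tbl) (E : Elts) (D : Table) (PW : List (List Nat))
    (Sig : List (Nat × Nat)) (b : Nat) (allowed : List Nat) : Bool :=
  allFrom (fun p => !candOk O OT E D PW Sig b p || allowed.elem p) D.N 0

/-- Successively forced images. -/
noncomputable def stepsOk (O OT : Tbl) (E : Elts) (D : Table) (PW : List (List Nat)) :
    List (Nat × Nat) → List (Nat × Nat) → Bool
  | _, [] => true
  | roots, t :: r =>
      Nat.blt t.1 D.N && scanOk O OT E D PW (expand E D PW roots) t.1 [t.2] &&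
        stepsOk O OT E D PW (t :: roots) r

section

variable {P : Pres} {S : List Wx} {C : Cert} {M : Nat} {D : Table}
  (h : Enumerated P S C M D) {E : Elts} (hw : wordsOk E D = true)
  (hE : ∀ k, k < E.words.length → AllBelow (eltOk E D k) D.N)
include h hw hE

/-- The elements of the strong generating data. -/
theorem exists_el (hf : Function.Injective (rho h)) : ∃ el : Nat → P.Grp,
    (∀ k < D.NG + E.words.length, ∀ i : Fin D.N, ((rho h (el k) i : Fin D.N) : Nat) = E.img D k i) ∧
    ∀ k < D.NG, el k = P.gg k := by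
  classical
  have hex : ∀ k, ∃ g : P.Grp, k < D.NG + E.words.length →
      ∀ i : Fin D.N, ((rho h g i : Fin D.N) : Nat) = E.img D k i := by
    intro k
    by_cases hk : k < D.NG + E.words.length
    · obtain ⟨p, ⟨g, rfl⟩, hp⟩ := elts_mem h hw hE k hk
      exact ⟨g, fun _ => hp⟩
    · exact ⟨1, fun h' => absurd h' hk⟩
  choose el hel using hex
  refine ⟨el, hel, fun k hk => hf (Equiv.ext fun i => Fin.ext ?_)⟩
  rw [hel k (by omega) i, Elts.img, Nat.blt_eq.mpr hk, cond_true, rho_gg h k hk, perm_apply h.table hk]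

end

/-- The element of a word of elements, the first letter acting first. -/
def elW {G : Type*} [Group G] (el : Nat → G) (W : List Nat) : G := (W.map el).reverse.prod

theorem elW_nil {G : Type*} [Group G] (el : Nat → G) : elW el [] = 1 := rfl

theorem elW_cons {G : Type*} [Group G] (el : Nat → G) (k : Nat) (W : List Nat) :
    elW el (k :: W) = elW el W * el k := by
  simp [elW]

theorem elW_append {G : Type*} [Group G] (el : Nat → G) (U V : List Nat) :
    elW el (U ++ V) = elW el V * elW el U := by
  simp [elW]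

theorem elW_replicate {G : Type*} [Group G] (el : Nat → G) (U : List Nat) (n : Nat) :
    elW el (List.replicate n U).flatten = elW el U ^ n := by
  induction n with
  | zero => simp [elW]
  | succ n ih => rw [List.replicate_succ, List.flatten_cons, elW_append, ih, pow_succ]

/-- The setting: elements, and a base. -/
structure Based {P : Pres} {S : List Wx} {C : Cert} {M : Nat} {D : Table}
    (h : Enumerated P S C M D) (E : Elts) (el : Nat → P.Grp) (B : List Nat) : Prop where
  el_img : ∀ k < D.NG + E.words.length, ∀ i : Fin D.N, ((rho h (el k) i : Fin D.N) : Nat) = E.img D k i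
  el_gen : ∀ k < D.NG, el k = P.gg k
  base : ∀ g : P.Grp, (∀ b : Fin D.N, (b : Nat) ∈ B → rho h g b = b) → g = 1

section

variable {P : Pres} {S : List Wx} {C : Cert} {M : Nat} {D : Table}
  {h : Enumerated P S C M D} {E : Elts} {el : Nat → P.Grp} {B : List Nat}
  (hb : Based h E el B)
include hb

theorem img_elW {W : List Nat} (hW : letOk E D W = true) (i : Fin D.N) :
    ((rho h (elW el W) i : Fin D.N) : Nat) = E.run D W i := by
  induction W generalizing i with
  | nil => rw [elW_nil, map_one]; rfl
  | cons k W ih =>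
    simp only [letOk, List.all_cons, Bool.and_eq_true, Nat.blt_eq] at hW
    rw [elW_cons, map_mul, Equiv.Perm.mul_apply, Elts.run_cons, ih hW.2, hb.el_img k hW.1]

theorem eq_of_agree {U V : List Nat} (hU : letOk E D U = true) (hV : letOk E D V = true)
    (hag : agree E D B U V = true) : elW el U = elW el V := by
  rw [← inv_mul_eq_one]
  refine hb.base _ fun b hbB => ?_
  simp only [agree, List.all_eq_true, Nat.beq_eq] at hag
  rw [map_mul, map_inv, Equiv.Perm.mul_apply, Equiv.Perm.inv_eq_iff_eq]
  exact Fin.ext (by rw [img_elW hb hV, img_elW hb hU, hag _ hbB])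

/-- An element given by its values on the base. -/
theorem eq_elW {W : List Nat} (hW : letOk E D W = true) (g : P.Grp)
    (hag : ∀ b : Fin D.N, (b : Nat) ∈ B → ((rho h g b : Fin D.N) : Nat) = E.run D W b) : g = elW el W := by
  rw [← inv_mul_eq_one]
  refine hb.base _ fun b hbB => ?_
  rw [map_mul, map_inv, Equiv.Perm.mul_apply, Equiv.Perm.inv_eq_iff_eq]
  exact Fin.ext (by rw [img_elW hb hW, hag b hbB])

theorem ne_of_moved {W : List Nat} (hW : letOk E D W = true) {b : Nat} (hbN : b < D.N)
    (hne : E.run D W b ≠ b) : elW el W ≠ 1 := by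
  intro h1
  apply hne
  have := img_elW hb hW ⟨b, hbN⟩
  rw [h1, map_one, Equiv.Perm.one_apply] at this
  exact this.symm

end

section

variable {P : Pres} {S : List Wx} {C : Cert} {M : Nat} {D : Table}
  (h : Enumerated P S C M D) {O OT : Tbl} {roots : List Nat}
  (hO : AllBelow (orbOk O roots C.sgens D) D.N) (hpath : pathsOk OT D = true)
include h

theorem mem_sub_of_fix {k : P.Grp} (hk : rho h k ⟨0, h.table.npos⟩ = ⟨0, h.table.npos⟩) :
    k ∈ P.sub S := by
  obtain ⟨φ, h0, hφ⟩ := exists_coset_equiv h
  have := hφ k ⟨0, h.table.npos⟩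
  rw [hk, h0] at this
  have h1 : ((k * 1 : P.Grp) : P.Grp ⧸ P.sub S) = ((1 : P.Grp) : P.Grp ⧸ P.sub S) := this.symm
  rwa [mul_one, QuotientGroup.eq, mul_one, inv_mem_iff] at h1

include hO

theorem label_sub {k : P.Grp} (hk : k ∈ P.sub S) (i : Fin D.N) :
    oLabel (entry O 48 (rho h k i)) = oLabel (entry O 48 i) := by
  rw [sub_eq h] at hk
  induction hk using Subgroup.closure_induction generalizing i with
  | mem k hk =>
    obtain ⟨s, hs, rfl⟩ := hk
    have hs' : s.letters ∈ C.sgens := h.sgens ▸ List.mem_map.mpr ⟨s, hs, rfl⟩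
    have hl := h.table.letters _ (List.mem_append_right _ hs')
    obtain ⟨j, hj⟩ : ∃ j, j = rho h (val P.gg s.letters) i := ⟨_, rfl⟩
    have hrun : D.run s.letters j = (i : Nat) := by
      rw [← rho_val_apply h hl, hj, Equiv.Perm.inv_def, Equiv.symm_apply_apply]
    rw [← hj, ← (orb_facts h hO j j.2).1 _ hs', hrun]
  | one => simp
  | mul a b _ _ ha hb => rw [map_mul, Equiv.Perm.mul_apply, ha, hb]
  | inv a _ ha =>
    have := ha (rho h a⁻¹ i)
    rw [← Equiv.Perm.mul_apply, ← map_mul, mul_inv_cancel, map_one, Equiv.Perm.one_apply] at this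
    exact this.symm

include hpath

/-- The label of a pair is invariant. -/
theorem A_inv (g : P.Grp) (p q : Fin D.N) :
    A O OT D (rho h g p : Fin D.N) (rho h g q : Fin D.N) = A O OT D p q := by
  have hp : ∀ r : Fin D.N, (∀ x ∈ upath0 OT r, x < D.NG) ∧ D.run (upath0 OT r) r = 0 := by
    intro r
    have := (allFrom_iff _ _ _).mp hpath r (Nat.zero_le _) (Nat.lt_of_lt_of_eq r.2 (Nat.zero_add _).symm)
    simpa [force_eq] using this
  set p' := rho h g p with hp'
  obtain ⟨k, hkdef⟩ : ∃ k, k = (val P.gg (upath0 OT p'))⁻¹ * g * val P.gg (upath0 OT p) := ⟨_, rfl⟩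
  have h0 : ∀ r : Fin D.N, rho h (val P.gg (upath0 OT r)) ⟨0, h.table.npos⟩ = r := by
    intro r
    have hj : (rho h (val P.gg (upath0 OT r)))⁻¹ r = ⟨0, h.table.npos⟩ :=
      Fin.ext ((rho_val_apply h (hp r).1 r).trans (hp r).2)
    exact (Equiv.Perm.inv_eq_iff_eq.mp hj).symm
  have hk0 : rho h k ⟨0, h.table.npos⟩ = ⟨0, h.table.npos⟩ := by
    rw [hkdef, map_mul, map_mul, map_inv, Equiv.Perm.mul_apply, Equiv.Perm.mul_apply, h0 p, ← hp',
      Equiv.Perm.inv_eq_iff_eq, h0 p']
  obtain ⟨q0, hq0⟩ : ∃ q0, q0 = (rho h (val P.gg (upath0 OT p)))⁻¹ q := ⟨_, rfl⟩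
  have hq : rho h k q0 = (rho h (val P.gg (upath0 OT p')))⁻¹ (rho h g q) := by
    rw [hkdef, hq0, map_mul, map_mul, map_inv, Equiv.Perm.mul_apply, Equiv.Perm.mul_apply,
      show rho h (val P.gg (upath0 OT p)) ((rho h (val P.gg (upath0 OT p)))⁻¹ q) = q from Equiv.apply_symm_apply _ _]
  unfold A
  rw [← rho_val_apply h (hp p').1, ← rho_val_apply h (hp p).1, ← hq, ← hq0]
  exact label_sub h hO (mem_sub_of_fix h hk0) q0

end

section

variable {P : Pres} {S : List Wx} {C : Cert} {M : Nat} {D : Table}
  {h : Enumerated P S C M D} {E : Elts} {el : Nat → P.Grp} {B : List Nat}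
  (hb : Based h E el B) {O OT : Tbl} {roots : List Nat}
  (hO : AllBelow (orbOk O roots C.sgens D) D.N) (hpath : pathsOk OT D = true)
  {PW : List (List Nat)} (hPW : ∀ w ∈ PW, letOk E D w = true)
  (g : P.Grp) (hg : ∀ w ∈ PW, Commute g (elW el w))
include hb hPW hg

theorem move_run {t t' : Fin D.N} (ht : rho h g t = t') {w : List Nat} (hw : w ∈ PW) {s : Fin D.N}
    (hs : E.run D w t = (s : Nat)) : E.run D w t' = ((rho h g s : Fin D.N) : Nat) := by
  rw [← img_elW hb (hPW w hw)]
  refine congrArg Fin.val ?_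
  have : rho h (elW el w) t = s := Fin.ext ((img_elW hb (hPW w hw) t).trans hs)
  rw [← ht, ← this, ← Equiv.Perm.mul_apply, ← Equiv.Perm.mul_apply, ← map_mul, ← map_mul, (hg w hw).eq]

/-- Known values of an element commuting with the words. -/
theorem expand_known {rts : List (Nat × Nat)}
    (hr : ∀ t ∈ rts, ∃ a : Fin D.N, t.1 = a ∧ ((rho h g a : Fin D.N) : Nat) = t.2) :
    ∀ t ∈ expand E D PW rts, ∃ a : Fin D.N, t.1 = a ∧ ((rho h g a : Fin D.N) : Nat) = t.2 := by
  intro t ht
  simp only [expand, List.mem_flatMap, List.mem_map] at ht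
  obtain ⟨u, hu, w, hw, rfl⟩ := ht
  obtain ⟨a, ha, ha'⟩ := hr u hu
  refine ⟨rho h (elW el w) a, ?_, ?_⟩
  · rw [img_elW hb (hPW w hw), ha]
  · rw [← ha', move_run hb hPW g hg (t := a) rfl hw (img_elW hb (hPW w hw) a).symm]

include hO hpath

theorem scan_sound {Sig : List (Nat × Nat)}
    (hS : ∀ t ∈ Sig, ∃ a : Fin D.N, t.1 = a ∧ ((rho h g a : Fin D.N) : Nat) = t.2)
    (b : Fin D.N) (allowed : List Nat) (hsc : scanOk O OT E D PW Sig b allowed = true) :
    ((rho h g b : Fin D.N) : Nat) ∈ allowed := by
  have := (allFrom_iff _ _ _).mp hsc (rho h g b : Fin D.N) (Nat.zero_le _)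
    (Nat.lt_of_lt_of_eq (rho h g b).2 (Nat.zero_add _).symm)
  have hc : candOk O OT E D PW Sig b (rho h g b : Fin D.N) = true := by
    rw [candOk, Bool.and_eq_true, List.all_eq_true, List.all_eq_true]
    refine ⟨fun t ht => ?_, fun w hw => ?_⟩
    · obtain ⟨a, ha, ha'⟩ := hS t ht
      rw [Nat.beq_eq, ha, ← ha', A_inv h hO hpath]
    · rw [Nat.beq_eq, move_run hb hPW g hg rfl hw (img_elW hb (hPW w hw) b).symm,
        ← img_elW hb (hPW w hw) b, A_inv h hO hpath]
  rw [hc] at this
  simpa using this

/-- Images along successively forced steps. -/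
theorem steps_sound (st : List (Nat × Nat)) : ∀ rts : List (Nat × Nat),
    (∀ t ∈ rts, ∃ a : Fin D.N, t.1 = a ∧ ((rho h g a : Fin D.N) : Nat) = t.2) →
    stepsOk O OT E D PW rts st = true →
    ∀ t ∈ st, ∃ a : Fin D.N, t.1 = a ∧ ((rho h g a : Fin D.N) : Nat) = t.2 := by
  induction st with
  | nil => simp
  | cons u r ih =>
    intro rts hr hst
    simp only [stepsOk, Bool.and_eq_true, Nat.blt_eq] at hst
    obtain ⟨⟨hu, hsc⟩, hrest⟩ := hst
    have hu' : ∃ a : Fin D.N, u.1 = a ∧ ((rho h g a : Fin D.N) : Nat) = u.2 :=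
      ⟨⟨u.1, hu⟩, rfl, List.mem_singleton.mp
        (scan_sound hb hO hpath hPW g hg (expand_known hb hPW g hg hr) ⟨u.1, hu⟩ _ hsc)⟩
    intro t ht
    rcases List.mem_cons.mp ht with rfl | ht
    · exact hu'
    · refine ih (u :: rts) (fun v hv => ?_) hrest t ht
      rcases List.mem_cons.mp hv with rfl | hv
      exacts [hu', hr v hv]

end

end Cfsg.Agent.CosetCertGraph41
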