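import Mathlib

/-! The centraliser of a transvection in the special linear group of degree five over two elements. -/

set_option autoImplicit false
set_option linter.style.haveILetI false
set_option linter.unusedSectionVars false

namespace Cfsg.Agent.CosetCertHeInvModel

open Matrix

/-- The special linear group. -/
abbrev SL5 : Type := Matrix.SpecialLinearGroup (Fin 5) (ZMod 2)

theorem zmod_cases (x : ZMod 2) : x = 0 ∨ x = 1 := by revert x; decide

/-- An elementary transvection. -/
def tEl (i j : Fin 5) (h : i ≠ j) (c : ZMod 2) : SL5 :=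
  ⟨transvection i j c, det_transvection_of_ne i j h c⟩

/-- The fixed transvection. -/
def sT : SL5 := tEl 0 1 (by decide) 1

/-- Its centraliser. -/
abbrev CS : Subgroup SL5 := Subgroup.centralizer ({sT} : Set SL5)

/-- The general element of the centraliser, as a matrix. -/
def form (a : ZMod 2) (u v : Fin 3 → ZMod 2) (A : Matrix (Fin 3) (Fin 3) (ZMod 2)) :
    Matrix (Fin 5) (Fin 5) (ZMod 2) :=
  !![1, a, u 0, u 1, u 2;
     0, 1, 0, 0, 0;
     0, v 0, A 0 0, A 0 1, A 0 2;
     0, v 1, A 1 0, A 1 1, A 1 2;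
     0, v 2, A 2 0, A 2 1, A 2 2]

theorem mem_CS_iff (g : SL5) : g ∈ CS ↔ g.1 * transvection 0 1 (1 : ZMod 2) = transvection 0 1 1 * g.1 := by
  rw [Subgroup.mem_centralizer_singleton_iff]
  exact ⟨fun h => congrArg Subtype.val h, fun h => Subtype.ext h⟩

theorem det_form (a : ZMod 2) (u v : Fin 3 → ZMod 2) (A : Matrix (Fin 3) (Fin 3) (ZMod 2)) :
    (form a u v A).det = A.det := by
  rw [Matrix.det_succ_column_zero]
  simp [form, Fin.sum_univ_succ, Matrix.det_succ_row_zero, Fin.succAbove]

theorem exists_form (g : SL5) (hg : g ∈ CS) :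
    ∃ a u v A, g.1 = form a u v A ∧ A.det ≠ 0 := by
  rw [mem_CS_iff] at hg
  have h0 : ∀ i, i ≠ 0 → g.1 i 0 = 0 := by
    intro i hi
    have h := congrFun (congrFun hg i) 1
    rw [mul_transvection_apply_same, transvection_mul_apply_of_ne _ _ _ _ hi, one_mul] at h
    simpa using h
  have h1 : ∀ j, j ≠ 1 → g.1 1 j = 0 := by
    intro j hj
    have h := congrFun (congrFun hg 0) j
    rw [mul_transvection_apply_of_ne _ _ _ _ hj, transvection_mul_apply_same, one_mul] at h
    simpa using h.symm
  have h11 : g.1 0 0 = g.1 1 1 := by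
    have h := congrFun (congrFun hg 0) 1
    rw [mul_transvection_apply_same, transvection_mul_apply_same, one_mul, one_mul] at h
    exact add_left_cancel h
  have h00 : g.1 0 0 = 1 := by
    rcases zmod_cases (g.1 0 0) with h | h
    · have hd := g.2
      rw [Matrix.det_eq_zero_of_column_eq_zero 0 fun i => by
        by_cases hi : i = 0
        · rw [hi, h]
        · exact h0 i hi] at hd
      exact absurd hd (by decide)
    · exact h
  have h22 : g.1 1 1 = 1 := h11.symm.trans h00
  have hg' : g.1 = form (g.1 0 1) ![g.1 0 2, g.1 0 3, g.1 0 4] ![g.1 2 1, g.1 3 1, g.1 4 1]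
      !![g.1 2 2, g.1 2 3, g.1 2 4; g.1 3 2, g.1 3 3, g.1 3 4; g.1 4 2, g.1 4 3, g.1 4 4] := by
    ext i j
    fin_cases i <;> fin_cases j <;>
      first
        | rfl
        | (simpa [form] using h00)
        | (simpa [form] using h22)
        | (simpa [form] using h0 _ (by decide))
        | (simpa [form] using h1 _ (by decide))
  refine ⟨_, _, _, _, hg', ?_⟩
  intro hA
  have hd := g.2
  rw [hg', det_form, hA] at hd
  exact absurd hd (by decide)

theorem form_mul_X (a : ZMod 2) (u : Fin 3 → ZMod 2) :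
    form a u 0 1 = transvection (0 : Fin 5) 1 a * transvection 0 2 (u 0) * transvection 0 3 (u 1) *
      transvection 0 4 (u 2) := by
  ext i j
  fin_cases i <;> fin_cases j <;>
    simp [form, transvection, Matrix.single, Matrix.mul_apply, Fin.sum_univ_five, Matrix.one_apply]

theorem form_mul_Y (v : Fin 3 → ZMod 2) :
    form 0 0 v 1 = transvection (2 : Fin 5) 1 (v 0) * transvection 3 1 (v 1) * transvection 4 1 (v 2) := by
  ext i j
  fin_cases i <;> fin_cases j <;>
    simp [form, transvection, Matrix.single, Matrix.mul_apply, Fin.sum_univ_five, Matrix.one_apply]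

theorem form_split (a : ZMod 2) (u v : Fin 3 → ZMod 2) (A : Matrix (Fin 3) (Fin 3) (ZMod 2)) :
    form a u v A = form 0 0 v 1 * form 0 0 0 A * form a u 0 1 := by
  ext i j
  fin_cases i <;> fin_cases j <;>
    simp [form, Matrix.mul_apply, Fin.sum_univ_five, Matrix.one_apply]

theorem form_diag_mul (A B : Matrix (Fin 3) (Fin 3) (ZMod 2)) :
    form 0 0 0 (A * B) = form 0 0 0 A * form 0 0 0 B := by
  ext i j
  fin_cases i <;> fin_cases j <;>
    simp [form, Matrix.mul_apply, Fin.sum_univ_five, Fin.sum_univ_three]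

/-- A subgroup containing the thirteen transvections contains the centraliser. -/
theorem le_of_transvections (K : Subgroup SL5)
    (hK : ∀ i j : Fin 5, ∀ h : i ≠ j, (i = 0 ∧ j ≠ 0) ∨ (2 ≤ i.1 ∧ j ≠ 0) → tEl i j h 1 ∈ K) :
    CS ≤ K := by
  have hK' : ∀ i j : Fin 5, ∀ h : i ≠ j, (i = 0 ∧ j ≠ 0) ∨ (2 ≤ i.1 ∧ j ≠ 0) →
      ∀ c, tEl i j h c ∈ K := by
    intro i j h hij c
    rcases zmod_cases c with rfl | rfl
    · have : tEl i j h 0 = 1 := Subtype.ext (transvection_zero (R := ZMod 2) i j)
      rw [this]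
      exact Subgroup.one_mem _
    · exact hK i j h hij
  have hD : ∀ A : Matrix (Fin 3) (Fin 3) (ZMod 2), A.det ≠ 0 → ∃ g ∈ K, g.1 = form 0 0 0 A := by
    intro A hA
    refine diagonal_transvection_induction_of_det_ne_zero (fun A => ∃ g ∈ K, g.1 = form 0 0 0 A) A hA
      ?_ ?_ ?_
    · intro d hd
      have hd1 : d = fun _ => 1 := funext fun i => (zmod_cases (d i)).resolve_left fun h0 => hd (by
        rw [det_diagonal]
        exact Finset.prod_eq_zero (Finset.mem_univ i) h0)
      refine ⟨1, Subgroup.one_mem _, ?_⟩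
      rw [hd1, diagonal_one]
      ext i j
      fin_cases i <;> fin_cases j <;> simp [form, Matrix.one_apply]
    · rintro ⟨i, j, hij, c⟩
      have key : ∀ i j : Fin 3, i ≠ j → ∀ c : ZMod 2,
          transvection (⟨i.1 + 2, by omega⟩ : Fin 5) ⟨j.1 + 2, by omega⟩ c = form 0 0 0 (transvection i j c) := by
        decide
      have hne : (⟨i.1 + 2, by omega⟩ : Fin 5) ≠ ⟨j.1 + 2, by omega⟩ := fun h => hij (Fin.ext (by
        have := congrArg Fin.val h; simp at this; omega))
      exact ⟨tEl _ _ hne c, hK' _ _ hne (Or.inr ⟨Nat.le_add_left 2 _,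
        fun h => by have := congrArg Fin.val h; simp at this⟩) c, key i j hij c⟩
    · rintro A B - - ⟨g, hg, eg⟩ ⟨h, hh, eh⟩
      exact ⟨g * h, mul_mem hg hh, by rw [form_diag_mul, ← eg, ← eh]; rfl⟩
  intro g hg
  obtain ⟨a, u, v, A, e, hA⟩ := exists_form g hg
  obtain ⟨d, hd, ed⟩ := hD A hA
  have hY : tEl 2 1 (by decide) (v 0) * tEl 3 1 (by decide) (v 1) * tEl 4 1 (by decide) (v 2) ∈ K :=
    mul_mem (mul_mem (hK' _ _ _ (Or.inr ⟨by decide, by decide⟩) _)
      (hK' _ _ _ (Or.inr ⟨by decide, by decide⟩) _)) (hK' _ _ _ (Or.inr ⟨by decide, by decide⟩) _)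
  have hX : tEl 0 1 (by decide) a * tEl 0 2 (by decide) (u 0) * tEl 0 3 (by decide) (u 1) *
      tEl 0 4 (by decide) (u 2) ∈ K :=
    mul_mem (mul_mem (mul_mem (hK' _ _ _ (Or.inl ⟨rfl, by decide⟩) _)
      (hK' _ _ _ (Or.inl ⟨rfl, by decide⟩) _)) (hK' _ _ _ (Or.inl ⟨rfl, by decide⟩) _))
      (hK' _ _ _ (Or.inl ⟨rfl, by decide⟩) _)
  have hgeq : g = (tEl 2 1 (by decide) (v 0) * tEl 3 1 (by decide) (v 1) * tEl 4 1 (by decide) (v 2)) * d *
      (tEl 0 1 (by decide) a * tEl 0 2 (by decide) (u 0) * tEl 0 3 (by decide) (u 1) *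
        tEl 0 4 (by decide) (u 2)) := by
    apply Subtype.ext
    rw [e, form_split, form_mul_X, form_mul_Y, ← ed]
    rfl
  rw [hgeq]
  exact mul_mem (mul_mem hY hd) hX

theorem card_CS : 21504 ≤ Nat.card CS := by
  classical
  have hcard : Nat.card (GL (Fin 3) (ZMod 2) × ZMod 2 × (Fin 3 → ZMod 2) × (Fin 3 → ZMod 2)) = 21504 := by
    simp only [Nat.card_prod, Nat.card_fun, Nat.card_zmod, Nat.card_eq_fintype_card (α := Fin 3),
      Fintype.card_fin]
    rw [Matrix.card_GL_field]
    simp [Fin.prod_univ_three]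
  rw [← hcard]
  let f : GL (Fin 3) (ZMod 2) × ZMod 2 × (Fin 3 → ZMod 2) × (Fin 3 → ZMod 2) → CS := fun p =>
    ⟨⟨form p.2.1 p.2.2.1 p.2.2.2 p.1.1, by
      rw [det_form]
      exact (zmod_cases _).resolve_left p.1.det_ne_zero⟩, by
      refine (mem_CS_iff _).mpr ?_
      show form _ _ _ _ * _ = _ * form _ _ _ _
      ext i j
      fin_cases i <;> fin_cases j <;>
        simp [form, transvection, Matrix.single, Matrix.mul_apply, Fin.sum_univ_five, Matrix.one_apply, add_comm]⟩
  refine Nat.card_le_card_of_injective f ?_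
  rintro ⟨A, a, u, v⟩ ⟨A', a', u', v'⟩ h
  have hm : form a u v A.1 = form a' u' v' A'.1 := congrArg (fun g : CS => g.1.1) h
  have key : ∀ i j, form a u v A.1 i j = form a' u' v' A'.1 i j := fun i j => by rw [hm]
  obtain rfl : a = a' := by simpa [form] using key 0 1
  obtain rfl : u = u' := funext fun i => by
    fin_cases i
    exacts [by simpa [form] using key 0 2, by simpa [form] using key 0 3, by simpa [form] using key 0 4]
  obtain rfl : v = v' := funext fun i => by
    fin_cases i
    exacts [by simpa [form] using key 2 1, by simpa [form] using key 3 1, by simpa [form] using key 4 1]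
  obtain rfl : A = A' := Units.ext (Matrix.ext fun i j => by
    fin_cases i <;> fin_cases j
    exacts [by simpa [form] using key 2 2, by simpa [form] using key 2 3, by simpa [form] using key 2 4,
      by simpa [form] using key 3 2, by simpa [form] using key 3 3, by simpa [form] using key 3 4,
      by simpa [form] using key 4 2, by simpa [form] using key 4 3, by simpa [form] using key 4 4])
  rfl

end Cfsg.Agent.CosetCertHeInvModel
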