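import Cfsg.Agent.Lib.CosetCertRestrict
import Cfsg.Prelude.Def_SporadicB

/-!
Three-transposition classes from the action on the cosets of an involution centraliser.
-/

set_option autoImplicit false

namespace Cfsg.Agent.CosetCertThreeTrans

open Cfsg.Agent.CosetCertCore Cfsg.Agent.CosetCertTable Cfsg.Agent.CosetCertPres
open Cfsg.Agent.CosetCertOrder Cfsg.Agent.CosetCertRestrict

section

variable {G : Type*} [Group G] {H : Subgroup G} {z : G}

theorem mem_iff (hC : Subgroup.centralizer ({z} : Set G) = H) (x : G) : x ∈ H ↔ x * z = z * x := by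
  rw [← hC]
  exact Subgroup.mem_centralizer_singleton_iff

theorem conj_eq_of_coset (hC : Subgroup.centralizer ({z} : Set G) = H) {a b : G}
    (h : (a : G ⧸ H) = (b : G ⧸ H)) : a * z * a⁻¹ = b * z * b⁻¹ := by
  have hu := QuotientGroup.eq.mp h
  have hu := (mem_iff hC _).mp hu
  calc a * z * a⁻¹ = a * (z * (a⁻¹ * b)) * b⁻¹ := by group
    _ = a * ((a⁻¹ * b) * z) * b⁻¹ := by rw [hu]
    _ = b * z * b⁻¹ := by group

theorem conjugates_eq : conjugatesOf z = Set.range fun g : G => g * z * g⁻¹ := by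
  ext d
  show IsConj z d ↔ _
  rw [isConj_iff]
  exact Iff.rfl

theorem card_conjugates (hC : Subgroup.centralizer ({z} : Set G) = H) :
    Nat.card (conjugatesOf z) = H.index := by
  classical
  let f : G ⧸ H → G := fun q => Quotient.out q * z * (Quotient.out q)⁻¹
  have hf : Function.Injective f := by
    intro p q hpq
    rw [← QuotientGroup.out_eq' p, ← QuotientGroup.out_eq' q, QuotientGroup.eq, mem_iff hC]
    simp only [f] at hpq
    calc (Quotient.out p)⁻¹ * Quotient.out q * z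
        = (Quotient.out p)⁻¹ * (Quotient.out q * z * (Quotient.out q)⁻¹) * Quotient.out q := by group
      _ = (Quotient.out p)⁻¹ * (Quotient.out p * z * (Quotient.out p)⁻¹) * Quotient.out q := by rw [hpq]
      _ = z * ((Quotient.out p)⁻¹ * Quotient.out q) := by group
  have hr : conjugatesOf z = Set.range f := by
    rw [conjugates_eq]
    ext d
    constructor
    · rintro ⟨g, rfl⟩
      exact ⟨(g : G ⧸ H), conj_eq_of_coset hC (QuotientGroup.out_eq' _)⟩
    · rintro ⟨q, rfl⟩
      exact ⟨_, rfl⟩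
  rw [hr, Nat.card_range_of_injective hf]
  rfl

/-- The product of `z` with its conjugates is controlled by double coset representatives. -/
theorem three_trans_set (hz : orderOf z = 2) (hC : Subgroup.centralizer ({z} : Set G) = H)
    (reps : Set G) (hcov : ∀ g : G, ∃ u ∈ H, ∃ k ∈ reps, (g : G ⧸ H) = ((u * k : G) : G ⧸ H))
    (hk : ∀ k ∈ reps, k * z * k⁻¹ ∈ H ∨
      ((z * k : G) : G ⧸ H) = ((k * z * k⁻¹ : G) : G ⧸ H)) :
    Cfsg.IsThreeTranspositionSet (conjugatesOf z) := by
  have hzz : z * z = 1 := by rw [← pow_two, ← hz, pow_orderOf_eq_one]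
  refine ⟨fun d hd => ?_, ?_⟩
  · rw [conjugates_eq] at hd
    obtain ⟨g, rfl⟩ := hd
    rw [← hz]
    exact orderOf_injective (MulAut.conj g).toMonoidHom (MulAut.conj g).injective z
  · intro d hd e he
    rw [conjugates_eq] at hd he
    obtain ⟨g, rfl⟩ := hd
    obtain ⟨g', rfl⟩ := he
    obtain ⟨u, hu, k, hkm, hq⟩ := hcov (g⁻¹ * g')
    have hconj := conj_eq_of_coset hC hq
    have huz : u * z = z * u := by
      exact (mem_iff hC u).mp hu
    have hprod : g * z * g⁻¹ * (g' * z * g'⁻¹) =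
        (g * u) * (z * (k * z * k⁻¹)) * (g * u)⁻¹ := by
      calc g * z * g⁻¹ * (g' * z * g'⁻¹)
          = g * (z * ((g⁻¹ * g') * z * (g⁻¹ * g')⁻¹)) * g⁻¹ := by group
        _ = g * (z * (u * k * z * (u * k)⁻¹)) * g⁻¹ := by rw [hconj]
        _ = g * ((z * u) * (k * z * k⁻¹) * u⁻¹) * g⁻¹ := by group
        _ = g * ((u * z) * (k * z * k⁻¹) * u⁻¹) * g⁻¹ := by rw [huz]
        _ = (g * u) * (z * (k * z * k⁻¹)) * (g * u)⁻¹ := by group
    rw [hprod, conj_pow, conj_pow, conj_eq_one_iff, conj_eq_one_iff]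
    have hzz' : (k * z * k⁻¹) * (k * z * k⁻¹) = 1 := by
      rw [show (k * z * k⁻¹) * (k * z * k⁻¹) = k * (z * z) * k⁻¹ by group, hzz]
      group
    rcases hk k hkm with h1 | h2
    · left
      have h1' := (mem_iff hC _).mp h1
      rw [pow_two]
      calc z * (k * z * k⁻¹) * (z * (k * z * k⁻¹))
          = z * ((k * z * k⁻¹) * z) * (k * z * k⁻¹) := by group
        _ = z * (z * (k * z * k⁻¹)) * (k * z * k⁻¹) := by rw [h1']
        _ = (z * z) * ((k * z * k⁻¹) * (k * z * k⁻¹)) := by group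
        _ = 1 := by rw [hzz, hzz', one_mul]
    · right
      have hb := conj_eq_of_coset hC h2
      have hbraid : z * (k * z * k⁻¹) * z = (k * z * k⁻¹) * z * (k * z * k⁻¹) := by
        rw [show z * (k * z * k⁻¹) * z = (z * k) * z * (z * k)⁻¹ * (z * z) by group, hzz, mul_one, hb]
        rw [show (k * z * k⁻¹ : G)⁻¹ = k * z * k⁻¹ from (eq_inv_of_mul_eq_one_left hzz').symm]
      rw [pow_succ, pow_two]
      calc z * (k * z * k⁻¹) * (z * (k * z * k⁻¹)) * (z * (k * z * k⁻¹))
          = (z * (k * z * k⁻¹) * z) * ((k * z * k⁻¹) * z * (k * z * k⁻¹)) := by group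
        _ = (k * z * k⁻¹) * (z * ((k * z * k⁻¹) * (k * z * k⁻¹)) * z) * (k * z * k⁻¹) := by
          rw [hbraid]; group
        _ = 1 := by rw [hzz', mul_one, hzz, mul_one, hzz']

/-- Conjugate elements have isomorphic centralisers. -/
theorem centralizer_iso {d : G} (hd : d ∈ conjugatesOf z) :
    Nonempty (Subgroup.centralizer ({z} : Set G) ≃* Subgroup.centralizer ({d} : Set G)) := by
  rw [conjugates_eq] at hd
  obtain ⟨g, rfl⟩ := hd
  refine ⟨((MulAut.conj g).subgroupMap _).trans (MulEquiv.subgroupCongr ?_)⟩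
  ext x
  show x ∈ (Subgroup.centralizer ({z} : Set G)).map (MulAut.conj g).toMonoidHom ↔
    x ∈ Subgroup.centralizer ({g * z * g⁻¹} : Set G)
  rw [Subgroup.mem_map_equiv, Subgroup.mem_centralizer_singleton_iff,
    Subgroup.mem_centralizer_singleton_iff]
  simp only [MulAut.conj_symm_apply]
  constructor
  · intro h
    calc x * (g * z * g⁻¹) = g * ((g⁻¹ * x * g) * z) * g⁻¹ := by group
      _ = g * (z * (g⁻¹ * x * g)) * g⁻¹ := by rw [h]
      _ = g * z * g⁻¹ * x := by group
  · intro h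
    calc g⁻¹ * x * g * z = g⁻¹ * (x * (g * z * g⁻¹)) * g := by group
      _ = g⁻¹ * (g * z * g⁻¹ * x) * g := by rw [h]
      _ = z * (g⁻¹ * x * g) := by group

/-- In a simple group a nontrivial conjugacy class generates. -/
theorem closure_conjugates [IsSimpleGroup G] (hz : z ≠ 1) :
    Subgroup.closure (conjugatesOf z) = ⊤ := by
  have h : Subgroup.closure (conjugatesOf z) = Subgroup.normalClosure ({z} : Set G) := by
    simp [Subgroup.normalClosure, Group.conjugatesOfSet]
  rw [h]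
  refine (Subgroup.Normal.eq_bot_or_eq_top inferInstance).resolve_left fun hb => hz ?_
  have hm := Subgroup.subset_normalClosure (Set.mem_singleton z)
  rw [hb] at hm
  exact hm

/-- The centraliser of an element in a maximal subgroup centralising it. -/
theorem centralizer_eq [IsSimpleGroup G] (hnp : ¬ (Nat.card G).Prime) [Finite G] (hz : z ≠ 1)
    (hle : H ≤ Subgroup.centralizer ({z} : Set G))
    (hmax : ∀ U : Subgroup G, H ≤ U → U = H ∨ U = ⊤) : Subgroup.centralizer ({z} : Set G) = H := by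
  refine (hmax _ hle).resolve_right fun htop => hnp ?_
  have hzc : z ∈ Subgroup.center G := by
    rw [Subgroup.mem_center_iff]
    intro g
    exact Subgroup.mem_centralizer_singleton_iff.mp (htop ▸ Subgroup.mem_top g)
  have hctop : Subgroup.center G = ⊤ :=
    (Subgroup.Normal.eq_bot_or_eq_top inferInstance).resolve_left fun hb => hz (by
      rw [hb] at hzc; exact hzc)
  letI : CommGroup G := { (inferInstance : Group G) with
    mul_comm := fun a b => (Subgroup.mem_center_iff.mp (hctop ▸ Subgroup.mem_top a) b).symm }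
  exact IsSimpleGroup.prime_card (α := G)

/-- An element of a kernel of order two is central. -/
theorem central_of_card_two {L : Type*} [Group L] {ψ : G →* L} (hker : Nat.card ψ.ker = 2)
    (hzk : z ∈ ψ.ker) (hz : z ≠ 1) (k : G) : k * z = z * k := by
  have hne : (⟨k * z * k⁻¹, Subgroup.Normal.conj_mem inferInstance z hzk k⟩ : ψ.ker) ≠ 1 := fun he => hz (by
    have := congrArg Subtype.val he
    rwa [Subgroup.coe_one, conj_eq_one_iff] at this)
  have hne' : (⟨z, hzk⟩ : ψ.ker) ≠ 1 := fun he => hz (congrArg Subtype.val he)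
  obtain ⟨y, -, hy⟩ := (Nat.card_eq_two_iff' (1 : ψ.ker)).mp hker
  exact mul_inv_eq_iff_eq_mul.mp (congrArg Subtype.val ((hy _ hne).trans (hy _ hne').symm))

/-- Being a non-split double cover passes to isomorphic groups. -/
theorem doubleCover_congr {H' K K' : Type*} [Group H'] [Group K] [Group K']
    (e : K ≃* K') (hd : Cfsg.IsNonsplitDoubleCover K H') : Cfsg.IsNonsplitDoubleCover K' H' := by
  obtain ⟨hc, ⟨i⟩, hsp⟩ := hd
  have hmap : (Subgroup.center K).map e.toMonoidHom = Subgroup.center K' := by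
    ext x
    rw [Subgroup.mem_map_equiv, Subgroup.mem_center_iff, Subgroup.mem_center_iff]
    constructor
    · intro h g
      have := congrArg e (h (e.symm g))
      simpa using this
    · intro h g
      apply e.injective
      simpa using h (e g)
  refine ⟨?_, ⟨?_⟩, ?_⟩
  · rw [← hmap, ← Nat.card_congr ((Subgroup.center K).equivMapOfInjective _ e.injective).toEquiv]
    exact hc
  · exact (QuotientGroup.congr _ _ e hmap).symm.trans i
  · intro L hL
    refine hsp (L.comap e.toMonoidHom) ⟨fun p q hpq => ?_, fun g => ?_⟩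
    · have key := hL.1 (a₁ := (⟨e p.1, hmap ▸ Subgroup.mem_map_of_mem _ p.1.2⟩, ⟨e p.2, p.2.2⟩))
        (a₂ := (⟨e q.1, hmap ▸ Subgroup.mem_map_of_mem _ q.1.2⟩, ⟨e q.2, q.2.2⟩))
        (by simpa using congrArg e hpq)
      simp only [Prod.mk.injEq, Subtype.mk.injEq, e.injective.eq_iff] at key
      exact Prod.ext (Subtype.ext key.1) (Subtype.ext (e.injective (congrArg Subtype.val key.2)))
    · obtain ⟨⟨⟨c, hc'⟩, ⟨l, hl⟩⟩, hcl⟩ := hL.2 (e g)
      refine ⟨(⟨e.symm c, ?_⟩, ⟨e.symm l, by simpa using hl⟩), ?_⟩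
      · rw [SetLike.mem_coe, ← hmap, Subgroup.mem_map_equiv] at hc'
        exact hc'
      · apply e.injective
        simpa using hcl

end

section

variable {P : Pres} {S : List Wx} {C : Cert} {M : Nat} {D : Table}
  (h : Enumerated P S C M D) {O : Tbl} {roots : List Nat}
  (hO : AllBelow (orbOk O roots C.sgens D) D.N)
include h

theorem point_word (φ : Fin D.N ≃ P.Grp ⧸ P.sub S)
    (h0 : φ ⟨0, h.table.npos⟩ = ((1 : P.Grp) : P.Grp ⧸ P.sub S))
    (hφ : ∀ k i, φ (rho h k i) = k • φ i) (w : List Nat) (hw : ∀ x ∈ w, x < D.NG) (i : Fin D.N)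
    (hi : D.run w 0 = i) : φ i = (((val P.gg w)⁻¹ : P.Grp) : P.Grp ⧸ P.sub S) := by
  have : i = rho h (val P.gg w)⁻¹ ⟨0, h.table.npos⟩ := by
    apply Fin.ext
    rw [map_inv, rho_val_apply h hw]
    exact hi.symm
  rw [this, hφ, h0]
  show (((val P.gg w)⁻¹ * 1 : P.Grp) : P.Grp ⧸ P.sub S) = _
  rw [mul_one]

/-- Two words give the same coset when they lead to the same point. -/
theorem coset_eq (a b : List Nat) (ha : ∀ x ∈ a, x < D.NG) (hb : ∀ x ∈ b, x < D.NG)
    (hN : D.run a 0 < D.N) (hab : D.run a 0 = D.run b 0) :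
    (((val P.gg a)⁻¹ : P.Grp) : P.Grp ⧸ P.sub S) = (((val P.gg b)⁻¹ : P.Grp) : P.Grp ⧸ P.sub S) := by
  obtain ⟨φ, h0, hφ⟩ := exists_coset_equiv h
  rw [← point_word h φ h0 hφ a ha ⟨_, hN⟩ rfl, ← point_word h φ h0 hφ b hb ⟨_, hN⟩ hab.symm]

include hO

/-- Double coset representatives from the suborbit roots. -/
theorem cover_reps (hlab : allFrom (fun i => Nat.blt (oLabel (entry O 48 i)) roots.length) D.N 0 = true)
    (Ks : List (List Nat))
    (hKs : ∀ k < roots.length, roots.getD k 0 < D.N ∧ oLabel (entry O 48 (roots.getD k 0)) = k ∧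
      (∀ x ∈ Ks.getD k [], x < D.NG) ∧ D.run (Ks.getD k []) 0 = roots.getD k 0) (g : P.Grp) :
    ∃ u ∈ P.sub S, ∃ k ∈ {k | ∃ j < roots.length, k = (val P.gg (Ks.getD j []))⁻¹},
      (g : P.Grp ⧸ P.sub S) = ((u * k : P.Grp) : P.Grp ⧸ P.sub S) := by
  obtain ⟨φ, h0, hφ⟩ := exists_coset_equiv h
  obtain ⟨i, hi⟩ := φ.surjective (g : P.Grp ⧸ P.sub S)
  have hl : oLabel (entry O 48 i) < roots.length :=
    Nat.blt_eq.mp ((allFrom_iff _ _ _).mp hlab i (Nat.zero_le _) (by omega))
  obtain ⟨hr, hrl, hKl, hrun⟩ := hKs _ hl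
  have horb := exists_orbit h hO _ _ hr rfl hrl φ hφ
  have hmem : φ i ∈ MulAction.orbit (P.sub S) (φ ⟨_, hr⟩) := horb ▸ ⟨i, rfl, rfl⟩
  obtain ⟨u, hu⟩ := hmem
  refine ⟨u, u.2, _, ⟨_, hl, rfl⟩, ?_⟩
  rw [← hi, ← hu]
  show (u : P.Grp) • φ ⟨_, hr⟩ = _
  rw [point_word h φ h0 hφ _ hKl ⟨_, hr⟩ hrun]
  rfl

end

end Cfsg.Agent.CosetCertThreeTrans
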