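import Cfsg.Agent.Lib.CosetCertHeInvData
import Cfsg.Agent.Lib.CosetCertHeInvModel
import Cfsg.Agent.Lib.CosetCertHeSimple
import Cfsg.Agent.Lib.CosetCertThreeTrans

/-! An involution centraliser in the presented He. -/

set_option autoImplicit false
set_option maxRecDepth 100000
set_option linter.style.haveILetI false
set_option linter.unusedSectionVars false

namespace Cfsg.Agent.CosetCertHeInv

open Cfsg.Agent.CosetCertCore Cfsg.Agent.CosetCertTable Cfsg.Agent.CosetCertPres
open Cfsg.Agent.CosetCertOrder Cfsg.Agent.CosetCertRestrict Cfsg.Agent.CosetCertThreeTrans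
open Cfsg.Agent.CosetCertHeInvModel
open scoped Matrix

/-- The presentation of He. -/
abbrev PH : Pres := CosetCertHeHData.pres
/-- The table of the 2058 points. -/
noncomputable abbrev TH : Table := CosetCertHeHData.table
/-- The involution. -/
abbrev z : Pres.Grp PH := PH.gg 3
/-- Its centraliser. -/
abbrev CZ : Subgroup (Pres.Grp PH) := Subgroup.centralizer ({z} : Set (Pres.Grp PH))

/-- Generator word number `k`. -/
def cword (k : Nat) : List Nat := CosetCertHeInvData.cgens.getD k []
/-- Word of transvection number `j`. -/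
def tword (j : Nat) : List Nat := (CosetCertHeInvData.tWords.getD j []).flatMap cword

/-- A packed word. -/
def letters (e : Nat) : List Nat :=
  (List.range (Nat.land e 4095)).map fun k => Nat.land (Nat.shiftRight e (12 + 3 * k)) 7
/-- The word of conjugate number `t`. -/
noncomputable def uWord (t : Nat) : List Nat :=
  letters (entry CosetCertHeInvData.conjTbl CosetCertHeInvData.width t)
/-- The signature of conjugate number `t`. -/
noncomputable def key (t : Nat) : Nat :=
  force (entry CosetCertHeInvData.conjTbl CosetCertHeInvData.width t) fun e =>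
    CosetCertHeInvData.base.foldl
      (fun acc b => 4096 * acc + TH.run ((letters e).reverse ++ 3 :: letters e) b) 0

/-- The check of conjugate number `t`. -/
noncomputable def conjOk (t : Nat) : Bool :=
  force (entry CosetCertHeInvData.conjTbl CosetCertHeInvData.width t) fun e =>
    (letters e).all (fun x => Nat.blt x 7) &&
      Nat.beq (TH.run ((letters e).reverse ++ 3 :: letters e) 0) 0 &&
        (Nat.beq t 3824 || Nat.blt (key t) (key (t + 1)))

/-- Members of the marked set at a point. -/
noncomputable def members (i : Nat) : List Nat :=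
  force (entry CosetCertHeInvData.tauTbl 185 i) fun e =>
    (List.range (Nat.land e 31)).map fun k => Nat.land (Nat.shiftRight e (5 + 9 * k)) 511

/-- The set as a bit mask. -/
def mask (l : List Nat) : Nat := l.foldr (fun c m => m ||| Nat.shiftLeft 1 c) 0

/-- Position of a coordinate among four bits. -/
def pos (i : Nat) : Nat := cond (Nat.beq i 0) 0 (i - 1)
/-- Bit of a vector code at a coordinate. -/
def bitAt (j a : Nat) : Nat := cond (Nat.beq j 1) 1 (Nat.land (Nat.shiftRight a (pos j)) 1)
/-- Positions of transvection number `n`. -/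
def tp (n : Nat) : Nat × Nat := CosetCertHeInvData.pairs.getD n (0, 1)
/-- A transvection on vector codes. -/
def sig (n a : Nat) : Nat := Nat.xor a (Nat.shiftLeft (bitAt (tp n).2 a) (pos (tp n).1))
/-- A transvection on marks. -/
def sigCode (n c : Nat) : Nat :=
  256 * (c / 256) + 16 * sig n (c / 16 % 16) + sig n (c % 16)

/-- The equivariance check at a point. -/
noncomputable def equivOk (i : Nat) : Bool :=
  allFrom (fun n => Nat.beq (mask (members (TH.run (tword n) i))) (mask ((members i).map (sigCode n)))) 13 0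

/-- The commutation check at a point. -/
noncomputable def commOk (i : Nat) : Bool :=
  allFrom (fun k => Nat.beq (TH.run (cword k ++ [3]) i) (TH.run (3 :: cword k) i)) 3 0

/-- The fixed point check. -/
noncomputable def fixOk (i : Nat) : Bool :=
  cond (Nat.beq (TH.img 3 i) i) (CosetCertHeInvData.fixList.any (fun x => Nat.beq x i)) true

/-- A witness separates the pair. -/
noncomputable def sepOk (a : Nat) : Bool :=
  let b := (CosetCertHeInvData.wit.getD a (0, [])).1
  let ps := (CosetCertHeInvData.wit.getD a (0, [])).2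
  Nat.blt b 16 && allFrom (fun y => Nat.beq y (16 * a + b) || ps.any fun q =>
    Nat.blt q 4116 && !(decide
      (Nat.testBit (mask (members (q % 2058))) (256 * (q / 2058) + y) =
        Nat.testBit (mask (members (q % 2058))) (256 * (q / 2058) + (16 * a + b))))) 256 0

theorem conj0 : AllBelow conjOk 0 := AllBelow.zero _
theorem conj1 : AllBelow conjOk 500 := AllBelow.step conj0 500 (by decide +kernel)
theorem conj2 : AllBelow conjOk 1000 := AllBelow.step conj1 500 (by decide +kernel)
theorem conj3 : AllBelow conjOk 1500 := AllBelow.step conj2 500 (by decide +kernel)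
theorem conj4 : AllBelow conjOk 2000 := AllBelow.step conj3 500 (by decide +kernel)
theorem conj5 : AllBelow conjOk 2500 := AllBelow.step conj4 500 (by decide +kernel)
theorem conj6 : AllBelow conjOk 3000 := AllBelow.step conj5 500 (by decide +kernel)
theorem conj7 : AllBelow conjOk 3500 := AllBelow.step conj6 500 (by decide +kernel)
theorem conj8 : AllBelow conjOk 3825 := AllBelow.step conj7 325 (by decide +kernel)

theorem equiv0 : AllBelow equivOk 0 := AllBelow.zero _
theorem equiv1 : AllBelow equivOk 500 := AllBelow.step equiv0 500 (by decide +kernel)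
theorem equiv2 : AllBelow equivOk 1000 := AllBelow.step equiv1 500 (by decide +kernel)
theorem equiv3 : AllBelow equivOk 1500 := AllBelow.step equiv2 500 (by decide +kernel)
theorem equiv4 : AllBelow equivOk 2058 := AllBelow.step equiv3 558 (by decide +kernel)

theorem comm0 : AllBelow commOk 0 := AllBelow.zero _
theorem comm1 : AllBelow commOk 1029 := AllBelow.step comm0 1029 (by decide +kernel)
theorem comm2 : AllBelow commOk 2058 := AllBelow.step comm1 1029 (by decide +kernel)

theorem fix0 : AllBelow fixOk 0 := AllBelow.zero _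
theorem fix1 : AllBelow fixOk 2058 := AllBelow.step fix0 2058 (by decide +kernel)

theorem sep_ok : ∀ a < 16, sepOk a = true := by decide +kernel

theorem z_sq : z * z = 1 := gg_sq CosetCertHeSimple.good 3

theorem rho_z (i : Fin TH.N) : ((rho CosetCertHeH.enumerated z i : Fin TH.N) : Nat) = TH.img 3 i := by
  have h3 : 3 < TH.NG := by decide +kernel
  rw [rho_gg CosetCertHeH.enumerated 3 h3, perm_apply CosetCertHeH.enumerated.table h3]

theorem z_order : orderOf z = 2 := by
  refine orderOf_eq_prime (by rw [pow_two, z_sq]) fun h => ?_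
  have h2 := rho_z ⟨2, by decide +kernel⟩
  rw [h, map_one, Equiv.Perm.one_apply] at h2
  exact absurd h2 (by decide +kernel)

theorem eq_of_run {a b : List Nat} (ha : ∀ x ∈ a, x < TH.NG) (hb : ∀ x ∈ b, x < TH.NG)
    (h : ∀ i < TH.N, TH.run a i = TH.run b i) : val PH.gg a = val PH.gg b := by
  apply CosetCertHeSimple.card_and_faithful.2
  rw [← inv_inj]
  refine Equiv.ext fun i => Fin.ext ?_
  rw [rho_val_apply CosetCertHeH.enumerated ha, rho_val_apply CosetCertHeH.enumerated hb]
  exact h i i.2

theorem cword_mem (k : Nat) : val PH.gg (cword k) ∈ CZ := by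
  rw [Subgroup.mem_centralizer_singleton_iff]
  by_cases hk : k < 3
  · have hl : ∀ x ∈ cword k, x < TH.NG := (by decide +kernel : ∀ k < 3, ∀ x ∈ cword k, x < TH.NG) k hk
    have h3 : 3 < TH.NG := by decide +kernel
    have h := eq_of_run (a := cword k ++ [3]) (b := 3 :: cword k)
      (by intro x hx; rcases List.mem_append.mp hx with h | h
          · exact hl x h
          · rw [List.mem_singleton.mp h]; exact h3)
      (by intro x hx; rcases List.mem_cons.mp hx with rfl | h
          · exact h3
          · exact hl x h)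
      fun i hi => Nat.beq_eq.mp ((allFrom_iff _ _ _).mp (comm2 i hi) k (Nat.zero_le _) (by omega))
    rw [val_append, val_cons, val_cons, val_nil, mul_one] at h
    exact h
  · have h : cword k = [] := List.getD_eq_default _ _ (by simp [CosetCertHeInvData.cgens]; omega)
    rw [h, val_nil, one_mul, mul_one]

theorem tword_mem (j : Nat) : val PH.gg (tword j) ∈ CZ := by
  unfold tword
  induction CosetCertHeInvData.tWords.getD j [] with
  | nil => exact Subgroup.one_mem _
  | cons k w ih => rw [List.flatMap_cons, val_append]; exact mul_mem (cword_mem k) ih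

theorem tword_letters : ∀ j < 13, ∀ x ∈ tword j, x < TH.NG := by decide +kernel

theorem card_fix : Nat.card {i : Fin TH.N // rho CosetCertHeH.enumerated z i = i} ≤ 42 := by
  classical
  have hmem : ∀ i : {i : Fin TH.N // rho CosetCertHeH.enumerated z i = i},
      (i.1 : Nat) ∈ CosetCertHeInvData.fixList.toFinset := by
    rintro ⟨i, hi⟩
    have h := fix1 i i.2
    have hb : Nat.beq (TH.img 3 i) i = true := by rw [Nat.beq_eq, ← rho_z, hi]
    simp only [fixOk, hb, cond_true, List.any_eq_true, Nat.beq_eq] at h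
    obtain ⟨x, hx, hxi⟩ := h
    rw [List.mem_toFinset]
    exact hxi ▸ hx
  have h := Nat.card_le_card_of_injective
    (fun i => (⟨(i.1 : Nat), hmem i⟩ : CosetCertHeInvData.fixList.toFinset))
    fun a b h => Subtype.ext (Fin.ext (congrArg Subtype.val h))
  refine h.trans ?_
  rw [Nat.card_eq_fintype_card, Fintype.card_coe]
  exact (List.toFinset_card_le _).trans (le_of_eq (by decide +kernel))

/-- Conjugate number `t` of the involution. -/
noncomputable def conj (t : Nat) : Pres.Grp PH := (val PH.gg (uWord t))⁻¹ * z * val PH.gg (uWord t)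

theorem conj_facts (t : Nat) (ht : t < 3825) :
    rho CosetCertHeH.enumerated (conj t) ⟨0, CosetCertHeH.enumerated.table.npos⟩ =
      ⟨0, CosetCertHeH.enumerated.table.npos⟩ ∧
      key t = CosetCertHeInvData.base.foldl
        (fun acc b => 4096 * acc + TH.run ((uWord t).reverse ++ 3 :: uWord t) b) 0 ∧
      (∀ x ∈ uWord t, x < TH.NG) := by
  have h := conj8 t ht
  simp only [conjOk, force_eq, Bool.and_eq_true, Nat.beq_eq, List.all_eq_true, Nat.blt_eq] at h
  have hl : ∀ x ∈ uWord t, x < TH.NG := fun x hx =>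
    lt_of_lt_of_eq (h.1.1 x hx) (by decide +kernel)
  refine ⟨?_, by rw [key, force_eq]; rfl, hl⟩
  have hw : ∀ x ∈ (uWord t).reverse ++ 3 :: uWord t, x < TH.NG := by
    intro x hx
    simp only [List.mem_append, List.mem_reverse, List.mem_cons] at hx
    rcases hx with hx | rfl | hx
    exacts [hl x hx, (by decide +kernel), hl x hx]
  have he : conj t = val PH.gg ((uWord t).reverse ++ 3 :: uWord t) := by
    rw [val_append, val_reverse _ (gg_sq CosetCertHeSimple.good), val_cons, conj, mul_assoc]
  rw [he]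
  have h0 : (rho CosetCertHeH.enumerated (val PH.gg ((uWord t).reverse ++ 3 :: uWord t)))⁻¹
      ⟨0, CosetCertHeH.enumerated.table.npos⟩ = ⟨0, CosetCertHeH.enumerated.table.npos⟩ :=
    Fin.ext (by rw [rho_val_apply CosetCertHeH.enumerated hw]; exact h.1.2)
  rw [Equiv.Perm.inv_eq_iff_eq] at h0
  exact h0.symm

theorem key_mono {s t : Nat} (hst : s < t) (ht : t < 3825) : key s < key t := by
  induction t with
  | zero => omega
  | succ t ih =>
    have h := conj8 t (by omega)
    simp only [conjOk, force_eq, Bool.and_eq_true, Bool.or_eq_true, Nat.beq_eq, Nat.blt_eq] at h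
    have hlt : key t < key (t + 1) := h.2.resolve_left (by omega)
    rcases Nat.lt_succ_iff_lt_or_eq.mp hst with h' | h'
    · exact (ih h' (by omega)).trans hlt
    · rw [h']; exact hlt

theorem conj_inj {s t : Nat} (hs : s < 3825) (ht : t < 3825) (he : conj s = conj t) : s = t := by
  have hr : ∀ t < 3825, ∀ b < TH.N, ∀ p : Fin TH.N, p.1 = b →
      TH.run ((uWord t).reverse ++ 3 :: uWord t) b = ((rho CosetCertHeH.enumerated (conj t))⁻¹ p).1 := by
    intro t ht b hb p hp
    have hl := (conj_facts t ht).2.2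
    rw [show conj t = val PH.gg ((uWord t).reverse ++ 3 :: uWord t) by
      rw [val_append, val_reverse _ (gg_sq CosetCertHeSimple.good), val_cons, conj, mul_assoc],
      rho_val_apply CosetCertHeH.enumerated (by
        intro x hx
        simp only [List.mem_append, List.mem_reverse, List.mem_cons] at hx
        rcases hx with hx | rfl | hx
        exacts [hl x hx, (by decide +kernel), hl x hx]), hp]
  have hbase : ∀ b ∈ CosetCertHeInvData.base, b < TH.N := by decide +kernel
  have hk : key s = key t := by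
    rw [(conj_facts s hs).2.1, (conj_facts t ht).2.1]
    have hl : ∀ (l : List Nat), (∀ b ∈ l, b < TH.N) → ∀ acc : Nat,
        l.foldl (fun acc b => 4096 * acc + TH.run ((uWord s).reverse ++ 3 :: uWord s) b) acc =
          l.foldl (fun acc b => 4096 * acc + TH.run ((uWord t).reverse ++ 3 :: uWord t) b) acc := by
      intro l
      induction l with
      | nil => intro _ _; rfl
      | cons b l ih =>
        intro hlt acc
        have hb := hlt b (List.mem_cons_self ..)
        rw [List.foldl_cons, List.foldl_cons, hr s hs b hb ⟨b, hb⟩ rfl, hr t ht b hb ⟨b, hb⟩ rfl, he]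
        exact ih (fun x hx => hlt x (List.mem_cons_of_mem _ hx)) _
    exact hl _ hbase 0
  rcases lt_trichotomy s t with h | h | h
  · exact absurd hk (ne_of_lt (key_mono h ht))
  · exact h
  · exact absurd hk.symm (ne_of_lt (key_mono h hs))

theorem card_CZ : Nat.card CZ ≤ 21504 := by
  classical
  haveI : Finite (Pres.Grp PH) := CosetCertHeSimple.upper.1
  obtain ⟨φ, hφ0, hφ⟩ := exists_coset_equiv CosetCertHeH.enumerated
  set p0 : Fin TH.N := ⟨0, CosetCertHeH.enumerated.table.npos⟩ with hp0
  have hsurj : ∀ i : Fin TH.N, ∃ g : Pres.Grp PH, rho CosetCertHeH.enumerated g p0 = i := by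
    intro i
    induction hi : φ i using QuotientGroup.induction_on with | H a => ?_
    refine ⟨a, φ.injective ?_⟩
    rw [hφ, hφ0, hi]
    show ((a * 1 : Pres.Grp PH) : Pres.Grp PH ⧸ PH.sub CosetCertHeHData.subgens) = _
    rw [mul_one]
  choose g hg using hsurj
  have hcls : ∀ d : conjugatesOf z, ∃ k : Pres.Grp PH, k * z * k⁻¹ = (d : Pres.Grp PH) := by
    rintro ⟨d, hd⟩
    rw [conjugates_eq] at hd
    exact hd
  choose c hc using hcls
  have hmem : ∀ (i : Fin TH.N) (t : Fin 3825), g i * conj t * (g i)⁻¹ ∈ conjugatesOf z := by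
    intro i t
    rw [conjugates_eq]
    exact ⟨g i * (val PH.gg (uWord t))⁻¹, by simp [conj, mul_assoc]⟩
  let f : Fin TH.N × Fin 3825 →
      conjugatesOf z × {i : Fin TH.N // rho CosetCertHeH.enumerated z i = i} := fun p =>
    (⟨_, hmem p.1 p.2⟩, ⟨rho CosetCertHeH.enumerated (c ⟨_, hmem p.1 p.2⟩)⁻¹ p.1, by
      have h : c ⟨_, hmem p.1 p.2⟩ * z * (c ⟨_, hmem p.1 p.2⟩)⁻¹ = g p.1 * conj p.2 * (g p.1)⁻¹ :=
        hc ⟨_, hmem p.1 p.2⟩
      have hz : z * (c ⟨_, hmem p.1 p.2⟩)⁻¹ =
          (c ⟨_, hmem p.1 p.2⟩)⁻¹ * (g p.1 * conj p.2 * (g p.1)⁻¹) := by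
        have aux : ∀ k d : Pres.Grp PH, k * z * k⁻¹ = d → z * k⁻¹ = k⁻¹ * d := fun k d e => by
          rw [← e]; group
        exact aux _ _ h
      have hd : rho CosetCertHeH.enumerated (g p.1 * conj p.2 * (g p.1)⁻¹) p.1 = p.1 := by
        have hg1 : rho CosetCertHeH.enumerated (g p.1)⁻¹ p.1 = p0 := by
          rw [map_inv, Equiv.Perm.inv_eq_iff_eq]; exact (hg p.1).symm
        have hfix : rho CosetCertHeH.enumerated (conj p.2) p0 = p0 := (conj_facts p.2 p.2.2).1
        rw [map_mul, Equiv.Perm.mul_apply, hg1, map_mul, Equiv.Perm.mul_apply, hfix, hg]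
      rw [← Equiv.Perm.mul_apply, ← map_mul, hz, map_mul, Equiv.Perm.mul_apply, hd]⟩)
  have hf : Function.Injective f := by
    rintro ⟨i, t⟩ ⟨i', t'⟩ h
    simp only [f, Prod.mk.injEq, Subtype.mk.injEq] at h
    obtain ⟨h1, h2⟩ := h
    have hcc : c ⟨_, hmem i t⟩ = c ⟨_, hmem i' t'⟩ := congrArg c (Subtype.ext h1)
    rw [hcc] at h2
    obtain rfl : i = i' := (Equiv.injective _) h2
    rw [mul_left_inj, mul_right_inj] at h1
    exact Prod.ext rfl (Fin.ext (conj_inj t.2 t'.2 h1))
  have h1 := Nat.card_le_card_of_injective f hf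
  rw [Nat.card_prod, Nat.card_prod, Nat.card_fin, Nat.card_fin, card_conjugates rfl] at h1
  have h2 : CZ.index * Nat.card {i : Fin TH.N // rho CosetCertHeH.enumerated z i = i} ≤ CZ.index * 42 :=
    Nat.mul_le_mul_left _ card_fix
  have h3 := Subgroup.index_mul_card CZ
  rw [CosetCertHeSimple.card_and_faithful.1] at h3
  have h1' : 2058 * 3825 ≤
      CZ.index * Nat.card {i : Fin TH.N // rho CosetCertHeH.enumerated z i = i} := h1
  have h4 : 187425 ≤ CZ.index := by omega
  have h5 : 187425 * Nat.card CZ ≤ 4030387200 := (Nat.mul_le_mul_right _ h4).trans h3.le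
  omega

/-! ### The action on marked pairs of vectors -/

/-- The vector of a code. -/
def vec (a : Nat) : Fin 5 → ZMod 2 :=
  ![((a % 2 : Nat) : ZMod 2), 1, ((a / 2 % 2 : Nat) : ZMod 2), ((a / 4 % 2 : Nat) : ZMod 2),
    ((a / 8 % 2 : Nat) : ZMod 2)]

theorem vec_inj : ∀ a < 16, ∀ b < 16, vec a = vec b → a = b := by decide +kernel

theorem vec_surj : ∀ u : Fin 5 → ZMod 2, u 1 = 1 → ∃ a < 16, vec a = u := by decide +kernel

theorem tp_ok : ∀ n < 13, ((tp n).1 < 5 ∧ (tp n).1 ≠ 1 ∧ (tp n).2 < 5 ∧ (tp n).2 ≠ (tp n).1) := by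
  decide +kernel

/-- Transvection number `n`. -/
def tn (n : Nat) (hn : n < 13) : SL5 :=
  tEl ⟨(tp n).1, (tp_ok n hn).1⟩ ⟨(tp n).2, (tp_ok n hn).2.2.1⟩
    (fun h => (tp_ok n hn).2.2.2 (congrArg Fin.val h).symm) 1

theorem tn_vec : ∀ n (hn : n < 13), ∀ a < 16,
    sig n a < 16 ∧ sig n (sig n a) = a ∧ (tn n hn).1 *ᵥ vec a = vec (sig n a) := by
  decide +kernel

theorem tn_mem : ∀ n (hn : n < 13), (tn n hn).1 * Matrix.transvection 0 1 (1 : ZMod 2) =
    Matrix.transvection 0 1 1 * (tn n hn).1 := by
  decide +kernel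

theorem pairs_all : ∀ i j : Fin 5, i ≠ j → (i = 0 ∧ j ≠ 0) ∨ (2 ≤ i.1 ∧ j ≠ 0) →
    ∃ n < 13, tp n = (i.1, j.1) := by
  decide +kernel

theorem testBit_mask (l : List Nat) (c : Nat) : Nat.testBit (mask l) c = true ↔ c ∈ l := by
  induction l with
  | nil => simp [mask]
  | cons x l ih =>
    have : mask (x :: l) = mask l ||| Nat.shiftLeft 1 x := rfl
    rw [this, Nat.testBit_or, Bool.or_eq_true, ih, List.mem_cons, show Nat.shiftLeft 1 x = 2 ^ x from
      Nat.one_shiftLeft x, Nat.testBit_two_pow]
    simp [or_comm, eq_comm]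

theorem members_lt (i c : Nat) (h : c ∈ members i) : c < 512 := by
  simp only [members, force_eq, List.mem_map] at h
  obtain ⟨k, -, rfl⟩ := h
  exact Nat.lt_succ_of_le Nat.and_le_right

/-- A marked pair at a point. -/
def Mark (p : Fin TH.N) (j : Nat) (u w : Fin 5 → ZMod 2) : Prop :=
  ∃ a < 16, ∃ b < 16, vec a = u ∧ vec b = w ∧ 256 * j + 16 * a + b ∈ members p

/-- Pairs acting alike on the marks. -/
def R : Subgroup (CZ × CS) where
  carrier := {q | ∀ p j u w, Mark (rho CosetCertHeH.enumerated (q.1 : Pres.Grp PH) p) j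
    ((q.2 : SL5).1 *ᵥ u) ((q.2 : SL5).1 *ᵥ w) ↔ Mark p j u w}
  one_mem' := fun p j u w => by simp
  mul_mem' := by
    intro q q' hq hq' p j u w
    have h := hq (rho CosetCertHeH.enumerated (q'.1 : Pres.Grp PH) p) j ((q'.2 : SL5).1 *ᵥ u)
      ((q'.2 : SL5).1 *ᵥ w)
    simp only [Prod.fst_mul, Prod.snd_mul, Subgroup.coe_mul, map_mul, Equiv.Perm.mul_apply,
      Matrix.SpecialLinearGroup.coe_mul, ← Matrix.mulVec_mulVec]
    exact h.trans (hq' p j u w)
  inv_mem' := by
    intro q hq p j u w
    have h := hq (rho CosetCertHeH.enumerated ((q.1 : Pres.Grp PH))⁻¹ p) j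
      (((q.2 : SL5)⁻¹ : SL5).1 *ᵥ u) (((q.2 : SL5)⁻¹ : SL5).1 *ᵥ w)
    rw [Matrix.mulVec_mulVec, Matrix.mulVec_mulVec, ← Matrix.SpecialLinearGroup.coe_mul, mul_inv_cancel,
      Matrix.SpecialLinearGroup.coe_one, Matrix.one_mulVec, Matrix.one_mulVec, ← Equiv.Perm.mul_apply,
      ← map_mul, mul_inv_cancel, map_one, Equiv.Perm.one_apply] at h
    simp only [Prod.fst_inv, Prod.snd_inv, Subgroup.coe_inv]
    exact h.symm

theorem tn_CS (n : Nat) (hn : n < 13) : tn n hn ∈ CS := (mem_CS_iff _).mpr (tn_mem n hn)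

theorem gen_mem_R (n : Nat) (hn : n < 13) :
    ((⟨(val PH.gg (tword n))⁻¹, inv_mem (tword_mem n)⟩ : CZ), (⟨tn n hn, tn_CS n hn⟩ : CS)) ∈ R := by
  intro p j u w
  have hp := (allFrom_iff _ _ _).mp (equiv4 p p.2) n (Nat.zero_le _) (by omega)
  simp only [Nat.beq_eq] at hp
  have hpt : ((rho CosetCertHeH.enumerated (val PH.gg (tword n))⁻¹ p : Fin TH.N) : Nat) =
      TH.run (tword n) p := by
    rw [map_inv]
    exact rho_val_apply CosetCertHeH.enumerated (tword_letters n hn) p
  have hiff : ∀ c, (c ∈ members (TH.run (tword n) p) ↔ c ∈ (members p).map (sigCode n)) := fun c => by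
    rw [← testBit_mask, hp, testBit_mask]
  have hcode : ∀ j a b, a < 16 → b < 16 →
      sigCode n (256 * j + 16 * a + b) = 256 * j + 16 * sig n a + sig n b := by
    intro j a b ha hb
    rw [sigCode, show (256 * j + 16 * a + b) / 256 = j by omega,
      show (256 * j + 16 * a + b) / 16 % 16 = a by omega, show (256 * j + 16 * a + b) % 16 = b by omega]
  constructor
  · rintro ⟨a, ha, b, hb, hau, hbw, hm⟩
    rw [hpt, hiff, List.mem_map] at hm
    obtain ⟨c, hc, hce⟩ := hm
    have hc512 := members_lt _ _ hc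
    obtain ⟨j', a', b', ha', hb', rfl⟩ : ∃ j' a' b', a' < 16 ∧ b' < 16 ∧ c = 256 * j' + 16 * a' + b' :=
      ⟨c / 256, c / 16 % 16, c % 16, by omega, by omega, by omega⟩
    rw [hcode _ _ _ ha' hb'] at hce
    obtain ⟨sa, sa2, ea⟩ := tn_vec n hn a' ha'
    obtain ⟨sb, sb2, eb⟩ := tn_vec n hn b' hb'
    obtain ⟨rfl, rfl, rfl⟩ : j' = j ∧ a = sig n a' ∧ b = sig n b' := by omega
    refine ⟨a', ha', b', hb', ?_, ?_, hc⟩
    · apply Matrix.mulVec_injective_iff_isUnit.mpr
        ((Matrix.isUnit_iff_isUnit_det _).mpr (by rw [(tn n hn).2]; exact isUnit_one))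
      exact ea.trans hau
    · apply Matrix.mulVec_injective_iff_isUnit.mpr
        ((Matrix.isUnit_iff_isUnit_det _).mpr (by rw [(tn n hn).2]; exact isUnit_one))
      exact eb.trans hbw
  · rintro ⟨a, ha, b, hb, rfl, rfl, hm⟩
    obtain ⟨sa, -, ea⟩ := tn_vec n hn a ha
    obtain ⟨sb, -, eb⟩ := tn_vec n hn b hb
    refine ⟨sig n a, sa, sig n b, sb, ea.symm, eb.symm, ?_⟩
    rw [hpt, hiff, List.mem_map]
    exact ⟨_, hm, hcode _ _ _ ha hb⟩

/-- Projection to the centraliser in He. -/
def fstR : R →* CZ := (MonoidHom.fst CZ CS).comp R.subtype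
/-- Projection to the centraliser of the transvection. -/
def sndR : R →* CS := (MonoidHom.snd CZ CS).comp R.subtype

theorem sndR_surj : Function.Surjective sndR := by
  intro g
  have hle := le_of_transvections (R.map ((CS.subtype).comp (MonoidHom.snd CZ CS))) (fun i j h hij => by
    obtain ⟨n, hn, hp⟩ := pairs_all i j h hij
    refine ⟨_, gen_mem_R n hn, Subtype.ext ?_⟩
    show Matrix.transvection _ _ (1 : ZMod 2) = Matrix.transvection i j 1
    congr 1 <;> exact Fin.ext (by simp [hp]))
  obtain ⟨q, hq, e⟩ := hle g.2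
  exact ⟨⟨q, hq⟩, Subtype.ext e⟩

theorem fstR_inj : Function.Injective fstR := by
  rw [injective_iff_map_eq_one]
  rintro ⟨⟨k, g⟩, hp⟩ hk
  have hk : k = 1 := hk
  subst hk
  have hg : (g : SL5) ∈ CS := g.2
  obtain ⟨ga, gu, gv, gA, hform, -⟩ := exists_form _ hg
  have h1 : ∀ u : Fin 5 → ZMod 2, ((g : SL5).1 *ᵥ u) 1 = u 1 := fun u => by
    rw [hform]
    simp [form, Matrix.mulVec, dotProduct, Fin.sum_univ_five]
  have hfix : ∀ a < 16, (g : SL5).1 *ᵥ vec a = vec a := by
    intro a ha
    have h := sep_ok a ha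
    simp only [sepOk, Bool.and_eq_true, Nat.blt_eq] at h
    set b := (CosetCertHeInvData.wit.getD a (0, [])).1
    obtain ⟨hb, hall⟩ := h
    obtain ⟨a', ha', ea⟩ := vec_surj _ ((h1 (vec a)).trans rfl)
    obtain ⟨b', hb', eb⟩ := vec_surj _ ((h1 (vec b)).trans rfl)
    by_contra hne
    have hy : 16 * a' + b' ≠ 16 * a + b := fun he => hne (by
      rw [show a = a' by omega] at ea ⊢
      exact ea.symm)
    have h := (allFrom_iff _ _ _).mp hall (16 * a' + b') (Nat.zero_le _) (by omega)
    have hyb : Nat.beq (16 * a' + b') (16 * a + b) = false := by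
      rw [← Bool.not_eq_true, Nat.beq_eq]; exact hy
    simp only [hyb, Bool.false_or, List.any_eq_true, Bool.and_eq_true, Nat.blt_eq, Bool.not_eq_true',
      decide_eq_false_iff_not] at h
    obtain ⟨q, -, hq, hne'⟩ := h
    have hN : q % 2058 < TH.N := Nat.mod_lt _ (by norm_num)
    have hiff := hp ⟨q % 2058, hN⟩ (q / 2058) (vec a) (vec b)
    simp only [OneMemClass.coe_one, map_one, Equiv.Perm.one_apply] at hiff
    rw [← ea, ← eb] at hiff
    have hM : ∀ x y, x < 16 → y < 16 → (Mark ⟨q % 2058, hN⟩ (q / 2058) (vec x) (vec y) ↔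
        Nat.testBit (mask (members (q % 2058))) (256 * (q / 2058) + (16 * x + y)) = true) := by
      intro x y hx hy'
      rw [testBit_mask]
      constructor
      · rintro ⟨x', hx', y', hy'', ex, ey, hm⟩
        rw [vec_inj x' hx' x hx ex, vec_inj y' hy'' y hy' ey] at hm
        rwa [← Nat.add_assoc]
      · intro hm
        exact ⟨x, hx, y, hy', rfl, rfl, by rwa [Nat.add_assoc]⟩
    rw [hM a' b' ha' hb', hM a b ha hb] at hiff
    exact hne' (Bool.eq_iff_iff.mpr hiff)
  have hcol : ∀ u : Fin 5 → ZMod 2, (g : SL5).1 *ᵥ u = u := by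
    intro u
    by_cases hu : u 1 = 1
    · obtain ⟨a, ha, rfl⟩ := vec_surj u hu
      exact hfix a ha
    · have hu0 : u 1 = 0 := (zmod_cases _).resolve_right hu
      have h0 : (vec 0) 1 = 1 := rfl
      obtain ⟨a, ha, ea⟩ := vec_surj (u + vec 0) (by rw [Pi.add_apply, hu0, h0, zero_add])
      have h := hfix a ha
      rw [ea, Matrix.mulVec_add, hfix 0 (by norm_num)] at h
      exact add_right_cancel h
  refine Subtype.ext (Prod.ext rfl (Subtype.ext (Subtype.ext ?_)))
  refine Matrix.mulVec_injective (funext fun u => ?_)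
  rw [hcol]
  exact (Matrix.one_mulVec u).symm

/-- The centraliser is isomorphic to the centraliser of the transvection. -/
theorem equiv_centralizer : Nonempty (CZ ≃* CS) := by
  haveI : Finite (Pres.Grp PH) := CosetCertHeSimple.upper.1
  haveI : Finite R := Finite.of_injective _ fstR_inj
  have h1 := Nat.card_le_card_of_injective _ fstR_inj
  have h2 := Nat.card_le_card_of_surjective _ sndR_surj
  have hbij1 : Function.Bijective fstR := by
    rw [Nat.bijective_iff_injective_and_card]
    exact ⟨fstR_inj, le_antisymm h1 (card_CZ.trans (card_CS.trans h2))⟩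
  have hbij2 : Function.Bijective sndR := by
    rw [Nat.bijective_iff_surjective_and_card]
    exact ⟨sndR_surj, le_antisymm ((h1.trans card_CZ).trans card_CS) h2⟩
  exact ⟨(MulEquiv.ofBijective _ hbij1).symm.trans (MulEquiv.ofBijective _ hbij2)⟩

end Cfsg.Agent.CosetCertHeInv
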