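import Cfsg.Agent.Lib.CosetCertMcLAmal21Data

/-! Cosets of the involution centraliser in an amalgam of the McLaughlin group. -/

set_option autoImplicit false
set_option maxRecDepth 100000
set_option Elab.async false

namespace Cfsg.Agent.CosetCertMcLAmal21P2

open Cfsg.Agent.CosetCertCore Cfsg.Agent.CosetCertTable Cfsg.Agent.CosetCertOrder
open Cfsg.Agent.CosetCertMcLAmal21Data

theorem points125c : allFrom (pointOk cert 100213 table) 128 15872 = true := by decide +kernel

theorem points126c : allFrom (pointOk cert 100213 table) 128 16000 = true := by decide +kernel

theorem points127c : allFrom (pointOk cert 100213 table) 128 16128 = true := by decide +kernel

theorem points128c : allFrom (pointOk cert 100213 table) 128 16256 = true := by decide +kernel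

theorem points129c : allFrom (pointOk cert 100213 table) 128 16384 = true := by decide +kernel

theorem points130c : allFrom (pointOk cert 100213 table) 128 16512 = true := by decide +kernel

theorem points131c : allFrom (pointOk cert 100213 table) 128 16640 = true := by decide +kernel

theorem points132c : allFrom (pointOk cert 100213 table) 128 16768 = true := by decide +kernel

theorem points133c : allFrom (pointOk cert 100213 table) 128 16896 = true := by decide +kernel

theorem points134c : allFrom (pointOk cert 100213 table) 128 17024 = true := by decide +kernel

theorem points135c : allFrom (pointOk cert 100213 table) 128 17152 = true := by decide +kernel

theorem points136c : allFrom (pointOk cert 100213 table) 128 17280 = true := by decide +kernel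

theorem points137c : allFrom (pointOk cert 100213 table) 128 17408 = true := by decide +kernel

theorem points138c : allFrom (pointOk cert 100213 table) 128 17536 = true := by decide +kernel

theorem points139c : allFrom (pointOk cert 100213 table) 128 17664 = true := by decide +kernel

theorem points140c : allFrom (pointOk cert 100213 table) 128 17792 = true := by decide +kernel

theorem points141c : allFrom (pointOk cert 100213 table) 128 17920 = true := by decide +kernel

theorem points142c : allFrom (pointOk cert 100213 table) 128 18048 = true := by decide +kernel

theorem points143c : allFrom (pointOk cert 100213 table) 128 18176 = true := by decide +kernel

theorem points144c : allFrom (pointOk cert 100213 table) 128 18304 = true := by decide +kernel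

theorem points145c : allFrom (pointOk cert 100213 table) 128 18432 = true := by decide +kernel

theorem points146c : allFrom (pointOk cert 100213 table) 128 18560 = true := by decide +kernel

theorem points147c : allFrom (pointOk cert 100213 table) 128 18688 = true := by decide +kernel

theorem points148c : allFrom (pointOk cert 100213 table) 128 18816 = true := by decide +kernel

theorem points149c : allFrom (pointOk cert 100213 table) 128 18944 = true := by decide +kernel

theorem points150c : allFrom (pointOk cert 100213 table) 128 19072 = true := by decide +kernel

theorem points151c : allFrom (pointOk cert 100213 table) 128 19200 = true := by decide +kernel

theorem points152c : allFrom (pointOk cert 100213 table) 128 19328 = true := by decide +kernel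

theorem points153c : allFrom (pointOk cert 100213 table) 128 19456 = true := by decide +kernel

theorem points154c : allFrom (pointOk cert 100213 table) 128 19584 = true := by decide +kernel

theorem points155c : allFrom (pointOk cert 100213 table) 128 19712 = true := by decide +kernel

theorem points156c : allFrom (pointOk cert 100213 table) 128 19840 = true := by decide +kernel

theorem points157c : allFrom (pointOk cert 100213 table) 128 19968 = true := by decide +kernel

theorem points158c : allFrom (pointOk cert 100213 table) 128 20096 = true := by decide +kernel

theorem points159c : allFrom (pointOk cert 100213 table) 128 20224 = true := by decide +kernel

theorem points160c : allFrom (pointOk cert 100213 table) 128 20352 = true := by decide +kernel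

theorem points161c : allFrom (pointOk cert 100213 table) 128 20480 = true := by decide +kernel

theorem points162c : allFrom (pointOk cert 100213 table) 128 20608 = true := by decide +kernel

theorem points163c : allFrom (pointOk cert 100213 table) 128 20736 = true := by decide +kernel

theorem points164c : allFrom (pointOk cert 100213 table) 128 20864 = true := by decide +kernel

theorem points165c : allFrom (pointOk cert 100213 table) 128 20992 = true := by decide +kernel

theorem points166c : allFrom (pointOk cert 100213 table) 128 21120 = true := by decide +kernel

theorem points167c : allFrom (pointOk cert 100213 table) 128 21248 = true := by decide +kernel

theorem points168c : allFrom (pointOk cert 100213 table) 128 21376 = true := by decide +kernel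

theorem points169c : allFrom (pointOk cert 100213 table) 128 21504 = true := by decide +kernel

theorem points170c : allFrom (pointOk cert 100213 table) 128 21632 = true := by decide +kernel

theorem points171c : allFrom (pointOk cert 100213 table) 128 21760 = true := by decide +kernel

theorem points172c : allFrom (pointOk cert 100213 table) 128 21888 = true := by decide +kernel

theorem points173c : allFrom (pointOk cert 100213 table) 128 22016 = true := by decide +kernel

theorem points174c : allFrom (pointOk cert 100213 table) 128 22144 = true := by decide +kernel

theorem points175c : allFrom (pointOk cert 100213 table) 3 22272 = true := by decide +kernel

end Cfsg.Agent.CosetCertMcLAmal21P2
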