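import Cfsg.Agent.Lib.CosetCertMcLAmal21C0
import Cfsg.Agent.Lib.CosetCertMcLAmal21C1
import Cfsg.Agent.Lib.CosetCertMcLAmal21C2
import Cfsg.Agent.Lib.CosetCertMcLAmal21C3
import Cfsg.Agent.Lib.CosetCertMcLAmal21C4
import Cfsg.Agent.Lib.CosetCertMcLAmal21C5
import Cfsg.Agent.Lib.CosetCertMcLAmal21P0
import Cfsg.Agent.Lib.CosetCertMcLAmal21P1
import Cfsg.Agent.Lib.CosetCertMcLAmal21P2

/-! Cosets of the involution centraliser in an amalgam of the McLaughlin group. -/

set_option autoImplicit false
set_option maxRecDepth 100000

namespace Cfsg.Agent.CosetCertMcLAmal21

open Cfsg.Agent.CosetCertCore Cfsg.Agent.CosetCertTable Cfsg.Agent.CosetCertOrder Cfsg.Agent.CosetCertMcLAmal21Data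

/-- The facts hold up to `n`. -/
def Valid (n : Nat) : Prop :=
  ∀ {G X : Type} [Group G] [MulAction G X] (g : Nat → G) (base : X),
    Ctx g base cert → AllValid g (nodeVal g base cert) cert n

theorem Valid.step {lo n : Nat} (h : Valid lo) (L : List Nat)
    (hn : (Nat.beq (lo + L.length) n && checkList cert L lo) = true) : Valid n := by
  rw [Bool.and_eq_true, Nat.beq_eq] at hn
  intro G X _ _ g base hC
  exact hn.1 ▸ checkList_sound g base hC L lo (h g base hC) hn.2

theorem valid0 : Valid 0 := fun _ _ _ _ h => absurd h (Nat.not_lt_zero _)

theorem valid1 : Valid 256 := valid0.step CosetCertMcLAmal21C0.just0 CosetCertMcLAmal21C0.check0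

theorem valid2 : Valid 512 := valid1.step CosetCertMcLAmal21C0.just1 CosetCertMcLAmal21C0.check1

theorem valid3 : Valid 768 := valid2.step CosetCertMcLAmal21C0.just2 CosetCertMcLAmal21C0.check2

theorem valid4 : Valid 1024 := valid3.step CosetCertMcLAmal21C0.just3 CosetCertMcLAmal21C0.check3

theorem valid5 : Valid 1280 := valid4.step CosetCertMcLAmal21C0.just4 CosetCertMcLAmal21C0.check4

theorem valid6 : Valid 1536 := valid5.step CosetCertMcLAmal21C0.just5 CosetCertMcLAmal21C0.check5

theorem valid7 : Valid 1792 := valid6.step CosetCertMcLAmal21C0.just6 CosetCertMcLAmal21C0.check6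

theorem valid8 : Valid 2048 := valid7.step CosetCertMcLAmal21C0.just7 CosetCertMcLAmal21C0.check7

theorem valid9 : Valid 2304 := valid8.step CosetCertMcLAmal21C0.just8 CosetCertMcLAmal21C0.check8

theorem valid10 : Valid 2560 := valid9.step CosetCertMcLAmal21C0.just9 CosetCertMcLAmal21C0.check9

theorem valid11 : Valid 2816 := valid10.step CosetCertMcLAmal21C0.just10 CosetCertMcLAmal21C0.check10

theorem valid12 : Valid 3072 := valid11.step CosetCertMcLAmal21C0.just11 CosetCertMcLAmal21C0.check11

theorem valid13 : Valid 3328 := valid12.step CosetCertMcLAmal21C0.just12 CosetCertMcLAmal21C0.check12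

theorem valid14 : Valid 3584 := valid13.step CosetCertMcLAmal21C0.just13 CosetCertMcLAmal21C0.check13

theorem valid15 : Valid 3840 := valid14.step CosetCertMcLAmal21C0.just14 CosetCertMcLAmal21C0.check14

theorem valid16 : Valid 4096 := valid15.step CosetCertMcLAmal21C0.just15 CosetCertMcLAmal21C0.check15

theorem valid17 : Valid 4352 := valid16.step CosetCertMcLAmal21C0.just16 CosetCertMcLAmal21C0.check16

theorem valid18 : Valid 4608 := valid17.step CosetCertMcLAmal21C0.just17 CosetCertMcLAmal21C0.check17

theorem valid19 : Valid 4864 := valid18.step CosetCertMcLAmal21C0.just18 CosetCertMcLAmal21C0.check18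

theorem valid20 : Valid 5120 := valid19.step CosetCertMcLAmal21C0.just19 CosetCertMcLAmal21C0.check19

theorem valid21 : Valid 5376 := valid20.step CosetCertMcLAmal21C0.just20 CosetCertMcLAmal21C0.check20

theorem valid22 : Valid 5632 := valid21.step CosetCertMcLAmal21C0.just21 CosetCertMcLAmal21C0.check21

theorem valid23 : Valid 5888 := valid22.step CosetCertMcLAmal21C0.just22 CosetCertMcLAmal21C0.check22

theorem valid24 : Valid 6144 := valid23.step CosetCertMcLAmal21C0.just23 CosetCertMcLAmal21C0.check23

theorem valid25 : Valid 6400 := valid24.step CosetCertMcLAmal21C0.just24 CosetCertMcLAmal21C0.check24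

theorem valid26 : Valid 6656 := valid25.step CosetCertMcLAmal21C0.just25 CosetCertMcLAmal21C0.check25

theorem valid27 : Valid 6912 := valid26.step CosetCertMcLAmal21C0.just26 CosetCertMcLAmal21C0.check26

theorem valid28 : Valid 7168 := valid27.step CosetCertMcLAmal21C0.just27 CosetCertMcLAmal21C0.check27

theorem valid29 : Valid 7424 := valid28.step CosetCertMcLAmal21C0.just28 CosetCertMcLAmal21C0.check28

theorem valid30 : Valid 7680 := valid29.step CosetCertMcLAmal21C0.just29 CosetCertMcLAmal21C0.check29

theorem valid31 : Valid 7936 := valid30.step CosetCertMcLAmal21C0.just30 CosetCertMcLAmal21C0.check30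

theorem valid32 : Valid 8192 := valid31.step CosetCertMcLAmal21C0.just31 CosetCertMcLAmal21C0.check31

theorem valid33 : Valid 8448 := valid32.step CosetCertMcLAmal21C0.just32 CosetCertMcLAmal21C0.check32

theorem valid34 : Valid 8704 := valid33.step CosetCertMcLAmal21C0.just33 CosetCertMcLAmal21C0.check33

theorem valid35 : Valid 8960 := valid34.step CosetCertMcLAmal21C0.just34 CosetCertMcLAmal21C0.check34

theorem valid36 : Valid 9216 := valid35.step CosetCertMcLAmal21C0.just35 CosetCertMcLAmal21C0.check35

theorem valid37 : Valid 9472 := valid36.step CosetCertMcLAmal21C0.just36 CosetCertMcLAmal21C0.check36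

theorem valid38 : Valid 9728 := valid37.step CosetCertMcLAmal21C0.just37 CosetCertMcLAmal21C0.check37

theorem valid39 : Valid 9984 := valid38.step CosetCertMcLAmal21C0.just38 CosetCertMcLAmal21C0.check38

theorem valid40 : Valid 10240 := valid39.step CosetCertMcLAmal21C0.just39 CosetCertMcLAmal21C0.check39

theorem valid41 : Valid 10496 := valid40.step CosetCertMcLAmal21C0.just40 CosetCertMcLAmal21C0.check40

theorem valid42 : Valid 10752 := valid41.step CosetCertMcLAmal21C0.just41 CosetCertMcLAmal21C0.check41

theorem valid43 : Valid 11008 := valid42.step CosetCertMcLAmal21C0.just42 CosetCertMcLAmal21C0.check42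

theorem valid44 : Valid 11264 := valid43.step CosetCertMcLAmal21C0.just43 CosetCertMcLAmal21C0.check43

theorem valid45 : Valid 11520 := valid44.step CosetCertMcLAmal21C0.just44 CosetCertMcLAmal21C0.check44

theorem valid46 : Valid 11776 := valid45.step CosetCertMcLAmal21C0.just45 CosetCertMcLAmal21C0.check45

theorem valid47 : Valid 12032 := valid46.step CosetCertMcLAmal21C0.just46 CosetCertMcLAmal21C0.check46

theorem valid48 : Valid 12288 := valid47.step CosetCertMcLAmal21C0.just47 CosetCertMcLAmal21C0.check47

theorem valid49 : Valid 12544 := valid48.step CosetCertMcLAmal21C0.just48 CosetCertMcLAmal21C0.check48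

theorem valid50 : Valid 12800 := valid49.step CosetCertMcLAmal21C0.just49 CosetCertMcLAmal21C0.check49

theorem valid51 : Valid 13056 := valid50.step CosetCertMcLAmal21C0.just50 CosetCertMcLAmal21C0.check50

theorem valid52 : Valid 13312 := valid51.step CosetCertMcLAmal21C0.just51 CosetCertMcLAmal21C0.check51

theorem valid53 : Valid 13568 := valid52.step CosetCertMcLAmal21C0.just52 CosetCertMcLAmal21C0.check52

theorem valid54 : Valid 13824 := valid53.step CosetCertMcLAmal21C0.just53 CosetCertMcLAmal21C0.check53

theorem valid55 : Valid 14080 := valid54.step CosetCertMcLAmal21C0.just54 CosetCertMcLAmal21C0.check54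

theorem valid56 : Valid 14336 := valid55.step CosetCertMcLAmal21C0.just55 CosetCertMcLAmal21C0.check55

theorem valid57 : Valid 14592 := valid56.step CosetCertMcLAmal21C0.just56 CosetCertMcLAmal21C0.check56

theorem valid58 : Valid 14848 := valid57.step CosetCertMcLAmal21C0.just57 CosetCertMcLAmal21C0.check57

theorem valid59 : Valid 15104 := valid58.step CosetCertMcLAmal21C0.just58 CosetCertMcLAmal21C0.check58

theorem valid60 : Valid 15360 := valid59.step CosetCertMcLAmal21C0.just59 CosetCertMcLAmal21C0.check59

theorem valid61 : Valid 15616 := valid60.step CosetCertMcLAmal21C0.just60 CosetCertMcLAmal21C0.check60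

theorem valid62 : Valid 15872 := valid61.step CosetCertMcLAmal21C0.just61 CosetCertMcLAmal21C0.check61

theorem valid63 : Valid 16128 := valid62.step CosetCertMcLAmal21C0.just62 CosetCertMcLAmal21C0.check62

theorem valid64 : Valid 16384 := valid63.step CosetCertMcLAmal21C0.just63 CosetCertMcLAmal21C0.check63

theorem valid65 : Valid 16640 := valid64.step CosetCertMcLAmal21C0.just64 CosetCertMcLAmal21C0.check64

theorem valid66 : Valid 16896 := valid65.step CosetCertMcLAmal21C0.just65 CosetCertMcLAmal21C0.check65

theorem valid67 : Valid 17152 := valid66.step CosetCertMcLAmal21C0.just66 CosetCertMcLAmal21C0.check66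

theorem valid68 : Valid 17408 := valid67.step CosetCertMcLAmal21C0.just67 CosetCertMcLAmal21C0.check67

theorem valid69 : Valid 17664 := valid68.step CosetCertMcLAmal21C0.just68 CosetCertMcLAmal21C0.check68

theorem valid70 : Valid 17920 := valid69.step CosetCertMcLAmal21C0.just69 CosetCertMcLAmal21C0.check69

theorem valid71 : Valid 18176 := valid70.step CosetCertMcLAmal21C0.just70 CosetCertMcLAmal21C0.check70

theorem valid72 : Valid 18432 := valid71.step CosetCertMcLAmal21C0.just71 CosetCertMcLAmal21C0.check71

theorem valid73 : Valid 18688 := valid72.step CosetCertMcLAmal21C0.just72 CosetCertMcLAmal21C0.check72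

theorem valid74 : Valid 18944 := valid73.step CosetCertMcLAmal21C0.just73 CosetCertMcLAmal21C0.check73

theorem valid75 : Valid 19200 := valid74.step CosetCertMcLAmal21C0.just74 CosetCertMcLAmal21C0.check74

theorem valid76 : Valid 19456 := valid75.step CosetCertMcLAmal21C0.just75 CosetCertMcLAmal21C0.check75

theorem valid77 : Valid 19712 := valid76.step CosetCertMcLAmal21C0.just76 CosetCertMcLAmal21C0.check76

theorem valid78 : Valid 19968 := valid77.step CosetCertMcLAmal21C0.just77 CosetCertMcLAmal21C0.check77

theorem valid79 : Valid 20224 := valid78.step CosetCertMcLAmal21C1.just78 CosetCertMcLAmal21C1.check78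

theorem valid80 : Valid 20480 := valid79.step CosetCertMcLAmal21C1.just79 CosetCertMcLAmal21C1.check79

theorem valid81 : Valid 20736 := valid80.step CosetCertMcLAmal21C1.just80 CosetCertMcLAmal21C1.check80

theorem valid82 : Valid 20992 := valid81.step CosetCertMcLAmal21C1.just81 CosetCertMcLAmal21C1.check81

theorem valid83 : Valid 21248 := valid82.step CosetCertMcLAmal21C1.just82 CosetCertMcLAmal21C1.check82

theorem valid84 : Valid 21504 := valid83.step CosetCertMcLAmal21C1.just83 CosetCertMcLAmal21C1.check83

theorem valid85 : Valid 21760 := valid84.step CosetCertMcLAmal21C1.just84 CosetCertMcLAmal21C1.check84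

theorem valid86 : Valid 22016 := valid85.step CosetCertMcLAmal21C1.just85 CosetCertMcLAmal21C1.check85

theorem valid87 : Valid 22272 := valid86.step CosetCertMcLAmal21C1.just86 CosetCertMcLAmal21C1.check86

theorem valid88 : Valid 22528 := valid87.step CosetCertMcLAmal21C1.just87 CosetCertMcLAmal21C1.check87

theorem valid89 : Valid 22784 := valid88.step CosetCertMcLAmal21C1.just88 CosetCertMcLAmal21C1.check88

theorem valid90 : Valid 23040 := valid89.step CosetCertMcLAmal21C1.just89 CosetCertMcLAmal21C1.check89

theorem valid91 : Valid 23296 := valid90.step CosetCertMcLAmal21C1.just90 CosetCertMcLAmal21C1.check90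

theorem valid92 : Valid 23552 := valid91.step CosetCertMcLAmal21C1.just91 CosetCertMcLAmal21C1.check91

theorem valid93 : Valid 23808 := valid92.step CosetCertMcLAmal21C1.just92 CosetCertMcLAmal21C1.check92

theorem valid94 : Valid 24064 := valid93.step CosetCertMcLAmal21C1.just93 CosetCertMcLAmal21C1.check93

theorem valid95 : Valid 24320 := valid94.step CosetCertMcLAmal21C1.just94 CosetCertMcLAmal21C1.check94

theorem valid96 : Valid 24576 := valid95.step CosetCertMcLAmal21C1.just95 CosetCertMcLAmal21C1.check95

theorem valid97 : Valid 24832 := valid96.step CosetCertMcLAmal21C1.just96 CosetCertMcLAmal21C1.check96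

theorem valid98 : Valid 25088 := valid97.step CosetCertMcLAmal21C1.just97 CosetCertMcLAmal21C1.check97

theorem valid99 : Valid 25344 := valid98.step CosetCertMcLAmal21C1.just98 CosetCertMcLAmal21C1.check98

theorem valid100 : Valid 25600 := valid99.step CosetCertMcLAmal21C1.just99 CosetCertMcLAmal21C1.check99

theorem valid101 : Valid 25856 := valid100.step CosetCertMcLAmal21C1.just100 CosetCertMcLAmal21C1.check100

theorem valid102 : Valid 26112 := valid101.step CosetCertMcLAmal21C1.just101 CosetCertMcLAmal21C1.check101

theorem valid103 : Valid 26368 := valid102.step CosetCertMcLAmal21C1.just102 CosetCertMcLAmal21C1.check102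

theorem valid104 : Valid 26624 := valid103.step CosetCertMcLAmal21C1.just103 CosetCertMcLAmal21C1.check103

theorem valid105 : Valid 26880 := valid104.step CosetCertMcLAmal21C1.just104 CosetCertMcLAmal21C1.check104

theorem valid106 : Valid 27136 := valid105.step CosetCertMcLAmal21C1.just105 CosetCertMcLAmal21C1.check105

theorem valid107 : Valid 27392 := valid106.step CosetCertMcLAmal21C1.just106 CosetCertMcLAmal21C1.check106

theorem valid108 : Valid 27648 := valid107.step CosetCertMcLAmal21C1.just107 CosetCertMcLAmal21C1.check107

theorem valid109 : Valid 27904 := valid108.step CosetCertMcLAmal21C1.just108 CosetCertMcLAmal21C1.check108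

theorem valid110 : Valid 28160 := valid109.step CosetCertMcLAmal21C1.just109 CosetCertMcLAmal21C1.check109

theorem valid111 : Valid 28416 := valid110.step CosetCertMcLAmal21C1.just110 CosetCertMcLAmal21C1.check110

theorem valid112 : Valid 28672 := valid111.step CosetCertMcLAmal21C1.just111 CosetCertMcLAmal21C1.check111

theorem valid113 : Valid 28928 := valid112.step CosetCertMcLAmal21C1.just112 CosetCertMcLAmal21C1.check112

theorem valid114 : Valid 29184 := valid113.step CosetCertMcLAmal21C1.just113 CosetCertMcLAmal21C1.check113

theorem valid115 : Valid 29440 := valid114.step CosetCertMcLAmal21C1.just114 CosetCertMcLAmal21C1.check114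

theorem valid116 : Valid 29696 := valid115.step CosetCertMcLAmal21C1.just115 CosetCertMcLAmal21C1.check115

theorem valid117 : Valid 29952 := valid116.step CosetCertMcLAmal21C1.just116 CosetCertMcLAmal21C1.check116

theorem valid118 : Valid 30208 := valid117.step CosetCertMcLAmal21C1.just117 CosetCertMcLAmal21C1.check117

theorem valid119 : Valid 30464 := valid118.step CosetCertMcLAmal21C1.just118 CosetCertMcLAmal21C1.check118

theorem valid120 : Valid 30720 := valid119.step CosetCertMcLAmal21C1.just119 CosetCertMcLAmal21C1.check119

theorem valid121 : Valid 30976 := valid120.step CosetCertMcLAmal21C1.just120 CosetCertMcLAmal21C1.check120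

theorem valid122 : Valid 31232 := valid121.step CosetCertMcLAmal21C1.just121 CosetCertMcLAmal21C1.check121

theorem valid123 : Valid 31488 := valid122.step CosetCertMcLAmal21C1.just122 CosetCertMcLAmal21C1.check122

theorem valid124 : Valid 31744 := valid123.step CosetCertMcLAmal21C1.just123 CosetCertMcLAmal21C1.check123

theorem valid125 : Valid 32000 := valid124.step CosetCertMcLAmal21C1.just124 CosetCertMcLAmal21C1.check124

theorem valid126 : Valid 32256 := valid125.step CosetCertMcLAmal21C1.just125 CosetCertMcLAmal21C1.check125

theorem valid127 : Valid 32512 := valid126.step CosetCertMcLAmal21C1.just126 CosetCertMcLAmal21C1.check126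

theorem valid128 : Valid 32768 := valid127.step CosetCertMcLAmal21C1.just127 CosetCertMcLAmal21C1.check127

theorem valid129 : Valid 33024 := valid128.step CosetCertMcLAmal21C1.just128 CosetCertMcLAmal21C1.check128

theorem valid130 : Valid 33280 := valid129.step CosetCertMcLAmal21C1.just129 CosetCertMcLAmal21C1.check129

theorem valid131 : Valid 33536 := valid130.step CosetCertMcLAmal21C1.just130 CosetCertMcLAmal21C1.check130

theorem valid132 : Valid 33792 := valid131.step CosetCertMcLAmal21C1.just131 CosetCertMcLAmal21C1.check131

theorem valid133 : Valid 34048 := valid132.step CosetCertMcLAmal21C1.just132 CosetCertMcLAmal21C1.check132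

theorem valid134 : Valid 34304 := valid133.step CosetCertMcLAmal21C1.just133 CosetCertMcLAmal21C1.check133

theorem valid135 : Valid 34560 := valid134.step CosetCertMcLAmal21C1.just134 CosetCertMcLAmal21C1.check134

theorem valid136 : Valid 34816 := valid135.step CosetCertMcLAmal21C1.just135 CosetCertMcLAmal21C1.check135

theorem valid137 : Valid 35072 := valid136.step CosetCertMcLAmal21C1.just136 CosetCertMcLAmal21C1.check136

theorem valid138 : Valid 35328 := valid137.step CosetCertMcLAmal21C1.just137 CosetCertMcLAmal21C1.check137

theorem valid139 : Valid 35584 := valid138.step CosetCertMcLAmal21C1.just138 CosetCertMcLAmal21C1.check138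

theorem valid140 : Valid 35840 := valid139.step CosetCertMcLAmal21C1.just139 CosetCertMcLAmal21C1.check139

theorem valid141 : Valid 36096 := valid140.step CosetCertMcLAmal21C1.just140 CosetCertMcLAmal21C1.check140

theorem valid142 : Valid 36352 := valid141.step CosetCertMcLAmal21C1.just141 CosetCertMcLAmal21C1.check141

theorem valid143 : Valid 36608 := valid142.step CosetCertMcLAmal21C1.just142 CosetCertMcLAmal21C1.check142

theorem valid144 : Valid 36864 := valid143.step CosetCertMcLAmal21C1.just143 CosetCertMcLAmal21C1.check143

theorem valid145 : Valid 37120 := valid144.step CosetCertMcLAmal21C1.just144 CosetCertMcLAmal21C1.check144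

theorem valid146 : Valid 37376 := valid145.step CosetCertMcLAmal21C1.just145 CosetCertMcLAmal21C1.check145

theorem valid147 : Valid 37632 := valid146.step CosetCertMcLAmal21C1.just146 CosetCertMcLAmal21C1.check146

theorem valid148 : Valid 37888 := valid147.step CosetCertMcLAmal21C1.just147 CosetCertMcLAmal21C1.check147

theorem valid149 : Valid 38144 := valid148.step CosetCertMcLAmal21C1.just148 CosetCertMcLAmal21C1.check148

theorem valid150 : Valid 38400 := valid149.step CosetCertMcLAmal21C1.just149 CosetCertMcLAmal21C1.check149

theorem valid151 : Valid 38656 := valid150.step CosetCertMcLAmal21C1.just150 CosetCertMcLAmal21C1.check150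

theorem valid152 : Valid 38912 := valid151.step CosetCertMcLAmal21C1.just151 CosetCertMcLAmal21C1.check151

theorem valid153 : Valid 39168 := valid152.step CosetCertMcLAmal21C1.just152 CosetCertMcLAmal21C1.check152

theorem valid154 : Valid 39424 := valid153.step CosetCertMcLAmal21C1.just153 CosetCertMcLAmal21C1.check153

theorem valid155 : Valid 39680 := valid154.step CosetCertMcLAmal21C1.just154 CosetCertMcLAmal21C1.check154

theorem valid156 : Valid 39936 := valid155.step CosetCertMcLAmal21C1.just155 CosetCertMcLAmal21C1.check155

theorem valid157 : Valid 40192 := valid156.step CosetCertMcLAmal21C2.just156 CosetCertMcLAmal21C2.check156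

theorem valid158 : Valid 40448 := valid157.step CosetCertMcLAmal21C2.just157 CosetCertMcLAmal21C2.check157

theorem valid159 : Valid 40704 := valid158.step CosetCertMcLAmal21C2.just158 CosetCertMcLAmal21C2.check158

theorem valid160 : Valid 40960 := valid159.step CosetCertMcLAmal21C2.just159 CosetCertMcLAmal21C2.check159

theorem valid161 : Valid 41216 := valid160.step CosetCertMcLAmal21C2.just160 CosetCertMcLAmal21C2.check160

theorem valid162 : Valid 41472 := valid161.step CosetCertMcLAmal21C2.just161 CosetCertMcLAmal21C2.check161

theorem valid163 : Valid 41728 := valid162.step CosetCertMcLAmal21C2.just162 CosetCertMcLAmal21C2.check162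

theorem valid164 : Valid 41984 := valid163.step CosetCertMcLAmal21C2.just163 CosetCertMcLAmal21C2.check163

theorem valid165 : Valid 42240 := valid164.step CosetCertMcLAmal21C2.just164 CosetCertMcLAmal21C2.check164

theorem valid166 : Valid 42496 := valid165.step CosetCertMcLAmal21C2.just165 CosetCertMcLAmal21C2.check165

theorem valid167 : Valid 42752 := valid166.step CosetCertMcLAmal21C2.just166 CosetCertMcLAmal21C2.check166

theorem valid168 : Valid 43008 := valid167.step CosetCertMcLAmal21C2.just167 CosetCertMcLAmal21C2.check167

theorem valid169 : Valid 43264 := valid168.step CosetCertMcLAmal21C2.just168 CosetCertMcLAmal21C2.check168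

theorem valid170 : Valid 43520 := valid169.step CosetCertMcLAmal21C2.just169 CosetCertMcLAmal21C2.check169

theorem valid171 : Valid 43776 := valid170.step CosetCertMcLAmal21C2.just170 CosetCertMcLAmal21C2.check170

theorem valid172 : Valid 44032 := valid171.step CosetCertMcLAmal21C2.just171 CosetCertMcLAmal21C2.check171

theorem valid173 : Valid 44288 := valid172.step CosetCertMcLAmal21C2.just172 CosetCertMcLAmal21C2.check172

theorem valid174 : Valid 44544 := valid173.step CosetCertMcLAmal21C2.just173 CosetCertMcLAmal21C2.check173

theorem valid175 : Valid 44800 := valid174.step CosetCertMcLAmal21C2.just174 CosetCertMcLAmal21C2.check174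

theorem valid176 : Valid 45056 := valid175.step CosetCertMcLAmal21C2.just175 CosetCertMcLAmal21C2.check175

theorem valid177 : Valid 45312 := valid176.step CosetCertMcLAmal21C2.just176 CosetCertMcLAmal21C2.check176

theorem valid178 : Valid 45568 := valid177.step CosetCertMcLAmal21C2.just177 CosetCertMcLAmal21C2.check177

theorem valid179 : Valid 45824 := valid178.step CosetCertMcLAmal21C2.just178 CosetCertMcLAmal21C2.check178

theorem valid180 : Valid 46080 := valid179.step CosetCertMcLAmal21C2.just179 CosetCertMcLAmal21C2.check179

theorem valid181 : Valid 46336 := valid180.step CosetCertMcLAmal21C2.just180 CosetCertMcLAmal21C2.check180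

theorem valid182 : Valid 46592 := valid181.step CosetCertMcLAmal21C2.just181 CosetCertMcLAmal21C2.check181

theorem valid183 : Valid 46848 := valid182.step CosetCertMcLAmal21C2.just182 CosetCertMcLAmal21C2.check182

theorem valid184 : Valid 47104 := valid183.step CosetCertMcLAmal21C2.just183 CosetCertMcLAmal21C2.check183

theorem valid185 : Valid 47360 := valid184.step CosetCertMcLAmal21C2.just184 CosetCertMcLAmal21C2.check184

theorem valid186 : Valid 47616 := valid185.step CosetCertMcLAmal21C2.just185 CosetCertMcLAmal21C2.check185

theorem valid187 : Valid 47872 := valid186.step CosetCertMcLAmal21C2.just186 CosetCertMcLAmal21C2.check186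

theorem valid188 : Valid 48128 := valid187.step CosetCertMcLAmal21C2.just187 CosetCertMcLAmal21C2.check187

theorem valid189 : Valid 48384 := valid188.step CosetCertMcLAmal21C2.just188 CosetCertMcLAmal21C2.check188

theorem valid190 : Valid 48640 := valid189.step CosetCertMcLAmal21C2.just189 CosetCertMcLAmal21C2.check189

theorem valid191 : Valid 48896 := valid190.step CosetCertMcLAmal21C2.just190 CosetCertMcLAmal21C2.check190

theorem valid192 : Valid 49152 := valid191.step CosetCertMcLAmal21C2.just191 CosetCertMcLAmal21C2.check191

theorem valid193 : Valid 49408 := valid192.step CosetCertMcLAmal21C2.just192 CosetCertMcLAmal21C2.check192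

theorem valid194 : Valid 49664 := valid193.step CosetCertMcLAmal21C2.just193 CosetCertMcLAmal21C2.check193

theorem valid195 : Valid 49920 := valid194.step CosetCertMcLAmal21C2.just194 CosetCertMcLAmal21C2.check194

theorem valid196 : Valid 50176 := valid195.step CosetCertMcLAmal21C2.just195 CosetCertMcLAmal21C2.check195

theorem valid197 : Valid 50432 := valid196.step CosetCertMcLAmal21C2.just196 CosetCertMcLAmal21C2.check196

theorem valid198 : Valid 50688 := valid197.step CosetCertMcLAmal21C2.just197 CosetCertMcLAmal21C2.check197

theorem valid199 : Valid 50944 := valid198.step CosetCertMcLAmal21C2.just198 CosetCertMcLAmal21C2.check198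

theorem valid200 : Valid 51200 := valid199.step CosetCertMcLAmal21C2.just199 CosetCertMcLAmal21C2.check199

theorem valid201 : Valid 51456 := valid200.step CosetCertMcLAmal21C2.just200 CosetCertMcLAmal21C2.check200

theorem valid202 : Valid 51712 := valid201.step CosetCertMcLAmal21C2.just201 CosetCertMcLAmal21C2.check201

theorem valid203 : Valid 51968 := valid202.step CosetCertMcLAmal21C2.just202 CosetCertMcLAmal21C2.check202

theorem valid204 : Valid 52224 := valid203.step CosetCertMcLAmal21C2.just203 CosetCertMcLAmal21C2.check203

theorem valid205 : Valid 52480 := valid204.step CosetCertMcLAmal21C2.just204 CosetCertMcLAmal21C2.check204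

theorem valid206 : Valid 52736 := valid205.step CosetCertMcLAmal21C2.just205 CosetCertMcLAmal21C2.check205

theorem valid207 : Valid 52992 := valid206.step CosetCertMcLAmal21C2.just206 CosetCertMcLAmal21C2.check206

theorem valid208 : Valid 53248 := valid207.step CosetCertMcLAmal21C2.just207 CosetCertMcLAmal21C2.check207

theorem valid209 : Valid 53504 := valid208.step CosetCertMcLAmal21C2.just208 CosetCertMcLAmal21C2.check208

theorem valid210 : Valid 53760 := valid209.step CosetCertMcLAmal21C2.just209 CosetCertMcLAmal21C2.check209

theorem valid211 : Valid 54016 := valid210.step CosetCertMcLAmal21C2.just210 CosetCertMcLAmal21C2.check210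

theorem valid212 : Valid 54272 := valid211.step CosetCertMcLAmal21C2.just211 CosetCertMcLAmal21C2.check211

theorem valid213 : Valid 54528 := valid212.step CosetCertMcLAmal21C2.just212 CosetCertMcLAmal21C2.check212

theorem valid214 : Valid 54784 := valid213.step CosetCertMcLAmal21C2.just213 CosetCertMcLAmal21C2.check213

theorem valid215 : Valid 55040 := valid214.step CosetCertMcLAmal21C2.just214 CosetCertMcLAmal21C2.check214

theorem valid216 : Valid 55296 := valid215.step CosetCertMcLAmal21C2.just215 CosetCertMcLAmal21C2.check215

theorem valid217 : Valid 55552 := valid216.step CosetCertMcLAmal21C2.just216 CosetCertMcLAmal21C2.check216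

theorem valid218 : Valid 55808 := valid217.step CosetCertMcLAmal21C2.just217 CosetCertMcLAmal21C2.check217

theorem valid219 : Valid 56064 := valid218.step CosetCertMcLAmal21C2.just218 CosetCertMcLAmal21C2.check218

theorem valid220 : Valid 56320 := valid219.step CosetCertMcLAmal21C2.just219 CosetCertMcLAmal21C2.check219

theorem valid221 : Valid 56576 := valid220.step CosetCertMcLAmal21C2.just220 CosetCertMcLAmal21C2.check220

theorem valid222 : Valid 56832 := valid221.step CosetCertMcLAmal21C2.just221 CosetCertMcLAmal21C2.check221

theorem valid223 : Valid 57088 := valid222.step CosetCertMcLAmal21C2.just222 CosetCertMcLAmal21C2.check222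

theorem valid224 : Valid 57344 := valid223.step CosetCertMcLAmal21C2.just223 CosetCertMcLAmal21C2.check223

theorem valid225 : Valid 57600 := valid224.step CosetCertMcLAmal21C2.just224 CosetCertMcLAmal21C2.check224

theorem valid226 : Valid 57856 := valid225.step CosetCertMcLAmal21C2.just225 CosetCertMcLAmal21C2.check225

theorem valid227 : Valid 58112 := valid226.step CosetCertMcLAmal21C2.just226 CosetCertMcLAmal21C2.check226

theorem valid228 : Valid 58368 := valid227.step CosetCertMcLAmal21C2.just227 CosetCertMcLAmal21C2.check227

theorem valid229 : Valid 58624 := valid228.step CosetCertMcLAmal21C2.just228 CosetCertMcLAmal21C2.check228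

theorem valid230 : Valid 58880 := valid229.step CosetCertMcLAmal21C2.just229 CosetCertMcLAmal21C2.check229

theorem valid231 : Valid 59136 := valid230.step CosetCertMcLAmal21C2.just230 CosetCertMcLAmal21C2.check230

theorem valid232 : Valid 59392 := valid231.step CosetCertMcLAmal21C2.just231 CosetCertMcLAmal21C2.check231

theorem valid233 : Valid 59648 := valid232.step CosetCertMcLAmal21C2.just232 CosetCertMcLAmal21C2.check232

theorem valid234 : Valid 59904 := valid233.step CosetCertMcLAmal21C2.just233 CosetCertMcLAmal21C2.check233

theorem valid235 : Valid 60160 := valid234.step CosetCertMcLAmal21C3.just234 CosetCertMcLAmal21C3.check234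

theorem valid236 : Valid 60416 := valid235.step CosetCertMcLAmal21C3.just235 CosetCertMcLAmal21C3.check235

theorem valid237 : Valid 60672 := valid236.step CosetCertMcLAmal21C3.just236 CosetCertMcLAmal21C3.check236

theorem valid238 : Valid 60928 := valid237.step CosetCertMcLAmal21C3.just237 CosetCertMcLAmal21C3.check237

theorem valid239 : Valid 61184 := valid238.step CosetCertMcLAmal21C3.just238 CosetCertMcLAmal21C3.check238

theorem valid240 : Valid 61440 := valid239.step CosetCertMcLAmal21C3.just239 CosetCertMcLAmal21C3.check239

theorem valid241 : Valid 61696 := valid240.step CosetCertMcLAmal21C3.just240 CosetCertMcLAmal21C3.check240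

theorem valid242 : Valid 61952 := valid241.step CosetCertMcLAmal21C3.just241 CosetCertMcLAmal21C3.check241

theorem valid243 : Valid 62208 := valid242.step CosetCertMcLAmal21C3.just242 CosetCertMcLAmal21C3.check242

theorem valid244 : Valid 62464 := valid243.step CosetCertMcLAmal21C3.just243 CosetCertMcLAmal21C3.check243

theorem valid245 : Valid 62720 := valid244.step CosetCertMcLAmal21C3.just244 CosetCertMcLAmal21C3.check244

theorem valid246 : Valid 62976 := valid245.step CosetCertMcLAmal21C3.just245 CosetCertMcLAmal21C3.check245

theorem valid247 : Valid 63232 := valid246.step CosetCertMcLAmal21C3.just246 CosetCertMcLAmal21C3.check246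

theorem valid248 : Valid 63488 := valid247.step CosetCertMcLAmal21C3.just247 CosetCertMcLAmal21C3.check247

theorem valid249 : Valid 63744 := valid248.step CosetCertMcLAmal21C3.just248 CosetCertMcLAmal21C3.check248

theorem valid250 : Valid 64000 := valid249.step CosetCertMcLAmal21C3.just249 CosetCertMcLAmal21C3.check249

theorem valid251 : Valid 64256 := valid250.step CosetCertMcLAmal21C3.just250 CosetCertMcLAmal21C3.check250

theorem valid252 : Valid 64512 := valid251.step CosetCertMcLAmal21C3.just251 CosetCertMcLAmal21C3.check251

theorem valid253 : Valid 64768 := valid252.step CosetCertMcLAmal21C3.just252 CosetCertMcLAmal21C3.check252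

theorem valid254 : Valid 65024 := valid253.step CosetCertMcLAmal21C3.just253 CosetCertMcLAmal21C3.check253

theorem valid255 : Valid 65280 := valid254.step CosetCertMcLAmal21C3.just254 CosetCertMcLAmal21C3.check254

theorem valid256 : Valid 65536 := valid255.step CosetCertMcLAmal21C3.just255 CosetCertMcLAmal21C3.check255

theorem valid257 : Valid 65792 := valid256.step CosetCertMcLAmal21C3.just256 CosetCertMcLAmal21C3.check256

theorem valid258 : Valid 66048 := valid257.step CosetCertMcLAmal21C3.just257 CosetCertMcLAmal21C3.check257

theorem valid259 : Valid 66304 := valid258.step CosetCertMcLAmal21C3.just258 CosetCertMcLAmal21C3.check258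

theorem valid260 : Valid 66560 := valid259.step CosetCertMcLAmal21C3.just259 CosetCertMcLAmal21C3.check259

theorem valid261 : Valid 66816 := valid260.step CosetCertMcLAmal21C3.just260 CosetCertMcLAmal21C3.check260

theorem valid262 : Valid 67072 := valid261.step CosetCertMcLAmal21C3.just261 CosetCertMcLAmal21C3.check261

theorem valid263 : Valid 67328 := valid262.step CosetCertMcLAmal21C3.just262 CosetCertMcLAmal21C3.check262

theorem valid264 : Valid 67584 := valid263.step CosetCertMcLAmal21C3.just263 CosetCertMcLAmal21C3.check263

theorem valid265 : Valid 67840 := valid264.step CosetCertMcLAmal21C3.just264 CosetCertMcLAmal21C3.check264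

theorem valid266 : Valid 68096 := valid265.step CosetCertMcLAmal21C3.just265 CosetCertMcLAmal21C3.check265

theorem valid267 : Valid 68352 := valid266.step CosetCertMcLAmal21C3.just266 CosetCertMcLAmal21C3.check266

theorem valid268 : Valid 68608 := valid267.step CosetCertMcLAmal21C3.just267 CosetCertMcLAmal21C3.check267

theorem valid269 : Valid 68864 := valid268.step CosetCertMcLAmal21C3.just268 CosetCertMcLAmal21C3.check268

theorem valid270 : Valid 69120 := valid269.step CosetCertMcLAmal21C3.just269 CosetCertMcLAmal21C3.check269

theorem valid271 : Valid 69376 := valid270.step CosetCertMcLAmal21C3.just270 CosetCertMcLAmal21C3.check270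

theorem valid272 : Valid 69632 := valid271.step CosetCertMcLAmal21C3.just271 CosetCertMcLAmal21C3.check271

theorem valid273 : Valid 69888 := valid272.step CosetCertMcLAmal21C3.just272 CosetCertMcLAmal21C3.check272

theorem valid274 : Valid 70144 := valid273.step CosetCertMcLAmal21C3.just273 CosetCertMcLAmal21C3.check273

theorem valid275 : Valid 70400 := valid274.step CosetCertMcLAmal21C3.just274 CosetCertMcLAmal21C3.check274

theorem valid276 : Valid 70656 := valid275.step CosetCertMcLAmal21C3.just275 CosetCertMcLAmal21C3.check275

theorem valid277 : Valid 70912 := valid276.step CosetCertMcLAmal21C3.just276 CosetCertMcLAmal21C3.check276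

theorem valid278 : Valid 71168 := valid277.step CosetCertMcLAmal21C3.just277 CosetCertMcLAmal21C3.check277

theorem valid279 : Valid 71424 := valid278.step CosetCertMcLAmal21C3.just278 CosetCertMcLAmal21C3.check278

theorem valid280 : Valid 71680 := valid279.step CosetCertMcLAmal21C3.just279 CosetCertMcLAmal21C3.check279

theorem valid281 : Valid 71936 := valid280.step CosetCertMcLAmal21C3.just280 CosetCertMcLAmal21C3.check280

theorem valid282 : Valid 72192 := valid281.step CosetCertMcLAmal21C3.just281 CosetCertMcLAmal21C3.check281

theorem valid283 : Valid 72448 := valid282.step CosetCertMcLAmal21C3.just282 CosetCertMcLAmal21C3.check282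

theorem valid284 : Valid 72704 := valid283.step CosetCertMcLAmal21C3.just283 CosetCertMcLAmal21C3.check283

theorem valid285 : Valid 72960 := valid284.step CosetCertMcLAmal21C3.just284 CosetCertMcLAmal21C3.check284

theorem valid286 : Valid 73216 := valid285.step CosetCertMcLAmal21C3.just285 CosetCertMcLAmal21C3.check285

theorem valid287 : Valid 73472 := valid286.step CosetCertMcLAmal21C3.just286 CosetCertMcLAmal21C3.check286

theorem valid288 : Valid 73728 := valid287.step CosetCertMcLAmal21C3.just287 CosetCertMcLAmal21C3.check287

theorem valid289 : Valid 73984 := valid288.step CosetCertMcLAmal21C3.just288 CosetCertMcLAmal21C3.check288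

theorem valid290 : Valid 74240 := valid289.step CosetCertMcLAmal21C3.just289 CosetCertMcLAmal21C3.check289

theorem valid291 : Valid 74496 := valid290.step CosetCertMcLAmal21C3.just290 CosetCertMcLAmal21C3.check290

theorem valid292 : Valid 74752 := valid291.step CosetCertMcLAmal21C3.just291 CosetCertMcLAmal21C3.check291

theorem valid293 : Valid 75008 := valid292.step CosetCertMcLAmal21C3.just292 CosetCertMcLAmal21C3.check292

theorem valid294 : Valid 75264 := valid293.step CosetCertMcLAmal21C3.just293 CosetCertMcLAmal21C3.check293

theorem valid295 : Valid 75520 := valid294.step CosetCertMcLAmal21C3.just294 CosetCertMcLAmal21C3.check294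

theorem valid296 : Valid 75776 := valid295.step CosetCertMcLAmal21C3.just295 CosetCertMcLAmal21C3.check295

theorem valid297 : Valid 76032 := valid296.step CosetCertMcLAmal21C3.just296 CosetCertMcLAmal21C3.check296

theorem valid298 : Valid 76288 := valid297.step CosetCertMcLAmal21C3.just297 CosetCertMcLAmal21C3.check297

theorem valid299 : Valid 76544 := valid298.step CosetCertMcLAmal21C3.just298 CosetCertMcLAmal21C3.check298

theorem valid300 : Valid 76800 := valid299.step CosetCertMcLAmal21C3.just299 CosetCertMcLAmal21C3.check299

theorem valid301 : Valid 77056 := valid300.step CosetCertMcLAmal21C3.just300 CosetCertMcLAmal21C3.check300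

theorem valid302 : Valid 77312 := valid301.step CosetCertMcLAmal21C3.just301 CosetCertMcLAmal21C3.check301

theorem valid303 : Valid 77568 := valid302.step CosetCertMcLAmal21C3.just302 CosetCertMcLAmal21C3.check302

theorem valid304 : Valid 77824 := valid303.step CosetCertMcLAmal21C3.just303 CosetCertMcLAmal21C3.check303

theorem valid305 : Valid 78080 := valid304.step CosetCertMcLAmal21C3.just304 CosetCertMcLAmal21C3.check304

theorem valid306 : Valid 78336 := valid305.step CosetCertMcLAmal21C3.just305 CosetCertMcLAmal21C3.check305

theorem valid307 : Valid 78592 := valid306.step CosetCertMcLAmal21C3.just306 CosetCertMcLAmal21C3.check306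

theorem valid308 : Valid 78848 := valid307.step CosetCertMcLAmal21C3.just307 CosetCertMcLAmal21C3.check307

theorem valid309 : Valid 79104 := valid308.step CosetCertMcLAmal21C3.just308 CosetCertMcLAmal21C3.check308

theorem valid310 : Valid 79360 := valid309.step CosetCertMcLAmal21C3.just309 CosetCertMcLAmal21C3.check309

theorem valid311 : Valid 79616 := valid310.step CosetCertMcLAmal21C3.just310 CosetCertMcLAmal21C3.check310

theorem valid312 : Valid 79872 := valid311.step CosetCertMcLAmal21C3.just311 CosetCertMcLAmal21C3.check311

theorem valid313 : Valid 80128 := valid312.step CosetCertMcLAmal21C4.just312 CosetCertMcLAmal21C4.check312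

theorem valid314 : Valid 80384 := valid313.step CosetCertMcLAmal21C4.just313 CosetCertMcLAmal21C4.check313

theorem valid315 : Valid 80640 := valid314.step CosetCertMcLAmal21C4.just314 CosetCertMcLAmal21C4.check314

theorem valid316 : Valid 80896 := valid315.step CosetCertMcLAmal21C4.just315 CosetCertMcLAmal21C4.check315

theorem valid317 : Valid 81152 := valid316.step CosetCertMcLAmal21C4.just316 CosetCertMcLAmal21C4.check316

theorem valid318 : Valid 81408 := valid317.step CosetCertMcLAmal21C4.just317 CosetCertMcLAmal21C4.check317

theorem valid319 : Valid 81664 := valid318.step CosetCertMcLAmal21C4.just318 CosetCertMcLAmal21C4.check318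

theorem valid320 : Valid 81920 := valid319.step CosetCertMcLAmal21C4.just319 CosetCertMcLAmal21C4.check319

theorem valid321 : Valid 82176 := valid320.step CosetCertMcLAmal21C4.just320 CosetCertMcLAmal21C4.check320

theorem valid322 : Valid 82432 := valid321.step CosetCertMcLAmal21C4.just321 CosetCertMcLAmal21C4.check321

theorem valid323 : Valid 82688 := valid322.step CosetCertMcLAmal21C4.just322 CosetCertMcLAmal21C4.check322

theorem valid324 : Valid 82944 := valid323.step CosetCertMcLAmal21C4.just323 CosetCertMcLAmal21C4.check323

theorem valid325 : Valid 83200 := valid324.step CosetCertMcLAmal21C4.just324 CosetCertMcLAmal21C4.check324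

theorem valid326 : Valid 83456 := valid325.step CosetCertMcLAmal21C4.just325 CosetCertMcLAmal21C4.check325

theorem valid327 : Valid 83712 := valid326.step CosetCertMcLAmal21C4.just326 CosetCertMcLAmal21C4.check326

theorem valid328 : Valid 83968 := valid327.step CosetCertMcLAmal21C4.just327 CosetCertMcLAmal21C4.check327

theorem valid329 : Valid 84224 := valid328.step CosetCertMcLAmal21C4.just328 CosetCertMcLAmal21C4.check328

theorem valid330 : Valid 84480 := valid329.step CosetCertMcLAmal21C4.just329 CosetCertMcLAmal21C4.check329

theorem valid331 : Valid 84736 := valid330.step CosetCertMcLAmal21C4.just330 CosetCertMcLAmal21C4.check330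

theorem valid332 : Valid 84992 := valid331.step CosetCertMcLAmal21C4.just331 CosetCertMcLAmal21C4.check331

theorem valid333 : Valid 85248 := valid332.step CosetCertMcLAmal21C4.just332 CosetCertMcLAmal21C4.check332

theorem valid334 : Valid 85504 := valid333.step CosetCertMcLAmal21C4.just333 CosetCertMcLAmal21C4.check333

theorem valid335 : Valid 85760 := valid334.step CosetCertMcLAmal21C4.just334 CosetCertMcLAmal21C4.check334

theorem valid336 : Valid 86016 := valid335.step CosetCertMcLAmal21C4.just335 CosetCertMcLAmal21C4.check335

theorem valid337 : Valid 86272 := valid336.step CosetCertMcLAmal21C4.just336 CosetCertMcLAmal21C4.check336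

theorem valid338 : Valid 86528 := valid337.step CosetCertMcLAmal21C4.just337 CosetCertMcLAmal21C4.check337

theorem valid339 : Valid 86784 := valid338.step CosetCertMcLAmal21C4.just338 CosetCertMcLAmal21C4.check338

theorem valid340 : Valid 87040 := valid339.step CosetCertMcLAmal21C4.just339 CosetCertMcLAmal21C4.check339

theorem valid341 : Valid 87296 := valid340.step CosetCertMcLAmal21C4.just340 CosetCertMcLAmal21C4.check340

theorem valid342 : Valid 87552 := valid341.step CosetCertMcLAmal21C4.just341 CosetCertMcLAmal21C4.check341

theorem valid343 : Valid 87808 := valid342.step CosetCertMcLAmal21C4.just342 CosetCertMcLAmal21C4.check342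

theorem valid344 : Valid 88064 := valid343.step CosetCertMcLAmal21C4.just343 CosetCertMcLAmal21C4.check343

theorem valid345 : Valid 88320 := valid344.step CosetCertMcLAmal21C4.just344 CosetCertMcLAmal21C4.check344

theorem valid346 : Valid 88576 := valid345.step CosetCertMcLAmal21C4.just345 CosetCertMcLAmal21C4.check345

theorem valid347 : Valid 88832 := valid346.step CosetCertMcLAmal21C4.just346 CosetCertMcLAmal21C4.check346

theorem valid348 : Valid 89088 := valid347.step CosetCertMcLAmal21C4.just347 CosetCertMcLAmal21C4.check347

theorem valid349 : Valid 89344 := valid348.step CosetCertMcLAmal21C4.just348 CosetCertMcLAmal21C4.check348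

theorem valid350 : Valid 89600 := valid349.step CosetCertMcLAmal21C4.just349 CosetCertMcLAmal21C4.check349

theorem valid351 : Valid 89856 := valid350.step CosetCertMcLAmal21C4.just350 CosetCertMcLAmal21C4.check350

theorem valid352 : Valid 90112 := valid351.step CosetCertMcLAmal21C4.just351 CosetCertMcLAmal21C4.check351

theorem valid353 : Valid 90368 := valid352.step CosetCertMcLAmal21C4.just352 CosetCertMcLAmal21C4.check352

theorem valid354 : Valid 90624 := valid353.step CosetCertMcLAmal21C4.just353 CosetCertMcLAmal21C4.check353

theorem valid355 : Valid 90880 := valid354.step CosetCertMcLAmal21C4.just354 CosetCertMcLAmal21C4.check354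

theorem valid356 : Valid 91136 := valid355.step CosetCertMcLAmal21C4.just355 CosetCertMcLAmal21C4.check355

theorem valid357 : Valid 91392 := valid356.step CosetCertMcLAmal21C4.just356 CosetCertMcLAmal21C4.check356

theorem valid358 : Valid 91648 := valid357.step CosetCertMcLAmal21C4.just357 CosetCertMcLAmal21C4.check357

theorem valid359 : Valid 91904 := valid358.step CosetCertMcLAmal21C4.just358 CosetCertMcLAmal21C4.check358

theorem valid360 : Valid 92160 := valid359.step CosetCertMcLAmal21C4.just359 CosetCertMcLAmal21C4.check359

theorem valid361 : Valid 92416 := valid360.step CosetCertMcLAmal21C4.just360 CosetCertMcLAmal21C4.check360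

theorem valid362 : Valid 92672 := valid361.step CosetCertMcLAmal21C4.just361 CosetCertMcLAmal21C4.check361

theorem valid363 : Valid 92928 := valid362.step CosetCertMcLAmal21C4.just362 CosetCertMcLAmal21C4.check362

theorem valid364 : Valid 93184 := valid363.step CosetCertMcLAmal21C4.just363 CosetCertMcLAmal21C4.check363

theorem valid365 : Valid 93440 := valid364.step CosetCertMcLAmal21C4.just364 CosetCertMcLAmal21C4.check364

theorem valid366 : Valid 93696 := valid365.step CosetCertMcLAmal21C4.just365 CosetCertMcLAmal21C4.check365

theorem valid367 : Valid 93952 := valid366.step CosetCertMcLAmal21C4.just366 CosetCertMcLAmal21C4.check366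

theorem valid368 : Valid 94208 := valid367.step CosetCertMcLAmal21C4.just367 CosetCertMcLAmal21C4.check367

theorem valid369 : Valid 94464 := valid368.step CosetCertMcLAmal21C4.just368 CosetCertMcLAmal21C4.check368

theorem valid370 : Valid 94720 := valid369.step CosetCertMcLAmal21C4.just369 CosetCertMcLAmal21C4.check369

theorem valid371 : Valid 94976 := valid370.step CosetCertMcLAmal21C4.just370 CosetCertMcLAmal21C4.check370

theorem valid372 : Valid 95232 := valid371.step CosetCertMcLAmal21C4.just371 CosetCertMcLAmal21C4.check371

theorem valid373 : Valid 95488 := valid372.step CosetCertMcLAmal21C4.just372 CosetCertMcLAmal21C4.check372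

theorem valid374 : Valid 95744 := valid373.step CosetCertMcLAmal21C4.just373 CosetCertMcLAmal21C4.check373

theorem valid375 : Valid 96000 := valid374.step CosetCertMcLAmal21C4.just374 CosetCertMcLAmal21C4.check374

theorem valid376 : Valid 96256 := valid375.step CosetCertMcLAmal21C4.just375 CosetCertMcLAmal21C4.check375

theorem valid377 : Valid 96512 := valid376.step CosetCertMcLAmal21C4.just376 CosetCertMcLAmal21C4.check376

theorem valid378 : Valid 96768 := valid377.step CosetCertMcLAmal21C4.just377 CosetCertMcLAmal21C4.check377

theorem valid379 : Valid 97024 := valid378.step CosetCertMcLAmal21C4.just378 CosetCertMcLAmal21C4.check378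

theorem valid380 : Valid 97280 := valid379.step CosetCertMcLAmal21C4.just379 CosetCertMcLAmal21C4.check379

theorem valid381 : Valid 97536 := valid380.step CosetCertMcLAmal21C4.just380 CosetCertMcLAmal21C4.check380

theorem valid382 : Valid 97792 := valid381.step CosetCertMcLAmal21C4.just381 CosetCertMcLAmal21C4.check381

theorem valid383 : Valid 98048 := valid382.step CosetCertMcLAmal21C4.just382 CosetCertMcLAmal21C4.check382

theorem valid384 : Valid 98304 := valid383.step CosetCertMcLAmal21C4.just383 CosetCertMcLAmal21C4.check383

theorem valid385 : Valid 98560 := valid384.step CosetCertMcLAmal21C4.just384 CosetCertMcLAmal21C4.check384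

theorem valid386 : Valid 98816 := valid385.step CosetCertMcLAmal21C4.just385 CosetCertMcLAmal21C4.check385

theorem valid387 : Valid 99072 := valid386.step CosetCertMcLAmal21C4.just386 CosetCertMcLAmal21C4.check386

theorem valid388 : Valid 99328 := valid387.step CosetCertMcLAmal21C4.just387 CosetCertMcLAmal21C4.check387

theorem valid389 : Valid 99584 := valid388.step CosetCertMcLAmal21C4.just388 CosetCertMcLAmal21C4.check388

theorem valid390 : Valid 99840 := valid389.step CosetCertMcLAmal21C4.just389 CosetCertMcLAmal21C4.check389

theorem valid391 : Valid 100096 := valid390.step CosetCertMcLAmal21C5.just390 CosetCertMcLAmal21C5.check390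

theorem valid392 : Valid 100213 := valid391.step CosetCertMcLAmal21C5.just391 CosetCertMcLAmal21C5.check391

theorem points0 : AllBelow (pointOk cert 100213 table) 0 := AllBelow.zero _

theorem points1 : AllBelow (pointOk cert 100213 table) 128 := AllBelow.step points0 128 CosetCertMcLAmal21P0.points1c

theorem points2 : AllBelow (pointOk cert 100213 table) 256 := AllBelow.step points1 128 CosetCertMcLAmal21P0.points2c

theorem points3 : AllBelow (pointOk cert 100213 table) 384 := AllBelow.step points2 128 CosetCertMcLAmal21P0.points3c

theorem points4 : AllBelow (pointOk cert 100213 table) 512 := AllBelow.step points3 128 CosetCertMcLAmal21P0.points4c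

theorem points5 : AllBelow (pointOk cert 100213 table) 640 := AllBelow.step points4 128 CosetCertMcLAmal21P0.points5c

theorem points6 : AllBelow (pointOk cert 100213 table) 768 := AllBelow.step points5 128 CosetCertMcLAmal21P0.points6c

theorem points7 : AllBelow (pointOk cert 100213 table) 896 := AllBelow.step points6 128 CosetCertMcLAmal21P0.points7c

theorem points8 : AllBelow (pointOk cert 100213 table) 1024 := AllBelow.step points7 128 CosetCertMcLAmal21P0.points8c

theorem points9 : AllBelow (pointOk cert 100213 table) 1152 := AllBelow.step points8 128 CosetCertMcLAmal21P0.points9c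

theorem points10 : AllBelow (pointOk cert 100213 table) 1280 := AllBelow.step points9 128 CosetCertMcLAmal21P0.points10c

theorem points11 : AllBelow (pointOk cert 100213 table) 1408 := AllBelow.step points10 128 CosetCertMcLAmal21P0.points11c

theorem points12 : AllBelow (pointOk cert 100213 table) 1536 := AllBelow.step points11 128 CosetCertMcLAmal21P0.points12c

theorem points13 : AllBelow (pointOk cert 100213 table) 1664 := AllBelow.step points12 128 CosetCertMcLAmal21P0.points13c

theorem points14 : AllBelow (pointOk cert 100213 table) 1792 := AllBelow.step points13 128 CosetCertMcLAmal21P0.points14c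

theorem points15 : AllBelow (pointOk cert 100213 table) 1920 := AllBelow.step points14 128 CosetCertMcLAmal21P0.points15c

theorem points16 : AllBelow (pointOk cert 100213 table) 2048 := AllBelow.step points15 128 CosetCertMcLAmal21P0.points16c

theorem points17 : AllBelow (pointOk cert 100213 table) 2176 := AllBelow.step points16 128 CosetCertMcLAmal21P0.points17c

theorem points18 : AllBelow (pointOk cert 100213 table) 2304 := AllBelow.step points17 128 CosetCertMcLAmal21P0.points18c

theorem points19 : AllBelow (pointOk cert 100213 table) 2432 := AllBelow.step points18 128 CosetCertMcLAmal21P0.points19c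

theorem points20 : AllBelow (pointOk cert 100213 table) 2560 := AllBelow.step points19 128 CosetCertMcLAmal21P0.points20c

theorem points21 : AllBelow (pointOk cert 100213 table) 2688 := AllBelow.step points20 128 CosetCertMcLAmal21P0.points21c

theorem points22 : AllBelow (pointOk cert 100213 table) 2816 := AllBelow.step points21 128 CosetCertMcLAmal21P0.points22c

theorem points23 : AllBelow (pointOk cert 100213 table) 2944 := AllBelow.step points22 128 CosetCertMcLAmal21P0.points23c

theorem points24 : AllBelow (pointOk cert 100213 table) 3072 := AllBelow.step points23 128 CosetCertMcLAmal21P0.points24c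

theorem points25 : AllBelow (pointOk cert 100213 table) 3200 := AllBelow.step points24 128 CosetCertMcLAmal21P0.points25c

theorem points26 : AllBelow (pointOk cert 100213 table) 3328 := AllBelow.step points25 128 CosetCertMcLAmal21P0.points26c

theorem points27 : AllBelow (pointOk cert 100213 table) 3456 := AllBelow.step points26 128 CosetCertMcLAmal21P0.points27c

theorem points28 : AllBelow (pointOk cert 100213 table) 3584 := AllBelow.step points27 128 CosetCertMcLAmal21P0.points28c

theorem points29 : AllBelow (pointOk cert 100213 table) 3712 := AllBelow.step points28 128 CosetCertMcLAmal21P0.points29c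

theorem points30 : AllBelow (pointOk cert 100213 table) 3840 := AllBelow.step points29 128 CosetCertMcLAmal21P0.points30c

theorem points31 : AllBelow (pointOk cert 100213 table) 3968 := AllBelow.step points30 128 CosetCertMcLAmal21P0.points31c

theorem points32 : AllBelow (pointOk cert 100213 table) 4096 := AllBelow.step points31 128 CosetCertMcLAmal21P0.points32c

theorem points33 : AllBelow (pointOk cert 100213 table) 4224 := AllBelow.step points32 128 CosetCertMcLAmal21P0.points33c

theorem points34 : AllBelow (pointOk cert 100213 table) 4352 := AllBelow.step points33 128 CosetCertMcLAmal21P0.points34c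

theorem points35 : AllBelow (pointOk cert 100213 table) 4480 := AllBelow.step points34 128 CosetCertMcLAmal21P0.points35c

theorem points36 : AllBelow (pointOk cert 100213 table) 4608 := AllBelow.step points35 128 CosetCertMcLAmal21P0.points36c

theorem points37 : AllBelow (pointOk cert 100213 table) 4736 := AllBelow.step points36 128 CosetCertMcLAmal21P0.points37c

theorem points38 : AllBelow (pointOk cert 100213 table) 4864 := AllBelow.step points37 128 CosetCertMcLAmal21P0.points38c

theorem points39 : AllBelow (pointOk cert 100213 table) 4992 := AllBelow.step points38 128 CosetCertMcLAmal21P0.points39c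

theorem points40 : AllBelow (pointOk cert 100213 table) 5120 := AllBelow.step points39 128 CosetCertMcLAmal21P0.points40c

theorem points41 : AllBelow (pointOk cert 100213 table) 5248 := AllBelow.step points40 128 CosetCertMcLAmal21P0.points41c

theorem points42 : AllBelow (pointOk cert 100213 table) 5376 := AllBelow.step points41 128 CosetCertMcLAmal21P0.points42c

theorem points43 : AllBelow (pointOk cert 100213 table) 5504 := AllBelow.step points42 128 CosetCertMcLAmal21P0.points43c

theorem points44 : AllBelow (pointOk cert 100213 table) 5632 := AllBelow.step points43 128 CosetCertMcLAmal21P0.points44c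

theorem points45 : AllBelow (pointOk cert 100213 table) 5760 := AllBelow.step points44 128 CosetCertMcLAmal21P0.points45c

theorem points46 : AllBelow (pointOk cert 100213 table) 5888 := AllBelow.step points45 128 CosetCertMcLAmal21P0.points46c

theorem points47 : AllBelow (pointOk cert 100213 table) 6016 := AllBelow.step points46 128 CosetCertMcLAmal21P0.points47c

theorem points48 : AllBelow (pointOk cert 100213 table) 6144 := AllBelow.step points47 128 CosetCertMcLAmal21P0.points48c

theorem points49 : AllBelow (pointOk cert 100213 table) 6272 := AllBelow.step points48 128 CosetCertMcLAmal21P0.points49c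

theorem points50 : AllBelow (pointOk cert 100213 table) 6400 := AllBelow.step points49 128 CosetCertMcLAmal21P0.points50c

theorem points51 : AllBelow (pointOk cert 100213 table) 6528 := AllBelow.step points50 128 CosetCertMcLAmal21P0.points51c

theorem points52 : AllBelow (pointOk cert 100213 table) 6656 := AllBelow.step points51 128 CosetCertMcLAmal21P0.points52c

theorem points53 : AllBelow (pointOk cert 100213 table) 6784 := AllBelow.step points52 128 CosetCertMcLAmal21P0.points53c

theorem points54 : AllBelow (pointOk cert 100213 table) 6912 := AllBelow.step points53 128 CosetCertMcLAmal21P0.points54c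

theorem points55 : AllBelow (pointOk cert 100213 table) 7040 := AllBelow.step points54 128 CosetCertMcLAmal21P0.points55c

theorem points56 : AllBelow (pointOk cert 100213 table) 7168 := AllBelow.step points55 128 CosetCertMcLAmal21P0.points56c

theorem points57 : AllBelow (pointOk cert 100213 table) 7296 := AllBelow.step points56 128 CosetCertMcLAmal21P0.points57c

theorem points58 : AllBelow (pointOk cert 100213 table) 7424 := AllBelow.step points57 128 CosetCertMcLAmal21P0.points58c

theorem points59 : AllBelow (pointOk cert 100213 table) 7552 := AllBelow.step points58 128 CosetCertMcLAmal21P0.points59c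

theorem points60 : AllBelow (pointOk cert 100213 table) 7680 := AllBelow.step points59 128 CosetCertMcLAmal21P0.points60c

theorem points61 : AllBelow (pointOk cert 100213 table) 7808 := AllBelow.step points60 128 CosetCertMcLAmal21P0.points61c

theorem points62 : AllBelow (pointOk cert 100213 table) 7936 := AllBelow.step points61 128 CosetCertMcLAmal21P0.points62c

theorem points63 : AllBelow (pointOk cert 100213 table) 8064 := AllBelow.step points62 128 CosetCertMcLAmal21P1.points63c

theorem points64 : AllBelow (pointOk cert 100213 table) 8192 := AllBelow.step points63 128 CosetCertMcLAmal21P1.points64c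

theorem points65 : AllBelow (pointOk cert 100213 table) 8320 := AllBelow.step points64 128 CosetCertMcLAmal21P1.points65c

theorem points66 : AllBelow (pointOk cert 100213 table) 8448 := AllBelow.step points65 128 CosetCertMcLAmal21P1.points66c

theorem points67 : AllBelow (pointOk cert 100213 table) 8576 := AllBelow.step points66 128 CosetCertMcLAmal21P1.points67c

theorem points68 : AllBelow (pointOk cert 100213 table) 8704 := AllBelow.step points67 128 CosetCertMcLAmal21P1.points68c

theorem points69 : AllBelow (pointOk cert 100213 table) 8832 := AllBelow.step points68 128 CosetCertMcLAmal21P1.points69c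

theorem points70 : AllBelow (pointOk cert 100213 table) 8960 := AllBelow.step points69 128 CosetCertMcLAmal21P1.points70c

theorem points71 : AllBelow (pointOk cert 100213 table) 9088 := AllBelow.step points70 128 CosetCertMcLAmal21P1.points71c

theorem points72 : AllBelow (pointOk cert 100213 table) 9216 := AllBelow.step points71 128 CosetCertMcLAmal21P1.points72c

theorem points73 : AllBelow (pointOk cert 100213 table) 9344 := AllBelow.step points72 128 CosetCertMcLAmal21P1.points73c

theorem points74 : AllBelow (pointOk cert 100213 table) 9472 := AllBelow.step points73 128 CosetCertMcLAmal21P1.points74c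

theorem points75 : AllBelow (pointOk cert 100213 table) 9600 := AllBelow.step points74 128 CosetCertMcLAmal21P1.points75c

theorem points76 : AllBelow (pointOk cert 100213 table) 9728 := AllBelow.step points75 128 CosetCertMcLAmal21P1.points76c

theorem points77 : AllBelow (pointOk cert 100213 table) 9856 := AllBelow.step points76 128 CosetCertMcLAmal21P1.points77c

theorem points78 : AllBelow (pointOk cert 100213 table) 9984 := AllBelow.step points77 128 CosetCertMcLAmal21P1.points78c

theorem points79 : AllBelow (pointOk cert 100213 table) 10112 := AllBelow.step points78 128 CosetCertMcLAmal21P1.points79c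

theorem points80 : AllBelow (pointOk cert 100213 table) 10240 := AllBelow.step points79 128 CosetCertMcLAmal21P1.points80c

theorem points81 : AllBelow (pointOk cert 100213 table) 10368 := AllBelow.step points80 128 CosetCertMcLAmal21P1.points81c

theorem points82 : AllBelow (pointOk cert 100213 table) 10496 := AllBelow.step points81 128 CosetCertMcLAmal21P1.points82c

theorem points83 : AllBelow (pointOk cert 100213 table) 10624 := AllBelow.step points82 128 CosetCertMcLAmal21P1.points83c

theorem points84 : AllBelow (pointOk cert 100213 table) 10752 := AllBelow.step points83 128 CosetCertMcLAmal21P1.points84c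

theorem points85 : AllBelow (pointOk cert 100213 table) 10880 := AllBelow.step points84 128 CosetCertMcLAmal21P1.points85c

theorem points86 : AllBelow (pointOk cert 100213 table) 11008 := AllBelow.step points85 128 CosetCertMcLAmal21P1.points86c

theorem points87 : AllBelow (pointOk cert 100213 table) 11136 := AllBelow.step points86 128 CosetCertMcLAmal21P1.points87c

theorem points88 : AllBelow (pointOk cert 100213 table) 11264 := AllBelow.step points87 128 CosetCertMcLAmal21P1.points88c

theorem points89 : AllBelow (pointOk cert 100213 table) 11392 := AllBelow.step points88 128 CosetCertMcLAmal21P1.points89c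

theorem points90 : AllBelow (pointOk cert 100213 table) 11520 := AllBelow.step points89 128 CosetCertMcLAmal21P1.points90c

theorem points91 : AllBelow (pointOk cert 100213 table) 11648 := AllBelow.step points90 128 CosetCertMcLAmal21P1.points91c

theorem points92 : AllBelow (pointOk cert 100213 table) 11776 := AllBelow.step points91 128 CosetCertMcLAmal21P1.points92c

theorem points93 : AllBelow (pointOk cert 100213 table) 11904 := AllBelow.step points92 128 CosetCertMcLAmal21P1.points93c

theorem points94 : AllBelow (pointOk cert 100213 table) 12032 := AllBelow.step points93 128 CosetCertMcLAmal21P1.points94c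

theorem points95 : AllBelow (pointOk cert 100213 table) 12160 := AllBelow.step points94 128 CosetCertMcLAmal21P1.points95c

theorem points96 : AllBelow (pointOk cert 100213 table) 12288 := AllBelow.step points95 128 CosetCertMcLAmal21P1.points96c

theorem points97 : AllBelow (pointOk cert 100213 table) 12416 := AllBelow.step points96 128 CosetCertMcLAmal21P1.points97c

theorem points98 : AllBelow (pointOk cert 100213 table) 12544 := AllBelow.step points97 128 CosetCertMcLAmal21P1.points98c

theorem points99 : AllBelow (pointOk cert 100213 table) 12672 := AllBelow.step points98 128 CosetCertMcLAmal21P1.points99c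

theorem points100 : AllBelow (pointOk cert 100213 table) 12800 := AllBelow.step points99 128 CosetCertMcLAmal21P1.points100c

theorem points101 : AllBelow (pointOk cert 100213 table) 12928 := AllBelow.step points100 128 CosetCertMcLAmal21P1.points101c

theorem points102 : AllBelow (pointOk cert 100213 table) 13056 := AllBelow.step points101 128 CosetCertMcLAmal21P1.points102c

theorem points103 : AllBelow (pointOk cert 100213 table) 13184 := AllBelow.step points102 128 CosetCertMcLAmal21P1.points103c

theorem points104 : AllBelow (pointOk cert 100213 table) 13312 := AllBelow.step points103 128 CosetCertMcLAmal21P1.points104c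

theorem points105 : AllBelow (pointOk cert 100213 table) 13440 := AllBelow.step points104 128 CosetCertMcLAmal21P1.points105c

theorem points106 : AllBelow (pointOk cert 100213 table) 13568 := AllBelow.step points105 128 CosetCertMcLAmal21P1.points106c

theorem points107 : AllBelow (pointOk cert 100213 table) 13696 := AllBelow.step points106 128 CosetCertMcLAmal21P1.points107c

theorem points108 : AllBelow (pointOk cert 100213 table) 13824 := AllBelow.step points107 128 CosetCertMcLAmal21P1.points108c

theorem points109 : AllBelow (pointOk cert 100213 table) 13952 := AllBelow.step points108 128 CosetCertMcLAmal21P1.points109c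

theorem points110 : AllBelow (pointOk cert 100213 table) 14080 := AllBelow.step points109 128 CosetCertMcLAmal21P1.points110c

theorem points111 : AllBelow (pointOk cert 100213 table) 14208 := AllBelow.step points110 128 CosetCertMcLAmal21P1.points111c

theorem points112 : AllBelow (pointOk cert 100213 table) 14336 := AllBelow.step points111 128 CosetCertMcLAmal21P1.points112c

theorem points113 : AllBelow (pointOk cert 100213 table) 14464 := AllBelow.step points112 128 CosetCertMcLAmal21P1.points113c

theorem points114 : AllBelow (pointOk cert 100213 table) 14592 := AllBelow.step points113 128 CosetCertMcLAmal21P1.points114c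

theorem points115 : AllBelow (pointOk cert 100213 table) 14720 := AllBelow.step points114 128 CosetCertMcLAmal21P1.points115c

theorem points116 : AllBelow (pointOk cert 100213 table) 14848 := AllBelow.step points115 128 CosetCertMcLAmal21P1.points116c

theorem points117 : AllBelow (pointOk cert 100213 table) 14976 := AllBelow.step points116 128 CosetCertMcLAmal21P1.points117c

theorem points118 : AllBelow (pointOk cert 100213 table) 15104 := AllBelow.step points117 128 CosetCertMcLAmal21P1.points118c

theorem points119 : AllBelow (pointOk cert 100213 table) 15232 := AllBelow.step points118 128 CosetCertMcLAmal21P1.points119c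

theorem points120 : AllBelow (pointOk cert 100213 table) 15360 := AllBelow.step points119 128 CosetCertMcLAmal21P1.points120c

theorem points121 : AllBelow (pointOk cert 100213 table) 15488 := AllBelow.step points120 128 CosetCertMcLAmal21P1.points121c

theorem points122 : AllBelow (pointOk cert 100213 table) 15616 := AllBelow.step points121 128 CosetCertMcLAmal21P1.points122c

theorem points123 : AllBelow (pointOk cert 100213 table) 15744 := AllBelow.step points122 128 CosetCertMcLAmal21P1.points123c

theorem points124 : AllBelow (pointOk cert 100213 table) 15872 := AllBelow.step points123 128 CosetCertMcLAmal21P1.points124c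

theorem points125 : AllBelow (pointOk cert 100213 table) 16000 := AllBelow.step points124 128 CosetCertMcLAmal21P2.points125c

theorem points126 : AllBelow (pointOk cert 100213 table) 16128 := AllBelow.step points125 128 CosetCertMcLAmal21P2.points126c

theorem points127 : AllBelow (pointOk cert 100213 table) 16256 := AllBelow.step points126 128 CosetCertMcLAmal21P2.points127c

theorem points128 : AllBelow (pointOk cert 100213 table) 16384 := AllBelow.step points127 128 CosetCertMcLAmal21P2.points128c

theorem points129 : AllBelow (pointOk cert 100213 table) 16512 := AllBelow.step points128 128 CosetCertMcLAmal21P2.points129c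

theorem points130 : AllBelow (pointOk cert 100213 table) 16640 := AllBelow.step points129 128 CosetCertMcLAmal21P2.points130c

theorem points131 : AllBelow (pointOk cert 100213 table) 16768 := AllBelow.step points130 128 CosetCertMcLAmal21P2.points131c

theorem points132 : AllBelow (pointOk cert 100213 table) 16896 := AllBelow.step points131 128 CosetCertMcLAmal21P2.points132c

theorem points133 : AllBelow (pointOk cert 100213 table) 17024 := AllBelow.step points132 128 CosetCertMcLAmal21P2.points133c

theorem points134 : AllBelow (pointOk cert 100213 table) 17152 := AllBelow.step points133 128 CosetCertMcLAmal21P2.points134c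

theorem points135 : AllBelow (pointOk cert 100213 table) 17280 := AllBelow.step points134 128 CosetCertMcLAmal21P2.points135c

theorem points136 : AllBelow (pointOk cert 100213 table) 17408 := AllBelow.step points135 128 CosetCertMcLAmal21P2.points136c

theorem points137 : AllBelow (pointOk cert 100213 table) 17536 := AllBelow.step points136 128 CosetCertMcLAmal21P2.points137c

theorem points138 : AllBelow (pointOk cert 100213 table) 17664 := AllBelow.step points137 128 CosetCertMcLAmal21P2.points138c

theorem points139 : AllBelow (pointOk cert 100213 table) 17792 := AllBelow.step points138 128 CosetCertMcLAmal21P2.points139c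

theorem points140 : AllBelow (pointOk cert 100213 table) 17920 := AllBelow.step points139 128 CosetCertMcLAmal21P2.points140c

theorem points141 : AllBelow (pointOk cert 100213 table) 18048 := AllBelow.step points140 128 CosetCertMcLAmal21P2.points141c

theorem points142 : AllBelow (pointOk cert 100213 table) 18176 := AllBelow.step points141 128 CosetCertMcLAmal21P2.points142c

theorem points143 : AllBelow (pointOk cert 100213 table) 18304 := AllBelow.step points142 128 CosetCertMcLAmal21P2.points143c

theorem points144 : AllBelow (pointOk cert 100213 table) 18432 := AllBelow.step points143 128 CosetCertMcLAmal21P2.points144c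

theorem points145 : AllBelow (pointOk cert 100213 table) 18560 := AllBelow.step points144 128 CosetCertMcLAmal21P2.points145c

theorem points146 : AllBelow (pointOk cert 100213 table) 18688 := AllBelow.step points145 128 CosetCertMcLAmal21P2.points146c

theorem points147 : AllBelow (pointOk cert 100213 table) 18816 := AllBelow.step points146 128 CosetCertMcLAmal21P2.points147c

theorem points148 : AllBelow (pointOk cert 100213 table) 18944 := AllBelow.step points147 128 CosetCertMcLAmal21P2.points148c

theorem points149 : AllBelow (pointOk cert 100213 table) 19072 := AllBelow.step points148 128 CosetCertMcLAmal21P2.points149c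

theorem points150 : AllBelow (pointOk cert 100213 table) 19200 := AllBelow.step points149 128 CosetCertMcLAmal21P2.points150c

theorem points151 : AllBelow (pointOk cert 100213 table) 19328 := AllBelow.step points150 128 CosetCertMcLAmal21P2.points151c

theorem points152 : AllBelow (pointOk cert 100213 table) 19456 := AllBelow.step points151 128 CosetCertMcLAmal21P2.points152c

theorem points153 : AllBelow (pointOk cert 100213 table) 19584 := AllBelow.step points152 128 CosetCertMcLAmal21P2.points153c

theorem points154 : AllBelow (pointOk cert 100213 table) 19712 := AllBelow.step points153 128 CosetCertMcLAmal21P2.points154c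

theorem points155 : AllBelow (pointOk cert 100213 table) 19840 := AllBelow.step points154 128 CosetCertMcLAmal21P2.points155c

theorem points156 : AllBelow (pointOk cert 100213 table) 19968 := AllBelow.step points155 128 CosetCertMcLAmal21P2.points156c

theorem points157 : AllBelow (pointOk cert 100213 table) 20096 := AllBelow.step points156 128 CosetCertMcLAmal21P2.points157c

theorem points158 : AllBelow (pointOk cert 100213 table) 20224 := AllBelow.step points157 128 CosetCertMcLAmal21P2.points158c

theorem points159 : AllBelow (pointOk cert 100213 table) 20352 := AllBelow.step points158 128 CosetCertMcLAmal21P2.points159c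

theorem points160 : AllBelow (pointOk cert 100213 table) 20480 := AllBelow.step points159 128 CosetCertMcLAmal21P2.points160c

theorem points161 : AllBelow (pointOk cert 100213 table) 20608 := AllBelow.step points160 128 CosetCertMcLAmal21P2.points161c

theorem points162 : AllBelow (pointOk cert 100213 table) 20736 := AllBelow.step points161 128 CosetCertMcLAmal21P2.points162c

theorem points163 : AllBelow (pointOk cert 100213 table) 20864 := AllBelow.step points162 128 CosetCertMcLAmal21P2.points163c

theorem points164 : AllBelow (pointOk cert 100213 table) 20992 := AllBelow.step points163 128 CosetCertMcLAmal21P2.points164c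

theorem points165 : AllBelow (pointOk cert 100213 table) 21120 := AllBelow.step points164 128 CosetCertMcLAmal21P2.points165c

theorem points166 : AllBelow (pointOk cert 100213 table) 21248 := AllBelow.step points165 128 CosetCertMcLAmal21P2.points166c

theorem points167 : AllBelow (pointOk cert 100213 table) 21376 := AllBelow.step points166 128 CosetCertMcLAmal21P2.points167c

theorem points168 : AllBelow (pointOk cert 100213 table) 21504 := AllBelow.step points167 128 CosetCertMcLAmal21P2.points168c

theorem points169 : AllBelow (pointOk cert 100213 table) 21632 := AllBelow.step points168 128 CosetCertMcLAmal21P2.points169c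

theorem points170 : AllBelow (pointOk cert 100213 table) 21760 := AllBelow.step points169 128 CosetCertMcLAmal21P2.points170c

theorem points171 : AllBelow (pointOk cert 100213 table) 21888 := AllBelow.step points170 128 CosetCertMcLAmal21P2.points171c

theorem points172 : AllBelow (pointOk cert 100213 table) 22016 := AllBelow.step points171 128 CosetCertMcLAmal21P2.points172c

theorem points173 : AllBelow (pointOk cert 100213 table) 22144 := AllBelow.step points172 128 CosetCertMcLAmal21P2.points173c

theorem points174 : AllBelow (pointOk cert 100213 table) 22272 := AllBelow.step points173 128 CosetCertMcLAmal21P2.points174c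

theorem points175 : AllBelow (pointOk cert 100213 table) 22275 := AllBelow.step points174 3 CosetCertMcLAmal21P2.points175c

/-- The table is closed. -/
theorem closed : Closed cert 100213 table where
  npos := by decide +kernel
  node0 := by decide +kernel
  points := points175
  facts := fun g base h => valid392 g base h

end Cfsg.Agent.CosetCertMcLAmal21
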