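import Cfsg.Agent.Lib.CosetCertO73C0
import Cfsg.Agent.Lib.CosetCertO73P0


/-! Checks of a coset enumeration in the presented group O73. -/

set_option autoImplicit false
set_option maxRecDepth 100000

namespace Cfsg.Agent.CosetCertO73

open Cfsg.Agent.CosetCertCore Cfsg.Agent.CosetCertTable Cfsg.Agent.CosetCertPres Cfsg.Agent.CosetCertO73Data

/-- The facts hold up to `n`. -/
def Valid (n : Nat) : Prop :=
  ∀ {G X : Type} [Group G] [MulAction G X] (g : Nat → G) (base : X),
    Ctx g base cert → AllValid g (nodeVal g base cert) cert n

theorem Valid.step {lo n : Nat} (h : Valid lo) (L : List Nat)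
    (hn : (Nat.beq (lo + L.length) n && checkList cert L lo) = true) : Valid n := by
  rw [Bool.and_eq_true, Nat.beq_eq] at hn
  intro G X _ _ g base hC
  exact hn.1 ▸ checkList_sound g base hC L lo (h g base hC) hn.2

theorem valid0 : Valid 0 := fun _ _ _ _ h => absurd h (Nat.not_lt_zero _)

theorem valid1 : Valid 256 := valid0.step Cfsg.Agent.CosetCertO73C0.just0 Cfsg.Agent.CosetCertO73C0.check0

theorem valid2 : Valid 512 := valid1.step Cfsg.Agent.CosetCertO73C0.just1 Cfsg.Agent.CosetCertO73C0.check1

theorem valid3 : Valid 768 := valid2.step Cfsg.Agent.CosetCertO73C0.just2 Cfsg.Agent.CosetCertO73C0.check2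

theorem valid4 : Valid 1024 := valid3.step Cfsg.Agent.CosetCertO73C0.just3 Cfsg.Agent.CosetCertO73C0.check3

theorem valid5 : Valid 1280 := valid4.step Cfsg.Agent.CosetCertO73C0.just4 Cfsg.Agent.CosetCertO73C0.check4

theorem valid6 : Valid 1536 := valid5.step Cfsg.Agent.CosetCertO73C0.just5 Cfsg.Agent.CosetCertO73C0.check5

theorem valid7 : Valid 1792 := valid6.step Cfsg.Agent.CosetCertO73C0.just6 Cfsg.Agent.CosetCertO73C0.check6

theorem valid8 : Valid 2048 := valid7.step Cfsg.Agent.CosetCertO73C0.just7 Cfsg.Agent.CosetCertO73C0.check7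

theorem valid9 : Valid 2304 := valid8.step Cfsg.Agent.CosetCertO73C0.just8 Cfsg.Agent.CosetCertO73C0.check8

theorem valid10 : Valid 2560 := valid9.step Cfsg.Agent.CosetCertO73C0.just9 Cfsg.Agent.CosetCertO73C0.check9

theorem valid11 : Valid 2782 := valid10.step Cfsg.Agent.CosetCertO73C0.just10 Cfsg.Agent.CosetCertO73C0.check10

theorem points0 : AllBelow (pointOk cert 2782 table) 0 := AllBelow.zero _

theorem points1 : AllBelow (pointOk cert 2782 table) 128 := AllBelow.step points0 128 Cfsg.Agent.CosetCertO73P0.points1c

theorem points2 : AllBelow (pointOk cert 2782 table) 256 := AllBelow.step points1 128 Cfsg.Agent.CosetCertO73P0.points2c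

theorem points3 : AllBelow (pointOk cert 2782 table) 364 := AllBelow.step points2 108 Cfsg.Agent.CosetCertO73P0.points3c

theorem rels0 : AllBelow (relsOk cert.rels table) 0 := AllBelow.zero _

theorem rels1 : AllBelow (relsOk cert.rels table) 128 := AllBelow.step rels0 128 Cfsg.Agent.CosetCertO73P0.rels1c

theorem rels2 : AllBelow (relsOk cert.rels table) 256 := AllBelow.step rels1 128 Cfsg.Agent.CosetCertO73P0.rels2c

theorem rels3 : AllBelow (relsOk cert.rels table) 364 := AllBelow.step rels2 108 Cfsg.Agent.CosetCertO73P0.rels3c

theorem orb0 : AllBelow (orbOk orbTbl roots cert.sgens table) 0 := AllBelow.zero _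

theorem orb1 : AllBelow (orbOk orbTbl roots cert.sgens table) 128 := AllBelow.step orb0 128 Cfsg.Agent.CosetCertO73P0.orb1c

theorem orb2 : AllBelow (orbOk orbTbl roots cert.sgens table) 256 := AllBelow.step orb1 128 Cfsg.Agent.CosetCertO73P0.orb2c

theorem orb3 : AllBelow (orbOk orbTbl roots cert.sgens table) 364 := AllBelow.step orb2 108 Cfsg.Agent.CosetCertO73P0.orb3c

theorem good : pres.Good where
  complete := by decide +kernel
  nodes := by decide +kernel
  symm := by decide +kernel

theorem table_checked : Checked cert 2782 table where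
  npos := by decide +kernel
  gpos := by decide +kernel
  node0 := by decide +kernel
  points := points3
  rels := rels3
  sgens := by decide +kernel
  letters := by decide +kernel

/-- The enumeration. -/
theorem enumerated : Enumerated pres subgens cert 2782 table where
  good := good
  rels := by decide +kernel
  sgens := by decide +kernel
  ng := rfl
  table := table_checked
  facts := fun g base h => valid11 g base h

theorem orbits : AllBelow (orbOk orbTbl roots cert.sgens table) table.N := orb3

theorem count0 : countLabel orbTbl 0 364 = 1 := by decide +kernel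

theorem count1 : countLabel orbTbl 1 364 = 243 := by decide +kernel

theorem count2 : countLabel orbTbl 2 364 = 120 := by decide +kernel

end Cfsg.Agent.CosetCertO73
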