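import Cfsg.Agent.Lib.CosetCertO73Simple
import Cfsg.Agent.Lib.CosetCertRestrict
import Cfsg.Agent.Lib.OrthUnitaryStd

/-! The stabiliser O7(3) inside the presented Fi22, as the projective commutator group. -/

set_option autoImplicit false
set_option maxRecDepth 100000
set_option linter.style.haveILetI false

namespace Cfsg.Agent.CosetCertO73Iso

open Cfsg.Agent.CosetCertCore Cfsg.Agent.CosetCertTable Cfsg.Agent.CosetCertPres
open Cfsg.Agent.CosetCertOrder Cfsg.Agent.CosetCertRestrict
open Cfsg.Agent.OrthUnitaryQuad Cfsg.Agent.OrthUnitaryForms Cfsg.Agent.OrthUnitaryOmega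
open Cfsg.Agent.OrthUnitaryStd

/-- The presentation on eight generators. -/
abbrev K73 : Pres := CosetCertO73Data.pres
/-- The isometry group. -/
abbrev O7 : Subgroup (Matrix.GeneralLinearGroup (Unit ⊕ (Fin 3 ⊕ Fin 3)) (ZMod 3)) :=
  isometryGroup (ZMod 3) (quadFormOdd 3 (ZMod 3))

/-- A finite group mapping onto a span of the same order is isomorphic to it. -/
theorem equiv_span {G : Type} [Group G] (gg : Nat → G) (hinv : ∀ x, gg x * gg x = 1) {Q : Pres}
    (hQ : Q.Good) (hnd : Q.gens.Nodup) (hQl : ∀ e ∈ Q.extra, ∀ x ∈ e.letters, x < Q.gens.length)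
    {σ : List Nat} (hne : σ ≠ []) (hlen : Q.gens.length = σ.length)
    (hrel : ∀ w ∈ Q.relWords, val gg (w.map (ren σ)) = 1) [Finite Q.Grp]
    (hcard : Nat.card Q.Grp ≤ Nat.card (span gg σ)) : Nonempty (Q.Grp ≃* span gg σ) := by
  let f := spanGen gg σ hne
  have hf : ∀ x, f x * f x = 1 := fun x => Subtype.ext (hinv _)
  let Φ : Q.Grp →* span gg σ := PresentedGroup.toGroup (lift_rels hQ hnd f hf
    (fun w hw => Subtype.ext (by rw [spanGen_val, hrel w hw]; rfl)) hQl)
  have hΦ : ∀ x < Q.gens.length, Φ (Q.gg x) = f x := fun x hx => by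
    show Φ (PresentedGroup.of (Q.gen x)) = _
    rw [PresentedGroup.toGroup.of]
    unfold Pres.gen
    rw [List.getD_eq_getElem _ _ hx]
    simp [hnd]
  have hsurj : Function.Surjective Φ := by
    rw [← MonoidHom.range_eq_top, eq_top_iff, ← spanGen_closure gg σ hne, Subgroup.closure_le]
    rintro _ ⟨x, hx, rfl⟩
    exact ⟨Q.gg x, hΦ x (hlen ▸ hx)⟩
  have hfin : Finite (span gg σ) := Finite.of_surjective _ hsurj
  have hbij : Function.Bijective Φ := by
    rw [Nat.bijective_iff_surjective_and_card]
    exact ⟨hsurj, le_antisymm hcard (Nat.card_le_card_of_surjective _ hsurj)⟩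
  exact ⟨MulEquiv.ofBijective Φ hbij⟩

/-- Digit `k` of a packed matrix. -/
def dig (c k : Nat) : Nat := Nat.land (Nat.shiftRight c (2 * k)) 3

/-- The packed identity. -/
def oneC : Nat := 79229371458530977775699951617

/-- The packed isometries. -/
def codes : List Nat := [81745146107631802759380078656, 91648666421917096758531494208, 158458742880744928156292481026, 158467850000871609874499933456, 101532843923088553959535813760, 121339884551659143073972234368, 32188858909998769292689145858, 22285338595714601124775460866]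

/-- Packed isometry number `x`. -/
def code (x : Nat) : Nat := codes.getD x oneC

/-- Entry `(i, j)` of a product of packed matrices, before reduction. -/
def dot (P A i j : Nat) : Nat :=
  dig P (7 * i + 0) * dig A (7 * 0 + j) + dig P (7 * i + 1) * dig A (7 * 1 + j) + dig P (7 * i + 2) * dig A (7 * 2 + j) + dig P (7 * i + 3) * dig A (7 * 3 + j) + dig P (7 * i + 4) * dig A (7 * 4 + j) + dig P (7 * i + 5) * dig A (7 * 5 + j) + dig P (7 * i + 6) * dig A (7 * 6 + j)

/-- A packed product (only used inside checks). -/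
noncomputable def mulC (P A : Nat) : Nat :=
  Nat.rec (motive := fun _ => Nat) 0
    (fun k ih => force ih fun s => force (dot P A (k / 7) (k % 7) % 3) fun d => s + Nat.shiftLeft d (2 * k)) 49

/-- Check that `R` is the product of `P` and `A`. -/
noncomputable def mulOk (P A R : Nat) : Bool :=
  allFrom (fun k => Nat.beq (dot P A (k / 7) (k % 7) % 3) (dig R k % 3)) 49 0

/-- Check that the word `w`, appended to `P`, gives the identity. -/
noncomputable def chk (w : List Nat) : Nat → Bool :=
  List.rec (motive := fun _ => Nat → Bool) (fun P => Nat.beq P oneC)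
    (fun x _ ih P => force (mulC P (code x)) fun R => mulOk P (code x) R && ih R) w

/-- Position of a coordinate. -/
def pos : Unit ⊕ (Fin 3 ⊕ Fin 3) → Fin 7
  | .inl _ => 0
  | .inr (.inl i) => ⟨1 + i.1, by omega⟩
  | .inr (.inr i) => ⟨4 + i.1, by omega⟩

/-- The matrix of a code. -/
def toMat (c : Nat) : Matrix (Unit ⊕ (Fin 3 ⊕ Fin 3)) (Unit ⊕ (Fin 3 ⊕ Fin 3)) (ZMod 3) :=
  Matrix.of fun i j => (dig c (7 * (pos i).1 + (pos j).1) : ZMod 3)

/-- Isometry number `x`. -/
def mat (x : Nat) : Matrix (Unit ⊕ (Fin 3 ⊕ Fin 3)) (Unit ⊕ (Fin 3 ⊕ Fin 3)) (ZMod 3) := toMat (code x)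

theorem toMat_one : toMat oneC = 1 := by decide +kernel

theorem mul_sound {P A R : Nat} (h : mulOk P A R = true) : toMat P * toMat A = toMat R := by
  ext i j
  have hk : 7 * (pos i).1 + (pos j).1 < 49 := by omega
  have h1 := (allFrom_iff _ 49 0).mp h _ (Nat.zero_le _) (by omega)
  rw [Nat.beq_eq, show (7 * (pos i).1 + (pos j).1) / 7 = (pos i).1 by omega,
    show (7 * (pos i).1 + (pos j).1) % 7 = (pos j).1 by omega] at h1
  have h2 : ((dot P A (pos i).1 (pos j).1 : ℕ) : ZMod 3) = (dig R (7 * (pos i).1 + (pos j).1) : ℕ) := by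
    rw [ZMod.natCast_eq_natCast_iff']
    exact h1
  show _ = ((dig R (7 * (pos i).1 + (pos j).1) : ℕ) : ZMod 3)
  rw [← h2, Matrix.mul_apply]
  simp [toMat, dot, pos, Fintype.sum_sum_type, Fin.sum_univ_three, add_assoc]

theorem chk_sound (w : List Nat) (P : Nat) (h : chk w P = true) :
    toMat P * (w.map mat).prod = 1 := by
  induction w generalizing P with
  | nil =>
    simp only [chk, Nat.beq_eq] at h
    rw [h, List.map_nil, List.prod_nil, mul_one, toMat_one]
  | cons x w ih =>
    have h' : (mulOk P (code x) (mulC P (code x)) && chk w (mulC P (code x))) = true := by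
      simpa only [chk, force_eq] using h
    rw [Bool.and_eq_true] at h'
    rw [List.map_cons, List.prod_cons, ← mul_assoc, mat, mul_sound h'.1]
    exact ih _ h'.2

theorem mat_sq (x : Nat) : mat x * mat x = 1 := by
  by_cases hx : x < 8
  · have h : ∀ x < 8, mulOk (code x) (code x) oneC = true := by decide +kernel
    rw [mat, mul_sound (h x hx), toMat_one]
  · rw [mat, code, List.getD_eq_default _ _ (by simp [codes]; omega), toMat_one, one_mul]

/-- The polar form. -/
def gram : Matrix (Unit ⊕ (Fin 3 ⊕ Fin 3)) (Unit ⊕ (Fin 3 ⊕ Fin 3)) (ZMod 3) :=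
  toMat 1237958929057556803023273986

theorem gram_form (v : Unit ⊕ (Fin 3 ⊕ Fin 3) → ZMod 3) :
    dotProduct v (Matrix.mulVec gram v) = 2 * quadFormOdd 3 (ZMod 3) v := by
  simp [gram, toMat, dig, pos, Matrix.mulVec, dotProduct, Fintype.sum_sum_type, Fin.sum_univ_three,
    quadFormOdd]
  ring

theorem mat_gram : ∀ x < 8, (mat x).transpose * gram * mat x = gram := by decide +kernel

theorem mat_isometry (x : Nat) (hx : x < 8) (v : Unit ⊕ (Fin 3 ⊕ Fin 3) → ZMod 3) :
    quadFormOdd 3 (ZMod 3) (Matrix.mulVec (mat x) v) = quadFormOdd 3 (ZMod 3) v := by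
  have h := gram_form (Matrix.mulVec (mat x) v)
  rw [Matrix.mulVec_mulVec, Matrix.dotProduct_mulVec, Matrix.vecMul_mulVec, ← mul_assoc,
    mat_gram x hx, ← Matrix.dotProduct_mulVec, gram_form] at h
  exact (mul_left_cancel₀ (by decide) h).symm

/-- The matrix as an element of the general linear group. -/
def unit (x : Nat) : Matrix.GeneralLinearGroup (Unit ⊕ (Fin 3 ⊕ Fin 3)) (ZMod 3) :=
  ⟨mat x, mat x, mat_sq x, mat_sq x⟩

theorem unit_mem (x : Nat) : unit x ∈ O7 := by
  intro u v
  show quadFormOdd 3 (ZMod 3) (Matrix.mulVec (mat x) u) = _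
  by_cases hx : x < 8
  · exact mat_isometry x hx u
  · rw [mat, code, List.getD_eq_default _ _ (by simp [codes]; omega), toMat_one, Matrix.one_mulVec]

/-- The isometry. -/
def iso (x : Nat) : O7 := ⟨unit x, unit_mem x⟩

theorem iso_sq (x : Nat) : iso x * iso x = 1 := Subtype.ext (Units.ext (mat_sq x))

theorem rel_mat (w : List Nat) (hw : w ∈ Pres.relWords K73) : (w.map mat).prod = 1 := by
  have h := chk_sound w oneC ((by decide +kernel : ∀ w ∈ Pres.relWords K73, chk w oneC = true) w hw)
  rwa [toMat_one, one_mul] at h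

theorem iso_rel (w : List Nat) (hw : w ∈ Pres.relWords K73) : val iso w = 1 := by
  apply Subtype.ext
  apply Units.ext
  have h : ∀ w : List Nat, (val iso w : O7).1.1 = (w.map mat).prod := by
    intro w
    induction w with
    | nil => rfl
    | cons a w ih => rw [val_cons, List.map_cons, List.prod_cons, ← ih]; rfl
  rw [h, rel_mat w hw]
  rfl

theorem card_k : Nat.card (Pres.Grp K73) = 4585351680 := CosetCertO73Simple.card_and_faithful.1

theorem nonabelian : ¬ ∀ a b : Pres.Grp K73, a * b = b * a := by
  intro hcomm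
  haveI := CosetCertO73Simple.simple
  haveI : Finite (Pres.Grp K73) := Nat.finite_of_card_ne_zero (by rw [card_k]; decide)
  letI : CommGroup (Pres.Grp K73) := { (inferInstance : Group (Pres.Grp K73)) with mul_comm := hcomm }
  have hp := IsSimpleGroup.prime_card (α := Pres.Grp K73)
  rw [card_k] at hp
  exact absurd (hp.eq_one_or_self_of_dvd 2 (by norm_num)) (by norm_num)

theorem perfect : commutator (Pres.Grp K73) = ⊤ := by
  haveI := CosetCertO73Simple.simple
  refine (Subgroup.Normal.eq_bot_or_eq_top inferInstance).resolve_left fun h => nonabelian fun a b => ?_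
  rw [commutator_def, Subgroup.commutator_eq_bot_iff_le_centralizer] at h
  exact (Subgroup.mem_centralizer_iff.mp (h (Subgroup.mem_top a)) b (Subgroup.mem_top b)).symm

theorem center_k : Subgroup.center (Pres.Grp K73) = ⊥ := by
  haveI := CosetCertO73Simple.simple
  refine (Subgroup.Normal.eq_bot_or_eq_top inferInstance).resolve_right fun h => nonabelian fun a b => ?_
  exact (Subgroup.mem_center_iff.mp (h ▸ Subgroup.mem_top b) a)

theorem card_omega : Nat.card (Omega (ZMod 3) (quadFormOdd 3 (ZMod 3))) * 4 = 18341406720 := by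
  have h2 : (2 : ZMod 3) ≠ 0 := by decide
  have hnd := nondegenerate_withBase (nondegenerate_qfSq (F := ZMod 3) h2) 3
  have hc := card_isometryGroup_odd (F := ZMod 3) (q := 3) (ZMod.card 3) (by decide) 3
  rw [card_isometryGroup _ _ (eqOdd 3) (eqOdd_isometry 3)] at hc
  have hi : (commutator (orth (withBase 3 (qfSq (ZMod 3))))).index = 4 :=
    (odd_main h2 (isReg_of_nondegenerate hnd)).2 (by rw [finrank_withBase_space]; omega)
  rw [Nat.card_congr (omegaEquiv (withBase 3 (qfSq (ZMod 3))) _ (eqOdd 3) (eqOdd_isometry 3)).toEquiv,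
    ← hi, Subgroup.card_mul_index, hc]
  decide +kernel

/-- The presented subgroup is the projective commutator group. -/
theorem equiv_pomega : Nonempty (Pres.Grp K73 ≃* POmega (ZMod 3) (quadFormOdd 3 (ZMod 3))) := by
  haveI := CosetCertO73Simple.simple
  haveI : Finite (Pres.Grp K73) := Nat.finite_of_card_ne_zero (by rw [card_k]; decide)
  let φ : Pres.Grp K73 →* O7 := PresentedGroup.toGroup
    (lift_rels CosetCertO73.good (by decide +kernel) iso iso_sq iso_rel (by decide +kernel))
  have hφ : φ (PresentedGroup.of (0 : Fin 8)) = iso 0 := PresentedGroup.toGroup.of _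
  have hinj : Function.Injective φ := by
    rw [← MonoidHom.ker_eq_bot_iff]
    refine (Subgroup.Normal.eq_bot_or_eq_top inferInstance).resolve_right fun htop => ?_
    have h1 : φ (PresentedGroup.of (0 : Fin 8)) = 1 := by
      rw [← MonoidHom.mem_ker, htop]; exact Subgroup.mem_top _
    rw [hφ] at h1
    exact absurd (congrArg (fun u : O7 => u.1.1) h1) (by show mat 0 ≠ 1; decide +kernel)
  have hle : φ.range ≤ Omega (ZMod 3) (quadFormOdd 3 (ZMod 3)) := by
    rw [MonoidHom.range_eq_map, ← perfect, commutator_def, Subgroup.map_commutator]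
    exact Subgroup.commutator_mono le_top le_top
  let ψ := φ.codRestrict (Omega (ZMod 3) (quadFormOdd 3 (ZMod 3))) fun x => hle ⟨x, rfl⟩
  have hψ : Function.Injective ψ := fun a b h => hinj (congrArg Subtype.val h)
  haveI : Finite (Omega (ZMod 3) (quadFormOdd 3 (ZMod 3))) :=
    Nat.finite_of_card_ne_zero (by intro h; have := card_omega; omega)
  have hbij : Function.Bijective ψ := by
    rw [Nat.bijective_iff_injective_and_card]
    exact ⟨hψ, card_k.trans (Nat.eq_of_mul_eq_mul_right (by norm_num : 0 < 4)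
      ((by norm_num : (4585351680 : ℕ) * 4 = 18341406720).trans card_omega.symm))⟩
  let e := MulEquiv.ofBijective ψ hbij
  have hc : Subgroup.center (Omega (ZMod 3) (quadFormOdd 3 (ZMod 3))) = ⊥ := by
    rw [eq_bot_iff]
    intro z hz
    have h2 : e.symm z ∈ Subgroup.center (Pres.Grp K73) := by
      rw [Subgroup.mem_center_iff] at hz ⊢
      intro q
      apply e.injective
      rw [map_mul, map_mul, e.apply_symm_apply]
      exact hz (e q)
    rw [center_k, Subgroup.mem_bot] at h2
    rw [Subgroup.mem_bot, ← e.apply_symm_apply z, h2, map_one]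
  exact ⟨e.trans (QuotientGroup.quotientBot.symm.trans (QuotientGroup.quotientMulEquivOfEq hc.symm))⟩

end Cfsg.Agent.CosetCertO73Iso
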