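import Cfsg.Agent.Lib.CosetCertO73SgsData

/-! Checks of the strong generators of O73. -/

set_option autoImplicit false
set_option maxRecDepth 100000
set_option Elab.async false

namespace Cfsg.Agent.CosetCertO73Sgs

open Cfsg.Agent.CosetCertCore Cfsg.Agent.CosetCertTable Cfsg.Agent.CosetCertPres Cfsg.Agent.CosetCertOrder
open Cfsg.Agent.CosetCertO73Data Cfsg.Agent.CosetCertO73SgsData

theorem words_ok : wordsOk elts table = true := by decide +kernel

theorem elt0_0 : AllBelow (eltOk elts table 0) 0 := AllBelow.zero _

theorem elt0_1 : AllBelow (eltOk elts table 0) 256 :=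
  AllBelow.step elt0_0 256 (by decide +kernel)

theorem elt0_2 : AllBelow (eltOk elts table 0) 364 :=
  AllBelow.step elt0_1 108 (by decide +kernel)

theorem elt1_0 : AllBelow (eltOk elts table 1) 0 := AllBelow.zero _

theorem elt1_1 : AllBelow (eltOk elts table 1) 256 :=
  AllBelow.step elt1_0 256 (by decide +kernel)

theorem elt1_2 : AllBelow (eltOk elts table 1) 364 :=
  AllBelow.step elt1_1 108 (by decide +kernel)

theorem elt2_0 : AllBelow (eltOk elts table 2) 0 := AllBelow.zero _

theorem elt2_1 : AllBelow (eltOk elts table 2) 256 :=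
  AllBelow.step elt2_0 256 (by decide +kernel)

theorem elt2_2 : AllBelow (eltOk elts table 2) 364 :=
  AllBelow.step elt2_1 108 (by decide +kernel)

theorem elt3_0 : AllBelow (eltOk elts table 3) 0 := AllBelow.zero _

theorem elt3_1 : AllBelow (eltOk elts table 3) 256 :=
  AllBelow.step elt3_0 256 (by decide +kernel)

theorem elt3_2 : AllBelow (eltOk elts table 3) 364 :=
  AllBelow.step elt3_1 108 (by decide +kernel)

theorem elt4_0 : AllBelow (eltOk elts table 4) 0 := AllBelow.zero _

theorem elt4_1 : AllBelow (eltOk elts table 4) 256 :=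
  AllBelow.step elt4_0 256 (by decide +kernel)

theorem elt4_2 : AllBelow (eltOk elts table 4) 364 :=
  AllBelow.step elt4_1 108 (by decide +kernel)

theorem elt5_0 : AllBelow (eltOk elts table 5) 0 := AllBelow.zero _

theorem elt5_1 : AllBelow (eltOk elts table 5) 256 :=
  AllBelow.step elt5_0 256 (by decide +kernel)

theorem elt5_2 : AllBelow (eltOk elts table 5) 364 :=
  AllBelow.step elt5_1 108 (by decide +kernel)

theorem elt6_0 : AllBelow (eltOk elts table 6) 0 := AllBelow.zero _

theorem elt6_1 : AllBelow (eltOk elts table 6) 256 :=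
  AllBelow.step elt6_0 256 (by decide +kernel)

theorem elt6_2 : AllBelow (eltOk elts table 6) 364 :=
  AllBelow.step elt6_1 108 (by decide +kernel)

theorem elt7_0 : AllBelow (eltOk elts table 7) 0 := AllBelow.zero _

theorem elt7_1 : AllBelow (eltOk elts table 7) 256 :=
  AllBelow.step elt7_0 256 (by decide +kernel)

theorem elt7_2 : AllBelow (eltOk elts table 7) 364 :=
  AllBelow.step elt7_1 108 (by decide +kernel)

theorem elt8_0 : AllBelow (eltOk elts table 8) 0 := AllBelow.zero _

theorem elt8_1 : AllBelow (eltOk elts table 8) 256 :=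
  AllBelow.step elt8_0 256 (by decide +kernel)

theorem elt8_2 : AllBelow (eltOk elts table 8) 364 :=
  AllBelow.step elt8_1 108 (by decide +kernel)

theorem elt9_0 : AllBelow (eltOk elts table 9) 0 := AllBelow.zero _

theorem elt9_1 : AllBelow (eltOk elts table 9) 256 :=
  AllBelow.step elt9_0 256 (by decide +kernel)

theorem elt9_2 : AllBelow (eltOk elts table 9) 364 :=
  AllBelow.step elt9_1 108 (by decide +kernel)

theorem elt10_0 : AllBelow (eltOk elts table 10) 0 := AllBelow.zero _

theorem elt10_1 : AllBelow (eltOk elts table 10) 256 :=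
  AllBelow.step elt10_0 256 (by decide +kernel)

theorem elt10_2 : AllBelow (eltOk elts table 10) 364 :=
  AllBelow.step elt10_1 108 (by decide +kernel)

theorem elt11_0 : AllBelow (eltOk elts table 11) 0 := AllBelow.zero _

theorem elt11_1 : AllBelow (eltOk elts table 11) 256 :=
  AllBelow.step elt11_0 256 (by decide +kernel)

theorem elt11_2 : AllBelow (eltOk elts table 11) 364 :=
  AllBelow.step elt11_1 108 (by decide +kernel)

theorem elt12_0 : AllBelow (eltOk elts table 12) 0 := AllBelow.zero _

theorem elt12_1 : AllBelow (eltOk elts table 12) 256 :=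
  AllBelow.step elt12_0 256 (by decide +kernel)

theorem elt12_2 : AllBelow (eltOk elts table 12) 364 :=
  AllBelow.step elt12_1 108 (by decide +kernel)

theorem elt13_0 : AllBelow (eltOk elts table 13) 0 := AllBelow.zero _

theorem elt13_1 : AllBelow (eltOk elts table 13) 256 :=
  AllBelow.step elt13_0 256 (by decide +kernel)

theorem elt13_2 : AllBelow (eltOk elts table 13) 364 :=
  AllBelow.step elt13_1 108 (by decide +kernel)

theorem elt14_0 : AllBelow (eltOk elts table 14) 0 := AllBelow.zero _

theorem elt14_1 : AllBelow (eltOk elts table 14) 256 :=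
  AllBelow.step elt14_0 256 (by decide +kernel)

theorem elt14_2 : AllBelow (eltOk elts table 14) 364 :=
  AllBelow.step elt14_1 108 (by decide +kernel)

theorem elts_ok : ∀ k, k < elts.words.length → AllBelow (eltOk elts table k) table.N := by
  intro k hk
  have hk' : k < 15 := hk
  match k, hk' with
  | 0, _ => exact elt0_2
  | 1, _ => exact elt1_2
  | 2, _ => exact elt2_2
  | 3, _ => exact elt3_2
  | 4, _ => exact elt4_2
  | 5, _ => exact elt5_2
  | 6, _ => exact elt6_2
  | 7, _ => exact elt7_2
  | 8, _ => exact elt8_2
  | 9, _ => exact elt9_2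
  | 10, _ => exact elt10_2
  | 11, _ => exact elt11_2
  | 12, _ => exact elt12_2
  | 13, _ => exact elt13_2
  | 14, _ => exact elt14_2
  | n + 15, h => omega

theorem fix0 : fixOk elts table [0, 1, 2, 3, 4, 5, 6, 7] [] = true := by decide +kernel

theorem stage0_ok : AllBelow (stageOk elts table stage0 [0, 1, 2, 3, 4, 5, 6, 7] 0) table.N := by
  intro i hi
  exact (allFrom_iff _ table.N 0).mp (by decide +kernel) i (Nat.zero_le i) (by omega)

theorem stage0_count : countLabel stage0 1 table.N = 364 := by decide +kernel

theorem fix1 : fixOk elts table [8, 9, 10, 12, 15, 17, 19, 22] [0] = true := by decide +kernel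

theorem stage1_ok : AllBelow (stageOk elts table stage1 [8, 9, 10, 12, 15, 17, 19, 22] 1) table.N := by
  intro i hi
  exact (allFrom_iff _ table.N 0).mp (by decide +kernel) i (Nat.zero_le i) (by omega)

theorem stage1_count : countLabel stage1 1 table.N = 243 := by decide +kernel

theorem fix2 : fixOk elts table [9, 10, 12, 15, 17, 19, 22] [1, 0] = true := by decide +kernel

theorem stage2_ok : AllBelow (stageOk elts table stage2 [9, 10, 12, 15, 17, 19, 22] 2) table.N := by
  intro i hi
  exact (allFrom_iff _ table.N 0).mp (by decide +kernel) i (Nat.zero_le i) (by omega)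

theorem stage2_count : countLabel stage2 1 table.N = 72 := by decide +kernel

theorem fix3 : fixOk elts table [15, 17, 19, 22] [2, 1, 0] = true := by decide +kernel

theorem stage3_ok : AllBelow (stageOk elts table stage3 [15, 17, 19, 22] 3) table.N := by
  intro i hi
  exact (allFrom_iff _ table.N 0).mp (by decide +kernel) i (Nat.zero_le i) (by omega)

theorem stage3_count : countLabel stage3 1 table.N = 20 := by decide +kernel

theorem fix4 : fixOk elts table [17, 19, 22] [3, 2, 1, 0] = true := by decide +kernel

theorem stage4_ok : AllBelow (stageOk elts table stage4 [17, 19, 22] 4) table.N := by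
  intro i hi
  exact (allFrom_iff _ table.N 0).mp (by decide +kernel) i (Nat.zero_le i) (by omega)

theorem stage4_count : countLabel stage4 1 table.N = 9 := by decide +kernel

theorem fix5 : fixOk elts table [19, 22] [4, 3, 2, 1, 0] = true := by decide +kernel

theorem stage5_ok : AllBelow (stageOk elts table stage5 [19, 22] 6) table.N := by
  intro i hi
  exact (allFrom_iff _ table.N 0).mp (by decide +kernel) i (Nat.zero_le i) (by omega)

theorem stage5_count : countLabel stage5 1 table.N = 2 := by decide +kernel

theorem fix6 : fixOk elts table [22] [6, 4, 3, 2, 1, 0] = true := by decide +kernel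

theorem stage6_ok : AllBelow (stageOk elts table stage6 [22] 5) table.N := by
  intro i hi
  exact (allFrom_iff _ table.N 0).mp (by decide +kernel) i (Nat.zero_le i) (by omega)

theorem stage6_count : countLabel stage6 1 table.N = 2 := by decide +kernel

end Cfsg.Agent.CosetCertO73Sgs
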