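import Cfsg.Agent.Lib.CosetCertO73Sgs
import Cfsg.Agent.Lib.CosetCertFi22S1
import Cfsg.Agent.Lib.CosetCertFi22S2
import Cfsg.Agent.Lib.CosetCertFi22S3
import Cfsg.Agent.Lib.CosetCertFi22S4
import Cfsg.Agent.Lib.CosetCertO73Q
import Cfsg.Agent.Lib.CosetCertO73

/-! Order and simplicity of the presented group O73. -/

set_option autoImplicit false
set_option maxRecDepth 100000

namespace Cfsg.Agent.CosetCertO73Simple

open Cfsg.Agent.CosetCertCore Cfsg.Agent.CosetCertTable Cfsg.Agent.CosetCertPres Cfsg.Agent.CosetCertOrder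

theorem good : CosetCertO73Data.pres.Good := CosetCertO73.good

theorem invol : ∀ x, CosetCertO73Data.pres.gg x * CosetCertO73Data.pres.gg x = 1 := gg_sq good

/-- All words lie among the relator words, after renumbering. -/
theorem rels_of {C : Cert} {σ : List Nat} (extra : List (List Nat))
    (hx : ∀ w ∈ extra, val CosetCertO73Data.pres.gg w = 1)
    (h : (C.rels.all fun w => decide (w.map (ren σ) ∈ CosetCertO73Data.pres.relWords ++ extra)) = true) :
    ∀ w ∈ C.rels, val CosetCertO73Data.pres.gg (w.map (ren σ)) = 1 := by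
  intro w hw
  simp only [List.all_eq_true, decide_eq_true_eq] at h
  rcases List.mem_append.mp (h w hw) with h1 | h1
  · exact val_relWords good h1
  · exact hx _ h1

theorem sgens_of {C : Cert} {σ τ : List Nat}
    (h : C.sgens.map (List.map (ren σ)) = τ.map fun i => [i]) :
    ∀ w ∈ C.sgens, val CosetCertO73Data.pres.gg (w.map (ren σ)) ∈ span CosetCertO73Data.pres.gg τ := by
  intro w hw
  have h1 : w.map (ren σ) ∈ τ.map fun i => [i] := h ▸ List.mem_map_of_mem hw
  obtain ⟨i, hi, hiw⟩ := List.mem_map.mp h1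
  rw [← hiw, val_cons, val_nil, mul_one]
  exact Subgroup.subset_closure ⟨i, hi, rfl⟩

theorem boundS4 : Finite (span CosetCertO73Data.pres.gg [2, 3, 4, 5, 6]) ∧ Nat.card (span CosetCertO73Data.pres.gg [2, 3, 4, 5, 6]) ≤ 720 := by
  have h := span_card_le CosetCertO73Data.pres.gg invol CosetCertFi22S4.closed (σ := [2, 3, 4, 5, 6]) (by decide +kernel) (by simp)
    (rels_of [] (by simp) (by decide +kernel)) (τ := []) (by decide +kernel) (sgens_of (by decide +kernel))
    (span_nil_card _)
  exact ⟨h.1, h.2.trans_eq (by decide +kernel)⟩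

theorem boundS3 : Finite (span CosetCertO73Data.pres.gg [1, 2, 3, 4, 5, 6]) ∧ Nat.card (span CosetCertO73Data.pres.gg [1, 2, 3, 4, 5, 6]) ≤ 23040 := by
  have h := span_card_le CosetCertO73Data.pres.gg invol CosetCertFi22S3.closed (σ := [1, 2, 3, 4, 5, 6]) (by decide +kernel) (by simp)
    (rels_of [] (by simp) (by decide +kernel)) (τ := [2, 3, 4, 5, 6]) (by decide +kernel) (sgens_of (by decide +kernel))
    boundS4
  exact ⟨h.1, h.2.trans_eq (by decide +kernel)⟩

theorem boundS2 : Finite (span CosetCertO73Data.pres.gg [0, 1, 2, 3, 4, 5, 6]) ∧ Nat.card (span CosetCertO73Data.pres.gg [0, 1, 2, 3, 4, 5, 6]) ≤ 1451520 := by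
  have h := span_card_le CosetCertO73Data.pres.gg invol CosetCertFi22S2.closed (σ := [0, 1, 2, 3, 4, 5, 6]) (by decide +kernel) (by simp)
    (rels_of [] (by simp) (by decide +kernel)) (τ := [1, 2, 3, 4, 5, 6]) (by decide +kernel) (sgens_of (by decide +kernel))
    boundS3
  exact ⟨h.1, h.2.trans_eq (by decide +kernel)⟩

theorem boundS1 : Finite (span CosetCertO73Data.pres.gg [0, 1, 2, 3, 4, 5, 6, 7]) ∧ Nat.card (span CosetCertO73Data.pres.gg [0, 1, 2, 3, 4, 5, 6, 7]) ≤ 4585351680 := by
  have h := span_card_le CosetCertO73Data.pres.gg invol CosetCertFi22S1.closed (σ := [0, 1, 2, 3, 4, 5, 6, 7]) (by decide +kernel) (by simp)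
    (rels_of [] (by simp) (by decide +kernel)) (τ := [0, 1, 2, 3, 4, 5, 6]) (by decide +kernel) (sgens_of (by decide +kernel))
    boundS2
  exact ⟨h.1, h.2.trans_eq (by decide +kernel)⟩

theorem upper : Finite CosetCertO73Data.pres.Grp ∧ Nat.card CosetCertO73Data.pres.Grp ≤ 4585351680 :=
  card_le_of_span_all good boundS1

theorem lower6 : 2 ≤ Nat.card (fixing (rho CosetCertO73.enumerated).range [6, 4, 3, 2, 1, 0]) :=
  le_of_eq_of_le (by decide +kernel) (stage_le CosetCertO73.enumerated (E := CosetCertO73SgsData.elts) CosetCertO73Sgs.words_ok CosetCertO73Sgs.elts_ok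
    (b := 5) (n := 2) (by decide +kernel) CosetCertO73Sgs.fix6 CosetCertO73Sgs.stage6_ok CosetCertO73Sgs.stage6_count (Nat.succ_le_of_lt Nat.card_pos))

theorem lower5 : 4 ≤ Nat.card (fixing (rho CosetCertO73.enumerated).range [4, 3, 2, 1, 0]) :=
  le_of_eq_of_le (by decide +kernel) (stage_le CosetCertO73.enumerated (E := CosetCertO73SgsData.elts) CosetCertO73Sgs.words_ok CosetCertO73Sgs.elts_ok
    (b := 6) (n := 2) (by decide +kernel) CosetCertO73Sgs.fix5 CosetCertO73Sgs.stage5_ok CosetCertO73Sgs.stage5_count lower6)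

theorem lower4 : 36 ≤ Nat.card (fixing (rho CosetCertO73.enumerated).range [3, 2, 1, 0]) :=
  le_of_eq_of_le (by decide +kernel) (stage_le CosetCertO73.enumerated (E := CosetCertO73SgsData.elts) CosetCertO73Sgs.words_ok CosetCertO73Sgs.elts_ok
    (b := 4) (n := 9) (by decide +kernel) CosetCertO73Sgs.fix4 CosetCertO73Sgs.stage4_ok CosetCertO73Sgs.stage4_count lower5)

theorem lower3 : 720 ≤ Nat.card (fixing (rho CosetCertO73.enumerated).range [2, 1, 0]) :=
  le_of_eq_of_le (by decide +kernel) (stage_le CosetCertO73.enumerated (E := CosetCertO73SgsData.elts) CosetCertO73Sgs.words_ok CosetCertO73Sgs.elts_ok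
    (b := 3) (n := 20) (by decide +kernel) CosetCertO73Sgs.fix3 CosetCertO73Sgs.stage3_ok CosetCertO73Sgs.stage3_count lower4)

theorem lower2 : 51840 ≤ Nat.card (fixing (rho CosetCertO73.enumerated).range [1, 0]) :=
  le_of_eq_of_le (by decide +kernel) (stage_le CosetCertO73.enumerated (E := CosetCertO73SgsData.elts) CosetCertO73Sgs.words_ok CosetCertO73Sgs.elts_ok
    (b := 2) (n := 72) (by decide +kernel) CosetCertO73Sgs.fix2 CosetCertO73Sgs.stage2_ok CosetCertO73Sgs.stage2_count lower3)

theorem lower1 : 12597120 ≤ Nat.card (fixing (rho CosetCertO73.enumerated).range [0]) :=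
  le_of_eq_of_le (by decide +kernel) (stage_le CosetCertO73.enumerated (E := CosetCertO73SgsData.elts) CosetCertO73Sgs.words_ok CosetCertO73Sgs.elts_ok
    (b := 1) (n := 243) (by decide +kernel) CosetCertO73Sgs.fix1 CosetCertO73Sgs.stage1_ok CosetCertO73Sgs.stage1_count lower2)

theorem lower0 : 4585351680 ≤ Nat.card (fixing (rho CosetCertO73.enumerated).range []) :=
  le_of_eq_of_le (by decide +kernel) (stage_le CosetCertO73.enumerated (E := CosetCertO73SgsData.elts) CosetCertO73Sgs.words_ok CosetCertO73Sgs.elts_ok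
    (b := 0) (n := 364) (by decide +kernel) CosetCertO73Sgs.fix0 CosetCertO73Sgs.stage0_ok CosetCertO73Sgs.stage0_count lower1)

theorem card_and_faithful :
    Nat.card CosetCertO73Data.pres.Grp = 4585351680 ∧ Function.Injective (rho CosetCertO73.enumerated) :=
  card_eq_and_injective CosetCertO73.enumerated upper lower0

theorem maximal (U : Subgroup CosetCertO73Data.pres.Grp) (hU : CosetCertO73Data.pres.sub CosetCertO73Data.subgens ≤ U) :
    U = CosetCertO73Data.pres.sub CosetCertO73Data.subgens ∨ U = ⊤ :=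
  block_cases CosetCertO73.enumerated CosetCertO73.orbits (by decide +kernel) (by decide +kernel) (by decide +kernel)
    (by unfold GoodBlocks; decide +kernel) U hU

theorem run_w : ∀ i < CosetCertO73Data.table.N,
    CosetCertO73Data.table.run (List.replicate 13 [7, 5, 7, 6, 1, 7, 0, 6, 3, 6, 4, 2]).flatten i = i := by
  intro i hi
  have h := (allFrom_iff (fun i => Nat.beq (CosetCertO73Data.table.run (List.replicate 13 [7, 5, 7, 6, 1, 7, 0, 6, 3, 6, 4, 2]).flatten i) i)
    CosetCertO73Data.table.N 0).mp (by decide +kernel) i (Nat.zero_le i) (by omega)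
  exact Nat.beq_eq.mp h

theorem simple : IsSimpleGroup CosetCertO73Data.pres.Grp :=
  isSimpleGroup CosetCertO73.enumerated card_and_faithful.2 maximal card_and_faithful.1 (p := 13)
    (by norm_num) (by decide +kernel) (by decide +kernel) (by decide +kernel) [7, 5, 7, 6, 1, 7, 0, 6, 3, 6, 4, 2] run_w (by decide +kernel)
    CosetCertO73Q.closed (by decide +kernel) (by decide +kernel)
    (fun r hr => List.mem_cons.mp ((by decide +kernel :
      ∀ r ∈ CosetCertO73QData.cert.rels, r ∈ [7, 5, 7, 6, 1, 7, 0, 6, 3, 6, 4, 2] :: CosetCertO73Data.pres.relWords) r hr) |>.symm)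
    (by decide +kernel)

end Cfsg.Agent.CosetCertO73Simple
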