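import Cfsg.Agent.Lib.CosetCertON90C0
import Cfsg.Agent.Lib.CosetCertON90C1
import Cfsg.Agent.Lib.CosetCertON90C2
import Cfsg.Agent.Lib.CosetCertON90C3
import Cfsg.Agent.Lib.CosetCertON90C4
import Cfsg.Agent.Lib.CosetCertON90C5
import Cfsg.Agent.Lib.CosetCertON90C6
import Cfsg.Agent.Lib.CosetCertON90C7
import Cfsg.Agent.Lib.CosetCertON90C8
import Cfsg.Agent.Lib.CosetCertON90C9
import Cfsg.Agent.Lib.CosetCertON90C10
import Cfsg.Agent.Lib.CosetCertON90C11
import Cfsg.Agent.Lib.CosetCertON90C12
import Cfsg.Agent.Lib.CosetCertON90C13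
import Cfsg.Agent.Lib.CosetCertON90C14
import Cfsg.Agent.Lib.CosetCertON90C15
import Cfsg.Agent.Lib.CosetCertON90C16
import Cfsg.Agent.Lib.CosetCertON90C17
import Cfsg.Agent.Lib.CosetCertON90C18
import Cfsg.Agent.Lib.CosetCertON90C19
import Cfsg.Agent.Lib.CosetCertON90C20
import Cfsg.Agent.Lib.CosetCertON90C21
import Cfsg.Agent.Lib.CosetCertON90C22
import Cfsg.Agent.Lib.CosetCertON90C23
import Cfsg.Agent.Lib.CosetCertON90C24
import Cfsg.Agent.Lib.CosetCertON90C25
import Cfsg.Agent.Lib.CosetCertON90C26
import Cfsg.Agent.Lib.CosetCertON90C27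
import Cfsg.Agent.Lib.CosetCertON90C28

/-! A coset enumeration in the presented O'Nan group over the subgroup generated by a, b, c, d, e, f.
The data only feeds a checker; nothing here is assumed. -/

set_option autoImplicit false
set_option maxRecDepth 100000

namespace Cfsg.Agent.CosetCertON90

open Cfsg.Agent.CosetCertCore Cfsg.Agent.CosetCertTable Cfsg.Agent.CosetCertDir90

/-- Every fact holds. -/
theorem valid : Cfsg.Agent.CosetCertON90Data.Valid 694576 := by
  have h : Cfsg.Agent.CosetCertON90Data.Valid 0 := ⟨fun _ _ _ _ h => absurd h (Nat.not_lt_zero _)⟩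
  replace h := Cfsg.Agent.CosetCertON90C0.block h
  replace h := Cfsg.Agent.CosetCertON90C1.block h
  replace h := Cfsg.Agent.CosetCertON90C2.block h
  replace h := Cfsg.Agent.CosetCertON90C3.block h
  replace h := Cfsg.Agent.CosetCertON90C4.block h
  replace h := Cfsg.Agent.CosetCertON90C5.block h
  replace h := Cfsg.Agent.CosetCertON90C6.block h
  replace h := Cfsg.Agent.CosetCertON90C7.block h
  replace h := Cfsg.Agent.CosetCertON90C8.block h
  replace h := Cfsg.Agent.CosetCertON90C9.block h
  replace h := Cfsg.Agent.CosetCertON90C10.block h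
  replace h := Cfsg.Agent.CosetCertON90C11.block h
  replace h := Cfsg.Agent.CosetCertON90C12.block h
  replace h := Cfsg.Agent.CosetCertON90C13.block h
  replace h := Cfsg.Agent.CosetCertON90C14.block h
  replace h := Cfsg.Agent.CosetCertON90C15.block h
  replace h := Cfsg.Agent.CosetCertON90C16.block h
  replace h := Cfsg.Agent.CosetCertON90C17.block h
  replace h := Cfsg.Agent.CosetCertON90C18.block h
  replace h := Cfsg.Agent.CosetCertON90C19.block h
  replace h := Cfsg.Agent.CosetCertON90C20.block h
  replace h := Cfsg.Agent.CosetCertON90C21.block h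
  replace h := Cfsg.Agent.CosetCertON90C22.block h
  replace h := Cfsg.Agent.CosetCertON90C23.block h
  replace h := Cfsg.Agent.CosetCertON90C24.block h
  replace h := Cfsg.Agent.CosetCertON90C25.block h
  replace h := Cfsg.Agent.CosetCertON90C26.block h
  replace h := Cfsg.Agent.CosetCertON90C27.block h
  replace h := Cfsg.Agent.CosetCertON90C28.block h
  exact h

end Cfsg.Agent.CosetCertON90
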