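import Cfsg.Agent.Lib.CosetCertON90Link

/-! Matching of the coset enumeration of the presented O'Nan group with the permutation table.
The data only feeds a checker; nothing here is assumed. -/

set_option autoImplicit false
set_option maxRecDepth 100000
set_option Elab.async false

namespace Cfsg.Agent.CosetCertON90L0

open Cfsg.Agent.CosetCertCore Cfsg.Agent.CosetCertTable Cfsg.Agent.CosetCertON90Data Cfsg.Agent.CosetCertON90Link

theorem link0 : allFrom linkOk 256 0 = true := by decide +kernel

theorem link1 : allFrom linkOk 256 256 = true := by decide +kernel

theorem link2 : allFrom linkOk 256 512 = true := by decide +kernel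

theorem link3 : allFrom linkOk 256 768 = true := by decide +kernel

theorem link4 : allFrom linkOk 256 1024 = true := by decide +kernel

theorem link5 : allFrom linkOk 256 1280 = true := by decide +kernel

theorem link6 : allFrom linkOk 256 1536 = true := by decide +kernel

theorem link7 : allFrom linkOk 256 1792 = true := by decide +kernel

theorem link8 : allFrom linkOk 256 2048 = true := by decide +kernel

theorem link9 : allFrom linkOk 256 2304 = true := by decide +kernel

theorem link10 : allFrom linkOk 256 2560 = true := by decide +kernel

theorem link11 : allFrom linkOk 256 2816 = true := by decide +kernel

theorem link12 : allFrom linkOk 256 3072 = true := by decide +kernel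

theorem link13 : allFrom linkOk 256 3328 = true := by decide +kernel

theorem link14 : allFrom linkOk 256 3584 = true := by decide +kernel

theorem link15 : allFrom linkOk 256 3840 = true := by decide +kernel

theorem link16 : allFrom linkOk 256 4096 = true := by decide +kernel

theorem link17 : allFrom linkOk 256 4352 = true := by decide +kernel

theorem link18 : allFrom linkOk 256 4608 = true := by decide +kernel

theorem link19 : allFrom linkOk 256 4864 = true := by decide +kernel

theorem link20 : allFrom linkOk 256 5120 = true := by decide +kernel

theorem link21 : allFrom linkOk 256 5376 = true := by decide +kernel

theorem link22 : allFrom linkOk 256 5632 = true := by decide +kernel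

theorem link23 : allFrom linkOk 256 5888 = true := by decide +kernel

theorem link24 : allFrom linkOk 256 6144 = true := by decide +kernel

theorem link25 : allFrom linkOk 256 6400 = true := by decide +kernel

theorem link26 : allFrom linkOk 256 6656 = true := by decide +kernel

theorem link27 : allFrom linkOk 256 6912 = true := by decide +kernel

theorem link28 : allFrom linkOk 256 7168 = true := by decide +kernel

theorem link29 : allFrom linkOk 256 7424 = true := by decide +kernel

theorem link30 : allFrom linkOk 256 7680 = true := by decide +kernel

theorem link31 : allFrom linkOk 256 7936 = true := by decide +kernel

theorem link32 : allFrom linkOk 256 8192 = true := by decide +kernel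

theorem link33 : allFrom linkOk 256 8448 = true := by decide +kernel

theorem link34 : allFrom linkOk 256 8704 = true := by decide +kernel

theorem link35 : allFrom linkOk 256 8960 = true := by decide +kernel

theorem link36 : allFrom linkOk 256 9216 = true := by decide +kernel

theorem link37 : allFrom linkOk 256 9472 = true := by decide +kernel

theorem link38 : allFrom linkOk 256 9728 = true := by decide +kernel

theorem link39 : allFrom linkOk 256 9984 = true := by decide +kernel

theorem link40 : allFrom linkOk 256 10240 = true := by decide +kernel

theorem link41 : allFrom linkOk 256 10496 = true := by decide +kernel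

theorem link42 : allFrom linkOk 256 10752 = true := by decide +kernel

theorem link43 : allFrom linkOk 256 11008 = true := by decide +kernel

theorem link44 : allFrom linkOk 256 11264 = true := by decide +kernel

theorem link45 : allFrom linkOk 256 11520 = true := by decide +kernel

theorem link46 : allFrom linkOk 256 11776 = true := by decide +kernel

theorem link47 : allFrom linkOk 256 12032 = true := by decide +kernel

theorem link48 : allFrom linkOk 256 12288 = true := by decide +kernel

theorem link49 : allFrom linkOk 256 12544 = true := by decide +kernel

theorem link50 : allFrom linkOk 256 12800 = true := by decide +kernel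

theorem link51 : allFrom linkOk 256 13056 = true := by decide +kernel

theorem link52 : allFrom linkOk 256 13312 = true := by decide +kernel

theorem link53 : allFrom linkOk 256 13568 = true := by decide +kernel

theorem link54 : allFrom linkOk 256 13824 = true := by decide +kernel

theorem link55 : allFrom linkOk 256 14080 = true := by decide +kernel

theorem link56 : allFrom linkOk 256 14336 = true := by decide +kernel

theorem link57 : allFrom linkOk 256 14592 = true := by decide +kernel

theorem link58 : allFrom linkOk 256 14848 = true := by decide +kernel

theorem link59 : allFrom linkOk 256 15104 = true := by decide +kernel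

/-- The points below 15360 pass. -/
theorem block (h : AllBelow linkOk 0) : AllBelow linkOk 15360 := by
  replace h : AllBelow linkOk 256 := h.step 256 link0
  replace h : AllBelow linkOk 512 := h.step 256 link1
  replace h : AllBelow linkOk 768 := h.step 256 link2
  replace h : AllBelow linkOk 1024 := h.step 256 link3
  replace h : AllBelow linkOk 1280 := h.step 256 link4
  replace h : AllBelow linkOk 1536 := h.step 256 link5
  replace h : AllBelow linkOk 1792 := h.step 256 link6
  replace h : AllBelow linkOk 2048 := h.step 256 link7
  replace h : AllBelow linkOk 2304 := h.step 256 link8
  replace h : AllBelow linkOk 2560 := h.step 256 link9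
  replace h : AllBelow linkOk 2816 := h.step 256 link10
  replace h : AllBelow linkOk 3072 := h.step 256 link11
  replace h : AllBelow linkOk 3328 := h.step 256 link12
  replace h : AllBelow linkOk 3584 := h.step 256 link13
  replace h : AllBelow linkOk 3840 := h.step 256 link14
  replace h : AllBelow linkOk 4096 := h.step 256 link15
  replace h : AllBelow linkOk 4352 := h.step 256 link16
  replace h : AllBelow linkOk 4608 := h.step 256 link17
  replace h : AllBelow linkOk 4864 := h.step 256 link18
  replace h : AllBelow linkOk 5120 := h.step 256 link19
  replace h : AllBelow linkOk 5376 := h.step 256 link20
  replace h : AllBelow linkOk 5632 := h.step 256 link21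
  replace h : AllBelow linkOk 5888 := h.step 256 link22
  replace h : AllBelow linkOk 6144 := h.step 256 link23
  replace h : AllBelow linkOk 6400 := h.step 256 link24
  replace h : AllBelow linkOk 6656 := h.step 256 link25
  replace h : AllBelow linkOk 6912 := h.step 256 link26
  replace h : AllBelow linkOk 7168 := h.step 256 link27
  replace h : AllBelow linkOk 7424 := h.step 256 link28
  replace h : AllBelow linkOk 7680 := h.step 256 link29
  replace h : AllBelow linkOk 7936 := h.step 256 link30
  replace h : AllBelow linkOk 8192 := h.step 256 link31
  replace h : AllBelow linkOk 8448 := h.step 256 link32
  replace h : AllBelow linkOk 8704 := h.step 256 link33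
  replace h : AllBelow linkOk 8960 := h.step 256 link34
  replace h : AllBelow linkOk 9216 := h.step 256 link35
  replace h : AllBelow linkOk 9472 := h.step 256 link36
  replace h : AllBelow linkOk 9728 := h.step 256 link37
  replace h : AllBelow linkOk 9984 := h.step 256 link38
  replace h : AllBelow linkOk 10240 := h.step 256 link39
  replace h : AllBelow linkOk 10496 := h.step 256 link40
  replace h : AllBelow linkOk 10752 := h.step 256 link41
  replace h : AllBelow linkOk 11008 := h.step 256 link42
  replace h : AllBelow linkOk 11264 := h.step 256 link43
  replace h : AllBelow linkOk 11520 := h.step 256 link44
  replace h : AllBelow linkOk 11776 := h.step 256 link45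
  replace h : AllBelow linkOk 12032 := h.step 256 link46
  replace h : AllBelow linkOk 12288 := h.step 256 link47
  replace h : AllBelow linkOk 12544 := h.step 256 link48
  replace h : AllBelow linkOk 12800 := h.step 256 link49
  replace h : AllBelow linkOk 13056 := h.step 256 link50
  replace h : AllBelow linkOk 13312 := h.step 256 link51
  replace h : AllBelow linkOk 13568 := h.step 256 link52
  replace h : AllBelow linkOk 13824 := h.step 256 link53
  replace h : AllBelow linkOk 14080 := h.step 256 link54
  replace h : AllBelow linkOk 14336 := h.step 256 link55
  replace h : AllBelow linkOk 14592 := h.step 256 link56
  replace h : AllBelow linkOk 14848 := h.step 256 link57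
  replace h : AllBelow linkOk 15104 := h.step 256 link58
  replace h : AllBelow linkOk 15360 := h.step 256 link59
  exact h

end Cfsg.Agent.CosetCertON90L0
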