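import Cfsg.Agent.Lib.CosetCertON90Link

/-! Matching of the coset enumeration of the presented O'Nan group with the permutation table.
The data only feeds a checker; nothing here is assumed. -/

set_option autoImplicit false
set_option maxRecDepth 100000
set_option Elab.async false

namespace Cfsg.Agent.CosetCertON90L1

open Cfsg.Agent.CosetCertCore Cfsg.Agent.CosetCertTable Cfsg.Agent.CosetCertON90Data Cfsg.Agent.CosetCertON90Link

theorem link0 : allFrom linkOk 256 15360 = true := by decide +kernel

theorem link1 : allFrom linkOk 256 15616 = true := by decide +kernel

theorem link2 : allFrom linkOk 256 15872 = true := by decide +kernel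

theorem link3 : allFrom linkOk 256 16128 = true := by decide +kernel

theorem link4 : allFrom linkOk 256 16384 = true := by decide +kernel

theorem link5 : allFrom linkOk 256 16640 = true := by decide +kernel

theorem link6 : allFrom linkOk 256 16896 = true := by decide +kernel

theorem link7 : allFrom linkOk 256 17152 = true := by decide +kernel

theorem link8 : allFrom linkOk 256 17408 = true := by decide +kernel

theorem link9 : allFrom linkOk 256 17664 = true := by decide +kernel

theorem link10 : allFrom linkOk 256 17920 = true := by decide +kernel

theorem link11 : allFrom linkOk 256 18176 = true := by decide +kernel

theorem link12 : allFrom linkOk 256 18432 = true := by decide +kernel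

theorem link13 : allFrom linkOk 256 18688 = true := by decide +kernel

theorem link14 : allFrom linkOk 256 18944 = true := by decide +kernel

theorem link15 : allFrom linkOk 256 19200 = true := by decide +kernel

theorem link16 : allFrom linkOk 256 19456 = true := by decide +kernel

theorem link17 : allFrom linkOk 256 19712 = true := by decide +kernel

theorem link18 : allFrom linkOk 256 19968 = true := by decide +kernel

theorem link19 : allFrom linkOk 256 20224 = true := by decide +kernel

theorem link20 : allFrom linkOk 256 20480 = true := by decide +kernel

theorem link21 : allFrom linkOk 256 20736 = true := by decide +kernel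

theorem link22 : allFrom linkOk 256 20992 = true := by decide +kernel

theorem link23 : allFrom linkOk 256 21248 = true := by decide +kernel

theorem link24 : allFrom linkOk 256 21504 = true := by decide +kernel

theorem link25 : allFrom linkOk 256 21760 = true := by decide +kernel

theorem link26 : allFrom linkOk 256 22016 = true := by decide +kernel

theorem link27 : allFrom linkOk 256 22272 = true := by decide +kernel

theorem link28 : allFrom linkOk 256 22528 = true := by decide +kernel

theorem link29 : allFrom linkOk 256 22784 = true := by decide +kernel

theorem link30 : allFrom linkOk 256 23040 = true := by decide +kernel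

theorem link31 : allFrom linkOk 256 23296 = true := by decide +kernel

theorem link32 : allFrom linkOk 256 23552 = true := by decide +kernel

theorem link33 : allFrom linkOk 256 23808 = true := by decide +kernel

theorem link34 : allFrom linkOk 256 24064 = true := by decide +kernel

theorem link35 : allFrom linkOk 256 24320 = true := by decide +kernel

theorem link36 : allFrom linkOk 256 24576 = true := by decide +kernel

theorem link37 : allFrom linkOk 256 24832 = true := by decide +kernel

theorem link38 : allFrom linkOk 256 25088 = true := by decide +kernel

theorem link39 : allFrom linkOk 256 25344 = true := by decide +kernel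

theorem link40 : allFrom linkOk 256 25600 = true := by decide +kernel

theorem link41 : allFrom linkOk 256 25856 = true := by decide +kernel

theorem link42 : allFrom linkOk 256 26112 = true := by decide +kernel

theorem link43 : allFrom linkOk 256 26368 = true := by decide +kernel

theorem link44 : allFrom linkOk 256 26624 = true := by decide +kernel

theorem link45 : allFrom linkOk 256 26880 = true := by decide +kernel

theorem link46 : allFrom linkOk 256 27136 = true := by decide +kernel

theorem link47 : allFrom linkOk 256 27392 = true := by decide +kernel

theorem link48 : allFrom linkOk 256 27648 = true := by decide +kernel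

theorem link49 : allFrom linkOk 256 27904 = true := by decide +kernel

theorem link50 : allFrom linkOk 256 28160 = true := by decide +kernel

theorem link51 : allFrom linkOk 256 28416 = true := by decide +kernel

theorem link52 : allFrom linkOk 256 28672 = true := by decide +kernel

theorem link53 : allFrom linkOk 256 28928 = true := by decide +kernel

theorem link54 : allFrom linkOk 256 29184 = true := by decide +kernel

theorem link55 : allFrom linkOk 256 29440 = true := by decide +kernel

theorem link56 : allFrom linkOk 256 29696 = true := by decide +kernel

theorem link57 : allFrom linkOk 256 29952 = true := by decide +kernel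

theorem link58 : allFrom linkOk 256 30208 = true := by decide +kernel

theorem link59 : allFrom linkOk 256 30464 = true := by decide +kernel

/-- The points below 30720 pass. -/
theorem block (h : AllBelow linkOk 15360) : AllBelow linkOk 30720 := by
  replace h : AllBelow linkOk 15616 := h.step 256 link0
  replace h : AllBelow linkOk 15872 := h.step 256 link1
  replace h : AllBelow linkOk 16128 := h.step 256 link2
  replace h : AllBelow linkOk 16384 := h.step 256 link3
  replace h : AllBelow linkOk 16640 := h.step 256 link4
  replace h : AllBelow linkOk 16896 := h.step 256 link5
  replace h : AllBelow linkOk 17152 := h.step 256 link6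
  replace h : AllBelow linkOk 17408 := h.step 256 link7
  replace h : AllBelow linkOk 17664 := h.step 256 link8
  replace h : AllBelow linkOk 17920 := h.step 256 link9
  replace h : AllBelow linkOk 18176 := h.step 256 link10
  replace h : AllBelow linkOk 18432 := h.step 256 link11
  replace h : AllBelow linkOk 18688 := h.step 256 link12
  replace h : AllBelow linkOk 18944 := h.step 256 link13
  replace h : AllBelow linkOk 19200 := h.step 256 link14
  replace h : AllBelow linkOk 19456 := h.step 256 link15
  replace h : AllBelow linkOk 19712 := h.step 256 link16
  replace h : AllBelow linkOk 19968 := h.step 256 link17
  replace h : AllBelow linkOk 20224 := h.step 256 link18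
  replace h : AllBelow linkOk 20480 := h.step 256 link19
  replace h : AllBelow linkOk 20736 := h.step 256 link20
  replace h : AllBelow linkOk 20992 := h.step 256 link21
  replace h : AllBelow linkOk 21248 := h.step 256 link22
  replace h : AllBelow linkOk 21504 := h.step 256 link23
  replace h : AllBelow linkOk 21760 := h.step 256 link24
  replace h : AllBelow linkOk 22016 := h.step 256 link25
  replace h : AllBelow linkOk 22272 := h.step 256 link26
  replace h : AllBelow linkOk 22528 := h.step 256 link27
  replace h : AllBelow linkOk 22784 := h.step 256 link28
  replace h : AllBelow linkOk 23040 := h.step 256 link29
  replace h : AllBelow linkOk 23296 := h.step 256 link30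
  replace h : AllBelow linkOk 23552 := h.step 256 link31
  replace h : AllBelow linkOk 23808 := h.step 256 link32
  replace h : AllBelow linkOk 24064 := h.step 256 link33
  replace h : AllBelow linkOk 24320 := h.step 256 link34
  replace h : AllBelow linkOk 24576 := h.step 256 link35
  replace h : AllBelow linkOk 24832 := h.step 256 link36
  replace h : AllBelow linkOk 25088 := h.step 256 link37
  replace h : AllBelow linkOk 25344 := h.step 256 link38
  replace h : AllBelow linkOk 25600 := h.step 256 link39
  replace h : AllBelow linkOk 25856 := h.step 256 link40
  replace h : AllBelow linkOk 26112 := h.step 256 link41
  replace h : AllBelow linkOk 26368 := h.step 256 link42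
  replace h : AllBelow linkOk 26624 := h.step 256 link43
  replace h : AllBelow linkOk 26880 := h.step 256 link44
  replace h : AllBelow linkOk 27136 := h.step 256 link45
  replace h : AllBelow linkOk 27392 := h.step 256 link46
  replace h : AllBelow linkOk 27648 := h.step 256 link47
  replace h : AllBelow linkOk 27904 := h.step 256 link48
  replace h : AllBelow linkOk 28160 := h.step 256 link49
  replace h : AllBelow linkOk 28416 := h.step 256 link50
  replace h : AllBelow linkOk 28672 := h.step 256 link51
  replace h : AllBelow linkOk 28928 := h.step 256 link52
  replace h : AllBelow linkOk 29184 := h.step 256 link53
  replace h : AllBelow linkOk 29440 := h.step 256 link54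
  replace h : AllBelow linkOk 29696 := h.step 256 link55
  replace h : AllBelow linkOk 29952 := h.step 256 link56
  replace h : AllBelow linkOk 30208 := h.step 256 link57
  replace h : AllBelow linkOk 30464 := h.step 256 link58
  replace h : AllBelow linkOk 30720 := h.step 256 link59
  exact h

end Cfsg.Agent.CosetCertON90L1
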