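import Cfsg.Agent.Lib.CosetCertON90Link

/-! Matching of the coset enumeration of the presented O'Nan group with the permutation table.
The data only feeds a checker; nothing here is assumed. -/

set_option autoImplicit false
set_option maxRecDepth 100000
set_option Elab.async false

namespace Cfsg.Agent.CosetCertON90L2

open Cfsg.Agent.CosetCertCore Cfsg.Agent.CosetCertTable Cfsg.Agent.CosetCertON90Data Cfsg.Agent.CosetCertON90Link

theorem link0 : allFrom linkOk 256 30720 = true := by decide +kernel

theorem link1 : allFrom linkOk 256 30976 = true := by decide +kernel

theorem link2 : allFrom linkOk 256 31232 = true := by decide +kernel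

theorem link3 : allFrom linkOk 256 31488 = true := by decide +kernel

theorem link4 : allFrom linkOk 256 31744 = true := by decide +kernel

theorem link5 : allFrom linkOk 256 32000 = true := by decide +kernel

theorem link6 : allFrom linkOk 256 32256 = true := by decide +kernel

theorem link7 : allFrom linkOk 256 32512 = true := by decide +kernel

theorem link8 : allFrom linkOk 256 32768 = true := by decide +kernel

theorem link9 : allFrom linkOk 256 33024 = true := by decide +kernel

theorem link10 : allFrom linkOk 256 33280 = true := by decide +kernel

theorem link11 : allFrom linkOk 256 33536 = true := by decide +kernel

theorem link12 : allFrom linkOk 256 33792 = true := by decide +kernel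

theorem link13 : allFrom linkOk 256 34048 = true := by decide +kernel

theorem link14 : allFrom linkOk 256 34304 = true := by decide +kernel

theorem link15 : allFrom linkOk 256 34560 = true := by decide +kernel

theorem link16 : allFrom linkOk 256 34816 = true := by decide +kernel

theorem link17 : allFrom linkOk 256 35072 = true := by decide +kernel

theorem link18 : allFrom linkOk 256 35328 = true := by decide +kernel

theorem link19 : allFrom linkOk 256 35584 = true := by decide +kernel

theorem link20 : allFrom linkOk 256 35840 = true := by decide +kernel

theorem link21 : allFrom linkOk 256 36096 = true := by decide +kernel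

theorem link22 : allFrom linkOk 256 36352 = true := by decide +kernel

theorem link23 : allFrom linkOk 256 36608 = true := by decide +kernel

theorem link24 : allFrom linkOk 256 36864 = true := by decide +kernel

theorem link25 : allFrom linkOk 256 37120 = true := by decide +kernel

theorem link26 : allFrom linkOk 256 37376 = true := by decide +kernel

theorem link27 : allFrom linkOk 256 37632 = true := by decide +kernel

theorem link28 : allFrom linkOk 256 37888 = true := by decide +kernel

theorem link29 : allFrom linkOk 256 38144 = true := by decide +kernel

theorem link30 : allFrom linkOk 256 38400 = true := by decide +kernel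

theorem link31 : allFrom linkOk 256 38656 = true := by decide +kernel

theorem link32 : allFrom linkOk 256 38912 = true := by decide +kernel

theorem link33 : allFrom linkOk 256 39168 = true := by decide +kernel

theorem link34 : allFrom linkOk 256 39424 = true := by decide +kernel

theorem link35 : allFrom linkOk 256 39680 = true := by decide +kernel

theorem link36 : allFrom linkOk 256 39936 = true := by decide +kernel

theorem link37 : allFrom linkOk 256 40192 = true := by decide +kernel

theorem link38 : allFrom linkOk 256 40448 = true := by decide +kernel

theorem link39 : allFrom linkOk 256 40704 = true := by decide +kernel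

theorem link40 : allFrom linkOk 256 40960 = true := by decide +kernel

theorem link41 : allFrom linkOk 256 41216 = true := by decide +kernel

theorem link42 : allFrom linkOk 256 41472 = true := by decide +kernel

theorem link43 : allFrom linkOk 256 41728 = true := by decide +kernel

theorem link44 : allFrom linkOk 256 41984 = true := by decide +kernel

theorem link45 : allFrom linkOk 256 42240 = true := by decide +kernel

theorem link46 : allFrom linkOk 256 42496 = true := by decide +kernel

theorem link47 : allFrom linkOk 256 42752 = true := by decide +kernel

theorem link48 : allFrom linkOk 256 43008 = true := by decide +kernel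

theorem link49 : allFrom linkOk 256 43264 = true := by decide +kernel

theorem link50 : allFrom linkOk 256 43520 = true := by decide +kernel

theorem link51 : allFrom linkOk 256 43776 = true := by decide +kernel

theorem link52 : allFrom linkOk 256 44032 = true := by decide +kernel

theorem link53 : allFrom linkOk 256 44288 = true := by decide +kernel

theorem link54 : allFrom linkOk 256 44544 = true := by decide +kernel

theorem link55 : allFrom linkOk 256 44800 = true := by decide +kernel

theorem link56 : allFrom linkOk 256 45056 = true := by decide +kernel

theorem link57 : allFrom linkOk 256 45312 = true := by decide +kernel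

theorem link58 : allFrom linkOk 256 45568 = true := by decide +kernel

theorem link59 : allFrom linkOk 256 45824 = true := by decide +kernel

/-- The points below 46080 pass. -/
theorem block (h : AllBelow linkOk 30720) : AllBelow linkOk 46080 := by
  replace h : AllBelow linkOk 30976 := h.step 256 link0
  replace h : AllBelow linkOk 31232 := h.step 256 link1
  replace h : AllBelow linkOk 31488 := h.step 256 link2
  replace h : AllBelow linkOk 31744 := h.step 256 link3
  replace h : AllBelow linkOk 32000 := h.step 256 link4
  replace h : AllBelow linkOk 32256 := h.step 256 link5
  replace h : AllBelow linkOk 32512 := h.step 256 link6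
  replace h : AllBelow linkOk 32768 := h.step 256 link7
  replace h : AllBelow linkOk 33024 := h.step 256 link8
  replace h : AllBelow linkOk 33280 := h.step 256 link9
  replace h : AllBelow linkOk 33536 := h.step 256 link10
  replace h : AllBelow linkOk 33792 := h.step 256 link11
  replace h : AllBelow linkOk 34048 := h.step 256 link12
  replace h : AllBelow linkOk 34304 := h.step 256 link13
  replace h : AllBelow linkOk 34560 := h.step 256 link14
  replace h : AllBelow linkOk 34816 := h.step 256 link15
  replace h : AllBelow linkOk 35072 := h.step 256 link16
  replace h : AllBelow linkOk 35328 := h.step 256 link17
  replace h : AllBelow linkOk 35584 := h.step 256 link18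
  replace h : AllBelow linkOk 35840 := h.step 256 link19
  replace h : AllBelow linkOk 36096 := h.step 256 link20
  replace h : AllBelow linkOk 36352 := h.step 256 link21
  replace h : AllBelow linkOk 36608 := h.step 256 link22
  replace h : AllBelow linkOk 36864 := h.step 256 link23
  replace h : AllBelow linkOk 37120 := h.step 256 link24
  replace h : AllBelow linkOk 37376 := h.step 256 link25
  replace h : AllBelow linkOk 37632 := h.step 256 link26
  replace h : AllBelow linkOk 37888 := h.step 256 link27
  replace h : AllBelow linkOk 38144 := h.step 256 link28
  replace h : AllBelow linkOk 38400 := h.step 256 link29
  replace h : AllBelow linkOk 38656 := h.step 256 link30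
  replace h : AllBelow linkOk 38912 := h.step 256 link31
  replace h : AllBelow linkOk 39168 := h.step 256 link32
  replace h : AllBelow linkOk 39424 := h.step 256 link33
  replace h : AllBelow linkOk 39680 := h.step 256 link34
  replace h : AllBelow linkOk 39936 := h.step 256 link35
  replace h : AllBelow linkOk 40192 := h.step 256 link36
  replace h : AllBelow linkOk 40448 := h.step 256 link37
  replace h : AllBelow linkOk 40704 := h.step 256 link38
  replace h : AllBelow linkOk 40960 := h.step 256 link39
  replace h : AllBelow linkOk 41216 := h.step 256 link40
  replace h : AllBelow linkOk 41472 := h.step 256 link41
  replace h : AllBelow linkOk 41728 := h.step 256 link42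
  replace h : AllBelow linkOk 41984 := h.step 256 link43
  replace h : AllBelow linkOk 42240 := h.step 256 link44
  replace h : AllBelow linkOk 42496 := h.step 256 link45
  replace h : AllBelow linkOk 42752 := h.step 256 link46
  replace h : AllBelow linkOk 43008 := h.step 256 link47
  replace h : AllBelow linkOk 43264 := h.step 256 link48
  replace h : AllBelow linkOk 43520 := h.step 256 link49
  replace h : AllBelow linkOk 43776 := h.step 256 link50
  replace h : AllBelow linkOk 44032 := h.step 256 link51
  replace h : AllBelow linkOk 44288 := h.step 256 link52
  replace h : AllBelow linkOk 44544 := h.step 256 link53
  replace h : AllBelow linkOk 44800 := h.step 256 link54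
  replace h : AllBelow linkOk 45056 := h.step 256 link55
  replace h : AllBelow linkOk 45312 := h.step 256 link56
  replace h : AllBelow linkOk 45568 := h.step 256 link57
  replace h : AllBelow linkOk 45824 := h.step 256 link58
  replace h : AllBelow linkOk 46080 := h.step 256 link59
  exact h

end Cfsg.Agent.CosetCertON90L2
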