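import Cfsg.Agent.Lib.CosetCertON90Link

/-! Matching of the coset enumeration of the presented O'Nan group with the permutation table.
The data only feeds a checker; nothing here is assumed. -/

set_option autoImplicit false
set_option maxRecDepth 100000
set_option Elab.async false

namespace Cfsg.Agent.CosetCertON90L3

open Cfsg.Agent.CosetCertCore Cfsg.Agent.CosetCertTable Cfsg.Agent.CosetCertON90Data Cfsg.Agent.CosetCertON90Link

theorem link0 : allFrom linkOk 256 46080 = true := by decide +kernel

theorem link1 : allFrom linkOk 256 46336 = true := by decide +kernel

theorem link2 : allFrom linkOk 256 46592 = true := by decide +kernel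

theorem link3 : allFrom linkOk 256 46848 = true := by decide +kernel

theorem link4 : allFrom linkOk 256 47104 = true := by decide +kernel

theorem link5 : allFrom linkOk 256 47360 = true := by decide +kernel

theorem link6 : allFrom linkOk 256 47616 = true := by decide +kernel

theorem link7 : allFrom linkOk 256 47872 = true := by decide +kernel

theorem link8 : allFrom linkOk 256 48128 = true := by decide +kernel

theorem link9 : allFrom linkOk 256 48384 = true := by decide +kernel

theorem link10 : allFrom linkOk 256 48640 = true := by decide +kernel

theorem link11 : allFrom linkOk 256 48896 = true := by decide +kernel

theorem link12 : allFrom linkOk 256 49152 = true := by decide +kernel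

theorem link13 : allFrom linkOk 256 49408 = true := by decide +kernel

theorem link14 : allFrom linkOk 256 49664 = true := by decide +kernel

theorem link15 : allFrom linkOk 256 49920 = true := by decide +kernel

theorem link16 : allFrom linkOk 256 50176 = true := by decide +kernel

theorem link17 : allFrom linkOk 256 50432 = true := by decide +kernel

theorem link18 : allFrom linkOk 256 50688 = true := by decide +kernel

theorem link19 : allFrom linkOk 256 50944 = true := by decide +kernel

theorem link20 : allFrom linkOk 256 51200 = true := by decide +kernel

theorem link21 : allFrom linkOk 256 51456 = true := by decide +kernel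

theorem link22 : allFrom linkOk 256 51712 = true := by decide +kernel

theorem link23 : allFrom linkOk 256 51968 = true := by decide +kernel

theorem link24 : allFrom linkOk 256 52224 = true := by decide +kernel

theorem link25 : allFrom linkOk 256 52480 = true := by decide +kernel

theorem link26 : allFrom linkOk 256 52736 = true := by decide +kernel

theorem link27 : allFrom linkOk 256 52992 = true := by decide +kernel

theorem link28 : allFrom linkOk 256 53248 = true := by decide +kernel

theorem link29 : allFrom linkOk 256 53504 = true := by decide +kernel

theorem link30 : allFrom linkOk 256 53760 = true := by decide +kernel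

theorem link31 : allFrom linkOk 256 54016 = true := by decide +kernel

theorem link32 : allFrom linkOk 256 54272 = true := by decide +kernel

theorem link33 : allFrom linkOk 256 54528 = true := by decide +kernel

theorem link34 : allFrom linkOk 256 54784 = true := by decide +kernel

theorem link35 : allFrom linkOk 256 55040 = true := by decide +kernel

theorem link36 : allFrom linkOk 256 55296 = true := by decide +kernel

theorem link37 : allFrom linkOk 256 55552 = true := by decide +kernel

theorem link38 : allFrom linkOk 256 55808 = true := by decide +kernel

theorem link39 : allFrom linkOk 256 56064 = true := by decide +kernel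

theorem link40 : allFrom linkOk 256 56320 = true := by decide +kernel

theorem link41 : allFrom linkOk 256 56576 = true := by decide +kernel

theorem link42 : allFrom linkOk 256 56832 = true := by decide +kernel

theorem link43 : allFrom linkOk 256 57088 = true := by decide +kernel

theorem link44 : allFrom linkOk 256 57344 = true := by decide +kernel

theorem link45 : allFrom linkOk 256 57600 = true := by decide +kernel

theorem link46 : allFrom linkOk 256 57856 = true := by decide +kernel

theorem link47 : allFrom linkOk 256 58112 = true := by decide +kernel

theorem link48 : allFrom linkOk 256 58368 = true := by decide +kernel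

theorem link49 : allFrom linkOk 256 58624 = true := by decide +kernel

theorem link50 : allFrom linkOk 256 58880 = true := by decide +kernel

theorem link51 : allFrom linkOk 256 59136 = true := by decide +kernel

theorem link52 : allFrom linkOk 256 59392 = true := by decide +kernel

theorem link53 : allFrom linkOk 256 59648 = true := by decide +kernel

theorem link54 : allFrom linkOk 256 59904 = true := by decide +kernel

theorem link55 : allFrom linkOk 256 60160 = true := by decide +kernel

theorem link56 : allFrom linkOk 256 60416 = true := by decide +kernel

theorem link57 : allFrom linkOk 256 60672 = true := by decide +kernel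

theorem link58 : allFrom linkOk 256 60928 = true := by decide +kernel

theorem link59 : allFrom linkOk 256 61184 = true := by decide +kernel

/-- The points below 61440 pass. -/
theorem block (h : AllBelow linkOk 46080) : AllBelow linkOk 61440 := by
  replace h : AllBelow linkOk 46336 := h.step 256 link0
  replace h : AllBelow linkOk 46592 := h.step 256 link1
  replace h : AllBelow linkOk 46848 := h.step 256 link2
  replace h : AllBelow linkOk 47104 := h.step 256 link3
  replace h : AllBelow linkOk 47360 := h.step 256 link4
  replace h : AllBelow linkOk 47616 := h.step 256 link5
  replace h : AllBelow linkOk 47872 := h.step 256 link6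
  replace h : AllBelow linkOk 48128 := h.step 256 link7
  replace h : AllBelow linkOk 48384 := h.step 256 link8
  replace h : AllBelow linkOk 48640 := h.step 256 link9
  replace h : AllBelow linkOk 48896 := h.step 256 link10
  replace h : AllBelow linkOk 49152 := h.step 256 link11
  replace h : AllBelow linkOk 49408 := h.step 256 link12
  replace h : AllBelow linkOk 49664 := h.step 256 link13
  replace h : AllBelow linkOk 49920 := h.step 256 link14
  replace h : AllBelow linkOk 50176 := h.step 256 link15
  replace h : AllBelow linkOk 50432 := h.step 256 link16
  replace h : AllBelow linkOk 50688 := h.step 256 link17
  replace h : AllBelow linkOk 50944 := h.step 256 link18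
  replace h : AllBelow linkOk 51200 := h.step 256 link19
  replace h : AllBelow linkOk 51456 := h.step 256 link20
  replace h : AllBelow linkOk 51712 := h.step 256 link21
  replace h : AllBelow linkOk 51968 := h.step 256 link22
  replace h : AllBelow linkOk 52224 := h.step 256 link23
  replace h : AllBelow linkOk 52480 := h.step 256 link24
  replace h : AllBelow linkOk 52736 := h.step 256 link25
  replace h : AllBelow linkOk 52992 := h.step 256 link26
  replace h : AllBelow linkOk 53248 := h.step 256 link27
  replace h : AllBelow linkOk 53504 := h.step 256 link28
  replace h : AllBelow linkOk 53760 := h.step 256 link29
  replace h : AllBelow linkOk 54016 := h.step 256 link30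
  replace h : AllBelow linkOk 54272 := h.step 256 link31
  replace h : AllBelow linkOk 54528 := h.step 256 link32
  replace h : AllBelow linkOk 54784 := h.step 256 link33
  replace h : AllBelow linkOk 55040 := h.step 256 link34
  replace h : AllBelow linkOk 55296 := h.step 256 link35
  replace h : AllBelow linkOk 55552 := h.step 256 link36
  replace h : AllBelow linkOk 55808 := h.step 256 link37
  replace h : AllBelow linkOk 56064 := h.step 256 link38
  replace h : AllBelow linkOk 56320 := h.step 256 link39
  replace h : AllBelow linkOk 56576 := h.step 256 link40
  replace h : AllBelow linkOk 56832 := h.step 256 link41
  replace h : AllBelow linkOk 57088 := h.step 256 link42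
  replace h : AllBelow linkOk 57344 := h.step 256 link43
  replace h : AllBelow linkOk 57600 := h.step 256 link44
  replace h : AllBelow linkOk 57856 := h.step 256 link45
  replace h : AllBelow linkOk 58112 := h.step 256 link46
  replace h : AllBelow linkOk 58368 := h.step 256 link47
  replace h : AllBelow linkOk 58624 := h.step 256 link48
  replace h : AllBelow linkOk 58880 := h.step 256 link49
  replace h : AllBelow linkOk 59136 := h.step 256 link50
  replace h : AllBelow linkOk 59392 := h.step 256 link51
  replace h : AllBelow linkOk 59648 := h.step 256 link52
  replace h : AllBelow linkOk 59904 := h.step 256 link53
  replace h : AllBelow linkOk 60160 := h.step 256 link54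
  replace h : AllBelow linkOk 60416 := h.step 256 link55
  replace h : AllBelow linkOk 60672 := h.step 256 link56
  replace h : AllBelow linkOk 60928 := h.step 256 link57
  replace h : AllBelow linkOk 61184 := h.step 256 link58
  replace h : AllBelow linkOk 61440 := h.step 256 link59
  exact h

end Cfsg.Agent.CosetCertON90L3
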