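import Cfsg.Agent.Lib.CosetCertON90Link

/-! Matching of the coset enumeration of the presented O'Nan group with the permutation table.
The data only feeds a checker; nothing here is assumed. -/

set_option autoImplicit false
set_option maxRecDepth 100000
set_option Elab.async false

namespace Cfsg.Agent.CosetCertON90L4

open Cfsg.Agent.CosetCertCore Cfsg.Agent.CosetCertTable Cfsg.Agent.CosetCertON90Data Cfsg.Agent.CosetCertON90Link

theorem link0 : allFrom linkOk 256 61440 = true := by decide +kernel

theorem link1 : allFrom linkOk 256 61696 = true := by decide +kernel

theorem link2 : allFrom linkOk 256 61952 = true := by decide +kernel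

theorem link3 : allFrom linkOk 256 62208 = true := by decide +kernel

theorem link4 : allFrom linkOk 256 62464 = true := by decide +kernel

theorem link5 : allFrom linkOk 256 62720 = true := by decide +kernel

theorem link6 : allFrom linkOk 256 62976 = true := by decide +kernel

theorem link7 : allFrom linkOk 256 63232 = true := by decide +kernel

theorem link8 : allFrom linkOk 256 63488 = true := by decide +kernel

theorem link9 : allFrom linkOk 256 63744 = true := by decide +kernel

theorem link10 : allFrom linkOk 256 64000 = true := by decide +kernel

theorem link11 : allFrom linkOk 256 64256 = true := by decide +kernel

theorem link12 : allFrom linkOk 256 64512 = true := by decide +kernel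

theorem link13 : allFrom linkOk 256 64768 = true := by decide +kernel

theorem link14 : allFrom linkOk 256 65024 = true := by decide +kernel

theorem link15 : allFrom linkOk 256 65280 = true := by decide +kernel

theorem link16 : allFrom linkOk 256 65536 = true := by decide +kernel

theorem link17 : allFrom linkOk 256 65792 = true := by decide +kernel

theorem link18 : allFrom linkOk 256 66048 = true := by decide +kernel

theorem link19 : allFrom linkOk 256 66304 = true := by decide +kernel

theorem link20 : allFrom linkOk 256 66560 = true := by decide +kernel

theorem link21 : allFrom linkOk 256 66816 = true := by decide +kernel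

theorem link22 : allFrom linkOk 256 67072 = true := by decide +kernel

theorem link23 : allFrom linkOk 256 67328 = true := by decide +kernel

theorem link24 : allFrom linkOk 256 67584 = true := by decide +kernel

theorem link25 : allFrom linkOk 256 67840 = true := by decide +kernel

theorem link26 : allFrom linkOk 256 68096 = true := by decide +kernel

theorem link27 : allFrom linkOk 256 68352 = true := by decide +kernel

theorem link28 : allFrom linkOk 256 68608 = true := by decide +kernel

theorem link29 : allFrom linkOk 256 68864 = true := by decide +kernel

theorem link30 : allFrom linkOk 256 69120 = true := by decide +kernel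

theorem link31 : allFrom linkOk 256 69376 = true := by decide +kernel

theorem link32 : allFrom linkOk 256 69632 = true := by decide +kernel

theorem link33 : allFrom linkOk 256 69888 = true := by decide +kernel

theorem link34 : allFrom linkOk 256 70144 = true := by decide +kernel

theorem link35 : allFrom linkOk 256 70400 = true := by decide +kernel

theorem link36 : allFrom linkOk 256 70656 = true := by decide +kernel

theorem link37 : allFrom linkOk 256 70912 = true := by decide +kernel

theorem link38 : allFrom linkOk 256 71168 = true := by decide +kernel

theorem link39 : allFrom linkOk 256 71424 = true := by decide +kernel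

theorem link40 : allFrom linkOk 256 71680 = true := by decide +kernel

theorem link41 : allFrom linkOk 256 71936 = true := by decide +kernel

theorem link42 : allFrom linkOk 256 72192 = true := by decide +kernel

theorem link43 : allFrom linkOk 256 72448 = true := by decide +kernel

theorem link44 : allFrom linkOk 256 72704 = true := by decide +kernel

theorem link45 : allFrom linkOk 256 72960 = true := by decide +kernel

theorem link46 : allFrom linkOk 256 73216 = true := by decide +kernel

theorem link47 : allFrom linkOk 256 73472 = true := by decide +kernel

theorem link48 : allFrom linkOk 256 73728 = true := by decide +kernel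

theorem link49 : allFrom linkOk 256 73984 = true := by decide +kernel

theorem link50 : allFrom linkOk 256 74240 = true := by decide +kernel

theorem link51 : allFrom linkOk 256 74496 = true := by decide +kernel

theorem link52 : allFrom linkOk 256 74752 = true := by decide +kernel

theorem link53 : allFrom linkOk 256 75008 = true := by decide +kernel

theorem link54 : allFrom linkOk 256 75264 = true := by decide +kernel

theorem link55 : allFrom linkOk 256 75520 = true := by decide +kernel

theorem link56 : allFrom linkOk 256 75776 = true := by decide +kernel

theorem link57 : allFrom linkOk 256 76032 = true := by decide +kernel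

theorem link58 : allFrom linkOk 256 76288 = true := by decide +kernel

theorem link59 : allFrom linkOk 256 76544 = true := by decide +kernel

/-- The points below 76800 pass. -/
theorem block (h : AllBelow linkOk 61440) : AllBelow linkOk 76800 := by
  replace h : AllBelow linkOk 61696 := h.step 256 link0
  replace h : AllBelow linkOk 61952 := h.step 256 link1
  replace h : AllBelow linkOk 62208 := h.step 256 link2
  replace h : AllBelow linkOk 62464 := h.step 256 link3
  replace h : AllBelow linkOk 62720 := h.step 256 link4
  replace h : AllBelow linkOk 62976 := h.step 256 link5
  replace h : AllBelow linkOk 63232 := h.step 256 link6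
  replace h : AllBelow linkOk 63488 := h.step 256 link7
  replace h : AllBelow linkOk 63744 := h.step 256 link8
  replace h : AllBelow linkOk 64000 := h.step 256 link9
  replace h : AllBelow linkOk 64256 := h.step 256 link10
  replace h : AllBelow linkOk 64512 := h.step 256 link11
  replace h : AllBelow linkOk 64768 := h.step 256 link12
  replace h : AllBelow linkOk 65024 := h.step 256 link13
  replace h : AllBelow linkOk 65280 := h.step 256 link14
  replace h : AllBelow linkOk 65536 := h.step 256 link15
  replace h : AllBelow linkOk 65792 := h.step 256 link16
  replace h : AllBelow linkOk 66048 := h.step 256 link17
  replace h : AllBelow linkOk 66304 := h.step 256 link18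
  replace h : AllBelow linkOk 66560 := h.step 256 link19
  replace h : AllBelow linkOk 66816 := h.step 256 link20
  replace h : AllBelow linkOk 67072 := h.step 256 link21
  replace h : AllBelow linkOk 67328 := h.step 256 link22
  replace h : AllBelow linkOk 67584 := h.step 256 link23
  replace h : AllBelow linkOk 67840 := h.step 256 link24
  replace h : AllBelow linkOk 68096 := h.step 256 link25
  replace h : AllBelow linkOk 68352 := h.step 256 link26
  replace h : AllBelow linkOk 68608 := h.step 256 link27
  replace h : AllBelow linkOk 68864 := h.step 256 link28
  replace h : AllBelow linkOk 69120 := h.step 256 link29
  replace h : AllBelow linkOk 69376 := h.step 256 link30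
  replace h : AllBelow linkOk 69632 := h.step 256 link31
  replace h : AllBelow linkOk 69888 := h.step 256 link32
  replace h : AllBelow linkOk 70144 := h.step 256 link33
  replace h : AllBelow linkOk 70400 := h.step 256 link34
  replace h : AllBelow linkOk 70656 := h.step 256 link35
  replace h : AllBelow linkOk 70912 := h.step 256 link36
  replace h : AllBelow linkOk 71168 := h.step 256 link37
  replace h : AllBelow linkOk 71424 := h.step 256 link38
  replace h : AllBelow linkOk 71680 := h.step 256 link39
  replace h : AllBelow linkOk 71936 := h.step 256 link40
  replace h : AllBelow linkOk 72192 := h.step 256 link41
  replace h : AllBelow linkOk 72448 := h.step 256 link42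
  replace h : AllBelow linkOk 72704 := h.step 256 link43
  replace h : AllBelow linkOk 72960 := h.step 256 link44
  replace h : AllBelow linkOk 73216 := h.step 256 link45
  replace h : AllBelow linkOk 73472 := h.step 256 link46
  replace h : AllBelow linkOk 73728 := h.step 256 link47
  replace h : AllBelow linkOk 73984 := h.step 256 link48
  replace h : AllBelow linkOk 74240 := h.step 256 link49
  replace h : AllBelow linkOk 74496 := h.step 256 link50
  replace h : AllBelow linkOk 74752 := h.step 256 link51
  replace h : AllBelow linkOk 75008 := h.step 256 link52
  replace h : AllBelow linkOk 75264 := h.step 256 link53
  replace h : AllBelow linkOk 75520 := h.step 256 link54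
  replace h : AllBelow linkOk 75776 := h.step 256 link55
  replace h : AllBelow linkOk 76032 := h.step 256 link56
  replace h : AllBelow linkOk 76288 := h.step 256 link57
  replace h : AllBelow linkOk 76544 := h.step 256 link58
  replace h : AllBelow linkOk 76800 := h.step 256 link59
  exact h

end Cfsg.Agent.CosetCertON90L4
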