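import Cfsg.Agent.Lib.CosetCertON90Link

/-! Matching of the coset enumeration of the presented O'Nan group with the permutation table.
The data only feeds a checker; nothing here is assumed. -/

set_option autoImplicit false
set_option maxRecDepth 100000
set_option Elab.async false

namespace Cfsg.Agent.CosetCertON90L5

open Cfsg.Agent.CosetCertCore Cfsg.Agent.CosetCertTable Cfsg.Agent.CosetCertON90Data Cfsg.Agent.CosetCertON90Link

theorem link0 : allFrom linkOk 256 76800 = true := by decide +kernel

theorem link1 : allFrom linkOk 256 77056 = true := by decide +kernel

theorem link2 : allFrom linkOk 256 77312 = true := by decide +kernel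

theorem link3 : allFrom linkOk 256 77568 = true := by decide +kernel

theorem link4 : allFrom linkOk 256 77824 = true := by decide +kernel

theorem link5 : allFrom linkOk 256 78080 = true := by decide +kernel

theorem link6 : allFrom linkOk 256 78336 = true := by decide +kernel

theorem link7 : allFrom linkOk 256 78592 = true := by decide +kernel

theorem link8 : allFrom linkOk 256 78848 = true := by decide +kernel

theorem link9 : allFrom linkOk 256 79104 = true := by decide +kernel

theorem link10 : allFrom linkOk 256 79360 = true := by decide +kernel

theorem link11 : allFrom linkOk 256 79616 = true := by decide +kernel

theorem link12 : allFrom linkOk 256 79872 = true := by decide +kernel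

theorem link13 : allFrom linkOk 256 80128 = true := by decide +kernel

theorem link14 : allFrom linkOk 256 80384 = true := by decide +kernel

theorem link15 : allFrom linkOk 256 80640 = true := by decide +kernel

theorem link16 : allFrom linkOk 256 80896 = true := by decide +kernel

theorem link17 : allFrom linkOk 256 81152 = true := by decide +kernel

theorem link18 : allFrom linkOk 256 81408 = true := by decide +kernel

theorem link19 : allFrom linkOk 256 81664 = true := by decide +kernel

theorem link20 : allFrom linkOk 256 81920 = true := by decide +kernel

theorem link21 : allFrom linkOk 256 82176 = true := by decide +kernel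

theorem link22 : allFrom linkOk 256 82432 = true := by decide +kernel

theorem link23 : allFrom linkOk 256 82688 = true := by decide +kernel

theorem link24 : allFrom linkOk 256 82944 = true := by decide +kernel

theorem link25 : allFrom linkOk 256 83200 = true := by decide +kernel

theorem link26 : allFrom linkOk 256 83456 = true := by decide +kernel

theorem link27 : allFrom linkOk 256 83712 = true := by decide +kernel

theorem link28 : allFrom linkOk 256 83968 = true := by decide +kernel

theorem link29 : allFrom linkOk 256 84224 = true := by decide +kernel

theorem link30 : allFrom linkOk 256 84480 = true := by decide +kernel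

theorem link31 : allFrom linkOk 256 84736 = true := by decide +kernel

theorem link32 : allFrom linkOk 256 84992 = true := by decide +kernel

theorem link33 : allFrom linkOk 256 85248 = true := by decide +kernel

theorem link34 : allFrom linkOk 256 85504 = true := by decide +kernel

theorem link35 : allFrom linkOk 256 85760 = true := by decide +kernel

theorem link36 : allFrom linkOk 256 86016 = true := by decide +kernel

theorem link37 : allFrom linkOk 256 86272 = true := by decide +kernel

theorem link38 : allFrom linkOk 256 86528 = true := by decide +kernel

theorem link39 : allFrom linkOk 256 86784 = true := by decide +kernel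

theorem link40 : allFrom linkOk 256 87040 = true := by decide +kernel

theorem link41 : allFrom linkOk 256 87296 = true := by decide +kernel

theorem link42 : allFrom linkOk 256 87552 = true := by decide +kernel

theorem link43 : allFrom linkOk 256 87808 = true := by decide +kernel

theorem link44 : allFrom linkOk 256 88064 = true := by decide +kernel

theorem link45 : allFrom linkOk 256 88320 = true := by decide +kernel

theorem link46 : allFrom linkOk 256 88576 = true := by decide +kernel

theorem link47 : allFrom linkOk 256 88832 = true := by decide +kernel

theorem link48 : allFrom linkOk 256 89088 = true := by decide +kernel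

theorem link49 : allFrom linkOk 256 89344 = true := by decide +kernel

theorem link50 : allFrom linkOk 256 89600 = true := by decide +kernel

theorem link51 : allFrom linkOk 256 89856 = true := by decide +kernel

theorem link52 : allFrom linkOk 256 90112 = true := by decide +kernel

theorem link53 : allFrom linkOk 256 90368 = true := by decide +kernel

theorem link54 : allFrom linkOk 256 90624 = true := by decide +kernel

theorem link55 : allFrom linkOk 256 90880 = true := by decide +kernel

theorem link56 : allFrom linkOk 256 91136 = true := by decide +kernel

theorem link57 : allFrom linkOk 256 91392 = true := by decide +kernel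

theorem link58 : allFrom linkOk 256 91648 = true := by decide +kernel

theorem link59 : allFrom linkOk 256 91904 = true := by decide +kernel

/-- The points below 92160 pass. -/
theorem block (h : AllBelow linkOk 76800) : AllBelow linkOk 92160 := by
  replace h : AllBelow linkOk 77056 := h.step 256 link0
  replace h : AllBelow linkOk 77312 := h.step 256 link1
  replace h : AllBelow linkOk 77568 := h.step 256 link2
  replace h : AllBelow linkOk 77824 := h.step 256 link3
  replace h : AllBelow linkOk 78080 := h.step 256 link4
  replace h : AllBelow linkOk 78336 := h.step 256 link5
  replace h : AllBelow linkOk 78592 := h.step 256 link6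
  replace h : AllBelow linkOk 78848 := h.step 256 link7
  replace h : AllBelow linkOk 79104 := h.step 256 link8
  replace h : AllBelow linkOk 79360 := h.step 256 link9
  replace h : AllBelow linkOk 79616 := h.step 256 link10
  replace h : AllBelow linkOk 79872 := h.step 256 link11
  replace h : AllBelow linkOk 80128 := h.step 256 link12
  replace h : AllBelow linkOk 80384 := h.step 256 link13
  replace h : AllBelow linkOk 80640 := h.step 256 link14
  replace h : AllBelow linkOk 80896 := h.step 256 link15
  replace h : AllBelow linkOk 81152 := h.step 256 link16
  replace h : AllBelow linkOk 81408 := h.step 256 link17
  replace h : AllBelow linkOk 81664 := h.step 256 link18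
  replace h : AllBelow linkOk 81920 := h.step 256 link19
  replace h : AllBelow linkOk 82176 := h.step 256 link20
  replace h : AllBelow linkOk 82432 := h.step 256 link21
  replace h : AllBelow linkOk 82688 := h.step 256 link22
  replace h : AllBelow linkOk 82944 := h.step 256 link23
  replace h : AllBelow linkOk 83200 := h.step 256 link24
  replace h : AllBelow linkOk 83456 := h.step 256 link25
  replace h : AllBelow linkOk 83712 := h.step 256 link26
  replace h : AllBelow linkOk 83968 := h.step 256 link27
  replace h : AllBelow linkOk 84224 := h.step 256 link28
  replace h : AllBelow linkOk 84480 := h.step 256 link29
  replace h : AllBelow linkOk 84736 := h.step 256 link30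
  replace h : AllBelow linkOk 84992 := h.step 256 link31
  replace h : AllBelow linkOk 85248 := h.step 256 link32
  replace h : AllBelow linkOk 85504 := h.step 256 link33
  replace h : AllBelow linkOk 85760 := h.step 256 link34
  replace h : AllBelow linkOk 86016 := h.step 256 link35
  replace h : AllBelow linkOk 86272 := h.step 256 link36
  replace h : AllBelow linkOk 86528 := h.step 256 link37
  replace h : AllBelow linkOk 86784 := h.step 256 link38
  replace h : AllBelow linkOk 87040 := h.step 256 link39
  replace h : AllBelow linkOk 87296 := h.step 256 link40
  replace h : AllBelow linkOk 87552 := h.step 256 link41
  replace h : AllBelow linkOk 87808 := h.step 256 link42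
  replace h : AllBelow linkOk 88064 := h.step 256 link43
  replace h : AllBelow linkOk 88320 := h.step 256 link44
  replace h : AllBelow linkOk 88576 := h.step 256 link45
  replace h : AllBelow linkOk 88832 := h.step 256 link46
  replace h : AllBelow linkOk 89088 := h.step 256 link47
  replace h : AllBelow linkOk 89344 := h.step 256 link48
  replace h : AllBelow linkOk 89600 := h.step 256 link49
  replace h : AllBelow linkOk 89856 := h.step 256 link50
  replace h : AllBelow linkOk 90112 := h.step 256 link51
  replace h : AllBelow linkOk 90368 := h.step 256 link52
  replace h : AllBelow linkOk 90624 := h.step 256 link53
  replace h : AllBelow linkOk 90880 := h.step 256 link54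
  replace h : AllBelow linkOk 91136 := h.step 256 link55
  replace h : AllBelow linkOk 91392 := h.step 256 link56
  replace h : AllBelow linkOk 91648 := h.step 256 link57
  replace h : AllBelow linkOk 91904 := h.step 256 link58
  replace h : AllBelow linkOk 92160 := h.step 256 link59
  exact h

end Cfsg.Agent.CosetCertON90L5
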