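import Cfsg.Agent.Lib.CosetCertON90Link

/-! Matching of the coset enumeration of the presented O'Nan group with the permutation table.
The data only feeds a checker; nothing here is assumed. -/

set_option autoImplicit false
set_option maxRecDepth 100000
set_option Elab.async false

namespace Cfsg.Agent.CosetCertON90L6

open Cfsg.Agent.CosetCertCore Cfsg.Agent.CosetCertTable Cfsg.Agent.CosetCertON90Data Cfsg.Agent.CosetCertON90Link

theorem link0 : allFrom linkOk 256 92160 = true := by decide +kernel

theorem link1 : allFrom linkOk 256 92416 = true := by decide +kernel

theorem link2 : allFrom linkOk 256 92672 = true := by decide +kernel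

theorem link3 : allFrom linkOk 256 92928 = true := by decide +kernel

theorem link4 : allFrom linkOk 256 93184 = true := by decide +kernel

theorem link5 : allFrom linkOk 256 93440 = true := by decide +kernel

theorem link6 : allFrom linkOk 256 93696 = true := by decide +kernel

theorem link7 : allFrom linkOk 256 93952 = true := by decide +kernel

theorem link8 : allFrom linkOk 256 94208 = true := by decide +kernel

theorem link9 : allFrom linkOk 256 94464 = true := by decide +kernel

theorem link10 : allFrom linkOk 256 94720 = true := by decide +kernel

theorem link11 : allFrom linkOk 256 94976 = true := by decide +kernel

theorem link12 : allFrom linkOk 256 95232 = true := by decide +kernel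

theorem link13 : allFrom linkOk 256 95488 = true := by decide +kernel

theorem link14 : allFrom linkOk 256 95744 = true := by decide +kernel

theorem link15 : allFrom linkOk 256 96000 = true := by decide +kernel

theorem link16 : allFrom linkOk 256 96256 = true := by decide +kernel

theorem link17 : allFrom linkOk 256 96512 = true := by decide +kernel

theorem link18 : allFrom linkOk 256 96768 = true := by decide +kernel

theorem link19 : allFrom linkOk 256 97024 = true := by decide +kernel

theorem link20 : allFrom linkOk 256 97280 = true := by decide +kernel

theorem link21 : allFrom linkOk 256 97536 = true := by decide +kernel

theorem link22 : allFrom linkOk 256 97792 = true := by decide +kernel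

theorem link23 : allFrom linkOk 256 98048 = true := by decide +kernel

theorem link24 : allFrom linkOk 256 98304 = true := by decide +kernel

theorem link25 : allFrom linkOk 256 98560 = true := by decide +kernel

theorem link26 : allFrom linkOk 256 98816 = true := by decide +kernel

theorem link27 : allFrom linkOk 256 99072 = true := by decide +kernel

theorem link28 : allFrom linkOk 256 99328 = true := by decide +kernel

theorem link29 : allFrom linkOk 256 99584 = true := by decide +kernel

theorem link30 : allFrom linkOk 256 99840 = true := by decide +kernel

theorem link31 : allFrom linkOk 256 100096 = true := by decide +kernel

theorem link32 : allFrom linkOk 256 100352 = true := by decide +kernel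

theorem link33 : allFrom linkOk 256 100608 = true := by decide +kernel

theorem link34 : allFrom linkOk 256 100864 = true := by decide +kernel

theorem link35 : allFrom linkOk 256 101120 = true := by decide +kernel

theorem link36 : allFrom linkOk 256 101376 = true := by decide +kernel

theorem link37 : allFrom linkOk 256 101632 = true := by decide +kernel

theorem link38 : allFrom linkOk 256 101888 = true := by decide +kernel

theorem link39 : allFrom linkOk 256 102144 = true := by decide +kernel

theorem link40 : allFrom linkOk 256 102400 = true := by decide +kernel

theorem link41 : allFrom linkOk 256 102656 = true := by decide +kernel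

theorem link42 : allFrom linkOk 256 102912 = true := by decide +kernel

theorem link43 : allFrom linkOk 256 103168 = true := by decide +kernel

theorem link44 : allFrom linkOk 256 103424 = true := by decide +kernel

theorem link45 : allFrom linkOk 256 103680 = true := by decide +kernel

theorem link46 : allFrom linkOk 256 103936 = true := by decide +kernel

theorem link47 : allFrom linkOk 256 104192 = true := by decide +kernel

theorem link48 : allFrom linkOk 256 104448 = true := by decide +kernel

theorem link49 : allFrom linkOk 256 104704 = true := by decide +kernel

theorem link50 : allFrom linkOk 256 104960 = true := by decide +kernel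

theorem link51 : allFrom linkOk 256 105216 = true := by decide +kernel

theorem link52 : allFrom linkOk 256 105472 = true := by decide +kernel

theorem link53 : allFrom linkOk 256 105728 = true := by decide +kernel

theorem link54 : allFrom linkOk 256 105984 = true := by decide +kernel

theorem link55 : allFrom linkOk 256 106240 = true := by decide +kernel

theorem link56 : allFrom linkOk 256 106496 = true := by decide +kernel

theorem link57 : allFrom linkOk 256 106752 = true := by decide +kernel

theorem link58 : allFrom linkOk 256 107008 = true := by decide +kernel

theorem link59 : allFrom linkOk 256 107264 = true := by decide +kernel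

/-- The points below 107520 pass. -/
theorem block (h : AllBelow linkOk 92160) : AllBelow linkOk 107520 := by
  replace h : AllBelow linkOk 92416 := h.step 256 link0
  replace h : AllBelow linkOk 92672 := h.step 256 link1
  replace h : AllBelow linkOk 92928 := h.step 256 link2
  replace h : AllBelow linkOk 93184 := h.step 256 link3
  replace h : AllBelow linkOk 93440 := h.step 256 link4
  replace h : AllBelow linkOk 93696 := h.step 256 link5
  replace h : AllBelow linkOk 93952 := h.step 256 link6
  replace h : AllBelow linkOk 94208 := h.step 256 link7
  replace h : AllBelow linkOk 94464 := h.step 256 link8
  replace h : AllBelow linkOk 94720 := h.step 256 link9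
  replace h : AllBelow linkOk 94976 := h.step 256 link10
  replace h : AllBelow linkOk 95232 := h.step 256 link11
  replace h : AllBelow linkOk 95488 := h.step 256 link12
  replace h : AllBelow linkOk 95744 := h.step 256 link13
  replace h : AllBelow linkOk 96000 := h.step 256 link14
  replace h : AllBelow linkOk 96256 := h.step 256 link15
  replace h : AllBelow linkOk 96512 := h.step 256 link16
  replace h : AllBelow linkOk 96768 := h.step 256 link17
  replace h : AllBelow linkOk 97024 := h.step 256 link18
  replace h : AllBelow linkOk 97280 := h.step 256 link19
  replace h : AllBelow linkOk 97536 := h.step 256 link20
  replace h : AllBelow linkOk 97792 := h.step 256 link21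
  replace h : AllBelow linkOk 98048 := h.step 256 link22
  replace h : AllBelow linkOk 98304 := h.step 256 link23
  replace h : AllBelow linkOk 98560 := h.step 256 link24
  replace h : AllBelow linkOk 98816 := h.step 256 link25
  replace h : AllBelow linkOk 99072 := h.step 256 link26
  replace h : AllBelow linkOk 99328 := h.step 256 link27
  replace h : AllBelow linkOk 99584 := h.step 256 link28
  replace h : AllBelow linkOk 99840 := h.step 256 link29
  replace h : AllBelow linkOk 100096 := h.step 256 link30
  replace h : AllBelow linkOk 100352 := h.step 256 link31
  replace h : AllBelow linkOk 100608 := h.step 256 link32
  replace h : AllBelow linkOk 100864 := h.step 256 link33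
  replace h : AllBelow linkOk 101120 := h.step 256 link34
  replace h : AllBelow linkOk 101376 := h.step 256 link35
  replace h : AllBelow linkOk 101632 := h.step 256 link36
  replace h : AllBelow linkOk 101888 := h.step 256 link37
  replace h : AllBelow linkOk 102144 := h.step 256 link38
  replace h : AllBelow linkOk 102400 := h.step 256 link39
  replace h : AllBelow linkOk 102656 := h.step 256 link40
  replace h : AllBelow linkOk 102912 := h.step 256 link41
  replace h : AllBelow linkOk 103168 := h.step 256 link42
  replace h : AllBelow linkOk 103424 := h.step 256 link43
  replace h : AllBelow linkOk 103680 := h.step 256 link44
  replace h : AllBelow linkOk 103936 := h.step 256 link45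
  replace h : AllBelow linkOk 104192 := h.step 256 link46
  replace h : AllBelow linkOk 104448 := h.step 256 link47
  replace h : AllBelow linkOk 104704 := h.step 256 link48
  replace h : AllBelow linkOk 104960 := h.step 256 link49
  replace h : AllBelow linkOk 105216 := h.step 256 link50
  replace h : AllBelow linkOk 105472 := h.step 256 link51
  replace h : AllBelow linkOk 105728 := h.step 256 link52
  replace h : AllBelow linkOk 105984 := h.step 256 link53
  replace h : AllBelow linkOk 106240 := h.step 256 link54
  replace h : AllBelow linkOk 106496 := h.step 256 link55
  replace h : AllBelow linkOk 106752 := h.step 256 link56
  replace h : AllBelow linkOk 107008 := h.step 256 link57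
  replace h : AllBelow linkOk 107264 := h.step 256 link58
  replace h : AllBelow linkOk 107520 := h.step 256 link59
  exact h

end Cfsg.Agent.CosetCertON90L6
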