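import Cfsg.Agent.Lib.CosetCertON90Link

/-! Matching of the coset enumeration of the presented O'Nan group with the permutation table.
The data only feeds a checker; nothing here is assumed. -/

set_option autoImplicit false
set_option maxRecDepth 100000
set_option Elab.async false

namespace Cfsg.Agent.CosetCertON90L7

open Cfsg.Agent.CosetCertCore Cfsg.Agent.CosetCertTable Cfsg.Agent.CosetCertON90Data Cfsg.Agent.CosetCertON90Link

theorem link0 : allFrom linkOk 256 107520 = true := by decide +kernel

theorem link1 : allFrom linkOk 256 107776 = true := by decide +kernel

theorem link2 : allFrom linkOk 256 108032 = true := by decide +kernel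

theorem link3 : allFrom linkOk 256 108288 = true := by decide +kernel

theorem link4 : allFrom linkOk 256 108544 = true := by decide +kernel

theorem link5 : allFrom linkOk 256 108800 = true := by decide +kernel

theorem link6 : allFrom linkOk 256 109056 = true := by decide +kernel

theorem link7 : allFrom linkOk 256 109312 = true := by decide +kernel

theorem link8 : allFrom linkOk 256 109568 = true := by decide +kernel

theorem link9 : allFrom linkOk 256 109824 = true := by decide +kernel

theorem link10 : allFrom linkOk 256 110080 = true := by decide +kernel

theorem link11 : allFrom linkOk 256 110336 = true := by decide +kernel

theorem link12 : allFrom linkOk 256 110592 = true := by decide +kernel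

theorem link13 : allFrom linkOk 256 110848 = true := by decide +kernel

theorem link14 : allFrom linkOk 256 111104 = true := by decide +kernel

theorem link15 : allFrom linkOk 256 111360 = true := by decide +kernel

theorem link16 : allFrom linkOk 256 111616 = true := by decide +kernel

theorem link17 : allFrom linkOk 256 111872 = true := by decide +kernel

theorem link18 : allFrom linkOk 256 112128 = true := by decide +kernel

theorem link19 : allFrom linkOk 256 112384 = true := by decide +kernel

theorem link20 : allFrom linkOk 256 112640 = true := by decide +kernel

theorem link21 : allFrom linkOk 256 112896 = true := by decide +kernel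

theorem link22 : allFrom linkOk 256 113152 = true := by decide +kernel

theorem link23 : allFrom linkOk 256 113408 = true := by decide +kernel

theorem link24 : allFrom linkOk 256 113664 = true := by decide +kernel

theorem link25 : allFrom linkOk 256 113920 = true := by decide +kernel

theorem link26 : allFrom linkOk 256 114176 = true := by decide +kernel

theorem link27 : allFrom linkOk 256 114432 = true := by decide +kernel

theorem link28 : allFrom linkOk 256 114688 = true := by decide +kernel

theorem link29 : allFrom linkOk 256 114944 = true := by decide +kernel

theorem link30 : allFrom linkOk 256 115200 = true := by decide +kernel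

theorem link31 : allFrom linkOk 256 115456 = true := by decide +kernel

theorem link32 : allFrom linkOk 256 115712 = true := by decide +kernel

theorem link33 : allFrom linkOk 256 115968 = true := by decide +kernel

theorem link34 : allFrom linkOk 256 116224 = true := by decide +kernel

theorem link35 : allFrom linkOk 256 116480 = true := by decide +kernel

theorem link36 : allFrom linkOk 256 116736 = true := by decide +kernel

theorem link37 : allFrom linkOk 256 116992 = true := by decide +kernel

theorem link38 : allFrom linkOk 256 117248 = true := by decide +kernel

theorem link39 : allFrom linkOk 256 117504 = true := by decide +kernel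

theorem link40 : allFrom linkOk 256 117760 = true := by decide +kernel

theorem link41 : allFrom linkOk 256 118016 = true := by decide +kernel

theorem link42 : allFrom linkOk 256 118272 = true := by decide +kernel

theorem link43 : allFrom linkOk 256 118528 = true := by decide +kernel

theorem link44 : allFrom linkOk 256 118784 = true := by decide +kernel

theorem link45 : allFrom linkOk 256 119040 = true := by decide +kernel

theorem link46 : allFrom linkOk 256 119296 = true := by decide +kernel

theorem link47 : allFrom linkOk 256 119552 = true := by decide +kernel

theorem link48 : allFrom linkOk 256 119808 = true := by decide +kernel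

theorem link49 : allFrom linkOk 256 120064 = true := by decide +kernel

theorem link50 : allFrom linkOk 256 120320 = true := by decide +kernel

theorem link51 : allFrom linkOk 256 120576 = true := by decide +kernel

theorem link52 : allFrom linkOk 256 120832 = true := by decide +kernel

theorem link53 : allFrom linkOk 256 121088 = true := by decide +kernel

theorem link54 : allFrom linkOk 256 121344 = true := by decide +kernel

theorem link55 : allFrom linkOk 256 121600 = true := by decide +kernel

theorem link56 : allFrom linkOk 256 121856 = true := by decide +kernel

theorem link57 : allFrom linkOk 256 122112 = true := by decide +kernel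

theorem link58 : allFrom linkOk 256 122368 = true := by decide +kernel

theorem link59 : allFrom linkOk 136 122624 = true := by decide +kernel

/-- The points below 122760 pass. -/
theorem block (h : AllBelow linkOk 107520) : AllBelow linkOk 122760 := by
  replace h : AllBelow linkOk 107776 := h.step 256 link0
  replace h : AllBelow linkOk 108032 := h.step 256 link1
  replace h : AllBelow linkOk 108288 := h.step 256 link2
  replace h : AllBelow linkOk 108544 := h.step 256 link3
  replace h : AllBelow linkOk 108800 := h.step 256 link4
  replace h : AllBelow linkOk 109056 := h.step 256 link5
  replace h : AllBelow linkOk 109312 := h.step 256 link6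
  replace h : AllBelow linkOk 109568 := h.step 256 link7
  replace h : AllBelow linkOk 109824 := h.step 256 link8
  replace h : AllBelow linkOk 110080 := h.step 256 link9
  replace h : AllBelow linkOk 110336 := h.step 256 link10
  replace h : AllBelow linkOk 110592 := h.step 256 link11
  replace h : AllBelow linkOk 110848 := h.step 256 link12
  replace h : AllBelow linkOk 111104 := h.step 256 link13
  replace h : AllBelow linkOk 111360 := h.step 256 link14
  replace h : AllBelow linkOk 111616 := h.step 256 link15
  replace h : AllBelow linkOk 111872 := h.step 256 link16
  replace h : AllBelow linkOk 112128 := h.step 256 link17
  replace h : AllBelow linkOk 112384 := h.step 256 link18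
  replace h : AllBelow linkOk 112640 := h.step 256 link19
  replace h : AllBelow linkOk 112896 := h.step 256 link20
  replace h : AllBelow linkOk 113152 := h.step 256 link21
  replace h : AllBelow linkOk 113408 := h.step 256 link22
  replace h : AllBelow linkOk 113664 := h.step 256 link23
  replace h : AllBelow linkOk 113920 := h.step 256 link24
  replace h : AllBelow linkOk 114176 := h.step 256 link25
  replace h : AllBelow linkOk 114432 := h.step 256 link26
  replace h : AllBelow linkOk 114688 := h.step 256 link27
  replace h : AllBelow linkOk 114944 := h.step 256 link28
  replace h : AllBelow linkOk 115200 := h.step 256 link29
  replace h : AllBelow linkOk 115456 := h.step 256 link30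
  replace h : AllBelow linkOk 115712 := h.step 256 link31
  replace h : AllBelow linkOk 115968 := h.step 256 link32
  replace h : AllBelow linkOk 116224 := h.step 256 link33
  replace h : AllBelow linkOk 116480 := h.step 256 link34
  replace h : AllBelow linkOk 116736 := h.step 256 link35
  replace h : AllBelow linkOk 116992 := h.step 256 link36
  replace h : AllBelow linkOk 117248 := h.step 256 link37
  replace h : AllBelow linkOk 117504 := h.step 256 link38
  replace h : AllBelow linkOk 117760 := h.step 256 link39
  replace h : AllBelow linkOk 118016 := h.step 256 link40
  replace h : AllBelow linkOk 118272 := h.step 256 link41
  replace h : AllBelow linkOk 118528 := h.step 256 link42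
  replace h : AllBelow linkOk 118784 := h.step 256 link43
  replace h : AllBelow linkOk 119040 := h.step 256 link44
  replace h : AllBelow linkOk 119296 := h.step 256 link45
  replace h : AllBelow linkOk 119552 := h.step 256 link46
  replace h : AllBelow linkOk 119808 := h.step 256 link47
  replace h : AllBelow linkOk 120064 := h.step 256 link48
  replace h : AllBelow linkOk 120320 := h.step 256 link49
  replace h : AllBelow linkOk 120576 := h.step 256 link50
  replace h : AllBelow linkOk 120832 := h.step 256 link51
  replace h : AllBelow linkOk 121088 := h.step 256 link52
  replace h : AllBelow linkOk 121344 := h.step 256 link53
  replace h : AllBelow linkOk 121600 := h.step 256 link54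
  replace h : AllBelow linkOk 121856 := h.step 256 link55
  replace h : AllBelow linkOk 122112 := h.step 256 link56
  replace h : AllBelow linkOk 122368 := h.step 256 link57
  replace h : AllBelow linkOk 122624 := h.step 256 link58
  replace h : AllBelow linkOk 122760 := h.step 136 link59
  exact h

end Cfsg.Agent.CosetCertON90L7
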