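import Cfsg.Agent.Lib.CosetCertPres

/-!
Orders and simplicity of presented groups from coset enumeration certificates:
upper bounds by chains of enumerations, lower bounds by strong generators in a permutation image.
-/

set_option autoImplicit false
set_option linter.style.haveILetI false

namespace Cfsg.Agent.CosetCertOrder

open Cfsg.Agent.CosetCertCore Cfsg.Agent.CosetCertTable Cfsg.Agent.CosetCertPres

/-- A certificate whose table is closed under the generators. -/
structure Closed (C : Cert) (M : Nat) (D : Table) : Prop where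
  npos : 0 < D.N
  node0 : D.node 0 = 0
  points : AllBelow (pointOk C M D) D.N
  facts : ∀ {G X : Type} [Group G] [MulAction G X] (g : Nat → G) (base : X),
    Ctx g base C → AllValid g (nodeVal g base C) C M

theorem Closed.ofEnumerated {P : Pres} {S : List Wx} {C : Cert} {M : Nat} {D : Table}
    (h : Enumerated P S C M D) : Closed C M D :=
  ⟨h.table.npos, h.table.node0, h.table.points, h.facts⟩

section

variable {C : Cert} {M : Nat} {D : Table} (hD : Closed C M D)
  {G : Type} [Group G] (g : Nat → G) (H : Subgroup G)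
include hD

theorem edge_closed (i x : Nat) (hi : i < D.N) (hx : x < D.NG) :
    D.img x i < D.N ∧ ∃ f < M, fc (C.fact f) = x + 1 ∧
      ((fp (C.fact f) = D.node i ∧ fq (C.fact f) = D.node (D.img x i)) ∨
        (fp (C.fact f) = D.node (D.img x i) ∧ fq (C.fact f) = D.node i)) := by
  have h := hD.points i hi
  simp only [pointOk, Bool.and_eq_true] at h
  have he := (allFrom_iff _ _ _).mp h.1 x (Nat.zero_le x) (by omega)
  simp only [edgeOk, force_eq, Bool.and_eq_true, Bool.or_eq_true, Nat.blt_eq, Nat.beq_eq] at he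
  obtain ⟨⟨⟨⟨h1, -⟩, h3⟩, h4⟩, h5⟩ := he
  exact ⟨h1, _, h3, h4, h5⟩

theorem node_smul (hctx : Ctx g ((1 : G) : G ⧸ H) C) {x i : Nat} (hi : i < D.N) (hx : x < D.NG) :
    g x • nodeVal g ((1 : G) : G ⧸ H) C (D.node i) =
      nodeVal g ((1 : G) : G ⧸ H) C (D.node (D.img x i)) := by
  obtain ⟨-, f, hf, hc, he⟩ := edge_closed hD i x hi hx
  have hs := hD.facts g _ hctx f hf
  rw [Sem, if_neg (by omega), show fc (C.fact f) - 1 = x by omega] at hs
  rcases he with ⟨e1, e2⟩ | ⟨e1, e2⟩
  · rw [← e1, ← e2, hs]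
  · rw [← e1, ← e2, ← hs, smul_self g hctx.invol]

theorem node_act (hctx : Ctx g ((1 : G) : G ⧸ H) C) (w : List Nat) (hw : ∀ x ∈ w, x < D.NG)
    (i : Nat) (hi : i < D.N) :
    act g w (nodeVal g ((1 : G) : G ⧸ H) C (D.node i)) =
      nodeVal g ((1 : G) : G ⧸ H) C (D.node (D.run w i)) := by
  induction w generalizing i with
  | nil => rfl
  | cons x w ih =>
    rw [act_cons, node_smul hD g H hctx hi (hw x (List.mem_cons_self ..)), Table.run_cons]
    exact ih (fun y hy => hw y (List.mem_cons_of_mem _ hy)) _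
      (edge_closed hD i x hi (hw x (List.mem_cons_self ..))).1

variable (hinv : ∀ x, g x * g x = 1) (hrels : ∀ w ∈ C.rels, val g w = 1)
  (hs : ∀ w ∈ C.sgens, val g w ∈ H)
include hinv hrels hs

omit hD in
theorem ctx_of : Ctx g ((1 : G) : G ⧸ H) C := by
  refine ⟨hinv, hrels, fun w hw => ?_⟩
  rw [act_eq _ hinv]
  show (((val g w)⁻¹ * 1 : G) : G ⧸ H) = _
  rw [mul_one, eq_comm, QuotientGroup.eq, inv_one, one_mul, inv_mem_iff]
  exact hs w hw

theorem cosets_le (hgen : Subgroup.closure {y | ∃ x, x < D.NG ∧ y = g x} = ⊤) :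
    Finite (G ⧸ H) ∧ Nat.card (G ⧸ H) ≤ D.N := by
  have hctx := ctx_of g H hinv hrels hs
  have hcl : ∀ k : G, ∀ i : Fin D.N, ∃ j : Fin D.N,
      k • nodeVal g ((1 : G) : G ⧸ H) C (D.node i) = nodeVal g ((1 : G) : G ⧸ H) C (D.node j) := by
    intro k
    have hk : k ∈ Subgroup.closure {y | ∃ x, x < D.NG ∧ y = g x} := hgen ▸ Subgroup.mem_top k
    induction hk using Subgroup.closure_induction'' with
    | mem y hy =>
      obtain ⟨x, hx, rfl⟩ := hy
      intro i
      exact ⟨⟨D.img x i, (edge_closed hD i x i.2 hx).1⟩, node_smul hD g H hctx i.2 hx⟩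
    | inv_mem y hy =>
      obtain ⟨x, hx, rfl⟩ := hy
      intro i
      rw [inv_of_sq g hinv]
      exact ⟨⟨D.img x i, (edge_closed hD i x i.2 hx).1⟩, node_smul hD g H hctx i.2 hx⟩
    | one => intro i; exact ⟨i, one_smul _ _⟩
    | mul a b _ _ ha hb =>
      intro i
      obtain ⟨j, hj⟩ := hb i
      obtain ⟨l, hl⟩ := ha j
      exact ⟨l, by rw [mul_smul, hj, hl]⟩
  have hsurj : Function.Surjective
      (fun i : Fin D.N => nodeVal g ((1 : G) : G ⧸ H) C (D.node i)) := by
    intro q
    induction q using QuotientGroup.induction_on with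
    | H k =>
      obtain ⟨j, hj⟩ := hcl k ⟨0, hD.npos⟩
      refine ⟨j, hj.symm.trans ?_⟩
      rw [hD.node0, nodeVal_zero]
      show ((k * 1 : G) : G ⧸ H) = _
      rw [mul_one]
  exact ⟨Finite.of_surjective _ hsurj,
    (Nat.card_le_card_of_surjective _ hsurj).trans_eq (Nat.card_fin _)⟩

theorem val_mem_of_run (w : List Nat) (hw : ∀ x ∈ w, x < D.NG) (h0 : D.run w 0 = 0) :
    val g w ∈ H := by
  have hctx := ctx_of g H hinv hrels hs
  have h := node_act hD g H hctx w hw 0 hD.npos
  rw [h0, hD.node0, nodeVal_zero, act_eq _ hinv] at h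
  change (((val g w)⁻¹ * 1 : G) : G ⧸ H) = _ at h
  rw [mul_one, eq_comm, QuotientGroup.eq, inv_one, one_mul, inv_mem_iff] at h
  exact h

end

/-! ### Chains of subgroups generated by subsets of the generators -/

/-- Renumbering of letters. -/
def ren (σ : List Nat) (x : Nat) : Nat := σ.getD x (σ.headD 0)

section

variable {G : Type} [Group G] (gg : Nat → G)

/-- The subgroup generated by some generators. -/
def span (σ : List Nat) : Subgroup G := Subgroup.closure {y | ∃ i ∈ σ, y = gg i}

theorem span_nil : span gg [] = ⊥ := by simp [span]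

theorem ren_mem {σ : List Nat} (hne : σ ≠ []) (x : Nat) : ren σ x ∈ σ := by
  unfold ren
  by_cases hx : x < σ.length
  · rw [List.getD_eq_getElem _ _ hx]; exact List.getElem_mem hx
  · rw [List.getD_eq_default _ _ (Nat.le_of_not_lt hx)]
    cases σ with
    | nil => exact absurd rfl hne
    | cons a t => exact List.mem_cons_self ..

/-- Generators of a span, as elements of it. -/
def spanGen (σ : List Nat) (hne : σ ≠ []) (x : Nat) : span gg σ :=
  ⟨gg (ren σ x), Subgroup.subset_closure ⟨_, ren_mem hne x, rfl⟩⟩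

theorem spanGen_val (σ : List Nat) (hne : σ ≠ []) (w : List Nat) :
    ((val (spanGen gg σ hne) w : span gg σ) : G) = val gg (w.map (ren σ)) := by
  unfold val
  rw [← Subgroup.coe_subtype, map_list_prod, List.map_map, List.map_map]
  rfl

theorem spanGen_closure (σ : List Nat) (hne : σ ≠ []) :
    Subgroup.closure {y | ∃ x, x < σ.length ∧ y = spanGen gg σ hne x} = ⊤ := by
  rw [eq_top_iff]
  rintro ⟨k, hk⟩ -
  induction hk using Subgroup.closure_induction with
  | mem k hk =>
    obtain ⟨i, hi, rfl⟩ := hk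
    obtain ⟨x, hx, rfl⟩ := List.mem_iff_getElem.mp hi
    refine Subgroup.subset_closure ⟨x, hx, Subtype.ext ?_⟩
    show gg σ[x] = gg (ren σ x)
    rw [ren, List.getD_eq_getElem _ _ hx]
  | one => exact Subgroup.one_mem _
  | mul a b _ _ ha hb => exact Subgroup.mul_mem _ ha hb
  | inv a _ ha => exact Subgroup.inv_mem _ ha

variable (hinv : ∀ x, gg x * gg x = 1) {C : Cert} {M : Nat} {D : Table} (hD : Closed C M D)
  {σ : List Nat} (hlen : D.NG = σ.length) (hne : σ ≠ [])
  (hrels : ∀ w ∈ C.rels, val gg (w.map (ren σ)) = 1)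
include hinv hD hrels hne

/-- A word that fixes the first coset of the trivial subgroup is the identity. -/
theorem word_eq_one (hsg : C.sgens = []) (w : List Nat) (hw : ∀ x ∈ w, x < D.NG)
    (h0 : D.run w 0 = 0) : val gg (w.map (ren σ)) = 1 := by
  have h := val_mem_of_run hD (spanGen gg σ hne) ⊥ (fun x => Subtype.ext (hinv _))
    (fun v hv => Subtype.ext (by rw [spanGen_val, hrels v hv]; rfl)) (by simp [hsg]) w hw h0
  rw [Subgroup.mem_bot] at h
  rw [← spanGen_val gg σ hne, h]
  rfl

include hlen in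
/-- One step of a chain of subgroups. -/
theorem span_card_le {τ : List Nat} (hsub : ∀ i ∈ τ, i ∈ σ)
    (hsg : ∀ w ∈ C.sgens, val gg (w.map (ren σ)) ∈ span gg τ)
    {n : Nat} (hτ : Finite (span gg τ) ∧ Nat.card (span gg τ) ≤ n) :
    Finite (span gg σ) ∧ Nat.card (span gg σ) ≤ D.N * n := by
  have hle : span gg τ ≤ span gg σ :=
    Subgroup.closure_mono fun y ⟨i, hi, hy⟩ => ⟨i, hsub i hi, hy⟩
  obtain ⟨hf, hc⟩ := cosets_le hD (spanGen gg σ hne) ((span gg τ).subgroupOf (span gg σ))
    (fun x => Subtype.ext (hinv _))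
    (fun v hv => Subtype.ext (by rw [spanGen_val, hrels v hv]; rfl))
    (fun v hv => by rw [Subgroup.mem_subgroupOf, spanGen_val]; exact hsg v hv)
    (hlen ▸ spanGen_closure gg σ hne)
  obtain ⟨hτf, hτc⟩ := hτ
  have e := Subgroup.subgroupOfEquivOfLe hle
  haveI : Finite ((span gg τ).subgroupOf (span gg σ)) := Finite.of_equiv _ e.symm.toEquiv
  have hfin : Finite (span gg σ) := Finite.of_equiv _
    (Subgroup.groupEquivQuotientProdSubgroup (s := (span gg τ).subgroupOf (span gg σ))).symm
  refine ⟨hfin, ?_⟩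
  rw [Nat.card_congr (Subgroup.groupEquivQuotientProdSubgroup
    (s := (span gg τ).subgroupOf (span gg σ))), Nat.card_prod]
  exact Nat.mul_le_mul hc ((Nat.card_congr e.toEquiv).trans_le hτc)

end

theorem span_nil_card {G : Type} [Group G] (gg : Nat → G) :
    Finite (span gg []) ∧ Nat.card (span gg []) ≤ 1 := by
  rw [span_nil]
  exact ⟨inferInstance, by rw [Subgroup.card_bot]⟩

theorem span_all {P : Pres} (hP : P.Good) :
    span P.gg (List.range P.gens.length) = ⊤ := by
  rw [← closure_gg hP, span]
  congr 1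
  ext y
  simp [List.mem_range]

theorem card_le_of_span_all {P : Pres} (hP : P.Good) {n : Nat}
    (h : Finite (span P.gg (List.range P.gens.length)) ∧
      Nat.card (span P.gg (List.range P.gens.length)) ≤ n) :
    Finite P.Grp ∧ Nat.card P.Grp ≤ n := by
  rw [span_all hP] at h
  obtain ⟨hf, hc⟩ := h
  refine ⟨Finite.of_equiv _ Subgroup.topEquiv.toEquiv, ?_⟩
  rwa [Subgroup.card_top] at hc

/-! ### Strong generators in a permutation image -/

/-- Strong generating data: tables of auxiliary elements with the words they come from. -/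
structure Elts where
  tabs : List Tbl
  words : List (Bool × List Nat)

/-- Image under element `k` (the first `NG` elements are the generators). -/
noncomputable def Elts.img (E : Elts) (D : Table) (k i : Nat) : Nat :=
  cond (Nat.blt k D.NG) (D.img k i) (entry (E.tabs.getD (k - D.NG) (.leaf 0)) 20 i)

/-- Image under a word of elements. -/
noncomputable def Elts.run (E : Elts) (D : Table) (w : List Nat) : Nat → Nat :=
  List.rec (motive := fun _ => Nat → Nat) (fun i => i)
    (fun x _ ih i => force (E.img D x i) ih) w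

theorem Elts.run_cons (E : Elts) (D : Table) (x : Nat) (w : List Nat) (i : Nat) :
    E.run D (x :: w) i = E.run D w (E.img D x i) := by
  simp only [Elts.run, force_eq]

/-- Check auxiliary element `k` at point `i`: it is a product, or the inverse of one. -/
noncomputable def eltOk (E : Elts) (D : Table) (k i : Nat) : Bool :=
  cond (E.words.getD k (true, [])).1
    (Nat.beq (E.run D (E.words.getD k (true, [])).2 i) (E.img D (D.NG + k) i))
    (force (E.run D (E.words.getD k (true, [])).2 i) fun j =>
      Nat.beq (E.img D (D.NG + k) j) i && Nat.blt (E.img D (D.NG + k) i) D.N)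

/-- All auxiliary elements only use earlier ones. -/
noncomputable def wordsOk (E : Elts) (D : Table) : Bool :=
  allFrom (fun k => (E.words.getD k (true, [])).2.all fun x => Nat.blt x (D.NG + k)) E.words.length 0

section

variable {P : Pres} {S : List Wx} {C : Cert} {M : Nat} {D : Table}
  (h : Enumerated P S C M D) {E : Elts} (hw : wordsOk E D = true)
  (hE : ∀ k, k < E.words.length → AllBelow (eltOk E D k) D.N)
include h hw hE

theorem elts_mem (k : Nat) (hk : k < D.NG + E.words.length) :
    ∃ p ∈ (rho h).range, ∀ i : Fin D.N, ((p i : Fin D.N) : Nat) = E.img D k i := by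
  induction k using Nat.strong_induction_on with
  | _ k ih =>
    by_cases hg : k < D.NG
    · refine ⟨perm h.table k, ⟨P.gg k, rho_gg h k hg⟩, fun i => ?_⟩
      rw [perm_apply h.table hg, Elts.img, Nat.blt_eq.mpr hg]
      rfl
    · obtain ⟨d, rfl⟩ : ∃ d, k = D.NG + d := ⟨k - D.NG, by omega⟩
      have hd : d < E.words.length := by omega
      have hlt := (allFrom_iff _ _ _).mp hw d (Nat.zero_le _) (by omega)
      simp only [List.all_eq_true, Nat.blt_eq] at hlt
      have hword : ∀ w : List Nat, (∀ x ∈ w, x < D.NG + d) →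
          ∃ p ∈ (rho h).range, ∀ i : Fin D.N, ((p i : Fin D.N) : Nat) = E.run D w i := by
        intro w
        induction w with
        | nil => exact fun _ => ⟨1, one_mem _, fun i => rfl⟩
        | cons x w ihw =>
          intro hx
          have hxl := hx x (List.mem_cons_self ..)
          obtain ⟨p, hp, hpi⟩ := ih x hxl (by omega)
          obtain ⟨q, hq, hqi⟩ := ihw (fun y hy => hx y (List.mem_cons_of_mem _ hy))
          refine ⟨q * p, mul_mem hq hp, fun i => ?_⟩
          rw [Equiv.Perm.mul_apply, hqi, hpi, Elts.run_cons]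
      obtain ⟨p, hp, hpi⟩ := hword _ hlt
      cases hb : (E.words.getD d (true, [])).1 with
      | true =>
        refine ⟨p, hp, fun i => ?_⟩
        have := hE d hd i i.2
        rw [eltOk, hb, cond_true, Nat.beq_eq] at this
        rw [hpi, this]
      | false =>
        refine ⟨p⁻¹, inv_mem hp, fun i => ?_⟩
        have := hE d hd (p⁻¹ i : Fin D.N) (p⁻¹ i).2
        rw [eltOk, hb, cond_false, force_eq, Bool.and_eq_true, Nat.beq_eq] at this
        rw [← hpi, show p (p⁻¹ i) = i from Equiv.apply_symm_apply p i] at this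
        exact this.1.symm

end

/-- Check the orbit data of a stage at point `i`. -/
noncomputable def stageOk (E : Elts) (D : Table) (O : Tbl) (gens : List Nat) (b i : Nat) : Bool :=
  force (entry O 48 i) fun e =>
  cond (Nat.beq (oLabel e) 1)
    (cond (Nat.beq (oDepth e) 0) (Nat.beq i b)
      (Nat.blt (oPar e) D.N && Nat.beq (oLabel (entry O 48 (oPar e))) 1 &&
        Nat.blt (oDepth (entry O 48 (oPar e))) (oDepth e) &&
        Nat.blt (oWord e) gens.length && Nat.beq (E.img D (gens.getD (oWord e) 0) (oPar e)) i))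
    true

/-- The generators of a stage are elements fixing the earlier base points. -/
noncomputable def fixOk (E : Elts) (D : Table) (gens fixes : List Nat) : Bool :=
  gens.all fun k => Nat.blt k (D.NG + E.words.length) &&
    fixes.all fun a => Nat.blt a D.N && Nat.beq (E.img D k a) a

/-- The elements of a subgroup fixing some points. -/
def fixing {n : Nat} (R : Subgroup (Equiv.Perm (Fin n))) : List Nat → Subgroup (Equiv.Perm (Fin n))
  | [] => R
  | a :: l => if ha : a < n then fixing R l ⊓ MulAction.stabilizer _ (⟨a, ha⟩ : Fin n) else fixing R l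

theorem mem_fixing {n : Nat} {R : Subgroup (Equiv.Perm (Fin n))} {l : List Nat}
    {p : Equiv.Perm (Fin n)} :
    p ∈ fixing R l ↔ p ∈ R ∧ ∀ a ∈ l, ∀ ha : a < n, p ⟨a, ha⟩ = ⟨a, ha⟩ := by
  induction l with
  | nil => simp [fixing]
  | cons a l ih =>
    unfold fixing
    split
    · rename_i ha
      rw [Subgroup.mem_inf, ih, MulAction.mem_stabilizer_iff, Equiv.Perm.smul_def]
      constructor
      · rintro ⟨⟨h1, h2⟩, h3⟩
        exact ⟨h1, List.forall_mem_cons.mpr ⟨fun _ => h3, h2⟩⟩
      · rintro ⟨h1, h2⟩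
        obtain ⟨h3, h4⟩ := List.forall_mem_cons.mp h2
        exact ⟨⟨h1, h4⟩, h3 ha⟩
    · rename_i ha
      rw [ih, List.forall_mem_cons]
      simp [ha]

section

variable {P : Pres} {S : List Wx} {C : Cert} {M : Nat} {D : Table}
  (h : Enumerated P S C M D) {E : Elts} (hw : wordsOk E D = true)
  (hE : ∀ k, k < E.words.length → AllBelow (eltOk E D k) D.N)
include h hw hE

/-- One stage of a lower bound for the order of the image. -/
theorem stage_le {O : Tbl} {gens fixes : List Nat} {b n m : Nat} (hb : b < D.N)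
    (hfix : fixOk E D gens fixes = true) (hO : AllBelow (stageOk E D O gens b) D.N)
    (hn : countLabel O 1 D.N = n) (hm : m ≤ Nat.card (fixing (rho h).range (b :: fixes))) :
    n * m ≤ Nat.card (fixing (rho h).range fixes) := by
  set R := fixing (rho h).range fixes with hR
  have hmem : ∀ i : Fin D.N, oLabel (entry O 48 i) = 1 →
      i ∈ MulAction.orbit R (⟨b, hb⟩ : Fin D.N) := by
    suffices ∀ d, ∀ i : Fin D.N, oDepth (entry O 48 i) < d → oLabel (entry O 48 i) = 1 →
        i ∈ MulAction.orbit R (⟨b, hb⟩ : Fin D.N) from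
      fun i => this _ i (Nat.lt_succ_self _)
    intro d
    induction d with
    | zero => intro i hd; exact absurd hd (Nat.not_lt_zero _)
    | succ d ih =>
      intro i hd hl
      have hi := hO i i.2
      simp only [stageOk, force_eq, hl, Nat.beq_refl, cond_true] at hi
      by_cases h0 : oDepth (entry O 48 i) = 0
      · simp only [h0, Nat.beq_refl, cond_true, Nat.beq_eq] at hi
        rw [show i = ⟨b, hb⟩ from Fin.ext hi]
        exact MulAction.mem_orbit_self _
      · have hne : Nat.beq (oDepth (entry O 48 i)) 0 = false := by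
          rw [← Bool.not_eq_true, Nat.beq_eq]; exact h0
        rw [hne] at hi
        simp only [cond_false, Bool.and_eq_true, Nat.blt_eq, Nat.beq_eq] at hi
        obtain ⟨⟨⟨⟨hj, hjl⟩, hjd⟩, hwlt⟩, himg⟩ := hi
        have hprev := ih ⟨_, hj⟩ (by show oDepth (entry O 48 (oPar (entry O 48 i))) < d; omega) hjl
        have hk : gens.getD (oWord (entry O 48 i)) 0 ∈ gens := by
          rw [List.getD_eq_getElem _ _ hwlt]; exact List.getElem_mem hwlt
        simp only [fixOk, List.all_eq_true, Bool.and_eq_true, Nat.blt_eq, Nat.beq_eq] at hfix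
        obtain ⟨hkl, hka⟩ := hfix _ hk
        obtain ⟨p, hp, hpi⟩ := elts_mem h hw hE _ hkl
        have hpR : p ∈ R := mem_fixing.mpr ⟨hp, fun a ha ha' => Fin.ext (by
          rw [hpi]; exact (hka a ha).2)⟩
        have he : i = (⟨p, hpR⟩ : R) • (⟨_, hj⟩ : Fin D.N) := Fin.ext (by
          show (i : Nat) = ((p ⟨_, hj⟩ : Fin D.N) : Nat)
          rw [hpi]
          exact himg.symm)
        rw [he]
        exact MulAction.mem_orbit_of_mem_orbit _ hprev
  have horb : n ≤ Nat.card (MulAction.orbit R (⟨b, hb⟩ : Fin D.N)) := by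
    rw [← hn, countLabel_eq, Nat.card_coe_set_eq, ← Set.ncard_coe_finset,
      ← Set.ncard_image_of_injective _ Fin.val_injective]
    refine Set.ncard_le_ncard ?_ (Set.toFinite _)
    intro a ha
    simp only [Finset.coe_filter, Finset.mem_range, Set.mem_ofPred_eq] at ha
    exact ⟨⟨a, ha.1⟩, hmem _ ha.2, rfl⟩
  have hstab : fixing (rho h).range (b :: fixes) =
      (MulAction.stabilizer R (⟨b, hb⟩ : Fin D.N)).map R.subtype := by
    ext p
    rw [mem_fixing, List.forall_mem_cons]
    constructor
    · rintro ⟨h1, h2, h3⟩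
      exact ⟨⟨p, mem_fixing.mpr ⟨h1, h3⟩⟩, h2 hb, rfl⟩
    · rintro ⟨⟨q, hq⟩, hs, rfl⟩
      exact ⟨(mem_fixing.mp hq).1, fun _ => hs, (mem_fixing.mp hq).2⟩
  rw [hstab, Nat.card_congr ((MulAction.stabilizer R (⟨b, hb⟩ : Fin D.N)).equivMapOfInjective R.subtype
    R.subtype_injective).toEquiv.symm] at hm
  refine (Nat.mul_le_mul horb hm).trans_eq ?_
  rw [← Nat.card_prod]
  exact Nat.card_congr (MulAction.orbitProdStabilizerEquivGroup R (⟨b, hb⟩ : Fin D.N))

end

/-- The presented group has exactly the order of both bounds, and acts faithfully. -/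
theorem card_eq_and_injective {P : Pres} {S : List Wx} {C : Cert} {M : Nat} {D : Table}
    (h : Enumerated P S C M D) {o : Nat} (hup : Finite P.Grp ∧ Nat.card P.Grp ≤ o)
    (hlow : o ≤ Nat.card (fixing (rho h).range [])) :
    Nat.card P.Grp = o ∧ Function.Injective (rho h) := by
  obtain ⟨hf, hc⟩ := hup
  change o ≤ Nat.card (rho h).range at hlow
  have hsurj : Function.Surjective (rho h).rangeRestrict := MonoidHom.rangeRestrict_surjective _
  have hle := Nat.card_le_card_of_surjective _ hsurj
  refine ⟨by omega, ?_⟩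
  have hbij : Function.Bijective (rho h).rangeRestrict := by
    rw [Nat.bijective_iff_surjective_and_card]
    exact ⟨hsurj, by omega⟩
  intro a b hab
  exact hbij.1 (Subtype.ext hab)

/-- No union of suborbits containing the first one has size a proper divisor of `N` other than 1. -/
def GoodBlocks (O : Tbl) (N len : Nat) : Prop :=
  ∀ T ∈ ((Finset.range len).erase 0).powerset,
    (1 + ∑ k ∈ T, countLabel O k N) = 1 ∨ (1 + ∑ k ∈ T, countLabel O k N) = N ∨
      ¬ (1 + ∑ k ∈ T, countLabel O k N) ∣ N

section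

variable {P : Pres} {S : List Wx} {C : Cert} {M : Nat} {D : Table}
  (h : Enumerated P S C M D)
include h

/-- The subgroup of the cosets is maximal when no union of suborbits can be a block. -/
theorem block_cases {O : Tbl} {roots : List Nat}
    (hO : AllBelow (orbOk O roots C.sgens D) D.N)
    (hlab : allFrom (fun i => Nat.blt (oLabel (entry O 48 i)) roots.length) D.N 0 = true)
    (hzero : oLabel (entry O 48 0) = 0)
    (hone : countLabel O 0 D.N = 1)
    (hgood : GoodBlocks O D.N roots.length)
    (U : Subgroup P.Grp) (hU : P.sub S ≤ U) : U = P.sub S ∨ U = ⊤ := by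
  obtain ⟨φ, hφ0, hφ⟩ := exists_coset_equiv h
  classical
  set B : Set (Fin D.N) := {i | ∃ u ∈ U, φ i = ((u : P.Grp) : P.Grp ⧸ P.sub S)} with hB
  have hlab' : ∀ i : Fin D.N, oLabel (entry O 48 i) < roots.length := fun i =>
    Nat.blt_eq.mp ((allFrom_iff _ _ _).mp hlab i (Nat.zero_le _) (by omega))
  have hBinv : ∀ i j : Fin D.N, oLabel (entry O 48 i) = oLabel (entry O 48 j) → i ∈ B → j ∈ B := by
    intro i j hij hi
    obtain ⟨-, hroot⟩ := orb_facts h hO i i.2
    have key : ∀ r : Fin D.N, ∀ k, oLabel (entry O 48 r) = k → roots.getD k 0 = r →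
        ∀ a b : Fin D.N, oLabel (entry O 48 a) = k → oLabel (entry O 48 b) = k → a ∈ B → b ∈ B := by
      intro r k hrk hr a b ha hb haB
      have horb := exists_orbit h hO k r r.2 hr hrk φ hφ
      have h1 : φ a ∈ MulAction.orbit (P.sub S) (φ r) := horb ▸ ⟨a, ha, rfl⟩
      have h2 : φ b ∈ MulAction.orbit (P.sub S) (φ r) := horb ▸ ⟨b, hb, rfl⟩
      rw [← MulAction.orbit_eq_iff] at h1 h2
      have h3 : φ b ∈ MulAction.orbit (P.sub S) (φ a) := by
        rw [h1, ← h2]; exact MulAction.mem_orbit_self _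
      obtain ⟨⟨s, hs⟩, hsb⟩ := h3
      obtain ⟨u, hu, hau⟩ := haB
      refine ⟨s * u, mul_mem (hU hs) hu, ?_⟩
      rw [← hsb, hau]
      rfl
    obtain ⟨r, hr, hrl⟩ : ∃ r : Fin D.N, roots.getD (oLabel (entry O 48 i)) 0 = r ∧
        oLabel (entry O 48 r) = oLabel (entry O 48 i) := by
      suffices ∀ d, ∀ a : Fin D.N, oDepth (entry O 48 a) < d → ∃ r : Fin D.N,
          roots.getD (oLabel (entry O 48 a)) 0 = r ∧ oLabel (entry O 48 r) = oLabel (entry O 48 a) from
        this _ i (Nat.lt_succ_self _)
      intro d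
      induction d with
      | zero => intro a hd; exact absurd hd (Nat.not_lt_zero _)
      | succ d ih =>
        intro a hd
        obtain ⟨hl, hc⟩ := orb_facts h hO a a.2
        rcases hc with ⟨-, hroot⟩ | ⟨j, w, hw, hj, hdj, hrun⟩
        · exact ⟨a, hroot, rfl⟩
        · obtain ⟨r, hr, hrl⟩ := ih ⟨j, hj⟩ (by show oDepth (entry O 48 j) < d; omega)
          have : oLabel (entry O 48 a) = oLabel (entry O 48 j) := by
            rw [← (orb_facts h hO j hj).1 w hw, hrun]
          exact ⟨r, by rw [this]; exact hr, by rw [this]; exact hrl⟩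
    exact key r _ hrl hr i j rfl hij.symm hi
  have h0B : (⟨0, h.table.npos⟩ : Fin D.N) ∈ B := ⟨1, one_mem _, hφ0⟩
  have hBimage : φ '' B = MulAction.orbit U ((1 : P.Grp) : P.Grp ⧸ P.sub S) := by
    ext q
    constructor
    · rintro ⟨i, ⟨u, hu, hiu⟩, rfl⟩
      refine ⟨⟨u, hu⟩, ?_⟩
      show ((u * 1 : P.Grp) : P.Grp ⧸ P.sub S) = _
      rw [mul_one, hiu]
    · rintro ⟨⟨u, hu⟩, rfl⟩
      refine ⟨φ.symm _, ⟨u, hu, ?_⟩, φ.apply_symm_apply _⟩
      rw [φ.apply_symm_apply]
      show ((u * 1 : P.Grp) : P.Grp ⧸ P.sub S) = _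
      rw [mul_one]
  have hcardB : B.ncard = (P.sub S).relIndex U := by
    rw [← Set.ncard_image_of_injective B φ.injective, hBimage, ← MulAction.index_stabilizer,
      Subgroup.relIndex]
    congr 1
    ext ⟨u, hu⟩
    rw [MulAction.mem_stabilizer_iff, Subgroup.mem_subgroupOf]
    show ((u * 1 : P.Grp) : P.Grp ⧸ P.sub S) = _ ↔ _
    rw [mul_one, eq_comm, QuotientGroup.eq, inv_one, one_mul]
  have hdvd : B.ncard ∣ D.N := by
    rw [hcardB, ← index_sub h, ← Subgroup.relIndex_mul_index hU]
    exact Dvd.intro _ rfl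
  set L : Finset Nat := (Finset.range roots.length).filter
    (fun k => ∃ i ∈ B, oLabel (entry O 48 (i : Fin D.N)) = k) with hL
  have hcount : B.ncard = ∑ k ∈ L, countLabel O k D.N := by
    rw [← Nat.card_coe_set_eq, Nat.card_eq_fintype_card, Fintype.card_ofFinset]
    · rw [Finset.card_eq_sum_card_fiberwise (f := fun i : Fin D.N => oLabel (entry O 48 i)) (t := L)]
      · refine Finset.sum_congr rfl fun k hk => ?_
        rw [countLabel_eq]
        obtain ⟨-, a, haB, hak⟩ := Finset.mem_filter.mp hk
        refine Finset.card_bij (fun i _ => (i : Nat)) ?_ (fun a _ b _ hab => Fin.ext hab) ?_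
        · intro i hi
          simp only [Finset.mem_filter] at hi
          exact Finset.mem_filter.mpr ⟨Finset.mem_range.mpr i.2, hi.2⟩
        · intro n hn
          obtain ⟨hn1, hn2⟩ := Finset.mem_filter.mp hn
          refine ⟨⟨n, Finset.mem_range.mp hn1⟩, Finset.mem_filter.mpr ⟨?_, hn2⟩, rfl⟩
          simpa using hBinv a ⟨n, Finset.mem_range.mp hn1⟩ (hak.trans hn2.symm) haB
      · intro i hi
        exact Finset.mem_filter.mpr ⟨Finset.mem_range.mpr (hlab' i), i, by simpa using hi, rfl⟩
  have hrpos : 0 < roots.length := lt_of_le_of_lt (Nat.zero_le _) (hlab' ⟨0, h.table.npos⟩)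
  have hk0 : 0 ∈ L := Finset.mem_filter.mpr ⟨Finset.mem_range.mpr hrpos, _, h0B, hzero⟩
  have hsplit : B.ncard = 1 + ∑ k ∈ L.erase 0, countLabel O k D.N := by
    rw [hcount, ← Finset.add_sum_erase _ _ hk0, hone]
  have hT : L.erase 0 ⊆ (Finset.range roots.length).erase 0 :=
    Finset.erase_subset_erase 0 (Finset.filter_subset _ _)
  rcases hgood _ (Finset.mem_powerset.mpr hT) with h1 | h1 | h1 <;> rw [← hsplit] at h1
  · refine Or.inl (le_antisymm ?_ hU)
    intro u hu
    exact Subgroup.relIndex_eq_one.mp (hcardB.symm.trans h1) hu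
  · refine Or.inr ?_
    have h2 := Subgroup.relIndex_mul_index hU
    rw [← hcardB, h1, index_sub h] at h2
    exact Subgroup.index_eq_one.mp (Nat.eq_of_mul_eq_mul_left h.table.npos
      (h2.trans (mul_one _).symm))
  · exact absurd hdvd h1

/-- Simplicity criterion. -/
theorem isSimpleGroup (hinj : Function.Injective (rho h))
    (hmax : ∀ U : Subgroup P.Grp, P.sub S ≤ U → U = P.sub S ∨ U = ⊤)
    {o p : Nat} (ho : Nat.card P.Grp = o) (hp : p.Prime) (hopos : 0 < o) (hN2 : 1 < D.N)
    (hp2 : ¬ p ∣ o / D.N) (w : List Nat)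
    (hw : ∀ i < D.N, D.run (List.replicate p w).flatten i = i) (hwl : ∀ x ∈ w, x < D.NG)
    {C' : Cert} {M' : Nat} {D' : Table} (hD' : Closed C' M' D') (hD'1 : D'.N = 1)
    (hng : D'.NG = P.gens.length) (hrels' : ∀ r ∈ C'.rels, r ∈ P.relWords ∨ r = w)
    (hsg' : C'.sgens = []) : IsSimpleGroup P.Grp := by
  haveI : Finite P.Grp := Nat.finite_of_card_ne_zero (by omega)
  have hinv := gg_sq h.good
  haveI : Nontrivial P.Grp := by
    refine (Finite.one_lt_card_iff_nontrivial).mp ?_
    exact hN2.trans_le (Nat.le_of_dvd Nat.card_pos (index_sub h ▸ Subgroup.index_dvd_card (P.sub S)))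
  have hwp : val P.gg w ^ p = 1 := by
    apply hinj
    rw [← val_replicate, rho_val h (fun x hx => by
      obtain ⟨l, hl, hxl⟩ := List.mem_flatten.mp hx
      rw [(List.mem_replicate.mp hl).2] at hxl
      exact hwl x hxl), map_one, ← inv_eq_one]
    apply Equiv.ext
    intro i
    apply Fin.ext
    rw [← Equiv.Perm.smul_def, ← act_eq _ (perm_sq h.table), act_perm h.table _ (fun x hx => by
      obtain ⟨l, hl, hxl⟩ := List.mem_flatten.mp hx
      rw [(List.mem_replicate.mp hl).2] at hxl
      exact hwl x hxl)]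
    exact hw i i.2
  refine ⟨fun K hK => ?_⟩
  rcases hmax (K ⊔ P.sub S) le_sup_right with hKS | hKS
  · left
    rw [sup_eq_right] at hKS
    rw [eq_bot_iff]
    intro k hk
    apply hinj
    rw [map_one]
    obtain ⟨φ, hφ0, hφ⟩ := exists_coset_equiv h
    refine Equiv.ext fun i => φ.injective ?_
    rw [hφ, Equiv.Perm.one_apply]
    generalize φ i = q
    induction q using QuotientGroup.induction_on with
    | H a =>
      show ((k * a : P.Grp) : P.Grp ⧸ P.sub S) = _
      rw [QuotientGroup.eq, show (k * a)⁻¹ * a = a⁻¹ * k⁻¹ * a by group]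
      exact hKS (by simpa using hK.conj_mem k⁻¹ (inv_mem hk) a⁻¹)
  · right
    have hdvd : K.index ∣ o / D.N := by
      haveI := hK
      rw [← ho, ← Subgroup.index_mul_card (P.sub S), index_sub h,
        Nat.mul_div_cancel_left _ h.table.npos, ← Subgroup.relIndex_top_right K, ← hKS, sup_comm,
        Subgroup.relIndex_sup_right]
      exact Subgroup.relIndex_dvd_card ..
    have hwK : val P.gg w ∈ K := by
      rw [← QuotientGroup.eq_one_iff]
      have h1 : orderOf ((val P.gg w : P.Grp) : P.Grp ⧸ K) ∣ p := by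
        apply orderOf_dvd_of_pow_eq_one
        rw [← QuotientGroup.mk_pow, hwp]
        rfl
      have h2 : orderOf ((val P.gg w : P.Grp) : P.Grp ⧸ K) ∣ Nat.card (P.Grp ⧸ K) :=
        orderOf_dvd_natCard _
      rcases hp.eq_one_or_self_of_dvd _ h1 with h3 | h3
      · exact orderOf_eq_one_iff.mp h3
      · exfalso
        rw [h3] at h2
        exact hp2 (h2.trans hdvd)
    obtain ⟨hf, hc⟩ := cosets_le hD' (fun x => (P.gg x : P.Grp ⧸ K)) ⊥
      (fun x => by rw [← QuotientGroup.mk_mul, hinv]; rfl)
      (fun r hr => by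
        rw [val, show (r.map fun x => (P.gg x : P.Grp ⧸ K)).prod =
          QuotientGroup.mk' K (val P.gg r) by rw [val, map_list_prod, List.map_map]; rfl]
        rcases hrels' r hr with hr | rfl
        · rw [val_relWords h.good hr, map_one]
        · exact (QuotientGroup.eq_one_iff _).mpr hwK)
      (by simp [hsg'])
      (by
        rw [hng, eq_top_iff]
        intro q _
        induction q using QuotientGroup.induction_on with
        | H a =>
          have : (QuotientGroup.mk' K a) ∈ (Subgroup.closure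
              {y | ∃ x, x < P.gens.length ∧ y = P.gg x}).map (QuotientGroup.mk' K) := by
            rw [closure_gg h.good]; exact Subgroup.mem_map_of_mem _ (Subgroup.mem_top a)
          rw [MonoidHom.map_closure] at this
          refine Subgroup.closure_mono ?_ this
          rintro _ ⟨_, ⟨x, hx, rfl⟩, rfl⟩
          exact ⟨x, hx, rfl⟩)
    rw [hD'1] at hc
    apply Subgroup.index_eq_one.mp
    have hci : Nat.card ((P.Grp ⧸ K) ⧸ (⊥ : Subgroup (P.Grp ⧸ K))) = K.index :=
      Nat.card_congr (QuotientGroup.quotientBot).toEquiv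
    rw [hci] at hc
    have := Subgroup.index_ne_zero_of_finite (H := K)
    omega

end

end Cfsg.Agent.CosetCertOrder
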