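import Cfsg.Agent.Lib.CosetCertTable
import Cfsg.Prelude.Def_SporCoxeter

/-!
Coset enumeration certificates for groups presented on a Coxeter graph.
-/

set_option autoImplicit false

namespace Cfsg.Agent.CosetCertPres

open Cfsg.Agent.CosetCertCore Cfsg.Agent.CosetCertTable

/-- Syntax of words. -/
inductive Wx : Type
  | gen (i : Nat) : Wx
  | mul (a b : Wx) : Wx
  | inv (a : Wx) : Wx
  | pow (a : Wx) (n : Nat) : Wx

/-- Value of a word expression. -/
def Wx.eval {K : Type*} [Group K] (g : Nat → K) : Wx → K
  | .gen i => g i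
  | .mul a b => a.eval g * b.eval g
  | .inv a => (a.eval g)⁻¹
  | .pow a n => a.eval g ^ n

/-- The letters of a word expression, generators being involutions. -/
def Wx.letters : Wx → List Nat
  | .gen i => [i]
  | .mul a b => a.letters ++ b.letters
  | .inv a => a.letters.reverse
  | .pow a n => (List.replicate n a.letters).flatten

section

variable {K : Type*} [Group K] (g : Nat → K)

theorem val_append (a b : List Nat) : val g (a ++ b) = val g a * val g b := by
  simp [val]

theorem val_reverse (hg : ∀ x, g x * g x = 1) (w : List Nat) : val g w.reverse = (val g w)⁻¹ := by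
  induction w with
  | nil => simp [val]
  | cons x w ih =>
    rw [List.reverse_cons, val_append, ih, val_cons, val_cons, val_nil, mul_inv_rev,
      inv_of_sq g hg, mul_one]

theorem val_replicate (a : List Nat) (n : Nat) :
    val g (List.replicate n a).flatten = val g a ^ n := by
  induction n with
  | zero => simp [val]
  | succ n ih => rw [List.replicate_succ, List.flatten_cons, val_append, ih, pow_succ']

theorem val_letters (hg : ∀ x, g x * g x = 1) (e : Wx) : val g e.letters = e.eval g := by
  induction e with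
  | gen i => simp [Wx.letters, Wx.eval, val]
  | mul a b ha hb => simp only [Wx.letters, Wx.eval, val_append, ha, hb]
  | inv a ha => simp only [Wx.letters, Wx.eval, val_reverse g hg, ha]
  | pow a n ha => simp only [Wx.letters, Wx.eval, val_replicate, ha]

theorem map_eval {L : Type*} [Group L] (f : K →* L) (e : Wx) :
    f (e.eval g) = e.eval (fun i => f (g i)) := by
  induction e with
  | gen i => rfl
  | mul a b ha hb => simp only [Wx.eval, map_mul, ha, hb]
  | inv a ha => simp only [Wx.eval, map_inv, ha]
  | pow a n ha => simp only [Wx.eval, map_pow, ha]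

theorem val_congr {g' : Nat → K} (w : List Nat) (h : ∀ x ∈ w, g x = g' x) :
    val g w = val g' w := by
  unfold val
  rw [List.map_congr_left h]

end

/-- A Coxeter presentation with numbered generators. -/
structure Pres where
  α : Type
  [dec : DecidableEq α]
  gens : List α
  dflt : α
  edges : List (α × ℕ × α)
  extra : List Wx

attribute [instance] Pres.dec

/-- Generator number `i`. -/
def Pres.gen (P : Pres) (i : Nat) : P.α := P.gens.getD i P.dflt

/-- The extra relators as elements of the free group. -/
def Pres.extraRels (P : Pres) : List (FreeGroup P.α) :=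
  P.extra.map (Wx.eval fun i => FreeGroup.of (P.gen i))

/-- The presented group. -/
abbrev Pres.Grp (P : Pres) : Type :=
  PresentedGroup (Cfsg.Spor.coxRelators P.edges ∪ {r | r ∈ P.extraRels})

/-- Generator number `i` in the presented group. -/
def Pres.gg (P : Pres) (i : Nat) : P.Grp := PresentedGroup.of (P.gen i)

/-- The subgroup generated by the images of some words. -/
def Pres.sub (P : Pres) (S : List Wx) : Subgroup P.Grp :=
  (Subgroup.closure {r | r ∈ S.map (Wx.eval fun i => FreeGroup.of (P.gen i))}).map
    (PresentedGroup.mk (Cfsg.Spor.coxRelators P.edges ∪ {r | r ∈ P.extraRels}))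

/-- The word of the relator of two generators. -/
def Pres.pairWord (P : Pres) (i j : Nat) : List Nat :=
  if i = j then [i, i]
  else (List.replicate (Cfsg.Spor.coxLabel P.edges (P.gen i) (P.gen j)) [i, j]).flatten

/-- The relator words, each unordered pair of generators once. -/
def Pres.relWords (P : Pres) : List (List Nat) :=
  ((List.range P.gens.length).flatMap fun i =>
    (List.range (P.gens.length - i)).map fun d => P.pairWord i (i + d)) ++ P.extra.map Wx.letters

/-- Side conditions on a presentation. -/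
structure Pres.Good (P : Pres) : Prop where
  complete : ∀ a, a ∈ P.gens
  nodes : ∀ a, a ∈ Cfsg.Spor.coxNodes P.edges
  symm : ∀ a b, Cfsg.Spor.coxLabel P.edges a b = Cfsg.Spor.coxLabel P.edges b a

section

variable {P : Pres} (hP : P.Good)
include hP

theorem gen_idxOf (a : P.α) : P.gen (P.gens.idxOf a) = a := by
  have h := List.idxOf_lt_length_of_mem (hP.complete a)
  unfold Pres.gen
  rw [List.getD_eq_getElem _ _ h, List.getElem_idxOf h]

theorem rel_one (a b : P.α) :
    (PresentedGroup.of a * PresentedGroup.of b : P.Grp) ^ Cfsg.Spor.coxLabel P.edges a b = 1 := by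
  have h : PresentedGroup.mk (Cfsg.Spor.coxRelators P.edges ∪ {r | r ∈ P.extraRels})
      ((FreeGroup.of a * FreeGroup.of b) ^ Cfsg.Spor.coxLabel P.edges a b) = 1 :=
    PresentedGroup.one_of_mem (Or.inl ⟨a, hP.nodes a, b, hP.nodes b, rfl⟩)
  rw [map_pow, map_mul] at h
  exact h

theorem gg_sq (x : Nat) : P.gg x * P.gg x = 1 := by
  have h := rel_one hP (P.gen x) (P.gen x)
  rw [show Cfsg.Spor.coxLabel P.edges (P.gen x) (P.gen x) = 1 from by
    simp [Cfsg.Spor.coxLabel], pow_one] at h
  exact h

theorem val_relWords {w : List Nat} (hw : w ∈ P.relWords) : val P.gg w = 1 := by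
  rcases List.mem_append.mp hw with hw | hw
  · simp only [List.mem_flatMap, List.mem_map] at hw
    obtain ⟨i, -, d, -, rfl⟩ := hw
    unfold Pres.pairWord
    split
    · rename_i h
      simp only [val_cons, val_nil, mul_one]
      exact gg_sq hP i
    · rw [val_replicate]
      simp only [val_cons, val_nil, mul_one]
      exact rel_one hP _ _
  · obtain ⟨e, he, rfl⟩ := List.mem_map.mp hw
    rw [val_letters _ (gg_sq hP)]
    have h : PresentedGroup.mk (Cfsg.Spor.coxRelators P.edges ∪ {r | r ∈ P.extraRels})
        (e.eval fun i => FreeGroup.of (P.gen i)) = 1 :=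
      PresentedGroup.one_of_mem (Or.inr (List.mem_map.mpr ⟨e, he, rfl⟩))
    rw [map_eval] at h
    exact h

omit hP in
theorem pairWord_mem {i j : Nat} (hij : i ≤ j) (hj : j < P.gens.length) :
    P.pairWord i j ∈ P.relWords := by
  apply List.mem_append_left
  rw [List.mem_flatMap]
  refine ⟨i, List.mem_range.mpr (by omega), List.mem_map.mpr ⟨j - i, List.mem_range.mpr (by omega), ?_⟩⟩
  rw [Nat.add_sub_cancel' hij]

theorem closure_gg : Subgroup.closure {y | ∃ x, x < P.gens.length ∧ y = P.gg x} = ⊤ := by
  rw [eq_top_iff, ← PresentedGroup.closure_range_of]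
  apply Subgroup.closure_mono
  rintro _ ⟨a, rfl⟩
  exact ⟨P.gens.idxOf a, List.idxOf_lt_length_of_mem (hP.complete a), by
    rw [Pres.gg, gen_idxOf hP]⟩

end

/-- An enumeration of the cosets of `P.sub S`. -/
structure Enumerated (P : Pres) (S : List Wx) (C : Cert) (M : Nat) (D : Table) : Prop where
  good : P.Good
  rels : C.rels = P.relWords
  sgens : C.sgens = S.map Wx.letters
  ng : D.NG = P.gens.length
  table : Checked C M D
  facts : ∀ {G X : Type} [Group G] [MulAction G X] (g : Nat → G) (base : X),
    Ctx g base C → AllValid g (nodeVal g base C) C M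

section

variable {P : Pres} {S : List Wx} {C : Cert} {M : Nat} {D : Table}
  (h : Enumerated P S C M D)
include h

theorem perm_idxOf (x : Nat) (hx : x < P.gens.length) :
    perm h.table (P.gens.idxOf (P.gen x)) = perm h.table x := by
  have hsq := perm_sq h.table
  by_cases hne : P.gens.idxOf (P.gen x) = x
  · rw [hne]
  · have main : ∀ i j : Nat, i ≤ j → j < P.gens.length → P.gen i = P.gen j → i ≠ j →
        perm h.table i = perm h.table j := by
      intro i j hij hj hg hne
      have hm := val_perm_eq_one h.table (w := P.pairWord i j) (h.rels ▸ pairWord_mem hij hj)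
      rw [Pres.pairWord, if_neg hne, val_replicate, hg,
        show Cfsg.Spor.coxLabel P.edges (P.gen j) (P.gen j) = 1 from by simp [Cfsg.Spor.coxLabel],
        pow_one] at hm
      simp only [val_cons, val_nil, mul_one] at hm
      rw [eq_inv_of_mul_eq_one_left hm, inv_of_sq _ hsq]
    have hy : P.gens.idxOf (P.gen x) < P.gens.length :=
      List.idxOf_lt_length_of_mem (h.good.complete _)
    have hg : P.gen (P.gens.idxOf (P.gen x)) = P.gen x := gen_idxOf h.good _
    rcases le_total (P.gens.idxOf (P.gen x)) x with hle | hle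
    · exact main _ _ hle hx hg hne
    · exact (main _ _ hle hy hg.symm (Ne.symm hne)).symm

theorem img_lift :
    ∀ r ∈ Cfsg.Spor.coxRelators P.edges ∪ {r | r ∈ P.extraRels},
      FreeGroup.lift (fun a => perm h.table (P.gens.idxOf a)) r = 1 := by
  have hsq := perm_sq h.table
  rintro r (⟨a, -, b, -, rfl⟩ | hr)
  · rw [map_pow, map_mul, FreeGroup.lift_apply_of, FreeGroup.lift_apply_of]
    have ha := List.idxOf_lt_length_of_mem (h.good.complete a)
    have hb := List.idxOf_lt_length_of_mem (h.good.complete b)
    have main : ∀ a b : P.α, P.gens.idxOf a ≤ P.gens.idxOf b → P.gens.idxOf b < P.gens.length →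
        (perm h.table (P.gens.idxOf a) * perm h.table (P.gens.idxOf b)) ^
          Cfsg.Spor.coxLabel P.edges a b = 1 := by
      intro a b hab hb
      have hm := val_perm_eq_one h.table (w := P.pairWord (P.gens.idxOf a) (P.gens.idxOf b))
        (h.rels ▸ pairWord_mem hab hb)
      unfold Pres.pairWord at hm
      split at hm
      · rename_i he
        rw [he, hsq, one_pow]
      · rw [val_replicate] at hm
        simp only [val_cons, val_nil, mul_one, gen_idxOf h.good] at hm
        exact hm
    rcases le_total (P.gens.idxOf a) (P.gens.idxOf b) with hab | hab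
    · exact main a b hab hb
    · have := main b a hab ha
      rw [h.good.symm b a] at this
      rw [← inv_eq_one, ← inv_pow, mul_inv_rev, inv_of_sq _ hsq, inv_of_sq _ hsq]
      exact this
  · obtain ⟨e, he, rfl⟩ := List.mem_map.mp hr
    rw [map_eval]
    have hl : ∀ x ∈ e.letters, x < P.gens.length := by
      intro x hx
      rw [← h.ng]
      exact h.table.letters e.letters
        (List.mem_append_left _ (h.rels ▸ List.mem_append_right _ (List.mem_map.mpr ⟨e, he, rfl⟩))) x hx
    rw [← val_letters _ (fun x => by simp only [FreeGroup.lift_apply_of]; exact hsq _)]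
    simp only [FreeGroup.lift_apply_of]
    have hm := val_perm_eq_one h.table (w := e.letters)
      (h.rels ▸ List.mem_append_right _ (List.mem_map.mpr ⟨e, he, rfl⟩))
    rw [← hm]
    apply val_congr
    intro x hx
    exact perm_idxOf h x (hl x hx)

/-- The action of the presented group on the points. -/
noncomputable def rho : P.Grp →* Equiv.Perm (Fin D.N) := PresentedGroup.toGroup (img_lift h)

theorem rho_gg (x : Nat) (hx : x < D.NG) : rho h (P.gg x) = perm h.table x := by
  rw [rho, Pres.gg, PresentedGroup.toGroup.of]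
  exact perm_idxOf h x (h.ng ▸ hx)

theorem sub_eq : P.sub S = Subgroup.closure {k | ∃ s ∈ S, k = val P.gg s.letters} := by
  rw [Pres.sub, MonoidHom.map_closure]
  congr 1
  ext k
  constructor
  · rintro ⟨r, hr, rfl⟩
    obtain ⟨s, hs, rfl⟩ := List.mem_map.mp hr
    exact ⟨s, hs, by rw [map_eval, val_letters _ (gg_sq h.good)]; rfl⟩
  · rintro ⟨s, hs, rfl⟩
    exact ⟨_, List.mem_map.mpr ⟨s, hs, rfl⟩, by rw [map_eval, val_letters _ (gg_sq h.good)]; rfl⟩

theorem rho_val {w : List Nat} (hw : ∀ x ∈ w, x < D.NG) :
    rho h (val P.gg w) = val (perm h.table) w := by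
  unfold val
  rw [map_list_prod, List.map_map]
  congr 1
  exact List.map_congr_left fun x hx => rho_gg h x (hw x hx)

theorem rho_sub_zero : ∀ k ∈ P.sub S, rho h k ⟨0, h.table.npos⟩ = ⟨0, h.table.npos⟩ := by
  intro k hk
  rw [sub_eq h] at hk
  induction hk using Subgroup.closure_induction with
  | mem k hk =>
    obtain ⟨s, hs, rfl⟩ := hk
    have hs' : s.letters ∈ C.sgens := h.sgens ▸ List.mem_map.mpr ⟨s, hs, rfl⟩
    rw [rho_val h (h.table.letters _ (List.mem_append_right _ hs'))]
    have := act_sgens_zero h.table hs'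
    rw [act_eq _ (perm_sq h.table), Equiv.Perm.smul_def, Equiv.Perm.inv_eq_iff_eq] at this
    exact this.symm
  | one => simp
  | mul a b _ _ ha hb => rw [map_mul, Equiv.Perm.mul_apply, hb, ha]
  | inv a _ ha => rw [map_inv, Equiv.Perm.inv_eq_iff_eq, ha]

/-- The cosets are the points of the table. -/
theorem exists_coset_equiv : ∃ φ : Fin D.N ≃ P.Grp ⧸ P.sub S,
    φ ⟨0, h.table.npos⟩ = ((1 : P.Grp) : P.Grp ⧸ P.sub S) ∧
      ∀ k i, φ (rho h k i) = k • φ i := by
  have hctx : Ctx P.gg ((1 : P.Grp) : P.Grp ⧸ P.sub S) C := by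
    refine ⟨gg_sq h.good, fun w hw => val_relWords h.good (h.rels ▸ hw), fun w hw => ?_⟩
    rw [h.sgens] at hw
    obtain ⟨s, hs, rfl⟩ := List.mem_map.mp hw
    rw [act_eq _ (gg_sq h.good)]
    show (((val P.gg s.letters)⁻¹ * 1 : P.Grp) : P.Grp ⧸ P.sub S) = _
    rw [mul_one, eq_comm, QuotientGroup.eq, inv_one, one_mul, inv_mem_iff, sub_eq h]
    exact Subgroup.subset_closure ⟨s, hs, rfl⟩
  exact exists_equiv h.table P.gg (P.sub S) hctx (h.facts _ _ hctx)
    (h.ng ▸ closure_gg h.good) (rho h) (fun x hx => rho_gg h x hx) (rho_sub_zero h)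

theorem index_sub : (P.sub S).index = D.N := by
  obtain ⟨φ, -, -⟩ := exists_coset_equiv h
  rw [Subgroup.index, ← Nat.card_congr φ, Nat.card_fin]

end

/-! ### Orbits of the subgroup on the points -/

/-- Orbit data of point `i`: label, generator word, parent and depth. -/
def oLabel (e : Nat) : Nat := Nat.land e 15
/-- Word number. -/
def oWord (e : Nat) : Nat := Nat.land (Nat.shiftRight e 4) 15
/-- Parent. -/
def oPar (e : Nat) : Nat := Nat.land (Nat.shiftRight e 8) 1048575
/-- Depth. -/
def oDepth (e : Nat) : Nat := Nat.shiftRight e 28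

/-- Check the orbit data at point `i`. -/
noncomputable def orbOk (O : Tbl) (roots : List Nat) (sgens : List (List Nat)) (D : Table) (i : Nat) :
    Bool :=
  force (entry O 48 i) fun e =>
  List.rec (motive := fun _ => Bool) true
      (fun w _ ih => Nat.beq (oLabel (entry O 48 (D.run w i))) (oLabel e) && ih) sgens &&
    cond (Nat.beq (oDepth e) 0) (Nat.beq (roots.getD (oLabel e) 0) i)
      (Nat.blt (oPar e) D.N && Nat.blt (oDepth (entry O 48 (oPar e))) (oDepth e) &&
        Nat.blt (oWord e) sgens.length && Nat.beq (D.run (sgens.getD (oWord e) []) (oPar e)) i)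

theorem invariantRec_iff (O : Tbl) (sgens : List (List Nat)) (D : Table) (i c : Nat) :
    List.rec (motive := fun _ => Bool) true
      (fun w _ ih => Nat.beq (oLabel (entry O 48 (D.run w i))) c && ih) sgens = true ↔
    ∀ w ∈ sgens, oLabel (entry O 48 (D.run w i)) = c := by
  induction sgens with
  | nil => simp
  | cons w r ih =>
    show (Nat.beq _ c && _) = true ↔ _
    rw [Bool.and_eq_true, Nat.beq_eq, ih]
    simp

/-- Number of points below `n` with label `k`. -/
noncomputable def countLabel (O : Tbl) (k n : Nat) : Nat :=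
  Nat.rec (motive := fun _ => Nat) 0
    (fun i ih => cond (Nat.beq (oLabel (entry O 48 i)) k) (ih + 1) ih) n

theorem countLabel_eq (O : Tbl) (k n : Nat) :
    countLabel O k n = ((Finset.range n).filter fun i => oLabel (entry O 48 i) = k).card := by
  induction n with
  | zero => rfl
  | succ n ih =>
    rw [Finset.range_add_one, Finset.filter_insert]
    show cond (Nat.beq (oLabel (entry O 48 n)) k) (countLabel O k n + 1) (countLabel O k n) = _
    by_cases hk : oLabel (entry O 48 n) = k
    · rw [Nat.beq_eq.mpr hk, if_pos hk, cond_true, Finset.card_insert_of_notMem (by simp), ih]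
    · have : Nat.beq (oLabel (entry O 48 n)) k = false := by
        rw [← Bool.not_eq_true, Nat.beq_eq]; exact hk
      rw [this, if_neg hk, cond_false, ih]

section

variable {P : Pres} {S : List Wx} {C : Cert} {M : Nat} {D : Table}
  (h : Enumerated P S C M D) {O : Tbl} {roots : List Nat}
  (hO : AllBelow (orbOk O roots C.sgens D) D.N)
include h hO

theorem orb_facts (i : Nat) (hi : i < D.N) :
    (∀ w ∈ C.sgens, oLabel (entry O 48 (D.run w i)) = oLabel (entry O 48 i)) ∧
    ((oDepth (entry O 48 i) = 0 ∧ roots.getD (oLabel (entry O 48 i)) 0 = i) ∨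
      ∃ j, ∃ w ∈ C.sgens, j < D.N ∧ oDepth (entry O 48 j) < oDepth (entry O 48 i) ∧ D.run w j = i) := by
  have h1 := hO i hi
  simp only [orbOk, force_eq, Bool.and_eq_true] at h1
  refine ⟨(invariantRec_iff O C.sgens D i _).mp h1.1, ?_⟩
  have h2 := h1.2
  by_cases hd : oDepth (entry O 48 i) = 0
  · rw [hd] at h2
    simp only [Nat.beq_refl, cond_true, Nat.beq_eq] at h2
    exact Or.inl ⟨hd, h2⟩
  · have : Nat.beq (oDepth (entry O 48 i)) 0 = false := by
      rw [← Bool.not_eq_true, Nat.beq_eq]; exact hd
    rw [this] at h2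
    simp only [cond_false, Bool.and_eq_true, Nat.blt_eq, Nat.beq_eq] at h2
    obtain ⟨⟨⟨a, b⟩, c⟩, d⟩ := h2
    refine Or.inr ⟨_, _, ?_, a, b, d⟩
    rw [List.getD_eq_getElem _ _ c]
    exact List.getElem_mem c

/-- An orbit of the subgroup on the cosets, from the table. -/
theorem exists_orbit (k r : Nat) (hr : r < D.N) (hroot : roots.getD k 0 = r)
    (hlab : oLabel (entry O 48 r) = k) :
    ∀ φ : Fin D.N ≃ P.Grp ⧸ P.sub S, (∀ g i, φ (rho h g i) = g • φ i) →
      MulAction.orbit (P.sub S) (φ ⟨r, hr⟩) = φ '' {i | oLabel (entry O 48 i) = k} := by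
  intro φ hφ
  have hsub := sub_eq h
  have hletters : ∀ w ∈ C.sgens, ∀ x ∈ w, x < D.NG := fun w hw =>
    h.table.letters w (List.mem_append_right _ hw)
  have hrun : ∀ w ∈ C.sgens, ∀ i : Fin D.N,
      (((val (perm h.table) w)⁻¹ i : Fin D.N) : Nat) = D.run w i := by
    intro w hw i
    rw [← act_perm h.table w (hletters w hw) i, act_eq _ (perm_sq h.table), Equiv.Perm.smul_def]
  have hinv : ∀ g ∈ P.sub S, ∀ i : Fin D.N,
      oLabel (entry O 48 (rho h g i)) = oLabel (entry O 48 i) := by
    intro g hg
    rw [hsub] at hg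
    induction hg using Subgroup.closure_induction with
    | mem g hg =>
      obtain ⟨s, hs, rfl⟩ := hg
      intro i
      have hs' : s.letters ∈ C.sgens := h.sgens ▸ List.mem_map.mpr ⟨s, hs, rfl⟩
      rw [rho_val h (hletters _ hs')]
      have := (orb_facts h hO _ (val (perm h.table) s.letters i).2).1 _ hs'
      rw [← hrun _ hs', Equiv.Perm.inv_def, Equiv.symm_apply_apply] at this
      exact this.symm
    | one => intro i; simp
    | mul a b _ _ ha hb => intro i; rw [map_mul, Equiv.Perm.mul_apply, ha, hb]
    | inv a _ ha =>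
      intro i
      have := ha (rho h a⁻¹ i)
      rw [← Equiv.Perm.mul_apply, ← map_mul, mul_inv_cancel, map_one, Equiv.Perm.one_apply] at this
      exact this.symm
  apply Set.Subset.antisymm
  · rintro q ⟨⟨g, hg⟩, rfl⟩
    exact ⟨rho h g ⟨r, hr⟩, by rw [Set.mem_ofPred_eq, hinv g hg]; exact hlab, hφ g _⟩
  · rintro q ⟨i, hi, rfl⟩
    suffices ∀ d, ∀ i : Fin D.N, oDepth (entry O 48 i) < d → oLabel (entry O 48 i) = k →
        φ i ∈ MulAction.orbit (P.sub S) (φ ⟨r, hr⟩) from this _ i (Nat.lt_succ_self _) hi
    intro d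
    induction d with
    | zero => intro i hd; exact absurd hd (Nat.not_lt_zero _)
    | succ d ih =>
      intro i hd hk
      obtain ⟨hlabs, hcase⟩ := orb_facts h hO i i.2
      rcases hcase with ⟨-, hir⟩ | ⟨j, w, hw, hj, hdj, hrunj⟩
      · rw [hk, hroot] at hir
        have : i = ⟨r, hr⟩ := Fin.ext hir.symm
        rw [this]
        exact MulAction.mem_orbit_self _
      · have hjk : oLabel (entry O 48 j) = k := by
          rw [← (orb_facts h hO j hj).1 w hw, hrunj, hk]
        have hprev := ih ⟨j, hj⟩ (by show oDepth (entry O 48 j) < d; omega) hjk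
        rw [h.sgens] at hw
        obtain ⟨s, hs, rfl⟩ := List.mem_map.mp hw
        have hs' : s.letters ∈ C.sgens := h.sgens ▸ List.mem_map.mpr ⟨s, hs, rfl⟩
        have hmem : (val P.gg s.letters)⁻¹ ∈ P.sub S := by
          rw [inv_mem_iff, hsub]
          exact Subgroup.subset_closure ⟨s, hs, rfl⟩
        have heq : i = rho h (val P.gg s.letters)⁻¹ ⟨j, hj⟩ := by
          apply Fin.ext
          rw [map_inv, rho_val h (hletters _ hs'), hrun _ hs']
          exact hrunj.symm
        obtain ⟨u, hu⟩ := hprev
        refine ⟨⟨_, hmem⟩ * u, ?_⟩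
        show (((⟨_, hmem⟩ : P.sub S) * u) • φ ⟨r, hr⟩) = φ i
        rw [mul_smul]
        show ((val P.gg s.letters)⁻¹ : P.Grp) • (u • φ ⟨r, hr⟩) = φ i
        rw [heq, hφ]
        exact congrArg _ hu

/-- An orbit of the subgroup on the cosets has the tabulated size. -/
theorem orbit_ncard (k r : Nat) (hr : r < D.N) (hroot : roots.getD k 0 = r)
    (hlab : oLabel (entry O 48 r) = k)
    (φ : Fin D.N ≃ P.Grp ⧸ P.sub S) (hφ : ∀ g i, φ (rho h g i) = g • φ i) :
    (MulAction.orbit (P.sub S) (φ ⟨r, hr⟩)).ncard = countLabel O k D.N := by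
  rw [exists_orbit h hO k r hr hroot hlab φ hφ, Set.ncard_image_of_injective _ φ.injective,
    countLabel_eq]
  rw [← Set.ncard_image_of_injective _ Fin.val_injective, ← Set.ncard_coe_finset]
  congr 1
  ext n
  simp only [Set.mem_image, Set.mem_ofPred_eq, Finset.coe_filter, Finset.mem_range]
  constructor
  · rintro ⟨i, hi, rfl⟩
    exact ⟨i.2, hi⟩
  · rintro ⟨hn, hk⟩
    exact ⟨⟨n, hn⟩, hk, rfl⟩

end

end Cfsg.Agent.CosetCertPres
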