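import Cfsg.Agent.Lib.CosetCertSp44Data
import Cfsg.Agent.Lib.CosetCertFour
import Cfsg.Agent.Lib.CosetCertHeSimple
import Cfsg.Agent.Lib.CosetCertRestrict
import Cfsg.Agent.Lib.SymplecticBasic
import Cfsg.Agent.Lib.SymplecticOrder

/-! The point stabiliser of the presented He contains the symplectic group with index two. -/

set_option autoImplicit false
set_option maxRecDepth 100000
set_option linter.style.haveILetI false
set_option linter.unusedSectionVars false

namespace Cfsg.Agent.CosetCertSp44

open Cfsg.Agent.CosetCertCore Cfsg.Agent.CosetCertTable Cfsg.Agent.CosetCertPres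
open Cfsg.Agent.CosetCertOrder Cfsg.Agent.CosetCertRestrict Cfsg.Agent.CosetCertFour
open Cfsg.Agent.SymplecticBasic

/-- The presentation of He. -/
abbrev PH : Pres := CosetCertHeHData.pres
/-- The table of the 2058 points. -/
noncomputable abbrev TH : Table := CosetCertHeHData.table
/-- The point stabiliser. -/
abbrev HH : Subgroup (Pres.Grp PH) := PH.sub CosetCertHeHData.subgens

/-- Suborbit label. -/
noncomputable def lab (i : Nat) : Nat := oLabel (entry CosetCertHeHData.orbTbl 48 i)
/-- The vector of a point. -/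
noncomputable def vcode (i : Nat) : Nat := entry CosetCertSp44Data.vecTbl 16 i
/-- Words of the subgroup generators. -/
def W7 : List (List Nat) := CosetCertHeHData.subgens.map Wx.letters
/-- A word in the subgroup generators, in the letters of the presentation. -/
def flat (w : List Nat) : List Nat := w.flatMap fun k => W7.getD k []
/-- Seed centre number `j`. -/
def seed (j : Nat) : Nat := CosetCertSp44Data.seeds.getD j 0
/-- Seed word number `j`. -/
def seedW (j : Nat) : List Nat := CosetCertSp44Data.seedWords.getD j []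

/-- The form on packed vectors. -/
def bC (u v : Nat) : Nat :=
  ((mulF (dig u 2) (dig v 0) ^^^ mulF (dig u 0) (dig v 2)) ^^^ mulF (dig u 3) (dig v 1)) ^^^
    mulF (dig u 1) (dig v 3)

theorem bC_lt (u v : Nat) : bC u v < 4 := by
  unfold bC
  repeat' apply xor_lt
  all_goals exact mulF_lt _ _

/-- One seed at a point. -/
noncomputable def seedAt (i j : Nat) : Bool :=
  force (vcode i) fun x => force (seed j) fun c => force (bC x c) fun f =>
    scaled 4 (vcode (TH.run (flat (seedW j)) i)) fun d => dig x d ^^^ mulF f (dig c d)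

/-- The check at a point. -/
noncomputable def seedOk (i : Nat) : Bool := cond (Nat.beq (lab i) 2) (allFrom (seedAt i) 6 0) true

/-- Every nonzero vector belongs to a point. -/
noncomputable def idxOk (v : Nat) : Bool :=
  cond (Nat.beq v 0) true (force (entry CosetCertSp44Data.idxTbl 16 v) fun i =>
    Nat.blt i 2058 && Nat.beq (lab i) 2 && scaled 4 (vcode i) fun d => dig v d)

/-- Depth in the tree of centres. -/
noncomputable def depth (v : Nat) : Nat := Nat.shiftRight (entry CosetCertSp44Data.parTbl 32 v) 16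

/-- The tree of centres at `v`. -/
noncomputable def parOk (v : Nat) : Bool :=
  cond (Nat.beq v 0) true (force (entry CosetCertSp44Data.parTbl 32 v) fun e =>
    force (Nat.land e 255) fun u => force (Nat.land (Nat.shiftRight e 8) 255) fun j =>
      cond (Nat.beq j 15) (allFrom (fun k => !(Nat.beq (seed k) v)) 6 0 |> not)
        (Nat.blt j 6 && !(Nat.beq u 0) && Nat.blt (depth u) (depth v) &&
          allFrom (fun d => Nat.beq (dig v d) (dig u d ^^^ mulF (bC u (seed j)) (dig (seed j) d))) 4 0))

theorem seed0 : AllBelow seedOk 0 := AllBelow.zero _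
theorem seed1 : AllBelow seedOk 1029 := AllBelow.step seed0 1029 (by decide +kernel)
theorem seed2 : AllBelow seedOk 2058 := AllBelow.step seed1 1029 (by decide +kernel)
theorem idx_ok : ∀ v < 256, idxOk v = true := by decide +kernel
theorem par_ok : ∀ v < 256, parOk v = true := by decide +kernel

theorem sub_letters : ∀ k < 7, ∀ x ∈ W7.getD k [], x < TH.NG := by decide +kernel

theorem flat_letters {w : List Nat} (hw : ∀ k ∈ w, k < 7) : ∀ x ∈ flat w, x < TH.NG := by
  intro x hx
  obtain ⟨k, hk, hx⟩ := List.mem_flatMap.mp hx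
  exact sub_letters k (hw k hk) x hx

theorem gen_mem (k : Nat) : val PH.gg (W7.getD k []) ∈ HH := by
  by_cases hk : k < 7
  · rw [HH, sub_eq CosetCertHeH.enumerated]
    have hk' : k < CosetCertHeHData.subgens.length := hk
    refine Subgroup.subset_closure ⟨CosetCertHeHData.subgens[k], List.getElem_mem hk', ?_⟩
    unfold W7
    rw [List.getD_eq_getElem _ _ (by simpa using hk'), List.getElem_map]
  · have h : W7.length ≤ k := by simpa [W7, CosetCertHeHData.subgens] using hk
    rw [List.getD_eq_default _ _ h, val_nil]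
    exact Subgroup.one_mem _

theorem flat_mem (w : List Nat) : val PH.gg (flat w) ∈ HH := by
  induction w with
  | nil => exact Subgroup.one_mem _
  | cons k w ih => simp only [flat, List.flatMap_cons, val_append]; exact mul_mem (gen_mem k) ih

theorem lab_sub {k : Pres.Grp PH} (hk : k ∈ HH) (i : Fin TH.N) :
    lab (rho CosetCertHeH.enumerated k i) = lab i := by
  rw [HH, sub_eq CosetCertHeH.enumerated] at hk
  induction hk using Subgroup.closure_induction generalizing i with
  | mem k hk =>
    obtain ⟨s, hs, rfl⟩ := hk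
    have hs' : s.letters ∈ CosetCertHeHData.cert.sgens :=
      CosetCertHeH.enumerated.sgens ▸ List.mem_map.mpr ⟨s, hs, rfl⟩
    have hl := CosetCertHeH.enumerated.table.letters _ (List.mem_append_right _ hs')
    have h := (orb_facts CosetCertHeH.enumerated CosetCertHeH.orbits _
      (rho CosetCertHeH.enumerated (val PH.gg s.letters) i).2).1 _ hs'
    rw [← rho_val_apply CosetCertHeH.enumerated hl, Equiv.Perm.inv_def, Equiv.symm_apply_apply] at h
    exact h.symm
  | one => simp
  | mul a b _ _ ha hb => rw [map_mul, Equiv.Perm.mul_apply, ha, hb]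
  | inv a _ ha =>
    have := ha (rho CosetCertHeH.enumerated a⁻¹ i)
    rw [← Equiv.Perm.mul_apply, ← map_mul, mul_inv_cancel, map_one, Equiv.Perm.one_apply] at this
    exact this.symm

section Field

variable {F : Type} [Field F] [Fintype F] [UnitaryF4Geo.FourField F] {w : F} (hw : w ^ 2 = w + 1)

/-- Position of a coordinate. -/
def pos : Fin 2 ⊕ Fin 2 → Nat
  | .inl i => i.1
  | .inr i => 2 + i.1

theorem pos_lt : ∀ d, pos d < 4 := by
  rintro (d | d) <;> simp [pos] <;> omega

/-- The vector of a code. -/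
def toV (w : F) (v : Nat) : Fin 2 ⊕ Fin 2 → F := fun d => toF w (dig v (pos d))

/-- The symplectic group. -/
abbrev Sp (F : Type) [Field F] : Type := Matrix.symplecticGroup (Fin 2) F

/-- Pairs of an element of the stabiliser and a symplectic element acting alike. -/
def R (w : F) : Subgroup (HH × Sp F) where
  carrier := {p | ∀ i : Fin TH.N, lab i = 2 → ∃ c : F, c ≠ 0 ∧
    p.2 • toV w (vcode i) = c • toV w (vcode (rho CosetCertHeH.enumerated (p.1 : Pres.Grp PH) i))}
  one_mem' := fun i _ => ⟨1, one_ne_zero, by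
    simp only [Prod.fst_one, Prod.snd_one, OneMemClass.coe_one, map_one, Equiv.Perm.one_apply,
      one_smul]⟩
  mul_mem' := by
    intro p p' hp hp' i hi
    obtain ⟨c, hc, e⟩ := hp' i hi
    obtain ⟨d, hd, e'⟩ := hp _ ((lab_sub p'.1.2 i).trans hi)
    refine ⟨c * d, mul_ne_zero hc hd, ?_⟩
    rw [Prod.snd_mul, mul_smul, e, smul_def p.2 (c • _), Matrix.mulVec_smul, ← smul_def, e', smul_smul,
      Prod.fst_mul, Subgroup.coe_mul, map_mul, Equiv.Perm.mul_apply]
  inv_mem' := by
    intro p hp i hi
    obtain ⟨c, hc, e⟩ := hp _ ((lab_sub (p.1⁻¹).2 i).trans hi)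
    refine ⟨c⁻¹, inv_ne_zero hc, ?_⟩
    rw [Subgroup.coe_inv, map_inv, ← Equiv.Perm.mul_apply, mul_inv_cancel, Equiv.Perm.one_apply] at e
    rw [Prod.snd_inv, Prod.fst_inv, Subgroup.coe_inv, map_inv, inv_smul_eq_iff,
      smul_def p.2 (c⁻¹ • _), Matrix.mulVec_smul, ← smul_def, e, smul_smul, inv_mul_cancel₀ hc, one_smul]

theorem card4 : Fintype.card F = 4 := UnitaryF4Geo.FourField.card_eq

include hw

theorem toF_bC (u v : Nat) : toF w (bC u v) = Cfsg.sympForm 2 F (toV w u) (toV w v) := by
  have l : ∀ a b, mulF a b < 4 := mulF_lt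
  unfold bC
  rw [toF_xor hw (xor_lt (xor_lt (l _ _) (l _ _)) (l _ _)) (l _ _),
    toF_xor hw (xor_lt (l _ _) (l _ _)) (l _ _), toF_xor hw (l _ _) (l _ _)]
  simp only [toF_mul hw (dig_lt _ _) (dig_lt _ _), form_eq_sum, Fin.sum_univ_two]
  simp only [toV, pos, Fin.val_zero, Fin.val_one, add_zero, UnitaryF4Geo.sub_eq]
  ring

theorem transv_code (x s d : Nat) :
    toF w (dig x d ^^^ mulF (bC x s) (dig s d)) =
      toF w (dig x d) + toF w (bC x s) * toF w (dig s d) := by
  rw [toF_xor hw (dig_lt _ _) (mulF_lt _ _), toF_mul hw (bC_lt _ _) (dig_lt _ _)]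

theorem scaled_vec {a : Nat} {b : Nat → Nat} (h : scaled 4 a b = true) :
    ∃ c : F, c ≠ 0 ∧ c • toV w a = fun d => toF w (b (pos d)) := by
  obtain ⟨c, hc, e⟩ := scaled_sound hw h
  exact ⟨c, hc, funext fun d => e _ (pos_lt d)⟩

theorem exists_code (u : Fin 2 ⊕ Fin 2 → F) : ∃ v < 256, toV w v = u := by
  choose n hn hnu using fun d => toF_surj hw (u d)
  refine ⟨n (.inl 0) + 4 * n (.inl 1) + 16 * n (.inr 0) + 64 * n (.inr 1), ?_, funext fun d => ?_⟩
  · have := hn (.inl 0); have := hn (.inl 1); have := hn (.inr 0); have := hn (.inr 1); omega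
  · have h0 := hn (.inl 0); have h1 := hn (.inl 1); have h2 := hn (.inr 0); have h3 := hn (.inr 1)
    rw [toV, ← hnu d, dig_eq]
    congr 1
    rcases d with d | d <;> fin_cases d <;> simp [pos] <;> omega

theorem exists_point {u : Fin 2 ⊕ Fin 2 → F} (hu0 : u ≠ 0) :
    ∃ i : Fin TH.N, lab i = 2 ∧ ∃ c : F, c ≠ 0 ∧ c • toV w (vcode i) = u := by
  obtain ⟨v, hv, rfl⟩ := exists_code hw u
  have hv0 : Nat.beq v 0 = false := by
    rw [← Bool.not_eq_true, Nat.beq_eq]
    rintro rfl
    exact hu0 (funext fun d => by simp [toV, dig, toF])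
  have h := idx_ok v hv
  simp only [idxOk, hv0, cond_false, force_eq, Bool.and_eq_true, Nat.blt_eq, Nat.beq_eq] at h
  obtain ⟨⟨hlt, hl⟩, hs⟩ := h
  obtain ⟨c, hc, e⟩ := scaled_vec hw hs
  exact ⟨⟨_, hlt⟩, hl, c, hc, e⟩

theorem seed_mem (j : Nat) (hj : j < 6) :
    ((⟨val PH.gg (flat (seedW j)), flat_mem _⟩ : HH)⁻¹, transv (toV w (seed j)) 1) ∈ R w := by
  intro i hi
  have h := seed2 i i.2
  simp only [seedOk, Nat.beq_eq.mpr hi, cond_true] at h
  have h2 := (allFrom_iff _ _ _).mp h j (Nat.zero_le _) (by omega)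
  simp only [seedAt, force_eq] at h2
  obtain ⟨c, hc, e⟩ := scaled_vec hw h2
  refine ⟨c, hc, ?_⟩
  have hl : ∀ x ∈ flat (seedW j), x < TH.NG :=
    flat_letters ((by decide +kernel : ∀ j < 6, ∀ k ∈ seedW j, k < 7) j hj)
  rw [Subgroup.coe_inv, map_inv, rho_val_apply CosetCertHeH.enumerated hl, e, transv_smul, one_mul,
    ← toF_bC hw]
  funext d
  rw [transv_code hw]
  rfl

theorem transv_mem (v : Nat) (hv : v < 256) (hv0 : v ≠ 0) :
    transv (toV w v) 1 ∈ (R w).map (MonoidHom.snd HH (Sp F)) := by
  suffices ∀ n v, v < 256 → v ≠ 0 → depth v < n →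
      transv (toV w v) 1 ∈ (R w).map (MonoidHom.snd HH (Sp F)) from this _ v hv hv0 (Nat.lt_succ_self _)
  intro n
  induction n with
  | zero => intro v _ _ h; exact absurd h (Nat.not_lt_zero _)
  | succ n ih =>
    intro v hv hv0 hd
    have hb : Nat.beq v 0 = false := by rw [← Bool.not_eq_true, Nat.beq_eq]; exact hv0
    have h := par_ok v hv
    simp only [parOk, hb, cond_false, force_eq] at h
    set u := Nat.land (entry CosetCertSp44Data.parTbl 32 v) 255 with hu
    set j := Nat.land (Nat.shiftRight (entry CosetCertSp44Data.parTbl 32 v) 8) 255 with hj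
    by_cases hroot : j = 15
    · rw [Nat.beq_eq.mpr hroot, cond_true, Bool.not_eq_true', Bool.eq_false_iff, Ne, allFrom_iff] at h
      push Not at h
      obtain ⟨k, -, hk6, hk⟩ := h
      have hk : seed k = v := by
        by_contra hne
        exact hk (by rw [show (seed k).beq v = false by rw [← Bool.not_eq_true, Nat.beq_eq]; exact hne]; rfl)
      rw [← hk]
      exact ⟨_, seed_mem hw k (by omega), rfl⟩
    · have hb2 : Nat.beq j 15 = false := by rw [← Bool.not_eq_true, Nat.beq_eq]; exact hroot
      simp only [hb2, cond_false, Bool.and_eq_true, Nat.blt_eq, Bool.not_eq_true',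
        Bool.eq_false_iff, Ne, Nat.beq_eq] at h
      obtain ⟨⟨⟨hj6, hu0⟩, hdep⟩, hdig⟩ := h
      have hu256 : u < 256 := Nat.lt_succ_of_le Nat.and_le_right
      have hm := ih u hu256 hu0 (by omega)
      have hs : transv (toV w (seed j)) 1 ∈ (R w).map (MonoidHom.snd HH (Sp F)) :=
        ⟨_, seed_mem hw j hj6, rfl⟩
      have he : transv (toV w (seed j)) 1 • toV w u = toV w v := by
        rw [transv_smul, one_mul, ← toF_bC hw]
        funext d
        have := Nat.beq_eq.mp ((allFrom_iff _ _ _).mp hdig (pos d) (Nat.zero_le _)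
          (by have := pos_lt d; omega))
        show _ = toF w (dig v (pos d))
        rw [this, transv_code hw]
        rfl
      rw [← he, ← transv_conj]
      exact mul_mem (mul_mem hs hm) (inv_mem hs)

theorem snd_top : (R w).map (MonoidHom.snd HH (Sp F)) = ⊤ := by
  refine eq_top_of_transv fun v c => ?_
  by_cases hv : v = 0
  · rw [hv, transv_vec_zero]; exact Subgroup.one_mem _
  by_cases hc : c = 0
  · rw [hc, transv_zero]; exact Subgroup.one_mem _
  have hsq : c = (c ^ 2) ^ 2 * 1 := by rw [UnitaryF4Geo.sq_sq, mul_one]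
  rw [hsq, ← transv_scale]
  obtain ⟨n, hn, e⟩ := exists_code hw ((c ^ 2) • v)
  rw [← e]
  refine transv_mem hw n hn ?_
  rintro rfl
  apply hv
  have h0 : toV w 0 = 0 := funext fun d => by simp [toV, dig, toF]
  rw [h0] at e
  exact (smul_eq_zero.mp e.symm).resolve_left (pow_ne_zero 2 hc)

/-- Projection to the stabiliser. -/
def fstR (w : F) : R w →* HH := (MonoidHom.fst HH (Sp F)).comp (R w).subtype

/-- Projection to the symplectic group. -/
def sndR (w : F) : R w →* Sp F := (MonoidHom.snd HH (Sp F)).comp (R w).subtype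

theorem sndR_surj : Function.Surjective (sndR w) := by
  intro g
  obtain ⟨p, hp, rfl⟩ := (snd_top hw).ge (Subgroup.mem_top g)
  exact ⟨⟨p, hp⟩, rfl⟩

theorem scalar_eq_one (g : Sp F) (hg : ∀ u : Fin 2 ⊕ Fin 2 → F, ∃ c : F, g • u = c • u) : g = 1 := by
  have hcm : ∀ c : F, ∀ u : Fin 2 ⊕ Fin 2 → F, g • (c • u) = c • (g • u) := fun c u => by
    rw [smul_def, smul_def, Matrix.mulVec_smul]
  have hga : ∀ u v : Fin 2 ⊕ Fin 2 → F, g • (u + v) = g • u + g • v := fun u v => by
    rw [smul_def, smul_def, smul_def, Matrix.mulVec_add]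
  set e : Fin 2 ⊕ Fin 2 → Fin 2 ⊕ Fin 2 → F := fun d => Pi.single d 1 with he
  choose a ha using fun d => hg (e d)
  have hab : ∀ d d', a d = a d' := by
    intro d d'
    by_cases hdd : d = d'
    · rw [hdd]
    obtain ⟨c, hc⟩ := hg (e d + e d')
    rw [hga, ha, ha] at hc
    have h1 := congrFun hc d
    have h2 := congrFun hc d'
    simp [e, hdd, Ne.symm hdd] at h1 h2
    rw [h1, h2]
  have hone : a (.inl 0) * a (.inl 0) = 1 := by
    have h := form_map g (e (.inr 0)) (e (.inl 0))
    rw [ha, ha, hab (.inr 0) (.inl 0), form_smul_left, form_smul_right, ← mul_assoc] at h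
    have h1 : Cfsg.sympForm 2 F (e (.inr 0)) (e (.inl 0)) = 1 := by
      rw [form_eq_sum]
      simp [e, Fin.sum_univ_two]
    rwa [h1, mul_one] at h
  have ha1 : a (.inl 0) = 1 := by
    have h : (a (.inl 0) + 1) ^ 2 = 0 := by
      rw [UnitaryF4Geo.sq_add, pow_two, hone, one_pow, UnitaryF4Geo.add_self]
    exact UnitaryF4Geo.eq_of_add_eq_zero (pow_eq_zero_iff (by norm_num) |>.mp h)
  refine ext_smul_single fun d => ?_
  show g • e d = (1 : Sp F) • e d
  rw [ha, hab d (.inl 0), ha1, one_smul, one_smul]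

theorem fstR_inj : Function.Injective (fstR w) := by
  rw [injective_iff_map_eq_one]
  rintro ⟨⟨k, g⟩, hp⟩ hk
  have hk : k = 1 := hk
  subst hk
  refine Subtype.ext (Prod.ext rfl (scalar_eq_one hw g fun u => ?_))
  by_cases hu0 : u = 0
  · exact ⟨1, by rw [hu0, one_smul, smul_def, Matrix.mulVec_zero]⟩
  obtain ⟨i, hi, μ, hμ, rfl⟩ := exists_point hw hu0
  obtain ⟨c, -, e⟩ := hp i hi
  simp only [OneMemClass.coe_one, map_one, Equiv.Perm.one_apply] at e
  exact ⟨c, by rw [smul_def, Matrix.mulVec_smul, ← smul_def, e, smul_comm]⟩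

omit hw in
theorem card_H : Finite HH ∧ Nat.card HH = 1958400 := by
  haveI : Finite (Pres.Grp PH) := CosetCertHeSimple.upper.1
  have h := Subgroup.index_mul_card HH
  rw [index_sub CosetCertHeH.enumerated, CosetCertHeSimple.card_and_faithful.1] at h
  refine ⟨inferInstance, ?_⟩
  have h' : 2058 * Nat.card HH = 4030387200 := h
  omega

omit hw in
theorem card_sp : Nat.card (Sp F) = 979200 := by
  rw [SymplecticOrder.card_symplectic (F := F) card4 2]
  norm_num [Finset.prod_range_succ]

/-- A word acting semilinearly. -/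
def twist : HH := (⟨val PH.gg (flat CosetCertSp44Data.twistWord), flat_mem _⟩ : HH)⁻¹

theorem twist_not : ∀ g, (twist, g) ∉ R w := by
  intro g hg
  have key : ∀ v b : Nat, v < 256 → v ≠ 0 → lab (entry CosetCertSp44Data.idxTbl 16 v) = 2 →
      entry CosetCertSp44Data.idxTbl 16 v < 2058 →
      scaled 4 (vcode (entry CosetCertSp44Data.idxTbl 16 v)) (fun d => dig v d) = true →
      scaled 4 (vcode (TH.run (flat CosetCertSp44Data.twistWord) (entry CosetCertSp44Data.idxTbl 16 v)))
        (fun d => dig b d) = true →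
      ∃ c : F, c ≠ 0 ∧ g • toV w v = c • toV w b := by
    intro v b _ _ hl hlt hs hs'
    obtain ⟨α, hα, e1⟩ := scaled_vec hw hs
    obtain ⟨β, hβ, e2⟩ := scaled_vec hw hs'
    obtain ⟨c, hc, e⟩ := hg ⟨_, hlt⟩ hl
    rw [twist, Subgroup.coe_inv, map_inv, rho_val_apply CosetCertHeH.enumerated
      (flat_letters (by decide +kernel))] at e
    refine ⟨α * c * β⁻¹, mul_ne_zero (mul_ne_zero hα hc) (inv_ne_zero hβ), ?_⟩
    rw [show toV w v = α • toV w (vcode (entry CosetCertSp44Data.idxTbl 16 v)) from e1.symm,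
      smul_def, Matrix.mulVec_smul, ← smul_def, e, smul_smul]
    rw [show toV w b = β • toV w (vcode (TH.run (flat CosetCertSp44Data.twistWord)
      (entry CosetCertSp44Data.idxTbl 16 v))) from e2.symm, smul_smul]
    congr 1
    field_simp
  obtain ⟨a, -, ha⟩ := key 1 1 (by norm_num) (by norm_num) (by decide +kernel) (by decide +kernel)
    (by decide +kernel) (by decide +kernel)
  obtain ⟨b, -, hb⟩ := key 4 4 (by norm_num) (by norm_num) (by decide +kernel) (by decide +kernel)
    (by decide +kernel) (by decide +kernel)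
  obtain ⟨c, -, hc⟩ := key 5 5 (by norm_num) (by norm_num) (by decide +kernel) (by decide +kernel)
    (by decide +kernel) (by decide +kernel)
  obtain ⟨d, hd0, hd⟩ := key 9 13 (by norm_num) (by norm_num) (by decide +kernel) (by decide +kernel)
    (by decide +kernel) (by decide +kernel)
  obtain ⟨hw0, hw1⟩ := UnitaryF4Geo.omega_ne hw
  have e5 : toV w 5 = toV w 1 + toV w 4 := funext fun x => by
    rcases x with x | x <;> fin_cases x <;> simp [toV, pos, dig, toF]
  have e9 : toV w 9 = toV w 1 + w • toV w 4 := funext fun x => by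
    rcases x with x | x <;> fin_cases x <;> simp [toV, pos, dig, toF]
  rw [e5, smul_def, Matrix.mulVec_add, ← smul_def, ← smul_def, ha, hb] at hc
  rw [e9, smul_def, Matrix.mulVec_add, Matrix.mulVec_smul, ← smul_def, ← smul_def, ha, hb] at hd
  have h1 := congrFun hc (.inl 0)
  have h2 := congrFun hc (.inl 1)
  have h3 := congrFun hd (.inl 0)
  have h4 := congrFun hd (.inl 1)
  simp [toV, pos, dig, toF] at h1 h2 h3 h4
  -- `a = b`, `a = d` and `w * b = d * (1 + w)`
  have : d * (1 + w) = d * w := by rw [← h4, h2, ← h1, h3, mul_comm]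
  have h5 := mul_left_cancel₀ hd0 this
  exact one_ne_zero (add_right_cancel (h5.trans (zero_add w).symm))

theorem fstR_range : (fstR w).range.index = 2 ∧ Nonempty ((fstR w).range ≃* Sp F) := by
  haveI := card_H.1
  haveI : Finite (R w) := Finite.of_injective _ (fstR_inj hw)
  have hk := Subgroup.card_mul_index (sndR w).ker
  rw [Subgroup.index_ker, MonoidHom.range_eq_top.mpr (sndR_surj hw), Subgroup.card_top,
    card_sp (F := F)] at hk
  have he : Nat.card (fstR w).range = Nat.card (R w) :=
    (Nat.card_congr (MonoidHom.ofInjective (fstR_inj hw)).toEquiv).symm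
  have hi := Subgroup.card_mul_index (fstR w).range
  rw [he, ← hk, card_H.2] at hi
  have hne : (fstR w).range.index ≠ 1 := by
    intro h1
    rw [Subgroup.index_eq_one] at h1
    obtain ⟨⟨⟨k, g⟩, hp⟩, hpk⟩ := h1.ge (Subgroup.mem_top twist)
    have hpk : k = twist := hpk
    subst hpk
    exact twist_not hw g hp
  have hprod : Nat.card (sndR w).ker * (fstR w).range.index = 2 :=
    Nat.eq_of_mul_eq_mul_left (by norm_num : 0 < 979200)
      ((by ring : 979200 * (Nat.card (sndR w).ker * (fstR w).range.index) =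
        Nat.card (sndR w).ker * 979200 * (fstR w).range.index).trans
        (hi.trans (by norm_num)))
  have hidx : (fstR w).range.index = 2 :=
    ((Nat.dvd_prime Nat.prime_two).mp (Dvd.intro_left _ hprod)).resolve_left hne
  have hker : Nat.card (sndR w).ker = 1 := by rw [hidx] at hprod; omega
  have hbij : Function.Bijective (sndR w) :=
    ⟨(MonoidHom.ker_eq_bot_iff _).mp (Subgroup.card_eq_one.mp hker), sndR_surj hw⟩
  exact ⟨hidx, ⟨(MonoidHom.ofInjective (fstR_inj hw)).symm.trans (MulEquiv.ofBijective _ hbij)⟩⟩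

end Field

end Cfsg.Agent.CosetCertSp44
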