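import Cfsg.Agent.Lib.CosetCertOrder

/-!
A lower bound for a subgroup generated by some of the generators, from some points that it moves
as an enumerated group moves its own points.
-/

set_option autoImplicit false

namespace Cfsg.Agent.CosetCertSpanLower41

open Cfsg.Agent.CosetCertCore Cfsg.Agent.CosetCertTable Cfsg.Agent.CosetCertPres
open Cfsg.Agent.CosetCertOrder

/-- The generators move the listed points as those of the small table move theirs. -/
noncomputable def embOk (D D' : Table) (σ e : List Nat) (x : Nat) : Bool :=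
  Nat.blt (σ.getD x 0) D.NG &&
    allFrom (fun i => Nat.blt (e.getD i 0) D.N &&
      Nat.beq (D.img (σ.getD x 0) (e.getD i 0)) (e.getD (D'.img x i) 0)) D'.N 0

theorem card_range_le {P Q : Pres} {S S' : List Wx} {C C' : Cert} {M M' : Nat} {D D' : Table}
    (h : Enumerated P S C M D) (h' : Enumerated Q S' C' M' D') [Finite P.Grp] {σ e : List Nat}
    (hlen : D'.NG = σ.length) (he : allFrom (embOk D D' σ e) D'.NG 0 = true)
    (hlene : e.length = D'.N) (hnd : e.Nodup) :
    Nat.card (rho h').range ≤ Nat.card (span P.gg σ) := by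
  classical
  have hlt : ∀ i : Fin D'.N, e.getD i 0 < D.N := fun i => by
    have h0 := (allFrom_iff _ _ _).mp he 0 le_rfl (by have := h'.table.gpos; omega)
    simp only [embOk, Bool.and_eq_true] at h0
    have := (allFrom_iff _ _ _).mp h0.2 i (Nat.zero_le _) (by have := i.2; omega)
    simp only [Bool.and_eq_true, Nat.blt_eq] at this
    exact this.1
  let ε : Fin D'.N → Fin D.N := fun i => ⟨e.getD i 0, hlt i⟩
  have hε : Function.Injective ε := by
    intro i j hij
    have := congrArg Fin.val hij
    simp only [ε, List.getD_eq_getElem _ _ (show (i : Nat) < e.length by omega),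
      List.getD_eq_getElem _ _ (show (j : Nat) < e.length by omega)] at this
    exact Fin.ext ((hnd.getElem_inj_iff).mp this)
  let R : Subgroup (P.Grp × Equiv.Perm (Fin D'.N)) :=
    { carrier := {p | p.1 ∈ span P.gg σ ∧ ∀ i, rho h p.1 (ε i) = ε (p.2 i)}
      one_mem' := ⟨one_mem _, fun i => by simp⟩
      mul_mem' := by
        intro p q hp hq
        exact ⟨mul_mem hp.1 hq.1, fun i => by
          simp only [Prod.fst_mul, Prod.snd_mul, map_mul, Equiv.Perm.mul_apply, hq.2, hp.2]⟩
      inv_mem' := by
        intro p hp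
        refine ⟨inv_mem hp.1, fun i => ?_⟩
        simp only [Prod.fst_inv, Prod.snd_inv, map_inv]
        rw [Equiv.Perm.inv_eq_iff_eq, hp.2]
        simp }
  have hle : (rho h').range ≤ R.map (MonoidHom.snd _ _) := by
    rw [MonoidHom.range_eq_map, ← closure_gg h'.good, MonoidHom.map_closure, Subgroup.closure_le]
    rintro _ ⟨_, ⟨x, hx, rfl⟩, rfl⟩
    rw [← h'.ng] at hx
    have hx' : x < σ.length := hlen ▸ hx
    have h0 := (allFrom_iff _ _ _).mp he x (Nat.zero_le _) (by omega)
    simp only [embOk, Bool.and_eq_true, Nat.blt_eq] at h0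
    refine ⟨(P.gg (σ.getD x 0), rho h' (Q.gg x)), ⟨?_, fun i => ?_⟩, rfl⟩
    · refine Subgroup.subset_closure ⟨_, ?_, rfl⟩
      rw [List.getD_eq_getElem _ _ hx']
      exact List.getElem_mem _
    · apply Fin.ext
      have h1 := (allFrom_iff _ _ _).mp h0.2 i (Nat.zero_le _) (by have := i.2; omega)
      simp only [Bool.and_eq_true, Nat.beq_eq] at h1
      rw [rho_gg h _ h0.1, perm_apply h.table h0.1, rho_gg h' x hx]
      show D.img _ (e.getD i 0) = e.getD (perm h'.table x i : Nat) 0
      rw [perm_apply h'.table hx]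
      exact h1.2
  let f : R → span P.gg σ := fun p => ⟨p.1.1, p.2.1⟩
  have hf : Function.Injective f := by
    intro p q hpq
    have h1 : p.1.1 = q.1.1 := congrArg Subtype.val hpq
    refine Subtype.ext (Prod.ext h1 (Equiv.ext fun i => hε ?_))
    rw [← p.2.2 i, ← q.2.2 i, h1]
  calc Nat.card (rho h').range ≤ Nat.card (R.map (MonoidHom.snd _ _)) := Subgroup.card_le_of_le hle
    _ ≤ Nat.card R := Nat.card_le_card_of_surjective _ ((MonoidHom.snd _ _).subgroupMap_surjective R)
    _ ≤ Nat.card (span P.gg σ) := Nat.card_le_card_of_injective f hf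

end Cfsg.Agent.CosetCertSpanLower41
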