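import Cfsg.Agent.Lib.CosetCertSuzAbcd50C0
import Cfsg.Agent.Lib.CosetCertSuzAbcd50C1
import Cfsg.Agent.Lib.CosetCertSuzAbcd50P0

/-! Regular table of the group on a, b, c, d of the Suz presentation. -/

set_option autoImplicit false
set_option maxRecDepth 100000

namespace Cfsg.Agent.CosetCertSuzAbcd50

open Cfsg.Agent.CosetCertCore Cfsg.Agent.CosetCertTable Cfsg.Agent.CosetCertOrder Cfsg.Agent.CosetCertSuzAbcd50Data

/-- The facts hold up to `n`. -/
def Valid (n : Nat) : Prop :=
  ∀ {G X : Type} [Group G] [MulAction G X] (g : Nat → G) (base : X),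
    Ctx g base cert → AllValid g (nodeVal g base cert) cert n

theorem Valid.step {lo n : Nat} (h : Valid lo) (L : List Nat)
    (hn : (Nat.beq (lo + L.length) n && checkList cert L lo) = true) : Valid n := by
  rw [Bool.and_eq_true, Nat.beq_eq] at hn
  intro G X _ _ g base hC
  exact hn.1 ▸ checkList_sound g base hC L lo (h g base hC) hn.2

theorem valid0 : Valid 0 := fun _ _ _ _ h => absurd h (Nat.not_lt_zero _)

theorem valid1 : Valid 256 := valid0.step CosetCertSuzAbcd50C0.just0 CosetCertSuzAbcd50C0.check0

theorem valid2 : Valid 512 := valid1.step CosetCertSuzAbcd50C0.just1 CosetCertSuzAbcd50C0.check1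

theorem valid3 : Valid 768 := valid2.step CosetCertSuzAbcd50C0.just2 CosetCertSuzAbcd50C0.check2

theorem valid4 : Valid 1024 := valid3.step CosetCertSuzAbcd50C0.just3 CosetCertSuzAbcd50C0.check3

theorem valid5 : Valid 1280 := valid4.step CosetCertSuzAbcd50C0.just4 CosetCertSuzAbcd50C0.check4

theorem valid6 : Valid 1536 := valid5.step CosetCertSuzAbcd50C0.just5 CosetCertSuzAbcd50C0.check5

theorem valid7 : Valid 1792 := valid6.step CosetCertSuzAbcd50C0.just6 CosetCertSuzAbcd50C0.check6

theorem valid8 : Valid 2048 := valid7.step CosetCertSuzAbcd50C0.just7 CosetCertSuzAbcd50C0.check7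

theorem valid9 : Valid 2304 := valid8.step CosetCertSuzAbcd50C0.just8 CosetCertSuzAbcd50C0.check8

theorem valid10 : Valid 2560 := valid9.step CosetCertSuzAbcd50C0.just9 CosetCertSuzAbcd50C0.check9

theorem valid11 : Valid 2816 := valid10.step CosetCertSuzAbcd50C0.just10 CosetCertSuzAbcd50C0.check10

theorem valid12 : Valid 3072 := valid11.step CosetCertSuzAbcd50C0.just11 CosetCertSuzAbcd50C0.check11

theorem valid13 : Valid 3328 := valid12.step CosetCertSuzAbcd50C0.just12 CosetCertSuzAbcd50C0.check12

theorem valid14 : Valid 3584 := valid13.step CosetCertSuzAbcd50C0.just13 CosetCertSuzAbcd50C0.check13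

theorem valid15 : Valid 3840 := valid14.step CosetCertSuzAbcd50C0.just14 CosetCertSuzAbcd50C0.check14

theorem valid16 : Valid 4096 := valid15.step CosetCertSuzAbcd50C0.just15 CosetCertSuzAbcd50C0.check15

theorem valid17 : Valid 4352 := valid16.step CosetCertSuzAbcd50C0.just16 CosetCertSuzAbcd50C0.check16

theorem valid18 : Valid 4608 := valid17.step CosetCertSuzAbcd50C0.just17 CosetCertSuzAbcd50C0.check17

theorem valid19 : Valid 4864 := valid18.step CosetCertSuzAbcd50C0.just18 CosetCertSuzAbcd50C0.check18

theorem valid20 : Valid 5120 := valid19.step CosetCertSuzAbcd50C0.just19 CosetCertSuzAbcd50C0.check19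

theorem valid21 : Valid 5376 := valid20.step CosetCertSuzAbcd50C0.just20 CosetCertSuzAbcd50C0.check20

theorem valid22 : Valid 5632 := valid21.step CosetCertSuzAbcd50C0.just21 CosetCertSuzAbcd50C0.check21

theorem valid23 : Valid 5888 := valid22.step CosetCertSuzAbcd50C0.just22 CosetCertSuzAbcd50C0.check22

theorem valid24 : Valid 6144 := valid23.step CosetCertSuzAbcd50C0.just23 CosetCertSuzAbcd50C0.check23

theorem valid25 : Valid 6400 := valid24.step CosetCertSuzAbcd50C0.just24 CosetCertSuzAbcd50C0.check24

theorem valid26 : Valid 6656 := valid25.step CosetCertSuzAbcd50C0.just25 CosetCertSuzAbcd50C0.check25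

theorem valid27 : Valid 6912 := valid26.step CosetCertSuzAbcd50C0.just26 CosetCertSuzAbcd50C0.check26

theorem valid28 : Valid 7168 := valid27.step CosetCertSuzAbcd50C0.just27 CosetCertSuzAbcd50C0.check27

theorem valid29 : Valid 7424 := valid28.step CosetCertSuzAbcd50C0.just28 CosetCertSuzAbcd50C0.check28

theorem valid30 : Valid 7680 := valid29.step CosetCertSuzAbcd50C0.just29 CosetCertSuzAbcd50C0.check29

theorem valid31 : Valid 7936 := valid30.step CosetCertSuzAbcd50C0.just30 CosetCertSuzAbcd50C0.check30

theorem valid32 : Valid 8192 := valid31.step CosetCertSuzAbcd50C0.just31 CosetCertSuzAbcd50C0.check31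

theorem valid33 : Valid 8448 := valid32.step CosetCertSuzAbcd50C0.just32 CosetCertSuzAbcd50C0.check32

theorem valid34 : Valid 8704 := valid33.step CosetCertSuzAbcd50C0.just33 CosetCertSuzAbcd50C0.check33

theorem valid35 : Valid 8960 := valid34.step CosetCertSuzAbcd50C0.just34 CosetCertSuzAbcd50C0.check34

theorem valid36 : Valid 9216 := valid35.step CosetCertSuzAbcd50C0.just35 CosetCertSuzAbcd50C0.check35

theorem valid37 : Valid 9472 := valid36.step CosetCertSuzAbcd50C0.just36 CosetCertSuzAbcd50C0.check36

theorem valid38 : Valid 9728 := valid37.step CosetCertSuzAbcd50C0.just37 CosetCertSuzAbcd50C0.check37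

theorem valid39 : Valid 9984 := valid38.step CosetCertSuzAbcd50C0.just38 CosetCertSuzAbcd50C0.check38

theorem valid40 : Valid 10240 := valid39.step CosetCertSuzAbcd50C0.just39 CosetCertSuzAbcd50C0.check39

theorem valid41 : Valid 10496 := valid40.step CosetCertSuzAbcd50C0.just40 CosetCertSuzAbcd50C0.check40

theorem valid42 : Valid 10752 := valid41.step CosetCertSuzAbcd50C0.just41 CosetCertSuzAbcd50C0.check41

theorem valid43 : Valid 11008 := valid42.step CosetCertSuzAbcd50C0.just42 CosetCertSuzAbcd50C0.check42

theorem valid44 : Valid 11264 := valid43.step CosetCertSuzAbcd50C0.just43 CosetCertSuzAbcd50C0.check43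

theorem valid45 : Valid 11520 := valid44.step CosetCertSuzAbcd50C0.just44 CosetCertSuzAbcd50C0.check44

theorem valid46 : Valid 11776 := valid45.step CosetCertSuzAbcd50C0.just45 CosetCertSuzAbcd50C0.check45

theorem valid47 : Valid 12032 := valid46.step CosetCertSuzAbcd50C0.just46 CosetCertSuzAbcd50C0.check46

theorem valid48 : Valid 12288 := valid47.step CosetCertSuzAbcd50C0.just47 CosetCertSuzAbcd50C0.check47

theorem valid49 : Valid 12544 := valid48.step CosetCertSuzAbcd50C0.just48 CosetCertSuzAbcd50C0.check48

theorem valid50 : Valid 12800 := valid49.step CosetCertSuzAbcd50C0.just49 CosetCertSuzAbcd50C0.check49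

theorem valid51 : Valid 13056 := valid50.step CosetCertSuzAbcd50C0.just50 CosetCertSuzAbcd50C0.check50

theorem valid52 : Valid 13312 := valid51.step CosetCertSuzAbcd50C0.just51 CosetCertSuzAbcd50C0.check51

theorem valid53 : Valid 13568 := valid52.step CosetCertSuzAbcd50C0.just52 CosetCertSuzAbcd50C0.check52

theorem valid54 : Valid 13824 := valid53.step CosetCertSuzAbcd50C0.just53 CosetCertSuzAbcd50C0.check53

theorem valid55 : Valid 14080 := valid54.step CosetCertSuzAbcd50C0.just54 CosetCertSuzAbcd50C0.check54

theorem valid56 : Valid 14336 := valid55.step CosetCertSuzAbcd50C0.just55 CosetCertSuzAbcd50C0.check55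

theorem valid57 : Valid 14592 := valid56.step CosetCertSuzAbcd50C0.just56 CosetCertSuzAbcd50C0.check56

theorem valid58 : Valid 14848 := valid57.step CosetCertSuzAbcd50C0.just57 CosetCertSuzAbcd50C0.check57

theorem valid59 : Valid 15104 := valid58.step CosetCertSuzAbcd50C0.just58 CosetCertSuzAbcd50C0.check58

theorem valid60 : Valid 15360 := valid59.step CosetCertSuzAbcd50C0.just59 CosetCertSuzAbcd50C0.check59

theorem valid61 : Valid 15616 := valid60.step CosetCertSuzAbcd50C0.just60 CosetCertSuzAbcd50C0.check60

theorem valid62 : Valid 15872 := valid61.step CosetCertSuzAbcd50C0.just61 CosetCertSuzAbcd50C0.check61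

theorem valid63 : Valid 16128 := valid62.step CosetCertSuzAbcd50C0.just62 CosetCertSuzAbcd50C0.check62

theorem valid64 : Valid 16384 := valid63.step CosetCertSuzAbcd50C0.just63 CosetCertSuzAbcd50C0.check63

theorem valid65 : Valid 16640 := valid64.step CosetCertSuzAbcd50C0.just64 CosetCertSuzAbcd50C0.check64

theorem valid66 : Valid 16896 := valid65.step CosetCertSuzAbcd50C0.just65 CosetCertSuzAbcd50C0.check65

theorem valid67 : Valid 17152 := valid66.step CosetCertSuzAbcd50C0.just66 CosetCertSuzAbcd50C0.check66

theorem valid68 : Valid 17408 := valid67.step CosetCertSuzAbcd50C0.just67 CosetCertSuzAbcd50C0.check67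

theorem valid69 : Valid 17664 := valid68.step CosetCertSuzAbcd50C0.just68 CosetCertSuzAbcd50C0.check68

theorem valid70 : Valid 17920 := valid69.step CosetCertSuzAbcd50C0.just69 CosetCertSuzAbcd50C0.check69

theorem valid71 : Valid 18176 := valid70.step CosetCertSuzAbcd50C0.just70 CosetCertSuzAbcd50C0.check70

theorem valid72 : Valid 18432 := valid71.step CosetCertSuzAbcd50C0.just71 CosetCertSuzAbcd50C0.check71

theorem valid73 : Valid 18688 := valid72.step CosetCertSuzAbcd50C0.just72 CosetCertSuzAbcd50C0.check72

theorem valid74 : Valid 18944 := valid73.step CosetCertSuzAbcd50C0.just73 CosetCertSuzAbcd50C0.check73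

theorem valid75 : Valid 19200 := valid74.step CosetCertSuzAbcd50C0.just74 CosetCertSuzAbcd50C0.check74

theorem valid76 : Valid 19456 := valid75.step CosetCertSuzAbcd50C0.just75 CosetCertSuzAbcd50C0.check75

theorem valid77 : Valid 19712 := valid76.step CosetCertSuzAbcd50C0.just76 CosetCertSuzAbcd50C0.check76

theorem valid78 : Valid 19968 := valid77.step CosetCertSuzAbcd50C0.just77 CosetCertSuzAbcd50C0.check77

theorem valid79 : Valid 20224 := valid78.step CosetCertSuzAbcd50C1.just78 CosetCertSuzAbcd50C1.check78

theorem valid80 : Valid 20480 := valid79.step CosetCertSuzAbcd50C1.just79 CosetCertSuzAbcd50C1.check79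

theorem valid81 : Valid 20736 := valid80.step CosetCertSuzAbcd50C1.just80 CosetCertSuzAbcd50C1.check80

theorem valid82 : Valid 20992 := valid81.step CosetCertSuzAbcd50C1.just81 CosetCertSuzAbcd50C1.check81

theorem valid83 : Valid 21248 := valid82.step CosetCertSuzAbcd50C1.just82 CosetCertSuzAbcd50C1.check82

theorem valid84 : Valid 21504 := valid83.step CosetCertSuzAbcd50C1.just83 CosetCertSuzAbcd50C1.check83

theorem valid85 : Valid 21760 := valid84.step CosetCertSuzAbcd50C1.just84 CosetCertSuzAbcd50C1.check84

theorem valid86 : Valid 22016 := valid85.step CosetCertSuzAbcd50C1.just85 CosetCertSuzAbcd50C1.check85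

theorem valid87 : Valid 22272 := valid86.step CosetCertSuzAbcd50C1.just86 CosetCertSuzAbcd50C1.check86

theorem valid88 : Valid 22528 := valid87.step CosetCertSuzAbcd50C1.just87 CosetCertSuzAbcd50C1.check87

theorem valid89 : Valid 22784 := valid88.step CosetCertSuzAbcd50C1.just88 CosetCertSuzAbcd50C1.check88

theorem valid90 : Valid 23040 := valid89.step CosetCertSuzAbcd50C1.just89 CosetCertSuzAbcd50C1.check89

theorem valid91 : Valid 23296 := valid90.step CosetCertSuzAbcd50C1.just90 CosetCertSuzAbcd50C1.check90

theorem valid92 : Valid 23552 := valid91.step CosetCertSuzAbcd50C1.just91 CosetCertSuzAbcd50C1.check91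

theorem valid93 : Valid 23808 := valid92.step CosetCertSuzAbcd50C1.just92 CosetCertSuzAbcd50C1.check92

theorem valid94 : Valid 24064 := valid93.step CosetCertSuzAbcd50C1.just93 CosetCertSuzAbcd50C1.check93

theorem valid95 : Valid 24320 := valid94.step CosetCertSuzAbcd50C1.just94 CosetCertSuzAbcd50C1.check94

theorem valid96 : Valid 24576 := valid95.step CosetCertSuzAbcd50C1.just95 CosetCertSuzAbcd50C1.check95

theorem valid97 : Valid 24832 := valid96.step CosetCertSuzAbcd50C1.just96 CosetCertSuzAbcd50C1.check96

theorem valid98 : Valid 25088 := valid97.step CosetCertSuzAbcd50C1.just97 CosetCertSuzAbcd50C1.check97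

theorem valid99 : Valid 25344 := valid98.step CosetCertSuzAbcd50C1.just98 CosetCertSuzAbcd50C1.check98

theorem valid100 : Valid 25600 := valid99.step CosetCertSuzAbcd50C1.just99 CosetCertSuzAbcd50C1.check99

theorem valid101 : Valid 25856 := valid100.step CosetCertSuzAbcd50C1.just100 CosetCertSuzAbcd50C1.check100

theorem valid102 : Valid 26112 := valid101.step CosetCertSuzAbcd50C1.just101 CosetCertSuzAbcd50C1.check101

theorem valid103 : Valid 26368 := valid102.step CosetCertSuzAbcd50C1.just102 CosetCertSuzAbcd50C1.check102

theorem valid104 : Valid 26624 := valid103.step CosetCertSuzAbcd50C1.just103 CosetCertSuzAbcd50C1.check103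

theorem valid105 : Valid 26880 := valid104.step CosetCertSuzAbcd50C1.just104 CosetCertSuzAbcd50C1.check104

theorem valid106 : Valid 27136 := valid105.step CosetCertSuzAbcd50C1.just105 CosetCertSuzAbcd50C1.check105

theorem valid107 : Valid 27392 := valid106.step CosetCertSuzAbcd50C1.just106 CosetCertSuzAbcd50C1.check106

theorem valid108 : Valid 27648 := valid107.step CosetCertSuzAbcd50C1.just107 CosetCertSuzAbcd50C1.check107

theorem valid109 : Valid 27904 := valid108.step CosetCertSuzAbcd50C1.just108 CosetCertSuzAbcd50C1.check108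

theorem valid110 : Valid 28160 := valid109.step CosetCertSuzAbcd50C1.just109 CosetCertSuzAbcd50C1.check109

theorem valid111 : Valid 28416 := valid110.step CosetCertSuzAbcd50C1.just110 CosetCertSuzAbcd50C1.check110

theorem valid112 : Valid 28672 := valid111.step CosetCertSuzAbcd50C1.just111 CosetCertSuzAbcd50C1.check111

theorem valid113 : Valid 28928 := valid112.step CosetCertSuzAbcd50C1.just112 CosetCertSuzAbcd50C1.check112

theorem valid114 : Valid 29184 := valid113.step CosetCertSuzAbcd50C1.just113 CosetCertSuzAbcd50C1.check113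

theorem valid115 : Valid 29440 := valid114.step CosetCertSuzAbcd50C1.just114 CosetCertSuzAbcd50C1.check114

theorem valid116 : Valid 29696 := valid115.step CosetCertSuzAbcd50C1.just115 CosetCertSuzAbcd50C1.check115

theorem valid117 : Valid 29952 := valid116.step CosetCertSuzAbcd50C1.just116 CosetCertSuzAbcd50C1.check116

theorem valid118 : Valid 30208 := valid117.step CosetCertSuzAbcd50C1.just117 CosetCertSuzAbcd50C1.check117

theorem valid119 : Valid 30464 := valid118.step CosetCertSuzAbcd50C1.just118 CosetCertSuzAbcd50C1.check118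

theorem valid120 : Valid 30720 := valid119.step CosetCertSuzAbcd50C1.just119 CosetCertSuzAbcd50C1.check119

theorem valid121 : Valid 30976 := valid120.step CosetCertSuzAbcd50C1.just120 CosetCertSuzAbcd50C1.check120

theorem valid122 : Valid 31232 := valid121.step CosetCertSuzAbcd50C1.just121 CosetCertSuzAbcd50C1.check121

theorem valid123 : Valid 31488 := valid122.step CosetCertSuzAbcd50C1.just122 CosetCertSuzAbcd50C1.check122

theorem valid124 : Valid 31592 := valid123.step CosetCertSuzAbcd50C1.just123 CosetCertSuzAbcd50C1.check123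

theorem points0 : AllBelow (pointOk cert 31592 table) 0 := AllBelow.zero _

theorem points1 : AllBelow (pointOk cert 31592 table) 128 := AllBelow.step points0 128 CosetCertSuzAbcd50P0.points1c

theorem points2 : AllBelow (pointOk cert 31592 table) 256 := AllBelow.step points1 128 CosetCertSuzAbcd50P0.points2c

theorem points3 : AllBelow (pointOk cert 31592 table) 384 := AllBelow.step points2 128 CosetCertSuzAbcd50P0.points3c

theorem points4 : AllBelow (pointOk cert 31592 table) 512 := AllBelow.step points3 128 CosetCertSuzAbcd50P0.points4c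

theorem points5 : AllBelow (pointOk cert 31592 table) 640 := AllBelow.step points4 128 CosetCertSuzAbcd50P0.points5c

theorem points6 : AllBelow (pointOk cert 31592 table) 768 := AllBelow.step points5 128 CosetCertSuzAbcd50P0.points6c

theorem points7 : AllBelow (pointOk cert 31592 table) 896 := AllBelow.step points6 128 CosetCertSuzAbcd50P0.points7c

theorem points8 : AllBelow (pointOk cert 31592 table) 1024 := AllBelow.step points7 128 CosetCertSuzAbcd50P0.points8c

theorem points9 : AllBelow (pointOk cert 31592 table) 1152 := AllBelow.step points8 128 CosetCertSuzAbcd50P0.points9c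

theorem points10 : AllBelow (pointOk cert 31592 table) 1280 := AllBelow.step points9 128 CosetCertSuzAbcd50P0.points10c

theorem points11 : AllBelow (pointOk cert 31592 table) 1408 := AllBelow.step points10 128 CosetCertSuzAbcd50P0.points11c

theorem points12 : AllBelow (pointOk cert 31592 table) 1536 := AllBelow.step points11 128 CosetCertSuzAbcd50P0.points12c

theorem points13 : AllBelow (pointOk cert 31592 table) 1664 := AllBelow.step points12 128 CosetCertSuzAbcd50P0.points13c

theorem points14 : AllBelow (pointOk cert 31592 table) 1792 := AllBelow.step points13 128 CosetCertSuzAbcd50P0.points14c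

theorem points15 : AllBelow (pointOk cert 31592 table) 1920 := AllBelow.step points14 128 CosetCertSuzAbcd50P0.points15c

theorem points16 : AllBelow (pointOk cert 31592 table) 2048 := AllBelow.step points15 128 CosetCertSuzAbcd50P0.points16c

theorem points17 : AllBelow (pointOk cert 31592 table) 2160 := AllBelow.step points16 112 CosetCertSuzAbcd50P0.points17c

/-- The table is closed. -/
theorem closed : Closed cert 31592 table where
  npos := by decide +kernel
  node0 := by decide +kernel
  points := points17
  facts := fun g base h => valid124 g base h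

end Cfsg.Agent.CosetCertSuzAbcd50
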