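import Cfsg.Agent.Lib.CosetCertSuzMA46Data

/-! The odd relator is central of order dividing 3 on abfg. -/

set_option autoImplicit false
set_option maxRecDepth 100000
set_option Elab.async false

namespace Cfsg.Agent.CosetCertSuzMA46P0

open Cfsg.Agent.CosetCertCore Cfsg.Agent.CosetCertTable Cfsg.Agent.CosetCertOrder
open Cfsg.Agent.CosetCertSuzMA46Data

theorem points1c : allFrom (pointOk cert 2281 table) 128 0 = true := by decide +kernel

theorem points2c : allFrom (pointOk cert 2281 table) 128 128 = true := by decide +kernel

theorem points3c : allFrom (pointOk cert 2281 table) 128 256 = true := by decide +kernel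

theorem points4c : allFrom (pointOk cert 2281 table) 128 384 = true := by decide +kernel

theorem points5c : allFrom (pointOk cert 2281 table) 128 512 = true := by decide +kernel

theorem points6c : allFrom (pointOk cert 2281 table) 128 640 = true := by decide +kernel

theorem points7c : allFrom (pointOk cert 2281 table) 128 768 = true := by decide +kernel

theorem points8c : allFrom (pointOk cert 2281 table) 128 896 = true := by decide +kernel

theorem points9c : allFrom (pointOk cert 2281 table) 56 1024 = true := by decide +kernel

end Cfsg.Agent.CosetCertSuzMA46P0
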