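import Cfsg.Agent.Lib.CosetCertSuzMC46C0
import Cfsg.Agent.Lib.CosetCertSuzMC46P0

/-! Cosets of abcdf in abcdef inside Suz. -/

set_option autoImplicit false
set_option maxRecDepth 100000

namespace Cfsg.Agent.CosetCertSuzMC46

open Cfsg.Agent.CosetCertCore Cfsg.Agent.CosetCertTable Cfsg.Agent.CosetCertOrder Cfsg.Agent.CosetCertSuzMC46Data

/-- The facts hold up to `n`. -/
def Valid (n : Nat) : Prop :=
  ∀ {G X : Type} [Group G] [MulAction G X] (g : Nat → G) (base : X),
    Ctx g base cert → AllValid g (nodeVal g base cert) cert n

theorem Valid.step {lo n : Nat} (h : Valid lo) (L : List Nat)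
    (hn : (Nat.beq (lo + L.length) n && checkList cert L lo) = true) : Valid n := by
  rw [Bool.and_eq_true, Nat.beq_eq] at hn
  intro G X _ _ g base hC
  exact hn.1 ▸ checkList_sound g base hC L lo (h g base hC) hn.2

theorem valid0 : Valid 0 := fun _ _ _ _ h => absurd h (Nat.not_lt_zero _)

theorem valid1 : Valid 256 := valid0.step CosetCertSuzMC46C0.just0 CosetCertSuzMC46C0.check0

theorem valid2 : Valid 512 := valid1.step CosetCertSuzMC46C0.just1 CosetCertSuzMC46C0.check1

theorem valid3 : Valid 768 := valid2.step CosetCertSuzMC46C0.just2 CosetCertSuzMC46C0.check2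

theorem valid4 : Valid 1024 := valid3.step CosetCertSuzMC46C0.just3 CosetCertSuzMC46C0.check3

theorem valid5 : Valid 1280 := valid4.step CosetCertSuzMC46C0.just4 CosetCertSuzMC46C0.check4

theorem valid6 : Valid 1536 := valid5.step CosetCertSuzMC46C0.just5 CosetCertSuzMC46C0.check5

theorem valid7 : Valid 1792 := valid6.step CosetCertSuzMC46C0.just6 CosetCertSuzMC46C0.check6

theorem valid8 : Valid 2048 := valid7.step CosetCertSuzMC46C0.just7 CosetCertSuzMC46C0.check7

theorem valid9 : Valid 2304 := valid8.step CosetCertSuzMC46C0.just8 CosetCertSuzMC46C0.check8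

theorem valid10 : Valid 2560 := valid9.step CosetCertSuzMC46C0.just9 CosetCertSuzMC46C0.check9

theorem valid11 : Valid 2816 := valid10.step CosetCertSuzMC46C0.just10 CosetCertSuzMC46C0.check10

theorem valid12 : Valid 3072 := valid11.step CosetCertSuzMC46C0.just11 CosetCertSuzMC46C0.check11

theorem valid13 : Valid 3328 := valid12.step CosetCertSuzMC46C0.just12 CosetCertSuzMC46C0.check12

theorem valid14 : Valid 3584 := valid13.step CosetCertSuzMC46C0.just13 CosetCertSuzMC46C0.check13

theorem valid15 : Valid 3840 := valid14.step CosetCertSuzMC46C0.just14 CosetCertSuzMC46C0.check14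

theorem valid16 : Valid 4096 := valid15.step CosetCertSuzMC46C0.just15 CosetCertSuzMC46C0.check15

theorem valid17 : Valid 4352 := valid16.step CosetCertSuzMC46C0.just16 CosetCertSuzMC46C0.check16

theorem valid18 : Valid 4608 := valid17.step CosetCertSuzMC46C0.just17 CosetCertSuzMC46C0.check17

theorem valid19 : Valid 4864 := valid18.step CosetCertSuzMC46C0.just18 CosetCertSuzMC46C0.check18

theorem valid20 : Valid 5120 := valid19.step CosetCertSuzMC46C0.just19 CosetCertSuzMC46C0.check19

theorem valid21 : Valid 5376 := valid20.step CosetCertSuzMC46C0.just20 CosetCertSuzMC46C0.check20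

theorem valid22 : Valid 5632 := valid21.step CosetCertSuzMC46C0.just21 CosetCertSuzMC46C0.check21

theorem valid23 : Valid 5888 := valid22.step CosetCertSuzMC46C0.just22 CosetCertSuzMC46C0.check22

theorem valid24 : Valid 6144 := valid23.step CosetCertSuzMC46C0.just23 CosetCertSuzMC46C0.check23

theorem valid25 : Valid 6400 := valid24.step CosetCertSuzMC46C0.just24 CosetCertSuzMC46C0.check24

theorem valid26 : Valid 6656 := valid25.step CosetCertSuzMC46C0.just25 CosetCertSuzMC46C0.check25

theorem valid27 : Valid 6912 := valid26.step CosetCertSuzMC46C0.just26 CosetCertSuzMC46C0.check26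

theorem valid28 : Valid 7168 := valid27.step CosetCertSuzMC46C0.just27 CosetCertSuzMC46C0.check27

theorem valid29 : Valid 7424 := valid28.step CosetCertSuzMC46C0.just28 CosetCertSuzMC46C0.check28

theorem valid30 : Valid 7680 := valid29.step CosetCertSuzMC46C0.just29 CosetCertSuzMC46C0.check29

theorem valid31 : Valid 7936 := valid30.step CosetCertSuzMC46C0.just30 CosetCertSuzMC46C0.check30

theorem valid32 : Valid 8192 := valid31.step CosetCertSuzMC46C0.just31 CosetCertSuzMC46C0.check31

theorem valid33 : Valid 8448 := valid32.step CosetCertSuzMC46C0.just32 CosetCertSuzMC46C0.check32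

theorem valid34 : Valid 8479 := valid33.step CosetCertSuzMC46C0.just33 CosetCertSuzMC46C0.check33

theorem points0 : AllBelow (pointOk cert 8479 table) 0 := AllBelow.zero _

theorem points1 : AllBelow (pointOk cert 8479 table) 128 := AllBelow.step points0 128 CosetCertSuzMC46P0.points1c

theorem points2 : AllBelow (pointOk cert 8479 table) 256 := AllBelow.step points1 128 CosetCertSuzMC46P0.points2c

theorem points3 : AllBelow (pointOk cert 8479 table) 384 := AllBelow.step points2 128 CosetCertSuzMC46P0.points3c

theorem points4 : AllBelow (pointOk cert 8479 table) 512 := AllBelow.step points3 128 CosetCertSuzMC46P0.points4c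

theorem points5 : AllBelow (pointOk cert 8479 table) 640 := AllBelow.step points4 128 CosetCertSuzMC46P0.points5c

theorem points6 : AllBelow (pointOk cert 8479 table) 768 := AllBelow.step points5 128 CosetCertSuzMC46P0.points6c

theorem points7 : AllBelow (pointOk cert 8479 table) 896 := AllBelow.step points6 128 CosetCertSuzMC46P0.points7c

theorem points8 : AllBelow (pointOk cert 8479 table) 1024 := AllBelow.step points7 128 CosetCertSuzMC46P0.points8c

theorem points9 : AllBelow (pointOk cert 8479 table) 1152 := AllBelow.step points8 128 CosetCertSuzMC46P0.points9c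

theorem points10 : AllBelow (pointOk cert 8479 table) 1280 := AllBelow.step points9 128 CosetCertSuzMC46P0.points10c

theorem points11 : AllBelow (pointOk cert 8479 table) 1408 := AllBelow.step points10 128 CosetCertSuzMC46P0.points11c

theorem points12 : AllBelow (pointOk cert 8479 table) 1536 := AllBelow.step points11 128 CosetCertSuzMC46P0.points12c

theorem points13 : AllBelow (pointOk cert 8479 table) 1664 := AllBelow.step points12 128 CosetCertSuzMC46P0.points13c

theorem points14 : AllBelow (pointOk cert 8479 table) 1792 := AllBelow.step points13 128 CosetCertSuzMC46P0.points14c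

theorem points15 : AllBelow (pointOk cert 8479 table) 1920 := AllBelow.step points14 128 CosetCertSuzMC46P0.points15c

theorem points16 : AllBelow (pointOk cert 8479 table) 2048 := AllBelow.step points15 128 CosetCertSuzMC46P0.points16c

theorem points17 : AllBelow (pointOk cert 8479 table) 2080 := AllBelow.step points16 32 CosetCertSuzMC46P0.points17c

/-- The table is closed. -/
theorem closed : Closed cert 8479 table where
  npos := by decide +kernel
  node0 := by decide +kernel
  points := points17
  facts := fun g base h => valid34 g base h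

end Cfsg.Agent.CosetCertSuzMC46
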