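import Cfsg.Agent.Lib.CosetCertSuzMD46Data

/-! Cosets of abcdf in abcdef with one relator central. -/

set_option autoImplicit false
set_option maxRecDepth 100000
set_option Elab.async false

namespace Cfsg.Agent.CosetCertSuzMD46P0

open Cfsg.Agent.CosetCertCore Cfsg.Agent.CosetCertTable Cfsg.Agent.CosetCertOrder
open Cfsg.Agent.CosetCertSuzMD46Data

theorem points1c : allFrom (pointOk cert 18292 table) 128 0 = true := by decide +kernel

theorem points2c : allFrom (pointOk cert 18292 table) 128 128 = true := by decide +kernel

theorem points3c : allFrom (pointOk cert 18292 table) 128 256 = true := by decide +kernel

theorem points4c : allFrom (pointOk cert 18292 table) 128 384 = true := by decide +kernel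

theorem points5c : allFrom (pointOk cert 18292 table) 128 512 = true := by decide +kernel

theorem points6c : allFrom (pointOk cert 18292 table) 128 640 = true := by decide +kernel

theorem points7c : allFrom (pointOk cert 18292 table) 128 768 = true := by decide +kernel

theorem points8c : allFrom (pointOk cert 18292 table) 128 896 = true := by decide +kernel

theorem points9c : allFrom (pointOk cert 18292 table) 128 1024 = true := by decide +kernel

theorem points10c : allFrom (pointOk cert 18292 table) 128 1152 = true := by decide +kernel

theorem points11c : allFrom (pointOk cert 18292 table) 128 1280 = true := by decide +kernel

theorem points12c : allFrom (pointOk cert 18292 table) 128 1408 = true := by decide +kernel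

theorem points13c : allFrom (pointOk cert 18292 table) 128 1536 = true := by decide +kernel

theorem points14c : allFrom (pointOk cert 18292 table) 128 1664 = true := by decide +kernel

theorem points15c : allFrom (pointOk cert 18292 table) 128 1792 = true := by decide +kernel

theorem points16c : allFrom (pointOk cert 18292 table) 128 1920 = true := by decide +kernel

theorem points17c : allFrom (pointOk cert 18292 table) 128 2048 = true := by decide +kernel

theorem points18c : allFrom (pointOk cert 18292 table) 128 2176 = true := by decide +kernel

theorem points19c : allFrom (pointOk cert 18292 table) 128 2304 = true := by decide +kernel

theorem points20c : allFrom (pointOk cert 18292 table) 128 2432 = true := by decide +kernel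

theorem points21c : allFrom (pointOk cert 18292 table) 128 2560 = true := by decide +kernel

theorem points22c : allFrom (pointOk cert 18292 table) 128 2688 = true := by decide +kernel

theorem points23c : allFrom (pointOk cert 18292 table) 128 2816 = true := by decide +kernel

theorem points24c : allFrom (pointOk cert 18292 table) 128 2944 = true := by decide +kernel

theorem points25c : allFrom (pointOk cert 18292 table) 128 3072 = true := by decide +kernel

theorem points26c : allFrom (pointOk cert 18292 table) 128 3200 = true := by decide +kernel

theorem points27c : allFrom (pointOk cert 18292 table) 128 3328 = true := by decide +kernel

theorem points28c : allFrom (pointOk cert 18292 table) 128 3456 = true := by decide +kernel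

theorem points29c : allFrom (pointOk cert 18292 table) 128 3584 = true := by decide +kernel

theorem points30c : allFrom (pointOk cert 18292 table) 128 3712 = true := by decide +kernel

theorem points31c : allFrom (pointOk cert 18292 table) 128 3840 = true := by decide +kernel

theorem points32c : allFrom (pointOk cert 18292 table) 128 3968 = true := by decide +kernel

theorem points33c : allFrom (pointOk cert 18292 table) 64 4096 = true := by decide +kernel

end Cfsg.Agent.CosetCertSuzMD46P0
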