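import Cfsg.Agent.Lib.CosetCertSuzMD46C0
import Cfsg.Agent.Lib.CosetCertSuzMD46P0

/-! Cosets of abcdf in abcdef with one relator central. -/

set_option autoImplicit false
set_option maxRecDepth 100000

namespace Cfsg.Agent.CosetCertSuzMD46

open Cfsg.Agent.CosetCertCore Cfsg.Agent.CosetCertTable Cfsg.Agent.CosetCertOrder Cfsg.Agent.CosetCertSuzMD46Data

/-- The facts hold up to `n`. -/
def Valid (n : Nat) : Prop :=
  ∀ {G X : Type} [Group G] [MulAction G X] (g : Nat → G) (base : X),
    Ctx g base cert → AllValid g (nodeVal g base cert) cert n

theorem Valid.step {lo n : Nat} (h : Valid lo) (L : List Nat)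
    (hn : (Nat.beq (lo + L.length) n && checkList cert L lo) = true) : Valid n := by
  rw [Bool.and_eq_true, Nat.beq_eq] at hn
  intro G X _ _ g base hC
  exact hn.1 ▸ checkList_sound g base hC L lo (h g base hC) hn.2

theorem valid0 : Valid 0 := fun _ _ _ _ h => absurd h (Nat.not_lt_zero _)

theorem valid1 : Valid 256 := valid0.step CosetCertSuzMD46C0.just0 CosetCertSuzMD46C0.check0

theorem valid2 : Valid 512 := valid1.step CosetCertSuzMD46C0.just1 CosetCertSuzMD46C0.check1

theorem valid3 : Valid 768 := valid2.step CosetCertSuzMD46C0.just2 CosetCertSuzMD46C0.check2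

theorem valid4 : Valid 1024 := valid3.step CosetCertSuzMD46C0.just3 CosetCertSuzMD46C0.check3

theorem valid5 : Valid 1280 := valid4.step CosetCertSuzMD46C0.just4 CosetCertSuzMD46C0.check4

theorem valid6 : Valid 1536 := valid5.step CosetCertSuzMD46C0.just5 CosetCertSuzMD46C0.check5

theorem valid7 : Valid 1792 := valid6.step CosetCertSuzMD46C0.just6 CosetCertSuzMD46C0.check6

theorem valid8 : Valid 2048 := valid7.step CosetCertSuzMD46C0.just7 CosetCertSuzMD46C0.check7

theorem valid9 : Valid 2304 := valid8.step CosetCertSuzMD46C0.just8 CosetCertSuzMD46C0.check8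

theorem valid10 : Valid 2560 := valid9.step CosetCertSuzMD46C0.just9 CosetCertSuzMD46C0.check9

theorem valid11 : Valid 2816 := valid10.step CosetCertSuzMD46C0.just10 CosetCertSuzMD46C0.check10

theorem valid12 : Valid 3072 := valid11.step CosetCertSuzMD46C0.just11 CosetCertSuzMD46C0.check11

theorem valid13 : Valid 3328 := valid12.step CosetCertSuzMD46C0.just12 CosetCertSuzMD46C0.check12

theorem valid14 : Valid 3584 := valid13.step CosetCertSuzMD46C0.just13 CosetCertSuzMD46C0.check13

theorem valid15 : Valid 3840 := valid14.step CosetCertSuzMD46C0.just14 CosetCertSuzMD46C0.check14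

theorem valid16 : Valid 4096 := valid15.step CosetCertSuzMD46C0.just15 CosetCertSuzMD46C0.check15

theorem valid17 : Valid 4352 := valid16.step CosetCertSuzMD46C0.just16 CosetCertSuzMD46C0.check16

theorem valid18 : Valid 4608 := valid17.step CosetCertSuzMD46C0.just17 CosetCertSuzMD46C0.check17

theorem valid19 : Valid 4864 := valid18.step CosetCertSuzMD46C0.just18 CosetCertSuzMD46C0.check18

theorem valid20 : Valid 5120 := valid19.step CosetCertSuzMD46C0.just19 CosetCertSuzMD46C0.check19

theorem valid21 : Valid 5376 := valid20.step CosetCertSuzMD46C0.just20 CosetCertSuzMD46C0.check20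

theorem valid22 : Valid 5632 := valid21.step CosetCertSuzMD46C0.just21 CosetCertSuzMD46C0.check21

theorem valid23 : Valid 5888 := valid22.step CosetCertSuzMD46C0.just22 CosetCertSuzMD46C0.check22

theorem valid24 : Valid 6144 := valid23.step CosetCertSuzMD46C0.just23 CosetCertSuzMD46C0.check23

theorem valid25 : Valid 6400 := valid24.step CosetCertSuzMD46C0.just24 CosetCertSuzMD46C0.check24

theorem valid26 : Valid 6656 := valid25.step CosetCertSuzMD46C0.just25 CosetCertSuzMD46C0.check25

theorem valid27 : Valid 6912 := valid26.step CosetCertSuzMD46C0.just26 CosetCertSuzMD46C0.check26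

theorem valid28 : Valid 7168 := valid27.step CosetCertSuzMD46C0.just27 CosetCertSuzMD46C0.check27

theorem valid29 : Valid 7424 := valid28.step CosetCertSuzMD46C0.just28 CosetCertSuzMD46C0.check28

theorem valid30 : Valid 7680 := valid29.step CosetCertSuzMD46C0.just29 CosetCertSuzMD46C0.check29

theorem valid31 : Valid 7936 := valid30.step CosetCertSuzMD46C0.just30 CosetCertSuzMD46C0.check30

theorem valid32 : Valid 8192 := valid31.step CosetCertSuzMD46C0.just31 CosetCertSuzMD46C0.check31

theorem valid33 : Valid 8448 := valid32.step CosetCertSuzMD46C0.just32 CosetCertSuzMD46C0.check32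

theorem valid34 : Valid 8704 := valid33.step CosetCertSuzMD46C0.just33 CosetCertSuzMD46C0.check33

theorem valid35 : Valid 8960 := valid34.step CosetCertSuzMD46C0.just34 CosetCertSuzMD46C0.check34

theorem valid36 : Valid 9216 := valid35.step CosetCertSuzMD46C0.just35 CosetCertSuzMD46C0.check35

theorem valid37 : Valid 9472 := valid36.step CosetCertSuzMD46C0.just36 CosetCertSuzMD46C0.check36

theorem valid38 : Valid 9728 := valid37.step CosetCertSuzMD46C0.just37 CosetCertSuzMD46C0.check37

theorem valid39 : Valid 9984 := valid38.step CosetCertSuzMD46C0.just38 CosetCertSuzMD46C0.check38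

theorem valid40 : Valid 10240 := valid39.step CosetCertSuzMD46C0.just39 CosetCertSuzMD46C0.check39

theorem valid41 : Valid 10496 := valid40.step CosetCertSuzMD46C0.just40 CosetCertSuzMD46C0.check40

theorem valid42 : Valid 10752 := valid41.step CosetCertSuzMD46C0.just41 CosetCertSuzMD46C0.check41

theorem valid43 : Valid 11008 := valid42.step CosetCertSuzMD46C0.just42 CosetCertSuzMD46C0.check42

theorem valid44 : Valid 11264 := valid43.step CosetCertSuzMD46C0.just43 CosetCertSuzMD46C0.check43

theorem valid45 : Valid 11520 := valid44.step CosetCertSuzMD46C0.just44 CosetCertSuzMD46C0.check44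

theorem valid46 : Valid 11776 := valid45.step CosetCertSuzMD46C0.just45 CosetCertSuzMD46C0.check45

theorem valid47 : Valid 12032 := valid46.step CosetCertSuzMD46C0.just46 CosetCertSuzMD46C0.check46

theorem valid48 : Valid 12288 := valid47.step CosetCertSuzMD46C0.just47 CosetCertSuzMD46C0.check47

theorem valid49 : Valid 12544 := valid48.step CosetCertSuzMD46C0.just48 CosetCertSuzMD46C0.check48

theorem valid50 : Valid 12800 := valid49.step CosetCertSuzMD46C0.just49 CosetCertSuzMD46C0.check49

theorem valid51 : Valid 13056 := valid50.step CosetCertSuzMD46C0.just50 CosetCertSuzMD46C0.check50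

theorem valid52 : Valid 13312 := valid51.step CosetCertSuzMD46C0.just51 CosetCertSuzMD46C0.check51

theorem valid53 : Valid 13568 := valid52.step CosetCertSuzMD46C0.just52 CosetCertSuzMD46C0.check52

theorem valid54 : Valid 13824 := valid53.step CosetCertSuzMD46C0.just53 CosetCertSuzMD46C0.check53

theorem valid55 : Valid 14080 := valid54.step CosetCertSuzMD46C0.just54 CosetCertSuzMD46C0.check54

theorem valid56 : Valid 14336 := valid55.step CosetCertSuzMD46C0.just55 CosetCertSuzMD46C0.check55

theorem valid57 : Valid 14592 := valid56.step CosetCertSuzMD46C0.just56 CosetCertSuzMD46C0.check56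

theorem valid58 : Valid 14848 := valid57.step CosetCertSuzMD46C0.just57 CosetCertSuzMD46C0.check57

theorem valid59 : Valid 15104 := valid58.step CosetCertSuzMD46C0.just58 CosetCertSuzMD46C0.check58

theorem valid60 : Valid 15360 := valid59.step CosetCertSuzMD46C0.just59 CosetCertSuzMD46C0.check59

theorem valid61 : Valid 15616 := valid60.step CosetCertSuzMD46C0.just60 CosetCertSuzMD46C0.check60

theorem valid62 : Valid 15872 := valid61.step CosetCertSuzMD46C0.just61 CosetCertSuzMD46C0.check61

theorem valid63 : Valid 16128 := valid62.step CosetCertSuzMD46C0.just62 CosetCertSuzMD46C0.check62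

theorem valid64 : Valid 16384 := valid63.step CosetCertSuzMD46C0.just63 CosetCertSuzMD46C0.check63

theorem valid65 : Valid 16640 := valid64.step CosetCertSuzMD46C0.just64 CosetCertSuzMD46C0.check64

theorem valid66 : Valid 16896 := valid65.step CosetCertSuzMD46C0.just65 CosetCertSuzMD46C0.check65

theorem valid67 : Valid 17152 := valid66.step CosetCertSuzMD46C0.just66 CosetCertSuzMD46C0.check66

theorem valid68 : Valid 17408 := valid67.step CosetCertSuzMD46C0.just67 CosetCertSuzMD46C0.check67

theorem valid69 : Valid 17664 := valid68.step CosetCertSuzMD46C0.just68 CosetCertSuzMD46C0.check68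

theorem valid70 : Valid 17920 := valid69.step CosetCertSuzMD46C0.just69 CosetCertSuzMD46C0.check69

theorem valid71 : Valid 18176 := valid70.step CosetCertSuzMD46C0.just70 CosetCertSuzMD46C0.check70

theorem valid72 : Valid 18292 := valid71.step CosetCertSuzMD46C0.just71 CosetCertSuzMD46C0.check71

theorem points0 : AllBelow (pointOk cert 18292 table) 0 := AllBelow.zero _

theorem points1 : AllBelow (pointOk cert 18292 table) 128 := AllBelow.step points0 128 CosetCertSuzMD46P0.points1c

theorem points2 : AllBelow (pointOk cert 18292 table) 256 := AllBelow.step points1 128 CosetCertSuzMD46P0.points2c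

theorem points3 : AllBelow (pointOk cert 18292 table) 384 := AllBelow.step points2 128 CosetCertSuzMD46P0.points3c

theorem points4 : AllBelow (pointOk cert 18292 table) 512 := AllBelow.step points3 128 CosetCertSuzMD46P0.points4c

theorem points5 : AllBelow (pointOk cert 18292 table) 640 := AllBelow.step points4 128 CosetCertSuzMD46P0.points5c

theorem points6 : AllBelow (pointOk cert 18292 table) 768 := AllBelow.step points5 128 CosetCertSuzMD46P0.points6c

theorem points7 : AllBelow (pointOk cert 18292 table) 896 := AllBelow.step points6 128 CosetCertSuzMD46P0.points7c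

theorem points8 : AllBelow (pointOk cert 18292 table) 1024 := AllBelow.step points7 128 CosetCertSuzMD46P0.points8c

theorem points9 : AllBelow (pointOk cert 18292 table) 1152 := AllBelow.step points8 128 CosetCertSuzMD46P0.points9c

theorem points10 : AllBelow (pointOk cert 18292 table) 1280 := AllBelow.step points9 128 CosetCertSuzMD46P0.points10c

theorem points11 : AllBelow (pointOk cert 18292 table) 1408 := AllBelow.step points10 128 CosetCertSuzMD46P0.points11c

theorem points12 : AllBelow (pointOk cert 18292 table) 1536 := AllBelow.step points11 128 CosetCertSuzMD46P0.points12c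

theorem points13 : AllBelow (pointOk cert 18292 table) 1664 := AllBelow.step points12 128 CosetCertSuzMD46P0.points13c

theorem points14 : AllBelow (pointOk cert 18292 table) 1792 := AllBelow.step points13 128 CosetCertSuzMD46P0.points14c

theorem points15 : AllBelow (pointOk cert 18292 table) 1920 := AllBelow.step points14 128 CosetCertSuzMD46P0.points15c

theorem points16 : AllBelow (pointOk cert 18292 table) 2048 := AllBelow.step points15 128 CosetCertSuzMD46P0.points16c

theorem points17 : AllBelow (pointOk cert 18292 table) 2176 := AllBelow.step points16 128 CosetCertSuzMD46P0.points17c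

theorem points18 : AllBelow (pointOk cert 18292 table) 2304 := AllBelow.step points17 128 CosetCertSuzMD46P0.points18c

theorem points19 : AllBelow (pointOk cert 18292 table) 2432 := AllBelow.step points18 128 CosetCertSuzMD46P0.points19c

theorem points20 : AllBelow (pointOk cert 18292 table) 2560 := AllBelow.step points19 128 CosetCertSuzMD46P0.points20c

theorem points21 : AllBelow (pointOk cert 18292 table) 2688 := AllBelow.step points20 128 CosetCertSuzMD46P0.points21c

theorem points22 : AllBelow (pointOk cert 18292 table) 2816 := AllBelow.step points21 128 CosetCertSuzMD46P0.points22c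

theorem points23 : AllBelow (pointOk cert 18292 table) 2944 := AllBelow.step points22 128 CosetCertSuzMD46P0.points23c

theorem points24 : AllBelow (pointOk cert 18292 table) 3072 := AllBelow.step points23 128 CosetCertSuzMD46P0.points24c

theorem points25 : AllBelow (pointOk cert 18292 table) 3200 := AllBelow.step points24 128 CosetCertSuzMD46P0.points25c

theorem points26 : AllBelow (pointOk cert 18292 table) 3328 := AllBelow.step points25 128 CosetCertSuzMD46P0.points26c

theorem points27 : AllBelow (pointOk cert 18292 table) 3456 := AllBelow.step points26 128 CosetCertSuzMD46P0.points27c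

theorem points28 : AllBelow (pointOk cert 18292 table) 3584 := AllBelow.step points27 128 CosetCertSuzMD46P0.points28c

theorem points29 : AllBelow (pointOk cert 18292 table) 3712 := AllBelow.step points28 128 CosetCertSuzMD46P0.points29c

theorem points30 : AllBelow (pointOk cert 18292 table) 3840 := AllBelow.step points29 128 CosetCertSuzMD46P0.points30c

theorem points31 : AllBelow (pointOk cert 18292 table) 3968 := AllBelow.step points30 128 CosetCertSuzMD46P0.points31c

theorem points32 : AllBelow (pointOk cert 18292 table) 4096 := AllBelow.step points31 128 CosetCertSuzMD46P0.points32c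

theorem points33 : AllBelow (pointOk cert 18292 table) 4160 := AllBelow.step points32 64 CosetCertSuzMD46P0.points33c

/-- The table is closed. -/
theorem closed : Closed cert 18292 table where
  npos := by decide +kernel
  node0 := by decide +kernel
  points := points33
  facts := fun g base h => valid72 g base h

end Cfsg.Agent.CosetCertSuzMD46
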