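import Cfsg.Agent.Lib.CosetCertSuzSimple
import Cfsg.Agent.Lib.CosetCertGraph41
import Cfsg.Agent.Lib.CosetCertSuzOutData41
import Cfsg.Agent.Lib.GolayOutGen

/-!
Automorphisms of the presented group Suz: normalised on an element of order 13, its normaliser
and the centraliser of an element of order 6, leaving two possibilities, both realised.
-/

set_option autoImplicit false
set_option maxRecDepth 100000
set_option Elab.async false

namespace Cfsg.Agent.CosetCertSuzOut41

open Cfsg.Agent.CosetCertCore Cfsg.Agent.CosetCertTable Cfsg.Agent.CosetCertPres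
open Cfsg.Agent.CosetCertOrder Cfsg.Agent.CosetCertRestrict Cfsg.Agent.CosetCertGraph41
open Cfsg.Agent.CosetCertSuzOutData41

/-- The presentation. -/
abbrev PP : Pres := CosetCertSuzGData.pres
/-- The table of the 1782 points. -/
noncomputable abbrev TT7 : Table := CosetCertSuzGData.table
/-- The strong generators. -/
noncomputable abbrev EE : Elts := CosetCertSuzSgsData.elts
/-- Labels of the suborbits. -/
noncomputable abbrev OO : Tbl := CosetCertSuzGData.orbTbl
/-- The tree of the points. -/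
noncomputable abbrev O0 : Tbl := CosetCertSuzSgsData.stage0
/-- The base. -/
abbrev BB : List Nat := [0, 1, 2, 3, 4, 8, 14]
/-- Word of a symbol. -/
def sym (S : List (List Nat)) (M : List Nat) : List Nat := M.flatMap fun k => S.getD k []
/-- Candidates in the centraliser of the element of order 6. -/
def cw (k : Nat) : List Nat := L12.getD (k % 12) [] ++ L6.getD (k / 12) []

local notation "hh" => CosetCertSuzG.enumerated

theorem chain4 (m : Nat) (hm : m ≤ Nat.card (fixing (rho hh).range [3, 2, 1, 0])) :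
    1782 * (1365 * (1024 * (3 * m))) ≤ 448345497600 := by
  have h3 := le_of_eq_of_le rfl (stage_le hh (E := EE) CosetCertSuzSgs.words_ok CosetCertSuzSgs.elts_ok
    (b := 3) (n := 3) (by decide +kernel) CosetCertSuzSgs.fix3 CosetCertSuzSgs.stage3_ok CosetCertSuzSgs.stage3_count hm)
  have h2 := le_of_eq_of_le rfl (stage_le hh (E := EE) CosetCertSuzSgs.words_ok CosetCertSuzSgs.elts_ok
    (b := 2) (n := 1024) (by decide +kernel) CosetCertSuzSgs.fix2 CosetCertSuzSgs.stage2_ok CosetCertSuzSgs.stage2_count h3)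
  have h1 := le_of_eq_of_le rfl (stage_le hh (E := EE) CosetCertSuzSgs.words_ok CosetCertSuzSgs.elts_ok
    (b := 1) (n := 1365) (by decide +kernel) CosetCertSuzSgs.fix1 CosetCertSuzSgs.stage1_ok CosetCertSuzSgs.stage1_count h2)
  have h0 := le_of_eq_of_le rfl (stage_le hh (E := EE) CosetCertSuzSgs.words_ok CosetCertSuzSgs.elts_ok
    (b := 0) (n := 1782) (by decide +kernel) CosetCertSuzSgs.fix0 CosetCertSuzSgs.stage0_ok CosetCertSuzSgs.stage0_count h1)
  obtain ⟨hc, hi⟩ := CosetCertSuzSimple.card_and_faithful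
  refine h0.trans (le_of_eq ?_)
  show Nat.card (rho hh).range = _
  rw [← hc]
  exact (Nat.card_congr (MonoidHom.ofInjective hi).toEquiv).symm

theorem fix4_le : Nat.card (fixing (rho hh).range [3, 2, 1, 0]) ≤ 60 := by
  have := chain4 _ le_rfl
  omega

theorem fix7_le : Nat.card (fixing (rho hh).range [14, 8, 4, 3, 2, 1, 0]) ≤ 1 := by
  have h6 := le_of_eq_of_le rfl (stage_le hh (E := EE) CosetCertSuzSgs.words_ok CosetCertSuzSgs.elts_ok
    (b := 14) (n := 3) (by decide +kernel) CosetCertSuzSgs.fix6 CosetCertSuzSgs.stage6_ok CosetCertSuzSgs.stage6_count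
    (le_refl (Nat.card (fixing (rho hh).range [14, 8, 4, 3, 2, 1, 0]))))
  have h5 := le_of_eq_of_le rfl (stage_le hh (E := EE) CosetCertSuzSgs.words_ok CosetCertSuzSgs.elts_ok
    (b := 8) (n := 4) (by decide +kernel) CosetCertSuzSgs.fix5 CosetCertSuzSgs.stage5_ok CosetCertSuzSgs.stage5_count h6)
  have h4 := le_of_eq_of_le rfl (stage_le hh (E := EE) CosetCertSuzSgs.words_ok CosetCertSuzSgs.elts_ok
    (b := 4) (n := 5) (by decide +kernel) CosetCertSuzSgs.fix4 CosetCertSuzSgs.stage4_ok CosetCertSuzSgs.stage4_count h5)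
  have := chain4 _ h4
  omega

theorem exists_based : ∃ el : Nat → PP.Grp, Based hh EE el BB := by
  obtain ⟨hc, hi⟩ := CosetCertSuzSimple.card_and_faithful
  obtain ⟨el, h1, h2⟩ := exists_el hh CosetCertSuzSgs.words_ok CosetCertSuzSgs.elts_ok hi
  refine ⟨el, h1, h2, fun g hg => ?_⟩
  have hmem : rho hh g ∈ fixing (rho hh).range [14, 8, 4, 3, 2, 1, 0] :=
    mem_fixing.mpr ⟨⟨g, rfl⟩, fun a ha haN => hg ⟨a, haN⟩ (by
      simp only [List.mem_cons, List.not_mem_nil, or_false] at ha
      show a ∈ BB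
      simp only [BB, List.mem_cons, List.not_mem_nil, or_false]
      tauto)⟩
  have hsub : Subsingleton (fixing (rho hh).range [14, 8, 4, 3, 2, 1, 0]) :=
    Finite.card_le_one_iff_subsingleton.mp fix7_le
  apply hi
  rw [map_one]
  exact congrArg Subtype.val (hsub.elim ⟨_, hmem⟩ 1)

theorem orbits_ok : AllBelow (orbOk OO CosetCertSuzGData.roots CosetCertSuzGData.cert.sgens TT7) TT7.N :=
  CosetCertSuzG.orbits

theorem paths_ok : pathsOk O0 TT7 = true := by decide +kernel

theorem letters_ok : letOk EE TT7 XW = true ∧ letOk EE TT7 SW = true ∧ letOk EE TT7 WB = true ∧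
    (PX.all (letOk EE TT7) = true) ∧ (PS.all (letOk EE TT7) = true) ∧
    (∀ k < 72, letOk EE TT7 (cw k) = true) ∧ L6.all (letOk EE TT7) = true ∧
    L12.all (letOk EE TT7) = true ∧ L60.all (letOk EE TT7) = true := by
  decide +kernel

theorem powers_x : ∀ i < 13, agree EE TT7 BB (PX.getD i []) (List.replicate i XW).flatten = true ∧
    letOk EE TT7 (List.replicate i XW).flatten = true := by
  decide +kernel

theorem powers_s : ∀ i < 6, agree EE TT7 BB (PS.getD i []) (List.replicate i SW).flatten = true ∧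
    letOk EE TT7 (List.replicate i SW).flatten = true := by
  decide +kernel

theorem x13 : agree EE TT7 BB (List.replicate 13 XW).flatten [] = true ∧
    letOk EE TT7 (List.replicate 13 XW).flatten = true ∧ EE.run TT7 XW 1 ≠ 1 := by
  decide +kernel

theorem s_conj : agree EE TT7 BB (SW ++ PX.getD 10 []) (XW ++ SW) = true := by decide +kernel

theorem scan_x0 : scanOk OO O0 EE TT7 PX [] 0 [0] = true := by decide +kernel

theorem scan_x1 : scanOk OO O0 EE TT7 PX (expand EE TT7 PX [(0, 0)]) 1284 THIRTEEN = true := by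
  decide +kernel

theorem steps_x : stepsOk OO O0 EE TT7 PX [(1284, 1284), (0, 0)] FX = true := by decide +kernel

theorem cover_x : (∀ p ∈ THIRTEEN, ∃ i < 13, EE.run TT7 (PX.getD i []) 1284 = p) ∧
    (∀ i < 13, EE.run TT7 (PX.getD i []) 0 = 0) ∧ (∀ t ∈ FX, t.1 = t.2) ∧
    (∀ b ∈ BB, ∃ t ∈ FX, t.1 = b) := by
  decide +kernel

theorem scan_s0 : scanOk OO O0 EE TT7 PS [] 1342 SIX = true := by decide +kernel

theorem scan_s1 : scanOk OO O0 EE TT7 PS (expand EE TT7 PS [(1342, 1342)]) 57 TWELVE = true := by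
  decide +kernel

theorem scan_s2 : scanOk OO O0 EE TT7 PS (expand EE TT7 PS [(57, 57), (1342, 1342)]) 1630 [1630, 469] = true := by
  decide +kernel

theorem steps_s : stepsOk OO O0 EE TT7 PS [(1630, 1630), (57, 57), (1342, 1342)] FS = true ∧
    stepsOk OO O0 EE TT7 PS [(1630, 469), (57, 57), (1342, 1342)] FB = true := by
  decide +kernel

theorem cover_s : (∀ p ∈ SIX, ∃ a < 6, EE.run TT7 (L6.getD a []) 1342 = p) ∧
    (∀ p ∈ TWELVE, ∃ b < 12, EE.run TT7 (L12.getD b []) 57 = p ∧ EE.run TT7 (L12.getD b []) 1342 = 1342) ∧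
    (∀ a < 6, agree EE TT7 BB (SW ++ L6.getD a []) (L6.getD a [] ++ SW) = true) ∧
    (∀ b < 12, agree EE TT7 BB (SW ++ L12.getD b []) (L12.getD b [] ++ SW) = true) ∧
    (∀ t ∈ FS, t.1 = t.2) ∧ (∀ b ∈ BB, ∃ t ∈ FS, t.1 = b) := by
  decide +kernel

theorem bad_sift : (∀ b ∈ [0, 1, 2, 3], ∃ t ∈ FB, t.1 = b ∧ EE.run TT7 WB t.2 = b) ∧
    ∃ t ∈ FB, t.1 = 4 ∧ EE.run TT7 WB t.2 = 24 := by
  decide +kernel

theorem stab60 : L60.length = 60 ∧ (∀ w ∈ L60, ∀ b ∈ [0, 1, 2, 3], EE.run TT7 w b = b) ∧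
    (∀ w ∈ L60, EE.run TT7 w 4 ≠ 24) ∧
    ∀ i < 60, ∀ j < 60, [4, 8, 14].map (EE.run TT7 (L60.getD i [])) =
      [4, 8, 14].map (EE.run TT7 (L60.getD j [])) → i = j := by
  decide +kernel

theorem test_ok : ∀ t ∈ TW, (∀ k ∈ t.1, k < 3) ∧
    letOk EE TT7 (List.replicate t.2 (sym [XW, SW, cw CPOS.1] t.1)).flatten = true ∧
    agree EE TT7 BB (List.replicate t.2 (sym [XW, SW, cw CPOS.1] t.1)).flatten [] = true := by
  decide +kernel

theorem excluded : ∀ j ∈ [1, 2], ∀ k < 72,
    ((j = 1 ∧ k = CPOS.1) ∨ (j = 2 ∧ k = CPOS.2)) ∨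
    ((TT.getD (j - 1) []).getD k 0 < TW.length ∧
      letOk EE TT7 (List.replicate (TW.getD ((TT.getD (j - 1) []).getD k 0) ([], 0)).2
          (sym [PX.getD j [], SW, cw k] (TW.getD ((TT.getD (j - 1) []).getD k 0) ([], 0)).1)).flatten = true ∧
      agree EE TT7 BB (List.replicate (TW.getD ((TT.getD (j - 1) []).getD k 0) ([], 0)).2
          (sym [PX.getD j [], SW, cw k] (TW.getD ((TT.getD (j - 1) []).getD k 0) ([], 0)).1)).flatten [] = false) := by
  decide +kernel

theorem reduce_j : ∀ j < 13, 0 < j → ∃ m < 6, j * 10 ^ m % 13 ∈ [1, 2] := by decide +kernel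

theorem shift_s : ∀ i < 13, ∃ m < 13,
    letOk EE TT7 (PX.getD ((13 - m) % 13) [] ++ PX.getD i [] ++ SW ++ PX.getD m []) = true ∧
    agree EE TT7 BB (PX.getD ((13 - m) % 13) [] ++ PX.getD i [] ++ SW ++ PX.getD m []) SW = true := by
  decide +kernel

/-- Checking one node of the program. -/
noncomputable def nodeOk (n : Nat) : Bool :=
  letOk EE TT7 (SLP.getD n ([], 3, [])).1 &&
  match (SLP.getD n ([], 3, [])).2 with
  | (0, [k]) => Nat.blt k 3 && agree EE TT7 BB (SLP.getD n ([], 3, [])).1 ([XW, SW, cw CPOS.1].getD k [])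
  | (1, [a, b]) => Nat.blt a n && Nat.blt b n &&
      agree EE TT7 BB (SLP.getD n ([], 3, [])).1 ((SLP.getD a ([], 3, [])).1 ++ (SLP.getD b ([], 3, [])).1)
  | (2, [a]) => Nat.blt a n && agree EE TT7 BB ((SLP.getD n ([], 3, [])).1 ++ (SLP.getD a ([], 3, [])).1) []
  | _ => false

theorem slp_ok : allFrom nodeOk SLP.length 0 = true := by decide +kernel

theorem outs_ok : ∀ i < 7, OUTS.getD i 0 < SLP.length ∧
    agree EE TT7 BB (SLP.getD (OUTS.getD i 0) ([], 3, [])).1 [i] = true := by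
  decide +kernel

/-- Substitute images of elements. -/
def subIm (W : List Nat) : List Nat := W.flatMap fun k => IMW.getD k []

theorem images_rel : ∀ w ∈ PP.relWords, (∀ x ∈ w, x < 7) ∧
    letOk EE TT7 (subIm w.reverse) = true ∧ agree EE TT7 BB (subIm w.reverse) [] = true := by
  decide +kernel

theorem images_step : ∀ d < EE.words.length, letOk EE TT7 (IMW.getD (7 + d) []) = true ∧
    letOk EE TT7 (subIm (EE.words.getD d (true, [])).2) = true ∧
    (∀ k ∈ (EE.words.getD d (true, [])).2, k < 7 + d) ∧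
    letOk EE TT7 (EE.words.getD d (true, [])).2 = true ∧
    ((EE.words.getD d (true, [])).1 = true →
      agree EE TT7 BB [7 + d] (EE.words.getD d (true, [])).2 = true ∧
      agree EE TT7 BB (IMW.getD (7 + d) []) (subIm (EE.words.getD d (true, [])).2) = true) ∧
    ((EE.words.getD d (true, [])).1 = false →
      agree EE TT7 BB ([7 + d] ++ (EE.words.getD d (true, [])).2) [] = true ∧
      agree EE TT7 BB (IMW.getD (7 + d) [] ++ subIm (EE.words.getD d (true, [])).2) [] = true) := by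
  decide +kernel

theorem images_gens : (∀ i < 7, letOk EE TT7 (IMW.getD i []) = true) ∧
    letOk EE TT7 (subIm XW) = true ∧ letOk EE TT7 (subIm SW) = true ∧ letOk EE TT7 (subIm (cw CPOS.1)) = true ∧
    agree EE TT7 BB (subIm XW) (PX.getD 2 []) = true ∧ agree EE TT7 BB (subIm SW) SW = true ∧
    agree EE TT7 BB (subIm (cw CPOS.1)) (cw CPOS.2) = true ∧
    (∀ x ∈ XW ++ SW ++ cw CPOS.1, x < 7 + EE.words.length) := by
  decide +kernel

theorem not_inner : ∀ k < 72, letOk EE TT7 (XW ++ cw k) = true ∧ letOk EE TT7 (cw k ++ PX.getD 2 []) = true ∧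
    agree EE TT7 BB (XW ++ cw k) (cw k ++ PX.getD 2 []) = false := by
  decide +kernel

theorem let_app {U V : List Nat} (hU : letOk EE TT7 U = true) (hV : letOk EE TT7 V = true) :
    letOk EE TT7 (U ++ V) = true := by
  unfold letOk at hU hV ⊢
  rw [List.all_append, hU, hV]
  rfl

/-- The three elements. -/
def S3 (el : Nat → PP.Grp) : Set PP.Grp := {elW el XW, elW el SW, elW el (cw CPOS.1)}

section

variable {el : Nat → PP.Grp} (hb : Based hh EE el BB)
include hb

local notation "xx" => elW el XW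
local notation "ss" => elW el SW

theorem agree_false {U : List Nat} (hU : letOk EE TT7 U = true) {V : List Nat} (hV : letOk EE TT7 V = true)
    (ha : agree EE TT7 BB U V = false) : elW el U ≠ elW el V := by
  intro he
  have : agree EE TT7 BB U V = true := by
    simp only [agree, List.all_eq_true, Nat.beq_eq]
    intro b hbm
    have hbN : b < TT7.N := (by decide +kernel : ∀ b ∈ BB, b < TT7.N) b hbm
    rw [← img_elW hb hU ⟨b, hbN⟩, ← img_elW hb hV ⟨b, hbN⟩, he]
  rw [this] at ha
  exact absurd ha (by simp)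

theorem letPX (i : Nat) : letOk EE TT7 (PX.getD i []) = true := by
  by_cases hi : i < PX.length
  · rw [List.getD_eq_getElem _ _ hi]
    exact List.all_eq_true.mp letters_ok.2.2.2.1 _ (List.getElem_mem hi)
  · rw [List.getD_eq_default _ _ (by omega)]; rfl

theorem px_eq (i : Nat) (hi : i < 13) : elW el (PX.getD i []) = xx ^ i := by
  rw [← elW_replicate]
  exact eq_of_agree hb (letPX hb i) (powers_x i hi).2 (powers_x i hi).1

theorem x_pow13 : xx ^ 13 = 1 := by
  rw [← elW_replicate]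
  exact eq_of_agree hb x13.2.1 rfl x13.1

theorem order_x : orderOf xx = 13 := by
  haveI : Fact (Nat.Prime 13) := ⟨by norm_num⟩
  exact orderOf_eq_prime (x_pow13 hb) (ne_of_moved hb letters_ok.1 (by decide +kernel) x13.2.2)

theorem x_pow_mod (n : Nat) : xx ^ n = xx ^ (n % 13) := by
  conv_lhs => rw [← Nat.div_add_mod n 13, pow_add, pow_mul, x_pow13 hb, one_pow, one_mul]

theorem s_x : ss * xx * ss⁻¹ = xx ^ 10 := by
  rw [← px_eq hb 10 (by norm_num), mul_inv_eq_iff_eq_mul, ← elW_append, ← elW_append]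
  exact (eq_of_agree hb (by decide +kernel) (by decide +kernel) s_conj).symm

theorem s_pow_x (m j : Nat) : ss ^ m * xx ^ j * (ss ^ m)⁻¹ = xx ^ (j * 10 ^ m) := by
  induction m generalizing j with
  | zero => simp
  | succ m ih =>
    calc ss ^ (m + 1) * xx ^ j * (ss ^ (m + 1))⁻¹
        = ss ^ m * (ss * xx ^ j * ss⁻¹) * (ss ^ m)⁻¹ := by rw [pow_succ]; group
      _ = ss ^ m * xx ^ (10 * j) * (ss ^ m)⁻¹ := by rw [← conj_pow, s_x hb, ← pow_mul]
      _ = xx ^ (j * 10 ^ (m + 1)) := by rw [ih, pow_succ]; congr 1; ring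

/-- The centraliser of the element of order 13. -/
theorem centralizer_x (g : PP.Grp) (hg : Commute g xx) : ∃ i < 13, g = xx ^ i := by
  have hPW : ∀ w ∈ PX, letOk EE TT7 w = true := List.all_eq_true.mp letters_ok.2.2.2.1
  have hcomm : ∀ g : PP.Grp, Commute g xx → ∀ w ∈ PX, Commute g (elW el w) := by
    intro g hg w hw
    obtain ⟨i, hi, rfl⟩ := List.mem_iff_getElem.mp hw
    have hi13 : i < 13 := Nat.lt_of_lt_of_eq hi (by decide +kernel)
    rw [← List.getD_eq_getElem _ [] hi, px_eq hb i hi13]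
    exact hg.pow_right i
  have h1284 : 1284 < TT7.N := by decide +kernel
  have h0 : 0 < TT7.N := by decide +kernel
  have k0 : ∀ g : PP.Grp, Commute g xx → ((rho hh g ⟨0, h0⟩ : Fin TT7.N) : Nat) = 0 := fun g hg =>
    List.mem_singleton.mp (scan_sound hb orbits_ok paths_ok hPW g (hcomm g hg) (by simp) ⟨0, h0⟩ _ scan_x0)
  have k1 := scan_sound hb orbits_ok paths_ok hPW g (hcomm g hg)
    (expand_known hb hPW g (hcomm g hg) (rts := [(0, 0)]) (fun t ht => by
      obtain rfl := List.mem_singleton.mp ht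
      exact ⟨⟨0, h0⟩, rfl, k0 g hg⟩)) ⟨1284, h1284⟩ _ scan_x1
  obtain ⟨i, hi, hip⟩ := cover_x.1 _ k1
  obtain ⟨g', hg'⟩ : ∃ g', g' = (xx ^ i)⁻¹ * g := ⟨_, rfl⟩
  have hg'c : Commute g' xx := hg' ▸ ((Commute.refl xx).pow_left i).inv_left.mul_left hg
  have hfix : ((rho hh g' ⟨1284, h1284⟩ : Fin TT7.N) : Nat) = 1284 := by
    rw [hg', map_mul, map_inv, Equiv.Perm.mul_apply]
    have : rho hh (xx ^ i) ⟨1284, h1284⟩ = rho hh g ⟨1284, h1284⟩ :=
      Fin.ext (by rw [← px_eq hb i hi, img_elW hb (letPX hb i)]; exact hip)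
    rw [← this, Equiv.Perm.coe_inv, Equiv.symm_apply_apply]
  have hst := steps_sound hb orbits_ok paths_ok hPW g' (hcomm g' hg'c) FX [(1284, 1284), (0, 0)]
    (fun t ht => by
      simp only [List.mem_cons, List.not_mem_nil, or_false] at ht
      rcases ht with rfl | rfl
      exacts [⟨⟨1284, h1284⟩, rfl, hfix⟩, ⟨⟨0, h0⟩, rfl, k0 g' hg'c⟩]) steps_x
  have hone : g' = 1 := hb.base g' fun b hbB => by
    obtain ⟨t, ht, htb⟩ := cover_x.2.2.2 _ hbB
    obtain ⟨a, ha, ha'⟩ := hst t ht
    have hab : a = b := Fin.ext (ha.symm.trans htb)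
    subst hab
    exact Fin.ext (ha'.trans ((cover_x.2.2.1 t ht).symm.trans ha))
  exact ⟨i, hi, (inv_mul_eq_one.mp (hg'.symm.trans hone)).symm⟩

/-- The impossible configuration. -/
theorem no_bad (g : PP.Grp)
    (hg : ∀ t ∈ FB, ∃ a : Fin TT7.N, t.1 = a ∧ ((rho hh g a : Fin TT7.N) : Nat) = t.2) : False := by
  classical
  obtain ⟨r, hr⟩ : ∃ r, r = elW el WB * g := ⟨_, rfl⟩
  have key : ∀ (b : Fin TT7.N) (v : Nat), (∃ t ∈ FB, t.1 = (b : Nat) ∧ EE.run TT7 WB t.2 = v) →
      ((rho hh r b : Fin TT7.N) : Nat) = v := by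
    rintro b v ⟨t, ht, htb, hv⟩
    obtain ⟨a, ha, ha'⟩ := hg t ht
    have hab : a = b := Fin.ext (ha.symm.trans htb)
    subst hab
    rw [hr, map_mul, Equiv.Perm.mul_apply, img_elW hb letters_ok.2.2.1, ha', hv]
  have hN : ∀ b ∈ [0, 1, 2, 3, 4], b < TT7.N := by decide +kernel
  have hmem : ∀ b ∈ [0, 1, 2, 3], b ∈ [3, 2, 1, 0] := by decide
  let R := fixing (rho hh).range [3, 2, 1, 0]
  have hrR : rho hh r ∈ R := mem_fixing.mpr ⟨⟨r, rfl⟩, fun a ha haN => Fin.ext
    (key ⟨a, haN⟩ a (bad_sift.1 a (by simp only [List.mem_cons, List.not_mem_nil, or_false] at ha ⊢; tauto)))⟩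
  have hwl : ∀ i : Fin 60, L60.getD i.1 [] ∈ L60 := fun i => by
    rw [List.getD_eq_getElem _ _ (Nat.lt_of_lt_of_eq i.2 stab60.1.symm)]; exact List.getElem_mem _
  have hlet : ∀ w ∈ L60, letOk EE TT7 w = true := List.all_eq_true.mp letters_ok.2.2.2.2.2.2.2.2
  let f : Fin 60 → R := fun i => ⟨rho hh (elW el (L60.getD i.1 [])), mem_fixing.mpr ⟨⟨_, rfl⟩, fun a ha haN =>
    Fin.ext ((img_elW hb (hlet _ (hwl i)) ⟨a, haN⟩).trans (stab60.2.1 _ (hwl i) a
      (by simp only [List.mem_cons, List.not_mem_nil, or_false] at ha ⊢; tauto)))⟩⟩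
  have hf : Function.Injective f := by
    intro i j hij
    have hp : rho hh (elW el (L60.getD i.1 [])) = rho hh (elW el (L60.getD j.1 [])) := congrArg Subtype.val hij
    refine Fin.ext (stab60.2.2.2 _ i.2 _ j.2 (List.map_congr_left fun b hb' => ?_))
    have hbN : b < TT7.N := (by decide +kernel : ∀ b ∈ [4, 8, 14], b < TT7.N) b hb'
    rw [← img_elW hb (hlet _ (hwl i)) ⟨b, hbN⟩, ← img_elW hb (hlet _ (hwl j)) ⟨b, hbN⟩, hp]
  have hbij := hf.bijective_of_nat_card_le (by
    rw [Nat.card_eq_fintype_card (α := Fin 60), Fintype.card_fin]; exact fix4_le)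
  obtain ⟨i, hi⟩ := hbij.2 ⟨_, hrR⟩
  have hp : rho hh (elW el (L60.getD i.1 [])) = rho hh r := congrArg Subtype.val hi
  have h4 := key ⟨4, hN 4 (by simp)⟩ 24 bad_sift.2
  rw [← hp, img_elW hb (hlet _ (hwl i))] at h4
  exact stab60.2.2.1 _ (hwl i) h4

/-- The centraliser of the element of order 6. -/
theorem centralizer_s (g : PP.Grp) (hg : Commute g ss) : ∃ k < 72, g = elW el (cw k) := by
  have hPW : ∀ w ∈ PS, letOk EE TT7 w = true := List.all_eq_true.mp letters_ok.2.2.2.2.1
  have hcomm : ∀ g : PP.Grp, Commute g ss → ∀ w ∈ PS, Commute g (elW el w) := by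
    intro g hg w hw
    obtain ⟨i, hi, rfl⟩ := List.mem_iff_getElem.mp hw
    have hi6 : i < 6 := Nat.lt_of_lt_of_eq hi (by decide +kernel)
    have : elW el PS[i] = ss ^ i := by
      rw [← elW_replicate]
      exact eq_of_agree hb (hPW _ (List.getElem_mem hi)) (powers_s i hi6).2
        (by rw [← List.getD_eq_getElem _ [] hi]; exact (powers_s i hi6).1)
    rw [this]
    exact hg.pow_right i
  have b1 : 1342 < TT7.N := by decide +kernel
  have b2 : 57 < TT7.N := by decide +kernel
  have b3 : 1630 < TT7.N := by decide +kernel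
  have cl6 : ∀ a < 6, letOk EE TT7 (L6.getD a []) = true := fun a ha => by
    rw [List.getD_eq_getElem _ _ (Nat.lt_of_lt_of_eq ha (by decide +kernel))]
    exact List.all_eq_true.mp letters_ok.2.2.2.2.2.2.1 _ (List.getElem_mem _)
  have cl12 : ∀ a < 12, letOk EE TT7 (L12.getD a []) = true := fun a ha => by
    rw [List.getD_eq_getElem _ _ (Nat.lt_of_lt_of_eq ha (by decide +kernel))]
    exact List.all_eq_true.mp letters_ok.2.2.2.2.2.2.2.1 _ (List.getElem_mem _)
  have k1 := scan_sound hb orbits_ok paths_ok hPW g (hcomm g hg) (by simp) ⟨1342, b1⟩ _ scan_s0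
  obtain ⟨a, ha, hap⟩ := cover_s.1 _ k1
  obtain ⟨g1, hg1⟩ : ∃ g1, g1 = (elW el (L6.getD a []))⁻¹ * g := ⟨_, rfl⟩
  have hca : Commute (elW el (L6.getD a [])) ss := by
    have := eq_of_agree hb (let_app letters_ok.2.1 (cl6 a ha))
      (let_app (cl6 a ha) letters_ok.2.1) (cover_s.2.2.1 a ha)
    rw [elW_append, elW_append] at this
    exact this
  have hg1c : Commute g1 ss := hg1 ▸ hca.inv_left.mul_left hg
  have f1 : rho hh g1 ⟨1342, b1⟩ = ⟨1342, b1⟩ := by
    rw [hg1, map_mul, map_inv, Equiv.Perm.mul_apply, Equiv.Perm.inv_eq_iff_eq]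
    exact Fin.ext (hap.symm.trans (img_elW hb (cl6 a ha) ⟨1342, b1⟩).symm)
  have k2 := scan_sound hb orbits_ok paths_ok hPW g1 (hcomm g1 hg1c)
    (expand_known hb hPW g1 (hcomm g1 hg1c) (rts := [(1342, 1342)]) (fun t ht => by
      obtain rfl := List.mem_singleton.mp ht
      exact ⟨⟨1342, b1⟩, rfl, congrArg Fin.val f1⟩)) ⟨57, b2⟩ _ scan_s1
  obtain ⟨b, hb12, hbp, hb1342⟩ := cover_s.2.1 _ k2
  obtain ⟨g2, hg2⟩ : ∃ g2, g2 = (elW el (L12.getD b []))⁻¹ * g1 := ⟨_, rfl⟩
  have hcb : Commute (elW el (L12.getD b [])) ss := by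
    have := eq_of_agree hb (let_app letters_ok.2.1 (cl12 b hb12))
      (let_app (cl12 b hb12) letters_ok.2.1) (cover_s.2.2.2.1 b hb12)
    rw [elW_append, elW_append] at this
    exact this
  have hg2c : Commute g2 ss := hg2 ▸ hcb.inv_left.mul_left hg1c
  have r1 : ((rho hh g2 ⟨1342, b1⟩ : Fin TT7.N) : Nat) = 1342 := by
    rw [hg2, map_mul, map_inv, Equiv.Perm.mul_apply, f1]
    refine congrArg Fin.val ((Equiv.Perm.inv_eq_iff_eq.mpr ?_) : _ = (⟨1342, b1⟩ : Fin TT7.N))
    exact Fin.ext (hb1342.symm.trans (img_elW hb (cl12 b hb12) ⟨1342, b1⟩).symm)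
  have r2 : ((rho hh g2 ⟨57, b2⟩ : Fin TT7.N) : Nat) = 57 := by
    rw [hg2, map_mul, map_inv, Equiv.Perm.mul_apply]
    refine congrArg Fin.val ((Equiv.Perm.inv_eq_iff_eq.mpr ?_) : _ = (⟨57, b2⟩ : Fin TT7.N))
    exact Fin.ext (hbp.symm.trans (img_elW hb (cl12 b hb12) ⟨57, b2⟩).symm)
  have k3 := scan_sound hb orbits_ok paths_ok hPW g2 (hcomm g2 hg2c)
    (expand_known hb hPW g2 (hcomm g2 hg2c) (rts := [(57, 57), (1342, 1342)]) (fun t ht => by
      simp only [List.mem_cons, List.not_mem_nil, or_false] at ht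
      rcases ht with rfl | rfl
      exacts [⟨⟨57, b2⟩, rfl, r2⟩, ⟨⟨1342, b1⟩, rfl, r1⟩])) ⟨1630, b3⟩ _ scan_s2
  have hrts : ∀ v : Nat, ((rho hh g2 ⟨1630, b3⟩ : Fin TT7.N) : Nat) = v →
      ∀ t ∈ ([(1630, v), (57, 57), (1342, 1342)] : List (Nat × Nat)),
        ∃ a : Fin TT7.N, t.1 = a ∧ ((rho hh g2 a : Fin TT7.N) : Nat) = t.2 := by
    intro v hv t ht
    simp only [List.mem_cons, List.not_mem_nil, or_false] at ht
    rcases ht with rfl | rfl | rfl
    exacts [⟨⟨1630, b3⟩, rfl, hv⟩, ⟨⟨57, b2⟩, rfl, r2⟩, ⟨⟨1342, b1⟩, rfl, r1⟩]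
  simp only [List.mem_cons, List.not_mem_nil, or_false] at k3
  rcases k3 with k3 | k3
  · have hst := steps_sound hb orbits_ok paths_ok hPW g2 (hcomm g2 hg2c) FS _ (hrts _ k3) steps_s.1
    have hone : g2 = 1 := hb.base g2 fun c hcB => by
      obtain ⟨t, ht, htb⟩ := cover_s.2.2.2.2.2 _ hcB
      obtain ⟨e, he, he'⟩ := hst t ht
      have hec : e = c := Fin.ext (he.symm.trans htb)
      subst hec
      exact Fin.ext (he'.trans ((cover_s.2.2.2.2.1 t ht).symm.trans he))
    refine ⟨a * 12 + b, by omega, ?_⟩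
    have e1 : (a * 12 + b) % 12 = b := by omega
    have e2 : (a * 12 + b) / 12 = a := by omega
    rw [cw, e1, e2, elW_append]
    rw [hg2, inv_mul_eq_one] at hone
    rw [hone, hg1, mul_inv_cancel_left]
  · exact (no_bad hb g2 (steps_sound hb orbits_ok paths_ok hPW g2 (hcomm g2 hg2c) FB _ (hrts _ k3) steps_s.2)).elim

theorem closure_S3 : Subgroup.closure (S3 el) = ⊤ := by
  have hsym : ∀ k < 3, elW el ([XW, SW, cw CPOS.1].getD k []) ∈ S3 el := by
    intro k hk
    interval_cases k <;> simp [S3]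
  have key : ∀ n < SLP.length, letOk EE TT7 (SLP.getD n ([], 3, [])).1 = true ∧
      elW el (SLP.getD n ([], 3, [])).1 ∈ Subgroup.closure (S3 el) := by
    intro n
    induction n using Nat.strong_induction_on with
    | _ n ih =>
      intro hn
      have hok := (allFrom_iff _ _ _).mp slp_ok n (Nat.zero_le _) (by omega)
      rw [nodeOk, Bool.and_eq_true] at hok
      obtain ⟨hl, hm⟩ := hok
      refine ⟨hl, ?_⟩
      generalize SLP.getD n ([], 3, []) = t at hl hm
      obtain ⟨W, kd, args⟩ := t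
      simp only at hl hm ⊢
      match kd, args with
      | 0, [k] =>
        simp only [Bool.and_eq_true, Nat.blt_eq] at hm
        rw [eq_of_agree hb hl ((by decide +kernel :
          ∀ k < 3, letOk EE TT7 ([XW, SW, cw CPOS.1].getD k []) = true) k hm.1) hm.2]
        exact Subgroup.subset_closure (hsym k hm.1)
      | 1, [a, b] =>
        simp only [Bool.and_eq_true, Nat.blt_eq] at hm
        obtain ⟨⟨ha, hb'⟩, hag⟩ := hm
        obtain ⟨la, ma⟩ := ih a ha (by omega)
        obtain ⟨lb, mb⟩ := ih b hb' (by omega)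
        rw [eq_of_agree hb hl (by simp only [letOk, List.all_append, Bool.and_eq_true]; exact ⟨la, lb⟩) hag,
          elW_append]
        exact mul_mem mb ma
      | 2, [a] =>
        simp only [Bool.and_eq_true, Nat.blt_eq] at hm
        obtain ⟨la, ma⟩ := ih a hm.1 (by omega)
        have hone := eq_of_agree hb (by simp only [letOk, List.all_append, Bool.and_eq_true]; exact ⟨hl, la⟩)
          rfl hm.2
        rw [elW_append, elW_nil] at hone
        rw [eq_inv_of_mul_eq_one_right hone]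
        exact inv_mem ma
  rw [eq_top_iff, ← closure_gg CosetCertSuzSimple.good, Subgroup.closure_le]
  rintro _ ⟨i, hi, rfl⟩
  have hi7 : i < 7 := hi
  obtain ⟨hlen, hag⟩ := outs_ok i hi7
  obtain ⟨hl, hm⟩ := key _ hlen
  have hlet : letOk EE TT7 [i] = true := (by decide +kernel : ∀ i < 7, letOk EE TT7 [i] = true) i hi7
  rw [eq_of_agree hb hl hlet hag, elW_cons, elW_nil, one_mul, hb.el_gen i hi7] at hm
  exact hm

/-- Every automorphism is inner up to two normal forms. -/
theorem normal_form (φ : MulAut PP.Grp) : ∃ ψ, GolayOutGen.Sim φ ψ ∧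
    ((∀ y ∈ S3 el, ψ y = y) ∨
      (ψ xx = xx ^ 2 ∧ ψ ss = ss ∧ ψ (elW el (cw CPOS.1)) = elW el (cw CPOS.2))) := by
  haveI : Finite PP.Grp := CosetCertSuzSimple.upper.1
  obtain ⟨ψ1, hs1, j0, hj0, hj0', hx1⟩ := GolayOutGen.exists_sim_pow (p := 13) (m := 34488115200)
    (by norm_num) (by decide +kernel) (CosetCertSuzSimple.card_and_faithful.1.trans (by decide +kernel))
    (order_x hb) φ
  obtain ⟨m, -, hjm⟩ := reduce_j j0 hj0 hj0'
  obtain ⟨ψ2, hs2, hψ2⟩ := GolayOutGen.sim_conj ψ1 (ss ^ m)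
  obtain ⟨j, hj, hjdef⟩ : ∃ j, (j = 1 ∨ j = 2) ∧ j = j0 * 10 ^ m % 13 :=
    ⟨_, by simpa using hjm, rfl⟩
  have hx2 : ψ2 xx = xx ^ j := by rw [hψ2, hx1, s_pow_x hb, x_pow_mod hb, ← hjdef]
  have hc1 : Commute (ss⁻¹ * ψ2 ss) xx := by
    have h1 : ψ2 ss * (xx ^ j) * (ψ2 ss)⁻¹ = ss * xx ^ j * ss⁻¹ := by
      conv_rhs => rw [← conj_pow, s_x hb, ← pow_mul, mul_comm, pow_mul]
      rw [← hx2, ← map_inv, ← map_mul, ← map_mul, s_x hb, map_pow]
    obtain ⟨j', hj'⟩ : ∃ j', (xx ^ j) ^ j' = xx := by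
      rcases hj with rfl | rfl
      · exact ⟨1, by simp⟩
      · exact ⟨7, by rw [← pow_mul, x_pow_mod hb, pow_one]⟩
    have h2 : ψ2 ss * xx * (ψ2 ss)⁻¹ = ss * xx * ss⁻¹ := by
      have := congrArg (fun y => y ^ j') h1
      simp only [conj_pow, hj'] at this
      exact this
    show ss⁻¹ * ψ2 ss * xx = xx * (ss⁻¹ * ψ2 ss)
    calc ss⁻¹ * ψ2 ss * xx = ss⁻¹ * (ψ2 ss * xx * (ψ2 ss)⁻¹) * ψ2 ss := by group
      _ = ss⁻¹ * (ss * xx * ss⁻¹) * ψ2 ss := by rw [h2]
      _ = xx * (ss⁻¹ * ψ2 ss) := by group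
  obtain ⟨i, hi, hgi⟩ := centralizer_x hb _ hc1
  have hs2' : ψ2 ss = ss * xx ^ i := by rw [← hgi, mul_inv_cancel_left]
  obtain ⟨m2, hm2, hlm, hag⟩ := shift_s i hi
  obtain ⟨ψ, hs3, hψ⟩ := GolayOutGen.sim_conj ψ2 (xx ^ m2)
  have hxψ : ψ xx = xx ^ j := by
    rw [hψ, hx2, ((Commute.refl xx).pow_pow m2 j).eq, mul_inv_cancel_right]
  have hsψ : ψ ss = ss := by
    have he := eq_of_agree hb hlm letters_ok.2.1 hag
    rw [elW_append, elW_append, elW_append, px_eq hb m2 hm2, px_eq hb i hi,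
      px_eq hb ((13 - m2) % 13) (Nat.mod_lt _ (by norm_num)), ← x_pow_mod hb] at he
    have hinv : (xx ^ m2)⁻¹ = xx ^ (13 - m2) := by
      apply inv_eq_of_mul_eq_one_right
      rw [← pow_add, show m2 + (13 - m2) = 13 by omega, x_pow13 hb]
    calc ψ ss = xx ^ m2 * (ss * (xx ^ i * xx ^ (13 - m2))) := by rw [hψ, hs2', hinv]; group
      _ = ss := he
  have hcs : Commute (ψ (elW el (cw CPOS.1))) ss := by
    have h0 : Commute (elW el (cw CPOS.1)) ss := by
      have := eq_of_agree hb (by decide +kernel : letOk EE TT7 (SW ++ cw CPOS.1) = true) (by decide +kernel)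
        (by decide +kernel : agree EE TT7 BB (SW ++ cw CPOS.1) (cw CPOS.1 ++ SW) = true)
      rw [elW_append, elW_append] at this
      exact this
    have := h0.map ψ.toMonoidHom
    rwa [MulEquiv.coe_toMonoidHom, hsψ] at this
  obtain ⟨k, hk, hck⟩ := centralizer_s hb _ hcs
  refine ⟨ψ, GolayOutGen.sim_trans hs1 (GolayOutGen.sim_trans hs2 hs3), ?_⟩
  rcases excluded j (by simpa using hj) k hk with (⟨rfl, rfl⟩ | ⟨rfl, rfl⟩) | ⟨hlt, hl, hag⟩
  · left
    intro y hy
    simp only [S3, Set.mem_insert_iff, Set.mem_singleton_iff] at hy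
    rcases hy with rfl | rfl | rfl
    exacts [hxψ.trans (pow_one _), hsψ, hck]
  · exact Or.inr ⟨hxψ, hsψ, hck⟩
  · exfalso
    generalize htd : TW.getD ((TT.getD (j - 1) []).getD k 0) ([], 0) = t at hl hag
    have htm : t ∈ TW := by
      rw [← htd, List.getD_eq_getElem _ _ hlt]; exact List.getElem_mem hlt
    obtain ⟨hsy, hl0, hag0⟩ := test_ok t htm
    have hone := eq_of_agree hb hl0 rfl hag0
    rw [elW_replicate, elW_nil] at hone
    have hmap : ∀ M : List Nat, (∀ q ∈ M, q < 3) → ψ (elW el (sym [XW, SW, cw CPOS.1] M)) =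
        elW el (sym [PX.getD j [], SW, cw k] M) := by
      intro M hM
      induction M with
      | nil => exact map_one ψ
      | cons q M ih =>
        have hq := hM q List.mem_cons_self
        have ih := ih fun r hr => hM r (List.mem_cons_of_mem _ hr)
        show ψ (elW el ([XW, SW, cw CPOS.1].getD q [] ++ sym [XW, SW, cw CPOS.1] M)) =
          elW el ([PX.getD j [], SW, cw k].getD q [] ++ sym [PX.getD j [], SW, cw k] M)
        rw [elW_append, elW_append, map_mul, ih]
        congr 1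
        interval_cases q
        · exact hxψ.trans (px_eq hb j (by omega)).symm
        · exact hsψ
        · exact hck
    have h2 := congrArg ψ hone
    rw [map_pow, map_one, hmap _ hsy, ← elW_replicate] at h2
    exact agree_false hb hl rfl hag (h2.trans (elW_nil el).symm)

/-- The outer automorphism group has order two. -/
theorem card_out_of : Nat.card (Cfsg.Out PP.Grp) = 2 := by
  classical
  haveI : Finite PP.Grp := CosetCertSuzSimple.upper.1
  haveI := CosetCertSuzSimple.simple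
  have hval : ∀ w : List Nat, (∀ x ∈ w, x < 7) →
      val (fun x => elW el (IMW.getD x [])) w = elW el (subIm w.reverse) := by
    intro w
    induction w with
    | nil => intro _; rfl
    | cons x w ih =>
      intro hx
      rw [val_cons, ih fun y hy => hx y (List.mem_cons_of_mem _ hy)]
      simp [subIm, elW_append]
  have hsq : ∀ x, elW el (IMW.getD (min x 6) []) * elW el (IMW.getD (min x 6) []) = 1 := by
    intro x
    rw [← elW_append]
    exact eq_of_agree hb ((by decide +kernel : ∀ x < 7, letOk EE TT7 (IMW.getD x [] ++ IMW.getD x []) = true)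
      (min x 6) (by omega)) rfl ((by decide +kernel :
        ∀ x < 7, agree EE TT7 BB (IMW.getD x [] ++ IMW.getD x []) [] = true) (min x 6) (by omega))
  let f0 : Nat → PP.Grp := fun x => elW el (IMW.getD (min x 6) [])
  have hrel : ∀ w ∈ PP.relWords, val f0 w = 1 := by
    intro w hw
    obtain ⟨hlt, hl, hag⟩ := images_rel w hw
    rw [val_congr (g' := fun x => elW el (IMW.getD x [])) f0 w (fun x hx => by
      show elW el (IMW.getD (min x 6) []) = elW el (IMW.getD x [])
      rw [Nat.min_eq_left (Nat.le_of_lt_succ (hlt x hx))]), hval w hlt]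
    exact eq_of_agree hb hl rfl hag
  let f : PP.Grp →* PP.Grp := PresentedGroup.toGroup
    (lift_rels CosetCertSuzSimple.good (by decide +kernel) f0 hsq hrel (by decide +kernel))
  have hfg : ∀ x < 7, f (el x) = elW el (IMW.getD x []) := by
    intro x hx
    rw [hb.el_gen x hx]
    show f (PresentedGroup.of (PP.gen x)) = _
    rw [show f (PresentedGroup.of (PP.gen x)) = f0 (PP.gens.idxOf (PP.gen x)) from PresentedGroup.toGroup.of _,
      (by decide +kernel : ∀ x < 7, PP.gens.idxOf (PP.gen x) = x) x hx]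
    show elW el (IMW.getD (min x 6) []) = _
    rw [Nat.min_eq_left (by omega)]
  have hfW : ∀ W : List Nat, (∀ k ∈ W, f (el k) = elW el (IMW.getD k [])) →
      f (elW el W) = elW el (subIm W) := by
    intro W
    induction W with
    | nil => intro _; exact map_one f
    | cons k W ih =>
      intro hW
      rw [elW_cons, map_mul, ih fun y hy => hW y (List.mem_cons_of_mem _ hy), hW k List.mem_cons_self]
      simp [subIm, elW_append]
  have hfel : ∀ k < 7 + EE.words.length, f (el k) = elW el (IMW.getD k []) := by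
    intro k
    induction k using Nat.strong_induction_on with
    | _ k ih =>
      intro hk
      by_cases h7 : k < 7
      · exact hfg k h7
      · obtain ⟨d, rfl⟩ : ∃ d, k = 7 + d := ⟨k - 7, by omega⟩
        obtain ⟨hlk, hlsub, hlow, hlw, htrue, hfalse⟩ := images_step d (by omega)
        have hw := hfW _ fun q hq => ih q (by have := hlow q hq; omega) (by have := hlow q hq; omega)
        have hlet : letOk EE TT7 [7 + d] = true := by
          simp only [letOk, List.all_cons, List.all_nil, Bool.and_true, Nat.blt_eq]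
          show 7 + d < TT7.NG + EE.words.length
          rw [show TT7.NG = 7 from by decide +kernel]
          omega
        cases hflag : (EE.words.getD d (true, [])).1 with
        | true =>
          obtain ⟨h1, h2⟩ := htrue hflag
          have e1 := eq_of_agree hb hlet hlw h1
          rw [elW_cons, elW_nil, one_mul] at e1
          rw [e1, hw, eq_of_agree hb hlk hlsub h2]
        | false =>
          obtain ⟨h1, h2⟩ := hfalse hflag
          have e1 := eq_of_agree hb (by simp only [letOk, List.all_append, Bool.and_eq_true]; exact ⟨hlet, hlw⟩) rfl h1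
          have e2 := eq_of_agree hb (by simp only [letOk, List.all_append, Bool.and_eq_true]; exact ⟨hlk, hlsub⟩) rfl h2
          rw [elW_append, elW_cons, elW_nil, one_mul] at e1
          rw [elW_append, elW_nil] at e2
          rw [eq_inv_of_mul_eq_one_right e1, map_inv, hw, eq_inv_of_mul_eq_one_right e2]
  obtain ⟨-, lX, lS, lC, aX, aS, aC, hbound⟩ := images_gens
  have hfX : f xx = xx ^ 2 := by
    rw [hfW XW fun k hk => hfel k (hbound k (List.mem_append_left _ (List.mem_append_left _ hk))), eq_of_agree hb lX (letPX hb 2) aX,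
      px_eq hb 2 (by norm_num)]
  have hfS : f ss = ss := by
    rw [hfW SW fun k hk => hfel k (hbound k (List.mem_append_left _ (List.mem_append_right _ hk)))]
    exact eq_of_agree hb lS letters_ok.2.1 aS
  have hfC : f (elW el (cw CPOS.1)) = elW el (cw CPOS.2) := by
    rw [hfW (cw CPOS.1) fun k hk => hfel k (hbound k (List.mem_append_right _ hk))]
    exact eq_of_agree hb lC (letters_ok.2.2.2.2.2.1 _ (by decide +kernel)) aC
  have hinj : Function.Injective f := by
    rw [← MonoidHom.ker_eq_bot_iff]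
    refine (f.normal_ker.eq_bot_or_eq_top).resolve_right fun htop => ?_
    have : f xx = 1 := (SetLike.ext_iff.mp htop xx).mpr (Subgroup.mem_top _)
    rw [hfX] at this
    have := orderOf_dvd_of_pow_eq_one this
    rw [order_x hb] at this
    norm_num at this
  let s : MulAut PP.Grp := MulEquiv.ofBijective f ⟨hinj, Finite.surjective_of_injective hinj⟩
  refine GolayOutGen.card_out_eq_two (closure_S3 hb) (fun y => f y) (fun φ => ?_) s ?_
  · obtain ⟨ψ, hsim, h⟩ := normal_form hb φ
    refine ⟨ψ, hsim, h.imp id fun ⟨h1, h2, h3⟩ y hy => ?_⟩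
    simp only [S3, Set.mem_insert_iff, Set.mem_singleton_iff] at hy
    rcases hy with rfl | rfl | rfl
    exacts [h1.trans hfX.symm, h2.trans hfS.symm, h3.trans hfC.symm]
  · rintro ⟨k, hk⟩
    have e : ∀ y, k * y * k⁻¹ = f y := fun y => congrArg (fun a : MulAut PP.Grp => a y) hk
    have hks : Commute k ss := mul_inv_eq_iff_eq_mul.mp ((e ss).trans hfS)
    obtain ⟨i, hi, rfl⟩ := centralizer_s hb k hks
    obtain ⟨hl1, hl2, hne⟩ := not_inner i hi
    refine agree_false hb hl1 hl2 hne ?_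
    rw [elW_append, elW_append, px_eq hb 2 (by norm_num)]
    exact mul_inv_eq_iff_eq_mul.mp ((e xx).trans hfX)

end

/-- The outer automorphism group of the presented Suz has order two. -/
theorem card_out : Nat.card (Cfsg.Out PP.Grp) = 2 := by
  obtain ⟨el, hb⟩ := exists_based
  exact card_out_of hb

end Cfsg.Agent.CosetCertSuzOut41
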