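import Cfsg.Agent.Lib.CosetCertSuzQData

/-! Suz modulo one element collapses. -/

set_option autoImplicit false
set_option maxRecDepth 100000
set_option Elab.async false

namespace Cfsg.Agent.CosetCertSuzQC0

open Cfsg.Agent.CosetCertCore Cfsg.Agent.CosetCertTable Cfsg.Agent.CosetCertOrder
open Cfsg.Agent.CosetCertSuzQData

/-- Justifications from fact 0. -/
noncomputable def just0 : List Nat :=
  [0x0,
   0x0,
   0x0,
   0x0,
   0x0,
   0x0,
   0x0,
   0x0,
   0x0,
   0x8000000000200300100305,
   0x0,
   0xa000000000300300100306,
   0x0,
   0x0,
   0x0,
   0x0,
   0xf00001000030030010030c,
   0x0,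
   0x1100001000040030010030d,
   0x0,
   0x0,
   0x0,
   0x0,
   0x0,
   0x17000020000400300100312,
   0x0,
   0x19000020000500300100313,
   0x0,
   0x0,
   0x0,
   0x0,
   0x1e000030000500300100317,
   0x0,
   0x20000030000600300100318,
   0x0,
   0x0,
   0x2300004000050030010031a,
   0x0,
   0x2500004000060030010031b,
   0x0,
   0x0,
   0x28000090001700300100307,
   0x0,
   0x2a000090001b00300100309,
   0x0,
   0x2c0000b0001d00300100307,
   0x0,
   0x2e0000b0002000300100309,
   0x0,
   0x300000d0001300300100308,
   0x0,
   0x320000e0001100300100312,
   0x0,
   0x340000e0001300300100313,
   0x0,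
   0x360000e0001400300100314,
   0x1e000100000f000140003700500500124,
   0x380001e0001d0030020021a,
   0x3200036000380030000041b,
   0x2d00039000360003400400300220,
   0x2e0000b0001e0003a00400200320,
   0x270001f0003a00033000110001300600100524,
   0x270003d00200000001,
   0x3b0002c0002e0030010031b,
   0x50003e0001300001000050003e0060000060e,
   0x400003100300000002,
   0x1000400003e00300000102,
   0x2000400003500300000202,
   0xc000410003000300000502,
   0xe000420001a00300000202,
   0x11000420002400300000402,
   0x50004200200000001,
   0x17000430003f00300000402,
   0x1b000430003b00300000602,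
   0xd0004400200000001,
   0x190004500200000001,
   0x230004600200000001,
   0x29000480002f00300000002,
   0x3c0004800200000001,
   0x2e0004800200000001,
   0x2b000490002d00300000002,
   0x280004d00200000001,
   0x2a0005000200000001,
   0x70000a0004f00018000040004700600100524,
   0x1000530000700300000102,
   0x5400200000001,
   0x2000540000800300000202,
   0x47000540000c00300000502,
   0x17000560005100300000402,
   0x1b000560005200300000602,
   0x4a0005700200000001,
   0x210005800200000001,
   0x200005800200000001,
   0x1d0005900200000001,
   0x10005a0000100055000010005a0000100055000010005a00a00000a04,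
   0x10005e00200000001,
   0x20005e0000e00300000202,
   0x30005e0000f00300000302,
   0x40005e0001100300000402,
   0x470005e00200000001,
   0x17000600003200300000402,
   0x4b0006000200000001,
   0x100006100200000001,
   0x120006200200000001,
   0x4c0006200200000001,
   0x4e0006400200000001,
   0x250001800017000650001500500200424,
   0x1b000020000400068000670002200600300324,
   0x220006b00200000001,
   0x6a000260005b000170001600500200416,
   0x5b0000600002000170006900500100524,
   0x660005c0006e0005c000660005c0060050010f,
   0x1c0006f0001800300000202,
   0x30006f0005b00300000302,
   0x5d0006f0001700300000402,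
   0x1c0007000200000001,
   0x4000710002600300000402,
   0x60007100200000001,
   0x16000720006c00300000302,
   0x6a0007400200000001,
   0x77000760001600300000302,
   0x4000760006d0007800400000402,
   0x790007800200000001,
   0x30007a0007700300000302,
   0x20007900200000001,
   0x730007b00200000001,
   0x40007b00200000001,
   0x30007d000030007c0005f000030007d000030007c0005f000030007d000030007c0005f000030007d000030007c0005f000030007d000030007c0005f0007e000030007c000030007d00066000030007c000030007d00066000030007c000030007d00066000030007c000030007d00066000030007c000030007d000660007e000030007d000030007c0005f000030007d000030007c0005f000030007d000030007c0005f000030007d000030007c0005f000030007d000030007c0005f0007e04e03501923,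
   0x30007f00200000001,
   0x7e0007f00200000001]

theorem check0 : (Nat.beq (0 + just0.length) 130 && checkList cert just0 0) = true := by
  decide +kernel

end Cfsg.Agent.CosetCertSuzQC0
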