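import Cfsg.Agent.Lib.CosetCertOrder

/-! Suz modulo one element collapses. -/

set_option autoImplicit false
set_option maxRecDepth 100000
set_option Elab.async false

namespace Cfsg.Agent.CosetCertSuzQData

open Cfsg.Agent.CosetCertCore Cfsg.Agent.CosetCertTable Cfsg.Agent.CosetCertOrder

/-- The certificate. -/
noncomputable def cert : Cert where
  F := (.leaf 0x500000000000000040000000000000040000000000000004500000000400000430000000000000003000000004000005000000000000001200000000000000030000000012000003000000001200000540000000130000050000000000000000700000000500001d00000000040000053000000016000003000000000000000700000000170000050000000004000014000000001400001420000000120000135000000005000016400000001600001b000000001d0000124000000014000014600000000500000560000000050000052000000004000004200000000300000360000000140000240000000000000000600000000500000f000000000400000e000000000300000d0000000000000000200000000000000200000000040000165000000004000014700000000700001440000000020000021000000016000018000000001400001a000000000200000b00000000030000090000000000000000100000000000000100000000080000020000000009000018700000000900001a5000000020000018000000000a00001470000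00024000014600000001f00001a000000000500000f600000000300000d600000000200000b100000001600002100000000140000220000000000000002600000000f00001c000000000d000015000000000b00000c000000000300002500000000020000060000000001000023000000000000001000000000250000225000000006000010200000001e000010000000002200002460000000210000257000000024000019700000002600001860000000190000265000000026000011300000002600000d7000000025000010300000002500000d600000002400000f300000002400000d5000000023000010100000002300000c600000002200001a100000002200000a7000000021000018100000002100000a50000000200000161000000020000009700000001f000014100000001f000009500000001e000006200000001d000007500000001d000005700000001c000006500000001c000005600000001b000005400000001a000007400000001a0000047000000019000006400000001900000460000000180000045000000017000004300000001600000370000000150000063000000015000003600000001400000530000000140000035000000013000003400000001200000320000000110000027000000010000002600000000f000005200000000f000002500000000e000004200000000e000002400000000d000002300000000c000002100000000b000001600000000a000004100000000a00000140000000090000031000000009000001300000000800000120000000070000007000000006000000600000000500000050000000040000004000000003000000300000000200000020000000010000001)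
  D := (.leaf 0x360000003400000032000000300000002e0000002c0000002a0000002800000027000000250000002300000022000000200000001e0000001d0000001c0000001b000000190000001700000016000000150000001400000013000000110000000f0000000e0000000d0000000c0000000a00000008000000070000000600000005000000040000000300000002000000010000000000000000)
  rels := [[0, 0], [0, 1, 0, 1, 0, 1, 0, 1, 0, 1], [0, 2, 0, 2], [0, 3, 0, 3], [0, 4, 0, 4], [0, 5, 0, 5], [0, 6, 0, 6], [1, 1], [1, 2, 1, 2, 1, 2], [1, 3, 1, 3], [1, 4, 1, 4], [1, 5, 1, 5, 1, 5], [1, 6, 1, 6, 1, 6], [2, 2], [2, 3, 2, 3, 2, 3, 2, 3, 2, 3, 2, 3, 2, 3, 2, 3], [2, 4, 2, 4], [2, 5, 2, 5], [2, 6, 2, 6], [3, 3], [3, 4, 3, 4, 3, 4], [3, 5, 3, 5], [3, 6, 3, 6], [4, 4], [4, 5, 4, 5], [4, 6, 4, 6], [5, 5], [5, 6, 5, 6, 5, 6, 5, 6], [6, 6], [0, 3, 2, 3, 2, 3, 2, 3, 2], [0, 6, 5, 6, 5], [0, 1, 2, 5, 0, 1, 2, 5, 0, 1, 2, 5, 0, 1, 2, 5, 0, 1, 2, 5], [1, 5, 6, 1, 5, 6, 1, 5, 6, 1, 5, 6, 1, 5, 6], [1, 2, 3, 2, 3, 1, 2, 3, 2, 3, 1, 2, 3, 2, 3, 1, 2, 3, 2, 3, 1, 2, 3, 2, 3, 4, 1, 2, 3, 2, 3, 1, 2, 3, 2, 3, 1, 2, 3, 2, 3, 1, 2, 3, 2, 3, 1, 2, 3, 2, 3, 4, 1, 2, 3, 2, 3, 1, 2, 3, 2, 3, 1, 2, 3, 2, 3, 1, 2, 3, 2, 3, 1, 2, 3, 2, 3, 4], [4, 2,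 6, 3, 1, 5]]
  sgens := []

/-- The final table. -/
noncomputable def table : Table where
  T := (.leaf 0x0)
  E := (.leaf 0x750006300081000800007c0005f00055)
  Fn := (.leaf 0x0)
  Par := (.leaf 0x0)
  N := 1
  NG := 7

end Cfsg.Agent.CosetCertSuzQData
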