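import Cfsg.Agent.Lib.CosetCertOrder

/-! Enumeration of 1 in ab inside Suz. -/

set_option autoImplicit false
set_option maxRecDepth 100000
set_option Elab.async false

namespace Cfsg.Agent.CosetCertSuzS4Data

open Cfsg.Agent.CosetCertCore Cfsg.Agent.CosetCertTable Cfsg.Agent.CosetCertOrder

/-- The certificate. -/
noncomputable def cert : Cert where
  F := (.leaf 0x90000082000000009000007100000000800000610000000070000052000000006000004200000000500000310000000040000021000000003000001200000000200000020000000010000001)
  D := (.leaf 0x8000000070000000600000005000000040000000300000002000000010000000000000000)
  rels := [[0, 0], [0, 1, 0, 1, 0, 1, 0, 1, 0, 1], [1, 1]]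
  sgens := []

/-- The final table. -/
noncomputable def table : Table where
  T := (.leaf 0x800007000090000600005000090000400008000070000300006000020000100005000000000400003000000000200001)
  E := (.leaf 0x900008000090000700006000080000500007000060000400005000030000200004000010000300002000000000100000)
  Fn := (.leaf 0x9000008000007000006000005000004000003000002000001000000)
  Par := (.leaf 0x70000060000051000041000030000020000011000001000000000000)
  N := 10
  NG := 2

end Cfsg.Agent.CosetCertSuzS4Data
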