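import Cfsg.Agent.Lib.CosetCertSuzSgsData

/-! Checks of the strong generators of Suz. -/

set_option autoImplicit false
set_option maxRecDepth 100000
set_option Elab.async false

namespace Cfsg.Agent.CosetCertSuzSgs

open Cfsg.Agent.CosetCertCore Cfsg.Agent.CosetCertTable Cfsg.Agent.CosetCertPres Cfsg.Agent.CosetCertOrder
open Cfsg.Agent.CosetCertSuzGData Cfsg.Agent.CosetCertSuzSgsData

theorem words_ok : wordsOk elts table = true := by decide +kernel

theorem elt0_0 : AllBelow (eltOk elts table 0) 0 := AllBelow.zero _

theorem elt0_1 : AllBelow (eltOk elts table 0) 256 :=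
  AllBelow.step elt0_0 256 (by decide +kernel)

theorem elt0_2 : AllBelow (eltOk elts table 0) 512 :=
  AllBelow.step elt0_1 256 (by decide +kernel)

theorem elt0_3 : AllBelow (eltOk elts table 0) 768 :=
  AllBelow.step elt0_2 256 (by decide +kernel)

theorem elt0_4 : AllBelow (eltOk elts table 0) 1024 :=
  AllBelow.step elt0_3 256 (by decide +kernel)

theorem elt0_5 : AllBelow (eltOk elts table 0) 1280 :=
  AllBelow.step elt0_4 256 (by decide +kernel)

theorem elt0_6 : AllBelow (eltOk elts table 0) 1536 :=
  AllBelow.step elt0_5 256 (by decide +kernel)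

theorem elt0_7 : AllBelow (eltOk elts table 0) 1782 :=
  AllBelow.step elt0_6 246 (by decide +kernel)

theorem elt1_0 : AllBelow (eltOk elts table 1) 0 := AllBelow.zero _

theorem elt1_1 : AllBelow (eltOk elts table 1) 256 :=
  AllBelow.step elt1_0 256 (by decide +kernel)

theorem elt1_2 : AllBelow (eltOk elts table 1) 512 :=
  AllBelow.step elt1_1 256 (by decide +kernel)

theorem elt1_3 : AllBelow (eltOk elts table 1) 768 :=
  AllBelow.step elt1_2 256 (by decide +kernel)

theorem elt1_4 : AllBelow (eltOk elts table 1) 1024 :=
  AllBelow.step elt1_3 256 (by decide +kernel)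

theorem elt1_5 : AllBelow (eltOk elts table 1) 1280 :=
  AllBelow.step elt1_4 256 (by decide +kernel)

theorem elt1_6 : AllBelow (eltOk elts table 1) 1536 :=
  AllBelow.step elt1_5 256 (by decide +kernel)

theorem elt1_7 : AllBelow (eltOk elts table 1) 1782 :=
  AllBelow.step elt1_6 246 (by decide +kernel)

theorem elt2_0 : AllBelow (eltOk elts table 2) 0 := AllBelow.zero _

theorem elt2_1 : AllBelow (eltOk elts table 2) 256 :=
  AllBelow.step elt2_0 256 (by decide +kernel)

theorem elt2_2 : AllBelow (eltOk elts table 2) 512 :=
  AllBelow.step elt2_1 256 (by decide +kernel)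

theorem elt2_3 : AllBelow (eltOk elts table 2) 768 :=
  AllBelow.step elt2_2 256 (by decide +kernel)

theorem elt2_4 : AllBelow (eltOk elts table 2) 1024 :=
  AllBelow.step elt2_3 256 (by decide +kernel)

theorem elt2_5 : AllBelow (eltOk elts table 2) 1280 :=
  AllBelow.step elt2_4 256 (by decide +kernel)

theorem elt2_6 : AllBelow (eltOk elts table 2) 1536 :=
  AllBelow.step elt2_5 256 (by decide +kernel)

theorem elt2_7 : AllBelow (eltOk elts table 2) 1782 :=
  AllBelow.step elt2_6 246 (by decide +kernel)

theorem elt3_0 : AllBelow (eltOk elts table 3) 0 := AllBelow.zero _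

theorem elt3_1 : AllBelow (eltOk elts table 3) 256 :=
  AllBelow.step elt3_0 256 (by decide +kernel)

theorem elt3_2 : AllBelow (eltOk elts table 3) 512 :=
  AllBelow.step elt3_1 256 (by decide +kernel)

theorem elt3_3 : AllBelow (eltOk elts table 3) 768 :=
  AllBelow.step elt3_2 256 (by decide +kernel)

theorem elt3_4 : AllBelow (eltOk elts table 3) 1024 :=
  AllBelow.step elt3_3 256 (by decide +kernel)

theorem elt3_5 : AllBelow (eltOk elts table 3) 1280 :=
  AllBelow.step elt3_4 256 (by decide +kernel)

theorem elt3_6 : AllBelow (eltOk elts table 3) 1536 :=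
  AllBelow.step elt3_5 256 (by decide +kernel)

theorem elt3_7 : AllBelow (eltOk elts table 3) 1782 :=
  AllBelow.step elt3_6 246 (by decide +kernel)

theorem elt4_0 : AllBelow (eltOk elts table 4) 0 := AllBelow.zero _

theorem elt4_1 : AllBelow (eltOk elts table 4) 256 :=
  AllBelow.step elt4_0 256 (by decide +kernel)

theorem elt4_2 : AllBelow (eltOk elts table 4) 512 :=
  AllBelow.step elt4_1 256 (by decide +kernel)

theorem elt4_3 : AllBelow (eltOk elts table 4) 768 :=
  AllBelow.step elt4_2 256 (by decide +kernel)

theorem elt4_4 : AllBelow (eltOk elts table 4) 1024 :=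
  AllBelow.step elt4_3 256 (by decide +kernel)

theorem elt4_5 : AllBelow (eltOk elts table 4) 1280 :=
  AllBelow.step elt4_4 256 (by decide +kernel)

theorem elt4_6 : AllBelow (eltOk elts table 4) 1536 :=
  AllBelow.step elt4_5 256 (by decide +kernel)

theorem elt4_7 : AllBelow (eltOk elts table 4) 1782 :=
  AllBelow.step elt4_6 246 (by decide +kernel)

theorem elt5_0 : AllBelow (eltOk elts table 5) 0 := AllBelow.zero _

theorem elt5_1 : AllBelow (eltOk elts table 5) 256 :=
  AllBelow.step elt5_0 256 (by decide +kernel)

theorem elt5_2 : AllBelow (eltOk elts table 5) 512 :=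
  AllBelow.step elt5_1 256 (by decide +kernel)

theorem elt5_3 : AllBelow (eltOk elts table 5) 768 :=
  AllBelow.step elt5_2 256 (by decide +kernel)

theorem elt5_4 : AllBelow (eltOk elts table 5) 1024 :=
  AllBelow.step elt5_3 256 (by decide +kernel)

theorem elt5_5 : AllBelow (eltOk elts table 5) 1280 :=
  AllBelow.step elt5_4 256 (by decide +kernel)

theorem elt5_6 : AllBelow (eltOk elts table 5) 1536 :=
  AllBelow.step elt5_5 256 (by decide +kernel)

theorem elt5_7 : AllBelow (eltOk elts table 5) 1782 :=
  AllBelow.step elt5_6 246 (by decide +kernel)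

theorem elt6_0 : AllBelow (eltOk elts table 6) 0 := AllBelow.zero _

theorem elt6_1 : AllBelow (eltOk elts table 6) 256 :=
  AllBelow.step elt6_0 256 (by decide +kernel)

theorem elt6_2 : AllBelow (eltOk elts table 6) 512 :=
  AllBelow.step elt6_1 256 (by decide +kernel)

theorem elt6_3 : AllBelow (eltOk elts table 6) 768 :=
  AllBelow.step elt6_2 256 (by decide +kernel)

theorem elt6_4 : AllBelow (eltOk elts table 6) 1024 :=
  AllBelow.step elt6_3 256 (by decide +kernel)

theorem elt6_5 : AllBelow (eltOk elts table 6) 1280 :=
  AllBelow.step elt6_4 256 (by decide +kernel)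

theorem elt6_6 : AllBelow (eltOk elts table 6) 1536 :=
  AllBelow.step elt6_5 256 (by decide +kernel)

theorem elt6_7 : AllBelow (eltOk elts table 6) 1782 :=
  AllBelow.step elt6_6 246 (by decide +kernel)

theorem elt7_0 : AllBelow (eltOk elts table 7) 0 := AllBelow.zero _

theorem elt7_1 : AllBelow (eltOk elts table 7) 256 :=
  AllBelow.step elt7_0 256 (by decide +kernel)

theorem elt7_2 : AllBelow (eltOk elts table 7) 512 :=
  AllBelow.step elt7_1 256 (by decide +kernel)

theorem elt7_3 : AllBelow (eltOk elts table 7) 768 :=
  AllBelow.step elt7_2 256 (by decide +kernel)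

theorem elt7_4 : AllBelow (eltOk elts table 7) 1024 :=
  AllBelow.step elt7_3 256 (by decide +kernel)

theorem elt7_5 : AllBelow (eltOk elts table 7) 1280 :=
  AllBelow.step elt7_4 256 (by decide +kernel)

theorem elt7_6 : AllBelow (eltOk elts table 7) 1536 :=
  AllBelow.step elt7_5 256 (by decide +kernel)

theorem elt7_7 : AllBelow (eltOk elts table 7) 1782 :=
  AllBelow.step elt7_6 246 (by decide +kernel)

theorem elt8_0 : AllBelow (eltOk elts table 8) 0 := AllBelow.zero _

theorem elt8_1 : AllBelow (eltOk elts table 8) 256 :=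
  AllBelow.step elt8_0 256 (by decide +kernel)

theorem elt8_2 : AllBelow (eltOk elts table 8) 512 :=
  AllBelow.step elt8_1 256 (by decide +kernel)

theorem elt8_3 : AllBelow (eltOk elts table 8) 768 :=
  AllBelow.step elt8_2 256 (by decide +kernel)

theorem elt8_4 : AllBelow (eltOk elts table 8) 1024 :=
  AllBelow.step elt8_3 256 (by decide +kernel)

theorem elt8_5 : AllBelow (eltOk elts table 8) 1280 :=
  AllBelow.step elt8_4 256 (by decide +kernel)

theorem elt8_6 : AllBelow (eltOk elts table 8) 1536 :=
  AllBelow.step elt8_5 256 (by decide +kernel)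

theorem elt8_7 : AllBelow (eltOk elts table 8) 1782 :=
  AllBelow.step elt8_6 246 (by decide +kernel)

theorem elt9_0 : AllBelow (eltOk elts table 9) 0 := AllBelow.zero _

theorem elt9_1 : AllBelow (eltOk elts table 9) 256 :=
  AllBelow.step elt9_0 256 (by decide +kernel)

theorem elt9_2 : AllBelow (eltOk elts table 9) 512 :=
  AllBelow.step elt9_1 256 (by decide +kernel)

theorem elt9_3 : AllBelow (eltOk elts table 9) 768 :=
  AllBelow.step elt9_2 256 (by decide +kernel)

theorem elt9_4 : AllBelow (eltOk elts table 9) 1024 :=
  AllBelow.step elt9_3 256 (by decide +kernel)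

theorem elt9_5 : AllBelow (eltOk elts table 9) 1280 :=
  AllBelow.step elt9_4 256 (by decide +kernel)

theorem elt9_6 : AllBelow (eltOk elts table 9) 1536 :=
  AllBelow.step elt9_5 256 (by decide +kernel)

theorem elt9_7 : AllBelow (eltOk elts table 9) 1782 :=
  AllBelow.step elt9_6 246 (by decide +kernel)

theorem elt10_0 : AllBelow (eltOk elts table 10) 0 := AllBelow.zero _

theorem elt10_1 : AllBelow (eltOk elts table 10) 256 :=
  AllBelow.step elt10_0 256 (by decide +kernel)

theorem elt10_2 : AllBelow (eltOk elts table 10) 512 :=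
  AllBelow.step elt10_1 256 (by decide +kernel)

theorem elt10_3 : AllBelow (eltOk elts table 10) 768 :=
  AllBelow.step elt10_2 256 (by decide +kernel)

theorem elt10_4 : AllBelow (eltOk elts table 10) 1024 :=
  AllBelow.step elt10_3 256 (by decide +kernel)

theorem elt10_5 : AllBelow (eltOk elts table 10) 1280 :=
  AllBelow.step elt10_4 256 (by decide +kernel)

theorem elt10_6 : AllBelow (eltOk elts table 10) 1536 :=
  AllBelow.step elt10_5 256 (by decide +kernel)

theorem elt10_7 : AllBelow (eltOk elts table 10) 1782 :=
  AllBelow.step elt10_6 246 (by decide +kernel)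

theorem elt11_0 : AllBelow (eltOk elts table 11) 0 := AllBelow.zero _

theorem elt11_1 : AllBelow (eltOk elts table 11) 256 :=
  AllBelow.step elt11_0 256 (by decide +kernel)

theorem elt11_2 : AllBelow (eltOk elts table 11) 512 :=
  AllBelow.step elt11_1 256 (by decide +kernel)

theorem elt11_3 : AllBelow (eltOk elts table 11) 768 :=
  AllBelow.step elt11_2 256 (by decide +kernel)

theorem elt11_4 : AllBelow (eltOk elts table 11) 1024 :=
  AllBelow.step elt11_3 256 (by decide +kernel)

theorem elt11_5 : AllBelow (eltOk elts table 11) 1280 :=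
  AllBelow.step elt11_4 256 (by decide +kernel)

theorem elt11_6 : AllBelow (eltOk elts table 11) 1536 :=
  AllBelow.step elt11_5 256 (by decide +kernel)

theorem elt11_7 : AllBelow (eltOk elts table 11) 1782 :=
  AllBelow.step elt11_6 246 (by decide +kernel)

theorem elt12_0 : AllBelow (eltOk elts table 12) 0 := AllBelow.zero _

theorem elt12_1 : AllBelow (eltOk elts table 12) 256 :=
  AllBelow.step elt12_0 256 (by decide +kernel)

theorem elt12_2 : AllBelow (eltOk elts table 12) 512 :=
  AllBelow.step elt12_1 256 (by decide +kernel)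

theorem elt12_3 : AllBelow (eltOk elts table 12) 768 :=
  AllBelow.step elt12_2 256 (by decide +kernel)

theorem elt12_4 : AllBelow (eltOk elts table 12) 1024 :=
  AllBelow.step elt12_3 256 (by decide +kernel)

theorem elt12_5 : AllBelow (eltOk elts table 12) 1280 :=
  AllBelow.step elt12_4 256 (by decide +kernel)

theorem elt12_6 : AllBelow (eltOk elts table 12) 1536 :=
  AllBelow.step elt12_5 256 (by decide +kernel)

theorem elt12_7 : AllBelow (eltOk elts table 12) 1782 :=
  AllBelow.step elt12_6 246 (by decide +kernel)

theorem elt13_0 : AllBelow (eltOk elts table 13) 0 := AllBelow.zero _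

theorem elt13_1 : AllBelow (eltOk elts table 13) 256 :=
  AllBelow.step elt13_0 256 (by decide +kernel)

theorem elt13_2 : AllBelow (eltOk elts table 13) 512 :=
  AllBelow.step elt13_1 256 (by decide +kernel)

theorem elt13_3 : AllBelow (eltOk elts table 13) 768 :=
  AllBelow.step elt13_2 256 (by decide +kernel)

theorem elt13_4 : AllBelow (eltOk elts table 13) 1024 :=
  AllBelow.step elt13_3 256 (by decide +kernel)

theorem elt13_5 : AllBelow (eltOk elts table 13) 1280 :=
  AllBelow.step elt13_4 256 (by decide +kernel)

theorem elt13_6 : AllBelow (eltOk elts table 13) 1536 :=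
  AllBelow.step elt13_5 256 (by decide +kernel)

theorem elt13_7 : AllBelow (eltOk elts table 13) 1782 :=
  AllBelow.step elt13_6 246 (by decide +kernel)

theorem elt14_0 : AllBelow (eltOk elts table 14) 0 := AllBelow.zero _

theorem elt14_1 : AllBelow (eltOk elts table 14) 256 :=
  AllBelow.step elt14_0 256 (by decide +kernel)

theorem elt14_2 : AllBelow (eltOk elts table 14) 512 :=
  AllBelow.step elt14_1 256 (by decide +kernel)

theorem elt14_3 : AllBelow (eltOk elts table 14) 768 :=
  AllBelow.step elt14_2 256 (by decide +kernel)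

theorem elt14_4 : AllBelow (eltOk elts table 14) 1024 :=
  AllBelow.step elt14_3 256 (by decide +kernel)

theorem elt14_5 : AllBelow (eltOk elts table 14) 1280 :=
  AllBelow.step elt14_4 256 (by decide +kernel)

theorem elt14_6 : AllBelow (eltOk elts table 14) 1536 :=
  AllBelow.step elt14_5 256 (by decide +kernel)

theorem elt14_7 : AllBelow (eltOk elts table 14) 1782 :=
  AllBelow.step elt14_6 246 (by decide +kernel)

theorem elt15_0 : AllBelow (eltOk elts table 15) 0 := AllBelow.zero _

theorem elt15_1 : AllBelow (eltOk elts table 15) 256 :=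
  AllBelow.step elt15_0 256 (by decide +kernel)

theorem elt15_2 : AllBelow (eltOk elts table 15) 512 :=
  AllBelow.step elt15_1 256 (by decide +kernel)

theorem elt15_3 : AllBelow (eltOk elts table 15) 768 :=
  AllBelow.step elt15_2 256 (by decide +kernel)

theorem elt15_4 : AllBelow (eltOk elts table 15) 1024 :=
  AllBelow.step elt15_3 256 (by decide +kernel)

theorem elt15_5 : AllBelow (eltOk elts table 15) 1280 :=
  AllBelow.step elt15_4 256 (by decide +kernel)

theorem elt15_6 : AllBelow (eltOk elts table 15) 1536 :=
  AllBelow.step elt15_5 256 (by decide +kernel)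

theorem elt15_7 : AllBelow (eltOk elts table 15) 1782 :=
  AllBelow.step elt15_6 246 (by decide +kernel)

theorem elt16_0 : AllBelow (eltOk elts table 16) 0 := AllBelow.zero _

theorem elt16_1 : AllBelow (eltOk elts table 16) 256 :=
  AllBelow.step elt16_0 256 (by decide +kernel)

theorem elt16_2 : AllBelow (eltOk elts table 16) 512 :=
  AllBelow.step elt16_1 256 (by decide +kernel)

theorem elt16_3 : AllBelow (eltOk elts table 16) 768 :=
  AllBelow.step elt16_2 256 (by decide +kernel)

theorem elt16_4 : AllBelow (eltOk elts table 16) 1024 :=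
  AllBelow.step elt16_3 256 (by decide +kernel)

theorem elt16_5 : AllBelow (eltOk elts table 16) 1280 :=
  AllBelow.step elt16_4 256 (by decide +kernel)

theorem elt16_6 : AllBelow (eltOk elts table 16) 1536 :=
  AllBelow.step elt16_5 256 (by decide +kernel)

theorem elt16_7 : AllBelow (eltOk elts table 16) 1782 :=
  AllBelow.step elt16_6 246 (by decide +kernel)

theorem elts_ok : ∀ k, k < elts.words.length → AllBelow (eltOk elts table k) table.N := by
  intro k hk
  have hk' : k < 17 := hk
  match k, hk' with
  | 0, _ => exact elt0_7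
  | 1, _ => exact elt1_7
  | 2, _ => exact elt2_7
  | 3, _ => exact elt3_7
  | 4, _ => exact elt4_7
  | 5, _ => exact elt5_7
  | 6, _ => exact elt6_7
  | 7, _ => exact elt7_7
  | 8, _ => exact elt8_7
  | 9, _ => exact elt9_7
  | 10, _ => exact elt10_7
  | 11, _ => exact elt11_7
  | 12, _ => exact elt12_7
  | 13, _ => exact elt13_7
  | 14, _ => exact elt14_7
  | 15, _ => exact elt15_7
  | 16, _ => exact elt16_7
  | n + 17, h => omega

theorem fix0 : fixOk elts table [0, 1, 2, 3, 4, 5, 6] [] = true := by decide +kernel

theorem stage0_ok : AllBelow (stageOk elts table stage0 [0, 1, 2, 3, 4, 5, 6] 0) table.N := by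
  intro i hi
  exact (allFrom_iff _ table.N 0).mp (by decide +kernel) i (Nat.zero_le i) (by omega)

theorem stage0_count : countLabel stage0 1 table.N = 1782 := by decide +kernel

theorem fix1 : fixOk elts table [7, 8, 11, 12, 15, 16, 19, 20, 23] [0] = true := by decide +kernel

theorem stage1_ok : AllBelow (stageOk elts table stage1 [7, 8, 11, 12, 15, 16, 19, 20, 23] 1) table.N := by
  intro i hi
  exact (allFrom_iff _ table.N 0).mp (by decide +kernel) i (Nat.zero_le i) (by omega)

theorem stage1_count : countLabel stage1 1 table.N = 1365 := by decide +kernel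

theorem fix2 : fixOk elts table [11, 12, 15, 16, 19, 20, 23] [1, 0] = true := by decide +kernel

theorem stage2_ok : AllBelow (stageOk elts table stage2 [11, 12, 15, 16, 19, 20, 23] 2) table.N := by
  intro i hi
  exact (allFrom_iff _ table.N 0).mp (by decide +kernel) i (Nat.zero_le i) (by omega)

theorem stage2_count : countLabel stage2 1 table.N = 1024 := by decide +kernel

theorem fix3 : fixOk elts table [16, 19, 20, 23] [2, 1, 0] = true := by decide +kernel

theorem stage3_ok : AllBelow (stageOk elts table stage3 [16, 19, 20, 23] 3) table.N := by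
  intro i hi
  exact (allFrom_iff _ table.N 0).mp (by decide +kernel) i (Nat.zero_le i) (by omega)

theorem stage3_count : countLabel stage3 1 table.N = 3 := by decide +kernel

theorem fix4 : fixOk elts table [19, 20, 23] [3, 2, 1, 0] = true := by decide +kernel

theorem stage4_ok : AllBelow (stageOk elts table stage4 [19, 20, 23] 4) table.N := by
  intro i hi
  exact (allFrom_iff _ table.N 0).mp (by decide +kernel) i (Nat.zero_le i) (by omega)

theorem stage4_count : countLabel stage4 1 table.N = 5 := by decide +kernel

theorem fix5 : fixOk elts table [20, 23] [4, 3, 2, 1, 0] = true := by decide +kernel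

theorem stage5_ok : AllBelow (stageOk elts table stage5 [20, 23] 8) table.N := by
  intro i hi
  exact (allFrom_iff _ table.N 0).mp (by decide +kernel) i (Nat.zero_le i) (by omega)

theorem stage5_count : countLabel stage5 1 table.N = 4 := by decide +kernel

theorem fix6 : fixOk elts table [23] [8, 4, 3, 2, 1, 0] = true := by decide +kernel

theorem stage6_ok : AllBelow (stageOk elts table stage6 [23] 14) table.N := by
  intro i hi
  exact (allFrom_iff _ table.N 0).mp (by decide +kernel) i (Nat.zero_le i) (by omega)

theorem stage6_count : countLabel stage6 1 table.N = 3 := by decide +kernel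

end Cfsg.Agent.CosetCertSuzSgs
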