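import Cfsg.Agent.Lib.CosetCertSuzUData

/-! Part of the checks of a coset enumeration in the presented group Suz. -/

set_option autoImplicit false
set_option maxRecDepth 100000
set_option Elab.async false

namespace Cfsg.Agent.CosetCertSuzUP10

open Cfsg.Agent.CosetCertCore Cfsg.Agent.CosetCertTable Cfsg.Agent.CosetCertPres Cfsg.Agent.CosetCertSuzUData

theorem points311c : allFrom (pointOk cert 95712 table) 64 19840 = true := by decide +kernel

theorem points312c : allFrom (pointOk cert 95712 table) 64 19904 = true := by decide +kernel

theorem points313c : allFrom (pointOk cert 95712 table) 64 19968 = true := by decide +kernel

theorem points314c : allFrom (pointOk cert 95712 table) 64 20032 = true := by decide +kernel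

theorem points315c : allFrom (pointOk cert 95712 table) 64 20096 = true := by decide +kernel

theorem points316c : allFrom (pointOk cert 95712 table) 64 20160 = true := by decide +kernel

theorem points317c : allFrom (pointOk cert 95712 table) 64 20224 = true := by decide +kernel

theorem points318c : allFrom (pointOk cert 95712 table) 64 20288 = true := by decide +kernel

theorem points319c : allFrom (pointOk cert 95712 table) 64 20352 = true := by decide +kernel

theorem points320c : allFrom (pointOk cert 95712 table) 64 20416 = true := by decide +kernel

theorem points321c : allFrom (pointOk cert 95712 table) 64 20480 = true := by decide +kernel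

theorem points322c : allFrom (pointOk cert 95712 table) 64 20544 = true := by decide +kernel

theorem points323c : allFrom (pointOk cert 95712 table) 64 20608 = true := by decide +kernel

theorem points324c : allFrom (pointOk cert 95712 table) 64 20672 = true := by decide +kernel

theorem points325c : allFrom (pointOk cert 95712 table) 64 20736 = true := by decide +kernel

theorem points326c : allFrom (pointOk cert 95712 table) 64 20800 = true := by decide +kernel

theorem points327c : allFrom (pointOk cert 95712 table) 64 20864 = true := by decide +kernel

theorem points328c : allFrom (pointOk cert 95712 table) 64 20928 = true := by decide +kernel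

theorem points329c : allFrom (pointOk cert 95712 table) 64 20992 = true := by decide +kernel

theorem points330c : allFrom (pointOk cert 95712 table) 64 21056 = true := by decide +kernel

theorem points331c : allFrom (pointOk cert 95712 table) 64 21120 = true := by decide +kernel

theorem points332c : allFrom (pointOk cert 95712 table) 64 21184 = true := by decide +kernel

theorem points333c : allFrom (pointOk cert 95712 table) 64 21248 = true := by decide +kernel

theorem points334c : allFrom (pointOk cert 95712 table) 64 21312 = true := by decide +kernel

theorem points335c : allFrom (pointOk cert 95712 table) 64 21376 = true := by decide +kernel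

theorem points336c : allFrom (pointOk cert 95712 table) 64 21440 = true := by decide +kernel

theorem points337c : allFrom (pointOk cert 95712 table) 64 21504 = true := by decide +kernel

theorem points338c : allFrom (pointOk cert 95712 table) 64 21568 = true := by decide +kernel

theorem points339c : allFrom (pointOk cert 95712 table) 64 21632 = true := by decide +kernel

theorem points340c : allFrom (pointOk cert 95712 table) 64 21696 = true := by decide +kernel

theorem points341c : allFrom (pointOk cert 95712 table) 64 21760 = true := by decide +kernel

theorem rels311c : allFrom (relsOk cert.rels table) 64 19840 = true := by decide +kernel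

theorem rels312c : allFrom (relsOk cert.rels table) 64 19904 = true := by decide +kernel

theorem rels313c : allFrom (relsOk cert.rels table) 64 19968 = true := by decide +kernel

theorem rels314c : allFrom (relsOk cert.rels table) 64 20032 = true := by decide +kernel

theorem rels315c : allFrom (relsOk cert.rels table) 64 20096 = true := by decide +kernel

theorem rels316c : allFrom (relsOk cert.rels table) 64 20160 = true := by decide +kernel

theorem rels317c : allFrom (relsOk cert.rels table) 64 20224 = true := by decide +kernel

theorem rels318c : allFrom (relsOk cert.rels table) 64 20288 = true := by decide +kernel

theorem rels319c : allFrom (relsOk cert.rels table) 64 20352 = true := by decide +kernel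

theorem rels320c : allFrom (relsOk cert.rels table) 64 20416 = true := by decide +kernel

theorem rels321c : allFrom (relsOk cert.rels table) 64 20480 = true := by decide +kernel

theorem rels322c : allFrom (relsOk cert.rels table) 64 20544 = true := by decide +kernel

theorem rels323c : allFrom (relsOk cert.rels table) 64 20608 = true := by decide +kernel

theorem rels324c : allFrom (relsOk cert.rels table) 64 20672 = true := by decide +kernel

theorem rels325c : allFrom (relsOk cert.rels table) 64 20736 = true := by decide +kernel

theorem rels326c : allFrom (relsOk cert.rels table) 64 20800 = true := by decide +kernel

theorem rels327c : allFrom (relsOk cert.rels table) 64 20864 = true := by decide +kernel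

theorem rels328c : allFrom (relsOk cert.rels table) 64 20928 = true := by decide +kernel

theorem rels329c : allFrom (relsOk cert.rels table) 64 20992 = true := by decide +kernel

theorem rels330c : allFrom (relsOk cert.rels table) 64 21056 = true := by decide +kernel

theorem rels331c : allFrom (relsOk cert.rels table) 64 21120 = true := by decide +kernel

theorem rels332c : allFrom (relsOk cert.rels table) 64 21184 = true := by decide +kernel

theorem rels333c : allFrom (relsOk cert.rels table) 64 21248 = true := by decide +kernel

theorem rels334c : allFrom (relsOk cert.rels table) 64 21312 = true := by decide +kernel

theorem rels335c : allFrom (relsOk cert.rels table) 64 21376 = true := by decide +kernel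

theorem rels336c : allFrom (relsOk cert.rels table) 64 21440 = true := by decide +kernel

theorem rels337c : allFrom (relsOk cert.rels table) 64 21504 = true := by decide +kernel

theorem rels338c : allFrom (relsOk cert.rels table) 64 21568 = true := by decide +kernel

theorem rels339c : allFrom (relsOk cert.rels table) 64 21632 = true := by decide +kernel

theorem rels340c : allFrom (relsOk cert.rels table) 64 21696 = true := by decide +kernel

theorem rels341c : allFrom (relsOk cert.rels table) 64 21760 = true := by decide +kernel

theorem orb311c : allFrom (orbOk orbTbl roots cert.sgens table) 64 19840 = true := by decide +kernel

theorem orb312c : allFrom (orbOk orbTbl roots cert.sgens table) 64 19904 = true := by decide +kernel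

theorem orb313c : allFrom (orbOk orbTbl roots cert.sgens table) 64 19968 = true := by decide +kernel

theorem orb314c : allFrom (orbOk orbTbl roots cert.sgens table) 64 20032 = true := by decide +kernel

theorem orb315c : allFrom (orbOk orbTbl roots cert.sgens table) 64 20096 = true := by decide +kernel

theorem orb316c : allFrom (orbOk orbTbl roots cert.sgens table) 64 20160 = true := by decide +kernel

theorem orb317c : allFrom (orbOk orbTbl roots cert.sgens table) 64 20224 = true := by decide +kernel

theorem orb318c : allFrom (orbOk orbTbl roots cert.sgens table) 64 20288 = true := by decide +kernel

theorem orb319c : allFrom (orbOk orbTbl roots cert.sgens table) 64 20352 = true := by decide +kernel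

theorem orb320c : allFrom (orbOk orbTbl roots cert.sgens table) 64 20416 = true := by decide +kernel

theorem orb321c : allFrom (orbOk orbTbl roots cert.sgens table) 64 20480 = true := by decide +kernel

theorem orb322c : allFrom (orbOk orbTbl roots cert.sgens table) 64 20544 = true := by decide +kernel

theorem orb323c : allFrom (orbOk orbTbl roots cert.sgens table) 64 20608 = true := by decide +kernel

theorem orb324c : allFrom (orbOk orbTbl roots cert.sgens table) 64 20672 = true := by decide +kernel

theorem orb325c : allFrom (orbOk orbTbl roots cert.sgens table) 64 20736 = true := by decide +kernel

theorem orb326c : allFrom (orbOk orbTbl roots cert.sgens table) 64 20800 = true := by decide +kernel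

theorem orb327c : allFrom (orbOk orbTbl roots cert.sgens table) 64 20864 = true := by decide +kernel

theorem orb328c : allFrom (orbOk orbTbl roots cert.sgens table) 64 20928 = true := by decide +kernel

theorem orb329c : allFrom (orbOk orbTbl roots cert.sgens table) 64 20992 = true := by decide +kernel

theorem orb330c : allFrom (orbOk orbTbl roots cert.sgens table) 64 21056 = true := by decide +kernel

theorem orb331c : allFrom (orbOk orbTbl roots cert.sgens table) 64 21120 = true := by decide +kernel

theorem orb332c : allFrom (orbOk orbTbl roots cert.sgens table) 64 21184 = true := by decide +kernel

theorem orb333c : allFrom (orbOk orbTbl roots cert.sgens table) 64 21248 = true := by decide +kernel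

theorem orb334c : allFrom (orbOk orbTbl roots cert.sgens table) 64 21312 = true := by decide +kernel

theorem orb335c : allFrom (orbOk orbTbl roots cert.sgens table) 64 21376 = true := by decide +kernel

theorem orb336c : allFrom (orbOk orbTbl roots cert.sgens table) 64 21440 = true := by decide +kernel

theorem orb337c : allFrom (orbOk orbTbl roots cert.sgens table) 64 21504 = true := by decide +kernel

theorem orb338c : allFrom (orbOk orbTbl roots cert.sgens table) 64 21568 = true := by decide +kernel

theorem orb339c : allFrom (orbOk orbTbl roots cert.sgens table) 64 21632 = true := by decide +kernel

theorem orb340c : allFrom (orbOk orbTbl roots cert.sgens table) 64 21696 = true := by decide +kernel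

theorem orb341c : allFrom (orbOk orbTbl roots cert.sgens table) 64 21760 = true := by decide +kernel

end Cfsg.Agent.CosetCertSuzUP10
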