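import Cfsg.Agent.Lib.CosetCertSuzUData

/-! Part of the checks of a coset enumeration in the presented group Suz. -/

set_option autoImplicit false
set_option maxRecDepth 100000
set_option Elab.async false

namespace Cfsg.Agent.CosetCertSuzUP11

open Cfsg.Agent.CosetCertCore Cfsg.Agent.CosetCertTable Cfsg.Agent.CosetCertPres Cfsg.Agent.CosetCertSuzUData

theorem points342c : allFrom (pointOk cert 95712 table) 64 21824 = true := by decide +kernel

theorem points343c : allFrom (pointOk cert 95712 table) 64 21888 = true := by decide +kernel

theorem points344c : allFrom (pointOk cert 95712 table) 64 21952 = true := by decide +kernel

theorem points345c : allFrom (pointOk cert 95712 table) 64 22016 = true := by decide +kernel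

theorem points346c : allFrom (pointOk cert 95712 table) 64 22080 = true := by decide +kernel

theorem points347c : allFrom (pointOk cert 95712 table) 64 22144 = true := by decide +kernel

theorem points348c : allFrom (pointOk cert 95712 table) 64 22208 = true := by decide +kernel

theorem points349c : allFrom (pointOk cert 95712 table) 64 22272 = true := by decide +kernel

theorem points350c : allFrom (pointOk cert 95712 table) 64 22336 = true := by decide +kernel

theorem points351c : allFrom (pointOk cert 95712 table) 64 22400 = true := by decide +kernel

theorem points352c : allFrom (pointOk cert 95712 table) 64 22464 = true := by decide +kernel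

theorem points353c : allFrom (pointOk cert 95712 table) 64 22528 = true := by decide +kernel

theorem points354c : allFrom (pointOk cert 95712 table) 64 22592 = true := by decide +kernel

theorem points355c : allFrom (pointOk cert 95712 table) 64 22656 = true := by decide +kernel

theorem points356c : allFrom (pointOk cert 95712 table) 64 22720 = true := by decide +kernel

theorem points357c : allFrom (pointOk cert 95712 table) 64 22784 = true := by decide +kernel

theorem points358c : allFrom (pointOk cert 95712 table) 32 22848 = true := by decide +kernel

theorem rels342c : allFrom (relsOk cert.rels table) 64 21824 = true := by decide +kernel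

theorem rels343c : allFrom (relsOk cert.rels table) 64 21888 = true := by decide +kernel

theorem rels344c : allFrom (relsOk cert.rels table) 64 21952 = true := by decide +kernel

theorem rels345c : allFrom (relsOk cert.rels table) 64 22016 = true := by decide +kernel

theorem rels346c : allFrom (relsOk cert.rels table) 64 22080 = true := by decide +kernel

theorem rels347c : allFrom (relsOk cert.rels table) 64 22144 = true := by decide +kernel

theorem rels348c : allFrom (relsOk cert.rels table) 64 22208 = true := by decide +kernel

theorem rels349c : allFrom (relsOk cert.rels table) 64 22272 = true := by decide +kernel

theorem rels350c : allFrom (relsOk cert.rels table) 64 22336 = true := by decide +kernel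

theorem rels351c : allFrom (relsOk cert.rels table) 64 22400 = true := by decide +kernel

theorem rels352c : allFrom (relsOk cert.rels table) 64 22464 = true := by decide +kernel

theorem rels353c : allFrom (relsOk cert.rels table) 64 22528 = true := by decide +kernel

theorem rels354c : allFrom (relsOk cert.rels table) 64 22592 = true := by decide +kernel

theorem rels355c : allFrom (relsOk cert.rels table) 64 22656 = true := by decide +kernel

theorem rels356c : allFrom (relsOk cert.rels table) 64 22720 = true := by decide +kernel

theorem rels357c : allFrom (relsOk cert.rels table) 64 22784 = true := by decide +kernel

theorem rels358c : allFrom (relsOk cert.rels table) 32 22848 = true := by decide +kernel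

theorem orb342c : allFrom (orbOk orbTbl roots cert.sgens table) 64 21824 = true := by decide +kernel

theorem orb343c : allFrom (orbOk orbTbl roots cert.sgens table) 64 21888 = true := by decide +kernel

theorem orb344c : allFrom (orbOk orbTbl roots cert.sgens table) 64 21952 = true := by decide +kernel

theorem orb345c : allFrom (orbOk orbTbl roots cert.sgens table) 64 22016 = true := by decide +kernel

theorem orb346c : allFrom (orbOk orbTbl roots cert.sgens table) 64 22080 = true := by decide +kernel

theorem orb347c : allFrom (orbOk orbTbl roots cert.sgens table) 64 22144 = true := by decide +kernel

theorem orb348c : allFrom (orbOk orbTbl roots cert.sgens table) 64 22208 = true := by decide +kernel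

theorem orb349c : allFrom (orbOk orbTbl roots cert.sgens table) 64 22272 = true := by decide +kernel

theorem orb350c : allFrom (orbOk orbTbl roots cert.sgens table) 64 22336 = true := by decide +kernel

theorem orb351c : allFrom (orbOk orbTbl roots cert.sgens table) 64 22400 = true := by decide +kernel

theorem orb352c : allFrom (orbOk orbTbl roots cert.sgens table) 64 22464 = true := by decide +kernel

theorem orb353c : allFrom (orbOk orbTbl roots cert.sgens table) 64 22528 = true := by decide +kernel

theorem orb354c : allFrom (orbOk orbTbl roots cert.sgens table) 64 22592 = true := by decide +kernel

theorem orb355c : allFrom (orbOk orbTbl roots cert.sgens table) 64 22656 = true := by decide +kernel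

theorem orb356c : allFrom (orbOk orbTbl roots cert.sgens table) 64 22720 = true := by decide +kernel

theorem orb357c : allFrom (orbOk orbTbl roots cert.sgens table) 64 22784 = true := by decide +kernel

theorem orb358c : allFrom (orbOk orbTbl roots cert.sgens table) 32 22848 = true := by decide +kernel

end Cfsg.Agent.CosetCertSuzUP11
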