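import Cfsg.Agent.Lib.CosetCertSuzUData

/-! Part of the checks of a coset enumeration in the presented group Suz. -/

set_option autoImplicit false
set_option maxRecDepth 100000
set_option Elab.async false

namespace Cfsg.Agent.CosetCertSuzUP2

open Cfsg.Agent.CosetCertCore Cfsg.Agent.CosetCertTable Cfsg.Agent.CosetCertPres Cfsg.Agent.CosetCertSuzUData

theorem points63c : allFrom (pointOk cert 95712 table) 64 3968 = true := by decide +kernel

theorem points64c : allFrom (pointOk cert 95712 table) 64 4032 = true := by decide +kernel

theorem points65c : allFrom (pointOk cert 95712 table) 64 4096 = true := by decide +kernel

theorem points66c : allFrom (pointOk cert 95712 table) 64 4160 = true := by decide +kernel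

theorem points67c : allFrom (pointOk cert 95712 table) 64 4224 = true := by decide +kernel

theorem points68c : allFrom (pointOk cert 95712 table) 64 4288 = true := by decide +kernel

theorem points69c : allFrom (pointOk cert 95712 table) 64 4352 = true := by decide +kernel

theorem points70c : allFrom (pointOk cert 95712 table) 64 4416 = true := by decide +kernel

theorem points71c : allFrom (pointOk cert 95712 table) 64 4480 = true := by decide +kernel

theorem points72c : allFrom (pointOk cert 95712 table) 64 4544 = true := by decide +kernel

theorem points73c : allFrom (pointOk cert 95712 table) 64 4608 = true := by decide +kernel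

theorem points74c : allFrom (pointOk cert 95712 table) 64 4672 = true := by decide +kernel

theorem points75c : allFrom (pointOk cert 95712 table) 64 4736 = true := by decide +kernel

theorem points76c : allFrom (pointOk cert 95712 table) 64 4800 = true := by decide +kernel

theorem points77c : allFrom (pointOk cert 95712 table) 64 4864 = true := by decide +kernel

theorem points78c : allFrom (pointOk cert 95712 table) 64 4928 = true := by decide +kernel

theorem points79c : allFrom (pointOk cert 95712 table) 64 4992 = true := by decide +kernel

theorem points80c : allFrom (pointOk cert 95712 table) 64 5056 = true := by decide +kernel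

theorem points81c : allFrom (pointOk cert 95712 table) 64 5120 = true := by decide +kernel

theorem points82c : allFrom (pointOk cert 95712 table) 64 5184 = true := by decide +kernel

theorem points83c : allFrom (pointOk cert 95712 table) 64 5248 = true := by decide +kernel

theorem points84c : allFrom (pointOk cert 95712 table) 64 5312 = true := by decide +kernel

theorem points85c : allFrom (pointOk cert 95712 table) 64 5376 = true := by decide +kernel

theorem points86c : allFrom (pointOk cert 95712 table) 64 5440 = true := by decide +kernel

theorem points87c : allFrom (pointOk cert 95712 table) 64 5504 = true := by decide +kernel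

theorem points88c : allFrom (pointOk cert 95712 table) 64 5568 = true := by decide +kernel

theorem points89c : allFrom (pointOk cert 95712 table) 64 5632 = true := by decide +kernel

theorem points90c : allFrom (pointOk cert 95712 table) 64 5696 = true := by decide +kernel

theorem points91c : allFrom (pointOk cert 95712 table) 64 5760 = true := by decide +kernel

theorem points92c : allFrom (pointOk cert 95712 table) 64 5824 = true := by decide +kernel

theorem points93c : allFrom (pointOk cert 95712 table) 64 5888 = true := by decide +kernel

theorem rels63c : allFrom (relsOk cert.rels table) 64 3968 = true := by decide +kernel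

theorem rels64c : allFrom (relsOk cert.rels table) 64 4032 = true := by decide +kernel

theorem rels65c : allFrom (relsOk cert.rels table) 64 4096 = true := by decide +kernel

theorem rels66c : allFrom (relsOk cert.rels table) 64 4160 = true := by decide +kernel

theorem rels67c : allFrom (relsOk cert.rels table) 64 4224 = true := by decide +kernel

theorem rels68c : allFrom (relsOk cert.rels table) 64 4288 = true := by decide +kernel

theorem rels69c : allFrom (relsOk cert.rels table) 64 4352 = true := by decide +kernel

theorem rels70c : allFrom (relsOk cert.rels table) 64 4416 = true := by decide +kernel

theorem rels71c : allFrom (relsOk cert.rels table) 64 4480 = true := by decide +kernel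

theorem rels72c : allFrom (relsOk cert.rels table) 64 4544 = true := by decide +kernel

theorem rels73c : allFrom (relsOk cert.rels table) 64 4608 = true := by decide +kernel

theorem rels74c : allFrom (relsOk cert.rels table) 64 4672 = true := by decide +kernel

theorem rels75c : allFrom (relsOk cert.rels table) 64 4736 = true := by decide +kernel

theorem rels76c : allFrom (relsOk cert.rels table) 64 4800 = true := by decide +kernel

theorem rels77c : allFrom (relsOk cert.rels table) 64 4864 = true := by decide +kernel

theorem rels78c : allFrom (relsOk cert.rels table) 64 4928 = true := by decide +kernel

theorem rels79c : allFrom (relsOk cert.rels table) 64 4992 = true := by decide +kernel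

theorem rels80c : allFrom (relsOk cert.rels table) 64 5056 = true := by decide +kernel

theorem rels81c : allFrom (relsOk cert.rels table) 64 5120 = true := by decide +kernel

theorem rels82c : allFrom (relsOk cert.rels table) 64 5184 = true := by decide +kernel

theorem rels83c : allFrom (relsOk cert.rels table) 64 5248 = true := by decide +kernel

theorem rels84c : allFrom (relsOk cert.rels table) 64 5312 = true := by decide +kernel

theorem rels85c : allFrom (relsOk cert.rels table) 64 5376 = true := by decide +kernel

theorem rels86c : allFrom (relsOk cert.rels table) 64 5440 = true := by decide +kernel

theorem rels87c : allFrom (relsOk cert.rels table) 64 5504 = true := by decide +kernel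

theorem rels88c : allFrom (relsOk cert.rels table) 64 5568 = true := by decide +kernel

theorem rels89c : allFrom (relsOk cert.rels table) 64 5632 = true := by decide +kernel

theorem rels90c : allFrom (relsOk cert.rels table) 64 5696 = true := by decide +kernel

theorem rels91c : allFrom (relsOk cert.rels table) 64 5760 = true := by decide +kernel

theorem rels92c : allFrom (relsOk cert.rels table) 64 5824 = true := by decide +kernel

theorem rels93c : allFrom (relsOk cert.rels table) 64 5888 = true := by decide +kernel

theorem orb63c : allFrom (orbOk orbTbl roots cert.sgens table) 64 3968 = true := by decide +kernel

theorem orb64c : allFrom (orbOk orbTbl roots cert.sgens table) 64 4032 = true := by decide +kernel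

theorem orb65c : allFrom (orbOk orbTbl roots cert.sgens table) 64 4096 = true := by decide +kernel

theorem orb66c : allFrom (orbOk orbTbl roots cert.sgens table) 64 4160 = true := by decide +kernel

theorem orb67c : allFrom (orbOk orbTbl roots cert.sgens table) 64 4224 = true := by decide +kernel

theorem orb68c : allFrom (orbOk orbTbl roots cert.sgens table) 64 4288 = true := by decide +kernel

theorem orb69c : allFrom (orbOk orbTbl roots cert.sgens table) 64 4352 = true := by decide +kernel

theorem orb70c : allFrom (orbOk orbTbl roots cert.sgens table) 64 4416 = true := by decide +kernel

theorem orb71c : allFrom (orbOk orbTbl roots cert.sgens table) 64 4480 = true := by decide +kernel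

theorem orb72c : allFrom (orbOk orbTbl roots cert.sgens table) 64 4544 = true := by decide +kernel

theorem orb73c : allFrom (orbOk orbTbl roots cert.sgens table) 64 4608 = true := by decide +kernel

theorem orb74c : allFrom (orbOk orbTbl roots cert.sgens table) 64 4672 = true := by decide +kernel

theorem orb75c : allFrom (orbOk orbTbl roots cert.sgens table) 64 4736 = true := by decide +kernel

theorem orb76c : allFrom (orbOk orbTbl roots cert.sgens table) 64 4800 = true := by decide +kernel

theorem orb77c : allFrom (orbOk orbTbl roots cert.sgens table) 64 4864 = true := by decide +kernel

theorem orb78c : allFrom (orbOk orbTbl roots cert.sgens table) 64 4928 = true := by decide +kernel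

theorem orb79c : allFrom (orbOk orbTbl roots cert.sgens table) 64 4992 = true := by decide +kernel

theorem orb80c : allFrom (orbOk orbTbl roots cert.sgens table) 64 5056 = true := by decide +kernel

theorem orb81c : allFrom (orbOk orbTbl roots cert.sgens table) 64 5120 = true := by decide +kernel

theorem orb82c : allFrom (orbOk orbTbl roots cert.sgens table) 64 5184 = true := by decide +kernel

theorem orb83c : allFrom (orbOk orbTbl roots cert.sgens table) 64 5248 = true := by decide +kernel

theorem orb84c : allFrom (orbOk orbTbl roots cert.sgens table) 64 5312 = true := by decide +kernel

theorem orb85c : allFrom (orbOk orbTbl roots cert.sgens table) 64 5376 = true := by decide +kernel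

theorem orb86c : allFrom (orbOk orbTbl roots cert.sgens table) 64 5440 = true := by decide +kernel

theorem orb87c : allFrom (orbOk orbTbl roots cert.sgens table) 64 5504 = true := by decide +kernel

theorem orb88c : allFrom (orbOk orbTbl roots cert.sgens table) 64 5568 = true := by decide +kernel

theorem orb89c : allFrom (orbOk orbTbl roots cert.sgens table) 64 5632 = true := by decide +kernel

theorem orb90c : allFrom (orbOk orbTbl roots cert.sgens table) 64 5696 = true := by decide +kernel

theorem orb91c : allFrom (orbOk orbTbl roots cert.sgens table) 64 5760 = true := by decide +kernel

theorem orb92c : allFrom (orbOk orbTbl roots cert.sgens table) 64 5824 = true := by decide +kernel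

theorem orb93c : allFrom (orbOk orbTbl roots cert.sgens table) 64 5888 = true := by decide +kernel

end Cfsg.Agent.CosetCertSuzUP2
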