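import Cfsg.Agent.Lib.CosetCertSuzUData

/-! Part of the checks of a coset enumeration in the presented group Suz. -/

set_option autoImplicit false
set_option maxRecDepth 100000
set_option Elab.async false

namespace Cfsg.Agent.CosetCertSuzUP3

open Cfsg.Agent.CosetCertCore Cfsg.Agent.CosetCertTable Cfsg.Agent.CosetCertPres Cfsg.Agent.CosetCertSuzUData

theorem points94c : allFrom (pointOk cert 95712 table) 64 5952 = true := by decide +kernel

theorem points95c : allFrom (pointOk cert 95712 table) 64 6016 = true := by decide +kernel

theorem points96c : allFrom (pointOk cert 95712 table) 64 6080 = true := by decide +kernel

theorem points97c : allFrom (pointOk cert 95712 table) 64 6144 = true := by decide +kernel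

theorem points98c : allFrom (pointOk cert 95712 table) 64 6208 = true := by decide +kernel

theorem points99c : allFrom (pointOk cert 95712 table) 64 6272 = true := by decide +kernel

theorem points100c : allFrom (pointOk cert 95712 table) 64 6336 = true := by decide +kernel

theorem points101c : allFrom (pointOk cert 95712 table) 64 6400 = true := by decide +kernel

theorem points102c : allFrom (pointOk cert 95712 table) 64 6464 = true := by decide +kernel

theorem points103c : allFrom (pointOk cert 95712 table) 64 6528 = true := by decide +kernel

theorem points104c : allFrom (pointOk cert 95712 table) 64 6592 = true := by decide +kernel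

theorem points105c : allFrom (pointOk cert 95712 table) 64 6656 = true := by decide +kernel

theorem points106c : allFrom (pointOk cert 95712 table) 64 6720 = true := by decide +kernel

theorem points107c : allFrom (pointOk cert 95712 table) 64 6784 = true := by decide +kernel

theorem points108c : allFrom (pointOk cert 95712 table) 64 6848 = true := by decide +kernel

theorem points109c : allFrom (pointOk cert 95712 table) 64 6912 = true := by decide +kernel

theorem points110c : allFrom (pointOk cert 95712 table) 64 6976 = true := by decide +kernel

theorem points111c : allFrom (pointOk cert 95712 table) 64 7040 = true := by decide +kernel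

theorem points112c : allFrom (pointOk cert 95712 table) 64 7104 = true := by decide +kernel

theorem points113c : allFrom (pointOk cert 95712 table) 64 7168 = true := by decide +kernel

theorem points114c : allFrom (pointOk cert 95712 table) 64 7232 = true := by decide +kernel

theorem points115c : allFrom (pointOk cert 95712 table) 64 7296 = true := by decide +kernel

theorem points116c : allFrom (pointOk cert 95712 table) 64 7360 = true := by decide +kernel

theorem points117c : allFrom (pointOk cert 95712 table) 64 7424 = true := by decide +kernel

theorem points118c : allFrom (pointOk cert 95712 table) 64 7488 = true := by decide +kernel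

theorem points119c : allFrom (pointOk cert 95712 table) 64 7552 = true := by decide +kernel

theorem points120c : allFrom (pointOk cert 95712 table) 64 7616 = true := by decide +kernel

theorem points121c : allFrom (pointOk cert 95712 table) 64 7680 = true := by decide +kernel

theorem points122c : allFrom (pointOk cert 95712 table) 64 7744 = true := by decide +kernel

theorem points123c : allFrom (pointOk cert 95712 table) 64 7808 = true := by decide +kernel

theorem points124c : allFrom (pointOk cert 95712 table) 64 7872 = true := by decide +kernel

theorem rels94c : allFrom (relsOk cert.rels table) 64 5952 = true := by decide +kernel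

theorem rels95c : allFrom (relsOk cert.rels table) 64 6016 = true := by decide +kernel

theorem rels96c : allFrom (relsOk cert.rels table) 64 6080 = true := by decide +kernel

theorem rels97c : allFrom (relsOk cert.rels table) 64 6144 = true := by decide +kernel

theorem rels98c : allFrom (relsOk cert.rels table) 64 6208 = true := by decide +kernel

theorem rels99c : allFrom (relsOk cert.rels table) 64 6272 = true := by decide +kernel

theorem rels100c : allFrom (relsOk cert.rels table) 64 6336 = true := by decide +kernel

theorem rels101c : allFrom (relsOk cert.rels table) 64 6400 = true := by decide +kernel

theorem rels102c : allFrom (relsOk cert.rels table) 64 6464 = true := by decide +kernel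

theorem rels103c : allFrom (relsOk cert.rels table) 64 6528 = true := by decide +kernel

theorem rels104c : allFrom (relsOk cert.rels table) 64 6592 = true := by decide +kernel

theorem rels105c : allFrom (relsOk cert.rels table) 64 6656 = true := by decide +kernel

theorem rels106c : allFrom (relsOk cert.rels table) 64 6720 = true := by decide +kernel

theorem rels107c : allFrom (relsOk cert.rels table) 64 6784 = true := by decide +kernel

theorem rels108c : allFrom (relsOk cert.rels table) 64 6848 = true := by decide +kernel

theorem rels109c : allFrom (relsOk cert.rels table) 64 6912 = true := by decide +kernel

theorem rels110c : allFrom (relsOk cert.rels table) 64 6976 = true := by decide +kernel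

theorem rels111c : allFrom (relsOk cert.rels table) 64 7040 = true := by decide +kernel

theorem rels112c : allFrom (relsOk cert.rels table) 64 7104 = true := by decide +kernel

theorem rels113c : allFrom (relsOk cert.rels table) 64 7168 = true := by decide +kernel

theorem rels114c : allFrom (relsOk cert.rels table) 64 7232 = true := by decide +kernel

theorem rels115c : allFrom (relsOk cert.rels table) 64 7296 = true := by decide +kernel

theorem rels116c : allFrom (relsOk cert.rels table) 64 7360 = true := by decide +kernel

theorem rels117c : allFrom (relsOk cert.rels table) 64 7424 = true := by decide +kernel

theorem rels118c : allFrom (relsOk cert.rels table) 64 7488 = true := by decide +kernel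

theorem rels119c : allFrom (relsOk cert.rels table) 64 7552 = true := by decide +kernel

theorem rels120c : allFrom (relsOk cert.rels table) 64 7616 = true := by decide +kernel

theorem rels121c : allFrom (relsOk cert.rels table) 64 7680 = true := by decide +kernel

theorem rels122c : allFrom (relsOk cert.rels table) 64 7744 = true := by decide +kernel

theorem rels123c : allFrom (relsOk cert.rels table) 64 7808 = true := by decide +kernel

theorem rels124c : allFrom (relsOk cert.rels table) 64 7872 = true := by decide +kernel

theorem orb94c : allFrom (orbOk orbTbl roots cert.sgens table) 64 5952 = true := by decide +kernel

theorem orb95c : allFrom (orbOk orbTbl roots cert.sgens table) 64 6016 = true := by decide +kernel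

theorem orb96c : allFrom (orbOk orbTbl roots cert.sgens table) 64 6080 = true := by decide +kernel

theorem orb97c : allFrom (orbOk orbTbl roots cert.sgens table) 64 6144 = true := by decide +kernel

theorem orb98c : allFrom (orbOk orbTbl roots cert.sgens table) 64 6208 = true := by decide +kernel

theorem orb99c : allFrom (orbOk orbTbl roots cert.sgens table) 64 6272 = true := by decide +kernel

theorem orb100c : allFrom (orbOk orbTbl roots cert.sgens table) 64 6336 = true := by decide +kernel

theorem orb101c : allFrom (orbOk orbTbl roots cert.sgens table) 64 6400 = true := by decide +kernel

theorem orb102c : allFrom (orbOk orbTbl roots cert.sgens table) 64 6464 = true := by decide +kernel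

theorem orb103c : allFrom (orbOk orbTbl roots cert.sgens table) 64 6528 = true := by decide +kernel

theorem orb104c : allFrom (orbOk orbTbl roots cert.sgens table) 64 6592 = true := by decide +kernel

theorem orb105c : allFrom (orbOk orbTbl roots cert.sgens table) 64 6656 = true := by decide +kernel

theorem orb106c : allFrom (orbOk orbTbl roots cert.sgens table) 64 6720 = true := by decide +kernel

theorem orb107c : allFrom (orbOk orbTbl roots cert.sgens table) 64 6784 = true := by decide +kernel

theorem orb108c : allFrom (orbOk orbTbl roots cert.sgens table) 64 6848 = true := by decide +kernel

theorem orb109c : allFrom (orbOk orbTbl roots cert.sgens table) 64 6912 = true := by decide +kernel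

theorem orb110c : allFrom (orbOk orbTbl roots cert.sgens table) 64 6976 = true := by decide +kernel

theorem orb111c : allFrom (orbOk orbTbl roots cert.sgens table) 64 7040 = true := by decide +kernel

theorem orb112c : allFrom (orbOk orbTbl roots cert.sgens table) 64 7104 = true := by decide +kernel

theorem orb113c : allFrom (orbOk orbTbl roots cert.sgens table) 64 7168 = true := by decide +kernel

theorem orb114c : allFrom (orbOk orbTbl roots cert.sgens table) 64 7232 = true := by decide +kernel

theorem orb115c : allFrom (orbOk orbTbl roots cert.sgens table) 64 7296 = true := by decide +kernel

theorem orb116c : allFrom (orbOk orbTbl roots cert.sgens table) 64 7360 = true := by decide +kernel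

theorem orb117c : allFrom (orbOk orbTbl roots cert.sgens table) 64 7424 = true := by decide +kernel

theorem orb118c : allFrom (orbOk orbTbl roots cert.sgens table) 64 7488 = true := by decide +kernel

theorem orb119c : allFrom (orbOk orbTbl roots cert.sgens table) 64 7552 = true := by decide +kernel

theorem orb120c : allFrom (orbOk orbTbl roots cert.sgens table) 64 7616 = true := by decide +kernel

theorem orb121c : allFrom (orbOk orbTbl roots cert.sgens table) 64 7680 = true := by decide +kernel

theorem orb122c : allFrom (orbOk orbTbl roots cert.sgens table) 64 7744 = true := by decide +kernel

theorem orb123c : allFrom (orbOk orbTbl roots cert.sgens table) 64 7808 = true := by decide +kernel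

theorem orb124c : allFrom (orbOk orbTbl roots cert.sgens table) 64 7872 = true := by decide +kernel

end Cfsg.Agent.CosetCertSuzUP3
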