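import Cfsg.Agent.Lib.CosetCertSuzUData

/-! Part of the checks of a coset enumeration in the presented group Suz. -/

set_option autoImplicit false
set_option maxRecDepth 100000
set_option Elab.async false

namespace Cfsg.Agent.CosetCertSuzUP7

open Cfsg.Agent.CosetCertCore Cfsg.Agent.CosetCertTable Cfsg.Agent.CosetCertPres Cfsg.Agent.CosetCertSuzUData

theorem points218c : allFrom (pointOk cert 95712 table) 64 13888 = true := by decide +kernel

theorem points219c : allFrom (pointOk cert 95712 table) 64 13952 = true := by decide +kernel

theorem points220c : allFrom (pointOk cert 95712 table) 64 14016 = true := by decide +kernel

theorem points221c : allFrom (pointOk cert 95712 table) 64 14080 = true := by decide +kernel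

theorem points222c : allFrom (pointOk cert 95712 table) 64 14144 = true := by decide +kernel

theorem points223c : allFrom (pointOk cert 95712 table) 64 14208 = true := by decide +kernel

theorem points224c : allFrom (pointOk cert 95712 table) 64 14272 = true := by decide +kernel

theorem points225c : allFrom (pointOk cert 95712 table) 64 14336 = true := by decide +kernel

theorem points226c : allFrom (pointOk cert 95712 table) 64 14400 = true := by decide +kernel

theorem points227c : allFrom (pointOk cert 95712 table) 64 14464 = true := by decide +kernel

theorem points228c : allFrom (pointOk cert 95712 table) 64 14528 = true := by decide +kernel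

theorem points229c : allFrom (pointOk cert 95712 table) 64 14592 = true := by decide +kernel

theorem points230c : allFrom (pointOk cert 95712 table) 64 14656 = true := by decide +kernel

theorem points231c : allFrom (pointOk cert 95712 table) 64 14720 = true := by decide +kernel

theorem points232c : allFrom (pointOk cert 95712 table) 64 14784 = true := by decide +kernel

theorem points233c : allFrom (pointOk cert 95712 table) 64 14848 = true := by decide +kernel

theorem points234c : allFrom (pointOk cert 95712 table) 64 14912 = true := by decide +kernel

theorem points235c : allFrom (pointOk cert 95712 table) 64 14976 = true := by decide +kernel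

theorem points236c : allFrom (pointOk cert 95712 table) 64 15040 = true := by decide +kernel

theorem points237c : allFrom (pointOk cert 95712 table) 64 15104 = true := by decide +kernel

theorem points238c : allFrom (pointOk cert 95712 table) 64 15168 = true := by decide +kernel

theorem points239c : allFrom (pointOk cert 95712 table) 64 15232 = true := by decide +kernel

theorem points240c : allFrom (pointOk cert 95712 table) 64 15296 = true := by decide +kernel

theorem points241c : allFrom (pointOk cert 95712 table) 64 15360 = true := by decide +kernel

theorem points242c : allFrom (pointOk cert 95712 table) 64 15424 = true := by decide +kernel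

theorem points243c : allFrom (pointOk cert 95712 table) 64 15488 = true := by decide +kernel

theorem points244c : allFrom (pointOk cert 95712 table) 64 15552 = true := by decide +kernel

theorem points245c : allFrom (pointOk cert 95712 table) 64 15616 = true := by decide +kernel

theorem points246c : allFrom (pointOk cert 95712 table) 64 15680 = true := by decide +kernel

theorem points247c : allFrom (pointOk cert 95712 table) 64 15744 = true := by decide +kernel

theorem points248c : allFrom (pointOk cert 95712 table) 64 15808 = true := by decide +kernel

theorem rels218c : allFrom (relsOk cert.rels table) 64 13888 = true := by decide +kernel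

theorem rels219c : allFrom (relsOk cert.rels table) 64 13952 = true := by decide +kernel

theorem rels220c : allFrom (relsOk cert.rels table) 64 14016 = true := by decide +kernel

theorem rels221c : allFrom (relsOk cert.rels table) 64 14080 = true := by decide +kernel

theorem rels222c : allFrom (relsOk cert.rels table) 64 14144 = true := by decide +kernel

theorem rels223c : allFrom (relsOk cert.rels table) 64 14208 = true := by decide +kernel

theorem rels224c : allFrom (relsOk cert.rels table) 64 14272 = true := by decide +kernel

theorem rels225c : allFrom (relsOk cert.rels table) 64 14336 = true := by decide +kernel

theorem rels226c : allFrom (relsOk cert.rels table) 64 14400 = true := by decide +kernel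

theorem rels227c : allFrom (relsOk cert.rels table) 64 14464 = true := by decide +kernel

theorem rels228c : allFrom (relsOk cert.rels table) 64 14528 = true := by decide +kernel

theorem rels229c : allFrom (relsOk cert.rels table) 64 14592 = true := by decide +kernel

theorem rels230c : allFrom (relsOk cert.rels table) 64 14656 = true := by decide +kernel

theorem rels231c : allFrom (relsOk cert.rels table) 64 14720 = true := by decide +kernel

theorem rels232c : allFrom (relsOk cert.rels table) 64 14784 = true := by decide +kernel

theorem rels233c : allFrom (relsOk cert.rels table) 64 14848 = true := by decide +kernel

theorem rels234c : allFrom (relsOk cert.rels table) 64 14912 = true := by decide +kernel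

theorem rels235c : allFrom (relsOk cert.rels table) 64 14976 = true := by decide +kernel

theorem rels236c : allFrom (relsOk cert.rels table) 64 15040 = true := by decide +kernel

theorem rels237c : allFrom (relsOk cert.rels table) 64 15104 = true := by decide +kernel

theorem rels238c : allFrom (relsOk cert.rels table) 64 15168 = true := by decide +kernel

theorem rels239c : allFrom (relsOk cert.rels table) 64 15232 = true := by decide +kernel

theorem rels240c : allFrom (relsOk cert.rels table) 64 15296 = true := by decide +kernel

theorem rels241c : allFrom (relsOk cert.rels table) 64 15360 = true := by decide +kernel

theorem rels242c : allFrom (relsOk cert.rels table) 64 15424 = true := by decide +kernel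

theorem rels243c : allFrom (relsOk cert.rels table) 64 15488 = true := by decide +kernel

theorem rels244c : allFrom (relsOk cert.rels table) 64 15552 = true := by decide +kernel

theorem rels245c : allFrom (relsOk cert.rels table) 64 15616 = true := by decide +kernel

theorem rels246c : allFrom (relsOk cert.rels table) 64 15680 = true := by decide +kernel

theorem rels247c : allFrom (relsOk cert.rels table) 64 15744 = true := by decide +kernel

theorem rels248c : allFrom (relsOk cert.rels table) 64 15808 = true := by decide +kernel

theorem orb218c : allFrom (orbOk orbTbl roots cert.sgens table) 64 13888 = true := by decide +kernel

theorem orb219c : allFrom (orbOk orbTbl roots cert.sgens table) 64 13952 = true := by decide +kernel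

theorem orb220c : allFrom (orbOk orbTbl roots cert.sgens table) 64 14016 = true := by decide +kernel

theorem orb221c : allFrom (orbOk orbTbl roots cert.sgens table) 64 14080 = true := by decide +kernel

theorem orb222c : allFrom (orbOk orbTbl roots cert.sgens table) 64 14144 = true := by decide +kernel

theorem orb223c : allFrom (orbOk orbTbl roots cert.sgens table) 64 14208 = true := by decide +kernel

theorem orb224c : allFrom (orbOk orbTbl roots cert.sgens table) 64 14272 = true := by decide +kernel

theorem orb225c : allFrom (orbOk orbTbl roots cert.sgens table) 64 14336 = true := by decide +kernel

theorem orb226c : allFrom (orbOk orbTbl roots cert.sgens table) 64 14400 = true := by decide +kernel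

theorem orb227c : allFrom (orbOk orbTbl roots cert.sgens table) 64 14464 = true := by decide +kernel

theorem orb228c : allFrom (orbOk orbTbl roots cert.sgens table) 64 14528 = true := by decide +kernel

theorem orb229c : allFrom (orbOk orbTbl roots cert.sgens table) 64 14592 = true := by decide +kernel

theorem orb230c : allFrom (orbOk orbTbl roots cert.sgens table) 64 14656 = true := by decide +kernel

theorem orb231c : allFrom (orbOk orbTbl roots cert.sgens table) 64 14720 = true := by decide +kernel

theorem orb232c : allFrom (orbOk orbTbl roots cert.sgens table) 64 14784 = true := by decide +kernel

theorem orb233c : allFrom (orbOk orbTbl roots cert.sgens table) 64 14848 = true := by decide +kernel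

theorem orb234c : allFrom (orbOk orbTbl roots cert.sgens table) 64 14912 = true := by decide +kernel

theorem orb235c : allFrom (orbOk orbTbl roots cert.sgens table) 64 14976 = true := by decide +kernel

theorem orb236c : allFrom (orbOk orbTbl roots cert.sgens table) 64 15040 = true := by decide +kernel

theorem orb237c : allFrom (orbOk orbTbl roots cert.sgens table) 64 15104 = true := by decide +kernel

theorem orb238c : allFrom (orbOk orbTbl roots cert.sgens table) 64 15168 = true := by decide +kernel

theorem orb239c : allFrom (orbOk orbTbl roots cert.sgens table) 64 15232 = true := by decide +kernel

theorem orb240c : allFrom (orbOk orbTbl roots cert.sgens table) 64 15296 = true := by decide +kernel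

theorem orb241c : allFrom (orbOk orbTbl roots cert.sgens table) 64 15360 = true := by decide +kernel

theorem orb242c : allFrom (orbOk orbTbl roots cert.sgens table) 64 15424 = true := by decide +kernel

theorem orb243c : allFrom (orbOk orbTbl roots cert.sgens table) 64 15488 = true := by decide +kernel

theorem orb244c : allFrom (orbOk orbTbl roots cert.sgens table) 64 15552 = true := by decide +kernel

theorem orb245c : allFrom (orbOk orbTbl roots cert.sgens table) 64 15616 = true := by decide +kernel

theorem orb246c : allFrom (orbOk orbTbl roots cert.sgens table) 64 15680 = true := by decide +kernel

theorem orb247c : allFrom (orbOk orbTbl roots cert.sgens table) 64 15744 = true := by decide +kernel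

theorem orb248c : allFrom (orbOk orbTbl roots cert.sgens table) 64 15808 = true := by decide +kernel

end Cfsg.Agent.CosetCertSuzUP7
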