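import Cfsg.Agent.Lib.CosetCertCore

/-!
From a checked certificate and a table of permutations to the action on the cosets of a subgroup.
-/

set_option autoImplicit false

namespace Cfsg.Agent.CosetCertTable

open Cfsg.Agent.CosetCertCore

/-- Conjunction of `f i` for `lo ≤ i < lo + n`. -/
noncomputable def allFrom (f : Nat → Bool) (n : Nat) : Nat → Bool :=
  Nat.rec (motive := fun _ => Nat → Bool) (fun _ => true)
    (fun _ ih lo => f lo && force (lo + 1) ih) n

theorem allFrom_succ (f : Nat → Bool) (n lo : Nat) :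
    allFrom f (n + 1) lo = (f lo && allFrom f n (lo + 1)) := by
  simp only [allFrom, force_eq]

theorem allFrom_iff (f : Nat → Bool) (n lo : Nat) :
    allFrom f n lo = true ↔ ∀ i, lo ≤ i → i < lo + n → f i = true := by
  induction n generalizing lo with
  | zero => simp [allFrom]; omega
  | succ n ih =>
    rw [allFrom_succ, Bool.and_eq_true, ih]
    constructor
    · rintro ⟨h, hr⟩ i h1 h2
      rcases eq_or_lt_of_le h1 with rfl | h1
      · exact h
      · exact hr i h1 (by omega)
    · intro h
      exact ⟨h lo le_rfl (by omega), fun i h1 h2 => h i (by omega) (by omega)⟩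

/-- Every index below `n` passes. -/
def AllBelow (f : Nat → Bool) (n : Nat) : Prop := ∀ i < n, f i = true

theorem AllBelow.zero (f : Nat → Bool) : AllBelow f 0 := fun _ h => absurd h (Nat.not_lt_zero _)

theorem AllBelow.step {f : Nat → Bool} {lo : Nat} (h : AllBelow f lo) (n : Nat)
    (h' : allFrom f n lo = true) : AllBelow f (lo + n) := by
  intro i hi
  by_cases hl : i < lo
  · exact h i hl
  · exact (allFrom_iff f n lo).mp h' i (Nat.le_of_not_lt hl) hi

/-- The final table of an enumeration. -/
structure Table where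
  T : Tbl
  E : Tbl
  Fn : Tbl
  Par : Tbl
  N : Nat
  NG : Nat

/-- Image of point `i` under generator `x`. -/
noncomputable def Table.img (D : Table) (x i : Nat) : Nat :=
  Nat.land (Nat.shiftRight (entry D.T (20 * D.NG) i) (20 * x)) 1048575

/-- Node of point `i`. -/
noncomputable def Table.node (D : Table) (i : Nat) : Nat := entry D.Fn 24 i

/-- Image of a point under a word, letters applied from left to right. -/
noncomputable def Table.run (D : Table) (w : List Nat) : Nat → Nat :=
  List.rec (motive := fun _ => Nat → Nat) (fun i => i)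
    (fun x _ ih i => force (D.img x i) ih) w

theorem Table.run_nil (D : Table) (i : Nat) : D.run [] i = i := rfl

theorem Table.run_cons (D : Table) (x : Nat) (w : List Nat) (i : Nat) :
    D.run (x :: w) i = D.run w (D.img x i) := by
  simp only [Table.run, force_eq]

/-- Check edge `(i, x)` of the table against the facts. -/
noncomputable def edgeOk (C : Cert) (M : Nat) (D : Table) (i x : Nat) : Bool :=
  force (D.img x i) fun j =>
  force (Nat.land (Nat.shiftRight (entry D.E (20 * D.NG) i) (20 * x)) 1048575) fun f =>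
  force (C.fact f) fun e =>
  force (D.node i) fun ni =>
  force (D.node j) fun nj =>
  Nat.blt j D.N && Nat.beq (D.img x j) i && Nat.blt f M && Nat.beq (fc e) (x + 1) &&
    ((Nat.beq (fp e) ni && Nat.beq (fq e) nj) || (Nat.beq (fp e) nj && Nat.beq (fq e) ni))

/-- Check point `i`: all edges, and the spanning tree. -/
noncomputable def pointOk (C : Cert) (M : Nat) (D : Table) (i : Nat) : Bool :=
  allFrom (edgeOk C M D i) D.NG 0 &&
    (Nat.beq i 0 || (force (entry D.Par 24 i) fun p =>
      Nat.blt (Nat.shiftRight p 4) i && Nat.blt (Nat.land p 15) D.NG &&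
        Nat.beq (D.img (Nat.land p 15) (Nat.shiftRight p 4)) i))

/-- Check the relators at point `i`. -/
noncomputable def relsOk (rels : List (List Nat)) (D : Table) (i : Nat) : Bool :=
  List.rec (motive := fun _ => Bool) true (fun w _ ih => Nat.beq (D.run w i) i && ih) rels

theorem relsOk_iff (rels : List (List Nat)) (D : Table) (i : Nat) :
    relsOk rels D i = true ↔ ∀ w ∈ rels, D.run w i = i := by
  induction rels with
  | nil => simp [relsOk]
  | cons w r ih =>
    show (Nat.beq (D.run w i) i && relsOk r D i) = true ↔ _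
    rw [Bool.and_eq_true, Nat.beq_eq, ih]
    simp

/-- A completely checked table. -/
structure Checked (C : Cert) (M : Nat) (D : Table) : Prop where
  npos : 0 < D.N
  gpos : 0 < D.NG
  node0 : D.node 0 = 0
  points : AllBelow (pointOk C M D) D.N
  rels : AllBelow (relsOk C.rels D) D.N
  sgens : ∀ w ∈ C.sgens, D.run w 0 = 0
  letters : ∀ w ∈ C.rels ++ C.sgens, ∀ x ∈ w, x < D.NG

section

variable {C : Cert} {M : Nat} {D : Table} (hD : Checked C M D)
include hD

theorem edge (i x : Nat) (hi : i < D.N) (hx : x < D.NG) :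
    D.img x i < D.N ∧ D.img x (D.img x i) = i ∧ ∃ f < M, fc (C.fact f) = x + 1 ∧
      ((fp (C.fact f) = D.node i ∧ fq (C.fact f) = D.node (D.img x i)) ∨
        (fp (C.fact f) = D.node (D.img x i) ∧ fq (C.fact f) = D.node i)) := by
  have h := hD.points i hi
  simp only [pointOk, Bool.and_eq_true] at h
  have he := (allFrom_iff _ _ _).mp h.1 x (Nat.zero_le x) (by omega)
  simp only [edgeOk, force_eq, Bool.and_eq_true, Bool.or_eq_true, Nat.blt_eq, Nat.beq_eq] at he
  obtain ⟨⟨⟨⟨h1, h2⟩, h3⟩, h4⟩, h5⟩ := he
  exact ⟨h1, h2, _, h3, h4, h5⟩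

theorem parent (i : Nat) (hi : i < D.N) (h0 : i ≠ 0) :
    ∃ p x, p < i ∧ x < D.NG ∧ D.img x p = i := by
  have h := hD.points i hi
  simp only [pointOk, force_eq, Bool.and_eq_true, Bool.or_eq_true, Nat.blt_eq, Nat.beq_eq] at h
  rcases h.2 with h | h
  · exact absurd h h0
  · exact ⟨_, _, h.1.1, h.1.2, h.2⟩

/-- The permutation of the points given by a generator. -/
noncomputable def perm (x : Nat) : Equiv.Perm (Fin D.N) :=
  if hx : x < D.NG then
    { toFun := fun i => ⟨D.img x i, (edge hD i x i.2 hx).1⟩
      invFun := fun i => ⟨D.img x i, (edge hD i x i.2 hx).1⟩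
      left_inv := fun i => Fin.ext (edge hD i x i.2 hx).2.1
      right_inv := fun i => Fin.ext (edge hD i x i.2 hx).2.1 }
  else 1

theorem perm_apply {x : Nat} (hx : x < D.NG) (i : Fin D.N) : (perm hD x i : Nat) = D.img x i := by
  rw [perm, dif_pos hx]; rfl

theorem perm_sq (x : Nat) : perm hD x * perm hD x = 1 := by
  ext i
  by_cases hx : x < D.NG
  · show ((perm hD x (perm hD x i) : Fin D.N) : Nat) = _
    rw [perm_apply hD hx, perm_apply hD hx]
    exact (edge hD i x i.2 hx).2.1
  · simp [perm, hx]

theorem act_perm (w : List Nat) (hw : ∀ x ∈ w, x < D.NG) (i : Fin D.N) :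
    ((act (perm hD) w i : Fin D.N) : Nat) = D.run w i := by
  induction w generalizing i with
  | nil => rfl
  | cons x w ih =>
    rw [act_cons, Table.run_cons, ih (fun y hy => hw y (List.mem_cons_of_mem _ hy))]
    show D.run w (perm hD x i : Nat) = _
    rw [perm_apply hD (hw x (List.mem_cons_self ..))]

theorem val_perm_eq_one {w : List Nat} (hw : w ∈ C.rels) : val (perm hD) w = 1 := by
  rw [← inv_eq_one]
  ext i
  rw [← Equiv.Perm.smul_def, ← act_eq _ (perm_sq hD),
    act_perm hD w (fun x hx => hD.letters w (List.mem_append_left _ hw) x hx),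
    (relsOk_iff _ _ _).mp (hD.rels i i.2) w hw]
  rfl

theorem act_sgens_zero {w : List Nat} (hw : w ∈ C.sgens) :
    act (perm hD) w (⟨0, hD.npos⟩ : Fin D.N) = ⟨0, hD.npos⟩ := by
  apply Fin.ext
  rw [act_perm hD w (fun x hx => hD.letters w (List.mem_append_right _ hw) x hx)]
  exact hD.sgens w hw

omit hD in
/-- The coset of a point. -/
noncomputable def coset (C : Cert) (D : Table) {G : Type*} [Group G] (g : Nat → G) (H : Subgroup G)
    (i : Fin D.N) : G ⧸ H :=
  nodeVal g ((1 : G) : G ⧸ H) C (D.node i)

variable {G : Type*} [Group G] (g : Nat → G) (H : Subgroup G)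
  (hctx : Ctx g ((1 : G) : G ⧸ H) C)
  (hM : AllValid g (nodeVal g ((1 : G) : G ⧸ H) C) C M)

theorem coset_zero : coset C D g H ⟨0, hD.npos⟩ = ((1 : G) : G ⧸ H) := by
  unfold coset
  rw [hD.node0, nodeVal_zero]

include hctx hM in
theorem coset_perm {x : Nat} (hx : x < D.NG) (i : Fin D.N) :
    coset C D g H (perm hD x i) = g x • coset C D g H i := by
  obtain ⟨-, -, f, hf, hc, he⟩ := edge hD i x i.2 hx
  have hs := hM f hf
  rw [Sem, if_neg (by omega), show fc (C.fact f) - 1 = x by omega] at hs
  unfold coset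
  rw [perm_apply hD hx]
  rcases he with ⟨e1, e2⟩ | ⟨e1, e2⟩
  · rw [← e1, ← e2, hs]
  · rw [← e1, ← e2, ← hs, smul_self g hctx.invol]

end

/-- The conclusion of an enumeration: an equivariant bijection with the cosets. -/
theorem exists_equiv {C : Cert} {M : Nat} {D : Table} (hD : Checked C M D)
    {G : Type*} [Group G] (g : Nat → G) (H : Subgroup G)
    (hctx : Ctx g ((1 : G) : G ⧸ H) C)
    (hM : AllValid g (nodeVal g ((1 : G) : G ⧸ H) C) C M)
    (hgen : Subgroup.closure {y | ∃ x, x < D.NG ∧ y = g x} = ⊤)
    (ρ : G →* Equiv.Perm (Fin D.N)) (hρ : ∀ x, x < D.NG → ρ (g x) = perm hD x)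
    (hH : ∀ k ∈ H, ρ k ⟨0, hD.npos⟩ = ⟨0, hD.npos⟩) :
    ∃ φ : Fin D.N ≃ G ⧸ H, φ ⟨0, hD.npos⟩ = ((1 : G) : G ⧸ H) ∧
      ∀ k i, φ (ρ k i) = k • φ i := by
  have heq : ∀ k i, coset C D g H (ρ k i) = k • coset C D g H i := by
    intro k
    have hk : k ∈ Subgroup.closure {y | ∃ x, x < D.NG ∧ y = g x} := hgen ▸ Subgroup.mem_top k
    induction hk using Subgroup.closure_induction with
    | mem y hy =>
      obtain ⟨x, hx, rfl⟩ := hy
      intro i
      rw [hρ x hx, coset_perm hD g H hctx hM hx]
    | one => intro i; simp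
    | mul a b _ _ ha hb => intro i; rw [map_mul, Equiv.Perm.mul_apply, ha, hb, mul_smul]
    | inv a _ ha =>
      intro i
      have := ha (ρ a⁻¹ i)
      rw [← Equiv.Perm.mul_apply, ← map_mul, mul_inv_cancel, map_one, Equiv.Perm.one_apply] at this
      rw [this, inv_smul_smul]
  let back : G ⧸ H → Fin D.N := fun q => Quotient.liftOn' q (fun k => ρ k ⟨0, hD.npos⟩) (by
    intro a b hab
    rw [QuotientGroup.leftRel_apply] at hab
    have := congrArg (ρ a) (hH _ hab)
    rw [← Equiv.Perm.mul_apply, ← map_mul, mul_inv_cancel_left] at this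
    exact this.symm)
  have hback : ∀ q, coset C D g H (back q) = q := by
    intro q
    induction q using QuotientGroup.induction_on with
    | H k =>
      show coset C D g H (ρ k ⟨0, hD.npos⟩) = _
      rw [heq, coset_zero hD]
      show ((k * 1 : G) : G ⧸ H) = _
      rw [mul_one]
  have hinv : ∀ i, back (coset C D g H i) = i := by
    intro i
    obtain ⟨i, hi⟩ := i
    induction i using Nat.strong_induction_on with
    | _ i ih =>
      by_cases h0 : i = 0
      · subst h0
        rw [coset_zero hD]
        show ρ 1 _ = _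
        rw [map_one, Equiv.Perm.one_apply]
      · obtain ⟨p, x, hp, hx, hpx⟩ := parent hD i hi h0
        have hp' := ih p hp (hp.trans hi)
        have hi' : (⟨i, hi⟩ : Fin D.N) = ρ (g x) ⟨p, hp.trans hi⟩ := by
          apply Fin.ext
          rw [hρ x hx, perm_apply hD hx]
          exact hpx.symm
        rw [hi', heq]
        generalize coset C D g H ⟨p, hp.trans hi⟩ = q at hp' ⊢
        induction q using QuotientGroup.induction_on with
        | H k =>
          show ρ (g x * k) _ = _
          rw [map_mul, Equiv.Perm.mul_apply, ← hp']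
          rfl
  exact ⟨⟨coset C D g H, back, hinv, hback⟩, coset_zero hD g H, heq⟩

end Cfsg.Agent.CosetCertTable
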