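import Cfsg.Agent.Lib.CosetCertU62Data
import Cfsg.Agent.Lib.CosetCertFi22Simple
import Cfsg.Agent.Lib.CosetCertRestrict
import Cfsg.Agent.Lib.OrthUnitaryPSU
import Cfsg.Agent.Lib.UnitaryF4Geo
import Cfsg.Agent.S0280
import Cfsg.Prelude.Def_SporadicB

/-! The point stabiliser of the presented Fi22 as a double cover of the unitary group in dimension six. -/

set_option autoImplicit false
set_option maxRecDepth 100000
set_option linter.style.haveILetI false
set_option linter.unusedSectionVars false

namespace Cfsg.Agent.CosetCertU62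

open Cfsg.Agent.CosetCertCore Cfsg.Agent.CosetCertTable Cfsg.Agent.CosetCertPres
open Cfsg.Agent.CosetCertOrder Cfsg.Agent.CosetCertRestrict
open Cfsg.Agent.OrthUnitaryHerm Cfsg.Agent.OrthUnitaryTransvection Cfsg.Agent.OrthUnitaryPSU

/-- The presentation of Fi22. -/
abbrev P22 : Pres := CosetCertFi22UData.pres
/-- The table of the 3510 points. -/
noncomputable abbrev T22 : Table := CosetCertFi22UData.table
/-- The point stabiliser. -/
abbrev HH : Subgroup (Pres.Grp P22) := P22.sub CosetCertFi22UData.subgens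

/-- Suborbit label. -/
noncomputable def lab (i : Nat) : Nat := oLabel (entry CosetCertFi22UData.orbTbl 48 i)

/-- Digit `d` of a packed vector. -/
def dig (v d : Nat) : Nat := Nat.land (Nat.shiftRight v (2 * d)) 3

theorem dig_lt (v d : Nat) : dig v d < 4 := Nat.lt_succ_of_le Nat.and_le_right

/-- Product in the field with four elements. -/
def mulF (a b : Nat) : Nat := Nat.land (Nat.shiftRight 2625168384 (2 * (4 * a + b))) 3

theorem mulF_lt (a b : Nat) : mulF a b < 4 := Nat.lt_succ_of_le Nat.and_le_right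

/-- One term of the form. -/
def term (u v d : Nat) : Nat := mulF (dig u d) (mulF (dig v d) (dig v d))

/-- The form on packed vectors. -/
def hC (u v : Nat) : Nat :=
  (((((term u v 0 ^^^ term u v 1) ^^^ term u v 2) ^^^ term u v 3) ^^^ term u v 4) ^^^ term u v 5)

theorem xor_lt {a b : Nat} (ha : a < 4) (hb : b < 4) : a ^^^ b < 4 :=
  Nat.xor_lt_two_pow (n := 2) ha hb

theorem hC_lt (u v : Nat) : hC u v < 4 := by
  unfold hC
  repeat' apply xor_lt
  all_goals exact mulF_lt _ _

/-- Scaled equality of packed vectors. -/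
noncomputable def scaled (a : Nat) (b : Nat → Nat) : Bool :=
  allFrom (fun d => Nat.beq (mulF 1 (dig a d)) (b d)) 6 0 ||
    allFrom (fun d => Nat.beq (mulF 2 (dig a d)) (b d)) 6 0 ||
    allFrom (fun d => Nat.beq (mulF 3 (dig a d)) (b d)) 6 0

/-- The vector of a point. -/
noncomputable def vcode (i : Nat) : Nat := entry CosetCertU62Data.vecTbl 16 i

/-- Words of the subgroup generators. -/
def W9 : List (List Nat) := CosetCertFi22UData.subgens.map Wx.letters

/-- Centre of the transvection of generator `k + 1`. -/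
def cen (k : Nat) : Nat := CosetCertU62Data.centres.getD k 0

/-- The check of one generator at a point. -/
noncomputable def moveGen (i k : Nat) : Bool :=
  force (vcode i) fun x => force (cen k) fun c => force (hC x c) fun f =>
    scaled (vcode (T22.run (W9.getD (k + 1) []) i)) fun d => dig x d ^^^ mulF f (dig c d)

/-- The check at a point. -/
noncomputable def moveOk (i : Nat) : Bool :=
  cond (Nat.beq (lab i) 2)
    (Nat.beq (T22.run (W9.getD 0 []) i) i && allFrom (moveGen i) 8 0) true

/-- Every isotropic vector belongs to a point. -/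
noncomputable def idxOk (v : Nat) : Bool :=
  cond (Nat.beq v 0 || !(Nat.beq (hC v v) 0)) true
    (force (entry CosetCertU62Data.idxTbl 16 v) fun i =>
      Nat.blt i 3510 && Nat.beq (lab i) 2 && scaled (vcode i) fun d => dig v d)

theorem move0 : AllBelow moveOk 0 := AllBelow.zero _
theorem move1 : AllBelow moveOk 1024 := AllBelow.step move0 1024 (by decide +kernel)
theorem move2 : AllBelow moveOk 2048 := AllBelow.step move1 1024 (by decide +kernel)
theorem move3 : AllBelow moveOk 3072 := AllBelow.step move2 1024 (by decide +kernel)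
theorem move4 : AllBelow moveOk 3510 := AllBelow.step move3 438 (by decide +kernel)

theorem idx0 : AllBelow idxOk 0 := AllBelow.zero _
theorem idx1 : AllBelow idxOk 2048 := AllBelow.step idx0 2048 (by decide +kernel)
theorem idx2 : AllBelow idxOk 4096 := AllBelow.step idx1 2048 (by decide +kernel)

theorem cen_iso : ∀ k < 8, hC (cen k) (cen k) = 0 := by decide +kernel

/-- A word in the nine subgroup generators, in the letters of the presentation. -/
def flat (w : List Nat) : List Nat := w.flatMap fun k => W9.getD k []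

/-- Word for the first generator. -/
def wordA : List Nat := (List.replicate 5 [1, 3, 8, 2, 4, 6]).flatten
/-- Word for the last generator. -/
def wordT : List Nat := [4, 8, 3, 4, 2, 3, 1, 2] ++ 1 :: [2, 1, 3, 2, 4, 3, 8, 4]
/-- An odd relation. -/
def wordO : List Nat := (List.replicate 9 [1, 2, 3, 4, 5, 6, 7]).flatten

/-- Identities in the subgroup. -/
noncomputable def identOk (i : Nat) : Bool :=
  Nat.beq (T22.run (flat wordA) i) (T22.run (flat [0]) i) &&
    Nat.beq (T22.run (flat wordT) i) (T22.run (flat [8]) i) &&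
    Nat.beq (T22.run (flat wordO) i) i

theorem ident0 : AllBelow identOk 0 := AllBelow.zero _
theorem ident1 : AllBelow identOk 1755 := AllBelow.step ident0 1755 (by decide +kernel)
theorem ident2 : AllBelow identOk 3510 := AllBelow.step ident1 1755 (by decide +kernel)

section Field

variable {F : Type} [Field F] [Fintype F]

/-- The field element of a code. -/
def toF (w : F) (a : Nat) : F := (if a % 2 = 1 then 1 else 0) + (if a / 2 % 2 = 1 then w else 0)

/-- The vector of a code. -/
def toV (w : F) (v : Nat) : Fin 6 → F := fun d => toF w (dig v d)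

variable [UnitaryF4Geo.FourField F] {w : F} (hw : w ^ 2 = w + 1)
include hw

theorem toF_xor {a b : Nat} (ha : a < 4) (hb : b < 4) : toF w (a ^^^ b) = toF w a + toF w b := by
  interval_cases a <;> interval_cases b <;> simp [toF] <;>
    linear_combination (norm := ring_nf) (UnitaryF4Geo.two_eq_zero (F := F)) * 0 <;>
    simp [UnitaryF4Geo.add_self, UnitaryF4Geo.two_eq_zero]

theorem toF_mul {a b : Nat} (ha : a < 4) (hb : b < 4) : toF w (mulF a b) = toF w a * toF w b := by
  have h2 := UnitaryF4Geo.two_eq_zero (F := F)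
  interval_cases a <;> interval_cases b <;> simp [toF, mulF] <;> grind

theorem toF_surj (x : F) : ∃ a < 4, toF w a = x := by
  by_cases h0 : x = 0
  · exact ⟨0, by norm_num, by simp [toF, h0]⟩
  by_cases h1 : x = 1
  · exact ⟨1, by norm_num, by simp [toF, h1]⟩
  have hx := UnitaryF4Geo.rel h0 h1
  have h : (x + w) * (x + w + 1) = 0 := by
    linear_combination hx + hw + (x * w + x + w + 1) * UnitaryF4Geo.two_eq_zero (F := F)
  rcases mul_eq_zero.mp h with h | h
  · exact ⟨2, by norm_num, by simp [toF]; exact (UnitaryF4Geo.eq_of_add_eq_zero h).symm⟩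
  · refine ⟨3, by norm_num, ?_⟩
    simp [toF]
    linear_combination h - x * UnitaryF4Geo.two_eq_zero (F := F)

theorem toF_ne {a : Nat} (ha : a < 4) (h0 : a ≠ 0) : toF w a ≠ 0 := by
  obtain ⟨hw0, hw1⟩ := UnitaryF4Geo.omega_ne hw
  interval_cases a
  · exact absurd rfl h0
  · simp [toF]
  · simpa [toF] using hw0
  · simp only [toF]
    norm_num
    intro h
    exact hw1 (UnitaryF4Geo.eq_of_add_eq_zero h).symm

theorem toF_term (u v d : Nat) : toF w (term u v d) = toF w (dig u d) * toF w (dig v d) ^ 2 := by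
  rw [term, toF_mul hw (dig_lt _ _) (mulF_lt _ _), toF_mul hw (dig_lt _ _) (dig_lt _ _), pow_two]

theorem toF_hC (u v : Nat) : toF w (hC u v) = hermForm 6 F 2 (toV w u) (toV w v) := by
  have l : ∀ a b c, term a b c < 4 := fun a b c => mulF_lt _ _
  unfold hC
  rw [toF_xor hw (by repeat' first | exact l _ _ _ | apply xor_lt) (l _ _ _),
    toF_xor hw (by repeat' first | exact l _ _ _ | apply xor_lt) (l _ _ _),
    toF_xor hw (by repeat' first | exact l _ _ _ | apply xor_lt) (l _ _ _),
    toF_xor hw (by repeat' first | exact l _ _ _ | apply xor_lt) (l _ _ _),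
    toF_xor hw (l _ _ _) (l _ _ _)]
  simp [toF_term hw, hermForm, toV, Fin.sum_univ_six]

theorem scaled_sound {a : Nat} {b : Nat → Nat} (h : scaled a b = true) :
    ∃ c : F, c ≠ 0 ∧ c • toV w a = fun d : Fin 6 => toF w (b d) := by
  have key : ∀ l, l < 4 → l ≠ 0 → allFrom (fun d => Nat.beq (mulF l (dig a d)) (b d)) 6 0 = true →
      ∃ c : F, c ≠ 0 ∧ c • toV w a = fun d : Fin 6 => toF w (b d) := by
    intro l hl hl0 h
    refine ⟨toF w l, toF_ne hw hl hl0, funext fun d => ?_⟩
    have hd := Nat.beq_eq.mp ((allFrom_iff _ _ _).mp h d.1 (Nat.zero_le _) (by omega))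
    rw [← hd, toF_mul hw hl (dig_lt _ _)]
    rfl
  simp only [scaled, Bool.or_eq_true] at h
  rcases h with (h | h) | h
  exacts [key 1 (by norm_num) (by norm_num) h, key 2 (by norm_num) (by norm_num) h,
    key 3 (by norm_num) (by norm_num) h]

theorem exists_point {u : Fin 6 → F} (hu0 : u ≠ 0) (hu : hermForm 6 F 2 u u = 0) :
    ∃ i : Fin T22.N, lab i = 2 ∧ ∃ c : F, c ≠ 0 ∧ c • toV w (vcode i) = u := by
  choose n hn hnu using fun d => toF_surj hw (u d)
  set v := n 0 + 4 * n 1 + 16 * n 2 + 64 * n 3 + 256 * n 4 + 1024 * n 5 with hv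
  have h0 := hn 0; have h1 := hn 1; have h2 := hn 2; have h3 := hn 3; have h4 := hn 4; have h5 := hn 5
  have hd : ∀ d : Fin 6, dig v d = n d := by
    intro d
    have e : ∀ x k, dig x k = x / 2 ^ (2 * k) % 4 := fun x k => by
      unfold dig
      show (x >>> (2 * k)) &&& (2 ^ 2 - 1) = _
      rw [Nat.and_two_pow_sub_one_eq_mod, Nat.shiftRight_eq_div_pow]
    rw [e]
    fin_cases d <;> simp <;> omega
  have hvu : toV w v = u := funext fun d => by rw [toV, hd, hnu]
  have hv0 : v ≠ 0 := fun h => hu0 (by rw [← hvu, h]; funext d; simp [toV, dig, toF])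
  have hv1 : hC v v = 0 := by
    by_contra hc
    exact toF_ne hw (hC_lt v v) hc (by rw [toF_hC hw, hvu, hu])
  have h := idx2 v (by omega)
  have hb0 : Nat.beq v 0 = false := by rw [← Bool.not_eq_true, Nat.beq_eq]; exact hv0
  simp only [idxOk, hb0, Bool.false_or, Nat.beq_eq.mpr hv1, Bool.not_true, cond_false, force_eq,
    Bool.and_eq_true, Nat.blt_eq, Nat.beq_eq] at h
  obtain ⟨⟨hlt, hl⟩, hs⟩ := h
  obtain ⟨c, hc, he⟩ := scaled_sound hw hs
  exact ⟨⟨_, hlt⟩, hl, c, hc, he.trans hvu⟩

end Field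

theorem sub_letters : ∀ k < 9, ∀ x ∈ W9.getD k [], x < T22.NG := by decide +kernel

theorem flat_letters {w : List Nat} (hw : ∀ k ∈ w, k < 9) : ∀ x ∈ flat w, x < T22.NG := by
  intro x hx
  obtain ⟨k, hk, hx⟩ := List.mem_flatMap.mp hx
  exact sub_letters k (hw k hk) x hx

theorem gen_mem (k : Nat) : val P22.gg (W9.getD k []) ∈ HH := by
  by_cases hk : k < 9
  · rw [HH, sub_eq CosetCertFi22U.enumerated]
    have hk' : k < CosetCertFi22UData.subgens.length := hk
    refine Subgroup.subset_closure ⟨CosetCertFi22UData.subgens[k], List.getElem_mem hk', ?_⟩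
    unfold W9
    rw [List.getD_eq_getElem _ _ (by simpa using hk'), List.getElem_map]
  · have h : W9.length ≤ k := by simpa [W9, CosetCertFi22UData.subgens] using hk
    rw [List.getD_eq_default _ _ h, val_nil]
    exact Subgroup.one_mem _

/-- A generator of the stabiliser. -/
def g9 (k : Nat) : HH := ⟨val P22.gg (W9.getD k []), gen_mem k⟩

theorem val_g9 (w : List Nat) : ((val g9 w : HH) : Pres.Grp P22) = val P22.gg (flat w) := by
  induction w with
  | nil => rfl
  | cons k w ih => rw [val_cons, Subgroup.coe_mul, ih]; simp [flat, g9, val_append]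

theorem g9_top : Subgroup.closure {x | ∃ k < 9, x = g9 k} = ⊤ := by
  rw [eq_top_iff]
  rintro ⟨x, hx⟩ -
  have hx' := hx
  rw [HH, sub_eq CosetCertFi22U.enumerated] at hx'
  suffices ∀ y ∈ Subgroup.closure {k | ∃ s ∈ CosetCertFi22UData.subgens, k = val P22.gg s.letters},
      ∀ hy : y ∈ HH, (⟨y, hy⟩ : HH) ∈ Subgroup.closure {x | ∃ k < 9, x = g9 k} from this x hx' hx
  intro y hy
  have hle : Subgroup.closure {k | ∃ s ∈ CosetCertFi22UData.subgens, k = val P22.gg s.letters} ≤
      (Subgroup.closure {x | ∃ k < 9, x = g9 k}).map HH.subtype := by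
    rw [Subgroup.closure_le]
    rintro _ ⟨s, hs, rfl⟩
    obtain ⟨k, hk, rfl⟩ := List.getElem_of_mem hs
    refine ⟨g9 k, Subgroup.subset_closure ⟨k, hk, rfl⟩, ?_⟩
    show val P22.gg (W9.getD k []) = _
    unfold W9
    rw [List.getD_eq_getElem _ _ (by simpa using hk), List.getElem_map]
  obtain ⟨z, hz, rfl⟩ := hle hy
  intro hy'
  exact hz

theorem eq_of_run {a b : List Nat} (ha : ∀ x ∈ a, x < T22.NG) (hb : ∀ x ∈ b, x < T22.NG)
    (h : ∀ i < T22.N, T22.run a i = T22.run b i) : val P22.gg a = val P22.gg b := by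
  apply CosetCertFi22Simple.card_and_faithful.2
  rw [← inv_inj]
  refine Equiv.ext fun i => Fin.ext ?_
  rw [rho_val_apply CosetCertFi22U.enumerated ha, rho_val_apply CosetCertFi22U.enumerated hb]
  exact h i i.2

theorem idents : val g9 wordA = g9 0 ∧ val g9 wordT = g9 8 ∧ val g9 wordO = 1 := by
  have hN : T22.N = 3510 := rfl
  have h : ∀ i < T22.N, T22.run (flat wordA) i = T22.run (flat [0]) i ∧
      T22.run (flat wordT) i = T22.run (flat [8]) i ∧ T22.run (flat wordO) i = T22.run (flat []) i := by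
    intro i hi
    have := ident2 i (hN ▸ hi)
    simp only [identOk, Bool.and_eq_true, Nat.beq_eq] at this
    exact ⟨this.1.1, this.1.2, this.2⟩
  have key : ∀ a b : List Nat, (∀ k ∈ a, k < 9) → (∀ k ∈ b, k < 9) →
      (∀ i < T22.N, T22.run (flat a) i = T22.run (flat b) i) → val g9 a = val g9 b := by
    intro a b ha hb hab
    apply Subtype.ext
    rw [val_g9, val_g9]
    exact eq_of_run (flat_letters ha) (flat_letters hb) hab
  refine ⟨?_, ?_, ?_⟩
  · simpa [val_cons, val_nil] using key wordA [0] (by decide +kernel) (by decide +kernel) fun i hi => (h i hi).1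
  · simpa [val_cons, val_nil] using key wordT [8] (by decide +kernel) (by decide +kernel) fun i hi => (h i hi).2.1
  · simpa [val_cons, val_nil] using key wordO [] (by decide +kernel) (by simp) fun i hi => (h i hi).2.2

theorem g9_sq_one : ∀ k < 8, g9 k * g9 k = 1 := by
  intro k hk
  apply Subtype.ext
  obtain ⟨x, hx⟩ := (by decide +kernel : ∀ k < 8, ∃ x < 9, W9.getD k [] = [x]) k hk
  show val P22.gg (W9.getD k []) * val P22.gg (W9.getD k []) = 1
  rw [hx.2, val_cons, val_nil, mul_one]
  exact CosetCertFi22Simple.invol x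

theorem g9_braid : ∀ p ∈ [(1, 2), (2, 3), (3, 4), (4, 5), (2, 6), (6, 7)],
    g9 p.1 * g9 p.2 * g9 p.1 * g9 p.2 * g9 p.1 * g9 p.2 = 1 := by
  intro p hp
  have h : flat [p.1, p.2, p.1, p.2, p.1, p.2] ∈ Pres.relWords P22 :=
    (by decide +kernel : ∀ p ∈ [(1, 2), (2, 3), (3, 4), (4, 5), (2, 6), (6, 7)],
      flat [p.1, p.2, p.1, p.2, p.1, p.2] ∈ Pres.relWords P22) p hp
  have h1 : val g9 [p.1, p.2, p.1, p.2, p.1, p.2] = 1 :=
    Subtype.ext (by rw [val_g9, val_relWords CosetCertFi22Simple.good h]; rfl)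
  simpa [val_cons, val_nil, mul_assoc] using h1

theorem perfect : commutator HH = ⊤ := by
  let f : Nat → Abelianization HH := fun k => Abelianization.of (g9 k)
  obtain ⟨hA, hT, hO⟩ := idents
  have hv : ∀ w, Abelianization.of (val g9 w) = val f w := fun w => by
    unfold val; rw [map_list_prod, List.map_map]; rfl
  have hsq : ∀ k < 8, f k * f k = 1 := fun k hk => by
    show Abelianization.of _ * Abelianization.of _ = 1
    rw [← map_mul, g9_sq_one k hk, map_one]
  have edge : ∀ x y, (x, y) ∈ [(1, 2), (2, 3), (3, 4), (4, 5), (2, 6), (6, 7)] → f x = f y := by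
    intro x y hxy
    have hh := congrArg Abelianization.of (g9_braid (x, y) hxy)
    simp only [map_mul, map_one] at hh
    have hb : x < 8 ∧ y < 8 :=
      (by decide : ∀ p ∈ [(1, 2), (2, 3), (3, 4), (4, 5), (2, 6), (6, 7)], p.1 < 8 ∧ p.2 < 8) _ hxy
    have h' : (f x * f y) ^ 3 = 1 := by
      rw [← hh]
      simp only [f, pow_succ, pow_zero, one_mul, mul_assoc]
    have h2 : (f x * f y) ^ 2 = 1 := by
      rw [pow_two, mul_mul_mul_comm, hsq x hb.1, hsq y hb.2, one_mul]
    have h3 : f x * f y = 1 := by rwa [pow_succ, h2, one_mul] at h'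
    calc f x = f x * (f y * f y) := by rw [hsq y hb.2, mul_one]
      _ = f x * f y * f y := (mul_assoc _ _ _).symm
      _ = f y := by rw [h3, one_mul]
  have e12 := edge 1 2 (by decide)
  have e23 := edge 2 3 (by decide)
  have e34 := edge 3 4 (by decide)
  have e45 := edge 4 5 (by decide)
  have e26 := edge 2 6 (by decide)
  have e67 := edge 6 7 (by decide)
  have e2 : f 2 = f 1 := e12.symm
  have e3 : f 3 = f 1 := e23.symm.trans e2
  have e4 : f 4 = f 1 := e34.symm.trans e3
  have e5 : f 5 = f 1 := e45.symm.trans e4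
  have e6 : f 6 = f 1 := e26.symm.trans e2
  have e7 : f 7 = f 1 := e67.symm.trans e6
  have h1 : f 1 = 1 := by
    have h := congrArg Abelianization.of hO
    rw [hv, map_one, wordO, val_replicate] at h
    simp only [val_cons, val_nil, mul_one, e2, e3, e4, e5, e6, e7] at h
    have hs := hsq 1 (by norm_num)
    calc f 1 = f 1 * ((f 1 * f 1) ^ 31) := by rw [hs, one_pow, mul_one]
      _ = (f 1 * (f 1 * (f 1 * (f 1 * (f 1 * (f 1 * f 1)))))) ^ 9 := by
        simp only [← pow_two, ← pow_succ', ← pow_mul]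
      _ = 1 := h
  have hu : ∀ a b : Abelianization HH, a * b = b * a := mul_comm
  have h8 : f 8 = 1 := by
    have h : val f wordT = f 8 := by rw [← hv, hT]
    simp only [wordT, val_append, val_cons, val_nil, mul_one, e2, e3, e4, h1, one_mul] at h
    exact mul_eq_left.mp h
  have h0 : f 0 = 1 := by
    have h : val f wordA = f 0 := by rw [← hv, hA]
    simp only [wordA, val_replicate, val_cons, val_nil, mul_one, e2, e3, e4, e6, h1, h8, one_mul,
      one_pow] at h
    exact h.symm
  rw [eq_top_iff, ← g9_top, Subgroup.closure_le]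
  rintro _ ⟨k, hk, rfl⟩
  show g9 k ∈ commutator _
  rw [← Abelianization.ker_of, MonoidHom.mem_ker]
  show f k = 1
  interval_cases k
  exacts [h0, h1, e2.trans h1, e3.trans h1, e4.trans h1, e5.trans h1, e6.trans h1, e7.trans h1, h8]

theorem lab_sub {k : Pres.Grp P22} (hk : k ∈ HH) (i : Fin T22.N) :
    lab (rho CosetCertFi22U.enumerated k i) = lab i := by
  rw [HH, sub_eq CosetCertFi22U.enumerated] at hk
  induction hk using Subgroup.closure_induction generalizing i with
  | mem k hk =>
    obtain ⟨s, hs, rfl⟩ := hk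
    have hs' : s.letters ∈ CosetCertFi22UData.cert.sgens :=
      CosetCertFi22U.enumerated.sgens ▸ List.mem_map.mpr ⟨s, hs, rfl⟩
    have hl := CosetCertFi22U.enumerated.table.letters _ (List.mem_append_right _ hs')
    have h := (orb_facts CosetCertFi22U.enumerated CosetCertFi22U.orbits _
      (rho CosetCertFi22U.enumerated (val P22.gg s.letters) i).2).1 _ hs'
    rw [← rho_val_apply CosetCertFi22U.enumerated hl, Equiv.Perm.inv_def, Equiv.symm_apply_apply] at h
    exact h.symm
  | one => simp
  | mul a b _ _ ha hb => rw [map_mul, Equiv.Perm.mul_apply, ha, hb]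
  | inv a _ ha =>
    have := ha (rho CosetCertFi22U.enumerated a⁻¹ i)
    rw [← Equiv.Perm.mul_apply, ← map_mul, mul_inv_cancel, map_one, Equiv.Perm.one_apply] at this
    exact this.symm

section Main

variable {F : Type} [Field F] [Fintype F] [UnitaryF4Geo.FourField F] {w : F} (hw : w ^ 2 = w + 1)

theorem cardF : Fintype.card F = 2 ^ 2 := UnitaryF4Geo.FourField.card_eq

/-- Pairs of an element of the stabiliser and an element of the unitary group acting alike. -/
def R (w : F) : Subgroup (HH × SU 6 F 2) where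
  carrier := {p | ∀ i : Fin T22.N, lab i = 2 → ∃ c : F, c ≠ 0 ∧
    act p.2 (toV w (vcode i)) =
      c • toV w (vcode (rho CosetCertFi22U.enumerated (p.1 : Pres.Grp P22) i))}
  one_mem' := fun i _ => ⟨1, one_ne_zero, by
    simp only [Prod.fst_one, Prod.snd_one, OneMemClass.coe_one, map_one, Equiv.Perm.one_apply,
      act_one, one_smul]⟩
  mul_mem' := by
    intro p p' hp hp' i hi
    obtain ⟨c, hc, e⟩ := hp' i hi
    obtain ⟨d, hd, e'⟩ := hp _ ((lab_sub p'.1.2 i).trans hi)
    refine ⟨c * d, mul_ne_zero hc hd, ?_⟩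
    rw [Prod.snd_mul, act_mul, e, act_smul, e', smul_smul, Prod.fst_mul, Subgroup.coe_mul, map_mul,
      Equiv.Perm.mul_apply]
  inv_mem' := by
    intro p hp i hi
    have hi' : lab (rho CosetCertFi22U.enumerated ((p.1⁻¹ : HH) : Pres.Grp P22) i) = 2 :=
      (lab_sub (p.1⁻¹).2 i).trans hi
    obtain ⟨c, hc, e⟩ := hp _ hi'
    refine ⟨c⁻¹, inv_ne_zero hc, ?_⟩
    rw [Subgroup.coe_inv, map_inv, ← Equiv.Perm.mul_apply, mul_inv_cancel, Equiv.Perm.one_apply] at e
    show act p.2⁻¹ _ = _
    have e2 := congrArg (fun x => c⁻¹ • act p.2⁻¹ x) e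
    simp only [act_inv_act, act_smul, smul_smul, inv_mul_cancel₀ hc, one_smul] at e2
    rw [Prod.fst_inv, Subgroup.coe_inv, map_inv]
    exact e2.symm

include hw

theorem cen_herm (k : Nat) (hk : k < 8) : hermForm 6 F 2 (toV w (cen k)) (toV w (cen k)) = 0 := by
  rw [← toF_hC hw, cen_iso k hk]
  simp [toF]

/-- The transvection of generator `k + 1`. -/
def tr (k : Nat) (hk : k < 8) : SU 6 F 2 :=
  tv cardF (toV w (cen k)) 1 (cen_herm hw k hk) (by rw [one_pow]; exact UnitaryF4Geo.add_self 1)

theorem move_facts (i : Fin T22.N) (hi : lab i = 2) :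
    T22.run (W9.getD 0 []) i = i ∧ ∀ k (hk : k < 8), ∃ c : F, c ≠ 0 ∧
      c • toV w (vcode (T22.run (W9.getD (k + 1) []) i)) = act (tr hw k hk) (toV w (vcode i)) := by
  have h := move4 i i.2
  simp only [moveOk, Nat.beq_eq.mpr hi, cond_true, Bool.and_eq_true, Nat.beq_eq] at h
  refine ⟨h.1, fun k hk => ?_⟩
  have h2 := (allFrom_iff _ _ _).mp h.2 k (Nat.zero_le _) (by omega)
  simp only [moveGen, force_eq] at h2
  obtain ⟨c, hc, e⟩ := scaled_sound hw h2
  refine ⟨c, hc, e.trans ?_⟩
  rw [tr, tv_act, one_mul, ← toF_hC hw]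
  funext d
  rw [toF_xor hw (dig_lt _ _) (mulF_lt _ _), toF_mul hw (hC_lt _ _) (dig_lt _ _)]
  rfl

theorem rho_inv_g9 (k : Nat) (hk : k < 9) (i : Fin T22.N) :
    ((rho CosetCertFi22U.enumerated ((g9 k)⁻¹ : HH) i : Fin T22.N) : Nat) =
      T22.run (W9.getD k []) i := by
  rw [Subgroup.coe_inv, map_inv]
  exact rho_val_apply CosetCertFi22U.enumerated (sub_letters k hk) i

theorem mem_R_gen (k : Nat) (hk : k < 8) : ((g9 (k + 1))⁻¹, tr hw k hk) ∈ R w := by
  intro i hi
  obtain ⟨c, hc, e⟩ := (move_facts hw i hi).2 k hk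
  exact ⟨c, hc, by rw [rho_inv_g9 hw (k + 1) (by omega) i]; exact e.symm⟩

theorem mem_R_zero : ((g9 0)⁻¹, (1 : SU 6 F 2)) ∈ R w := by
  intro i hi
  refine ⟨1, one_ne_zero, ?_⟩
  rw [rho_inv_g9 hw 0 (by norm_num) i, (move_facts hw i hi).1, act_one, one_smul]

theorem exists_g (k : HH) : ∃ g, (k, g) ∈ R w := by
  have h : (⊤ : Subgroup HH) ≤ (R w).map (MonoidHom.fst HH (SU 6 F 2)) := by
    rw [← g9_top, Subgroup.closure_le]
    rintro _ ⟨k, hk, rfl⟩
    rcases k with _ | k
    · exact ⟨_, inv_mem (mem_R_zero hw), by simp⟩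
    · exact ⟨_, inv_mem (mem_R_gen hw k (by omega)), by simp⟩
  obtain ⟨⟨k', g⟩, hm, rfl⟩ := h (Subgroup.mem_top k)
  exact ⟨g, hm⟩

theorem exists_k (g : SU 6 F 2) : ∃ k : HH, (k, g) ∈ R w := by
  have h : (⊤ : Subgroup (SU 6 F 2)) ≤ (R w).map (MonoidHom.snd HH (SU 6 F 2)) := by
    rw [← tGroup_eq_top (F := F) cardF (by norm_num) (by norm_num), tGroup, Subgroup.closure_le]
    rintro A ⟨v, c, hv, hA⟩
    rcases eq_tv_or_one cardF hv hA with rfl | ⟨hc, rfl, -⟩
    · exact Subgroup.one_mem _
    by_cases hc0 : c = 0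
    · subst hc0
      have : tv cardF v 0 hv hc = 1 := su_ext fun x => by
        rw [tv_act, zero_mul, zero_smul, add_zero, act_one]
      rw [this]
      exact Subgroup.one_mem _
    by_cases hv0 : v = 0
    · subst hv0
      have : tv cardF (0 : Fin 6 → F) c hv hc = 1 := su_ext fun x => by
        rw [tv_act, smul_zero, add_zero, act_one]
      rw [this]
      exact Subgroup.one_mem _
    have hc1 : c = 1 := (UnitaryF4Geo.fixed_cases
      (UnitaryF4Geo.eq_of_add_eq_zero hc).symm).resolve_left hc0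
    subst hc1
    obtain ⟨i, hi, μ, hμ, rfl⟩ := exists_point hw hv0 hv
    obtain ⟨φ, -, hφ⟩ := exists_coset_equiv CosetCertFi22U.enumerated
    have horb := exists_orbit CosetCertFi22U.enumerated CosetCertFi22U.orbits 2 6 (by decide +kernel)
      (by decide +kernel) (by decide +kernel) φ hφ
    have hmem : φ i ∈ MulAction.orbit HH (φ ⟨6, by decide +kernel⟩) := horb ▸ ⟨i, hi, rfl⟩
    obtain ⟨k, hk⟩ := hmem
    have hki : rho CosetCertFi22U.enumerated (k : Pres.Grp P22) ⟨6, by decide +kernel⟩ = i :=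
      φ.injective ((hφ _ _).trans hk)
    obtain ⟨g, hg⟩ := exists_g hw k
    have hm := hg ⟨6, by decide +kernel⟩ (show lab 6 = 2 by decide +kernel)
    obtain ⟨ν, hν, e⟩ := hm
    rw [hki] at e
    obtain ⟨γ, hγ, hc6⟩ := scaled_sound hw
      (show scaled (vcode 6) (fun d => dig (cen 0) d) = true by decide +kernel)
    refine ⟨(k, g) * ((g9 1)⁻¹, tr hw 0 (by norm_num)) * (k, g)⁻¹,
      mul_mem (mul_mem hg (mem_R_gen hw 0 (by norm_num))) (inv_mem hg), ?_⟩
    show g * tr hw 0 (by norm_num) * g⁻¹ = _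
    rw [tr, tv_conj cardF g]
    apply su_ext
    intro x
    rw [tv_act, tv_act]
    have e6 : toV w (cen 0) = γ • toV w (vcode 6) := hc6.symm
    rw [e6, act_smul, e, smul_smul]
    simp only [herm_smul_right, smul_smul]
    congr 2
    have hgn := UnitaryF4Geo.cube (mul_ne_zero hγ hν)
    have hm3 := UnitaryF4Geo.cube hμ
    calc _ = (γ * ν) ^ 3 * hermForm 6 F 2 x (toV w (vcode i)) := by ring
      _ = μ ^ 3 * hermForm 6 F 2 x (toV w (vcode i)) := by rw [hgn, hm3]
      _ = _ := by ring
  obtain ⟨⟨k, g'⟩, hm, rfl⟩ := h (Subgroup.mem_top g)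
  exact ⟨k, hm⟩

theorem unique_g {k : HH} {g g' : SU 6 F 2} (hg : (k, g) ∈ R w) (hg' : (k, g') ∈ R w) :
    (QuotientGroup.mk g : PSU 6 F 2) = QuotientGroup.mk g' := by
  have hd : (1, g⁻¹ * g') ∈ R w := by simpa using mul_mem (inv_mem hg) hg'
  rw [QuotientGroup.eq, Subgroup.mem_center_iff]
  obtain ⟨d, hd'⟩ := eq_smul_of_fix_lines (cardF (F := F)) (by norm_num) (g⁻¹ * g') (fun u hu => by
    by_cases hu0 : u = 0
    · exact ⟨1, by rw [hu0, one_smul, OrthUnitaryTransvection.act, Matrix.mulVec_zero]⟩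
    obtain ⟨i, hi, μ, hμ, rfl⟩ := exists_point hw hu0 hu
    obtain ⟨c, -, e⟩ := hd i hi
    simp only [OneMemClass.coe_one, map_one, Equiv.Perm.one_apply] at e
    exact ⟨c, by rw [act_smul, e, smul_comm]⟩)
  intro y
  apply su_ext
  intro z
  rw [act_mul y, act_mul (g⁻¹ * g') y, hd', hd', act_smul]

/-- The map onto the unitary group modulo scalars. -/
noncomputable def theta : HH →* PSU 6 F 2 :=
  MonoidHom.mk' (fun k => QuotientGroup.mk (exists_g hw k).choose) fun a b => by
    rw [← QuotientGroup.mk_mul]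
    exact unique_g hw (exists_g hw (a * b)).choose_spec
      (mul_mem (exists_g hw a).choose_spec (exists_g hw b).choose_spec)

theorem theta_surj : Function.Surjective (theta hw) := by
  intro y
  obtain ⟨g, rfl⟩ := QuotientGroup.mk_surjective y
  obtain ⟨k, hk⟩ := exists_k hw g
  exact ⟨k, unique_g hw (exists_g hw k).choose_spec hk⟩

theorem theta_zero : g9 0 ∈ (theta hw).ker := by
  rw [MonoidHom.mem_ker]
  have h : (g9 0, (1 : SU 6 F 2)) ∈ R w := by simpa using inv_mem (mem_R_zero hw)
  exact (unique_g hw (exists_g hw (g9 0)).choose_spec h).trans (QuotientGroup.mk_one _)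

omit hw in
theorem card_H : Finite HH ∧ Nat.card HH = 18393661440 := by
  haveI : Finite (Pres.Grp P22) := CosetCertFi22Simple.upper.1
  have h := Subgroup.index_mul_card HH
  rw [index_sub CosetCertFi22U.enumerated, CosetCertFi22Simple.card_and_faithful.1] at h
  refine ⟨inferInstance, ?_⟩
  have hN : T22.N = 3510 := rfl
  have h' : 3510 * Nat.card HH = 64561751654400 := h
  omega

omit hw in
theorem card_psu : Nat.card (PSU 6 F 2) = 9196830720 := by
  have h := Cfsg.Agent.S0280.result (F := F) (q := 2) cardF 6 (by norm_num)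
  simp only [Finset.prod_range_succ, Finset.prod_range_zero] at h
  norm_num at h
  omega

theorem ker_two : Nat.card (theta hw).ker = 2 := by
  haveI := card_H.1
  have h := Subgroup.card_mul_index (theta hw).ker
  rw [Subgroup.index_ker, MonoidHom.range_eq_top.mpr (theta_surj hw), Subgroup.card_top,
    card_psu (F := F), card_H.2] at h
  omega

omit hw in
theorem center_psu : Subgroup.center (PSU 6 F 2) = ⊥ := by
  haveI := isSimpleGroup_PSU (F := F) (n := 6) cardF (by norm_num) (by norm_num)
  refine (Subgroup.Normal.eq_bot_or_eq_top inferInstance).resolve_right fun htop => ?_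
  haveI : Finite (PSU 6 F 2) := Nat.finite_of_card_ne_zero (by rw [card_psu (F := F)]; decide)
  letI : CommGroup (PSU 6 F 2) := { (inferInstance : Group (PSU 6 F 2)) with
    mul_comm := fun a b => (Subgroup.mem_center_iff.mp (htop ▸ Subgroup.mem_top a) b).symm }
  have hp := IsSimpleGroup.prime_card (α := PSU 6 F 2)
  rw [card_psu (F := F)] at hp
  exact absurd (hp.eq_one_or_self_of_dvd 2 (by norm_num)) (by norm_num)

theorem double_cover : Cfsg.IsNonsplitDoubleCover HH (PSU 6 F 2) := by
  haveI := card_H.1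
  let e : PSU 6 F 2 ≃* (theta hw).range :=
    Subgroup.topEquiv.symm.trans (MulEquiv.subgroupCongr (MonoidHom.range_eq_top.mpr (theta_surj hw)).symm)
  exact nonsplit_double_cover (theta hw) e center_psu (ker_two hw) perfect

end Main

end Cfsg.Agent.CosetCertU62
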