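import Mathlib

/-!
Tools for covers of finite groups by two conjugacy classes of subgroups.

* `quotient_cover`: a cover of `G` by two proper subgroups containing a normal `Z` descends to `G ⧸ Z`.
* `exists_pow_root`: if all irreducible factors of `f` have degree divisible by `deg π`, then `π` has a root
  modulo a power-nilpotent ideal of `F[X]/(f)`, and `exists_root_aeval` lifts it to an exact root.
-/

set_option autoImplicit false
set_option linter.unusedSectionVars false

namespace Cfsg.Agent.Cover2Common53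

open Polynomial

/-- a cover of a group by the conjugates of two proper subgroups -/
def Cover (G : Type*) [Group G] : Prop :=
  ∃ H K : Subgroup G, H ≠ ⊤ ∧ K ≠ ⊤ ∧ ∀ g : G, ∃ x : G, x * g * x⁻¹ ∈ H ∨ x * g * x⁻¹ ∈ K

theorem map_mk_ne_top {G : Type*} [Group G] (Z : Subgroup G) [Z.Normal] {H : Subgroup G}
    (hZ : Z ≤ H) (hH : H ≠ ⊤) : H.map (QuotientGroup.mk' Z) ≠ ⊤ := by
  intro h
  apply hH
  rw [eq_top_iff]
  intro g _
  have hg : QuotientGroup.mk' Z g ∈ H.map (QuotientGroup.mk' Z) := h ▸ Subgroup.mem_top _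
  obtain ⟨a, ha, hag⟩ := Subgroup.mem_map.1 hg
  have h2 : a⁻¹ * g ∈ Z := QuotientGroup.eq.1 hag
  simpa using H.mul_mem ha (hZ h2)

theorem quotient_cover {G : Type*} [Group G] (Z : Subgroup G) [Z.Normal] {H K : Subgroup G}
    (hZH : Z ≤ H) (hZK : Z ≤ K) (hH : H ≠ ⊤) (hK : K ≠ ⊤)
    (hc : ∀ g : G, ∃ x : G, x * g * x⁻¹ ∈ H ∨ x * g * x⁻¹ ∈ K) : Cover (G ⧸ Z) := by
  refine ⟨H.map (QuotientGroup.mk' Z), K.map (QuotientGroup.mk' Z), map_mk_ne_top Z hZH hH,
    map_mk_ne_top Z hZK hK, fun g => ?_⟩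
  obtain ⟨g₀, rfl⟩ := QuotientGroup.mk'_surjective Z g
  obtain ⟨x, hx⟩ := hc g₀
  refine ⟨QuotientGroup.mk' Z x, ?_⟩
  rw [← map_mul, ← map_inv, ← map_mul]
  exact hx.imp (fun h => Subgroup.mem_map_of_mem _ h) (fun h => Subgroup.mem_map_of_mem _ h)

variable {F : Type*} [Field F]

theorem comp_sub_dvd (π a b : F[X]) : a - b ∣ π.comp a - π.comp b := by
  simpa [comp, eval_map] using sub_dvd_eval_sub a b (π.map C)

/-- a root of `π` modulo the radical of `f` -/
theorem exists_pow_root [Finite F] {π : F[X]} (hπ : Irreducible π) {f : F[X]} (hf : f ≠ 0)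
    (hdeg : ∀ p : F[X], Irreducible p → p ∣ f → π.natDegree ∣ p.natDegree) :
    ∃ (r : F[X]) (m : ℕ), f ∣ (π.comp r) ^ m := by
  classical
  induction f using UniqueFactorizationMonoid.induction_on_prime with
  | h₁ => exact absurd rfl hf
  | h₂ a ha => exact ⟨0, 1, ha.dvd⟩
  | h₃ a p ha hp ih =>
    obtain ⟨r', m, hr'⟩ := ih ha fun u hu hua => hdeg u hu (dvd_mul_of_dvd_right hua p)
    by_cases hpa : p ∣ a
    · refine ⟨r', m + 1, ?_⟩
      rw [pow_succ, mul_comm p a]
      exact mul_dvd_mul hr' (hp.dvd_of_dvd_pow (hpa.trans hr'))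
    · have hpi : Irreducible p := hp.irreducible
      have : Fact (Irreducible p) := ⟨hpi⟩
      have : Fact (Irreducible π) := ⟨hπ⟩
      have hfin : Module.Finite F (AdjoinRoot p) := (AdjoinRoot.powerBasis hpi.ne_zero).finite
      have : Module.Finite F (AdjoinRoot π) := (AdjoinRoot.powerBasis hπ.ne_zero).finite
      have : Finite (AdjoinRoot π) := Module.finite_of_finite F
      have : Finite (AdjoinRoot p) := Module.finite_of_finite F
      obtain ⟨φ⟩ : Nonempty (AdjoinRoot π →ₐ[F] AdjoinRoot p) := by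
        rw [FiniteField.nonempty_algHom_iff_finrank_dvd,
          (AdjoinRoot.powerBasis hπ.ne_zero).finrank, (AdjoinRoot.powerBasis hpi.ne_zero).finrank,
          AdjoinRoot.powerBasis_dim, AdjoinRoot.powerBasis_dim]
        exact hdeg p hpi (dvd_mul_right p a)
      obtain ⟨rp, hrp⟩ := AdjoinRoot.mk_surjective (φ (AdjoinRoot.root π))
      have hp0 : p ∣ π.comp rp := by
        rw [← AdjoinRoot.mk_eq_zero, comp_eq_aeval]
        have h := aeval_algHom_apply φ (AdjoinRoot.root π) π
        rw [AdjoinRoot.aeval_eq, AdjoinRoot.mk_self, map_zero] at h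
        rw [show AdjoinRoot.mk p (aeval rp π) = aeval (AdjoinRoot.mk p rp) π from
          (aeval_algHom_apply (AdjoinRoot.mkₐ p) rp π).symm, hrp, h]
      obtain ⟨u, v, huv⟩ := (hpi.coprime_iff_not_dvd).2 hpa
      refine ⟨rp + (r' - rp) * (u * p), m + 1, ?_⟩
      have e1 : p ∣ π.comp (rp + (r' - rp) * (u * p)) := by
        have hd : (rp + (r' - rp) * (u * p)) - rp ∣ π.comp (rp + (r' - rp) * (u * p)) - π.comp rp :=
          comp_sub_dvd _ _ _
        have h2 : p ∣ π.comp (rp + (r' - rp) * (u * p)) - π.comp rp :=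
          (Dvd.intro_left ((r' - rp) * u) (by ring)).trans hd
        simpa using dvd_add h2 hp0
      have e2 : a ∣ (π.comp (rp + (r' - rp) * (u * p))) ^ m := by
        have hd : (rp + (r' - rp) * (u * p)) - r' ∣ π.comp (rp + (r' - rp) * (u * p)) - π.comp r' :=
          comp_sub_dvd _ _ _
        have hav : a ∣ (rp + (r' - rp) * (u * p)) - r' :=
          Dvd.intro_left (-(r' - rp) * v) (by linear_combination -(r' - rp) * huv)
        have h3 : a ∣ (π.comp (rp + (r' - rp) * (u * p))) ^ m - (π.comp r') ^ m :=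
          (hav.trans hd).trans (sub_dvd_pow_sub_pow _ _ m)
        simpa using dvd_add h3 hr'
      rw [pow_succ']
      exact mul_dvd_mul e1 e2

theorem comp_pow_card [Fintype F] (π r : F[X]) (k : ℕ) :
    π.comp (r ^ (Fintype.card F ^ k)) = (π.comp r) ^ (Fintype.card F ^ k) := by
  induction k with
  | zero => simp
  | succ k ih =>
    rw [pow_succ, pow_mul, pow_mul, ← ih]
    generalize r ^ (Fintype.card F ^ k) = s
    rw [← FiniteField.expand_card, ← FiniteField.expand_card, expand_eq_comp_X_pow,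
      expand_eq_comp_X_pow, comp_assoc]

/-- an exact root of `π` in `F[a]` when the irreducible factors of an annihilating polynomial of `a`
have degree divisible by `deg π` -/
theorem exists_root_aeval [Fintype F] {A : Type*} [Ring A] [Algebra F A] (a : A) {π : F[X]}
    (hπ : Irreducible π) {f : F[X]} (hf : f ≠ 0) (hfa : aeval a f = 0)
    (hdeg : ∀ p : F[X], Irreducible p → p ∣ f → π.natDegree ∣ p.natDegree) :
    ∃ r : F[X], aeval (aeval a r) π = 0 := by
  obtain ⟨r, m, h⟩ := exists_pow_root hπ hf hdeg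
  refine ⟨r ^ (Fintype.card F ^ m), ?_⟩
  rw [← aeval_comp, comp_pow_card]
  have hm : m ≤ Fintype.card F ^ m := (Nat.lt_pow_self Fintype.one_lt_card).le
  obtain ⟨c, hc⟩ := h.trans (pow_dvd_pow _ hm)
  rw [hc, map_mul, hfa, zero_mul]

/-- `X ^ k - X - c` without roots, `k = 2, 3` -/
theorem exists_no_root [Fintype F] {k : ℕ} (hk : k ≠ 0) : ∃ c : F, ∀ x : F, x ^ k - x - c ≠ 0 := by
  classical
  have hns : ¬ Function.Surjective fun x : F => x ^ k - x := by
    intro hs
    have hi := (Finite.injective_iff_surjective (f := fun x : F => x ^ k - x)).2 hs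
    exact one_ne_zero (hi (a₁ := (1 : F)) (a₂ := 0) (by simp [zero_pow hk]))
  obtain ⟨c, hc⟩ : ∃ c, ∀ x : F, x ^ k - x ≠ c := by
    simpa [Function.Surjective] using hns
  exact ⟨c, fun x h => hc x (sub_eq_zero.1 h)⟩

theorem exists_irreducible [Fintype F] {d : ℕ} (hd : d = 2 ∨ d = 3) :
    ∃ π : F[X], Irreducible π ∧ π.natDegree = d := by
  obtain ⟨c, hc⟩ := exists_no_root (F := F) (k := d) (by omega)
  have e : (X ^ d - X - C c : F[X]).natDegree = d := by
    rcases hd with rfl | rfl <;> compute_degree!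
  refine ⟨_, irreducible_of_degree_le_three_of_not_isRoot
    (by rw [e, Finset.mem_Icc]; omega) fun x hx => hc x ?_, e⟩
  simpa using hx

theorem no_root {π : F[X]} (hπ : Irreducible π) (h2 : 2 ≤ π.natDegree) (c : F) : π.eval c ≠ 0 := by
  intro h
  obtain ⟨q, hq⟩ := dvd_iff_isRoot.2 (show IsRoot π c from h)
  rcases hπ.isUnit_or_isUnit hq with h' | h'
  · exact not_isUnit_X_sub_C c h'
  · have := natDegree_mul (p := X - C c) (q := q) (X_sub_C_ne_zero c) h'.ne_zero
    rw [← hq, natDegree_X_sub_C, natDegree_eq_zero_of_isUnit h'] at this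
    omega

end Cfsg.Agent.Cover2Common53
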