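import Cfsg.Prelude.Def_G2
import Cfsg.Agent.Lib.Cover2Common53
import Cfsg.Agent.Lib.ZornQuaternionPair50

/-!
`G₂(F)`, `F` of characteristic two with at least four elements: every automorphism of the octonions moves some
trace-one vector `v` by a scalar, and there are two orbits of such lines `v + F·1`.
-/

set_option autoImplicit false
set_option linter.unusedSectionVars false

namespace Cfsg.Agent.Cover2GTwo53

open Matrix Cfsg.Lie Cfsg.Agent.Cover2Common53 Cfsg.Agent.ZornQuaternionPair50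

variable {F : Type*} [Field F] [Fintype F] [CharP F 2]

/-- the unit -/
def one8 : Fin 8 → F := ![1, 0, 0, 0, 0, 0, 0, 1]

/-- the trace -/
def tr8 (z : Fin 8 → F) : F := z 0 + z 7

/-- the norm -/
def n8 (z : Fin 8 → F) : F := z 0 * z 7 + (z 1 * z 4 + z 2 * z 5 + z 3 * z 6)

/-- the polar form -/
def B8 (x y : Fin 8 → F) : F :=
  x 0 * y 7 + x 7 * y 0 + (x 1 * y 4 + x 4 * y 1 + (x 2 * y 5 + x 5 * y 2) + (x 3 * y 6 + x 6 * y 3))

theorem two_eq : (2 : F) = 0 := by exact_mod_cast CharP.cast_eq_zero F 2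

theorem one_mul8 (z : Fin 8 → F) : zornMul one8 z = z := by
  ext i; fin_cases i <;> simp [zornMul, one8, dot3, cross3]

theorem mul_one8 (z : Fin 8 → F) : zornMul z one8 = z := by
  ext i; fin_cases i <;> simp [zornMul, one8, dot3, cross3]

theorem sq8 (z : Fin 8 → F) : zornMul z z = tr8 z • z + n8 z • one8 := by
  ext i
  fin_cases i <;> simp [zornMul, one8, dot3, cross3, tr8, n8] <;>
    first
    | linear_combination (z 0 * z 7) * (two_eq (F := F))
    | linear_combination (-(z 0 * z 7)) * (two_eq (F := F))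
    | ring

theorem act_add (g : G2 F) (x y : Fin 8 → F) : act g (x + y) = act g x + act g y := mulVec_add _ _ _

theorem act_smul (g : G2 F) (c : F) (x : Fin 8 → F) : act g (c • x) = c • act g x := mulVec_smul _ _ _

theorem act_one (z : Fin 8 → F) : act (1 : G2 F) z = z := by simp [act]

theorem act_inv (g : G2 F) (z : Fin 8 → F) : act g⁻¹ (act g z) = z := by
  rw [← act_mul, inv_mul_cancel, act_one]

theorem act_inj (g : G2 F) {x y : Fin 8 → F} (h : act g x = act g y) : x = y := by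
  rw [← act_inv g x, h, act_inv]

theorem act_one8 (g : G2 F) : act g one8 = one8 := by
  have h : ∀ w, zornMul (act g one8) w = w := fun w => by
    conv_lhs => rw [← act_inv g⁻¹ w, inv_inv, ← act_zornMul, one_mul8]
    rw [← act_mul, mul_inv_cancel, act_one]
  exact (mul_one8 _).symm.trans (h one8)

theorem tr_n_act (g : G2 F) (z : Fin 8 → F) : tr8 (act g z) = tr8 z ∧ n8 (act g z) = n8 z := by
  by_cases hz : ∃ c : F, z = c • one8
  · obtain ⟨c, rfl⟩ := hz
    rw [act_smul, act_one8]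
    exact ⟨rfl, rfl⟩
  · have h1 := congrArg (act g) (sq8 z)
    rw [act_zornMul, sq8, act_add, act_smul, act_smul, act_one8] at h1
    have h2 : (tr8 (act g z) - tr8 z) • act g z = (n8 z - n8 (act g z)) • one8 := by
      rw [sub_smul, sub_smul, sub_eq_sub_iff_add_eq_add, h1, add_comm]
    have ht : tr8 (act g z) = tr8 z := by
      by_contra hne
      apply hz
      refine ⟨(tr8 (act g z) - tr8 z)⁻¹ * (n8 z - n8 (act g z)), act_inj g ?_⟩
      rw [act_smul, act_one8, mul_smul, ← h2, smul_smul, inv_mul_cancel₀ (sub_ne_zero.2 hne), one_smul]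
    refine ⟨ht, ?_⟩
    have h3 := congrFun h2 0
    rw [ht] at h3
    simp [one8] at h3
    exact (sub_eq_zero.1 h3.symm).symm

theorem n8_add (x y : Fin 8 → F) : n8 (x + y) = n8 x + n8 y + B8 x y := by
  simp [n8, B8]; ring

theorem B8_act (g : G2 F) (x y : Fin 8 → F) : B8 (act g x) (act g y) = B8 x y := by
  have h := n8_add (act g x) (act g y)
  rw [← act_add, (tr_n_act g _).2, (tr_n_act g _).2, (tr_n_act g _).2, n8_add] at h
  exact (add_left_cancel h).symm

theorem exists_B8 (φ : Module.Dual F (Fin 8 → F)) : ∃ y : Fin 8 → F, ∀ x, φ x = B8 x y := by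
  refine ⟨![φ (Pi.single 7 1), φ (Pi.single 4 1), φ (Pi.single 5 1), φ (Pi.single 6 1), φ (Pi.single 1 1),
    φ (Pi.single 2 1), φ (Pi.single 3 1), φ (Pi.single 0 1)], fun x => ?_⟩
  conv_lhs => rw [pi_eq_sum_univ' x]
  simp [B8, Fin.sum_univ_eight]
  ring

theorem B8_sub_left (x x' y : Fin 8 → F) : B8 (x - x') y = B8 x y - B8 x' y := by
  simp [B8]; ring

theorem B8_ext {y y' : Fin 8 → F} (h : ∀ x, B8 x y = B8 x y') : y = y' := by
  funext i
  fin_cases i
  · simpa [B8] using h (Pi.single 7 1)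
  · simpa [B8] using h (Pi.single 4 1)
  · simpa [B8] using h (Pi.single 5 1)
  · simpa [B8] using h (Pi.single 6 1)
  · simpa [B8] using h (Pi.single 1 1)
  · simpa [B8] using h (Pi.single 2 1)
  · simpa [B8] using h (Pi.single 3 1)
  · simpa [B8] using h (Pi.single 0 1)

theorem exists_fixed (g : G2 F) : ∃ v : Fin 8 → F, tr8 v = 1 ∧ ∃ c : F, act g v = v + c • one8 := by
  by_cases h : ∃ v, act g v = v + one8
  · obtain ⟨v, hv⟩ := h
    refine ⟨v, ?_, 1, by rw [hv, one_smul]⟩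
    have e := (tr_n_act g v).2
    rw [hv, n8_add, add_assoc, add_eq_left] at e
    simp [n8, B8, one8] at e
    show v 0 + v 7 = 1
    linear_combination e - (two_eq (F := F))
  · obtain ⟨w, hw, hw0⟩ : ∃ w, act g w = w ∧ tr8 w ≠ 0 := by
      by_contra hne
      push_neg at hne
      apply h
      let L : (Fin 8 → F) →ₗ[F] (Fin 8 → F) :=
        Matrix.toLin' ((g : GL (Fin 8) F) : Matrix (Fin 8) (Fin 8) F) - LinearMap.id
      let φ : Module.Dual F (Fin 8 → F) :=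
        { toFun := tr8
          map_add' := fun a b => by simp [tr8]; ring
          map_smul' := fun c a => by simp [tr8]; ring }
      have hφ : φ ∈ (LinearMap.ker L).dualAnnihilator := by
        rw [Submodule.mem_dualAnnihilator]
        intro x hx
        exact hne x (sub_eq_zero.1 (by simpa [L, act, LinearMap.mem_ker] using hx))
      rw [← LinearMap.range_dualMap_eq_dualAnnihilator_ker] at hφ
      obtain ⟨ψ, hψ⟩ := hφ
      obtain ⟨y, hy⟩ := exists_B8 ψ
      refine ⟨act g⁻¹ y, ?_⟩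
      have e : act g⁻¹ y = y + one8 := by
        refine B8_ext fun x => ?_
        have h1 := LinearMap.congr_fun hψ x
        change ψ (act g x - x) = x 0 + x 7 at h1
        rw [hy, B8_sub_left, sub_eq_iff_eq_add, ← B8_act g⁻¹, act_inv] at h1
        rw [h1]
        simp [B8, one8]; ring
      have e2 : act g (act g⁻¹ y) = y := by rw [← act_mul, mul_inv_cancel, act_one]
      rw [e2, e, add_assoc]
      funext i
      simp [CharTwo.add_self_eq_zero]
    refine ⟨(tr8 w)⁻¹ • w, ?_, 0, by rw [act_smul, hw, zero_smul, add_zero]⟩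
    show (tr8 w)⁻¹ * w 0 + (tr8 w)⁻¹ * w 7 = 1
    rw [← mul_add]
    exact inv_mul_cancel₀ hw0

/-! ### the `SL₃` -/

/-- cofactor action -/
def cof (r₀ r₁ r₂ b : Fin 3 → F) : Fin 3 → F :=
  ![dot3 (cross3 r₁ r₂) b, dot3 (cross3 r₂ r₀) b, dot3 (cross3 r₀ r₁) b]

/-- the action of the rows `r` -/
def row3 (r₀ r₁ r₂ a : Fin 3 → F) : Fin 3 → F := ![dot3 r₀ a, dot3 r₁ a, dot3 r₂ a]

/-- the vector map -/
def sl3 (r₀ r₁ r₂ : Fin 3 → F) (z : Fin 8 → F) : Fin 8 → F :=
  ![z 0, row3 r₀ r₁ r₂ (zA F z) 0, row3 r₀ r₁ r₂ (zA F z) 1, row3 r₀ r₁ r₂ (zA F z) 2,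
    cof r₀ r₁ r₂ (zB F z) 0, cof r₀ r₁ r₂ (zB F z) 1, cof r₀ r₁ r₂ (zB F z) 2, z 7]

theorem dot_sl3 (r₀ r₁ r₂ u v : Fin 3 → F) :
    dot3 (row3 r₀ r₁ r₂ u) (cof r₀ r₁ r₂ v) = dot3 r₀ (cross3 r₁ r₂) * dot3 u v := by
  simp [dot3, row3, cof, cross3]; ring

theorem cross_row (r₀ r₁ r₂ u v : Fin 3 → F) :
    cross3 (row3 r₀ r₁ r₂ u) (row3 r₀ r₁ r₂ v) = cof r₀ r₁ r₂ (cross3 u v) := by
  ext i; fin_cases i <;> simp [dot3, row3, cof, cross3] <;> ring

theorem cross_cof (r₀ r₁ r₂ u v : Fin 3 → F) :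
    cross3 (cof r₀ r₁ r₂ u) (cof r₀ r₁ r₂ v) = dot3 r₀ (cross3 r₁ r₂) • row3 r₀ r₁ r₂ (cross3 u v) := by
  ext i; fin_cases i <;> simp [dot3, row3, cof, cross3] <;> ring

theorem zA_sl3 (r₀ r₁ r₂ : Fin 3 → F) (z : Fin 8 → F) : zA F (sl3 r₀ r₁ r₂ z) = row3 r₀ r₁ r₂ (zA F z) := by
  ext i; fin_cases i <;> simp [sl3]

theorem zB_sl3 (r₀ r₁ r₂ : Fin 3 → F) (z : Fin 8 → F) : zB F (sl3 r₀ r₁ r₂ z) = cof r₀ r₁ r₂ (zB F z) := by
  ext i; fin_cases i <;> simp [sl3]

theorem sl3_mul {r₀ r₁ r₂ : Fin 3 → F} (h : dot3 r₀ (cross3 r₁ r₂) = 1) (x y : Fin 8 → F) :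
    sl3 r₀ r₁ r₂ (zornMul x y) = zornMul (sl3 r₀ r₁ r₂ x) (sl3 r₀ r₁ r₂ y) := by
  have d1 : ∀ u v, dot3 (row3 r₀ r₁ r₂ u) (cof r₀ r₁ r₂ v) = dot3 u v := fun u v => by
    rw [dot_sl3, h, one_mul]
  have d2 : ∀ u v, dot3 (cof r₀ r₁ r₂ v) (row3 r₀ r₁ r₂ u) = dot3 v u := fun u v => by
    have e := d1 u v
    simp only [dot3] at e ⊢
    linear_combination e
  have c2 : ∀ u v, cross3 (cof r₀ r₁ r₂ u) (cof r₀ r₁ r₂ v) = row3 r₀ r₁ r₂ (cross3 u v) := fun u v => by
    rw [cross_cof, h, one_smul]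
  have s0 : ∀ z, sl3 r₀ r₁ r₂ z 0 = z 0 := fun z => rfl
  have s7 : ∀ z, sl3 r₀ r₁ r₂ z 7 = z 7 := fun z => rfl
  conv_rhs => rw [zornMul]
  simp only [s0, s7, zA_sl3, zB_sl3, d1, d2, c2, cross_row]
  ext i
  fin_cases i <;> simp [sl3, zornMul, row3, cof, dot3] <;> ring

/-- `sl3` as a linear map -/
def sl3L (r₀ r₁ r₂ : Fin 3 → F) : (Fin 8 → F) →ₗ[F] (Fin 8 → F) where
  toFun := sl3 r₀ r₁ r₂
  map_add' x y := by ext i; fin_cases i <;> simp [sl3, row3, cof, dot3] <;> ring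
  map_smul' c x := by ext i; fin_cases i <;> simp [sl3, row3, cof, dot3] <;> ring

theorem exists_sl3 {r₀ r₁ r₂ : Fin 3 → F} (h : dot3 r₀ (cross3 r₁ r₂) = 1) :
    ∃ g : G2 F, ∀ z, act g z = sl3 r₀ r₁ r₂ z := by
  have inj : Function.Injective (sl3L r₀ r₁ r₂) := by
    rw [← LinearMap.ker_eq_bot, LinearMap.ker_eq_bot']
    intro z hz
    have hA : row3 r₀ r₁ r₂ (zA F z) = 0 := by
      rw [← zA_sl3, show sl3 r₀ r₁ r₂ z = 0 from hz]; ext i; fin_cases i <;> rfl
    have hB : cof r₀ r₁ r₂ (zB F z) = 0 := by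
      rw [← zB_sl3, show sl3 r₀ r₁ r₂ z = 0 from hz]; ext i; fin_cases i <;> rfl
    have dA : ∀ v, dot3 (zA F z) v = 0 := fun v => by
      rw [← one_mul (dot3 _ _), ← h, ← dot_sl3, hA]; simp [dot3]
    have dB : ∀ u, dot3 u (zB F z) = 0 := fun u => by
      rw [← one_mul (dot3 _ _), ← h, ← dot_sl3, hB]; simp [dot3]
    funext i
    fin_cases i
    · exact congrFun hz 0
    · simpa [dot3] using dA ![1, 0, 0]
    · simpa [dot3] using dA ![0, 1, 0]
    · simpa [dot3] using dA ![0, 0, 1]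
    · simpa [dot3] using dB ![1, 0, 0]
    · simpa [dot3] using dB ![0, 1, 0]
    · simpa [dot3] using dB ![0, 0, 1]
    · exact congrFun hz 7
  have hu : IsUnit (LinearMap.toMatrix' (sl3L r₀ r₁ r₂)) := by
    rw [← Matrix.mulVec_injective_iff_isUnit]
    intro x y hxy
    simp only [LinearMap.toMatrix'_mulVec] at hxy
    exact inj hxy
  refine ⟨⟨hu.unit, fun x y => ?_⟩, fun z => ?_⟩
  · show LinearMap.toMatrix' _ *ᵥ _ = zornMul (LinearMap.toMatrix' _ *ᵥ _) (LinearMap.toMatrix' _ *ᵥ _)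
    simp only [LinearMap.toMatrix'_mulVec]
    exact sl3_mul h x y
  · show LinearMap.toMatrix' _ *ᵥ _ = _
    simp only [LinearMap.toMatrix'_mulVec]
    rfl

theorem exists_cross {a : Fin 3 → F} (ha : a ≠ 0) : ∃ r₁ r₂ : Fin 3 → F, cross3 r₁ r₂ = a := by
  obtain ⟨i, hi⟩ : ∃ i, a i ≠ 0 := Function.ne_iff.1 ha
  fin_cases i
  · replace hi : a 0 ≠ 0 := hi
    refine ⟨![-a 1, a 0, 0], ![-(a 2) / a 0, 0, 1], ?_⟩
    ext i; fin_cases i <;> simp [cross3] <;> field_simp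
  · replace hi : a 1 ≠ 0 := hi
    refine ⟨![0, -a 2, a 1], ![1, -(a 0) / a 1, 0], ?_⟩
    ext i; fin_cases i <;> simp [cross3] <;> field_simp
  · replace hi : a 2 ≠ 0 := hi
    refine ⟨![a 2, 0, -a 0], ![0, 1, -(a 1) / a 2], ?_⟩
    ext i; fin_cases i <;> simp [cross3] <;> field_simp

theorem dot_cross_left (u v : Fin 3 → F) : dot3 (cross3 u v) u = 0 ∧ dot3 (cross3 u v) v = 0 := by
  constructor <;> simp [dot3, cross3] <;> ring

/-! ### conjugation inside the quaternion subalgebra -/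

/-- conjugation by a two by two matrix of non-zero determinant -/
theorem exists_conj {P : Matrix (Fin 2) (Fin 2) F} (hP : P.det ≠ 0) :
    ∃ g : G2 F, ∀ A B A' B' : Matrix (Fin 2) (Fin 2) F, P * A = A' * P → P * B = B' * P →
      act g (pack (A, B)) = pack (A', B') := by
  let u : GL (Fin 2) F := Matrix.GeneralLinearGroup.mkOfDetNeZero P hP
  refine ⟨phi ⟨(u, u), mem_K.2 rfl⟩, fun A B A' B' h h' => ?_⟩
  rw [act_phi]
  congr 1
  have hu : P * ((u⁻¹ : GL (Fin 2) F) : Matrix (Fin 2) (Fin 2) F) = 1 := Units.mul_inv u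
  refine Prod.ext ?_ ?_
  · show P * A * _ = A'
    rw [h, Matrix.mul_assoc, hu, Matrix.mul_one]
  · show P * B * _ = B'
    rw [h', Matrix.mul_assoc, hu, Matrix.mul_one]

/-- conjugation by `(1 s; 0 1)` in coordinates -/
theorem exists_upper (s : F) : ∃ g : G2 F, ∀ z : Fin 8 → F, ∃ z' : Fin 8 → F, act g z = z' ∧
    z' 0 = z 0 + s * z 4 ∧ z' 7 = z 7 + s * z 4 ∧ z' 4 = z 4 ∧
    z' 1 = z 1 + s * (z 0 + z 7) + s ^ 2 * z 4 ∧ z' 2 * z' 5 + z' 3 * z' 6 = z 2 * z 5 + z 3 * z 6 := by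
  obtain ⟨g, hg⟩ := exists_conj (P := !![1, s; 0, 1]) (by simp [Matrix.det_fin_two])
  refine ⟨g, fun z => ⟨_, rfl, ?_⟩⟩
  have hsq : !![1, s; 0, 1] * !![1, s; 0, 1] = (1 : Matrix (Fin 2) (Fin 2) F) := by
    ext i j; fin_cases i <;> fin_cases j <;> simp [Matrix.mul_apply, Fin.sum_univ_two, CharTwo.add_self_eq_zero]
  have h := hg (unpack z).1 (unpack z).2
    (!![1, s; 0, 1] * (unpack z).1 * !![1, s; 0, 1]) (!![1, s; 0, 1] * (unpack z).2 * !![1, s; 0, 1]) (by
      rw [Matrix.mul_assoc _ !![1, s; 0, 1] !![1, s; 0, 1], hsq, Matrix.mul_one]) (by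
      rw [Matrix.mul_assoc _ !![1, s; 0, 1] !![1, s; 0, 1], hsq, Matrix.mul_one])
  rw [show ((unpack z).1, (unpack z).2) = unpack z from rfl, pack_unpack] at h
  rw [h]
  simp [pack, unpack, Matrix.mul_apply, Fin.sum_univ_two]
  refine ⟨?_, ?_, ?_⟩ <;> first | ring | linear_combination (z 3 * s * z 2 + z 3 ^ 2 * s ^ 2) * (two_eq (F := F))

/-- conjugation by `(0 1; 1 0)` in coordinates -/
theorem exists_swap : ∃ g : G2 F, ∀ z : Fin 8 → F, ∃ z' : Fin 8 → F, act g z = z' ∧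
    z' 0 = z 7 ∧ z' 7 = z 0 ∧ z' 4 = z 1 ∧ z' 1 = z 4 ∧ z' 2 * z' 5 + z' 3 * z' 6 = z 2 * z 5 + z 3 * z 6 := by
  obtain ⟨g, hg⟩ := exists_conj (F := F) (P := !![0, 1; 1, 0]) (by simp [Matrix.det_fin_two])
  refine ⟨g, fun z => ⟨_, rfl, ?_⟩⟩
  have h := hg (unpack z).1 (unpack z).2
    (!![0, 1; 1, 0] * (unpack z).1 * !![0, 1; 1, 0]) (!![0, 1; 1, 0] * (unpack z).2 * !![0, 1; 1, 0]) (by
      rw [Matrix.mul_assoc _ !![(0 : F), 1; 1, 0] !![0, 1; 1, 0]]
      simp [Matrix.mul_fin_two, Matrix.one_fin_two.symm]) (by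
      rw [Matrix.mul_assoc _ !![(0 : F), 1; 1, 0] !![0, 1; 1, 0]]
      simp [Matrix.mul_fin_two, Matrix.one_fin_two.symm])
  rw [show ((unpack z).1, (unpack z).2) = unpack z from rfl, pack_unpack] at h
  rw [h]
  simp [pack, unpack, Matrix.mul_apply, Fin.sum_univ_two]
  ring

/-- the reference vector of norm `N` -/
def ref (N : F) : Fin 8 → F := pack (!![0, N; 1, 1], 0)

theorem to_ref_of_dot {z : Fin 8 → F} (ht : tr8 z = 1) (hc : z 1 * z 4 + z 2 * z 5 + z 3 * z 6 ≠ 0) :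
    ∃ g : G2 F, act g z = ref (n8 z) := by
  set c := z 1 * z 4 + z 2 * z 5 + z 3 * z 6 with hcdef
  have ha : zA F z ≠ 0 := by
    intro h
    apply hc
    have h0 := congrFun h 0; have h1 := congrFun h 1; have h2 := congrFun h 2
    simp at h0 h1 h2
    simp [hcdef, h0, h1, h2]
  obtain ⟨r₁, r₂, hr⟩ := exists_cross ha
  have hdot : dot3 (c⁻¹ • zB F z) (zA F z) = 1 := by
    simp [dot3]
    field_simp
    rw [hcdef]; ring
  obtain ⟨g, hg⟩ := exists_sl3 (r₀ := c⁻¹ • zB F z) (r₁ := r₁) (r₂ := r₂) (by rw [hr, hdot])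
  have hrow : row3 (c⁻¹ • zB F z) r₁ r₂ (zA F z) = ![1, 0, 0] := by
    have e1 := (dot_cross_left r₁ r₂).1
    have e2 := (dot_cross_left r₁ r₂).2
    rw [hr] at e1 e2
    simp only [row3]
    rw [hdot]
    simp [dot3] at e1 e2 ⊢
    exact ⟨by linear_combination e1, by linear_combination e2⟩
  have hcof : cof (c⁻¹ • zB F z) r₁ r₂ (zB F z) = ![c, 0, 0] := by
    simp only [cof, hr]
    simp [dot3, cross3]
    refine ⟨hcdef.symm, ?_, ?_⟩ <;> ring
  obtain ⟨k, hk⟩ := exists_conj (P := !![1, z 0; 0, c]) (by simp [Matrix.det_fin_two, hc])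
  refine ⟨k⁻¹ * g, act_inj k ?_⟩
  rw [← act_mul, ← mul_assoc, mul_inv_cancel, one_mul, hg, ref,
    hk _ _ !![z 0, 1; c, z 7] 0 ?_ (by simp)]
  · simp only [sl3, hrow, hcof]
    ext i
    fin_cases i <;> simp [pack]
  · have e : z 0 + z 7 = 1 := ht
    ext i j
    fin_cases i <;> fin_cases j <;> simp [Matrix.mul_apply, Fin.sum_univ_two, n8]
    · linear_combination (z 0 * z 7) * (0 : F) + (z 0 * z 7 + c) * (0 : F) + (-(z 0)) * e +
        (z 0 * z 7) * (two_eq (F := F))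
    · linear_combination (-c) * e + (c * z 0) * (0 : F)

theorem exists_dot (hq : 4 ≤ Fintype.card F) {z : Fin 8 → F} (ht : tr8 z = 1) :
    ∃ g : G2 F, (act g z) 1 * (act g z) 4 + (act g z) 2 * (act g z) 5 + (act g z) 3 * (act g z) 6 ≠ 0 := by
  classical
  by_cases hc : z 1 * z 4 + z 2 * z 5 + z 3 * z 6 ≠ 0
  · exact ⟨1, by rwa [act_one]⟩
  push_neg at hc
  have e : z 0 + z 7 = 1 := ht
  have step : ∀ w : Fin 8 → F, w 0 + w 7 = 1 → w 1 * w 4 + w 2 * w 5 + w 3 * w 6 = 0 → w 4 ≠ 0 →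
      ∃ g : G2 F, (act g w) 1 * (act g w) 4 + (act g w) 2 * (act g w) 5 + (act g w) 3 * (act g w) 6 ≠ 0 := by
    intro w hw hw0 h4
    obtain ⟨s, hs, hs'⟩ : ∃ s : F, s ≠ 0 ∧ s ≠ (w 4)⁻¹ := by
      have : ({0, (w 4)⁻¹} : Finset F).card < (Finset.univ : Finset F).card :=
        lt_of_le_of_lt Finset.card_le_two (by rw [Finset.card_univ]; omega)
      obtain ⟨s, -, hs⟩ := Finset.exists_mem_notMem_of_card_lt_card this
      simp at hs
      exact ⟨s, hs.1, hs.2⟩
    obtain ⟨g, hg⟩ := exists_upper s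
    refine ⟨g, ?_⟩
    obtain ⟨z', rfl, -, -, e4, e1, eB⟩ := hg w
    rw [add_assoc, eB, e4, e1, hw, mul_one]
    intro h0
    apply hs'
    have h2 : s * w 4 * (1 + s * w 4) = 0 := by linear_combination h0 - hw0
    rw [mul_eq_zero, CharTwo.add_eq_zero] at h2
    exact eq_inv_of_mul_eq_one_left (h2.resolve_left (mul_ne_zero hs h4)).symm
  have reach : ∀ g : G2 F, (act g z) 0 + (act g z) 7 = 1 := fun g => (tr_n_act g z).1.trans e
  have push : ∀ g : G2 F, (act g z) 4 ≠ 0 →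
      (act g z) 1 * (act g z) 4 + (act g z) 2 * (act g z) 5 + (act g z) 3 * (act g z) 6 = 0 →
      ∃ g : G2 F, (act g z) 1 * (act g z) 4 + (act g z) 2 * (act g z) 5 + (act g z) 3 * (act g z) 6 ≠ 0 := by
    intro g h4 h0
    obtain ⟨g', hg'⟩ := step _ (reach g) h0 h4
    exact ⟨g' * g, by rwa [act_mul]⟩
  by_cases h4 : z 4 = 0
  · obtain ⟨gs, hgs⟩ := exists_swap (F := F)
    by_cases h1 : z 1 = 0
    · obtain ⟨gu, hgu⟩ := exists_upper (1 : F)
      obtain ⟨z', hz', -, -, e4, e1, eB⟩ := hgu z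
      obtain ⟨z'', hz'', -, -, f4, f1, fB⟩ := hgs z'
      refine push (gs * gu) ?_ ?_
      · rw [act_mul, hz', hz'', f4, e1, h1, e, h4]; simp
      · rw [act_mul, hz', hz'', add_assoc, fB, f4, f1, eB, e4, h4]
        linear_combination hc - z 4 * h1
    · obtain ⟨z'', hz'', -, -, f4, f1, fB⟩ := hgs z
      refine push gs ?_ ?_
      · rw [hz'', f4]; exact h1
      · rw [hz'', add_assoc, fB, f4, f1]; linear_combination hc
  · exact push 1 (by rwa [act_one]) (by rwa [act_one])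

theorem to_ref (hq : 4 ≤ Fintype.card F) {z : Fin 8 → F} (ht : tr8 z = 1) :
    ∃ g : G2 F, act g z = ref (n8 z) := by
  obtain ⟨g, hg⟩ := exists_dot hq ht
  obtain ⟨k, hk⟩ := to_ref_of_dot ((tr_n_act g z).1.trans ht) hg
  exact ⟨k * g, by rw [act_mul, hk, (tr_n_act g z).2]⟩

/-- the stabiliser of `v + F·1` -/
def stab (v : Fin 8 → F) : Subgroup (G2 F) where
  carrier := {g | ∃ c : F, act g v = v + c • one8}
  one_mem' := ⟨0, by rw [act_one, zero_smul, add_zero]⟩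
  mul_mem' := by
    rintro a b ⟨c, hc⟩ ⟨d, hd⟩
    exact ⟨c + d, by rw [act_mul, hd, act_add, hc, act_smul, act_one8, add_assoc, ← add_smul]⟩
  inv_mem' := by
    rintro a ⟨c, hc⟩
    refine ⟨-c, ?_⟩
    have h := act_inv a v
    rw [hc, act_add, act_smul, act_one8] at h
    rw [neg_smul, ← sub_eq_add_neg, eq_sub_iff_add_eq, h]

theorem stab_ne_top (hq : 4 ≤ Fintype.card F) (N : F) : stab (ref N) ≠ ⊤ := by
  classical
  intro h
  obtain ⟨s, hs0, hs1⟩ : ∃ s : F, s ≠ 0 ∧ s ≠ 1 := by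
    have : ({0, 1} : Finset F).card < (Finset.univ : Finset F).card :=
      lt_of_le_of_lt Finset.card_le_two (by rw [Finset.card_univ]; omega)
    obtain ⟨s, -, hs⟩ := Finset.exists_mem_notMem_of_card_lt_card this
    simp at hs
    exact ⟨s, hs.1, hs.2⟩
  obtain ⟨g, hg⟩ := exists_upper s
  obtain ⟨z', hz', -, -, -, e1, -⟩ := hg (ref N)
  obtain ⟨c, hc⟩ : g ∈ stab (ref N) := by rw [h]; exact Subgroup.mem_top _
  rw [hz'] at hc
  have := congrFun hc 1
  simp [e1, ref, pack, one8] at this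
  have h2 : s * (1 + s) = 0 := by linear_combination this
  rw [mul_eq_zero, CharTwo.add_eq_zero] at h2
  exact h2.elim hs0 fun h => hs1 h.symm

theorem cover (hq : 4 ≤ Fintype.card F) : Cover (G2 F) := by
  classical
  obtain ⟨ν, hν⟩ := exists_no_root (F := F) (k := 2) two_ne_zero
  have hindex : ∀ x : F, (∃ c, c ^ 2 + c = x) ∨ ∃ c, c ^ 2 + c = x + ν := by
    let f : F →+ F :=
      { toFun := fun c => c ^ 2 + c
        map_zero' := by simp
        map_add' := fun a b => by rw [CharTwo.add_sq]; ring }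
    have hker : Nat.card f.ker = 2 := by
      have h1 : (f.ker : Set F) = {0, 1} := by
        ext c
        show c ^ 2 + c = 0 ↔ c ∈ ({0, 1} : Set F)
        rw [show c ^ 2 + c = c * (c + 1) by ring, mul_eq_zero, CharTwo.add_eq_zero]
        simp
      rw [← SetLike.coe_sort_coe, h1, Nat.card_coe_set_eq, Set.ncard_pair zero_ne_one]
    have hidx : f.range.index = 2 := by
      have h1 := AddSubgroup.card_mul_index f.ker
      have h2 := AddSubgroup.card_mul_index f.range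
      rw [AddSubgroup.index_ker, hker] at h1
      have h3 : 0 < Nat.card f.range := Nat.card_pos
      nlinarith
    intro x
    by_cases hx : ∃ c, c ^ 2 + c = x
    · exact Or.inl hx
    · refine Or.inr ?_
      exact (AddSubgroup.add_mem_iff_of_index_two hidx (a := x) (b := ν)).2
        (iff_of_false (fun h => hx h) (fun h => by
          obtain ⟨c, hc⟩ := h
          exact hν c (by
            rw [CharTwo.sub_eq_add, CharTwo.sub_eq_add]
            exact CharTwo.add_eq_zero.2 hc)))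
  refine ⟨stab (ref 0), stab (ref ν), stab_ne_top hq _, stab_ne_top hq _, fun g => ?_⟩
  obtain ⟨v, hv, c, hc⟩ := exists_fixed g
  have fin : ∀ N d : F, n8 (v + d • one8) = N → ∃ x : G2 F, x * g * x⁻¹ ∈ stab (ref N) := by
    intro N d hN
    have ht : tr8 (v + d • one8) = 1 := by
      show v 0 + d * one8 0 + (v 7 + d * one8 7) = 1
      simp [one8]
      have hv' : v 0 + v 7 = 1 := hv
      linear_combination hv' + d * (two_eq (F := F))
    obtain ⟨h, hh⟩ := to_ref hq ht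
    rw [hN] at hh
    refine ⟨h, c, ?_⟩
    rw [act_mul, act_mul, ← hh, act_inv, act_add g, hc, act_smul g, act_one8, act_add h, act_add h,
      act_smul h, act_smul h, act_one8, act_add h, act_smul h, act_one8]
    abel
  have hn : ∀ d : F, n8 (v + d • one8) = n8 v + d + d ^ 2 := fun d => by
    simp [n8, one8]
    have hv' : v 0 + v 7 = 1 := hv
    linear_combination d * hv'
  rcases hindex (n8 v) with ⟨d, hd⟩ | ⟨d, hd⟩
  · obtain ⟨x, hx⟩ := fin 0 d (by rw [hn]; linear_combination -hd + (d + d ^ 2) * (two_eq (F := F)))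
    exact ⟨x, Or.inl hx⟩
  · obtain ⟨x, hx⟩ := fin ν d (by rw [hn]; linear_combination hd + n8 v * (two_eq (F := F)))
    exact ⟨x, Or.inr hx⟩

end Cfsg.Agent.Cover2GTwo53
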