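import Cfsg.Agent.Lib.Cover2Common53

/-!
`PSL_n(F)`, `n ≤ 4`, is covered by the stabiliser of a line and the centraliser of a field-extension structure.
-/

set_option autoImplicit false
set_option linter.unusedSectionVars false

namespace Cfsg.Agent.Cover2SL53

open Matrix Polynomial Cfsg.Agent.Cover2Common53

section
variable {n : ℕ} {R : Type*} [CommRing R]

theorem cm (a b : Matrix.SpecialLinearGroup (Fin n) R) : (a * b).1 = a.1 * b.1 := rfl

theorem inv_cm (a : Matrix.SpecialLinearGroup (Fin n) R) : (a⁻¹).1 * a.1 = 1 := by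
  rw [← cm, inv_mul_cancel]; rfl

theorem cm_inv (a : Matrix.SpecialLinearGroup (Fin n) R) : a.1 * (a⁻¹).1 = 1 := by
  rw [← cm, mul_inv_cancel]; rfl

end

variable {F : Type*} [Field F]

theorem exists_equiv {F K V : Type*} {k : ℕ} [Field F] [Field K] [Algebra F K] [AddCommGroup V] [Module F V]
    [Module K V] [IsScalarTower F K V] [Module.Finite F V] [Module.Finite F K]
    (h : Module.finrank F V = Module.finrank F K * k) :
    ∃ e : V ≃ₗ[F] (Fin k → K), ∀ (c : K) (v : V), e (c • v) = c • e v := by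
  have hfin : Module.Finite K V := Module.Finite.of_restrictScalars_finite F K V
  rw [← Module.finrank_mul_finrank F K V] at h
  have h' : Module.finrank K V = k := Nat.eq_of_mul_eq_mul_left Module.finrank_pos h
  obtain ⟨e⟩ := FiniteDimensional.nonempty_linearEquiv_of_finrank_eq
    (R := K) (M := V) (M' := Fin k → K) (by rw [h']; simp)
  exact ⟨e.restrictScalars F, fun c v => e.map_smul c v⟩

/-- all field structures of `F^n` over `F[X]/(π)` are conjugate under `SL_n` -/
theorem exists_model [Fintype F] {π : F[X]} (hπ : Irreducible π) {k : ℕ} (hk : 1 ≤ k) {n : ℕ}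
    (hn : n = k * π.natDegree) :
    ∃ J₀ : Matrix (Fin n) (Fin n) F, aeval J₀ π = 0 ∧
      ∀ J : Matrix (Fin n) (Fin n) F, aeval J π = 0 →
        ∃ P : Matrix.SpecialLinearGroup (Fin n) F, P.1 * J = J₀ * P := by
  classical
  have : Fact (Irreducible π) := ⟨hπ⟩
  have : Module.Finite F (AdjoinRoot π) := (AdjoinRoot.powerBasis hπ.ne_zero).finite
  have : Finite (AdjoinRoot π) := Module.finite_of_finite F
  have hd : Module.finrank F (AdjoinRoot π) = π.natDegree := by
    rw [(AdjoinRoot.powerBasis hπ.ne_zero).finrank, AdjoinRoot.powerBasis_dim]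
  let e₀ : (Fin n → F) ≃ₗ[F] (Fin k → AdjoinRoot π) := LinearEquiv.ofFinrankEq _ _ (by
    rw [Module.finrank_fintype_fun_eq_card, Module.finrank_pi_fintype, Fintype.card_fin, hn]
    simp [hd])
  let ι : AdjoinRoot π →ₐ[F] Matrix (Fin n) (Fin n) F :=
    ((LinearMap.toMatrixAlgEquiv' (R := F) (n := Fin n)).toAlgHom.comp
      (e₀.symm.conjAlgEquiv F).toAlgHom).comp (Algebra.lsmul F F (Fin k → AdjoinRoot π))
  refine ⟨ι (AdjoinRoot.root π), ?_, fun J hJ => ?_⟩
  · rw [aeval_algHom_apply, AdjoinRoot.aeval_eq, AdjoinRoot.mk_self, map_zero]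
  let φ : AdjoinRoot π →ₐ[F] Module.End F (Fin n → F) :=
    Ideal.Quotient.liftₐ (Ideal.span {π}) (aeval (LinearMap.toMatrixAlgEquiv'.symm J)) (fun x hx => by
      obtain ⟨c, rfl⟩ := Ideal.mem_span_singleton.1 hx
      rw [map_mul, ← AlgEquiv.coe_toAlgHom, aeval_algHom_apply, hJ, map_zero, zero_mul])
  let mK : Module (AdjoinRoot π) (Fin n → F) := Module.compHom _ φ.toRingHom
  have tower : @IsScalarTower F (AdjoinRoot π) (Fin n → F) _ mK.toSMul _ :=
    ⟨fun a b v => by
      show φ (a • b) v = a • φ b v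
      rw [map_smul]; rfl⟩
  obtain ⟨e, he⟩ := @exists_equiv F (AdjoinRoot π) (Fin n → F) k _ _ _ _ _ mK tower _ _
    (by rw [hd, Module.finrank_fintype_fun_eq_card, Fintype.card_fin, hn, mul_comm])
  let eF : (Fin n → F) →ₗ[F] (Fin k → AdjoinRoot π) := e.toLinearMap
  have hcomm : ∀ v, eF (J *ᵥ v) = AdjoinRoot.root π • eF v := by
    intro v
    show e (J *ᵥ v) = AdjoinRoot.root π • e v
    rw [← he]
    refine congrArg e ?_
    show J *ᵥ v = (aeval (LinearMap.toMatrixAlgEquiv'.symm J)) X v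
    rw [aeval_X]; rfl
  let P₀ : Matrix (Fin n) (Fin n) F := LinearMap.toMatrix' (e₀.symm.toLinearMap ∘ₗ eF)
  have hdet : P₀.det ≠ 0 := by
    rw [LinearMap.det_toMatrix', Ne, ← isUnit_iff_ne_zero.not_left]
    refine not_not.2 ?_
    exact LinearMap.isUnit_det _ ((Module.End.isUnit_iff _).2 (e₀.symm.bijective.comp e.bijective))
  obtain ⟨z, hz⟩ := FiniteField.norm_surjective F (AdjoinRoot π) P₀.det⁻¹
  let D : (Fin k → AdjoinRoot π) →ₗ[AdjoinRoot π] (Fin k → AdjoinRoot π) :=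
    Matrix.toLin' (diagonal (Function.update (fun _ => (1 : AdjoinRoot π)) ⟨0, hk⟩ z))
  let DM : Matrix (Fin n) (Fin n) F :=
    LinearMap.toMatrix' (e₀.symm.toLinearMap ∘ₗ D.restrictScalars F ∘ₗ e₀.toLinearMap)
  have hD : DM.det = P₀.det⁻¹ := by
    rw [LinearMap.det_toMatrix']
    have h := LinearMap.det_conj (D.restrictScalars F) e₀.symm
    rw [LinearEquiv.symm_symm] at h
    rw [h, LinearMap.det_restrictScalars, LinearMap.det_toLin', det_diagonal,
      Finset.prod_update_of_mem (Finset.mem_univ _)]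
    simp [hz]
  refine ⟨⟨DM * P₀, by rw [det_mul, hD, inv_mul_cancel₀ hdet]⟩, ?_⟩
  show DM * P₀ * J = ι (AdjoinRoot.root π) * (DM * P₀)
  apply Matrix.ext_of_mulVec_single
  intro i
  generalize (Pi.single i 1 : Fin n → F) = v
  simp only [← mulVec_mulVec]
  have hP : ∀ w, P₀ *ᵥ w = e₀.symm (eF w) := fun w => by
    rw [LinearMap.toMatrix'_mulVec]; rfl
  have hDM : ∀ w, DM *ᵥ w = e₀.symm (D (e₀ w)) := fun w => by
    rw [LinearMap.toMatrix'_mulVec]; rfl
  have hι : ∀ w, ι (AdjoinRoot.root π) *ᵥ w = e₀.symm (AdjoinRoot.root π • e₀ w) := fun w => by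
    show Matrix.toLinAlgEquiv' (ι (AdjoinRoot.root π)) w = _
    simp [ι]
  rw [hP, hDM, hcomm, hP, hDM, hι]
  simp

/-- the line stabiliser -/
def lineStab (n : ℕ) [NeZero n] (F : Type*) [Field F] : Subgroup (Matrix.SpecialLinearGroup (Fin n) F) where
  carrier := {g : Matrix.SpecialLinearGroup (Fin n) F | ∃ c : F, g.1 *ᵥ Pi.single 0 1 = c • Pi.single 0 1}
  one_mem' := ⟨1, (one_mulVec _).trans (one_smul F _).symm⟩
  mul_mem' := by
    rintro a b ⟨c, hc⟩ ⟨d, hd⟩
    refine ⟨c * d, ?_⟩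
    rw [cm, ← mulVec_mulVec, hd, mulVec_smul, hc, smul_smul, mul_comm]
  inv_mem' := by
    rintro a ⟨c, hc⟩
    refine ⟨c⁻¹, ?_⟩
    have h : (a⁻¹ : Matrix.SpecialLinearGroup (Fin n) F).1 *ᵥ (a.1 *ᵥ Pi.single 0 1) = Pi.single 0 1 := by
      rw [mulVec_mulVec, inv_cm, one_mulVec]
    rw [hc, mulVec_smul] at h
    have hc0 : c ≠ 0 := by
      rintro rfl
      rw [zero_smul] at h
      simpa using congrFun h.symm 0
    rw [← h, smul_smul, inv_mul_cancel₀ hc0, one_smul]
    rw [h]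

/-- the centraliser of a matrix -/
def matCent {n : ℕ} (J : Matrix (Fin n) (Fin n) F) : Subgroup (Matrix.SpecialLinearGroup (Fin n) F) where
  carrier := {g : Matrix.SpecialLinearGroup (Fin n) F | Commute g.1 J}
  one_mem' := Commute.one_left J
  mul_mem' := fun ha hb => by
    simp only [Set.mem_setOf_eq, cm] at *
    exact ha.mul_left hb
  inv_mem' := by
    intro a ha
    show Commute (a⁻¹ : Matrix.SpecialLinearGroup (Fin n) F).1 J
    have h1 : (a⁻¹ : Matrix.SpecialLinearGroup (Fin n) F).1 * a.1 = 1 := inv_cm a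
    have h2 : a.1 * (a⁻¹ : Matrix.SpecialLinearGroup (Fin n) F).1 = 1 := cm_inv a
    calc (a⁻¹ : Matrix.SpecialLinearGroup (Fin n) F).1 * J
        = (a⁻¹ : Matrix.SpecialLinearGroup (Fin n) F).1 * (J * a.1) * (a⁻¹ : Matrix.SpecialLinearGroup (Fin n) F).1 := by
          rw [mul_assoc, mul_assoc, h2, mul_one]
      _ = J * (a⁻¹ : Matrix.SpecialLinearGroup (Fin n) F).1 := by rw [← ha.eq, ← mul_assoc, h1, one_mul]

theorem exists_first_col {n : ℕ} [NeZero n] (hn : 2 ≤ n) {v : Fin n → F} (hv : v ≠ 0) :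
    ∃ P : Matrix.SpecialLinearGroup (Fin n) F, P.1 *ᵥ Pi.single 0 1 = v := by
  classical
  obtain ⟨i, hi⟩ : ∃ i, v i ≠ 0 := Function.ne_iff.1 hv
  obtain ⟨j, hj⟩ : ∃ j : Fin n, j ≠ 0 := ⟨⟨1, by omega⟩, by simp [Fin.ext_iff]⟩
  let M : Matrix (Fin n) (Fin n) F := ((1 : Matrix (Fin n) (Fin n) F).updateCol i v).submatrix id (Equiv.swap 0 i)
  have hM : M.det ≠ 0 := by
    rw [det_permute']
    refine mul_ne_zero ?_ ?_
    · rcases Int.units_eq_one_or (Equiv.Perm.sign (Equiv.swap (0 : Fin n) i)) with h | h <;> simp [h]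
    · have := Matrix.cramer_apply (A := (1 : Matrix (Fin n) (Fin n) F)) (b := v) (i := i)
      rw [cramer_one] at this
      rw [← this]
      simpa using hi
  let d : Fin n → F := Function.update (fun _ => 1) j M.det⁻¹
  refine ⟨⟨M * diagonal d, ?_⟩, ?_⟩
  · rw [det_mul, det_diagonal, Finset.prod_update_of_mem (Finset.mem_univ _)]
    simp [hM]
  · funext r
    simp [M, d, Function.update_of_ne hj.symm]

/-- the cover of `PSL_n` for `2 ≤ n ≤ 4`, `d ∈ {2, 3}`, `d ∣ n` and `(n, d) ≠ (4, 3)` -/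
theorem cover [Fintype F] {n d : ℕ} [NeZero n] (h : n = 2 ∧ d = 2 ∨ n = 3 ∧ d = 3 ∨ n = 4 ∧ d = 2) :
    Cover (Matrix.ProjectiveSpecialLinearGroup (Fin n) F) := by
  classical
  obtain ⟨π, hπ, hπd⟩ := exists_irreducible (F := F) (d := d) (by omega)
  obtain ⟨k, hk, hnk⟩ : ∃ k, 1 ≤ k ∧ n = k * π.natDegree := by
    rcases h with ⟨rfl, rfl⟩ | ⟨rfl, rfl⟩ | ⟨rfl, rfl⟩
    · exact ⟨1, le_rfl, by omega⟩
    · exact ⟨1, le_rfl, by omega⟩
    · exact ⟨2, by omega, by omega⟩
  obtain ⟨J₀, hJ₀, hconj⟩ := exists_model hπ hk hnk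
  have hn2 : 2 ≤ n := by omega
  refine quotient_cover _ (H := lineStab n F) (K := matCent J₀) ?_ ?_ ?_ ?_ ?_
  · intro g hg
    obtain ⟨r, -, hr⟩ := Matrix.SpecialLinearGroup.mem_center_iff.1 hg
    exact ⟨r, by rw [← hr, scalar_apply, diagonal_const_mulVec]⟩
  · intro g hg
    obtain ⟨r, -, hr⟩ := Matrix.SpecialLinearGroup.mem_center_iff.1 hg
    show Commute g.1 J₀
    rw [← hr]
    exact Matrix.scalar_commute _ (fun x => mul_comm r x) J₀
  · intro hH
    obtain ⟨j, hj⟩ : ∃ j : Fin n, j ≠ 0 := ⟨⟨1, by omega⟩, by simp [Fin.ext_iff]⟩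
    let g₁ : Matrix.SpecialLinearGroup (Fin n) F := ⟨transvection j 0 (1 : F), det_transvection_of_ne j 0 hj 1⟩
    have hmem : g₁ ∈ lineStab n F := by rw [hH]; exact Subgroup.mem_top _
    obtain ⟨c, hc⟩ := hmem
    have := congrFun hc j
    simp [g₁, transvection, hj] at this
  · intro hK
    obtain ⟨r, hr⟩ : J₀ ∈ Set.range (scalar (Fin n)) := by
      refine mem_range_scalar_of_commute_transvectionStruct fun t => ?_
      let g₁ : Matrix.SpecialLinearGroup (Fin n) F := ⟨t.toMatrix, t.det⟩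
      have : g₁ ∈ matCent J₀ := by rw [hK]; exact Subgroup.mem_top _
      exact this
    have h0 : π.eval r = 0 := by
      rw [← hr, show scalar (Fin n) r = algebraMap F (Matrix (Fin n) (Fin n) F) r from rfl,
        aeval_algebraMap_apply] at hJ₀
      have := congrFun (congrFun hJ₀ 0) 0
      simpa [Matrix.algebraMap_matrix_apply] using this
    exact no_root hπ (by omega) r h0
  · intro g
    by_cases he : ∃ c : F, IsRoot g.1.charpoly c
    · obtain ⟨c, hc⟩ := he
      rw [IsRoot, Matrix.eval_charpoly] at hc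
      obtain ⟨v, hv, hgv⟩ := exists_mulVec_eq_zero_iff.2 hc
      rw [sub_mulVec, sub_eq_zero] at hgv
      obtain ⟨P, hP⟩ := exists_first_col hn2 hv
      refine ⟨P⁻¹, Or.inl ⟨c, ?_⟩⟩
      rw [inv_inv, cm, cm, ← mulVec_mulVec,
        ← mulVec_mulVec, hP, ← hgv, scalar_apply, diagonal_const_mulVec, mulVec_smul, ← hP,
        mulVec_mulVec, inv_cm, one_mulVec]
    · push_neg at he
      have hdeg : ∀ p : F[X], Irreducible p → p ∣ g.1.charpoly → π.natDegree ∣ p.natDegree := by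
        intro p hp hpd
        obtain ⟨q, hq⟩ := hpd
        have hq0 : q ≠ 0 := by
          rintro rfl
          exact (g.1.charpoly_monic).ne_zero (by simpa using hq)
        have hsum := congrArg natDegree hq
        rw [natDegree_mul hp.ne_zero hq0, Matrix.charpoly_natDegree_eq_dim, Fintype.card_fin] at hsum
        have h1 : ∀ f : F[X], f ∣ g.1.charpoly → f.natDegree ≠ 1 := by
          intro f hf hf1
          obtain ⟨x, hx⟩ := exists_root_of_degree_eq_one (p := f)
            (by rw [degree_eq_natDegree (ne_zero_of_natDegree_gt (n := 0) (by omega)), hf1]; rfl)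
          exact he x (hx.dvd hf)
        have a1 := h1 p ⟨q, hq⟩
        have a2 := h1 q ⟨p, by rw [hq, mul_comm]⟩
        have a3 := hp.natDegree_pos
        rw [hπd]
        rcases h with ⟨rfl, rfl⟩ | ⟨rfl, rfl⟩ | ⟨rfl, rfl⟩
        · exact ⟨1, by omega⟩
        · exact ⟨1, by omega⟩
        · obtain e | e : p.natDegree = 2 ∨ p.natDegree = 4 := by omega
          · exact ⟨1, by omega⟩
          · exact ⟨2, by omega⟩
      obtain ⟨r, hr⟩ := exists_root_aeval g.1 hπ (g.1.charpoly_monic).ne_zero g.1.aeval_self_charpoly hdeg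
      obtain ⟨P, hP⟩ := hconj _ hr
      refine ⟨P, Or.inr ?_⟩
      have hc : Commute g.1 (aeval g.1 r) := by
        have := (Commute.all (X : F[X]) r).map (aeval g.1)
        rwa [aeval_X] at this
      have h1 : (P⁻¹ : Matrix.SpecialLinearGroup (Fin n) F).1 * P.1 = 1 := inv_cm P
      have h2 : P.1 * (P⁻¹ : Matrix.SpecialLinearGroup (Fin n) F).1 = 1 := cm_inv P
      show Commute (P * g * P⁻¹).1 J₀
      rw [cm, cm]
      set Q := (P⁻¹ : Matrix.SpecialLinearGroup (Fin n) F).1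
      calc P.1 * g.1 * Q * J₀ = P.1 * g.1 * Q * (J₀ * (P.1 * Q)) := by rw [h2, mul_one]
        _ = P.1 * g.1 * Q * (P.1 * aeval g.1 r * Q) := by rw [hP, mul_assoc J₀]
        _ = P.1 * (g.1 * ((Q * P.1) * aeval g.1 r)) * Q := by simp only [mul_assoc]
        _ = P.1 * aeval g.1 r * (g.1 * Q) := by rw [h1, one_mul, hc.eq]; simp only [mul_assoc]
        _ = J₀ * (P.1 * g.1 * Q) := by rw [hP]; simp only [mul_assoc]

end Cfsg.Agent.Cover2SL53
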