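import Mathlib
import Cfsg.Prelude.Def_ClassicalGeometry
import Cfsg.Agent.Lib.OrthUnitaryTransvection

/-!
Orthonormal bases of nondegenerate subspaces of a hermitian space, and the block decomposition of
the stabiliser of such a subspace.
-/

set_option autoImplicit false
set_option linter.unusedSectionVars false

namespace Cfsg.Agent.OrthUnitarySubspaces

open scoped Matrix
open Cfsg.Agent.OrthUnitaryHerm
open Cfsg.Agent.OrthUnitaryTransvection

variable {F : Type*} [Field F] [Fintype F] {q n : ℕ}

/-- `v` is an orthonormal family. -/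
def OrthoN (q : ℕ) {ι : Type*} [DecidableEq ι] (v : ι → Fin n → F) : Prop :=
  ∀ i j, hermForm n F q (v i) (v j) = if i = j then 1 else 0

theorem herm_sum_left {ι : Type*} (s : Finset ι) (x : ι → Fin n → F) (y : Fin n → F) :
    hermForm n F q (∑ i ∈ s, x i) y = ∑ i ∈ s, hermForm n F q (x i) y :=
  map_sum (hermL q y) x s

theorem herm_sum_right (hF : Fintype.card F = q ^ 2) {ι : Type*} (s : Finset ι)
    (x : ι → Fin n → F) (y : Fin n → F) :
    hermForm n F q y (∑ i ∈ s, x i) = ∑ i ∈ s, hermForm n F q y (x i) :=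
  map_sum (AddMonoidHom.mk' (fun z => hermForm n F q y z)
    fun a b => herm_add_right hF a b y) x s

section ON

variable {ι : Type*} [Fintype ι] [DecidableEq ι] {v : ι → Fin n → F}

theorem herm_comb (hv : OrthoN q v) (c : ι → F) (j : ι) :
    hermForm n F q (∑ i, c i • v i) (v j) = c j := by
  simp [herm_sum_left, herm_smul_left, hv _ j]

theorem herm_comb_comb (hF : Fintype.card F = q ^ 2) (hv : OrthoN q v) (c d : ι → F) :
    hermForm n F q (∑ i, c i • v i) (∑ i, d i • v i) = ∑ i, c i * d i ^ q := by
  rw [herm_sum_right hF]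
  simp [herm_smul_right, herm_comb hv, mul_comm]

theorem linearIndependent (hv : OrthoN q v) : LinearIndependent F v := by
  rw [Fintype.linearIndependent_iff]
  intro c hc i
  rw [← herm_comb hv c i, hc, herm_zero_left]

theorem eq_comb (hv : OrthoN q v) {W : Submodule F (Fin n → F)} (hmem : ∀ i, v i ∈ W)
    (hd : Module.finrank F W = Fintype.card ι) {x : Fin n → F} (hx : x ∈ W) :
    x = ∑ i, hermForm n F q x (v i) • v i := by
  have hspan : Submodule.span F (Set.range v) = W :=
    Submodule.eq_of_le_of_finrank_eq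
      (Submodule.span_le.2 (Set.range_subset_iff.2 hmem))
      (by rw [finrank_span_eq_card (linearIndependent hv), hd])
  rw [← hspan, Submodule.mem_span_range_iff_exists_fun] at hx
  obtain ⟨c, rfl⟩ := hx
  simp [herm_comb hv]

/-- Vectors orthogonal to all members of `v`. -/
def perp (q : ℕ) (v : ι → Fin n → F) : Submodule F (Fin n → F) :=
  LinearMap.ker (LinearMap.pi fun i => hermL q (v i))

theorem mem_perp {x : Fin n → F} : x ∈ perp q v ↔ ∀ i, hermForm n F q x (v i) = 0 := by
  rw [perp, LinearMap.mem_ker, funext_iff]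
  rfl

theorem finrank_perp (hv : OrthoN q v) :
    Module.finrank F (perp q v) + Fintype.card ι = n := by
  have hs : LinearMap.range (LinearMap.pi fun i => hermL q (v i)) = ⊤ := by
    rw [LinearMap.range_eq_top]
    intro c
    exact ⟨∑ i, c i • v i, funext fun j => herm_comb hv c j⟩
  have h := LinearMap.finrank_range_add_finrank_ker (LinearMap.pi fun i => hermL q (v i))
  rw [hs, finrank_top, Module.finrank_fintype_fun_eq_card, Module.finrank_fin_fun] at h
  rw [perp]
  omega

theorem nondeg_perp (hF : Fintype.card F = q ^ 2) (hv : OrthoN q v) :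
    ∀ u ∈ perp q v, (∀ w ∈ perp q v, hermForm n F q u w = 0) → u = 0 := by
  intro u hu h
  refine eq_zero_of_herm_eq_zero hF fun x => ?_
  have hp : x - ∑ i, hermForm n F q x (v i) • v i ∈ perp q v := mem_perp.2 fun j => by
    rw [herm_sub_left, herm_comb hv, sub_self]
  have := h _ hp
  rw [herm_sub_right hF, herm_sum_right hF, sub_eq_zero] at this
  rw [this]
  refine Finset.sum_eq_zero fun i _ => ?_
  rw [herm_smul_right, mem_perp.1 hu i, mul_zero]

end ON

theorem exists_norm_one_mem (hF : Fintype.card F = q ^ 2) {W : Submodule F (Fin n → F)}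
    (hne : W ≠ ⊥) (hW : ∀ u ∈ W, (∀ v ∈ W, hermForm n F q u v = 0) → u = 0) :
    ∃ v ∈ W, hermForm n F q v v = 1 := by
  by_cases h : ∃ v ∈ W, hermForm n F q v v ≠ 0
  · obtain ⟨v, hv, hv0⟩ := h
    obtain ⟨z, hz⟩ := exists_norm_eq hF (a := (hermForm n F q v v)⁻¹)
      (by rw [inv_pow, herm_self_pow hF])
    refine ⟨z • v, W.smul_mem z hv, ?_⟩
    rw [herm_smul_left, herm_smul_right, ← mul_assoc, ← pow_succ', hz, inv_mul_cancel₀ hv0]
  · push Not at h
    obtain ⟨u, hu, hu0⟩ := Submodule.exists_mem_ne_zero_of_ne_bot hne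
    obtain ⟨v, hv, huv⟩ : ∃ v ∈ W, hermForm n F q u v ≠ 0 := by
      by_contra h'
      push Not at h'
      exact hu0 (hW u hu h')
    obtain ⟨x, hx⟩ := exists_trace hF (a := (1 : F)) (one_pow _)
    have hvu : hermForm n F q ((x * (hermForm n F q u v)⁻¹) • u) v = x := by
      rw [herm_smul_left, inv_mul_cancel_right₀ huv]
    have := W.add_mem (W.smul_mem (x * (hermForm n F q u v)⁻¹) hu) hv
    refine ⟨_, this, ?_⟩
    rw [herm_add_left, herm_add_right hF, herm_add_right hF, h _ (W.smul_mem _ hu), h v hv, hvu,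
      herm_conj hF ((x * (hermForm n F q u v)⁻¹) • u) v, hvu, zero_add, add_zero, hx]

theorem exists_onb (hF : Fintype.card F = q ^ 2) : ∀ (k : ℕ) (W : Submodule F (Fin n → F)),
    Module.finrank F W = k → (∀ u ∈ W, (∀ v ∈ W, hermForm n F q u v = 0) → u = 0) →
    ∃ v : Fin k → Fin n → F, (∀ i, v i ∈ W) ∧ OrthoN q v := by
  intro k
  induction k with
  | zero => exact fun W _ _ => ⟨Fin.elim0, fun i => i.elim0, fun i => i.elim0⟩
  | succ k ih =>
    intro W hk hW
    have hne : W ≠ ⊥ := by
      rintro rfl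
      simp [finrank_bot] at hk
    obtain ⟨v₀, hv₀, h₀⟩ := exists_norm_one_mem hF hne hW
    let φ := (hermL q v₀).domRestrict W
    let W' := (LinearMap.ker φ).map W.subtype
    have hmem : ∀ x, x ∈ W' ↔ x ∈ W ∧ hermForm n F q x v₀ = 0 := by
      intro x
      constructor
      · rintro ⟨y, hy, rfl⟩
        exact ⟨y.2, hy⟩
      · rintro ⟨hx, hx0⟩
        exact ⟨⟨x, hx⟩, hx0, rfl⟩
    have hk' : Module.finrank F W' = k := by
      have hs : LinearMap.range φ = ⊤ := by
        rw [LinearMap.range_eq_top]
        intro c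
        refine ⟨c • ⟨v₀, hv₀⟩, ?_⟩
        show hermForm n F q (c • v₀) v₀ = c
        rw [herm_smul_left, h₀, mul_one]
      have := LinearMap.finrank_range_add_finrank_ker φ
      rw [hs, finrank_top, Module.finrank_self, hk] at this
      rw [Submodule.finrank_map_subtype_eq]
      omega
    obtain ⟨v, hvW, hv⟩ := ih W' hk' (by
      intro u hu h
      obtain ⟨huW, hu0⟩ := (hmem u).1 hu
      refine hW u huW fun w hw => ?_
      have := h (w - hermForm n F q w v₀ • v₀)
        ((hmem _).2 ⟨W.sub_mem hw (W.smul_mem _ hv₀), by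
          rw [herm_sub_left, herm_smul_left, h₀, mul_one, sub_self]⟩)
      rwa [herm_sub_right hF, herm_smul_right, hu0, mul_zero, sub_zero] at this)
    refine ⟨Fin.cons v₀ v, fun i => ?_, fun i j => ?_⟩
    · cases i using Fin.cases with
      | zero => exact hv₀
      | succ i => exact ((hmem _).1 (hvW i)).1
    · cases i using Fin.cases with
      | zero =>
        cases j using Fin.cases with
        | zero => simpa using h₀
        | succ j =>
          simpa [(Fin.succ_ne_zero j).symm] using herm_skew_zero hF ((hmem _).1 (hvW j)).2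
      | succ i =>
        cases j using Fin.cases with
        | zero => simpa [Fin.succ_ne_zero i] using ((hmem _).1 (hvW i)).2
        | succ j => simpa using hv i j

theorem exists_extend (hF : Fintype.card F = q ^ 2) {k m : ℕ} (hn : k + m = n)
    {v : Fin k → Fin n → F} (hv : OrthoN q v) :
    ∃ u : Fin m → Fin n → F, OrthoN q u ∧ ∀ i j, hermForm n F q (u i) (v j) = 0 := by
  have hd : Module.finrank F (perp q v) = m := by
    have := finrank_perp hv
    rw [Fintype.card_fin] at this
    omega
  obtain ⟨u, huP, hu⟩ := exists_onb hF m (perp q v) hd (nondeg_perp hF hv)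
  exact ⟨u, hu, fun i j => mem_perp.1 (huP i) j⟩

omit [Fintype F] in
theorem mulVec_of_cols {ι : Type*} [Fintype ι] (w : ι → Fin n → F) (x : ι → F) :
    (Matrix.of w)ᵀ *ᵥ x = ∑ j, x j • w j := by
  funext i
  simp [Matrix.mulVec, dotProduct, Finset.sum_apply, mul_comm]

theorem isU_of_orthoN (hF : Fintype.card F = q ^ 2) {w : Fin n → Fin n → F} (hw : OrthoN q w) :
    IsU q (Matrix.of w)ᵀ := fun x y => by
  rw [mulVec_of_cols, mulVec_of_cols, herm_comb_comb hF hw]
  rfl

/-- An orthonormal family is the image of standard vectors under a unitary matrix. -/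
theorem exists_isU_frame (hF : Fintype.card F = q ^ 2) {k m : ℕ}
    {v : Fin k → Fin (k + m) → F} (hv : OrthoN q v) :
    ∃ M : Matrix (Fin (k + m)) (Fin (k + m)) F, IsU q M ∧
      ∀ a : Fin k → F, M *ᵥ Fin.append a 0 = ∑ i, a i • v i := by
  obtain ⟨u, hu, huv⟩ := exists_extend hF rfl hv
  refine ⟨(Matrix.of (Fin.append v u))ᵀ, isU_of_orthoN hF fun i j => ?_, fun a => ?_⟩
  · induction i using Fin.addCases with
    | left i =>
      induction j using Fin.addCases with
      | left j => simp [hv i j]
      | right j =>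
        simp [Fin.ext_iff, herm_skew_zero hF (huv j i)]
        omega
    | right i =>
      induction j using Fin.addCases with
      | left j =>
        simp [Fin.ext_iff, huv i j]
        omega
      | right j => simp [hu i j]
  · rw [mulVec_of_cols, Fin.sum_univ_add]
    simp

/-! ### Block matrices -/

variable {k m : ℕ}

/-- The block diagonal matrix. -/
def blockMat (A : Matrix (Fin k) (Fin k) F) (B : Matrix (Fin m) (Fin m) F) :
    Matrix (Fin (k + m)) (Fin (k + m)) F :=
  (Matrix.fromBlocks A 0 0 B).submatrix finSumFinEquiv.symm finSumFinEquiv.symm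

theorem blockMat_mulVec (A : Matrix (Fin k) (Fin k) F) (B : Matrix (Fin m) (Fin m) F)
    (a : Fin k → F) (b : Fin m → F) :
    blockMat A B *ᵥ Fin.append a b = Fin.append (A *ᵥ a) (B *ᵥ b) := by
  rw [blockMat, Matrix.submatrix_mulVec_equiv, Equiv.symm_symm]
  funext i
  induction i using Fin.addCases <;> simp [Matrix.fromBlocks_mulVec, Function.comp_def]

theorem herm_append (a c : Fin k → F) (b d : Fin m → F) :
    hermForm (k + m) F q (Fin.append a b) (Fin.append c d)
      = hermForm k F q a c + hermForm m F q b d := by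
  simp [hermForm, Fin.sum_univ_add]

theorem isU_blockMat {A : Matrix (Fin k) (Fin k) F} {B : Matrix (Fin m) (Fin m) F}
    (hA : IsU q A) (hB : IsU q B) : IsU q (blockMat A B) := fun x y => by
  rw [← Fin.append_castAdd_natAdd (f := x), ← Fin.append_castAdd_natAdd (f := y), blockMat_mulVec,
    blockMat_mulVec, herm_append, herm_append, hA, hB]

/-- The coordinate subspace of the first `k` coordinates. -/
def IsTop (x : Fin (k + m) → F) : Prop := ∀ j, x (Fin.natAdd k j) = 0

theorem isTop_iff {x : Fin (k + m) → F} : IsTop x ↔ ∃ a : Fin k → F, x = Fin.append a 0 := by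
  constructor
  · intro h
    refine ⟨fun i => x (Fin.castAdd m i), funext fun i => ?_⟩
    induction i using Fin.addCases with
    | left i => simp
    | right i => simpa using h i
  · rintro ⟨a, rfl⟩ j
    simp

/-- A unitary matrix fixing the coordinate subspace is block diagonal. -/
theorem exists_eq_blockMat (hF : Fintype.card F = q ^ 2)
    {g : Matrix (Fin (k + m)) (Fin (k + m)) F} (hg : IsU q g)
    (hst : ∀ x, IsTop x ↔ IsTop (g *ᵥ x)) :
    ∃ A B, IsU q A ∧ IsU q B ∧ g = blockMat A B := by
  set A := g.submatrix (Fin.castAdd m) (Fin.castAdd m) with hA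
  set B := g.submatrix (Fin.natAdd k) (Fin.natAdd k) with hB
  have h1 : ∀ a : Fin k → F, g *ᵥ Fin.append a 0 = Fin.append (A *ᵥ a) 0 := fun a => by
    funext i
    induction i using Fin.addCases with
    | left i => simp [hA, Matrix.mulVec, dotProduct, Fin.sum_univ_add]
    | right i => simpa using (hst _).1 (isTop_iff.2 ⟨a, rfl⟩) i
  have h2 : ∀ b : Fin m → F, g *ᵥ Fin.append 0 b = Fin.append 0 (B *ᵥ b) := fun b => by
    funext i
    induction i using Fin.addCases with
    | left i =>
      set y := g⁻¹ *ᵥ (Pi.single (Fin.castAdd m i) 1) with hy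
      have hgy : g *ᵥ y = Pi.single (Fin.castAdd m i) 1 := by
        rw [hy, Matrix.mulVec_mulVec,
          Matrix.mul_nonsing_inv _ ((Matrix.isUnit_iff_isUnit_det g).1 (hg.isUnit hF)),
          Matrix.one_mulVec]
      obtain ⟨a, ha⟩ : ∃ a : Fin k → F, y = Fin.append a 0 := isTop_iff.1 <| (hst y).2 fun j => by
        rw [hgy, Pi.single_apply, if_neg]
        intro h
        simp [Fin.ext_iff] at h
        omega
      have := hg (Fin.append 0 b) y
      rw [hgy, herm_single_right hF, ha, herm_append, herm_zero_left, herm_zero_right hF,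
        add_zero] at this
      simpa using this
    | right i => simp [hB, Matrix.mulVec, dotProduct, Fin.sum_univ_add]
  refine ⟨A, B, fun a c => ?_, fun b d => ?_, Matrix.ext_of_mulVec_single fun i => ?_⟩
  · have := hg (Fin.append a 0) (Fin.append c 0)
    rw [h1, h1, herm_append, herm_append, herm_zero_left, add_zero, add_zero] at this
    exact this
  · have := hg (Fin.append 0 b) (Fin.append 0 d)
    rw [h2, h2, herm_append, herm_append, herm_zero_left, zero_add, zero_add] at this
    exact this
  · generalize (Pi.single i 1 : Fin (k + m) → F) = x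
    rw [← Fin.append_castAdd_natAdd (f := x), blockMat_mulVec]
    set a := fun i => x (Fin.castAdd m i)
    set b := fun i => x (Fin.natAdd k i)
    have hsplit : Fin.append a b = Fin.append a 0 + Fin.append 0 b := by
      funext j
      induction j using Fin.addCases <;> simp
    rw [hsplit, Matrix.mulVec_add, h1, h2]
    funext j
    induction j using Fin.addCases <;> simp

/-- The block embedding. -/
noncomputable def blockHom (hF : Fintype.card F = q ^ 2) :
    GU k F q × GU m F q →* GU (k + m) F q where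
  toFun p := mkGU hF (blockMat (p.1 : Matrix.GeneralLinearGroup (Fin k) F).1
    (p.2 : Matrix.GeneralLinearGroup (Fin m) F).1) (isU_blockMat (isU_of_mem _) (isU_of_mem _))
  map_one' := by
    refine Subtype.ext (Units.ext ?_)
    rw [mkGU_coe]
    show blockMat (1 : Matrix (Fin k) (Fin k) F) (1 : Matrix (Fin m) (Fin m) F) = 1
    rw [blockMat, Matrix.fromBlocks_one, Matrix.submatrix_one_equiv]
  map_mul' a b := by
    refine Subtype.ext (Units.ext ?_)
    rw [mkGU_coe]
    show _ = (mkGU hF _ _).1.1 * (mkGU hF _ _).1.1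
    rw [mkGU_coe, mkGU_coe]
    simp [blockMat, Matrix.submatrix_mul_equiv, Matrix.fromBlocks_multiply]

theorem blockHom_injective (hF : Fintype.card F = q ^ 2) :
    Function.Injective (blockHom (k := k) (m := m) hF) := by
  intro a b h
  have := congrArg (fun g : GU (k + m) F q =>
    (g : Matrix.GeneralLinearGroup (Fin (k + m)) F).1.submatrix finSumFinEquiv finSumFinEquiv) h
  simp only [blockHom, MonoidHom.coe_mk, OneHom.coe_mk, mkGU_coe, blockMat,
    Matrix.submatrix_submatrix, Equiv.symm_comp_self, Matrix.submatrix_id_id,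
    Matrix.fromBlocks_inj] at this
  exact Prod.ext (Subtype.ext (Units.ext this.1)) (Subtype.ext (Units.ext this.2.2.2))

theorem nonempty_stab_equiv (hF : Fintype.card F = q ^ 2) (W : Submodule F (Fin (k + m) → F))
    (hk : Module.finrank F W = k)
    (hW : ∀ u ∈ W, (∀ v ∈ W, hermForm (k + m) F q u v = 0) → u = 0) :
    Nonempty (↥((stabilizing (glToMat (Fin (k + m)) F)
        (W : Set (Fin (k + m) → F))).subgroupOf (GU (k + m) F q)) ≃*
      GU k F q × GU m F q) := by
  obtain ⟨v, hvW, hv⟩ := exists_onb hF k W hk hW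
  obtain ⟨M, hM, hMa⟩ := exists_isU_frame hF hv
  set Mg := mkGU hF M hM with hMg
  have hMgc : (Mg : Matrix.GeneralLinearGroup (Fin (k + m)) F).1 = M := mkGU_coe hF M hM
  have hMW : ∀ x, IsTop x ↔ M *ᵥ x ∈ W := by
    intro x
    constructor
    · intro hx
      obtain ⟨a, rfl⟩ := isTop_iff.1 hx
      rw [hMa]
      exact W.sum_mem fun i _ => W.smul_mem _ (hvW i)
    · intro hx
      refine isTop_iff.2 ⟨fun i => hermForm _ F q (M *ᵥ x) (v i),
        (Matrix.mulVec_injective_iff_isUnit.2 (hM.isUnit hF)) ?_⟩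
      rw [hMa]
      exact eq_comb hv hvW (by rw [hk, Fintype.card_fin]) hx
  let ψ : GU k F q × GU m F q →* GU (k + m) F q :=
    (MulAut.conj Mg).toMonoidHom.comp (blockHom hF)
  have hmat : ∀ p x, ((ψ p : Matrix.GeneralLinearGroup (Fin (k + m)) F).1) *ᵥ (M *ᵥ x)
      = M *ᵥ ((blockHom hF p).1.1 *ᵥ x) := by
    intro p x
    have h : ψ p * Mg = Mg * blockHom hF p := by simp [ψ]
    have h' := congrArg (fun g : GU (k + m) F q => g.1.1 *ᵥ x) h
    simpa [hMgc, Matrix.mulVec_mulVec] using h'
  have hmem : ∀ p, ψ p ∈ (stabilizing (glToMat (Fin (k + m)) F)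
      (W : Set (Fin (k + m) → F))).subgroupOf (GU (k + m) F q) := by
    intro p y
    obtain ⟨x, rfl⟩ := (Matrix.mulVec_surjective_iff_isUnit.2 (hM.isUnit hF)) y
    show M *ᵥ x ∈ W ↔ (ψ p).1.1 *ᵥ (M *ᵥ x) ∈ W
    rw [hmat, ← hMW, ← hMW]
    have hb : (blockHom hF p).1.1 = blockMat (p.1 : Matrix.GeneralLinearGroup (Fin k) F).1
        (p.2 : Matrix.GeneralLinearGroup (Fin m) F).1 :=
      mkGU_coe hF _ (isU_blockMat (isU_of_mem p.1) (isU_of_mem p.2))
    rw [hb, ← Fin.append_castAdd_natAdd (f := x), blockMat_mulVec]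
    simp only [IsTop, Fin.append_right]
    rw [← funext_iff, ← funext_iff (g := fun _ => 0)]
    constructor
    · intro h
      rw [h]
      exact Matrix.mulVec_zero _
    · intro h
      exact (Matrix.mulVec_injective_iff_isUnit.2 ((isU_of_mem p.2).isUnit hF))
        (h.trans (Matrix.mulVec_zero _).symm)
  refine ⟨(MulEquiv.ofBijective (ψ.codRestrict _ hmem) ⟨?_, ?_⟩).symm⟩
  · intro a b h
    exact blockHom_injective hF ((MulAut.conj Mg).injective (congrArg Subtype.val h))
  · rintro ⟨g, hg⟩
    set g0 := Mg⁻¹ * g * Mg with hg0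
    have hgx : ∀ x, (g : Matrix.GeneralLinearGroup (Fin (k + m)) F).1 *ᵥ (M *ᵥ x)
        = M *ᵥ (g0.1.1 *ᵥ x) := by
      intro x
      have h : g * Mg = Mg * g0 := by simp [hg0, mul_assoc]
      have h' := congrArg (fun a : GU (k + m) F q => a.1.1 *ᵥ x) h
      simpa [hMgc, Matrix.mulVec_mulVec] using h'
    obtain ⟨A, B, hA, hB, hAB⟩ := exists_eq_blockMat hF (isU_of_mem g0) fun x => by
      rw [hMW, hMW, ← hgx]
      exact hg (M *ᵥ x)
    refine ⟨(mkGU hF A hA, mkGU hF B hB), Subtype.ext ?_⟩
    show MulAut.conj Mg (blockHom hF _) = g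
    have : blockHom hF (mkGU hF A hA, mkGU hF B hB) = g0 :=
      Subtype.ext (Units.ext (by simp [blockHom, mkGU_coe, hAB]))
    rw [this, hg0]
    simp [MulAut.conj_apply, mul_assoc]

end Cfsg.Agent.OrthUnitarySubspaces
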