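import Mathlib
import Cfsg.Prelude.Def_ClassicalGeometry
import Cfsg.Agent.Lib.OrthUnitarySubspaces

/-!
Frames of a hermitian space, the Witt map between two frames, and the orders of the stabilisers
of totally isotropic subspaces.
-/

set_option autoImplicit false
set_option linter.unusedSectionVars false

namespace Cfsg.Agent.OrthUnitaryIsotropic

open scoped Matrix
open Cfsg.Agent.OrthUnitaryHerm
open Cfsg.Agent.OrthUnitaryTransvection
open Cfsg.Agent.OrthUnitarySubspaces

variable {F : Type*} [Field F] [Fintype F] {q n : ℕ}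

section Gram

variable {ι : Type*} [Fintype ι] [DecidableEq ι]

/-- The Gram matrix of `w` is the permutation matrix of the involution `σ`. -/
def IsGram (q : ℕ) (σ : ι → ι) (w : ι → Fin n → F) : Prop :=
  ∀ a b, hermForm n F q (w a) (w b) = if a = σ b then 1 else 0

variable {σ : ι → ι} {w w' : ι → Fin n → F}

theorem gram_comb (hw : IsGram q σ w) (x : ι → F) (b : ι) :
    hermForm n F q (∑ a, x a • w a) (w b) = x (σ b) := by
  simp [herm_sum_left, herm_smul_left, hw _ b]

theorem gram_comb_comb (hF : Fintype.card F = q ^ 2) (hw : IsGram q σ w) (x y : ι → F) :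
    hermForm n F q (∑ a, x a • w a) (∑ a, y a • w a) = ∑ b, x (σ b) * y b ^ q := by
  rw [herm_sum_right hF]
  simp [herm_smul_right, gram_comb hw, mul_comm]

theorem gram_li (hσ : Function.Involutive σ) (hw : IsGram q σ w) : LinearIndependent F w := by
  rw [Fintype.linearIndependent_iff]
  intro c hc i
  rw [← hσ i, ← gram_comb hw c (σ i), hc, herm_zero_left]

theorem gram_expand (hF : Fintype.card F = q ^ 2) (hσ : Function.Involutive σ)
    (hw : IsGram q σ w) (hn : Fintype.card ι = n) (x : Fin n → F) :
    x = ∑ a, hermForm n F q x (w (σ a)) • w a := by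
  have hspan := (gram_li hσ hw).span_eq_top_of_card_eq_finrank'
    (by rw [hn, Module.finrank_fin_fun])
  rw [← sub_eq_zero]
  refine eq_zero_of_herm_eq_zero hF fun y => ?_
  obtain ⟨c, rfl⟩ : ∃ c : ι → F, ∑ a, c a • w a = y :=
    Submodule.mem_span_range_iff_exists_fun F |>.1 (hspan ▸ Submodule.mem_top)
  rw [herm_sum_right hF]
  refine Finset.sum_eq_zero fun b _ => ?_
  rw [herm_smul_right, herm_sub_left, gram_comb hw, hσ b, sub_self, mul_zero]

theorem mat_ext (hF : Fintype.card F = q ^ 2) (hσ : Function.Involutive σ) (hw : IsGram q σ w)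
    (hn : Fintype.card ι = n) {M N : Matrix (Fin n) (Fin n) F}
    (h : ∀ a, M *ᵥ w a = N *ᵥ w a) : M = N := by
  refine Matrix.ext_of_mulVec_single fun i => ?_
  rw [gram_expand hF hσ hw hn (Pi.single i 1)]
  simp [Matrix.mulVec_sum, Matrix.mulVec_smul, h]

/-- Witt's theorem for frames. -/
theorem exists_witt (hF : Fintype.card F = q ^ 2) (hσ : Function.Involutive σ)
    (hw : IsGram q σ w) (hw' : IsGram q σ w') (hn : Fintype.card ι = n) :
    ∃ M : Matrix (Fin n) (Fin n) F, IsU q M ∧ ∀ a, M *ᵥ w a = w' a := by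
  let L : (Fin n → F) →ₗ[F] (Fin n → F) := ∑ a, (hermL q (w (σ a))).smulRight (w' a)
  have hL : ∀ c : ι → F, L (∑ a, c a • w a) = ∑ a, c a • w' a := fun c => by
    simp only [L, LinearMap.sum_apply, LinearMap.smulRight_apply, hermL_apply, gram_comb hw, hσ _]
  refine ⟨LinearMap.toMatrix' L, fun x y => ?_, fun a => ?_⟩
  · rw [LinearMap.toMatrix'_mulVec, LinearMap.toMatrix'_mulVec]
    conv_rhs => rw [gram_expand hF hσ hw hn x, gram_expand hF hσ hw hn y]
    rw [gram_comb_comb hF hw]
    conv_lhs => rw [gram_expand hF hσ hw hn x, gram_expand hF hσ hw hn y]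
    rw [hL, hL, gram_comb_comb hF hw']
  · rw [LinearMap.toMatrix'_mulVec, show w a = ∑ b, (if b = a then 1 else 0 : F) • w b by simp, hL]
    simp

theorem gram_smul (hw : IsGram q σ w) {d : ι → F} (hd : ∀ b, d (σ b) * d b ^ q = 1) :
    IsGram q σ fun a => d a • w a := fun a b => by
  rw [herm_smul_left, herm_smul_right, hw a b]
  split_ifs with h
  · subst h
    rw [mul_one, hd]
  · simp

theorem det_scale (hσ : Function.Involutive σ) (hw : IsGram q σ w) (hn : Fintype.card ι = n)
    {M : Matrix (Fin n) (Fin n) F} {d : ι → F} (hM : ∀ a, M *ᵥ w a = d a • w a) :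
    M.det = ∏ a, d a := by
  let e : ι ≃ Fin n := Fintype.equivOfCardEq (by rw [hn, Fintype.card_fin])
  let P : Matrix (Fin n) (Fin n) F := Matrix.of fun i j => w (e.symm j) i
  have hP : IsUnit P :=
    Matrix.linearIndependent_cols_iff_isUnit.1 ((gram_li hσ hw).comp _ e.symm.injective)
  have hPd : P.det ≠ 0 := ((Matrix.isUnit_iff_isUnit_det P).1 hP).ne_zero
  have h : M * P = P * Matrix.diagonal (d ∘ e.symm) := by
    ext i j
    rw [Matrix.mul_diagonal]
    exact (congrFun (hM (e.symm j)) i).trans (mul_comm _ _)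
  have h' := congrArg Matrix.det h
  rw [Matrix.det_mul, Matrix.det_mul, Matrix.det_diagonal, mul_comm] at h'
  rw [mul_left_cancel₀ hPd h']
  exact Fintype.prod_equiv e.symm _ _ fun _ => rfl

end Gram

variable {k m : ℕ}

/-- The index type of a frame. -/
abbrev Idx (k m : ℕ) := (Fin k ⊕ Fin k) ⊕ Fin m

/-- The pairing of a frame. -/
def pairing : Idx k m → Idx k m := Sum.map Sum.swap id

theorem pairing_invol : Function.Involutive (pairing (k := k) (m := m)) := by
  rintro ((i | i) | i) <;> rfl

theorem card_idx (hn : n = 2 * k + m) : Fintype.card (Idx k m) = n := by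
  simp only [Fintype.card_sum, Fintype.card_fin]
  omega

/-- `f` is dual to the totally isotropic family `e`. -/
def IsHyp (q : ℕ) (e f : Fin k → Fin n → F) : Prop :=
  (∀ i j, hermForm n F q (e i) (e j) = 0) ∧ (∀ i j, hermForm n F q (f i) (f j) = 0) ∧
    ∀ i j, hermForm n F q (f i) (e j) = if i = j then 1 else 0

/-- The frame made of `e`, `f`, `u`. -/
def frame (e f : Fin k → Fin n → F) (u : Fin m → Fin n → F) : Idx k m → Fin n → F :=
  Sum.elim (Sum.elim e f) u

theorem isGram_frame (hF : Fintype.card F = q ^ 2) {e f : Fin k → Fin n → F}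
    {u : Fin m → Fin n → F} (hh : IsHyp q e f) (hu : OrthoN q u)
    (hue : ∀ i j, hermForm n F q (u i) (e j) = 0) (huf : ∀ i j, hermForm n F q (u i) (f j) = 0) :
    IsGram q pairing (frame e f u) := by
  have hef : ∀ i j, hermForm n F q (e i) (f j) = if i = j then 1 else 0 := fun i j => by
    rw [herm_conj hF, hh.2.2 j i]
    by_cases h : i = j
    · subst h; simp
    · simp [h, Ne.symm h, zero_pow_q hF]
  have hu' : ∀ i j, hermForm n F q (u i) (u j) = if i = j then (1 : F) else 0 := hu
  rintro ((i | i) | i) ((j | j) | j) <;>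
    simp [frame, pairing, hh.1, hh.2.1, hh.2.2, hef, hue, huf, hu', herm_skew_zero hF (hue _ _),
      herm_skew_zero hF (huf _ _)]

theorem exists_skew_sum (hF : Fintype.card F = q ^ 2) (G : Fin k → Fin k → F)
    (hG : ∀ i j, G j i = G i j ^ q) :
    ∃ a : Fin k → Fin k → F, ∀ i j, a i j + a j i ^ q + G i j = 0 := by
  have hd : ∀ i, ∃ t : F, t + t ^ q = -G i i := fun i =>
    exists_trace hF (by rw [neg_pow_q hF, ← hG])
  choose t ht using hd
  refine ⟨fun i j => if i < j then -G i j else if i = j then t i else 0, fun i j => ?_⟩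
  rcases lt_trichotomy i j with h | h | h
  · simp [h, h.not_gt, h.ne', zero_pow_q hF]
  · subst h
    simp [ht]
  · simp [h, h.not_gt, h.ne', neg_pow_q hF, ← hG]

theorem exists_dual (hF : Fintype.card F = q ^ 2) {e : Fin k → Fin n → F}
    (hli : LinearIndependent F e) (he : ∀ i j, hermForm n F q (e i) (e j) = 0) :
    ∃ f, IsHyp q e f := by
  let L : (Fin n → F) →ₗ[F] (Fin k → F) := LinearMap.pi fun i => hermL q (e i)
  have hs : LinearMap.range L = ⊤ := by
    by_contra hne
    obtain ⟨φ, hφ0, hφ⟩ := Submodule.exists_le_ker_of_lt_top _ (lt_top_iff_ne_top.2 hne)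
    have hsum : ∑ i, (φ (Pi.single i 1)) ^ q • e i = 0 := by
      refine eq_zero_of_herm_eq_zero hF fun x => herm_skew_zero hF ?_
      have : φ (L x) = 0 := hφ ⟨x, rfl⟩
      rw [pi_eq_sum_univ' (L x), map_sum] at this
      rw [herm_sum_right hF]
      rw [← this]
      refine Finset.sum_congr rfl fun i _ => ?_
      rw [map_smul, herm_smul_right, pow_q_q hF, smul_eq_mul, mul_comm]
      rfl
    refine hφ0 (LinearMap.pi_ext' fun i => LinearMap.ext_ring ?_)
    have := Fintype.linearIndependent_iff.1 hli _ hsum i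
    simpa using pow_eq_zero_iff (q_ne_zero hF) |>.1 this
  choose z hz using fun i => LinearMap.range_eq_top.1 hs (Pi.single i 1)
  have hze : ∀ i j, hermForm n F q (z i) (e j) = if i = j then 1 else 0 := fun i j => by
    have := congrFun (hz i) j
    rw [Pi.single_apply] at this
    simpa [L, hermL_apply, eq_comm] using this
  obtain ⟨a, ha⟩ := exists_skew_sum hF (fun i j => hermForm n F q (z i) (z j))
    fun i j => herm_conj hF _ _
  refine ⟨fun i => z i + ∑ j, a i j • e j, he, fun i j => ?_, fun i j => ?_⟩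
  · have hez : ∀ i j, hermForm n F q (e i) (z j) = if i = j then 1 else 0 := fun i j => by
      rw [herm_conj hF, hze j i]
      by_cases h : i = j
      · subst h; simp
      · simp [h, Ne.symm h, zero_pow_q hF]
    simp only [herm_add_left, herm_add_right hF, herm_sum_left, herm_sum_right hF, herm_smul_left,
      herm_smul_right, he, hze, hez, mul_ite, mul_one, mul_zero, Finset.sum_ite_eq,
      Finset.sum_ite_eq', Finset.sum_const_zero, Finset.mem_univ, if_true, add_zero]
    linear_combination ha i j
  · simp [herm_add_left, herm_sum_left, herm_smul_left, he, hze]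

theorem exists_complement (hF : Fintype.card F = q ^ 2) (hn : n = 2 * k + m)
    {e f : Fin k → Fin n → F} (hh : IsHyp q e f) :
    ∃ u : Fin m → Fin n → F, IsGram q pairing (frame e f u) := by
  let L : (Fin n → F) →ₗ[F] (Fin k ⊕ Fin k → F) :=
    LinearMap.pi fun a => hermL q (Sum.elim e f a)
  have hef : ∀ i j, hermForm n F q (e i) (f j) = if i = j then 1 else 0 := fun i j => by
    rw [herm_conj hF, hh.2.2 j i]
    by_cases h : i = j
    · subst h; simp
    · simp [h, Ne.symm h, zero_pow_q hF]
  let π : (Fin n → F) → (Fin n → F) := fun x =>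
    x - ∑ i, hermForm n F q x (f i) • e i - ∑ i, hermForm n F q x (e i) • f i
  have hπ : ∀ x, π x ∈ LinearMap.ker L := fun x => by
    rw [LinearMap.mem_ker]
    funext a
    rcases a with j | j <;>
      simp [L, π, hermL_apply, herm_sub_left, herm_sum_left, herm_smul_left, hh.1, hh.2.1, hh.2.2,
        hef]
  have hrange : LinearMap.range L = ⊤ := by
    rw [LinearMap.range_eq_top]
    intro c
    refine ⟨∑ i, c (.inl i) • f i + ∑ i, c (.inr i) • e i, funext fun a => ?_⟩
    rcases a with j | j <;>
      simp [L, hermL_apply, herm_add_left, herm_sum_left, herm_smul_left, hh.1, hh.2.1, hh.2.2, hef]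
  have hdim : Module.finrank F (LinearMap.ker L) = m := by
    have h := LinearMap.finrank_range_add_finrank_ker L
    rw [hrange, finrank_top, Module.finrank_fintype_fun_eq_card, Fintype.card_sum,
      Fintype.card_fin, Module.finrank_fin_fun] at h
    omega
  have hzero : ∀ u ∈ LinearMap.ker L,
      ∀ i, hermForm n F q u (e i) = 0 ∧ hermForm n F q u (f i) = 0 := fun u hu i =>
    ⟨congrFun hu (.inl i), congrFun hu (.inr i)⟩
  obtain ⟨u, huP, hu⟩ := exists_onb hF m _ hdim (by
    intro u hu h
    refine eq_zero_of_herm_eq_zero hF fun x => ?_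
    have hx := h _ (hπ x)
    simpa [π, herm_sub_right hF, herm_sum_right hF, herm_smul_right, (hzero u hu _).1,
      (hzero u hu _).2] using hx)
  exact ⟨u, isGram_frame hF hh hu (fun i j => (hzero _ (huP i) j).1)
    fun i j => (hzero _ (huP i) j).2⟩

/-- Skew-hermitian matrices. -/
theorem card_skew_one (hF : Fintype.card F = q ^ 2) : Nat.card {x : F // x + x ^ q = 0} = q := by
  classical
  obtain ⟨c, hc0, hc⟩ := exists_skew hF
  have hc' : c ^ q = -c := by linear_combination hc
  have hq := two_le_q hF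
  calc Nat.card {x : F // x + x ^ q = 0} = Nat.card {x : F // x ^ q = x} :=
        Nat.card_congr ((Equiv.mulLeft₀ c hc0).subtypeEquiv fun x => by
          simp only [Equiv.mulLeft₀_apply, mul_pow, hc']
          constructor
          · intro h; rw [h]; ring
          · intro h
            have : c * (x - x ^ q) = 0 := by linear_combination h
            linear_combination -(mul_eq_zero.1 this).resolve_left hc0).symm
    _ = Nat.card (Option {x : Fˣ // x ^ (q - 1) = 1}) := by
        refine Nat.card_congr
          ((Equiv.optionSubtypeNe (⟨0, zero_pow_q hF⟩ : {x : F // x ^ q = x})).symm.trans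
            (Equiv.optionCongr ?_))
        refine ⟨fun x => ⟨Units.mk0 x.1.1 fun h => x.2 (Subtype.ext h), ?_⟩,
          fun u => ⟨⟨(u.1 : F), ?_⟩, fun h => u.1.ne_zero (congrArg Subtype.val h)⟩,
          fun x => rfl, fun u => Subtype.ext (Units.ext rfl)⟩
        · have h0 : x.1.1 ≠ 0 := fun h => x.2 (Subtype.ext h)
          apply Units.ext
          simp only [Units.val_pow_eq_pow_val, Units.val_mk0, Units.val_one]
          apply mul_left_cancel₀ h0
          rw [← pow_succ', mul_one, show q - 1 + 1 = q by omega]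
          exact x.1.2
        · have := congrArg Units.val u.2
          rw [Units.val_pow_eq_pow_val, Units.val_one] at this
          have h3 := pow_succ (u.1 : F) (q - 1)
          rw [show q - 1 + 1 = q by omega, this, one_mul] at h3
          exact h3
    _ = q := by rw [Finite.card_option, card_fixedUnits hF]; omega

theorem card_skew (hF : Fintype.card F = q ^ 2) : ∀ k : ℕ,
    Nat.card {a : Fin k → Fin k → F // ∀ i j, a i j + a j i ^ q = 0} = q ^ (k * k)
  | 0 => by
    rw [Nat.card_eq_one_iff_unique.2 ⟨inferInstance, ⟨⟨0, fun i => i.elim0⟩⟩⟩, Nat.zero_mul,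
      pow_zero]
  | k + 1 => by
    let e : {a : Fin (k + 1) → Fin (k + 1) → F // ∀ i j, a i j + a j i ^ q = 0} ≃
        {x : F // x + x ^ q = 0} × (Fin k → F) ×
          {a : Fin k → Fin k → F // ∀ i j, a i j + a j i ^ q = 0} :=
      { toFun := fun a => (⟨a.1 0 0, a.2 0 0⟩, fun j => a.1 0 j.succ,
          ⟨fun i j => a.1 i.succ j.succ, fun i j => a.2 _ _⟩)
        invFun := fun p => ⟨Fin.cons (Fin.cons p.1.1 p.2.1)
            (fun i => Fin.cons (-(p.2.1 i ^ q)) (p.2.2.1 i)), fun i j => by
          cases i using Fin.cases <;> cases j using Fin.cases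
          · simpa using p.1.2
          · simp [neg_pow_q hF, pow_q_q hF]
          · simp
          · simpa using p.2.2.2 _ _⟩
        left_inv := fun a => by
          refine Subtype.ext (funext fun i => funext fun j => ?_)
          cases i using Fin.cases <;> cases j using Fin.cases <;> simp
          rename_i i
          linear_combination -(a.2 i.succ 0)
        right_inv := fun p => rfl }
    rw [Nat.card_congr e, Nat.card_prod, Nat.card_prod, card_skew_one hF, card_skew hF k,
      Nat.card_fun, Nat.card_fin, Nat.card_eq_fintype_card, hF, ← pow_mul, ← pow_add, ← pow_succ']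
    congr 1
    ring

theorem card_skew_affine (hF : Fintype.card F = q ^ 2) (G : Fin k → Fin k → F)
    (hG : ∀ i j, G j i = G i j ^ q) :
    Nat.card {a : Fin k → Fin k → F // ∀ i j, a i j + a j i ^ q + G i j = 0} = q ^ (k * k) := by
  obtain ⟨a₀, ha₀⟩ := exists_skew_sum hF G hG
  rw [← card_skew hF k]
  refine Nat.card_congr (((Equiv.addRight a₀).subtypeEquiv fun a => ?_).symm)
  refine forall_congr' fun i => forall_congr' fun j => ?_
  simp only [Equiv.coe_addRight, Pi.add_apply, add_pow_q hF]
  constructor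
  · intro h; linear_combination h + ha₀ i j
  · intro h; linear_combination h - ha₀ i j

theorem frame_comb (e f : Fin k → Fin n → F) (u : Fin m → Fin n → F) (c : Idx k m → F) :
    ∑ a, c a • frame e f u a
      = ∑ i, c (.inl (.inl i)) • e i + ∑ i, c (.inl (.inr i)) • f i + ∑ i, c (.inr i) • u i := by
  simp [frame, Fintype.sum_sum_type]

theorem hyp_of_gram {e f : Fin k → Fin n → F} {u : Fin m → Fin n → F}
    (hw : IsGram q pairing (frame e f u)) : IsHyp q e f := by
  refine ⟨fun i j => ?_, fun i j => ?_, fun i j => ?_⟩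
  · simpa [frame, pairing] using hw (.inl (.inl i)) (.inl (.inl j))
  · simpa [frame, pairing] using hw (.inl (.inr i)) (.inl (.inr j))
  · simpa [frame, pairing] using hw (.inl (.inr i)) (.inl (.inl j))

/-- The number of dual families. -/
theorem card_duals (hF : Fintype.card F = q ^ 2) (hn : n = 2 * k + m) {e : Fin k → Fin n → F}
    (hli : LinearIndependent F e) (he : ∀ i j, hermForm n F q (e i) (e j) = 0) :
    Nat.card {f // IsHyp q e f} = q ^ (k * k + 2 * k * m) := by
  classical
  obtain ⟨f₀, hh₀⟩ := exists_dual hF hli he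
  obtain ⟨u, hw⟩ := exists_complement hF hn hh₀
  let G : (Fin k → Fin m → F) → Fin k → Fin k → F := fun w i j => ∑ l, w i l * w j l ^ q
  have hG : ∀ w i j, G w j i = G w i j ^ q := fun w i j => by
    simp [G, sum_pow_q hF, mul_pow, pow_q_q hF, mul_comm]
  let c : (Fin k → Fin k → F) → (Fin k → Fin m → F) → Fin k → Idx k m → F := fun a w i =>
    Sum.elim (Sum.elim (a i) (Pi.single i 1)) (w i)
  let mk : (Fin k → Fin k → F) → (Fin k → Fin m → F) → Fin k → Fin n → F := fun a w i =>
    ∑ b, c a w i b • frame e f₀ u b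
  have hmk : ∀ a w, IsHyp q e (mk a w) ↔ ∀ i j, a i j + a j i ^ q + G w i j = 0 := by
    intro a w
    have h1 : ∀ i j, hermForm n F q (mk a w i) (mk a w j) = a i j + a j i ^ q + G w i j := by
      intro i j
      rw [gram_comb_comb hF hw]
      simp [c, pairing, Fintype.sum_sum_type, Pi.single_apply, G, mul_ite, ite_mul, ite_pow,
        zero_pow_q hF]
      ring
    have h2 : ∀ i j, hermForm n F q (mk a w i) (e j) = if i = j then 1 else 0 := fun i j => by
      rw [show e j = frame e f₀ u (.inl (.inl j)) from rfl, gram_comb hw]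
      simp [c, pairing, Pi.single_apply, eq_comm]
    exact ⟨fun h i j => (h1 i j).symm.trans (h.2.1 i j),
      fun h => ⟨he, fun i j => (h1 i j).trans (h i j), h2⟩⟩
  let Φ : (Σ w : Fin k → Fin m → F,
      {a : Fin k → Fin k → F // ∀ i j, a i j + a j i ^ q + G w i j = 0}) → {f // IsHyp q e f} :=
    fun p => ⟨mk p.2.1 p.1, (hmk _ _).2 p.2.2⟩
  have hΦ : Function.Bijective Φ := by
    constructor
    · rintro ⟨w, a, ha⟩ ⟨w', a', ha'⟩ h
      have h' : ∀ i b, c a w i b = c a' w' i b := fun i b => by
        rw [← pairing_invol b, ← gram_comb hw (c a w i), ← gram_comb hw (c a' w' i)]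
        exact congrArg (fun f => hermForm n F q (f.1 i) _) h
      obtain rfl : w = w' := funext fun i => funext fun l => h' i (.inr l)
      obtain rfl : a = a' := funext fun i => funext fun j => h' i (.inl (.inl j))
      rfl
    · rintro ⟨f, hf⟩
      let cf : Fin k → Idx k m → F := fun i b => hermForm n F q (f i) (frame e f₀ u (pairing b))
      have hf' : f = mk (fun i j => cf i (.inl (.inl j))) (fun i l => cf i (.inr l)) := by
        funext i
        rw [gram_expand hF pairing_invol hw (card_idx hn) (f i)]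
        refine Finset.sum_congr rfl fun b _ => ?_
        congr 1
        rcases b with (j | j) | j
        · rfl
        · simpa [c, frame, pairing, Pi.single_apply, eq_comm] using hf.2.2 i j
        · rfl
      refine ⟨⟨_, _, (hmk _ _).1 (hf' ▸ hf)⟩, Subtype.ext hf'.symm⟩
  rw [← Nat.card_eq_of_bijective Φ hΦ, Nat.card_sigma]
  simp only [card_skew_affine hF _ (hG _), Finset.sum_const, Finset.card_univ, smul_eq_mul,
    Fintype.card_fun, hF, Fintype.card_fin, ← pow_mul, ← pow_add]
  congr 1
  ring

/-- The pointwise stabiliser of a hyperbolic family. -/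
theorem card_fix (hF : Fintype.card F = q ^ 2) (hn : n = 2 * k + m) {e f : Fin k → Fin n → F}
    (hh : IsHyp q e f) :
    Nat.card {M : Matrix (Fin n) (Fin n) F //
      IsU q M ∧ ∀ i, M *ᵥ e i = e i ∧ M *ᵥ f i = f i} = Nat.card (GU m F q) := by
  obtain ⟨u, hw⟩ := exists_complement hF hn hh
  rw [Nat.card_congr (guEquiv (n := m) hF)]
  symm
  let u' : Matrix (Fin m) (Fin m) F → Fin m → Fin n → F := fun A j => ∑ i, A i j • u i
  have hu : OrthoN q u := fun i j => by simpa [frame, pairing] using hw (.inr i) (.inr j)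
  have hu' : ∀ A, IsU q A → IsGram q pairing (frame e f (u' A)) := fun A hA => by
    refine isGram_frame hF hh (fun i j => ?_) (fun i j => ?_) (fun i j => ?_)
    · rw [herm_comb_comb hF hu]
      have := hA (Pi.single i 1) (Pi.single j 1)
      rw [Matrix.mulVec_single_one, Matrix.mulVec_single_one, herm_single_right hF,
        Pi.single_apply] at this
      simpa [hermForm, eq_comm] using this
    all_goals
      rw [herm_sum_left]
      refine Finset.sum_eq_zero fun l _ => ?_
      rw [herm_smul_left]
    · have := hw (.inr l) (.inl (.inl j))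
      simp [frame, pairing] at this
      rw [this, mul_zero]
    · have := hw (.inr l) (.inl (.inr j))
      simp [frame, pairing] at this
      rw [this, mul_zero]
  choose Ψ hΨU hΨ using fun (A : {A : Matrix (Fin m) (Fin m) F // IsU q A}) =>
    exists_witt hF pairing_invol hw (hu' A.1 A.2) (card_idx hn)
  refine Nat.card_eq_of_bijective
    (fun A => ⟨Ψ A, hΨU A, fun i => ⟨hΨ A (.inl (.inl i)), hΨ A (.inl (.inr i))⟩⟩) ⟨?_, ?_⟩
  · intro A B h
    have h' : Ψ A = Ψ B := congrArg Subtype.val h
    refine Subtype.ext (Matrix.ext fun i j => ?_)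
    have h1 : u' A.1 j = u' B.1 j := by
      have := hΨ A (.inr j)
      rw [h', hΨ B (.inr j)] at this
      exact this.symm
    rw [← herm_comb hu (fun i => A.1 i j) i, ← herm_comb hu (fun i => B.1 i j) i]
    exact congrArg (fun x => hermForm n F q x (u i)) h1
  · rintro ⟨g, hg, hgef⟩
    set A : Matrix (Fin m) (Fin m) F :=
      Matrix.of fun i j => hermForm n F q (g *ᵥ u j) (u i) with hA
    have hgu : ∀ j, g *ᵥ u j = u' A j := by
      intro j
      conv_lhs => rw [gram_expand hF pairing_invol hw (card_idx hn) (g *ᵥ u j)]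
      rw [frame_comb]
      have he0 : ∀ i, hermForm n F q (g *ᵥ u j) (e i) = 0 := fun i => by
        rw [← (hgef i).1, hg]
        simpa [frame, pairing] using hw (.inr j) (.inl (.inl i))
      have hf0 : ∀ i, hermForm n F q (g *ᵥ u j) (f i) = 0 := fun i => by
        rw [← (hgef i).2, hg]
        simpa [frame, pairing] using hw (.inr j) (.inl (.inr i))
      simp [u', hA, frame, pairing, he0, hf0]
    have hA' : IsU q A := fun x y => by
      have key : ∀ z, g *ᵥ (∑ j, z j • u j) = ∑ i, (A *ᵥ z) i • u i := fun z => by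
        simp only [Matrix.mulVec_sum, Matrix.mulVec_smul, hgu, u', Finset.smul_sum, smul_smul]
        rw [Finset.sum_comm]
        simp [Matrix.mulVec, dotProduct, Finset.sum_smul, mul_comm]
      have := hg (∑ j, x j • u j) (∑ j, y j • u j)
      rw [key, key, herm_comb_comb hF hu, herm_comb_comb hF hu] at this
      exact this
    refine ⟨⟨A, hA'⟩, Subtype.ext (mat_ext hF pairing_invol hw (card_idx hn) fun a => ?_)⟩
    show Ψ ⟨A, hA'⟩ *ᵥ _ = g *ᵥ _
    rw [hΨ]
    rcases a with (i | i) | i
    · exact (hgef i).1.symm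
    · exact (hgef i).2.symm
    · exact (hgu i).symm

/-- The setwise stabiliser in `GU`. -/
abbrev stabGU (n : ℕ) (q : ℕ) (W : Submodule F (Fin n → F)) : Subgroup (GU n F q) :=
  (stabilizing (glToMat (Fin n) F) (W : Set (Fin n → F))).subgroupOf (GU n F q)

theorem mem_stabGU {W : Submodule F (Fin n → F)} {g : GU n F q} :
    g ∈ stabGU n q W ↔
      ∀ v, v ∈ W ↔ (g : Matrix.GeneralLinearGroup (Fin n) F).1 *ᵥ v ∈ W := Iff.rfl

theorem isTI_span {e : Fin k → Fin n → F} (hF : Fintype.card F = q ^ 2)
    (he : ∀ i j, hermForm n F q (e i) (e j) = 0) :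
    ∀ u ∈ Submodule.span F (Set.range e), ∀ v ∈ Submodule.span F (Set.range e),
      hermForm n F q u v = 0 := by
  intro u hu v hv
  obtain ⟨c, rfl⟩ := (Submodule.mem_span_range_iff_exists_fun F).1 hu
  obtain ⟨d, rfl⟩ := (Submodule.mem_span_range_iff_exists_fun F).1 hv
  simp [herm_sum_left, herm_sum_right hF, herm_smul_left, herm_smul_right, he]

theorem exists_basis {W : Submodule F (Fin n → F)} (hWk : Module.finrank F W = k) :
    ∃ e : Fin k → Fin n → F, LinearIndependent F e ∧ Submodule.span F (Set.range e) = W := by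
  let b := Module.finBasisOfFinrankEq F W hWk
  have hli : LinearIndependent F (W.subtype ∘ b) :=
    b.linearIndependent.map' W.subtype W.ker_subtype
  refine ⟨W.subtype ∘ b, hli, ?_⟩
  refine Submodule.eq_of_le_of_finrank_eq
    (Submodule.span_le.2 (Set.range_subset_iff.2 fun i => (b i).2)) ?_
  rw [finrank_span_eq_card hli, Fintype.card_fin, hWk]

theorem exists_frame_of_TI (hF : Fintype.card F = q ^ 2) (hn : n = 2 * k + m)
    {W : Submodule F (Fin n → F)} (hWk : Module.finrank F W = k)
    (hW : ∀ u ∈ W, ∀ v ∈ W, hermForm n F q u v = 0) :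
    ∃ e f u, LinearIndependent F e ∧ Submodule.span F (Set.range e) = W ∧
      IsGram q (pairing (k := k) (m := m)) (frame e f u) := by
  obtain ⟨e, hli, hspan⟩ := exists_basis hWk
  have hmem : ∀ i, e i ∈ W := fun i => hspan ▸ Submodule.subset_span ⟨i, rfl⟩
  obtain ⟨f, hh⟩ := exists_dual hF hli fun i j => hW _ (hmem i) _ (hmem j)
  obtain ⟨u, hw⟩ := exists_complement hF hn hh
  exact ⟨e, f, u, hli, hspan, hw⟩

/-- The order of the stabiliser of a totally isotropic subspace in `GU`. -/
theorem card_stabGU (hF : Fintype.card F = q ^ 2) (hn : n = 2 * k + m)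
    {W : Submodule F (Fin n → F)} (hWk : Module.finrank F W = k)
    (hW : ∀ u ∈ W, ∀ v ∈ W, hermForm n F q u v = 0) :
    Nat.card (stabGU n q W)
      = q ^ (k * k + 2 * k * m) * (∏ i : Fin k, ((q ^ 2) ^ k - (q ^ 2) ^ (i : ℕ)))
        * Nat.card (GU m F q) := by
  classical
  obtain ⟨e₀, f₀, u₀, hli₀, hspan₀, hw₀⟩ := exists_frame_of_TI hF hn hWk hW
  have hh₀ := hyp_of_gram hw₀
  let S := {p : (Fin k → Fin n → F) × (Fin k → Fin n → F) //
    ((∀ i, p.1 i ∈ W) ∧ LinearIndependent F p.1) ∧ IsHyp q p.1 p.2}
  let act : stabGU n q W → S := fun g =>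
    ⟨(fun i => g.1.1.1 *ᵥ e₀ i, fun i => g.1.1.1 *ᵥ f₀ i),
      ⟨fun i => (g.2 (e₀ i)).1 (hspan₀ ▸ Submodule.subset_span ⟨i, rfl⟩),
        hli₀.map' (Matrix.mulVecLin g.1.1.1) (LinearMap.ker_eq_bot.2
          (Matrix.mulVec_injective_iff_isUnit.2 ((isU_of_mem g.1).isUnit hF)))⟩,
      fun i j => (isU_of_mem g.1 _ _).trans (hh₀.1 i j),
      fun i j => (isU_of_mem g.1 _ _).trans (hh₀.2.1 i j),
      fun i j => (isU_of_mem g.1 _ _).trans (hh₀.2.2 i j)⟩
  let s₀ : S := ⟨(e₀, f₀), ⟨fun i => hspan₀ ▸ Submodule.subset_span ⟨i, rfl⟩, hli₀⟩, hh₀⟩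
  have hSext : ∀ a b : S, a = b ↔ a.1.1 = b.1.1 ∧ a.1.2 = b.1.2 :=
    fun a b => Subtype.ext_iff.trans Prod.ext_iff
  have hmap : ∀ (g : GU n F q) (e : Fin k → Fin n → F), LinearIndependent F e →
      (∀ i, e i ∈ W) → (∀ i, g.1.1 *ᵥ e₀ i = e i) → g ∈ stabGU n q W := by
    intro g e hli hmem hge
    have hspan : Submodule.span F (Set.range e) = W :=
      Submodule.eq_of_le_of_finrank_eq (Submodule.span_le.2 (Set.range_subset_iff.2 hmem))
        (by rw [finrank_span_eq_card hli, Fintype.card_fin, hWk])
    have hcomb : ∀ c : Fin k → F,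
        g.1.1 *ᵥ (∑ i, c i • e₀ i) = ∑ i, c i • e i := fun c => by
      simp [Matrix.mulVec_sum, Matrix.mulVec_smul, hge]
    intro v
    constructor
    · intro hv
      rw [← hspan₀] at hv
      obtain ⟨c, rfl⟩ := (Submodule.mem_span_range_iff_exists_fun F).1 hv
      exact (hcomb c).symm ▸ W.sum_mem fun i _ => W.smul_mem _ (hmem i)
    · intro hv
      change g.1.1 *ᵥ v ∈ W at hv
      rw [← hspan] at hv
      obtain ⟨c, hc⟩ := (Submodule.mem_span_range_iff_exists_fun F).1 hv
      rw [← hcomb] at hc
      rw [← Matrix.mulVec_injective_iff_isUnit.2 ((isU_of_mem g).isUnit hF) hc, ← hspan₀]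
      exact Submodule.sum_mem _ fun i _ =>
        Submodule.smul_mem _ _ (Submodule.subset_span ⟨i, rfl⟩)
  have hcard := card_eq_card_mul_card_fibre act s₀ (by
    rintro ⟨⟨e, f⟩, ⟨hmem, hli⟩, hh⟩
    obtain ⟨u, hw⟩ := exists_complement hF hn hh
    obtain ⟨M, hM, hMw⟩ := exists_witt hF pairing_invol hw₀ hw (card_idx hn)
    have he : ∀ i, M *ᵥ e₀ i = e i := fun i => hMw (.inl (.inl i))
    have hf : ∀ i, M *ᵥ f₀ i = f i := fun i => hMw (.inl (.inr i))
    refine ⟨⟨mkGU hF M hM, hmap _ e hli hmem fun i => by rw [mkGU_coe]; exact he i⟩, fun g => ?_⟩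
    have hinj := Matrix.mulVec_injective_iff_isUnit.2 (hM.isUnit hF)
    have hgM : ∀ x, (mkGU hF M hM * g.1).1.1 *ᵥ x = M *ᵥ (g.1.1.1 *ᵥ x) := fun x => by
      rw [Subgroup.coe_mul, Units.val_mul, mkGU_coe, Matrix.mulVec_mulVec]
    rw [hSext, hSext]
    show ((fun i => (mkGU hF M hM * g.1).1.1 *ᵥ e₀ i) = e ∧
      (fun i => (mkGU hF M hM * g.1).1.1 *ᵥ f₀ i) = f) ↔ _
    constructor
    · rintro ⟨h1, h2⟩
      exact ⟨funext fun i => hinj ((hgM _).symm.trans ((congrFun h1 i).trans (he i).symm)),
        funext fun i => hinj ((hgM _).symm.trans ((congrFun h2 i).trans (hf i).symm))⟩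
    · rintro ⟨h1, h2⟩
      exact ⟨funext fun i => (hgM _).trans ((congrArg (M *ᵥ ·) (congrFun h1 i)).trans (he i)),
        funext fun i => (hgM _).trans ((congrArg (M *ᵥ ·) (congrFun h2 i)).trans (hf i))⟩)
  have hS : Nat.card S
      = (∏ i : Fin k, ((q ^ 2) ^ k - (q ^ 2) ^ (i : ℕ))) * q ^ (k * k + 2 * k * m) := by
    let E : S ≃ Σ e : {e : Fin k → W // LinearIndependent F e},
        {f // IsHyp q (fun i => (e.1 i : Fin n → F)) f} :=
      { toFun := fun p => ⟨⟨fun i => ⟨p.1.1 i, p.2.1.1 i⟩,
            LinearIndependent.of_comp W.subtype p.2.1.2⟩, p.1.2, p.2.2⟩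
        invFun := fun p => ⟨(fun i => p.1.1 i, p.2.1),
          ⟨fun i => (p.1.1 i).2, p.1.2.map' W.subtype W.ker_subtype⟩, p.2.2⟩
        left_inv := fun p => rfl
        right_inv := fun p => rfl }
    have hc := card_linearIndependent (K := F) (V := W) (k := k) (le_of_eq hWk.symm)
    rw [Nat.card_congr E, Nat.card_sigma,
      Finset.sum_congr rfl fun e _ => card_duals hF hn (e := fun i => (e.1 i : Fin n → F))
        (e.2.map' W.subtype W.ker_subtype) fun i j => hW _ (e.1 i).2 _ (e.1 j).2,
      Finset.sum_const, Finset.card_univ, smul_eq_mul, ← Nat.card_eq_fintype_card, hc, hWk, hF]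
  have hfib : Nat.card {g : stabGU n q W // act g = s₀} = Nat.card (GU m F q) := by
    rw [← card_fix hF hn hh₀]
    refine Nat.card_congr
      { toFun := fun g => ⟨g.1.1.1.1, isU_of_mem g.1.1, fun i =>
          ⟨congrFun (congrArg (fun s : S => s.1.1) g.2) i,
            congrFun (congrArg (fun s : S => s.1.2) g.2) i⟩⟩
        invFun := fun M => ⟨⟨mkGU hF M.1 M.2.1, hmap _ e₀ hli₀
            (fun i => hspan₀ ▸ Submodule.subset_span ⟨i, rfl⟩)
            fun i => by rw [mkGU_coe]; exact (M.2.2 i).1⟩, Subtype.ext (Prod.ext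
            (funext fun i => by simp only [act, s₀, mkGU_coe]; exact (M.2.2 i).1)
            (funext fun i => by simp only [act, s₀, mkGU_coe]; exact (M.2.2 i).2))⟩
        left_inv := fun g =>
          Subtype.ext (Subtype.ext (Subtype.ext (Units.ext (mkGU_coe hF g.1.1.1.1 (isU_of_mem g.1.1)))))
        right_inv := fun M => Subtype.ext (mkGU_coe hF M.1 M.2.1) }
  rw [hcard, hS, hfib]
  ring

/-- The number of totally isotropic `k`-subspaces. -/
theorem card_GU_eq_mul_stab (hF : Fintype.card F = q ^ 2) (hn : n = 2 * k + m) :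
    Nat.card (GU n F q) = Nat.card {W : Submodule F (Fin n → F) //
        Module.finrank F W = k ∧ ∀ u ∈ W, ∀ v ∈ W, hermForm n F q u v = 0} *
      (q ^ (k * k + 2 * k * m) * (∏ i : Fin k, ((q ^ 2) ^ k - (q ^ 2) ^ (i : ℕ)))
        * Nat.card (GU m F q)) := by
  classical
  obtain ⟨s, hs⟩ := exists_norm_eq hF (a := (-1 : F)) (by rw [neg_pow_q hF, one_pow])
  let ea : Fin k → Fin n := fun i => ⟨2 * i.1, by omega⟩
  let eb : Fin k → Fin n := fun i => ⟨2 * i.1 + 1, by omega⟩
  let e : Fin k → Fin n → F := fun i => Pi.single (ea i) 1 + s • Pi.single (eb i) 1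
  have hab : ∀ i j, ea i ≠ eb j := fun i j h => by simp [ea, eb, Fin.ext_iff] at h; omega
  have haa : ∀ i j, ea i = ea j ↔ i = j := fun i j => by simp [ea, Fin.ext_iff]
  have hbb : ∀ i j, eb i = eb j ↔ i = j := fun i j => by simp [eb, Fin.ext_iff]
  have he : ∀ i j, hermForm n F q (e i) (e j) = 0 := fun i j => by
    simp only [e, herm_add_left, herm_add_right hF, herm_smul_left, herm_smul_right,
      herm_single_right hF, Pi.add_apply, Pi.smul_apply, smul_eq_mul, Pi.single_apply, haa, hbb, hab, fun i j => (hab i j).symm, if_false]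
    by_cases h : i = j
    · subst h
      rw [if_pos rfl]
      rw [pow_succ] at hs
      linear_combination hs
    · simp [h, Ne.symm h]
  have hli : LinearIndependent F e := by
    rw [Fintype.linearIndependent_iff]
    intro c hc i
    simpa [e, Finset.sum_apply, Pi.single_apply, haa, hab] using congrFun hc (ea i)
  set W₀ := Submodule.span F (Set.range e) with hW₀
  have hW₀k : Module.finrank F W₀ = k := by rw [finrank_span_eq_card hli, Fintype.card_fin]
  let T := {W : Submodule F (Fin n → F) //
    Module.finrank F W = k ∧ ∀ u ∈ W, ∀ v ∈ W, hermForm n F q u v = 0}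
  let act : GU n F q → T := fun g =>
    ⟨W₀.map (Matrix.mulVecLin g.1.1),
      ((Submodule.equivMapOfInjective _ (show Function.Injective (Matrix.mulVecLin g.1.1) from
        Matrix.mulVec_injective_iff_isUnit.2
          ((isU_of_mem g).isUnit hF)) W₀).finrank_eq.symm.trans hW₀k),
      by
        rintro _ ⟨u, hu, rfl⟩ _ ⟨v, hv, rfl⟩
        exact (isU_of_mem g u v).trans (isTI_span hF he u hu v hv)⟩
  let t₀ : T := ⟨W₀, hW₀k, isTI_span hF he⟩
  have hText : ∀ a b : T, a = b ↔ a.1 = b.1 := fun a b => Subtype.ext_iff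
  have hcard := card_eq_card_mul_card_fibre act t₀ (by
    rintro ⟨W, hWk, hW⟩
    obtain ⟨e₁, f₁, u₁, -, hspan₁, hw₁⟩ := exists_frame_of_TI hF hn hWk hW
    obtain ⟨e₂, f₂, u₂, -, hspan₂, hw₂⟩ :=
      exists_frame_of_TI hF hn hW₀k (isTI_span hF he)
    obtain ⟨M, hM, hMw⟩ := exists_witt hF pairing_invol hw₂ hw₁ (card_idx hn)
    have hMW : W₀.map (Matrix.mulVecLin M) = W := by
      rw [← hspan₂, ← hspan₁, Submodule.map_span, ← Set.range_comp]
      exact congrArg (fun f => Submodule.span F (Set.range f))
        (funext fun i => hMw (.inl (.inl i)))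
    refine ⟨mkGU hF M hM, fun g => ?_⟩
    rw [hText, hText]
    show W₀.map (Matrix.mulVecLin (mkGU hF M hM * g).1.1) = W ↔
      W₀.map (Matrix.mulVecLin g.1.1) = W₀
    rw [Subgroup.coe_mul, Units.val_mul, mkGU_coe, Matrix.mulVecLin_mul, Submodule.map_comp]
    conv_lhs => rw [← hMW]
    exact (Submodule.map_injective_of_injective
      (f := Matrix.mulVecLin M) (Matrix.mulVec_injective_iff_isUnit.2 (hM.isUnit hF))).eq_iff)
  have hfib : Nat.card {g // act g = t₀} = Nat.card (stabGU n q W₀) := by
    refine Nat.card_congr (Equiv.subtypeEquivRight fun g => ?_)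
    rw [mem_stabGU, hText]
    show W₀.map (Matrix.mulVecLin g.1.1) = W₀ ↔ _
    have hinj : Function.Injective (Matrix.mulVecLin g.1.1) :=
      Matrix.mulVec_injective_iff_isUnit.2 ((isU_of_mem g).isUnit hF)
    constructor
    · intro h v
      constructor
      · intro hv
        exact h ▸ Submodule.mem_map_of_mem hv
      · intro hv
        rw [← h] at hv
        obtain ⟨v', hv', hvv⟩ := hv
        exact hinj hvv ▸ hv'
    · intro h
      exact Submodule.eq_of_le_of_finrank_eq
        (Submodule.map_le_iff_le_comap.2 fun v hv => (h v).1 hv)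
        (Submodule.equivMapOfInjective _ hinj W₀).finrank_eq.symm
  rw [hcard, hfib, card_stabGU hF hn hW₀k (isTI_span hF he)]

/-- The order of the stabiliser of a totally isotropic subspace in `SU`. -/
theorem card_stabSU (hF : Fintype.card F = q ^ 2) (hn : n = 2 * k + m) (hn1 : 1 ≤ n)
    {W : Submodule F (Fin n → F)} (hWk : Module.finrank F W = k)
    (hW : ∀ u ∈ W, ∀ v ∈ W, hermForm n F q u v = 0) :
    (q + 1) * Nat.card ↥((stabilizing (slToMat n F) (W : Set (Fin n → F))).subgroupOf (SU n F q))
      = Nat.card (stabGU n q W) := by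
  classical
  obtain ⟨e₀, f₀, u₀, -, hspan₀, hw₀⟩ := exists_frame_of_TI hF hn hWk hW
  let φ : stabGU n q W →* Fˣ := detGU.comp (stabGU n q W).subtype
  have hrange : φ.range = (powMonoidHom (q + 1) : Fˣ →* Fˣ).ker := by
    refine le_antisymm ?_ ?_
    · rintro _ ⟨g, rfl⟩
      exact (range_detGU hF hn1).le ⟨g.1, rfl⟩
    · intro x hx
      have hx' : (x : F) * (x : F) ^ q = 1 := by
        rw [← pow_succ']
        simpa using congrArg Units.val (MonoidHom.mem_ker.1 hx)
      obtain ⟨d, hd, hprod⟩ : ∃ d : Idx k m → F, (∀ b, d (pairing b) * d b ^ q = 1) ∧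
          ∏ a, d a = x := by
        rcases Nat.eq_zero_or_pos m with hm | hm
        · have hk : 0 < k := by omega
          subst hm
          obtain ⟨c, hc0, hc⟩ : ∃ c : F, c ≠ 0 ∧ c = x * c ^ q := by
            by_cases hx1 : (x : F) = -1
            · obtain ⟨c, hc0, hc⟩ := exists_skew hF
              exact ⟨c, hc0, by rw [hx1]; linear_combination hc⟩
            · refine ⟨1 + x, fun h => hx1 (by linear_combination h), ?_⟩
              rw [add_pow_q hF, one_pow, mul_add, mul_one, hx']
              ring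
          have hcq : c ^ q ≠ 0 := pow_ne_zero _ hc0
          let z : Fin k := ⟨0, hk⟩
          refine ⟨Sum.elim (Sum.elim (Function.update 1 z c) (Function.update 1 z (c ^ q)⁻¹))
            (fun i => i.elim0), ?_, ?_⟩
          · rintro ((i | i) | i)
            · by_cases h : i = z
              · subst h; simp [pairing, hcq]
              · simp [pairing, h]
            · by_cases h : i = z
              · subst h
                show Function.update (1 : Fin k → F) z c z *
                  Function.update (1 : Fin k → F) z (c ^ q)⁻¹ z ^ q = 1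
                rw [Function.update_self, Function.update_self, inv_pow, pow_q_q hF,
                  mul_inv_cancel₀ hc0]
              · simp [pairing, h]
            · exact i.elim0
          · rw [Fintype.prod_sum_type, Fintype.prod_sum_type]
            simp only [Sum.elim_inl, Sum.elim_inr]
            rw [Finset.prod_update_of_mem (Finset.mem_univ z),
              Finset.prod_update_of_mem (Finset.mem_univ z)]
            simp only [Pi.one_apply, Finset.prod_const_one, Finset.univ_eq_empty, Finset.prod_empty,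
              mul_one]
            rw [← div_eq_mul_inv, div_eq_iff hcq]
            exact hc
        · let z : Fin m := ⟨0, hm⟩
          refine ⟨Sum.elim 1 (Function.update 1 z (x : F)), ?_, ?_⟩
          · rintro ((i | i) | i)
            · simp [pairing]
            · simp [pairing]
            · by_cases h : i = z
              · subst h; simp [pairing, hx']
              · simp [pairing, h]
          · simp [Fintype.prod_sum_type, Finset.prod_update_of_mem]
      obtain ⟨M, hM, hMw⟩ :=
        exists_witt hF pairing_invol hw₀ (gram_smul hw₀ hd) (card_idx hn)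
      have hdet := det_scale pairing_invol hw₀ (card_idx hn) hMw
      have hinj : Function.Injective (Matrix.mulVecLin M) :=
        Matrix.mulVec_injective_iff_isUnit.2 (hM.isUnit hF)
      have hle : W.map (Matrix.mulVecLin M) = W := by
        refine Submodule.eq_of_le_of_finrank_eq ?_
          (Submodule.equivMapOfInjective _ hinj W).finrank_eq.symm
        rw [← hspan₀, Submodule.map_span, Submodule.span_le]
        rintro _ ⟨_, ⟨i, rfl⟩, rfl⟩
        rw [Matrix.mulVecLin_apply, show e₀ i = frame e₀ f₀ u₀ (.inl (.inl i)) from rfl, hMw]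
        exact Submodule.smul_mem _ _ (Submodule.subset_span ⟨i, rfl⟩)
      refine ⟨⟨mkGU hF M hM, ?_⟩, Units.ext ?_⟩
      · rw [mem_stabGU, mkGU_coe]
        intro v
        conv_rhs => rw [← hle]
        exact ⟨fun hv => Submodule.mem_map_of_mem hv, fun ⟨v', hv', h⟩ => hinj h ▸ hv'⟩
      · simp [φ, detGU, Matrix.GeneralLinearGroup.val_det_apply, mkGU_coe, hdet, hprod]
  have h := Subgroup.card_eq_card_quotient_mul_card_subgroup φ.ker
  rw [Nat.card_congr (QuotientGroup.quotientKerEquivRange φ).toEquiv, hrange] at h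
  rw [h]
  congr 1
  · exact (card_normOne hF).symm
  · refine Nat.card_eq_of_bijective
      (fun g => ⟨⟨suToGU g.1, g.2⟩, Units.ext ?_⟩) ⟨?_, ?_⟩
    · simpa [φ, detGU, Matrix.GeneralLinearGroup.val_det_apply, suToGU] using g.1.1.2
    · intro a b hab
      exact Subtype.ext (suToGU_injective (congrArg (fun g => g.1.1) hab))
    · rintro ⟨⟨g, hg⟩, hk⟩
      have : (g : Matrix.GeneralLinearGroup (Fin n) F).1.det = 1 := by
        have := congrArg Units.val (MonoidHom.mem_ker.1 hk)
        simpa [φ, detGU, Matrix.GeneralLinearGroup.val_det_apply] using this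
      exact ⟨⟨mkSU g.1.1 this (isU_of_mem g), hg⟩,
        Subtype.ext (Subtype.ext (Subtype.ext (Units.ext rfl)))⟩

end Cfsg.Agent.OrthUnitaryIsotropic
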