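import Mathlib
import Cfsg.Prelude.Def_GeometricClasses
import Cfsg.Agent.Lib.OrthUnitaryIsotropic
import Cfsg.Agent.Lib.TransvectionUnitaryGen

/-!
Maximality of subspace stabilisers in `SU_n(q)`: transvection centres of an overgroup.
-/

set_option autoImplicit false
set_option linter.unusedSectionVars false

namespace Cfsg.Agent.OrthUnitaryMaximal

open scoped Matrix MatrixGroups
open Cfsg.Agent.OrthUnitaryHerm
open Cfsg.Agent.OrthUnitaryTransvection
open Cfsg.Agent.OrthUnitarySubspaces
open Cfsg.Agent.OrthUnitaryIsotropic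

variable {F : Type*} [Field F] [Fintype F] {q n : ℕ}

/-- `SU` inside the general linear group. -/
def toGLn : SU n F q →* GL (Fin n) F := (GU n F q).subtype.comp suToGU

omit [Fintype F] in
theorem toGLn_coe (g : SU n F q) :
    ((toGLn g : GL (Fin n) F) : Matrix (Fin n) (Fin n) F)
      = ((g : Matrix.SpecialLinearGroup (Fin n) F) : Matrix (Fin n) (Fin n) F) := rfl

omit [Fintype F] in
theorem toGLn_act (g : SU n F q) (x : Fin n → F) :
    ((toGLn g : GL (Fin n) F) : Matrix (Fin n) (Fin n) F) *ᵥ x = act g x := rfl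

theorem range_toGLn :
    (toGLn (n := n) (F := F) (q := q)).range = GU n F q ⊓ Geo.specialLinear (Fin n) F := by
  rw [toGLn, MonoidHom.range_comp, range_suToGU]
  ext g
  constructor
  · rintro ⟨g', hg', rfl⟩
    exact ⟨g'.2, hg'⟩
  · rintro ⟨h1, h2⟩
    exact ⟨⟨g, h1⟩, h2, rfl⟩

/-- All transvections with centre `v` lie in `M`. -/
def Centre (M : Subgroup (SU n F q)) (v : Fin n → F) : Prop :=
  hermForm n F q v v = 0 ∧ ∀ g : SU n F q,
    (∃ c, ((g : Matrix.SpecialLinearGroup (Fin n) F) : Matrix (Fin n) (Fin n) F)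
      = unitaryTransvection n q v c) → g ∈ M

theorem centre_iff (hF : Fintype.card F = q ^ 2) {M : Subgroup (SU n F q)} {v : Fin n → F}
    (hv : hermForm n F q v v = 0) :
    Centre M v ↔ ∀ c (hc : c + c ^ q = 0), tv hF v c hv hc ∈ M := by
  constructor
  · exact fun h c hc => h.2 _ ⟨c, rfl⟩
  · refine fun h => ⟨hv, fun g hg => ?_⟩
    obtain ⟨c, hc⟩ := hg
    rcases eq_tv_or_one hF hv hc with rfl | ⟨hc', rfl, -⟩
    · exact M.one_mem
    · exact h c hc'

theorem centre_zero (hF : Fintype.card F = q ^ 2) (M : Subgroup (SU n F q)) : Centre M 0 := by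
  refine (centre_iff hF (herm_zero_left 0)).2 fun c hc => ?_
  convert M.one_mem
  refine su_ext fun x => ?_
  rw [tv_act, act_one, smul_zero, add_zero]

theorem centre_act (hF : Fintype.card F = q ^ 2) {M : Subgroup (SU n F q)} {h : SU n F q}
    (hh : h ∈ M) {v : Fin n → F} (hv : Centre M v) : Centre M (act h v) := by
  refine (centre_iff hF (by rw [herm_act, hv.1])).2 fun c hc => ?_
  have h1 := (centre_iff hF hv.1).1 hv c hc
  have h2 := conjU_tv hF _ (isU_of_mem_SU h) hv.1 hc
  rw [← conjU_eq_conj hF] at h2
  exact h2 ▸ M.mul_mem (M.mul_mem hh h1) (M.inv_mem hh)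

theorem centre_smul (hF : Fintype.card F = q ^ 2) {M : Subgroup (SU n F q)} {v : Fin n → F}
    (hv : Centre M v) (l : F) : Centre M (l • v) := by
  refine (centre_iff hF (by rw [herm_smul_left, herm_smul_right, hv.1, mul_zero, mul_zero])).2
    fun c hc => ?_
  have h1 := (centre_iff hF hv.1).1 hv (c * l * l ^ q) (by
    rw [mul_pow, mul_pow, pow_q_q hF]
    linear_combination (l * l ^ q) * hc)
  convert h1 using 1
  refine su_ext fun x => ?_
  rw [tv_act, tv_act, herm_smul_right, smul_smul]
  congr 2
  ring

theorem centre_of_act (hF : Fintype.card F = q ^ 2) {M : Subgroup (SU n F q)} {h : SU n F q}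
    (hh : h ∈ M) {v : Fin n → F} (hv : Centre M (act h v)) : Centre M v := by
  have := centre_act hF (M.inv_mem hh) hv
  rwa [act_inv_act] at this

theorem eq_top_of_centres (hF : Fintype.card F = q ^ 2) (hn : 4 ≤ n) {M : Subgroup (SU n F q)}
    (h : ∀ v, hermForm n F q v v = 0 → Centre M v) : M = ⊤ := by
  rw [eq_top_iff, ← tGroup_eq_top (F := F) (q := q) (n := n) hF (by omega) (by omega)]
  refine (Subgroup.closure_le M).2 ?_
  rintro g ⟨v, c, hv, hc⟩
  exact (h v hv).2 g ⟨c, hc⟩

/-- Reduction of maximality to the centres of overgroups. -/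
theorem isMaximalIn_of (hF : Fintype.card F = q ^ 2) (hn : 4 ≤ n) (L : Subgroup (GL (Fin n) F))
    (hne : ∃ g : SU n F q, toGLn g ∉ L)
    (hmax : ∀ M : Subgroup (SU n F q), L.comap toGLn ≤ M → ∀ g ∈ M, toGLn g ∉ L →
      ∀ v, hermForm n F q v v = 0 → Centre M v) :
    Geo.IsMaximalIn (GU n F q ⊓ Geo.specialLinear (Fin n) F)
      (L ⊓ (GU n F q ⊓ Geo.specialLinear (Fin n) F)) := by
  rw [← range_toGLn]
  refine ⟨lt_of_le_of_ne inf_le_right fun he => ?_, fun M hHM hMK => ?_⟩
  · obtain ⟨g, hg⟩ := hne
    exact hg (inf_eq_right.1 he ⟨g, rfl⟩)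
  · by_cases hc : ∀ g ∈ M, g ∈ L
    · exact Or.inl (le_antisymm (fun g hg => ⟨hc g hg, hMK hg⟩) hHM)
    push Not at hc
    obtain ⟨g, hgM, hgL⟩ := hc
    obtain ⟨g, rfl⟩ := hMK hgM
    have htop := eq_top_of_centres hF hn (hmax (M.comap toGLn)
      (fun x hx => hHM ⟨hx, x, rfl⟩) g hgM hgL)
    refine Or.inr (le_antisymm hMK ?_)
    rintro _ ⟨x, rfl⟩
    exact Subgroup.mem_comap.1 (htop ▸ Subgroup.mem_top x)

theorem mem_stab_of (hF : Fintype.card F = q ^ 2) {W : Submodule F (Fin n → F)} {g : SU n F q}
    (h : ∀ w ∈ W, act g w ∈ W) : toGLn g ∈ Geo.subspaceStabilizer W := by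
  have hinj : Function.Injective
      (Matrix.mulVecLin ((g : Matrix.SpecialLinearGroup (Fin n) F) : Matrix (Fin n) (Fin n) F)) :=
    Matrix.mulVec_injective_iff_isUnit.2 ((isU_of_mem_SU g).isUnit hF)
  have hW : W.map (Matrix.mulVecLin ((g : Matrix.SpecialLinearGroup (Fin n) F) :
      Matrix (Fin n) (Fin n) F)) = W :=
    Submodule.eq_of_le_of_finrank_eq (Submodule.map_le_iff_le_comap.2 h)
      (Submodule.equivMapOfInjective _ hinj W).finrank_eq.symm
  intro v
  refine ⟨h v, fun hv => ?_⟩
  have hv2 : act g v ∈ W.map (Matrix.mulVecLin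
      ((g : Matrix.SpecialLinearGroup (Fin n) F) : Matrix (Fin n) (Fin n) F)) := by
    rw [hW]; exact hv
  obtain ⟨v', hv', hvv⟩ := hv2
  exact hinj hvv ▸ hv'

theorem tv_mem_stab (hF : Fintype.card F = q ^ 2) {W : Submodule F (Fin n → F)} {v : Fin n → F}
    (hv : hermForm n F q v v = 0) (hW : v ∈ W ∨ ∀ w ∈ W, hermForm n F q w v = 0) (c : F)
    (hc : c + c ^ q = 0) : toGLn (tv hF v c hv hc) ∈ Geo.subspaceStabilizer W :=
  mem_stab_of hF fun w hw => by
    rw [tv_act]
    rcases hW with h | h
    · exact W.add_mem hw (W.smul_mem _ h)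
    · rw [h w hw, mul_zero, zero_smul, add_zero]; exact hw

theorem eich_mem_stab (hF : Fintype.card F = q ^ 2) {W : Submodule F (Fin n → F)}
    (hW : ∀ u ∈ W, ∀ v ∈ W, hermForm n F q u v = 0) {a w : Fin n → F} (ha : a ∈ W) {μ : F}
    (he : hermForm n F q a a = 0) (hw : hermForm n F q w a = 0)
    (hμ : μ + μ ^ q + hermForm n F q w w = 0) :
    toGLn (eich hF a w μ he hw hμ) ∈ Geo.subspaceStabilizer W :=
  mem_stab_of hF fun u hu => by
    rw [eich_act, hW u hu a ha, zero_smul, add_zero]
    exact W.add_mem hu (W.smul_mem _ ha)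

/-- Stabilisers of totally isotropic subspaces. -/
theorem max_isotropic (hF : Fintype.card F = q ^ 2) (hn : 4 ≤ n) {W : Submodule F (Fin n → F)}
    (hW0 : W ≠ ⊥) (hW : ∀ u ∈ W, ∀ v ∈ W, hermForm n F q u v = 0) :
    Geo.IsMaximalIn (GU n F q ⊓ Geo.specialLinear (Fin n) F)
      (Geo.subspaceStabilizer W ⊓ (GU n F q ⊓ Geo.specialLinear (Fin n) F)) := by
  refine isMaximalIn_of hF hn _ ?_ fun M hM g hgM hg v hv => ?_
  · obtain ⟨a, ha, ha0⟩ := Submodule.exists_mem_ne_zero_of_ne_bot hW0
    obtain ⟨f, hff, hfa, haf⟩ := exists_hyp hF ha0 (hW a ha a ha)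
    obtain ⟨c, hc0, hc⟩ := exists_skew hF
    refine ⟨tv hF f c hff hc, fun h => ?_⟩
    have h1 : act (tv hF f c hff hc) a ∈ W := (h a).1 ha
    rw [tv_act, haf, mul_one, W.add_mem_iff_right ha] at h1
    have h2 : f ∈ W := by simpa [hc0] using W.smul_mem c⁻¹ h1
    exact zero_ne_one ((hW f h2 a ha).symm.trans hfa)
  · -- the isotropic vectors orthogonal to `W` are centres
    have hperp : ∀ b, hermForm n F q b b = 0 → (∀ w ∈ W, hermForm n F q b w = 0) →
        Centre M b := fun b hb hbW => (centre_iff hF hb).2 fun c hc =>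
      hM (tv_mem_stab hF hb (Or.inr fun w hw => herm_skew_zero hF (hbW w hw)) c hc)
    by_cases hvW : ∀ w ∈ W, hermForm n F q v w = 0
    · exact hperp v hv hvW
    obtain ⟨v₀, hv₀, hv₀W⟩ : ∃ v₀, Centre M v₀ ∧ ¬∀ w ∈ W, hermForm n F q v₀ w = 0 := by
      by_contra hcon
      push Not at hcon
      refine hg (mem_stab_of hF fun w hw => ?_)
      have himg : ∀ b, hermForm n F q b b = 0 → (∀ w ∈ W, hermForm n F q b w = 0) →
          ∀ w ∈ W, hermForm n F q (act g b) w = 0 := fun b hb hbW =>
        hcon _ (centre_act hF hgM (hperp b hb hbW))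
      have hgW : ∀ u ∈ W, ∀ w ∈ W, hermForm n F q (act g u) w = 0 := fun u hu =>
        himg u (hW u hu u hu) (hW u hu)
      have hsep : ∀ {x}, x ∉ W →
          ∃ y, (∀ w ∈ W, hermForm n F q y w = 0) ∧ hermForm n F q y x = 1 := by
        intro x hx
        obtain ⟨τ, -, hf⟩ := TransvectionUnitaryGen.herm_isUnitaryForm (n := n) hF
        obtain ⟨y, hy, hyx⟩ := TransvectionUnitary.exists_perp_val hf hx 1
        exact ⟨y, hy, hyx⟩
      by_cases hB : ∀ b, hermForm n F q b b = 0 → (∀ w ∈ W, hermForm n F q b w = 0) → b ∈ W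
      · exact hB _ (by rw [herm_act]; exact hW w hw w hw) (hgW w hw)
      push Not at hB
      obtain ⟨e, hee, heW, he⟩ := hB
      obtain ⟨y, hyW, hye⟩ := hsep he
      obtain ⟨μ, hμ⟩ := exists_trace hF (a := -(hermForm n F q y y))
        (by rw [neg_pow_q hF, herm_self_pow hF])
      have hey : hermForm n F q e y = 1 := by rw [herm_conj hF, hye, one_pow]
      have hrW : ∀ w ∈ W, hermForm n F q (y + μ • e) w = 0 := fun w hw => by
        rw [herm_add_left, herm_smul_left, hyW w hw, heW w hw, mul_zero, add_zero]
      set r := y + μ • e with hr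
      have hrr : hermForm n F q r r = 0 := by
        simp only [r, herm_add_left, herm_add_right hF, herm_smul_left, herm_smul_right, hee, hye,
          hey]
        linear_combination hμ
      have her : hermForm n F q e r = 1 := by
        rw [hr, herm_add_right hF, herm_smul_right, hee, hey, mul_zero, add_zero]
      have hre : hermForm n F q r e = 1 := by rw [herm_conj hF, her, one_pow]
      -- every vector orthogonal to `W` is mapped to one
      have hall : ∀ x, (∀ u ∈ W, hermForm n F q x u = 0) →
          ∀ u ∈ W, hermForm n F q (act g x) u = 0 := by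
        intro x hx u hu
        set a := x - hermForm n F q x r • e - hermForm n F q x e • r with ha
        obtain ⟨ν, hν⟩ := exists_trace hF (a := -(hermForm n F q a a))
          (by rw [neg_pow_q hF, herm_self_pow hF])
        have hae : hermForm n F q a e = 0 := by
          simp [ha, herm_sub_left, herm_smul_left, hee, hre]
        have har : hermForm n F q a r = 0 := by
          simp [ha, herm_sub_left, herm_smul_left, hrr, her]
        have haW : ∀ u ∈ W, hermForm n F q (a + ν • e + r) u = 0 := fun u hu => by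
          simp [ha, herm_sub_left, herm_add_left, herm_smul_left, hx u hu, heW u hu, hrW u hu]
        have haa : hermForm n F q (a + ν • e + r) (a + ν • e + r) = 0 := by
          simp only [herm_add_left, herm_add_right hF, herm_smul_left, herm_smul_right, hee, her,
            hre, hrr, hae, har, herm_skew_zero hF hae, herm_skew_zero hF har]
          linear_combination hν
        have h1 := himg _ haa haW u hu
        have h2 := himg e hee heW u hu
        have h3 := himg r hrr hrW u hu
        rw [act_add, act_add, act_smul, herm_add_left, herm_add_left, herm_smul_left, h2, h3,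
          mul_zero, add_zero, add_zero] at h1
        have hxa : x = a + hermForm n F q x r • e + hermForm n F q x e • r := by
          rw [ha]; abel
        rw [hxa, act_add, act_add, act_smul, act_smul, herm_add_left, herm_add_left,
          herm_smul_left, herm_smul_left, h1, h2, h3]
        ring
      let T : (Fin n → F) →ₗ[F] (Fin n → F) :=
        Matrix.mulVecLin ((g : Matrix.SpecialLinearGroup (Fin n) F) : Matrix (Fin n) (Fin n) F)
      by_contra hgw
      obtain ⟨y', hy'W, hy'⟩ := hsep hgw
      let P : Submodule F (Fin n → F) :=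
        { carrier := {x | ∀ u ∈ W, hermForm n F q x u = 0}
          add_mem' := fun {a b} ha hb u hu => by rw [herm_add_left, ha u hu, hb u hu, add_zero]
          zero_mem' := fun u _ => herm_zero_left u
          smul_mem' := fun c x hx u hu => by rw [herm_smul_left, hx u hu, mul_zero] }
      have hTi : Function.Injective T :=
        Matrix.mulVec_injective_iff_isUnit.2 ((isU_of_mem_SU g).isUnit hF)
      have hP : P.map T = P :=
        Submodule.eq_of_le_of_finrank_eq (Submodule.map_le_iff_le_comap.2 hall)
          (Submodule.equivMapOfInjective _ hTi P).finrank_eq.symm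
      have hy2 : y' ∈ P.map T := by rw [hP]; exact hy'W
      obtain ⟨z, hz, hzy⟩ := hy2
      change act g z = y' at hzy
      subst hzy
      rw [herm_act, hz w hw] at hy'
      exact zero_ne_one hy'
    obtain ⟨a, ha, h₁, h₂⟩ : ∃ a ∈ W, hermForm n F q v₀ a ≠ 0 ∧ hermForm n F q v a ≠ 0 := by
      push Not at hvW hv₀W
      obtain ⟨a, ha, ha'⟩ := hvW
      obtain ⟨b, hb, hb'⟩ := hv₀W
      by_cases h : hermForm n F q v₀ a = 0
      · by_cases h' : hermForm n F q v b = 0
        · exact ⟨a + b, W.add_mem ha hb, by rw [herm_add_right hF, h, zero_add]; exact hb',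
            by rw [herm_add_right hF, h', add_zero]; exact ha'⟩
        · exact ⟨b, hb, hb', h'⟩
      · exact ⟨a, ha, h, ha'⟩
    obtain ⟨w, μ, hw, hμ, hmove⟩ := exists_eich_move hF (hW a ha a ha)
      (u := (hermForm n F q v₀ a)⁻¹ • v₀) (v := (hermForm n F q v a)⁻¹ • v)
      (by rw [herm_smul_left, herm_smul_right, hv₀.1, mul_zero, mul_zero])
      (by rw [herm_smul_left, herm_smul_right, hv, mul_zero, mul_zero])
      (by rw [herm_smul_left, inv_mul_cancel₀ h₁]) (by rw [herm_smul_left, inv_mul_cancel₀ h₂])
    have hv' := centre_act hF (hM (eich_mem_stab hF hW ha (hW a ha a ha) hw hμ))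
      (centre_smul hF hv₀ (hermForm n F q v₀ a)⁻¹)
    rw [hmove] at hv'
    have := centre_smul hF hv' (hermForm n F q v a)
    rwa [smul_smul, mul_inv_cancel₀ h₂, one_smul] at this

/-! ### Nondegenerate subspaces -/

theorem exists_perp_norm_one (hF : Fintype.card F = q ^ 2) (hn : 3 ≤ n) (z : Fin n → F) :
    ∃ u, hermForm n F q u u = 1 ∧ hermForm n F q u z = 0 := by
  rcases eq_or_ne (hermForm n F q z z) 0 with hz | hz
  · rcases eq_or_ne z 0 with rfl | hz0
    · exact ⟨Pi.single ⟨0, by omega⟩ 1, by rw [herm_single_right hF]; simp, herm_zero_right hF _⟩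
    obtain ⟨f, hff, hfz, hzf⟩ := exists_hyp hF hz0 hz
    obtain ⟨u, hu, -, huu⟩ := exists_perp2 hF hn hz hff hzf hfz (r := (1 : F)) (one_pow _)
    exact ⟨u, huu, hu⟩
  · obtain ⟨s, hs⟩ := exists_norm_eq hF (a := (hermForm n F q z z)⁻¹)
      (by rw [inv_pow, herm_self_pow hF])
    have hv : OrthoN q (fun _ : Fin 1 => s • z) := fun i j => by
      rw [if_pos (Subsingleton.elim i j), herm_smul_left, herm_smul_right, ← mul_assoc, ← pow_succ',
        hs, inv_mul_cancel₀ hz]
    obtain ⟨u, hu, huv⟩ := exists_extend hF (k := 1) (m := n - 1) (by omega) hv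
    let i : Fin (n - 1) := ⟨0, by omega⟩
    refine ⟨u i, by rw [hu i i, if_pos rfl], ?_⟩
    have hs0 : s ≠ 0 := by
      rintro rfl
      rw [zero_pow (Nat.succ_ne_zero q)] at hs
      exact inv_ne_zero hz hs.symm
    have := huv i 0
    rw [herm_smul_right] at this
    exact (mul_eq_zero.1 this).resolve_left (pow_ne_zero _ hs0)

/-- Transitivity on vectors of a given norm. -/
theorem exists_map (hF : Fintype.card F = q ^ 2) {z z' : Fin n → F}
    (h : hermForm n F q z z = hermForm n F q z' z') (hz : z ≠ 0) (hz' : z' ≠ 0) :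
    ∃ M : Matrix (Fin n) (Fin n) F, IsU q M ∧ M *ᵥ z = z' := by
  by_cases h0 : hermForm n F q z z = 0
  · have hn : 2 ≤ n := by
      by_contra hn
      rcases n with _ | _ | n
      · exact hz (funext fun i => i.elim0)
      · refine hz (funext fun i => ?_)
        rw [Subsingleton.elim (α := Fin 1) i 0]
        simpa [hermForm, q_ne_zero hF] using h0
      · omega
    have aux : ∀ {u : Fin n → F}, u ≠ 0 → hermForm n F q u u = 0 →
        ∃ w : Idx 1 (n - 2) → Fin n → F, IsGram q pairing w ∧ w (.inl (.inl 0)) = u := by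
      intro u hu hu0
      obtain ⟨f, hh⟩ := exists_dual hF (e := fun _ : Fin 1 => u)
        (linearIndependent_unique_iff.2 hu) (fun _ _ => hu0)
      obtain ⟨c, hc⟩ := exists_complement hF (m := n - 2) (by omega) hh
      exact ⟨_, hc, rfl⟩
    obtain ⟨w, hw, hwz⟩ := aux hz h0
    obtain ⟨w', hw', hwz'⟩ := aux hz' (h ▸ h0)
    obtain ⟨M, hM, hMw⟩ := exists_witt hF pairing_invol hw hw' (card_idx (by omega))
    exact ⟨M, hM, by rw [← hwz, hMw, hwz']⟩
  · exact exists_isU_map hF h h0

/-- The same with a prescribed determinant. -/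
theorem exists_map_det (hF : Fintype.card F = q ^ 2) (hn : 3 ≤ n) {z z' : Fin n → F}
    (h : hermForm n F q z z = hermForm n F q z' z') (hz : z ≠ 0) (hz' : z' ≠ 0) {x : F}
    (hx : x ^ (q + 1) = 1) :
    ∃ M : Matrix (Fin n) (Fin n) F, IsU q M ∧ M.det = x ∧ M *ᵥ z = z' := by
  obtain ⟨M, hM, hMz⟩ := exists_map hF h hz hz'
  obtain ⟨u, hu, huz⟩ := exists_perp_norm_one hF hn z'
  have hd := hM.det_pow hF
  have hd0 : M.det ≠ 0 := fun h0 => by simp [h0] at hd
  have hy : (x / M.det) ^ (q + 1) = 1 := by rw [div_pow, hx, hd, div_one]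
  have hU : IsU q (unitaryTransvection n q u (x / M.det - 1)) := by
    refine isU_transvection hF ?_
    rw [hu, sub_pow_q hF, one_pow]
    rw [pow_succ] at hy
    linear_combination hy
  refine ⟨unitaryTransvection n q u (x / M.det - 1) * M, hU.mul hM, ?_, ?_⟩
  · rw [Matrix.det_mul, det_transvection hF, hu, mul_one, add_sub_cancel, div_mul_cancel₀ _ hd0]
  · rw [← Matrix.mulVec_mulVec, hMz, transvection_mulVec, herm_skew_zero hF huz, mul_zero,
      zero_smul, add_zero]

section Core

variable {k m : ℕ}

theorem det_blockMat (A : Matrix (Fin k) (Fin k) F) (B : Matrix (Fin m) (Fin m) F) :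
    (blockMat A B).det = A.det * B.det := by
  rw [blockMat, Matrix.det_submatrix_equiv_self, Matrix.det_fromBlocks_zero₂₁]

theorem append_add (a a' : Fin k → F) (b b' : Fin m → F) :
    Fin.append (a + a') (b + b') = Fin.append a b + Fin.append a' b' := by
  funext i
  induction i using Fin.addCases <;> simp

theorem append_smul (c : F) (a : Fin k → F) (b : Fin m → F) :
    Fin.append (c • a) (c • b) = c • Fin.append a b := by
  funext i
  induction i using Fin.addCases <;> simp

theorem mem_top_iff {x : Fin (k + m) → F} :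
    OrthUnitarySubspaces.IsTop x ↔ x = Fin.append (fun i => x (Fin.castAdd m i)) 0 := by
  constructor
  · intro h
    funext i
    induction i using Fin.addCases with
    | left i => simp
    | right i => simpa using h i
  · intro h
    exact isTop_iff.2 ⟨_, h⟩

/-- Nondegenerate case in coordinates. -/
theorem core_centres (hF : Fintype.card F = q ^ 2) (hk : 1 ≤ k) (hkm : k < m) (hm : 3 ≤ m)
    (M : Subgroup (SU (k + m) F q))
    (hH : ∀ h : SU (k + m) F q, (∀ x, OrthUnitarySubspaces.IsTop x → OrthUnitarySubspaces.IsTop (act h x)) → h ∈ M)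
    (g : SU (k + m) F q) (hg : g ∈ M) (hng : ¬∀ x, OrthUnitarySubspaces.IsTop x → OrthUnitarySubspaces.IsTop (act g x))
    (v : Fin (k + m) → F) (hv : hermForm (k + m) F q v v = 0) : Centre M v := by
  classical
  let ap : (Fin k → F) → (Fin m → F) → Fin (k + m) → F := fun a b => Fin.append a b
  have hn0 : ∀ a b, hermForm (k + m) F q (ap a b) (ap a b)
      = hermForm k F q a a + hermForm m F q b b := fun a b => herm_append a a b b
  -- centres inside the two parts
  have hleft : ∀ a, hermForm k F q a a = 0 → Centre M (ap a 0) := fun a ha => by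
    have h0 : hermForm (k + m) F q (ap a 0) (ap a 0) = 0 := by
      rw [hn0, ha, herm_zero_left, add_zero]
    refine (centre_iff hF h0).2 fun c hc => hH _ fun x hx => ?_
    obtain ⟨a', rfl⟩ := isTop_iff.1 hx
    rw [tv_act]
    intro j
    simp [ap]
  have hright : ∀ b, hermForm m F q b b = 0 → Centre M (ap 0 b) := fun b hb => by
    have h0 : hermForm (k + m) F q (ap 0 b) (ap 0 b) = 0 := by
      rw [hn0, hb, herm_zero_left, add_zero]
    refine (centre_iff hF h0).2 fun c hc => hH _ fun x hx => ?_
    obtain ⟨a', rfl⟩ := isTop_iff.1 hx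
    rw [tv_act, show ap 0 b = Fin.append 0 b from rfl, herm_append, herm_zero_right hF,
      herm_zero_left, add_zero, mul_zero, zero_smul, add_zero]
    exact hx
  -- the stabiliser is transitive on vectors of given type
  have hmove : ∀ {a a' b b'}, hermForm k F q a a = hermForm k F q a' a' →
      hermForm m F q b b = hermForm m F q b' b' → a ≠ 0 → a' ≠ 0 → b ≠ 0 → b' ≠ 0 →
      Centre M (ap a b) → Centre M (ap a' b') := by
    intro a a' b b' ha hb ha0 ha0' hb0 hb0' hC
    obtain ⟨A, hA, hAa⟩ := exists_map hF ha ha0 ha0'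
    have hd := hA.det_pow hF
    have hd0 : A.det ≠ 0 := fun h0 => by simp [h0] at hd
    obtain ⟨B, hB, hBd, hBb⟩ := exists_map_det hF hm hb hb0 hb0' (x := A.det⁻¹)
      (by rw [inv_pow, hd, inv_one])
    let h : SU (k + m) F q := mkSU (blockMat A B)
      (by rw [det_blockMat, hBd, mul_inv_cancel₀ hd0]) (isU_blockMat hA hB)
    have hh : h ∈ M := hH h fun x hx => by
      obtain ⟨a', rfl⟩ := isTop_iff.1 hx
      show OrthUnitarySubspaces.IsTop (blockMat A B *ᵥ Fin.append a' 0)
      rw [blockMat_mulVec, Matrix.mulVec_zero]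
      exact isTop_iff.2 ⟨_, rfl⟩
    have := centre_act hF hh hC
    rwa [show act h (ap a b) = blockMat A B *ᵥ Fin.append a b from rfl, blockMat_mulVec, hAa, hBb]
      at this
  -- a mixed centre
  obtain ⟨a₀, b₀, ha₀, hb₀, hC₀⟩ : ∃ a b, a ≠ 0 ∧ b ≠ 0 ∧ Centre M (ap a b) := by
    by_contra hcon
    push Not at hcon
    have hsplit : ∀ b, hermForm m F q b b = 0 →
        (∃ a', act g (ap 0 b) = ap a' 0) ∨ ∃ b', act g (ap 0 b) = ap 0 b' := by
      intro b hb
      have hC := centre_act hF hg (hright b hb)
      rw [← Fin.append_castAdd_natAdd (f := act g (ap 0 b))] at hC ⊢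
      generalize (fun i => act g (ap 0 b) (Fin.castAdd m i)) = a₁ at hC ⊢
      generalize (fun i => act g (ap 0 b) (Fin.natAdd k i)) = b₁ at hC ⊢
      by_cases h1 : a₁ = 0
      · exact Or.inr ⟨b₁, by rw [h1]⟩
      · exact Or.inl ⟨a₁, by rw [not_not.1 fun h2 => hcon a₁ b₁ h1 h2 hC]⟩
    -- no isotropic vector of the second part crosses
    have hstay : ∀ b, hermForm m F q b b = 0 → ∃ b', act g (ap 0 b) = ap 0 b' := by
      intro b hb
      rcases hsplit b hb with ⟨a', ha'⟩ | h
      swap
      · exact h
      by_cases hb0 : b = 0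
      · subst hb0
        exact ⟨0, by
          rw [show ap (0 : Fin k → F) (0 : Fin m → F) = (0 : F) • ap 0 0 by
            simp only [ap]; rw [← append_smul]; simp, act_smul]
          simp only [ap, zero_smul]⟩
      exfalso
      -- all isotropic vectors then land in the first part
      have hall : ∀ c, hermForm m F q c c = 0 → ∃ a'', act g (ap 0 c) = ap a'' 0 := by
        intro c hc
        rcases hsplit c hc with h | ⟨c', hc'⟩
        · exact h
        have hbc : hermForm m F q c b = 0 := by
          have := herm_act g (ap 0 c) (ap 0 b)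
          rw [hc', ha', show ap 0 c = Fin.append 0 c from rfl, show ap 0 b = Fin.append 0 b from rfl,
            show ap 0 c' = Fin.append 0 c' from rfl, show ap a' 0 = Fin.append a' 0 from rfl,
            herm_append, herm_append, herm_zero_left, herm_zero_left, herm_zero_right hF,
            zero_add, zero_add] at this
          exact this.symm
        have hsum : act g (ap 0 (c + b)) = ap a' c' := by
          simp only [ap] at hc' ha' ⊢
          rw [show (0 : Fin k → F) = 0 + 0 by simp, append_add, act_add, hc', ha', ← append_add,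
            zero_add, add_zero]
        have ha'0 : a' ≠ 0 := by
          rintro rfl
          have h0 : act g (ap 0 b) = act g 0 := by
            rw [ha', ← zero_smul F (0 : Fin (k + m) → F), act_smul, zero_smul]
            funext i
            induction i using Fin.addCases <;> simp [ap]
          have h1 := congrArg (act g⁻¹) h0
          rw [act_inv_act, act_inv_act] at h1
          exact hb0 (funext fun j => by simpa [ap] using congrFun h1 (Fin.natAdd k j))
        have hcb : hermForm m F q (c + b) (c + b) = 0 := by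
          rw [herm_add_left, herm_add_right hF, herm_add_right hF, hc, hb, hbc,
            herm_skew_zero hF hbc]
          simp
        have hC := centre_act hF hg (hright _ hcb)
        rw [hsum] at hC
        have hc'0 : c' = 0 := not_not.1 fun h => hcon a' c' ha'0 h hC
        exact ⟨0, by rw [hc', hc'0]⟩
      -- but the span of isotropic vectors is too big
      obtain ⟨e, he0, hee⟩ := OrthUnitaryTransvection.exists_isotropic (F := F) hF (show 2 ≤ m by omega)
      obtain ⟨r, hrr, hre, her⟩ := exists_hyp hF he0 hee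
      have hev : ∀ c : Fin m → F, OrthUnitarySubspaces.IsTop (act g (ap 0 c)) := by
        intro c
        set d := c - hermForm m F q c r • e - hermForm m F q c e • r with hd
        obtain ⟨ν, hν⟩ := exists_trace hF (a := -(hermForm m F q d d))
          (by rw [neg_pow_q hF, herm_self_pow hF])
        have hde : hermForm m F q d e = 0 := by
          simp [hd, herm_sub_left, herm_smul_left, hee, hre]
        have hdr : hermForm m F q d r = 0 := by
          simp [hd, herm_sub_left, herm_smul_left, hrr, her]
        have hdd : hermForm m F q (d + ν • e + r) (d + ν • e + r) = 0 := by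
          simp only [herm_add_left, herm_add_right hF, herm_smul_left, herm_smul_right, hee, her,
            hre, hrr, hde, hdr, herm_skew_zero hF hde, herm_skew_zero hF hdr]
          linear_combination hν
        obtain ⟨a1, h1⟩ := hall _ hdd
        obtain ⟨a2, h2⟩ := hall e hee
        obtain ⟨a3, h3⟩ := hall r hrr
        have hc : ap (0 : Fin k → F) c = ap 0 (d + ν • e + r)
            + (hermForm m F q c r - ν) • ap 0 e + (hermForm m F q c e - 1) • ap 0 r := by
          simp only [ap]
          rw [← append_smul, ← append_smul, ← append_add, ← append_add, smul_zero, smul_zero,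
            add_zero, add_zero]
          congr 1
          rw [hd]
          module
        intro j
        rw [hc, act_add, act_add, act_smul, act_smul, h1, h2, h3]
        simp [ap]
      let T : (Fin m → F) →ₗ[F] (Fin k → F) :=
        { toFun := fun c i => act g (ap 0 c) (Fin.castAdd m i)
          map_add' := fun c c' => by
            funext i
            simp only [ap]
            rw [show (0 : Fin k → F) = 0 + 0 by simp, append_add, act_add, zero_add]
            rfl
          map_smul' := fun s c => by
            funext i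
            simp only [ap]
            rw [show (0 : Fin k → F) = s • 0 by simp, append_smul, act_smul, smul_zero]
            rfl }
      have hT : Function.Injective T := by
        intro c c' h
        have h' : act g (ap 0 c) = act g (ap 0 c') := by
          funext i
          induction i using Fin.addCases with
          | left i => exact congrFun h i
          | right i => rw [hev c i, hev c' i]
        have h'' := congrArg (act g⁻¹) h'
        rw [act_inv_act, act_inv_act] at h''
        funext i
        simpa [ap] using congrFun h'' (Fin.natAdd k i)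
      have := LinearMap.finrank_le_finrank_of_injective hT
      rw [Module.finrank_fin_fun, Module.finrank_fin_fun] at this
      omega
    -- so the second part is invariant, hence the first
    obtain ⟨e, he0, hee⟩ := OrthUnitaryTransvection.exists_isotropic (F := F) hF (show 2 ≤ m by omega)
    obtain ⟨r, hrr, hre, her⟩ := exists_hyp hF he0 hee
    have hev : ∀ (c : Fin m → F) (i : Fin k), act g (ap 0 c) (Fin.castAdd m i) = 0 := by
      intro c i
      set d := c - hermForm m F q c r • e - hermForm m F q c e • r with hd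
      obtain ⟨ν, hν⟩ := exists_trace hF (a := -(hermForm m F q d d))
        (by rw [neg_pow_q hF, herm_self_pow hF])
      have hde : hermForm m F q d e = 0 := by
        simp [hd, herm_sub_left, herm_smul_left, hee, hre]
      have hdr : hermForm m F q d r = 0 := by
        simp [hd, herm_sub_left, herm_smul_left, hrr, her]
      have hdd : hermForm m F q (d + ν • e + r) (d + ν • e + r) = 0 := by
        simp only [herm_add_left, herm_add_right hF, herm_smul_left, herm_smul_right, hee, her,
          hre, hrr, hde, hdr, herm_skew_zero hF hde, herm_skew_zero hF hdr]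
        linear_combination hν
      obtain ⟨a1, h1⟩ := hstay _ hdd
      obtain ⟨a2, h2⟩ := hstay e hee
      obtain ⟨a3, h3⟩ := hstay r hrr
      have hc : ap (0 : Fin k → F) c = ap 0 (d + ν • e + r)
          + (hermForm m F q c r - ν) • ap 0 e + (hermForm m F q c e - 1) • ap 0 r := by
        simp only [ap]
        rw [← append_smul, ← append_smul, ← append_add, ← append_add, smul_zero, smul_zero,
          add_zero, add_zero]
        congr 1
        rw [hd]
        module
      rw [hc, act_add, act_add, act_smul, act_smul, h1, h2, h3]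
      simp [ap]
    refine hng fun x hx => ?_
    obtain ⟨a, rfl⟩ := isTop_iff.1 hx
    -- the image is orthogonal to the image of the second part, which is all of it
    let T : (Fin m → F) →ₗ[F] (Fin m → F) :=
      { toFun := fun c i => act g (ap 0 c) (Fin.natAdd k i)
        map_add' := fun c c' => by
          funext i
          simp only [ap]
          rw [show (0 : Fin k → F) = 0 + 0 by simp, append_add, act_add, zero_add]
          rfl
        map_smul' := fun s c => by
          funext i
          simp only [ap]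
          rw [show (0 : Fin k → F) = s • 0 by simp, append_smul, act_smul, smul_zero]
          rfl }
    have hTi : Function.Injective T := by
      intro c c' h
      have h' : act g (ap 0 c) = act g (ap 0 c') := by
        funext i
        induction i using Fin.addCases with
        | left i => rw [hev, hev]
        | right i => exact congrFun h i
      have h'' := congrArg (act g⁻¹) h'
      rw [act_inv_act, act_inv_act] at h''
      funext i
      simpa [ap] using congrFun h'' (Fin.natAdd k i)
    intro j
    obtain ⟨c, hc⟩ := (LinearMap.injective_iff_surjective.1 hTi) (Pi.single j 1)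
    have hgc : act g (ap 0 c) = Pi.single (Fin.natAdd k j) 1 := by
      funext i
      induction i using Fin.addCases with
      | left i =>
        rw [hev, Pi.single_apply, if_neg]
        simp [Fin.ext_iff]
        omega
      | right i =>
        have := congrFun hc i
        simp only [T, LinearMap.coe_mk, AddHom.coe_mk] at this
        rw [this, Pi.single_apply, Pi.single_apply]
        simp [Fin.ext_iff]
    have := herm_act g (Fin.append a 0) (ap 0 c)
    rw [hgc, herm_single_right hF, show ap 0 c = Fin.append 0 c from rfl, herm_append,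
      herm_zero_right hF, herm_zero_left, add_zero] at this
    exact this
  have hnorm₀ : hermForm m F q b₀ b₀ = -hermForm k F q a₀ a₀ := by
    have := hC₀.1
    rw [hn0] at this
    linear_combination this
  -- a centre of anisotropic type
  obtain ⟨a₁, b₁, ha₁, hC₁⟩ : ∃ a b, hermForm k F q a a ≠ 0 ∧ Centre M (ap a b) := by
    by_cases h : hermForm k F q a₀ a₀ = 0
    swap
    · exact ⟨a₀, b₀, h, hC₀⟩
    rw [h, neg_zero] at hnorm₀
    obtain ⟨r, hrr, hra, har⟩ := exists_hyp hF ha₀ h
    obtain ⟨r', hrr', hr'b, hbr'⟩ := exists_hyp hF hb₀ hnorm₀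
    obtain ⟨α, hα⟩ : ∃ α : F, α ^ q ≠ α := by
      obtain ⟨x, hx1, hx⟩ := exists_normOne_sq_ne_one hF
      refine ⟨(x : F), fun h => hx ?_⟩
      rw [pow_succ] at hx1
      have : (x : F) ^ q * (x : F) = 1 := by simpa using congrArg Units.val hx1
      rw [h] at this
      exact Units.ext (by simpa [sq] using this)
    have hα0 : α ≠ 0 := fun h0 => hα (by rw [h0, zero_pow_q hF])
    have hr0 : r ≠ 0 := fun h0 => by rw [h0, herm_zero_left] at hra; exact zero_ne_one hra
    have hr0' : α • r' ≠ 0 := smul_ne_zero hα0 fun h0 => by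
      rw [h0, herm_zero_left] at hr'b; exact zero_ne_one hr'b
    have hC' : Centre M (ap r (α • r')) := hmove (h.trans hrr.symm)
      (by rw [hnorm₀, herm_smul_left, herm_smul_right, hrr', mul_zero, mul_zero]) ha₀ hr0 hb₀ hr0'
      hC₀
    obtain ⟨c, hc0, hc⟩ := exists_skew hF
    have hact := centre_act hF ((centre_iff hF hC₀.1).1 hC₀ c hc) hC'
    have hval : act (tv hF (ap a₀ b₀) c hC₀.1 hc) (ap r (α • r'))
        = ap (r + (c * (1 + α)) • a₀) (α • r' + (c * (1 + α)) • b₀) := by
      rw [tv_act]
      simp only [ap]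
      rw [herm_append, hra, herm_smul_left, hr'b, mul_one, append_add, append_smul]
    rw [hval] at hact
    refine ⟨_, _, ?_, hact⟩
    simp only [herm_add_left, herm_add_right hF, herm_smul_left, herm_smul_right, hrr, hra, har, h,
      mul_pow, add_pow_q hF, one_pow]
    intro h0
    apply hα
    have : c * (α - α ^ q) = 0 := by linear_combination h0 - (1 + α ^ q) * hc
    exact (sub_eq_zero.1 ((mul_eq_zero.1 this).resolve_left hc0)).symm
  -- all centres of anisotropic type
  have hnorm₁ : hermForm m F q b₁ b₁ = -hermForm k F q a₁ a₁ := by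
    have := hC₁.1
    rw [hn0] at this
    linear_combination this
  have haniso : ∀ a b, hermForm k F q a a ≠ 0 → hermForm (k + m) F q (ap a b) (ap a b) = 0 →
      Centre M (ap a b) := by
    intro a b ha hab
    rw [hn0] at hab
    obtain ⟨l, hl⟩ := exists_norm_eq hF (a := hermForm k F q a a / hermForm k F q a₁ a₁)
      (by rw [div_pow, herm_self_pow hF, herm_self_pow hF])
    have hl' : l * l ^ q * hermForm k F q a₁ a₁ = hermForm k F q a a := by
      rw [← pow_succ', hl, div_mul_cancel₀ _ ha₁]
    have h1 := centre_smul hF hC₁ l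
    simp only [ap] at h1
    rw [← append_smul] at h1
    have hne : ∀ {i : ℕ} {x : Fin i → F}, hermForm i F q x x ≠ 0 → x ≠ 0 := fun h h0 =>
      h (by rw [h0, herm_zero_left])
    have hA : hermForm k F q (l • a₁) (l • a₁) = hermForm k F q a a := by
      rw [herm_smul_left, herm_smul_right, ← mul_assoc, hl']
    have hB : hermForm m F q (l • b₁) (l • b₁) = hermForm m F q b b := by
      rw [herm_smul_left, herm_smul_right, hnorm₁]
      linear_combination -hl' - hab
    have hb' : hermForm m F q b b ≠ 0 := fun h0 => ha (by linear_combination hab - h0)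
    exact hmove hA hB (hne (hA ▸ ha)) (hne ha) (hne (hB ▸ hb')) (hne hb') h1
  -- the general vector
  rw [← Fin.append_castAdd_natAdd (f := v)] at hv ⊢
  generalize (fun i => v (Fin.castAdd m i)) = a at hv ⊢
  generalize (fun i => v (Fin.natAdd k i)) = b at hv ⊢
  change Centre M (ap a b)
  by_cases ha : hermForm k F q a a = 0
  swap
  · exact haniso a b ha hv
  have hb : hermForm m F q b b = 0 := by
    rw [herm_append, ha, zero_add] at hv; exact hv
  by_cases ha0 : a = 0
  · subst ha0; exact hright b hb
  by_cases hb0 : b = 0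
  · subst hb0; exact hleft a ha
  obtain ⟨r, hrr, hra, har⟩ := exists_hyp hF ha0 ha
  obtain ⟨μ, hμ⟩ := exists_trace hF (a := (1 : F)) (one_pow _)
  obtain ⟨z, hz, hzb⟩ := exists_perp_norm_one hF hm b
  obtain ⟨s, hs⟩ := exists_norm_eq hF (a := (-1 : F)) (by rw [neg_pow_q hF, one_pow])
  set a₂ := r + μ • a with ha₂
  set b₂ := s • z with hb₂
  have haa₂ : hermForm k F q a₂ a₂ = 1 := by
    simp only [ha₂, herm_add_left, herm_add_right hF, herm_smul_left, herm_smul_right, hrr, hra,
      har, ha]
    linear_combination hμ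
  have hbb₂ : hermForm m F q b₂ b₂ = -1 := by
    rw [hb₂, herm_smul_left, herm_smul_right, hz, mul_one, ← pow_succ', hs]
  have haa₂' : hermForm k F q a a₂ = 1 := by
    rw [ha₂, herm_add_right hF, herm_smul_right, har, ha, mul_zero, add_zero]
  have hbb₂' : hermForm m F q b b₂ = 0 := by
    rw [hb₂, herm_smul_right, herm_skew_zero hF hzb, mul_zero]
  have hC₂ : Centre M (ap a₂ b₂) := haniso a₂ b₂ (by rw [haa₂]; exact one_ne_zero)
    (by rw [hn0, haa₂, hbb₂, add_neg_cancel])
  obtain ⟨c, hc0, hc⟩ := exists_skew hF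
  refine centre_of_act hF ((centre_iff hF hC₂.1).1 hC₂ c hc) ?_
  have hval : act (tv hF (ap a₂ b₂) c hC₂.1 hc) (ap a b) = ap (a + c • a₂) (b + c • b₂) := by
    rw [tv_act]
    simp only [ap]
    rw [herm_append, haa₂', hbb₂', add_zero, mul_one, append_add, append_smul]
  rw [hval]
  refine haniso _ _ ?_ ?_
  · simp only [herm_add_left, herm_add_right hF, herm_smul_left, herm_smul_right, ha, haa₂', haa₂,
      herm_conj hF a a₂, one_pow, mul_one, zero_add]
    intro h0
    have : c * c ^ q = 0 := by linear_combination h0 - hc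
    exact hc0 (by simpa [q_ne_zero hF] using this)
  · rw [← hval, herm_act]
    exact hv

end Core

/-- Stabilisers of nondegenerate subspaces. -/
theorem max_nondeg (hF : Fintype.card F = q ^ 2) {k m : ℕ} (hk : 1 ≤ k) (hkm : k < m) (hm : 3 ≤ m)
    {W : Submodule F (Fin (k + m) → F)} (hWk : Module.finrank F W = k)
    (hW : ∀ u ∈ W, (∀ v ∈ W, hermForm (k + m) F q u v = 0) → u = 0) :
    Geo.IsMaximalIn (GU (k + m) F q ⊓ Geo.specialLinear (Fin (k + m)) F)
      (Geo.subspaceStabilizer W ⊓ (GU (k + m) F q ⊓ Geo.specialLinear (Fin (k + m)) F)) := by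
  obtain ⟨u, huW, hu⟩ := exists_onb hF k W hWk hW
  obtain ⟨P, hP, hPa⟩ := exists_isU_frame hF hu
  have hinj := Matrix.mulVec_injective_iff_isUnit.2 (hP.isUnit hF)
  have hPW : ∀ x, OrthUnitarySubspaces.IsTop x ↔ P *ᵥ x ∈ W := by
    intro x
    constructor
    · intro hx
      obtain ⟨a, rfl⟩ := isTop_iff.1 hx
      rw [hPa]
      exact W.sum_mem fun i _ => W.smul_mem _ (huW i)
    · intro hx
      refine isTop_iff.2 ⟨fun i => hermForm _ F q (P *ᵥ x) (u i), hinj ?_⟩
      rw [hPa]
      exact eq_comb hu huW (by rw [hWk, Fintype.card_fin]) hx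
  refine isMaximalIn_of hF (by omega) _ ?_ fun M hM g hgM hg v hv => ?_
  · have h0 : hermForm k F q (Pi.single ⟨0, hk⟩ 1) (Pi.single ⟨0, hk⟩ 1) = 1 := by
      rw [herm_single_right hF]; simp
    obtain ⟨s, hs⟩ := exists_norm_eq hF (a := (-1 : F)) (by rw [neg_pow_q hF, one_pow])
    obtain ⟨z, hz, -⟩ := exists_perp_norm_one hF hm (0 : Fin m → F)
    set e : Fin (k + m) → F := Fin.append (Pi.single ⟨0, hk⟩ 1) (s • z) with he
    have hee : hermForm (k + m) F q (P *ᵥ e) (P *ᵥ e) = 0 := by
      rw [hP, he, herm_append, h0, herm_smul_left, herm_smul_right, hz, mul_one, ← pow_succ', hs,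
        add_neg_cancel]
    obtain ⟨c, hc0, hc⟩ := exists_skew hF
    refine ⟨tv hF (P *ᵥ e) c hee hc, fun h => ?_⟩
    have hw : P *ᵥ Fin.append (Pi.single ⟨0, hk⟩ 1) (0 : Fin m → F) ∈ W :=
      (hPW _).1 (isTop_iff.2 ⟨_, rfl⟩)
    have h1 : act (tv hF (P *ᵥ e) c hee hc) _ ∈ W := (h _).1 hw
    rw [tv_act, hP, he, herm_append, h0, herm_zero_left, add_zero, mul_one,
      W.add_mem_iff_right hw] at h1
    have h2 : P *ᵥ e ∈ W := by simpa [hc0, he] using W.smul_mem c⁻¹ h1
    have hs0 : s ≠ 0 := by
      rintro rfl
      rw [zero_pow (Nat.succ_ne_zero q)] at hs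
      exact neg_ne_zero.2 one_ne_zero hs.symm
    have hz0 : s • z ≠ 0 := smul_ne_zero hs0 fun h3 => by
      rw [h3, herm_zero_left] at hz; exact zero_ne_one hz
    refine hz0 (funext fun j => ?_)
    simpa [he] using (hPW e).2 h2 j
  · let ψ := conjU hF P hP
    have hψ : ∀ h : SU (k + m) F q, ∀ x, act (ψ h) (P *ᵥ x) = P *ᵥ act h x :=
      fun h x => conjU_act hF P hP h x
    have hsurj : ∀ y, ∃ x, P *ᵥ x = y :=
      Matrix.mulVec_surjective_iff_isUnit.2 (hP.isUnit hF)
    obtain ⟨x, rfl⟩ := hsurj v
    obtain ⟨g', rfl⟩ : ∃ g', ψ g' = g := by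
      refine ⟨conjU hF P⁻¹ (isU_inv hF hP) g, su_ext fun y => ?_⟩
      obtain ⟨y, rfl⟩ := hsurj y
      rw [hψ]
      have h1 := conjU_act hF P⁻¹ (isU_inv hF hP) g (P *ᵥ y)
      have hdet := (Matrix.isUnit_iff_isUnit_det P).1 (hP.isUnit hF)
      rw [Matrix.mulVec_mulVec, Matrix.nonsing_inv_mul _ hdet, Matrix.one_mulVec] at h1
      rw [h1, Matrix.mulVec_mulVec, Matrix.mul_nonsing_inv _ hdet, Matrix.one_mulVec]
    have hC := core_centres hF hk hkm hm (M.comap ψ) (fun h hh => hM (mem_stab_of hF fun w hw => by
        obtain ⟨y, rfl⟩ := hsurj w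
        rw [hψ, ← hPW]
        exact hh y ((hPW y).2 hw))) g' hgM (fun hall => hg (mem_stab_of hF fun w hw => by
        obtain ⟨y, rfl⟩ := hsurj w
        rw [hψ, ← hPW]
        exact hall y ((hPW y).2 hw))) x (by rwa [hP] at hv)
    refine (centre_iff hF hv).2 fun c hc => ?_
    have h1 := (centre_iff hF hC.1).1 hC c hc
    rw [Subgroup.mem_comap, conjU_tv] at h1
    exact h1

end Cfsg.Agent.OrthUnitaryMaximal
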