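import Cfsg.Agent.Lib.SpectrumPSU61
import Cfsg.Agent.Lib.HermitianFactor

/-!
The element orders of `PSU(3, q)`, `q` odd: the roots of the characteristic polynomial are permuted
by `r ↦ (r ^ q)⁻¹`, and every cycle type gives one of four exponents.
-/

set_option autoImplicit false
set_option linter.unusedSectionVars false
set_option linter.style.haveILetI false

namespace Cfsg.Agent.SpectrumPSU3

open Matrix Polynomial Cfsg Cfsg.Agent.OrthUnitaryHerm Cfsg.Agent.SpectrumPSU61

variable {F : Type*} [Field F] [Fintype F] {p q : ℕ} [Fact p.Prime] [CharP F p]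

theorem exists_exp (hF : Fintype.card F = q ^ 2) : ∃ f, q = p ^ f := by
  obtain ⟨e, hp, he⟩ := FiniteField.card F p
  obtain ⟨j, -, hj⟩ := (Nat.dvd_prime_pow hp).1
    (show q ∣ p ^ (e : ℕ) by rw [← he, hF]; exact dvd_pow_self q two_ne_zero)
  exact ⟨j, hj⟩

theorem gcd_facts (q : ℕ) (hq : 2 ≤ q) :
    Nat.gcd 3 (q + 1) ∣ q - 2 ∧ Nat.gcd 3 (q + 1) ∣ q + 1 ∧ Nat.gcd 3 (q + 1) ∣ q ^ 2 - 1 ∧
      Nat.gcd 3 (q + 1) ∣ q ^ 2 - q + 1 := by
  set d := Nat.gcd 3 (q + 1)
  have h3 : d ∣ 3 := Nat.gcd_dvd_left 3 (q + 1)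
  have h1 : d ∣ q + 1 := Nat.gcd_dvd_right 3 (q + 1)
  obtain ⟨m, rfl⟩ : ∃ m, q = m + 2 := ⟨q - 2, by omega⟩
  have h2 : d ∣ m := (Nat.dvd_add_left h3).1 (by simpa [add_assoc] using h1)
  refine ⟨by simpa using h2, h1, ?_, ?_⟩
  · rw [show (m + 2) ^ 2 - 1 = (m + 2 + 1) * (m + 1) by
      have : (m + 2) ^ 2 = (m + 2 + 1) * (m + 1) + 1 := by ring
      omega]
    exact h1.mul_right _
  · rw [show (m + 2) ^ 2 - (m + 2) + 1 = m * (m + 3) + 3 by
      have : (m + 2) ^ 2 = m * (m + 3) + 2 + (m + 2) := by ring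
      omega]
    exact dvd_add (h2.mul_right _) h3

theorem mem_range_of_pow_card {K : Type*} [Field K] [Algebra F K] {x : K}
    (h : x ^ Fintype.card F = x) : ∃ a : F, algebraMap F K a = x := by
  classical
  by_contra hno
  push Not at hno
  have hne := FiniteField.X_pow_card_sub_X_ne_zero K (Fintype.one_lt_card (α := F))
  have hroot : ∀ z : K, z ^ Fintype.card F = z →
      z ∈ ((X ^ Fintype.card F - X : K[X]).roots.toFinset) := fun z hz => by
    simp [mem_roots hne, hz]
  have hsub : insert x (Finset.univ.image (algebraMap F K)) ⊆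
      (X ^ Fintype.card F - X : K[X]).roots.toFinset := by
    intro z hz
    rcases Finset.mem_insert.1 hz with rfl | hz
    · exact hroot _ h
    · obtain ⟨a, -, rfl⟩ := Finset.mem_image.1 hz
      exact hroot _ (by rw [← map_pow, FiniteField.pow_card])
  have hc := (Finset.card_le_card hsub).trans ((Multiset.toFinset_card_le _).trans (card_roots' _))
  rw [Finset.card_insert_of_notMem (by
      intro hz
      obtain ⟨a, -, ha⟩ := Finset.mem_image.1 hz
      exact hno a ha),
    Finset.card_image_of_injective _ (algebraMap F K).injective, Finset.card_univ,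
    FiniteField.X_pow_card_sub_X_natDegree_eq K (Fintype.one_lt_card (α := F))] at hc
  omega

theorem frob_injective (p : ℕ) [Fact p.Prime] [CharP F p] (hF : Fintype.card F = q ^ 2) {K : Type*} [Field K] [Algebra F K] :
    Function.Injective fun x : K => x ^ q := by
  haveI : CharP K p := charP_of_injective_algebraMap (algebraMap F K).injective p
  obtain ⟨f, hf⟩ := exists_exp (p := p) hF
  intro x y h
  refine (iterateFrobenius K p f).injective ?_
  rw [iterateFrobenius_def, iterateFrobenius_def, ← hf]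
  exact h

theorem root_inv_pow (p : ℕ) [Fact p.Prime] [CharP F p] (hF : Fintype.card F = q ^ 2) {n : ℕ} {K : Type*} [Field K] [Algebra F K]
    (g : SU n F q) {z : K} (hz : ((mat g).charpoly.map (algebraMap F K)).IsRoot z) :
    z ≠ 0 ∧ ((mat g).charpoly.map (algebraMap F K)).IsRoot (z ^ q)⁻¹ := by
  haveI : CharP K p := charP_of_injective_algebraMap (algebraMap F K).injective p
  obtain ⟨f, hf⟩ := exists_exp (p := p) hF
  set G := (mat g).map (algebraMap F K)
  have hG : G.det ≠ 0 := by
    show ((algebraMap F K).mapMatrix (mat g)).det ≠ 0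
    rw [← RingHom.map_det, show (mat g).det = 1 from (g : SpecialLinearGroup (Fin n) F).2, map_one]
    exact one_ne_zero
  have hroot : ∀ w : K, ((mat g).charpoly.map (algebraMap F K)).IsRoot w ↔
      (scalar (Fin n) w - G).det = 0 := fun w => by
    rw [IsRoot.def, ← charpoly_map, eval_charpoly]
  rw [hroot] at hz ⊢
  have hz0 : z ≠ 0 := by
    intro h
    rw [h, map_zero, zero_sub, det_neg] at hz
    simp [hG] at hz
  refine ⟨hz0, ?_⟩
  let σ := iterateFrobenius K p f
  have hσ : ∀ x : K, σ x = x ^ q := fun x => by simp [σ, iterateFrobenius_def, hf]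
  let A := (adj q (mat g)).map (algebraMap F K)
  have hAG : A * G = 1 := by
    show (algebraMap F K).mapMatrix (adj q (mat g)) * (algebraMap F K).mapMatrix (mat g) = 1
    rw [← map_mul, adj_mat_mul hF, map_one]
  have hA : (σ.mapMatrix (scalar (Fin n) z - G))ᵀ = scalar (Fin n) (z ^ q) - A := by
    rw [map_sub, transpose_sub]
    congr 1
    · ext i j
      by_cases h : i = j
      · subst h; simp [hσ]
      · simp [h, Ne.symm h]
    · ext i j
      simp [G, A, adj_apply, hσ]
  have h1 : (scalar (Fin n) (z ^ q) - A).det = 0 := by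
    rw [← hA, det_transpose, ← RingHom.map_det, hz, map_zero]
  have h2 : ((scalar (Fin n) (z ^ q) - A) * G).det = 0 := by rw [det_mul, h1, zero_mul]
  have h3 : (scalar (Fin n) (z ^ q) - A) * G = (-(z ^ q)) • (scalar (Fin n) (z ^ q)⁻¹ - G) := by
    rw [sub_mul, hAG]
    ext i j
    by_cases h : i = j
    · subst h; simp; field_simp; ring
    · simp [h]
  rw [h3, det_smul, mul_eq_zero] at h2
  exact h2.resolve_left (pow_ne_zero _ (neg_ne_zero.2 (pow_ne_zero _ hz0)))

/-- A scalar power. -/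
theorem pow_eq_one_of_dvd {n : ℕ} (g : SU n F q) {K : Type*} [Field K] [Algebra F K] {m : ℕ}
    {w : K} (hw : w ^ Fintype.card F = w)
    (h : (mat g).charpoly.map (algebraMap F K) ∣ X ^ m - C w) :
    ((g : SU n F q) : PSU n F q) ^ m = 1 := by
  obtain ⟨a, rfl⟩ := mem_range_of_pow_card (F := F) hw
  have h' : (mat g).charpoly ∣ X ^ m - C a := by
    rw [← map_dvd_map' (algebraMap F K)]
    simpa using h
  obtain ⟨c, hc⟩ := h'
  have h2 := congrArg (aeval (mat g)) hc
  rw [map_mul, aeval_self_charpoly, zero_mul, map_sub, map_pow, aeval_X, aeval_C, sub_eq_zero] at h2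
  rw [← QuotientGroup.mk_pow]
  refine central_of_scalar (a := a) ?_
  rw [mat_pow, h2]
  rfl

theorem dvd_of_nodup {K : Type*} [Field K] {M : Multiset K} (hM : M.Nodup) {m : ℕ} (hm : 0 < m)
    {w : K} (h : ∀ a ∈ M, a ^ m = w) :
    (M.map fun a => X - C a).prod ∣ (X ^ m - C w : K[X]) := by
  have hne : (X ^ m - C w : K[X]) ≠ 0 := X_pow_sub_C_ne_zero hm w
  rw [Multiset.prod_X_sub_C_dvd_iff_le_roots hne, Multiset.le_iff_subset hM]
  intro a ha
  simp [mem_roots hne, h a ha]

/-- Every element order. -/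
theorem orderOf_dvd_cases (hF : Fintype.card F = q ^ 2) (hp : p ≠ 2) (x : PSU 3 F q) :
    orderOf x ∣ q + 1 ∨ orderOf x ∣ p * (q + 1) / Nat.gcd 3 (q + 1) ∨
      orderOf x ∣ (q ^ 2 - 1) / Nat.gcd 3 (q + 1) ∨
        orderOf x ∣ (q ^ 2 - q + 1) / Nat.gcd 3 (q + 1) := by
  classical
  have hp3 : 3 ≤ p := by have := (Fact.out : p.Prime).two_le; omega
  obtain ⟨g, rfl⟩ := QuotientGroup.mk_surjective x
  have hq := two_le_q hF
  have hq2 : q ≤ q ^ 2 := Nat.le_self_pow two_ne_zero q
  obtain ⟨hd2, hd1, hdm, hds⟩ := gcd_facts q hq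
  set d := Nat.gcd 3 (q + 1) with hd
  have hd0 : 0 < d := Nat.gcd_pos_of_pos_left _ (by norm_num)
  let K := AlgebraicClosure F
  set fK := (mat g).charpoly.map (algebraMap F K) with hfK
  have hmon : fK.Monic := (charpoly_monic _).map _
  set M := fK.roots with hM
  have hprod : fK = (M.map fun a => X - C a).prod :=
    (IsAlgClosed.splits fK).eq_prod_roots_of_monic hmon
  have hcard : M.card = 3 := by
    rw [hM, IsAlgClosed.card_roots_eq_natDegree, hfK, natDegree_map, charpoly_natDegree_eq_dim]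
    rfl
  have hM1 : M.prod = 1 := by
    rw [hM, hfK, ← charpoly_map, ← det_eq_prod_roots_charpoly]
    show ((algebraMap F K).mapMatrix (mat g)).det = 1
    rw [← RingHom.map_det, show (mat g).det = 1 from (g : SpecialLinearGroup (Fin 3) F).2, map_one]
  let U : K → K := fun z => (z ^ q)⁻¹
  have hU : ∀ a ∈ M, a ≠ 0 ∧ U a ∈ M := fun a ha => by
    rw [hM, mem_roots hmon.ne_zero] at ha
    rw [hM, mem_roots hmon.ne_zero]
    exact root_inv_pow p hF g ha
  have hUinj : Function.Injective U := fun a b h => frob_injective p hF (inv_injective h)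
  have hfin : ∀ (m : ℕ) (w : K), w ^ (q + 1) = 1 → fK ∣ X ^ m - C w →
      orderOf ((g : SU 3 F q) : PSU 3 F q) ∣ m := by
    intro m w hw h
    refine orderOf_dvd_of_pow_eq_one (pow_eq_one_of_dvd g ?_ h)
    rw [hF]
    obtain ⟨l, hl⟩ : ∃ l, q ^ 2 = (q + 1) * l + 1 := ⟨q - 1, by
      obtain ⟨k, rfl⟩ : ∃ k, q = k + 1 := ⟨q - 1, by omega⟩
      simp only [Nat.add_sub_cancel]; ring⟩
    rw [hl, pow_succ, pow_mul, hw, one_pow, one_mul]
  by_cases hall : ∀ a ∈ M, U a = a
  · have hn1 : ∀ a ∈ M, a ^ (q + 1) = 1 := fun a ha => by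
      have h := hall a ha
      simp only [U] at h
      rw [pow_succ]
      conv_lhs => arg 2; rw [← h]
      exact mul_inv_cancel₀ (pow_ne_zero _ (hU a ha).1)
    by_cases hnd : M.Nodup
    · left
      refine hfin _ 1 (one_pow _) ?_
      rw [hprod]
      exact dvd_of_nodup hnd (by omega) hn1
    · right; left
      obtain ⟨a, ha⟩ : ∃ a, 2 ≤ M.count a := by
        by_contra hno
        push Not at hno
        exact hnd (Multiset.nodup_iff_count_le_one.2 fun a => by have := hno a; omega)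
      obtain ⟨M', hM'⟩ := Multiset.exists_cons_of_mem
        (Multiset.count_pos.1 (by omega : 0 < M.count a))
      obtain ⟨M'', hM''⟩ := Multiset.exists_cons_of_mem (show a ∈ M' from
        Multiset.count_pos.1 (by rw [hM', Multiset.count_cons_self] at ha; omega))
      obtain ⟨c, hc⟩ := Multiset.card_eq_one.1 (show M''.card = 1 by
        rw [hM', hM'', Multiset.card_cons, Multiset.card_cons] at hcard; omega)
      have hMeq : M = a ::ₘ a ::ₘ {c} := by rw [hM', hM'', hc]
      have haM : a ∈ M := by rw [hMeq]; simp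
      have hcM : c ∈ M := by rw [hMeq]; simp
      rw [hMeq, Multiset.prod_cons, Multiset.prod_cons, Multiset.prod_singleton] at hM1
      have ha0 := (hU a haM).1
      obtain ⟨k, hk⟩ := hd1
      have hk0 : 0 < k := by rcases Nat.eq_zero_or_pos k with rfl | h <;> omega
      have hkd : (q + 1) / d = k := by rw [hk, Nat.mul_div_cancel_left _ hd0]
      obtain ⟨e, he⟩ : d ∣ 3 := Nat.gcd_dvd_left 3 (q + 1)
      have ha3 : a ^ (3 * k) = 1 := by
        rw [show 3 * k = (q + 1) * e by rw [hk, he]; ring, pow_mul, hn1 a haM, one_pow]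
      have hck : c ^ k = a ^ k := by
        have h := congrArg (· ^ k) hM1
        simp only [mul_pow, one_pow] at h
        have ha3' : a ^ k * (a ^ k * a ^ k) = 1 := by rw [← ha3, show 3 * k = k + (k + k) by omega, pow_add, pow_add]
        exact mul_left_cancel₀ (pow_ne_zero k ha0) (mul_left_cancel₀ (pow_ne_zero k ha0) (h.trans ha3'.symm))
      rw [Nat.mul_div_assoc p (Nat.gcd_dvd_right 3 (q + 1)), hkd]
      haveI : CharP K p := charP_of_injective_algebraMap (algebraMap F K).injective p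
      haveI : CharP K[X] p := inferInstance
      refine hfin _ (a ^ (p * k)) ?_ ?_
      · rw [← pow_mul, mul_comm, pow_mul, hn1 a haM, one_pow]
      have hpw : (X ^ (p * k) - C (a ^ (p * k)) : K[X]) = (X ^ k - C (a ^ k)) ^ p := by
        rw [sub_pow_char, ← pow_mul, ← map_pow, ← pow_mul, mul_comm p k]
      rw [hprod, hMeq, hpw]
      simp only [Multiset.map_cons, Multiset.map_singleton, Multiset.prod_cons, Multiset.prod_singleton]
      by_cases hac : a = c
      · subst hac
        have h1 : (X - C a : K[X]) ∣ X ^ k - C (a ^ k) := by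
          rw [dvd_iff_isRoot]; simp
        exact dvd_trans (dvd_of_eq (by ring)) ((pow_dvd_pow_of_dvd h1 3).trans (pow_dvd_pow _ hp3))
      · have h1 : (X - C a) * (X - C c) ∣ (X ^ k - C (a ^ k) : K[X]) := by
          have := dvd_of_nodup (M := a ::ₘ {c}) (by simp [hac]) hk0 (w := a ^ k)
            (by simp [hck])
          simpa using this
        refine dvd_trans ?_ ((pow_dvd_pow_of_dvd h1 2).trans (pow_dvd_pow _ (by omega : 2 ≤ p)))
        exact ⟨X - C c, by ring⟩
  · push Not at hall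
    obtain ⟨r, hrM, hrne⟩ := hall
    obtain ⟨M', hM'⟩ := Multiset.exists_cons_of_mem hrM
    set s := U r with hs
    have hsM' : s ∈ M' := by
      have h := (hU r hrM).2
      rw [hM', Multiset.mem_cons] at h
      exact h.resolve_left hrne
    obtain ⟨M'', hM''⟩ := Multiset.exists_cons_of_mem hsM'
    obtain ⟨u, hu⟩ := Multiset.card_eq_one.1 (show M''.card = 1 by
      rw [hM', hM'', Multiset.card_cons, Multiset.card_cons] at hcard; omega)
    have hMeq : M = r ::ₘ s ::ₘ {u} := by rw [hM', hM'', hu]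
    have hmem : ∀ z, z ∈ M ↔ z = r ∨ z = s ∨ z = u := fun z => by simp [hMeq]
    have hsM : s ∈ M := (hmem s).2 (Or.inr (Or.inl rfl))
    have huM : u ∈ M := (hmem u).2 (Or.inr (Or.inr rfl))
    rw [hMeq, Multiset.prod_cons, Multiset.prod_cons, Multiset.prod_singleton] at hM1
    have hr0 := (hU r hrM).1
    have hs' : s * r ^ q = 1 := inv_mul_cancel₀ (pow_ne_zero _ hr0)
    have hUs : U s ≠ s := fun h => hrne (hUinj h)
    by_cases hcyc : U s = r
    · right; right; left
      have hs2 : r * s ^ q = 1 := by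
        rw [← hcyc]; exact inv_mul_cancel₀ (pow_ne_zero _ (hU s hsM).1)
      have hr2 : r ^ (q ^ 2) = r := by
        have h := congrArg (· ^ q) hs'
        simp only [mul_pow, one_pow, ← pow_mul, ← sq] at h
        calc r ^ (q ^ 2) = (r * s ^ q) * r ^ (q ^ 2) := by rw [hs2, one_mul]
          _ = r * (s ^ q * r ^ (q ^ 2)) := by ring
          _ = r := by rw [h, mul_one]
      have hu' : u * r = r ^ q := by
        calc u * r = (r * (s * u)) * r ^ q * 1 := by
              rw [mul_one, show r * (s * u) * r ^ q = (r * u) * (s * r ^ q) by ring, hs']; ring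
          _ = r ^ q := by rw [hM1]; ring
      have hur : ∀ {a b : K}, a ≠ 0 → b * a ^ q = 1 → a ^ (q ^ 2) = a → u * a = a ^ q → u = a → b = a := by
        intro a b ha0 hb ha2 hua e
        rw [e] at hua
        have h3 : a * a ^ 3 = a * 1 := by
          calc a * a ^ 3 = (a * a) ^ 2 := by ring
            _ = (a ^ q) ^ 2 := by rw [hua]
            _ = (a * a) ^ q := by rw [← pow_mul, mul_comm q 2, pow_mul, sq]
            _ = (a ^ q) ^ q := by rw [hua]
            _ = a * 1 := by rw [← pow_mul, ← sq, ha2, mul_one]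
        have h3' := mul_left_cancel₀ ha0 h3
        rw [← hua] at hb
        calc b = b * a ^ 3 := by rw [h3', mul_one]
          _ = (b * (a * a)) * a := by ring
          _ = a := by rw [hb, one_mul]
      have hs0 := (hU s hsM).1
      have hs2' : s ^ (q ^ 2) = s := by
        have h := congrArg (· ^ q) hs2
        simp only [mul_pow, one_pow, ← pow_mul, ← sq] at h
        exact mul_left_cancel₀ (pow_ne_zero q hr0) (h.trans ((mul_comm _ _).trans hs').symm)
      have hu'' : u * s = s ^ q := by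
        calc u * s = (r * (s * u)) * s ^ q * 1 := by
              rw [mul_one, show r * (s * u) * s ^ q = (s * u) * (r * s ^ q) by ring, hs2]; ring
          _ = s ^ q := by rw [hM1]; ring
      have hnd : M.Nodup := by
        rw [hMeq]
        have e1 : r ≠ u := fun e => hrne (hur hr0 hs' hr2 hu' e.symm)
        have e2 : s ≠ u := fun e => hrne (hur hs0 hs2 hs2' hu'' e.symm).symm
        simp [Ne.symm hrne, e1, e2]
      obtain ⟨k, hk⟩ := hdm
      obtain ⟨e, he⟩ := hd2
      obtain ⟨e1, he1⟩ := hd1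
      have hkd : (q ^ 2 - 1) / d = k := by rw [hk, Nat.mul_div_cancel_left _ hd0]
      rw [hkd]
      have hq4 : 4 ≤ q ^ 2 := Nat.pow_le_pow_left hq 2
      have hk0 : 0 < k := by rcases Nat.eq_zero_or_pos k with rfl | h <;> omega
      have hwd : (r ^ k) ^ d = 1 := by
        rw [← pow_mul, mul_comm, ← hk]
        apply mul_left_cancel₀ hr0
        rw [← pow_succ', show q ^ 2 - 1 + 1 = q ^ 2 by omega, hr2, mul_one]
      have hw1 : (r ^ k) ^ (q + 1) = 1 := by rw [he1, pow_mul, hwd, one_pow]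
      refine hfin _ _ hw1 ?_
      rw [hprod]
      refine dvd_of_nodup hnd hk0 fun z hz => ?_
      rw [pow_succ] at hw1
      rcases (hmem z).1 hz with rfl | rfl | rfl
      · rfl
      · have h := congrArg (· ^ k) hs'
        simp only [mul_pow, one_pow] at h
        rw [← pow_mul, mul_comm q k, pow_mul] at h
        calc s ^ k = s ^ k * ((r ^ k) ^ q * r ^ k) := by rw [hw1, mul_one]
          _ = (s ^ k * (r ^ k) ^ q) * r ^ k := by ring
          _ = r ^ k := by rw [h, one_mul]
      · have h := congrArg (· ^ k) hu'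
        simp only [mul_pow] at h
        rw [← pow_mul, mul_comm q k, pow_mul, show q = d * e + 2 by omega, pow_add, pow_mul, hwd,
          one_pow, one_mul, sq] at h
        exact mul_right_cancel₀ (pow_ne_zero k hr0) h
    · right; right; right
      have hUsu : U s = u :=
        (((hmem _).1 (hU s hsM).2).resolve_left hcyc).resolve_left hUs
      have hus : u ≠ s := fun e => hUs (hUsu.trans e)
      have hUu : U u = r := by
        rcases (hmem _).1 (hU u huM).2 with h | h | h
        · exact h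
        · exact absurd ((hUsu.trans (hUinj (h.trans hs)))) hcyc
        · exact absurd (hUinj (h.trans hUsu.symm)) hus
      have hur : u ≠ r := fun e => hcyc (hUsu.trans e)
      have hnd : M.Nodup := by
        rw [hMeq]
        simp [Ne.symm hrne, Ne.symm hur, Ne.symm hus]
      have hu' : u * s ^ q = 1 := by
        rw [← hUsu]; exact inv_mul_cancel₀ (pow_ne_zero _ (hU s hsM).1)
      have hu2 : u = r ^ (q ^ 2) := by
        have h := congrArg (· ^ q) hs'
        simp only [mul_pow, one_pow, ← pow_mul, ← sq] at h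
        calc u = u * (s ^ q * r ^ (q ^ 2)) := by rw [h, mul_one]
          _ = r ^ (q ^ 2) := by rw [← mul_assoc, hu', one_mul]
      have hN : r ^ (q ^ 2 - q + 1) = 1 := by
        calc r ^ (q ^ 2 - q + 1) = (r * (s * u)) * 1 := by
              rw [hu2, ← pow_one r, ← pow_mul, ← pow_mul]
              calc r ^ (1 * (q ^ 2 - q + 1)) = (s * r ^ q) * r ^ (q ^ 2 - q + 1) := by rw [hs', one_mul, one_mul]
                _ = s * r ^ (q + (q ^ 2 - q + 1)) := by rw [pow_add]; ring
                _ = _ := by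
                  rw [show q + (q ^ 2 - q + 1) = 1 + q ^ 2 by omega, pow_add]; ring
          _ = 1 := by rw [hM1, one_mul]
      obtain ⟨k, hk⟩ := hds
      obtain ⟨e1, he1⟩ := hd1
      have hkd : (q ^ 2 - q + 1) / d = k := by rw [hk, Nat.mul_div_cancel_left _ hd0]
      rw [hkd]
      have hk0 : 0 < k := by rcases Nat.eq_zero_or_pos k with rfl | h <;> omega
      have hwd : (r ^ k) ^ d = 1 := by rw [← pow_mul, mul_comm, ← hk, hN]
      have hw1 : (r ^ k) ^ q * r ^ k = 1 := by rw [← pow_succ, he1, pow_mul, hwd, one_pow]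
      refine hfin _ _ (by rw [pow_succ]; exact hw1) ?_
      rw [hprod]
      refine dvd_of_nodup hnd hk0 ?_
      have hsk : s ^ k = r ^ k := by
        have h := congrArg (· ^ k) hs'
        simp only [mul_pow, one_pow] at h
        rw [← pow_mul, mul_comm q k, pow_mul] at h
        exact mul_left_cancel₀ (pow_ne_zero q (pow_ne_zero k hr0))
          (((mul_comm _ _).trans h).trans hw1.symm)
      intro z hz
      rcases (hmem z).1 hz with rfl | rfl | rfl
      · rfl
      · exact hsk
      · have h := congrArg (· ^ k) hu'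
        simp only [mul_pow, one_pow] at h
        rw [← pow_mul, mul_comm q k, pow_mul, hsk] at h
        exact mul_left_cancel₀ (pow_ne_zero q (pow_ne_zero k hr0))
          (((mul_comm _ _).trans h).trans hw1.symm)

theorem conj_pow {M : Type*} [Monoid M] {P Q : M} (h : Q * P = 1) (h' : P * Q = 1) (D : M) (m : ℕ) :
    (P * D * Q) ^ m = P * D ^ m * Q := by
  induction m with
  | zero => simp [h']
  | succ m ih =>
    rw [pow_succ, ih, pow_succ, show P * D ^ m * Q * (P * D * Q) = P * (D ^ m * ((Q * P) * (D * Q))) by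
      simp [mul_assoc], h, one_mul]
    simp [mul_assoc]

/-- An element given in a basis with Gram matrix `J`. -/
theorem exists_order (hF : Fintype.card F = q ^ 2) {n : ℕ} (hn : 2 ≤ n)
    {P D J : Matrix (Fin n) (Fin n) F} (hP : IsUnit P.det) (hJ : adj q P * P = J)
    (hD : adj q D * J * D = J) (hdet : D.det = 1) {N : ℕ}
    (hN : ∀ m (w : F), D ^ m = Matrix.scalar (Fin n) w → N ∣ m) {s : ℕ} (hs : s ∣ N) :
    s ∈ Set.range (orderOf : PSU n F q → ℕ) := by
  classical
  have hQP := nonsing_inv_mul P hP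
  have hPQ := mul_nonsing_inv P hP
  have hU : IsU q (P * D * P⁻¹) := by
    rw [isU_iff hF, adj_mul hF, adj_mul hF]
    calc adj q P⁻¹ * (adj q D * adj q P) * (P * D * P⁻¹)
        = adj q P⁻¹ * (adj q D * (adj q P * P) * D) * P⁻¹ := by simp [Matrix.mul_assoc]
      _ = (adj q P⁻¹ * adj q P) * (P * P⁻¹) := by rw [hJ, hD, ← hJ]; simp [Matrix.mul_assoc]
      _ = 1 := by rw [← adj_mul hF, hPQ, adj_one hF, Matrix.mul_one]
  have hd : (P * D * P⁻¹).det = 1 := by
    rw [det_mul, det_mul, hdet, mul_one, ← det_mul, hPQ, det_one]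
  haveI : Finite (PSU n F q) := inferInstance
  set g : SU n F q := mkSU _ hd hU
  set m := orderOf ((g : SU n F q) : PSU n F q) with hm
  have hNm : N ∣ m := by
    have h : (((g ^ m) : SU n F q) : PSU n F q) = 1 := by
      rw [QuotientGroup.mk_pow, hm, pow_orderOf_eq_one]
    obtain ⟨w, hw⟩ := scalar_of_central hF hn h
    refine hN m w ?_
    rw [mat_pow] at hw
    change (P * D * P⁻¹) ^ m = _ at hw
    rw [conj_pow hQP hPQ] at hw
    calc D ^ m = P⁻¹ * (P * D ^ m * P⁻¹) * P := by
          simp only [← Matrix.mul_assoc, hQP, Matrix.one_mul]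
          rw [Matrix.mul_assoc, hQP, Matrix.mul_one]
      _ = P⁻¹ * Matrix.scalar (Fin n) w * P := by rw [hw]
      _ = Matrix.scalar (Fin n) w := by
          rw [← (Matrix.scalar_commute w (fun r => Commute.all w r) P⁻¹).eq, Matrix.mul_assoc, hQP,
            Matrix.mul_one]
  exact ⟨_, orderOf_pow_orderOf_div (orderOf_pos _).ne' (hs.trans hNm)⟩

theorem scalar_apply_eq {n : ℕ} {D : Matrix (Fin n) (Fin n) F} {w : F}
    (h : D = Matrix.scalar (Fin n) w) (i j : Fin n) : D i j = if i = j then w else 0 := by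
  rw [h]; simp [Matrix.diagonal_apply]

theorem exists_unit_order (hF : Fintype.card F = q ^ 2) :
    ∃ x : F, x ≠ 0 ∧ ∀ m : ℕ, x ^ m = 1 ↔ q ^ 2 - 1 ∣ m := by
  obtain ⟨u, hu⟩ := IsCyclic.exists_ofOrder_eq_natCard (α := Fˣ)
  rw [Nat.card_units, Nat.card_eq_fintype_card, hF] at hu
  refine ⟨u, u.ne_zero, fun m => ?_⟩
  rw [← Units.val_pow_eq_pow_val, Units.val_eq_one, ← orderOf_dvd_iff_pow_eq_one, hu]

theorem exists_norm_one (hF : Fintype.card F = q ^ 2) :
    ∃ x : F, x ≠ 0 ∧ ∀ m : ℕ, x ^ m = 1 ↔ q + 1 ∣ m := by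
  obtain ⟨x, hx0, hx⟩ := exists_unit_order hF
  have hq := two_le_q hF
  refine ⟨x ^ (q - 1), pow_ne_zero _ hx0, fun m => ?_⟩
  rw [← pow_mul, hx, show q ^ 2 - 1 = (q - 1) * (q + 1) by
    rw [mul_comm, ← Nat.sq_sub_sq, one_pow]]
  exact Nat.mul_dvd_mul_iff_left (by omega)

theorem mem_qAddOne (hF : Fintype.card F = q ^ 2) {s : ℕ} (hs : s ∣ q + 1) :
    s ∈ Set.range (orderOf : PSU 3 F q → ℕ) := by
  obtain ⟨x, hx0, hx⟩ := exists_norm_one hF
  have hx1 : x ^ q * x = 1 := by rw [← pow_succ]; exact (hx _).2 dvd_rfl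
  have hzero : (0 : F) ^ q = 0 := zero_pow_q hF
  refine exists_order hF (by norm_num) (P := 1) (D := Matrix.diagonal ![x, x⁻¹, 1]) (J := 1)
    (by simp) (by rw [adj_one hF, Matrix.one_mul]) ?_ ?_ ?_ hs
  · have hadj : adj q (Matrix.diagonal ![x, x⁻¹, 1]) = Matrix.diagonal ![x ^ q, (x ^ q)⁻¹, 1] := by
      ext i j
      fin_cases i <;> fin_cases j <;> simp [adj_apply, Matrix.diagonal, hzero, inv_pow]
    rw [hadj, Matrix.mul_one, Matrix.diagonal_mul_diagonal, ← Matrix.diagonal_one]
    congr 1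
    ext i
    fin_cases i <;> simp
    · exact hx1
    · rw [← mul_inv, hx1, inv_one]
  · simp [Matrix.det_diagonal, Fin.prod_univ_three, hx0]
  · intro m w h
    rw [Matrix.diagonal_pow] at h
    have h2 := scalar_apply_eq h 2 2
    have h0 := scalar_apply_eq h 0 0
    simp at h2 h0
    exact (hx m).1 (h0.trans h2.symm)

/-- Basis `e, f` hyperbolic and `u` orthogonal of norm one. -/
theorem exists_hyperbolic (hF : Fintype.card F = q ^ 2) (hp : p ≠ 2) :
    ∃ P : Matrix (Fin 3) (Fin 3) F, IsUnit P.det ∧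
      adj q P * P = !![0, 1, 0; 1, 0, 0; 0, 0, 1] := by
  obtain ⟨f, hf⟩ := exists_exp (p := p) hF
  have h2 : (2 : F) ≠ 0 := Ring.two_ne_zero (by rwa [ringChar.eq F p])
  have hzero : (0 : F) ^ q = 0 := zero_pow_q hF
  have hhalf : ((2 : F)⁻¹) ^ q = 2⁻¹ := by
    rw [inv_pow, ← one_add_one_eq_two, add_pow_q hF, one_pow]
  obtain ⟨t, ht⟩ := exists_norm_eq hF (a := (-1 : F)) (by rw [neg_pow_q hF, one_pow])
  have ht' : t ^ q * t = -1 := by rw [← pow_succ]; exact ht
  refine ⟨!![1, 2⁻¹, 0; t, -t * 2⁻¹, 0; 0, 0, 1], ?_, ?_⟩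
  · rw [Matrix.det_fin_three, isUnit_iff_ne_zero]
    have ht0 : t ≠ 0 := fun h => by simp [h] at ht'
    simp
    intro h
    apply ht0
    have : t * (2 * 2⁻¹ : F) = 0 := by linear_combination -h
    rwa [mul_inv_cancel₀ h2, mul_one] at this
  · ext i j
    fin_cases i <;> fin_cases j <;>
      simp [Matrix.mul_apply, Fin.sum_univ_three, adj_apply, hzero, mul_pow, neg_pow_q hF, hhalf] <;>
      field_simp <;> first | linear_combination ht' | linear_combination (-2 : F) * ht' | linear_combination (-1 : F) * ht'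

theorem mem_pqAddOne (hF : Fintype.card F = q ^ 2) (hp : p ≠ 2) {s : ℕ}
    (hs : s ∣ p * (q + 1) / Nat.gcd 3 (q + 1)) : s ∈ Set.range (orderOf : PSU 3 F q → ℕ) := by
  have hq := two_le_q hF
  have hzero : (0 : F) ^ q = 0 := zero_pow_q hF
  obtain ⟨x, hx0, hx⟩ := exists_norm_one hF
  obtain ⟨c, hc0, hc⟩ := exists_skew hF
  obtain ⟨P, hP, hPP⟩ := exists_hyperbolic (p := p) hF hp
  have hx1 : x ^ q * x = 1 := by rw [← pow_succ]; exact (hx _).2 dvd_rfl
  refine exists_order hF (by norm_num) hP hPP (D := !![x, x * c, 0; 0, x, 0; 0, 0, (x ^ 2)⁻¹]) ?_ ?_ ?_ hs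
  · have hx2 : ((x ^ 2)⁻¹) ^ q = ((x ^ q) ^ 2)⁻¹ := by rw [inv_pow, ← pow_mul, mul_comm, pow_mul]
    ext i j
    fin_cases i <;> fin_cases j <;>
      simp [Matrix.mul_apply, Fin.sum_univ_three, adj_apply, hzero, mul_pow, hx2]
    · exact hx1
    · exact hx1
    · linear_combination (c + c ^ q) * hx1 + hc
    · rw [← mul_inv, ← mul_pow, hx1, one_pow, inv_one]
  · rw [Matrix.det_fin_three]; simp; field_simp
  · intro m w h
    have hpow : (!![x, x * c, 0; 0, x, 0; 0, 0, (x ^ 2)⁻¹] : Matrix (Fin 3) (Fin 3) F) ^ m =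
        !![x ^ m, (m : F) * (x ^ m * c), 0; 0, x ^ m, 0; 0, 0, ((x ^ m) ^ 2)⁻¹] := by
      clear h
      induction m with
      | zero => ext i j; fin_cases i <;> fin_cases j <;> simp
      | succ m ih =>
        rw [pow_succ, ih]
        ext i j
        fin_cases i <;> fin_cases j <;> simp [Matrix.mul_apply, Fin.sum_univ_three] <;> ring
    rw [hpow] at h
    have h00 := scalar_apply_eq h 0 0
    have h01 := scalar_apply_eq h 0 1
    have h22 := scalar_apply_eq h 2 2
    simp [hc0, hx0] at h00 h01 h22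
    have hpm : p ∣ m := (CharP.cast_eq_zero_iff F p m).1 h01
    have h3 : (q + 1) / Nat.gcd 3 (q + 1) ∣ m := by
      have h3m : q + 1 ∣ 3 * m := by
        rw [← hx]
        rw [← h22] at h00
        have hy : x ^ m ≠ 0 := pow_ne_zero _ hx0
        field_simp at h00
        rw [show 3 * m = m * 3 by ring, pow_mul]
        linear_combination h00
      rw [Nat.div_dvd_iff_dvd_mul (Nat.gcd_dvd_right _ _) (Nat.gcd_pos_of_pos_left _ (by norm_num)),
        ← Nat.gcd_mul_right]
      exact Nat.dvd_gcd h3m (dvd_mul_right _ _)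
    rw [Nat.mul_div_assoc p (Nat.gcd_dvd_right 3 (q + 1))]
    refine Nat.Coprime.mul_dvd_of_dvd_of_dvd ?_ hpm h3
    refine Nat.Coprime.coprime_dvd_right (Nat.div_dvd_of_dvd (Nat.gcd_dvd_right _ _)) ?_
    rw [(Fact.out : p.Prime).coprime_iff_not_dvd]
    obtain ⟨f, hf⟩ := exists_exp (p := p) hF
    have hf0 : f ≠ 0 := fun h => by rw [h, pow_zero] at hf; omega
    rw [Nat.dvd_add_right (hf ▸ dvd_pow_self p hf0)]
    exact (Fact.out : p.Prime).not_dvd_one

theorem mem_sqSubOne (hF : Fintype.card F = q ^ 2) (hp : p ≠ 2) {s : ℕ}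
    (hs : s ∣ (q ^ 2 - 1) / Nat.gcd 3 (q + 1)) : s ∈ Set.range (orderOf : PSU 3 F q → ℕ) := by
  have hq := two_le_q hF
  have hzero : (0 : F) ^ q = 0 := zero_pow_q hF
  obtain ⟨b, hb0, hb⟩ := exists_unit_order hF
  obtain ⟨P, hP, hPP⟩ := exists_hyperbolic (p := p) hF hp
  refine exists_order hF (by norm_num) hP hPP
    (D := Matrix.diagonal ![b, (b ^ q)⁻¹, b ^ (q - 1)]) ?_ ?_ ?_ hs
  · have hbq : (((b ^ q)⁻¹) : F) ^ q = b⁻¹ := by rw [inv_pow, pow_q_q hF]
    have hb1 : (b ^ (q - 1)) ^ q * b ^ (q - 1) = 1 := by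
      rw [← pow_succ, ← pow_mul, hb, mul_comm, ← Nat.sq_sub_sq, one_pow]
    ext i j
    fin_cases i <;> fin_cases j <;>
      simp [Matrix.mul_apply, adj_apply, hzero, hbq, hb0, Matrix.diagonal]
    exact hb1
  · rw [Matrix.det_diagonal, Fin.prod_univ_three]
    simp
    have h : b ^ (q - 1) * b = b ^ q := by rw [← pow_succ, Nat.sub_add_cancel (by omega)]
    field_simp
    linear_combination h
  · intro m w h
    rw [Matrix.diagonal_pow] at h
    have h0 := scalar_apply_eq h 0 0
    have h1 := scalar_apply_eq h 1 1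
    have h2 := scalar_apply_eq h 2 2
    simp at h0 h1 h2
    have e1 : q ^ 2 - 1 ∣ (q + 1) * m := by
      rw [← hb]
      rw [← h0] at h1
      have hy : (b ^ q) ^ m ≠ 0 := pow_ne_zero _ (pow_ne_zero _ hb0)
      field_simp at h1
      rw [add_mul, one_mul, pow_add, pow_mul]
      linear_combination -h1
    have e2 : q ^ 2 - 1 ∣ (q - 2) * m := by
      rw [← hb]
      rw [← h0] at h2
      apply mul_left_cancel₀ (pow_ne_zero m hb0)
      rw [mul_one, ← pow_add, show m + (q - 2) * m = (q - 1) * m by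
        rw [show q - 1 = (q - 2) + 1 by omega]; ring, pow_mul, h2]
    have e3 : q ^ 2 - 1 ∣ 3 * m := by
      have h := Nat.dvd_sub e1 e2
      rwa [← Nat.sub_mul, show q + 1 - (q - 2) = 3 by omega] at h
    rw [Nat.div_dvd_iff_dvd_mul (gcd_facts q hq).2.2.1 (Nat.gcd_pos_of_pos_left _ (by norm_num)),
      ← Nat.gcd_mul_right]
    exact Nat.dvd_gcd e3 e1

/-- The Singer torus of order `q ^ 2 - q + 1`. -/
theorem mem_singer (p : ℕ) [Fact p.Prime] [CharP F p] (hF : Fintype.card F = q ^ 2) {s : ℕ}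
    (hs : s ∣ (q ^ 2 - q + 1) / Nat.gcd 3 (q + 1)) : s ∈ Set.range (orderOf : PSU 3 F q → ℕ) := by
  classical
  have hq := two_le_q hF
  have hq2 : q ≤ q ^ 2 := Nat.le_self_pow two_ne_zero q
  obtain ⟨f, hf⟩ := exists_exp (p := p) hF
  obtain ⟨σ, hσq, hσσ, c, hc⟩ := HermitianFactor.exists_conjugation (K := F) hF
  have hct : ∀ M : Matrix (Fin 3) (Fin 3) F, HermitianFactor.ct σ M = adj q M := fun M => by
    ext i j; simp [HermitianFactor.ct, adj_apply, hσq]
  let K := FiniteField.Extension F p 3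
  haveI : Finite K := Module.finite_of_finite F
  haveI : CharP K p := charP_of_injective_algebraMap (algebraMap F K).injective p
  let bas := Module.finBasisOfFinrankEq F K (FiniteField.finrank_extension F p 3)
  obtain ⟨x, hx⟩ := IsCyclic.exists_ofOrder_eq_natCard (α := Kˣ)
  have hcard : orderOf x = (q ^ 2) ^ 3 - 1 := by
    rw [hx, Nat.card_units, FiniteField.natCard_extension, Nat.card_eq_fintype_card, hF]
  have hfac : (q ^ 2) ^ 3 - 1 = ((q ^ 2 - 1) * (q ^ 2 + q + 1)) * (q ^ 2 - q + 1) := by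
    have h1 : 1 ≤ q ^ 2 := by nlinarith
    have h2 : 1 ≤ (q ^ 2) ^ 3 := Nat.one_le_pow _ _ (by omega)
    zify [h1, h2, hq2]; ring
  have he0 : 0 < (q ^ 2 - 1) * (q ^ 2 + q + 1) := by
    have : 4 ≤ q ^ 2 := Nat.pow_le_pow_left hq 2
    exact Nat.mul_pos (by omega) (by omega)
  let y : Kˣ := x ^ ((q ^ 2 - 1) * (q ^ 2 + q + 1))
  have hy : orderOf y = q ^ 2 - q + 1 := by
    rw [orderOf_pow' x he0.ne', hcard, hfac, Nat.gcd_mul_right_left, Nat.mul_div_cancel_left _ he0]
  have hdet : (Algebra.leftMulMatrix bas (y : K)).det = 1 := by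
    rw [← Algebra.norm_eq_matrix_det bas, Units.val_pow_eq_pow_val, map_pow, pow_mul, ← hF,
      FiniteField.pow_card_sub_one_eq_one _ (Algebra.norm_ne_zero_iff.2 x.ne_zero), one_pow]
  let τ : K →+* K := iterateFrobenius K p (3 * f)
  have hτ : ∀ z, τ z = z ^ (q ^ 3) := fun z => by
    simp [τ, iterateFrobenius_def, hf, ← pow_mul, mul_comm]
  have hτc : ∀ a : F, τ (algebraMap F K a) = algebraMap F K (a ^ q) := fun a => by
    rw [hτ, ← map_pow, pow_succ, pow_mul, ← hF, FiniteField.pow_card]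
  have hyy : τ (y : K) * y = 1 := by
    rw [hτ, ← pow_succ, ← Units.val_pow_eq_pow_val, orderOf_dvd_iff_pow_eq_one.1 ?_, Units.val_one]
    rw [hy]
    exact ⟨q + 1, by zify [hq2]; ring⟩
  let H0 : Matrix (Fin 3) (Fin 3) F := Matrix.of fun i j => Algebra.trace F K (τ (bas i) * bas j)
  set D := Algebra.leftMulMatrix bas (y : K) with hD
  have hbil : ∀ a b : Fin 3 → F, ∑ i, ∑ j, (a i) ^ q * H0 i j * b j =
      Algebra.trace F K (τ (∑ i, a i • bas i) * ∑ j, b j • bas j) := by
    intro a b
    simp only [map_sum, Finset.sum_mul, Finset.mul_sum, Algebra.smul_def, map_mul, hτc]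
    rw [Finset.sum_comm]
    refine Finset.sum_congr rfl fun j _ => Finset.sum_congr rfl fun i _ => ?_
    rw [show algebraMap F K (a i ^ q) * τ (bas i) * (algebraMap F K (b j) * bas j) =
      (a i ^ q * b j) • (τ (bas i) * bas j) by rw [Algebra.smul_def, map_mul]; ring, map_smul,
      smul_eq_mul]
    simp [H0]; ring
  have hcol : ∀ j, ∑ k, D k j • bas k = (y : K) * bas j := fun j => by
    simp only [hD, Algebra.leftMulMatrix_eq_repr_mul]
    exact bas.sum_repr _
  have hinv : HermitianFactor.ct σ D * H0 * D = H0 := by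
    ext i j
    calc (HermitianFactor.ct σ D * H0 * D) i j = ∑ k, ∑ l, (D k i) ^ q * H0 k l * D l j := by
          rw [Finset.sum_comm]
          simp [Matrix.mul_apply, HermitianFactor.ct, hσq, Finset.sum_mul]
      _ = Algebra.trace F K (τ ((y : K) * bas i) * ((y : K) * bas j)) := by rw [hbil, hcol, hcol]
      _ = H0 i j := by
          rw [τ.map_mul, show τ (y : K) * τ (bas i) * ((y : K) * bas j) =
            (τ (y : K) * y) * (τ (bas i) * bas j) by ring, hyy, one_mul]
          rfl
  have hH0 : IsUnit H0 := by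
    rw [Matrix.isUnit_iff_isUnit_det, isUnit_iff_ne_zero]
    intro h0
    obtain ⟨v, hv, hv0⟩ := Matrix.exists_mulVec_eq_zero_iff.2 h0
    have hτsurj : Function.Surjective τ := (Finite.injective_iff_surjective).1 τ.injective
    have hz : ∀ z : K, Algebra.trace F K (τ z * ∑ j, v j • bas j) = 0 := by
      intro z
      rw [← bas.sum_repr z, ← hbil]
      refine Finset.sum_eq_zero fun i _ => ?_
      have := congrFun hv0 i
      simp only [Matrix.mulVec, dotProduct, Pi.zero_apply] at this
      simp only [mul_assoc, ← Finset.mul_sum, this, mul_zero]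
    have hsum : ∑ j, v j • bas j = 0 := by
      refine (traceForm_nondegenerate F K).2 _ fun z => ?_
      obtain ⟨z', rfl⟩ := hτsurj z
      exact hz z'
    exact hv (funext fun i => Fintype.linearIndependent_iff.1 bas.linearIndependent v hsum i)
  have hDu : IsUnit D := by
    rw [Matrix.isUnit_iff_isUnit_det, hdet]; exact isUnit_one
  obtain ⟨H, hHu, hHh, hHinv⟩ :=
    HermitianFactor.exists_hermitian_invariant hσσ c hc hDu hH0 hinv
  obtain ⟨S, -, hSu, hS⟩ := HermitianFactor.exists_factor hσσ c hc hHu hHh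
  rw [hct] at hS hHinv
  refine exists_order hF (by norm_num) ((Matrix.isUnit_iff_isUnit_det S).1 hSu) hS hHinv hdet ?_ hs
  intro m w h
  have hw3 : w ^ 3 = 1 := by
    have := congrArg Matrix.det h
    rw [Matrix.det_pow, hdet, one_pow] at this
    simpa [Matrix.det_diagonal] using this.symm
  have hym : (y : K) ^ m = algebraMap F K w := by
    apply Algebra.leftMulMatrix_injective bas
    rw [AlgHom.commutes, map_pow, ← hD, h]
    rfl
  have hwq : w ^ (q + 1) = 1 := by
    apply (algebraMap F K).injective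
    rw [map_one, pow_succ, map_mul, ← hτc, ← hym, map_pow, ← mul_pow, hyy, one_pow]
  have hwd : w ^ Nat.gcd 3 (q + 1) = 1 := pow_gcd_eq_one.mpr ⟨hw3, hwq⟩
  rw [Nat.div_dvd_iff_dvd_mul (gcd_facts q hq).2.2.2 (Nat.gcd_pos_of_pos_left _ (by norm_num)),
    mul_comm, ← hy]
  refine orderOf_dvd_of_pow_eq_one (Units.ext ?_)
  rw [Units.val_pow_eq_pow_val, pow_mul, hym, ← map_pow, hwd, map_one, Units.val_one]

end Cfsg.Agent.SpectrumPSU3
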