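import Cfsg.Agent.Lib.Cover2Common53
import Cfsg.Agent.Lib.Cover2SL53
import Cfsg.Agent.Lib.OrthUnitaryMaximal
import Cfsg.Agent.Lib.HermitianFactor
import Cfsg.Agent.Lib.SpectrumPSU3

/-!
Covers of `SU₄(q)` by the stabilisers of a non-singular line and of a totally isotropic plane, and of `SU₃(3^a)` by
the stabiliser of a non-singular line and the normaliser of a self-adjoint cubic field.
-/

set_option autoImplicit false
set_option linter.unusedSectionVars false

namespace Cfsg.Agent.Cover2SU53

open Matrix Polynomial Cfsg Cfsg.Agent.OrthUnitaryHerm Cfsg.Agent.Cover2Common53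

variable {F : Type*} [Field F] [Fintype F] {q n : ℕ}

/-- the matrix of an element -/
abbrev mt (g : SU n F q) : Matrix (Fin n) (Fin n) F := g.1.1

theorem mt_mul (a b : SU n F q) : mt (a * b) = mt a * mt b := rfl

theorem mt_inv (a : SU n F q) : mt a⁻¹ * mt a = 1 := by rw [← mt_mul, inv_mul_cancel]; rfl

/-- a subgroup of `SU` from a set closed under products -/
def mkSubgroup (S : Set (SU n F q)) (h1 : (1 : SU n F q) ∈ S)
    (hm : ∀ a b, a ∈ S → b ∈ S → a * b ∈ S) : Subgroup (SU n F q) where
  carrier := S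
  one_mem' := h1
  mul_mem' := fun {a b} => hm a b
  inv_mem' := by
    intro a ha
    have h : ∀ k, a ^ k ∈ S := fun k => by
      induction k with
      | zero => simpa using h1
      | succ k ih => rw [pow_succ]; exact hm _ _ ih ha
    have e : a⁻¹ = a ^ (orderOf a - 1) := by
      rw [inv_eq_iff_mul_eq_one, ← pow_succ', Nat.sub_add_cancel (orderOf_pos a), pow_orderOf_eq_one]
    rw [e]
    exact h _

/-- stabiliser of a subspace -/
def stabW (W : Submodule F (Fin n → F)) : Subgroup (SU n F q) :=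
  mkSubgroup {g | ∀ w ∈ W, mt g *ᵥ w ∈ W} (fun w hw => by
    show (1 : Matrix (Fin n) (Fin n) F) *ᵥ w ∈ W
    rwa [one_mulVec]) (fun a b ha hb w hw => by
    rw [mt_mul, ← mulVec_mulVec]; exact ha _ (hb w hw))

theorem center_scalar (hF : Fintype.card F = q ^ 2) (hn : 2 ≤ n) {g : SU n F q}
    (hg : g ∈ Subgroup.center (SU n F q)) :
    ∃ c : F, mt g = diagonal fun _ => c := by
  refine ⟨mt g ⟨0, by omega⟩ ⟨0, by omega⟩, ?_⟩
  ext i j
  refine (center_SU_scalar hF hn hg i j).trans ?_
  rw [diagonal_apply]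

theorem center_le_stabW (hF : Fintype.card F = q ^ 2) (hn : 2 ≤ n) (W : Submodule F (Fin n → F)) :
    Subgroup.center (SU n F q) ≤ stabW W := by
  intro g hg w hw
  obtain ⟨c, hc⟩ := center_scalar hF hn hg
  rw [hc, diagonal_const_mulVec]
  exact W.smul_mem c hw

theorem stabW_ne_top (hF : Fintype.card F = q ^ 2) (hn : 3 ≤ n) {W : Submodule F (Fin n → F)} {w z : Fin n → F}
    (hw : w ∈ W) (hz : z ∉ W) (hw0 : w ≠ 0) (h : hermForm n F q w w = hermForm n F q z z) :
    stabW (q := q) W ≠ ⊤ := by
  intro ht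
  obtain ⟨M, hM, hd, hMw⟩ := OrthUnitaryMaximal.exists_map_det hF hn h hw0 (fun h0 => hz (h0 ▸ W.zero_mem))
    (x := 1) (one_pow _)
  have : mkSU M hd hM ∈ stabW (q := q) W := by rw [ht]; exact Subgroup.mem_top _
  exact hz (hMw ▸ this w hw)

theorem herm_single_self (hF : Fintype.card F = q ^ 2) (i j : Fin n) :
    hermForm n F q (Pi.single i 1) (Pi.single j 1) = if i = j then 1 else 0 := by
  rw [herm_single_right hF, Pi.single_apply]
  simp [eq_comm]

/-- the line of the first basis vector -/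
abbrev line0 (n : ℕ) [NeZero n] (F : Type*) [Field F] : Submodule F (Fin n → F) :=
  Submodule.span F {Pi.single 0 1}

theorem line0_ne_top [NeZero n] (hF : Fintype.card F = q ^ 2) (hn : 3 ≤ n) :
    stabW (q := q) (line0 n F) ≠ ⊤ := by
  refine stabW_ne_top hF hn (w := Pi.single 0 1) (z := Pi.single ⟨1, by omega⟩ 1)
    (Submodule.subset_span rfl) ?_ (fun h => one_ne_zero (α := F) (by simpa using congrFun h 0)) ?_
  · intro h
    obtain ⟨c, hc⟩ := Submodule.mem_span_singleton.1 h
    simpa [Fin.ext_iff] using congrFun hc ⟨1, by omega⟩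
  · rw [herm_single_self hF, herm_single_self hF, if_pos rfl, if_pos rfl]

/-- an element with a non-singular eigenvector -/
theorem nonsingular_case [NeZero n] (hF : Fintype.card F = q ^ 2) (hn : 3 ≤ n) (g : SU n F q)
    (h : ∃ (v : Fin n → F) (c : F), mt g *ᵥ v = c • v ∧ hermForm n F q v v ≠ 0) :
    ∃ x : SU n F q, x * g * x⁻¹ ∈ stabW (line0 n F) := by
  obtain ⟨v, c, hgv, hv⟩ := h
  obtain ⟨t, ht⟩ := exists_norm_eq hF (herm_self_pow hF v)
  have ht0 : t ≠ 0 := by rintro rfl; exact hv (by simpa using ht.symm)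
  have hN : hermForm n F q (t⁻¹ • v) (t⁻¹ • v) = 1 := by
    rw [herm_smul_left, herm_smul_right, ← mul_assoc, ← pow_succ', inv_pow, ht, inv_mul_cancel₀ hv]
  have h0 : t⁻¹ • v ≠ 0 := fun h0 => by
    rw [h0] at hN
    simp [hermForm, zero_pow_q hF] at hN
  obtain ⟨M, hM, hd, hMv⟩ := OrthUnitaryMaximal.exists_map_det hF hn
    (z := t⁻¹ • v) (z' := Pi.single 0 1) (hN.trans (by rw [herm_single_self hF, if_pos rfl])) h0
    (fun h => one_ne_zero (α := F) (by simpa using congrFun h 0)) (x := 1) (one_pow _)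
  refine ⟨mkSU M hd hM, fun w hw => ?_⟩
  obtain ⟨a, rfl⟩ := Submodule.mem_span_singleton.1 hw
  rw [mulVec_smul]
  refine Submodule.smul_mem _ _ ?_
  rw [mt_mul, mt_mul, ← mulVec_mulVec, ← mulVec_mulVec, ← hMv,
    show M *ᵥ (t⁻¹ • v) = mt (mkSU M hd hM) *ᵥ (t⁻¹ • v) from rfl,
    mulVec_mulVec _ (mt (mkSU M hd hM)⁻¹) (mt (mkSU M hd hM)), mt_inv, one_mulVec,
    mulVec_smul, hgv, smul_comm, mulVec_smul,
    show mt (mkSU M hd hM) *ᵥ (t⁻¹ • v) = M *ᵥ (t⁻¹ • v) from rfl, hMv]
  exact Submodule.smul_mem _ _ (Submodule.subset_span rfl)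

/-! ### quadratics -/

theorem exists_root_norm_one (hF : Fintype.card F = q ^ 2) {a b : F} (hb : b ^ (q + 1) = 1)
    (hab : a = b * a ^ q) : ∃ x : F, x ^ 2 + a * x + b = 0 := by
  classical
  obtain ⟨p, f, hp, hc, -, hq⟩ := exists_prime_pow hF
  have hp' := Fact.mk hp
  by_cases ha : a = 0
  · obtain ⟨y, hy⟩ : IsSquare (-b) := by
      by_cases h2 : ringChar F = 2
      · exact FiniteField.isSquare_of_char_two h2 _
      · have hodd : Fintype.card F % 2 = 1 := FiniteField.odd_card_of_char_ne_two h2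
        have hqodd : q % 2 = 1 := by
          rw [hF, Nat.pow_mod] at hodd
          rcases Nat.mod_two_eq_zero_or_one q with h | h
          · rw [h] at hodd; simp at hodd
          · exact h
        have hb0 : b ≠ 0 := by rintro rfl; simp at hb
        rw [FiniteField.isSquare_iff h2 (neg_ne_zero.2 hb0)]
        obtain ⟨k, hk⟩ : ∃ k, q = 2 * k + 1 := ⟨q / 2, by omega⟩
        have e : Fintype.card F / 2 = (q + 1) * k := by
          rw [hF, hk]
          have : (2 * k + 1) ^ 2 = 2 * ((2 * k + 1 + 1) * k) + 1 := by ring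
          omega
        rw [e, pow_mul, neg_pow, hb, mul_one, Even.neg_one_pow ⟨k + 1, by omega⟩, one_pow]
    exact ⟨y, by rw [ha]; linear_combination -hy⟩
  · set e := b / a ^ 2 with he
    have haq : a ^ q ≠ 0 := pow_ne_zero _ ha
    have hb' : b = a / a ^ q := by rw [eq_div_iff haq, ← hab]
    have he1 : e = (a ^ (q + 1))⁻¹ := by
      rw [he, hb', pow_succ]
      field_simp
      ring
    have heq : e ^ q = e := by
      rw [he1, inv_pow, pow_succ, mul_pow, pow_q_q hF, mul_comm]
    suffices h : ∃ y : F, y ^ 2 + y + e = 0 by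
      obtain ⟨y, hy⟩ := h
      refine ⟨a * y, ?_⟩
      have hbe : b = a ^ 2 * e := by rw [he]; field_simp
      rw [hbe]
      linear_combination (a ^ 2) * hy
    let f0 : F[X] := X ^ 2 + X + Polynomial.C e
    have hdeg : f0.natDegree = 2 := by simp only [f0]; compute_degree!
    by_contra hno
    have hirr : Irreducible f0 := irreducible_of_degree_le_three_of_not_isRoot (by rw [hdeg]; simp)
      fun x hx => hno ⟨x, by simpa [f0] using hx⟩
    have := Fact.mk hirr
    have : CharP (AdjoinRoot f0) p := charP_of_injective_algebraMap (algebraMap F _).injective p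
    set y := AdjoinRoot.root f0 with hy
    have hyeq : y ^ 2 + y + algebraMap F _ e = 0 := by
      have := AdjoinRoot.eval₂_root f0
      simpa [f0, AdjoinRoot.algebraMap_eq] using this
    have hadd : ∀ u v : AdjoinRoot f0, (u + v) ^ q = u ^ q + v ^ q := fun u v => by
      rw [hq]; exact add_pow_char_pow u v p f
    have h2 : (y ^ q) ^ 2 + y ^ q + algebraMap F _ e = 0 := by
      have h := congrArg (fun u : AdjoinRoot f0 => u ^ q) hyeq
      simp only [hadd, zero_pow (q_ne_zero hF), ← map_pow, heq] at h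
      rwa [← pow_right_comm y 2 q]
    have hfac : (y ^ q - y) * (y ^ q - (-1 - y)) = 0 := by linear_combination h2 - hyeq
    have hfix : y ^ Fintype.card F = y := by
      rw [hF, sq, pow_mul]
      rcases mul_eq_zero.1 hfac with h | h
      · rw [sub_eq_zero.1 h, sub_eq_zero.1 h]
      · have hs : y ^ q + y = -1 := by linear_combination (sub_eq_zero.1 h)
        have h3 := congrArg (fun u : AdjoinRoot f0 => u ^ q) hs
        simp only [hadd] at h3
        have hneg : (-1 : AdjoinRoot f0) ^ q = -1 := by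
          rw [hq, ← iterateFrobenius_def, map_neg, map_one]
        rw [hneg] at h3
        linear_combination h3 - hs
    obtain ⟨r, hr⟩ := SpectrumPSU3.mem_range_of_pow_card hfix
    apply hno
    refine ⟨r, (algebraMap F (AdjoinRoot f0)).injective ?_⟩
    rw [map_add, map_add, map_pow, hr, map_zero, hyeq]

/-- a quadratic without roots forces an invariant subspace on which it vanishes to be totally isotropic -/
theorem isotropic_of_quadratic (hF : Fintype.card F = q ^ 2) {M : Matrix (Fin n) (Fin n) F} (hM : IsU q M)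
    (U : Set (Fin n → F)) (hU : ∀ x ∈ U, M *ᵥ x ∈ U) {a b : F} (hno : ∀ x : F, x ^ 2 + a * x + b ≠ 0)
    (h : ∀ x ∈ U, ∀ y ∈ U, hermForm n F q (M *ᵥ (M *ᵥ x) + a • (M *ᵥ x) + b • x) y = 0) :
    ∀ x ∈ U, ∀ y ∈ U, hermForm n F q x y = 0 := by
  have h1 : ∀ x ∈ U, ∀ y ∈ U, hermForm n F q (M *ᵥ x) y + a * hermForm n F q x y
      + b * hermForm n F q x (M *ᵥ y) = 0 := fun x hx y hy => by
    have := h x hx _ (hU y hy)
    rwa [herm_add_left, herm_add_left, herm_smul_left, herm_smul_left, hM, hM] at this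
  have h2 : ∀ x ∈ U, ∀ y ∈ U, hermForm n F q x (M *ᵥ y) + a ^ q * hermForm n F q x y
      + b ^ q * hermForm n F q (M *ᵥ x) y = 0 := fun x hx y hy => by
    have := congrArg (fun u : F => u ^ q) (h1 y hy x hx)
    simpa [add_pow_q hF, mul_pow, ← herm_conj hF, zero_pow_q hF] using this
  have key : ∀ x ∈ U, ∀ y ∈ U, (1 - b * b ^ q) * hermForm n F q (M *ᵥ x) y
      + (a - b * a ^ q) * hermForm n F q x y = 0 := fun x hx y hy => by
    linear_combination h1 x hx y hy - b * h2 x hx y hy
  intro x hx y hy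
  by_cases hc : 1 - b * b ^ q = 0
  · have hb : b ^ (q + 1) = 1 := by rw [pow_succ']; linear_combination -hc
    have hne : a - b * a ^ q ≠ 0 := fun he => by
      obtain ⟨r, hr⟩ := exists_root_norm_one hF hb (sub_eq_zero.1 he)
      exact hno r hr
    have := key x hx y hy
    rw [hc, zero_mul, zero_add] at this
    exact (mul_eq_zero.1 this).resolve_left hne
  · set d := -(a - b * a ^ q) / (1 - b * b ^ q) with hd
    have hMd : ∀ x ∈ U, ∀ y ∈ U, hermForm n F q (M *ᵥ x) y = d * hermForm n F q x y := fun x hx y hy => by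
      have := key x hx y hy
      rw [hd, div_mul_eq_mul_div, eq_div_iff hc]
      linear_combination this
    have := h x hx y hy
    rw [herm_add_left, herm_add_left, herm_smul_left, herm_smul_left, hMd _ (hU x hx) y hy, hMd x hx y hy] at this
    have h3 : (d ^ 2 + a * d + b) * hermForm n F q x y = 0 := by linear_combination this
    exact (mul_eq_zero.1 h3).resolve_left (hno d)

/-- the charpoly of a unitary matrix of even size is reducible -/
theorem charpoly_four_reducible (hF : Fintype.card F = q ^ 2) (g : SU 4 F q) :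
    ¬ Irreducible (mt g).charpoly := by
  intro hirr
  obtain ⟨p, f, hp, hc, -, hq⟩ := exists_prime_pow hF
  have hp' := Fact.mk hp
  have := Fact.mk hirr
  have : Module.Finite F (AdjoinRoot (mt g).charpoly) := (AdjoinRoot.powerBasis hirr.ne_zero).finite
  have : Finite (AdjoinRoot (mt g).charpoly) := Module.finite_of_finite F
  have hd : Module.finrank F (AdjoinRoot (mt g).charpoly) = 4 := by
    rw [(AdjoinRoot.powerBasis hirr.ne_zero).finrank, AdjoinRoot.powerBasis_dim,
      Matrix.charpoly_natDegree_eq_dim, Fintype.card_fin]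
  set z := AdjoinRoot.root (mt g).charpoly with hz
  have hroot : ((mt g).charpoly.map (algebraMap F (AdjoinRoot (mt g).charpoly))).IsRoot z := by
    rw [AdjoinRoot.algebraMap_eq]; exact AdjoinRoot.isRoot_root _
  obtain ⟨hz0, hroot'⟩ := SpectrumPSU3.root_inv_pow p hF g hroot
  let φ : AdjoinRoot (mt g).charpoly →ₐ[F] AdjoinRoot (mt g).charpoly :=
    AdjoinRoot.liftAlgHom (mt g).charpoly (Algebra.ofId F _) (z ^ q)⁻¹ (by
      rw [IsRoot, eval_map] at hroot'
      exact hroot')
  obtain ⟨i, hi⟩ := (FiniteField.bijective_frobeniusAlgHom_pow F (AdjoinRoot (mt g).charpoly)).2 φ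
  have hpow : ∀ (k : ℕ) (u : AdjoinRoot (mt g).charpoly),
      (FiniteField.frobeniusAlgHom F (AdjoinRoot (mt g).charpoly) ^ k) u = u ^ (Fintype.card F ^ k) := by
    intro k u
    rw [AlgHom.coe_pow, FiniteField.coe_frobeniusAlgHom, pow_iterate]
  set Q := Fintype.card F with hQdef
  have h1 : z ^ (Q ^ i.1) = (z ^ q)⁻¹ := by
    rw [← hpow]
    show (fun n : Fin _ => FiniteField.frobeniusAlgHom F (AdjoinRoot (mt g).charpoly) ^ n.1) i z = _
    rw [hi]
    exact AdjoinRoot.liftAlgHom_root ..
  have h2 : z ^ (Q ^ (2 * i.1)) = z ^ Q := by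
    rw [two_mul, pow_add, pow_mul, h1, inv_pow, ← pow_mul, mul_comm q, pow_mul, h1, inv_pow, inv_inv,
      ← pow_mul, hF, sq]
  have h3 : FiniteField.frobeniusAlgHom F (AdjoinRoot (mt g).charpoly) ^ (2 * i.1) =
      FiniteField.frobeniusAlgHom F (AdjoinRoot (mt g).charpoly) ^ 1 := by
    apply AdjoinRoot.algHom_ext
    rw [hpow, hpow, pow_one]
    exact h2
  have hord := FiniteField.orderOf_frobeniusAlgHom F (AdjoinRoot (mt g).charpoly)
  rw [hd] at hord
  have hlt : 2 * i.1 % 4 = 1 % 4 := by
    by_contra hne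
    apply hne
    have := (orderOf_pos_iff.1 (by rw [hord]; norm_num)).pow_eq_pow_iff_modEq.1 h3
    rwa [hord] at this
  omega

/-- the totally isotropic plane stabiliser catches elements without non-singular eigenvectors -/
theorem exists_plane (hF : Fintype.card F = q ^ 2) (g : SU 4 F q)
    (hns : ∀ (v : Fin 4 → F) (c : F), mt g *ᵥ v = c • v → hermForm 4 F q v v = 0) :
    ∃ x y : Fin 4 → F, LinearIndependent F ![x, y] ∧
      (hermForm 4 F q x x = 0 ∧ hermForm 4 F q x y = 0 ∧ hermForm 4 F q y y = 0) ∧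
      mt g *ᵥ x ∈ Submodule.span F (Set.range ![x, y]) ∧ mt g *ᵥ y ∈ Submodule.span F (Set.range ![x, y]) := by
  set M := mt g with hMdef
  have hM : IsU q M := isU_of_mem_SU g
  have hmem : ∀ x y : Fin 4 → F, ∀ a b : F, a • x + b • y ∈ Submodule.span F (Set.range ![x, y]) :=
    fun x y a b => add_mem (Submodule.smul_mem _ _ (Submodule.subset_span ⟨0, rfl⟩))
      (Submodule.smul_mem _ _ (Submodule.subset_span ⟨1, rfl⟩))
  by_cases he : ∃ (v : Fin 4 → F) (c : F), v ≠ 0 ∧ M *ᵥ v = c • v
  · obtain ⟨v, lam, hv0, hv⟩ := he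
    have hvv := hns v lam hv
    obtain ⟨f, hh⟩ := OrthUnitaryIsotropic.exists_dual hF (e := fun _ : Fin 1 => v)
      (linearIndependent_unique_iff.2 hv0) (fun _ _ => hvv)
    obtain ⟨u, hw⟩ := OrthUnitaryIsotropic.exists_complement hF (m := 2) (by norm_num) hh
    set w := OrthUnitaryIsotropic.frame (fun _ : Fin 1 => v) f u with hwdef
    have huv : ∀ i, hermForm 4 F q (u i) v = 0 := fun i => by
      have := hw (.inr i) (.inl (.inl 0)); simpa [OrthUnitaryIsotropic.frame, OrthUnitaryIsotropic.pairing, hwdef] using this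
    have huu : ∀ i j, hermForm 4 F q (u i) (u j) = if i = j then 1 else 0 := fun i j => by
      have := hw (.inr i) (.inr j); simpa [OrthUnitaryIsotropic.frame, OrthUnitaryIsotropic.pairing, hwdef] using this
    have hlam : lam ≠ 0 := by
      rintro rfl
      rw [zero_smul] at hv
      exact hv0 (eq_zero_of_herm_eq_zero hF fun x => by rw [← hM v x, hv]; simp [hermForm])
    have hperp : ∀ x, hermForm 4 F q x v = 0 → hermForm 4 F q (M *ᵥ x) v = 0 := fun x hx => by
      have h := hM x v
      rw [hv, herm_smul_right, hx] at h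
      exact (mul_eq_zero.1 h).resolve_left (pow_ne_zero _ hlam)
    have hexp : ∀ x, hermForm 4 F q x v = 0 → x = hermForm 4 F q x (f 0) • v
        + (hermForm 4 F q x (u 0) • u 0 + hermForm 4 F q x (u 1) • u 1) := fun x hx => by
      have := OrthUnitaryIsotropic.gram_expand hF OrthUnitaryIsotropic.pairing_invol hw
        (OrthUnitaryIsotropic.card_idx (by norm_num)) x
      simpa [Fintype.sum_sum_type, Fin.sum_univ_two, OrthUnitaryIsotropic.frame, OrthUnitaryIsotropic.pairing, hwdef, hx] using this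
    have hcoef : ∀ a b c : F, hermForm 4 F q (a • v + (b • u 0 + c • u 1)) (u 0) = b ∧
        hermForm 4 F q (a • v + (b • u 0 + c • u 1)) (u 1) = c ∧
        hermForm 4 F q (a • v + (b • u 0 + c • u 1)) v = 0 := fun a b c => by
      have hvu : ∀ i, hermForm 4 F q v (u i) = 0 := fun i => by
        rw [herm_conj hF (u i) v, huv, zero_pow_q hF]
      simp [herm_add_left, herm_smul_left, huv, huu, hvu, hvv]
    obtain ⟨x, a, c, hxv, hxne, hMx⟩ : ∃ x a c, hermForm 4 F q x v = 0 ∧ (∀ t : F, x ≠ t • v) ∧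
        M *ᵥ x = a • x + c • v := by
      have hu0 : ∀ t : F, u 0 ≠ t • v := fun t ht => by
        have := huu 0 0
        rw [ht, herm_smul_left, herm_smul_right, hvv] at this
        simp at this
      set β := hermForm 4 F q (M *ᵥ u 0) (u 1) with hβ
      set α := hermForm 4 F q (M *ᵥ u 0) (u 0) with hα
      set γ := hermForm 4 F q (M *ᵥ u 0) (f 0) with hγ
      have h1 := hexp _ (hperp _ (huv 0))
      rw [← hα, ← hβ, ← hγ] at h1
      by_cases hb : β = 0
      · exact ⟨u 0, α, γ, huv 0, hu0, by rw [h1, hb]; module⟩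
      set x₂ := M *ᵥ u 0 with hx₂
      have hx₂v : hermForm 4 F q x₂ v = 0 := hperp _ (huv 0)
      have h2 := hexp _ (hperp _ hx₂v)
      set B0 := hermForm 4 F q (M *ᵥ x₂) (u 0)
      set B1 := hermForm 4 F q (M *ᵥ x₂) (u 1)
      set B2 := hermForm 4 F q (M *ᵥ x₂) (f 0)
      have h3 : M *ᵥ x₂ = (B0 - B1 / β * α) • u 0 + (B1 / β) • x₂ + (B2 - B1 / β * γ) • v := by
        conv_lhs => rw [h2]
        rw [h1]
        match_scalars <;> field_simp <;> ring
      set A := B0 - B1 / β * α
      set B := B1 / β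
      set C := B2 - B1 / β * γ
      by_cases hr : ∃ r : F, r ^ 2 + (-B) * r + (-A) = 0
      · obtain ⟨r, hr⟩ := hr
        refine ⟨x₂ - (B - r) • u 0, r, C, ?_, fun t ht => ?_, ?_⟩
        · rw [herm_sub_left, herm_smul_left, hx₂v, huv]; ring
        · have := congrArg (fun z => hermForm 4 F q z (u 1)) ht
          simp only [herm_sub_left, herm_smul_left, huu, Fin.zero_ne_one, if_false] at this
          rw [show hermForm 4 F q v (u 1) = 0 by rw [herm_conj hF (u 1) v, huv, zero_pow_q hF]] at this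
          exact hb (by simpa using this)
        · rw [mulVec_sub, mulVec_smul, h3, ← hx₂]
          match_scalars
          · first | linear_combination hr | linear_combination -hr
          all_goals ring
      · push_neg at hr
        exfalso
        have hiso := isotropic_of_quadratic hF hM {z | hermForm 4 F q z v = 0} (fun z hz => hperp z hz) hr
          (fun z hz y hy => by
            obtain ⟨t, s, r, rfl⟩ : ∃ t s r : F, z = t • v + s • u 0 + r • x₂ := by
              refine ⟨hermForm 4 F q z (f 0) - hermForm 4 F q z (u 1) / β * γ,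
                hermForm 4 F q z (u 0) - hermForm 4 F q z (u 1) / β * α, hermForm 4 F q z (u 1) / β, ?_⟩
              conv_lhs => rw [hexp z hz]
              rw [h1]
              match_scalars <;> field_simp <;> ring
            obtain ⟨e, he'⟩ : ∃ e : F, M *ᵥ (M *ᵥ (t • v + s • u 0 + r • x₂)) +
                (-B) • (M *ᵥ (t • v + s • u 0 + r • x₂)) + (-A) • (t • v + s • u 0 + r • x₂) = e • v := by
              refine ⟨t * (lam ^ 2 - B * lam - A) + s * C + r * C * lam, ?_⟩
              simp only [mulVec_add, mulVec_smul, hv, ← hx₂, h3]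
              match_scalars <;> ring
            rw [he', herm_smul_left, herm_conj hF y v, hy, zero_pow_q hF, mul_zero])
        have := hiso (u 0) (huv 0) (u 0) (huv 0)
        rw [huu, if_pos rfl] at this
        exact one_ne_zero this
    have hvx : hermForm 4 F q v x = 0 := by rw [herm_conj hF x v, hxv, zero_pow_q hF]
    have fin : ∀ (z : Fin 4 → F) (d e : F), hermForm 4 F q z v = 0 → hermForm 4 F q z z = 0 → (∀ t : F, z ≠ t • v) →
        M *ᵥ z = d • z + e • v → ∃ x y : Fin 4 → F, LinearIndependent F ![x, y] ∧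
        (hermForm 4 F q x x = 0 ∧ hermForm 4 F q x y = 0 ∧ hermForm 4 F q y y = 0) ∧
        M *ᵥ x ∈ Submodule.span F (Set.range ![x, y]) ∧ M *ᵥ y ∈ Submodule.span F (Set.range ![x, y]) := by
      intro z d e hzv hzz hzne hMz
      refine ⟨v, z, ?_, ⟨hvv, by rw [herm_conj hF z v, hzv, zero_pow_q hF], hzz⟩, ?_, ?_⟩
      · rw [LinearIndependent.pair_iff' hv0]
        exact fun t ht => hzne t ht.symm
      · rw [hv, show lam • v = lam • v + (0 : F) • z by simp]; exact hmem _ _ _ _
      · rw [hMz, add_comm]; exact hmem _ _ _ _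
    by_cases hxx : hermForm 4 F q x x = 0
    · exact fin x a c hxv hxx hxne hMx
    have heig : ∀ (z : Fin 4 → F) (d e : F), hermForm 4 F q z v = 0 → hermForm 4 F q z z ≠ 0 → M *ᵥ z = d • z + e • v → d = lam := by
      intro z d e hzv hzz hMz
      by_contra hne
      apply hzz
      have := hns (z + (e / (d - lam)) • v) d (by
        rw [mulVec_add, mulVec_smul, hMz, hv]
        have : d - lam ≠ 0 := sub_ne_zero.2 hne
        match_scalars <;> field_simp <;> ring)
      rw [herm_add_left, herm_add_right hF, herm_add_right hF] at this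
      simpa [herm_smul_left, herm_smul_right, hvv, hzv, herm_conj hF z v, zero_pow_q hF] using this
    obtain rfl := heig x a c hxv hxx hMx
    set h0 := hermForm 4 F q (u 0) x
    set h1' := hermForm 4 F q (u 1) x
    set y := h1' • u 0 - h0 • u 1 with hy
    have hyv : hermForm 4 F q y v = 0 := by rw [hy, herm_sub_left, herm_smul_left, herm_smul_left, huv, huv]; ring
    have hyx : hermForm 4 F q y x = 0 := by rw [hy, herm_sub_left, herm_smul_left, herm_smul_left]; ring
    have hh01 : h0 ≠ 0 ∨ h1' ≠ 0 := by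
      by_contra hc
      push_neg at hc
      apply hxx
      have hx' := hexp x hxv
      rw [herm_conj hF (u 0) x, show hermForm 4 F q (u 0) x = 0 from hc.1, herm_conj hF (u 1) x,
        show hermForm 4 F q (u 1) x = 0 from hc.2, zero_pow_q hF] at hx'
      simp at hx'
      rw [hx', herm_smul_left, herm_smul_right, hvv]; simp
    have hyne : ∀ t : F, y ≠ t • v := fun t ht => by
      have e0 := congrArg (fun z => hermForm 4 F q z (u 0)) ht
      have e1 := congrArg (fun z => hermForm 4 F q z (u 1)) ht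
      simp [hy, herm_sub_left, herm_smul_left, huu, herm_conj hF _ v, huv, zero_pow_q hF] at e0 e1
      rcases hh01 with h | h
      · exact h e1
      · exact h e0
    have hzform : ∀ z, hermForm 4 F q z v = 0 → hermForm 4 F q z x = 0 → ∃ d e : F, z = d • y + e • v := by
      intro z hzv hzx
      have hz' := hexp z hzv
      set β0 := hermForm 4 F q z (u 0)
      set β1 := hermForm 4 F q z (u 1)
      have hrel : β0 * h0 + β1 * h1' = 0 := by
        rw [hz', herm_add_left, herm_add_left, herm_smul_left, herm_smul_left, herm_smul_left, hvx] at hzx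
        linear_combination hzx
      rcases hh01 with h | h
      · refine ⟨-β1 / h0, hermForm 4 F q z (f 0), ?_⟩
        conv_lhs => rw [hz']
        rw [hy]
        match_scalars
        · ring
        · field_simp; linear_combination hrel
        · field_simp
      · refine ⟨β0 / h1', hermForm 4 F q z (f 0), ?_⟩
        conv_lhs => rw [hz']
        rw [hy]
        match_scalars
        · ring
        · field_simp
        · field_simp; linear_combination hrel
    have hMyx : hermForm 4 F q (M *ᵥ y) x = 0 := by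
      have h := hM y x
      rw [hMx, herm_add_right hF, herm_smul_right, herm_smul_right, hperp y hyv, hyx, mul_zero, add_zero] at h
      exact (mul_eq_zero.1 h).resolve_left (pow_ne_zero _ hlam)
    obtain ⟨b, e, hMy⟩ := hzform _ (hperp y hyv) hMyx
    by_cases hyy : hermForm 4 F q y y = 0
    · exact fin y b e hyv hyy hyne hMy
    obtain rfl := heig y b e hyv hyy hMy
    obtain ⟨s, hs⟩ := exists_norm_eq hF (a := -(hermForm 4 F q x x) / hermForm 4 F q y y) (by
      rw [div_pow, neg_pow_q hF, herm_self_pow hF, herm_self_pow hF])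
    refine fin (x + s • y) b (c + s * e) ?_ ?_ ?_ ?_
    · rw [herm_add_left, herm_smul_left, hxv, hyv]; ring
    · have hxy : hermForm 4 F q x y = 0 := by rw [herm_conj hF y x, hyx, zero_pow_q hF]
      rw [herm_add_left, herm_add_right hF, herm_add_right hF, herm_smul_left, herm_smul_left,
        herm_smul_right, herm_smul_right, hxy, hyx]
      have e : s * s ^ q * hermForm 4 F q y y = -(hermForm 4 F q x x) := by
        rw [← pow_succ', hs, div_mul_cancel₀ _ hyy]
      linear_combination e
    · intro t ht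
      apply hxx
      have h := congrArg (fun z => hermForm 4 F q z x) ht
      simpa [herm_add_left, herm_smul_left, hyx, hvx] using h
    · rw [mulVec_add, mulVec_smul, hMx, hMy]; module
  · push_neg at he
    have hred : ¬ Irreducible M.charpoly := charpoly_four_reducible hF g
    have hmon : M.charpoly.Monic := M.charpoly_monic
    have hdeg : M.charpoly.natDegree = 4 := by rw [Matrix.charpoly_natDegree_eq_dim, Fintype.card_fin]
    have hnoroot : ∀ r : F, M.charpoly.eval r ≠ 0 := by
      intro r hr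
      rw [Matrix.eval_charpoly] at hr
      obtain ⟨v, hv, hgv⟩ := exists_mulVec_eq_zero_iff.2 hr
      rw [sub_mulVec, sub_eq_zero, scalar_apply, diagonal_const_mulVec] at hgv
      exact he v r hv hgv.symm
    obtain ⟨P, R, hP, hR, hPR, hdP, hdR⟩ : ∃ P R : F[X], P.Monic ∧ R.Monic ∧ M.charpoly = P * R ∧
        P.natDegree = 2 ∧ R.natDegree = 2 := by
      rw [hmon.irreducible_iff_natDegree] at hred
      push_neg at hred
      obtain ⟨P, R, hP, hR, hPR, h1, h2⟩ := hred (by intro h; rw [h, natDegree_one] at hdeg; omega)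
      refine ⟨P, R, hP, hR, hPR.symm, ?_⟩
      have hs := congrArg natDegree hPR
      rw [hP.natDegree_mul hR, hdeg] at hs
      have h1' : ∀ W : F[X], W ∣ M.charpoly → W.Monic → W.natDegree ≠ 1 := by
        intro W hW hWm hd1
        obtain ⟨r, hr⟩ := exists_root_of_degree_eq_one (p := W)
          (by rw [degree_eq_natDegree hWm.ne_zero, hd1]; rfl)
        exact hnoroot r (hr.dvd hW)
      have := h1' P ⟨R, hPR.symm⟩ hP
      have := h1' R ⟨P, by rw [← hPR, mul_comm]⟩ hR
      omega
    obtain ⟨P', x, hP', hdP', hPdvd, hx0, hx⟩ : ∃ (P' : F[X]) (x : Fin 4 → F), P'.Monic ∧ P'.natDegree = 2 ∧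
        P' ∣ M.charpoly ∧ x ≠ 0 ∧ aeval M P' *ᵥ x = 0 := by
      by_cases hdet : (aeval M P).det = 0
      · obtain ⟨x, hx0, hx⟩ := exists_mulVec_eq_zero_iff.2 hdet
        exact ⟨P, x, hP, hdP, ⟨R, hPR⟩, hx0, hx⟩
      · have h0 := M.aeval_self_charpoly
        rw [hPR, map_mul] at h0
        have hR0 : aeval M R = 0 :=
          ((Matrix.isUnit_iff_isUnit_det _).2 (Ne.isUnit hdet)).mul_right_eq_zero.1 h0
        exact ⟨R, Pi.single 0 1, hR, hdR, ⟨P, by rw [hPR, mul_comm]⟩,
          fun h => one_ne_zero (α := F) (by simpa using congrFun h 0), by rw [hR0, zero_mulVec]⟩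
    set a := P'.coeff 1
    set b := P'.coeff 0
    have heqP : P' = X ^ 2 + Polynomial.C a * X + Polynomial.C b := by
      conv_lhs => rw [hP'.as_sum]
      rw [hdP', Finset.sum_range_succ, Finset.sum_range_one]
      simp [a, b]
      ring
    have hno : ∀ r : F, r ^ 2 + a * r + b ≠ 0 := fun r hr => by
      apply hnoroot r
      obtain ⟨W, hW⟩ := hPdvd
      rw [hW, eval_mul, heqP]
      simp [hr]
    have hrel : M *ᵥ (M *ᵥ x) + a • (M *ᵥ x) + b • x = 0 := by
      rw [← hx, heqP]
      simp [Algebra.algebraMap_eq_smul_one, sq, add_mulVec, smul_mulVec, ← mulVec_mulVec]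
    have hli : LinearIndependent F ![x, M *ᵥ x] := by
      rw [LinearIndependent.pair_iff' hx0]
      exact fun t ht => he x t hx0 ht.symm
    set U : Submodule F (Fin 4 → F) := Submodule.span F (Set.range ![x, M *ᵥ x])
    have hMM : M *ᵥ (M *ᵥ x) = (-b) • x + (-a) • (M *ᵥ x) := by
      linear_combination (norm := module) hrel
    have hU : ∀ z ∈ (U : Set (Fin 4 → F)), M *ᵥ z ∈ (U : Set (Fin 4 → F)) := by
      intro z hz
      obtain ⟨c, rfl⟩ := Submodule.mem_span_range_iff_exists_fun F |>.1 hz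
      simp only [Fin.sum_univ_two, cons_val_zero, cons_val_one, mulVec_add, mulVec_smul, hMM]
      rw [show c 0 • M *ᵥ x + c 1 • (-b • x + -a • M *ᵥ x) = (c 1 * -b) • x + (c 0 + c 1 * -a) • (M *ᵥ x) by module]
      exact hmem _ _ _ _
    have hiso := isotropic_of_quadratic hF hM (U : Set (Fin 4 → F)) hU hno (fun z hz y _ => by
      obtain ⟨c, rfl⟩ := Submodule.mem_span_range_iff_exists_fun F |>.1 hz
      have : M *ᵥ (M *ᵥ ∑ i, c i • ![x, M *ᵥ x] i) + a • (M *ᵥ ∑ i, c i • ![x, M *ᵥ x] i)
          + b • ∑ i, c i • ![x, M *ᵥ x] i = 0 := by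
        simp only [Fin.sum_univ_two, cons_val_zero, cons_val_one, mulVec_add, mulVec_smul, hMM]
        module
      rw [this]; simp [hermForm])
    have hxU : x ∈ U := Submodule.subset_span ⟨0, rfl⟩
    have hMxU : M *ᵥ x ∈ U := Submodule.subset_span ⟨1, rfl⟩
    exact ⟨x, M *ᵥ x, hli, ⟨hiso x hxU x hxU, hiso x hxU _ hMxU, hiso _ hMxU _ hMxU⟩, hMxU, hU _ hMxU⟩

theorem cover_four (hF : Fintype.card F = q ^ 2) : Cover (Cfsg.PSU 4 F q) := by
  classical
  obtain ⟨t, ht⟩ := exists_norm_eq hF (a := (-1 : F)) (by rw [neg_pow_q hF, one_pow])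
  let e₀ : Fin 2 → Fin 4 → F := ![![1, t, 0, 0], ![0, 0, 1, t]]
  have he₀ : ∀ i j, hermForm 4 F q (e₀ i) (e₀ j) = 0 := fun i j => by
    fin_cases i <;> fin_cases j <;>
      simp [e₀, hermForm, Fin.sum_univ_four, zero_pow (q_ne_zero hF), ← pow_succ', ht]
  have hli₀ : LinearIndependent F e₀ := by
    rw [Fintype.linearIndependent_iff]
    intro c hc
    rw [Fin.sum_univ_two] at hc
    have h0 := congrFun hc 0
    have h2 := congrFun hc 2
    simp [e₀] at h0 h2
    intro i; fin_cases i <;> simp [h0, h2]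
  obtain ⟨f₀, hh₀⟩ := OrthUnitaryIsotropic.exists_dual hF hli₀ he₀
  obtain ⟨u₀, hw₀⟩ := OrthUnitaryIsotropic.exists_complement hF (m := 0) (by norm_num) hh₀
  set W₀ : Submodule F (Fin 4 → F) := Submodule.span F (Set.range e₀)
  refine quotient_cover _ (H := stabW (line0 4 F)) (K := stabW W₀) (center_le_stabW hF (by norm_num) _)
    (center_le_stabW hF (by norm_num) _) (line0_ne_top hF (by norm_num)) ?_ fun g => ?_
  · refine stabW_ne_top hF (by norm_num) (w := e₀ 0) (z := f₀ 0) (Submodule.subset_span ⟨0, rfl⟩) ?_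
      (hli₀.ne_zero 0) (by rw [he₀, hh₀.2.1])
    intro hmem
    obtain ⟨c, hc⟩ := Submodule.mem_span_range_iff_exists_fun F |>.1 hmem
    have := hh₀.2.2 0 0
    rw [← hc, OrthUnitarySubspaces.herm_sum_left, if_pos rfl] at this
    simp [herm_smul_left, he₀] at this
  by_cases hns : ∃ (v : Fin 4 → F) (c : F), mt g *ᵥ v = c • v ∧ hermForm 4 F q v v ≠ 0
  · obtain ⟨x, hx⟩ := nonsingular_case hF (by norm_num) g hns
    exact ⟨x, Or.inl hx⟩
  push_neg at hns
  obtain ⟨x, y, hli, ⟨hxx, hxy, hyy⟩, hgx, hgy⟩ := exists_plane hF g hns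
  have hyx : hermForm 4 F q y x = 0 := by rw [herm_conj hF x y, hxy, zero_pow_q hF]
  obtain ⟨f, hh⟩ := OrthUnitaryIsotropic.exists_dual hF hli (fun i j => by fin_cases i <;> fin_cases j <;> assumption)
  obtain ⟨u, hw⟩ := OrthUnitaryIsotropic.exists_complement hF (m := 0) (by norm_num) hh
  obtain ⟨M, hM, hMw⟩ := OrthUnitaryIsotropic.exists_witt hF OrthUnitaryIsotropic.pairing_invol hw hw₀
    (OrthUnitaryIsotropic.card_idx (by norm_num))
  have hd := hM.det_pow hF
  have hd0 : M.det ≠ 0 := fun h => by simp [h] at hd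
  obtain ⟨c, hc0, hc⟩ : ∃ c : F, c ≠ 0 ∧ c = M.det⁻¹ * c ^ q := by
    by_cases hx1 : M.det⁻¹ = -1
    · obtain ⟨c, hc0, hc⟩ := exists_skew hF
      exact ⟨c, hc0, by rw [hx1]; linear_combination hc⟩
    · refine ⟨1 + M.det⁻¹, fun h => hx1 (by linear_combination h), ?_⟩
      have hx' : M.det⁻¹ * M.det⁻¹ ^ q = 1 := by rw [← pow_succ', inv_pow, hd, inv_one]
      rw [add_pow_q hF, one_pow, mul_add, mul_one, hx']
      ring
  have hcq : c ^ q ≠ 0 := pow_ne_zero _ hc0
  let dd : OrthUnitaryIsotropic.Idx 2 0 → F :=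
    Sum.elim (Sum.elim ![c, 1] ![(c ^ q)⁻¹, 1]) (fun i => i.elim0)
  have hddg : ∀ b, dd (OrthUnitaryIsotropic.pairing b) * dd b ^ q = 1 := by
    rintro ((i | i) | i)
    · fin_cases i <;> simp [dd, OrthUnitaryIsotropic.pairing, hcq]
    · fin_cases i <;> simp [dd, OrthUnitaryIsotropic.pairing, inv_pow, pow_q_q hF, hc0]
    · exact i.elim0
  obtain ⟨N, hN, hNw⟩ := OrthUnitaryIsotropic.exists_witt hF OrthUnitaryIsotropic.pairing_invol hw₀
    (OrthUnitaryIsotropic.gram_smul hw₀ hddg) (OrthUnitaryIsotropic.card_idx (by norm_num))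
  have hdetN : (N * M).det = 1 := by
    rw [Matrix.det_mul, OrthUnitaryIsotropic.det_scale OrthUnitaryIsotropic.pairing_invol hw₀
      (OrthUnitaryIsotropic.card_idx (by norm_num)) hNw]
    simp [dd, Fintype.prod_sum_type, Fin.prod_univ_two]
    rw [← div_eq_mul_inv]
    field_simp
    rw [inv_eq_one_div] at hc
    field_simp at hc
    linear_combination hc
  set S := mkSU (N * M) hdetN (hN.mul hM)
  have hS : ∀ i, mt S *ᵥ ![x, y] i = ![c, 1] i • e₀ i := fun i => by
    show (N * M) *ᵥ _ = _
    have h1 := hMw (.inl (.inl i))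
    have h2 := hNw (.inl (.inl i))
    simp only [OrthUnitaryIsotropic.frame, Sum.elim_inl] at h1 h2
    rw [← mulVec_mulVec, h1, h2]
    rfl
  refine ⟨S, Or.inr fun w hwm => ?_⟩
  have hmap : ∀ z ∈ Submodule.span F (Set.range ![x, y]), mt S *ᵥ z ∈ W₀ := by
    intro z hz
    obtain ⟨d, rfl⟩ := Submodule.mem_span_range_iff_exists_fun F |>.1 hz
    rw [Matrix.mulVec_sum]
    refine Submodule.sum_mem _ fun i _ => ?_
    rw [mulVec_smul, hS]
    exact W₀.smul_mem _ (W₀.smul_mem _ (Submodule.subset_span ⟨i, rfl⟩))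
  obtain ⟨d, rfl⟩ := Submodule.mem_span_range_iff_exists_fun F |>.1 hwm
  rw [Matrix.mulVec_sum]
  refine Submodule.sum_mem _ fun i _ => ?_
  rw [mulVec_smul]
  refine W₀.smul_mem _ ?_
  have hci : ![c, 1] i ≠ (0 : F) := by fin_cases i <;> simp [hc0]
  have hei : e₀ i = mt S *ᵥ ((![c, 1] i)⁻¹ • ![x, y] i) := by
    rw [mulVec_smul, hS, smul_smul, inv_mul_cancel₀ hci, one_smul]
  rw [hei, mt_mul, mt_mul, ← mulVec_mulVec, ← mulVec_mulVec, mulVec_mulVec _ (mt S⁻¹), mt_inv, one_mulVec,
    mulVec_smul]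
  rw [mulVec_smul]
  refine W₀.smul_mem _ (hmap _ ?_)
  fin_cases i
  · exact hgx
  · exact hgy

/-! ### `SU₃`, characteristic three -/

/-- the self-adjoint cubic field generator -/
def T₀ (c : F) : Matrix (Fin 3) (Fin 3) F := !![-c, -c, -c; -c, -1 - c, -c; -c, -c, 1 - c]

/-- the cyclic permutation -/
def cyc (F : Type*) [Field F] : Matrix (Fin 3) (Fin 3) F := !![0, 0, 1; 1, 0, 0; 0, 1, 0]

theorem T₀_root [CharP F 3] (c : F) : T₀ c ^ 3 - T₀ c - algebraMap F _ c = 0 := by
  ext i j
  fin_cases i <;> fin_cases j <;>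
    simp [T₀, pow_succ, Matrix.mul_apply, Fin.sum_univ_three, Matrix.algebraMap_matrix_apply] <;> grind

theorem cyc_T₀ [CharP F 3] (c : F) : cyc F * T₀ c = (T₀ c + 1) * cyc F := by
  ext i j
  fin_cases i <;> fin_cases j <;>
    simp [T₀, cyc, Matrix.mul_apply, Fin.sum_univ_three] <;> grind

/-- the normaliser of the cubic field -/
def normT [CharP F 3] (c : F) : Subgroup (SU 3 F q) :=
  mkSubgroup {g | ∃ k : F, k ^ 3 = k ∧ mt g * T₀ c = (T₀ c + algebraMap F _ k) * mt g}
    ⟨0, by simp, by
      show (1 : Matrix (Fin 3) (Fin 3) F) * T₀ c = (T₀ c + algebraMap F _ 0) * 1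
      simp⟩
    (by
      rintro a b ⟨k, hk, ha⟩ ⟨l, hl, hb⟩
      refine ⟨k + l, ?_, ?_⟩
      · rw [add_pow_char, hk, hl]
      · rw [mt_mul, mul_assoc, hb, ← mul_assoc, mul_add, ha, ← Algebra.commutes l (mt a), ← add_mul, ← mul_assoc,
          map_add, add_assoc])

theorem normT_ne_top [CharP F 3] (hF : Fintype.card F = q ^ 2) {c : F} (hc : ∀ x : F, x ^ 3 - x - c ≠ 0) :
    normT (q := q) c ≠ ⊤ := by
  intro h
  obtain ⟨l, hl, hl2⟩ := exists_normOne_sq_ne_one hF
  have hlF : (l : F) ^ (q + 1) = 1 := by rw [← Units.val_pow_eq_pow_val, hl, Units.val_one]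
  let d : Fin 3 → F := ![(l : F), (l : F)⁻¹, 1]
  have hd : (monMat 1 d).det = 1 := by
    rw [det_monMat, Fin.prod_univ_three]; simp [d]
  have hU : IsU q (monMat 1 d) := isU_monMat 1 (fun i => by
    fin_cases i <;> simp [d, inv_pow, hlF])
  obtain ⟨k, -, hk⟩ : mkSU _ hd hU ∈ normT (q := q) c := by rw [h]; exact Subgroup.mem_top _
  have hk' : monMat 1 d * T₀ c = (T₀ c + algebraMap F _ k) * monMat 1 d := hk
  have h01 := congrFun (congrFun hk' 0) 1
  have hc0 : c ≠ 0 := by rintro rfl; exact hc 0 (by simp)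
  simp [monMat, T₀, d, Matrix.algebraMap_matrix_apply, hc0] at h01
  apply hl2
  ext
  have h2 : (l : F) * (l : F) = 1 := by
    rw [← mul_inv_cancel₀ l.ne_zero]
    rw [mul_comm c] at h01
    rw [← mul_right_cancel₀ hc0 h01]
  simpa [sq] using h2

theorem exists_scalar_fix [CharP F 3] (hF : Fintype.card F = q ^ 2) {S : Matrix (Fin 3) (Fin 3) F} (hS : IsU q S) :
    ∃ t : F, t ≠ 0 ∧ IsU q (t • S) ∧ (t • S).det = 1 := by
  have hinj : Function.Injective fun x : F => x ^ 3 := fun a b h => by
    simpa using (frobenius F 3).injective (show frobenius F 3 a = frobenius F 3 b from h)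
  obtain ⟨t, ht⟩ := (Finite.injective_iff_surjective.1 hinj) S.det⁻¹
  simp only at ht
  have hd := hS.det_pow hF
  have hd0 : S.det ≠ 0 := fun h => by simp [h] at hd
  have ht1 : t ^ (q + 1) = 1 := hinj (by
    show (t ^ (q + 1)) ^ 3 = 1 ^ 3
    rw [← pow_mul, mul_comm, pow_mul, ht, inv_pow, hd, inv_one, one_pow])
  refine ⟨t, fun h => by simp [h] at ht1, fun u v => ?_, ?_⟩
  · rw [smul_mulVec, smul_mulVec, herm_smul_left, herm_smul_right, hS, ← mul_assoc, ← pow_succ', ht1, one_mul]
  · rw [Matrix.det_smul, Fintype.card_fin, ht, inv_mul_cancel₀ hd0]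

theorem cover_three (hF : Fintype.card F = q ^ 2) {a : ℕ} (ha : 1 ≤ a) (hq : q = 3 ^ a) :
    Cover (Cfsg.PSU 3 F q) := by
  classical
  obtain ⟨p, f, hp, hc', -, hq'⟩ := exists_prime_pow hF
  obtain rfl : p = 3 := by
    have : 3 ∣ p ^ f := by rw [← hq', hq]; exact dvd_pow_self 3 (by omega)
    exact ((Nat.prime_dvd_prime_iff_eq Nat.prime_three hp).1 (Nat.prime_three.dvd_of_dvd_pow this)).symm
  have hp3 : Fact (Nat.Prime 3) := ⟨hp⟩
  obtain ⟨σ, hσ, hσσ, c₁, hc₁⟩ := HermitianFactor.exists_conjugation hF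
  obtain ⟨c, hcq, hc⟩ : ∃ c : F, c ^ q = c ∧ ∀ x : F, x ^ 3 - x - c ≠ 0 := by
    let Fq : Finset F := Finset.univ.filter fun x => x ^ q = x
    have hmap : ∀ x ∈ Fq, x ^ 3 - x ∈ Fq := fun x hx => by
      simp only [Fq, Finset.mem_filter, Finset.mem_univ, true_and] at hx ⊢
      rw [sub_pow_q hF, pow_right_comm, hx]
    obtain ⟨c, hcmem, hc⟩ : ∃ c ∈ Fq, ∀ x ∈ Fq, x ^ 3 - x ≠ c := by
      by_contra hno
      push_neg at hno
      have hsub : Fq ⊆ Fq.image fun x => x ^ 3 - x := fun c hc => by
        obtain ⟨x, hx, hxc⟩ := hno c hc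
        exact Finset.mem_image.2 ⟨x, hx, hxc⟩
      have h0 : (0 : F) ∈ Fq := by simp [Fq, zero_pow_q hF]
      have h1 : (1 : F) ∈ Fq := by simp [Fq]
      exact zero_ne_one (Finset.card_image_iff.1 (le_antisymm Finset.card_image_le (Finset.card_le_card hsub)) h0 h1 (by simp))
    have hcq : c ^ q = c := by simpa [Fq] using hcmem
    refine ⟨c, hcq, fun x hx => ?_⟩
    have hxc : x ^ 3 = x + c := by linear_combination hx
    have hs : (x + x ^ q) ^ q = x + x ^ q := by rw [add_pow_q hF, pow_q_q hF, add_comm]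
    apply hc (-(x + x ^ q))
    · simp only [Fq, Finset.mem_filter, Finset.mem_univ, true_and]
      rw [neg_pow_q hF, hs]
    · have h3 : (x ^ q) ^ 3 = x ^ q + c := by rw [pow_right_comm, hxc, add_pow_q hF, hcq]
      rw [neg_pow, add_pow_char, hxc, h3]
      grind
  have hπdeg : (X ^ 3 - X - Polynomial.C c : F[X]).natDegree = 3 := by compute_degree!
  have hπ : Irreducible (X ^ 3 - X - Polynomial.C c : F[X]) :=
    irreducible_of_degree_le_three_of_not_isRoot (by rw [hπdeg]; simp) fun x hx => hc x (by simpa using hx)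
  have hTct : HermitianFactor.ct σ (T₀ c) = T₀ c := by
    ext i j
    fin_cases i <;> fin_cases j <;> simp [HermitianFactor.ct, T₀, hσ c, hcq]
  have hcent : Subgroup.center (SU 3 F q) ≤ normT c := fun g hg => by
    obtain ⟨t, ht⟩ := center_scalar hF (by norm_num) hg
    refine ⟨0, by simp, ?_⟩
    rw [ht, map_zero, add_zero]
    exact (Matrix.scalar_commute t (fun r => mul_comm t r) _).eq
  refine quotient_cover _ (H := stabW (line0 3 F)) (K := normT c) (center_le_stabW hF (by norm_num) _)
    hcent (line0_ne_top hF le_rfl) (normT_ne_top hF hc) fun g => ?_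
  by_cases hns : ∃ (v : Fin 3 → F) (d : F), mt g *ᵥ v = d • v ∧ hermForm 3 F q v v ≠ 0
  · obtain ⟨x, hx⟩ := nonsingular_case hF le_rfl g hns
    exact ⟨x, Or.inl hx⟩
  push_neg at hns
  set M := mt g with hMdef
  have hM : IsU q M := isU_of_mem_SU g
  -- conjugating into the normaliser
  suffices key : ∃ (S : Matrix (Fin 3) (Fin 3) F) (k : F), k ^ 3 = k ∧ IsU q S ∧
      ∃ M' : Matrix (Fin 3) (Fin 3) F, S * M = M' * S ∧ M' * T₀ c = (T₀ c + algebraMap F _ k) * M' by
    obtain ⟨S, k, hk, hS, M', hSM, hM'⟩ := key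
    obtain ⟨t, ht, hU, hd⟩ := exists_scalar_fix hF hS
    refine ⟨mkSU _ hd hU, Or.inr ⟨k, hk, ?_⟩⟩
    set x := mkSU _ hd hU
    have h1 : mt x * M = M' * mt x := by
      show (t • S) * M = M' * (t • S)
      rw [Matrix.smul_mul, Matrix.mul_smul, hSM]
    have h2 : mt (x * g * x⁻¹) = M' := by
      rw [mt_mul, mt_mul, ← hMdef, h1, mul_assoc, ← mt_mul, mul_inv_cancel]
      exact mul_one M'
    rw [h2, hM']
  by_cases he : ∃ r : F, M.charpoly.eval r = 0
  · obtain ⟨lam, hlam⟩ := he
    rw [Matrix.eval_charpoly] at hlam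
    obtain ⟨v, hv0, hv⟩ := exists_mulVec_eq_zero_iff.2 hlam
    rw [sub_mulVec, sub_eq_zero, scalar_apply, diagonal_const_mulVec] at hv
    replace hv : M *ᵥ v = lam • v := hv.symm
    have hvv := hns v lam hv
    obtain ⟨f, hh⟩ := OrthUnitaryIsotropic.exists_dual hF (e := fun _ : Fin 1 => v)
      (linearIndependent_unique_iff.2 hv0) (fun _ _ => hvv)
    obtain ⟨u, hw⟩ := OrthUnitaryIsotropic.exists_complement hF (m := 1) (by norm_num) hh
    set w := OrthUnitaryIsotropic.frame (fun _ : Fin 1 => v) f u with hwdef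
    have huv : hermForm 3 F q (u 0) v = 0 := by
      have := hw (.inr 0) (.inl (.inl 0)); simpa [OrthUnitaryIsotropic.frame, OrthUnitaryIsotropic.pairing, hwdef] using this
    have huf : hermForm 3 F q (u 0) (f 0) = 0 := by
      have := hw (.inr 0) (.inl (.inr 0)); simpa [OrthUnitaryIsotropic.frame, OrthUnitaryIsotropic.pairing, hwdef] using this
    have huu : hermForm 3 F q (u 0) (u 0) = 1 := by
      have := hw (.inr 0) (.inr 0); simpa [OrthUnitaryIsotropic.frame, OrthUnitaryIsotropic.pairing, hwdef] using this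
    have hfv : hermForm 3 F q (f 0) v = 1 := by simpa using hh.2.2 0 0
    have hff : hermForm 3 F q (f 0) (f 0) = 0 := hh.2.1 0 0
    have hvu : hermForm 3 F q v (u 0) = 0 := by rw [herm_conj hF (u 0) v, huv, zero_pow_q hF]
    have hfu : hermForm 3 F q (f 0) (u 0) = 0 := by rw [herm_conj hF (u 0) (f 0), huf, zero_pow_q hF]
    have hvf : hermForm 3 F q v (f 0) = 1 := by rw [herm_conj hF (f 0) v, hfv, one_pow]
    have hexp : ∀ x, x = hermForm 3 F q x (f 0) • v + hermForm 3 F q x v • f 0 + hermForm 3 F q x (u 0) • u 0 := by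
      intro x
      have := OrthUnitaryIsotropic.gram_expand hF OrthUnitaryIsotropic.pairing_invol hw
        (OrthUnitaryIsotropic.card_idx (by norm_num)) x
      simpa [Fintype.sum_sum_type, OrthUnitaryIsotropic.frame, OrthUnitaryIsotropic.pairing, hwdef] using this
    have hlam0 : lam ≠ 0 := by
      rintro rfl
      rw [zero_smul] at hv
      exact hv0 (eq_zero_of_herm_eq_zero hF fun x => by rw [← hM v x, hv]; simp [hermForm])
    set cc := hermForm 3 F q (M *ᵥ u 0) (f 0)
    set aa := hermForm 3 F q (M *ᵥ u 0) (u 0)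
    have hMu : M *ᵥ u 0 = cc • v + aa • u 0 := by
      have h := hM (u 0) v
      rw [hv, herm_smul_right, huv] at h
      conv_lhs => rw [hexp (M *ᵥ u 0), (mul_eq_zero.1 h).resolve_left (pow_ne_zero _ hlam0)]
      module
    set δ := hermForm 3 F q (M *ᵥ f 0) (f 0)
    set μ := hermForm 3 F q (M *ᵥ f 0) v
    set ε := hermForm 3 F q (M *ᵥ f 0) (u 0)
    have hMf : M *ᵥ f 0 = δ • v + μ • f 0 + ε • u 0 := hexp _
    have haa : aa * aa ^ q = 1 := by
      have h := hM (u 0) (u 0)
      simpa [hMu, herm_add_left, herm_add_right hF, herm_smul_left, herm_smul_right, hvv, hvu, huv, huu,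
        mul_comm] using h
    have haalam : aa = lam := by
      by_contra hne
      have hd : aa - lam ≠ 0 := sub_ne_zero.2 hne
      have := hns (u 0 + (cc / (aa - lam)) • v) aa (by
        rw [mulVec_add, mulVec_smul, hMu, hv]
        match_scalars <;> field_simp <;> ring)
      simp [herm_add_left, herm_add_right hF, herm_smul_left, herm_smul_right, hvv, hvu, huv, huu] at this
    have hμ : μ = lam := by
      have h := hM (f 0) v
      rw [hv, herm_smul_right, hfv] at h
      have h' : lam ^ q * μ = 1 := h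
      rw [haalam, mul_comm] at haa
      exact mul_left_cancel₀ (pow_ne_zero q hlam0) (h'.trans haa.symm)
    have hlam1 : lam = 1 := by
      let P : Matrix (Fin 3) (Fin 3) F := Matrix.of fun i j => (![v, u 0, f 0] j) i
      have hPd : P.det ≠ 0 := by
        have hli : LinearIndependent F ![v, u 0, f 0] := by
          rw [Fintype.linearIndependent_iff]
          intro t ht
          rw [Fin.sum_univ_three] at ht
          have e1 := congrArg (fun z => hermForm 3 F q z v) ht
          have e2 := congrArg (fun z => hermForm 3 F q z (u 0)) ht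
          have e3 := congrArg (fun z => hermForm 3 F q z (f 0)) ht
          simp [herm_add_left, herm_smul_left, hvv, huv, hfv, hvu, huu, hfu, hvf, huf, hff, OrthUnitaryTransvection.herm_zero_left] at e1 e2 e3
          intro i
          fin_cases i
          exacts [e3, e2, e1]
        have hP : IsUnit P := Matrix.linearIndependent_cols_iff_isUnit.1 hli
        exact ((Matrix.isUnit_iff_isUnit_det P).1 hP).ne_zero
      have hMP : M * P = P * !![lam, cc, δ; 0, lam, ε; 0, 0, lam] := by
        ext i j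
        fin_cases j
        · simpa [P, Matrix.mul_apply, mulVec, dotProduct, Fin.sum_univ_three, mul_comm] using congrFun hv i
        · simpa [P, Matrix.mul_apply, mulVec, dotProduct, Fin.sum_univ_three, mul_comm, haalam] using congrFun hMu i
        · have h := congrFun hMf i
          simp [hμ, mulVec, dotProduct, Fin.sum_univ_three] at h
          simp [P, Matrix.mul_apply, Fin.sum_univ_three]
          linear_combination h
      have h := congrArg Matrix.det hMP
      rw [det_mul, det_mul, show M.det = 1 from g.1.2, one_mul] at h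
      have h3 : lam ^ 3 = 1 ^ 3 := by
        have h' : P.det * 1 = P.det * lam ^ 3 := by
          rw [mul_one]
          refine h.trans (congrArg _ ?_)
          simp [Matrix.det_fin_three]
          ring
        rw [one_pow]; exact (mul_left_cancel₀ hPd h').symm
      exact (frobenius F 3).injective h3
    rw [haalam, hlam1] at hMu
    rw [hμ, hlam1] at hMf
    rw [hlam1, one_smul] at hv
    simp only [one_smul] at hMu hMf
    have hcc : cc = -ε ^ q := by
      have h := hM (u 0) (f 0)
      simp [hMu, hMf, herm_add_left, herm_add_right hF, herm_smul_left, herm_smul_right, hvv, hvu, huv, huu,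
        hvf, huf, hfu, hff] at h
      linear_combination h
    have hδ : δ + δ ^ q + ε * ε ^ q = 0 := by
      have h := hM (f 0) (f 0)
      simp [hMf, herm_add_left, herm_add_right hF, herm_smul_left, herm_smul_right, hvv, hvu, huv, huu,
        hvf, huf, hfu, hff, hfv] at h
      linear_combination h
    have hε : ε ≠ 0 := by
      intro h0
      have := hns (u 0) 1 (by rw [hMu, hcc, h0, zero_pow_q hF]; simp)
      rw [huu] at this
      exact one_ne_zero this
    obtain ⟨t, ht⟩ := exists_norm_eq hF (a := (-1 : F)) (by rw [neg_pow_q hF, one_pow])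
    rw [pow_succ'] at ht
    set α := t / ε
    have ht0 : t ≠ 0 := by rintro rfl; simp at ht
    have hαε : α * ε = t := div_mul_cancel₀ _ hε
    set W := α * α ^ q * δ ^ q + 1 with hWdef
    have hWq : W ^ q = -W := by
      have e : W ^ q = α ^ q * α * δ + 1 := by
        rw [hWdef, add_pow_q hF, mul_pow, mul_pow, pow_q_q hF, pow_q_q hF, one_pow]
      have e2 : α ^ q * ε ^ q = t ^ q := by rw [← mul_pow, hαε]
      rw [e, hWdef]
      have := congrArg (fun z => α * α ^ q * z) hδ
      simp only [mul_zero] at this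
      have e3 : α * α ^ q * (ε * ε ^ q) = -1 := by rw [← ht, ← hαε, mul_pow]; ring
      grind
    set β := -t * W with hβdef
    set R := 1 - β * β ^ q
    have hR : R ^ q = R := by
      simp only [R, sub_pow_q hF, one_pow, mul_pow, pow_q_q hF]; ring
    have hαn : α * α ^ q ≠ 0 := mul_ne_zero (div_ne_zero ht0 hε) (pow_ne_zero _ (div_ne_zero ht0 hε))
    set s := R / (2 * (α * α ^ q))
    have h2 : (2 : F) ≠ 0 := by
      intro h
      have h3 : ((3 : ℕ) : F) = 0 := CharP.cast_eq_zero F 3
      exact one_ne_zero (α := F) (by push_cast at h3; linear_combination h3 - h)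
    have h2q : (2 : F) ^ q = 2 := by rw [← one_add_one_eq_two, add_pow_q hF, one_pow]
    have hsq : s ^ q = s := by
      simp only [s, div_pow, mul_pow, hR, h2q, pow_q_q hF]; ring
    set x := α • f 0 + β • u 0 + (α * s) • v
    have hMx : M *ᵥ x = α • f 0 + (α * ε + β) • u 0 + (α * δ + β * cc + α * s) • v := by
      simp only [x, mulVec_add, mulVec_smul, hMf, hMu, hv]; module
    have hM3 : M *ᵥ (M *ᵥ (M *ᵥ x)) = x := by
      simp only [x, mulVec_add, mulVec_smul, hMf, hMu, hv]
      match_scalars <;> grind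
    have hxx : hermForm 3 F q x x = 1 := by
      simp only [x, herm_add_left, herm_add_right hF, herm_smul_left, herm_smul_right, hvv, hvu, huv, huu,
        hvf, huf, hfu, hff, hfv, mul_pow, hsq]
      have : s * (2 * (α * α ^ q)) = R := div_mul_cancel₀ _ (mul_ne_zero h2 hαn)
      simp only [R] at this
      linear_combination this
    have hxM : hermForm 3 F q x (M *ᵥ x) = 0 := by
      rw [hMx]
      simp only [x, herm_add_left, herm_add_right hF, herm_smul_left, herm_smul_right, hvv, hvu, huv, huu,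
        hvf, huf, hfu, hff, hfv, mul_pow, hsq, add_pow_q hF, hcc, neg_pow_q hF, pow_q_q hF]
      have : s * (2 * (α * α ^ q)) = R := div_mul_cancel₀ _ (mul_ne_zero h2 hαn)
      simp only [R] at this
      have e2 : α ^ q * ε ^ q = t ^ q := by rw [← mul_pow, hαε]
      have hβq : β ^ q = -(t ^ q) * W ^ q := by rw [hβdef, mul_pow, neg_pow_q hF]
      grind
    have hgram : ∀ i j : Fin 3, hermForm 3 F q (![x, M *ᵥ x, M *ᵥ (M *ᵥ x)] i)
        (![x, M *ᵥ x, M *ᵥ (M *ᵥ x)] j) = if i = id j then 1 else 0 := by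
      have h10 : hermForm 3 F q (M *ᵥ x) x = 0 := by rw [herm_conj hF x, hxM, zero_pow_q hF]
      have h21 : hermForm 3 F q (M *ᵥ (M *ᵥ x)) (M *ᵥ x) = 0 := by rw [hM]; exact h10
      have h12 : hermForm 3 F q (M *ᵥ x) (M *ᵥ (M *ᵥ x)) = 0 := by rw [hM]; exact hxM
      have h02 : hermForm 3 F q x (M *ᵥ (M *ᵥ x)) = 0 := by rw [← hM, hM3]; exact h10
      have h20 : hermForm 3 F q (M *ᵥ (M *ᵥ x)) x = 0 := by rw [herm_conj hF x, h02, zero_pow_q hF]
      have h11 : hermForm 3 F q (M *ᵥ x) (M *ᵥ x) = 1 := by rw [hM]; exact hxx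
      have h22 : hermForm 3 F q (M *ᵥ (M *ᵥ x)) (M *ᵥ (M *ᵥ x)) = 1 := by rw [hM]; exact h11
      intro i j; fin_cases i <;> fin_cases j <;> first | exact hxx | exact hxM | exact h02 | exact h10 | exact h11 | exact h12 | exact h20 | exact h21 | exact h22
    have hstd : OrthUnitaryIsotropic.IsGram q id (fun i : Fin 3 => (Pi.single i (1 : F) : Fin 3 → F)) :=
      fun i j => by rw [herm_single_self hF]; rfl
    obtain ⟨S, hS, hSw⟩ := OrthUnitaryIsotropic.exists_witt hF (σ := id) (fun _ => rfl)
      (w := ![x, M *ᵥ x, M *ᵥ (M *ᵥ x)]) hgram hstd (by simp)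
    refine ⟨S, 1, one_pow _, hS, cyc F, ?_, by rw [map_one]; exact cyc_T₀ c⟩
    refine OrthUnitaryIsotropic.mat_ext hF (σ := id) (fun _ => rfl)
      (w := ![x, M *ᵥ x, M *ᵥ (M *ᵥ x)]) hgram (by simp) fun i => ?_
    rw [← mulVec_mulVec, ← mulVec_mulVec, hSw]
    have hcyc : ∀ i : Fin 3, cyc F *ᵥ Pi.single i 1 = Pi.single (i + 1) 1 := by
      intro i; ext j; fin_cases i <;> fin_cases j <;> simp [cyc]
    rw [hcyc]
    fin_cases i
    · exact hSw 1
    · exact hSw 2
    · simp only [Fin.reduceFinMk, cons_val_two, tail_cons, head_cons]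
      rw [hM3]; exact hSw 0
  · push_neg at he
    have hmon := M.charpoly_monic
    have hdeg : M.charpoly.natDegree = 3 := by rw [Matrix.charpoly_natDegree_eq_dim, Fintype.card_fin]
    have hirr : Irreducible M.charpoly :=
      irreducible_of_degree_le_three_of_not_isRoot (by rw [hdeg]; simp) he
    have unit_or : ∀ d : F[X], aeval M d = 0 ∨ IsUnit (aeval M d) := fun d => by
      by_cases hd : M.charpoly ∣ d
      · obtain ⟨e, rfl⟩ := hd
        exact Or.inl (by rw [map_mul, M.aeval_self_charpoly, zero_mul])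
      · obtain ⟨e, e', hee⟩ := hirr.coprime_iff_not_dvd.2 hd
        refine Or.inr (isUnit_iff_exists_inv.2 ⟨aeval M e', ?_⟩)
        have := congrArg (aeval M) hee
        rw [map_add, map_mul, map_mul, M.aeval_self_charpoly, mul_zero, zero_add, map_one] at this
        rw [← map_mul, mul_comm, map_mul, this]
    obtain ⟨r, hr⟩ := exists_root_aeval M hπ hmon.ne_zero M.aeval_self_charpoly (fun P hP hdvd => by
      rw [hπdeg, ← hdeg, natDegree_eq_of_degree_eq (degree_eq_degree_of_associated (hP.associated_of_dvd hirr hdvd))])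
    set T := aeval M r with hTdef
    have hctM : HermitianFactor.ct σ M * M = 1 := by
      have := (HermitianFactor.mem_GU_iff hσ hσσ _).1 (mkGU hF M hM).2
      rwa [mkGU_coe] at this
    have hTm : T ∈ Algebra.adjoin F {M} := aeval_mem_adjoin_singleton F M
    have hctmem : HermitianFactor.ct σ M ∈ Algebra.adjoin F {M} := by
      let U : (Matrix (Fin 3) (Fin 3) F)ˣ := ⟨M, HermitianFactor.ct σ M, mul_eq_one_comm.1 hctM, hctM⟩
      exact HermitianFactor.inv_mem_of_finite _ U (Algebra.subset_adjoin rfl)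
    have hctT : HermitianFactor.ct σ T ∈ Algebra.adjoin F {M} :=
      HermitianFactor.adjoin_data (σ := σ) _ HermitianFactor.ct_add HermitianFactor.ct_mul
        HermitianFactor.ct_algebraMap hctmem T hTm
    have hT3 : T ^ 3 = T + algebraMap F _ c := by
      simp at hr
      linear_combination (norm := module) hr
    have hctT3 : HermitianFactor.ct σ T ^ 3 = HermitianFactor.ct σ T + algebraMap F _ c := by
      have h := congrArg (HermitianFactor.ct σ) hT3
      rw [HermitianFactor.ct_add, HermitianFactor.ct_algebraMap, hσ, hcq, pow_three, HermitianFactor.ct_mul,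
        HermitianFactor.ct_mul] at h
      rw [pow_three, ← mul_assoc, h]
    set D := HermitianFactor.ct σ T - T with hD
    have hD3 : D ^ 3 = D := by
      rw [hD, sub_pow_char_of_commute 3 (HermitianFactor.adjoin_comm hctT hTm), hT3, hctT3]
      abel
    obtain ⟨d, hd⟩ : ∃ d : F[X], aeval M d = D := by
      have : D ∈ Algebra.adjoin F {M} := sub_mem hctT hTm
      rwa [Algebra.adjoin_singleton_eq_range_aeval] at this
    obtain ⟨k, hk3, hDk⟩ : ∃ k : F, k ^ 3 = k ∧ D = algebraMap F _ k := by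
      rcases unit_or d with h | h
      · exact ⟨0, by simp, by rw [← hd, h, map_zero]⟩
      rw [hd] at h
      have hsq : (D - 1) * (D + 1) = 0 := by
        have e : (D - 1) * (D + 1) = D * D - 1 := by noncomm_ring
        rw [e]
        refine h.mul_right_eq_zero.1 ?_
        rw [mul_sub, mul_one, ← pow_three, hD3, sub_self]
      rcases unit_or (d - 1) with h1 | h1
      · exact ⟨1, one_pow _, by rw [map_one, ← sub_eq_zero, ← hd, ← h1, map_sub, map_one]⟩
      · rw [map_sub, map_one, hd] at h1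
        exact ⟨-1, by ring, by rw [map_neg, map_one, eq_neg_iff_add_eq_zero]; exact h1.mul_right_eq_zero.1 hsq⟩
    have hTsa : HermitianFactor.ct σ T = T := by
      have e1 : HermitianFactor.ct σ D = -D := by
        have h := HermitianFactor.ct_add (σ := σ) D T
        rw [show D + T = HermitianFactor.ct σ T by rw [hD]; abel, HermitianFactor.ct_ct hσσ] at h
        rw [hD] at h ⊢
        linear_combination (norm := module) -h
      rw [hDk, HermitianFactor.ct_algebraMap] at e1
      have h3b : ∀ b : ℕ, k ^ 3 ^ b = k := fun b => by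
        induction b with
        | zero => simp
        | succ i ih => rw [pow_succ, pow_mul, ih, hk3]
      have hk : σ k = k := by rw [hσ, hq, h3b]
      rw [hk, ← map_neg] at e1
      have e2 : k = -k := (algebraMap F (Matrix (Fin 3) (Fin 3) F)).injective e1
      have : k = 0 := by grind
      rw [this, map_zero] at hDk
      exact sub_eq_zero.1 hDk
    obtain ⟨J₀, -, hJ⟩ := Cover2SL53.exists_model hπ le_rfl (show 3 = 1 * _ by rw [hπdeg])
    obtain ⟨P, hP⟩ := hJ T hr
    obtain ⟨Q, hQ⟩ := hJ (T₀ c) (by simpa using T₀_root c)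
    have hQi := Cover2SL53.inv_cm Q
    set S₀ : Matrix (Fin 3) (Fin 3) F := (Q⁻¹).1 * P.1
    have hS₀ : S₀ * T = T₀ c * S₀ := by
      calc S₀ * T = (Q⁻¹).1 * (P.1 * T) := mul_assoc _ _ _
        _ = (Q⁻¹).1 * (Q.1 * T₀ c * (Q⁻¹).1 * P.1) := by
            rw [hP, hQ, mul_assoc J₀ Q.1, Cover2SL53.cm_inv, mul_one]
        _ = T₀ c * S₀ := by
            simp only [← mul_assoc]
            rw [hQi, one_mul, mul_assoc]
    have hS₀u : IsUnit S₀ := by
      rw [Matrix.isUnit_iff_isUnit_det, det_mul, (Q⁻¹).2, P.2, one_mul]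
      exact isUnit_one
    clear_value S₀
    set H := HermitianFactor.ct σ S₀ * S₀
    have hHT : Commute H T := by
      have h := congrArg (HermitianFactor.ct σ) hS₀
      rw [HermitianFactor.ct_mul S₀ T, HermitianFactor.ct_mul (T₀ c) S₀, hTsa, hTct] at h
      show H * T = T * H
      rw [mul_assoc, hS₀, ← mul_assoc, ← mul_assoc, h]
    obtain ⟨C, hC, hCu, hCC⟩ := HermitianFactor.exists_factor hσσ c₁ hc₁ ((HermitianFactor.isUnit_ct hS₀u).mul hS₀u)
      (by rw [HermitianFactor.ct_mul, HermitianFactor.ct_ct hσσ])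
    have hCT : Commute T C := by
      rw [Algebra.adjoin_singleton_eq_range_aeval] at hC
      obtain ⟨e, rfl⟩ := hC
      exact Algebra.commute_of_mem_adjoin_singleton_of_commute (aeval_mem_adjoin_singleton F H) hHT.symm
    obtain ⟨Cu, rfl⟩ := hCu
    set Ci : Matrix (Fin 3) (Fin 3) F := ((Cu⁻¹ : (Matrix (Fin 3) (Fin 3) F)ˣ) : Matrix (Fin 3) (Fin 3) F)
    set U := S₀ * Ci
    have hUU : HermitianFactor.ct σ U * U = 1 := by
      have e : HermitianFactor.ct σ Ci * HermitianFactor.ct σ (Cu : Matrix (Fin 3) (Fin 3) F) = 1 := by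
        rw [← HermitianFactor.ct_mul, Units.mul_inv, HermitianFactor.ct_one]
      calc HermitianFactor.ct σ U * U = HermitianFactor.ct σ Ci * H * Ci := by
            rw [show HermitianFactor.ct σ U = HermitianFactor.ct σ Ci * HermitianFactor.ct σ S₀ from
              HermitianFactor.ct_mul _ _]
            simp only [H, U, mul_assoc]
        _ = 1 := by
            rw [show H = HermitianFactor.ct σ (Cu : Matrix (Fin 3) (Fin 3) F) * Cu from hCC.symm, ← mul_assoc, e,
              one_mul, Units.mul_inv]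
    have hUIsU : IsU q U := by
      let Ug : GL (Fin 3) F := ⟨U, HermitianFactor.ct σ U, mul_eq_one_comm.1 hUU, hUU⟩
      exact isU_of_mem ⟨Ug, (HermitianFactor.mem_GU_iff hσ hσσ Ug).2 hUU⟩
    have hUT : U * T = T₀ c * U := by
      have h : Commute T Ci := hCT.units_inv_right
      rw [mul_assoc, ← h.eq, ← mul_assoc, hS₀, mul_assoc]
    have hUg := (hUIsU.isUnit hF)
    obtain ⟨Uu, hUu⟩ := hUg
    refine ⟨U, 0, by simp, hUIsU, U * M * ((Uu⁻¹ : (Matrix (Fin 3) (Fin 3) F)ˣ) : Matrix (Fin 3) (Fin 3) F), ?_, ?_⟩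
    · rw [← hUu, mul_assoc, Units.inv_mul, mul_one]
    · rw [map_zero, add_zero]
      have hMT : Commute M T := by
        have := (Commute.all (X : F[X]) r).map (aeval M)
        rwa [aeval_X] at this
      have hT' : ((Uu⁻¹ : (Matrix (Fin 3) (Fin 3) F)ˣ) : Matrix (Fin 3) (Fin 3) F) * T₀ c =
          T * ((Uu⁻¹ : (Matrix (Fin 3) (Fin 3) F)ˣ) : Matrix (Fin 3) (Fin 3) F) := by
        rw [Units.inv_mul_eq_iff_eq_mul, ← mul_assoc, Units.eq_mul_inv_iff_mul_eq, hUu]
        exact hUT.symm
      rw [mul_assoc, hT', ← mul_assoc, mul_assoc U M T, hMT.eq, ← mul_assoc, hUT]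
      simp only [mul_assoc]

end Cfsg.Agent.Cover2SU53
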