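import Cfsg.Prelude.Def_Classical
import Cfsg.Agent.Lib.Cover2Common53

/-!
Every element of `Sp_{2m}(F)`, `F` of characteristic two, fixes a quadratic form polarising to the alternating
form, and there are two orbits of such forms; a single transvection realises each equivalence.
-/

set_option autoImplicit false
set_option linter.unusedSectionVars false

namespace Cfsg.Agent.Cover2SpEven53

open Matrix Cfsg.Agent.Cover2Common53

variable {F : Type*} [Field F] [Fintype F] [CharP F 2] {m : ℕ}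

/-- vectors of the natural module -/
abbrev V (m : ℕ) (F : Type*) : Type _ := Fin m ⊕ Fin m → F

/-- the alternating form -/
def B (x y : V m F) : F := x ⬝ᵥ Matrix.J (Fin m) F *ᵥ y

theorem B_def (x y : V m F) :
    B x y = ∑ i, (x (Sum.inl i) * y (Sum.inr i) + x (Sum.inr i) * y (Sum.inl i)) := by
  simp [B, dotProduct, Matrix.J, fromBlocks_mulVec, Finset.sum_add_distrib, neg_mulVec,
    CharTwo.neg_eq]

theorem B_symm (x y : V m F) : B x y = B y x := by
  rw [B_def, B_def]; exact Finset.sum_congr rfl fun i _ => by ring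

theorem B_self (x : V m F) : B x x = 0 := by
  rw [B_def]; exact Finset.sum_eq_zero fun i _ => by rw [mul_comm, CharTwo.add_self_eq_zero]

theorem B_add (x y z : V m F) : B (x + y) z = B x z + B y z := by
  rw [B, B, B, add_dotProduct]

theorem B_smul (c : F) (x z : V m F) : B (c • x) z = c * B x z := by
  rw [B, B, smul_dotProduct, smul_eq_mul]

theorem B_add_right (x y z : V m F) : B x (y + z) = B x y + B x z := by
  rw [B_symm, B_add, B_symm y, B_symm z]

theorem B_smul_right (c : F) (x z : V m F) : B x (c • z) = c * B x z := by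
  rw [B_symm, B_smul, B_symm]

theorem B_mem {A : Matrix (Fin m ⊕ Fin m) (Fin m ⊕ Fin m) F} (h : A ∈ symplecticGroup (Fin m) F)
    (x y : V m F) : B (A *ᵥ x) (A *ᵥ y) = B x y := by
  have h' := SymplecticGroup.mem_iff.1 (SymplecticGroup.transpose_mem h)
  rw [transpose_transpose] at h'
  rw [B, B, dotProduct_mulVec, ← vecMul_transpose, vecMul_vecMul, ← dotProduct_mulVec, mulVec_mulVec, h']

theorem mem_of_B {A : Matrix (Fin m ⊕ Fin m) (Fin m ⊕ Fin m) F}
    (h : ∀ x y, B (A *ᵥ x) (A *ᵥ y) = B x y) : A ∈ symplecticGroup (Fin m) F := by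
  rw [← transpose_transpose A]
  refine SymplecticGroup.transpose_mem (SymplecticGroup.mem_iff.2 ?_)
  rw [transpose_transpose]
  ext i j
  have h' := h (Pi.single i 1) (Pi.single j 1)
  rw [B, B, dotProduct_mulVec, ← vecMul_transpose, vecMul_vecMul, ← dotProduct_mulVec, mulVec_mulVec] at h'
  simpa [mul_assoc] using h'

theorem exists_B (φ : Module.Dual F (V m F)) : ∃ u : V m F, ∀ x, φ x = B x u := by
  obtain ⟨v, hv⟩ : ∃ v : V m F, ∀ x, φ x = x ⬝ᵥ v := by
    refine ⟨fun i => φ (Pi.single i 1), fun x => ?_⟩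
    conv_lhs => rw [pi_eq_sum_univ' x]
    simp [dotProduct]
  refine ⟨Matrix.J (Fin m) F *ᵥ v, fun x => ?_⟩
  rw [hv, B, mulVec_mulVec, J_squared]
  simp [neg_mulVec, CharTwo.neg_eq]

/-- the hyperbolic quadratic form -/
abbrev Q0 (x : V m F) : F := Cfsg.quadFormPlus m F x

theorem Q0_add (x y : V m F) : Q0 (x + y) = Q0 x + Q0 y + B x y := by
  simp only [Q0, Cfsg.quadFormPlus, B_def, ← Finset.sum_add_distrib, Pi.add_apply]
  exact Finset.sum_congr rfl fun i _ => by ring

theorem Q0_smul (c : F) (x : V m F) : Q0 (c • x) = c ^ 2 * Q0 x := by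
  simp only [Q0, Cfsg.quadFormPlus, Finset.mul_sum, Pi.smul_apply, smul_eq_mul]
  exact Finset.sum_congr rfl fun i _ => by ring

/-- the form attached to a vector -/
def Qu (u x : V m F) : F := Q0 x + B x u ^ 2

theorem Qu_add (u x y : V m F) : Qu u (x + y) = Qu u x + Qu u y + B x y := by
  rw [Qu, Qu, Qu, Q0_add, B_add, CharTwo.add_sq]; ring

theorem Qu_smul (u : V m F) (c : F) (x : V m F) : Qu u (c • x) = c ^ 2 * Qu u x := by
  rw [Qu, Qu, Q0_smul, B_smul]; ring

theorem exists_sqrt (x : F) : ∃ y : F, y ^ 2 = x := by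
  have hs : Function.Surjective fun y : F => y ^ 2 := by
    rw [← Finite.injective_iff_surjective]
    intro a b h
    exact sub_eq_zero.1 (sq_eq_zero_iff.1 (by rw [CharTwo.sub_eq_add, CharTwo.add_sq]; simp only at h; rw [h, CharTwo.add_self_eq_zero]))
  exact hs x

/-- every symplectic matrix fixes a form -/
theorem exists_fixed (A : symplecticGroup (Fin m) F) : ∃ u : V m F, ∀ x, Qu u (A.1 *ᵥ x) = Qu u x := by
  classical
  choose s hs using exists_sqrt (F := F)
  have inj : ∀ a b : F, a ^ 2 = b ^ 2 → a = b := fun a b h =>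
    sub_eq_zero.1 (sq_eq_zero_iff.1 (by rw [CharTwo.sub_eq_add, CharTwo.add_sq, h, CharTwo.add_self_eq_zero]))
  let d : Module.Dual F (V m F) :=
    { toFun := fun x => s (Q0 (A.1 *ᵥ x) + Q0 x)
      map_add' := fun x y => inj _ _ (by
        rw [CharTwo.add_sq, hs, hs, hs, mulVec_add, Q0_add, Q0_add, B_mem A.2]
        linear_combination (CharTwo.add_self_eq_zero (B x y)))
      map_smul' := fun c x => inj _ _ (by
        rw [RingHom.id_apply, smul_eq_mul, mul_pow, hs, hs, mulVec_smul, Q0_smul, Q0_smul]; ring) }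
  let L : V m F →ₗ[F] V m F := Matrix.toLin' A.1 - LinearMap.id
  have hd : d ∈ (LinearMap.ker L).dualAnnihilator := by
    rw [Submodule.mem_dualAnnihilator]
    intro x hx
    have hx' : A.1 *ᵥ x = x := sub_eq_zero.1 (by simpa [L, LinearMap.mem_ker] using hx)
    refine inj _ _ ?_
    show s (Q0 (A.1 *ᵥ x) + Q0 x) ^ 2 = _
    rw [hs, hx', CharTwo.add_self_eq_zero]
    simp
  rw [← LinearMap.range_dualMap_eq_dualAnnihilator_ker] at hd
  obtain ⟨ℓ, hℓ⟩ := hd
  obtain ⟨u, hu⟩ := exists_B ℓ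
  refine ⟨u, fun x => ?_⟩
  have h := congrArg (fun f : Module.Dual F (V m F) => f x ^ 2) hℓ
  simp only [LinearMap.dualMap_apply, L, LinearMap.sub_apply, LinearMap.id_apply, Matrix.toLin'_apply,
    map_sub, hu] at h
  rw [show d x = s (Q0 (A.1 *ᵥ x) + Q0 x) from rfl, hs, sub_eq_add_neg, ← neg_one_smul F x, B_add,
    B_smul, CharTwo.neg_eq, one_mul, CharTwo.add_sq] at h
  unfold Qu
  linear_combination h + (Q0 (A.1 *ᵥ x) - B x u ^ 2) * (CharP.cast_eq_zero F 2 : ((2 : ℕ) : F) = 0)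

/-- a transvection -/
def tv (a : V m F) : symplecticGroup (Fin m) F :=
  ⟨1 + vecMulVec a (Matrix.J (Fin m) F *ᵥ a), mem_of_B fun x y => by
    have h : ∀ x : V m F, (1 + vecMulVec a (Matrix.J (Fin m) F *ᵥ a)) *ᵥ x = x + B x a • a := fun x => by
      rw [add_mulVec, one_mulVec, vecMulVec_mulVec, dotProduct_comm]
      funext i; simp [B, mul_comm]
    rw [h, h, B_add, B_add_right, B_add_right, B_smul, B_smul, B_smul_right, B_smul_right, B_self,
      B_symm a y]
    linear_combination CharTwo.add_self_eq_zero (B x a * B y a)⟩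

theorem tv_apply (a x : V m F) : (tv a).1 *ᵥ x = x + B x a • a := by
  show (1 + vecMulVec a (Matrix.J (Fin m) F *ᵥ a)) *ᵥ x = _
  rw [add_mulVec, one_mulVec, vecMulVec_mulVec, dotProduct_comm]
  funext i; simp [B, mul_comm]

theorem Qu_tv (u a x : V m F) : Qu u ((tv a).1 *ᵥ x) = Qu u x + B x a ^ 2 * (1 + Qu u a) := by
  rw [tv_apply, Qu_add, Qu_smul, B_smul_right]; ring

/-- `u` and `w` give equivalent forms when the Arf invariant agrees -/
theorem exists_conj {u w : V m F} (h : ∃ c : F, c ^ 2 + c = Qu u (u + w)) :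
    ∃ T : symplecticGroup (Fin m) F, ∀ x, Qu u (T.1 *ᵥ x) = Qu w x := by
  obtain ⟨c₀, hc₀⟩ := h
  obtain ⟨r, hr, hr0⟩ : ∃ r : F, r ^ 2 + r = Qu u (u + w) ∧ r ≠ 0 := by
    by_cases h0 : c₀ = 0
    · refine ⟨1, ?_, one_ne_zero⟩
      rw [← hc₀, h0]; simp [CharTwo.add_self_eq_zero]
    · exact ⟨c₀, hc₀, h0⟩
  obtain ⟨t, ht⟩ := exists_sqrt r⁻¹
  refine ⟨tv (t • (u + w)), fun x => ?_⟩
  rw [Qu_tv, Qu_smul, B_smul_right, ← hr, mul_pow, ht]
  have e : r⁻¹ * (1 + r⁻¹ * (r ^ 2 + r)) = 1 := by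
    field_simp
    linear_combination CharTwo.add_self_eq_zero (1 : F)
  rw [B_add_right, CharTwo.add_sq]
  unfold Qu
  linear_combination (B x u ^ 2 + B x w ^ 2) * e + CharTwo.add_self_eq_zero (B x u ^ 2)

/-- the stabiliser of a form -/
def stab (u : V m F) : Subgroup (symplecticGroup (Fin m) F) where
  carrier := {A | ∀ x, Qu u (A.1 *ᵥ x) = Qu u x}
  one_mem' x := congrArg (Qu u) (one_mulVec x)
  mul_mem' := by
    intro a b ha hb x
    show Qu u ((a.1 * b.1) *ᵥ x) = _
    rw [← mulVec_mulVec, ha, hb]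
  inv_mem' := by
    intro a ha x
    have h := ha ((a⁻¹).1 *ᵥ x)
    rw [mulVec_mulVec, show a.1 * (a⁻¹).1 = 1 from congrArg Subtype.val (mul_inv_cancel a), one_mulVec] at h
    exact h.symm

theorem exists_B_one {a : V m F} (ha : a ≠ 0) : ∃ x, B x a = 1 := by
  obtain ⟨x, hx⟩ : ∃ x, B x a ≠ 0 := by
    by_contra hx
    push_neg at hx
    apply ha
    funext i
    rcases i with i | i
    · simpa [B_def, Pi.single_apply] using hx (Pi.single (Sum.inr i) 1)
    · simpa [B_def, Pi.single_apply] using hx (Pi.single (Sum.inl i) 1)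
  exact ⟨(B x a)⁻¹ • x, by rw [B_smul, inv_mul_cancel₀ hx]⟩

theorem center_le (H : Subgroup (symplecticGroup (Fin m) F)) :
    Subgroup.center (symplecticGroup (Fin m) F) ≤ H := by
  intro A hA
  suffices A = 1 by rw [this]; exact H.one_mem
  have key : ∀ a : V m F, a ≠ 0 → ∃ c : F, A.1 *ᵥ a = c • a := by
    intro a ha
    obtain ⟨x, hx⟩ := exists_B_one ha
    have h := congrArg (fun g : symplecticGroup (Fin m) F => g.1 *ᵥ x) (Subgroup.mem_center_iff.1 hA (tv a))
    change ((tv a).1 * A.1) *ᵥ x = (A.1 * (tv a).1) *ᵥ x at h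
    rw [← mulVec_mulVec, ← mulVec_mulVec, tv_apply, tv_apply, hx, one_smul, mulVec_add] at h
    exact ⟨B (A.1 *ᵥ x) a, (add_left_cancel h).symm⟩
  have fixed : ∀ a : V m F, a ≠ 0 → A.1 *ᵥ a = a := by
    intro a ha
    obtain ⟨x, hx⟩ := exists_B_one ha
    have hx0 : x ≠ 0 := by rintro rfl; simp [B] at hx
    obtain ⟨c, hc⟩ := key a ha
    obtain ⟨d, hd⟩ := key x hx0
    have hsum : x + a ≠ 0 := by
      intro h0
      have : x = a := by funext i; exact CharTwo.add_eq_zero.1 (congrFun h0 i)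
      rw [this, B_self] at hx
      exact zero_ne_one hx
    obtain ⟨e, he⟩ := key _ hsum
    rw [mulVec_add, hc, hd, smul_add] at he
    have h1 := congrArg (fun v => B v a) he
    have h2 := congrArg (fun v => B x v) he
    simp only [B_add, B_add_right, B_smul, B_smul_right, B_self, hx, mul_zero, add_zero, zero_add,
      mul_one] at h1 h2
    have h3 := B_mem A.2 x a
    rw [hc, hd, B_smul, B_smul_right, hx, mul_one, h1, ← h2] at h3
    rw [hc]
    have : c = 1 := sub_eq_zero.1 (sq_eq_zero_iff.1 (by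
      rw [CharTwo.sub_eq_add, CharTwo.add_sq, sq c, h3, one_pow, CharTwo.add_self_eq_zero]))
    rw [this, one_smul]
  apply Subtype.ext
  apply Matrix.ext_of_mulVec_single
  intro i
  show A.1 *ᵥ _ = (1 : Matrix _ _ F) *ᵥ _
  rw [one_mulVec]
  exact fixed _ (fun h => one_ne_zero (α := F) (by simpa using congrFun h i))

theorem stab_ne_top (hm : 2 ≤ m) (u : V m F) : stab u ≠ ⊤ := by
  intro h
  obtain ⟨a, ha0, ha⟩ : ∃ a : V m F, a ≠ 0 ∧ Qu u a ≠ 1 := by
    by_contra hc
    push_neg at hc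
    let a : V m F := Pi.single (Sum.inl ⟨0, by omega⟩) 1
    let b : V m F := Pi.single (Sum.inl ⟨1, by omega⟩) 1
    have hab : B a b = 0 := by simp [a, b, B_def, Pi.single_apply]
    have h1 : a ≠ 0 := fun e => one_ne_zero (α := F) (by simpa [a] using congrFun e (Sum.inl ⟨0, by omega⟩))
    have h2 : b ≠ 0 := fun e => one_ne_zero (α := F) (by simpa [b] using congrFun e (Sum.inl ⟨1, by omega⟩))
    have h3 : a + b ≠ 0 := fun e => one_ne_zero (α := F)
      (by simpa [a, b, Fin.ext_iff] using congrFun e (Sum.inl ⟨0, by omega⟩))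
    have := hc _ h3
    rw [Qu_add, hab, hc a h1, hc b h2, add_zero, CharTwo.add_self_eq_zero] at this
    exact zero_ne_one this
  obtain ⟨x, hx⟩ := exists_B_one ha0
  have h' : tv a ∈ stab u := by rw [h]; exact Subgroup.mem_top _
  have h1 := h' x
  rw [Qu_tv, hx, one_pow, one_mul] at h1
  replace h1 := CharTwo.add_eq_zero.1 (add_eq_left.1 h1)
  exact ha h1.symm

theorem cover (hm : 2 ≤ m) : Cover (Cfsg.PSp m F) := by
  classical
  obtain ⟨ν, hν⟩ := exists_no_root (F := F) (k := 2) two_ne_zero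
  have hν' : ∀ c : F, c ^ 2 + c ≠ ν := fun c h => hν c (by
    rw [CharTwo.sub_eq_add, CharTwo.sub_eq_add, h, CharTwo.add_self_eq_zero])
  have hindex : ∀ z : F, (∃ c, c ^ 2 + c = z) ∨ ∃ c, c ^ 2 + c = z + ν := by
    let f : F →+ F :=
      { toFun := fun c => c ^ 2 + c
        map_zero' := by simp
        map_add' := fun a b => by rw [CharTwo.add_sq]; ring }
    have hker : Nat.card f.ker = 2 := by
      have h1 : (f.ker : Set F) = {0, 1} := by
        ext c
        show c ^ 2 + c = 0 ↔ c ∈ ({0, 1} : Set F)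
        rw [show c ^ 2 + c = c * (c + 1) by ring, mul_eq_zero, CharTwo.add_eq_zero]
        simp
      rw [← SetLike.coe_sort_coe, h1, Nat.card_coe_set_eq, Set.ncard_pair zero_ne_one]
    have hidx : f.range.index = 2 := by
      have h1 := AddSubgroup.card_mul_index f.ker
      have h2 := AddSubgroup.card_mul_index f.range
      rw [AddSubgroup.index_ker, hker] at h1
      have h3 : 0 < Nat.card f.range := Nat.card_pos
      nlinarith
    intro z
    by_cases hz : ∃ c, c ^ 2 + c = z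
    · exact Or.inl hz
    · refine Or.inr ?_
      have := (AddSubgroup.add_mem_iff_of_index_two hidx (a := z) (b := ν)).2
        (iff_of_false (fun h => hz h) (fun h => by obtain ⟨c, hc⟩ := h; exact hν' c hc))
      exact this
  let i0 : Fin m := ⟨0, by omega⟩
  let u₁ : V m F := Pi.single (Sum.inl i0) ν + Pi.single (Sum.inr i0) 1
  have hu₁ : Q0 u₁ = ν := by
    simp [Q0, Cfsg.quadFormPlus, u₁, Pi.single_apply]
  clear_value u₁
  refine quotient_cover _ (H := stab (0 : V m F)) (K := stab u₁) (center_le _) (center_le _)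
    (stab_ne_top hm _) (stab_ne_top hm _) fun A => ?_
  obtain ⟨u, hu⟩ := exists_fixed A
  have hB0 : ∀ x : V m F, B x 0 = 0 := fun x => by simp [B]
  have fin : ∀ u' : V m F, (∃ c : F, c ^ 2 + c = Qu u' (u' + u)) → ∃ T, T * A * T⁻¹ ∈ stab u' := by
    intro u' h
    obtain ⟨T, hT⟩ := exists_conj h
    refine ⟨T, fun x => ?_⟩
    show Qu u' ((T.1 * A.1 * (T⁻¹).1) *ᵥ x) = _
    rw [← mulVec_mulVec, ← mulVec_mulVec, hT, hu, ← hT, mulVec_mulVec,
      show T.1 * (T⁻¹).1 = 1 from congrArg Subtype.val (mul_inv_cancel T), one_mulVec]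
  rcases hindex (Q0 u) with ⟨c, hc⟩ | ⟨c, hc⟩
  · obtain ⟨T, hT⟩ := fin 0 ⟨c, by rw [zero_add, Qu, hB0, hc]; simp⟩
    exact ⟨T, Or.inl hT⟩
  · obtain ⟨T, hT⟩ := fin u₁ ⟨c + B u u₁, by
      rw [Qu, Q0_add, B_add, B_self, zero_add, B_symm u₁ u, hu₁, CharTwo.add_sq]
      linear_combination hc⟩
    exact ⟨T, Or.inr hT⟩

end Cfsg.Agent.Cover2SpEven53
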