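import Cfsg.Prelude.Def_Classical
import Cfsg.Agent.Lib.Cover2Common53
import Cfsg.Agent.Lib.Cover2SU53
import Cfsg.Agent.Lib.Witt

/-!
`Sp₆(3^a)` is covered by the stabiliser of a non-degenerate plane and the normaliser of a self-adjoint cubic field.
-/

set_option autoImplicit false
set_option linter.unusedSectionVars false

namespace Cfsg.Agent.Cover2SpSix53

open Matrix Polynomial Cfsg.Agent.Cover2Common53
open Cfsg.Agent.Cover2SU53 (cyc T₀ T₀_root cyc_T₀)

variable {F : Type*} [Field F] [Fintype F] [CharP F 3]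

/-- the natural module -/
abbrev V (F : Type*) : Type _ := Fin 3 ⊕ Fin 3 → F

/-- six by six matrices -/
abbrev Mat (F : Type*) : Type _ := Matrix (Fin 3 ⊕ Fin 3) (Fin 3 ⊕ Fin 3) F

/-- the alternating form -/
def B (x y : V F) : F := x ⬝ᵥ Matrix.J (Fin 3) F *ᵥ y

theorem B_def (x y : V F) :
    B x y = ∑ i, (x (Sum.inr i) * y (Sum.inl i) - x (Sum.inl i) * y (Sum.inr i)) := by
  simp [B, dotProduct, Matrix.J, fromBlocks_mulVec, neg_mulVec, Finset.sum_sub_distrib]
  ring

theorem B_swap (x y : V F) : B y x = -B x y := by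
  rw [B_def, B_def, ← Finset.sum_neg_distrib]; exact Finset.sum_congr rfl fun i _ => by ring

theorem B_self (x : V F) : B x x = 0 := by
  rw [B_def]; exact Finset.sum_eq_zero fun i _ => by ring

theorem B_add_left (x y z : V F) : B (x + y) z = B x z + B y z := by rw [B, B, B, add_dotProduct]

theorem B_smul_left (c : F) (x z : V F) : B (c • x) z = c * B x z := by
  rw [B, B, smul_dotProduct, smul_eq_mul]

theorem B_add_right (x y z : V F) : B x (y + z) = B x y + B x z := by
  rw [B, B, B, mulVec_add, dotProduct_add]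

theorem B_smul_right (c : F) (x z : V F) : B x (c • z) = c * B x z := by
  rw [B, B, mulVec_smul, dotProduct_smul, smul_eq_mul]

theorem B_zero_left (z : V F) : B 0 z = 0 := by simp [B]

theorem B_zero_right (z : V F) : B z 0 = 0 := by simp [B]

theorem B_sub_left (x y z : V F) : B (x - y) z = B x z - B y z := by rw [B, B, B, sub_dotProduct]

theorem B_sub_right (x y z : V F) : B x (y - z) = B x y - B x z := by
  rw [B, B, B, mulVec_sub, dotProduct_sub]

theorem B_neg_left (x z : V F) : B (-x) z = -B x z := by rw [B, B, neg_dotProduct]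

theorem B_neg_right (x z : V F) : B x (-z) = -B x z := by rw [B, B, mulVec_neg, dotProduct_neg]

theorem B_sum_left {ι : Type*} (s : Finset ι) (f : ι → V F) (z : V F) :
    B (∑ i ∈ s, f i) z = ∑ i ∈ s, B (f i) z := by
  simp only [B, sum_dotProduct]

theorem B_sum_right {ι : Type*} (s : Finset ι) (f : ι → V F) (z : V F) :
    B z (∑ i ∈ s, f i) = ∑ i ∈ s, B z (f i) := by
  simp only [B, Matrix.mulVec_sum, dotProduct_sum]

theorem B_nondeg {x : V F} (h : ∀ y, B x y = 0) : x = 0 := by
  funext i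
  rcases i with i | i
  · simpa [B_def, Pi.single_apply] using h (Pi.single (Sum.inr i) 1)
  · simpa [B_def, Pi.single_apply] using h (Pi.single (Sum.inl i) 1)

theorem B_ext_right {x y : V F} (h : ∀ z, B z x = B z y) : x = y := by
  refine sub_eq_zero.1 (B_nondeg fun z => ?_)
  rw [B_sub_left, B_swap z x, B_swap z y, h, sub_self]

theorem B_ext_left {x y : V F} (h : ∀ z, B x z = B y z) : x = y := by
  refine sub_eq_zero.1 (B_nondeg fun z => ?_)
  rw [B_sub_left, h, sub_self]

theorem B_mem {A : Mat F} (h : A ∈ symplecticGroup (Fin 3) F) (x y : V F) : B (A *ᵥ x) (A *ᵥ y) = B x y := by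
  have h' := SymplecticGroup.mem_iff.1 (SymplecticGroup.transpose_mem h)
  rw [transpose_transpose] at h'
  rw [B, B, dotProduct_mulVec, ← vecMul_transpose, vecMul_vecMul, ← dotProduct_mulVec, mulVec_mulVec, h']

theorem mem_of_B {A : Mat F} (h : ∀ x y, B (A *ᵥ x) (A *ᵥ y) = B x y) : A ∈ symplecticGroup (Fin 3) F := by
  rw [← transpose_transpose A]
  refine SymplecticGroup.transpose_mem (SymplecticGroup.mem_iff.2 ?_)
  rw [transpose_transpose]
  ext i j
  have h' := h (Pi.single i 1) (Pi.single j 1)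
  rw [B, B, dotProduct_mulVec, ← vecMul_transpose, vecMul_vecMul, ← dotProduct_mulVec, mulVec_mulVec] at h'
  simpa [mul_assoc] using h'

/-- a family with a non-degenerate Gram matrix, in the form: only trivial combinations are orthogonal to it -/
theorem li_of_gram {ι : Type*} [Fintype ι] (w : ι → V F)
    (h : ∀ c : ι → F, (∀ j, ∑ i, c i * B (w i) (w j) = 0) → ∀ i, c i = 0) : LinearIndependent F w := by
  rw [Fintype.linearIndependent_iff]
  intro c hc
  refine h c fun j => ?_
  have := congrArg (fun v => B v (w j)) hc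
  simpa [B_sum_left, B_smul_left, B_zero_left] using this

theorem span_top {ι : Type*} [Fintype ι] [Nonempty ι] {w : ι → V F} (hli : LinearIndependent F w)
    (hc : Fintype.card ι = 6) : ∀ x, ∃ c : ι → F, ∑ i, c i • w i = x := by
  intro x
  have hspan := hli.span_eq_top_of_card_eq_finrank (by simp [hc])
  exact (Submodule.mem_span_range_iff_exists_fun F).1 (hspan ▸ Submodule.mem_top)

/-- two bases with the same Gram matrix -/
theorem exists_map {ι : Type*} [Fintype ι] [Nonempty ι] {w w' : ι → V F} (hli : LinearIndependent F w)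
    (hc : Fintype.card ι = 6) (hg : ∀ i j, B (w i) (w j) = B (w' i) (w' j)) :
    ∃ S : symplecticGroup (Fin 3) F, ∀ i, S.1 *ᵥ w i = w' i := by
  let b := basisOfLinearIndependentOfCardEqFinrank hli (by simp [hc])
  let L := b.constr F w'
  have hL : ∀ i, L (w i) = w' i := fun i => by
    have := b.constr_basis F w' i
    rwa [coe_basisOfLinearIndependentOfCardEqFinrank] at this
  refine ⟨⟨LinearMap.toMatrix' L, mem_of_B fun x y => ?_⟩, fun i => ?_⟩
  · obtain ⟨c, rfl⟩ := span_top hli hc x
    obtain ⟨d, rfl⟩ := span_top hli hc y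
    simp only [LinearMap.toMatrix'_mulVec, map_sum, map_smul, hL, B_sum_left, B_sum_right, B_smul_left,
      B_smul_right, hg]
  · exact (LinearMap.toMatrix'_mulVec _ _).trans (hL i)

theorem mat_ext {ι : Type*} [Fintype ι] [Nonempty ι] {w : ι → V F} (hli : LinearIndependent F w)
    (hc : Fintype.card ι = 6) {A A' : Mat F} (h : ∀ i, A *ᵥ w i = A' *ᵥ w i) : A = A' := by
  apply Matrix.ext_of_mulVec_single
  intro j
  obtain ⟨c, hcj⟩ := span_top hli hc (Pi.single j 1)
  rw [← hcj, Matrix.mulVec_sum, Matrix.mulVec_sum]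
  simp only [mulVec_smul, h]

/-! ### the two subgroups -/

/-- the field generator -/
def T6 (c : F) : Mat F := fromBlocks (T₀ c) 0 0 (T₀ c)

/-- the plane of the first hyperbolic pair -/
def InP (x : V F) : Prop := ∀ i : Fin 3, i ≠ 0 → x (Sum.inl i) = 0 ∧ x (Sum.inr i) = 0

/-- plane stabiliser predicate -/
def InH (A : Mat F) : Prop := ∀ x : V F, InP x → InP (A *ᵥ x)

/-- field normaliser predicate -/
def InK (c : F) (A : Mat F) : Prop :=
  ∃ k : F, k ^ 3 = k ∧ A * T6 c = (T6 c + algebraMap F _ k) * A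

theorem sp_inv_pow (a : symplecticGroup (Fin 3) F) : ∃ n : ℕ, a⁻¹ = a ^ n :=
  ⟨orderOf a - 1, by
    rw [inv_eq_iff_mul_eq_one, ← pow_succ', Nat.sub_add_cancel (orderOf_pos a), pow_orderOf_eq_one]⟩

theorem inH_one : InH (1 : Mat F) := fun x hx => by rwa [one_mulVec]

theorem InH.mul {A A' : Mat F} (h : InH A) (h' : InH A') : InH (A * A') := fun x hx => by
  rw [← mulVec_mulVec]; exact h _ (h' x hx)

/-- plane stabiliser -/
def Hsub : Subgroup (symplecticGroup (Fin 3) F) where
  carrier := {a | InH a.1}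
  one_mem' := inH_one
  mul_mem' := fun {a b} ha hb => InH.mul ha hb
  inv_mem' := by
    intro a ha
    obtain ⟨n, hn⟩ := sp_inv_pow a
    rw [hn]
    clear hn
    induction n with
    | zero => rw [pow_zero]; exact inH_one
    | succ k ih => rw [pow_succ]; exact InH.mul ih ha

/-- field normaliser -/
def Ksub (c : F) : Subgroup (symplecticGroup (Fin 3) F) where
  carrier := {a | InK c a.1}
  one_mem' := ⟨0, by simp, by
    show (1 : Mat F) * T6 c = (T6 c + algebraMap F _ 0) * 1
    simp⟩
  mul_mem' := by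
    rintro a b ⟨k, hk, ha⟩ ⟨l, hl, hb⟩
    refine ⟨k + l, by rw [add_pow_char, hk, hl], ?_⟩
    show a.1 * b.1 * T6 c = _ * (a.1 * b.1)
    rw [mul_assoc, hb, ← mul_assoc, mul_add, ha, ← Algebra.commutes l a.1, ← add_mul, ← mul_assoc,
      map_add, add_assoc]
  inv_mem' := by
    rintro a ⟨k, hk, ha⟩
    refine ⟨-k, by rw [neg_pow, hk]; ring, ?_⟩
    have h1 : a.1 * (a⁻¹).1 = 1 := congrArg Subtype.val (mul_inv_cancel a)
    have h2 : (a⁻¹).1 * a.1 = 1 := congrArg Subtype.val (inv_mul_cancel a)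
    rw [map_neg, add_mul, neg_mul, Algebra.commutes, ← sub_eq_add_neg, eq_sub_iff_add_eq, ← mul_add]
    calc (a⁻¹).1 * (T6 c + algebraMap F _ k) = (a⁻¹).1 * ((T6 c + algebraMap F _ k) * a.1) * (a⁻¹).1 := by
          rw [mul_assoc (a⁻¹).1, mul_assoc (T6 c + _), h1, mul_one]
      _ = T6 c * (a⁻¹).1 := by rw [← ha, ← mul_assoc, h2, one_mul]

/-- the goal for one matrix -/
def Good (c : F) (M : Mat F) : Prop :=
  ∃ (S : symplecticGroup (Fin 3) F) (M' : Mat F), S.1 * M = M' * S.1 ∧ (InH M' ∨ InK c M')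

theorem Good.neg {c : F} {M : Mat F} (h : Good c (-M)) : Good c M := by
  obtain ⟨S, M', hS, h'⟩ := h
  refine ⟨S, -M', by rw [neg_mul, ← hS, mul_neg, neg_neg], h'.imp (fun h x hx i hi => ?_) ?_⟩
  · simp [neg_mulVec, h x hx i hi]
  · rintro ⟨k, hk, h⟩
    exact ⟨k, hk, by rw [neg_mul, mul_neg, h]⟩

/-! ### getting into the plane stabiliser -/

/-- the form as a bilinear form -/
def Bil : LinearMap.BilinForm F (V F) :=
  LinearMap.mk₂ F B B_add_left B_smul_left B_add_right B_smul_right

@[simp] theorem Bil_apply (x y : V F) : Bil x y = B x y := rfl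

theorem good_of_plane {c : F} {M : Mat F} (x y : V F) (hxy : B x y ≠ 0)
    (hMx : M *ᵥ x ∈ Submodule.span F {x, y}) (hMy : M *ᵥ y ∈ Submodule.span F {x, y}) : Good c M := by
  let el : V F := Pi.single (Sum.inl 0) 1
  let er : V F := Pi.single (Sum.inr 0) 1
  have hler : B el er = -1 := by simp [el, er, B_def, Pi.single_apply]
  set y' : V F := (-(B x y)⁻¹) • y with hy'
  have hxy' : B x y' = -1 := by rw [hy', B_smul_right]; field_simp
  let X : Submodule F (V F) := Submodule.span F {el, er}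
  let φ : X →ₗ[F] V F :=
    { toFun := fun a => a.1 (Sum.inl 0) • x + a.1 (Sum.inr 0) • y'
      map_add' := fun a b => by simp [add_smul]; abel
      map_smul' := fun r a => by simp [mul_smul] }
  have hX : ∀ a : X, (a : V F) = a.1 (Sum.inl 0) • el + a.1 (Sum.inr 0) • er := fun a => by
    obtain ⟨p, r, hpr⟩ := Submodule.mem_span_pair.1 a.2
    rw [← hpr]
    simp [el, er]
  have hφ : ∀ a b : X, Bil (φ a) (φ b) = Bil (a : V F) (b : V F) := by
    intro a b
    conv_rhs => rw [hX a, hX b]
    show B ((a : V F) (Sum.inl 0) • x + (a : V F) (Sum.inr 0) • y')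
      ((b : V F) (Sum.inl 0) • x + (b : V F) (Sum.inr 0) • y') =
      B ((a : V F) (Sum.inl 0) • el + (a : V F) (Sum.inr 0) • er) ((b : V F) (Sum.inl 0) • el + (b : V F) (Sum.inr 0) • er)
    simp only [B_add_left, B_add_right, B_smul_left, B_smul_right, B_self, B_swap x y', B_swap el er, hxy', hler]
  have hinj : Function.Injective φ := by
    intro a b hab
    have e1 := congrArg (fun v => B v y') hab
    have e2 := congrArg (fun v => B x v) hab
    simp [φ, B_add_left, B_add_right, B_smul_left, B_smul_right, B_self, hxy'] at e1 e2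
    apply Subtype.ext
    rw [hX a, hX b, e1, e2]
  obtain ⟨g, hg, hgX⟩ := Witt.alt_extend (Bil (F := F))
    ⟨fun v hv => B_nondeg hv, fun v hv => B_nondeg fun z => by rw [B_swap z v, show B z v = 0 from hv z, neg_zero]⟩
    B_self X φ hinj hφ
  let S : symplecticGroup (Fin 3) F := ⟨LinearMap.toMatrix' g.symm.toLinearMap, mem_of_B fun u v => by
    have h := hg (g.symm u) (g.symm v)
    rw [g.apply_symm_apply, g.apply_symm_apply] at h
    simp only [LinearMap.toMatrix'_mulVec]
    exact h.symm⟩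
  have hS : ∀ v, S.1 *ᵥ v = g.symm v := fun v => LinearMap.toMatrix'_mulVec _ _
  have hSi : S.1 * (S⁻¹).1 = 1 := congrArg Subtype.val (mul_inv_cancel S)
  have hiS : (S⁻¹).1 * S.1 = 1 := congrArg Subtype.val (inv_mul_cancel S)
  refine ⟨S, S.1 * M * (S⁻¹).1, by rw [mul_assoc, hiS, mul_one], Or.inl fun z hz => ?_⟩
  have hzX : z ∈ X := by
    have : z = z (Sum.inl 0) • el + z (Sum.inr 0) • er := by
      funext j
      rcases j with j | j <;> by_cases hj : j = 0
      · subst hj; simp [el, er]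
      · simp [el, er, hj, (hz j hj).1]
      · subst hj; simp [el, er]
      · simp [el, er, hj, (hz j hj).2]
    rw [this]
    exact Submodule.mem_span_pair.2 ⟨_, _, rfl⟩
  have hgz := hgX ⟨z, hzX⟩
  have hiz : (S⁻¹).1 *ᵥ z = g z := by
    have h1 : S.1 *ᵥ g z = z := by rw [hS, g.symm_apply_apply]
    conv_lhs => rw [← h1]
    rw [mulVec_mulVec, hiS, one_mulVec]
  intro i hi
  rw [← mulVec_mulVec, ← mulVec_mulVec, hiz, hgz, hS]
  obtain ⟨p, r, hpr⟩ : ∃ p r : F, M *ᵥ φ ⟨z, hzX⟩ = p • x + r • y' := by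
    have hx' := Submodule.mem_span_pair.1 hMx
    have hy2 := Submodule.mem_span_pair.1 hMy
    obtain ⟨p1, r1, h1⟩ := hx'
    obtain ⟨p2, r2, h2⟩ := hy2
    refine ⟨z (Sum.inl 0) * p1 + z (Sum.inr 0) * (-(B x y)⁻¹) * p2,
      (z (Sum.inl 0) * r1 + z (Sum.inr 0) * (-(B x y)⁻¹) * r2) * (-(B x y)), ?_⟩
    show M *ᵥ (z (Sum.inl 0) • x + z (Sum.inr 0) • y') = _
    rw [hy', mulVec_add, mulVec_smul, mulVec_smul, mulVec_smul, ← h1, ← h2]
    match_scalars <;> field_simp
  rw [hpr]
  have hmem : p • el + r • er ∈ X := Submodule.mem_span_pair.2 ⟨_, _, rfl⟩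
  have hval : g (p • el + r • er) = p • x + r • y' := by
    rw [hgX ⟨_, hmem⟩]
    show (p • el + r • er) (Sum.inl 0) • x + (p • el + r • er) (Sum.inr 0) • y' = _
    simp [el, er]
  rw [← hval, g.symm_apply_apply]
  simp [el, er, hi]

/-- alternating forms in three variables are degenerate -/
theorem exists_null_three (β : Fin 3 → Fin 3 → F) (h : ∀ i j, β j i = -β i j) :
    ∃ a : Fin 3 → F, a ≠ 0 ∧ ∀ j, ∑ i, a i * β i j = 0 := by
  have h0 : ∀ i, β i i = 0 := fun i => by
    have := h i i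
    have h3 : ((3 : ℕ) : F) = 0 := CharP.cast_eq_zero F 3
    push_cast at h3
    linear_combination (-1 : F) * this + (β i i) * h3
  by_cases hz : β 1 2 = 0 ∧ β 2 0 = 0 ∧ β 0 1 = 0
  · refine ⟨![1, 0, 0], fun e => one_ne_zero (α := F) (congrFun e 0), fun j => ?_⟩
    simp [Fin.sum_univ_three]
    fin_cases j
    · exact h0 0
    · exact hz.2.2
    · show β 0 2 = 0
      rw [h 2 0, hz.2.1, neg_zero]
  · refine ⟨![β 1 2, β 2 0, β 0 1], fun e => hz ⟨congrFun e 0, congrFun e 1, congrFun e 2⟩, fun j => ?_⟩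
    simp [Fin.sum_univ_three]
    fin_cases j
    · show β 1 2 * β 0 0 + β 2 0 * β 1 0 + β 0 1 * β 2 0 = 0
      rw [h0, h 0 1]; ring
    · show β 1 2 * β 0 1 + β 2 0 * β 1 1 + β 0 1 * β 2 1 = 0
      rw [h0, h 1 2]; ring
    · show β 1 2 * β 0 2 + β 2 0 * β 1 2 + β 0 1 * β 2 2 = 0
      rw [h0, h 2 0]; ring

/-! ### polynomials in `S = M + M⁻¹` -/

section
variable {M Mi : Mat F}

theorem adj_M (h1 : M * Mi = 1) (hB : ∀ x y, B (M *ᵥ x) (M *ᵥ y) = B x y) (x y : V F) :
    B (M *ᵥ x) y = B x (Mi *ᵥ y) := by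
  conv_lhs => rw [show y = M *ᵥ (Mi *ᵥ y) by rw [mulVec_mulVec, h1, one_mulVec]]
  rw [hB]

theorem adj_Mi (h1 : M * Mi = 1) (hB : ∀ x y, B (M *ᵥ x) (M *ᵥ y) = B x y) (x y : V F) :
    B (Mi *ᵥ x) y = B x (M *ᵥ y) := by
  rw [B_swap y, ← adj_M h1 hB, B_swap, neg_neg]

theorem adj_poly {S : Mat F} (hS : ∀ x y, B (S *ᵥ x) y = B x (S *ᵥ y)) (f : F[X]) :
    ∀ x y, B (aeval S f *ᵥ x) y = B x (aeval S f *ᵥ y) := by
  induction f using Polynomial.induction_on' with
  | add f g hf hg => intro x y; rw [map_add, add_mulVec, add_mulVec, B_add_left, B_add_right, hf, hg]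
  | monomial n a =>
    intro x y
    rw [aeval_monomial]
    have hn : ∀ n : ℕ, ∀ x y, B (S ^ n *ᵥ x) y = B x (S ^ n *ᵥ y) := fun n => by
      induction n with
      | zero => intro x y; simp
      | succ k ih =>
        intro x y
        conv_lhs => rw [pow_succ, ← mulVec_mulVec, ih, hS, mulVec_mulVec, ← pow_succ']
    rw [Algebra.algebraMap_eq_smul_one, Matrix.smul_mul, one_mul, smul_mulVec, smul_mulVec, B_smul_left,
      B_smul_right, hn]

theorem self_adj_null {E : Mat F} (hE : ∀ x y, B (E *ᵥ x) y = B x (E *ᵥ y)) (x : V F) :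
    B x (E *ᵥ x) = 0 := by
  have h : B x (E *ᵥ x) = -B x (E *ᵥ x) := by rw [← B_swap, hE]
  have h3 : ((3 : ℕ) : F) = 0 := CharP.cast_eq_zero F 3
  push_cast at h3
  linear_combination (-1 : F) * h + (B x (E *ᵥ x)) * h3

/-- a family spanning a totally isotropic subspace has at most three independent members -/
theorem card_le_three {ι : Type*} [Fintype ι] {w : ι → V F} (hli : LinearIndependent F w)
    (h : ∀ i j, B (w i) (w j) = 0) : Fintype.card ι ≤ 3 := by
  classical
  by_contra hc
  push_neg at hc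
  let L : V F →ₗ[F] (ι → F) := LinearMap.pi fun i => (Bil (F := F)) (w i)
  have hsurj : LinearMap.range L = ⊤ := by
    by_contra hne
    obtain ⟨φ, hφ0, hφ⟩ := Submodule.exists_le_ker_of_lt_top _ (lt_top_iff_ne_top.2 hne)
    have hsum : ∑ i, φ (Pi.single i 1) • w i = 0 := by
      refine B_nondeg fun z => ?_
      have : φ (L z) = 0 := hφ ⟨z, rfl⟩
      rw [pi_eq_sum_univ' (L z), map_sum] at this
      rw [B_sum_left, ← this]
      refine Finset.sum_congr rfl fun i _ => ?_
      rw [B_smul_left, map_smul, smul_eq_mul, mul_comm]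
      rfl
    refine hφ0 (LinearMap.pi_ext' fun i => LinearMap.ext_ring ?_)
    simpa using Fintype.linearIndependent_iff.1 hli _ hsum i
  have hrank := L.finrank_range_add_finrank_ker
  rw [hsurj, finrank_top, Module.finrank_fintype_fun_eq_card, Module.finrank_fintype_fun_eq_card] at hrank
  have hker : Fintype.card ι ≤ Module.finrank F (LinearMap.ker L) := by
    rw [← finrank_span_eq_card hli]
    refine Submodule.finrank_mono (Submodule.span_le.2 ?_)
    rintro _ ⟨j, rfl⟩
    exact funext fun i => h i j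
  simp only [Fintype.card_sum, Fintype.card_fin] at hrank
  omega

theorem li_powers {E : Mat F} {r : F[X]} (hr : Irreducible r) {x : V F} (hx0 : x ≠ 0)
    (hrx : aeval E r *ᵥ x = 0) {n : ℕ} (hn : n ≤ r.natDegree) :
    LinearIndependent F (fun i : Fin n => E ^ (i : ℕ) *ᵥ x) := by
  rw [Fintype.linearIndependent_iff]
  intro a ha
  set P : F[X] := ∑ i : Fin n, monomial (i : ℕ) (a i) with hP
  have hPx : aeval E P *ᵥ x = 0 := by
    rw [hP, map_sum, Matrix.sum_mulVec, ← ha]
    refine Finset.sum_congr rfl fun i _ => ?_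
    rw [aeval_monomial, Algebra.algebraMap_eq_smul_one, Matrix.smul_mul, one_mul, smul_mulVec]
  by_cases hP0 : P = 0
  · intro i
    have h := congrArg (fun p => coeff p (i : ℕ)) hP0
    simp [hP, coeff_monomial, Fin.val_inj] at h
    exact h
  · exfalso
    have hdeg : P.natDegree < r.natDegree := by
      by_cases hn0 : n = 0
      · subst hn0; simp [hP] at hP0
      refine lt_of_le_of_lt (natDegree_sum_le_of_forall_le _ _ (n := n - 1) fun i _ => ?_) (by omega)
      exact (natDegree_monomial_le _).trans (by omega)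
    have hndvd : ¬ r ∣ P := fun h => by have := natDegree_le_of_dvd h hP0; omega
    obtain ⟨u, v, huv⟩ := hr.coprime_iff_not_dvd.2 hndvd
    have := congrArg (fun p => aeval E p *ᵥ x) huv
    simp only [map_add, map_mul, map_one, add_mulVec, ← mulVec_mulVec, hrx, hPx, mulVec_zero, add_zero,
      one_mulVec] at this
    exact hx0 this.symm

theorem ti_powers {E : Mat F} (hE : ∀ x y, B (E *ᵥ x) y = B x (E *ᵥ y)) (x : V F) (i j : ℕ) :
    B (E ^ i *ᵥ x) (E ^ j *ᵥ x) = 0 := by
  have h : ∀ n : ℕ, ∀ x y, B (E ^ n *ᵥ x) y = B x (E ^ n *ᵥ y) := fun n => by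
    have := adj_poly hE (X ^ n)
    simpa using this
  rw [h, mulVec_mulVec, ← pow_add]
  exact self_adj_null (h (i + j)) x

end

/-! ### the cubic case -/

theorem good_of_cubic {c : F} (hc : Irreducible (X ^ 3 - X - Polynomial.C c : F[X])) {M T : Mat F}
    (hT : aeval T (X ^ 3 - X - Polynomial.C c : F[X]) = 0) (hsa : ∀ x y, B (T *ᵥ x) y = B x (T *ᵥ y))
    (hMT : Commute M T) : Good c M := by
  classical
  have hdeg : (X ^ 3 - X - Polynomial.C c : F[X]).natDegree = 3 := by compute_degree!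
  have hT6 : aeval (T6 c) (X ^ 3 - X - Polynomial.C c : F[X]) = 0 := by
    have h := T₀_root c
    simp only [map_sub, map_pow, aeval_X, aeval_C]
    have e : T6 c ^ 3 - T6 c - algebraMap F (Mat F) c =
        fromBlocks (T₀ c ^ 3 - T₀ c - algebraMap F _ c) 0 0 (T₀ c ^ 3 - T₀ c - algebraMap F _ c) := by
      ext (i | i) (j | j) <;>
        simp [T6, pow_succ, fromBlocks_multiply, Matrix.algebraMap_matrix_apply]
    rw [e, h, fromBlocks_zero]
  have h6sa : ∀ x y, B (T6 c *ᵥ x) y = B x (T6 c *ᵥ y) := fun x y => by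
    simp [B_def, T6, T₀, fromBlocks_mulVec, Fin.sum_univ_three, mulVec, dotProduct]
    ring
  have li3 : ∀ {E : Mat F}, aeval E (X ^ 3 - X - Polynomial.C c : F[X]) = 0 → ∀ {x : V F}, x ≠ 0 →
      LinearIndependent F (fun i : Fin 3 => E ^ (i : ℕ) *ᵥ x) := fun hE x hx =>
    li_powers hc hx (by rw [hE, zero_mulVec]) (by rw [hdeg])
  let el : V F := Pi.single (Sum.inl 0) 1
  let er : V F := Pi.single (Sum.inr 0) 1
  obtain ⟨x, hx⟩ : ∃ x : V F, x ≠ 0 := ⟨el, fun h => one_ne_zero (α := F) (by simpa [el] using congrFun h (Sum.inl 0))⟩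
  obtain ⟨y, hy⟩ : ∃ y, ∀ k : Fin 3, B (T ^ (k : ℕ) *ᵥ x) y = B (T6 c ^ (k : ℕ) *ᵥ el) er := by
    let L : V F →ₗ[F] (Fin 3 → F) := LinearMap.pi fun i => (Bil (F := F)) (T ^ (i : ℕ) *ᵥ x)
    have hsurj : LinearMap.range L = ⊤ := by
      by_contra hne
      obtain ⟨φ, hφ0, hφ⟩ := Submodule.exists_le_ker_of_lt_top _ (lt_top_iff_ne_top.2 hne)
      have hsum : ∑ i : Fin 3, φ (Pi.single i 1) • (T ^ (i : ℕ) *ᵥ x) = 0 := by
        refine B_nondeg fun z => ?_
        have : φ (L z) = 0 := hφ ⟨z, rfl⟩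
        rw [pi_eq_sum_univ' (L z), map_sum] at this
        rw [B_sum_left, ← this]
        refine Finset.sum_congr rfl fun i _ => ?_
        rw [B_smul_left, map_smul, smul_eq_mul, mul_comm]
        rfl
      refine hφ0 (LinearMap.pi_ext' fun i => LinearMap.ext_ring ?_)
      simpa using Fintype.linearIndependent_iff.1 (li3 hT hx) _ hsum i
    obtain ⟨y, hy⟩ := LinearMap.range_eq_top.1 hsurj (fun k => B (T6 c ^ (k : ℕ) *ᵥ el) er)
    exact ⟨y, fun k => congrFun hy k⟩
  -- the Gram matrices agree for all exponents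
  have hrec : ∀ {E : Mat F}, aeval E (X ^ 3 - X - Polynomial.C c : F[X]) = 0 → ∀ (n : ℕ) (z : V F),
      E ^ (n + 3) *ᵥ z = E ^ (n + 1) *ᵥ z + c • (E ^ n *ᵥ z) := by
    intro E hE n z
    simp only [map_sub, map_pow, aeval_X, aeval_C, sub_eq_zero] at hE
    rw [sub_eq_iff_eq_add] at hE
    rw [pow_add, hE, mul_add, add_mulVec, pow_succ, Algebra.algebraMap_eq_smul_one, Matrix.mul_smul, mul_one,
      smul_mulVec, add_comm]
  have hall : ∀ n : ℕ, B (T ^ n *ᵥ x) y = B (T6 c ^ n *ᵥ el) er := by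
    intro n
    induction n using Nat.strong_induction_on with
    | _ n ih =>
      rcases lt_or_ge n 3 with hn | hn
      · exact hy ⟨n, hn⟩
      · obtain ⟨k, rfl⟩ : ∃ k, n = k + 3 := ⟨n - 3, by omega⟩
        rw [hrec hT, hrec hT6, B_add_left, B_add_left, B_smul_left, B_smul_left, ih k (by omega),
          ih (k + 1) (by omega)]
  let w : Fin 3 ⊕ Fin 3 → V F := Sum.elim (fun i => T ^ (i : ℕ) *ᵥ x) (fun i => T ^ (i : ℕ) *ᵥ y)
  let w' : Fin 3 ⊕ Fin 3 → V F := Sum.elim (fun i => T6 c ^ (i : ℕ) *ᵥ el) (fun i => T6 c ^ (i : ℕ) *ᵥ er)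
  have hadj : ∀ {E : Mat F}, (∀ x y, B (E *ᵥ x) y = B x (E *ᵥ y)) → ∀ (i j : ℕ) (u v : V F),
      B (E ^ i *ᵥ u) (E ^ j *ᵥ v) = B (E ^ (i + j) *ᵥ u) v := by
    intro E hE i j u v
    have h : ∀ x y, B (E ^ j *ᵥ x) y = B x (E ^ j *ᵥ y) := by
      have := adj_poly hE (X ^ j)
      simpa using this
    rw [← h, mulVec_mulVec, ← pow_add, add_comm]
  have hg : ∀ a b, B (w a) (w b) = B (w' a) (w' b) := by
    rintro (i | i) (j | j) <;> simp only [w, w', Sum.elim_inl, Sum.elim_inr]
    · rw [ti_powers hsa, ti_powers h6sa]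
    · rw [hadj hsa, hadj h6sa, hall]
    · rw [B_swap, B_swap (T6 c ^ (j : ℕ) *ᵥ el), hadj hsa, hadj h6sa, hall]
    · rw [ti_powers hsa, ti_powers h6sa]
  have hli' : LinearIndependent F w' := by
    rw [Fintype.linearIndependent_iff]
    intro a ha
    have hblock : ∀ (n : ℕ) (u : Fin 3 → F),
        T6 c ^ n *ᵥ (Sum.elim u (0 : Fin 3 → F)) = Sum.elim (T₀ c ^ n *ᵥ u) (0 : Fin 3 → F) ∧
        T6 c ^ n *ᵥ (Sum.elim (0 : Fin 3 → F) u) = Sum.elim (0 : Fin 3 → F) (T₀ c ^ n *ᵥ u) := by
      intro n u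
      induction n with
      | zero => simp
      | succ k ih =>
        simp only [pow_succ', ← mulVec_mulVec, ih.1, ih.2]
        simp [T6, fromBlocks_mulVec]
    have hel : el = Sum.elim (Pi.single 0 1) (0 : Fin 3 → F) := by funext j; rcases j with j | j <;> simp [el, Pi.single_apply]
    have her : er = Sum.elim (0 : Fin 3 → F) (Pi.single 0 1) := by funext j; rcases j with j | j <;> simp [er, Pi.single_apply]
    rw [Fintype.sum_sum_type] at ha
    simp only [w', Sum.elim_inl, Sum.elim_inr, hel, her, (hblock _ _).1, (hblock _ _).2] at ha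
    have hT₀ : aeval (T₀ c) (X ^ 3 - X - Polynomial.C c : F[X]) = 0 := by simpa using T₀_root c
    have hli0 : LinearIndependent F (fun i : Fin 3 => T₀ c ^ (i : ℕ) *ᵥ (Pi.single 0 1 : Fin 3 → F)) := by
      rw [Fintype.linearIndependent_iff]
      intro b hb
      have h6 := Fintype.linearIndependent_iff.1 (li3 hT6 (x := el)
        (fun h => one_ne_zero (α := F) (by simpa [el] using congrFun h (Sum.inl 0))))
      refine h6 b ?_
      simp only [hel, (hblock _ _).1]
      funext j
      rcases j with j | j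
      · simpa using congrFun hb j
      · simp
    rintro (i | i)
    · refine Fintype.linearIndependent_iff.1 hli0 (fun k => a (Sum.inl k)) ?_ i
      funext j
      simpa using congrFun ha (Sum.inl j)
    · refine Fintype.linearIndependent_iff.1 hli0 (fun k => a (Sum.inr k)) ?_ i
      funext j
      simpa using congrFun ha (Sum.inr j)
  have hspan := span_top hli' rfl
  have hli : LinearIndependent F w := li_of_gram w fun a ha => by
    refine Fintype.linearIndependent_iff.1 hli' a (B_nondeg fun z => ?_)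
    obtain ⟨b, rfl⟩ := hspan z
    rw [B_sum_right]
    refine Finset.sum_eq_zero fun j _ => ?_
    rw [B_smul_right, B_sum_left]
    simp only [B_smul_left, ← hg, ha j, mul_zero]
  obtain ⟨S, hS⟩ := exists_map hli rfl hg
  have hST : S.1 * T = T6 c * S.1 := by
    refine mat_ext hli rfl fun a => ?_
    rw [← mulVec_mulVec, ← mulVec_mulVec, hS]
    have key : ∀ u u', (∀ i : Fin 3, S.1 *ᵥ (T ^ (i : ℕ) *ᵥ u) = T6 c ^ (i : ℕ) *ᵥ u') → ∀ i : Fin 3,
        S.1 *ᵥ (T *ᵥ (T ^ (i : ℕ) *ᵥ u)) = T6 c *ᵥ (T6 c ^ (i : ℕ) *ᵥ u') := by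
      intro u u' h i
      rw [mulVec_mulVec _ T, mulVec_mulVec _ (T6 c), ← pow_succ', ← pow_succ']
      fin_cases i
      · exact h 1
      · exact h 2
      · show S.1 *ᵥ (T ^ (0 + 3) *ᵥ u) = T6 c ^ (0 + 3) *ᵥ u'
        rw [hrec hT, hrec hT6, mulVec_add, mulVec_smul]
        exact congrArg₂ (fun p r => p + c • r) (h 1) (h 0)
    rcases a with i | i
    · exact key x el (fun k => hS (Sum.inl k)) i
    · exact key y er (fun k => hS (Sum.inr k)) i
  have hiS : (S⁻¹).1 * S.1 = 1 := congrArg Subtype.val (inv_mul_cancel S)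
  have hSi : S.1 * (S⁻¹).1 = 1 := congrArg Subtype.val (mul_inv_cancel S)
  refine ⟨S, S.1 * M * (S⁻¹).1, by rw [mul_assoc, hiS, mul_one], Or.inr ⟨0, by simp, ?_⟩⟩
  rw [map_zero, add_zero]
  have hinv : (S⁻¹).1 * T6 c = T * (S⁻¹).1 := by
    calc (S⁻¹).1 * T6 c = (S⁻¹).1 * (T6 c * S.1) * (S⁻¹).1 := by rw [mul_assoc, mul_assoc, hSi, mul_one]
      _ = T * (S⁻¹).1 := by rw [← hST, ← mul_assoc, hiS, one_mul]
  rw [mul_assoc, hinv, mul_assoc S.1, ← mul_assoc M, hMT.eq, mul_assoc T, ← mul_assoc, hST]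
  simp only [mul_assoc]

/-! ### spreading a plane -/

theorem good_of_spread {c : F} {M u R : Mat F} (hu : u * u * u = 1) (hMu : M = u * R) (huR : Commute u R)
    (hRB : ∀ x y, B (R *ᵥ x) (R *ᵥ y) = B x y) (v w : V F)
    (hRv : R *ᵥ v ∈ Submodule.span F {v, w}) (hRw : R *ᵥ w ∈ Submodule.span F {v, w})
    (huB : ∀ x y, B (u *ᵥ x) (u *ᵥ y) = B x y) (hvw : B v w = -1)
    (hvv : B v (u *ᵥ v) = 0) (hww : B w (u *ᵥ w) = 0) (hvw1 : B v (u *ᵥ w) = 0) (hwv1 : B w (u *ᵥ v) = 0) :
    Good c M := by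
  classical
  let w₁ : Fin 3 ⊕ Fin 3 → V F := Sum.elim (fun i => u ^ (i : ℕ) *ᵥ v) (fun i => u ^ (i : ℕ) *ᵥ w)
  let w₀ : Fin 3 ⊕ Fin 3 → V F := fun a => Pi.single a 1
  have hu3 : ∀ z, u *ᵥ (u *ᵥ (u *ᵥ z)) = z := fun z => by
    rw [mulVec_mulVec, mulVec_mulVec, hu, one_mulVec]
  have back : ∀ a b, B a (u *ᵥ (u *ᵥ b)) = -B b (u *ᵥ a) := fun a b => by
    rw [← huB a, hu3, B_swap]
  have gen : ∀ a b, B a (u *ᵥ b) = 0 → B b (u *ᵥ a) = 0 → ∀ i j : Fin 3,
      B (u ^ (i : ℕ) *ᵥ a) (u ^ (j : ℕ) *ᵥ b) = if i = j then B a b else 0 := by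
    intro a b h1 h2 i j
    have e0 : B (u *ᵥ a) b = 0 := by rw [B_swap, h2, neg_zero]
    have e2 : B a (u *ᵥ (u *ᵥ b)) = 0 := by rw [back, h2, neg_zero]
    have e3 : B (u *ᵥ (u *ᵥ a)) b = 0 := by rw [B_swap, back, h1, neg_zero, neg_zero]
    fin_cases i <;> fin_cases j <;>
      simp only [Fin.zero_eta, Fin.mk_one, Fin.reduceFinMk, Fin.val_zero, Fin.val_one, Fin.val_two, pow_zero,
        pow_one, sq, one_mulVec, ← mulVec_mulVec, huB, h1, e0, e2, e3, Fin.reduceEq, if_true, if_false]
  have hg : ∀ a b, B (w₁ a) (w₁ b) = B (w₀ a) (w₀ b) := by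
    have hwv : B w v = 1 := by rw [B_swap, hvw, neg_neg]
    rintro (i | i) (j | j) <;> simp only [w₁, Sum.elim_inl, Sum.elim_inr]
    · rw [gen v v hvv hvv, B_self]; simp [w₀, B_def, Pi.single_apply]
    · rw [gen v w hvw1 hwv1, hvw]; simp [w₀, B_def, Pi.single_apply]
      split_ifs <;> simp_all
    · rw [gen w v hwv1 hvw1, hwv]; simp [w₀, B_def, Pi.single_apply]
      split_ifs <;> simp_all
    · rw [gen w w hww hww, B_self]; simp [w₀, B_def, Pi.single_apply]
  have hli : LinearIndependent F w₁ := li_of_gram w₁ fun a ha b => by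
    rcases b with i | i
    · have := ha (Sum.inr i)
      simp only [hg, Fintype.sum_sum_type] at this
      simpa [w₀, B_def, Pi.single_apply] using this
    · have := ha (Sum.inl i)
      simp only [hg, Fintype.sum_sum_type] at this
      simpa [w₀, B_def, Pi.single_apply] using this
  obtain ⟨S, hS⟩ := exists_map hli rfl hg
  obtain ⟨r11, r21, hr1⟩ := Submodule.mem_span_pair.1 hRv
  obtain ⟨r12, r22, hr2⟩ := Submodule.mem_span_pair.1 hRw
  let M' : Mat F := fromBlocks (r11 • cyc F) (r12 • cyc F) (r21 • cyc F) (r22 • cyc F)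
  refine ⟨S, M', mat_ext hli rfl fun a => ?_, Or.inr ⟨1, one_pow _, ?_⟩⟩
  · rw [← mulVec_mulVec, ← mulVec_mulVec, hS, hMu]
    have key : ∀ (z z' : V F) (p r : F), R *ᵥ z = p • v + r • w → ∀ i : Fin 3,
        S.1 *ᵥ ((u * R) *ᵥ (u ^ (i : ℕ) *ᵥ z)) =
          p • w₀ (Sum.inl (i + 1)) + r • w₀ (Sum.inr (i + 1)) := by
      intro z _ p r hz i
      have hc : (u * R) * u ^ (i : ℕ) = u ^ ((i : ℕ) + 1) * R := by
        rw [mul_assoc, ((huR.pow_left (i : ℕ)).symm).eq, ← mul_assoc, ← pow_succ']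
      rw [mulVec_mulVec _ (u * R) (u ^ (i : ℕ)), hc, ← mulVec_mulVec, hz, mulVec_add, mulVec_smul, mulVec_smul, mulVec_add,
        mulVec_smul, mulVec_smul]
      have hi : ∀ t : V F, u ^ ((i : ℕ) + 1) *ᵥ t = u ^ ((i + 1 : Fin 3) : ℕ) *ᵥ t := by
        intro t
        fin_cases i
        · rfl
        · rfl
        · show u ^ 3 *ᵥ t = u ^ 0 *ᵥ t
          rw [pow_zero, pow_succ, sq, hu]
      rw [hi, hi]
      exact congrArg₂ (fun a b => p • a + r • b) (hS (Sum.inl (i + 1))) (hS (Sum.inr (i + 1)))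
    rcases a with i | i
    · rw [show w₁ (Sum.inl i) = u ^ (i : ℕ) *ᵥ v from rfl, key v v r11 r21 hr1.symm i]
      funext j
      rcases j with j | j <;> fin_cases i <;> fin_cases j <;>
        simp [M', w₀, cyc, Pi.single_apply]
    · rw [show w₁ (Sum.inr i) = u ^ (i : ℕ) *ᵥ w from rfl, key w w r12 r22 hr2.symm i]
      funext j
      rcases j with j | j <;> fin_cases i <;> fin_cases j <;>
        simp [M', w₀, cyc, Pi.single_apply]
  · have h := cyc_T₀ (F := F) c
    simp only [M', T6, map_one]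
    rw [← fromBlocks_one, fromBlocks_add, fromBlocks_multiply, fromBlocks_multiply]
    simp [h]

/-! ### cyclic vectors with two vanishing values -/

theorem li_six {M : Mat F} (hB : ∀ x y, B (M *ᵥ x) (M *ᵥ y) = B x y) {x : V F} (h1 : B x (M *ᵥ x) = 0)
    (h2 : B x (M ^ 2 *ᵥ x) = 0) (h4 : B x (M ^ 4 *ᵥ x) = 0) (h5 : B x (M ^ 5 *ᵥ x) = 0)
    (h3 : B x (M ^ 3 *ᵥ x) ≠ 0) :
    LinearIndependent F (fun i : Fin 6 => M ^ (i : ℕ) *ᵥ x) ∧
      ∀ i j : Fin 6, B (M ^ (i : ℕ) *ᵥ x) (M ^ (j : ℕ) *ᵥ x) =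
        if (j : ℕ) = i + 3 then B x (M ^ 3 *ᵥ x) else if (i : ℕ) = j + 3 then -B x (M ^ 3 *ᵥ x) else 0 := by
  have shift : ∀ (n k : ℕ), B (M ^ n *ᵥ x) (M ^ (n + k) *ᵥ x) = B x (M ^ k *ᵥ x) := by
    intro n k
    induction n with
    | zero => simp
    | succ n ih => rw [Nat.succ_add, pow_succ', pow_succ', ← mulVec_mulVec, ← mulVec_mulVec, hB, ih]
  have val : ∀ k : ℕ, k < 6 → B x (M ^ k *ᵥ x) = if k = 3 then B x (M ^ 3 *ᵥ x) else 0 := by
    intro k hk
    interval_cases k <;> simp [B_self, h1, h2, h4, h5]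
  have gram : ∀ i j : Fin 6, B (M ^ (i : ℕ) *ᵥ x) (M ^ (j : ℕ) *ᵥ x) =
        if (j : ℕ) = i + 3 then B x (M ^ 3 *ᵥ x) else if (i : ℕ) = j + 3 then -B x (M ^ 3 *ᵥ x) else 0 := by
    intro i j
    rcases le_total (i : ℕ) (j : ℕ) with h | h
    · obtain ⟨k, hk⟩ := Nat.exists_eq_add_of_le h
      rw [hk, shift, val k (by omega)]
      split_ifs <;> first | rfl | omega
    · obtain ⟨k, hk⟩ := Nat.exists_eq_add_of_le h
      rw [B_swap, hk, shift, val k (by omega)]
      split_ifs <;> first | rfl | (exfalso; omega) | simp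
  refine ⟨li_of_gram _ fun a ha => ?_, gram⟩
  intro i
  fin_cases i
  · have := ha 3
    simp only [gram] at this
    simpa [Fin.sum_univ_six, h3] using this
  · have := ha 4
    simp only [gram] at this
    simpa [Fin.sum_univ_six, h3] using this
  · have := ha 5
    simp only [gram] at this
    simpa [Fin.sum_univ_six, h3] using this
  · have := ha 0
    simp only [gram] at this
    simpa [Fin.sum_univ_six, h3] using this
  · have := ha 1
    simp only [gram] at this
    simpa [Fin.sum_univ_six, h3] using this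
  · have := ha 2
    simp only [gram] at this
    simpa [Fin.sum_univ_six, h3] using this

/-- the regular unipotent case -/
theorem good_of_regular {c : F} {M : Mat F} (hB : ∀ x y, B (M *ᵥ x) (M *ᵥ y) = B x y) {x : V F}
    (h1 : B x (M *ᵥ x) = 0) (h2 : B x (M ^ 2 *ᵥ x) = 0) (h4 : B x (M ^ 4 *ᵥ x) = 0)
    (h5 : B x (M ^ 5 *ᵥ x) = 0) (h3 : B x (M ^ 3 *ᵥ x) ≠ 0)
    (hrel : (M ^ 3 - 1) * (M ^ 3 - 1) = 0) : Good c M := by
  classical
  set l := -(B x (M ^ 3 *ᵥ x)) with hl
  let b : Matrix (Fin 3) (Fin 3) F := l • (T₀ c * T₀ c - T₀ c)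
  let N : Mat F := fromBlocks (cyc F) (cyc F * b) 0 (cyc F)
  have hN : N ∈ symplecticGroup (Fin 3) F := mem_of_B fun u v => by
    simp [N, b, B_def, T₀, cyc, fromBlocks_mulVec, Fin.sum_univ_three, mulVec, dotProduct, Matrix.mul_apply,
      Matrix.vecMul]
    ring
  let e : V F := Pi.single (Sum.inr 0) 1
  have hb3 : ((3 : ℕ) : F) = 0 := CharP.cast_eq_zero F 3
  push_cast at hb3
  have e1 : B e (N *ᵥ e) = 0 := by
    simp [N, b, e, B_def, T₀, cyc, fromBlocks_mulVec, Fin.sum_univ_three, mulVec, dotProduct, Matrix.mul_apply,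
      Pi.single_apply]
    try grind
  have e2 : B e (N *ᵥ (N *ᵥ e)) = 0 := by
    simp [N, b, e, B_def, T₀, cyc, fromBlocks_mulVec, Fin.sum_univ_three, mulVec, dotProduct, Matrix.mul_apply,
      Pi.single_apply]
    try grind
  have e3 : B e (N *ᵥ (N *ᵥ (N *ᵥ e))) = B x (M ^ 3 *ᵥ x) := by
    simp [N, b, e, B_def, T₀, cyc, fromBlocks_mulVec, Fin.sum_univ_three, mulVec, dotProduct, Matrix.mul_apply,
      Pi.single_apply, hl]
    try grind
  have hC3 : cyc F * cyc F * cyc F = 1 := by
    ext i j; fin_cases i <;> fin_cases j <;> simp [cyc, Matrix.mul_apply, Fin.sum_univ_three]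
  have hNrel : (N ^ 3 - 1) * (N ^ 3 - 1) = 0 := by
    have hblock : N ^ 3 = fromBlocks 1 ((N ^ 3).toBlocks₁₂) 0 1 := by
      conv_lhs => rw [← fromBlocks_toBlocks (N ^ 3)]
      simp [N, pow_succ, fromBlocks_multiply, hC3]
    rw [hblock, ← fromBlocks_one, sub_eq_add_neg, fromBlocks_neg, fromBlocks_add, fromBlocks_multiply]
    simp
  have hNB : ∀ u v, B (N *ᵥ u) (N *ᵥ v) = B u v := B_mem hN
  have hrec6 : ∀ {A : Mat F}, (A ^ 3 - 1) * (A ^ 3 - 1) = 0 → ∀ z : V F, ∀ k : ℕ,
      A ^ (6 + k) *ᵥ z = (2 : F) • (A ^ (3 + k) *ᵥ z) - A ^ k *ᵥ z := by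
    intro A hA z k
    have e : A ^ 6 = (2 : F) • A ^ 3 - 1 := by
      rw [show (6 : ℕ) = 3 + 3 from rfl, pow_add]
      have : A ^ 3 * A ^ 3 - A ^ 3 - A ^ 3 + 1 = 0 := by rw [← hA]; noncomm_ring
      rw [two_smul]
      linear_combination (norm := abel) this
    rw [pow_add, e, sub_mul, Matrix.smul_mul, one_mul, ← pow_add, sub_mulVec, smul_mulVec]
  have four : ∀ {A : Mat F}, (A ^ 3 - 1) * (A ^ 3 - 1) = 0 → (∀ u v, B (A *ᵥ u) (A *ᵥ v) = B u v) → ∀ z : V F,
      B z (A *ᵥ z) = 0 → B z (A ^ 2 *ᵥ z) = 0 → B z (A ^ 4 *ᵥ z) = 0 ∧ B z (A ^ 5 *ᵥ z) = 0 := by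
    intro A hA hAB z hz1 hz2
    have shift : ∀ (n k : ℕ), B (A ^ n *ᵥ z) (A ^ (n + k) *ᵥ z) = B z (A ^ k *ᵥ z) := by
      intro n k
      induction n with
      | zero => simp
      | succ n ih => rw [Nat.succ_add, pow_succ', pow_succ', ← mulVec_mulVec, ← mulVec_mulVec, hAB, ih]
    constructor
    · have h := shift 2 4
      rw [hrec6 hA z 0] at h
      rw [← h, B_sub_right, B_smul_right, B_swap (A ^ 0 *ᵥ z)]
      have a := shift 2 1
      have b := shift 0 2
      simp only [Nat.zero_add, Nat.reduceAdd] at a b ⊢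
      rw [a, b, pow_one, hz1, hz2]; ring
    · have h := shift 1 5
      rw [hrec6 hA z 0] at h
      rw [← h, B_sub_right, B_smul_right, B_swap (A ^ 0 *ᵥ z)]
      have a := shift 1 2
      have b := shift 0 1
      simp only [Nat.zero_add, Nat.reduceAdd, pow_one] at a b ⊢
      rw [a, b, hz1, hz2]; ring
  have q1 : B e (N *ᵥ e) = 0 := e1
  have q2 : B e (N ^ 2 *ᵥ e) = 0 := by rw [sq, ← mulVec_mulVec]; exact e2
  have q3 : B e (N ^ 3 *ᵥ e) = B x (M ^ 3 *ᵥ x) := by
    rw [pow_succ, sq, ← mulVec_mulVec, ← mulVec_mulVec]; exact e3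
  obtain ⟨q4, q5⟩ := four hNrel hNB e q1 q2
  obtain ⟨hliM, hgM⟩ := li_six hB h1 h2 h4 h5 h3
  obtain ⟨-, hgN⟩ := li_six hNB q1 q2 q4 q5 (q3 ▸ h3)
  obtain ⟨S, hS⟩ := exists_map hliM rfl (w' := fun i : Fin 6 => N ^ (i : ℕ) *ᵥ e)
    (fun i j => by rw [hgM, hgN, q3])
  refine ⟨S, N, mat_ext hliM rfl fun i => ?_, Or.inr ⟨1, one_pow _, ?_⟩⟩
  · rw [← mulVec_mulVec, ← mulVec_mulVec, hS]
    show S.1 *ᵥ (M *ᵥ (M ^ (i : ℕ) *ᵥ x)) = N *ᵥ (N ^ (i : ℕ) *ᵥ e)
    rw [mulVec_mulVec _ M, mulVec_mulVec _ N, ← pow_succ', ← pow_succ']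
    fin_cases i
    · exact hS 1
    · exact hS 2
    · exact hS 3
    · exact hS 4
    · exact hS 5
    · show S.1 *ᵥ (M ^ (6 + 0) *ᵥ x) = N ^ (6 + 0) *ᵥ e
      rw [hrec6 hrel, hrec6 hNrel, mulVec_sub, mulVec_smul]
      exact congrArg₂ (fun p r => (2 : F) • p - r) (hS 3) (hS 0)
  · have h := cyc_T₀ (F := F) c
    have hb : b * T₀ c = T₀ c * b := by
      simp only [b, Matrix.smul_mul, Matrix.mul_smul, sub_mul, mul_sub, mul_assoc]
    simp only [N, T6, map_one]
    rw [← fromBlocks_one, fromBlocks_add, fromBlocks_multiply, fromBlocks_multiply]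
    simp [h, mul_assoc, hb]
    rw [← mul_assoc, h, mul_assoc]

/-! ### the main theorem -/

theorem good_linear {c t : F} {M Mi : Mat F} (h1 : M * Mi = 1) (h2 : Mi * M = 1)
    (hB : ∀ x y, B (M *ᵥ x) (M *ᵥ y) = B x y) (ht : t ^ 2 ≠ 1 ∨ t = 2)
    (hN : (M + Mi - algebraMap F _ t) ^ 6 = 0) : Good c M := by
  classical
  have h3 : ((3 : ℕ) : F) = 0 := CharP.cast_eq_zero F 3
  push_cast at h3
  have hcomm : Commute M Mi := h1.trans h2.symm
  set N := M + Mi - algebraMap F _ t with hNdef
  have hMN : Commute M N := ((Commute.refl M).add_right hcomm).sub_right (Algebra.commute_algebraMap_right t M)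
  have hMiN : Commute Mi N := (hcomm.symm.add_right (Commute.refl Mi)).sub_right (Algebra.commute_algebraMap_right t Mi)
  have hsM : ∀ x y, B ((M + Mi) *ᵥ x) y = B x ((M + Mi) *ᵥ y) := fun x y => by
    rw [add_mulVec, add_mulVec, B_add_left, B_add_right, adj_M h1 hB, adj_Mi h1 hB, add_comm]
  have hNsa : ∀ x y, B (N *ᵥ x) y = B x (N *ᵥ y) := fun x y => by
    rw [hNdef, sub_mulVec, sub_mulVec, B_sub_left, B_sub_right, hsM, Algebra.algebraMap_eq_smul_one,
      smul_mulVec, smul_mulVec, one_mulVec, one_mulVec, B_smul_left, B_smul_right]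
  have hquad : M * M = t • M - 1 + M * N := by
    rw [hNdef, mul_sub, mul_add, h1, Algebra.algebraMap_eq_smul_one, Matrix.mul_smul, mul_one]
    abel
  -- N ^ 3 = 0
  have hN3 : N ^ 3 = 0 := by
    by_contra hne
    obtain ⟨x, hx⟩ : ∃ x, N ^ 3 *ᵥ x ≠ 0 := by
      by_contra hx
      push_neg at hx
      exact hne (Matrix.ext_of_mulVec_single fun i => by rw [hx, zero_mulVec])
    have hli : LinearIndependent F (fun i : Fin 4 => N ^ (i : ℕ) *ᵥ x) := by
      obtain ⟨m, hm, hm'⟩ : ∃ m, N ^ m *ᵥ x ≠ 0 ∧ N ^ (m + 1) *ᵥ x = 0 := by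
        by_contra hno
        push_neg at hno
        have : ∀ m, N ^ m *ᵥ x ≠ 0 := fun m => by
          induction m with
          | zero => intro h0; exact hx (by rw [pow_zero, one_mulVec] at h0; rw [h0, mulVec_zero])
          | succ k ih => exact hno k ih
        exact this 6 (by rw [hN, zero_mulVec])
      have hm3 : 3 ≤ m := by
        by_contra hlt
        apply hx
        have h' : N ^ ((2 - m) + (m + 1)) *ᵥ x = 0 := by rw [pow_add, ← mulVec_mulVec, hm', mulVec_zero]
        rwa [show 2 - m + (m + 1) = 3 by omega] at h'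
      rw [Fintype.linearIndependent_iff]
      intro a ha
      rw [Fin.sum_univ_four] at ha
      simp only [Fin.isValue, Fin.val_zero, Fin.val_one, Fin.val_two] at ha
      have hz : ∀ n, m + 1 ≤ n → N ^ n *ᵥ x = 0 := fun n hn => by
        rw [← Nat.sub_add_cancel hn, pow_add, ← mulVec_mulVec, hm', mulVec_zero]
      have app : ∀ j, a 0 • (N ^ j *ᵥ x) + a 1 • (N ^ (j + 1) *ᵥ x) + a 2 • (N ^ (j + 2) *ᵥ x)
          + a 3 • (N ^ (j + 3) *ᵥ x) = 0 := fun j => by
        have := congrArg (N ^ j *ᵥ ·) ha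
        simpa [mulVec_add, mulVec_smul, mulVec_mulVec, ← pow_add, pow_succ, mul_assoc] using this
      have a0 : a 0 = 0 := by
        have := app m
        rw [hz (m + 1) le_rfl, hz (m + 2) (by omega), hz (m + 3) (by omega)] at this
        simpa [hm] using this
      have a1 : a 1 = 0 := by
        have := app (m - 1)
        rw [a0, show m - 1 + 1 = m by omega, hz (m - 1 + 2) (by omega), hz (m - 1 + 3) (by omega)] at this
        simpa [hm] using this
      have a2 : a 2 = 0 := by
        have := app (m - 2)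
        rw [a0, a1, show m - 2 + 2 = m by omega, hz (m - 2 + 3) (by omega)] at this
        simpa [hm] using this
      have a3 : a 3 = 0 := by
        have := app (m - 3)
        rw [a0, a1, a2, show m - 3 + 3 = m by omega] at this
        simpa [hm] using this
      intro i
      fin_cases i
      · exact a0
      · exact a1
      · exact a2
      · exact a3
    have := card_le_three hli (fun i j => ti_powers hNsa x i j)
    simp at this
  by_cases hinv : ∃ x, N *ᵥ x = 0 ∧ B x (M *ᵥ x) ≠ 0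
  · obtain ⟨x, hx0, hx⟩ := hinv
    refine good_of_plane x (M *ᵥ x) hx (Submodule.mem_span_pair.2 ⟨0, 1, by simp⟩) ?_
    rw [mulVec_mulVec, hquad, add_mulVec, sub_mulVec, smul_mulVec, one_mulVec, ← mulVec_mulVec, hx0, mulVec_zero]
    exact Submodule.mem_span_pair.2 ⟨-1, t, by module⟩
  push_neg at hinv
  -- polarise
  have hD : ∀ x y, N *ᵥ x = 0 → N *ᵥ y = 0 → B x ((M - Mi) *ᵥ y) = 0 := by
    intro x y hx hy
    have h := hinv (x + y) (by rw [mulVec_add, hx, hy, add_zero])
    rw [mulVec_add, B_add_left, B_add_right, B_add_right, hinv x hx, hinv y hy, B_swap (M *ᵥ x) y] at h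
    rw [sub_mulVec, B_sub_right, ← adj_M h1 hB]
    linear_combination h
  by_cases hN1 : N = 0
  · -- M is a scalar
    have hMM : M = Mi := by
      refine sub_eq_zero.1 (Matrix.ext_of_mulVec_single fun i => ?_)
      rw [zero_mulVec]
      refine B_ext_right fun z => ?_
      rw [hD z _ (by rw [hN1, zero_mulVec]) (by rw [hN1, zero_mulVec]), B_zero_right]
    have htM : t • M = (2 : F) • 1 := by
      rw [hN1, mul_zero, add_zero] at hquad
      rw [← hMM] at h1
      rw [h1] at hquad
      rw [two_smul]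
      linear_combination (norm := abel) -hquad
    have h20 : (2 : F) ≠ 0 := fun h => one_ne_zero (α := F) (by linear_combination h3 - h)
    have ht0 : t ≠ 0 := by
      rintro rfl
      rw [zero_smul] at htM
      have := congrFun (congrFun htM (Sum.inl 0)) (Sum.inl 0)
      simp at this
      exact h20 this.symm
    have hsc : ∀ z, M *ᵥ z = (2 / t) • z := fun z => by
      rw [show M = (2 / t) • (1 : Mat F) by rw [div_eq_inv_mul, mul_smul, ← htM, smul_smul, inv_mul_cancel₀ ht0,
        one_smul], smul_mulVec, one_mulVec]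
    refine good_of_plane (Pi.single (Sum.inl 0) 1) (Pi.single (Sum.inr 0) 1)
      (by simp [B_def, Pi.single_apply]) ?_ ?_ <;> rw [hsc]
    · exact Submodule.smul_mem _ _ (Submodule.subset_span (by simp))
    · exact Submodule.smul_mem _ _ (Submodule.subset_span (by simp))
  -- D and its square
  have hD2 : (M - Mi) * (M - Mi) = (t ^ 2 - 4) • (1 : Mat F) + (2 * t) • N + N * N := by
    have e : (M - Mi) * (M - Mi) = (M + Mi) * (M + Mi) - (4 : F) • 1 := by
      rw [show (4 : F) • (1 : Mat F) = (2 : F) • ((M * Mi) + (Mi * M)) by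
        rw [h1, h2, smul_add, ← add_smul]; norm_num]
      rw [two_smul]; noncomm_ring
    rw [e, show M + Mi = N + algebraMap F _ t by rw [hNdef]; abel, Algebra.algebraMap_eq_smul_one]
    simp only [mul_add, add_mul, Matrix.smul_mul, Matrix.mul_smul, one_mul, mul_one, smul_smul]
    module
  have hDN : Commute (M - Mi) N := hMN.sub_left hMiN
  have hMiN2 : ∀ z, N *ᵥ z = Mi *ᵥ (N *ᵥ (M *ᵥ z)) := fun z => by
    rw [mulVec_mulVec, mulVec_mulVec, mul_assoc, hMN.symm.eq, ← mul_assoc, h2, one_mul]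
  by_cases hN2 : N * N = 0
  · -- rank considerations
    let L := Matrix.mulVecLin N
    have hrk := L.finrank_range_add_finrank_ker
    have hle : LinearMap.range L ≤ LinearMap.ker L := by
      rintro _ ⟨z, rfl⟩
      show N *ᵥ (N *ᵥ z) = 0
      rw [mulVec_mulVec, hN2, zero_mulVec]
    have h6 : Module.finrank F (V F) = 6 := by simp
    rw [h6] at hrk
    have hmono := Submodule.finrank_mono hle
    have hpos : 0 < Module.finrank F (LinearMap.range L) := by
      rw [Nat.pos_iff_ne_zero]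
      intro h0
      rw [Submodule.finrank_eq_zero, LinearMap.range_eq_bot] at h0
      apply hN1
      refine Matrix.ext_of_mulVec_single fun i => ?_
      rw [zero_mulVec]
      exact LinearMap.congr_fun h0 _
    have hne1 : Module.finrank F (LinearMap.range L) ≠ 1 := by
      intro h
      obtain ⟨v, hv0, hv⟩ := finrank_eq_one_iff'.1 h
      obtain ⟨x, hx⟩ := v.2
      apply hv0
      apply Subtype.ext
      refine B_nondeg fun z => ?_
      obtain ⟨r, hr⟩ := hv ⟨L z, z, rfl⟩
      have hr' : r • (v : V F) = N *ᵥ z := congrArg Subtype.val hr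
      rw [← hx]
      show B (N *ᵥ x) z = 0
      rw [hNsa, ← hr', ← hx, B_smul_right]
      show r * B x (N *ᵥ x) = 0
      rw [self_adj_null hNsa, mul_zero]
    have hne3 : Module.finrank F (LinearMap.range L) ≠ 3 := by
      intro h
      have hker : LinearMap.range L = LinearMap.ker L := Submodule.eq_of_le_of_finrank_le hle (by omega)
      let bb := Module.finBasisOfFinrankEq F (LinearMap.range L) h
      choose xs hxs using fun i => (bb i).2
      obtain ⟨a, ha0, ha⟩ := exists_null_three (fun i j => B (N *ᵥ xs i) (xs j)) (fun i j => by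
        show B (N *ᵥ xs j) (xs i) = -B (N *ᵥ xs i) (xs j)
        rw [hNsa (xs j), B_swap])
      apply ha0
      have hw : ∑ i, a i • bb i = 0 := by
        apply Subtype.ext
        rw [Submodule.coe_sum, ZeroMemClass.coe_zero]
        refine B_nondeg fun z => ?_
        obtain ⟨r, hr⟩ : ∃ r : Fin 3 → F, N *ᵥ z = ∑ j, r j • (bb j : V F) :=
          ⟨bb.repr ⟨L z, z, rfl⟩, by
            have := congrArg Subtype.val (bb.sum_repr ⟨L z, z, rfl⟩)
            rw [Submodule.coe_sum] at this
            exact this.symm⟩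
        have hbb : ∀ i, (bb i : V F) = N *ᵥ xs i := fun i => (hxs i).symm
        have hdiff : N *ᵥ (z - ∑ j, r j • xs j) = 0 := by
          simp [mulVec_sub, Matrix.mulVec_sum, mulVec_smul, hr, hbb]
        rw [B_sum_left]
        simp only [Submodule.coe_smul, B_smul_left, hbb]
        have e : ∀ i, B (N *ᵥ xs i) z = ∑ j, r j * B (N *ᵥ xs i) (xs j) := fun i => by
          have : B (N *ᵥ xs i) (z - ∑ j, r j • xs j) = 0 := by rw [hNsa, hdiff, B_zero_right]
          rwa [B_sub_right, sub_eq_zero, B_sum_right, Finset.sum_congr rfl (fun j _ => B_smul_right _ _ _)] at this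
        simp only [e, Finset.mul_sum]
        rw [Finset.sum_comm]
        refine Finset.sum_eq_zero fun j _ => ?_
        rw [show ∑ i, a i * (r j * B (N *ᵥ xs i) (xs j)) = r j * ∑ i, a i * B (N *ᵥ xs i) (xs j) by
          rw [Finset.mul_sum]; exact Finset.sum_congr rfl fun i _ => by ring, ha j, mul_zero]
      funext i
      exact Fintype.linearIndependent_iff.1 bb.linearIndependent a hw i
    have hr2 : Module.finrank F (LinearMap.range L) = 2 := by omega
    have hperp : ∀ y, (∀ k, N *ᵥ k = 0 → B k y = 0) → y ∈ LinearMap.range L := by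
      intro y hy
      let φ : Module.Dual F (V F) := (Bil (F := F)).flip y
      have : φ ∈ (LinearMap.ker L).dualAnnihilator :=
        (Submodule.mem_dualAnnihilator _).2 fun k hk => hy k hk
      rw [← LinearMap.range_dualMap_eq_dualAnnihilator_ker] at this
      obtain ⟨ψ, hψ⟩ := this
      obtain ⟨z, hz⟩ : ∃ z, ∀ v, ψ v = B v z := by
        refine ⟨Sum.elim (fun i => ψ (Pi.single (Sum.inr i) 1)) (fun i => -ψ (Pi.single (Sum.inl i) 1)), fun v => ?_⟩
        conv_lhs => rw [pi_eq_sum_univ' v]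
        simp [B_def, Finset.sum_add_distrib, Finset.sum_sub_distrib]
        ring
      refine ⟨z, (B_ext_right fun v => ?_).symm⟩
      have h := LinearMap.congr_fun hψ v
      change ψ (N *ᵥ v) = B v y at h
      rw [← h, hz, hNsa]
      rfl
    rcases ht with ht | rfl
    · -- semisimple part not central: contradiction
      exfalso
      have he : t ^ 2 - 4 ≠ 0 := fun h => ht (by linear_combination h + h3)
      have hker_le : LinearMap.ker L ≤ LinearMap.range L := by
        intro k hk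
        obtain ⟨z, hz⟩ := hperp ((M - Mi) *ᵥ k) (fun x hx => hD x k hx hk)
        refine ⟨(t ^ 2 - 4)⁻¹ • ((M - Mi) *ᵥ z), ?_⟩
        show N *ᵥ _ = k
        rw [mulVec_smul, mulVec_mulVec, ← hDN.eq, ← mulVec_mulVec, show N *ᵥ z = _ from hz, mulVec_mulVec, hD2,
          hN2, add_zero, add_mulVec, smul_mulVec, smul_mulVec, one_mulVec, show N *ᵥ k = 0 from hk, smul_zero,
          add_zero, smul_smul, inv_mul_cancel₀ he, one_smul]
      have := Submodule.finrank_mono hker_le
      omega
    -- unipotent of type (3,3) or with a fixed plane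
    by_cases hfix : ∃ a b, M *ᵥ a = a ∧ M *ᵥ b = b ∧ B a b ≠ 0
    · obtain ⟨a, b, ha, hb, hab⟩ := hfix
      exact good_of_plane a b hab (by rw [ha]; exact Submodule.subset_span (by simp))
        (by rw [hb]; exact Submodule.subset_span (by simp))
    push_neg at hfix
    set X := M - 1 with hX
    have hXX : X * X = M * N := by
      rw [hX, sub_mul, mul_sub, mul_one, one_mul, hquad, two_smul]; abel
    have hMX : Commute M X := (Commute.refl M).sub_right (Commute.one_right M)
    have hMiX : Mi * X = 1 - Mi := by rw [hX, mul_sub, h2, mul_one]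
    let LX := Matrix.mulVecLin X
    have hkX : LinearMap.ker LX ≤ LinearMap.range L := by
      intro a ha
      have haX : X *ᵥ a = 0 := ha
      have haM : M *ᵥ a = a := by rw [hX, sub_mulVec, one_mulVec, sub_eq_zero] at haX; exact haX
      obtain ⟨w, hw⟩ : ∃ w, X *ᵥ w = a := by
        let φ : Module.Dual F (V F) := (Bil (F := F)).flip a
        have : φ ∈ (LinearMap.ker LX).dualAnnihilator := (Submodule.mem_dualAnnihilator _).2 fun k hk => by
          refine hfix k a ?_ haM
          have hk' : X *ᵥ k = 0 := hk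
          rw [hX, sub_mulVec, one_mulVec, sub_eq_zero] at hk'
          exact hk'
        rw [← LinearMap.range_dualMap_eq_dualAnnihilator_ker] at this
        obtain ⟨ψ, hψ⟩ := this
        obtain ⟨z, hz⟩ : ∃ z, ∀ v, ψ v = B v z := by
          refine ⟨Sum.elim (fun i => ψ (Pi.single (Sum.inr i) 1)) (fun i => -ψ (Pi.single (Sum.inl i) 1)), fun v => ?_⟩
          conv_lhs => rw [pi_eq_sum_univ' v]
          simp [B_def, Finset.sum_add_distrib, Finset.sum_sub_distrib]
          ring
        refine ⟨-(Mi *ᵥ z), B_ext_right fun v => ?_⟩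
        have h := LinearMap.congr_fun hψ v
        change ψ (X *ᵥ v) = B v a at h
        rw [← h, hz, hX, sub_mulVec, sub_mulVec, one_mulVec, one_mulVec, B_sub_left, adj_M h1 hB, B_sub_right,
          B_neg_right, mulVec_neg, B_neg_right, mulVec_mulVec, h1, one_mulVec]
        ring
      have hNw : N *ᵥ w = 0 := by
        rw [show N = Mi * (X * X) by rw [hXX, ← mul_assoc, h2, one_mul], ← mulVec_mulVec, ← mulVec_mulVec, hw, haX,
          mulVec_zero]
      refine hperp a fun k hk => ?_
      have h := hD k w hk hNw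
      have e : (M - Mi) *ᵥ w = (2 : F) • a := by
        have : M - Mi = Mi * (X * (X + 2)) := by
          rw [← mul_assoc, hMiX, hX]
          rw [show (1 : Mat F) - Mi = Mi * M - Mi by rw [h2]]
          rw [show (M - 1 + 2 : Mat F) = M + 1 by rw [← one_add_one_eq_two]; abel]
          simp only [sub_mul, mul_add, mul_one]
          rw [h2, one_mul]; abel
        rw [this, mul_add, ← mulVec_mulVec, add_mulVec, ← mulVec_mulVec, hw, haX, zero_add,
          mul_two, add_mulVec, hw, mulVec_add, ← two_smul F (Mi *ᵥ a)]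
        congr 1
        conv_lhs => rw [← haM]
        rw [mulVec_mulVec, h2, one_mulVec]
      rw [e, B_smul_right, mul_eq_zero] at h
      exact h.resolve_left fun h2 => one_ne_zero (α := F) (by linear_combination h3 - h2)
    -- dimension of the fixed space
    let K2 := LinearMap.ker L
    let res : K2 →ₗ[F] V F := LX.comp K2.subtype
    have hres := res.finrank_range_add_finrank_ker
    have hrange : LinearMap.range res ≤ LinearMap.ker LX := by
      rintro _ ⟨k, rfl⟩
      show X *ᵥ (X *ᵥ (k : V F)) = 0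
      rw [mulVec_mulVec, hXX, ← mulVec_mulVec, show N *ᵥ (k : V F) = 0 from k.2, mulVec_zero]
    have hkerres : Module.finrank F (LinearMap.ker res) ≤ Module.finrank F (LinearMap.ker LX) := by
      rw [← Submodule.finrank_map_subtype_eq]
      refine Submodule.finrank_mono ?_
      rintro _ ⟨k, hk, rfl⟩
      exact hk
    have hmono2 : Module.finrank F (LinearMap.range res) ≤ Module.finrank F (LinearMap.ker LX) :=
      Submodule.finrank_mono hrange
    have hmono3 : Module.finrank F (LinearMap.ker LX) ≤ Module.finrank F (LinearMap.range L) :=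
      Submodule.finrank_mono hkX
    have heq : LinearMap.ker LX = LinearMap.range L := Submodule.eq_of_le_of_finrank_le hkX (by
      have : Module.finrank F K2 = 4 := by show Module.finrank F (LinearMap.ker L) = 4; omega
      omega)
    have hXN : X * N = 0 := Matrix.ext_of_mulVec_single fun i => by
      rw [zero_mulVec, ← mulVec_mulVec]
      exact (show N *ᵥ Pi.single i 1 ∈ LinearMap.ker LX from heq ▸ ⟨_, rfl⟩)
    have hXM : M * N = N := by rw [hX, sub_mul, one_mul, sub_eq_zero] at hXN; exact hXN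
    rw [hXM] at hXX
    have hX3 : X * X * X = 0 := by
      rw [hXX, ← (hMN.sub_left (Commute.one_left N)).eq]; exact hXN
    have hMu : M * M * M = 1 := by
      have e : M = X + 1 := by rw [hX, sub_add_cancel]
      rw [e]
      have : (X + 1) * (X + 1) * (X + 1) = X * X * X + (3 : ℕ) • (X * X) + (3 : ℕ) • X + 1 := by noncomm_ring
      rw [this, hX3, ← Nat.cast_smul_eq_nsmul F, ← Nat.cast_smul_eq_nsmul F, Nat.cast_ofNat, h3, zero_smul,
        zero_smul, zero_add, zero_add, zero_add]
    -- choose the pair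
    obtain ⟨y1, y2, hy12⟩ : ∃ y1 y2, B y1 (N *ᵥ y2) ≠ 0 := by
      by_contra hno
      push_neg at hno
      exact hN1 (Matrix.ext_of_mulVec_single fun i => by
        rw [zero_mulVec]; exact B_ext_right fun z => by rw [hno, B_zero_right])
    set e := B y1 (N *ᵥ y2) with he
    have hM' : ∀ z, M *ᵥ z = z + X *ᵥ z := fun z => by rw [hX, sub_mulVec, one_mulVec]; abel
    have hXz : ∀ z, X *ᵥ (X *ᵥ z) = N *ᵥ z := fun z => by rw [mulVec_mulVec, hXX]
    have hXNz : ∀ z, X *ᵥ (N *ᵥ z) = 0 := fun z => by rw [mulVec_mulVec, hXN, zero_mulVec]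
    have hNXc : N * X = X * N := ((hMN.sub_left (Commute.one_left N)).eq).symm
    have hNX : ∀ z, N *ᵥ (X *ᵥ z) = 0 := fun z => by rw [mulVec_mulVec, hNXc, ← mulVec_mulVec, hXNz]
    have hNN : ∀ z, N *ᵥ (N *ᵥ z) = 0 := fun z => by rw [mulVec_mulVec, hN2, zero_mulVec]
    -- the adjoint of `X` is `-X + N`
    have hXadj : ∀ a b, B (X *ᵥ a) b = -B a (X *ᵥ b) + B a (N *ᵥ b) := fun a b => by
      have hMi' : Mi = M * M := by
        calc Mi = Mi * (M * M * M) := by rw [hMu, mul_one]
          _ = M * M := by rw [← mul_assoc, ← mul_assoc, h2, one_mul]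
      have hb : Mi *ᵥ b = b + (2 : F) • (X *ᵥ b) + N *ᵥ b := by
        rw [hMi', ← mulVec_mulVec, hM' b, mulVec_add, hM' b, hM' (X *ᵥ b), hXz, two_smul]; abel
      conv_lhs => rw [hX, sub_mulVec, one_mulVec, B_sub_left, adj_M h1 hB, hb]
      rw [B_add_right, B_add_right, B_smul_right]
      linear_combination (B a (X *ᵥ b)) * h3
    have hBXX : ∀ a b, B (X *ᵥ a) (X *ᵥ b) = -B a (N *ᵥ b) := fun a b => by
      rw [hXadj, hXz, hNX, B_zero_right, add_zero]
    have hBXN : ∀ a b, B (X *ᵥ a) (N *ᵥ b) = 0 := fun a b => by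
      rw [← hNsa, hNX, B_zero_left]
    have hBNX : ∀ a b, B (N *ᵥ a) (X *ᵥ b) = 0 := fun a b => by
      rw [hNsa, hNX, B_zero_right]
    have hBNN : ∀ a b, B (N *ᵥ a) (N *ᵥ b) = 0 := fun a b => by rw [hNsa, hNN, B_zero_right]
    have he0 : e ≠ 0 := hy12
    have he' : B y2 (N *ᵥ y1) = -e := by rw [← hNsa, B_swap]
    set f1 := B y1 (X *ᵥ y1)
    set f2 := B y2 (X *ᵥ y2)
    set v := y1 + (-f1 / (2 * e)) • (X *ᵥ y2) with hv
    set w0 := y2 + (-f2 / (2 * (-e))) • (X *ᵥ y1) with hw0
    have hself : ∀ a, B a (N *ᵥ a) = 0 := self_adj_null hNsa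
    have hcross : ∀ a b, B (X *ᵥ a) b = -B a (X *ᵥ b) + B a (N *ᵥ b) := hXadj
    have h20 : (2 : F) ≠ 0 := fun h => one_ne_zero (α := F) (by linear_combination h3 - h)
    have hvv : B v (X *ᵥ v) = 0 := by
      rw [hv]
      simp only [mulVec_add, mulVec_smul, B_add_left, B_add_right, B_smul_left, B_smul_right, hXz, hBXX, hBXN]
      rw [show B y2 (N *ᵥ y1) = -e from he']
      field_simp
      ring
    have hw00 : B w0 (X *ᵥ w0) = 0 := by
      rw [hw0]
      simp only [mulVec_add, mulVec_smul, B_add_left, B_add_right, B_smul_left, B_smul_right, hXz, hBXX, hBXN]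
      rw [show B y2 (N *ᵥ y1) = -e from he', ← he]
      field_simp
      ring
    have hve : B v (N *ᵥ w0) = e := by
      rw [hv, hw0]
      simp only [mulVec_add, mulVec_smul, B_add_left, B_add_right, B_smul_left, B_smul_right, hNX, hBXN,
        B_zero_right]
      ring
    clear_value v w0
    set a0 := B v w0 with ha0
    set a1 := B v (X *ᵥ w0) with ha1
    have hMw : ∀ z, B v (M *ᵥ z) = B v z + B v (X *ᵥ z) := fun z => by rw [hM', B_add_right]
    -- coefficients of the correction
    obtain ⟨r0, r1, r2, E0, E1, E2⟩ : ∃ r0 r1 r2 : F,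
        r0 * a0 + r1 * a1 + r2 * e = -1 ∧ r0 * a1 + r1 * e = 1 ∧ r0 * e = -1 :=
      ⟨-1 / e, (1 + a1 / e) / e, (-1 + a0 / e - (1 + a1 / e) / e * a1) / e,
        by field_simp; ring, by field_simp; ring, by field_simp⟩
    set w := r0 • w0 + r1 • (X *ᵥ w0) + r2 • (N *ᵥ w0) with hw
    have hXw : X *ᵥ w = r0 • (X *ᵥ w0) + r1 • (N *ᵥ w0) := by
      rw [hw]; simp only [mulVec_add, mulVec_smul, hXz, hXNz, smul_zero, add_zero]
    have hvw : B v w = -1 := by
      rw [hw]; simp only [B_add_right, B_smul_right, ← hv]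
      rw [hve]; linear_combination E0
    have hvXw : B v (X *ᵥ w) = 1 := by
      rw [hXw, B_add_right, B_smul_right, B_smul_right, hve]; linear_combination E1
    have hvNw : B v (N *ᵥ w) = -1 := by
      rw [hw]; simp only [mulVec_add, mulVec_smul, hNX, hNN, smul_zero, add_zero, B_smul_right, hve]
      exact E2
    refine good_of_spread (u := M) (R := 1) hMu (mul_one M).symm (Commute.one_right M)
      (fun x y => by simp) v w (by rw [one_mulVec]; exact Submodule.subset_span (by simp))
      (by rw [one_mulVec]; exact Submodule.subset_span (by simp)) hB hvw ?_ ?_ ?_ ?_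
    · rw [hM', B_add_right, B_self, hvv, add_zero]
    · rw [hM', B_add_right, B_self, zero_add, hw]
      simp only [mulVec_add, mulVec_smul, B_add_left, B_add_right, B_smul_left, B_smul_right, hXz, hXNz, hBXX,
        hBXN, hBNX, hBNN, hw00, hself, B_zero_right, hcross w0 w0]
      ring
    · rw [hM', B_add_right, hvw, hvXw]; ring
    · rw [hM', B_add_right, B_swap v w, hvw]
      have : B w (X *ᵥ v) = -1 := by
        rw [B_swap (X *ᵥ v) w, hXadj, hvXw, hvNw]; linear_combination h3
      rw [this]; ring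
  -- N * N ≠ 0
  set D := M - Mi with hDdef
  have hDsk : ∀ x y, B (D *ᵥ x) y = -B x (D *ᵥ y) := fun x y => by
    rw [hDdef, sub_mulVec, sub_mulVec, B_sub_left, B_sub_right, adj_M h1 hB, adj_Mi h1 hB]; ring
  have hNpow : ∀ x y, B ((N * N) *ᵥ x) y = B x ((N * N) *ᵥ y) := fun x y => by
    rw [← mulVec_mulVec, ← mulVec_mulVec, hNsa, hNsa]
  obtain ⟨y, hy⟩ : ∃ y, B y ((D * (N * N)) *ᵥ y) ≠ 0 := by
    by_contra hno
    push_neg at hno
    have hzero : D * (N * N) = 0 := by
      refine Matrix.ext_of_mulVec_single fun i => ?_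
      rw [zero_mulVec]
      refine B_ext_right fun z => ?_
      rw [B_zero_right]
      set y' := (Pi.single i 1 : V F)
      have h := hno (z + y')
      rw [mulVec_add, B_add_left, B_add_right, B_add_right, hno z, hno y'] at h
      have hsym : B y' ((D * (N * N)) *ᵥ z) = B z ((D * (N * N)) *ᵥ y') := by
        conv_lhs => rw [B_swap, ← mulVec_mulVec, hDsk, neg_neg, hNpow, mulVec_mulVec, ← (hDN.mul_right hDN).eq]
      rw [hsym] at h
      linear_combination (-1 : F) * h + (B z ((D * (N * N)) *ᵥ y')) * h3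
    rcases ht with ht | rfl
    · apply hN2
      have he : t ^ 2 - 4 ≠ 0 := fun h => ht (by linear_combination h + h3)
      have h := congrArg (D * ·) hzero
      simp only [mul_zero] at h
      rw [← mul_assoc, hD2] at h
      have e : (N * N) * N = 0 := by rw [← hN3, pow_succ, sq]
      have e' : N * (N * N) = 0 := by rw [← mul_assoc]; exact e
      rw [add_mul, add_mul, Matrix.smul_mul, one_mul, Matrix.smul_mul, mul_assoc N N (N * N), e', smul_zero,
        add_zero, mul_zero, add_zero] at h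
      exact (smul_eq_zero.1 h).resolve_left he
    · set X := M - 1 with hX
      have hXX : X * X = M * N := by
        rw [hX, sub_mul, mul_sub, mul_one, one_mul, hquad, two_smul]; abel
      have hX4 : X * X * (X * X) = M * M * (N * N) := by
        rw [hXX, mul_assoc M N, ← mul_assoc N M, ← hMN.eq]; noncomm_ring
      have hX5 : X * X * (X * X) * X = 0 := by
        have e : (M - Mi) * M = X * (X + 2) := by
          rw [sub_mul, h2, hX, show (M - 1 + 2 : Mat F) = M + 1 by rw [← one_add_one_eq_two]; abel]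
          noncomm_ring
        have e6 : X * X * (X * X) * (X * X) = 0 := by
          rw [hXX, show M * N * (M * N) * (M * N) = M ^ 3 * N ^ 3 by rw [← hMN.mul_pow, pow_succ, sq],
            hN3, mul_zero]
        have h := congrArg (fun A => A * M * M * M) hzero
        simp only [zero_mul] at h
        have e2 : D * (N * N) * M * M * M = X * (X + 2) * (X * X * (X * X)) := by
          have c3 : N * N * (M * M * M) = M * M * M * (N * N) :=
            (((hMN.mul_left hMN).mul_left hMN).symm.mul_left ((hMN.mul_left hMN).mul_left hMN).symm).eq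
          calc D * (N * N) * M * M * M = D * (N * N * (M * M * M)) := by simp only [mul_assoc]
            _ = D * (M * M * M * (N * N)) := by rw [c3]
            _ = _ := by rw [hX4, ← e]; simp only [hDdef, mul_assoc]
        rw [e2] at h
        have e3 : X * (X + 2) * (X * X * (X * X)) = X * X * (X * X) * (X * X) + (2 : F) • (X * X * (X * X) * X) := by
          rw [two_smul, show X * (X + 2) = X * X + X + X by rw [mul_add, mul_two]; abel]
          noncomm_ring
        rw [e3, e6, zero_add, smul_eq_zero] at h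
        exact h.resolve_left fun h2 => one_ne_zero (α := F) (by linear_combination h3 - h2)
      -- eight independent vectors
      set X4 := X * X * (X * X)
      have hX4ne : X4 ≠ 0 := by
        rw [hX4]
        intro h
        apply hN2
        have := congrArg (Mi * Mi * ·) h
        simpa [mul_assoc, ← mul_assoc Mi M, h2] using this
      have hX4sa : ∀ x y, B (X4 *ᵥ x) y = B x ((Mi * Mi * (N * N)) *ᵥ y) := fun x y => by
        rw [hX4, ← mulVec_mulVec, ← mulVec_mulVec, adj_M h1 hB, adj_M h1 hB, hNpow, mulVec_mulVec, mulVec_mulVec,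
          ]
        congr 2
        have hc : Commute (N * N) (Mi * Mi) := ((hMiN.mul_right hMiN).mul_left (hMiN.mul_right hMiN)).symm
        simpa only [mul_assoc] using hc.eq
      obtain ⟨a, ha⟩ : ∃ a, X4 *ᵥ a ≠ 0 := by
        by_contra hh
        push_neg at hh
        exact hX4ne (Matrix.ext_of_mulVec_single fun i => by rw [hh, zero_mulVec])
      obtain ⟨b, hb⟩ : ∃ b, ∀ r : F, X4 *ᵥ b ≠ r • (X4 *ᵥ a) := by
        by_contra hh
        push_neg at hh
        apply ha
        have hMX4 : ∀ z, X4 *ᵥ z = M *ᵥ (M *ᵥ (N *ᵥ (N *ᵥ z))) := fun z => by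
          rw [hX4]; simp only [← mulVec_mulVec]
        have hrk : ∀ z, ∃ r : F, N *ᵥ (N *ᵥ z) = r • (N *ᵥ (N *ᵥ a)) := fun z => by
          obtain ⟨r, hr⟩ := hh z
          refine ⟨r, ?_⟩
          rw [hMX4, hMX4] at hr
          have := congrArg (fun u => Mi *ᵥ (Mi *ᵥ u)) hr
          simp only [mulVec_smul] at this
          simpa only [mulVec_mulVec, ← mul_assoc, mul_assoc Mi Mi M, h2, mul_one, one_mul] using this
        have hNa : N *ᵥ (N *ᵥ a) = 0 := B_nondeg fun z => by
          obtain ⟨r, hr⟩ := hrk z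
          rw [hNsa, hNsa, hr, B_smul_right, mulVec_mulVec, self_adj_null hNpow, mul_zero]
        rw [hMX4, hNa, mulVec_zero, mulVec_zero]
      have hli : LinearIndependent F (fun i : Fin 4 ⊕ Fin 4 => Sum.elim (fun k : Fin 4 => X ^ (k : ℕ) *ᵥ a)
          (fun k : Fin 4 => X ^ (k : ℕ) *ᵥ b) i) := by
        rw [Fintype.linearIndependent_iff]
        intro g hg
        simp only [Fintype.sum_sum_type, Fin.sum_univ_four, Sum.elim_inl, Sum.elim_inr] at hg
        simp only [Fin.isValue, Fin.val_zero, Fin.val_one, Fin.val_two] at hg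
        have hz : ∀ n (v : V F), 5 ≤ n → X ^ n *ᵥ v = 0 := fun n v hn => by
          rw [← Nat.sub_add_cancel hn, pow_add, show X ^ 5 = X4 * X by simp only [X4, pow_succ, pow_zero, one_mul, mul_assoc],
            show X4 * X = 0 from hX5, mul_zero, zero_mulVec]
        have h4 : X ^ 4 = X4 := by simp only [X4, pow_succ, pow_zero, one_mul, mul_assoc]
        have top : ∀ r s : F, r • (X ^ 4 *ᵥ a) + s • (X ^ 4 *ᵥ b) = 0 → r = 0 ∧ s = 0 := by
          intro r s hrs
          rw [h4] at hrs
          by_cases hs : s = 0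
          · rw [hs, zero_smul, add_zero, smul_eq_zero] at hrs
            exact ⟨hrs.resolve_right ha, hs⟩
          · exfalso
            apply hb (-r / s)
            rw [div_eq_inv_mul, mul_smul, neg_smul, neg_eq_of_add_eq_zero_right hrs, smul_smul, inv_mul_cancel₀ hs,
              one_smul]
        have app : ∀ j, g (Sum.inl 0) • (X ^ j *ᵥ a) + g (Sum.inl 1) • (X ^ (j + 1) *ᵥ a)
            + g (Sum.inl 2) • (X ^ (j + 2) *ᵥ a) + g (Sum.inl 3) • (X ^ (j + 3) *ᵥ a)
            + (g (Sum.inr 0) • (X ^ j *ᵥ b) + g (Sum.inr 1) • (X ^ (j + 1) *ᵥ b)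
            + g (Sum.inr 2) • (X ^ (j + 2) *ᵥ b) + g (Sum.inr 3) • (X ^ (j + 3) *ᵥ b)) = 0 := fun j => by
          have := congrArg (X ^ j *ᵥ ·) hg
          simpa [mulVec_add, mulVec_smul, mulVec_mulVec, ← pow_add, pow_succ, mul_assoc] using this
        obtain ⟨a0, b0⟩ := top _ _ (by
          simpa [hz _ _ (show 5 ≤ 4 + 1 by omega), hz _ _ (show 5 ≤ 4 + 2 by omega),
            hz _ _ (show 5 ≤ 4 + 3 by omega)] using app 4)
        obtain ⟨a1, b1⟩ := top _ _ (by
          simpa [a0, b0, hz _ _ (show 5 ≤ 3 + 2 by omega), hz _ _ (show 5 ≤ 3 + 3 by omega)] using app 3)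
        obtain ⟨a2, b2⟩ := top _ _ (by
          simpa [a0, b0, a1, b1, hz _ _ (show 5 ≤ 2 + 3 by omega)] using app 2)
        obtain ⟨a3, b3⟩ := top _ _ (by simpa [a0, b0, a1, b1, a2, b2] using app 1)
        rintro (i | i) <;> fin_cases i <;> assumption
      have := hli.fintype_card_le_finrank
      simp at this
  -- adjust y
  set e := B y ((D * (N * N)) *ᵥ y)
  set a0 := B y (D *ᵥ y)
  set a1 := B y ((D * N) *ᵥ y)
  obtain ⟨p, r, Ep, Er⟩ : ∃ p r : F, a1 + p * e = 0 ∧ a0 + p * a1 + r * e = 0 :=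
    ⟨-a1 / e, -(a0 + -a1 / e * a1) / e, by field_simp; ring, by field_simp; ring⟩
  set Q : Mat F := 1 + p • N + r • (N * N) with hQ
  have hQN : Commute Q N := ((Commute.one_left N).add_left ((Commute.refl N).smul_left p)).add_left
    (((Commute.refl N).mul_left (Commute.refl N)).smul_left r)
  have hQD : Commute Q D := ((Commute.one_left D).add_left (hDN.symm.smul_left p)).add_left
    ((hDN.symm.mul_left hDN.symm).smul_left r)
  have hQsa : ∀ x y, B (Q *ᵥ x) y = B x (Q *ᵥ y) := fun x y => by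
    rw [hQ]
    simp only [add_mulVec, smul_mulVec, one_mulVec, B_add_left, B_add_right, B_smul_left, B_smul_right, hNsa x,
      hNpow]
  have hN4 : N * N * N = 0 := by rw [← hN3, pow_succ, sq]
  have hQ3 : Q * Q * Q = 1 := by
    set P := p • N + r • (N * N) with hP
    have hP' : Q = 1 + P := by rw [hQ, add_assoc]
    have e : (1 + P) * (1 + P) * (1 + P) = 1 + (3 : ℕ) • P + (3 : ℕ) • (P * P) + P * P * P := by noncomm_ring
    have hPPP : P * P * P = 0 := by
      have hP1 : P = N * (p • 1 + r • N) := by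
        rw [hP, mul_add, Matrix.mul_smul, Matrix.mul_smul, mul_one]
      set U := p • (1 : Mat F) + r • N
      have hNU : Commute N U := ((Commute.one_right N).smul_right p).add_right ((Commute.refl N).smul_right r)
      rw [hP1, show N * U * (N * U) * (N * U) = N ^ 3 * U ^ 3 by rw [← hNU.mul_pow, pow_succ, sq], hN3, zero_mul]
    rw [hP', e, hPPP, add_zero, ← Nat.cast_smul_eq_nsmul F, ← Nat.cast_smul_eq_nsmul F, Nat.cast_ofNat, h3,
      zero_smul, zero_smul, add_zero, add_zero]
  set x := (Q * Q) *ᵥ y with hxdef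
  have hψ : ∀ A : Mat F, Commute Q A → B x (A *ᵥ x) = B y ((A * Q) *ᵥ y) := fun A hA => by
    rw [hxdef, ← mulVec_mulVec, hQsa, hQsa, mulVec_mulVec, mulVec_mulVec, mulVec_mulVec, mulVec_mulVec]
    congr 2
    have : Commute (Q * Q) A := hA.mul_left hA
    have e4 : Q * (Q * (Q * Q)) = Q := by rw [← mul_assoc Q Q, ← mul_assoc, hQ3, one_mul]
    first
    | (rw [← mul_assoc Q Q A, this.eq]; simp only [mul_assoc]; rw [e4])
    | (rw [show Q * Q * A = A * (Q * Q) from this.eq]; simp only [mul_assoc]; rw [e4])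
  have hψ0 : B x (D *ᵥ x) = 0 := by
    rw [hψ D hQD, hQ, mul_add, mul_add, mul_one, Matrix.mul_smul, Matrix.mul_smul, add_mulVec, add_mulVec,
      smul_mulVec, smul_mulVec, B_add_right, B_add_right, B_smul_right, B_smul_right]
    exact Er
  have hψ1 : B x ((D * N) *ᵥ x) = 0 := by
    rw [hψ _ (hQD.mul_right hQN), hQ, mul_add, mul_add, mul_one, Matrix.mul_smul, Matrix.mul_smul,
      mul_assoc D N N, mul_assoc D N (N * N), ← mul_assoc N N N, hN4, mul_zero, smul_zero, add_zero, add_mulVec,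
      smul_mulVec, B_add_right, B_smul_right]
    exact Ep
  have hψ2 : B x ((D * (N * N)) *ᵥ x) ≠ 0 := by
    rw [hψ _ (hQD.mul_right (hQN.mul_right hQN)), hQ, mul_add, mul_add, mul_one, Matrix.mul_smul, Matrix.mul_smul,
      mul_assoc D (N * N) N, hN4, mul_assoc D (N * N) (N * N), ← mul_assoc (N * N) N N, hN4, zero_mul, mul_zero,
      smul_zero, smul_zero, add_zero, add_zero]
    exact hy
  clear_value x
  set f1 := B x (M *ᵥ x) with hf1
  set f2 := B x (M ^ 2 *ᵥ x) with hf2
  set f3 := B x (M ^ 3 *ᵥ x) with hf3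
  have hneg : ∀ k : ℕ, B x (Mi ^ k *ᵥ x) = -B x (M ^ k *ᵥ x) := fun k => by
    have h : ∀ k : ℕ, ∀ u v, B (M ^ k *ᵥ u) v = B u (Mi ^ k *ᵥ v) := fun k => by
      induction k with
      | zero => intro u v; simp
      | succ j ih =>
        intro u v
        conv_lhs => rw [pow_succ, ← mulVec_mulVec, ih, adj_M h1 hB, mulVec_mulVec, ← pow_succ']
    rw [← h, B_swap]
  have h20 : (2 : F) ≠ 0 := fun h => one_ne_zero (α := F) (by linear_combination h3 - h)
  have hz1 : f1 = 0 := by
    have h := hψ0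
    rw [hDdef, sub_mulVec, B_sub_right, ← pow_one Mi, hneg, pow_one] at h
    exact (mul_eq_zero.1 (show (2 : F) * f1 = 0 by linear_combination h)).resolve_left h20
  have hSq : D * (M + Mi) = M ^ 2 - Mi ^ 2 := by
    rw [hDdef, sub_mul, mul_add, mul_add, h1, h2, sq, sq]; abel
  have hz2 : f2 = 0 := by
    have e : D * N = M ^ 2 - Mi ^ 2 - t • D := by
      rw [hNdef, mul_sub, hSq, Algebra.algebraMap_eq_smul_one, Matrix.mul_smul, mul_one]
    have h := hψ1
    rw [e, sub_mulVec, sub_mulVec, smul_mulVec, B_sub_right, B_sub_right, B_smul_right, hψ0, hneg] at h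
    exact (mul_eq_zero.1 (show (2 : F) * f2 = 0 by linear_combination h)).resolve_left h20
  have hz3 : f3 ≠ 0 := by
    intro h0
    apply hψ2
    have e : D * (N * N) = M ^ 3 - Mi ^ 3 + D - (2 * t) • (M ^ 2 - Mi ^ 2) + t ^ 2 • D := by
      have h' : (M ^ 2 - Mi ^ 2) * (M + Mi) = M ^ 3 - Mi ^ 3 + D := by
        simp only [hDdef, pow_succ, pow_zero, one_mul, sub_mul, mul_add]
        rw [mul_assoc M M Mi, h1, mul_assoc Mi Mi M, h2, mul_one, mul_one]; abel
      have hDN' : D * N = M ^ 2 - Mi ^ 2 - t • D := by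
        rw [hNdef, mul_sub, hSq, Algebra.algebraMap_eq_smul_one, Matrix.mul_smul, mul_one]
      rw [← mul_assoc, hDN', hNdef, Algebra.algebraMap_eq_smul_one, sub_mul, mul_sub, mul_sub, h',
        Matrix.mul_smul, mul_one, Matrix.smul_mul, hSq, Matrix.smul_mul, Matrix.mul_smul, mul_one, smul_smul]
      module
    rw [e, add_mulVec, sub_mulVec, add_mulVec, smul_mulVec, smul_mulVec, B_add_right, B_sub_right, B_add_right,
      B_smul_right, B_smul_right, hψ0, sub_mulVec, sub_mulVec, B_sub_right, B_sub_right, hneg, hneg, ← hf2,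
      ← hf3, hz2, h0]
    ring
  -- the recurrence
  have hG : M ^ 6 = t ^ 3 • M ^ 3 - 1 := by
    have hA : M * M - t • M + 1 = M * N := by rw [hquad]; abel
    have e3 : (M * M - t • M + 1) * (M * M - t • M + 1) * (M * M - t • M + 1) =
        M ^ 6 - t ^ 3 • M ^ 3 + 1 + (3 : ℕ) • (-(t • M ^ 5) + M ^ 4 + t ^ 2 • M ^ 4 - (2 * t) • M ^ 3
          + (1 + t ^ 2) • M ^ 2 - t • M) := by
      simp only [sub_mul, mul_sub, add_mul, mul_add, Matrix.smul_mul, Matrix.mul_smul, smul_smul, mul_one, one_mul,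
        pow_succ, pow_zero, mul_assoc, smul_sub, smul_add, smul_neg]
      module
    have e0 : M * N * (M * N) * (M * N) = 0 := by
      rw [show M * N * (M * N) * (M * N) = M ^ 3 * N ^ 3 by rw [← hMN.mul_pow, pow_succ, sq], hN3, mul_zero]
    rw [hA] at e3
    rw [e0, ← Nat.cast_smul_eq_nsmul F, Nat.cast_ofNat, h3, zero_smul, add_zero] at e3
    linear_combination (norm := abel) -e3
  have h4 : B x (M ^ 4 *ᵥ x) = 0 := by
    have e : M ^ 4 = t ^ 3 • M - Mi ^ 2 := by
      have := congrArg (Mi ^ 2 * ·) hG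
      simp only [mul_sub, Matrix.mul_smul, mul_one] at this
      rw [show M ^ 6 = M ^ 2 * M ^ 4 by rw [← pow_add], show M ^ 3 = M ^ 2 * M by rw [← pow_succ], ← mul_assoc,
        ← mul_assoc, ← hcomm.symm.mul_pow, h2, one_pow, one_mul, one_mul] at this
      exact this
    rw [e, sub_mulVec, smul_mulVec, B_sub_right, B_smul_right, ← hf1, hneg, ← hf2, hz1, hz2]; ring
  have h5 : B x (M ^ 5 *ᵥ x) = 0 := by
    have e : M ^ 5 = t ^ 3 • M ^ 2 - Mi := by
      have := congrArg (Mi * ·) hG
      simp only [mul_sub, Matrix.mul_smul, mul_one] at this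
      rw [show M ^ 6 = M * M ^ 5 by rw [← pow_succ'], show M ^ 3 = M * M ^ 2 by rw [← pow_succ'], ← mul_assoc,
        ← mul_assoc, h2, one_mul, one_mul] at this
      exact this
    rw [e, sub_mulVec, smul_mulVec, B_sub_right, B_smul_right, ← hf2, ← pow_one Mi, hneg, pow_one, ← hf1, hz1,
      hz2]; ring
  rcases ht with ht | rfl
  swap
  · refine good_of_regular hB hz1 hz2 h4 h5 hz3 ?_
    rw [show (2 : F) ^ 3 = 2 by linear_combination 2 * h3] at hG
    rw [sub_mul, mul_sub, one_mul, mul_one, ← pow_add, hG, two_smul]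
    abel
  -- split off a cube root
  have htu : t ^ 6 - 1 ≠ 0 := by
    intro h
    apply ht
    have h' : (t ^ 2 - 1) ^ 3 = 0 := by rw [sub_pow_char, ← pow_mul, one_pow]; exact h
    exact sub_eq_zero.1 (pow_eq_zero_iff three_ne_zero |>.1 h')
  have hinj : Function.Injective fun a : F => a ^ 3 := fun a b h =>
    (frobenius F 3).injective (show frobenius F 3 a = frobenius F 3 b from h)
  obtain ⟨β, hβ⟩ := Finite.injective_iff_surjective.1 hinj (t ^ 6 - 1)⁻¹
  obtain ⟨α, hα⟩ := Finite.injective_iff_surjective.1 hinj (t ^ 3 * (t ^ 6 - 1)⁻¹)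
  simp only at hα hβ
  set G := M ^ 3 with hGdef
  have hGG : G * G = t ^ 3 • G - 1 := by rw [hGdef, ← pow_add]; exact hG
  set R : Mat F := α • 1 + β • G with hR
  have hMG : Commute M G := (Commute.refl M).pow_right 3
  have hMR : Commute M R := ((Commute.one_right M).smul_right α).add_right (hMG.smul_right β)
  have hR3 : R * R * R = G := by
    have hGGG : G * G * G = (t ^ 6 - 1) • G - t ^ 3 • 1 := by
      rw [hGG, sub_mul, Matrix.smul_mul, hGG, one_mul, smul_sub, smul_smul, sub_smul, one_smul]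
      rw [← pow_add]; abel
    have e : R * R * R = (α ^ 3) • 1 + (β ^ 3) • (G * G * G) + (3 : ℕ) • ((α ^ 2 * β) • G + (α * β ^ 2) • (G * G)) := by
      rw [hR]
      simp only [add_mul, mul_add, Matrix.smul_mul, Matrix.mul_smul, smul_smul, mul_one, one_mul, smul_add]
      module
    rw [e, ← Nat.cast_smul_eq_nsmul F, Nat.cast_ofNat, h3, zero_smul, add_zero, hGGG, hα, hβ, smul_sub, smul_smul,
      smul_smul, inv_mul_cancel₀ htu, one_smul, mul_comm (t ^ 3)]
    abel
  set Ri : Mat F := α • 1 + β • (Mi ^ 3) with hRi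
  have hGi : G * Mi ^ 3 = 1 := by rw [hGdef, ← hcomm.mul_pow, h1, one_pow]
  have hiG : Mi ^ 3 * G = 1 := by rw [hGdef, ← hcomm.symm.mul_pow, h2, one_pow]
  have hGsum : G + Mi ^ 3 = t ^ 3 • 1 := by
    have h := congrArg (Mi ^ 3 * ·) hGG
    simp only [mul_sub, Matrix.mul_smul, mul_one, ← mul_assoc, hiG, one_mul] at h
    rw [h]; abel
  have hnorm : α * α + α * β * t ^ 3 + β * β = 1 := by
    apply hinj
    show (α * α + α * β * t ^ 3 + β * β) ^ 3 = (1 : F) ^ 3
    rw [add_pow_char, add_pow_char, mul_pow, mul_pow, mul_pow, mul_pow, hα, hβ, one_pow]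
    field_simp
    linear_combination (t ^ 6) * h3
  have hRRi : R * Ri = 1 := by
    rw [hR, hRi]
    simp only [add_mul, mul_add, Matrix.smul_mul, Matrix.mul_smul, smul_smul, mul_one, one_mul, hGi, smul_add]
    rw [mul_comm β α, show (α * β) • (Mi ^ 3) = (α * β * t ^ 3) • (1 : Mat F) - (α * β) • G by
      rw [mul_smul (α * β) (t ^ 3), ← hGsum, smul_add, add_sub_cancel_left]]
    match_scalars <;> first | linear_combination hnorm | ring
  have hRiR : Ri * R = 1 := mul_eq_one_comm.1 hRRi
  have hMRi : Commute M Ri := ((Commute.one_right M).smul_right α).add_right ((hcomm.pow_right 3).smul_right β)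
  set u := M * Ri with hu
  have hGR : ∀ a b, B (G *ᵥ a) b = B a (Mi ^ 3 *ᵥ b) := fun a b => by
    rw [hGdef, pow_succ, sq, pow_succ, sq]
    simp only [← mulVec_mulVec]
    rw [adj_M h1 hB, adj_M h1 hB, adj_M h1 hB]
  have hRadj : ∀ a b, B (R *ᵥ a) b = B a (Ri *ᵥ b) := fun a b => by
    simp only [hR, hRi, add_mulVec, smul_mulVec, one_mulVec, B_add_left, B_add_right, B_smul_left, B_smul_right, hGR]
  have hRiadj : ∀ a b, B (Ri *ᵥ a) b = B a (R *ᵥ b) := fun a b => by
    rw [B_swap b, ← hRadj, B_swap, neg_neg]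
  have huu : u * u * u = 1 := by
    have hRiM : Commute Ri M := hMRi.symm
    calc u * u * u = M * M * M * (Ri * Ri * Ri) := by
          rw [hu]; simp only [mul_assoc]
          rw [← mul_assoc Ri M, hRiM.eq, mul_assoc, ← mul_assoc Ri M, hRiM.eq, mul_assoc, ← mul_assoc Ri M, hRiM.eq,
            mul_assoc]
      _ = 1 := by
          rw [show M * M * M = G by rw [hGdef, pow_succ, sq], ← hR3]
          simp only [mul_assoc]
          rw [← mul_assoc R Ri, hRRi, one_mul, ← mul_assoc R Ri, hRRi, one_mul, hRRi]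
  have huB : ∀ a b, B (u *ᵥ a) (u *ᵥ b) = B a b := fun a b => by
    rw [hu, ← mulVec_mulVec, ← mulVec_mulVec, hB, hRiadj, mulVec_mulVec, hRRi, one_mulVec]
  set w := (-(f3)⁻¹) • (G *ᵥ x) with hw
  have hval : ∀ k : ℕ, k < 6 → k ≠ 3 → B x (M ^ k *ᵥ x) = 0 := by
    intro k hk hk3
    interval_cases k
    · simp [B_self]
    · simpa using hz1
    · exact hz2
    · exact absurd rfl hk3
    · exact h4
    · exact h5
  have hRspan : ∀ z ∈ Submodule.span F {x, w}, R *ᵥ z ∈ Submodule.span F {x, w} := by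
    intro z hz
    obtain ⟨p, r, rfl⟩ := Submodule.mem_span_pair.1 hz
    refine Submodule.mem_span_pair.2 ⟨p * α + r * (-(f3)⁻¹) * (-β), p * β * (-f3) + r * (α + β * t ^ 3), ?_⟩
    simp only [hw, hR, mulVec_add, mulVec_smul, add_mulVec, smul_mulVec, one_mulVec]
    rw [show G *ᵥ (G *ᵥ x) = t ^ 3 • (G *ᵥ x) - x by rw [mulVec_mulVec, hGG, sub_mulVec, smul_mulVec, one_mulVec]]
    match_scalars <;> field_simp <;> ring
  have key : ∀ a ∈ Submodule.span F {x, w}, ∀ b ∈ Submodule.span F {x, w}, B a (u *ᵥ b) = 0 := by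
    intro a ha b hb
    obtain ⟨p, r, rfl⟩ := Submodule.mem_span_pair.1 ha
    have hRib : Ri *ᵥ b ∈ Submodule.span F {x, w} := by
      have : Ri = (α + β * t ^ 3 + α) • (1 : Mat F) - R := by
        rw [hR, hRi, eq_sub_iff_add_eq, add_smul, add_smul, mul_smul, ← hGsum, smul_add]; abel
      rw [this, sub_mulVec, smul_mulVec, one_mulVec]
      exact sub_mem (Submodule.smul_mem _ _ hb) (hRspan b hb)
    obtain ⟨p', r', h'⟩ := Submodule.mem_span_pair.1 hRib
    rw [hu, ← mulVec_mulVec, ← h']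
    simp only [hw, mulVec_add, mulVec_smul, B_add_left, B_add_right, B_smul_left, B_smul_right]
    have e1 : B x (M *ᵥ (G *ᵥ x)) = 0 := by
      rw [mulVec_mulVec, hGdef, ← pow_succ']; exact h4
    have e2 : B (G *ᵥ x) (M *ᵥ x) = 0 := by
      rw [hGR, mulVec_mulVec, show Mi ^ 3 * M = Mi ^ 2 by rw [pow_succ, mul_assoc, h2, mul_one], hneg, ← hf2, hz2,
        neg_zero]
    have e3 : B (G *ᵥ x) (M *ᵥ (G *ᵥ x)) = 0 := by
      rw [mulVec_mulVec, hMG.eq, ← mulVec_mulVec, hGR, mulVec_mulVec, hiG, one_mulVec, ← hf1, hz1]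
    rw [← hf1, hz1, e1, e2, e3]; ring
  refine good_of_spread (R := R) huu ?_ ?_ ?_ x w ?_ ?_ huB ?_ ?_ ?_ ?_ ?_
  · rw [hu, mul_assoc, hRiR, mul_one]
  · exact (Commute.mul_left hMR (show Commute Ri R from hRiR.trans hRRi.symm))
  · intro a b; rw [hRadj, mulVec_mulVec, hRiR, one_mulVec]
  · exact hRspan x (Submodule.subset_span (by simp))
  · exact hRspan w (Submodule.subset_span (by simp))
  · rw [hw, B_smul_right, ← hf3]; field_simp
  all_goals exact key _ (Submodule.subset_span (by simp)) _ (Submodule.subset_span (by simp))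

theorem good {c : F} (hc : Irreducible (X ^ 3 - X - Polynomial.C c : F[X])) (g : symplecticGroup (Fin 3) F) :
    Good c g.1 := by
  classical
  set M := g.1 with hMdef
  set Mi := (g⁻¹).1 with hMidef
  have h1 : M * Mi = 1 := congrArg Subtype.val (mul_inv_cancel g)
  have h2 : Mi * M = 1 := congrArg Subtype.val (inv_mul_cancel g)
  have hB : ∀ x y, B (M *ᵥ x) (M *ᵥ y) = B x y := B_mem g.2
  set S := M + Mi with hS
  have hsa : ∀ x y, B (S *ᵥ x) y = B x (S *ᵥ y) := fun x y => by
    rw [add_mulVec, add_mulVec, B_add_left, B_add_right, adj_M h1 hB, adj_Mi h1 hB, add_comm]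
  have hMS : Commute M S := (Commute.refl M).add_right (h1.trans h2.symm)
  have hpoly : ∀ f : F[X], Commute M (aeval S f) := fun f =>
    Algebra.commute_of_mem_adjoin_singleton_of_commute (aeval_mem_adjoin_singleton F S) hMS
  -- a primary component
  have hne : S.charpoly.natDegree = 6 := by rw [Matrix.charpoly_natDegree_eq_dim]; rfl
  have hm0 : minpoly F S ≠ 0 := minpoly.ne_zero (Matrix.isIntegral S)
  have hmu : ¬ IsUnit (minpoly F S) := minpoly.not_isUnit F S
  obtain ⟨r, hr, hrm⟩ := WfDvdMonoid.exists_irreducible_factor hmu hm0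
  obtain ⟨x0, hx00, hx0⟩ : ∃ x, x ≠ 0 ∧ aeval S r *ᵥ x = 0 := by
    obtain ⟨k, hk⟩ := hrm
    by_cases hdet : (aeval S r).det = 0
    · exact exists_mulVec_eq_zero_iff.2 hdet
    · exfalso
      have h0 := minpoly.aeval F S
      rw [hk, map_mul] at h0
      have hk0 : aeval S k = 0 := ((Matrix.isUnit_iff_isUnit_det _).2 (Ne.isUnit hdet)).mul_right_eq_zero.1 h0
      have hkne : k ≠ 0 := by rintro rfl; exact hm0 (by rw [hk, mul_zero])
      have hd := natDegree_le_of_dvd (minpoly.dvd F S hk0) hkne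
      rw [hk, natDegree_mul hr.ne_zero hkne] at hd
      have := hr.natDegree_pos
      omega
  -- split off a proper component
  by_cases hprim : aeval S (r ^ 6) = 0
  swap
  · obtain ⟨e, k, hrk, hk⟩ := WfDvdMonoid.max_power_factor S.charpoly_monic.ne_zero hr
    obtain ⟨a, b, hab⟩ := ((hr.coprime_iff_not_dvd.2 hrk).pow_left : IsCoprime (r ^ e) k)
    set E := aeval S (b * k) with hE
    have hr0 : aeval S (r ^ e) * aeval S k = 0 := by rw [← map_mul, ← hk]; exact S.aeval_self_charpoly
    have hEE : E * E = E := by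
      have e1 : b * k * (b * k) = b * k - (a * b) * (r ^ e * k) := by linear_combination (b * k) * hab
      rw [hE, ← map_mul, e1, map_sub, map_mul _ (a * b), map_mul _ (r ^ e), hr0, mul_zero, sub_zero]
    have hEsa := adj_poly hsa (b * k)
    have hME := hpoly (b * k)
    have hE0 : E *ᵥ x0 = x0 := by
      have := congrArg (fun p => aeval S p *ᵥ x0) hab
      simp only [map_add, map_one, add_mulVec, one_mulVec] at this
      have hre : aeval S (a * r ^ e) *ᵥ x0 = 0 := by
        rcases e with _ | e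
        · exfalso
          apply hrk
          rw [pow_zero, one_mul] at hk
          rw [← hk]
          exact hrm.trans (Matrix.minpoly_dvd_charpoly S)
        · rw [pow_succ, ← mul_assoc, map_mul, ← mulVec_mulVec, hx0, mulVec_zero]
      rw [hre, zero_add] at this
      exact this
    have hEne : E ≠ 1 := by
      intro h1'
      apply hprim
      have hre : aeval S (r ^ e) = 0 := by
        have : aeval S (r ^ e) * E = 0 := by rw [hE, mul_comm b k, map_mul, ← mul_assoc, hr0, zero_mul]
        rwa [h1', mul_one] at this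
      have he6 : e ≤ 6 := by
        have hkne : k ≠ 0 := by rintro rfl; exact S.charpoly_monic.ne_zero (by rw [hk, mul_zero])
        have hd : (r ^ e).natDegree + k.natDegree = 6 := by
          rw [← natDegree_mul (pow_ne_zero _ hr.ne_zero) hkne, ← hk, hne]
        rw [natDegree_pow] at hd
        have : e * 1 ≤ e * r.natDegree := Nat.mul_le_mul_left e hr.natDegree_pos
        omega
      rw [← Nat.sub_add_cancel he6, pow_add, map_mul, hre, mul_zero]
    let W := LinearMap.range (Matrix.mulVecLin E)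
    let W' := LinearMap.range (Matrix.mulVecLin (1 - E))
    have hsum : Module.finrank F W + Module.finrank F W' = 6 := by
      have hker : LinearMap.ker (Matrix.mulVecLin E) = W' := by
        apply le_antisymm
        · intro z hz
          exact ⟨z, by show (1 - E) *ᵥ z = z; rw [sub_mulVec, one_mulVec, show E *ᵥ z = 0 from hz, sub_zero]⟩
        · rintro _ ⟨z, rfl⟩
          show E *ᵥ ((1 - E) *ᵥ z) = 0
          rw [mulVec_mulVec, mul_sub, mul_one, hEE, sub_self, zero_mulVec]
      have h := (Matrix.mulVecLin E).finrank_range_add_finrank_ker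
      rw [hker] at h
      simpa using h
    have comp : ∀ P : Mat F, (∀ x y, B (P *ᵥ x) y = B x (P *ᵥ y)) → P * P = P → Commute M P → P ≠ 0 →
        Module.finrank F (LinearMap.range (Matrix.mulVecLin P)) ≤ 3 → Good c M := by
      intro P hPsa hPP hMP hP0 hdim
      obtain ⟨x, hx⟩ : ∃ x, P *ᵥ x ≠ 0 := by
        by_contra hh
        push_neg at hh
        exact hP0 (Matrix.ext_of_mulVec_single fun i => by rw [hh, zero_mulVec])
      obtain ⟨y, hy⟩ : ∃ y, B (P *ᵥ x) (P *ᵥ y) ≠ 0 := by
        by_contra hh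
        push_neg at hh
        exact hx (B_nondeg fun y => by rw [hPsa, ← hh y, hPsa, mulVec_mulVec, hPP])
      set a := P *ᵥ x
      set b := P *ᵥ y
      set s := B a b
      have hin : ∀ z ∈ LinearMap.range (Matrix.mulVecLin P), z ∈ Submodule.span F {a, b} := by
        rintro _ ⟨z, rfl⟩
        show P *ᵥ z ∈ _
        set z0 := P *ᵥ z - (B (P *ᵥ z) b / s) • a - (B a (P *ᵥ z) / s) • b with hz0
        have o1 : B z0 b = 0 := by
          rw [hz0]; simp only [B_sub_left, B_smul_left, B_self]; field_simp; ring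
        have o2 : B a z0 = 0 := by
          rw [hz0]; simp only [B_sub_right, B_smul_right, B_self]; field_simp; ring
        by_cases hz : z0 = 0
        · refine Submodule.mem_span_pair.2 ⟨B (P *ᵥ z) b / s, B a (P *ᵥ z) / s, ?_⟩
          rw [hz0, sub_sub, sub_eq_zero] at hz
          exact hz.symm
        exfalso
        have hPz0 : P *ᵥ z0 = z0 := by
          simp only [hz0, mulVec_sub, mulVec_smul, a, b, mulVec_mulVec, hPP]
        have hli : LinearIndependent F ![a, b, z0] := by
          rw [Fintype.linearIndependent_iff]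
          intro r hr
          rw [Fin.sum_univ_three] at hr
          have e1 := congrArg (fun v => B v b) hr
          have e2 := congrArg (fun v => B a v) hr
          simp [B_add_left, B_add_right, B_smul_left, B_smul_right, B_self, o1, o2, B_zero_left, B_zero_right] at e1 e2
          have r0 : r 0 = 0 := e1.resolve_right hy
          have r1 : r 1 = 0 := e2.resolve_right hy
          simp [r0, r1] at hr
          have r2 : r 2 = 0 := hr.resolve_right hz
          intro i; fin_cases i
          · exact r0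
          · exact r1
          · exact r2
        have hsub : Submodule.span F (Set.range ![a, b, z0]) ≤ LinearMap.range (Matrix.mulVecLin P) := by
          rw [Submodule.span_le]
          rintro _ ⟨i, rfl⟩
          fin_cases i
          · exact ⟨x, rfl⟩
          · exact ⟨y, rfl⟩
          · exact ⟨z0, hPz0⟩
        have hfull := Submodule.eq_of_le_of_finrank_le hsub (by rw [finrank_span_eq_card hli]; simpa using hdim)
        apply hz
        refine B_nondeg fun v => ?_
        rw [← hPz0, hPsa]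
        have hv : P *ᵥ v ∈ LinearMap.range (Matrix.mulVecLin P) := ⟨v, rfl⟩
        rw [← hfull] at hv
        obtain ⟨r, hr⟩ := (Submodule.mem_span_range_iff_exists_fun F).1 hv
        rw [← hr, Fin.sum_univ_three]
        simp [B_add_right, B_smul_right, B_swap a z0, o1, o2, B_self]
      refine good_of_plane a b hy (hin _ ?_) (hin _ ?_)
      · exact ⟨M *ᵥ x, by show P *ᵥ (M *ᵥ x) = M *ᵥ a; simp only [a, mulVec_mulVec, hMP.eq]⟩
      · exact ⟨M *ᵥ y, by show P *ᵥ (M *ᵥ y) = M *ᵥ b; simp only [b, mulVec_mulVec, hMP.eq]⟩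
    by_cases hW : Module.finrank F W ≤ 3
    · refine comp E hEsa hEE hME (fun h => hx00 ?_) hW
      rw [← hE0, h, zero_mulVec]
    · refine comp (1 - E) (fun u v => ?_) ?_ ((Commute.one_right M).sub_right hME) (sub_ne_zero.2 (Ne.symm hEne))
        (show Module.finrank F W' ≤ 3 by omega)
      · simp only [sub_mulVec, one_mulVec, B_sub_left, B_sub_right, sub_right_inj]
        exact hEsa u v
      · rw [sub_mul, one_mul, mul_sub, mul_one, hEE]; abel
  have hdeg : r.natDegree ≤ 3 := by
    have := card_le_three (li_powers hr hx00 hx0 le_rfl) (fun i j => ti_powers hsa x0 i j)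
    simpa using this
  have hpos := hr.natDegree_pos
  rcases (show r.natDegree = 1 ∨ r.natDegree = 2 ∨ r.natDegree = 3 by omega) with hd | hd | hd
  · obtain ⟨t, ht⟩ := exists_root_of_degree_eq_one (p := r) (by rw [degree_eq_natDegree hr.ne_zero, hd]; rfl)
    have hass : (Polynomial.X - Polynomial.C t) ^ 6 ∣ r ^ 6 → False ∨ True := fun _ => Or.inr trivial
    obtain ⟨k, hk⟩ := dvd_iff_isRoot.2 ht
    have hku : IsUnit k := (hr.isUnit_or_isUnit hk).resolve_left (not_isUnit_X_sub_C t)
    have hN : (M + Mi - algebraMap F _ t) ^ 6 = 0 := by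
      rw [hk, mul_pow, map_mul] at hprim
      have := ((hku.pow 6).map (aeval S)).mul_left_eq_zero.1 hprim
      simpa using this
    by_cases ht2 : t ^ 2 ≠ 1
    · exact good_linear h1 h2 hB (Or.inl ht2) hN
    push_neg at ht2
    rcases sq_eq_one_iff.1 ht2 with rfl | rfl
    · -- t = 1 = -2
      refine Good.neg (good_linear (Mi := -Mi) (by rw [neg_mul, mul_neg, neg_neg, h1])
        (by rw [neg_mul, mul_neg, neg_neg, h2]) (fun x y => by
          rw [neg_mulVec, neg_mulVec, B_neg_left, B_neg_right, neg_neg, hB]) (Or.inr rfl) ?_)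
      have h3 : ((3 : ℕ) : F) = 0 := CharP.cast_eq_zero F 3
      push_cast at h3
      have e : -M + -Mi - algebraMap F (Mat F) 2 = -(M + Mi - algebraMap F (Mat F) 1) := by
        rw [show (2 : F) = -1 by linear_combination h3, map_neg]; abel
      rw [e, Even.neg_pow ⟨3, rfl⟩, hN]
    · refine good_linear h1 h2 hB (Or.inr ?_) hN
      have h3 : ((3 : ℕ) : F) = 0 := CharP.cast_eq_zero F 3
      push_cast at h3
      linear_combination -h3
  · exfalso
    obtain ⟨r', hr'⟩ := exists_root_aeval S hr (pow_ne_zero 6 hr.ne_zero) hprim (fun p hp hpd => by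
      rw [natDegree_eq_of_degree_eq (degree_eq_degree_of_associated
        ((hp.associated_of_dvd hr (hp.prime.dvd_of_dvd_pow hpd))))])
    set E := aeval S r'
    have hEsa := adj_poly hsa r'
    have li2 : ∀ {v : V F}, v ≠ 0 → LinearIndependent F (fun i : Fin 2 => E ^ (i : ℕ) *ᵥ v) := fun hv =>
      li_powers hr hv (by rw [hr', zero_mulVec]) (by rw [hd])
    have hno : ∀ s : F, r.eval s ≠ 0 := fun s => no_root hr (by omega) s
    obtain ⟨x, hx⟩ : ∃ x : V F, x ≠ 0 := ⟨x0, hx00⟩
    let L : V F →ₗ[F] (Fin 2 → F) := LinearMap.pi fun i => (Bil (F := F)) (E ^ (i : ℕ) *ᵥ x)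
    have hsurj : LinearMap.range L = ⊤ := by
      by_contra hne
      obtain ⟨φ, hφ0, hφ⟩ := Submodule.exists_le_ker_of_lt_top _ (lt_top_iff_ne_top.2 hne)
      have hsum : ∑ i : Fin 2, φ (Pi.single i 1) • (E ^ (i : ℕ) *ᵥ x) = 0 := by
        refine B_nondeg fun z => ?_
        have : φ (L z) = 0 := hφ ⟨z, rfl⟩
        rw [pi_eq_sum_univ' (L z), map_sum] at this
        rw [B_sum_left, ← this]
        refine Finset.sum_congr rfl fun i _ => ?_
        rw [B_smul_left, map_smul, smul_eq_mul, mul_comm]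
        rfl
      refine hφ0 (LinearMap.pi_ext' fun i => LinearMap.ext_ring ?_)
      simpa using Fintype.linearIndependent_iff.1 (li2 hx) _ hsum i
    obtain ⟨y, hy⟩ := LinearMap.range_eq_top.1 hsurj ![1, 0]
    have y0 : B x y = 1 := by simpa [L] using congrFun hy 0
    have y1 : B (E *ᵥ x) y = 0 := by
      have := congrFun hy 1
      simp [L] at this
      exact this
    let L2 : V F →ₗ[F] (Fin 4 → F) := LinearMap.pi fun i => (Bil (F := F)) (![x, E *ᵥ x, y, E *ᵥ y] i)
    obtain ⟨z, hz, hz0⟩ : ∃ z, L2 z = 0 ∧ z ≠ 0 := by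
      have h := L2.finrank_range_add_finrank_ker
      have hle : Module.finrank F (LinearMap.range L2) ≤ 4 := (Submodule.finrank_le _).trans (by simp)
      simp only [Module.finrank_fintype_fun_eq_card, Fintype.card_sum, Fintype.card_fin] at h
      obtain ⟨z, hz, hz0⟩ := Submodule.exists_mem_ne_zero_of_ne_bot
        (p := LinearMap.ker L2) (fun hb => by rw [hb, finrank_bot] at h; omega)
      exact ⟨z, hz, hz0⟩
    have o1 : B x z = 0 := by simpa [L2] using congrFun hz 0
    have o2 : B (E *ᵥ x) z = 0 := by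
      have := congrFun hz 1
      simp [L2] at this
      exact this
    have o3 : B y z = 0 := by
      have := congrFun hz 2
      simp [L2] at this
      exact this
    have o4 : B (E *ᵥ y) z = 0 := by
      have := congrFun hz 3
      simp [L2] at this
      exact this
    set r0 := r.coeff 0
    set r1 := r.coeff 1
    set r2 := r.coeff 2
    have hr2 : r2 ≠ 0 := by
      have := leadingCoeff_ne_zero.2 hr.ne_zero
      rwa [leadingCoeff, hd] at this
    have heq : r = Polynomial.C r2 * Polynomial.X ^ 2 + Polynomial.C r1 * Polynomial.X + Polynomial.C r0 := by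
      conv_lhs => rw [r.as_sum_range_C_mul_X_pow, hd, Finset.sum_range_succ, Finset.sum_range_succ, Finset.sum_range_one]
      simp [r0, r1, r2]; ring
    have hr0 : r0 ≠ 0 := fun h => hno 0 (by rw [heq]; simp [h])
    have hE2 : ∀ v, E *ᵥ (E *ᵥ v) = (-(r1 / r2)) • (E *ᵥ v) + (-(r0 / r2)) • v := fun v => by
      have h : r2 • (E *ᵥ (E *ᵥ v)) + r1 • (E *ᵥ v) + r0 • v = 0 := by
        have := congrArg (· *ᵥ v) hr'
        rw [heq] at this
        simp only [map_add, map_mul, map_pow, aeval_C, aeval_X, zero_mulVec] at this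
        rw [← this]
        simp [Algebra.algebraMap_eq_smul_one, sq, add_mulVec, smul_mulVec, mulVec_mulVec]
      have h' := congrArg (r2⁻¹ • ·) h
      simp only [smul_add, smul_smul, inv_mul_cancel₀ hr2, one_smul, smul_zero] at h'
      linear_combination (norm := module) h'
    have n1 : B x (E *ᵥ y) = 0 := by rw [← hEsa]; exact y1
    have n2 : B (E *ᵥ x) (E *ᵥ y) = -(r0 / r2) := by
      rw [hEsa, hE2, B_add_right, B_smul_right, B_smul_right, n1, y0]; ring
    have q1 : B x (E *ᵥ x) = 0 := self_adj_null hEsa x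
    have q2 : B y (E *ᵥ y) = 0 := self_adj_null hEsa y
    have q3 : B z (E *ᵥ z) = 0 := self_adj_null hEsa z
    have p1 : B x (E *ᵥ z) = 0 := by rw [← hEsa]; exact o2
    have p2 : B (E *ᵥ x) (E *ᵥ z) = 0 := by
      rw [← hEsa, hE2, B_add_left, B_smul_left, B_smul_left, o2, o1]; ring
    have p3 : B y (E *ᵥ z) = 0 := by rw [← hEsa]; exact o4
    have p4 : B (E *ᵥ y) (E *ᵥ z) = 0 := by
      rw [← hEsa, hE2, B_add_left, B_smul_left, B_smul_left, o4, o3]; ring
    have hli : LinearIndependent F ![x, E *ᵥ x, y, E *ᵥ y, z, E *ᵥ z] := by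
      rw [Fintype.linearIndependent_iff]
      intro a ha
      rw [Fin.sum_univ_six] at ha
      have c1 := congrArg (fun v => B x v) ha
      have c2 := congrArg (fun v => B (E *ᵥ x) v) ha
      have c3 := congrArg (fun v => B v y) ha
      have c4 := congrArg (fun v => B v (E *ᵥ y)) ha
      simp [B_add_right, B_smul_right, B_self, B_zero_right, q1, y0, n1, o1, p1] at c1
      simp [B_add_right, B_smul_right, B_self, B_zero_right, B_swap x (E *ᵥ x), q1, y1, n2, o2, p2, hr0, hr2] at c2
      simp [B_add_left, B_smul_left, B_self, B_zero_left, B_swap y (E *ᵥ y), B_swap y z, B_swap y (E *ᵥ z), q2,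
        y0, y1, o3, p3] at c3
      simp [B_add_left, B_smul_left, B_self, B_zero_left, q2, B_swap (E *ᵥ y) z, B_swap (E *ᵥ y) (E *ᵥ z), n1,
        n2, o4, p4, hr0, hr2] at c4
      simp [c1, c2, c3, c4] at ha
      have h2 := Fintype.linearIndependent_iff.1 (li2 hz0) ![a 4, a 5] (by
        simpa [Fin.sum_univ_two] using ha)
      have h4 : a 4 = 0 := h2 0
      have h5 : a 5 = 0 := h2 1
      intro i
      fin_cases i <;> assumption
    apply hz0
    refine B_nondeg fun v => ?_
    obtain ⟨a, rfl⟩ := span_top hli rfl v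
    rw [Fin.sum_univ_six]
    simp [B_add_right, B_smul_right, B_swap x z, B_swap (E *ᵥ x) z, B_swap y z, B_swap (E *ᵥ y) z, o1, o2, o3, o4,
      B_self, q3]
  · obtain ⟨r', hr'⟩ := exists_root_aeval S hc (pow_ne_zero 6 hr.ne_zero) hprim (fun p hp hpd => by
      rw [natDegree_eq_of_degree_eq (degree_eq_degree_of_associated
        ((hp.associated_of_dvd hr (hp.prime.dvd_of_dvd_pow hpd)))), hd,
        show (X ^ 3 - X - Polynomial.C c : F[X]).natDegree = 3 by compute_degree!])
    exact good_of_cubic hc hr' (adj_poly hsa r') (hpoly r')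

theorem cover {c : F} (hc : Irreducible (X ^ 3 - X - Polynomial.C c : F[X])) : Cover (Cfsg.PSp 3 F) := by
  classical
  have hscal : ∀ g ∈ Subgroup.center (symplecticGroup (Fin 3) F), ∃ s : F, ∀ v, g.1 *ᵥ v = s • v := by
    intro g hg
    have key : ∀ a x : V F, B x a = 1 → g.1 *ᵥ a = B (g.1 *ᵥ x) a • a := by
      intro a x hx
      have hT : (1 + vecMulVec a (Matrix.J (Fin 3) F *ᵥ a)) ∈ symplecticGroup (Fin 3) F := mem_of_B fun u v => by
        have h : ∀ u : V F, (1 + vecMulVec a (Matrix.J (Fin 3) F *ᵥ a)) *ᵥ u = u + B u a • a := fun u => by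
          rw [add_mulVec, one_mulVec, vecMulVec_mulVec, dotProduct_comm]
          funext i; simp [B, mul_comm]
        rw [h, h, B_add_left, B_add_right, B_add_right, B_smul_left, B_smul_left, B_smul_right, B_smul_right,
          B_self, B_swap v a]
        ring
      have h : ∀ u : V F, (1 + vecMulVec a (Matrix.J (Fin 3) F *ᵥ a)) *ᵥ u = u + B u a • a := fun u => by
        rw [add_mulVec, one_mulVec, vecMulVec_mulVec, dotProduct_comm]
        funext i; simp [B, mul_comm]
      have hc' := congrArg (fun u : symplecticGroup (Fin 3) F => u.1 *ᵥ x) (Subgroup.mem_center_iff.1 hg ⟨_, hT⟩)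
      change ((1 + vecMulVec a (Matrix.J (Fin 3) F *ᵥ a)) * g.1) *ᵥ x = (g.1 * (1 + vecMulVec a (Matrix.J (Fin 3) F *ᵥ a))) *ᵥ x at hc'
      rw [← mulVec_mulVec, ← mulVec_mulVec, h, h, hx, one_smul, mulVec_add] at hc'
      exact (add_left_cancel hc').symm
    have ex1 : ∀ a : V F, a ≠ 0 → ∃ x, B x a = 1 := fun a ha => by
      obtain ⟨x, hx⟩ : ∃ x, B x a ≠ 0 := by
        by_contra hx
        push_neg at hx
        exact ha (B_nondeg fun z => by rw [B_swap, hx, neg_zero])
      exact ⟨(B x a)⁻¹ • x, by rw [B_smul_left, inv_mul_cancel₀ hx]⟩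
    have eig : ∀ a : V F, a ≠ 0 → ∃ s, g.1 *ᵥ a = s • a := fun a ha => by
      obtain ⟨x, hx⟩ := ex1 a ha
      exact ⟨_, key a x hx⟩
    choose ev hev using eig
    have single0 : ∀ i : Fin 3 ⊕ Fin 3, (Pi.single i 1 : V F) ≠ 0 := fun i h =>
      one_ne_zero (α := F) (by simpa using congrFun h i)
    set s := ev _ (single0 (Sum.inl 0))
    refine ⟨s, fun v => ?_⟩
    have hall : ∀ i, g.1 *ᵥ Pi.single i 1 = s • Pi.single i 1 := by
      intro i
      by_cases hi : i = Sum.inl 0
      · subst hi; exact hev _ _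
      have hsum : (Pi.single i 1 + Pi.single (Sum.inl 0) 1 : V F) ≠ 0 := fun h =>
        one_ne_zero (α := F) (by simpa [hi] using congrFun h i)
      have h := hev _ hsum
      rw [mulVec_add, hev _ (single0 i), hev _ (single0 (Sum.inl 0))] at h
      have e1 := congrFun h i
      have e2 := congrFun h (Sum.inl 0)
      simp [hi, Ne.symm hi] at e1 e2
      rw [hev _ (single0 i), e1, ← e2]
    rw [pi_eq_sum_univ' v, Matrix.mulVec_sum, Finset.smul_sum]
    exact Finset.sum_congr rfl fun i _ => by rw [mulVec_smul, hall, smul_comm]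
  let el : V F := Pi.single (Sum.inl 0) 1
  refine quotient_cover _ (H := Hsub (F := F)) (K := Ksub c) ?_ ?_ ?_ ?_ ?_
  · intro g hg x hx i hi
    obtain ⟨s, hs⟩ := hscal g hg
    rw [hs]
    simp [hx i hi]
  · intro g hg
    obtain ⟨s, hs⟩ := hscal g hg
    refine ⟨0, by simp, ?_⟩
    have : g.1 = s • (1 : Mat F) := Matrix.ext_of_mulVec_single fun i => by
      rw [hs, smul_mulVec, one_mulVec]
    rw [this, map_zero, add_zero, Matrix.smul_mul, Matrix.mul_smul, one_mul, mul_one]
  · intro h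
    let P : Mat F := fromBlocks (cyc F) 0 0 (cyc F)
    have hP : P ∈ symplecticGroup (Fin 3) F := mem_of_B fun u v => by
      simp [P, B_def, cyc, fromBlocks_mulVec, Fin.sum_univ_three, mulVec, dotProduct]
      ring
    have hm : (⟨P, hP⟩ : symplecticGroup (Fin 3) F) ∈ Hsub (F := F) := by rw [h]; exact Subgroup.mem_top _
    have := (hm el (fun i hi => ⟨by simp [el, hi], by simp [el]⟩) 1 one_ne_zero).1
    simp [P, el, cyc, fromBlocks_mulVec, mulVec, dotProduct, Pi.single_apply] at this
  · intro h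
    let P : Mat F := fromBlocks (Matrix.diagonal ![-1, 1, 1]) 0 0 (Matrix.diagonal ![-1, 1, 1])
    have hP : P ∈ symplecticGroup (Fin 3) F := mem_of_B fun u v => by
      simp [P, B_def, fromBlocks_mulVec, Fin.sum_univ_three, mulVec_diagonal]
      try ring
    obtain ⟨k, -, hk⟩ : (⟨P, hP⟩ : symplecticGroup (Fin 3) F) ∈ Ksub c := by rw [h]; exact Subgroup.mem_top _
    have e := congrFun (congrFun hk (Sum.inl 0)) (Sum.inl 1)
    have hc0 : c ≠ 0 := by
      rintro rfl
      have := hc.isUnit_or_isUnit (a := Polynomial.X) (b := Polynomial.X ^ 2 - 1) (by simp; ring)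
      rcases this with h' | h'
      · exact not_isUnit_X h'
      · have := natDegree_eq_zero_of_isUnit h'
        rw [natDegree_sub_eq_left_of_natDegree_lt (by simp), natDegree_X_pow] at this
        omega
    simp [P, T6, T₀, Matrix.mul_apply, Fin.sum_univ_three, Matrix.algebraMap_matrix_apply] at e
    apply hc0
    have h3 : ((3 : ℕ) : F) = 0 := CharP.cast_eq_zero F 3
    push_cast at h3
    grind
  · intro g
    obtain ⟨S, M', hS, h⟩ := good hc g
    refine ⟨S, ?_⟩
    have e : (S * g * S⁻¹).1 = M' := by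
      show S.1 * g.1 * (S⁻¹).1 = M'
      rw [hS, mul_assoc, show S.1 * (S⁻¹).1 = 1 from congrArg Subtype.val (mul_inv_cancel S), mul_one]
    exact h.imp (fun h => by show InH _; rw [e]; exact h) (fun h => by show InK c _; rw [e]; exact h)

end Cfsg.Agent.Cover2SpSix53
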