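import Cfsg.Agent.S0932
import Cfsg.Agent.Lib.BrauerBlocksCovering
import Cfsg.Agent.Lib.BlockTheoryInduced
import Cfsg.Agent.Lib.CharInducedCorr
import Cfsg.Agent.Lib.BrauerBlocksHeight

/-!
# The Fong–Reynolds correspondence

`b` is a block of a normal subgroup `N` of `G` and `T` its stabiliser. A character of `T` over
`b` induces irreducibly, it is the only constituent over `b` of the induced character, and the
central character of the induced character determines the one of the inducing character.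
-/

set_option autoImplicit false

namespace Cfsg.Agent.FongReynolds78

open Cfsg Cfsg.Agent.BlockTheoryLocalRing Cfsg.Agent.BlockTheoryCentre
open Cfsg.Agent.BlockTheoryIdem Cfsg.Agent.BlockTheoryBrauer Cfsg.Agent.BrauerBlocksCovering
open Cfsg.Agent.CharInduced
open scoped ComplexConjugate

attribute [local instance] Classical.propDecidable

variable {p : ℕ} {M : Ideal AlgInt}

section Inclusion

variable {K G : Type*} [Group K] [Fintype K] [Group G] [Fintype G]

theorem chiSum_mapDomain (f : K →* G) (hf : Function.Injective f) (χ : G → ℂ)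
    (z : MonoidAlgebra ℂ K) :
    chiSum χ (MonoidAlgebra.mapDomainRingHom ℂ f z) = chiSum (fun x => χ (f x)) z := by
  rw [chiSum_apply, chiSum_apply]
  refine (Fintype.sum_of_injective f hf _ _ ?_ fun x => ?_).symm
  · intro y hy
    show (Finsupp.mapDomain f z.coeff) y * χ y = 0
    rw [Finsupp.mapDomain_notin_range _ y hy, zero_mul]
  · show _ = (Finsupp.mapDomain f z.coeff) (f x) * χ (f x)
    rw [Finsupp.mapDomain_apply hf]

theorem chiSum_eq_sum_constituents {f : G → ℂ} (hf : IsCharacter G f) (z : MonoidAlgebra ℂ G) :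
    chiSum f z = ∑ ξ : IrrCharacter G, classInner f (ξ : G → ℂ) * chiSum (ξ : G → ℂ) z := by
  conv_lhs => rw [CharBasicOrth.eq_sum_classInner (CharBasic.isClassFunction_of_isCharacter hf)]
  simp only [chiSum_apply, Finset.sum_apply, Pi.smul_apply, smul_eq_mul, Finset.mul_sum]
  rw [Finset.sum_comm]
  exact Finset.sum_congr rfl fun ξ _ => Finset.sum_congr rfl fun x _ => by ring

theorem chiSum_one (χ : G → ℂ) : chiSum χ 1 = χ 1 := by
  rw [MonoidAlgebra.one_def, chiSum_single, one_mul]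

theorem chiSum_idem_self (B : Set (IrrCharacter G)) (χ : IrrCharacter G) :
    chiSum (χ : G → ℂ) (idem B) = if χ ∈ B then (χ : G → ℂ) 1 else 0 := by
  have := chiSum_idem_mul B χ 1
  rwa [mul_one, chiSum_one] at this

end Inclusion

variable {G : Type*} [Group G] [Fintype G] (N : Subgroup G) [hN : N.Normal] [Fintype N]

/-- `T` is the stabiliser of `b`. -/
def IsStab (b : Set (IrrCharacter N)) (T : Subgroup G) : Prop :=
  ∀ g : G, g ∈ T ↔ ∀ θ ∈ b, conjIrr N θ g ∈ b

omit [Fintype G] [Fintype N] in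
theorem isStab_of_statement {b : Set (IrrCharacter N)} {T : Subgroup G}
    (hT : ∀ g : G, g ∈ T ↔ ∀ θ ∈ b, ∀ θ' : IrrCharacter N,
      (∀ n : N, (θ' : N → ℂ) n = (θ : N → ℂ) ⟨g * n * g⁻¹, hN.conj_mem n n.2 g⟩) → θ' ∈ b)
    [Fintype G] [Fintype N] : IsStab N b T := fun g =>
  ⟨fun hg θ hθ => (hT g).1 hg θ hθ _ fun _ => rfl, fun h => (hT g).2 fun θ hθ θ' he =>
    (show θ' = conjIrr N θ g from Subtype.ext (funext he)) ▸ h θ hθ⟩

variable {N} {b : Set (IrrCharacter N)} {T : Subgroup G} (hT : IsStab N b T) (hNT : N ≤ T)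

include hT in
theorem conjIrr_mem_iff {g : G} (hg : g ∈ T) (ξ : IrrCharacter N) :
    conjIrr N ξ g ∈ b ↔ ξ ∈ b :=
  ⟨fun h => by
    have := (hT g⁻¹).1 (inv_mem hg) _ h
    rwa [conjIrr_conjIrr, mul_inv_cancel, conjIrr_one] at this,
    fun h => (hT g).1 hg _ h⟩

include hT in
theorem blockCoeff_conj {g : G} (hg : g ∈ T) (n : N) :
    blockCoeff b (MulAut.conjNormal g n) = blockCoeff b n := by
  rw [blockCoeff_eq_sum, blockCoeff_eq_sum]
  congr 1
  refine Fintype.sum_bijective (fun ξ => conjIrr N ξ g)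
    (Function.bijective_iff_has_inverse.2 ⟨fun ξ => conjIrr N ξ g⁻¹,
      fun ξ => by simp [conjIrr_conjIrr, conjIrr_one],
      fun ξ => by simp [conjIrr_conjIrr, conjIrr_one]⟩) _ _ fun ξ => ?_
  by_cases h : ξ ∈ b
  · rw [if_pos h, if_pos ((conjIrr_mem_iff hT hg ξ).2 h)]
    simp [conjIrr, conjFun]
    rfl
  · rw [if_neg h, if_neg fun h' => h ((conjIrr_mem_iff hT hg ξ).1 h')]

/-- The dimension of the part over `b`. -/
noncomputable def part (b : Set (IrrCharacter N)) (f : N → ℂ) : ℂ := chiSum f (idem b)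

theorem part_eq {f : N → ℂ} (hf : IsCharacter N f) :
    part b f = ∑ θ : IrrCharacter N, if θ ∈ b then classInner f (θ : N → ℂ) * (θ : N → ℂ) 1 else 0 := by
  rw [part, chiSum_eq_sum_constituents hf]
  refine Finset.sum_congr rfl fun θ _ => ?_
  rw [chiSum_idem_self]
  split_ifs <;> simp

theorem part_ne_zero_iff {f : N → ℂ} (hf : IsCharacter N f) :
    part b f ≠ 0 ↔ ∃ θ ∈ b, classInner f (θ : N → ℂ) ≠ 0 := by
  obtain ⟨m, hm, -⟩ := CharBasicDecomp.exists_mult hf
  have hdeg : ∀ θ : IrrCharacter N, (θ : N → ℂ) 1 = (charDegree (θ : N → ℂ) : ℂ) ∧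
      0 < charDegree (θ : N → ℂ) := fun θ => BrauerBlocksHeight.apply_one_eq_charDegree θ.2
  have hpart : part b f = ((∑ θ : IrrCharacter N,
      if θ ∈ b then m θ * charDegree (θ : N → ℂ) else 0 : ℕ) : ℂ) := by
    rw [part_eq hf]
    push_cast
    refine Finset.sum_congr rfl fun θ _ => ?_
    rw [hm, (hdeg θ).1]
  rw [hpart, Nat.cast_ne_zero]
  constructor
  · intro h
    obtain ⟨θ, -, hθ⟩ := Finset.exists_ne_zero_of_sum_ne_zero h
    split_ifs at hθ with hb
    · exact ⟨θ, hb, by rw [hm, Nat.cast_ne_zero]; exact left_ne_zero_of_mul hθ⟩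
    · exact absurd rfl hθ
  · rintro ⟨θ, hb, hθ⟩ h
    have := Finset.sum_eq_zero_iff.1 h θ (Finset.mem_univ _)
    rw [if_pos hb] at this
    rw [hm, Nat.cast_ne_zero] at hθ
    exact Nat.mul_ne_zero hθ (hdeg θ).2.ne' this

include hT in
/-- The parts over the conjugates of `b` are disjoint: the degree is at least `[G:T]` times the
part over `b`. -/
theorem index_mul_part_le (hM : IsPModular p M) (hb : IsPBlock M b) (χ : IrrCharacter G) :
    ∃ a : ℕ, part b (fun n : N => (χ : G → ℂ) n) = a ∧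
      T.index * a ≤ charDegree (χ : G → ℂ) := by
  haveI : Fintype (G ⧸ T) := Fintype.ofFinite _
  have hf : IsCharacter N (fun n : N => (χ : G → ℂ) n) :=
    isCharacter_res N (CharBasic.isCharacter_of_isIrrCharacter χ.2)
  obtain ⟨m, hm, hdec⟩ := CharBasicDecomp.exists_mult hf
  have hdeg : ∀ θ : IrrCharacter N, (θ : N → ℂ) 1 = (charDegree (θ : N → ℂ) : ℂ) := fun θ =>
    (BrauerBlocksHeight.apply_one_eq_charDegree θ.2).1
  let w : IrrCharacter N → ℕ := fun θ => m θ * charDegree (θ : N → ℂ)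
  refine ⟨∑ θ ∈ b.toFinset, w θ, ?_, ?_⟩
  · rw [part_eq hf, ← Finset.sum_filter, Nat.cast_sum]
    refine Finset.sum_congr (by ext; simp) fun θ _ => ?_
    rw [hm, hdeg, Nat.cast_mul]
  have htot : charDegree (χ : G → ℂ) = ∑ θ : IrrCharacter N, w θ := by
    have h1 := congrFun hdec 1
    simp only [Finset.sum_apply, Pi.smul_apply, smul_eq_mul, hdeg, OneMemClass.coe_one] at h1
    rw [(BrauerBlocksHeight.apply_one_eq_charDegree χ.2).1] at h1
    exact_mod_cast h1
  let F : (G ⧸ T) × IrrCharacter N → IrrCharacter N := fun x => conjIrr N x.2 x.1.out⁻¹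
  have hinj : Set.InjOn F ↑(Finset.univ ×ˢ b.toFinset : Finset ((G ⧸ T) × IrrCharacter N)) := by
    rintro ⟨q₁, θ₁⟩ h₁ ⟨q₂, θ₂⟩ h₂ he
    simp only [Finset.coe_product, Set.mem_prod, Finset.coe_univ, Set.mem_univ, true_and,
      Set.coe_toFinset] at h₁ h₂
    have he' : conjIrr N θ₁ (q₁.out⁻¹ * q₂.out) = θ₂ := by
      have := congrArg (fun ξ => conjIrr N ξ q₂.out) he
      simpa [F, conjIrr_conjIrr, conjIrr_one] using this
    have hmem : q₁.out⁻¹ * q₂.out ∈ T := by
      refine (hT _).2 fun φ hφ => mem_of_sameBlock hM hb h₂ ?_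
      rw [← he']
      exact sameBlock_conjIrr N (sameBlock_of_mem hM hb h₁ hφ) _
    have hq : q₁ = q₂ := by
      rw [← QuotientGroup.out_eq' q₁, ← QuotientGroup.out_eq' q₂]
      exact QuotientGroup.eq.2 hmem
    subst hq
    rw [inv_mul_cancel, conjIrr_one] at he'
    rw [he']
  have hwF : ∀ x, w (F x) = w x.2 := by
    intro x
    have h1 : m (F x) = m x.2 := by
      have := classInner_res_conjFun N (irr_classFun χ) (x.2 : N → ℂ) x.1.out⁻¹
      rw [← Nat.cast_inj (R := ℂ), ← hm, ← hm]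
      exact this
    have h2 : charDegree (F x : N → ℂ) = charDegree (x.2 : N → ℂ) := by
      have h3 : (F x : N → ℂ) 1 = (x.2 : N → ℂ) 1 := by
        simp [F, conjIrr, conjFun]
        rfl
      unfold charDegree
      rw [h3]
    show m (F x) * charDegree (F x : N → ℂ) = m x.2 * _
    rw [h1, h2]
  calc T.index * ∑ θ ∈ b.toFinset, w θ
      = ∑ x ∈ (Finset.univ ×ˢ b.toFinset : Finset ((G ⧸ T) × IrrCharacter N)), w (F x) := by
        simp only [hwF]
        rw [Finset.sum_product]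
        simp [Nat.card_eq_fintype_card, Subgroup.index]
    _ = ∑ θ ∈ (Finset.univ ×ˢ b.toFinset : Finset ((G ⧸ T) × IrrCharacter N)).image F, w θ :=
        (Finset.sum_image hinj).symm
    _ ≤ ∑ θ : IrrCharacter N, w θ := Finset.sum_le_sum_of_subset (Finset.subset_univ _)
    _ = _ := htot.symm

section InT

variable [Fintype T]

/-- The idempotent of `b` in the group algebra of `T`. -/
noncomputable def bT (b : Set (IrrCharacter N)) : MonoidAlgebra ℂ T :=
  MonoidAlgebra.mapDomainRingHom ℂ (Subgroup.inclusion hNT) (idem b)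

omit [Fintype T] in
theorem coeff_bT_of_mem {x : T} (hx : (x : G) ∈ N) :
    (bT hNT b).coeff x = blockCoeff b ⟨x, hx⟩ := by
  show (Finsupp.mapDomain (Subgroup.inclusion hNT) (idem b).coeff) x = _
  obtain ⟨x, hxT⟩ := x
  exact Finsupp.mapDomain_apply (Subgroup.inclusion_injective hNT) _ ⟨x, hx⟩

omit [Fintype T] in
theorem coeff_bT_of_notMem {x : T} (hx : (x : G) ∉ N) : (bT hNT b).coeff x = 0 :=
  Finsupp.mapDomain_notin_range _ x fun ⟨n, hn⟩ => hx (hn ▸ n.2)

include hT in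
theorem isCen_bT : IsCen (bT hNT b) := by
  intro x g
  show (bT hNT b).coeff (g * x * g⁻¹) = (bT hNT b).coeff x
  by_cases hx : (x : G) ∈ N
  · rw [coeff_bT_of_mem hNT (x := g * x * g⁻¹) (hN.conj_mem _ hx g), coeff_bT_of_mem hNT hx,
      ← blockCoeff_conj hT g.2 ⟨x, hx⟩]
    congr 1
  · rw [coeff_bT_of_notMem hNT hx, coeff_bT_of_notMem hNT]
    intro h
    have := hN.conj_mem _ h (g : G)⁻¹
    simp [mul_assoc] at this
    exact hx this

theorem isInt_bT (hM : IsPModular p M) (hb : IsPBlock M b) : IsInt M (bT hNT b) := fun x => by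
  by_cases hx : (x : G) ∈ N
  · rw [coeff_bT_of_mem hNT hx]; exact isInt_idem hM hb _
  · rw [coeff_bT_of_notMem hNT hx]; exact (localRing hM).zero_mem

theorem chiSum_bT (f : T → ℂ) :
    chiSum f (bT hNT b) = part b (fun n : N => f ⟨n, hNT n.2⟩) :=
  chiSum_mapDomain (Subgroup.inclusion hNT) (Subgroup.inclusion_injective hNT) f (idem b)

theorem isCharacter_resN {f : T → ℂ} (hf : IsCharacter T f) :
    IsCharacter N (fun n : N => f ⟨n, hNT n.2⟩) :=
  CharBasic.isCharacter_comap (Subgroup.inclusion hNT) hf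

/-- A character of `T` lies over `b`. -/
def Over (ψ : IrrCharacter T) : Prop :=
  ∃ θ ∈ b, classInner (fun n : N => (ψ : T → ℂ) ⟨n, hNT n.2⟩) (θ : N → ℂ) ≠ 0

include hT in
theorem omega_bT (ψ : IrrCharacter T) :
    omega (ψ : T → ℂ) (bT hNT b) = if Over hNT (b := b) ψ then 1 else 0 := by
  have hidem : bT hNT b * bT hNT b = bT hNT b := by rw [bT, ← map_mul, idem_sq]
  have hc := isCen_bT hT hNT
  have h2 : omega (ψ : T → ℂ) (bT hNT b) = 0 ∨ omega (ψ : T → ℂ) (bT hNT b) = 1 := by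
    have := omega_mul ψ hc (bT hNT b)
    rw [hidem] at this
    exact (IsIdempotentElem.iff_eq_zero_or_one (p := omega (ψ : T → ℂ) (bT hNT b))).1 this.symm
  have h3 : omega (ψ : T → ℂ) (bT hNT b) ≠ 0 ↔ Over hNT (b := b) ψ := by
    rw [omega_apply, mul_ne_zero_iff, chiSum_bT,
      part_ne_zero_iff (isCharacter_resN hNT (CharBasic.isCharacter_of_isIrrCharacter ψ.2))]
    exact ⟨fun h => h.2, fun h => ⟨inv_ne_zero (irr_one_ne_zero ψ), h⟩⟩
  split_ifs with h
  · exact h2.resolve_left (h3.2 h)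
  · exact by_contra fun hn => h (h3.1 hn)

include hT in
theorem part_of_over {ψ : IrrCharacter T} (h : Over hNT (b := b) ψ) :
    chiSum (ψ : T → ℂ) (bT hNT b) = (ψ : T → ℂ) 1 := by
  have := omega_bT hT hNT ψ
  rw [if_pos h, omega_apply, inv_mul_eq_one₀ (irr_one_ne_zero ψ)] at this
  exact this.symm

include hT in
theorem part_of_not_over {ψ : IrrCharacter T} (h : ¬ Over hNT (b := b) ψ) :
    chiSum (ψ : T → ℂ) (bT hNT b) = 0 := by
  have := omega_bT hT hNT ψ
  rw [if_neg h, omega_apply, mul_eq_zero] at this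
  exact this.resolve_left (inv_ne_zero (irr_one_ne_zero ψ))

include hT in
theorem over_of_sameBlock (hM : IsPModular p M) (hb : IsPBlock M b) {ψ ψ' : IrrCharacter T}
    (hs : SameBlock M (ψ : T → ℂ) (ψ' : T → ℂ)) (h : Over hNT (b := b) ψ) :
    Over hNT (b := b) ψ' := by
  by_contra hn
  have := omega_sub_mem hM hs (isCen_bT hT hNT) (isInt_bT hNT hM hb)
  rw [omega_bT hT hNT, omega_bT hT hNT, if_pos h, if_neg hn, sub_zero] at this
  exact one_not_ideal hM this

include hT in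
/-- The key facts about a constituent over `b` of the restriction to the stabiliser. -/
theorem constituent_key (hM : IsPModular p M) (hb : IsPBlock M b) (χ : IrrCharacter G)
    {ψ : IrrCharacter T} (hψ : Over hNT (b := b) ψ)
    (hm : classInner (fun t : T => (χ : G → ℂ) t) (ψ : T → ℂ) ≠ 0) :
    (χ : G → ℂ) = indFun T (ψ : T → ℂ) ∧
      classInner (fun t : T => (χ : G → ℂ) t) (ψ : T → ℂ) = 1 ∧
      (∀ ξ : IrrCharacter T, Over hNT (b := b) ξ →
        classInner (fun t : T => (χ : G → ℂ) t) (ξ : T → ℂ) ≠ 0 → ξ = ψ) ∧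
      ∃ θ ∈ b, classInner (fun n : N => (χ : G → ℂ) n) (θ : N → ℂ) ≠ 0 := by
  obtain ⟨a, ha, hle⟩ := index_mul_part_le hT hM hb χ
  have hf : IsCharacter T (fun t : T => (χ : G → ℂ) t) :=
    isCharacter_res T (CharBasic.isCharacter_of_isIrrCharacter χ.2)
  obtain ⟨m, hmm, -⟩ := CharBasicDecomp.exists_mult hf
  have hd : ∀ ξ : IrrCharacter T, (ξ : T → ℂ) 1 = (charDegree (ξ : T → ℂ) : ℂ) ∧
      0 < charDegree (ξ : T → ℂ) := fun ξ => BrauerBlocksHeight.apply_one_eq_charDegree ξ.2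
  have hsum : a = ∑ ξ : IrrCharacter T,
      if Over hNT (b := b) ξ then m ξ * charDegree (ξ : T → ℂ) else 0 := by
    apply Nat.cast_injective (R := ℂ)
    rw [← ha, ← chiSum_bT hNT (fun t : T => (χ : G → ℂ) t), chiSum_eq_sum_constituents hf]
    push_cast
    refine Finset.sum_congr rfl fun ξ _ => ?_
    split_ifs with h
    · rw [part_of_over hT hNT h, hmm, (hd ξ).1]
    · rw [part_of_not_over hT hNT h, mul_zero]
  have hmψ : m ψ ≠ 0 := fun h => hm (by rw [hmm, h, Nat.cast_zero])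
  have hdχ := BrauerBlocksHeight.apply_one_eq_charDegree χ.2
  have hψle : m ψ * charDegree (ψ : T → ℂ) ≤ a := by
    rw [hsum]
    refine le_trans (le_of_eq ?_) (Finset.single_le_sum (fun ξ _ => Nat.zero_le _)
      (Finset.mem_univ ψ))
    rw [if_pos hψ]
  have hind : IsCharacter G (indFun T (ψ : T → ℂ)) :=
    isCharacter_ind T (CharBasic.isCharacter_of_isIrrCharacter ψ.2)
  have hcon : classInner (indFun T (ψ : T → ℂ)) (χ : G → ℂ) ≠ 0 := by
    rw [inner_ind_left T (ψ : T → ℂ) (irr_classFun χ), ← CharInduced.inner_conj_symm]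
    simpa using hm
  -- the degree of the constituent is at most the induced degree
  obtain ⟨k, hk, hkdec⟩ := CharBasicDecomp.exists_mult hind
  have hupper : charDegree (χ : G → ℂ) ≤ T.index * charDegree (ψ : T → ℂ) := by
    have h1 := congrFun hkdec 1
    rw [ind_one_apply, (hd ψ).1] at h1
    simp only [Finset.sum_apply, Pi.smul_apply, smul_eq_mul,
      fun ξ : IrrCharacter G => (BrauerBlocksHeight.apply_one_eq_charDegree ξ.2).1] at h1
    have h2 : T.index * charDegree (ψ : T → ℂ) =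
        ∑ ξ : IrrCharacter G, k ξ * charDegree (ξ : G → ℂ) := by exact_mod_cast h1
    rw [h2]
    refine le_trans ?_ (Finset.single_le_sum (fun ξ _ => Nat.zero_le _) (Finset.mem_univ χ))
    have : k χ ≠ 0 := fun h => hcon (by rw [hk, h, Nat.cast_zero])
    exact Nat.le_mul_of_pos_left _ (Nat.pos_of_ne_zero this)
  have hidx : 0 < T.index := Nat.pos_of_ne_zero Subgroup.index_ne_zero_of_finite
  have hale : a ≤ charDegree (ψ : T → ℂ) :=
    Nat.le_of_mul_le_mul_left (hle.trans hupper) hidx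
  have haeq : a = charDegree (ψ : T → ℂ) :=
    le_antisymm hale ((Nat.le_mul_of_pos_left _ (Nat.pos_of_ne_zero hmψ)).trans hψle)
  have hm1 : m ψ = 1 := by
    have := hψle.trans hale
    have h2 : m ψ ≤ 1 := Nat.le_of_mul_le_mul_right (by simpa using this) (hd ψ).2
    omega
  refine ⟨?_, by rw [hmm, hm1, Nat.cast_one], fun ξ hξ hξm => ?_, ?_⟩
  · refine (eq_of_constituent_of_apply_one_le hind χ.2 hcon ?_).symm
    rw [ind_one_apply, (hd ψ).1, hdχ.1]
    have h3 : T.index * charDegree (ψ : T → ℂ) ≤ charDegree (χ : G → ℂ) := by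
      rw [← haeq]; exact hle
    simp only [← Nat.cast_mul, Complex.natCast_re]
    exact_mod_cast h3
  · by_contra hne
    have hmξ : m ξ ≠ 0 := fun h => hξm (by rw [hmm, h, Nat.cast_zero])
    have h2 : m ψ * charDegree (ψ : T → ℂ) + m ξ * charDegree (ξ : T → ℂ) ≤ a := by
      rw [hsum]
      refine le_trans (le_of_eq ?_) (Finset.sum_le_sum_of_subset
        (Finset.subset_univ ({ψ, ξ} : Finset (IrrCharacter T))))
      rw [Finset.sum_pair (Ne.symm hne), if_pos hψ, if_pos hξ]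
    rw [hm1, one_mul, haeq] at h2
    exact Nat.mul_ne_zero hmξ (hd ξ).2.ne' (by omega)
  · refine (part_ne_zero_iff (isCharacter_res N (CharBasic.isCharacter_of_isIrrCharacter χ.2))).1 ?_
    rw [ha, haeq, Nat.cast_ne_zero]
    exact (hd ψ).2.ne'

include hT in
/-- A character over `b` induces irreducibly. -/
theorem exists_induced (hM : IsPModular p M) (hb : IsPBlock M b) {ψ : IrrCharacter T}
    (hψ : Over hNT (b := b) ψ) :
    ∃ χ : IrrCharacter G, (χ : G → ℂ) = indFun T (ψ : T → ℂ) ∧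
      classInner (fun t : T => (χ : G → ℂ) t) (ψ : T → ℂ) ≠ 0 := by
  have hind : IsCharacter G (indFun T (ψ : T → ℂ)) :=
    isCharacter_ind T (CharBasic.isCharacter_of_isIrrCharacter ψ.2)
  have h0 : indFun T (ψ : T → ℂ) ≠ 0 := fun h => by
    have := congrFun h 1
    rw [ind_one_apply, Pi.zero_apply] at this
    exact mul_ne_zero (Nat.cast_ne_zero.2 Subgroup.index_ne_zero_of_finite) (irr_one_ne_zero ψ) this
  obtain ⟨χ, hχ, hne⟩ := CharInduced.exists_constituent hind h0
  have hm : classInner (fun t : T => χ t) (ψ : T → ℂ) ≠ 0 := by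
    rw [inner_ind_left T (ψ : T → ℂ) (irr_classFun ⟨χ, hχ⟩), ← CharInduced.inner_conj_symm] at hne
    simpa using hne
  exact ⟨⟨χ, hχ⟩, (constituent_key hT hNT hM hb ⟨χ, hχ⟩ hψ hm).1, hm⟩

/-- An irreducible character over `b` has a constituent over `b` on the stabiliser. -/
theorem exists_over {χ : IrrCharacter G}
    (h : ∃ θ ∈ b, classInner (fun n : N => (χ : G → ℂ) n) (θ : N → ℂ) ≠ 0) :
    ∃ ψ : IrrCharacter T, Over hNT (b := b) ψ ∧
      classInner (fun t : T => (χ : G → ℂ) t) (ψ : T → ℂ) ≠ 0 := by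
  have hf : IsCharacter T (fun t : T => (χ : G → ℂ) t) :=
    isCharacter_res T (CharBasic.isCharacter_of_isIrrCharacter χ.2)
  have h0 := (part_ne_zero_iff (b := b)
    (isCharacter_res N (CharBasic.isCharacter_of_isIrrCharacter χ.2))).2 h
  rw [← chiSum_bT hNT (fun t : T => (χ : G → ℂ) t), chiSum_eq_sum_constituents hf] at h0
  obtain ⟨ψ, -, hψ⟩ := Finset.exists_ne_zero_of_sum_ne_zero h0
  refine ⟨ψ, ?_, left_ne_zero_of_mul hψ⟩
  have := right_ne_zero_of_mul hψ
  rw [chiSum_bT] at this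
  exact (part_ne_zero_iff (isCharacter_resN hNT (CharBasic.isCharacter_of_isIrrCharacter ψ.2))).1 this

/-- The sum of the conjugates over the cosets of `T` of an element of the group algebra of `T`. -/
noncomputable def trace (y : MonoidAlgebra ℂ T) : MonoidAlgebra ℂ G :=
  ofFun fun x => ∑ᶠ q : G ⧸ T, (incl T y).coeff (q.out⁻¹ * x * q.out)

omit [Fintype T] in
theorem coeff_incl_conj {y : MonoidAlgebra ℂ T} (hy : IsCen y) {t : G} (ht : t ∈ T) (x : G) :
    (incl T y).coeff (t * x * t⁻¹) = (incl T y).coeff x := by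
  by_cases hx : x ∈ T
  · rw [show x = ((⟨x, hx⟩ : T) : G) from rfl, coeff_incl_coe,
      show t * ((⟨x, hx⟩ : T) : G) * t⁻¹ = ((⟨t, ht⟩ * ⟨x, hx⟩ * ⟨t, ht⟩⁻¹ : T) : G) from rfl,
      coeff_incl_coe]
    exact hy _ _
  · rw [coeff_incl_of_notMem T y hx, coeff_incl_of_notMem T y]
    intro h
    have := mul_mem (mul_mem (inv_mem ht) h) ht
    simp [mul_assoc] at this
    exact hx this

omit [Fintype T] in
theorem isCen_trace {y : MonoidAlgebra ℂ T} (hy : IsCen y) : IsCen (trace y) := by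
  intro x h
  simp only [trace, coeff_ofFun]
  rw [← finsum_comp_equiv (MulAction.toPerm h : Equiv.Perm (G ⧸ T))]
  refine finsum_congr fun q => ?_
  set r := (MulAction.toPerm h : Equiv.Perm (G ⧸ T)) q with hr
  have hrq : r.out⁻¹ * h * q.out ∈ T := by
    have : (r.out : G ⧸ T) = ((h * q.out : G) : G ⧸ T) := by
      rw [QuotientGroup.out_eq', hr, MulAction.toPerm_apply]
      conv_lhs => rw [← QuotientGroup.out_eq' q]
      rfl
    rw [mul_assoc]
    exact QuotientGroup.eq.1 this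
  rw [← coeff_incl_conj hy hrq (q.out⁻¹ * x * q.out)]
  congr 1
  group

omit [Fintype T] in
theorem isInt_trace (hM : IsPModular p M) {y : MonoidAlgebra ℂ T} (hy : IsInt M y) :
    IsInt M (trace y) := fun x => by
  simp only [trace, coeff_ofFun]
  haveI : Fintype (G ⧸ T) := Fintype.ofFinite _
  rw [finsum_eq_sum_of_fintype]
  exact (localRing hM).sum_mem fun q _ => isInt_incl T hM hy _

omit [Fintype T] in
theorem chiSum_trace (χ : IrrCharacter G) (y : MonoidAlgebra ℂ T) :
    chiSum (χ : G → ℂ) (trace y) = (T.index : ℂ) * chiSum (χ : G → ℂ) (incl T y) := by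
  haveI : Fintype (G ⧸ T) := Fintype.ofFinite _
  simp only [trace, chiSum_apply, coeff_ofFun, finsum_eq_sum_of_fintype, Finset.sum_mul]
  rw [Finset.sum_comm, Finset.sum_congr rfl (g := fun _ => ∑ x : G,
    (incl T y).coeff x * (χ : G → ℂ) x) fun q _ => ?_, Finset.sum_const, Finset.card_univ,
    ← Nat.card_eq_fintype_card, nsmul_eq_mul]
  · rfl
  refine Fintype.sum_equiv (MulAut.conj q.out⁻¹).toEquiv _ _ fun x => ?_
  simp only [MulEquiv.toEquiv_eq_coe, MulEquiv.coe_toEquiv, MulAut.conj_apply, inv_inv]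
  rw [show (χ : G → ℂ) (q.out⁻¹ * x * q.out) = (χ : G → ℂ) x from by
    simpa using irr_classFun χ x q.out⁻¹]

include hT in
/-- The central character of `ψ` is read off from the one of the induced character. -/
theorem omega_trace (hM : IsPModular p M) (hb : IsPBlock M b) (χ : IrrCharacter G)
    {ψ : IrrCharacter T} (hψ : Over hNT (b := b) ψ) (he : (χ : G → ℂ) = indFun T (ψ : T → ℂ))
    (hm : classInner (fun t : T => (χ : G → ℂ) t) (ψ : T → ℂ) ≠ 0)
    {z : MonoidAlgebra ℂ T} (hz : IsCen z) :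
    omega (χ : G → ℂ) (trace (z * bT hNT b)) = omega (ψ : T → ℂ) z := by
  obtain ⟨-, h1, huniq, -⟩ := constituent_key hT hNT hM hb χ hψ hm
  have hχ1 : (χ : G → ℂ) 1 = (T.index : ℂ) * (ψ : T → ℂ) 1 := by rw [he, ind_one_apply]
  have hsum : chiSum (χ : G → ℂ) (incl T (z * bT hNT b)) =
      omega (ψ : T → ℂ) z * (ψ : T → ℂ) 1 := by
    rw [incl, chiSum_mapDomain T.subtype Subtype.val_injective]
    simp only [Subgroup.coe_subtype]
    rw [chiSum_eq_sum_constituents (isCharacter_res T (CharBasic.isCharacter_of_isIrrCharacter χ.2)),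
      Finset.sum_eq_single ψ]
    · show classInner (fun t : T => (χ : G → ℂ) t) (ψ : T → ℂ) * _ = _
      rw [h1, one_mul, chiSum_mul ψ hz, part_of_over hT hNT hψ]
    · intro ξ _ hξ
      by_cases hov : Over hNT (b := b) ξ
      · rw [show classInner (fun t : T => (χ : G → ℂ) t) (ξ : T → ℂ) = 0 from
          by_contra fun h => hξ (huniq ξ hov h), zero_mul]
      · rw [chiSum_mul ξ hz, part_of_not_over hT hNT hov, mul_zero, mul_zero]
    · simp
  rw [omega_apply (χ := (χ : G → ℂ)), chiSum_trace, hsum, hχ1]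
  have := irr_one_ne_zero ψ
  have hidx : (T.index : ℂ) ≠ 0 := Nat.cast_ne_zero.2 Subgroup.index_ne_zero_of_finite
  field_simp

include hT in
/-- Separation: inducing into one block forces one block of `T`. -/
theorem sameBlock_of_induced (hM : IsPModular p M) (hb : IsPBlock M b) {χ₁ χ₂ : IrrCharacter G}
    {ψ₁ ψ₂ : IrrCharacter T} (h₁ : Over hNT (b := b) ψ₁) (h₂ : Over hNT (b := b) ψ₂)
    (e₁ : (χ₁ : G → ℂ) = indFun T (ψ₁ : T → ℂ)) (e₂ : (χ₂ : G → ℂ) = indFun T (ψ₂ : T → ℂ))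
    (hm₁ : classInner (fun t : T => (χ₁ : G → ℂ) t) (ψ₁ : T → ℂ) ≠ 0)
    (hm₂ : classInner (fun t : T => (χ₂ : G → ℂ) t) (ψ₂ : T → ℂ) ≠ 0)
    (hs : SameBlock M (χ₁ : G → ℂ) (χ₂ : G → ℂ)) : SameBlock M (ψ₁ : T → ℂ) (ψ₂ : T → ℂ) := by
  intro t
  have hc := (isCen_classSum t).mul (isCen_bT hT hNT (b := b))
  have hi := IsInt.mul hM (isInt_classSum hM t) (isInt_bT hNT hM hb)
  have := omega_sub_mem hM hs (isCen_trace hc) (isInt_trace hM hi)
  rw [omega_trace hT hNT hM hb χ₁ h₁ e₁ hm₁ (isCen_classSum t),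
    omega_trace hT hNT hM hb χ₂ h₂ e₂ hm₂ (isCen_classSum t), omega_classSum (irr_classFun ψ₁),
    omega_classSum (irr_classFun ψ₂)] at this
  exact this

include hT in
/-- The correspondence for one block `B'` of `T` over `b`. -/
theorem correspondence (hM : IsPModular p M) (hb : IsPBlock M b) {B' : Set (IrrCharacter T)}
    (hB' : IsPBlock M B') (hcov : ∃ ψ ∈ B', Over hNT (b := b) ψ) :
    ∃ B : Set (IrrCharacter G), IsInducedBlock M T B' B ∧
      (∃ χ ∈ B, ∃ θ ∈ b, classInner (fun n : N => (χ : G → ℂ) n) (θ : N → ℂ) ≠ 0) ∧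
      (∀ ψ ∈ B', IsIrrCharacter G (indFun T (ψ : T → ℂ))) ∧
      ∀ χ : IrrCharacter G, χ ∈ B ↔ ∃ ψ ∈ B', (χ : G → ℂ) = indFun T (ψ : T → ℂ) := by
  obtain ⟨ψ₀, hψ₀, ho₀⟩ := hcov
  have hall : ∀ ψ ∈ B', Over hNT (b := b) ψ := fun ψ hψ =>
    over_of_sameBlock hT hNT hM hb (sameBlock_of_mem hM hB' hψ₀ hψ) ho₀
  obtain ⟨χ₀, he₀, hm₀⟩ := exists_induced hT hNT hM hb ho₀
  have hcc : ∀ (ψ : IrrCharacter T) (g : G), inducedCentralChar T (ψ : T → ℂ) g =
      centralChar (indFun T (ψ : T → ℂ)) g := fun ψ g =>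
    S0932.result T (ψ : T → ℂ) (CharBasic.isCharacter_of_isIrrCharacter ψ.2) g
  have hin : ∀ ψ ∈ B', ∀ χ : IrrCharacter G, (χ : G → ℂ) = indFun T (ψ : T → ℂ) →
      SameBlock M (χ₀ : G → ℂ) (χ : G → ℂ) := by
    intro ψ hψ χ hχ g
    have := omega_sub_mem hM (sameBlock_of_mem hM hB' hψ₀ hψ)
      (isCen_res T (isCen_classSum g)) (isInt_res T (isInt_classSum hM g))
    rw [omega_res_classSum, omega_res_classSum, hcc, hcc, ← he₀, ← hχ] at this
    exact this
  have hcov' := (constituent_key hT hNT hM hb χ₀ ho₀ hm₀).2.2.2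
  refine ⟨blockOf M (χ₀ : G → ℂ), ⟨hB', isPBlock_blockOf χ₀, fun ψ hψ χ hχ g => ?_⟩,
    ⟨χ₀, self_mem_blockOf hM χ₀, hcov'⟩, fun ψ hψ => ?_, fun χ => ⟨fun hχ => ?_, ?_⟩⟩
  · obtain ⟨χ', he', -⟩ := exists_induced hT hNT hM hb (hall ψ hψ)
    rw [hcc, ← he']
    exact sameBlock_trans hM (sameBlock_symm (hin ψ hψ χ' he')) hχ g
  · obtain ⟨χ', he', -⟩ := exists_induced hT hNT hM hb (hall ψ hψ)
    rw [← he']; exact χ'.2
  · obtain ⟨θ₀, hθ₀, hc₀⟩ := hcov'
    have hsame : SameBlock M (χ₀ : G → ℂ) (χ : G → ℂ) := hχ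
    obtain ⟨φ, hφ⟩ := BrauerBlocksCovering.exists_constituent (G := N)
      (f := fun n : N => (χ : G → ℂ) n)
      (isCharacter_res N (CharBasic.isCharacter_of_isIrrCharacter χ.2)) (irr_one_ne_zero χ)
    obtain ⟨ψ, hov, hm⟩ := exists_over hNT (exists_constituent_mem N hφ
      (mem_orb_of_sameBlock N hM hb hsame hθ₀ hc₀ hφ))
    have he := (constituent_key hT hNT hM hb χ hov hm).1
    exact ⟨ψ, mem_of_sameBlock hM hB' hψ₀
      (sameBlock_of_induced hT hNT hM hb ho₀ hov he₀ he hm₀ hm hsame), he⟩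
  · rintro ⟨ψ, hψ, he⟩
    exact hin ψ hψ χ he

end InT

end Cfsg.Agent.FongReynolds78
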