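import Cfsg.Agent.Lib.FongReynolds78
import Cfsg.Agent.Lib.BlockTheoryMeet
import Cfsg.Agent.Lib.BlockTheoryHeight
import Cfsg.Agent.S0966
import Cfsg.Agent.S4436

/-!
# Defect groups of covered blocks
-/

set_option autoImplicit false
set_option linter.unusedSectionVars false

namespace Cfsg.Agent.CoveredDefect78

open Cfsg Cfsg.Agent.BlockTheoryLocalRing Cfsg.Agent.BlockTheoryCentre
open Cfsg.Agent.BlockTheoryIdem Cfsg.Agent.BlockTheoryBrauer Cfsg.Agent.BlockTheoryDefect
open Cfsg.Agent.BrauerPairs81Base Cfsg.Agent.BrauerPairs81Pairs Cfsg.Agent.BrauerPairs81Conj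
open Cfsg.Agent.BrauerBlocksCovering Cfsg.Agent.CharInduced

attribute [local instance] Classical.propDecidable

variable {p : ℕ} [Fact p.Prime] {M : Ideal AlgInt}
variable {G : Type*} [Group G] [Fintype G] (N : Subgroup G) [hN : N.Normal] [Fintype N]

theorem conjIrr_of_mem {a : G} (ha : a ∈ N) (θ : IrrCharacter N) : conjIrr N θ a = θ :=
  Subtype.ext (conjFun_mem_eq N (irr_classFun θ) ha)

/-- The stabiliser of a block. -/
def stab (b : Set (IrrCharacter N)) : Subgroup G where
  carrier := {g | ∀ ξ : IrrCharacter N, conjIrr N ξ g ∈ b ↔ ξ ∈ b}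
  one_mem' := fun ξ => by rw [conjIrr_one]
  mul_mem' := fun {a c} ha hc ξ => by rw [← conjIrr_conjIrr, hc, ha]
  inv_mem' := fun {a} ha ξ => by
    rw [← ha (conjIrr N ξ a⁻¹), conjIrr_conjIrr, inv_mul_cancel, conjIrr_one]

theorem mem_stab_of_forall (hM : IsPModular p M) {b : Set (IrrCharacter N)} (hb : IsPBlock M b)
    {g : G} (h : ∀ θ ∈ b, conjIrr N θ g ∈ b) : g ∈ stab N b := fun ξ => by
  refine ⟨fun hξ => ?_, h ξ⟩
  obtain ⟨θ, hθ⟩ := block_nonempty hM hb
  refine mem_of_sameBlock hM hb hθ ?_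
  have := sameBlock_conjIrr N (sameBlock_of_mem hM hb (h θ hθ) hξ) g⁻¹
  rwa [conjIrr_conjIrr, conjIrr_conjIrr, mul_inv_cancel, conjIrr_one, conjIrr_one] at this

theorem isStab_stab (hM : IsPModular p M) {b : Set (IrrCharacter N)} (hb : IsPBlock M b) :
    FongReynolds78.IsStab N b (stab N b) :=
  fun _ => ⟨fun hg θ hθ => (hg θ).2 hθ, mem_stab_of_forall N hM hb⟩

theorem le_stab (b : Set (IrrCharacter N)) : N ≤ stab N b :=
  fun a ha ξ => by rw [conjIrr_of_mem N ha]

theorem stabilizes_iff_mem_stab (hM : IsPModular p M) {b : Set (IrrCharacter N)}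
    (hb : IsPBlock M b) (g : G) : StabilizesBlock N b g ↔ g ∈ stab N b := by
  constructor
  · rintro ⟨-, h⟩
    have hg : g⁻¹ ∈ stab N b := mem_stab_of_forall N hM hb fun θ hθ => by
      obtain ⟨θ', hθ', he⟩ := h θ hθ
      convert hθ' using 1
      refine Subtype.ext (funext fun k => ?_)
      exact (he ⟨g⁻¹ * k * g⁻¹⁻¹, hN.conj_mem _ k.2 g⁻¹⟩ k (by simp [mul_assoc])).symm
    simpa using inv_mem hg
  · intro hg
    refine ⟨by rw [Subgroup.normalizer_eq_top]; trivial,
      fun θ hθ => ⟨conjIrr N θ g⁻¹, (inv_mem hg θ).2 hθ, fun k k' hk => ?_⟩⟩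
    show (θ : N → ℂ) _ = _
    exact congrArg (θ : N → ℂ) (Subtype.ext (by simp [hk, mul_assoc]))

theorem exists_covered (χ : IrrCharacter G) :
    ∃ θ : IrrCharacter N, classInner (fun n : N => (χ : G → ℂ) n) (θ : N → ℂ) ≠ 0 :=
  BrauerBlocksCovering.exists_constituent (f := fun n : N => (χ : G → ℂ) n)
    (isCharacter_res N (CharBasic.isCharacter_of_isIrrCharacter χ.2)) (irr_one_ne_zero χ)

/-- A block over `b` has a defect group inside the stabiliser of `b`, meeting `N` in a defect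
group of `b`. -/
theorem exists_defect_in_stab (hM : IsPModular p M) {b : Set (IrrCharacter N)}
    (hb : IsPBlock M b) {B : Set (IrrCharacter G)} (hB : IsPBlock M B)
    (hcov : ∃ χ ∈ B, ∃ θ ∈ b, classInner (fun n : N => (χ : G → ℂ) n) (θ : N → ℂ) ≠ 0) :
    ∃ P : Subgroup G, IsDefectGroup p M B P ∧ P ≤ stab N b ∧
      IsDefectGroup p M b ((P ⊓ N).subgroupOf N) := by
  set T := stab N b
  haveI : Fintype T := Fintype.ofFinite T
  have hNT : N ≤ T := le_stab N b
  have hS := isStab_stab N hM hb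
  obtain ⟨χ, hχ, hθ⟩ := hcov
  obtain ⟨ψ, ho, hm⟩ := FongReynolds78.exists_over hNT hθ
  set B' := blockOf M (ψ : T → ℂ)
  have hB' : IsPBlock M B' := isPBlock_blockOf ψ
  have hψ : ψ ∈ B' := self_mem_blockOf hM ψ
  have he := (FongReynolds78.constituent_key hS hNT hM hb χ ho hm).1
  obtain ⟨A, hA, -, -, hiff⟩ := FongReynolds78.correspondence hS hNT hM hb hB' ⟨ψ, hψ, ho⟩
  have hAB : A = B := block_eq_of_mem hM hA.2.1 hB ((hiff χ).2 ⟨ψ, hψ, he⟩) hχ
  subst hAB
  have hT' : ∀ g : G, g ∈ T ↔ ∀ θ ∈ b, ∀ θ' : IrrCharacter N,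
      (∀ n : N, (θ' : N → ℂ) n = (θ : N → ℂ) ⟨g * n * g⁻¹, hN.conj_mem n n.2 g⟩) → θ' ∈ b :=
    fun g => ⟨fun hg θ hθ θ' h =>
      (show θ' = conjIrr N θ g from Subtype.ext (funext h)) ▸ (hg θ).2 hθ,
      fun h => (hS g).2 fun θ hθ => h θ hθ _ fun _ => rfl⟩
  obtain ⟨D, hD⟩ := exists_defectGroup (p := p) hM hB'
  have hP := (S4436.result p M hM N b hb T hT' hNT B' hB' ⟨ψ, hψ, ho⟩ _ hA).1 D hD
  set P := D.map T.subtype
  obtain ⟨E, hE⟩ := exists_defectGroup (p := p) hM hb
  set Q := E.map N.subtype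
  have hQN : Q ≤ N := Subgroup.map_subtype_le _
  have hQE : Q.subgroupOf N = E :=
    Subgroup.comap_map_eq_self_of_injective N.subtype_injective E
  obtain ⟨P₀, hP₀, hP₀N⟩ := BlockTheoryMeet.exists_defectGroup_inf_eq N hM hb hQN
    (hQE.symm ▸ hE) hA.2.1 ⟨χ, hχ, hθ⟩
  have hcard : Nat.card E ≤ Nat.card (P ⊓ N : Subgroup G) := by
    obtain ⟨x, hx⟩ := defectGroup_conj hM hA.2.1 hP₀ hP
    rw [← Subgroup.card_map_of_injective N.subtype_injective, ← card_cjS x (E.map N.subtype),
      show E.map N.subtype = Q from rfl, ← hP₀N]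
    refine Subgroup.card_le_of_le (le_inf ((cjS_mono inf_le_left).trans hx.le) ?_)
    rintro _ ⟨u, hu, rfl⟩
    exact hN.conj_mem u hu.2 x
  refine ⟨P, hP, Subgroup.map_subtype_le _, ?_⟩
  -- some element of `N` centralising `D` has a unit coefficient in `b`
  have hbT : IsCen (FongReynolds78.bT hNT b) := FongReynolds78.isCen_bT hS hNT
  have hbTi : IsInt M (FongReynolds78.bT hNT b) := FongReynolds78.isInt_bT hNT hM hb
  have hmul : FongReynolds78.bT hNT b * idem B' = idem B' := by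
    refine ext_omega (hbT.mul (isCen_idem B')) (isCen_idem B') fun φ => ?_
    rw [omega_mul φ hbT, omega_idem, FongReynolds78.omega_bT hS hNT]
    split_ifs with h1 h2 h2
    · rw [one_mul]
    · simp
    · exact absurd (FongReynolds78.over_of_sameBlock hS hNT hM hb
        (sameBlock_of_mem hM hB' hψ h2) ho) h1
    · simp
  obtain ⟨x, hxD, hx⟩ : ∃ x : T, x ∈ Subgroup.centralizer (D : Set T) ∧
      ¬ MemLocalIdeal M ((FongReynolds78.bT hNT b).coeff x) := by
    by_contra! hcon
    refine not_small_cut_defect hM hB' hD ?_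
    have hDp := isPGroup_of_isDefectGroup hD
    have hsmall : Small M (cut D (FongReynolds78.bT hNT b)) := fun x => by
      rw [coeff_cut]
      split_ifs with h
      exacts [hcon x h, ideal_zero hM]
    have h1 := small_add hM
      (cut_mul hM D hDp hbT (isCen_idem B') hbTi (isInt_idem hM hB'))
      (small_mul_right hM hsmall (isInt_cut hM D (isInt_idem hM hB')))
    rwa [sub_add_cancel, hmul] at h1
  have hxN : (x : G) ∈ N := by
    by_contra hn
    exact hx (by rw [FongReynolds78.coeff_bT_of_notMem hNT hn]; exact ideal_zero hM)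
  rw [FongReynolds78.coeff_bT_of_mem hNT hxN] at hx
  have hle := conjLe_defect_of_coeff hM hb hE hx (IsConj.refl _)
    (Q := (P ⊓ N).subgroupOf N)
    (((isPGroup_of_isDefectGroup hP).to_le inf_le_left).comap_subtype)
    (Subgroup.mem_centralizer_iff.mpr fun u hu => by
      obtain ⟨⟨t, ht, htu⟩, -⟩ := Subgroup.mem_subgroupOf.mp hu
      refine Subtype.ext ?_
      have h2 := congrArg Subtype.val (Subgroup.mem_centralizer_iff.mp hxD t ht)
      simp only [Subgroup.coe_mul] at h2 ⊢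
      rw [← htu]
      exact h2)
  obtain ⟨n, hn⟩ := eq_map_of_conjLe hle (by
    rw [Nat.card_congr (Subgroup.subgroupOfEquivOfLe (inf_le_right : P ⊓ N ≤ N)).toEquiv]
    exact hcard)
  have h3 := isDefectGroup_map hE n⁻¹
  rw [← hn, Subgroup.map_map] at h3
  convert h3 using 1
  ext u
  simp [Subgroup.mem_map, mul_assoc]

/-- Every defect group of a block meets `N` in a defect group of a covered block that it
stabilises. -/
theorem exists_covered_defect (hM : IsPModular p M) {B : Set (IrrCharacter G)}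
    (hB : IsPBlock M B) {P : Subgroup G} (hP : IsDefectGroup p M B P) :
    ∃ c : Set (IrrCharacter N), IsPBlock M c ∧ P ≤ stab N c ∧
      (∃ χ ∈ B, ∃ θ ∈ c, classInner (fun n : N => (χ : G → ℂ) n) (θ : N → ℂ) ≠ 0) ∧
      IsDefectGroup p M c ((P ⊓ N).subgroupOf N) := by
  obtain ⟨χ, hχ⟩ := block_nonempty hM hB
  obtain ⟨θ, hθ⟩ := exists_covered N χ
  set b := blockOf M (θ : N → ℂ)
  have hb : IsPBlock M b := isPBlock_blockOf θ
  obtain ⟨P₀, hP₀, hP₀T, hbD⟩ := exists_defect_in_stab N hM hb hB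
    ⟨χ, hχ, θ, self_mem_blockOf hM θ, hθ⟩
  obtain ⟨x, hx⟩ := defectGroup_conj hM hB hP₀ hP
  set e := conjEquiv x N N (BlockTheoryMeet.conj_mem_iff N x)
  set c := pushSet e b
  have hc : IsPBlock M c := isPBlock_push e hb
  have hmem : ∀ ξ, ξ ∈ b → conjIrr N ξ x⁻¹ ∈ c := fun ξ hξ => by
    refine ⟨ξ, hξ, Subtype.ext (funext fun k => ?_)⟩
    show (ξ : N → ℂ) (e.symm k) = (ξ : N → ℂ) _
    exact congrArg (ξ : N → ℂ) (Subtype.ext
      (show x⁻¹ * (k : G) * x = x⁻¹ * (k : G) * x⁻¹⁻¹ by rw [inv_inv]))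
  have hiff : ∀ ξ, ξ ∈ c ↔ conjIrr N ξ x ∈ b := by
    intro ξ
    constructor
    · rintro ⟨η, hη, rfl⟩
      convert hη using 1
      refine Subtype.ext (funext fun k => ?_)
      exact pushChar_apply e η k
    · intro h
      have := hmem _ h
      rwa [conjIrr_conjIrr, mul_inv_cancel, conjIrr_one] at this
  refine ⟨c, hc, fun u hu => ?_, ⟨χ, hχ, _, hmem θ (self_mem_blockOf hM θ), ?_⟩, ?_⟩
  · intro ξ
    rw [← hx] at hu
    obtain ⟨t, ht, rfl⟩ := hu
    rw [hiff, hiff, conjIrr_conjIrr,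
      show (MulAut.conj x).toMonoidHom t * x = x * t by simp [mul_assoc], ← conjIrr_conjIrr]
    exact hP₀T ht _
  · show classInner _ (conjFun N (θ : N → ℂ) x⁻¹) ≠ 0
    rwa [classInner_res_conjFun N (irr_classFun χ)]
  · have h := isDefectGroup_push e hbD
    convert h using 1
    ext k
    obtain ⟨k, rfl⟩ := e.surjective k
    have hk : (e k : G) = x * k * x⁻¹ := rfl
    rw [Subgroup.mem_subgroupOf, ← hx, hk]
    rw [show P₀.map (MulAut.conj x).toMonoidHom = cjS x P₀ from rfl, Subgroup.mem_inf, mem_cjS]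
    have e1 : x⁻¹ * (x * (k : G) * x⁻¹) * x = k := by group
    rw [e1]
    constructor
    · rintro ⟨h1, -⟩
      exact ⟨k, ⟨h1, k.2⟩, rfl⟩
    · rintro ⟨k', hk', he⟩
      obtain rfl := e.injective he
      exact ⟨hk'.1, hk ▸ (e k').2⟩

variable {N}

/-- A stable block is the only conjugate of itself. -/
theorem orb_eq_of_stable {c : Set (IrrCharacter N)} (hst : ∀ g : G, g ∈ stab N c) :
    orb N c = c :=
  Set.ext fun ξ => ⟨fun ⟨g, hg⟩ => (hst g ξ).1 hg, mem_orb_of_mem N⟩

/-- Over a normal subgroup of `p`-power index a stable block idempotent is a block idempotent. -/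
theorem exists_idem_eq (hM : IsPModular p M) (hidx : ∃ k, N.index = p ^ k)
    {c : Set (IrrCharacter N)} (hc : IsPBlock M c) (hst : ∀ g : G, g ∈ stab N c) :
    ∃ B : Set (IrrCharacter G), IsPBlock M B ∧ idem B = liftIdem N c ∧
      ∃ χ ∈ B, ∃ θ ∈ c, classInner (fun n : N => (χ : G → ℂ) n) (θ : N → ℂ) ≠ 0 := by
  obtain ⟨B, ⟨hB, hcov⟩, huniq⟩ := S0966.result p M hM N hidx c hc
  refine ⟨B, hB, ?_, hcov⟩
  have horb := orb_eq_of_stable hst
  refine ext_omega (isCen_idem B) (isCen_liftIdem N fun ξ a => hst a ξ) fun χ => ?_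
  obtain ⟨θ, hθ⟩ := exists_covered N χ
  have h := omega_lift N χ hθ c
  rw [horb] at h
  rw [omega_idem, h]
  refine if_congr ⟨fun hχ => ?_, fun hθc => ?_⟩ rfl rfl
  · obtain ⟨χ₀, hχ₀, θ₀, hθ₀, hm⟩ := hcov
    rw [← horb]
    exact mem_orb_of_sameBlock N hM hc (sameBlock_of_mem hM hB hχ₀ hχ) hθ₀ hm hθ
  · have := huniq _ ⟨isPBlock_blockOf χ, χ, self_mem_blockOf hM χ, θ, hθc, hθ⟩
    rw [← this]
    exact self_mem_blockOf hM χ

theorem liftIdem_eq_subgroupBlockCoeff (c : Set (IrrCharacter N)) (g : G) :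
    (liftIdem N c).coeff g = subgroupBlockCoeff N c g := by
  simp only [liftIdem, coeff_ofFun, subgroupBlockCoeff]

/-- The defect group of the block with the idempotent of a stable block supplements `N`. -/
theorem sup_defect_eq_top (hM : IsPModular p M) (hidx : ∃ k, N.index = p ^ k)
    {c : Set (IrrCharacter N)} (hc : IsPBlock M c) (hst : ∀ g : G, g ∈ stab N c)
    {B : Set (IrrCharacter G)} (hB : IsPBlock M B) (hidem : idem B = liftIdem N c)
    {P : Subgroup G} (hP : IsDefectGroup p M B P) : N ⊔ P = ⊤ := by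
  obtain ⟨g, ⟨-, hne, hω⟩, S, rfl⟩ := hP
  have hgN : g ∈ N := by
    by_contra hn
    refine hne ?_
    rw [← coeff_idem, hidem, liftIdem_supp N c g hn]
    exact ideal_zero hM
  obtain ⟨χ, hχ⟩ := block_nonempty hM hB
  obtain ⟨θ, hθ⟩ := exists_covered N χ
  have horb := orb_eq_of_stable hst
  have hθc : θ ∈ c := by
    have h := omega_lift N χ hθ c
    rw [horb, ← hidem, omega_idem, if_pos hχ] at h
    by_contra hn
    rw [if_neg hn] at h
    exact one_ne_zero h
  set U := (Subgroup.centralizer ({g} : Set G)) ⊔ N with hU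
  haveI : Fintype (G ⧸ U) := Fintype.ofFinite _
  have hUtop : U = ⊤ := by
    by_contra hne'
    refine hω χ hχ ?_
    rw [centralChar_eq_induced N χ hθ hgN, ← omega_res_classSum]
    set z := res N (classSum g)
    have hzc : IsCen z := isCen_res N (isCen_classSum g)
    rw [hzc.eq_sum_classSum, map_sum]
    set gN : N := ⟨g, hgN⟩
    let cls : G ⧸ U → ConjClasses N := fun q => ConjClasses.mk (MulAut.conjNormal q.out gN)
    have hcls : Function.Injective cls := by
      intro q₁ q₂ he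
      obtain ⟨n, hn⟩ := isConj_iff.1 (ConjClasses.mk_eq_mk_iff_isConj.1 he)
      rw [← QuotientGroup.out_eq' q₁, ← QuotientGroup.out_eq' q₂]
      refine QuotientGroup.eq.2 ?_
      have hn' : (n : G) * (q₁.out * g * q₁.out⁻¹) * (n : G)⁻¹ = q₂.out * g * q₂.out⁻¹ := by
        simpa [gN] using congrArg Subtype.val hn
      have hmem : q₂.out⁻¹ * (n : G) * q₁.out ∈ (Subgroup.centralizer ({g} : Set G)) := by
        rw [Subgroup.mem_centralizer_singleton_iff]
        calc q₂.out⁻¹ * (n : G) * q₁.out * g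
            = q₂.out⁻¹ * ((n : G) * (q₁.out * g * q₁.out⁻¹) * (n : G)⁻¹) * ((n : G) * q₁.out) := by
              group
          _ = g * (q₂.out⁻¹ * (n : G) * q₁.out) := by rw [hn']; group
      have hn2 : q₂.out⁻¹ * (n : G) * q₂.out ∈ N := by
        simpa using hN.conj_mem _ n.2 q₂.out⁻¹
      have h4 : q₂.out⁻¹ * q₁.out ∈ U := by
        have := mul_mem (inv_mem (le_sup_right (a := (Subgroup.centralizer ({g} : Set G))) hn2)) (le_sup_left (b := N) hmem)
        convert this using 1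
        group
      simpa using inv_mem h4
    have hval : ∀ K : ConjClasses N, z.coeff K.out =
        if K ∈ Finset.univ.image cls then 1 else 0 := by
      intro K
      rw [coeff_res, classSum, coeff_ofFun]
      refine if_congr ⟨fun h => ?_, fun h => ?_⟩ rfl rfl
      · obtain ⟨y, hy⟩ := isConj_iff.1 h
        refine Finset.mem_image.2 ⟨(y : G ⧸ U), Finset.mem_univ _, ?_⟩
        obtain ⟨u, hu, hue⟩ : ∃ u, u ∈ U ∧ (y : G ⧸ U).out = y * u := by
          refine ⟨y⁻¹ * (y : G ⧸ U).out, ?_, by group⟩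
          exact QuotientGroup.eq.1 (QuotientGroup.out_eq' (y : G ⧸ U)).symm
        obtain ⟨w, hw, m, hm, rfl⟩ := Subgroup.mem_sup_of_normal_right.1 hu
        conv_rhs => rw [← Quotient.out_eq K]
        refine ConjClasses.mk_eq_mk_iff_isConj.2 ?_
        have hm' : y * w * m⁻¹ * (y * w)⁻¹ ∈ N := hN.conj_mem _ (inv_mem hm) (y * w)
        refine isConj_iff.2 ⟨⟨_, hm'⟩, Subtype.ext ?_⟩
        have hwg : w * g * w⁻¹ = g := by
          rw [Subgroup.mem_centralizer_singleton_iff.1 hw, mul_inv_cancel_right]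
        show y * w * m⁻¹ * (y * w)⁻¹ * ((MulAut.conjNormal (y : G ⧸ U).out gN : N) : G) *
          (y * w * m⁻¹ * (y * w)⁻¹)⁻¹ = (K.out : G)
        rw [MulAut.conjNormal_apply, ← hy, hue]
        show _ = y * g * y⁻¹
        conv_rhs => rw [← hwg]
        show y * w * m⁻¹ * (y * w)⁻¹ * (y * (w * m) * g * (y * (w * m))⁻¹) *
          (y * w * m⁻¹ * (y * w)⁻¹)⁻¹ = _
        group
      · obtain ⟨q, -, hq⟩ := Finset.mem_image.1 h
        have h1 : IsConj (MulAut.conjNormal q.out gN) K.out :=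
          ConjClasses.mk_eq_mk_iff_isConj.1 (hq.trans (Quotient.out_eq K).symm)
        exact (isConj_iff.2 ⟨q.out, rfl⟩ : IsConj g (q.out * g * q.out⁻¹)).trans
          (N.subtype.map_isConj h1)
    set ω₀ := omega (θ : N → ℂ) (classSum gN)
    have hsum : MemLocalIdeal M ((∑ K : ConjClasses N,
        omega (θ : N → ℂ) (z.coeff K.out • classSum K.out)) - (U.index : ℂ) * ω₀) := by
      have hrw : (∑ K : ConjClasses N, omega (θ : N → ℂ) (z.coeff K.out • classSum K.out)) =
          ∑ q : G ⧸ U, omega (θ : N → ℂ) (classSum (cls q).out) := by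
        rw [← Finset.sum_subset (Finset.subset_univ (Finset.univ.image cls)) fun K _ hK => by
          rw [hval, if_neg hK, zero_smul, map_zero],
          Finset.sum_image fun a _ b _ hab => hcls hab]
        exact Finset.sum_congr rfl fun q _ => by
          rw [hval, if_pos (Finset.mem_image.2 ⟨q, Finset.mem_univ _, rfl⟩), one_smul]
      rw [hrw, show (U.index : ℂ) * ω₀ = ∑ _q : G ⧸ U, ω₀ by
        rw [Finset.sum_const, Finset.card_univ, ← Nat.card_eq_fintype_card, nsmul_eq_mul]; rfl,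
        ← Finset.sum_sub_distrib]
      refine ideal_sum hM fun q _ => ?_
      have e1 : omega (θ : N → ℂ) (classSum (cls q).out) =
          centralChar (θ : N → ℂ) (MulAut.conjNormal q.out gN) := by
        rw [omega_classSum (irr_classFun θ), ← omega_classSum (irr_classFun θ),
          ← omega_classSum (irr_classFun θ)]
        congr 1
        refine MonoidAlgebra.ext ?_
        ext v
        simp only [classSum, coeff_ofFun]
        have hc' : IsConj (cls q).out (MulAut.conjNormal q.out gN) :=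
          ConjClasses.mk_eq_mk_iff_isConj.1 (Quotient.out_eq (cls q))
        by_cases hv : IsConj (cls q).out v
        · rw [if_pos hv, if_pos (hc'.symm.trans hv)]
        · rw [if_neg hv, if_neg fun h => hv (hc'.trans h)]
      rw [e1, ← centralChar_conjFun N (θ : N → ℂ) q.out gN,
        show ω₀ = centralChar (θ : N → ℂ) gN from omega_classSum (irr_classFun θ) gN]
      exact sameBlock_of_mem hM hc ((hst q.out θ).2 hθc) hθc gN
    obtain ⟨k, hk⟩ := hidx
    have hdvd : U.index ∣ p ^ k := hk ▸ Subgroup.index_dvd_of_le le_sup_right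
    obtain ⟨j, -, hj⟩ := (Nat.dvd_prime_pow hM.1).1 hdvd
    have hj0 : j ≠ 0 := fun h0 => hne' (Subgroup.index_eq_one.1 (by rw [hj, h0, pow_zero]))
    have hω₀ : MemLocalRing M ω₀ :=
      omega_mem_localRing hM θ (isCen_classSum gN) (isInt_classSum hM gN)
    have h0 : MemLocalIdeal M ((U.index : ℂ) * ω₀) :=
      ideal_mul_right hM ((natCast_mem_iff hM).2 (hj ▸ dvd_pow_self p hj0)) hω₀
    have := ideal_add hM hsum h0
    rw [sub_add_cancel] at this
    convert this using 4
  -- a Sylow subgroup of the centraliser maps onto the quotient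
  set f : (Subgroup.centralizer ({g} : Set G)) →* G ⧸ N := (QuotientGroup.mk' N).comp (Subgroup.centralizer ({g} : Set G)).subtype
  have hf : Function.Surjective f := by
    intro q
    obtain ⟨x, rfl⟩ := QuotientGroup.mk'_surjective N q
    have hx : x ∈ U := hUtop ▸ Subgroup.mem_top x
    obtain ⟨w, hw, m, hm, rfl⟩ := Subgroup.mem_sup_of_normal_right.1 hx
    refine ⟨⟨w, hw⟩, ?_⟩
    show (w : G ⧸ N) = ((w * m : G) : G ⧸ N)
    rw [QuotientGroup.mk_mul, (QuotientGroup.eq_one_iff m).2 hm, mul_one]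
  obtain ⟨k, hk⟩ := hidx
  have hp' : IsPGroup p (⊤ : Subgroup (G ⧸ N)) :=
    IsPGroup.of_card (n := k) (by rw [Subgroup.card_top, ← hk]; rfl)
  have htop : (S : Subgroup (Subgroup.centralizer ({g} : Set G))).map f = ⊤ :=
    ((S.mapSurjective hf).is_maximal' hp' le_top).symm
  rw [eq_top_iff]
  intro x _
  obtain ⟨w, hw, hwx⟩ : (x : G ⧸ N) ∈ (S : Subgroup (Subgroup.centralizer ({g} : Set G))).map f := htop ▸ Subgroup.mem_top _
  have : (w : G)⁻¹ * x ∈ N := QuotientGroup.eq.1 hwx
  have h2 : (w : G) * ((w : G)⁻¹ * x) ∈ N ⊔ (S : Subgroup (Subgroup.centralizer ({g} : Set G))).map (Subgroup.centralizer ({g} : Set G)).subtype :=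
    mul_mem (Subgroup.mem_sup_right ⟨w, hw, rfl⟩) (Subgroup.mem_sup_left this)
  rw [mul_inv_cancel_left] at h2
  exact h2

/-- For a stable block, the defect groups of the block with the same idempotent meet `N` in
defect groups. -/
theorem inf_defect_of_stable (hM : IsPModular p M) {c : Set (IrrCharacter N)}
    (hc : IsPBlock M c) (hst : ∀ g : G, g ∈ stab N c)
    {B : Set (IrrCharacter G)} (hB : IsPBlock M B)
    (hcov : ∃ χ ∈ B, ∃ θ ∈ c, classInner (fun n : N => (χ : G → ℂ) n) (θ : N → ℂ) ≠ 0)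
    {P : Subgroup G} (hP : IsDefectGroup p M B P) :
    IsDefectGroup p M c ((P ⊓ N).subgroupOf N) := by
  obtain ⟨c', hc', -, ⟨χ, hχ, θ, hθ, hm⟩, hD⟩ := exists_covered_defect N hM hB hP
  obtain ⟨χ₀, hχ₀, θ₀, hθ₀, hm₀⟩ := hcov
  have hmem : θ ∈ c := by
    rw [← orb_eq_of_stable hst]
    exact mem_orb_of_sameBlock N hM hc (sameBlock_of_mem hM hB hχ₀ hχ) hθ₀ hm₀ hm
  rwa [block_eq_of_mem hM hc hc' hmem hθ]

end Cfsg.Agent.CoveredDefect78
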