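import Mathlib

/-!
Certificates for identities between words in involutions with braid relations: a list of positions,
at each of which a square is deleted, two commuting letters are swapped, or a braid move is applied.
-/

set_option autoImplicit false

namespace Cfsg.Agent.CoxMoves51

variable {K : Type*} [Group K]

/-- the value of a word -/
def val (g : ℕ → K) (w : List ℕ) : K := (w.map g).prod

theorem val_nil (g : ℕ → K) : val g [] = 1 := rfl

theorem val_cons (g : ℕ → K) (a : ℕ) (w : List ℕ) : val g (a :: w) = g a * val g w := by
  simp [val]

theorem val_append (g : ℕ → K) (v w : List ℕ) : val g (v ++ w) = val g v * val g w := by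
  simp [val]

theorem val_reverse (g : ℕ → K) : ∀ (w : List ℕ), (∀ a ∈ w, g a * g a = 1) →
    val g w.reverse = (val g w)⁻¹
  | [], _ => by simp [val]
  | a :: w, h => by
    rw [List.reverse_cons, val_append, val_reverse g w fun b hb => h b (List.mem_cons_of_mem _ hb),
      val_cons, val_nil, mul_one, val_cons, mul_inv_rev,
      inv_eq_of_mul_eq_one_right (h a List.mem_cons_self)]

/-- the relations: squares, commutation and braids, as prescribed by `M` -/
structure Rels (g : ℕ → K) (M : ℕ → ℕ → ℕ) : Prop where
  sq : ∀ i, g i * g i = 1
  two : ∀ i j, M i j = 2 → g i * g j = g j * g i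
  three : ∀ i j, M i j = 3 → g i * g j * g i = g j * g i * g j

/-- one move -/
def step (M : ℕ → ℕ → ℕ) : List ℕ → ℕ → Option (List ℕ)
  | a :: w, p + 1 => (step M w p).map (a :: ·)
  | x :: y :: r, 0 =>
    if x = y then some r
    else if M x y = 2 then some (y :: x :: r)
    else if M x y = 3 then
      match r with
      | z :: r' => if z = x then some (y :: x :: y :: r') else none
      | [] => none
    else none
  | _, _ => none

/-- a sequence of moves -/
def run (M : ℕ → ℕ → ℕ) : List ℕ → List ℕ → Option (List ℕ)
  | w, [] => some w
  | w, p :: ps =>
    match step M w p with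
    | some w' => run M w' ps
    | none => none

variable {g : ℕ → K} {M : ℕ → ℕ → ℕ} (hR : Rels g M)
include hR

theorem step_sound : ∀ (w : List ℕ) (p : ℕ) (w' : List ℕ), step M w p = some w' →
    val g w = val g w'
  | [], _, _, h => by simp [step] at h
  | a :: w, p + 1, w', h => by
    simp only [step, Option.map_eq_some_iff] at h
    obtain ⟨v, hv, rfl⟩ := h
    rw [val_cons, val_cons, step_sound w p v hv]
  | [x], 0, _, h => by simp [step] at h
  | x :: y :: r, 0, w', h => by
    simp only [step] at h
    split_ifs at h with h1 h2 h3
    · cases h
      subst h1
      rw [val_cons, val_cons, ← mul_assoc, hR.sq, one_mul]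
    · cases h
      rw [val_cons, val_cons, val_cons, val_cons, ← mul_assoc, ← mul_assoc, hR.two x y h2]
    · match r, h with
      | z :: r', h =>
        simp only at h
        split_ifs at h with h4
        cases h
        subst h4
        simp only [val_cons, ← mul_assoc]
        rw [hR.three z y h3]

theorem run_sound : ∀ (ps w w' : List ℕ), run M w ps = some w' → val g w = val g w'
  | [], w, w', h => by simp only [run] at h; cases h; rfl
  | p :: ps, w, w', h => by
    simp only [run] at h
    split at h
    · next v hv => rw [step_sound hR w p v hv, run_sound ps v w' h]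
    · cases h

/-- Two words with a certificate have the same value. -/
theorem eq_of_cert {a b ps : List ℕ} (h : run M (a ++ b.reverse) ps = some []) :
    val g a = val g b := by
  have h1 := run_sound hR ps _ _ h
  rw [val_append, val_reverse g b (fun i _ => hR.sq i), val_nil, mul_inv_eq_one] at h1
  exact h1

end Cfsg.Agent.CoxMoves51
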