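import Mathlib

/-!
Certificates for finite Coxeter groups: a chain of parabolic coset tables, each edge of a table
carrying the braid relation from which it follows, together with an action on a finite set
separating the cosets. Checking is by kernel computation on natural numbers.
-/

set_option autoImplicit false

namespace Cfsg.Agent.CoxeterTables

/-- image of `r` under the packed permutation number `s` of `P` -/
def act (P : List ℕ) (s r : ℕ) : ℕ := (P.getD s 0 >>> (8 * r)) % 256

/-- image of `r` under a word, the last letter acting first -/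
def actWord (P : List ℕ) : List ℕ → ℕ → ℕ
  | [], r => r
  | s :: w, r => act P s (actWord P w r)

/-- decode a word packed in base 16 -/
def decodeWord : ℕ → ℕ → List ℕ
  | 0, _ => []
  | k + 1, x => if x = 0 then [] else (x % 16 - 1) :: decodeWord k (x / 16)

/-- target coset of an edge -/
def eTgt (e : ℕ) : ℕ := e % 256

/-- label of an edge, a word of length at most one in the subgroup generators -/
def eLab (e : ℕ) : List ℕ := if (e >>> 8) % 16 = 0 then [] else [(e >>> 8) % 16 - 1]

/-- kind of certificate of an edge -/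
def eCert (e : ℕ) : ℕ := (e >>> 12) % 16

/-- rank of an edge: its certificate uses only edges of smaller rank -/
def eRank (e : ℕ) : ℕ := e >>> 16

/-- the coset table of one step in a parabolic chain -/
structure Level where
  gens : List ℕ
  sub : List ℕ
  words : List ℕ
  edges : List ℕ
  sets : List ℕ

namespace Level

/-- number of cosets -/
def size (L : Level) : ℕ := L.words.length

/-- the edge of generator `s` at coset `v` -/
def edge (L : Level) (v s : ℕ) : ℕ := (L.edges.getD s 0 >>> (32 * v)) % 4294967296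

/-- the word of the representative of coset `v` -/
def word (L : Level) (v : ℕ) : List ℕ := decodeWord 128 (L.words.getD v 0)

/-- the separating set of coset `v` -/
def setAt (L : Level) (v : ℕ) : ℕ := L.sets.getD v 0

end Level

/-- walk through the table along a word using only edges of rank below `bd` -/
def walk (L : Level) (bd : ℕ) : List ℕ → ℕ → Option (ℕ × List ℕ)
  | [], v => some (v, [])
  | s :: w, v =>
    match walk L bd w v with
    | none => none
    | some (u, ls) =>
      if s ∈ L.gens ∧ eRank (L.edge u s) < bd then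
        some (eTgt (L.edge u s), eLab (L.edge u s) ++ ls)
      else none

/-- the word `(t s)^k` -/
def altWord (t s : ℕ) : ℕ → List ℕ
  | 0 => []
  | k + 1 => t :: s :: altWord t s k

/-- check of a single edge -/
def edgeOK (M : ℕ → ℕ → ℕ) (L : Level) (v s : ℕ) : Bool :=
  decide (eTgt (L.edge v s) < L.size) && (eLab (L.edge v s)).all (fun k => decide (k ∈ L.sub)) &&
    (if eCert (L.edge v s) = 0 then
      (eLab (L.edge v s)).isEmpty && decide (L.word (eTgt (L.edge v s)) = s :: L.word v)
    else if eCert (L.edge v s) = 1 then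
      (eLab (L.edge v s)).isEmpty && decide (L.word v = s :: L.word (eTgt (L.edge v s)))
    else if eCert (L.edge v s) = 2 then
      decide (L.word v = []) && decide (L.word (eTgt (L.edge v s)) = []) &&
        decide (eLab (L.edge v s) = [s])
    else
      decide (eCert (L.edge v s) - 3 ∈ L.gens) && decide (1 ≤ M (eCert (L.edge v s) - 3) s) &&
        decide (walk L (eRank (L.edge v s))
          (altWord (eCert (L.edge v s) - 3) s (M (eCert (L.edge v s) - 3) s - 1) ++
            [eCert (L.edge v s) - 3]) v = some (eTgt (L.edge v s), eLab (L.edge v s))))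

/-- all edges of a table -/
def tableOK (M : ℕ → ℕ → ℕ) (L : Level) : Bool :=
  decide (0 < L.size) && decide (L.word 0 = []) && L.sub.all (fun k => decide (k ∈ L.gens)) &&
    (List.range L.size).all (fun v => L.gens.all (fun s => edgeOK M L v s))

/-- image of a bit set -/
def imgSet (f : ℕ → ℕ) (S : ℕ) : ℕ → ℕ
  | 0 => 0
  | k + 1 => if S.testBit k then imgSet f S k ||| (1 <<< f k) else imgSet f S k

/-- check that the action separates the cosets -/
def setsOK (P : List ℕ) (R : ℕ) (L : Level) : Bool :=
  decide (L.sets.length = L.size) && decide (L.sets.Nodup) && decide (L.setAt 0 < 2 ^ R) &&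
    L.sub.all (fun k => decide (imgSet (act P k) (L.setAt 0) R = L.setAt 0)) &&
    (List.range L.size).all (fun v =>
      match L.word v with
      | [] => decide (v = 0)
      | s :: _ => decide (s ∈ L.gens) && decide (eCert (L.edge v s) = 1) &&
          decide (L.setAt v = imgSet (act P s) (L.setAt (eTgt (L.edge v s))) R))

/-- check of a whole chain -/
def chainOK (M : ℕ → ℕ → ℕ) (P : List ℕ) (R : ℕ) : List ℕ → List Level → Bool
  | g, [] => g.isEmpty
  | g, L :: Ls => decide (L.gens = g) && tableOK M L && setsOK P R L && chainOK M P R L.sub Ls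

/-! ### soundness -/

variable {W : Type*} [Group W]

/-- the element of a word -/
def wprod (σ : ℕ → W) (w : List ℕ) : W := (w.map σ).prod

@[simp] lemma wprod_nil (σ : ℕ → W) : wprod σ [] = 1 := rfl

@[simp] lemma wprod_cons (σ : ℕ → W) (s : ℕ) (w : List ℕ) :
    wprod σ (s :: w) = σ s * wprod σ w := rfl

@[simp] lemma wprod_append (σ : ℕ → W) (w w' : List ℕ) :
    wprod σ (w ++ w') = wprod σ w * wprod σ w' := by
  simp [wprod]

lemma wprod_altWord (σ : ℕ → W) (t s : ℕ) : ∀ k, wprod σ (altWord t s k) = (σ t * σ s) ^ k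
  | 0 => by simp [altWord]
  | k + 1 => by rw [altWord, wprod_cons, wprod_cons, wprod_altWord σ t s k, pow_succ', mul_assoc]

/-- relations of a Coxeter system for the generators with indices below `n` -/
def Rels (σ : ℕ → W) (M : ℕ → ℕ → ℕ) : Prop :=
  (∀ s, σ s * σ s = 1) ∧ ∀ t s, (σ t * σ s) ^ M t s = 1

lemma braid_word {σ : ℕ → W} {M : ℕ → ℕ → ℕ} (h : Rels σ M) (t s : ℕ) (hm : 1 ≤ M t s) :
    wprod σ (altWord t s (M t s - 1) ++ [t]) = σ s := by
  have h2 : (σ t * σ s) ^ (M t s - 1) * (σ t * σ s) = 1 := by
    rw [← pow_succ, Nat.sub_add_cancel hm]; exact h.2 t s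
  rw [wprod_append, wprod_altWord]
  simp only [wprod_cons, wprod_nil, mul_one]
  calc (σ t * σ s) ^ (M t s - 1) * σ t
      = (σ t * σ s) ^ (M t s - 1) * σ t * (σ s * σ s) := by rw [h.1, mul_one]
    _ = ((σ t * σ s) ^ (M t s - 1) * (σ t * σ s)) * σ s := by simp only [mul_assoc]
    _ = σ s := by rw [h2, one_mul]

/-- the identity asserted by an edge -/
def EdgeEq (σ : ℕ → W) (L : Level) (v s : ℕ) : Prop :=
  σ s * wprod σ (L.word v) =
    wprod σ (L.word (eTgt (L.edge v s))) * wprod σ (eLab (L.edge v s))

lemma walk_sound (σ : ℕ → W) (L : Level) (bd : ℕ)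
    (htgt : ∀ v < L.size, ∀ s ∈ L.gens, eTgt (L.edge v s) < L.size)
    (hE : ∀ v < L.size, ∀ s ∈ L.gens, eRank (L.edge v s) < bd → EdgeEq σ L v s) :
    ∀ (w : List ℕ) (v : ℕ), v < L.size → ∀ u ls, walk L bd w v = some (u, ls) →
      u < L.size ∧ wprod σ w * wprod σ (L.word v) = wprod σ (L.word u) * wprod σ ls := by
  intro w
  induction w with
  | nil =>
    intro v hv u ls h
    simp only [walk, Option.some.injEq, Prod.mk.injEq] at h
    obtain ⟨rfl, rfl⟩ := h
    simp [hv]
  | cons s w ih =>
    intro v hv u ls h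
    rw [walk] at h
    cases hw : walk L bd w v with
    | none => rw [hw] at h; simp at h
    | some p =>
      obtain ⟨u', ls'⟩ := p
      rw [hw] at h
      simp only at h
      split_ifs at h with hc
      simp only [Option.some.injEq, Prod.mk.injEq] at h
      obtain ⟨rfl, rfl⟩ := h
      obtain ⟨hu', he⟩ := ih v hv u' ls' hw
      refine ⟨htgt u' hu' s hc.1, ?_⟩
      rw [wprod_cons, mul_assoc, he, ← mul_assoc, hE u' hu' s hc.1 hc.2, wprod_append, mul_assoc]

lemma edge_sound (σ : ℕ → W) (M : ℕ → ℕ → ℕ) (hR : Rels σ M) (L : Level)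
    (hT : tableOK M L = true) :
    ∀ v < L.size, ∀ s ∈ L.gens, eTgt (L.edge v s) < L.size ∧ EdgeEq σ L v s ∧
      (∀ k ∈ eLab (L.edge v s), k ∈ L.sub) := by
  have hall : ∀ v < L.size, ∀ s ∈ L.gens, edgeOK M L v s = true := by
    simp only [tableOK, Bool.and_eq_true, List.all_eq_true, List.mem_range] at hT
    exact hT.2
  have htgt : ∀ v < L.size, ∀ s ∈ L.gens, eTgt (L.edge v s) < L.size := by
    intro v hv s hs
    have := hall v hv s hs
    simp only [edgeOK, Bool.and_eq_true, decide_eq_true_eq] at this
    exact this.1.1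
  have hlab : ∀ v < L.size, ∀ s ∈ L.gens, ∀ k ∈ eLab (L.edge v s), k ∈ L.sub := by
    intro v hv s hs k hk
    have := hall v hv s hs
    simp only [edgeOK, Bool.and_eq_true, List.all_eq_true, decide_eq_true_eq] at this
    exact this.1.2 k hk
  suffices h : ∀ N, ∀ v < L.size, ∀ s ∈ L.gens, eRank (L.edge v s) = N → EdgeEq σ L v s from
    fun v hv s hs => ⟨htgt v hv s hs, h _ v hv s hs rfl, hlab v hv s hs⟩
  intro N
  induction N using Nat.strong_induction_on with
  | _ N ih =>
    intro v hv s hs hN
    have hc := hall v hv s hs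
    simp only [edgeOK, Bool.and_eq_true] at hc
    have hc := hc.2
    split_ifs at hc with h0 h1 h2
    · simp only [Bool.and_eq_true, List.isEmpty_iff, decide_eq_true_eq] at hc
      rw [EdgeEq, hc.1, hc.2]; simp
    · simp only [Bool.and_eq_true, List.isEmpty_iff, decide_eq_true_eq] at hc
      rw [EdgeEq, hc.1, hc.2]; simp [← mul_assoc, hR.1]
    · simp only [Bool.and_eq_true, decide_eq_true_eq] at hc
      rw [EdgeEq, hc.1.1, hc.1.2, hc.2]; simp
    · simp only [Bool.and_eq_true, decide_eq_true_eq] at hc
      obtain ⟨-, he⟩ := walk_sound σ L (eRank (L.edge v s)) htgt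
        (fun v' hv' s' hs' hlt => ih _ (hN ▸ hlt) v' hv' s' hs' rfl) _ v hv _ _ hc.2
      rw [braid_word hR _ _ hc.1.2] at he
      exact he

/-- the subgroup generated by the generators listed in `g` -/
def gSub (σ : ℕ → W) (g : List ℕ) : Subgroup W := Subgroup.closure (σ '' {s | s ∈ g})

lemma wprod_mem (σ : ℕ → W) (g w : List ℕ) (h : ∀ s ∈ w, s ∈ g) : wprod σ w ∈ gSub σ g := by
  refine list_prod_mem ?_
  intro x hx
  obtain ⟨s, hs, rfl⟩ := List.mem_map.mp hx
  exact Subgroup.subset_closure ⟨s, h s hs, rfl⟩

lemma testBit_imgSet (f : ℕ → ℕ) (S : ℕ) : ∀ k y,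
    (imgSet f S k).testBit y = true ↔ ∃ r < k, S.testBit r = true ∧ f r = y
  | 0, y => by simp [imgSet]
  | k + 1, y => by
    rw [imgSet]
    by_cases hk : S.testBit k = true
    · simp only [hk, if_true, Nat.testBit_or, Bool.or_eq_true, testBit_imgSet f S k y,
        Nat.one_shiftLeft, Nat.testBit_two_pow, decide_eq_true_eq]
      constructor
      · rintro (⟨r, hr, h1, h2⟩ | h)
        · exact ⟨r, by omega, h1, h2⟩
        · exact ⟨k, by omega, hk, h⟩
      · rintro ⟨r, hr, h1, h2⟩
        rcases Nat.lt_succ_iff_lt_or_eq.mp hr with h | rfl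
        · exact Or.inl ⟨r, h, h1, h2⟩
        · exact Or.inr h2
    · rw [if_neg hk, testBit_imgSet f S k y]
      constructor
      · rintro ⟨r, hr, h1, h2⟩; exact ⟨r, by omega, h1, h2⟩
      · rintro ⟨r, hr, h1, h2⟩
        rcases Nat.lt_succ_iff_lt_or_eq.mp hr with h | rfl
        · exact ⟨r, h, h1, h2⟩
        · exact absurd h1 hk

/-- the subset of `Fin R` of a bit set -/
def toSet {R : ℕ} (S : ℕ) : Set (Fin R) := {r | S.testBit r.val = true}

lemma toSet_imgSet {R : ℕ} (f : ℕ → ℕ) (π : Equiv.Perm (Fin R)) (hπ : ∀ r, (π r).val = f r.val)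
    (S : ℕ) : toSet (R := R) (imgSet f S R) = π '' toSet S := by
  ext y
  simp only [toSet, Set.mem_ofPred_eq, testBit_imgSet, Set.mem_image]
  constructor
  · rintro ⟨r, hr, h1, h2⟩
    exact ⟨⟨r, hr⟩, h1, Fin.ext (by rw [hπ]; exact h2)⟩
  · rintro ⟨r, h1, rfl⟩
    exact ⟨r.val, r.isLt, h1, (hπ r).symm⟩

lemma toSet_inj {R a b : ℕ} (ha : a < 2 ^ R) (hb : b < 2 ^ R)
    (h : toSet (R := R) a = toSet b) : a = b := by
  apply Nat.eq_of_testBit_eq
  intro i
  by_cases hi : i < R
  · have := Set.ext_iff.mp h ⟨i, hi⟩
    simp only [toSet, Set.mem_ofPred_eq] at this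
    exact Bool.eq_iff_iff.mpr this
  · have hle : 2 ^ R ≤ 2 ^ i := Nat.pow_le_pow_right (by norm_num) (by omega)
    rw [Nat.testBit_lt_two_pow (by omega), Nat.testBit_lt_two_pow (by omega)]

lemma imgSet_lt (f : ℕ → ℕ) (S R : ℕ) (hf : ∀ r < R, f r < R) : imgSet f S R < 2 ^ R := by
  apply Nat.lt_pow_two_of_testBit
  intro i hi
  rw [Bool.eq_false_iff]
  intro h
  obtain ⟨r, hr, -, rfl⟩ := (testBit_imgSet f S R i).mp h
  exact absurd (hf r hr) (by omega)

/-- hypotheses linking a group with generators, a relation table and an action -/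
structure Setting (σ : ℕ → W) (M : ℕ → ℕ → ℕ) (P : List ℕ) (R : ℕ)
    (ρ : W →* Equiv.Perm (Fin R)) (top : List ℕ) : Prop where
  rels : Rels σ M
  hρ : ∀ s ∈ top, ∀ r : Fin R, (ρ (σ s) r).val = act P s r.val

variable {σ : ℕ → W} {M : ℕ → ℕ → ℕ} {P : List ℕ} {R : ℕ} {ρ : W →* Equiv.Perm (Fin R)}

lemma level_cover (hR : Rels σ M) {L : Level} (hT : tableOK M L = true) :
    ∀ g ∈ gSub σ L.gens, ∃ v < L.size, ∃ x ∈ gSub σ L.sub, g = wprod σ (L.word v) * x := by
  have hE := edge_sound σ M hR L hT
  simp only [tableOK, Bool.and_eq_true, decide_eq_true_eq] at hT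
  intro g hg
  have step : ∀ s ∈ L.gens, ∀ y, (∃ v < L.size, ∃ x ∈ gSub σ L.sub, y = wprod σ (L.word v) * x) →
      ∃ v < L.size, ∃ x ∈ gSub σ L.sub, σ s * y = wprod σ (L.word v) * x := by
    rintro s hs y ⟨v, hv, x, hx, rfl⟩
    obtain ⟨h1, h2, h3⟩ := hE v hv s hs
    refine ⟨_, h1, wprod σ (eLab (L.edge v s)) * x, mul_mem (wprod_mem σ _ _ h3) hx, ?_⟩
    rw [← mul_assoc, h2, mul_assoc]
  refine Subgroup.closure_induction_left
    (p := fun y _ => ∃ v < L.size, ∃ x ∈ gSub σ L.sub, y = wprod σ (L.word v) * x) ?_ ?_ ?_ hg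
  · exact ⟨0, hT.1.1.1, 1, one_mem _, by simp [hT.1.1.2]⟩
  · rintro _ ⟨s, hs, rfl⟩ y _ hy
    exact step s hs y hy
  · rintro _ ⟨s, hs, rfl⟩ y _ hy
    rw [inv_eq_of_mul_eq_one_right (hR.1 s)]
    exact step s hs y hy

lemma level_words (hR : Rels σ M) {L : Level} (hT : tableOK M L = true)
    (hS : setsOK P R L = true) :
    ∀ v < L.size, wprod σ (L.word v) ∈ gSub σ L.gens := by
  have hE := edge_sound σ M hR L hT
  have hlet : ∀ m, ∀ v < L.size, (L.word v).length = m → wprod σ (L.word v) ∈ gSub σ L.gens := by
    intro m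
    induction m using Nat.strong_induction_on with
    | _ m ih =>
      intro v hv hm
      simp only [setsOK, Bool.and_eq_true, List.all_eq_true, List.mem_range] at hS
      have h := hS.2 v hv
      cases hw : L.word v with
      | nil => simp
      | cons s w =>
        rw [hw] at h
        simp only [Bool.and_eq_true, decide_eq_true_eq] at h
        obtain ⟨⟨hs, hc⟩, -⟩ := h
        have hall : edgeOK M L v s = true := by
          simp only [tableOK, Bool.and_eq_true, List.all_eq_true, List.mem_range] at hT
          exact hT.2 v hv s hs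
        simp only [edgeOK, hc, Bool.and_eq_true, one_ne_zero, if_false, if_true,
          List.isEmpty_iff, decide_eq_true_eq] at hall
        have hw' := hall.2.2
        rw [hw] at hw'
        obtain ⟨-, rfl⟩ := List.cons_eq_cons.mp hw'
        rw [wprod_cons]
        refine mul_mem (Subgroup.subset_closure ⟨s, hs, rfl⟩) (ih _ ?_ _ hall.1.1 rfl)
        rw [← hm, hw]; simp
  exact fun v hv => hlet _ v hv rfl

lemma level_sets (hR : Rels σ M) (hact : ∀ s r, r < R → act P s r < R) {L : Level}
    (hρ : ∀ s ∈ L.gens, ∀ r : Fin R, (ρ (σ s) r).val = act P s r.val)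
    (hT : tableOK M L = true) (hS : setsOK P R L = true) :
    ∀ v < L.size, ρ (wprod σ (L.word v)) '' toSet (L.setAt 0) = toSet (L.setAt v) ∧
      L.setAt v < 2 ^ R := by
  have hall : ∀ v < L.size, ∀ s ∈ L.gens, edgeOK M L v s = true := by
    simp only [tableOK, Bool.and_eq_true, List.all_eq_true, List.mem_range] at hT
    exact hT.2
  simp only [setsOK, Bool.and_eq_true, List.all_eq_true, List.mem_range, decide_eq_true_eq] at hS
  suffices h : ∀ m, ∀ v < L.size, (L.word v).length = m →
      ρ (wprod σ (L.word v)) '' toSet (L.setAt 0) = toSet (L.setAt v) ∧ L.setAt v < 2 ^ R from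
    fun v hv => h _ v hv rfl
  intro m
  induction m using Nat.strong_induction_on with
  | _ m ih =>
    intro v hv hm
    have h := hS.2 v hv
    cases hw : L.word v with
    | nil =>
      rw [hw] at h
      simp only [decide_eq_true_eq] at h
      subst h
      exact ⟨by simp, hS.1.1.2⟩
    | cons s w =>
      rw [hw] at h
      simp only [Bool.and_eq_true, decide_eq_true_eq] at h
      obtain ⟨⟨hs, hc⟩, hset⟩ := h
      have he := hall v hv s hs
      simp only [edgeOK, hc, Bool.and_eq_true, one_ne_zero, if_false, if_true,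
        List.isEmpty_iff, decide_eq_true_eq] at he
      have hw' := he.2.2
      rw [hw] at hw'
      obtain ⟨-, hwt⟩ := List.cons_eq_cons.mp hw'
      obtain ⟨ih1, -⟩ := ih _ (by rw [← hm, hw, hwt]; simp) _ he.1.1 rfl
      refine ⟨?_, hset ▸ imgSet_lt _ _ _ (fun r hr => hact s r hr)⟩
      rw [hset, toSet_imgSet (act P s) (ρ (σ s)) (hρ s hs), ← ih1, wprod_cons, map_mul, hwt,
        Equiv.Perm.coe_mul, Set.image_comp]

/-- order and faithfulness from a checked chain -/
theorem chain_sound (hR : Rels σ M) (hact : ∀ s r, r < R → act P s r < R) :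
    ∀ (g : List ℕ) (Ls : List Level), chainOK M P R g Ls = true →
      (∀ s ∈ g, ∀ r : Fin R, (ρ (σ s) r).val = act P s r.val) →
      Nat.card ↥(gSub σ g) = (Ls.map Level.size).prod ∧
        ∀ x ∈ gSub σ g, ρ x = 1 → x = 1
  | g, [], h, _ => by
    simp only [chainOK, List.isEmpty_iff] at h
    subst h
    have : gSub σ [] = ⊥ := by simp [gSub]
    rw [this]
    exact ⟨by simp, fun x hx _ => Subgroup.mem_bot.mp hx⟩
  | g, L :: Ls, h, hρ => by
    simp only [chainOK, Bool.and_eq_true, decide_eq_true_eq] at h
    obtain ⟨⟨⟨rfl, hT⟩, hS⟩, hrest⟩ := h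
    have hsub : ∀ k ∈ L.sub, k ∈ L.gens := by
      simp only [tableOK, Bool.and_eq_true, List.all_eq_true, decide_eq_true_eq] at hT
      exact hT.1.2
    have hKH : gSub σ L.sub ≤ gSub σ L.gens :=
      Subgroup.closure_mono (Set.image_mono fun k hk => hsub k hk)
    obtain ⟨ihc, ihi⟩ :=
      chain_sound hR hact L.sub Ls hrest (fun s hs => hρ s (hsub s hs))
    have hcover := level_cover hR hT
    have hwm := level_words hR hT hS
    have hsets := level_sets hR hact hρ hT hS
    simp only [setsOK, Bool.and_eq_true, List.all_eq_true, decide_eq_true_eq] at hS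
    obtain ⟨⟨⟨⟨hlen, hnd⟩, h0⟩, hfix⟩, hwords⟩ := hS
    have hK : ∀ x ∈ gSub σ L.sub, ρ x '' toSet (L.setAt 0) = toSet (L.setAt 0) := by
      intro x hx
      refine Subgroup.closure_induction (p := fun y _ => ρ y '' toSet (L.setAt 0) = toSet (L.setAt 0))
        ?_ ?_ ?_ ?_ hx
      · rintro _ ⟨k, hk, rfl⟩
        have := toSet_imgSet (act P k) (ρ (σ k)) (hρ k (hsub k hk)) (L.setAt 0)
        rw [hfix k hk] at this
        exact this.symm
      · simp
      · intro a b _ _ ha hb
        rw [map_mul, Equiv.Perm.coe_mul, Set.image_comp, hb, ha]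
      · intro a _ ha
        conv_lhs => rw [← ha, ← Set.image_comp, ← Equiv.Perm.coe_mul, map_inv, inv_mul_cancel]
        simp
    have hdistinct : ∀ v < L.size, ∀ v' < L.size, toSet (R := R) (L.setAt v) = toSet (L.setAt v') →
        v = v' := by
      intro v hv v' hv' heq
      have h1 := toSet_inj (hsets v hv).2 (hsets v' hv').2 heq
      rw [Level.setAt, Level.setAt, List.getD_eq_getElem _ _ (by omega),
        List.getD_eq_getElem _ _ (by omega)] at h1
      exact (hnd.getElem_inj_iff).mp h1
    have himg : ∀ v < L.size, ∀ x ∈ gSub σ L.sub,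
        ρ (wprod σ (L.word v) * x) '' toSet (L.setAt 0) = toSet (L.setAt v) := by
      intro v hv x hx
      rw [map_mul, Equiv.Perm.coe_mul, Set.image_comp, hK x hx, (hsets v hv).1]
    have hpos : 0 < L.size ∧ L.word 0 = [] := by
      simp only [tableOK, Bool.and_eq_true, decide_eq_true_eq] at hT
      exact ⟨hT.1.1.1, hT.1.1.2⟩
    constructor
    · let F : Fin L.size × ↥(gSub σ L.sub) → ↥(gSub σ L.gens) :=
        fun p => ⟨wprod σ (L.word p.1) * p.2, mul_mem (hwm _ p.1.isLt) (hKH p.2.2)⟩
      have hF : Function.Bijective F := by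
        constructor
        · rintro ⟨v, x⟩ ⟨v', x'⟩ he
          have he' : wprod σ (L.word v) * (x : W) = wprod σ (L.word v') * x' :=
            congrArg Subtype.val he
          have hs := himg v v.isLt x x.2
          rw [he', himg v' v'.isLt x' x'.2] at hs
          obtain rfl : v' = v := Fin.ext (hdistinct _ v'.isLt _ v.isLt hs)
          rw [Subtype.ext (mul_left_cancel he')]
        · rintro ⟨y, hy⟩
          obtain ⟨v, hv, x, hx, rfl⟩ := hcover y hy
          exact ⟨(⟨v, hv⟩, ⟨x, hx⟩), rfl⟩
      rw [← Nat.card_eq_of_bijective F hF, Nat.card_prod, Nat.card_fin, ihc]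
      simp
    · intro y hy hy1
      obtain ⟨v, hv, x, hx, rfl⟩ := hcover y hy
      have hs := himg v hv x hx
      rw [hy1] at hs
      simp only [Equiv.Perm.coe_one, Set.image_id] at hs
      obtain rfl : 0 = v := hdistinct 0 hpos.1 v hv hs
      rw [hpos.2] at hy1 ⊢
      simp only [wprod_nil, one_mul] at hy1 ⊢
      exact ihi x hx hy1

/-! ### specialisation to Mathlib's Coxeter groups -/

/-- check that the packed permutations are involutions of `Fin R` satisfying the relations -/
def actOK {n : ℕ} (C : CoxeterMatrix (Fin n)) (P : List ℕ) (R : ℕ) : Bool :=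
  decide (P.length = n) &&
  (List.finRange n).all fun i => (List.range R).all fun r =>
    decide (act P i r < R) && decide (act P i (act P i r) = r) &&
      (List.finRange n).all fun j =>
        decide ((fun x => act P i (act P j x))^[C.M i j] r = r)

/-- the relation table of a Coxeter matrix on natural numbers -/
def natMatrix {n : ℕ} (C : CoxeterMatrix (Fin n)) (t s : ℕ) : ℕ :=
  if h : t < n ∧ s < n then C.M ⟨t, h.1⟩ ⟨s, h.2⟩ else 0

variable {n : ℕ} (C : CoxeterMatrix (Fin n))

/-- the simple generators indexed by natural numbers -/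
def gen (s : ℕ) : C.Group := if h : s < n then C.simple ⟨s, h⟩ else 1

lemma gen_rels : Rels (gen C) (natMatrix C) := by
  constructor
  · intro s
    unfold gen
    split
    · exact C.toCoxeterSystem.simple_mul_simple_self _
    · simp
  · intro t s
    unfold gen natMatrix
    split_ifs with h1 h2 h3 <;> try (simp only [pow_zero])
    · exact C.toCoxeterSystem.simple_mul_simple_pow ⟨t, h1⟩ ⟨s, h2⟩
    all_goals tauto

lemma gSub_range : gSub (gen C) (List.range n) = ⊤ := by
  rw [eq_top_iff, ← C.toCoxeterSystem.subgroup_closure_range_simple]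
  refine Subgroup.closure_mono ?_
  rintro _ ⟨i, rfl⟩
  refine ⟨i.val, List.mem_range.mpr i.isLt, ?_⟩
  simp [gen]

/-- the action of the Coxeter group given by checked packed permutations -/
theorem exists_action {P : List ℕ} {R : ℕ} (h : actOK C P R = true) :
    (∀ s r, r < R → act P s r < R ∨ n ≤ s) ∧
    ∃ ρ : C.Group →* Equiv.Perm (Fin R),
      ∀ s ∈ List.range n, ∀ r : Fin R, (ρ (gen C s) r).val = act P s r.val := by
  simp only [actOK, Bool.and_eq_true, List.all_eq_true, List.mem_range, List.mem_finRange,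
    true_implies, decide_eq_true_eq] at h
  obtain ⟨-, h⟩ := h
  refine ⟨fun s r hr => (lt_or_ge s n).imp (fun hs => (h ⟨s, hs⟩ r hr).1.1) id, ?_⟩
  let π : Fin n → Equiv.Perm (Fin R) := fun i =>
    Function.Involutive.toPerm (fun r : Fin R => (⟨act P i r.val, (h i r r.isLt).1.1⟩ : Fin R))
      (fun r => Fin.ext (h i r r.isLt).1.2)
  have hlift : C.IsLiftable π := by
    intro i j
    apply Equiv.ext
    intro r
    apply Fin.ext
    have key : ∀ k, ((((π i * π j) ^ k) r : Fin R) : ℕ) =
        (fun x => act P i (act P j x))^[k] r.val := by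
      intro k
      induction k with
      | zero => simp
      | succ k ih =>
        rw [pow_succ', Function.iterate_succ_apply', ← ih]
        rfl
    rw [key, Equiv.Perm.one_apply]
    exact (h i r r.isLt).2 j
  refine ⟨C.toCoxeterSystem.lift ⟨π, hlift⟩, fun s hs r => ?_⟩
  have hs' := List.mem_range.mp hs
  have : gen C s = C.toCoxeterSystem.simple ⟨s, hs'⟩ := by
    simp [gen, hs', CoxeterMatrix.toCoxeterSystem_simple]
  rw [this, CoxeterSystem.lift_apply_simple]
  rfl

/-- order of the Coxeter group and existence of a faithful action, from a checked chain -/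
theorem coxeter_sound {P : List ℕ} {R : ℕ} {Ls : List Level} (hA : actOK C P R = true)
    (hC : chainOK (natMatrix C) P R (List.range n) Ls = true) :
    Nat.card C.Group = (Ls.map Level.size).prod ∧
      ∃ ρ : C.Group →* Equiv.Perm (Fin R), Function.Injective ρ ∧
        ∀ (i : Fin n) (r : Fin R), (ρ (C.simple i) r).val = act P i.val r.val := by
  obtain ⟨hlt, ρ, hρ⟩ := exists_action C hA
  have hlen : P.length = n := by
    simp only [actOK, Bool.and_eq_true, decide_eq_true_eq] at hA
    exact hA.1
  have hact : ∀ s r, r < R → act P s r < R := by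
    intro s r hr
    rcases hlt s r hr with h | h
    · exact h
    · rw [act, List.getD_eq_default _ _ (by omega)]
      simpa using (lt_of_le_of_lt (Nat.zero_le r) hr)
  obtain ⟨h1, h2⟩ := chain_sound (ρ := ρ) (gen_rels C) hact _ _ hC hρ
  rw [gSub_range] at h1 h2
  refine ⟨by rw [← h1, Subgroup.card_top], ρ, ?_, fun i r => ?_⟩
  · exact (injective_iff_map_eq_one ρ).mpr fun x hx => h2 x trivial hx
  · have := hρ i.val (List.mem_range.mpr i.isLt) r
    simpa [gen] using this

/-- check for the order of the product of all simple generators -/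
def prodOrderOK (P : List ℕ) (R n h : ℕ) : Bool :=
  decide (0 < h) && (List.range R).all (fun r => decide ((actWord P (List.range n))^[h] r = r)) &&
    (List.range h).all (fun m => decide (m = 0) ||
      (List.range R).any (fun r => decide ((actWord P (List.range n))^[m] r ≠ r)))

theorem coxeter_element_order {P : List ℕ} {R h : ℕ} {Ls : List Level} (hA : actOK C P R = true)
    (hC : chainOK (natMatrix C) P R (List.range n) Ls = true) (hO : prodOrderOK P R n h = true) :
    orderOf ((List.finRange n).map C.simple).prod = h := by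
  obtain ⟨-, ρ, hinj, hρ⟩ := coxeter_sound C hA hC
  simp only [prodOrderOK, Bool.and_eq_true, List.all_eq_true, List.mem_range, Bool.or_eq_true,
    List.any_eq_true, decide_eq_true_eq] at hO
  obtain ⟨⟨hpos, hone⟩, hmin⟩ := hO
  have key : ∀ (l : List (Fin n)) (r : Fin R),
      (ρ (l.map C.simple).prod r).val = actWord P (l.map Fin.val) r.val := by
    intro l
    induction l with
    | nil => intro r; simp [actWord]
    | cons i l ih => intro r; simp [actWord, hρ, ih]
  have hlist : (List.finRange n).map Fin.val = List.range n := List.map_coe_finRange_eq_range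
  set c := ((List.finRange n).map C.simple).prod
  have keyk : ∀ k, ∀ r : Fin R, ((ρ c ^ k) r).val = (actWord P (List.range n))^[k] r.val := by
    intro k
    induction k with
    | zero => intro r; simp
    | succ k ih =>
      intro r
      rw [pow_succ', Function.iterate_succ_apply', ← ih r, Equiv.Perm.mul_apply, key, hlist]
  rw [← orderOf_injective ρ hinj c, orderOf_eq_iff hpos]
  constructor
  · exact Equiv.ext fun r => Fin.ext (by rw [keyk, Equiv.Perm.one_apply]; exact hone r r.isLt)
  · intro m hm hm0 hm1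
    rcases hmin m hm with h | ⟨r, hr, hne⟩
    · omega
    · apply hne
      have := keyk m ⟨r, hr⟩
      rw [hm1] at this
      simpa using this.symm

end Cfsg.Agent.CoxeterTables
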