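import Mathlib
import Cfsg.Agent.Lib.CoxeterTables

/-!
Centre and generation checks for Coxeter groups with a certified faithful root action.
-/

set_option autoImplicit false

namespace Cfsg.Agent.CoxeterCenter

open Cfsg.Agent.CoxeterTables

/-- the list of images of a word -/
def permList (P : List ℕ) (R : ℕ) (w : List ℕ) : List ℕ := (List.range R).map (actWord P w)

/-- membership test of a permutation in the group of a chain -/
def sift (P : List ℕ) (R : ℕ) : List Level → List ℕ → Bool
  | [], f => decide (f = List.range R)
  | L :: Ls, f => (List.range L.size).any fun v =>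
      decide (imgSet (fun r => f.getD r 0) (L.setAt 0) R = L.setAt v) &&
        sift P R Ls (f.map (actWord P (L.word v).reverse))

/-- the power of the Coxeter element as a word -/
def cPow (n k : ℕ) : List ℕ := (List.replicate k (List.range n)).flatten

/-- the only candidates commuting with the action -/
def candidates (P : List ℕ) (R : ℕ) (reps : List ℕ) (paths : List (ℕ × List ℕ))
    (fx : List (List (List ℕ))) : List (List ℕ) :=
  (((List.range reps.length).map fun k =>
      (List.range R).filter fun t => (fx.getD k []).all fun w => decide (actWord P w t = t)).sections).map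
    fun t => paths.map fun p => actWord P p.2 (t.getD p.1 0)

/-- the check for the centre being `{1, c ^ k}` -/
def centreOK (P : List ℕ) (R n : ℕ) (Ls : List Level) (reps : List ℕ) (paths : List (ℕ × List ℕ))
    (fx : List (List (List ℕ))) (k : ℕ) : Bool :=
  decide (paths.length = R) && reps.all (fun r => decide (r < R)) &&
    ((List.range R).all fun r => decide ((paths.getD r (0, [])).1 < reps.length) &&
      ((paths.getD r (0, [])).2.all fun s => decide (s < n)) &&
      decide (actWord P (paths.getD r (0, [])).2 (reps.getD (paths.getD r (0, [])).1 0) = r)) &&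
    ((List.range reps.length).all fun i => (fx.getD i []).all fun w =>
      (w.all fun s => decide (s < n)) && decide (actWord P w (reps.getD i 0) = reps.getD i 0)) &&
    ((List.range n).all fun s => (List.range R).all fun r =>
      decide (act P s (actWord P (cPow n k) r) = actWord P (cPow n k) (act P s r))) &&
    (candidates P R reps paths fx).all fun f =>
      decide (f = List.range R) || decide (f = permList P R (cPow n k)) || !sift P R Ls f

/-- the token word: `0 = c`, `1 = c⁻¹`, `j + 2 = T[j]` -/
def expand (n : ℕ) (T : List ℕ) : List ℕ → List ℕ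
  | [] => []
  | 0 :: ws => List.range n ++ expand n T ws
  | 1 :: ws => (List.range n).reverse ++ expand n T ws
  | (j + 2) :: ws => T.getD j 0 :: expand n T ws

/-- the check for generation by the Coxeter element and the simple reflections in `T` -/
def genOK (P : List ℕ) (R n : ℕ) (T : List ℕ) (words : List (List ℕ)) : Bool :=
  (List.range n).all fun i =>
    ((words.getD i []).all fun j => decide (j < T.length + 2)) &&
      ((expand n T (words.getD i [])).all fun s => decide (s < n)) &&
      decide (permList P R (expand n T (words.getD i [])) = permList P R [i])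

/-! ### soundness -/

section Sift

variable {W : Type*} [Group W] {σ : ℕ → W} {M : ℕ → ℕ → ℕ} {P : List ℕ} {R : ℕ}
  {ρ : W →* Equiv.Perm (Fin R)}

theorem wprod_act (g : List ℕ) (hρ : ∀ s ∈ g, ∀ r : Fin R, (ρ (σ s) r).val = act P s r.val) :
    ∀ w : List ℕ, (∀ s ∈ w, s ∈ g) → ∀ r : Fin R, (ρ (wprod σ w) r).val = actWord P w r.val := by
  intro w
  induction w with
  | nil => intro _ r; simp [actWord]
  | cons s w ih =>
    intro hw r
    rw [wprod_cons, map_mul, Equiv.Perm.mul_apply, hρ s (hw s (by simp)),
      ih (fun t ht => hw t (by simp [ht]))]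
    rfl

theorem inv_wprod (hR : Rels σ M) : ∀ w : List ℕ, (wprod σ w)⁻¹ = wprod σ w.reverse := by
  intro w
  induction w with
  | nil => simp
  | cons s w ih => simp [mul_inv_rev, ih, inv_eq_of_mul_eq_one_right (hR.1 s)]

theorem sift_sound (hR : Rels σ M) (hact : ∀ s r, r < R → act P s r < R) :
    ∀ (g : List ℕ) (Ls : List Level), chainOK M P R g Ls = true →
      (∀ s ∈ g, ∀ r : Fin R, (ρ (σ s) r).val = act P s r.val) →
      ∀ x ∈ gSub σ g, ∀ f : List ℕ, f.length = R → (∀ r : Fin R, f.getD r.val 0 = (ρ x r).val) →
        sift P R Ls f = true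
  | g, [], h, _, x, hx, f, hf, hfx => by
    simp only [chainOK, List.isEmpty_iff] at h
    subst h
    have hx1 : x = 1 := by simpa [gSub] using hx
    subst hx1
    simp only [sift, decide_eq_true_eq]
    refine List.ext_getElem (by simp [hf]) fun i hi _ => ?_
    have := hfx ⟨i, hf ▸ hi⟩
    rw [List.getD_eq_getElem _ _ hi] at this
    simpa using this
  | g, L :: Ls, h, hρ, x, hx, f, hf, hfx => by
    simp only [chainOK, Bool.and_eq_true, decide_eq_true_eq] at h
    obtain ⟨⟨⟨rfl, hT⟩, hS⟩, hrest⟩ := h
    have hsub : ∀ k ∈ L.sub, k ∈ L.gens := by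
      have hT' := hT
      simp only [tableOK, Bool.and_eq_true, List.all_eq_true, decide_eq_true_eq] at hT'
      exact hT'.1.2
    obtain ⟨v, hv, y, hy, rfl⟩ := level_cover hR hT x hx
    have hsets := level_sets hR hact hρ hT hS v hv
    have hwm : ∀ s ∈ L.word v, s ∈ L.gens := by
      have hall : ∀ m, ∀ u < L.size, (L.word u).length = m → ∀ s ∈ L.word u, s ∈ L.gens := by
        intro m
        induction m using Nat.strong_induction_on with
        | _ m ih =>
          intro u hu hm
          have hS' := hS
          simp only [setsOK, Bool.and_eq_true, List.all_eq_true, List.mem_range] at hS'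
          have h := hS'.2 u hu
          cases hw : L.word u with
          | nil => simp
          | cons s w =>
            rw [hw] at h
            simp only [Bool.and_eq_true, decide_eq_true_eq] at h
            obtain ⟨⟨hs, hc⟩, -⟩ := h
            have hall : edgeOK M L u s = true := by
              simp only [tableOK, Bool.and_eq_true, List.all_eq_true, List.mem_range] at hT
              exact hT.2 u hu s hs
            simp only [edgeOK, hc, Bool.and_eq_true, one_ne_zero, if_false, if_true,
              List.isEmpty_iff, decide_eq_true_eq] at hall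
            have hw' := hall.2.2
            rw [hw] at hw'
            obtain ⟨-, rfl⟩ := List.cons_eq_cons.mp hw'
            intro t ht
            rcases List.mem_cons.mp ht with rfl | ht
            · exact hs
            · exact ih _ (by rw [← hm, hw]; simp) _ hall.1.1 rfl t ht
      exact hall _ v hv rfl
    have hK : ρ y '' toSet (L.setAt 0) = toSet (L.setAt 0) := by
      have hS' := hS
      simp only [setsOK, Bool.and_eq_true, List.all_eq_true, decide_eq_true_eq] at hS'
      have hfix := hS'.1.2
      refine Subgroup.closure_induction (p := fun z _ => ρ z '' toSet (L.setAt 0) = toSet (L.setAt 0))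
        ?_ ?_ ?_ ?_ hy
      · rintro _ ⟨k, hk, rfl⟩
        have := toSet_imgSet (act P k) (ρ (σ k)) (hρ k (hsub k hk)) (L.setAt 0)
        rw [hfix k hk] at this
        exact this.symm
      · simp
      · intro a b _ _ ha hb
        rw [map_mul, Equiv.Perm.coe_mul, Set.image_comp, hb, ha]
      · intro a _ ha
        conv_lhs => rw [← ha, ← Set.image_comp, ← Equiv.Perm.coe_mul, map_inv, inv_mul_cancel]
        simp
    have himg : imgSet (fun r => f.getD r 0) (L.setAt 0) R = L.setAt v := by
      refine toSet_inj (R := R) (imgSet_lt _ _ _ fun r hr => ?_) hsets.2 ?_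
      · have := hfx ⟨r, hr⟩
        simp only at this ⊢
        rw [this]
        exact Fin.isLt _
      · rw [toSet_imgSet _ (ρ (wprod σ (L.word v) * y)) (fun r => (hfx r).symm), map_mul,
          Equiv.Perm.coe_mul, Set.image_comp, hK, hsets.1]
    simp only [sift, List.any_eq_true, List.mem_range, Bool.and_eq_true, decide_eq_true_eq]
    refine ⟨v, hv, himg, sift_sound hR hact L.sub Ls hrest (fun s hs => hρ s (hsub s hs)) y hy _
      (by simp [hf]) fun r => ?_⟩
    have hr : r.val < f.length := hf ▸ r.isLt
    rw [List.getD_eq_getElem _ _ (by simpa using hr), List.getElem_map,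
      ← List.getD_eq_getElem f 0 hr, hfx,
      ← wprod_act L.gens hρ _ (fun s hs => hwm s (List.mem_reverse.mp hs)),
      ← inv_wprod hR, ← Equiv.Perm.mul_apply, ← map_mul, inv_mul_cancel_left]

end Sift

section Coxeter

variable {n : ℕ} {C : CoxeterMatrix (Fin n)} {P : List ℕ} {R : ℕ} {Ls : List Level}

theorem setup (hA : actOK C P R = true) (hC : chainOK (natMatrix C) P R (List.range n) Ls = true) :
    (∀ s r, r < R → act P s r < R) ∧ ∃ ρ : C.Group →* Equiv.Perm (Fin R), Function.Injective ρ ∧
      ∀ s ∈ List.range n, ∀ r : Fin R, (ρ (gen C s) r).val = act P s r.val := by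
  obtain ⟨-, ρ, hinj, hρ⟩ := coxeter_sound C hA hC
  refine ⟨fun s r hr => ?_, ρ, hinj, fun s hs r => ?_⟩
  · simp only [actOK, Bool.and_eq_true, List.all_eq_true, List.mem_range, List.mem_finRange,
      true_implies, decide_eq_true_eq] at hA
    by_cases hs : s < n
    · exact (hA.2 ⟨s, hs⟩ r hr).1.1
    · rw [act, List.getD_eq_default _ _ (by omega)]
      simpa using (lt_of_le_of_lt (Nat.zero_le r) hr)
  · have hs' := List.mem_range.mp hs
    simpa [gen, hs'] using hρ ⟨s, hs'⟩ r

theorem eq_of_permList_eq (ρ : C.Group →* Equiv.Perm (Fin R)) (hinj : Function.Injective ρ)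
    (hρ : ∀ s ∈ List.range n, ∀ r : Fin R, (ρ (gen C s) r).val = act P s r.val) {w w' : List ℕ}
    (hw : ∀ s ∈ w, s < n) (hw' : ∀ s ∈ w', s < n) (h : permList P R w = permList P R w') :
    wprod (gen C) w = wprod (gen C) w' := by
  apply hinj
  refine Equiv.ext fun r => Fin.ext ?_
  rw [wprod_act _ hρ w (fun s hs => List.mem_range.mpr (hw s hs)),
    wprod_act _ hρ w' (fun s hs => List.mem_range.mpr (hw' s hs))]
  exact List.map_inj_left.mp h r.val (List.mem_range.mpr r.isLt)

theorem wprod_range : wprod (gen C) (List.range n) = ((List.finRange n).map C.simple).prod := by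
  rw [wprod, ← List.map_coe_finRange_eq_range, List.map_map]
  congr 1
  refine List.map_congr_left fun i _ => ?_
  simp [gen]

theorem wprod_cPow (k : ℕ) :
    wprod (gen C) (cPow n k) = ((List.finRange n).map C.simple).prod ^ k := by
  induction k with
  | zero => simp [cPow]
  | succ k ih =>
    have h : cPow n (k + 1) = List.range n ++ cPow n k := by simp [cPow, List.replicate_succ]
    rw [h, wprod_append, ih, wprod_range, pow_succ']

theorem mem_cPow {k s : ℕ} (h : s ∈ cPow n k) : s < n := by
  simp only [cPow, List.mem_flatten, List.mem_replicate] at h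
  obtain ⟨l, ⟨-, rfl⟩, hs⟩ := h
  exact List.mem_range.mp hs

/-- the centre from a check -/
theorem centre_eq (hA : actOK C P R = true) (hC : chainOK (natMatrix C) P R (List.range n) Ls = true)
    {reps : List ℕ} {paths : List (ℕ × List ℕ)} {fx : List (List (List ℕ))} {k : ℕ}
    (hZ : centreOK P R n Ls reps paths fx k = true) :
    (Subgroup.center C.Group : Set C.Group) = {1, ((List.finRange n).map C.simple).prod ^ k} := by
  obtain ⟨hact, ρ, hinj, hρ⟩ := setup hA hC
  have hR := gen_rels C
  simp only [centreOK, Bool.and_eq_true, List.all_eq_true, List.mem_range, decide_eq_true_eq,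
    Bool.or_eq_true, Bool.not_eq_true'] at hZ
  obtain ⟨⟨⟨⟨⟨hlen, hreps⟩, hpaths⟩, hfx⟩, hcentral⟩, hcand⟩ := hZ
  have hwp : ∀ w : List ℕ, (∀ s ∈ w, s < n) → ∀ r : Fin R,
      (ρ (wprod (gen C) w) r).val = actWord P w r.val := fun w hw =>
    wprod_act _ hρ w fun s hs => List.mem_range.mpr (hw s hs)
  have htop : gSub (gen C) (List.range n) = ⊤ := gSub_range C
  ext z
  simp only [SetLike.mem_coe, Set.mem_insert_iff, Set.mem_singleton_iff]
  constructor
  · intro hz
    have hcomm : ∀ w : List ℕ, ∀ hw : (∀ s ∈ w, s < n), ∀ r : Fin R,
        (ρ z ⟨actWord P w r.val, by rw [← hwp w hw]; exact Fin.isLt _⟩).val = actWord P w (ρ z r).val := by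
      intro w hw r
      have h1 := congrArg (fun x => (ρ x r).val) (Subgroup.mem_center_iff.mp hz (wprod (gen C) w))
      simp only [map_mul, Equiv.Perm.mul_apply, hwp w hw] at h1
      rw [h1]
      congr 2
      exact Fin.ext (hwp w hw r).symm
    have hrep : ∀ i < reps.length, reps.getD i 0 < R := fun i hi => by
      rw [List.getD_eq_getElem _ _ hi]
      exact hreps _ (List.getElem_mem hi)
    let t : List ℕ := (List.range reps.length).map fun i =>
      if h : i < reps.length then (ρ z ⟨reps.getD i 0, hrep i h⟩).val else 0
    let f : List ℕ := paths.map fun p => actWord P p.2 (t.getD p.1 0)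
    have hf : f ∈ candidates P R reps paths fx := by
      refine List.mem_map.mpr ⟨t, List.mem_sections.mpr ?_, rfl⟩
      rw [List.forall₂_iff_get]
      refine ⟨by simp [t], fun i hi hi' => ?_⟩
      simp only [List.length_map, List.length_range] at hi'
      simp only [t, List.get_eq_getElem, List.getElem_map, List.getElem_range, dif_pos hi',
        List.mem_filter, List.mem_range, List.all_eq_true, decide_eq_true_eq]
      refine ⟨Fin.isLt _, fun w hw => ?_⟩
      obtain ⟨hw1, hw2⟩ := hfx i hi' w hw
      rw [← hcomm w hw1]
      congr 2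
      exact Fin.ext hw2
    have hfz : ∀ r : Fin R, f.getD r.val 0 = (ρ z r).val := by
      intro r
      have hr : r.val < paths.length := hlen ▸ r.isLt
      obtain ⟨⟨hp1, hp2⟩, hp3⟩ := hpaths r.val r.isLt
      rw [List.getD_eq_getElem _ _ (by simpa [f] using hr)]
      simp only [f, List.getElem_map]
      rw [← List.getD_eq_getElem paths (0, []) hr, List.getD_eq_getElem t 0 (by simpa [t] using hp1)]
      simp only [t, List.getElem_map, List.getElem_range, dif_pos hp1]
      rw [← hcomm _ hp2]
      congr 2
      exact Fin.ext hp3
    have hflen : f.length = R := by simp [f, hlen]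
    have hsift := sift_sound hR hact (List.range n) Ls hC hρ z (htop ▸ Subgroup.mem_top z) f hflen hfz
    rcases hcand f hf with (h | h) | h
    · refine Or.inl (hinj (Equiv.ext fun r => Fin.ext ?_))
      rw [← hfz, h, map_one]
      simp [List.getD_eq_getElem _ _ (show r.val < (List.range R).length by simp)]
    · refine Or.inr ?_
      rw [← wprod_cPow]
      refine hinj (Equiv.ext fun r => Fin.ext ?_)
      rw [← hfz, h, hwp _ (fun s hs => mem_cPow hs), permList,
        List.getD_eq_getElem _ _ (show r.val < ((List.range R).map _).length by simp)]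
      simp
    · rw [hsift] at h
      exact absurd h (by simp)
  · rintro (rfl | rfl)
    · exact Subgroup.one_mem _
    · rw [← wprod_cPow, Subgroup.mem_center_iff]
      intro g
      have hg : g ∈ gSub (gen C) (List.range n) := htop ▸ Subgroup.mem_top g
      refine Subgroup.closure_induction (p := fun y _ => y * wprod (gen C) (cPow n k) = wprod (gen C) (cPow n k) * y)
        ?_ ?_ ?_ ?_ hg
      · rintro _ ⟨s, hs, rfl⟩
        refine hinj (Equiv.ext fun r => Fin.ext ?_)
        rw [map_mul, map_mul, Equiv.Perm.mul_apply, Equiv.Perm.mul_apply, hρ s hs,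
          hwp _ (fun s hs => mem_cPow hs), hwp _ (fun s hs => mem_cPow hs), hρ s hs]
        exact hcentral s (List.mem_range.mp hs) r.val r.isLt
      · simp
      · intro a b _ _ ha hb
        rw [mul_assoc, hb, ← mul_assoc, ha, mul_assoc]
      · intro a _ ha
        rw [eq_mul_inv_iff_mul_eq, mul_assoc, ← ha, inv_mul_cancel_left]

theorem cPow_ne_one (hA : actOK C P R = true) (hC : chainOK (natMatrix C) P R (List.range n) Ls = true)
    {k : ℕ} (h : permList P R (cPow n k) ≠ List.range R) :
    ((List.finRange n).map C.simple).prod ^ k ≠ 1 := by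
  obtain ⟨-, ρ, -, hρ⟩ := setup hA hC
  intro he
  apply h
  refine List.ext_getElem (by simp [permList]) fun i hi _ => ?_
  have hi' : i < R := by simpa [permList] using hi
  simp only [permList, List.getElem_map, List.getElem_range]
  have := wprod_act _ hρ (cPow n k) (fun s hs => List.mem_range.mpr (mem_cPow hs)) ⟨i, hi'⟩
  rw [wprod_cPow, he, map_one] at this
  simpa using this.symm

/-- generation from a check -/
theorem closure_eq_top (hA : actOK C P R = true)
    (hC : chainOK (natMatrix C) P R (List.range n) Ls = true) {T : List ℕ} {words : List (List ℕ)}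
    (hG : genOK P R n T words = true) {S : Set C.Group}
    (hc : ((List.finRange n).map C.simple).prod ∈ S) (hT : ∀ j < T.length, gen C (T.getD j 0) ∈ S) :
    Subgroup.closure S = ⊤ := by
  obtain ⟨-, ρ, hinj, hρ⟩ := setup hA hC
  simp only [genOK, Bool.and_eq_true, List.all_eq_true, List.mem_range, decide_eq_true_eq] at hG
  have hexp : ∀ ws : List ℕ, (∀ j ∈ ws, j < T.length + 2) →
      wprod (gen C) (expand n T ws) ∈ Subgroup.closure S := by
    intro ws
    induction ws with
    | nil => intro _; simp [expand]
    | cons j ws ih =>
      intro hw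
      have hrest := ih fun i hi => hw i (by simp [hi])
      have hcm : wprod (gen C) (List.range n) ∈ Subgroup.closure S := by
        rw [wprod_range]; exact Subgroup.subset_closure hc
      match j, hw j (by simp) with
      | 0, _ => rw [expand, wprod_append]; exact mul_mem hcm hrest
      | 1, _ =>
        rw [expand, wprod_append, ← inv_wprod (gen_rels C)]
        exact mul_mem (inv_mem hcm) hrest
      | i + 2, hi =>
        rw [expand, wprod_cons]
        exact mul_mem (Subgroup.subset_closure (hT i (by omega))) hrest
  rw [eq_top_iff, ← gSub_range C, gSub, Subgroup.closure_le]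
  rintro _ ⟨i, hi, rfl⟩
  have hi' := List.mem_range.mp hi
  obtain ⟨⟨h1, h2⟩, h3⟩ := hG i hi'
  have := eq_of_permList_eq ρ hinj hρ h2 (w' := [i]) (by simp [hi']) h3
  rw [wprod_cons, wprod_nil, mul_one] at this
  rw [← this]
  exact hexp _ h1

end Coxeter

end Cfsg.Agent.CoxeterCenter
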