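import Mathlib
import Cfsg.Agent.S3377
import Cfsg.Agent.Lib.AffineFourSpectrum

/-!
An elementary abelian 2-group acted on by `A₅` such that every element of order three satisfies
`1 + h + h² = 0`: the submodule generated by one vector is the natural module of `SL(2,4)`.
-/

set_option autoImplicit false
set_option linter.all false

namespace Cfsg.Agent.CriticalFive8

open Equiv

/-- The alternating group of degree five. -/
abbrev A5 := alternatingGroup (Fin 5)

/-- An element of order three. -/
def px : A5 := ⟨swap (0 : Fin 5) 1 * swap 1 2, Equiv.Perm.mem_alternatingGroup.2 (by decide)⟩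
/-- An involution. -/
def pv : A5 := ⟨swap (0 : Fin 5) 1 * swap 2 3, Equiv.Perm.mem_alternatingGroup.2 (by decide)⟩
/-- Another involution. -/
def pw : A5 := ⟨swap (0 : Fin 5) 1 * swap 2 4, Equiv.Perm.mem_alternatingGroup.2 (by decide)⟩

theorem a5_gen0 : S3377.a5 0 = pw * px := by decide +kernel
theorem a5_gen1 : S3377.a5 1 = px * pw * pv := by decide +kernel

theorem top_of_gens (K : Subgroup A5) (hx : px ∈ K) (hv : pv ∈ K) (hw : pw ∈ K) : K = ⊤ := by
  refine top_unique ?_
  rw [← S3377.a5_closure, Subgroup.closure_le]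
  rintro g (rfl | rfl)
  · rw [a5_gen0]; exact K.mul_mem hw hx
  · rw [a5_gen1]; exact K.mul_mem (K.mul_mem hx hw) hv

theorem rel_x : px ^ 3 = 1 ∧ px ≠ 1 := by decide +kernel
theorem rel_vx : (pv * px) ^ 3 = 1 ∧ pv * px ≠ 1 ∧ (pv * px) ^ 2 = px * px * pv := by decide +kernel
theorem rel_wx : (pw * px) ^ 3 = 1 ∧ pw * px ≠ 1 ∧ (pw * px) ^ 2 = px * px * pw := by decide +kernel
theorem rel_vw : (pv * pw) ^ 3 = 1 ∧ pv * pw ≠ 1 ∧ pv * pw * pv = pw * pv * pw := by decide +kernel
theorem rel_v : pv * pv = 1 ∧ pw * pw = 1 := by decide +kernel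

variable {V : Type*} [CommGroup V] (c : A5 →* MulAut V)

/-- `n ↦ hn · n`. -/
def dA (h : A5) (n : V) : V := c h n * n

structure Hyp : Prop where
  exp : ∀ n : V, n * n = 1
  three : ∀ h : A5, h ^ 3 = 1 → h ≠ 1 → ∀ n : V, n * c h n * c (h ^ 2) n = 1

variable {c} (H : Hyp c)

theorem c_mul (g h : A5) (n : V) : c (g * h) n = c g (c h n) := by
  rw [map_mul]; rfl

theorem dA_mul (h : A5) (m n : V) : dA c h (m * n) = dA c h m * dA c h n := by
  simp only [dA, map_mul]; exact mul_mul_mul_comm _ _ _ _

theorem dA_one (h : A5) : dA c h 1 = 1 := by simp [dA]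

include H in
theorem eq_of_mul {a b : V} (h : a * b = 1) : a = b := by
  calc a = a * (b * b) := by rw [H.exp, mul_one]
    _ = b := by rw [← mul_assoc, h, one_mul]

include H in
theorem c_eq (h : A5) (n : V) : c h n = dA c h n * n := by
  rw [dA, mul_assoc, H.exp, mul_one]

include H in
theorem dA_dA {h : A5} (hh : h * h = 1) (n : V) : dA c h (dA c h n) = 1 := by
  have : c h (c h n) = n := by rw [← c_mul, hh, map_one]; rfl
  simp only [dA, map_mul, this]
  rw [mul_comm n (c h n)]; exact H.exp _

include H in
theorem x_sum (n : V) : n * c px n * c px (c px n) = 1 := by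
  have := H.three px rel_x.1 rel_x.2 n
  rwa [pow_two, c_mul] at this

include H in
/-- The commutation of `1 + v` with `x`. -/
theorem dA_x {h : A5} (hh : (h * px) ^ 3 = 1) (hne : h * px ≠ 1) (hsq : (h * px) ^ 2 = px * px * h)
    (n : V) : dA c h (c px n) = c px (c px (dA c h n)) := by
  refine eq_of_mul H ?_
  have h1 := H.three _ hh hne n
  rw [hsq, c_mul, c_mul, c_mul, c_eq H h (c px n), c_eq H h n, map_mul, map_mul] at h1
  calc dA c h (c px n) * c px (c px (dA c h n))
      = dA c h (c px n) * c px (c px (dA c h n)) * (n * c px n * c px (c px n)) := by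
        rw [x_sum H, mul_one]
    _ = n * (dA c h (c px n) * c px n) * (c px (c px (dA c h n)) * c px (c px n)) := by ac_rfl
    _ = 1 := h1

include H in
theorem dA_x' {h : A5} (hh : (h * px) ^ 3 = 1) (hne : h * px ≠ 1) (hsq : (h * px) ^ 2 = px * px * h)
    (n : V) : dA c h (c px (c px n)) = c px (dA c h n) := by
  rw [dA_x H hh hne hsq, dA_x H hh hne hsq]
  have h3 : ∀ m : V, c px (c px (c px m)) = m := fun m => by
    rw [← c_mul, ← c_mul, show px * px * px = px ^ 3 by rw [pow_succ, pow_two], rel_x.1, map_one]; rfl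
  rw [h3]

include H in
theorem fixed_vw {n : V} (hv : dA c pv n = 1) (hw : dA c pw n = 1) : n = 1 := by
  have h1 := H.three _ rel_vw.1 rel_vw.2.1 n
  have hv' : c pv n = n := by rw [c_eq H, hv, one_mul]
  have hw' : c pw n = n := by rw [c_eq H, hw, one_mul]
  have e : c (pv * pw) n = n := by rw [c_mul, hw', hv']
  rw [pow_two, c_mul (pv * pw), e, e, H.exp, one_mul] at h1
  exact h1

include H in
/-- `1 + v` inverts `1 + w` on the fixed points of `v`. -/
theorem back {n : V} (hn : dA c pv n = 1) : dA c pv (dA c pw n) = n := by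
  set u := dA c pw n with hu
  have hnv : c pv n = n := by rw [c_eq H, hn, one_mul]
  have hb := congrArg (fun g => c g n) rel_vw.2.2
  simp only [c_mul] at hb
  rw [hnv, c_eq H pw n, ← hu, map_mul, hnv, c_eq H pv u] at hb
  have hfix : dA c pw (dA c pv u * u * n) = 1 := by
    rw [dA, ← hb]; exact H.exp _
  rw [dA_mul, dA_mul, show dA c pw u = 1 from dA_dA H rel_v.2 n, mul_one, ← hu] at hfix
  refine eq_of_mul H (fixed_vw H ?_ ?_)
  · rw [dA_mul, dA_dA H rel_v.1, hn, one_mul]
  · rw [dA_mul]; exact hfix

include H in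
theorem exists_fixed [Nontrivial V] : ∃ w : V, w ≠ 1 ∧ dA c pv w = 1 := by
  obtain ⟨m, hm⟩ := exists_ne (1 : V)
  by_cases h : dA c pv m = 1
  · exact ⟨m, hm, h⟩
  · exact ⟨_, h, dA_dA H rel_v.1 m⟩

section field

variable {F : Type*} [Field F] [Fintype F]

/-- The line through `w`. -/
noncomputable def line (c : A5 →* MulAut V) (ω : F) (w : V) (a : F) : V :=
  letI := Classical.decEq F
  if a = 0 then 1 else if a = 1 then w else if a = ω then c px w else c px (c px w)

variable {ω : F} (hF : Fintype.card F = 4) (hω : ω * ω + ω + 1 = 0)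

include hF hω in
theorem omega_facts : ω ≠ 0 ∧ ω ≠ 1 ∧ ω + 1 ≠ 0 ∧ ω + 1 ≠ 1 ∧ ω + 1 ≠ ω := by
  have h2 := AffineFourSpectrum.two_eq_zero hF
  have h0 : ω ≠ 0 := fun h => by simp [h] at hω
  refine ⟨h0, fun h => ?_, fun h => ?_, fun h => ?_, fun h => ?_⟩
  · subst h; exact one_ne_zero (α := F) (by linear_combination hω - h2)
  · exact one_ne_zero (α := F) (by linear_combination hω - ω * h)
  · exact h0 (by linear_combination h)
  · exact one_ne_zero (α := F) (by linear_combination h)

include hF hω in
theorem four_cases (a : F) : a = 0 ∨ a = 1 ∨ a = ω ∨ a = ω + 1 := by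
  rcases AffineFourSpectrum.trichotomy hF a with h | h | h
  · exact Or.inl h
  · exact Or.inr (Or.inl h)
  · have h2 := AffineFourSpectrum.two_eq_zero hF
    have : (a - ω) * (a - (ω + 1)) = 0 := by linear_combination h + hω - (a * ω + a + 1) * h2
    rcases mul_eq_zero.mp this with e | e
    · exact Or.inr (Or.inr (Or.inl (sub_eq_zero.mp e)))
    · exact Or.inr (Or.inr (Or.inr (sub_eq_zero.mp e)))

theorem line_zero (w : V) : line c ω w 0 = 1 := by simp [line]
theorem line_one (w : V) : line c ω w 1 = w := by simp [line]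

include hF hω in
theorem line_omega (w : V) : line c ω w ω = c px w := by
  obtain ⟨h0, h1, -⟩ := omega_facts hF hω
  simp [line, h0, h1]

include hF hω in
theorem line_omega_one (w : V) : line c ω w (ω + 1) = c px (c px w) := by
  obtain ⟨-, -, h0, h1, h2⟩ := omega_facts hF hω
  unfold line
  rw [if_neg h0, if_neg h1, if_neg h2]

include H hF hω in
theorem line_add (w : V) (a b : F) : line c ω w (a + b) = line c ω w a * line c ω w b := by
  have h2 := AffineFourSpectrum.two_eq_zero hF
  have e0 := line_zero (c := c) (ω := ω) w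
  have e1 := line_one (c := c) (ω := ω) w
  have e2 := line_omega (c := c) hF hω w
  have e3 := line_omega_one (c := c) hF hω w
  have s := x_sum H w
  have k3 : c px (c px w) = w * c px w := (eq_of_mul H s).symm
  have k2 : c px w = w * c px (c px w) := by rw [k3, ← mul_assoc, H.exp, one_mul]
  have k1 : w = c px w * c px (c px w) := eq_of_mul H (by rw [← mul_assoc]; exact s)
  rcases four_cases hF hω a with ha | ha | ha | ha <;>
    rcases four_cases hF hω b with hb | hb | hb | hb <;> rw [ha, hb] <;>
    first
      | rw [zero_add, e0, one_mul]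
      | rw [add_zero, e0, mul_one]
      | rw [show (1 : F) + 1 = 0 by linear_combination h2, e0, H.exp]
      | rw [show ω + ω = 0 by linear_combination ω * h2, e0, H.exp]
      | rw [show ω + 1 + (ω + 1) = 0 by linear_combination (ω + 1) * h2, e0, H.exp]
      | rw [show (1 : F) + ω = ω + 1 by ring, e3, e1, e2, ← k3]
      | rw [e3, e1, e2, mul_comm, ← k3]
      | rw [show (1 : F) + (ω + 1) = ω by linear_combination h2, e2, e1, e3, ← k2]
      | rw [show ω + 1 + 1 = ω by linear_combination h2, e2, e1, e3, mul_comm, ← k2]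
      | rw [show ω + (ω + 1) = 1 by linear_combination ω * h2, e1, e2, e3, ← k1]
      | rw [show ω + 1 + ω = 1 by linear_combination ω * h2, e1, e2, e3, mul_comm, ← k1]

include H hF hω in
theorem line_mul_omega (w : V) (a : F) : line c ω w (ω * a) = c px (line c ω w a) := by
  have h2 := AffineFourSpectrum.two_eq_zero hF
  rcases four_cases hF hω a with ha | ha | ha | ha <;> rw [ha]
  · rw [mul_zero, line_zero, map_one]
  · rw [mul_one, line_one, line_omega hF hω]
  · rw [show ω * ω = ω + 1 by linear_combination hω - (ω + 1) * h2, line_omega hF hω, line_omega_one hF hω]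
  · rw [show ω * (ω + 1) = 1 by linear_combination hω - h2, line_one, line_omega_one hF hω]
    rw [← c_mul, ← c_mul, show px * px * px = px ^ 3 by rw [pow_succ, pow_two], rel_x.1, map_one]
    rfl

include H hF hω in
theorem line_fixed {w : V} (hw : dA c pv w = 1) (a : F) : dA c pv (line c ω w a) = 1 := by
  have hx : ∀ m : V, dA c pv m = 1 → dA c pv (c px m) = 1 := fun m hm => by
    rw [dA_x H rel_vx.1 rel_vx.2.1 rel_vx.2.2, hm, map_one, map_one]
  rcases four_cases hF hω a with ha | ha | ha | ha <;> rw [ha]
  · rw [line_zero, dA_one]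
  · rw [line_one, hw]
  · rw [line_omega hF hω]; exact hx _ hw
  · rw [line_omega_one hF hω]; exact hx _ (hx _ hw)

include hF hω in
theorem line_eq_one {w : V} (hw : w ≠ 1) {a : F} (ha : line c ω w a = 1) : a = 0 := by
  rcases four_cases hF hω a with h | h | h | h <;> rw [h] at ha ⊢

  · rw [line_one] at ha; exact absurd ha hw
  · rw [line_omega hF hω] at ha; exact absurd ((map_eq_one_iff _ (c px).injective).1 ha) hw
  · rw [line_omega_one hF hω] at ha
    exact absurd ((map_eq_one_iff _ (c px).injective).1 ((map_eq_one_iff _ (c px).injective).1 ha)) hw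

/-- The plane through `w`. -/
noncomputable def plane (c : A5 →* MulAut V) (ω : F) (w : V) (p : F × F) : V :=
  line c ω w p.1 * dA c pw (line c ω w p.2)

include H hF hω in
theorem plane_add (w : V) (p q : F × F) : plane c ω w (p + q) = plane c ω w p * plane c ω w q := by
  simp only [plane, Prod.fst_add, Prod.snd_add, line_add H hF hω, dA_mul]
  exact mul_mul_mul_comm _ _ _ _

theorem plane_zero (w : V) : plane c ω w 0 = 1 := by
  simp [plane, line_zero, dA_one]

variable {w : V}

include H hF hω in
theorem plane_v (hw : dA c pv w = 1) (p : F × F) :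
    c pv (plane c ω w p) = plane c ω w (p.1 + p.2, p.2) := by
  have hl := line_fixed H hF hω hw
  simp only [plane]
  rw [map_mul, c_eq H pv (line c ω w p.1), hl, one_mul, c_eq H pv (dA c pw _), back H (hl _),
    line_add H hF hω, mul_assoc]

include H hF hω in
theorem plane_w (p : F × F) : c pw (plane c ω w p) = plane c ω w (p.1, p.1 + p.2) := by
  simp only [plane]
  rw [map_mul, c_eq H pw (line c ω w p.1), c_eq H pw (dA c pw _), dA_dA H rel_v.2, one_mul,
    line_add H hF hω, dA_mul]
  ac_rfl

include H hF hω in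
theorem plane_x (p : F × F) : c px (plane c ω w p) = plane c ω w (ω * p.1, (ω + 1) * p.2) := by
  have h2 := AffineFourSpectrum.two_eq_zero hF
  simp only [plane]
  rw [map_mul, ← line_mul_omega H hF hω, show (ω + 1) * p.2 = ω * (ω * p.2) by
    linear_combination -p.2 * hω + (ω + 1) * p.2 * h2]
  rw [line_mul_omega H hF hω w (ω * p.2), line_mul_omega H hF hω w p.2,
    dA_x' H rel_wx.1 rel_wx.2.1 rel_wx.2.2]

include H hF hω in
theorem plane_injective (hw : w ≠ 1) (hw' : dA c pv w = 1) : Function.Injective (plane c ω w) := by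
  have key : ∀ p, plane c ω w p = 1 → p = 0 := by
    intro p hp
    have hl := line_fixed H hF hω hw'
    have h1 : line c ω w p.2 = 1 := by
      have := congrArg (dA c pv) hp
      rwa [plane, dA_mul, hl, one_mul, back H (hl _), dA_one] at this
    have hb := line_eq_one hF hω hw h1
    rw [plane, hb, line_zero, dA_one, mul_one] at hp
    exact Prod.ext (line_eq_one hF hω hw hp) hb
  have h2 := AffineFourSpectrum.two_eq_zero hF
  intro p q h
  have hpq : plane c ω w (p + q) = 1 := by rw [plane_add H hF hω, h, H.exp]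
  have h0 := key _ hpq
  have hq : q + q = 0 := by
    refine Prod.ext ?_ ?_ <;> simp only [Prod.fst_add, Prod.snd_add, Prod.fst_zero, Prod.snd_zero]
    · linear_combination q.1 * h2
    · linear_combination q.2 * h2
  exact add_right_cancel (h0.trans hq.symm)

include H hF hω in
/-- The plane is invariant. -/
theorem plane_invariant (hw1 : w ≠ 1) (hw : dA c pv w = 1) (h : A5) (p : F × F) :
    ∃ q, c h (plane c ω w p) = plane c ω w q := by
  let K : Subgroup A5 :=
    { carrier := {g | ∀ p, ∃ q, c g (plane c ω w p) = plane c ω w q}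
      one_mem' := fun p => ⟨p, by rw [map_one]; rfl⟩
      mul_mem' := fun {a b} ha hb p => by
        obtain ⟨q, hq⟩ := hb p
        obtain ⟨r, hr⟩ := ha q
        exact ⟨r, by rw [c_mul, hq, hr]⟩
      inv_mem' := fun {a} ha p => by
        choose f hf using ha
        have hf' : ∀ q, c a (plane c ω w q) = plane c ω w (f q) := hf
        have hinj : Function.Injective f := fun q r he =>
          plane_injective H hF hω hw1 hw ((c a).injective (by rw [hf', hf', he]))
        obtain ⟨q, hq⟩ := (Finite.injective_iff_surjective.1 hinj) p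
        refine ⟨q, ?_⟩
        apply (c a).injective
        rw [← c_mul, mul_inv_cancel, map_one, hf', hq]
        rfl }
  have := top_of_gens K (fun p => ⟨_, plane_x H hF hω p⟩) (fun p => ⟨_, plane_v H hF hω hw p⟩)
    (fun p => ⟨_, plane_w H hF hω p⟩)
  exact (this ▸ Subgroup.mem_top h : h ∈ K) p

end field

end Cfsg.Agent.CriticalFive8
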