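import Mathlib
import Cfsg.Prelude.Def_Local
import Cfsg.Agent.Lib.CriticalFive8Module
import Cfsg.Agent.Lib.PSLCard

/-!
A critical group with spectrum `{1,2,3,4,5}` having an elementary abelian normal 2-subgroup with
quotient `A₅` is `F₄² ⋊ SL(2,4)`.
-/

set_option autoImplicit false
set_option linter.all false
set_option maxHeartbeats 1000000

namespace Cfsg.Agent.CriticalFive8

open Cfsg.Agent.AffineFourSpectrum (aff)

section planeMap

variable {F : Type*} [Field F]

/-- The affine map of the plane. -/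
def actFun (M : aff F) (p : F × F) : F × F :=
  ((M.1 : Matrix (Fin 3) (Fin 3) F) 0 0 * p.1 + (M.1 : Matrix (Fin 3) (Fin 3) F) 0 1 * p.2 +
      (M.1 : Matrix (Fin 3) (Fin 3) F) 0 2,
    (M.1 : Matrix (Fin 3) (Fin 3) F) 1 0 * p.1 + (M.1 : Matrix (Fin 3) (Fin 3) F) 1 1 * p.2 +
      (M.1 : Matrix (Fin 3) (Fin 3) F) 1 2)

theorem actFun_mul (M N : aff F) (p : F × F) : actFun (M * N) p = actFun M (actFun N p) := by
  obtain ⟨b0, b1, b2⟩ := N.2
  refine Prod.ext ?_ ?_ <;>
    simp [actFun, Matrix.mul_apply, Fin.sum_univ_three, b0, b1, b2] <;> ring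

theorem actFun_one (p : F × F) : actFun 1 p = p := by simp [actFun]

/-- The action on the plane. -/
def actPerm : aff F →* Equiv.Perm (F × F) where
  toFun M :=
    { toFun := actFun M
      invFun := actFun M⁻¹
      left_inv := fun p => by rw [← actFun_mul, inv_mul_cancel, actFun_one]
      right_inv := fun p => by rw [← actFun_mul, mul_inv_cancel, actFun_one] }
  map_one' := Equiv.ext fun p => actFun_one p
  map_mul' M N := Equiv.ext fun p => actFun_mul M N p

theorem card_aff_le [Fintype F] (hF : Fintype.card F = 4) : Nat.card (aff F) ≤ 960 := by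
  classical
  let f : aff F → Matrix.SpecialLinearGroup (Fin 2) F × (F × F) := fun M =>
    (⟨AffineFourSpectrum.lin F M, by
      obtain ⟨a0, a1, a2⟩ := M.2
      have hd : (M.1 : Matrix (Fin 3) (Fin 3) F).det = 1 := M.1.2
      rw [Matrix.det_fin_three, a0, a1, a2] at hd
      rw [Matrix.det_fin_two]
      simp [AffineFourSpectrum.lin_apply]
      linear_combination hd⟩,
      ((M.1 : Matrix (Fin 3) (Fin 3) F) 0 2, (M.1 : Matrix (Fin 3) (Fin 3) F) 1 2))
  have hf : Function.Injective f := fun M N h => by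
    obtain ⟨a0, a1, a2⟩ := M.2
    obtain ⟨b0, b1, b2⟩ := N.2
    have h1 := congrArg Prod.snd h
    have h2 : AffineFourSpectrum.lin F M = AffineFourSpectrum.lin F N :=
      congrArg Subtype.val (congrArg Prod.fst h)
    have e : ∀ i j : Fin 2, AffineFourSpectrum.lin F M i j = AffineFourSpectrum.lin F N i j :=
      fun i j => by rw [h2]
    have e00 := e 0 0; have e01 := e 0 1; have e10 := e 1 0; have e11 := e 1 1
    simp only [AffineFourSpectrum.lin_apply] at e00 e01 e10 e11
    simp only [Prod.mk.injEq, f] at h1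
    refine Subtype.ext (Subtype.ext ?_)
    ext i j
    fin_cases i <;> fin_cases j <;>
      first
        | exact e00 | exact e01 | exact e10 | exact e11 | exact h1.1 | exact h1.2
        | exact a0.trans b0.symm | exact a1.trans b1.symm | exact a2.trans b2.symm
  refine (Nat.card_le_card_of_injective f hf).trans ?_
  rw [Nat.card_prod, Nat.card_prod, PSLCard.card_SL2, Nat.card_eq_fintype_card, hF]
  norm_num

/-- The field with four elements. -/
theorem exists_field : ∃ (F : Type) (_ : Field F) (_ : Fintype F), Fintype.card F = 4 := by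
  haveI : Fintype (GaloisField 2 2) := Fintype.ofFinite _
  refine ⟨GaloisField 2 2, inferInstance, inferInstance, ?_⟩
  rw [← Nat.card_eq_fintype_card, GaloisField.card 2 2 (by norm_num)]
  norm_num

theorem exists_omega [Fintype F] (hF : Fintype.card F = 4) : ∃ ω : F, ω * ω + ω + 1 = 0 := by
  classical
  obtain ⟨w, hw⟩ : ((Finset.univ.erase (0 : F)).erase 1).Nonempty :=
    Finset.card_pos.mp (by simp [hF])
  simp at hw
  rcases AffineFourSpectrum.trichotomy hF w with h | h | h
  · exact absurd h hw.2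
  · exact absurd h hw.1
  · exact ⟨w, h⟩

end planeMap

universe u

theorem five_elem : ∃ g : A5, g ^ 5 = 1 ∧ g ≠ 1 := ⟨S3377.a5 1, by decide +kernel⟩

theorem top_of_pow : ∀ g : A5, g ^ 2 = 1 ∨ g ^ 3 = 1 ∨ g ^ 5 = 1 := by decide +kernel

/-- The critical groups with a normal elementary abelian 2-subgroup and quotient `A₅`. -/
theorem equiv_aff {G : Type u} [Group G] [Finite G]
    (hs : ∀ g : G, orderOf g ∈ ({1, 2, 3, 4, 5} : Set ℕ))
    (hcrit : ∀ K : Subgroup G, K ≠ ⊤ →
      Set.range (orderOf : K → ℕ) ≠ ({1, 2, 3, 4, 5} : Set ℕ))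
    (h4 : ∃ g : G, orderOf g = 4)
    (N : Subgroup G) [N.Normal] (hN : Cfsg.IsElementaryAbelian 2 N) (e : G ⧸ N ≃* A5) :
    ∃ (F : Type) (_ : Field F) (_ : Fintype F), Fintype.card F = 4 ∧ Nonempty (G ≃* aff F) := by
  classical
  haveI : Fact (Nat.Prime 2) := ⟨Nat.prime_two⟩
  have hexp : ∀ n : G, n ∈ N → n * n = 1 := fun n hn => by rw [← pow_two]; exact hN.2 n hn
  letI : CommGroup N :=
    { (inferInstance : Group N) with
      mul_comm := fun a b => Subtype.ext (hN.1.is_comm.comm a b |> congrArg Subtype.val) }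
  let π : G →* A5 := e.toMonoidHom.comp (QuotientGroup.mk' N)
  have hπN : ∀ g : G, π g = 1 ↔ g ∈ N := fun g => by
    show e (QuotientGroup.mk g) = 1 ↔ _
    rw [MulEquiv.map_eq_one_iff, QuotientGroup.eq_one_iff]
  have hπs : Function.Surjective π := e.surjective.comp (QuotientGroup.mk'_surjective N)
  have hle5 : ∀ g : G, orderOf g ≤ 5 ∧ 0 < orderOf g := fun g => by
    have := hs g
    simp only [Set.mem_insert_iff, Set.mem_singleton_iff] at this
    omega
  -- an element mapping to an element of order 3 or 5 has that order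
  have hlift : ∀ q : ℕ, q.Prime → (q = 3 ∨ q = 5) → ∀ g : G, π g ^ q = 1 → π g ≠ 1 → g ^ q = 1 := by
    intro q hq hq' g h1 h2
    haveI := Fact.mk hq
    have ho : orderOf (π g) = q := orderOf_eq_prime h1 h2
    obtain ⟨k, hk⟩ := ho ▸ orderOf_map_dvd π g
    have := hle5 g
    have : k = 1 := by
      rcases hq' with rfl | rfl <;> omega
    rw [this, mul_one] at hk
    rw [← hk]; exact pow_orderOf_eq_one g
  -- the action
  let c : A5 →* MulAut N := (QuotientGroup.lift N (MulAut.conjNormal (H := N)) (fun n hn => by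
    rw [MonoidHom.mem_ker]
    refine MulEquiv.ext fun m => Subtype.ext ?_
    rw [MulAut.conjNormal_apply, MulAut.one_apply]
    exact mul_inv_eq_of_eq_mul (congrArg Subtype.val (mul_comm (⟨n, hn⟩ : N) m)))).comp e.symm.toMonoidHom
  have hc : ∀ (g : G) (n : N), ((c (π g) n : N) : G) = g * (n : G) * g⁻¹ := fun g n => by
    simp [c, π, MulAut.conjNormal_apply]
  have H : Hyp c := by
    refine ⟨fun n => Subtype.ext (hexp n n.2), fun h h3 hne n => ?_⟩
    obtain ⟨g, rfl⟩ := hπs h
    have e1 := hlift 3 Nat.prime_three (Or.inl rfl) g h3 hne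
    have hn : π ((n : G) * g) = π g := by rw [map_mul, (hπN _).2 n.2, one_mul]
    have e2 := hlift 3 Nat.prime_three (Or.inl rfl) ((n : G) * g) (by rw [hn]; exact h3) (by rw [hn]; exact hne)
    refine Subtype.ext ?_
    rw [Subgroup.coe_mul, Subgroup.coe_mul, hc, ← map_pow, hc, Subgroup.coe_one]
    calc (n : G) * (g * n * g⁻¹) * (g ^ 2 * n * (g ^ 2)⁻¹)
        = ((n : G) * g) ^ 3 * (g ^ 3)⁻¹ := by simp only [pow_succ, pow_zero, one_mul, mul_inv_rev]; group
      _ = 1 := by rw [e1, e2, inv_one, mul_one]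
  haveI : Nontrivial N := by
    rw [Subgroup.nontrivial_iff_ne_bot]
    intro hb
    obtain ⟨g, hg⟩ := h4
    have hinj : Function.Injective π := by
      rw [← MonoidHom.ker_eq_bot_iff, eq_bot_iff]
      intro x hx
      rw [← hb]; exact (hπN x).1 hx
    have ho := orderOf_injective π hinj g
    rw [hg] at ho
    rcases top_of_pow (π g) with h | h | h <;> have := orderOf_dvd_of_pow_eq_one h <;> rw [ho] at this <;>
      norm_num at this
  -- an involution lifting `pv`, and the complement
  obtain ⟨t, ht⟩ := hπs (S3377.a5 0 * S3377.a5 1)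
  obtain ⟨b, hb⟩ := hπs (S3377.a5 0)
  obtain ⟨d, hd⟩ := hπs pv
  have hinv : ∃ a : G, π a = pv ∧ a * a = 1 := by
    have hm : d * d ∈ N := (hπN _).1 (by rw [map_mul, hd]; exact rel_v.1)
    set m : N := ⟨d * d, hm⟩
    have hfix : dA c pv m = 1 := by
      rw [dA, ← hd]
      refine Subtype.ext ?_
      rw [Subgroup.coe_mul, hc]
      show d * (d * d) * d⁻¹ * (d * d) = 1
      rw [show d * (d * d) * d⁻¹ = d * d by group]
      exact hexp _ hm
    set n : N := dA c pw m
    have hn : c pv n * n = m := back H hfix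
    refine ⟨d * n, by rw [map_mul, (hπN _).2 n.2, mul_one, hd], ?_⟩
    have h1 := congrArg Subtype.val hn
    rw [Subgroup.coe_mul, ← hd, hc] at h1
    have h2 : (n : G) * (d * d) = d * d * (n : G) := congrArg Subtype.val (mul_comm n m)
    calc d * (n : G) * (d * n) = (d * n * d⁻¹) * (d * d * n) := by group
      _ = (d * n * d⁻¹) * (n * (d * d)) := by rw [h2]
      _ = (d * n * d⁻¹ * n) * (d * d) := by group
      _ = 1 := by rw [h1]; exact hexp _ hm
  obtain ⟨a₀, ha₀, ha₀2⟩ := hinv
  obtain ⟨r, hr⟩ : ∃ r : A5, r * pv * r⁻¹ = S3377.a5 0 * S3377.a5 1 := by decide +kernel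
  obtain ⟨r', rfl⟩ := hπs r
  set a := r' * a₀ * r'⁻¹ with ha'
  have ha : π a = S3377.a5 0 * S3377.a5 1 := by rw [ha', map_mul, map_mul, map_inv, ha₀, hr]
  have haa : a * a = 1 := by
    rw [ha', show r' * a₀ * r'⁻¹ * (r' * a₀ * r'⁻¹) = r' * (a₀ * a₀) * r'⁻¹ by group, ha₀2, mul_one, mul_inv_cancel]
  have hb3 : b ^ 3 = 1 :=
    hlift 3 Nat.prime_three (Or.inl rfl) b (by rw [hb]; decide +kernel) (by rw [hb]; decide +kernel)
  have hy : π (b⁻¹ * a) = S3377.a5 1 := by rw [map_mul, map_inv, hb, ha, inv_mul_cancel_left]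
  have hy5 : (b⁻¹ * a) ^ 5 = 1 :=
    hlift 5 Nat.prime_five (Or.inr rfl) _ (by rw [hy]; decide +kernel) (by rw [hy]; decide +kernel)
  set L : Subgroup G := Subgroup.closure {b, b⁻¹ * a} with hL
  have hbL : b ∈ L := Subgroup.subset_closure (Or.inl rfl)
  have hyL : b⁻¹ * a ∈ L := Subgroup.subset_closure (Or.inr rfl)
  obtain ⟨-, hL60⟩ := S3377.card_le_sixty (⟨b, hbL⟩ : L) ⟨b⁻¹ * a, hyL⟩ (by
      apply Subgroup.map_injective L.subtype_injective
      rw [MonoidHom.map_closure, ← MonoidHom.range_eq_map, Subgroup.range_subtype]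
      simp [Set.image_insert_eq, hL])
    (Subtype.ext hb3) (Subtype.ext hy5) (Subtype.ext (by
      show (b * (b⁻¹ * a)) ^ 2 = 1
      rw [mul_inv_cancel_left, pow_two, haa]))
  let πL : L →* A5 := π.comp L.subtype
  have hLs : Function.Surjective πL := by
    rw [← MonoidHom.range_eq_top, eq_top_iff, ← S3377.a5_closure, Subgroup.closure_le]
    rintro g (rfl | rfl)
    · exact ⟨⟨b, hbL⟩, hb⟩
    · exact ⟨⟨b⁻¹ * a, hyL⟩, hy⟩
  have hA5 : Nat.card A5 = 60 := by rw [nat_card_alternatingGroup, Nat.card_fin]; rfl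
  have hLb : Function.Bijective πL := by
    haveI : Finite L := inferInstance
    refine (Nat.bijective_iff_surjective_and_card _).mpr ⟨hLs, ?_⟩
    have := Nat.card_le_card_of_surjective _ hLs
    omega
  let θ : A5 →* G := L.subtype.comp (MulEquiv.ofBijective πL hLb).symm.toMonoidHom
  have hθ : ∀ h, π (θ h) = h := fun h => (MulEquiv.ofBijective πL hLb).apply_symm_apply h
  have hθL : ∀ h, θ h ∈ L := fun h => ((MulEquiv.ofBijective πL hLb).symm h).2
  have hθinj : Function.Injective θ := fun x y h => by rw [← hθ x, h, hθ]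
  have hLN : ∀ g, g ∈ L → g ∈ N → g = 1 := fun g hg hn =>
    congrArg Subtype.val (hLb.1 (a₁ := ⟨g, hg⟩) (a₂ := 1) ((hπN g).2 hn |>.trans (map_one πL).symm))
  have hcθ : ∀ h (n : N), ((c h n : N) : G) = θ h * (n : G) * (θ h)⁻¹ := fun h n => by
    rw [← hc, hθ]
  -- coordinates
  obtain ⟨F, iF, iF', hF⟩ := exists_field
  obtain ⟨ω, hω⟩ := exists_omega hF
  obtain ⟨w, hw1, hw⟩ := exists_fixed H
  set P := plane c ω w with hP
  let K : Subgroup G :=
    { carrier := {g | ∃ p, g * (θ (π g))⁻¹ = (P p : G)}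
      one_mem' := ⟨0, by simp [hP, plane_zero]⟩
      mul_mem' := fun {g g'} hg hg' => by
        obtain ⟨p, hp⟩ := hg
        obtain ⟨q, hq⟩ := hg'
        obtain ⟨q', hq'⟩ := plane_invariant H hF hω hw1 hw (π g) q
        refine ⟨p + q', ?_⟩
        rw [hP, plane_add H hF hω, ← hq', Subgroup.coe_mul, hcθ, map_mul, map_mul, mul_inv_rev]
        rw [hP] at hp hq
        rw [← hp, ← hq]
        group
      inv_mem' := fun {g} hg => by
        obtain ⟨p, hp⟩ := hg
        obtain ⟨p', hp'⟩ := plane_invariant H hF hω hw1 hw (π g)⁻¹ p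
        refine ⟨p', ?_⟩
        rw [hP, ← hp', hcθ, map_inv, map_inv, inv_inv]
        have h1 : (P p : G)⁻¹ = (P p : G) := inv_eq_of_mul_eq_one_right (hexp _ (P p).2)
        rw [hP] at hp h1
        rw [← h1, ← hp]
        group }
  have hKθ : ∀ h, θ h ∈ K := fun h => ⟨0, by rw [hθ, mul_inv_cancel, hP, plane_zero]; rfl⟩
  have hKP : ∀ p, (P p : G) ∈ K := fun p => ⟨p, by rw [(hπN _).2 (P p).2, map_one, inv_one, mul_one]⟩
  have hKtop : K = ⊤ := by
    by_contra hK
    refine hcrit K hK ?_
    have hmem : ∀ {g : G} {k : ℕ}, g ∈ K → orderOf g = k → k ∈ Set.range (orderOf : K → ℕ) :=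
      fun {g k} hg ho => ⟨⟨g, hg⟩, by rw [Subgroup.orderOf_mk, ho]⟩
    ext k
    refine ⟨?_, ?_⟩
    · rintro ⟨g, rfl⟩
      rw [← Subgroup.orderOf_coe]; exact hs g
    · simp only [Set.mem_insert_iff, Set.mem_singleton_iff]
      have horb : ∀ h : A5, ∀ q : ℕ, q.Prime → h ^ q = 1 → h ≠ 1 → q ∈ Set.range (orderOf : K → ℕ) :=
        fun h q hq h1 h2 => hmem (hKθ h) (by
          haveI := Fact.mk hq
          rw [orderOf_injective θ hθinj, orderOf_eq_prime h1 h2])
      rintro (rfl | rfl | rfl | rfl | rfl)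
      · exact hmem K.one_mem orderOf_one
      · exact horb pv 2 Nat.prime_two (by decide +kernel) (by decide +kernel)
      · exact horb px 3 Nat.prime_three rel_x.1 rel_x.2
      · set n : N := dA c pw w
        have hnK : (n : G) ∈ K := by
          have := hKP (0, 1)
          rwa [hP, plane, line_zero, line_one, one_mul] at this
        refine hmem (K.mul_mem (hKθ pv) hnK) (orderOf_eq_prime_pow (p := 2) (n := 1) ?_ ?_)
        · have e1 : (θ pv * (n : G)) ^ 2 = (w : G) := by
            have h1 : θ pv * θ pv = 1 := by rw [← map_mul, rel_v.1, map_one]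
            have h2 := congrArg Subtype.val (back H hw)
            rw [dA, Subgroup.coe_mul, hcθ, inv_eq_of_mul_eq_one_right h1] at h2
            rw [pow_two, ← h2]; simp only [n, mul_assoc]
          rw [pow_one, e1]
          exact fun h => hw1 (Subtype.ext h)
        · have e1 : π (θ pv * (n : G)) = pv := by rw [map_mul, (hπN _).2 n.2, mul_one, hθ]
          have h2 : (θ pv * (n : G)) ^ 2 ∈ N := (hπN _).1 (by rw [map_pow, e1]; decide +kernel)
          rw [show (2 : ℕ) ^ (1 + 1) = 2 * 2 by norm_num, pow_mul]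
          exact hN.2 _ h2
      · obtain ⟨g, hg1, hg2⟩ := five_elem
        exact horb g 5 Nat.prime_five hg1 hg2
  have hsurjP : ∀ n : N, ∃ p, P p = n := fun n => by
    have : (n : G) ∈ K := hKtop ▸ Subgroup.mem_top _
    obtain ⟨p, hp⟩ := this
    rw [(hπN _).2 n.2, map_one, inv_one, mul_one] at hp
    exact ⟨p, Subtype.ext hp.symm⟩
  -- the cosets of `L`
  have hdec : ∀ g : G, g * (θ (π g))⁻¹ ∈ N := fun g =>
    (hπN _).1 (by rw [map_mul, map_inv, hθ, mul_inv_cancel])
  have hΦ : Function.Bijective (fun p : F × F => ((P p : G) : G ⧸ L)) := by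
    constructor
    · intro p q h
      have h1 : (P p : G)⁻¹ * (P q : G) ∈ L := QuotientGroup.eq.mp h
      have h2 : (P p : G)⁻¹ * (P q : G) ∈ N := N.mul_mem (N.inv_mem (P p).2) (P q).2
      exact plane_injective H hF hω hw1 hw (Subtype.ext (inv_mul_eq_one.mp (hLN _ h1 h2)))
    · intro x
      induction x using QuotientGroup.induction_on with
      | H g =>
        obtain ⟨p, hp⟩ := hsurjP ⟨_, hdec g⟩
        refine ⟨p, QuotientGroup.eq.mpr ?_⟩
        rw [hp]
        show (g * (θ (π g))⁻¹)⁻¹ * g ∈ L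
        rw [show (g * (θ (π g))⁻¹)⁻¹ * g = θ (π g) by group]
        exact hθL _
  let Φ : F × F ≃ G ⧸ L := Equiv.ofBijective _ hΦ
  let α : G →* Equiv.Perm (F × F) :=
    Φ.symm.permCongrHom.toMonoidHom.comp (MulAction.toPermHom G (G ⧸ L))
  have hα : ∀ g p q, ((g * (P p : G) : G) : G ⧸ L) = ((P q : G) : G ⧸ L) → α g p = q := fun g p q h => by
    show Φ.symm (g • Φ p) = q
    rw [Equiv.symm_apply_eq]; exact h
  have hαθ : ∀ h p q, c h (P p) = P q → α (θ h) p = q := fun h p q he => by
    refine hα _ _ _ (QuotientGroup.eq.mpr ?_)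
    rw [← he, hcθ, show (θ h * (P p : G))⁻¹ * (θ h * (P p : G) * (θ h)⁻¹) = (θ h)⁻¹ by group]
    exact L.inv_mem (hθL h)
  have hαP : ∀ r p, α (P r : G) p = r + p := fun r p => hα _ _ _ (congrArg _ (by
    rw [hP, plane_add H hF hω]; rfl))
  have hcinj : Function.Injective c := by
    rw [← MonoidHom.ker_eq_bot_iff]
    haveI := alternatingGroup.isSimpleGroup_five
    refine (IsSimpleGroup.eq_bot_or_eq_top_of_normal c.ker inferInstance).resolve_right fun ht => ?_
    have h1 : c px w = w := by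
      rw [show c px = 1 from MonoidHom.mem_ker.mp (ht ▸ Subgroup.mem_top px)]; rfl
    have h2 := x_sum H w
    rw [h1, h1, H.exp, one_mul] at h2
    exact hw1 h2
  have hαinj : Function.Injective α := by
    rw [injective_iff_map_eq_one]
    intro g hg
    have hfix : ∀ p, α g p = p := fun p => by rw [hg]; rfl
    have hgL : g ∈ L := by
      have h0 : Φ.symm (g • Φ 0) = 0 := hfix 0
      rw [Equiv.symm_apply_eq] at h0
      have h1 : ((g * (P 0 : G) : G) : G ⧸ L) = ((P 0 : G) : G ⧸ L) := h0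
      rw [hP, plane_zero, Subgroup.coe_one, mul_one, QuotientGroup.eq, mul_one] at h1
      exact inv_mem_iff.mp h1
    have hgθ : g = θ (π g) :=
      congrArg Subtype.val (hLb.1 (a₁ := ⟨g, hgL⟩) (a₂ := ⟨θ (π g), hθL _⟩) (hθ _).symm)
    have h1 : c (π g) = 1 := MulEquiv.ext fun n => by
      obtain ⟨p, rfl⟩ := hsurjP n
      obtain ⟨q, hq⟩ := plane_invariant H hF hω hw1 hw (π g) p
      have h2 := hαθ _ _ _ hq
      rw [← hgθ, hfix] at h2
      rw [MulAut.one_apply, hP, hq, h2]
    rw [hgθ, hcinj (h1.trans (map_one c).symm), map_one]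
  -- compare the images
  let R := (actPerm (F := F)).range
  have hgenR : (Subgroup.comap α R) = ⊤ := by
    have h2 := AffineFourSpectrum.two_eq_zero hF
    have mem : ∀ (g : G) (M : aff F), (∀ p, α g p = actFun M p) → g ∈ Subgroup.comap α R :=
      fun g M h => ⟨M, Equiv.ext fun p => (h p).symm⟩
    have hθR : ∀ h, θ h ∈ Subgroup.comap α R := by
      intro h
      have := top_of_gens ((Subgroup.comap α R).comap θ) ?_ ?_ ?_
      · exact (this ▸ Subgroup.mem_top h : h ∈ (Subgroup.comap α R).comap θ)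
      · refine mem _ (AffineFourSpectrum.mk3 ω 0 0 (ω + 1) 0 0 (by linear_combination hω - h2)) fun p => ?_
        rw [hαθ _ _ _ (plane_x H hF hω p)]
        simp [actFun, AffineFourSpectrum.mk3_coe]
      · refine mem _ (AffineFourSpectrum.mk3 1 1 0 1 0 0 (by ring)) fun p => ?_
        rw [hαθ _ _ _ (plane_v H hF hω hw p)]
        simp [actFun, AffineFourSpectrum.mk3_coe]
      · refine mem _ (AffineFourSpectrum.mk3 1 0 1 1 0 0 (by ring)) fun p => ?_
        rw [hαθ _ _ _ (plane_w H hF hω p)]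
        simp [actFun, AffineFourSpectrum.mk3_coe]
    refine eq_top_iff.mpr fun g _ => ?_
    obtain ⟨r, hr⟩ := hsurjP ⟨_, hdec g⟩
    rw [show g = g * (θ (π g))⁻¹ * θ (π g) by group]
    refine Subgroup.mul_mem _ ?_ (hθR _)
    refine mem _ (AffineFourSpectrum.mk3 1 0 0 1 r.1 r.2 (by ring)) fun p => ?_
    rw [show g * (θ (π g))⁻¹ = (P r : G) from (congrArg Subtype.val hr).symm, hαP]
    refine Prod.ext ?_ ?_ <;> simp [actFun, AffineFourSpectrum.mk3_coe] <;> ring
  have hle : α.range ≤ R := by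
    rintro _ ⟨g, rfl⟩
    exact (hgenR ▸ Subgroup.mem_top g : g ∈ Subgroup.comap α R)
  have hG : Nat.card G = 960 := by
    have h1 : Nat.card G = Nat.card (G ⧸ L) * Nat.card L := Subgroup.card_eq_card_quotient_mul_card_subgroup L
    rw [← Nat.card_congr Φ, Nat.card_prod, Nat.card_eq_fintype_card (α := F), hF,
      Nat.card_congr (Equiv.ofBijective _ hLb), hA5] at h1
    exact h1
  have hαcard : Nat.card α.range = 960 := by
    rw [← Nat.card_congr (MonoidHom.ofInjective hαinj).toEquiv, hG]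
  have hRcard : Nat.card R ≤ Nat.card (aff F) :=
    Nat.card_le_card_of_surjective _ (actPerm (F := F)).rangeRestrict_surjective
  have haff := card_aff_le hF
  have heq : α.range = R := Subgroup.eq_of_le_of_card_ge hle (by omega)
  have hRb : Function.Bijective (actPerm (F := F)).rangeRestrict := by
    refine (Nat.bijective_iff_surjective_and_card _).mpr ⟨MonoidHom.rangeRestrict_surjective _, ?_⟩
    have : Nat.card R = 960 := heq ▸ hαcard
    show Nat.card (aff F) = Nat.card R
    omega
  exact ⟨F, iF, iF', hF, ⟨(MonoidHom.ofInjective hαinj).trans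
    ((MulEquiv.subgroupCongr heq).trans (MulEquiv.ofBijective _ hRb).symm)⟩⟩

end Cfsg.Agent.CriticalFive8
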