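import Mathlib

/-!
Weights of an elementary abelian group `F^m` acting on a vector space in cross characteristic.
-/

set_option autoImplicit false

namespace Cfsg.Agent.CrossCharWeights

open Matrix

section Weights

variable {A : Type*} [CommGroup A] [Finite A] {L : Type*} [Field L] [IsAlgClosed L] {d : ℕ}

/-- The characters occurring in a matrix representation. -/
def weights (ρ : A →* Matrix (Fin d) (Fin d) L) : Set (A →* Lˣ) :=
  {χ | ∃ v : Fin d → L, v ≠ 0 ∧ ∀ a, (ρ a).mulVec v = (χ a : L) • v}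

theorem hasEnough (hA : (Nat.card A : L) ≠ 0) : HasEnoughRootsOfUnity L (Monoid.exponent A) := by
  have : NeZero ((Monoid.exponent A : ℕ) : L) := by
    constructor
    intro h
    obtain ⟨k, hk⟩ := Monoid.exponent_dvd_of_forall_pow_eq_one
      (G := A) (n := Nat.card A) (fun a => pow_card_eq_one')
    apply hA
    rw [hk, Nat.cast_mul, h, zero_mul]
  exact IsSepClosed.hasEnoughRootsOfUnity L _

theorem finite_dual (hA : (Nat.card A : L) ≠ 0) : Finite (A →* Lˣ) := by
  have := hasEnough (A := A) hA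
  obtain ⟨e⟩ := CommGroup.monoidHom_mulEquiv_of_hasEnoughRootsOfUnity (G := A) (M := L)
  exact Finite.of_equiv A e.symm.toEquiv

theorem sum_dual_apply (hA : (Nat.card A : L) ≠ 0) [Fintype (A →* Lˣ)] {a : A} (ha : a ≠ 1) :
    ∑ χ : A →* Lˣ, (χ a : L) = 0 := by
  have := hasEnough (A := A) hA
  obtain ⟨χ0, h0⟩ := CommGroup.exists_apply_ne_one_of_hasEnoughRootsOfUnity A L ha
  have h : (χ0 a : L) * ∑ χ : A →* Lˣ, (χ a : L) = ∑ χ : A →* Lˣ, (χ a : L) := by
    rw [Finset.mul_sum]
    exact Fintype.sum_equiv (Equiv.mulLeft χ0) _ _ (fun χ => by simp)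
  have h1 : ((χ0 a : L) - 1) * ∑ χ : A →* Lˣ, (χ a : L) = 0 := by rw [sub_mul, one_mul, h, sub_self]
  refine (mul_eq_zero.1 h1).resolve_left (sub_ne_zero.2 ?_)
  exact fun e => h0 (Units.ext e)

theorem exists_weight_ne_one (hA : (Nat.card A : L) ≠ 0) (ρ : A →* Matrix (Fin d) (Fin d) L) {b : A}
    (hb : ρ b ≠ 1) : ∃ χ ∈ weights ρ, χ b ≠ 1 := by
  classical
  have := finite_dual (A := A) hA
  let _ : Fintype (A →* Lˣ) := Fintype.ofFinite _
  let _ : Fintype A := Fintype.ofFinite _
  have := hasEnough (A := A) hA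
  let e : (A →* Lˣ) → Matrix (Fin d) (Fin d) L := fun χ => ∑ a, ((χ a⁻¹ : Lˣ) : L) • ρ a
  have hsum : ∑ χ, e χ = (Nat.card A : L) • (1 : Matrix (Fin d) (Fin d) L) := by
    simp only [e]
    rw [Finset.sum_comm, Finset.sum_eq_single (1 : A)]
    · rw [← Finset.sum_smul, map_one]
      simp [← Nat.card_eq_fintype_card, CommGroup.card_monoidHom_of_hasEnoughRootsOfUnity]
    · intro a _ ha
      rw [← Finset.sum_smul, sum_dual_apply hA (inv_ne_one.2 ha), zero_smul]
    · simp
  have hmul : ∀ χ c, ρ c * e χ = (χ c : L) • e χ := by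
    intro χ c
    simp only [e, Finset.mul_sum, Finset.smul_sum, mul_smul_comm, smul_smul, ← map_mul]
    refine Fintype.sum_equiv (Equiv.mulLeft c) _ _ fun a => ?_
    simp [map_mul]
    congr 1
    have hc := (χ c).ne_zero
    field_simp
  by_contra hno
  push Not at hno
  apply hb
  have hfix : ∀ χ, ρ b * e χ = e χ := by
    intro χ
    by_cases he : e χ = 0
    · rw [he, mul_zero]
    · obtain ⟨i, j, hij⟩ : ∃ i j, e χ i j ≠ 0 := by
        by_contra h
        push Not at h
        exact he (Matrix.ext h)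
      have hw : χ ∈ weights ρ := ⟨fun i => e χ i j, fun h => hij (congrFun h i), fun c => by
        funext k
        have := congrFun (congrFun (hmul χ c) k) j
        simpa [Matrix.mul_apply, Matrix.mulVec, dotProduct] using this⟩
      rw [hmul, hno χ hw, Units.val_one, one_smul]
  have h : ρ b * ((Nat.card A : L) • (1 : Matrix (Fin d) (Fin d) L)) =
      (Nat.card A : L) • (1 : Matrix (Fin d) (Fin d) L) := by
    rw [← hsum, Finset.mul_sum]
    exact Finset.sum_congr rfl fun χ _ => hfix χ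
  rw [mul_smul_comm, mul_one] at h
  exact smul_right_injective _ hA h

theorem card_weights_le (hA : (Nat.card A : L) ≠ 0) (ρ : A →* Matrix (Fin d) (Fin d) L) :
    Nat.card (weights ρ) ≤ d := by
  classical
  have := finite_dual (A := A) hA
  let _ : Fintype (weights ρ) := Fintype.ofFinite _
  let _ : Fintype A := Fintype.ofFinite _
  choose v hv0 hv using fun χ : weights ρ => χ.2
  have hli : LinearIndependent L v := by
    rw [Fintype.linearIndependent_iff]
    intro c hc ψ
    have h1 : ∀ a, ∑ χ : weights ρ, c χ • (((χ.1 a : Lˣ) : L) * ((ψ.1 a⁻¹ : Lˣ) : L)) • v χ = 0 := by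
      intro a
      have h := congrArg (fun x => ((ψ.1 a⁻¹ : Lˣ) : L) • (ρ a).mulVec x) hc
      simp only [Matrix.mulVec_sum, Matrix.mulVec_smul, hv, Matrix.mulVec_zero, smul_zero,
        Finset.smul_sum, smul_smul] at h
      rw [← h]
      exact Finset.sum_congr rfl fun χ _ => by rw [smul_smul]; congr 1; ring
    have h2 : ∑ χ : weights ρ, ∑ a, c χ • (((χ.1 a : Lˣ) : L) * ((ψ.1 a⁻¹ : Lˣ) : L)) • v χ = 0 := by
      rw [Finset.sum_comm]
      exact Finset.sum_eq_zero fun a _ => h1 a
    rw [Finset.sum_eq_single ψ] at h2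
    · simp only [map_inv, Units.mul_inv, one_smul, Finset.sum_const, Finset.card_univ] at h2
      rw [← Nat.cast_smul_eq_nsmul L, smul_smul] at h2
      rcases smul_eq_zero.1 h2 with h | h
      · exact (mul_eq_zero.1 h).resolve_left (by rwa [← Nat.card_eq_fintype_card])
      · exact absurd h (hv0 ψ)
    · intro χ _ hne
      rw [← Finset.smul_sum, ← Finset.sum_smul]
      have hzero : ∑ a, ((χ.1 a : Lˣ) : L) * ((ψ.1 a⁻¹ : Lˣ) : L) = 0 := by
        obtain ⟨a0, ha0⟩ : ∃ a, χ.1 a ≠ ψ.1 a := by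
          by_contra h
          push Not at h
          exact hne (Subtype.ext (MonoidHom.ext h))
        have h : (((χ.1 a0 : Lˣ) : L) * ((ψ.1 a0⁻¹ : Lˣ) : L)) *
            ∑ a, ((χ.1 a : Lˣ) : L) * ((ψ.1 a⁻¹ : Lˣ) : L) =
            ∑ a, ((χ.1 a : Lˣ) : L) * ((ψ.1 a⁻¹ : Lˣ) : L) := by
          rw [Finset.mul_sum]
          refine Fintype.sum_equiv (Equiv.mulLeft a0) _ _ fun a => ?_
          simp
          ring
        have h' : (((χ.1 a0 : Lˣ) : L) * ((ψ.1 a0⁻¹ : Lˣ) : L) - 1) *
            ∑ a, ((χ.1 a : Lˣ) : L) * ((ψ.1 a⁻¹ : Lˣ) : L) = 0 := by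
          rw [sub_mul, one_mul, h, sub_self]
        refine (mul_eq_zero.1 h').resolve_left (sub_ne_zero.2 fun e => ha0 ?_)
        rw [← Units.val_mul, ← Units.val_one, Units.val_inj, map_inv, mul_inv_eq_one] at e
        exact e
      rw [hzero, zero_smul, smul_zero]
    · simp
  have := hli.fintype_card_le_finrank
  rw [Module.finrank_fin_fun] at this
  rwa [Nat.card_eq_fintype_card]

theorem comp_mem_weights (ρ : A →* Matrix (Fin d) (Fin d) L) (P Q : Matrix (Fin d) (Fin d) L)
    (hQP : Q * P = 1) (σ : A → A) (hσ : ∀ a, ρ a * P = P * ρ (σ a)) {χ χ' : A →* Lˣ}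
    (hχ : χ ∈ weights ρ) (hχ' : ∀ a, χ' a = χ (σ a)) : χ' ∈ weights ρ := by
  obtain ⟨v, hv0, hv⟩ := hχ
  refine ⟨P.mulVec v, ?_, fun a => ?_⟩
  · intro h
    apply hv0
    have := congrArg Q.mulVec h
    rwa [Matrix.mulVec_mulVec, hQP, Matrix.one_mulVec, Matrix.mulVec_zero] at this
  · rw [Matrix.mulVec_mulVec, hσ, ← Matrix.mulVec_mulVec, hv, Matrix.mulVec_smul, hχ']

end Weights

/-- The set of weight vectors of `F^m` acting in cross characteristic. -/
theorem exists_weight_set {F : Type*} [Field F] [Fintype F] [DecidableEq F] {K : Type*} [Field K]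
    (hFK : (Fintype.card F : K) ≠ 0) {m d : ℕ}
    (ρ : Multiplicative (Fin m → F) →* Matrix (Fin d) (Fin d) K) :
    ∃ S : Finset (Fin m → F), S.card ≤ d ∧
      (∀ v, ρ (Multiplicative.ofAdd v) ≠ 1 → ∃ w ∈ S, w ⬝ᵥ v ≠ 0) ∧
      ∀ (P Q : Matrix (Fin d) (Fin d) K) (σ τ : (Fin m → F) → (Fin m → F)), Q * P = 1 →
        (∀ v, ρ (Multiplicative.ofAdd v) * P = P * ρ (Multiplicative.ofAdd (σ v))) →
        (∀ w v, w ⬝ᵥ σ v = τ w ⬝ᵥ v) → ∀ w ∈ S, τ w ∈ S := by
  classical
  let L := AlgebraicClosure K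
  let f : Matrix (Fin d) (Fin d) K →+* Matrix (Fin d) (Fin d) L := (algebraMap K L).mapMatrix
  have hinj : Function.Injective f := fun a b h => Matrix.ext fun i j =>
    (algebraMap K L).injective (congrFun (congrFun h i) j)
  let ρ' := f.toMonoidHom.comp ρ
  have hF : (Fintype.card F : L) ≠ 0 := by
    rw [← map_natCast (algebraMap K L), map_ne_zero_iff _ (algebraMap K L).injective]
    exact hFK
  have hF' : (Nat.card (Multiplicative F) : L) ≠ 0 := by
    rw [Nat.card_eq_fintype_card, Fintype.card_multiplicative]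
    exact hF
  have hA : (Nat.card (Multiplicative (Fin m → F)) : L) ≠ 0 := by
    rw [Nat.card_eq_fintype_card, Fintype.card_multiplicative, Fintype.card_fun, Nat.cast_pow]
    exact pow_ne_zero _ hF
  obtain ⟨ψ, hψ⟩ : ∃ ψ : Multiplicative F →* Lˣ, ψ (Multiplicative.ofAdd 1) ≠ 1 := by
    have := hasEnough (A := Multiplicative F) hF'
    exact CommGroup.exists_apply_ne_one_of_hasEnoughRootsOfUnity _ L
      (fun h => one_ne_zero (α := F) (Multiplicative.ofAdd.injective h))
  let ch : (Fin m → F) → (Multiplicative (Fin m → F) →* Lˣ) := fun w =>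
    { toFun := fun v => ψ (Multiplicative.ofAdd (w ⬝ᵥ Multiplicative.toAdd v))
      map_one' := by simp
      map_mul' := fun a b => by simp [dotProduct_add] }
  have hch : ∀ w v, ch w v = ψ (Multiplicative.ofAdd (w ⬝ᵥ Multiplicative.toAdd v)) := fun _ _ => rfl
  have chinj : Function.Injective ch := by
    intro w w' h
    funext i
    by_contra hne
    have h1 := DFunLike.congr_fun h
      (Multiplicative.ofAdd (Pi.single i ((w i - w' i)⁻¹) : Fin m → F))
    simp only [hch, toAdd_ofAdd, dotProduct_single] at h1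
    apply hψ
    have : Multiplicative.ofAdd (1 : F) = Multiplicative.ofAdd (w i * (w i - w' i)⁻¹) /
        Multiplicative.ofAdd (w' i * (w i - w' i)⁻¹) := by
      rw [← ofAdd_sub, ← sub_mul, mul_inv_cancel₀ (sub_ne_zero.2 hne)]
    rw [this, map_div, h1, div_self']
  have := finite_dual (A := Multiplicative (Fin m → F)) hA
  have := hasEnough (A := Multiplicative (Fin m → F)) hA
  have chbij : Function.Bijective ch :=
    chinj.bijective_of_nat_card_le (by
      rw [CommGroup.card_monoidHom_of_hasEnoughRootsOfUnity]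
      exact le_of_eq (Nat.card_congr Multiplicative.toAdd))
  refine ⟨Finset.univ.filter (fun w => ch w ∈ weights ρ'), ?_, ?_, ?_⟩
  · refine le_trans ?_ (card_weights_le hA ρ')
    rw [← Fintype.card_subtype, ← Nat.card_eq_fintype_card]
    exact Nat.card_le_card_of_injective (fun w => (⟨ch w.1, w.2⟩ : weights ρ'))
      (fun a b h => Subtype.ext (chinj (congrArg Subtype.val h)))
  · intro v hv
    have hv' : ρ' (Multiplicative.ofAdd v) ≠ 1 := fun h => hv (hinj (h.trans (map_one f).symm))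
    obtain ⟨χ, hχ, hne⟩ := exists_weight_ne_one hA ρ' hv'
    obtain ⟨w, rfl⟩ := chbij.2 χ
    refine ⟨w, Finset.mem_filter.2 ⟨Finset.mem_univ _, hχ⟩, fun h => hne ?_⟩
    rw [hch, toAdd_ofAdd, h, ofAdd_zero, map_one]
  · intro P Q σ τ hQP hσ hτ w hw
    refine Finset.mem_filter.2 ⟨Finset.mem_univ _, ?_⟩
    refine comp_mem_weights ρ' (f P) (f Q) (by rw [← map_mul, hQP, map_one])
      (fun a => Multiplicative.ofAdd (σ (Multiplicative.toAdd a))) (fun a => ?_)
      (Finset.mem_filter.1 hw).2 (fun a => ?_)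
    · change f (ρ a) * f P = f P * f (ρ _)
      rw [← map_mul, ← map_mul, ← hσ, ofAdd_toAdd]
    · rw [hch, hch, toAdd_ofAdd, hτ]

theorem card_ne_zero_of_ringChar_ne {F K : Type*} [Field F] [Fintype F] [Field K]
    (h : ringChar K ≠ ringChar F) : (Fintype.card F : K) ≠ 0 := by
  intro h0
  obtain ⟨n, hp, hc⟩ := FiniteField.card F (ringChar F)
  rw [hc, Nat.cast_pow] at h0
  have h1 := ringChar.dvd (pow_eq_zero_iff n.ne_zero |>.1 h0)
  rcases (Nat.dvd_prime hp).1 h1 with h2 | h2
  · exact CharP.ringChar_ne_one h2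
  · exact h h2

end Cfsg.Agent.CrossCharWeights
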