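import Cfsg.Agent.Lib.StBruhat
import Cfsg.Agent.Lib.StemPairing

/-!
Lifting Steinberg's relations to a central extension for an arbitrary datum: given additive, torus equivariant
lifts of the root elements, the relation of each pair follows by downward induction along a positive system,
as the error term is bi-additive and invariant under the torus.
-/

set_option autoImplicit false
set_option linter.unusedSectionVars false

namespace Cfsg.Agent.StClosedGen

open scoped commutatorElement
open Cfsg.Lie Cfsg.Agent.ChevalleyEngine Cfsg.Agent.ChevalleyCert Cfsg.Agent.ChevalleyRoots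
open Cfsg.Agent.ChevalleyCore Cfsg.Agent.ChevalleyUnipotent Cfsg.Agent.ChevalleyTorus Cfsg.Agent.StBasic

variable {D : ChevalleyDatum} {C : Cert D} {F : Type*} [Field F]

/-- value at `r` of the character of a product of `h_i(d)` -/
def chi (D : ChevalleyDatum) (L : List (ℕ × F)) (r : ℕ) : F := (L.map fun p => p.2 ^ D.cartan p.1 r).prod

/-- the list describes a torus element -/
def TList (D : ChevalleyDatum) (L : List (ℕ × F)) : Prop := ∀ p ∈ L, p.1 < D.rank ∧ p.2 ≠ 0

/-- a torus element separates the characters of `r` and `s` from `1` -/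
def Sep (D : ChevalleyDatum) (F : Type*) [Field F] (r s : ℕ) : Prop :=
  ∃ L : List (ℕ × F), TList D L ∧ ((chi D L r = 1 ∧ chi D L s ≠ 1) ∨ (chi D L r ≠ 1 ∧ chi D L s = 1))

theorem pair_system (C : Cert D) {r s : ℕ} (hr : r < D.nroots) (hs : s < D.nroots) (hne : s ≠ D.neg r) :
    ∃ l : List ℕ, (∀ i ∈ l, i < D.rank) ∧ ∃ a b, D.nroots / 2 ≤ a ∧ a < D.nroots ∧ D.nroots / 2 ≤ b ∧
      b < D.nroots ∧ wact (D := D) l a = r ∧ wact (D := D) l b = s := by
  obtain ⟨m, i, hm, hi, hri⟩ : ∃ m i, (∀ j ∈ m, j < D.rank) ∧ i < D.rank ∧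
      wact (D := D) m (D.simple i) = r := by
    refine root_induction C (P := fun r => ∃ m i, (∀ j ∈ m, j < D.rank) ∧ i < D.rank ∧
      wact (D := D) m (D.simple i) = r) (fun i hi => ⟨[], i, by simp, hi, rfl⟩) ?_ r hr
    rintro j r hj _ ⟨m, i, hm, hi, h⟩
    exact ⟨j :: m, i, cons_lt hj hm, hi, by rw [wact_cons, h]⟩
  set s' := wact (D := D) m.reverse s with hs'
  have hs'l : s' < D.nroots := wact_lt C (rev_lt hm) hs
  have hback : wact (D := D) m s' = s := by
    have := wact_rev C (rev_lt hm) hs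
    rwa [List.reverse_reverse] at this
  by_cases hpos : D.nroots / 2 ≤ s'
  · exact ⟨m, hm, D.simple i, s', (C.simple_mem i hi).1, simple_lt C hi, hpos, hs'l, hri, hback⟩
  have hnp : D.neg s' ≠ D.simple i := by
    intro h
    apply hne
    rw [← hback, ← hri, ← h, wact_neg C hm hs'l, neg_neg' C (wact_lt C hm hs'l)]
  obtain ⟨w, hw, hlong⟩ := exists_long_word C
  have pre : ∀ y, y < D.nroots / 2 → ∃ x, D.nroots / 2 ≤ x ∧ x < D.nroots ∧ wact (D := D) w x = y := by
    intro y hy
    have hy' : y < D.nroots := by omega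
    obtain ⟨x, hx, hxy⟩ := wact_bij C hw hy'
    refine ⟨x, ?_, hx, hxy⟩
    by_contra hc
    have h1 := hlong (D.neg x) ((neg_pos C hx).2 (by omega)) (C.neg_lt x)
    rw [wact_neg C hw hx, hxy] at h1
    have := (neg_pos C hy').2 hy
    omega
  have hsn : wr D i s' < D.nroots / 2 := by
    have h1 := simple_perm C hi ((neg_pos C hs'l).2 (by omega)) (C.neg_lt s') hnp
    rw [w_neg C hi hs'l, neg_pos C (C.w_lt i s' hi hs'l)] at h1
    exact h1
  obtain ⟨a, ha, ha', hax⟩ := pre (D.neg (D.simple i))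
    (by have := (C.simple_mem i hi).1; have := C.neg_eq _ (simple_lt C hi); have := C.even
        have := simple_lt C hi; omega)
  obtain ⟨b, hb, hb', hbx⟩ := pre _ hsn
  refine ⟨m ++ i :: w, ?_, a, b, ha, ha', hb, hb', ?_, ?_⟩
  · intro j hj
    rcases List.mem_append.1 hj with h | h
    exacts [hm j h, cons_lt hi hw j h]
  · rw [wact_append, wact_cons, hax, ← w_simple C hi]
    show wact (D := D) m (wr D i (wr D i (D.simple i))) = r
    rw [w_invol C hi (simple_lt C hi), hri]
  · rw [wact_append, wact_cons, hbx]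
    show wact (D := D) m (wr D i (wr D i s')) = s
    rw [w_invol C hi hs'l, hback]

variable {P : Type*} [Group P] (S : Sys C F P) {Γ : Type*} [Group Γ] (π : Γ →* P)

/-- additive torus equivariant lifts of the root elements -/
structure Lifts where
  /-- the lifts -/
  x : ℕ → F → Γ
  π_x : ∀ r, r < D.nroots → ∀ t, π (x r t) = S.x r t
  x_add : ∀ r, r < D.nroots → ∀ t u, x r t * x r u = x r (t + u)
  equiv : ∀ i, i < D.rank → ∀ d : F, d ≠ 0 → ∀ g : Γ, π g = h S i d → ∀ r, r < D.nroots → ∀ t,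
    g * x r t * g⁻¹ = x r (d ^ D.cartan i r * t)

variable {S π} (X : Lifts S π) (hπ : Function.Surjective π) (hc : π.ker ≤ Subgroup.center Γ)

theorem Lifts.x_zero {r : ℕ} (hr : r < D.nroots) : X.x r 0 = 1 := by
  have h := X.x_add r hr 0 0
  rw [add_zero] at h
  exact mul_eq_left.1 h

theorem Lifts.x_inv {r : ℕ} (hr : r < D.nroots) (t : F) : (X.x r t)⁻¹ = X.x r (-t) :=
  inv_eq_of_mul_eq_one_right (by rw [X.x_add r hr, add_neg_cancel, X.x_zero hr])

/-- the lifted right side of the commutator relation -/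
def W (r s : ℕ) (t u : F) : Γ := ((D.commWord F r s t u).map fun p => X.x p.1 p.2).prod

theorem π_W {r s : ℕ} (hr : r < D.nroots) (hs : s < D.nroots) (t u : F) :
    π (W X r s t u) = ((D.commWord F r s t u).map fun p => S.x p.1 p.2).prod := by
  rw [W, map_list_prod, List.map_map]
  refine congrArg List.prod (List.map_congr_left fun p hp => ?_)
  obtain ⟨c, hc', rfl⟩ := List.mem_map.1 hp
  exact X.π_x _ (commTerms_mem C hr hs hc').1 _

/-- the error term of the relation -/
def err (r s : ℕ) (t u : F) : Γ := (X.x r t * X.x s u * W X r s t u)⁻¹ * (X.x s u * X.x r t)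

theorem err_spec (r s : ℕ) (t u : F) :
    X.x s u * X.x r t = X.x r t * X.x s u * W X r s t u * err X r s t u := by
  rw [err, mul_inv_cancel_left]

theorem π_err {r s : ℕ} (hr : r < D.nroots) (hs : s < D.nroots) (h1 : s ≠ r) (h2 : s ≠ D.neg r) (t u : F) :
    π (err X r s t u) = 1 := by
  rw [err, map_mul, map_inv, map_mul, map_mul, map_mul, X.π_x r hr, X.π_x s hs, π_W X hr hs,
    S.comm r s hr hs h1 h2, inv_mul_cancel]

/-- the relation of the pair holds for the lifts -/
def Rel (r s : ℕ) : Prop := ∀ t u : F, err X r s t u = 1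

include hπ hc in
theorem err_scale {r s : ℕ} (hr : r < D.nroots) (hs : s < D.nroots) (h1 : s ≠ r) (h2 : s ≠ D.neg r)
    {i : ℕ} (hi : i < D.rank) {d : F} (hd : d ≠ 0) (t u : F) :
    err X r s (d ^ D.cartan i r * t) (d ^ D.cartan i s * u) = err X r s t u := by
  obtain ⟨g, hg⟩ := hπ (h S i d)
  have hW : g * W X r s t u * g⁻¹ = W X r s (d ^ D.cartan i r * t) (d ^ D.cartan i s * u) := by
    rw [W, ← MulAut.conj_apply, map_list_prod, List.map_map, W, ChevalleyDatum.commWord,
      ChevalleyDatum.commWord, List.map_map, List.map_map]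
    refine congrArg List.prod (List.map_congr_left fun c hc' => ?_)
    obtain ⟨hk, -, -, hco⟩ := commTerms_mem C hr hs hc'
    simp only [Function.comp_apply, MulAut.conj_apply]
    rw [X.equiv i hi d hd g hg _ hk, cartan_comb C hi hr hs hk _ _ hco, zpow_add₀ hd, neg_mul_eq_mul_neg,
      mul_pow, mul_pow, mul_comm ((c.2.2.1 : ℕ) : ℤ), mul_comm ((c.2.2.2 : ℕ) : ℤ), zpow_mul, zpow_mul,
      zpow_natCast, zpow_natCast]
    congr 1
    ring
  have hz := StemBasic.ker_comm hc (π_err X hr hs h1 h2 t u)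
  calc err X r s (d ^ D.cartan i r * t) (d ^ D.cartan i s * u)
      = g * err X r s t u * g⁻¹ := by
        rw [err, err, ← hW, ← X.equiv i hi d hd g hg r hr t, ← X.equiv i hi d hd g hg s hs u]
        group
    _ = _ := by rw [hz g, mul_inv_cancel_right]

include hπ hc in
theorem err_chi {r s : ℕ} (hr : r < D.nroots) (hs : s < D.nroots) (h1 : s ≠ r) (h2 : s ≠ D.neg r)
    {L : List (ℕ × F)} (hL : TList D L) (t u : F) :
    err X r s (chi D L r * t) (chi D L s * u) = err X r s t u := by
  induction L with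
  | nil => simp [chi]
  | cons p L ih =>
    have hp := hL p (List.mem_cons_self ..)
    have e : ∀ q, chi D (p :: L) q = p.2 ^ D.cartan p.1 q * chi D L q := fun q => by simp [chi]
    rw [e, e, mul_assoc, mul_assoc, err_scale X hπ hc hr hs h1 h2 hp.1 hp.2,
      ih fun q hq => hL q (List.mem_cons_of_mem _ hq)]

/-- generators along the positive system of `l` -/
def V (l : List ℕ) (p : ℕ → Prop) : Subgroup Γ :=
  Subgroup.closure {g | ∃ q, p q ∧ D.nroots / 2 ≤ q ∧ q < D.nroots ∧ ∃ t : F, g = X.x (wact (D := D) l q) t}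

theorem x_mem_V {l : List ℕ} {p : ℕ → Prop} {q : ℕ} (hq : p q) (h1 : D.nroots / 2 ≤ q) (h2 : q < D.nroots)
    (t : F) : X.x (wact (D := D) l q) t ∈ V X l p :=
  Subgroup.subset_closure ⟨q, hq, h1, h2, t, rfl⟩

theorem V_mono {l : List ℕ} {p p' : ℕ → Prop} (h : ∀ q, p q → p' q) : V X l p ≤ V X l p' := by
  refine Subgroup.closure_mono ?_
  rintro g ⟨q, hq, h1, h2, t, rfl⟩
  exact ⟨q, h q hq, h1, h2, t, rfl⟩

theorem W_mem_V {l : List ℕ} (hl : ∀ i ∈ l, i < D.rank) {a b k : ℕ} (ha : D.nroots / 2 ≤ a)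
    (ha' : a < D.nroots) (hb : D.nroots / 2 ≤ b) (hb' : b < D.nroots) (hk : k ≤ max a b + 1) (t u : F) :
    W X (wact (D := D) l a) (wact (D := D) l b) t u ∈ V X l (k ≤ ·) := by
  refine Subgroup.list_prod_mem _ ?_
  intro g hg
  simp only [ChevalleyDatum.commWord, List.map_map, List.mem_map] at hg
  obtain ⟨c, hc, rfl⟩ := hg
  obtain ⟨q, hq1, hq2, hq3⟩ := term_higher C hl ha ha' hb hb' hc
  simp only [Function.comp_apply, ← hq3]
  exact x_mem_V X (by omega) (by omega) hq2 _

/-- `π` is injective on the generators `p` of the system `l` -/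
def Inj (l : List ℕ) (p : ℕ → Prop) : Prop := ∀ g ∈ V X l p, π g = 1 → g = 1

theorem Inj.eq {l : List ℕ} {p : ℕ → Prop} (hI : Inj X l p) {g g' : Γ} (hg : g ∈ V X l p) (hg' : g' ∈ V X l p)
    (h : π g = π g') : g = g' := by
  rw [← mul_inv_eq_one]
  exact hI _ (mul_mem hg (inv_mem hg')) (by rw [map_mul, map_inv, h, mul_inv_cancel])

theorem θ_V {l : List ℕ} (hl : ∀ i ∈ l, i < D.rank) {k : ℕ} {p : ℕ → Prop} (hp : ∀ q, p q → k ≤ q) {g : Γ}
    (hg : g ∈ V X l p) : (nword C l)⁻¹ * S.θ (π g) * nword C l ∈ uGe C (F := F) k := by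
  induction hg using Subgroup.closure_induction with
  | mem y hy =>
    obtain ⟨q, h0, h2, h3, u, rfl⟩ := hy
    rw [X.π_x _ (wact_lt C hl h3)]
    have : S.x (wact (D := D) l q) u ∈ UG S l k := StBasic.x_mem_UG S (hp q h0) h2 h3 u
    exact StBasic.θ_UG S hl this
  | one => simp
  | mul a b _ _ ha hb =>
    have := mul_mem ha hb
    simpa [mul_assoc] using this
  | inv a _ ha =>
    have := inv_mem ha
    simpa [mul_assoc] using this

section Step

variable {l : List ℕ} (hl : ∀ i ∈ l, i < D.rank) {a : ℕ} (ha : D.nroots / 2 ≤ a) (ha' : a < D.nroots)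

include hl ha ha' in
theorem conj_a {b : ℕ} (hab : a < b)
    (hrel : ∀ q, b ≤ q → q < D.nroots → Rel X (wact (D := D) l a) (wact (D := D) l q)) (t : F) :
    ∀ v ∈ V X l (b ≤ ·), (X.x (wact (D := D) l a) t)⁻¹ * v * X.x (wact (D := D) l a) t ∈ V X l (b ≤ ·) := by
  intro v hv
  have key := conj_mem_closure (g := (X.x (wact (D := D) l a) t)⁻¹) (K := V X l (b ≤ ·))
    (A := {g | ∃ q, b ≤ q ∧ D.nroots / 2 ≤ q ∧ q < D.nroots ∧ ∃ t : F, g = X.x (wact (D := D) l q) t}) ?_ v hv
  · simpa using key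
  rintro g ⟨q, hq, h2, h3, u, rfl⟩
  rw [inv_inv, mul_assoc, err_spec X, hrel q hq h3, mul_one, mul_assoc, inv_mul_cancel_left]
  exact mul_mem (x_mem_V X hq h2 h3 u) (W_mem_V X hl ha ha' h2 h3 (by omega) _ _)

include hl ha ha' in
theorem split_a {b : ℕ} (hab : a < b)
    (hrel : ∀ q, b ≤ q → q < D.nroots → Rel X (wact (D := D) l a) (wact (D := D) l q))
    {g : Γ} (hg : g ∈ V X l (fun q => q = a ∨ b ≤ q)) :
    ∃ t : F, ∃ v ∈ V X l (b ≤ ·), g = X.x (wact (D := D) l a) t * v := by
  have hw : wact (D := D) l a < D.nroots := wact_lt C hl ha'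
  induction hg using Subgroup.closure_induction with
  | mem y hy =>
    obtain ⟨q, h1, h2, h3, u, rfl⟩ := hy
    rcases h1 with rfl | h
    · exact ⟨u, 1, one_mem _, (mul_one _).symm⟩
    · exact ⟨0, _, x_mem_V X h h2 h3 u, by rw [X.x_zero hw, one_mul]⟩
  | one => exact ⟨0, 1, one_mem _, by rw [X.x_zero hw, one_mul]⟩
  | mul c d _ _ hc' hd =>
    obtain ⟨t, v, hv, rfl⟩ := hc'
    obtain ⟨u, w, hw', rfl⟩ := hd
    refine ⟨t + u, _, mul_mem (conj_a X hl ha ha' hab hrel u v hv) hw', ?_⟩
    rw [← X.x_add _ hw]; group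
  | inv c _ hc' =>
    obtain ⟨t, v, hv, rfl⟩ := hc'
    refine ⟨-t, _, conj_a X hl ha ha' hab hrel (-t) _ (inv_mem hv), ?_⟩
    rw [← X.x_inv hw]; group

include hl ha ha' in
theorem inj_a {b : ℕ} (hab : a < b) (hI : Inj X l (a + 1 ≤ ·))
    (hrel : ∀ q, b ≤ q → q < D.nroots → Rel X (wact (D := D) l a) (wact (D := D) l q)) :
    Inj X l (fun q => q = a ∨ b ≤ q) := by
  intro g hg h1
  obtain ⟨t, v, hv, rfl⟩ := split_a X hl ha ha' hab hrel hg
  have hw := wact_lt C hl ha'
  obtain ⟨e, he, h⟩ := nword_conj C (F := F) hl ha'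
  have h' := h (e * t)
  rw [← mul_assoc e e t, he, one_mul] at h'
  have h1' := congrArg S.θ h1
  rw [map_mul, map_mul, X.π_x _ hw, S.θ_x _ hw, map_one, ← h'] at h1'
  have h2 : xg C a (e * t) * ((nword C l)⁻¹ * S.θ (π v) * nword C l) = xg C a 0 * 1 := by
    rw [xg_zero, mul_one]
    have := congrArg (fun y => (nword C l)⁻¹ * y * nword C l) h1'
    simpa [mul_assoc] using this
  obtain ⟨e1, -⟩ := coeff_unique C ha ha'
    (θ_V X hl (k := a + 1) (fun q (hq : b ≤ q) => show a + 1 ≤ q by omega) hv) (one_mem _) h2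
  have ht : t = 0 := by
    have := congrArg (fun y => e * y) e1
    simpa [← mul_assoc, he] using this
  subst ht
  rw [X.x_zero hw, one_mul] at h1 ⊢
  exact hI v (V_mono X (fun q (hq : b ≤ q) => show a + 1 ≤ q by omega) hv) h1

end Step

section Main

/-- each pair is separated by the torus or commutes -/
def Pairs : Prop :=
  ∀ r s, r < D.nroots → s < D.nroots → s ≠ r → s ≠ D.neg r →
    Sep D F r s ∨ Rel X r s ∨ (∀ t u : F, W X r s t u = 1 ∧ Commute (X.x r t) (X.x s u)) ∨
      ∃ p : ℕ, (p : F) = 0 ∧ ∀ z : Γ, π z = 1 → z ^ p = 1 → z = 1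

variable (hP : Pairs X)

include hπ hc hP in
theorem rel_step {l : List ℕ} (hl : ∀ i ∈ l, i < D.rank) {a b : ℕ} (ha : D.nroots / 2 ≤ a) (hab : a < b)
    (hb' : b < D.nroots) (hI : Inj X l (a + 1 ≤ ·))
    (hrel : ∀ q, b + 1 ≤ q → q < D.nroots → Rel X (wact (D := D) l a) (wact (D := D) l q)) :
    Rel X (wact (D := D) l a) (wact (D := D) l b) := by
  have ha' : a < D.nroots := by omega
  have hb : D.nroots / 2 ≤ b := by omega
  set R := wact (D := D) l a
  set T := wact (D := D) l b
  have hR : R < D.nroots := wact_lt C hl ha'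
  have hT : T < D.nroots := wact_lt C hl hb'
  have h1 : T ≠ R := fun h => by
    have := wact_rev C hl hb'
    rw [show wact (D := D) l b = R from h, wact_rev C hl ha'] at this
    omega
  have h2 : T ≠ D.neg R := fun h => by
    have := wact_rev C hl hb'
    rw [show wact (D := D) l b = D.neg R from h, wact_neg C (rev_lt hl) hR, wact_rev C hl ha'] at this
    have := (neg_pos C ha').1 (this ▸ hb)
    omega
  have hfc : ∀ t u, ∀ g : Γ, g * err X R T t u = err X R T t u * g := fun t u =>
    StemBasic.ker_comm hc (π_err X hR hT h1 h2 t u)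
  have hWm : ∀ t u, W X R T t u ∈ V X l (b + 1 ≤ ·) := fun t u =>
    W_mem_V X hl ha ha' hb hb' (by omega) t u
  have hsp := err_spec X R T
  have hIa : Inj X l (fun q => q = a ∨ b + 1 ≤ q) := inj_a X hl ha ha' (by omega) hI hrel
  have addu : ∀ t u u', err X R T t (u + u') = err X R T t u * err X R T t u' := by
    intro t u u'
    have e1 : X.x R t * X.x T (u + u') * W X R T t (u + u') * err X R T t (u + u') =
        X.x R t * X.x T u * W X R T t u * X.x T u' * W X R T t u' * (err X R T t u * err X R T t u') := by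
      rw [← hsp, ← X.x_add T hT, mul_assoc (X.x T u), hsp t u']
      calc X.x T u * (X.x R t * X.x T u' * W X R T t u' * err X R T t u')
          = X.x T u * X.x R t * X.x T u' * W X R T t u' * err X R T t u' := by simp only [mul_assoc]
        _ = X.x R t * X.x T u * W X R T t u * (err X R T t u * (X.x T u' * W X R T t u')) * err X R T t u' := by
            rw [hsp t u]; simp only [mul_assoc]
        _ = _ := by rw [← hfc t u]; simp only [mul_assoc]
    have hu : X.x T u' * W X R T t (u + u') = W X R T t u * X.x T u' * W X R T t u' := by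
      have hm : ∀ v, X.x T v ∈ V X l (a + 1 ≤ ·) :=
        x_mem_V X (show a + 1 ≤ b by omega) hb hb'
      have hm' : ∀ t u, W X R T t u ∈ V X l (a + 1 ≤ ·) := fun t u =>
        V_mono X (fun q (hq : b + 1 ≤ q) => show a + 1 ≤ q by omega) (hWm t u)
      refine hI.eq X (mul_mem (hm _) (hm' _ _)) (mul_mem (mul_mem (hm' _ _) (hm _)) (hm' _ _)) ?_
      have := congrArg π e1
      simp only [map_mul, π_err X hR hT h1 h2, mul_one, ← X.x_add T hT] at this
      simp only [map_mul]
      simpa [mul_assoc] using this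
    rw [← X.x_add T hT, mul_assoc (X.x R t), mul_assoc (X.x T u), hu] at e1
    simpa [mul_assoc] using e1
  have addt : ∀ t t' u, err X R T (t + t') u = err X R T t u * err X R T t' u := by
    intro t t' u
    set W₂ := (X.x R t')⁻¹ * W X R T t u * X.x R t'
    have e1 : X.x R (t + t') * X.x T u * W X R T (t + t') u * err X R T (t + t') u =
        X.x R (t + t') * X.x T u * (W X R T t' u * W₂) * (err X R T t u * err X R T t' u) := by
      rw [← hsp, ← X.x_add R hR, ← mul_assoc, hsp t u]
      calc X.x R t * X.x T u * W X R T t u * err X R T t u * X.x R t'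
          = X.x R t * (X.x T u * X.x R t') * W₂ * err X R T t u := by
            rw [mul_assoc _ (err X R T t u), ← hfc t u]; simp only [W₂, mul_assoc, mul_inv_cancel_left]
        _ = X.x R t * X.x R t' * X.x T u * W X R T t' u * (err X R T t' u * (W₂ * err X R T t u)) := by
            rw [hsp t' u]; simp only [mul_assoc]
        _ = _ := by
            rw [← hfc t' u]
            simp only [mul_assoc]
    have hW2 : W₂ ∈ V X l (fun q => q = a ∨ b + 1 ≤ q) :=
      mul_mem (mul_mem (inv_mem (x_mem_V X (Or.inl rfl) ha ha' t'))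
        (V_mono X (fun q hq => Or.inr hq) (hWm t u))) (x_mem_V X (Or.inl rfl) ha ha' t')
    have hm' : ∀ t u, W X R T t u ∈ V X l (fun q => q = a ∨ b + 1 ≤ q) := fun t u =>
      V_mono X (fun q hq => Or.inr hq) (hWm t u)
    have hu : W X R T (t + t') u = W X R T t' u * W₂ := by
      refine hIa.eq X (hm' _ _) (mul_mem (hm' _ _) hW2) ?_
      have := congrArg π e1
      simp only [map_mul, π_err X hR hT h1 h2, mul_one] at this
      rw [map_mul]
      exact mul_left_cancel this
    rw [hu] at e1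
    exact mul_left_cancel e1
  rcases hP R T hR hT h1 h2 with ⟨L, hL, hsep⟩ | hrelRT | hcomm | ⟨p, hp, htor⟩
  · intro t u
    have hinv := err_chi X hπ hc hR hT h1 h2 hL
    rcases hsep with ⟨e1, e2⟩ | ⟨e1, e2⟩
    · have := hinv t (u / (chi D L T - 1))
      rw [e1, one_mul,
        show chi D L T * (u / (chi D L T - 1)) = u + u / (chi D L T - 1) by
          field_simp [sub_ne_zero.2 e2]; ring,
        addu, mul_eq_right] at this
      exact this
    · have := hinv (t / (chi D L R - 1)) u
      rw [e2, one_mul,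
        show chi D L R * (t / (chi D L R - 1)) = t + t / (chi D L R - 1) by
          field_simp [sub_ne_zero.2 e1]; ring,
        addt, mul_eq_right] at this
      exact this
  · exact hrelRT
  · intro t u
    obtain ⟨hW, hcm⟩ := hcomm t u
    rw [err, hW, mul_one, hcm.eq, inv_mul_cancel]
  · intro t u
    refine htor _ (π_err X hR hT h1 h2 t u) ?_
    have hnat : ∀ n : ℕ, err X R T t u ^ n = err X R T ((n : F) * t) u := by
      intro n
      induction n with
      | zero =>
        rw [pow_zero, Nat.cast_zero, zero_mul]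
        have h0 := addt 0 0 u
        rw [add_zero] at h0
        exact (mul_eq_left.1 h0.symm).symm
      | succ n ih => rw [pow_succ, ih, Nat.cast_succ, add_mul, one_mul, addt]
    have h0 := hnat 0
    rw [pow_zero, Nat.cast_zero, zero_mul] at h0
    rw [hnat, hp, zero_mul, ← h0]

include hπ hc hP in
theorem inj_ge {l : List ℕ} (hl : ∀ i ∈ l, i < D.rank) :
    ∀ a, D.nroots / 2 ≤ a → Inj X l (a ≤ ·) := by
  suffices ∀ n a, D.nroots - a = n → D.nroots / 2 ≤ a → Inj X l (a ≤ ·) from fun a => this _ a rfl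
  intro n
  induction n with
  | zero =>
    intro a hn _ g hg _
    have : V X l (a ≤ ·) = ⊥ := by
      rw [V, Subgroup.closure_eq_bot_iff]
      rintro y ⟨q, h1, _, h2, -⟩
      omega
    rwa [this, Subgroup.mem_bot] at hg
  | succ n ih =>
    intro a hn ha
    have ha' : a < D.nroots := by omega
    have hI := ih (a + 1) (by omega) (by omega)
    have hrel : ∀ m b, D.nroots - b = m → a < b → b < D.nroots →
        Rel X (wact (D := D) l a) (wact (D := D) l b) := by
      intro m
      induction m using Nat.strong_induction_on with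
      | _ m ihm =>
        intro b hm hab hb'
        exact rel_step X hπ hc hP hl ha hab hb' hI fun q hq hq' => ihm _ (by omega) q rfl (by omega) hq'
    intro g hg h1
    refine inj_a X hl ha ha' (Nat.lt_succ_self a) hI (fun q hq hq' => hrel _ q rfl (by omega) hq') g
      (V_mono X (fun q hq => ?_) hg) h1
    rcases eq_or_lt_of_le hq with h | h
    exacts [Or.inl h.symm, Or.inr h]

include hπ hc hP in
/-- (R2) for the lifts -/
theorem comm {r s : ℕ} (hr : r < D.nroots) (hs : s < D.nroots) (h1 : s ≠ r) (h2 : s ≠ D.neg r) (t u : F) :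
    X.x s u * X.x r t = X.x r t * X.x s u * W X r s t u := by
  obtain ⟨l, hl, a, b, ha, ha', hb, hb', rfl, rfl⟩ := pair_system C hr hs h2
  have hma : ∀ v, X.x (wact (D := D) l a) v ∈ V X l (D.nroots / 2 ≤ ·) := x_mem_V X ha ha ha'
  have hmb : ∀ v, X.x (wact (D := D) l b) v ∈ V X l (D.nroots / 2 ≤ ·) := x_mem_V X hb hb hb'
  refine (inj_ge X hπ hc hP hl _ le_rfl).eq X (mul_mem (hmb u) (hma t))
    (mul_mem (mul_mem (hma t) (hmb u)) (W_mem_V X hl ha ha' hb hb' (by omega) t u)) ?_
  simp only [map_mul, X.π_x _ hr, X.π_x _ hs, π_W X hr hs]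
  exact S.comm _ _ hr hs h1 h2 t u

include hπ hc hP in
/-- the relations lift to a stem extension -/
theorem lift_sys (hk : π.ker ≤ commutator Γ) :
    ∃ T : Sys C F Γ, T.θ = S.θ.comp π ∧ ∀ r, r < D.nroots → ∀ t : F, π (T.x r t) = S.x r t := by
  have hgen : Subgroup.closure {g : Γ | ∃ r, r < D.nroots ∧ ∃ t : F, g = X.x r t} = ⊤ := by
    set K := Subgroup.closure {g : Γ | ∃ r, r < D.nroots ∧ ∃ t : F, g = X.x r t}
    have hK : ∀ g : Γ, ∃ k ∈ K, π k = π g := by
      intro g
      have hle : ⊤ ≤ K.map π := by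
        rw [← S.gen, Subgroup.closure_le]
        rintro y ⟨r, hr, t, rfl⟩
        exact ⟨X.x r t, Subgroup.subset_closure ⟨r, hr, t, rfl⟩, X.π_x r hr t⟩
      obtain ⟨k, hk, e⟩ := hle (Subgroup.mem_top (π g))
      exact ⟨k, hk, e⟩
    have hcK : commutator Γ ≤ K := by
      rw [_root_.commutator_def, Subgroup.commutator_le]
      intro a _ b _
      obtain ⟨a', ha, ea⟩ := hK a
      obtain ⟨b', hb, eb⟩ := hK b
      rw [← StemPairing.bracket_congr hc ea eb, commutatorElement_def]
      exact mul_mem (mul_mem (mul_mem ha hb) (inv_mem ha)) (inv_mem hb)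
    refine eq_top_iff.2 fun g _ => ?_
    obtain ⟨k, hkK, e⟩ := hK g
    have : k⁻¹ * g ∈ K := hcK (hk (by rw [MonoidHom.mem_ker, map_mul, map_inv, e, inv_mul_cancel]))
    simpa using mul_mem hkK this
  refine ⟨⟨X.x, S.θ.comp π, X.x_add, fun r s hr hs h1 h2 => comm X hπ hc hP hr hs h1 h2,
    fun r hr t => ?_, hgen⟩, rfl, X.π_x⟩
  rw [MonoidHom.comp_apply, X.π_x r hr, S.θ_x r hr]

end Main

end Cfsg.Agent.StClosedGen
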