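import Mathlib

/-!
Twisted cubic forms of a cubic extension have a projective zero (Chevalley–Warning), and the resulting
bound for character sums over the cone of pure twisted tensors.
-/

set_option autoImplicit false
set_option linter.unusedSectionVars false

namespace Cfsg.Agent.CubicNormZero32

open MvPolynomial Module

section Poly

variable {F K V : Type*} [Field F] [Field K] [Algebra F K] [AddCommGroup V] [Module F V]
  {ι : Type*} [Fintype ι] (b : Basis ι F V)

/-- the polynomial of a product of three linear maps -/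
noncomputable def cub (L : K →ₗ[F] F) (A B C : V →ₗ[F] K) : MvPolynomial ι F :=
  ∑ i, ∑ j, ∑ k, MvPolynomial.C (L (A (b i) * B (b j) * C (b k))) * X i * X j * X k

theorem cub_deg (L : K →ₗ[F] F) (A B C : V →ₗ[F] K) : (cub b L A B C).totalDegree ≤ 3 := by
  refine (totalDegree_finset_sum _ _).trans (Finset.sup_le fun i _ => ?_)
  refine (totalDegree_finset_sum _ _).trans (Finset.sup_le fun j _ => ?_)
  refine (totalDegree_finset_sum _ _).trans (Finset.sup_le fun k _ => ?_)
  refine (totalDegree_mul _ _).trans ?_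
  refine le_trans (Nat.add_le_add ((totalDegree_mul _ _).trans
    (Nat.add_le_add ((totalDegree_mul _ _).trans (Nat.add_le_add le_rfl le_rfl)) le_rfl)) le_rfl) ?_
  simp [totalDegree_C, totalDegree_X]

theorem cub_eval (L : K →ₗ[F] F) (A B C : V →ₗ[F] K) (v : V) :
    eval (fun i => b.repr v i) (cub b L A B C) = L (A v * B v * C v) := by
  conv_rhs => rw [← b.sum_repr v]
  simp only [cub, map_sum, map_mul, eval_C, eval_X, map_smul]
  simp only [Finset.sum_mul, Finset.mul_sum, map_sum, smul_mul_assoc, mul_smul_comm, Finset.smul_sum, map_smul,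
    smul_eq_mul]
  rw [Finset.sum_comm]
  refine (Finset.sum_congr rfl fun _ _ => Finset.sum_comm).trans ?_
  refine Finset.sum_comm.trans ?_
  refine Finset.sum_congr rfl fun i _ => Finset.sum_congr rfl fun j _ => Finset.sum_congr rfl fun k _ => ?_
  ring

end Poly

variable {K : Type*} [Field K] (f : K →+* K)

/-- the fixed field -/
abbrev Fx : Subfield K := f.eqLocusField (RingHom.id K)

theorem fx_eq (c : Fx f) : f (c : K) = c := c.2

/-- `f` is linear over its fixed field -/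
def fl : K →ₗ[Fx f] K where
  toFun := f
  map_add' := map_add f
  map_smul' c x := by
    simp only [Subfield.smul_def, smul_eq_mul, map_mul, fx_eq, RingHom.id_apply]

variable (f3 : ∀ t, f (f (f t)) = t)

/-- the norm, in the fixed field -/
def nm (x : K) : Fx f :=
  ⟨x * f x * f (f x), by show f (x * f x * f (f x)) = x * f x * f (f x); rw [map_mul, map_mul, f3]; ring⟩

/-- the pure tensors -/
def pt (x y : K) : Fx f × K × K × Fx f :=
  (nm f f3 x, -(y * f x * f (f x)), -(y * f y * f (f x)), -nm f f3 y)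

theorem pt_smul (l x y : K) : pt f f3 (l * x) (l * y) = nm f f3 l • pt f f3 x y := by
  refine Prod.ext (Subtype.ext ?_) (Prod.ext ?_ (Prod.ext ?_ (Subtype.ext ?_))) <;>
    simp [pt, nm, Subfield.smul_def] <;> ring

/-- the distinguished vectors -/
def vv : {c : Fx f // c ≠ 0} × Option K → Fx f × K × K × Fx f
  | (c, some t) => (c.1 : Fx f) • pt f f3 1 t
  | (c, none) => (c.1 : Fx f) • pt f f3 0 1

variable [Fintype K]

omit [Fintype K] in
theorem pt_zero_one_or {x y : K} (h : ¬ (x = 0 ∧ y = 0)) :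
    (∃ (t : K) (n : Fx f), n ≠ 0 ∧ pt f f3 x y = n • pt f f3 1 t) ∨ (∃ n : Fx f, n ≠ 0 ∧ pt f f3 x y = n • pt f f3 0 1) := by
  have hn : ∀ l : K, l ≠ 0 → nm f f3 l ≠ 0 := fun l hl h0 => by
    have : l * f l * f (f l) = 0 := congrArg Subtype.val h0
    simp [hl] at this
  by_cases hx : x = 0
  · right
    refine ⟨_, hn y fun hy => h ⟨hx, hy⟩, ?_⟩
    rw [← pt_smul, hx, mul_zero, mul_one]
  · left
    refine ⟨y / x, _, hn x hx, ?_⟩
    rw [← pt_smul, mul_one, mul_div_cancel₀ _ hx]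

theorem exists_zero {q : ℕ} (hq : Nat.card (Fx f) = q) (hK : Fintype.card K = q ^ 3)
    (ℓ : Fx f × K × K × Fx f →ₗ[Fx f] Fx f) :
    ∃ x y : K, ¬ (x = 0 ∧ y = 0) ∧ ℓ (pt f f3 x y) = 0 := by
  classical
  have hdim : finrank (Fx f) K = 3 := by
    have h := Module.natCard_eq_pow_finrank (K := Fx f) (V := K)
    rw [Nat.card_eq_fintype_card, hK, hq] at h
    exact (Nat.pow_right_injective (hq ▸ Finite.one_lt_card) h).symm
  obtain ⟨π, hπ⟩ := (Algebra.linearMap (Fx f) K).exists_leftInverse_of_injective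
    (LinearMap.ker_eq_bot.2 (algebraMap (Fx f) K).injective)
  have hπ' : ∀ c : Fx f, π (c : K) = c := fun c => LinearMap.congr_fun hπ c
  let Xm : K × K →ₗ[Fx f] K := LinearMap.fst _ _ _
  let Ym : K × K →ₗ[Fx f] K := LinearMap.snd _ _ _
  let F1 : K →ₗ[Fx f] K := fl f
  let F2 : K →ₗ[Fx f] K := (fl f).comp (fl f)
  let L1 : K →ₗ[Fx f] Fx f := ℓ.comp ((LinearMap.inl _ _ _).comp π)
  let L2 : K →ₗ[Fx f] Fx f := ℓ.comp ((LinearMap.inr _ _ _).comp (LinearMap.inl _ _ _))
  let L3 : K →ₗ[Fx f] Fx f :=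
    ℓ.comp ((LinearMap.inr _ _ _).comp ((LinearMap.inr _ _ _).comp (LinearMap.inl _ _ _)))
  let L4 : K →ₗ[Fx f] Fx f :=
    ℓ.comp ((LinearMap.inr _ _ _).comp ((LinearMap.inr _ _ _).comp ((LinearMap.inr _ _ _).comp π)))
  let b := Module.finBasis (Fx f) (K × K)
  let P : MvPolynomial (Fin (finrank (Fx f) (K × K))) (Fx f) :=
    cub b L1 Xm (F1.comp Xm) (F2.comp Xm) - cub b L2 Ym (F1.comp Xm) (F2.comp Xm)
      - cub b L3 Ym (F1.comp Ym) (F2.comp Xm) - cub b L4 Ym (F1.comp Ym) (F2.comp Ym)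
  have hev : ∀ v : K × K, eval (fun i => b.repr v i) P = ℓ (pt f f3 v.1 v.2) := by
    intro v
    simp only [P, map_sub, cub_eval]
    simp only [L1, L2, L3, L4, LinearMap.comp_apply, ← map_sub]
    congr 1
    have e1 : π (v.1 * f v.1 * f (f v.1)) = nm f f3 v.1 := hπ' (nm f f3 v.1)
    have e2 : π (v.2 * f v.2 * f (f v.2)) = nm f f3 v.2 := hπ' (nm f f3 v.2)
    simp [pt, Xm, Ym, F1, F2, fl, e1, e2]
  have hdeg : P.totalDegree < Fintype.card (Fin (finrank (Fx f) (K × K))) := by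
    refine lt_of_le_of_lt (b := 3) ?_ (by
      have e : finrank (Fx f) (K × K) = 6 := by rw [Module.finrank_prod, hdim]
      simp only [Fintype.card_fin]
      omega)
    refine (totalDegree_sub _ _).trans (max_le ((totalDegree_sub _ _).trans (max_le
      ((totalDegree_sub _ _).trans (max_le ?_ ?_)) ?_)) ?_) <;> exact cub_deg _ _ _ _ _
  obtain ⟨p, hp⟩ := CharP.exists (Fx f)
  haveI := Fintype.ofFinite (Fx f)
  haveI : Fact p.Prime := ⟨CharP.char_is_prime (Fx f) p⟩
  have h0 : eval (fun _ => (0 : Fx f)) P = 0 := by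
    have := hev 0
    simpa [pt, nm] using this.trans (by
      have : pt f f3 0 0 = 0 := by
        refine Prod.ext (Subtype.ext ?_) (Prod.ext ?_ (Prod.ext ?_ (Subtype.ext ?_))) <;> simp [pt, nm]
      rw [Prod.fst_zero, Prod.snd_zero, this, map_zero])
  have hdvd := char_dvd_card_solutions p hdeg
  obtain ⟨v, hv, hne⟩ : ∃ v, eval v P = 0 ∧ v ≠ 0 := by
    by_contra! hc
    have h1 : Fintype.card {v // eval v P = 0} = 1 :=
      Fintype.card_eq_one_iff.2 ⟨⟨0, h0⟩, fun v => Subtype.ext (hc v.1 v.2)⟩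
    rw [h1, Nat.dvd_one] at hdvd
    exact (Fact.out : p.Prime).one_lt.ne' hdvd
  set w := b.equivFun.symm v with hw
  have hwv : (fun i => b.repr w i) = v := b.equivFun.apply_symm_apply v
  refine ⟨w.1, w.2, ?_, ?_⟩
  · rintro ⟨h1, h2⟩
    refine hne ?_
    rw [← hwv, Prod.ext h1 h2 (y := (0, 0)), Prod.mk_zero_zero, map_zero]
    rfl
  · rw [← hev, hwv, hv]

theorem sum_bound {q : ℕ} (hq : Nat.card (Fx f) = q) (hK : Fintype.card K = q ^ 3)
    [Fintype {c : Fx f // c ≠ 0}] (μ : AddChar (Fx f × K × K × Fx f) ℂ) :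
    (Fintype.card ({c : Fx f // c ≠ 0} × Option K) : ℝ) - (∑ i, μ (vv f f3 i)).re ≤ (q : ℝ) ^ 4 := by
  classical
  haveI := Fintype.ofFinite (Fx f)
  obtain ⟨ψ, hψ⟩ := AddChar.exists_apply_ne_zero.2 (one_ne_zero : (1 : Fx f) ≠ 0)
  let W := Fx f × K × K × Fx f
  let Φ : (W →ₗ[Fx f] Fx f) → AddChar W ℂ := fun ℓ => ψ.compAddMonoidHom ℓ.toAddMonoidHom
  have hΦ : Function.Injective Φ := by
    intro l l' h
    refine LinearMap.ext fun w => ?_
    by_contra hne
    apply hψ
    set d := l w - l' w with hd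
    have hd0 : d ≠ 0 := sub_ne_zero.2 hne
    have h1 : ψ (l (d⁻¹ • w)) = ψ (l' (d⁻¹ • w)) := congrArg (fun χ : AddChar W ℂ => χ (d⁻¹ • w)) h
    rw [l.map_smul, l'.map_smul, smul_eq_mul, smul_eq_mul] at h1
    have e : d⁻¹ * l w = 1 + d⁻¹ * l' w := by
      have : d⁻¹ * (l w - l' w) = 1 := inv_mul_cancel₀ hd0
      linear_combination this
    rw [e, AddChar.map_add_eq_mul] at h1
    have hnz : ψ (d⁻¹ * l' w) ≠ 0 := (AddChar.val_isUnit ψ _).ne_zero
    exact mul_right_cancel₀ hnz (h1.trans (one_mul _).symm)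
  haveI : Finite (W →ₗ[Fx f] Fx f) := Finite.of_injective Φ hΦ
  have hbij : Function.Bijective Φ := by
    refine hΦ.bijective_of_nat_card_le (le_of_eq ?_)
    rw [Nat.card_eq_fintype_card, AddChar.card_eq, ← Nat.card_eq_fintype_card,
      Module.natCard_eq_pow_finrank (K := Fx f) (V := W), Module.natCard_eq_pow_finrank (K := Fx f) (V := W →ₗ[Fx f] Fx f),
      Module.finrank_linearMap_self]
  obtain ⟨ℓ, rfl⟩ := hbij.2 μ
  let g : Option K → Fx f × K × K × Fx f := fun
    | some t => pt f f3 1 t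
    | none => pt f f3 0 1
  have hval : ∀ i : {c : Fx f // c ≠ 0} × Option K, Φ ℓ (vv f f3 i) = ψ (i.1.1 * ℓ (g i.2)) := by
    rintro ⟨c, (_ | t)⟩ <;> (show ψ (ℓ (_ • _)) = _; rw [map_smul]; rfl)
  have hin : ∀ o : Option K, ∑ c : {c : Fx f // c ≠ 0}, ψ (c.1 * ℓ (g o)) =
      (if ℓ (g o) = 0 then (q : ℂ) else 0) - 1 := by
    intro o
    have hall : ∑ c : Fx f, ψ (c * ℓ (g o)) = if ℓ (g o) = 0 then (q : ℂ) else 0 := by
      by_cases h : ℓ (g o) = 0
      · simp only [h, mul_zero, AddChar.map_zero_eq_one, if_pos, Finset.sum_const, Finset.card_univ, nsmul_eq_mul,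
          mul_one]
        rw [← hq, Nat.card_eq_fintype_card]
      · rw [if_neg h, Fintype.sum_equiv (Equiv.mulRight₀ _ h) (fun c => ψ (c * ℓ (g o))) (fun c => ψ c) (fun c => rfl)]
        refine AddChar.sum_eq_zero_of_ne_one fun e => hψ ?_
        rw [e, AddChar.one_apply]
    rw [← hall, ← Finset.add_sum_erase _ _ (Finset.mem_univ (0 : Fx f)), zero_mul, AddChar.map_zero_eq_one,
      add_sub_cancel_left]
    exact (Finset.sum_subtype _ (fun c => by simp) (fun c : Fx f => ψ (c * ℓ (g o)))).symm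
  have hS : (∑ i, Φ ℓ (vv f f3 i)).re = ∑ o : Option K, ((if ℓ (g o) = 0 then (q : ℝ) else 0) - 1) := by
    rw [Fintype.sum_prod_type_right, Finset.sum_congr rfl fun o _ =>
      (Finset.sum_congr rfl fun c _ => hval (c, o)).trans (hin o), Complex.re_sum]
    refine Finset.sum_congr rfl fun o _ => ?_
    split_ifs <;> simp
  obtain ⟨o, ho⟩ : ∃ o, ℓ (g o) = 0 := by
    obtain ⟨x, y, hxy, h0⟩ := exists_zero f f3 hq hK ℓ
    rcases pt_zero_one_or f f3 hxy with ⟨t, n, hn, e⟩ | ⟨n, hn, e⟩ <;> rw [e, map_smul, smul_eq_zero] at h0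
    · exact ⟨some t, h0.resolve_left hn⟩
    · exact ⟨none, h0.resolve_left hn⟩
  have hcI : (Fintype.card ({c : Fx f // c ≠ 0} × Option K) : ℝ) = ((q : ℝ) - 1) * ((q : ℝ) ^ 3 + 1) := by
    rw [Fintype.card_prod, Fintype.card_option, hK, Fintype.card_subtype_compl, Fintype.card_subtype_eq,
      ← Nat.card_eq_fintype_card, hq]
    have : 1 ≤ q := hq ▸ Nat.card_pos
    push_cast [Nat.cast_sub this]
    ring
  have hlow : (q : ℝ) - ((q : ℝ) ^ 3 + 1) ≤ (∑ i, Φ ℓ (vv f f3 i)).re := by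
    rw [hS, Finset.sum_sub_distrib, Finset.sum_const, Finset.card_univ, Fintype.card_option, hK, nsmul_eq_mul,
      mul_one]
    push_cast
    gcongr
    refine le_trans (le_of_eq (if_pos ho).symm)
      (Finset.single_le_sum (f := fun o => if ℓ (g o) = 0 then (q : ℝ) else 0) (fun i _ => ?_) (Finset.mem_univ o))
    split_ifs <;> positivity
  rw [hcI]
  nlinarith [hlow]

end Cfsg.Agent.CubicNormZero32
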