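import Cfsg.Agent.Lib.CycSyl43Defs
import Cfsg.Agent.Lib.StemSL2
import Cfsg.Agent.Lib.PSLSimple
import Cfsg.Agent.Lib.AutPSLApi

/-!
Reduction of the classification of groups with cyclic odd Sylow subgroups and small Sylow 2-subgroup to
the simple case.
-/

set_option autoImplicit false

namespace Cfsg.Agent.CycSyl43Assembly

open Cfsg.Agent.CycSyl43
open scoped MatrixGroups commutatorElement

universe u

section Hereditary

variable {G : Type u} [Group G] [Finite G]

lemma cyclic_of_pgroup {p : ℕ} (hp : p.Prime) (hodd : OddCyclic G) (hp2 : p ≠ 2) (H : Subgroup G)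
    (hH : IsPGroup p H) : IsCyclic H := by
  haveI : Fact p.Prime := ⟨hp⟩
  obtain ⟨P, hP⟩ := hH.exists_le_sylow
  haveI : IsCyclic (P : Subgroup G) := hodd p hp hp2 P
  exact isCyclic_of_injective (Subgroup.inclusion hP) (Subgroup.inclusion_injective hP)

/-- A 2-subgroup has a cyclic subgroup, closed under squares, of index at most two. -/
lemma two_data (h2 : TwoSmall G) (H : Subgroup G) (hH : IsPGroup 2 H) :
    ∃ C : Subgroup G, C ≤ H ∧ IsCyclic C ∧ (∀ h ∈ H, h ^ 2 ∈ C) ∧
      ∀ a ∈ H, ∀ b ∈ H, a ∉ C → b ∉ C → a * b ∈ C := by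
  obtain ⟨S, hS⟩ := hH.exists_le_sylow
  obtain ⟨C, hC, hi⟩ := h2 S
  haveI := hC
  haveI : IsCyclic (C.map (S : Subgroup G).subtype) :=
    isCyclic_of_surjective _ (C.equivMapOfInjective _ (Subgroup.subtype_injective _)).surjective
  refine ⟨C.map (S : Subgroup G).subtype ⊓ H, inf_le_right,
    isCyclic_of_injective (Subgroup.inclusion inf_le_left) (Subgroup.inclusion_injective _), ?_, ?_⟩
  · intro h hh
    refine ⟨⟨⟨h, hS hh⟩ ^ 2, ?_, by simp⟩, pow_mem hh 2⟩
    rcases (Nat.dvd_prime Nat.prime_two).1 hi with e | e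
    · rw [Subgroup.index_eq_one.1 e]; exact Subgroup.mem_top _
    · exact Subgroup.sq_mem_of_index_two e _
  · intro a ha b hb ha' hb'
    refine ⟨⟨⟨a, hS ha⟩ * ⟨b, hS hb⟩, ?_, by simp⟩, mul_mem ha hb⟩
    rcases (Nat.dvd_prime Nat.prime_two).1 hi with e | e
    · rw [Subgroup.index_eq_one.1 e]; exact Subgroup.mem_top _
    · refine (Subgroup.mul_mem_iff_of_index_two e).2 (iff_of_false (fun h => ha' ⟨⟨_, h, rfl⟩, ha⟩)
        (fun h => hb' ⟨⟨_, h, rfl⟩, hb⟩))

theorem oddCyclic_subgroup (hodd : OddCyclic G) (H : Subgroup G) : OddCyclic H := by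
  intro p hp hp2 P
  haveI : Fact p.Prime := ⟨hp⟩
  haveI := cyclic_of_pgroup hp hodd hp2 ((P : Subgroup H).map H.subtype) (P.isPGroup'.map _)
  exact isCyclic_of_injective
    ((P : Subgroup H).equivMapOfInjective H.subtype H.subtype_injective).toMonoidHom
    ((P : Subgroup H).equivMapOfInjective H.subtype H.subtype_injective).injective

theorem twoSmall_subgroup (h2 : TwoSmall G) (H : Subgroup G) : TwoSmall H := by
  intro S
  set P := (S : Subgroup H).map H.subtype
  obtain ⟨C, hCP, hC, hsq, hmul⟩ := two_data h2 P (S.isPGroup'.map _)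
  haveI := hC
  let f : ↥(S : Subgroup H) →* G := H.subtype.comp (S : Subgroup H).subtype
  have hf : Function.Injective f := H.subtype_injective.comp (Subgroup.subtype_injective _)
  refine ⟨C.comap f, ?_, ?_⟩
  · refine isCyclic_of_injective (f.subgroupComap C) fun x y h => Subtype.ext (hf ?_)
    have h' := congrArg (fun c : C => (c : G)) h
    exact h'
  · have hmem : ∀ x : ↥(S : Subgroup H), f x ∈ P := fun x => ⟨x, x.2, rfl⟩
    by_cases hall : ∀ x : ↥(S : Subgroup H), f x ∈ C
    · rw [(Subgroup.eq_top_iff' (C.comap f)).2 hall, Subgroup.index_top]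
      exact one_dvd _
    · push Not at hall
      obtain ⟨a, ha⟩ := hall
      refine dvd_of_eq (Subgroup.index_eq_two_iff.2 ⟨a, fun b => ?_⟩)
      simp only [Subgroup.mem_comap, map_mul]
      by_cases hb : f b ∈ C
      · refine Or.inr ⟨hb, fun h => ha ?_⟩
        exact (Subgroup.mul_mem_cancel_left C hb).1 h
      · exact Or.inl ⟨hmul _ (hmem b) _ (hmem a) hb ha, hb⟩

theorem oddCyclic_surj {Q : Type u} [Group Q] [Finite Q] (f : G →* Q) (hf : Function.Surjective f)
    (hodd : OddCyclic G) : OddCyclic Q := by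
  intro p hp hp2 P
  haveI : Fact p.Prime := ⟨hp⟩
  obtain ⟨S⟩ := (inferInstance : Nonempty (Sylow p G))
  obtain ⟨q, rfl⟩ := MulAction.exists_smul_eq Q (S.mapSurjective hf) P
  haveI : IsCyclic (S : Subgroup G) := hodd p hp hp2 S
  haveI : IsCyclic ((S.mapSurjective hf : Sylow p Q) : Subgroup Q) :=
    isCyclic_of_surjective (f.subgroupMap (S : Subgroup G)) (f.subgroupMap_surjective _)
  exact isCyclic_of_surjective _ ((S.mapSurjective hf).equiv (q • S.mapSurjective hf)).surjective

theorem twoSmall_surj {Q : Type u} [Group Q] [Finite Q] (f : G →* Q) (hf : Function.Surjective f)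
    (h2 : TwoSmall G) : TwoSmall Q := by
  intro P
  obtain ⟨S₀⟩ := (inferInstance : Nonempty (Sylow 2 G))
  obtain ⟨q, hq⟩ := MulAction.exists_smul_eq Q (S₀.mapSurjective hf) P
  obtain ⟨g, rfl⟩ := hf q
  obtain ⟨C, hC, hi⟩ := h2 S₀
  haveI := hC
  let φ : ↥(S₀ : Subgroup G) →* ↥(P : Subgroup Q) :=
    (((S₀.mapSurjective hf).equiv P).toMonoidHom).comp (f.subgroupMap (S₀ : Subgroup G))
  have hφ : Function.Surjective φ :=
    ((S₀.mapSurjective hf).equiv P).surjective.comp (f.subgroupMap_surjective _)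
  exact ⟨C.map φ, isCyclic_of_surjective _ (φ.subgroupMap_surjective C),
    (Subgroup.index_map_dvd _ hφ).trans hi⟩

end Hereditary

/-- The residual: a normal perfect nontrivial subgroup. -/
theorem exists_perfect {G : Type u} [Group G] [Finite G] (hns : ¬ Group.IsSolvable G) :
    ∃ L : Subgroup G, L.Characteristic ∧ Group.IsPerfect L ∧ L ≠ ⊥ := by
  obtain ⟨n, hn⟩ : ∃ n, derivedSeries G (n + 1) = derivedSeries G n := by
    by_contra h
    push Not at h
    have hlt : ∀ n, Nat.card (derivedSeries G (n + 1)) < Nat.card (derivedSeries G n) := fun n => by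
      refine lt_of_le_of_ne (Subgroup.card_le_of_le (derivedSeries_antitone G n.le_succ)) fun e => h n ?_
      exact Subgroup.eq_of_le_of_card_ge (derivedSeries_antitone G n.le_succ) e.ge
    have h1 : ∀ n, Nat.card (derivedSeries G n) + n ≤ Nat.card (derivedSeries G 0) := fun n => by
      induction n with
      | zero => simp
      | succ n ih => have := hlt n; omega
    have h2 := h1 (Nat.card (derivedSeries G 0))
    have h3 : 0 < Nat.card (derivedSeries G (Nat.card (derivedSeries G 0))) := Nat.card_pos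
    omega
  refine ⟨derivedSeries G n, inferInstance, ⟨?_⟩, fun h => hns ⟨n, h⟩⟩
  apply Subgroup.map_injective (derivedSeries G n).subtype_injective
  rw [Subgroup.map_subtype_commutator, ← derivedSeries_succ, hn, ← MonoidHom.range_eq_map,
    Subgroup.range_subtype]

/-- A homomorphism from a perfect group to a commutative one is trivial. -/
lemma hom_trivial {L A : Type*} [Group L] [Group A] [Group.IsPerfect L] (φ : L →* A)
    (hA : ∀ a b : A, a * b = b * a) (l : L) : φ l = 1 := by
  have h : commutator L ≤ φ.ker := by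
    rw [commutator_def, Subgroup.commutator_le]
    intro a _ b _
    rw [MonoidHom.mem_ker, map_commutatorElement, commutatorElement_eq_one_iff_mul_comm]
    exact hA _ _
  rw [(inferInstance : Group.IsPerfect L).commutator_eq_top] at h
  exact h (Subgroup.mem_top l)

/-- A normal subgroup with cyclic Sylow subgroups of a perfect group is central. -/
lemma zgroup_central {L : Type u} [Group L] [Finite L] [Group.IsPerfect L] (M : Subgroup L)
    [M.Normal] [IsZGroup M] : M ≤ Subgroup.center L := by
  classical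
  -- `L` centralises the derived subgroup
  let D : Subgroup L := (commutator M).map M.subtype
  haveI hDn : D.Normal := by
    show ((commutator M).map M.subtype).Normal
    rw [Subgroup.map_subtype_commutator]
    infer_instance
  haveI : IsCyclic (commutator M) := IsZGroup.isCyclic_commutator _
  haveI : IsCyclic D := isCyclic_of_surjective _
    ((commutator M).equivMapOfInjective _ M.subtype_injective).surjective
  have hA : ∀ a b : MulAut D, a * b = b * a := fun a b =>
    (IsCyclic.mulAutMulEquiv D).injective (by rw [map_mul, map_mul, mul_comm])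
  have hDc : ∀ d ∈ D, ∀ l : L, l * d = d * l := fun d hd l => by
    have h := congrArg (fun α : MulAut D => ((α ⟨d, hd⟩ : D) : L))
      (hom_trivial (MulAut.conjNormal (H := D)) hA l)
    simp only [MulAut.one_apply, MulAut.conjNormal_apply] at h
    exact mul_inv_eq_iff_eq_mul.1 h
  -- action on the abelianisation
  let conjM : L →* MulAut M := MulAut.conjNormal
  haveI : IsCyclic (M ⧸ commutator M) := IsZGroup.isCyclic_abelianization
  have hMA : ∀ a b : MulAut (M ⧸ commutator M), a * b = b * a := fun a b =>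
    (IsCyclic.mulAutMulEquiv _).injective (by rw [map_mul, map_mul, mul_comm])
  let Φ : L →* MulAut (Abelianization M) :=
    { toFun := fun l => MulEquiv.abelianizationCongr (conjM l)
      map_one' := MulEquiv.ext fun x => by
        induction x using QuotientGroup.induction_on
        simp [map_one]
        rfl
      map_mul' := fun a b => MulEquiv.ext fun x => by
        induction x using QuotientGroup.induction_on
        simp [map_mul]
        rfl }
  have hin : ∀ l : L, ∀ m ∈ M, ⁅l, m⁆ ∈ D := fun l m hm => by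
    have h := congrArg (fun α : MulAut (Abelianization M) => α (Abelianization.of ⟨m, hm⟩))
      (hom_trivial Φ hMA l)
    simp only [MulAut.one_apply] at h
    change Abelianization.of (conjM l ⟨m, hm⟩) = Abelianization.of ⟨m, hm⟩ at h
    have h1 : (conjM l ⟨m, hm⟩) * (⟨m, hm⟩ : M)⁻¹ ∈ commutator M := by
      rw [← Abelianization.ker_of, MonoidHom.mem_ker, map_mul, map_inv, h, mul_inv_cancel]
    refine ⟨_, h1, ?_⟩
    simp [conjM, commutatorElement_def, MulAut.conjNormal_apply]
  intro m hm
  rw [Subgroup.mem_center_iff]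
  let φ : L →* D :=
    { toFun := fun l => ⟨⁅l, m⁆, hin l m hm⟩
      map_one' := Subtype.ext (by simp [commutatorElement_def])
      map_mul' := fun a b => Subtype.ext (by
        have h := hDc _ (hin b m hm) a
        simp only [Subgroup.coe_mul, commutatorElement_def] at h ⊢
        calc a * b * m * (a * b)⁻¹ * m⁻¹ = a * (b * m * b⁻¹ * m⁻¹) * (m * a⁻¹ * m⁻¹) := by group
          _ = (b * m * b⁻¹ * m⁻¹) * a * (m * a⁻¹ * m⁻¹) := by rw [h]
          _ = (b * m * b⁻¹ * m⁻¹) * (a * m * a⁻¹ * m⁻¹) := by group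
          _ = (a * m * a⁻¹ * m⁻¹) * (b * m * b⁻¹ * m⁻¹) := by
            have h2 := hDc _ (hin a m hm) (b * m * b⁻¹ * m⁻¹)
            simpa only [commutatorElement_def] using h2) }
  intro l
  have h := congrArg Subtype.val (hom_trivial φ (fun a b => by
    letI := IsCyclic.commGroup (α := D)
    exact mul_comm a b) l)
  have h' : ⁅l, m⁆ = (1 : L) := h
  exact commutatorElement_eq_one_iff_mul_comm.1 h'

section Cover

variable {p : ℕ} [Fact p.Prime]

/-- A perfect central extension of `PSL(2,p)` is covered by `SL(2,p)`. -/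
theorem exists_cover (h5 : 5 ≤ p) {L : Type u} [Group L] [Finite L] [Group.IsPerfect L]
    (σ : L →* Matrix.ProjectiveSpecialLinearGroup (Fin 2) (ZMod p))
    (hs : Function.Surjective σ) (hc : σ.ker ≤ Subgroup.center L) :
    ∃ ψ : SL(2, ZMod p) →* L, Function.Surjective ψ ∧ ψ.ker ≤ Subgroup.center SL(2, ZMod p) ∧
      ∀ s, σ (ψ s) = QuotientGroup.mk s := by
  classical
  let π : SL(2, ZMod p) →* Matrix.ProjectiveSpecialLinearGroup (Fin 2) (ZMod p) :=
    QuotientGroup.mk' (Subgroup.center SL(2, ZMod p))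
  let Γ : Subgroup (L × SL(2, ZMod p)) :=
    (σ.comp (MonoidHom.fst L SL(2, ZMod p))).eqLocus (π.comp (MonoidHom.snd L SL(2, ZMod p)))
  have hΓ : ∀ x : Γ, σ (x : L × SL(2, ZMod p)).1 = π (x : L × SL(2, ZMod p)).2 := fun x => x.2
  let p1 : Γ →* L := (MonoidHom.fst _ _).comp Γ.subtype
  let p2 : Γ →* SL(2, ZMod p) := (MonoidHom.snd _ _).comp Γ.subtype
  have h1s : Function.Surjective p1 := fun l => by
    obtain ⟨s, hs'⟩ := QuotientGroup.mk_surjective (σ l)
    exact ⟨⟨(l, s), hs'.symm⟩, rfl⟩
  have h2s : Function.Surjective p2 := fun s => by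
    obtain ⟨l, hl⟩ := hs (π s)
    exact ⟨⟨(l, s), hl⟩, rfl⟩
  have h4 : 4 ≤ Nat.card (ZMod p) := by rw [Nat.card_zmod]; omega
  haveI : Group.IsPerfect SL(2, ZMod p) :=
    ⟨PSLSimple.commutator_SL_fin_eq_top le_rfl fun _ => PSLSimple.exists_sq_ne_one h4⟩
  have h2c : p2.ker ≤ Subgroup.center Γ := by
    intro x hx
    rw [Subgroup.mem_center_iff]
    intro y
    have hx2 : (x : L × SL(2, ZMod p)).2 = 1 := hx
    have hx1 : (x : L × SL(2, ZMod p)).1 ∈ Subgroup.center L := hc (by
      rw [MonoidHom.mem_ker, hΓ, hx2, map_one])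
    refine Subtype.ext (Prod.ext ?_ ?_)
    · exact Subgroup.mem_center_iff.1 hx1 _
    · simp [hx2]
  set Dd : Subgroup Γ := commutator Γ with hDd
  have hmap : ∀ {H : Type u} [Group H] [Group.IsPerfect H] (f : Γ →* H), Function.Surjective f →
      Dd.map f = ⊤ := fun {H} _ hH f hf => by
    rw [hDd, commutator_def, Subgroup.map_commutator, Subgroup.map_top_of_surjective f hf,
      ← commutator_def, hH.commutator_eq_top]
  have h2D : Dd.map p2 = ⊤ := by
    rw [hDd, commutator_def, Subgroup.map_commutator, Subgroup.map_top_of_surjective p2 h2s,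
      ← commutator_def, Group.IsPerfect.commutator_eq_top]
  have hsD : Function.Surjective (p2.domRestrict Dd) := fun s => by
    obtain ⟨x, hx, hxs⟩ : s ∈ Dd.map p2 := by rw [h2D]; exact Subgroup.mem_top s
    exact ⟨⟨x, hx⟩, hxs⟩
  have hperf : commutator Dd = ⊤ := by
    apply Subgroup.map_injective Dd.subtype_injective
    rw [Subgroup.map_subtype_commutator, ← MonoidHom.range_eq_map, Subgroup.range_subtype]
    refine le_antisymm ((Subgroup.commutator_mono le_top le_top).trans le_rfl) ?_
    rw [hDd, commutator_def, Subgroup.commutator_le]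
    intro a _ b _
    obtain ⟨⟨a', ha'⟩, e1⟩ := hsD (p2 a)
    obtain ⟨⟨b', hb'⟩, e2⟩ := hsD (p2 b)
    have za : a'⁻¹ * a ∈ Subgroup.center Γ := h2c (by
      rw [MonoidHom.mem_ker, map_mul, map_inv, ← e1]; exact inv_mul_cancel _)
    have zb : b'⁻¹ * b ∈ Subgroup.center Γ := h2c (by
      rw [MonoidHom.mem_ker, map_mul, map_inv, ← e2]; exact inv_mul_cancel _)
    have : ⁅a, b⁆ = ⁅a', b'⁆ := by
      obtain ⟨z, hz, rfl⟩ : ∃ z ∈ Subgroup.center Γ, a = a' * z := ⟨_, za, by group⟩
      obtain ⟨w, hw, rfl⟩ : ∃ w ∈ Subgroup.center Γ, b = b' * w := ⟨_, zb, by group⟩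
      have hz' := Subgroup.mem_center_iff.1 hz
      have hw' := Subgroup.mem_center_iff.1 hw
      simp only [commutatorElement_def, mul_inv_rev]
      calc a' * z * (b' * w) * (z⁻¹ * a'⁻¹) * (w⁻¹ * b'⁻¹)
          = a' * (z * (b' * w)) * (z⁻¹ * a'⁻¹) * (w⁻¹ * b'⁻¹) := by group
        _ = a' * ((b' * w) * z) * (z⁻¹ * a'⁻¹) * (w⁻¹ * b'⁻¹) := by rw [hz' (b' * w)]
        _ = a' * b' * (w * a'⁻¹) * w⁻¹ * b'⁻¹ := by group
        _ = a' * b' * (a'⁻¹ * w) * w⁻¹ * b'⁻¹ := by rw [hw' a'⁻¹]
        _ = a' * b' * a'⁻¹ * b'⁻¹ := by group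
    rw [this]
    exact Subgroup.commutator_mem_commutator (by simpa [hDd, commutator_def] using ha')
      (by simpa [hDd, commutator_def] using hb')
  have hstem : Cfsg.IsStemExtension (p2.domRestrict Dd) := by
    refine ⟨hsD, fun x hx => ?_, ?_⟩
    · rw [Subgroup.mem_center_iff]
      exact fun y => Subtype.ext (Subgroup.mem_center_iff.1 (h2c (x := (x : Γ)) hx) (y : Γ))
    · rw [hperf]; exact le_top
  have hker := StemSL2.ker_eq_bot p hstem (by rw [ZMod.card]; omega)
    (by rw [ZMod.card]; intro h; have hp := (Fact.out : p.Prime); rw [h] at hp; norm_num at hp)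
  let e : Dd ≃* SL(2, ZMod p) :=
    MulEquiv.ofBijective (p2.domRestrict Dd) ⟨(MonoidHom.ker_eq_bot_iff _).1 hker, hsD⟩
  let ψ : SL(2, ZMod p) →* L := (p1.comp Dd.subtype).comp e.symm.toMonoidHom
  have hσψ : ∀ s, σ (ψ s) = QuotientGroup.mk s := fun s => by
    have h := hΓ ((e.symm s : Dd) : Γ)
    have h' : ((((e.symm s : Dd) : Γ)) : L × SL(2, ZMod p)).2 = s := e.apply_symm_apply s
    rw [h'] at h
    exact h
  refine ⟨ψ, fun l => ?_, fun s hs' => ?_, hσψ⟩
  · obtain ⟨x, hx, hxl⟩ : l ∈ Dd.map p1 := by rw [hmap p1 h1s]; exact Subgroup.mem_top l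
    exact ⟨e ⟨x, hx⟩, by
      show p1 ((e.symm (e ⟨x, hx⟩) : Dd) : Γ) = l
      rw [e.symm_apply_apply]
      exact hxl⟩
  · have h := hσψ s
    rw [MonoidHom.mem_ker.1 hs', map_one] at h
    exact (QuotientGroup.eq_one_iff s).1 h.symm

/-- Two noncommuting square roots of `-1` in `SL(2,p)`. -/
theorem exists_quaternion (h5 : 5 ≤ p) :
    ∃ a b : SL(2, ZMod p), a ^ 2 = -1 ∧ b ^ 2 = -1 ∧ (a * b) ^ 2 = -1 := by
  have h2 : (2 : ZMod p) ≠ 0 := by
    intro h
    have : ((2 : ℕ) : ZMod p) = 0 := by simpa using h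
    rw [ZMod.natCast_eq_zero_iff] at this
    have := Nat.le_of_dvd two_pos this
    omega
  obtain ⟨x, y, hxy⟩ := ZMod.sq_add_sq p (-1 : ZMod p)
  refine ⟨PSL2Elements.w, PSL2Elements.mk2 x y y (-x) (by linear_combination -hxy), ?_, ?_, ?_⟩ <;>
    rw [PSL2Elements.sq_eq_neg_one_iff _ h2]
  · simp [PSL2Elements.tr, PSL2Elements.w]
  · simp [PSL2Elements.tr]
  · simp [PSL2Elements.tr, PSL2Elements.mul_apply2, PSL2Elements.w]

lemma not_center (h5 : 5 ≤ p) {a : SL(2, ZMod p)} (h : a ^ 2 = -1) :
    a ∉ Subgroup.center SL(2, ZMod p) := by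
  intro hc
  have h1 : (1 : SL(2, ZMod p)) = -1 := by
    rcases (PSL2Elements.mem_center_iff a).1 hc with rfl | rfl
    · simpa using h
    · rw [neg_one_sq] at h; exact h
  have h2 := congrArg (fun s : SL(2, ZMod p) => s.1 0 0) h1
  simp only [Matrix.SpecialLinearGroup.coe_one, Matrix.SpecialLinearGroup.coe_neg, Matrix.neg_apply,
    Matrix.one_apply_eq] at h2
  have : ((2 : ℕ) : ZMod p) = 0 := by push_cast; linear_combination h2
  rw [ZMod.natCast_eq_zero_iff] at this
  have := Nat.le_of_dvd two_pos this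
  omega

end Cover

/-- In a 2-group with the three elements `a`, `b`, `a b` and a cyclic subgroup of index two, an element
commuting with them lies in the group they generate. -/
lemma two_kill {G : Type*} [Group G] (C : Subgroup G) [IsCyclic C] [Finite C] (Z : Subgroup G)
    (z a b y : G) (hz : ∀ x, x ∈ Z ↔ x = 1 ∨ x = z) (L : Subgroup G) (haL : a ∈ L) (hbL : b ∈ L)
    (ha : a ^ 2 = z) (hb : b ^ 2 = z) (hab : (a * b) ^ 2 = z) (hy : y ^ 2 ∈ Z)
    (haZ : a ∉ Z) (hbZ : b ∉ Z) (habZ : a * b ∉ Z) (hya : Commute y a) (hyb : Commute y b)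
    (hsqa : a ^ 2 ∈ C) (hZL : Z ≤ L)
    (hmul : ∀ u ∈ ({a, b, y} : Set G), ∀ v ∈ ({a, b, y} : Set G), u ∉ C → v ∉ C → u * v ∈ C) :
    y ∈ L := by
  classical
  by_contra hyL
  haveI := Fintype.ofFinite C
  have hzC : z ∈ C := ha ▸ hsqa
  have key : ∀ u v : G, u ∈ C → v ∈ C → u ∉ Z → v ∉ Z → u ^ 2 ∈ Z → v ^ 2 ∈ Z → u⁻¹ * v ∈ Z := by
    intro u v hu hv huZ hvZ hu2 hv2
    have hsq : ∀ w : G, w ∈ C → w ^ 2 = 1 → ∀ w' : G, w' ∈ C → w' ^ 2 = 1 →
        w = 1 ∨ w' = 1 ∨ w = w' := by
      intro w hw hw2 w' hw' hw'2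
      by_contra hne
      push Not at hne
      obtain ⟨h1, h1', h2⟩ := hne
      have hsub : ({⟨1, one_mem C⟩, ⟨w, hw⟩, ⟨w', hw'⟩} : Finset C) ⊆
          Finset.univ.filter (fun c : C => c ^ 2 = 1) := by
        intro c hc
        simp only [Finset.mem_insert, Finset.mem_singleton] at hc
        rcases hc with rfl | rfl | rfl <;> simp [Subtype.ext_iff, hw2, hw'2]
      have hle := (Finset.card_le_card hsub).trans (IsCyclic.card_pow_eq_one_le (α := C) two_pos)
      have h3 : ({⟨1, one_mem C⟩, ⟨w, hw⟩, ⟨w', hw'⟩} : Finset C).card = 3 := by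
        refine Finset.card_eq_three.2 ⟨_, _, _, ?_, ?_, ?_, rfl⟩ <;>
          simp [Subtype.ext_iff, Ne.symm h1, Ne.symm h1', h2]
      omega
    have hu1 : u ≠ 1 := fun h => huZ (h ▸ one_mem Z)
    have hv1 : v ≠ 1 := fun h => hvZ (h ▸ one_mem Z)
    by_cases hz1 : z = 1
    · have hu' : u ^ 2 = 1 := ((hz _).1 hu2).elim id (fun h => h.trans hz1)
      have hv' : v ^ 2 = 1 := ((hz _).1 hv2).elim id (fun h => h.trans hz1)
      rcases hsq u hu hu' v hv hv' with h | h | h
      · exact absurd h hu1
      · exact absurd h hv1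
      · rw [h, inv_mul_cancel]; exact one_mem Z
    · have hz2 : z ^ 2 = 1 := by
        rcases (hz _).1 (pow_mem ((hz z).2 (Or.inr rfl)) 2) with h | h
        · exact h
        · rw [pow_two, mul_eq_left] at h; exact absurd h hz1
      have hinv : ∀ w : G, w ∈ C → w ∉ Z → w ^ 2 ∈ Z → w ^ 2 = z := by
        intro w hw hwZ hw2
        rcases (hz _).1 hw2 with h | h
        · rcases hsq w hw h z hzC hz2 with e | e | e
          · exact absurd (e ▸ one_mem Z) hwZ
          · exact absurd e hz1
          · exact absurd ((hz w).2 (Or.inr e)) hwZ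
        · exact h
      have hcomm : Commute u⁻¹ v := by
        letI := IsCyclic.commGroup (α := C)
        exact congrArg Subtype.val (mul_comm (⟨u⁻¹, inv_mem hu⟩ : C) ⟨v, hv⟩)
      have h : (u⁻¹ * v) ^ 2 = 1 := by
        rw [hcomm.mul_pow, inv_pow, hinv u hu huZ hu2, hinv v hv hvZ hv2, inv_mul_cancel]
      rcases hsq _ (mul_mem (inv_mem hu) hv) h z hzC hz2 with e | e | e
      · exact e ▸ one_mem Z
      · exact absurd e hz1
      · exact (hz _).2 (Or.inr e)
  have hzZ : z ∈ Z := (hz z).2 (Or.inr rfl)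
  have ma : a ∈ ({a, b, y} : Set G) := by simp
  have mb : b ∈ ({a, b, y} : Set G) := by simp
  have my : y ∈ ({a, b, y} : Set G) := by simp
  have fin : ∀ c d : G, c ∈ C → c ∉ Z → c ^ 2 ∈ Z → c ∈ L → d ∉ C → d ∈ L → d ^ 2 ∈ Z → d ∉ Z →
      Commute y d → d ∈ ({a, b, y} : Set G) → False := by
    intro c d hcC hcZ hc2 hcL hdC hdL hd2 hdZ hyd hd
    by_cases hyC : y ∈ C
    · have := key c y hcC hyC hcZ (fun h => hyL (hZL h)) hc2 hy
      exact hyL (by simpa using mul_mem hcL (hZL this))
    · have h1 := hmul y my d hd hyC hdC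
      have h2 : y * d ∉ Z := fun h => hyL ((Subgroup.mul_mem_cancel_right L hdL).1 (hZL h))
      have := key c (y * d) hcC h1 hcZ h2 hc2 (by rw [hyd.mul_pow]; exact mul_mem hy hd2)
      exact hyL ((Subgroup.mul_mem_cancel_right L hdL).1 (by simpa using mul_mem hcL (hZL this)))
  have a2 : a ^ 2 ∈ Z := ha ▸ hzZ
  have b2 : b ^ 2 ∈ Z := hb ▸ hzZ
  by_cases haC : a ∈ C
  · by_cases hbC : b ∈ C
    · have h := key a b haC hbC haZ hbZ a2 b2
      have : a * b ∈ Z := by
        have h' : a * b = a ^ 2 * (a⁻¹ * b) := by group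
        rw [h']; exact mul_mem a2 h
      exact habZ this
    · exact fin a b haC haZ a2 haL hbC hbL b2 hbZ hyb mb
  · by_cases hbC : b ∈ C
    · exact fin b a hbC hbZ b2 hbL haC haL a2 haZ hya ma
    · exact fin (a * b) a (hmul a ma b mb haC hbC) habZ (hab ▸ hzZ) (mul_mem haL hbL) haC haL a2 haZ hya ma

/-- The structure of the perfect residual. -/
theorem residual {L : Type u} [Group L] [Finite L] [Nontrivial L] [Group.IsPerfect L]
    (hodd : OddCyclic L) (h2 : TwoSmall L) {m : ℕ} (hm : Nat.card L < m) (hs : SimpleBelow.{u} m) :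
    ∃ (p : ℕ) (_ : Fact p.Prime) (ψ : SL(2, ZMod p) →* L), 5 ≤ p ∧ Function.Surjective ψ ∧
      ψ.ker ≤ Subgroup.center SL(2, ZMod p) := by
  classical
  obtain ⟨M, -, ⟨hMn, hMt⟩, hMmax⟩ :=
    Set.Finite.exists_le_maximal (s := {M : Subgroup L | M.Normal ∧ M ≠ ⊤}) (Set.toFinite _) (a := ⊥)
      ⟨inferInstance, bot_ne_top⟩
  haveI := hMn
  haveI : Nontrivial (L ⧸ M) := by
    rw [← not_subsingleton_iff_nontrivial]
    intro h
    exact hMt ((QuotientGroup.subgroup_eq_top_of_subsingleton M) h)
  haveI : IsSimpleGroup (L ⧸ M) := by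
    refine ⟨fun N hN => ?_⟩
    have hle : M ≤ N.comap (QuotientGroup.mk' M) := by
      intro x hx
      rw [Subgroup.mem_comap, QuotientGroup.mk'_apply, (QuotientGroup.eq_one_iff x).2 hx]
      exact one_mem N
    by_cases ht : N.comap (QuotientGroup.mk' M) = ⊤
    · right
      rw [← Subgroup.map_comap_eq_self_of_surjective (QuotientGroup.mk'_surjective M) N, ht,
        Subgroup.map_top_of_surjective _ (QuotientGroup.mk'_surjective M)]
    · left
      have h := hMmax ⟨hN.comap _, ht⟩ hle
      rw [← Subgroup.map_comap_eq_self_of_surjective (QuotientGroup.mk'_surjective M) N,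
        le_antisymm h hle]
      exact QuotientGroup.map_mk'_self M
  have hnc : ∃ a b : L ⧸ M, a * b ≠ b * a := by
    by_contra h
    push Not at h
    obtain ⟨q, hq⟩ := exists_ne (1 : L ⧸ M)
    obtain ⟨l, rfl⟩ := QuotientGroup.mk_surjective q
    exact hq (hom_trivial (QuotientGroup.mk' M) h l)
  have hle : Nat.card (L ⧸ M) ≤ Nat.card L :=
    Nat.card_le_card_of_surjective _ (QuotientGroup.mk'_surjective M)
  obtain ⟨p, hp, h5, ⟨e⟩⟩ := hs (L ⧸ M) inferInstance hnc
    (oddCyclic_surj _ (QuotientGroup.mk'_surjective M) hodd)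
    (twoSmall_surj _ (QuotientGroup.mk'_surjective M) h2) (lt_of_le_of_lt hle hm)
  haveI := hp
  let σ : L →* Matrix.ProjectiveSpecialLinearGroup (Fin 2) (ZMod p) :=
    e.toMonoidHom.comp (QuotientGroup.mk' M)
  have hσs : Function.Surjective σ := e.surjective.comp (QuotientGroup.mk'_surjective M)
  have hσk : σ.ker = M := by
    ext l
    simp [σ]
  -- the kernel has cyclic Sylow subgroups
  haveI : IsZGroup M := by
    refine ⟨fun q hq P => ?_⟩
    haveI : Fact q.Prime := ⟨hq⟩
    by_cases hq2 : q = 2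
    · subst hq2
      obtain ⟨S, hS⟩ := (P.isPGroup'.map M.subtype).exists_le_sylow
      obtain ⟨C, hCS, hC, hsq, hmul⟩ := two_data h2 _ S.isPGroup'
      haveI := hC
      by_cases hPC : (P : Subgroup M).map M.subtype ≤ C
      · haveI : IsCyclic ((P : Subgroup M).map M.subtype) :=
          isCyclic_of_injective (Subgroup.inclusion hPC) (Subgroup.inclusion_injective hPC)
        exact isCyclic_of_injective
          ((P : Subgroup M).equivMapOfInjective M.subtype M.subtype_injective).toMonoidHom
          ((P : Subgroup M).equivMapOfInjective M.subtype M.subtype_injective).injective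
      · exfalso
        obtain ⟨u, hu, huC⟩ := SetLike.not_le_iff_exists.1 hPC
        have huM : u ∈ M := Subgroup.map_subtype_le _ hu
        have himg : (S : Subgroup L).map σ ≤ C.map σ := by
          rintro _ ⟨s, hs', rfl⟩
          by_cases hsC : s ∈ C
          · exact ⟨s, hsC, rfl⟩
          · refine ⟨u * s, hmul u (hS hu) s hs' huC hsC, ?_⟩
            rw [map_mul, (MonoidHom.mem_ker).1 (hσk.ge huM), one_mul]
        haveI : IsCyclic (C.map σ) := isCyclic_of_surjective _ (σ.subgroupMap_surjective C)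
        haveI : IsCyclic ((S : Subgroup L).map σ) :=
          isCyclic_of_injective (Subgroup.inclusion himg) (Subgroup.inclusion_injective himg)
        let T := S.mapSurjective hσs
        obtain ⟨a, b, ha, hb, hab⟩ := exists_quaternion (p := p) h5
        set A : Matrix.ProjectiveSpecialLinearGroup (Fin 2) (ZMod p) := QuotientGroup.mk a with hA
        set B : Matrix.ProjectiveSpecialLinearGroup (Fin 2) (ZMod p) := QuotientGroup.mk b with hB
        have hm1 : ((-1 : SL(2, ZMod p)) : Matrix.ProjectiveSpecialLinearGroup (Fin 2) (ZMod p)) = 1 :=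
          (QuotientGroup.eq_one_iff _).2 ((PSL2Elements.mem_center_iff _).2 (Or.inr rfl))
        have hA2 : A ^ 2 = 1 := by rw [hA, ← QuotientGroup.mk_pow, ha]; exact hm1
        have hB2 : B ^ 2 = 1 := by rw [hB, ← QuotientGroup.mk_pow, hb]; exact hm1
        have hAB2 : (A * B) ^ 2 = 1 := by
          rw [hA, hB, ← QuotientGroup.mk_mul, ← QuotientGroup.mk_pow, hab]; exact hm1
        have hA1 : A ≠ 1 := fun h => not_center h5 ha ((QuotientGroup.eq_one_iff _).1 h)
        have hB1 : B ≠ 1 := fun h => not_center h5 hb ((QuotientGroup.eq_one_iff _).1 h)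
        have hAB1 : A * B ≠ 1 := fun h => not_center h5 hab ((QuotientGroup.eq_one_iff _).1 h)
        have hc : Commute A B := by
          show A * B = B * A
          have h1 : A⁻¹ = A := inv_eq_of_mul_eq_one_left (by rw [← pow_two]; exact hA2)
          have h2' : B⁻¹ = B := inv_eq_of_mul_eq_one_left (by rw [← pow_two]; exact hB2)
          have h3 : (A * B)⁻¹ = A * B := inv_eq_of_mul_eq_one_left (by rw [← pow_two]; exact hAB2)
          rw [mul_inv_rev, h1, h2'] at h3
          exact h3.symm
        have hE : IsPGroup 2 (Subgroup.zpowers A ⊔ Subgroup.zpowers B : Subgroup _) := by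
          refine IsPGroup.to_sup_of_normal_right' ?_ ?_ ?_
          · exact IsPGroup.of_card (n := 1) (by rw [Nat.card_zpowers, orderOf_eq_prime hA2 hA1, pow_one])
          · exact IsPGroup.of_card (n := 1) (by rw [Nat.card_zpowers, orderOf_eq_prime hB2 hB1, pow_one])
          · rw [Subgroup.zpowers_le, Subgroup.mem_normalizer_iff]
            intro x
            constructor
            · rintro ⟨k, rfl⟩
              exact ⟨k, by simp only; rw [(hc.zpow_right k).eq, mul_inv_cancel_right]⟩
            · rintro ⟨k, hk⟩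
              refine ⟨k, ?_⟩
              simp only at hk ⊢
              rw [eq_mul_inv_iff_mul_eq, ← (hc.zpow_right k).eq] at hk
              exact mul_left_cancel hk
        obtain ⟨R, hR⟩ := hE.exists_le_sylow
        obtain ⟨g, hg⟩ := MulAction.exists_smul_eq (Matrix.ProjectiveSpecialLinearGroup (Fin 2) (ZMod p)) T R
        rw [← hg] at hR
        haveI : IsCyclic (T : Subgroup (Matrix.ProjectiveSpecialLinearGroup (Fin 2) (ZMod p))) := ‹IsCyclic ((S : Subgroup L).map σ)›
        haveI : IsCyclic ↥((g • T : Sylow 2 _) : Subgroup _) :=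
          isCyclic_of_surjective (T.equiv (g • T)).toMonoidHom (T.equiv (g • T)).surjective
        set E := ((g • T : Sylow 2 _) : Subgroup (Matrix.ProjectiveSpecialLinearGroup (Fin 2) (ZMod p)))
        haveI := Fintype.ofFinite E
        have hsub : ({1, ⟨A, hR (Subgroup.mem_sup_left (Subgroup.mem_zpowers A))⟩,
            ⟨B, hR (Subgroup.mem_sup_right (Subgroup.mem_zpowers B))⟩} : Finset E) ⊆
            Finset.univ.filter (fun c : E => c ^ 2 = 1) := by
          intro c hc'
          simp only [Finset.mem_insert, Finset.mem_singleton] at hc'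
          rcases hc' with rfl | rfl | rfl <;> simp [Subtype.ext_iff, hA2, hB2]
        have hle3 := (Finset.card_le_card hsub).trans (IsCyclic.card_pow_eq_one_le (α := E) two_pos)
        have hne : A ≠ B := fun h => hAB1 (by rw [h, ← pow_two, hB2])
        rw [Finset.card_eq_three.2 ⟨_, _, _, by simp [Subtype.ext_iff, hA1.symm],
          by simp [Subtype.ext_iff, hB1.symm], by simp [Subtype.ext_iff, hne], rfl⟩] at hle3
        omega
    · haveI := cyclic_of_pgroup hq hodd hq2 ((P : Subgroup M).map M.subtype) (P.isPGroup'.map _)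
      exact isCyclic_of_injective
        ((P : Subgroup M).equivMapOfInjective M.subtype M.subtype_injective).toMonoidHom
        ((P : Subgroup M).equivMapOfInjective M.subtype M.subtype_injective).injective
  obtain ⟨ψ, hψs, hψk, -⟩ := exists_cover h5 σ hσs (hσk.le.trans (zgroup_central M))
  exact ⟨p, hp, ψ, h5, hψs, hψk⟩

/-- The reduction to simple groups. -/
theorem assembly : Assembly.{u} := by
  intro G _ _ hs hns hodd h2
  classical
  obtain ⟨L, hLc, hLp, hLb⟩ := exists_perfect hns
  haveI := hLc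
  haveI := hLp
  haveI : Nontrivial L := (Subgroup.nontrivial_iff_ne_bot L).2 hLb
  obtain ⟨p, hp, ψ, h5, hψs, hψk⟩ := residual (oddCyclic_subgroup hodd L) (twoSmall_subgroup h2 L)
    (Nat.lt_succ_of_le (Subgroup.card_le_card_group L)) hs
  haveI := hp
  haveI : Finite SL(2, ZMod p) := inferInstance
  -- the centre of `L`
  let Z : Subgroup G := (Subgroup.center L).map L.subtype
  let z : G := (ψ (-1) : L)
  have hψc : (Subgroup.center L) = (Subgroup.center SL(2, ZMod p)).map ψ := by
    refine le_antisymm ?_ ?_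
    · intro x hx
      obtain ⟨s, rfl⟩ := hψs x
      refine ⟨s, ?_, rfl⟩
      -- `s` acts trivially modulo the kernel, hence is central by perfectness
      haveI : Group.IsPerfect SL(2, ZMod p) :=
        ⟨PSLSimple.commutator_SL_fin_eq_top le_rfl fun _ =>
          PSLSimple.exists_sq_ne_one (by rw [Nat.card_zmod]; omega)⟩
      have hin : ∀ t, ⁅t, s⁆ ∈ ψ.ker := fun t => by
        rw [MonoidHom.mem_ker, map_commutatorElement, commutatorElement_eq_one_iff_mul_comm]
        exact Subgroup.mem_center_iff.1 hx _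
      let φ : SL(2, ZMod p) →* ψ.ker :=
        { toFun := fun t => ⟨⁅t, s⁆, hin t⟩
          map_one' := Subtype.ext (by simp [commutatorElement_def])
          map_mul' := fun a b => Subtype.ext (by
            have h := Subgroup.mem_center_iff.1 (hψk (hin b)) a
            have h' := Subgroup.mem_center_iff.1 (hψk (hin b)) ⁅a, s⁆
            simp only [Subgroup.coe_mul, commutatorElement_def] at h h' ⊢
            calc a * b * s * (a * b)⁻¹ * s⁻¹ = a * (b * s * b⁻¹ * s⁻¹) * (s * a⁻¹ * s⁻¹) := by group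
              _ = (b * s * b⁻¹ * s⁻¹) * a * (s * a⁻¹ * s⁻¹) := by rw [h]
              _ = (b * s * b⁻¹ * s⁻¹) * (a * s * a⁻¹ * s⁻¹) := by group
              _ = (a * s * a⁻¹ * s⁻¹) * (b * s * b⁻¹ * s⁻¹) := h'.symm) }
      rw [SetLike.mem_coe, Subgroup.mem_center_iff]
      intro t
      have h' : ⁅t, s⁆ = (1 : SL(2, ZMod p)) := congrArg Subtype.val (hom_trivial φ (fun a b =>
        Subtype.ext (Subgroup.mem_center_iff.1 (hψk b.2) _)) t)
      exact commutatorElement_eq_one_iff_mul_comm.1 h'
    · rintro _ ⟨s, hs', rfl⟩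
      rw [Subgroup.mem_center_iff]
      intro x
      obtain ⟨t, rfl⟩ := hψs x
      rw [← map_mul, ← map_mul, Subgroup.mem_center_iff.1 hs' t]
  have hz : ∀ x, x ∈ Z ↔ x = 1 ∨ x = z := by
    intro x
    show x ∈ (Subgroup.center L).map L.subtype ↔ _
    rw [hψc, Subgroup.map_map]
    constructor
    · rintro ⟨s, hs', rfl⟩
      rcases (PSL2Elements.mem_center_iff s).1 hs' with rfl | rfl
      · left; simp
      · right; rfl
    · rintro (rfl | rfl)
      · exact one_mem _
      · exact ⟨-1, (PSL2Elements.mem_center_iff _).2 (Or.inr rfl), rfl⟩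
  obtain ⟨a₀, b₀, ha₀, hb₀, hab₀⟩ := exists_quaternion (p := p) h5
  have hnot : ∀ s : SL(2, ZMod p), s ^ 2 = -1 → ((ψ s : L) : G) ∉ Z := by
    intro s hs' h
    obtain ⟨y, hy, e⟩ := h
    rw [hψc] at hy
    obtain ⟨c, hc, rfl⟩ := hy
    have h1 : c⁻¹ * s ∈ ψ.ker := by
      rw [MonoidHom.mem_ker, map_mul, map_inv, Subtype.ext e, inv_mul_cancel]
    exact not_center h5 hs' ((Subgroup.mul_mem_cancel_left _ (inv_mem hc)).1 (hψk h1))
  -- the centraliser of `L`
  set K : Subgroup G := Subgroup.centralizer (L : Set G) with hK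
  haveI : K.Normal := Subgroup.normal_centralizer
  have hKL : ∀ x, x ∈ K → x ∈ L → x ∈ Z := fun x hxK hxL => by
    refine ⟨⟨x, hxL⟩, ?_, rfl⟩
    rw [SetLike.mem_coe, Subgroup.mem_center_iff]
    exact fun y => Subtype.ext (hxK (y : G) y.2)
  have hZL : Z ≤ L := Subgroup.map_subtype_le _
  have hZK : Z ≤ K := by
    rintro _ ⟨c, hc, rfl⟩ l hl
    exact congrArg Subtype.val (Subgroup.mem_center_iff.1 hc (⟨l, hl⟩ : L))
  -- 2-elements of `K`
  have htwo : ∀ k, ∀ y ∈ K, y ^ 2 ^ k = 1 → y ∈ Z := by
    intro k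
    induction k with
    | zero =>
      intro y _ hy
      rw [pow_zero, pow_one] at hy
      exact hy ▸ one_mem Z
    | succ k ih =>
      intro y hyK hy
      have hy2 : y ^ 2 ∈ Z := ih _ (pow_mem hyK 2) (by rw [← pow_mul, ← pow_succ']; exact hy)
      refine hKL y hyK ?_
      set a : G := ((ψ a₀ : L) : G) with hadef
      set b : G := ((ψ b₀ : L) : G) with hbdef
      have ea : a ^ 2 = z := by
        rw [hadef, ← Subgroup.coe_pow, ← map_pow, ha₀]
      have eb : b ^ 2 = z := by
        rw [hbdef, ← Subgroup.coe_pow, ← map_pow, hb₀]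
      have eab : (a * b) ^ 2 = z := by
        rw [hadef, hbdef, ← Subgroup.coe_mul, ← map_mul, ← Subgroup.coe_pow, ← map_pow, hab₀]
      have hya : Commute y a := (hyK a (ψ a₀ : L).2).symm
      have hyb : Commute y b := (hyK b (ψ b₀ : L).2).symm
      have hzc : ∀ l ∈ L, z * l = l * z := fun l hl => by
        have := hZK ((hz z).2 (Or.inr rfl)) l hl
        exact this.symm
      have hz2 : z ^ 2 = 1 := by
        show ((ψ (-1) : L) : G) ^ 2 = 1
        rw [← Subgroup.coe_pow, ← map_pow, neg_one_sq, map_one, Subgroup.coe_one]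
      have hba : b * a = z * (a * b) := by
        have hinv : ∀ w : G, w ^ 2 = z → w⁻¹ = w * z := fun w hw =>
          inv_eq_of_mul_eq_one_right (by rw [← mul_assoc, ← pow_two, hw, ← pow_two, hz2])
        have hza : z * a = a * z := hzc a (ψ a₀ : L).2
        calc b * a = b * (z * z) * a := by rw [← pow_two z, hz2, mul_one]
          _ = b * z * (z * a) := by simp only [mul_assoc]
          _ = b * z * (a * z) := by rw [hza]
          _ = b⁻¹ * a⁻¹ := by rw [hinv a ea, hinv b eb]
          _ = (a * b)⁻¹ := (mul_inv_rev a b).symm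
          _ = a * b * z := hinv _ eab
          _ = z * (a * b) := (hzc _ (mul_mem (ψ a₀ : L).2 (ψ b₀ : L).2)).symm
      -- the 2-group they generate
      have hE : IsPGroup 2 (Subgroup.zpowers a ⊔ Subgroup.zpowers b ⊔ Subgroup.zpowers y : Subgroup G) := by
        have hp2 : ∀ w : G, (∃ j, w ^ 2 ^ j = 1) → IsPGroup 2 (Subgroup.zpowers w) := by
          rintro w ⟨j, hj⟩ ⟨_, i, rfl⟩
          refine ⟨j, Subtype.ext ?_⟩
          show (w ^ i) ^ 2 ^ j = 1
          rw [← zpow_natCast, zpow_comm, zpow_natCast, hj, one_zpow]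
        have h4a : a ^ 2 ^ 2 = 1 := by rw [show 2 ^ 2 = 2 * 2 by norm_num, pow_mul, ea, hz2]
        have h4b : b ^ 2 ^ 2 = 1 := by rw [show 2 ^ 2 = 2 * 2 by norm_num, pow_mul, eb, hz2]
        refine IsPGroup.to_sup_of_normal_right' ?_ (hp2 y ⟨k + 1, hy⟩) ?_
        · refine IsPGroup.to_sup_of_normal_left' (hp2 a ⟨2, h4a⟩) (hp2 b ⟨2, h4b⟩) ?_
          rw [Subgroup.zpowers_le]
          have hbab : b * a * b⁻¹ = a ^ 3 := by
            rw [hba, show a ^ 3 = a ^ 2 * a by rw [pow_succ], ea]; group
          rw [Subgroup.mem_normalizer_iff]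
          intro x
          constructor
          · rintro ⟨i, rfl⟩
            refine ⟨3 * i, ?_⟩
            simp only
            rw [← conj_zpow, hbab, zpow_mul]
            norm_num
          · rintro ⟨i, hi⟩
            refine ⟨3 * i, ?_⟩
            simp only at hi ⊢
            have : x = b⁻¹ * a ^ i * b := by rw [hi]; group
            rw [this]
            have hb' : b⁻¹ * a * b = a ^ 3 := by
              calc b⁻¹ * a * b = b⁻¹ * (b⁻¹ * (b * a * b⁻¹) * b) * b := by group
                _ = (b ^ 2)⁻¹ * a ^ 3 * b ^ 2 := by rw [hbab, pow_two b, mul_inv_rev]; simp only [mul_assoc]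
                _ = a ^ 3 := by rw [eb, mul_assoc, ← hzc (a ^ 3) (pow_mem (ψ a₀ : L).2 3), inv_mul_cancel_left]
            have h' := conj_zpow (a := b⁻¹) (b := a) (i := i)
            rw [inv_inv] at h'
            rw [← h', hb', zpow_mul]
            norm_num
        · refine le_trans ?_ (Subgroup.centralizer_le_normalizer _)
          rw [sup_le_iff, Subgroup.zpowers_le, Subgroup.zpowers_le]
          refine ⟨?_, ?_⟩ <;> rintro _ ⟨i, rfl⟩
          · exact (hya.zpow_left i)
          · exact (hyb.zpow_left i)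
      obtain ⟨C, hCH, hC, hsq, hmul⟩ := two_data h2 _ hE
      haveI := hC
      have ma : a ∈ Subgroup.zpowers a ⊔ Subgroup.zpowers b ⊔ Subgroup.zpowers y :=
        Subgroup.mem_sup_left (Subgroup.mem_sup_left (Subgroup.mem_zpowers a))
      have mb : b ∈ Subgroup.zpowers a ⊔ Subgroup.zpowers b ⊔ Subgroup.zpowers y :=
        Subgroup.mem_sup_left (Subgroup.mem_sup_right (Subgroup.mem_zpowers b))
      have my : y ∈ Subgroup.zpowers a ⊔ Subgroup.zpowers b ⊔ Subgroup.zpowers y :=
        Subgroup.mem_sup_right (Subgroup.mem_zpowers y)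
      refine two_kill C Z z a b y hz L (ψ a₀ : L).2 (ψ b₀ : L).2 ea eb eab hy2 (hnot a₀ ha₀)
        (hnot b₀ hb₀) ?_ hya hyb (hsq a ma) hZL ?_
      · rw [hadef, hbdef, ← Subgroup.coe_mul, ← map_mul]
        exact hnot _ hab₀
      · intro u hu v hv
        refine hmul u ?_ v ?_
        · rcases hu with rfl | rfl | rfl <;> assumption
        · rcases hv with rfl | rfl | rfl <;> assumption
  -- the Sylow 2-subgroup of `K` is central
  obtain ⟨P⟩ := (inferInstance : Nonempty (Sylow 2 K))
  have hPZ : ∀ x : K, x ∈ (P : Subgroup K) → (x : G) ∈ Z := fun x hx => by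
    obtain ⟨j, hj⟩ := P.isPGroup' ⟨x, hx⟩
    exact htwo j _ x.2 (by simpa [Subtype.ext_iff] using hj)
  have hPc : Subgroup.normalizer ((P : Subgroup K) : Set K) ≤
      Subgroup.centralizer ((P : Subgroup K) : Set K) := by
    intro n _ x hx
    exact Subtype.ext (n.2 (x : G) (hZL (hPZ x hx)))
  set X₀ := (MonoidHom.transferSylow P hPc).ker
  have hX₀ : Subgroup.IsComplement' X₀ (P : Subgroup K) :=
    MonoidHom.ker_transferSylow_isComplement' P hPc
  have hX₀odd : Odd (Nat.card X₀) := by
    rw [Nat.odd_iff]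
    have h := hX₀.index_eq_card
    have := P.not_dvd_index
    rw [h] at this
    omega
  set X : Subgroup G := X₀.map K.subtype
  have hXcard : Nat.card X = Nat.card X₀ := Subgroup.card_map_of_injective K.subtype_injective
  have hXodd : Odd (Nat.card X) := hXcard ▸ hX₀odd
  have hXK : X ≤ K := Subgroup.map_subtype_le _
  have hoddmem : ∀ x : K, Odd (orderOf x) → x ∈ X₀ := by
    intro x hx
    rw [MonoidHom.mem_ker]
    obtain ⟨j, hj⟩ := P.isPGroup' (MonoidHom.transferSylow P hPc x)
    have h1 : orderOf (MonoidHom.transferSylow P hPc x) ∣ orderOf x := orderOf_map_dvd _ x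
    have h2' : orderOf (MonoidHom.transferSylow P hPc x) ∣ 2 ^ j := orderOf_dvd_of_pow_eq_one hj
    have hco : Nat.Coprime (orderOf x) (2 ^ j) :=
      Nat.Coprime.pow_right _ ((Nat.prime_two.coprime_iff_not_dvd.2 (fun h => by
        rw [Nat.odd_iff] at hx; omega)).symm)
    exact orderOf_eq_one_iff.1 (Nat.eq_one_of_dvd_coprimes hco h1 h2')
  haveI hXn : X.Normal := by
    refine ⟨fun x hx g => ?_⟩
    obtain ⟨x', hx', rfl⟩ := hx
    refine ⟨⟨g * x' * g⁻¹, ‹K.Normal›.conj_mem _ x'.2 g⟩, hoddmem _ ?_, rfl⟩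
    rw [← Subgroup.orderOf_coe]
    show Odd (orderOf (g * (x' : G) * g⁻¹))
    rw [← MulAut.conj_apply, MulEquiv.orderOf_eq, Subgroup.orderOf_coe,
      ← Subgroup.orderOf_mk x' hx']
    exact Odd.of_dvd_nat hX₀odd (orderOf_dvd_natCard _)
  have hXL1 : X ⊓ L = ⊥ := by
    rw [eq_bot_iff]
    rintro x ⟨hxX, hxL⟩
    rcases (hz x).1 (hKL x (hXK hxX) hxL) with h | h
    · exact h ▸ one_mem _
    · rw [Subgroup.mem_bot]
      have h1 : orderOf x ∣ Nat.card X := Subgroup.orderOf_dvd_natCard _ hxX
      have h2' : x ^ 2 = 1 := by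
        rw [h]
        show ((ψ (-1) : L) : G) ^ 2 = 1
        rw [← Subgroup.coe_pow, ← map_pow, neg_one_sq, map_one, Subgroup.coe_one]
      exact orderOf_eq_one_iff.1 (Nat.eq_one_of_dvd_coprimes
        ((Nat.prime_two.coprime_iff_not_dvd.2 (fun h' => by rw [Nat.odd_iff] at hXodd; omega)).symm)
        h1 (orderOf_dvd_of_pow_eq_one h2'))
  have hcop : (Nat.card X).Coprime (Nat.card L) := by
    refine Nat.coprime_of_dvd fun r hr hrX hrL => ?_
    haveI : Fact r.Prime := ⟨hr⟩
    have hr2 : r ≠ 2 := by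
      rintro rfl
      rw [Nat.odd_iff] at hXodd
      omega
    obtain ⟨x, hx⟩ := exists_prime_orderOf_dvd_card' (G := X) r hrX
    obtain ⟨l, hl⟩ := exists_prime_orderOf_dvd_card' (G := L) r hrL
    rw [← Subgroup.orderOf_coe] at hx hl
    have hc : Commute (x : G) (l : G) := ((hXK x.2) (l : G) l.2).symm
    have hE : IsPGroup r (Subgroup.zpowers (x : G) ⊔ Subgroup.zpowers (l : G) : Subgroup G) := by
      refine IsPGroup.to_sup_of_normal_right' ?_ ?_ ?_
      · exact IsPGroup.of_card (n := 1) (by rw [Nat.card_zpowers, hx, pow_one])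
      · exact IsPGroup.of_card (n := 1) (by rw [Nat.card_zpowers, hl, pow_one])
      · refine le_trans ?_ (Subgroup.centralizer_le_normalizer _)
        rw [Subgroup.zpowers_le]
        rintro _ ⟨i, rfl⟩
        exact (hc.zpow_right i).symm
    haveI := cyclic_of_pgroup hr hodd hr2 _ hE
    set E : Subgroup G := Subgroup.zpowers (x : G) ⊔ Subgroup.zpowers (l : G)
    haveI := Fintype.ofFinite E
    have hxE : (x : G) ∈ E := Subgroup.mem_sup_left (Subgroup.mem_zpowers _)
    have hlE : (l : G) ∈ E := Subgroup.mem_sup_right (Subgroup.mem_zpowers _)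
    have hsub : Finset.univ.filter (fun c : E => (c : G) ∈ Subgroup.zpowers (x : G)) ∪
        {⟨l, hlE⟩} ⊆ Finset.univ.filter (fun c : E => c ^ r = 1) := by
      intro c hc'
      simp only [Finset.mem_union, Finset.mem_filter, Finset.mem_univ, true_and,
        Finset.mem_singleton] at hc' ⊢
      rcases hc' with h | rfl
      · obtain ⟨i, hi⟩ := h
        refine Subtype.ext ?_
        rw [Subgroup.coe_pow, ← hi]
        show ((x : G) ^ i) ^ r = 1
        rw [← zpow_natCast, zpow_comm, zpow_natCast, ← hx, pow_orderOf_eq_one, one_zpow]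
      · exact Subtype.ext (by rw [Subgroup.coe_pow]; exact hl ▸ pow_orderOf_eq_one (l : G))
    have hnot' : (l : G) ∉ Subgroup.zpowers (x : G) := by
      intro h
      have : (l : G) ∈ X ⊓ L := ⟨(Subgroup.zpowers_le.2 x.2) h, l.2⟩
      rw [hXL1, Subgroup.mem_bot] at this
      rw [this, orderOf_one] at hl
      exact hr.ne_one hl.symm
    have hcard : (Finset.univ.filter
        (fun c : E => (c : G) ∈ Subgroup.zpowers (x : G))).card = r := by
      have hle : Subgroup.zpowers (x : G) ≤ E := le_sup_left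
      rw [← hx, ← Nat.card_zpowers, ← Nat.card_congr (Subgroup.subgroupOfEquivOfLe hle).toEquiv,
        Nat.card_eq_fintype_card, Fintype.card_subtype]
      rfl
    have hle := (Finset.card_le_card hsub).trans (IsCyclic.card_pow_eq_one_le (α := E) hr.pos)
    rw [Finset.card_union_of_disjoint (by simp [hnot']), hcard, Finset.card_singleton] at hle
    omega
  -- the index
  let Φ : G →* MulAut L := MulAut.conjNormal
  have hΦk : Φ.ker = K := by
    ext g
    rw [MonoidHom.mem_ker]
    constructor
    · intro h l hl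
      have h' := congrArg (fun α : MulAut L => ((α ⟨l, hl⟩ : L) : G)) h
      simp only [Φ, MulAut.conjNormal_apply, MulAut.one_apply] at h'
      exact (mul_inv_eq_iff_eq_mul.1 h').symm
    · intro h
      refine MulEquiv.ext fun l => Subtype.ext ?_
      simp only [Φ, MulAut.conjNormal_apply, MulAut.one_apply]
      rw [← h (l : G) l.2, mul_inv_cancel_right]
  let res : MulAut L →* MulAut (L ⧸ Subgroup.center L) :=
    { toFun := fun α => QuotientGroup.congr (Subgroup.center L) (Subgroup.center L) α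
        (Subgroup.characteristic_iff_map_eq.1 inferInstance α)
      map_one' := MulEquiv.ext fun x => by
        induction x using QuotientGroup.induction_on
        rfl
      map_mul' := fun a b => MulEquiv.ext fun x => by
        induction x using QuotientGroup.induction_on
        rfl }
  have hres : Function.Injective res := by
    refine (injective_iff_map_eq_one res).2 fun α hα => ?_
    have hm : ∀ l, α l * l⁻¹ ∈ Subgroup.center L := fun l => by
      have h := congrArg (fun β : MulAut (L ⧸ Subgroup.center L) => β (l : L ⧸ Subgroup.center L)) hα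
      simp only [MulAut.one_apply] at h
      change ((α l : L) : L ⧸ Subgroup.center L) = l at h
      exact (QuotientGroup.eq_one_iff _).1 (by simp [h])
    let φ : L →* Subgroup.center L :=
      { toFun := fun l => ⟨α l * l⁻¹, hm l⟩
        map_one' := Subtype.ext (by simp)
        map_mul' := fun a b => Subtype.ext (by
          have h := Subgroup.mem_center_iff.1 (hm b)
          show α (a * b) * (a * b)⁻¹ = α a * a⁻¹ * (α b * b⁻¹)
          rw [map_mul, mul_assoc (α a) a⁻¹, h a⁻¹]
          group) }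
    refine MulEquiv.ext fun l => ?_
    have h := congrArg Subtype.val (hom_trivial φ
      (fun a b => Subtype.ext (Subgroup.mem_center_iff.1 b.2 _)) l)
    exact mul_inv_eq_one.1 h
  -- `L` modulo its centre is the projective group
  let e₀ : Matrix.ProjectiveSpecialLinearGroup (Fin 2) (ZMod p) ≃* L ⧸ Subgroup.center L := by
    refine MulEquiv.ofBijective (QuotientGroup.map (Subgroup.center SL(2, ZMod p))
      (Subgroup.center L) ψ (Subgroup.map_le_iff_le_comap.1 hψc.ge)) ⟨?_, ?_⟩
    · refine (injective_iff_map_eq_one _).2 fun x => ?_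
      induction x using QuotientGroup.induction_on with
      | H s =>
        intro h
        rw [QuotientGroup.map_mk, QuotientGroup.eq_one_iff, hψc] at h
        obtain ⟨c, hc, e⟩ := h
        have h1 : c⁻¹ * s ∈ ψ.ker := by
          rw [MonoidHom.mem_ker, map_mul, map_inv, e, inv_mul_cancel]
        exact (QuotientGroup.eq_one_iff s).2
          ((Subgroup.mul_mem_cancel_left _ (inv_mem hc)).1 (hψk h1))
    · intro x
      induction x using QuotientGroup.induction_on with
      | H l =>
        obtain ⟨s, rfl⟩ := hψs l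
        exact ⟨(s : SL(2, ZMod p) ⧸ _), rfl⟩
  set N : ℕ := Nat.card (L ⧸ Subgroup.center L) with hN
  have hNeq : N = Nat.card (Matrix.ProjectiveSpecialLinearGroup (Fin 2) (ZMod p)) :=
    Nat.card_congr e₀.symm.toEquiv
  have hAut : Nat.card (MulAut (L ⧸ Subgroup.center L)) ≤ 2 * N := by
    rw [hNeq, Nat.card_congr (MulAut.congr e₀.symm).toEquiv,
      AutPSLApi.card_mulAut (p := p) (f := 1) (by rw [ZMod.card, pow_one]) le_rfl le_rfl,
      if_pos rfl, one_mul, one_mul]
    refine le_of_eq_of_le (PSLCard.card_PGL (F := ZMod p) (ι := Fin 2)) ?_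
    rw [PSLCard.card_SL2, ← PSLCard.card_PSL2_mul]
    exact Nat.mul_le_mul_right _ (Nat.le_of_dvd two_pos (Nat.gcd_dvd_left _ _))
  set G₀ : Subgroup G := X ⊔ L with hG₀
  have hKX : K ⊔ L = G₀ := by
    refine le_antisymm (sup_le ?_ le_sup_right) (sup_le_sup_right hXK L)
    intro x hx
    obtain ⟨⟨u, v⟩, huv, -⟩ := (Subgroup.isComplement'_def.1 hX₀).existsUnique (⟨x, hx⟩ : K)
    have := congrArg Subtype.val huv
    simp only [Subgroup.coe_mul] at this
    rw [← this]
    exact Subgroup.mul_mem_sup ⟨_, u.2, rfl⟩ (hZL (hPZ _ v.2))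
  haveI hG₀n : G₀.Normal := Subgroup.sup_normal X L
  have hidx : G₀.index ∣ 2 := by
    have h1 : K.index ≤ 2 * N := by
      rw [← hΦk, Subgroup.index_ker]
      refine le_trans ?_ hAut
      exact Nat.card_le_card_of_injective (fun x => res x.1) (hres.comp Subtype.val_injective)
    have h2' : K.relIndex G₀ = N := by
      rw [← hKX, sup_comm, Subgroup.relIndex_sup_right, hN, ← Subgroup.index_eq_card]
      show (K.subgroupOf L).index = _
      congr 1
      ext l
      constructor
      · intro h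
        rw [Subgroup.mem_center_iff]
        exact fun y => Subtype.ext (h (y : G) y.2)
      · intro h y hy
        exact congrArg Subtype.val (Subgroup.mem_center_iff.1 h ⟨y, hy⟩)
    have h3 := Subgroup.relIndex_mul_index (H := K) (K := G₀) (hKX ▸ le_sup_left)
    rw [h2'] at h3
    have h4 : G₀.index ≤ 2 := Nat.le_of_mul_le_mul_left
      (by rw [h3, mul_comm N 2]; exact h1) (Nat.card_pos (α := L ⧸ Subgroup.center L))
    have h5' : G₀.index ≠ 0 := Subgroup.index_ne_zero_of_finite
    rcases (show G₀.index = 1 ∨ G₀.index = 2 by omega) with e | e <;> rw [e]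
    exact one_dvd 2
  have hXle : X ≤ G₀ := le_sup_left
  have hLle : L ≤ G₀ := le_sup_right
  refine ⟨G₀, hG₀n, hidx, X.subgroupOf G₀, L.subgroupOf G₀, inferInstance, inferInstance, ?_, ?_, ?_, ?_, ?_,
    p, hp, h5, ?_⟩
  · rw [eq_bot_iff]
    rintro x ⟨h1, h2'⟩
    have : (x : G) ∈ X ⊓ L := ⟨h1, h2'⟩
    rw [hXL1, Subgroup.mem_bot] at this
    exact Subtype.ext this
  · rw [← Subgroup.subgroupOf_sup hXle hLle, Subgroup.subgroupOf_self]
  · rwa [Nat.card_congr (Subgroup.subgroupOfEquivOfLe hXle).toEquiv,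
      Nat.card_congr (Subgroup.subgroupOfEquivOfLe hLle).toEquiv]
  · rwa [Nat.card_congr (Subgroup.subgroupOfEquivOfLe hXle).toEquiv]
  · have hzg : IsZGroup X := ⟨fun q hq Q => by
      haveI : Fact q.Prime := ⟨hq⟩
      by_cases hq2 : q = 2
      · subst hq2
        obtain ⟨j, hj⟩ := IsPGroup.iff_card.1 Q.isPGroup'
        rcases Nat.eq_zero_or_pos j with rfl | hj0
        · haveI : Subsingleton (Q : Subgroup X) :=
            (Nat.card_eq_one_iff_unique.1 (by rw [hj, pow_zero])).1
          infer_instance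
        · exfalso
          have : 2 ∣ Nat.card X := (dvd_pow_self 2 hj0.ne').trans (hj ▸ Subgroup.card_subgroup_dvd_card _)
          rw [Nat.odd_iff] at hXodd
          omega
      · haveI := cyclic_of_pgroup hq hodd hq2 ((Q : Subgroup X).map X.subtype) (Q.isPGroup'.map _)
        exact isCyclic_of_injective
          ((Q : Subgroup X).equivMapOfInjective X.subtype X.subtype_injective).toMonoidHom
          ((Q : Subgroup X).equivMapOfInjective X.subtype X.subtype_injective).injective⟩
    haveI : IsZGroup (X.subgroupOf G₀) :=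
      IsZGroup.of_injective (f := (Subgroup.subgroupOfEquivOfLe hXle).toMonoidHom)
        (Subgroup.subgroupOfEquivOfLe hXle).injective
    exact ⟨commutator _, inferInstance, IsZGroup.isCyclic_commutator _, IsZGroup.isCyclic_abelianization⟩
  · by_cases hk : ψ (-1) = 1
    · left
      have hbot : Subgroup.center L = ⊥ := by
        rw [eq_bot_iff, hψc]
        rintro _ ⟨s, hs', rfl⟩
        rcases (PSL2Elements.mem_center_iff s).1 hs' with rfl | rfl <;> simp [hk]
      exact ⟨(Subgroup.subgroupOfEquivOfLe hLle).trans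
        ((QuotientGroup.quotientBot.symm.trans (QuotientGroup.quotientMulEquivOfEq hbot.symm)).trans e₀.symm)⟩
    · right
      have hinj : Function.Injective ψ := by
        refine (injective_iff_map_eq_one ψ).2 fun s hs' => ?_
        rcases (PSL2Elements.mem_center_iff s).1 (hψk (MonoidHom.mem_ker.2 hs')) with rfl | rfl
        · rfl
        · exact absurd hs' hk
      exact ⟨(Subgroup.subgroupOfEquivOfLe hLle).trans (MulEquiv.ofBijective ψ ⟨hinj, hψs⟩).symm⟩

end Cfsg.Agent.CycSyl43Assembly
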