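import Mathlib

/-!
The two order formulas are incompatible.
-/

set_option autoImplicit false

namespace Cfsg.Agent.CycSyl43RefArith86

theorem first (N k X : ℤ) (hN : Odd N) (hNk : IsCoprime N k) (hk : Odd k) (hk3 : 3 ≤ k) (hN0 : 0 < N)
    (h : N * (X - 1) ^ 2 = 8 * k ^ 2 * (X * (X + 1))) :
    (X = 1 + 4 * k ∨ X = 1 - 4 * k) ∧ 2 * N = X * (X + 1) := by
  have h1 : k ^ 2 ∣ (X - 1) ^ 2 := by
    refine (IsCoprime.pow_left (hNk.symm) : IsCoprime (k ^ 2) N).dvd_of_dvd_mul_left ⟨8 * (X * (X + 1)), ?_⟩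
    rw [h]; ring
  obtain ⟨Z, hZ⟩ := (Int.pow_dvd_pow_iff two_ne_zero).1 h1
  have hk2 : k ^ 2 ≠ 0 := pow_ne_zero 2 (by omega)
  have h2 : N * Z ^ 2 = 8 * (X * (X + 1)) := by
    apply mul_left_cancel₀ hk2
    rw [hZ] at h
    linear_combination h
  obtain ⟨n, hn⟩ := hN
  have hZe : Even Z := by
    rcases Int.even_or_odd Z with e | ⟨z, hz⟩
    · exact e
    · exfalso
      subst hn hz
      have : (2 * n + 1) * (2 * z + 1) ^ 2 = 2 * (4 * n * (z * z) + 4 * n * z + n + 2 * (z * z) + 2 * z) + 1 := by ring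
      omega
  obtain ⟨W, rfl⟩ := hZe
  have h3 : N * W ^ 2 = 2 * (X * (X + 1)) := by linarith [h2]
  have hWe : Even W := by
    rcases Int.even_or_odd W with e | ⟨z, hz⟩
    · exact e
    · exfalso
      subst hn hz
      have : (2 * n + 1) * (2 * z + 1) ^ 2 = 2 * (4 * n * (z * z) + 4 * n * z + n + 2 * (z * z) + 2 * z) + 1 := by ring
      omega
  obtain ⟨j, rfl⟩ := hWe
  have h4 : 2 * N * j ^ 2 = X * (X + 1) := by linarith [h3]
  have hX : X = 1 + 4 * k * j := by linear_combination hZ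
  have hcop : IsCoprime (j ^ 2) X := by
    refine IsCoprime.pow_left ⟨-(4 * k), 1, ?_⟩
    rw [hX]; ring
  obtain ⟨c, hc⟩ : j ^ 2 ∣ X + 1 := hcop.dvd_of_dvd_mul_left ⟨2 * N, by rw [← h4]; ring⟩
  have hj2 : j ∣ 2 := ⟨j * c - 4 * k, by linear_combination hc - hX⟩
  have hjb := Int.le_of_dvd two_pos hj2
  have hjb' := Int.le_of_dvd two_pos (Int.neg_dvd.2 hj2)
  obtain ⟨kk, hkk⟩ := hk
  have : -2 ≤ j := by linarith
  interval_cases j
  · exfalso; omega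
  · exact ⟨Or.inr (by rw [hX]; ring), by rw [← h4]; ring⟩
  · simp at hj2
  · exact ⟨Or.inl (by rw [hX]; ring), by rw [← h4]; ring⟩
  · exfalso; omega

theorem impossible (N k X F : ℤ) (hN : Odd N) (hNk : IsCoprime N k) (hk : Odd k) (hk3 : 3 ≤ k)
    (hN0 : 0 < N) (hA : N * (X - 1) ^ 2 = 8 * k ^ 2 * (X * (X + 1)))
    (hB : 3 * N * (F - 1) ^ 2 = 8 * (k + 1) ^ 2 * (F * (F + 1))) : False := by
  obtain ⟨hX, h2N⟩ := first N k X hN hNk hk hk3 hN0 hA
  obtain ⟨m, hm⟩ : (2 : ℤ) ∣ k + 1 := even_iff_two_dvd.1 hk.add_one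
  rw [hm] at hB
  obtain ⟨n, hn⟩ := hN
  obtain ⟨f, hf⟩ | ⟨f, hf⟩ := Int.even_or_odd F
  · subst hn hf
    have : 3 * (2 * n + 1) * (f + f - 1) ^ 2 =
        2 * ((3 * n + 1) * (f + f - 1) ^ 2 + 2 * (f * f) - 2 * f) + 1 := by ring
    have : 8 * (2 * m) ^ 2 * ((f + f) * (f + f + 1)) = 2 * (4 * (2 * m) ^ 2 * ((f + f) * (f + f + 1))) := by ring
    omega
  subst hf
  have h1 : 3 * N * f ^ 2 = 2 * (8 * (m ^ 2 * ((2 * f + 1) * (f + 1)))) := by linarith [hB]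
  have hfe : Even f := by
    have : Even (3 * N * f ^ 2) := h1 ▸ even_two_mul _
    rcases Int.even_mul.1 this with e | e
    · exact absurd e (Int.not_even_iff_odd.2 ((show Odd (3 : ℤ) by decide).mul ⟨n, hn⟩))
    · exact (Int.even_pow.1 e).1
  obtain ⟨g, rfl⟩ := hfe
  have h1' : 3 * N * g ^ 2 = 2 * (2 * (m ^ 2 * ((2 * (g + g) + 1) * (g + g + 1)))) := by linarith [h1]
  have hge : Even g := by
    have : Even (3 * N * g ^ 2) := h1' ▸ even_two_mul _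
    rcases Int.even_mul.1 this with e | e
    · exact absurd e (Int.not_even_iff_odd.2 ((show Odd (3 : ℤ) by decide).mul ⟨n, hn⟩))
    · exact (Int.even_pow.1 e).1
  obtain ⟨H, rfl⟩ := hge
  have h2 : 3 * N * H ^ 2 = m ^ 2 * ((8 * H + 1) * (4 * H + 1)) := by linarith [h1']
  have hcop : IsCoprime (H ^ 2) ((8 * H + 1) * (4 * H + 1)) :=
    IsCoprime.pow_left ((show IsCoprime H (8 * H + 1) from ⟨-8, 1, by ring⟩).mul_right
      ⟨-4, 1, by ring⟩)
  have hH0 : H ≠ 0 := by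
    rintro rfl
    have hm0 : m ≠ 0 := by omega
    apply hm0
    have : m ^ 2 = 0 := by linarith [h2]
    exact pow_eq_zero_iff two_ne_zero |>.1 this
  obtain ⟨d, hd⟩ := (Int.pow_dvd_pow_iff two_ne_zero).1
    (hcop.dvd_of_dvd_mul_right ⟨3 * N, by rw [← h2]; ring⟩ : H ^ 2 ∣ m ^ 2)
  have h3 : 3 * N = 32 * m ^ 2 + 12 * m * d + d ^ 2 := by
    apply mul_left_cancel₀ (pow_ne_zero 2 hH0)
    rw [hd] at h2 ⊢
    linear_combination h2
  have hbd : d ^ 2 ≤ m ^ 2 := by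
    rw [hd, mul_pow]
    exact le_mul_of_one_le_left (sq_nonneg d) (by nlinarith [mul_self_pos.2 hH0])
  have hm2 : 2 ≤ m := by omega
  have hk' : k = 2 * m - 1 := by omega
  have hd1 : d ≤ m := by nlinarith [sq_nonneg (d - m)]
  have hd2 : -m ≤ d := by nlinarith [sq_nonneg (d + m)]
  have h4 : 6 * N = 3 * (X * (X + 1)) := by linarith [h2N]
  subst hk'
  rcases Nat.lt_or_ge m.toNat 3 with h | h
  · have hm22 : m = 2 := by omega
    subst hm22
    rcases hX with rfl | rfl <;> interval_cases d <;> norm_num at h3 h4 <;> omega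
  · have hm3 : 3 ≤ m := by omega
    rcases hX with rfl | rfl <;> nlinarith [mul_nonneg (sub_nonneg.2 hm3) (sub_nonneg.2 hm3)]

end Cfsg.Agent.CycSyl43RefArith86
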