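import Mathlib
import Cfsg.Prelude.Def_CaseTheorems
import Cfsg.Prelude.Def_Characters
import Cfsg.Prelude.Def_Blocks

/-!
Interface for the classification of finite groups with cyclic odd Sylow subgroups and a cyclic
subgroup of index at most two in the Sylow 2-subgroups: the pieces and their shared vocabulary.
-/

set_option autoImplicit false

namespace Cfsg.Agent.CycSyl43

universe u

/-- All Sylow subgroups of odd order are cyclic. -/
def OddCyclic (G : Type u) [Group G] : Prop :=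
  ∀ p : ℕ, p.Prime → p ≠ 2 → ∀ P : Sylow p G, IsCyclic P

/-- A Sylow 2-subgroup has a cyclic subgroup of index at most two. -/
def TwoSmall (G : Type u) [Group G] : Prop :=
  ∀ S : Sylow 2 G, ∃ C : Subgroup ↥(S : Subgroup G), IsCyclic C ∧ C.index ∣ 2

/-- The conclusion of the theorem. -/
def Concl (G : Type u) [Group G] : Prop :=
  ∃ G₀ : Subgroup G, G₀.Normal ∧ G₀.index ∣ 2 ∧
    ∃ X L : Subgroup ↥G₀, X.Normal ∧ L.Normal ∧ X ⊓ L = ⊥ ∧ X ⊔ L = ⊤ ∧
      (Nat.card X).Coprime (Nat.card L) ∧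
      Odd (Nat.card X) ∧ (∃ (C : Subgroup ↥X) (_ : C.Normal), IsCyclic C ∧ IsCyclic (↥X ⧸ C)) ∧
      ∃ (p : ℕ) (_ : Fact p.Prime), 5 ≤ p ∧
        (Nonempty (↥L ≃* Matrix.ProjectiveSpecialLinearGroup (Fin 2) (ZMod p)) ∨
         Nonempty (↥L ≃* Matrix.SpecialLinearGroup (Fin 2) (ZMod p)))

/-- Being `PSL(2,p)` for a prime `p ≥ 5`. -/
def IsPSL2Prime (T : Type u) [Group T] : Prop :=
  ∃ (p : ℕ) (_ : Fact p.Prime), 5 ≤ p ∧
    Nonempty (T ≃* Matrix.ProjectiveSpecialLinearGroup (Fin 2) (ZMod p))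

/-- The simple groups in question of order less than `m` are `PSL(2,p)`. -/
def SimpleBelow (m : ℕ) : Prop :=
  ∀ (T : Type u) [Group T] [Finite T], IsSimpleGroup T → (∃ a b : T, a * b ≠ b * a) →
    OddCyclic T → TwoSmall T → Nat.card T < m → IsPSL2Prime T

/-- A simple group in question, all smaller ones being known. -/
structure Min (T : Type u) [Group T] [Finite T] : Prop where
  simple : IsSimpleGroup T
  nc : ∃ a b : T, a * b ≠ b * a
  hodd : OddCyclic T
  h2 : TwoSmall T
  below : SimpleBelow.{u} (Nat.card T)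

/-- PIECE A: the reduction to simple groups. -/
def Assembly : Prop :=
  ∀ (G : Type u) [Group G] [Finite G], SimpleBelow.{u} (Nat.card G + 1) → ¬ Group.IsSolvable G →
    OddCyclic G → TwoSmall G → Concl G

/-- Common part of the two configurations: `t` central in the Sylow 2-subgroup `S`, `O` the odd core
of the centraliser of `t`, and one class of involutions. -/
structure Base {T : Type u} [Group T] (S : Sylow 2 T) (t : T) (O : Subgroup T) : Prop where
  ot : orderOf t = 2
  mem : t ∈ (S : Subgroup T)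
  central : ∀ s ∈ (S : Subgroup T), s * t = t * s
  odd : Odd (Nat.card O)
  le : O ≤ Subgroup.centralizer ({t} : Set T)
  normal : ∀ c ∈ Subgroup.centralizer ({t} : Set T), ∀ y ∈ O, c * y * c⁻¹ ∈ O
  fusion : ∀ u v : T, orderOf u = 2 → orderOf v = 2 → IsConj u v

/-- Dihedral configuration; `n = 2` is the four-group. -/
structure Dih {T : Type u} [Group T] (S : Sylow 2 T) (t : T) (O : Subgroup T) : Prop
    extends Base S t O where
  iso : ∃ k : ℕ, 1 ≤ k ∧ Nonempty ((S : Subgroup T) ≃* DihedralGroup (2 ^ k))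
  cent : ∀ c ∈ Subgroup.centralizer ({t} : Set T), ∃ y ∈ O, ∃ s ∈ (S : Subgroup T), c = y * s

/-- Semidihedral configuration whose centraliser is `GL(2,3)` modulo the odd core. -/
structure SemiGL {T : Type u} [Group T] (S : Sylow 2 T) (t : T) (O : Subgroup T) : Prop
    extends Base S t O where
  iso : Cfsg.IsQuasiDihedral ↥(S : Subgroup T)
  quot : ∃ f : ↥(Subgroup.centralizer ({t} : Set T)) →* GL (Fin 2) (ZMod 3),
    Function.Surjective f ∧ f.ker = O.subgroupOf (Subgroup.centralizer ({t} : Set T))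

/-- Semidihedral configuration whose centraliser has a normal `SL(2,p)`, `p ≥ 5`. -/
structure SemiSL {T : Type u} [Group T] (S : Sylow 2 T) (t : T) (O : Subgroup T) (L : Subgroup T)
    (p : ℕ) : Prop extends Base S t O where
  iso : Cfsg.IsQuasiDihedral ↥(S : Subgroup T)
  five : 5 ≤ p
  prime : p.Prime
  leL : L ≤ Subgroup.centralizer ({t} : Set T)
  normalL : ∀ c ∈ Subgroup.centralizer ({t} : Set T), ∀ y ∈ L, c * y * c⁻¹ ∈ L
  isoL : Nonempty (↥L ≃* Matrix.SpecialLinearGroup (Fin 2) (ZMod p))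
  tL : t ∈ L
  comm : ∀ y ∈ O, ∀ l ∈ L, y * l = l * y
  disj : O ⊓ L = ⊥
  index : (O ⊔ L).relIndex (Subgroup.centralizer ({t} : Set T)) = 2

/-- PIECE L1: the possible configurations in a minimal simple group. -/
def Types : Prop :=
  Assembly.{u} → ∀ (T : Type u) [Group T] [Finite T], Min T →
    (∃ (S : Sylow 2 T) (t : T) (O : Subgroup T), Dih S t O) ∨
    (∃ (S : Sylow 2 T) (t : T) (O : Subgroup T), SemiGL S t O) ∨
    (∃ (S : Sylow 2 T) (t : T) (O L : Subgroup T) (p : ℕ), SemiSL S t O L p)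

/-- PIECE K: in the four-group case the Sylow subgroup fixes no nontrivial element of `O`. -/
def KleinNoFixed : Prop :=
  ∀ (T : Type u) [Group T] [Finite T], Min T → ∀ (S : Sylow 2 T) (t : T) (O : Subgroup T),
    Dih S t O → Nat.card (S : Subgroup T) = 4 →
    ∀ y ∈ O, (∀ s ∈ (S : Subgroup T), s * y = y * s) → y = 1

/-- What is known about `O` once nothing in it is fixed by `S`. -/
structure OStruct {T : Type u} [Group T] (S : Sylow 2 T) (O : Subgroup T) : Prop where
  cyc : IsCyclic O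
  sign : ∀ s ∈ (S : Subgroup T), ∀ y ∈ O, ∀ r k : ℕ, r.Prime → orderOf y = r ^ k →
    s * y * s⁻¹ = y ∨ s * y * s⁻¹ = y⁻¹
  fixed : ∀ y ∈ O, (∀ s ∈ (S : Subgroup T), s * y = y * s) → y = 1

/-- PIECE R: no reflection centralises a nontrivial element of `O`. -/
def ReflectionFree : Prop :=
  Assembly.{u} → ∀ (T : Type u) [Group T] [Finite T], Min T →
    ∀ (S : Sylow 2 T) (t : T) (O : Subgroup T), Dih S t O → OStruct S O →
    8 ≤ Nat.card (S : Subgroup T) →
    ∀ u ∈ (S : Subgroup T), orderOf u = 2 → u ≠ t → ∀ y ∈ O, u * y = y * u → y = 1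

/-- PIECE SD3: the `GL(2,3)` configuration is impossible. -/
def SemiGLFalse : Prop :=
  Assembly.{u} → ∀ (T : Type u) [Group T] [Finite T], Min T →
    ∀ (S : Sylow 2 T) (t : T) (O : Subgroup T), SemiGL S t O → False

/-- PIECE SD5: the `SL(2,p)` configuration is impossible. -/
def SemiSLFalse : Prop :=
  Assembly.{u} → ∀ (T : Type u) [Group T] [Finite T], Min T →
    ∀ (S : Sylow 2 T) (t : T) (O L : Subgroup T) (p : ℕ), SemiSL S t O L p → False

/-- A set with normaliser `H` and trivial intersection with its conjugates. -/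
structure TIData {G : Type u} [Group G] (H : Subgroup G) (D : Set G) : Prop where
  sub : D ⊆ (H : Set G)
  one : (1 : G) ∉ D
  inv : ∀ x ∈ D, x⁻¹ ∈ D
  conjH : ∀ h ∈ H, ∀ x ∈ D, h * x * h⁻¹ ∈ D
  ti : ∀ g : G, ∀ x ∈ D, g * x * g⁻¹ ∈ D → g ∈ H

/-- PIECE P: the principal 2-block on the section of a 2-element. -/
def SectionSum : Prop :=
  ∀ (G : Type u) [Group G] [Fintype G] (M : Ideal Cfsg.AlgInt), Cfsg.IsPModular 2 M →
    ∀ (t : G) (O : Subgroup G), (∃ k : ℕ, orderOf t = 2 ^ k) →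
    O ≤ Subgroup.centralizer ({t} : Set G) →
    (O.subgroupOf (Subgroup.centralizer ({t} : Set G))).Normal → Odd (Nat.card O) →
    (∀ χ : Cfsg.IrrCharacter ↥(Subgroup.centralizer ({t} : Set G)),
      (∀ y : ↥(Subgroup.centralizer ({t} : Set G)), (y : G) ∈ O →
        (χ : ↥(Subgroup.centralizer ({t} : Set G)) → ℂ) y =
          (χ : ↥(Subgroup.centralizer ({t} : Set G)) → ℂ) 1) →
      χ ∈ Cfsg.principalBlock M ↥(Subgroup.centralizer ({t} : Set G))) →
    ∀ F : G → ℂ, Cfsg.IsClassFunction G F →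
      (∑ᶠ χ ∈ Cfsg.principalBlock M G, Cfsg.classInner F (χ : G → ℂ) * (χ : G → ℂ) t) =
        (Nat.card O : ℂ)⁻¹ * ∑ᶠ y ∈ (O : Set G), F (t * y)

end Cfsg.Agent.CycSyl43
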