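import Mathlib
import Cfsg.Agent.Lib.CycSyl43Defs

/-!
Local facts in the dihedral configuration: decompositions in `C(t)`, the four-groups, and the fusion
inside the centraliser of an element of prime order of the odd core centralised by a reflection.
-/

set_option autoImplicit false

namespace Cfsg.Agent.CycSyl43RefBasic86

open CycSyl43

universe u

/-- `2 i = 0` in `ZMod (2 ^ k)`. -/
theorem zmod_two_mul {k : ℕ} (hk : 1 ≤ k) {i : ZMod (2 ^ k)} (h : i + i = 0) :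
    i = 0 ∨ i = ((2 ^ (k - 1) : ℕ) : ZMod (2 ^ k)) := by
  have hp : (2 : ℕ) ^ k = 2 * 2 ^ (k - 1) := by
    rw [← pow_succ', Nat.sub_add_cancel hk]
  obtain ⟨j, hj, rfl⟩ : ∃ j : ℕ, j < 2 ^ k ∧ i = (j : ZMod (2 ^ k)) :=
    ⟨i.val, ZMod.val_lt i, (ZMod.natCast_zmod_val i).symm⟩
  rw [← Nat.cast_add, ZMod.natCast_eq_zero_iff] at h
  obtain ⟨c, hc⟩ := h
  have hpos : 0 < 2 ^ (k - 1) := Nat.two_pow_pos _
  have hc2 : c < 2 := by
    by_contra hlt
    have : 2 ^ k * 2 ≤ 2 ^ k * c := Nat.mul_le_mul_left _ (not_lt.1 hlt)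
    omega
  interval_cases c
  · exact Or.inl (by rw [show j = 0 by omega, Nat.cast_zero])
  · exact Or.inr (congrArg _ (by omega))

/-- The shape of a dihedral group with a distinguished central involution, inside an ambient
group. -/
structure DihShape {T : Type u} [Group T] (S : Subgroup T) (t σ : T) (k : ℕ) : Prop where
  two_le : 2 ≤ k
  mem : σ ∈ S
  order : orderOf σ = 2 ^ k
  card : Nat.card S = 2 ^ (k + 1)
  pow_half : σ ^ 2 ^ (k - 1) = t
  dicho : ∀ s ∈ S, s ∈ Subgroup.zpowers σ ∨ (s * s = 1 ∧ s * σ * s⁻¹ = σ⁻¹)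
  invol : ∀ s ∈ S, s ∈ Subgroup.zpowers σ → s * s = 1 → s = 1 ∨ s = t
  refl_mul : ∀ a ∈ S, ∀ b ∈ S, a ∉ Subgroup.zpowers σ → b ∉ Subgroup.zpowers σ →
    a * b ∈ Subgroup.zpowers σ
  cent : ∀ a ∈ S, a ∉ Subgroup.zpowers σ → ∀ s ∈ S, s * a = a * s →
    s = 1 ∨ s = t ∨ s = a ∨ s = t * a

theorem exists_shape {T : Type u} [Group T] {S : Subgroup T} {t : T} {k : ℕ}
    (e : S ≃* DihedralGroup (2 ^ k)) (h8 : 8 ≤ Nat.card S) (ht : orderOf t = 2) (htm : t ∈ S)
    (hc : ∀ s ∈ S, s * t = t * s) : ∃ σ, DihShape S t σ k := by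
  have hcard : Nat.card S = 2 ^ (k + 1) := by
    rw [Nat.card_congr e.toEquiv, DihedralGroup.nat_card, pow_succ']
  have hk : 2 ≤ k := by
    by_contra h
    have : 2 ^ (k + 1) ≤ 2 ^ 2 := Nat.pow_le_pow_right (by norm_num) (by omega)
    rw [hcard] at h8
    omega
  haveI : NeZero (2 ^ k) := ⟨(Nat.two_pow_pos k).ne'⟩
  have hhalf : ((2 ^ (k - 1) : ℕ) : ZMod (2 ^ k)) ≠ 0 := by
    rw [Ne, ZMod.natCast_eq_zero_iff, Nat.pow_dvd_pow_iff_le_right (by norm_num)]
    omega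
  have h20 : (1 : ZMod (2 ^ k)) + 1 ≠ 0 := by
    rw [← Nat.cast_one, ← Nat.cast_add, Ne, ZMod.natCast_eq_zero_iff]
    intro h
    have h4 : (4 : ℕ) ≤ 2 ^ k := le_trans (by norm_num) (Nat.pow_le_pow_right two_pos hk)
    exact absurd (Nat.le_of_dvd (by norm_num) h) (by omega)
  have et : e ⟨t, htm⟩ = DihedralGroup.r ((2 ^ (k - 1) : ℕ) : ZMod (2 ^ k)) := by
    have ht1 : t ≠ 1 := fun h => by rw [h, orderOf_one] at ht; exact absurd ht (by norm_num)
    have hsq : e ⟨t, htm⟩ * e ⟨t, htm⟩ = 1 := by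
      rw [← map_mul, ← map_one e]
      congr 1
      exact Subtype.ext (by
        show t * t = 1
        rw [← pow_two, ← ht, pow_orderOf_eq_one])
    have hcen : e ⟨t, htm⟩ * DihedralGroup.r 1 = DihedralGroup.r 1 * e ⟨t, htm⟩ := by
      obtain ⟨x, hx⟩ := e.surjective (DihedralGroup.r 1)
      rw [← hx, ← map_mul, ← map_mul]
      congr 1
      exact Subtype.ext (hc x x.2).symm
    have hne : e ⟨t, htm⟩ ≠ 1 := fun h => ht1 (congrArg Subtype.val
      (e.injective (h.trans (map_one e).symm)))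
    rcases h : e ⟨t, htm⟩ with i | i
    · rw [h, DihedralGroup.r_mul_r, DihedralGroup.one_def] at hsq
      rcases zmod_two_mul (by omega) (DihedralGroup.r.inj hsq) with rfl | rfl
      · exact absurd (h.trans DihedralGroup.one_def.symm) hne
      · rfl
    · rw [h, DihedralGroup.sr_mul_r, DihedralGroup.r_mul_sr] at hcen
      exact absurd (by linear_combination DihedralGroup.sr.inj hcen) h20
  set σ : T := ((e.symm (DihedralGroup.r 1) : S) : T) with hσ
  have hσm : σ ∈ S := (e.symm (DihedralGroup.r 1)).2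
  have hord : orderOf σ = 2 ^ k := by
    rw [hσ, Subgroup.orderOf_coe, MulEquiv.orderOf_eq, DihedralGroup.orderOf_r_one]
  have epow : ∀ j : ℕ, e ⟨σ ^ j, S.pow_mem hσm j⟩ = DihedralGroup.r (j : ZMod (2 ^ k)) := by
    intro j
    have : (⟨σ ^ j, S.pow_mem hσm j⟩ : S) = e.symm (DihedralGroup.r 1) ^ j := Subtype.ext rfl
    rw [this, map_pow, MulEquiv.apply_symm_apply, DihedralGroup.r_one_pow]
  have hrot : ∀ (s : T) (hs : s ∈ S) (i : ZMod (2 ^ k)), e ⟨s, hs⟩ = DihedralGroup.r i →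
      s ∈ Subgroup.zpowers σ := by
    intro s hs i hi
    have h1 : (⟨s, hs⟩ : S) = ⟨σ ^ i.val, S.pow_mem hσm _⟩ := e.injective (by
      rw [hi, epow, ZMod.natCast_zmod_val])
    rw [show s = σ ^ i.val from congrArg Subtype.val h1]
    exact Subgroup.pow_mem _ (Subgroup.mem_zpowers σ) _
  have hzp : ∀ (s : T) (hs : s ∈ S), s ∈ Subgroup.zpowers σ →
      ∃ i : ZMod (2 ^ k), e ⟨s, hs⟩ = DihedralGroup.r i := by
    intro s hs h
    haveI : Finite S := Nat.finite_of_card_ne_zero (by rw [hcard]; positivity)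
    have hfo : IsOfFinOrder σ := orderOf_pos_iff.1 (by rw [hord]; positivity)
    obtain ⟨j, hj : σ ^ j = s⟩ := hfo.mem_powers_iff_mem_zpowers.2 h
    subst hj
    exact ⟨_, epow j⟩
  have hnr : ∀ (s : T) (hs : s ∈ S), s ∉ Subgroup.zpowers σ →
      ∃ i : ZMod (2 ^ k), e ⟨s, hs⟩ = DihedralGroup.sr i := by
    intro s hs h
    rcases he : e ⟨s, hs⟩ with i | i
    · exact absurd (hrot s hs i he) h
    · exact ⟨i, rfl⟩
  have hext : ∀ {a b : T} (ha : a ∈ S) (hb : b ∈ S), e ⟨a, ha⟩ = e ⟨b, hb⟩ → a = b :=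
    fun ha hb h => congrArg Subtype.val (e.injective h)
  have emul : ∀ {a b : T} (ha : a ∈ S) (hb : b ∈ S),
      e ⟨a * b, mul_mem ha hb⟩ = e ⟨a, ha⟩ * e ⟨b, hb⟩ := fun ha hb => by
    rw [← map_mul]; rfl
  have eone : e ⟨1, S.one_mem⟩ = 1 := map_one e
  have epow1 : e ⟨σ, hσm⟩ = DihedralGroup.r 1 := by
    rw [show (⟨σ, hσm⟩ : S) = e.symm (DihedralGroup.r 1) from Subtype.ext rfl,
      MulEquiv.apply_symm_apply]
  refine ⟨σ, hk, hσm, hord, hcard, hext (S.pow_mem hσm _) htm (by rw [epow, et]), ?_, ?_, ?_, ?_⟩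
  · intro s hs
    rcases he : e ⟨s, hs⟩ with i | i
    · exact Or.inl (hrot s hs i he)
    · refine Or.inr ⟨hext (mul_mem hs hs) S.one_mem (by
        rw [emul hs hs, he, DihedralGroup.sr_mul_self, eone]), ?_⟩
      rw [mul_inv_eq_iff_eq_mul]
      refine hext (mul_mem hs hσm) (mul_mem (inv_mem hσm) hs) ?_
      rw [emul hs hσm, emul (inv_mem hσm) hs, show (⟨σ⁻¹, inv_mem hσm⟩ : S) = (⟨σ, hσm⟩ : S)⁻¹ from rfl,
        map_inv, epow1, he, DihedralGroup.sr_mul_r, DihedralGroup.inv_r, DihedralGroup.r_mul_sr]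
      congr 1
      ring
  · intro s hs hz hsq
    obtain ⟨i, hi⟩ := hzp s hs hz
    have h2 : e ⟨s * s, mul_mem hs hs⟩ = 1 := by
      rw [← eone]; exact congrArg e (Subtype.ext hsq)
    rw [emul hs hs, hi, DihedralGroup.r_mul_r, DihedralGroup.one_def] at h2
    rcases zmod_two_mul (by omega) (DihedralGroup.r.inj h2) with rfl | rfl
    · exact Or.inl (hext hs S.one_mem (by rw [hi, eone, DihedralGroup.one_def]))
    · exact Or.inr (hext hs htm (by rw [hi, et]))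
  · intro a ha b hb hna hnb
    obtain ⟨i, hi⟩ := hnr a ha hna
    obtain ⟨j, hj⟩ := hnr b hb hnb
    exact hrot _ (mul_mem ha hb) _ (by rw [emul ha hb, hi, hj, DihedralGroup.sr_mul_sr])
  · intro a ha hna s hs hsa
    obtain ⟨i, hi⟩ := hnr a ha hna
    have h2 : e ⟨s, hs⟩ * e ⟨a, ha⟩ = e ⟨a, ha⟩ * e ⟨s, hs⟩ := by
      rw [← emul hs ha, ← emul ha hs]; exact congrArg e (Subtype.ext hsa)
    rw [hi] at h2
    rcases he : e ⟨s, hs⟩ with j | j
    · rw [he, DihedralGroup.r_mul_sr, DihedralGroup.sr_mul_r] at h2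
      rcases zmod_two_mul (k := k) (i := j) (by omega) (by linear_combination -(DihedralGroup.sr.inj h2))
        with rfl | rfl
      · exact Or.inl (hext hs S.one_mem (by rw [he, eone, DihedralGroup.one_def]))
      · exact Or.inr (Or.inl (hext hs htm (by rw [he, et])))
    · rw [he, DihedralGroup.sr_mul_sr, DihedralGroup.sr_mul_sr] at h2
      rcases zmod_two_mul (k := k) (i := i - j) (by omega) (by linear_combination DihedralGroup.r.inj h2)
        with h | h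
      · exact Or.inr (Or.inr (Or.inl (hext hs ha (by rw [he, hi, sub_eq_zero.1 h]))))
      · exact Or.inr (Or.inr (Or.inr (hext hs (mul_mem htm ha) (by
          rw [he, emul htm ha, et, hi, DihedralGroup.r_mul_sr]
          congr 1
          linear_combination -h))))

/-! ### The configuration -/

variable {T : Type u} [Group T] [Finite T] {S : Sylow 2 T} {t : T} {O : Subgroup T}

theorem mul_self_of {a : T} (h : orderOf a = 2) : a * a = 1 := by
  rw [← pow_two, ← h, pow_orderOf_eq_one]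

theorem order_two {a : T} (h : a * a = 1) (h1 : a ≠ 1) : orderOf a = 2 :=
  orderOf_eq_prime (by rw [pow_two, h]) h1

theorem ne_one_of_two {a : T} (h : orderOf a = 2) : a ≠ 1 := fun e => by
  rw [e, orderOf_one] at h; exact absurd h (by norm_num)

/-- An element of odd period squaring to one. -/
theorem eq_one_of_sq {x : T} {n : ℕ} (hn : Odd n) (hx : x ^ n = 1) (h2 : x * x = 1) : x = 1 := by
  obtain ⟨l, rfl⟩ := hn
  rwa [pow_succ, pow_mul, pow_two, h2, one_pow, one_mul] at hx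

theorem mem_cent_iff {c : T} : c ∈ Subgroup.centralizer ({t} : Set T) ↔ c * t = t * c :=
  Subgroup.mem_centralizer_singleton_iff

theorem memS (h : Dih S t O) {s : T} (hs : s ∈ (S : Subgroup T)) :
    s ∈ Subgroup.centralizer ({t} : Set T) := mem_cent_iff.2 (h.central s hs)

theorem memO (h : Dih S t O) {y : T} (hy : y ∈ O) : y * t = t * y := mem_cent_iff.1 (h.le hy)

theorem pow_card_O {y : T} (hy : y ∈ O) : y ^ Nat.card O = 1 :=
  congrArg Subtype.val (pow_card_eq_one' (x := (⟨y, hy⟩ : O)))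

theorem disjointOS (h : Dih S t O) {x : T} (hO : x ∈ O) (hS : x ∈ (S : Subgroup T)) : x = 1 := by
  obtain ⟨n, hn⟩ := IsPGroup.iff_orderOf.1 S.isPGroup' ⟨x, hS⟩
  rw [Subgroup.orderOf_mk] at hn
  have hd : orderOf x ∣ Nat.card O := orderOf_dvd_of_pow_eq_one (pow_card_O hO)
  rw [hn] at hd
  rcases Nat.eq_zero_or_pos n with rfl | hpos
  · exact orderOf_eq_one_iff.1 (by simpa using hn)
  · exact absurd ((dvd_pow_self 2 hpos.ne').trans hd) (Nat.two_dvd_ne_zero.2 (Nat.odd_iff.1 h.odd))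

theorem unique (h : Dih S t O) {o o' s s' : T} (ho : o ∈ O) (ho' : o' ∈ O)
    (hs : s ∈ (S : Subgroup T)) (hs' : s' ∈ (S : Subgroup T)) (e : o * s = o' * s') :
    o = o' ∧ s = s' := by
  have e1 : o'⁻¹ * o = s' * s⁻¹ := by
    rw [eq_mul_inv_iff_mul_eq, mul_assoc, e, inv_mul_cancel_left]
  have e2 := disjointOS h (mul_mem (inv_mem ho') ho) (e1 ▸ mul_mem hs' (inv_mem hs))
  have e3 : o = o' := (inv_mul_eq_one.1 e2).symm
  exact ⟨e3, mul_left_cancel (a := o) (by rw [e, e3])⟩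

theorem conjO (h : Dih S t O) {s y : T} (hs : s ∈ (S : Subgroup T)) (hy : y ∈ O) :
    s * y * s⁻¹ ∈ O := h.normal s (memS h hs) y hy

theorem os_pow (h : Dih S t O) {o s : T} (ho : o ∈ O) (hs : s ∈ (S : Subgroup T)) (n : ℕ) :
    ∃ o' ∈ O, (o * s) ^ n = o' * s ^ n := by
  induction n with
  | zero => exact ⟨1, one_mem O, by simp⟩
  | succ n ih =>
    obtain ⟨o', ho', e⟩ := ih
    refine ⟨o' * (s ^ n * o * (s ^ n)⁻¹), mul_mem ho' (conjO h (pow_mem hs n) ho), ?_⟩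
    rw [pow_succ, e, pow_succ]
    group

/-- The elements of odd order of `C(t)` lie in `O`. -/
theorem odd_mem (h : Dih S t O) {c : T} (hc : c * t = t * c) {n : ℕ} (hn : Odd n) (hcn : c ^ n = 1) :
    c ∈ O := by
  obtain ⟨o, ho, s, hs, rfl⟩ := h.cent c (mem_cent_iff.2 hc)
  obtain ⟨o', ho', e⟩ := os_pow h ho hs n
  rw [hcn] at e
  have hsn : s ^ n = 1 :=
    ((unique h (one_mem O) ho' (one_mem _) (pow_mem hs n) (by rw [one_mul, e])).2).symm
  obtain ⟨i, hi⟩ := IsPGroup.iff_orderOf.1 S.isPGroup' ⟨s, hs⟩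
  rw [Subgroup.orderOf_mk] at hi
  have hd : orderOf s ∣ n := orderOf_dvd_of_pow_eq_one hsn
  have h1 : orderOf s = 1 := by
    rcases Nat.eq_zero_or_pos i with rfl | hpos
    · simpa using hi
    · rw [hi] at hd
      exact absurd ((dvd_pow_self 2 hpos.ne').trans hd) (Nat.two_dvd_ne_zero.2 (Nat.odd_iff.1 hn))
  rw [orderOf_eq_one_iff.1 h1, mul_one]
  exact ho

theorem comm_split (h : Dih S t O) {o s x : T} (ho : o ∈ O) (hs : s ∈ (S : Subgroup T))
    (hx : x ∈ (S : Subgroup T)) (e : o * s * x = x * (o * s)) : s * x = x * s ∧ o * x = x * o := by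
  have e1 : o * (s * x) = (x * o * x⁻¹) * (x * s) := by rw [← mul_assoc, e]; group
  obtain ⟨e2, e3⟩ := unique h ho (conjO h hx ho) (mul_mem hs hx) (mul_mem hx hs) e1
  exact ⟨e3, mul_inv_eq_iff_eq_mul.1 e2.symm |>.symm⟩

/-- An involution of `C(t)` other than `t` is conjugate under `O` to one in `S`. -/
theorem refl (h : Dih S t O) {a : T} (ha : orderOf a = 2) (hat : a * t = t * a) (hne : a ≠ t) :
    ∃ o ∈ O, ∃ s ∈ (S : Subgroup T), orderOf s = 2 ∧ s ≠ t ∧ a = o * s * o⁻¹ := by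
  obtain ⟨o', ho', s, hs, rfl⟩ := h.cent a (mem_cent_iff.2 hat)
  have hsq := mul_self_of ha
  have e1 : (o' * (s * o' * s⁻¹)) * (s * s) = 1 * 1 := by
    rw [one_mul, ← hsq]; group
  obtain ⟨e2, e3⟩ := unique h (mul_mem ho' (conjO h hs ho')) (one_mem O) (mul_mem hs hs) (one_mem _) e1
  have hinv : s * o' * s⁻¹ = o'⁻¹ := (inv_eq_of_mul_eq_one_right e2).symm
  obtain ⟨l, hl⟩ := h.odd
  have hn : o' ^ (2 * l + 1) = 1 := hl ▸ pow_card_O ho'
  have hs1 : s ≠ 1 := by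
    rintro rfl
    rw [mul_one] at ha hsq
    exact ne_one_of_two ha (eq_one_of_sq ⟨l, rfl⟩ hn hsq)
  have hst : s ≠ t := by
    intro e
    subst e
    apply hne
    rw [← memO h ho', mul_inv_cancel_right] at hinv
    rw [eq_one_of_sq ⟨l, rfl⟩ hn (by nth_rewrite 2 [hinv]; rw [mul_inv_cancel]), one_mul]
  refine ⟨o' ^ (l + 1), pow_mem ho' _, s, hs, order_two e3 hs1, hst, ?_⟩
  have e4 : s * (o' ^ (l + 1))⁻¹ * s⁻¹ = o' ^ (l + 1) := by
    rw [← inv_pow, ← conj_pow]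
    congr 1
    calc s * o'⁻¹ * s⁻¹ = (s * o' * s⁻¹)⁻¹ := by group
      _ = o' := by rw [hinv, inv_inv]
  calc o' * s = o' ^ (2 * l + 1) * o' * s := by rw [hn, one_mul]
    _ = o' ^ (l + 1) * o' ^ (l + 1) * s := by
        rw [← pow_succ, ← pow_add]; congr 2; omega
    _ = o' ^ (l + 1) * (s * (o' ^ (l + 1))⁻¹ * s⁻¹) * s := by rw [e4]
    _ = _ := by group

theorem shape (h : Dih S t O) (h8 : 8 ≤ Nat.card (S : Subgroup T)) :
    ∃ σ k, DihShape (S : Subgroup T) t σ k := by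
  obtain ⟨k, -, ⟨e⟩⟩ := h.iso
  obtain ⟨σ, hσ⟩ := exists_shape e h8 h.ot h.mem h.central
  exact ⟨σ, k, hσ⟩

variable {σ : T} {k : ℕ}

theorem not_rot (hd : DihShape (S : Subgroup T) t σ k) {a : T} (ha : a ∈ (S : Subgroup T))
    (h2 : orderOf a = 2) (hne : a ≠ t) : a ∉ Subgroup.zpowers σ := fun hz =>
  (hd.invol a ha hz (mul_self_of h2)).elim (ne_one_of_two h2) hne

/-- The centraliser of a four-group `⟨t, a⟩`. -/
theorem cent_four (h : Dih S t O) (hd : DihShape (S : Subgroup T) t σ k) {a : T}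
    (ha : a ∈ (S : Subgroup T)) (h2 : orderOf a = 2) (hne : a ≠ t) {c : T} (hct : c * t = t * c)
    (hca : c * a = a * c) :
    ∃ o ∈ O, o * a = a * o ∧ ∃ v, (v = 1 ∨ v = t ∨ v = a ∨ v = t * a) ∧ c = o * v := by
  obtain ⟨o, ho, s, hs, rfl⟩ := h.cent c (mem_cent_iff.2 hct)
  obtain ⟨e1, e2⟩ := comm_split h ho hs ha hca
  exact ⟨o, ho, e2, s, hd.cent a ha (not_rot hd ha h2 hne) s hs e1, rfl⟩

/-- An element of `S` exchanging an involution `≠ t` with its product with `t`. -/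
theorem quarter (h : Dih S t O) (hd : DihShape (S : Subgroup T) t σ k) {a : T}
    (ha : a ∈ (S : Subgroup T)) (h2 : orderOf a = 2) (hne : a ≠ t) :
    ∃ q ∈ (S : Subgroup T), q * a * q⁻¹ = t * a ∧ q⁻¹ * a * q = t * a := by
  have hinv : a * σ * a⁻¹ = σ⁻¹ := ((hd.dicho a ha).resolve_left (not_rot hd ha h2 hne)).2
  set q := σ ^ 2 ^ (k - 2) with hq
  have hqa : a * q * a⁻¹ = q⁻¹ := by rw [hq, ← conj_pow, hinv, inv_pow]
  have hqq : q * q = t := by
    rw [hq, ← pow_add, ← hd.pow_half]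
    congr 1
    rw [← two_mul, ← pow_succ']
    congr 1
    have := hd.two_le
    omega
  have hti : t⁻¹ = t := inv_eq_of_mul_eq_one_right (mul_self_of h.ot)
  refine ⟨q, pow_mem hd.mem _, ?_, ?_⟩
  · calc q * a * q⁻¹ = q * (a * q⁻¹ * a⁻¹) * a := by group
      _ = q * (a * q * a⁻¹)⁻¹ * a := by group
      _ = t * a := by rw [hqa, inv_inv, hqq]
  · calc q⁻¹ * a * q = q⁻¹ * (a * q * a⁻¹) * a := by group
      _ = (q * q)⁻¹ * a := by rw [hqa]; group
      _ = t * a := by rw [hqq, hti]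

/-- For commuting involutions `a ≠ b`, an element fixing `a` and carrying `b` to `a b`. -/
theorem swap (h : Dih S t O) (hd : DihShape (S : Subgroup T) t σ k) {a b : T} (ha : orderOf a = 2)
    (hb : orderOf b = 2) (hab : a * b = b * a) (hne : a ≠ b) :
    ∃ z, z * a * z⁻¹ = a ∧ z * b * z⁻¹ = a * b ∧ z⁻¹ * a * z = a ∧ z⁻¹ * b * z = a * b := by
  obtain ⟨g, hg⟩ := isConj_iff.1 (h.fusion a t ha h.ot)
  let φ := MulAut.conj g
  have hφ : ∀ x, φ x = g * x * g⁻¹ := fun _ => rfl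
  have hφa : φ a = t := hg
  obtain ⟨o, ho, s, hs, hs2, hst, hbs⟩ := refl h (a := φ b) (by rw [MulEquiv.orderOf_eq, hb])
    (by rw [← hφa, ← map_mul, ← map_mul, hab]) (by rw [← hφa]; exact fun e => hne (φ.injective e).symm)
  obtain ⟨q, hq, hq1, hq2⟩ := quarter h hd hs hs2 hst
  let ψ := MulAut.conj o
  have hψt : ψ t = t := by
    show o * t * o⁻¹ = t
    rw [memO h ho, mul_inv_cancel_right]
  have hψs : ψ s = φ b := hbs.symm
  have hqt : q * t * q⁻¹ = t := by rw [h.central q hq, mul_inv_cancel_right]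
  have hqt' : q⁻¹ * t * q = t := by rw [mul_assoc, ← h.central q hq, inv_mul_cancel_left]
  have k1 : ∀ x, ψ q * ψ x * (ψ q)⁻¹ = ψ (q * x * q⁻¹) := fun x => by simp only [map_mul, map_inv]
  have k2 : ∀ x, (ψ q)⁻¹ * ψ x * ψ q = ψ (q⁻¹ * x * q) := fun x => by simp only [map_mul, map_inv]
  refine ⟨φ.symm (ψ q), ?_, ?_, ?_, ?_⟩ <;> apply φ.injective <;>
    simp only [map_mul, map_inv, MulEquiv.apply_symm_apply, hφa, ← hψs]
  · have := k1 t; rwa [hψt, hqt, hψt] at this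
  · have := k1 s; rwa [hq1, map_mul, hψt] at this
  · have := k2 t; rwa [hψt, hqt', hψt] at this
  · have := k2 s; rwa [hq2, map_mul, hψt] at this

/-- An element of prime order of `O` centralised by a reflection, and its data. -/
structure Ctx (S : Sylow 2 T) (t : T) (O : Subgroup T) (σ : T) (k : ℕ) (y u₀ : T) : Prop where
  dih : Dih S t O
  str : OStruct S O
  shp : DihShape (S : Subgroup T) t σ k
  hy : y ∈ O
  prime : (orderOf y).Prime
  hu : u₀ ∈ (S : Subgroup T)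
  hu2 : orderOf u₀ = 2
  hut : u₀ ≠ t
  comm : u₀ * y = y * u₀

variable {y u₀ : T}

theorem Ctx.ne_one (c : Ctx S t O σ k y u₀) : y ≠ 1 := fun e => by
  have := c.prime; rw [e, orderOf_one] at this; exact Nat.not_prime_one this

theorem Ctx.odd_order (c : Ctx S t O σ k y u₀) : Odd (orderOf y) :=
  c.dih.odd.of_dvd_nat (orderOf_dvd_of_pow_eq_one (pow_card_O c.hy))

theorem Ctx.y_ne_inv (c : Ctx S t O σ k y u₀) : y⁻¹ ≠ y := fun e =>
  c.ne_one (eq_one_of_sq c.odd_order (pow_orderOf_eq_one y) (by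
    nth_rewrite 1 [← e]; rw [inv_mul_cancel]))

theorem Ctx.sgn (c : Ctx S t O σ k y u₀) {s : T} (hs : s ∈ (S : Subgroup T)) :
    s * y * s⁻¹ = y ∨ s * y * s⁻¹ = y⁻¹ :=
  c.str.sign s hs y c.hy (orderOf y) 1 c.prime (pow_one _).symm

theorem Ctx.O_comm (c : Ctx S t O σ k y u₀) {o : T} (ho : o ∈ O) : o * y = y * o := by
  haveI := c.str.cyc
  letI := IsCyclic.commGroup (α := O)
  exact congrArg Subtype.val (mul_comm (⟨o, ho⟩ : O) ⟨y, c.hy⟩)

/-- An element of `O` of the same prime order is a power of `y`. -/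
theorem Ctx.mem_zpowers (c : Ctx S t O σ k y u₀) {x : T} (hx : x ∈ O) (ho : orderOf x = orderOf y) :
    x ∈ Subgroup.zpowers y := by
  haveI := c.str.cyc
  letI := IsCyclic.commGroup (α := O)
  have e : Nat.card (Subgroup.zpowers (⟨x, hx⟩ : O)) = Nat.card (Subgroup.zpowers (⟨y, c.hy⟩ : O)) := by
    rw [Nat.card_zpowers, Nat.card_zpowers, Subgroup.orderOf_mk, Subgroup.orderOf_mk, ho]
  have hm : (⟨x, hx⟩ : O) ∈ Subgroup.zpowers (⟨y, c.hy⟩ : O) := by
    have hle : Subgroup.zpowers (⟨y, c.hy⟩ : O) ≤ (powMonoidHom (orderOf y) : O →* O).ker := by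
      rw [Subgroup.zpowers_le, MonoidHom.mem_ker, powMonoidHom_apply]
      exact Subtype.ext (pow_orderOf_eq_one y)
    rw [Subgroup.eq_of_le_of_card_ge hle (by
      rw [IsCyclic.card_powMonoidHom_ker, Nat.card_zpowers, Subgroup.orderOf_mk,
        Nat.gcd_eq_right (orderOf_dvd_of_pow_eq_one (pow_card_O c.hy))]), MonoidHom.mem_ker,
      powMonoidHom_apply]
    exact Subtype.ext (ho ▸ pow_orderOf_eq_one x)
  obtain ⟨i, hi⟩ := hm
  exact ⟨i, congrArg Subtype.val hi⟩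

/-- Fusion inside the centraliser of `y`. -/
theorem Ctx.fus (c : Ctx S t O σ k y u₀) :
    ∃ h, h * y = y * h ∧ h * t * h⁻¹ = u₀ ∧ h * u₀ * h⁻¹ = t * u₀ := by
  obtain ⟨q, hq, hq1, hq2⟩ := quarter c.dih c.shp c.hu c.hu2 c.hut
  obtain ⟨z, hz1, hz2, hz3, hz4⟩ := swap c.dih c.shp c.hu2 c.dih.ot
    (c.dih.central u₀ c.hu) c.hut
  have htu := c.dih.central u₀ c.hu
  have htt := mul_self_of c.dih.ot
  have huu := mul_self_of c.hu2
  have hx : z * (u₀ * t) * z⁻¹ = t := by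
    rw [show z * (u₀ * t) * z⁻¹ = (z * u₀ * z⁻¹) * (z * t * z⁻¹) by group, hz1, hz2, ← mul_assoc, huu,
      one_mul]
  have hx' : z⁻¹ * (u₀ * t) * z = t := by
    rw [show z⁻¹ * (u₀ * t) * z = (z⁻¹ * u₀ * z) * (z⁻¹ * t * z) by group, hz3, hz4, ← mul_assoc, huu,
      one_mul]
  have key : ∀ g : T, g * (u₀ * t) * g⁻¹ = t → g * y * g⁻¹ ∈ Subgroup.zpowers y := by
    intro g hg
    have hyt : y * (u₀ * t) = u₀ * t * y := by
      rw [← mul_assoc, ← c.comm, mul_assoc, memO c.dih c.hy, ← mul_assoc]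
    have h1 : (g * y * g⁻¹) * t = t * (g * y * g⁻¹) := by
      rw [← hg]
      calc g * y * g⁻¹ * (g * (u₀ * t) * g⁻¹) = g * (y * (u₀ * t)) * g⁻¹ := by group
        _ = _ := by rw [hyt]; group
    refine c.mem_zpowers (odd_mem c.dih h1 c.odd_order ?_) ?_
    · rw [conj_pow, pow_orderOf_eq_one, mul_one, mul_inv_cancel]
    · rw [show g * y * g⁻¹ = MulAut.conj g y from rfl, MulEquiv.orderOf_eq]
  obtain ⟨j, hj : y ^ j = z⁻¹ * y * z⁻¹⁻¹⟩ := key z⁻¹ (by rw [inv_inv]; exact hx')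
  rw [inv_inv] at hj
  have hqt : q * t * q⁻¹ = t := by rw [c.dih.central q hq, mul_inv_cancel_right]
  have hqt' : q⁻¹ * t * q = t := by rw [mul_assoc, ← c.dih.central q hq, inv_mul_cancel_left]
  refine ⟨z * q * z⁻¹ * q⁻¹, ?_, ?_, ?_⟩
  · rw [← mul_inv_eq_iff_eq_mul]
    -- conjugation by `q` inverts or fixes, so commutes with taking powers
    have hqy : ∀ i : ℤ, q * y ^ i * q⁻¹ = (q * y * q⁻¹) ^ i := fun i => (conj_zpow).symm
    have hzy : z * y ^ j * z⁻¹ = y := by rw [hj]; group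
    rcases c.sgn hq with e | e
    · calc z * q * z⁻¹ * q⁻¹ * y * (z * q * z⁻¹ * q⁻¹)⁻¹
          = z * (q * (z⁻¹ * (q⁻¹ * y * q) * z) * q⁻¹) * z⁻¹ := by group
        _ = z * (q * (z⁻¹ * y * z) * q⁻¹) * z⁻¹ := by
            rw [show q⁻¹ * y * q = y by nth_rewrite 1 [← e]; group]
        _ = y := by rw [← hj, hqy, e, hzy]
    · calc z * q * z⁻¹ * q⁻¹ * y * (z * q * z⁻¹ * q⁻¹)⁻¹
          = z * (q * (z⁻¹ * (q⁻¹ * y * q) * z) * q⁻¹) * z⁻¹ := by group
        _ = z * (q * (z⁻¹ * y * z)⁻¹ * q⁻¹) * z⁻¹ := by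
            have e' : q⁻¹ * y⁻¹ * q = y := by rw [← e]; group
            rw [show q⁻¹ * y * q = y⁻¹ by
              rw [show q⁻¹ * y * q = (q⁻¹ * y⁻¹ * q)⁻¹ by group, e']]
            group
        _ = y := by rw [← hj, ← zpow_neg, hqy, e, inv_zpow', neg_neg, hzy]
  · have h5 : q * (u₀ * t) * q⁻¹ = u₀ := by
      rw [show q * (u₀ * t) * q⁻¹ = (q * u₀ * q⁻¹) * (q * t * q⁻¹) by group, hq1, hqt, mul_assoc, htu,
        ← mul_assoc, htt, one_mul]
    rw [show z * q * z⁻¹ * q⁻¹ * t * (z * q * z⁻¹ * q⁻¹)⁻¹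
        = z * (q * (z⁻¹ * (q⁻¹ * t * q) * z) * q⁻¹) * z⁻¹ by group, hqt', hz4, h5, hz1]
  · rw [show z * q * z⁻¹ * q⁻¹ * u₀ * (z * q * z⁻¹ * q⁻¹)⁻¹
        = z * (q * (z⁻¹ * (q⁻¹ * u₀ * q) * z) * q⁻¹) * z⁻¹ by group, hq2, ← htu, hx', hqt, hz2, htu]

/-- A reflection inverting `y`, together with the rotation `σ`. -/
theorem Ctx.sigma_inv (c : Ctx S t O σ k y u₀) : σ * y * σ⁻¹ = y⁻¹ := by
  refine (c.sgn c.shp.mem).resolve_left fun e => c.ne_one (c.str.fixed y c.hy fun s hs => ?_)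
  have hz : ∀ x ∈ Subgroup.zpowers σ, x * y = y * x := by
    rintro _ ⟨i, rfl⟩
    exact (Commute.zpow_left (show Commute σ y from mul_inv_eq_iff_eq_mul.1 e) i).eq
  by_cases hr : s ∈ Subgroup.zpowers σ
  · exact hz s hr
  · have h1 := hz _ (c.shp.refl_mul s hs u₀ c.hu hr (not_rot c.shp c.hu c.hu2 c.hut))
    have : s = s * u₀ * u₀ := by rw [mul_assoc, mul_self_of c.hu2, mul_one]
    rw [this, mul_assoc, c.comm, ← mul_assoc, h1, mul_assoc]

end Cfsg.Agent.CycSyl43RefBasic86
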